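import Groth.Statements.S18544
import Mathlib

set_option autoImplicit false
universe u
open CAlg

namespace Groth.Agent.S18544

open Polynomial in
/-- A polynomial character of the additive group is trivial. -/
theorem eval_eq_one_of_add {F : Type*} [Field F] [IsAlgClosed F] (f : F[X])
    (hadd : ∀ s t, f.eval (s + t) = f.eval s * f.eval t) (h0 : f.eval 0 = 1) (t : F) : f.eval t = 1 := by
  have hdeg : f.degree = 0 := by
    by_contra h
    obtain ⟨a, ha⟩ := IsAlgClosed.exists_root f h
    have := hadd a (-a)
    rw [add_neg_cancel, h0, ha, zero_mul] at this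
    exact one_ne_zero this
  rw [eq_C_of_degree_eq_zero hdeg, eval_C] at h0 ⊢
  exact h0

open Polynomial in
/-- A polynomial character of the multiplicative monoid is a power. -/
theorem eval_eq_pow_of_mul {F : Type*} [Field F] [CharZero F] (f : F[X])
    (hmul : ∀ s t, f.eval (s * t) = f.eval s * f.eval t) (h1 : f.eval 1 = 1) : ∃ m, ∀ t, f.eval t = t ^ m := by
  have hcoeff : ∀ k, (2 : F) ^ k * f.coeff k = f.eval 2 * f.coeff k := fun k => by
    have h : f.comp (C 2 * X) = C (f.eval 2) * f := Polynomial.funext fun t => by
      simp only [eval_comp, eval_mul, eval_C, eval_X, hmul]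
    have := congrArg (fun p => p.coeff k) h
    simp only [comp_C_mul_X_coeff, coeff_C_mul] at this
    linear_combination this
  have hne : f ≠ 0 := fun h => by simp [h] at h1
  refine ⟨f.natDegree, fun t => ?_⟩
  have hlead : f.leadingCoeff ≠ 0 := Polynomial.leadingCoeff_ne_zero.2 hne
  have h2 : f.eval 2 = 2 ^ f.natDegree := (mul_right_cancel₀ hlead (hcoeff f.natDegree)).symm
  have hz : ∀ k, k ≠ f.natDegree → f.coeff k = 0 := fun k hk => by
    by_contra h
    have h3 := mul_right_cancel₀ h ((hcoeff k).trans (by rw [h2]))
    exact hk (Nat.pow_right_injective le_rfl (by exact_mod_cast h3))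
  have hf : f = C f.leadingCoeff * X ^ f.natDegree := Polynomial.ext fun k => by
    rw [coeff_C_mul_X_pow]
    split_ifs with h
    · rw [h]; rfl
    · exact hz k h
  have hl : f.leadingCoeff = 1 := by
    rw [hf] at h1
    simpa using h1
  conv_lhs => rw [hf, hl]
  simp

/-- Let F be an algebraically closed field of characteristic zero, n a natural number, and N a nonzero
polynomial over F in the n² matrix entries whose evaluation on n × n matrices is multiplicative,
N(xy) = N(x)·N(y) for all x, y (a norm form on the matrix algebra M_n(F) over F). Then N is a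
natural power of the determinant: for some m, N(x) = det(x)^m for every matrix x. The published
statement concerns norm forms of any central simple algebra over a subfield; this row is the case of
the full matrix algebra over an algebraically closed field, which is the case its proof treats. -/
theorem result (F : Type u) [Field F] [IsAlgClosed F]
    [CharZero F] (n : ℕ) (N : MvPolynomial (Fin n × Fin n) F) (hN : N ≠ 0)
    (hmul : ∀ x y : Matrix (Fin n) (Fin n) F,
      MvPolynomial.eval (fun ij : Fin n × Fin n => (x * y) ij.1 ij.2) N =
        MvPolynomial.eval (fun ij : Fin n × Fin n => x ij.1 ij.2) N * MvPolynomial.eval (fun ij : Fin n × Fin n => y ij.1 ij.2) N) :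
    ∃ m : ℕ, ∀ x : Matrix (Fin n) (Fin n) F,
      MvPolynomial.eval (fun ij : Fin n × Fin n => x ij.1 ij.2) N = x.det ^ m := by
  classical
  let Nm : Matrix (Fin n) (Fin n) F → F := fun x => MvPolynomial.eval (fun ij : Fin n × Fin n => x ij.1 ij.2) N
  have hmul' : ∀ x y, Nm (x * y) = Nm x * Nm y := hmul
  have hone : Nm 1 = 1 := by
    obtain ⟨x, hx⟩ : ∃ x, Nm x ≠ 0 := by
      by_contra! h
      exact hN (MvPolynomial.funext fun v => by simpa [Nm] using h (Matrix.of fun i j => v (i, j)))
    have h := hmul' 1 x
    rw [one_mul] at h
    exact (mul_eq_right₀ hx).1 h.symm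
  -- restriction to a line of matrices
  have hpoly : ∀ g : Fin n → Fin n → Polynomial F, ∃ f : Polynomial F, ∀ t : F,
      f.eval t = Nm (Matrix.of fun i j => (g i j).eval t) := fun g => by
    refine ⟨MvPolynomial.aeval (fun ij : Fin n × Fin n => g ij.1 ij.2) N, fun t => ?_⟩
    rw [← Polynomial.coe_aeval_eq_eval, ← AlgHom.comp_apply, MvPolynomial.comp_aeval]
    rfl
  have htrans : ∀ i j (t : F), i ≠ j → Nm (Matrix.transvection i j t) = 1 := by
    intro i j t hij
    obtain ⟨f, hf⟩ := hpoly fun a b => Polynomial.C ((1 : Matrix (Fin n) (Fin n) F) a b) +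
      if a = i ∧ b = j then Polynomial.X else 0
    have hf' : ∀ t, f.eval t = Nm (Matrix.transvection i j t) := fun t => by
      rw [hf]
      congr 1
      ext a b
      rw [Matrix.of_apply, Matrix.transvection, Matrix.add_apply, Matrix.single_apply]
      by_cases h : a = i ∧ b = j
      · simp [h.1, h.2]
      · simp [h, show ¬(i = a ∧ j = b) from fun hh => h ⟨hh.1.symm, hh.2.symm⟩]
    rw [← hf']
    refine eval_eq_one_of_add f (fun s t => ?_) ?_ t
    · rw [hf', hf', hf', ← hmul', Matrix.transvection_mul_transvection_same i j hij]
    · rw [hf', Matrix.transvection_zero, hone]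
  have hdiag1 : ∀ i : Fin n, ∃ m, ∀ t : F, Nm (Matrix.diagonal (Function.update 1 i t)) = t ^ m := by
    intro i
    obtain ⟨f, hf⟩ := hpoly fun a b => if a = b then (if a = i then Polynomial.X else 1) else 0
    have hf' : ∀ t, f.eval t = Nm (Matrix.diagonal (Function.update 1 i t)) := fun t => by
      rw [hf]
      congr 1
      ext a b
      rw [Matrix.of_apply, Matrix.diagonal_apply, Function.update_apply]
      split_ifs <;> simp
    obtain ⟨m, hm⟩ := eval_eq_pow_of_mul f (fun s t => by
        rw [hf', hf', hf', ← hmul', Matrix.diagonal_mul_diagonal]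
        congr 2
        funext a
        rw [Function.update_apply, Function.update_apply, Function.update_apply]
        split_ifs <;> simp) (by
      rw [hf', show Function.update (1 : Fin n → F) i 1 = 1 from Function.update_eq_self i 1,
        show Matrix.diagonal (1 : Fin n → F) = 1 from Matrix.diagonal_one, hone])
    exact ⟨m, fun t => (hf' t).symm.trans (hm t)⟩
  choose m hm using hdiag1
  have hsame : ∀ i j, m i = m j := by
    intro i j
    let S : Matrix (Fin n) (Fin n) F := (Equiv.swap i j).toPEquiv.toMatrix
    have hS : S * S = 1 := by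
      rw [← PEquiv.toMatrix_trans, ← Equiv.toPEquiv_trans]
      simp
    have hS0 : Nm S ≠ 0 := fun h => by
      have := hmul' S S
      rw [hS, hone, h, zero_mul] at this
      exact one_ne_zero this
    have hconj : S * Matrix.diagonal (Function.update 1 i (2 : F)) =
        Matrix.diagonal (Function.update 1 j (2 : F)) * S := by
      ext a b
      rw [Matrix.mul_diagonal, Matrix.diagonal_mul]
      by_cases h : Equiv.swap i j a = b
      · subst h
        rw [Function.update_apply, Function.update_apply, mul_comm]
        congr 1
        refine if_congr ?_ rfl rfl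
        constructor <;> intro h
        · simpa using congrArg (Equiv.swap i j) h
        · simp [h]
      · simp [S, PEquiv.toMatrix_apply, h]
    have := congrArg Nm hconj
    rw [hmul', hmul', hm, hm, mul_comm] at this
    exact Nat.pow_right_injective le_rfl (by exact_mod_cast mul_right_cancel₀ hS0 this)
  obtain ⟨M, hM⟩ : ∃ M, ∀ i, m i = M := by
    rcases Nat.eq_zero_or_pos n with rfl | hn
    · exact ⟨0, fun i => i.elim0⟩
    · exact ⟨m ⟨0, hn⟩, fun i => hsame i _⟩
  refine ⟨M, fun x => ?_⟩
  show Nm x = x.det ^ M
  refine Matrix.diagonal_transvection_induction (fun y => Nm y = y.det ^ M) x (fun d _ => ?_)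
    (fun t => ?_) (fun a b ha hb => ?_)
  · have key : ∀ s : Finset (Fin n), Nm (Matrix.diagonal fun i => if i ∈ s then d i else 1) = ∏ i ∈ s, d i ^ M := by
      intro s
      induction s using Finset.induction_on with
      | empty => simpa using hone
      | @insert i s hi ih =>
        have : (fun a => if a ∈ insert i s then d a else 1) =
            fun a => Function.update (1 : Fin n → F) i (d i) a * if a ∈ s then d a else 1 := by
          funext a
          rw [Function.update_apply]
          by_cases h : a = i
          · subst h; simp [hi]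
          · simp [h]
        rw [this, ← Matrix.diagonal_mul_diagonal, hmul', hm, hM, ih, Finset.prod_insert hi]
    simpa [Matrix.det_diagonal, Finset.prod_pow] using key Finset.univ
  · rw [Matrix.TransvectionStruct.det, one_pow]
    exact htrans _ _ _ t.hij
  · rw [hmul', ha, hb, Matrix.det_mul, mul_pow]

end Groth.Agent.S18544
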