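import Groth.Statements.S18545
import Groth.Agent.Abvar.Isotropic

set_option autoImplicit false
universe u
open AbVar

namespace Groth.Agent.S18545

/-- A step in the proof of Tate's isogeny result over finite fields, in linear-algebra form. Let K be a
field and V a K-vector space of finite dimension 2g carrying a nondegenerate alternating bilinear
form e. Let F be a K-subalgebra of End(V) which is isomorphic as a K-algebra to a finite product K ×
⋯ × K and which is spanned over K by a set S of similitudes of e (for each s in S there is a nonzero
scalar c with e(s x, s y) = c·e(x, y) for all x, y). Let D be a set of endomorphisms of V such that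
every F-stable isotropic subspace W of dimension g (a maximal isotropic subspace) is D-stable. Then
every F-stable isotropic subspace of V is D-stable. (In the application V is the rational ℓ-adic
Tate module of an abelian variety over a finite field with the Riemann form of a polarisation, F the
algebra generated by the Galois group, split for the chosen ℓ, and D the commutant of the image of
the endomorphism algebra; the hypothesis on maximal isotropic subspaces is the step obtained from
the finiteness of isomorphism classes.) -/
theorem result (K : Type u) [Field K]
    (V : Type u) [AddCommGroup V] [Module K V] [FiniteDimensional K V] (g : ℕ) (hV : Module.finrank K V = 2 * g)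
    (e : LinearMap.BilinForm K V) (he : e.IsAlt) (hnd : e.Nondegenerate)
    (F : Subalgebra K (Module.End K V)) (r : ℕ) (hF : Nonempty (F ≃ₐ[K] (Fin r → K)))
    (S : Set (Module.End K V)) (hS : Submodule.span K S = Subalgebra.toSubmodule F)
    (hsim : ∀ s ∈ S, ∃ c : K, c ≠ 0 ∧ ∀ x y : V, e (s x) (s y) = c * e x y)
    (D : Set (Module.End K V))
    (hmax : ∀ W : Submodule K V, (∀ f ∈ F, ∀ w ∈ W, f w ∈ W) → (∀ x ∈ W, ∀ y ∈ W, e x y = 0) →
      Module.finrank K W = g → ∀ d ∈ D, ∀ w ∈ W, d w ∈ W)
    (W : Submodule K V) (hWF : ∀ f ∈ F, ∀ w ∈ W, f w ∈ W) (hWiso : ∀ x ∈ W, ∀ y ∈ W, e x y = 0) :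
    ∀ d ∈ D, ∀ w ∈ W, d w ∈ W := by
  exact Groth.Abvar.Isotropic.stable_of_maximal g hV e he hnd F r hF S hS hsim D hmax
    (g - Module.finrank K W) W rfl hWF hWiso

end Groth.Agent.S18545
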