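import Groth.Statements.S18546
import Mathlib
-- import your own Groth.Agent.* helpers here

set_option autoImplicit false
open scoped TensorProduct
universe u v
open GalCoh

namespace Groth.Agent.S18546

/-- Let G be a group acting linearly on a vector space V of dimension 2 over the field 𝔽₂ with two
elements. Then the short exact sequence of G-modules 0 → V → S²V → Λ²V → 0 (v ↦ v·v, x·y ↦ x ∧ y)
splits G-equivariantly. Here, for a vector space V over the field with two elements carrying a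
linear action ρ of a group G, write N_a ⊆ V ⊗ V for the span of the tensors v ⊗ v and N_s ⊆ N_a for
the span of the tensors x ⊗ y + y ⊗ x, so that S²V = (V ⊗ V)/N_s, Λ²V = (V ⊗ V)/N_a and the
surjection S²V → Λ²V, x·y ↦ x ∧ y, is G-equivariant for the diagonal action; a G-equivariant linear
section of this surjection is the same thing as a G-stable subspace W of V ⊗ V with W ∩ N_a = N_s
and W + N_a = V ⊗ V, which is how the splitting is stated. (The source has the absolute Galois group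
of a field acting continuously; any group is allowed here.) -/
theorem result (G : Type u) [Group G] (V : Type v)
    [AddCommGroup V] [Module (ZMod 2) V] (hV : Module.finrank (ZMod 2) V = 2)
    (ρ : Representation (ZMod 2) G V) :
    ∃ W : Submodule (ZMod 2) (V ⊗[ZMod 2] V),
      (∀ g : G, ∀ w ∈ W, ρ.tprod ρ g w ∈ W) ∧
      W ⊓ Submodule.span (ZMod 2) (Set.range fun v : V => v ⊗ₜ[ZMod 2] v) =
        Submodule.span (ZMod 2) (Set.range fun p : V × V => p.1 ⊗ₜ[ZMod 2] p.2 + p.2 ⊗ₜ[ZMod 2] p.1) ∧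
      W ⊔ Submodule.span (ZMod 2) (Set.range fun v : V => v ⊗ₜ[ZMod 2] v) = ⊤ := by
  haveI : FiniteDimensional (ZMod 2) V := Module.finite_of_finrank_eq_succ hV
  let b := Module.finBasisOfFinrankEq (ZMod 2) V hV
  set e0 := b 0 with he0
  set e1 := b 1 with he1
  set Na := Submodule.span (ZMod 2) (Set.range fun v : V => v ⊗ₜ[ZMod 2] v) with hNa
  set Ns := Submodule.span (ZMod 2) (Set.range fun p : V × V => p.1 ⊗ₜ[ZMod 2] p.2 + p.2 ⊗ₜ[ZMod 2] p.1) with hNs
  set t : V ⊗[ZMod 2] V := e0 ⊗ₜ e0 + e0 ⊗ₜ e1 + e1 ⊗ₜ e1 with ht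
  have two : ∀ c : ZMod 2, c = 0 ∨ c = 1 := by decide
  have hv : ∀ v : V, v = b.repr v 0 • e0 + b.repr v 1 • e1 := fun v => by
    conv_lhs => rw [← b.sum_repr v]
    rw [Fin.sum_univ_two]
  have hNsNa : Ns ≤ Na := by
    rw [hNs, Submodule.span_le]
    rintro _ ⟨⟨x, y⟩, rfl⟩
    have : x ⊗ₜ[ZMod 2] y + y ⊗ₜ[ZMod 2] x = (x + y) ⊗ₜ (x + y) - x ⊗ₜ x - y ⊗ₜ y := by
      simp only [TensorProduct.add_tmul, TensorProduct.tmul_add]; abel
    simp only [SetLike.mem_coe]
    rw [this]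
    exact sub_mem (sub_mem (Submodule.subset_span ⟨x + y, rfl⟩) (Submodule.subset_span ⟨x, rfl⟩))
      (Submodule.subset_span ⟨y, rfl⟩)
  let B : V →ₗ[ZMod 2] V →ₗ[ZMod 2] ZMod 2 := LinearMap.mk₂ _
    (fun x y => b.repr x 0 * b.repr y 1 + b.repr x 1 * b.repr y 0)
    (fun _ _ _ => by simp only [map_add, Finsupp.add_apply]; ring)
    (fun _ _ _ => by simp only [map_smul, Finsupp.smul_apply, smul_eq_mul]; ring)
    (fun _ _ _ => by simp only [map_add, Finsupp.add_apply]; ring)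
    (fun _ _ _ => by simp only [map_smul, Finsupp.smul_apply, smul_eq_mul]; ring)
  let φ := TensorProduct.lift B
  have hφNa : ∀ x ∈ Na, φ x = 0 := by
    intro x hx
    have : Na ≤ LinearMap.ker φ := by
      rw [hNa, Submodule.span_le]
      rintro _ ⟨v, rfl⟩
      simp only [SetLike.mem_coe, LinearMap.mem_ker, φ, TensorProduct.lift.tmul, B, LinearMap.mk₂_apply]
      rw [mul_comm (b.repr v 1), CharTwo.add_self_eq_zero]
    exact this hx
  have hφt : φ t = 1 := by
    simp [t, φ, B, e0, e1]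
  refine ⟨Ns ⊔ Submodule.span (ZMod 2) {t}, ?_, ?_, ?_⟩
  · intro g w hw
    have : Ns ⊔ Submodule.span (ZMod 2) {t} ≤
        (Ns ⊔ Submodule.span (ZMod 2) {t}).comap (ρ.tprod ρ g) := by
      refine sup_le ?_ ?_
      · rw [hNs, Submodule.span_le]
        rintro _ ⟨⟨x, y⟩, rfl⟩
        refine Submodule.mem_sup_left (Submodule.subset_span ⟨(ρ g x, ρ g y), ?_⟩)
        simp [Representation.tprod_apply]
      · rw [Submodule.span_singleton_le_iff_mem, Submodule.mem_comap]
        have hinj : Function.Injective (ρ g) := (ρ.apply_bijective g).injective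
        have ha0 : ρ g e0 ≠ 0 := fun h => b.ne_zero 0 (hinj (h.trans (map_zero _).symm))
        have hb0 : ρ g e1 ≠ 0 := fun h => b.ne_zero 1 (hinj (h.trans (map_zero _).symm))
        have hab : ρ g e0 ≠ ρ g e1 := fun h => absurd (b.injective (hinj h)) (by decide)
        have himg : ρ.tprod ρ g t = ρ g e0 ⊗ₜ ρ g e0 + ρ g e0 ⊗ₜ ρ g e1 + ρ g e1 ⊗ₜ ρ g e1 := by
          simp [t, Representation.tprod_apply]
        rw [himg]
        have hA := hv (ρ g e0)
        have hB := hv (ρ g e1)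
        generalize b.repr (ρ g e0) 0 = a0 at hA
        generalize b.repr (ρ g e0) 1 = a1 at hA
        generalize b.repr (ρ g e1) 0 = b0 at hB
        generalize b.repr (ρ g e1) 1 = b1 at hB
        rw [hA] at ha0 hab ⊢
        rw [hB] at hb0 hab ⊢
        have hdet : a0 * b1 + a1 * b0 = 1 := by
          rcases two a0 with rfl | rfl <;> rcases two a1 with rfl | rfl <;>
            rcases two b0 with rfl | rfl <;> rcases two b1 with rfl | rfl <;>
            simp at ha0 hb0 hab ⊢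
        have hc : ∀ a0 a1 b0 b1 : ZMod 2, a0 * b1 + a1 * b0 = 1 →
            a0 * a0 + a0 * b0 + b0 * b0 = 1 ∧ a1 * a1 + a1 * b1 + b1 * b1 = 1 ∧
            a0 * a1 + a0 * b1 + b0 * b1 = 1 + (a1 * a0 + a1 * b0 + b1 * b0) := by decide
        obtain ⟨c00, c11, c01⟩ := hc _ _ _ _ hdet
        have hsum : (a0 • e0 + a1 • e1) ⊗ₜ[ZMod 2] (a0 • e0 + a1 • e1) +
            (a0 • e0 + a1 • e1) ⊗ₜ (b0 • e0 + b1 • e1) + (b0 • e0 + b1 • e1) ⊗ₜ (b0 • e0 + b1 • e1) =
            (a0 * a0 + a0 * b0 + b0 * b0) • (e0 ⊗ₜ e0) + (a1 * a1 + a1 * b1 + b1 * b1) • (e1 ⊗ₜ e1) +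
            (a0 * a1 + a0 * b1 + b0 * b1) • (e0 ⊗ₜ e1) +
            (a1 * a0 + a1 * b0 + b1 * b0) • (e1 ⊗ₜ e0) := by
          simp only [TensorProduct.add_tmul, TensorProduct.tmul_add, ← TensorProduct.smul_tmul',
            TensorProduct.tmul_smul, smul_smul]
          module
        rw [hsum, c00, c11, c01]
        have : (1 : ZMod 2) • (e0 ⊗ₜ[ZMod 2] e0) + (1 : ZMod 2) • (e1 ⊗ₜ e1) +
            (1 + (a1 * a0 + a1 * b0 + b1 * b0)) • (e0 ⊗ₜ e1) +
            (a1 * a0 + a1 * b0 + b1 * b0) • (e1 ⊗ₜ e0) =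
            (a1 * a0 + a1 * b0 + b1 * b0) • (e0 ⊗ₜ[ZMod 2] e1 + e1 ⊗ₜ e0) + t := by
          rw [ht]; module
        rw [this]
        exact add_mem (Submodule.smul_mem _ _ (Submodule.mem_sup_left (Submodule.subset_span ⟨(e0, e1), rfl⟩)))
          (Submodule.mem_sup_right (Submodule.mem_span_singleton_self t))
    exact this hw
  · refine le_antisymm ?_ (le_inf le_sup_left hNsNa)
    rintro x ⟨hx, hx'⟩
    obtain ⟨n, hn, y, hy, rfl⟩ := Submodule.mem_sup.mp hx
    obtain ⟨c, rfl⟩ := Submodule.mem_span_singleton.mp hy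
    have h0 := hφNa _ hx'
    rw [map_add, map_smul, hφt, hφNa n (hNsNa hn), zero_add, smul_eq_mul, mul_one] at h0
    simpa [h0] using hn
  · rw [eq_top_iff, ← TensorProduct.span_tmul_eq_top, Submodule.span_le]
    rintro _ ⟨x, y, rfl⟩
    set T := Ns ⊔ Submodule.span (ZMod 2) {t} ⊔ Na with hT
    have h00 : e0 ⊗ₜ[ZMod 2] e0 ∈ T := Submodule.mem_sup_right (Submodule.subset_span ⟨e0, rfl⟩)
    have h11 : e1 ⊗ₜ[ZMod 2] e1 ∈ T := Submodule.mem_sup_right (Submodule.subset_span ⟨e1, rfl⟩)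
    have h01 : e0 ⊗ₜ[ZMod 2] e1 ∈ T := by
      have : t - e0 ⊗ₜ e0 - e1 ⊗ₜ e1 = e0 ⊗ₜ[ZMod 2] e1 := by rw [ht]; abel
      rw [← this]
      exact sub_mem (sub_mem (Submodule.mem_sup_left (Submodule.mem_sup_right
        (Submodule.mem_span_singleton_self t))) h00) h11
    have h10 : e1 ⊗ₜ[ZMod 2] e0 ∈ T := by
      have : (e0 ⊗ₜ[ZMod 2] e1 + e1 ⊗ₜ e0) - e0 ⊗ₜ e1 = e1 ⊗ₜ[ZMod 2] e0 := by abel
      rw [← this]
      exact sub_mem (Submodule.mem_sup_left (Submodule.mem_sup_left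
        (Submodule.subset_span ⟨(e0, e1), rfl⟩))) h01
    rw [hv x, hv y]
    simp only [SetLike.mem_coe, TensorProduct.add_tmul, TensorProduct.tmul_add, ← TensorProduct.smul_tmul',
      TensorProduct.tmul_smul, smul_add, smul_smul]
    repeat' first | apply add_mem | apply Submodule.smul_mem | assumption

end Groth.Agent.S18546
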