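import Groth.Statements.S18547
import Mathlib

set_option autoImplicit false
open scoped TensorProduct
universe u v
open GalCoh

namespace Groth.Agent.S18547

open Module

/-- The bilinear form of the lifted tensor. -/
def T (a b e x0 x1 x2 y0 y1 y2 : ZMod 2) : ZMod 2 :=
  x0 * y0 * (a + b + a * b) + x0 * y1 * a + x0 * y2 * b + x1 * y1 * (a + e + a * e) + x1 * y2 * e +
    x2 * y2 * (b + e + b * e)

set_option synthInstance.maxSize 5000 in
set_option synthInstance.maxHeartbeats 1000000 in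
/-- The finite computation: a plane of `𝔽₂³` has a quadratic tensor fixed by its stabiliser. -/
theorem key : ∀ a00 a01 a02 a10 a11 a12 a20 a21 a22 a b e : ZMod 2,
    T a b e a00 a01 a02 a10 a11 a12 + T a b e a10 a11 a12 a00 a01 a02 = a →
    T a b e a00 a01 a02 a20 a21 a22 + T a b e a20 a21 a22 a00 a01 a02 = b →
    T a b e a10 a11 a12 a20 a21 a22 + T a b e a20 a21 a22 a10 a11 a12 = e →
    T a b e a00 a01 a02 a00 a01 a02 = a + b + a * b ∧ T a b e a10 a11 a12 a10 a11 a12 = a + e + a * e ∧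
      T a b e a20 a21 a22 a20 a21 a22 = b + e + b * e := by
  decide +kernel

variable {V : Type v} [AddCommGroup V] [Module (ZMod 2) V] (b : Basis (Fin 3) (ZMod 2) V)

/-- The coordinates of a tensor. -/
noncomputable def coord (t : V ⊗[ZMod 2] V) (i j : Fin 3) : ZMod 2 := (b.tensorProduct b).repr t (i, j)

theorem coord_tmul (x y : V) (i j : Fin 3) : coord b (x ⊗ₜ y) i j = b.repr x i * b.repr y j := by
  simp [coord, mul_comm]

theorem coord_map (f : V →ₗ[ZMod 2] V) (t : V ⊗[ZMod 2] V) (i j : Fin 3) :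
    coord b (TensorProduct.map f f t) i j =
      ∑ k, ∑ l, LinearMap.toMatrix b b f i k * LinearMap.toMatrix b b f j l * coord b t k l := by
  induction t using TensorProduct.induction_on with
  | zero => simp [coord]
  | tmul x y =>
    rw [TensorProduct.map_tmul, coord_tmul]
    have h : ∀ z i, b.repr (f z) i = ∑ k, LinearMap.toMatrix b b f i k * b.repr z k := fun z i => by
      rw [← LinearMap.toMatrix_mulVec_repr b b f z]
      rfl
    rw [h, h, Finset.sum_mul_sum]
    refine Finset.sum_congr rfl fun k _ => Finset.sum_congr rfl fun l _ => ?_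
    rw [coord_tmul]
    ring
  | add p q hp hq =>
    have hadd : ∀ u v k l, coord b (u + v) k l = coord b u k l + coord b v k l := fun u v k l => by
      simp [coord]
    simp only [map_add, hadd, hp, hq, mul_add, Finset.sum_add_distrib]

theorem coord_sub (u v : V ⊗[ZMod 2] V) (k l : Fin 3) : coord b (u - v) k l = coord b u k l - coord b v k l := by
  simp [coord]

theorem symm_of_mem (t : V ⊗[ZMod 2] V)
    (ht : t ∈ Submodule.span (ZMod 2) (Set.range fun v : V => v ⊗ₜ[ZMod 2] v)) (i j : Fin 3) :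
    coord b t i j = coord b t j i := by
  induction ht using Submodule.span_induction with
  | mem x hx => obtain ⟨v, rfl⟩ := hx; rw [coord_tmul, coord_tmul, mul_comm]
  | zero => simp [coord]
  | add x y _ _ hx hy => simp only [coord, map_add, Finsupp.add_apply] at *; rw [hx, hy]
  | smul c x _ hx => simp only [coord, map_smul, Finsupp.smul_apply] at *; rw [hx]

theorem eq_sum (t : V ⊗[ZMod 2] V) : t = ∑ i, ∑ j, coord b t i j • (b i ⊗ₜ[ZMod 2] b j) := by
  conv_lhs => rw [← (b.tensorProduct b).sum_repr t]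
  rw [Fintype.sum_prod_type]
  simp [coord]

theorem mem_a_of_symm (t : V ⊗[ZMod 2] V) (h : ∀ i j, coord b t i j = coord b t j i) :
    t ∈ Submodule.span (ZMod 2) (Set.range fun v : V => v ⊗ₜ[ZMod 2] v) := by
  set N := Submodule.span (ZMod 2) (Set.range fun v : V => v ⊗ₜ[ZMod 2] v)
  have hd : ∀ v : V, v ⊗ₜ[ZMod 2] v ∈ N := fun v => Submodule.subset_span ⟨v, rfl⟩
  have hs : ∀ x y : V, x ⊗ₜ[ZMod 2] y + y ⊗ₜ[ZMod 2] x ∈ N := fun x y => by
    have := N.sub_mem (N.sub_mem (hd (x + y)) (hd x)) (hd y)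
    convert this using 1
    simp only [TensorProduct.add_tmul, TensorProduct.tmul_add]
    abel
  have e := eq_sum b t
  simp only [Fin.sum_univ_three] at e
  rw [h 1 0, h 2 0, h 2 1] at e
  have e' : t = coord b t 0 0 • (b 0 ⊗ₜ[ZMod 2] b 0) + coord b t 1 1 • (b 1 ⊗ₜ[ZMod 2] b 1) +
      coord b t 2 2 • (b 2 ⊗ₜ[ZMod 2] b 2) +
      coord b t 0 1 • (b 0 ⊗ₜ[ZMod 2] b 1 + b 1 ⊗ₜ[ZMod 2] b 0) +
      coord b t 0 2 • (b 0 ⊗ₜ[ZMod 2] b 2 + b 2 ⊗ₜ[ZMod 2] b 0) +
      coord b t 1 2 • (b 1 ⊗ₜ[ZMod 2] b 2 + b 2 ⊗ₜ[ZMod 2] b 1) := by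
    simp only [smul_add]
    exact e.trans (by abel)
  rw [e']
  exact N.add_mem (N.add_mem (N.add_mem (N.add_mem (N.add_mem (N.smul_mem _ (hd _)) (N.smul_mem _ (hd _)))
    (N.smul_mem _ (hd _))) (N.smul_mem _ (hs _ _))) (N.smul_mem _ (hs _ _))) (N.smul_mem _ (hs _ _))

theorem mem_s (t : V ⊗[ZMod 2] V) (h : ∀ i j, coord b t i j = coord b t j i) (h0 : ∀ i, coord b t i i = 0) :
    t ∈ Submodule.span (ZMod 2)
      (Set.range fun p : V × V => p.1 ⊗ₜ[ZMod 2] p.2 + p.2 ⊗ₜ[ZMod 2] p.1) := by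
  set N := Submodule.span (ZMod 2) (Set.range fun p : V × V => p.1 ⊗ₜ[ZMod 2] p.2 + p.2 ⊗ₜ[ZMod 2] p.1)
  have hs : ∀ x y : V, x ⊗ₜ[ZMod 2] y + y ⊗ₜ[ZMod 2] x ∈ N := fun x y => Submodule.subset_span ⟨(x, y), rfl⟩
  have e := eq_sum b t
  simp only [Fin.sum_univ_three] at e
  rw [h 1 0, h 2 0, h 2 1, h0 0, h0 1, h0 2] at e
  have e' : t = coord b t 0 1 • (b 0 ⊗ₜ[ZMod 2] b 1 + b 1 ⊗ₜ[ZMod 2] b 0) +
      coord b t 0 2 • (b 0 ⊗ₜ[ZMod 2] b 2 + b 2 ⊗ₜ[ZMod 2] b 0) +
      coord b t 1 2 • (b 1 ⊗ₜ[ZMod 2] b 2 + b 2 ⊗ₜ[ZMod 2] b 1) := by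
    simp only [smul_add]
    exact e.trans (by simp only [zero_smul]; abel)
  rw [e']
  exact N.add_mem (N.add_mem (N.smul_mem _ (hs _ _)) (N.smul_mem _ (hs _ _))) (N.smul_mem _ (hs _ _))

/-- Let G be a group acting linearly on a vector space V of dimension 3 over the field 𝔽₂ with two
elements. Then the connecting map (Λ²V)^G → H¹(G, V) of the short exact sequence of G-modules 0 → V
→ S²V → Λ²V → 0 (v ↦ v·v, x·y ↦ x ∧ y) is zero; equivalently, every G-invariant element of Λ²V is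
the image of a G-invariant element of S²V. Here N_a ⊆ V ⊗ V is the span of the tensors v ⊗ v and N_s
⊆ N_a the span of the tensors x ⊗ y + y ⊗ x, so that S²V = (V ⊗ V)/N_s and Λ²V = (V ⊗ V)/N_a with
the diagonal action of G, and the statement reads: a tensor t whose class modulo N_a is G-invariant
is congruent modulo N_a to a tensor whose class modulo N_s is G-invariant. (The source writes the
rank hypothesis on the lattice M with V = M/2M, which has the same rank, and has the absolute Galois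
group of a field acting; any group is allowed here.) -/
theorem result (G : Type u) [Group G] (V : Type v)
    [AddCommGroup V] [Module (ZMod 2) V] (hV : Module.finrank (ZMod 2) V = 3)
    (ρ : Representation (ZMod 2) G V) (t : V ⊗[ZMod 2] V)
    (ht : ∀ g : G, ρ.tprod ρ g t - t ∈ Submodule.span (ZMod 2) (Set.range fun v : V => v ⊗ₜ[ZMod 2] v)) :
    ∃ t' : V ⊗[ZMod 2] V, t' - t ∈ Submodule.span (ZMod 2) (Set.range fun v : V => v ⊗ₜ[ZMod 2] v) ∧
      ∀ g : G, ρ.tprod ρ g t' - t' ∈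
        Submodule.span (ZMod 2) (Set.range fun p : V × V => p.1 ⊗ₜ[ZMod 2] p.2 + p.2 ⊗ₜ[ZMod 2] p.1) := by
  have : FiniteDimensional (ZMod 2) V := Module.finite_of_finrank_eq_succ hV
  let bb := Module.finBasisOfFinrankEq (ZMod 2) V hV
  let a := coord bb t 0 1 + coord bb t 1 0
  let b := coord bb t 0 2 + coord bb t 2 0
  let e := coord bb t 1 2 + coord bb t 2 1
  let C : Fin 3 → Fin 3 → ZMod 2 := ![![a + b + a * b, a, b], ![0, a + e + a * e, e], ![0, 0, b + e + b * e]]
  let t' := (bb.tensorProduct bb).repr.symm (Finsupp.equivFunOnFinite.symm fun p => C p.1 p.2)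
  have hC : ∀ i j, coord bb t' i j = C i j := fun i j => by simp [coord, t']
  have h2 : ∀ x y : ZMod 2, x + y - x = y ∧ x - y = x + y ∧ (x = y ↔ x + y = 0) := by decide
  have hdiff : t' - t ∈ Submodule.span (ZMod 2) (Set.range fun v : V => v ⊗ₜ[ZMod 2] v) := by
    refine mem_a_of_symm bb _ fun i j => ?_
    rw [coord_sub, coord_sub, hC, hC]
    have hxy : ∀ x y : ZMod 2, (x + y) - x = 0 - y ∧ 0 - y = (x + y) - x := by decide
    fin_cases i <;> fin_cases j <;> simp only [C, a, b, e] <;> first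
      | rfl
      | exact (hxy _ _).1
      | exact (hxy _ _).2
  refine ⟨t', hdiff, fun g => ?_⟩
  have hpres : ∀ s ∈ Submodule.span (ZMod 2) (Set.range fun v : V => v ⊗ₜ[ZMod 2] v),
      ρ.tprod ρ g s ∈ Submodule.span (ZMod 2) (Set.range fun v : V => v ⊗ₜ[ZMod 2] v) := by
    intro s hs
    refine Submodule.span_le (p := (Submodule.span (ZMod 2) (Set.range fun v : V => v ⊗ₜ[ZMod 2] v)).comap
      (ρ.tprod ρ g)) |>.2 ?_ hs
    rintro _ ⟨v, rfl⟩
    exact Submodule.subset_span ⟨ρ g v, rfl⟩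
  have hsym : ρ.tprod ρ g t' - t' ∈ Submodule.span (ZMod 2) (Set.range fun v : V => v ⊗ₜ[ZMod 2] v) := by
    have := Submodule.sub_mem _ (Submodule.add_mem _ (hpres _ hdiff) (ht g)) hdiff
    convert this using 1
    rw [map_sub]
    abel
  have hs := symm_of_mem bb _ hsym
  refine mem_s bb _ hs fun i => ?_
  have hg : ∀ i j, coord bb (ρ.tprod ρ g t') i j =
      ∑ k, ∑ l, LinearMap.toMatrix bb bb (ρ g) i k * LinearMap.toMatrix bb bb (ρ g) j l * C k l := fun i j => by
    simp only [← hC]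
    exact coord_map bb (ρ g) t' i j
  have h01 := hs 0 1
  have h02 := hs 0 2
  have h12 := hs 1 2
  simp only [coord_sub, hg, hC, Fin.sum_univ_three] at h01 h02 h12
  rw [coord_sub, hg, hC, sub_eq_zero]
  simp only [Fin.sum_univ_three, C, Matrix.cons_val_zero, Matrix.cons_val_one, Matrix.cons_val_two,
    Matrix.cons_val, Matrix.head_cons, Matrix.tail_cons, mul_zero, add_zero, zero_add, sub_zero] at h01 h02 h12 ⊢
  have hsh : ∀ x y z : ZMod 2, x - z = y → x + y = z := by decide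
  have k := key (LinearMap.toMatrix bb bb (ρ g) 0 0) (LinearMap.toMatrix bb bb (ρ g) 0 1)
    (LinearMap.toMatrix bb bb (ρ g) 0 2) (LinearMap.toMatrix bb bb (ρ g) 1 0)
    (LinearMap.toMatrix bb bb (ρ g) 1 1) (LinearMap.toMatrix bb bb (ρ g) 1 2)
    (LinearMap.toMatrix bb bb (ρ g) 2 0) (LinearMap.toMatrix bb bb (ρ g) 2 1)
    (LinearMap.toMatrix bb bb (ρ g) 2 2) a b e
  simp only [T] at k
  obtain ⟨k0, k1, k2⟩ := k (hsh _ _ _ (by linear_combination h01)) (hsh _ _ _ (by linear_combination h02))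
    (hsh _ _ _ (by linear_combination h12))
  fin_cases i <;> simp
  · linear_combination k0
  · linear_combination k1
  · linear_combination k2

end Groth.Agent.S18547
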