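import Groth.Statements.S18549
import Groth.Agent.SymSqPerm.Core
import Mathlib.LinearAlgebra.Dimension.OrzechProperty
import Mathlib.LinearAlgebra.FiniteDimensional.Lemmas
import Mathlib.LinearAlgebra.FiniteDimensional.Basic
import Mathlib.GroupTheory.OrderOfElement
import Mathlib.SetTheory.Cardinal.Finite
import Mathlib.Algebra.Field.ZMod
-- import your own Groth.Agent.* helpers here

set_option autoImplicit false
open scoped TensorProduct
universe u v
open GalCoh

namespace Groth.Agent.S18549

/-- Over the real numbers, that is for the group G = Gal(ℂ/ℝ) of order 2 acting linearly on a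
finite-dimensional vector space V over the field 𝔽₂ with two elements, the short exact sequence of
G-modules 0 → V → S²V → Λ²V → 0 (v ↦ v·v, x·y ↦ x ∧ y) splits G-equivariantly. Here, for a vector
space V over the field with two elements carrying a linear action ρ of a group G, write N_a ⊆ V ⊗ V
for the span of the tensors v ⊗ v and N_s ⊆ N_a for the span of the tensors x ⊗ y + y ⊗ x, so that
S²V = (V ⊗ V)/N_s, Λ²V = (V ⊗ V)/N_a and the surjection S²V → Λ²V, x·y ↦ x ∧ y, is G-equivariant for
the diagonal action; a G-equivariant linear section of this surjection is the same thing as a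
G-stable subspace W of V ⊗ V with W ∩ N_a = N_s and W + N_a = V ⊗ V, which is how the splitting is
stated. (G is any group of order 2 here; V is taken finite-dimensional, the case covered by the
structure theory of finitely generated modules over 𝔽₂[G] that the argument uses.) -/
theorem result (G : Type u) [Group G] (hG : Nat.card G = 2)
    (V : Type v) [AddCommGroup V] [Module (ZMod 2) V] [Module.Finite (ZMod 2) V]
    (ρ : Representation (ZMod 2) G V) :
    ∃ W : Submodule (ZMod 2) (V ⊗[ZMod 2] V),
      (∀ g : G, ∀ w ∈ W, ρ.tprod ρ g w ∈ W) ∧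
      W ⊓ Submodule.span (ZMod 2) (Set.range fun v : V => v ⊗ₜ[ZMod 2] v) =
        Submodule.span (ZMod 2) (Set.range fun p : V × V => p.1 ⊗ₜ[ZMod 2] p.2 + p.2 ⊗ₜ[ZMod 2] p.1) ∧
      W ⊔ Submodule.span (ZMod 2) (Set.range fun v : V => v ⊗ₜ[ZMod 2] v) = ⊤ := by
  classical
  have : Fact (Nat.Prime 2) := ⟨Nat.prime_two⟩
  obtain ⟨a, b', hne, huniv⟩ := Nat.card_eq_two_iff.1 hG
  obtain ⟨σ, hσ1, hall⟩ : ∃ σ : G, σ ≠ 1 ∧ ∀ g : G, g = 1 ∨ g = σ := by
    have hmem : ∀ g : G, g = a ∨ g = b' := fun g => by
      have : g ∈ ({a, b'} : Set G) := huniv ▸ Set.mem_univ g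
      simpa using this
    rcases hmem 1 with h | h
    · exact ⟨b', fun he => hne (h.symm.trans he.symm), fun g => (hmem g).imp (fun hg => hg.trans h.symm) id⟩
    · exact ⟨a, fun he => hne (he.trans h), fun g => (hmem g).symm.imp (fun hg => hg.trans h.symm) id⟩
  have hσσ : σ * σ = 1 := (hall (σ * σ)).resolve_right fun h => hσ1 (mul_eq_left.1 h)
  let T : V →ₗ[ZMod 2] V := ρ σ
  have hTT : ∀ v, T (T v) = v := fun v => by
    change ρ σ (ρ σ v) = v
    rw [← Module.End.mul_apply, ← map_mul, hσσ, map_one]
    rfl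
  let N : V →ₗ[ZMod 2] V := LinearMap.id + T
  have h2 : ∀ v : V, v + v = 0 := fun v => by
    rw [← two_smul (ZMod 2) v, show (2 : ZMod 2) = 0 from rfl, zero_smul]
  have hle : LinearMap.range N ≤ LinearMap.ker N := by
    rintro _ ⟨v, rfl⟩
    simp only [N, LinearMap.mem_ker, LinearMap.add_apply, LinearMap.id_apply, map_add, hTT]
    rw [add_comm (T v) v]
    exact h2 _
  obtain ⟨C, hC⟩ := Submodule.exists_isCompl (LinearMap.range N)
  let C' := C ⊓ LinearMap.ker N
  have hsup : LinearMap.range N ⊔ C' = LinearMap.ker N := by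
    rw [show C' = C ⊓ LinearMap.ker N from rfl, ← sup_inf_assoc_of_le C hle, hC.sup_eq_top, top_inf_eq]
  let bR := Module.finBasis (ZMod 2) (LinearMap.range N)
  let bC := Module.finBasis (ZMod 2) C'
  choose w hw using fun i => (bR i).2
  let f : (Fin (Module.finrank (ZMod 2) (LinearMap.range N)) ⊕ Fin (Module.finrank (ZMod 2) (LinearMap.range N))) ⊕
      Fin (Module.finrank (ZMod 2) C') → V :=
    Sum.elim (Sum.elim w fun i => T (w i)) fun i => (bC i : V)
  have hspan : ⊤ ≤ Submodule.span (ZMod 2) (Set.range f) := by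
    intro v _
    have hR : ∀ x ∈ LinearMap.range N, x ∈ Submodule.span (ZMod 2) (Set.range f) := by
      intro x hx
      rw [← Subtype.coe_mk x hx, ← bR.sum_repr ⟨x, hx⟩]
      simp only [Submodule.coe_sum, Submodule.coe_smul]
      refine Submodule.sum_mem _ fun i _ => Submodule.smul_mem _ _ ?_
      rw [← hw i]
      simp only [N, LinearMap.add_apply, LinearMap.id_apply]
      exact add_mem (Submodule.subset_span ⟨Sum.inl (Sum.inl i), rfl⟩)
        (Submodule.subset_span ⟨Sum.inl (Sum.inr i), rfl⟩)
    have hK : ∀ x ∈ LinearMap.ker N, x ∈ Submodule.span (ZMod 2) (Set.range f) := by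
      intro x hx
      rw [← hsup] at hx
      obtain ⟨y, hy, z, hz, rfl⟩ := Submodule.mem_sup.1 hx
      refine add_mem (hR y hy) ?_
      rw [← Subtype.coe_mk z hz, ← bC.sum_repr ⟨z, hz⟩]
      simp only [Submodule.coe_sum, Submodule.coe_smul]
      exact Submodule.sum_mem _ fun i _ => Submodule.smul_mem _ _
        (Submodule.subset_span ⟨Sum.inr i, rfl⟩)
    let r : Fin (Module.finrank (ZMod 2) (LinearMap.range N)) → ZMod 2 :=
      fun i => bR.repr ⟨N v, v, rfl⟩ i
    have hr : N v = N (∑ i, r i • w i) := by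
      have h := congrArg (fun z : LinearMap.range N => (z : V)) (bR.sum_repr ⟨N v, v, rfl⟩)
      simp only [Submodule.coe_sum, Submodule.coe_smul] at h
      rw [map_sum]
      simp only [map_smul, hw]
      exact h.symm
    rw [← sub_add_cancel v (∑ i, r i • w i)]
    refine add_mem (hK _ (by rw [LinearMap.mem_ker, map_sub, hr, sub_self])) ?_
    exact Submodule.sum_mem _ fun i _ => Submodule.smul_mem _ _
      (Submodule.subset_span ⟨Sum.inl (Sum.inl i), rfl⟩)
  have hcard : Fintype.card ((Fin (Module.finrank (ZMod 2) (LinearMap.range N)) ⊕ Fin (Module.finrank (ZMod 2) (LinearMap.range N))) ⊕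
      Fin (Module.finrank (ZMod 2) C')) = Module.finrank (ZMod 2) V := by
    simp only [Fintype.card_sum, Fintype.card_fin]
    have h1 := LinearMap.finrank_range_add_finrank_ker N
    have h3 := Submodule.finrank_sup_add_finrank_inf_eq (LinearMap.range N) C'
    have h4 : LinearMap.range N ⊓ C' = ⊥ := by
      rw [eq_bot_iff, ← hC.inf_eq_bot]
      exact inf_le_inf_left _ inf_le_left
    rw [hsup, h4, finrank_bot, add_zero] at h3
    omega
  let b := basisOfTopLeSpanOfCardEqFinrank f hspan hcard
  refine Groth.Agent.SymSqPerm.exists_stable_complement G V ρ _ b fun g i => ?_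
  simp only [b, coe_basisOfTopLeSpanOfCardEqFinrank]
  rcases hall g with rfl | rfl
  · exact ⟨i, by rw [map_one]; rfl⟩
  · rcases i with (i | i) | i
    · exact ⟨Sum.inl (Sum.inr i), rfl⟩
    · exact ⟨Sum.inl (Sum.inl i), hTT _⟩
    · refine ⟨Sum.inr i, ?_⟩
      have h : (bC i : V) + T (bC i) = 0 := (bC i).2.2
      change T (bC i : V) = (bC i : V)
      calc T (bC i : V) = (bC i : V) + ((bC i : V) + T (bC i)) := by rw [← add_assoc, h2, zero_add]
        _ = _ := by rw [h, add_zero]

end Groth.Agent.S18549
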