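import Groth.Statements.S18550
import Mathlib
import Groth.Agent.Calg8.GhostLemma

set_option autoImplicit false
open CategoryTheory Limits
universe w v u
open CohDer

namespace Groth.Agent.S18550

/-- Let A be an abelian category, X an object of its derived category whose cohomology objects H^i(X)
are zero for all integers i outside the interval [a, a + n], and f : X → X an endomorphism in the
derived category such that H^i(f) = 0 for every i. Then f^(n+1) = 0. (The source works in the
bounded derived category; the statement in D(A) for an object with cohomology bounded in this way is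
the same assertion, the bounded derived category being a full subcategory.) -/
theorem result (A : Type u) [Category.{v} A] [Abelian A]
    [HasDerivedCategory.{w} A] (X : DerivedCategory A) (a : ℤ) (n : ℕ)
    (hX : ∀ i : ℤ, i < a ∨ a + n < i → IsZero ((DerivedCategory.homologyFunctor A i).obj X))
    (f : CategoryTheory.End X) (hf : ∀ i : ℤ, (DerivedCategory.homologyFunctor A i).map f = 0) :
    f ^ (n + 1) = 0 := by
  let F : ℕ ⥤ DerivedCategory A := Functor.ofSequence (X := fun _ => X) fun _ => f
  have hsucc : ∀ i, F.map (homOfLE (Nat.le_add_right i 1)) = f := fun i => Functor.ofSequence_map_homOfLE_succ _ i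
  have hmap : ∀ j, F.map (homOfLE (Nat.zero_le j)) = (f ^ j : End X) := by
    intro j
    induction j with
    | zero => exact ((congrArg F.map (Subsingleton.elim _ (𝟙 0))).trans (F.map_id 0)).trans (pow_zero (M := End X) f).symm
    | succ j ih =>
      rw [← homOfLE_comp (Nat.zero_le j) (Nat.le_add_right j 1), F.map_comp, hsucc]
      refine Eq.trans ?_ (pow_succ' (M := End X) f j).symm
      exact congrArg (· ≫ f) ih
  have hLE : X.IsLE (a + n) := (DerivedCategory.isLE_iff X _).2 fun i hi => hX i (Or.inr hi)
  have hGE : X.IsGE a := (DerivedCategory.isGE_iff X _).2 fun i hi => hX i (Or.inl hi)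
  rw [← hmap (n + 1)]
  exact Groth.Calg8.Ghost.map_eq_zero a n F hLE hGE fun i _ q => (congrArg _ (hsucc i)).trans (hf q)

end Groth.Agent.S18550
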