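import Groth.Statements.S18561
import Mathlib.Tactic
import Mathlib.LinearAlgebra.FiniteDimensional.Basic

set_option autoImplicit false
universe u v
open PtQuiv

namespace Groth.Agent.S18561

/-- Let K be a field and s i ∈ K² (i in a finite index type) nonzero vectors, regarded as a
representation of the quiver with a central vertex carrying the plane and one vertex per i carrying
a line mapping to the plane by 1 ↦ s i. Then the representation is stable for some weight of the
hypersimplex (0 ≤ θ i ≤ 1, Σ θ i = 2, central weight -1) if and only if the s i fall into at least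
three proportionality classes, i.e. three of them are pairwise non-proportional. (The published
statement is over an algebraically closed field and assumes semistability for some interior weight
instead of s i ≠ 0; any field is allowed here. Its further assertions, that the set of semistability
weights is full-dimensional exactly in this case and is a wall otherwise, are not part of this row.) -/
theorem result (K : Type u) [Field K] (ι : Type v)
    [Fintype ι] (s : ι → (Fin 2 → K)) (hs : ∀ i, s i ≠ 0) :
    (∃ θ : ι → ℚ, (∀ i, 0 ≤ θ i) ∧ (∀ i, θ i ≤ 1) ∧ ∑ i, θ i = 2 ∧ PtQuiv.QStable (-1) θ s) ↔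
      ∃ i j k : ι, s i ∉ K ∙ s j ∧ s j ∉ K ∙ s k ∧ s i ∉ K ∙ s k := by
  classical
  constructor
  · rintro ⟨θ, h0, h1, h2, ⟨-, hss⟩, hst⟩
    have hline : ∀ v : Fin 2 → K, (K ∙ v) ≠ ⊥ → ∀ J : Finset ι, (∀ j ∈ J, s j ∈ K ∙ v) →
        ∑ j ∈ J, θ j < 1 := by
      intro v hv J hJ
      have hd : Module.finrank K (K ∙ v) = 1 := finrank_span_singleton (fun h => hv (by simp [h]))
      have hle := hss (K ∙ v) J hJ
      rcases lt_or_eq_of_le hle with hlt | heq
      · unfold PtQuiv.QWt at hlt; rw [hd] at hlt; simp at hlt; linarith
      · exfalso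
        rcases hst _ J hJ heq with ⟨hb, -⟩ | ⟨ht, -⟩
        · exact hv hb
        · have : Module.finrank K (⊤ : Submodule K (Fin 2 → K)) = 1 := ht ▸ hd
          simp at this
    have hne : ∀ i, (K ∙ s i) ≠ ⊥ := fun i => by simp [hs i]
    obtain ⟨i⟩ : Nonempty ι := by
      by_contra h; rw [not_nonempty_iff] at h; simp at h2
    let A : Finset ι := Finset.univ.filter fun j => s j ∈ K ∙ s i
    have hA := hline _ (hne i) A fun j hj => (Finset.mem_filter.mp hj).2
    obtain ⟨j, hj⟩ : ∃ j, s j ∉ K ∙ s i := by
      by_contra h
      push Not at h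
      have : A = Finset.univ := Finset.filter_true_of_mem fun j _ => h j
      rw [this, h2] at hA; norm_num at hA
    let B : Finset ι := Finset.univ.filter fun l => s l ∈ K ∙ s j
    have hB := hline _ (hne j) B fun l hl => (Finset.mem_filter.mp hl).2
    obtain ⟨l, hl1, hl2⟩ : ∃ l, s l ∉ K ∙ s i ∧ s l ∉ K ∙ s j := by
      by_contra h
      push Not at h
      have h3 : (Finset.univ : Finset ι) ⊆ A ∪ B := fun l _ => by
        by_cases hl : s l ∈ K ∙ s i <;> simp [A, B, hl, h]
      have h4 := Finset.sum_le_sum_of_subset_of_nonneg h3 fun x _ _ => h0 x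
      have h5 := Finset.sum_union_inter (s₁ := A) (s₂ := B) (f := θ)
      have h6 : 0 ≤ ∑ x ∈ A ∩ B, θ x := Finset.sum_nonneg fun x _ => h0 x
      linarith
    exact ⟨l, j, i, hl2, hj, hl1⟩
  · rintro ⟨i, j, l, hij, hjl, hil⟩
    have nij : i ≠ j := fun h => hij (h ▸ Submodule.mem_span_singleton_self _)
    have njl : j ≠ l := fun h => hjl (h ▸ Submodule.mem_span_singleton_self _)
    have nil' : i ≠ l := fun h => hil (h ▸ Submodule.mem_span_singleton_self _)
    let T : Finset ι := {i, j, l}
    let ε : ℚ := 1 / (4 * Fintype.card ι)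
    have hn : 3 ≤ Fintype.card ι := by
      calc 3 = T.card := by simp [T, nij, njl, nil']
        _ ≤ _ := Finset.card_le_univ T
    have hn' : (3:ℚ) ≤ Fintype.card ι := by exact_mod_cast hn
    have hεpos : 0 < ε := by simp only [ε]; positivity
    have hε : ε * Fintype.card ι = 1 / 4 := by simp only [ε]; field_simp
    let θ : ι → ℚ := fun x => ε + if x ∈ T then (7/12 : ℚ) else 0
    have hsum : ∀ J : Finset ι, ∑ x ∈ J, θ x = J.card * ε + (J ∩ T).card * (7/12) := by
      intro J
      simp [θ, Finset.sum_add_distrib, Finset.sum_ite_mem]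
    have htot : ∑ x, θ x = 2 := by
      rw [hsum]; simp [T, nij, njl, nil', mul_comm (Fintype.card ι : ℚ), hε]; norm_num
    have hpos : ∀ x, 0 < θ x := fun x => by simp only [θ]; split <;> linarith
    have hbound : ∀ (L : Submodule K (Fin 2 → K)), Module.finrank K L = 1 → ∀ J : Finset ι,
        (∀ x ∈ J, s x ∈ L) → ∑ x ∈ J, θ x < 1 := by
      intro L hL J hJ
      have key : ∀ a b, s a ∈ L → s b ∈ L → s b ∈ K ∙ s a := by
        intro a b ha hb
        obtain ⟨c, hc⟩ := exists_smul_eq_of_finrank_eq_one hL (x := (⟨s a, ha⟩ : L))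
          (by simpa using hs a) ⟨s b, hb⟩
        exact Submodule.mem_span_singleton.mpr ⟨c, congrArg Subtype.val hc⟩
      have hc : (J ∩ T).card ≤ 1 := by
        rw [Finset.card_le_one]
        intro a ha b hb
        simp only [T, Finset.mem_inter, Finset.mem_insert, Finset.mem_singleton] at ha hb
        have kab := key a b (hJ a ha.1) (hJ b hb.1)
        have kba := key b a (hJ b hb.1) (hJ a ha.1)
        rcases ha.2 with rfl | rfl | rfl <;> rcases hb.2 with rfl | rfl | rfl <;>
          first | rfl | exact absurd kab (by assumption) | exact absurd kba (by assumption)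
      rw [hsum]
      have h3 : (J.card : ℚ) * ε ≤ 1 / 4 := by
        rw [← hε, mul_comm]
        have : (J.card : ℚ) ≤ Fintype.card ι := by exact_mod_cast Finset.card_le_univ J
        gcongr
      have h4 : ((J ∩ T).card : ℚ) ≤ 1 := by exact_mod_cast hc
      linarith
    refine ⟨θ, fun x => (hpos x).le, fun x => ?_, htot, ⟨by rw [htot]; norm_num, fun L I hI => ?_⟩, fun L I hI => ?_⟩
    · have h5 : ε ≤ 1/12 := by
        have := mul_le_mul_of_nonneg_left hn' hεpos.le
        linarith
      simp only [θ]; split <;> linarith
    all_goals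
      have hle : Module.finrank K L ≤ 2 := (Submodule.finrank_le L).trans (by simp)
      unfold PtQuiv.QWt
      interval_cases hd : Module.finrank K L
    · have hL : L = ⊥ := Submodule.finrank_eq_zero.mp hd
      have : I = ∅ := Finset.eq_empty_of_forall_notMem fun x hx => hs x (by simpa [hL] using hI x hx)
      subst this; simp
    · have := hbound L hd I hI
      simp; linarith
    · have := Finset.sum_le_univ_sum_of_nonneg (f := θ) (fun x => (hpos x).le) (s := I)
      rw [htot] at this; simp; linarith
    · intro _
      have hL : L = ⊥ := Submodule.finrank_eq_zero.mp hd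
      exact .inl ⟨hL, Finset.eq_empty_of_forall_notMem fun x hx => hs x (by simpa [hL] using hI x hx)⟩
    · intro h
      have := hbound L hd I hI
      simp at h; linarith
    · intro h
      refine .inr ⟨Submodule.eq_top_of_finrank_eq (by simp [hd]), ?_⟩
      by_contra hI'
      obtain ⟨x, -, hx⟩ := Finset.exists_of_ssubset (Finset.ssubset_univ_iff.mpr hI')
      have := Finset.sum_lt_sum_of_subset (f := θ) (Finset.subset_univ I) (Finset.mem_univ x) hx (hpos x)
        fun y _ _ => (hpos y).le
      simp at h; linarith

end Groth.Agent.S18561
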