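import Groth.Statements.S18564
import Groth.Agent.DegMono.GPBound
import Groth.Agent.DegMono.StalkSum
-- import your own Groth.Agent.* helpers here

set_option autoImplicit false
universe u
open CategoryTheory CategoryTheory.Limits AlgebraicGeometry
open ParSh

namespace Groth.Agent.S18564

/-- Let Y be a smooth proper integral curve (integral, smooth and proper over k, of dimension one) over
an algebraically closed field k, D an effective Cartier divisor on Y with ideal I, and α a real
weight with 0 ≤ α < 1. A generalised parabolic structure on a finite locally free O_Y-module E is a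
k-linear subspace F₁ of H⁰(Y, E ⊗ O_D); its parabolic degree in rank n is deg E + α·dim_k F₁ (deg E
= χ(E) − n·χ(O_Y)); a homomorphism f : E → E' is parabolic when the induced k-linear map H⁰(E ⊗ O_D)
→ H⁰(E' ⊗ O_D) carries F₁ into F₁'; a submodule G → E gets the preimage structure and (E, F₁) is
semistable (stable) when deg(G, preimage) · n ≤ (<) deg(E, F₁) · r for every finite locally free
submodule G of rank r ≥ 1 (with r < n for stability). Let E and F be finite locally free of the same
rank n ≥ 1 with structures F₁ and F₁', and f : E → F a parabolic monomorphism (a monomorphism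
between modules of equal rank, that is, a generic isomorphism). Then the parabolic degree of (E, F₁)
is at most that of (F, F₁'), and equality holds if and only if f is an isomorphism of O_Y-modules
which, when α > 0, also maps F₁ onto F₁'. The published statement asks in the equality case for an
isomorphism of generalised parabolic bundles (an isomorphism of modules mapping F₁ onto F₁') at
every weight 0 ≤ α < 1; at α = 0 this fails, since the identity of O_Y, from the zero structure to
all of H⁰(O_D) with D a single point, has equal parabolic degrees on both sides without being one,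
while the published proof shows only that the cokernel vanishes; so the condition on F₁ is asked
here only for α > 0. The published statement is also set on the normalisation of a singular curve
with D lying over its singular points; neither is used. -/
theorem result (k : Type u) [Field k] [IsAlgClosed k] (X : Scheme.{u}) [X.Over (Spec (CommRingCat.of k))]
    [AlgebraicGeometry.IsIntegral X] [IsProper (X ↘ Spec (CommRingCat.of k))] [Smooth (X ↘ Spec (CommRingCat.of k))]
    (hdim : topologicalKrullDim X = 1)
    (I : X.IdealSheafData) (hD : FGA.IsEffCartier I) (α : ℝ) (hα0 : 0 ≤ α) (hα1 : α < 1)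
    {E F : X.Modules} (n : ℕ) (hn : 0 < n) (hE : FlatMod.IsFinLocFreeOfRank n E) (hF : FlatMod.IsFinLocFreeOfRank n F)
    (F₁ : Submodule k (ParSh.fibD X I E)) (F₁' : Submodule k (ParSh.fibD X I F))
    (f : E ⟶ F) [Mono f] (hf : ParSh.IsGPHom k X I F₁ F₁' f) :
    ParSh.gpDeg k X α E F₁ n ≤ ParSh.gpDeg k X α F F₁' n ∧
      (ParSh.gpDeg k X α E F₁ n = ParSh.gpDeg k X α F F₁' n ↔
        (IsIso f ∧ (0 < α → Submodule.map (ParSh.fibDMap k X I f) F₁ = F₁'))) := by
  obtain ⟨hfE, hdE⟩ := Groth.DegMono.finrank_fibD k hdim.le I hD hE
  obtain ⟨hfF, hdF⟩ := Groth.DegMono.finrank_fibD k hdim.le I hD hF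
  have h1 := Groth.DegMono.gp_map_bound k hdim.le I hD hE hF f (hdE.trans hdF.symm) hf
  obtain ⟨h2, h3⟩ := Groth.DegMono.deg_le_of_locFree k hdim.le hE hF f
  have h1' : (Module.finrank k F₁ : ℝ) ≤ Module.finrank k F₁' +
      ((Curv2.deg k X F n : ℝ) - Curv2.deg k X E n) := by exact_mod_cast h1
  have h2' : (0 : ℝ) ≤ (Curv2.deg k X F n : ℝ) - Curv2.deg k X E n := by
    have : (Curv2.deg k X E n : ℝ) ≤ Curv2.deg k X F n := by exact_mod_cast h2
    linarith
  simp only [ParSh.gpDeg, ParSh.gpWt]
  refine ⟨?_, fun h => ?_, fun ⟨hi, hmap⟩ => ?_⟩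
  · linarith [mul_le_mul_of_nonneg_left h1' hα0, mul_nonneg (sub_nonneg.2 hα1.le) h2']
  · have hd : Curv2.deg k X E n = Curv2.deg k X F n := by
      have h5 : (1 - α) * ((Curv2.deg k X F n : ℝ) - Curv2.deg k X E n) ≤ 0 := by
        linarith [mul_le_mul_of_nonneg_left h1' hα0]
      have h6 : (Curv2.deg k X F n : ℝ) - Curv2.deg k X E n ≤ 0 := by
        by_contra h7
        linarith [mul_pos (sub_pos.2 hα1) (not_le.1 h7)]
      have h8 : (Curv2.deg k X E n : ℝ) = Curv2.deg k X F n := by linarith
      exact_mod_cast h8
    have hiso := h3.1 hd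
    refine ⟨hiso, fun hpos => ?_⟩
    have hinj : Function.Injective (ParSh.fibDMap k X I f) := by
      have h9 := Groth.DegMono.finrank_ker_fibDMap_le k hdim.le I hD hE hF f (hdE.trans hdF.symm)
      rw [← LinearMap.ker_eq_bot, ← Submodule.finrank_eq_zero]
      omega
    refine Submodule.eq_of_le_of_finrank_eq hf ?_
    rw [← (Submodule.equivMapOfInjective _ hinj F₁).finrank_eq]
    rw [hd] at h
    have h10 : (Module.finrank k F₁ : ℝ) = Module.finrank k F₁' :=
      mul_left_cancel₀ hpos.ne' (by linarith)
    exact_mod_cast h10
  · have hd := h3.2 hi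
    rcases hα0.lt_or_eq with hpos | h0
    · have hinj : Function.Injective (ParSh.fibDMap k X I f) := by
        have h9 := Groth.DegMono.finrank_ker_fibDMap_le k hdim.le I hD hE hF f (hdE.trans hdF.symm)
        rw [← LinearMap.ker_eq_bot, ← Submodule.finrank_eq_zero]
        omega
      rw [hd, ← hmap hpos, (Submodule.equivMapOfInjective _ hinj F₁).finrank_eq]
    · rw [hd, ← h0, zero_mul, zero_mul]

end Groth.Agent.S18564
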