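import Groth.Statements.S18565
import Groth.Agent.S18564
import Groth.Agent.DegMono.GPMor
-- import your own Groth.Agent.* helpers here

set_option autoImplicit false
universe u
open CategoryTheory CategoryTheory.Limits AlgebraicGeometry
open ParSh

namespace Groth.Agent.S18565

/-- Let Y be a smooth proper integral curve (integral, smooth and proper over k, of dimension one) over
an algebraically closed field k, D an effective Cartier divisor on Y with ideal I, and α a real
weight with 0 ≤ α < 1. A generalised parabolic structure on a finite locally free O_Y-module E is a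
k-linear subspace F₁ of H⁰(Y, E ⊗ O_D); its parabolic degree in rank n is deg E + α·dim_k F₁ (deg E
= χ(E) − n·χ(O_Y)); a homomorphism f : E → E' is parabolic when the induced k-linear map H⁰(E ⊗ O_D)
→ H⁰(E' ⊗ O_D) carries F₁ into F₁'; a submodule G → E gets the preimage structure and (E, F₁) is
semistable (stable) when deg(G, preimage) · n ≤ (<) deg(E, F₁) · r for every finite locally free
submodule G of rank r ≥ 1 (with r < n for stability). Let (E, F₁) and (F, F₁') be semistable of
ranks n ≥ 1 and m ≥ 1 with the same parabolic slope, pardeg(E, F₁)·m = pardeg(F, F₁')·n, and let f :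
E → F be a parabolic homomorphism. Then f has constant rank: the cokernel of f in the category of
O_Y-modules is finite locally free. The published statement is set on the normalisation of a
singular curve with D lying over its singular points; neither is used. -/
theorem result (k : Type u) [Field k] [IsAlgClosed k] (X : Scheme.{u}) [X.Over (Spec (CommRingCat.of k))]
    [AlgebraicGeometry.IsIntegral X] [IsProper (X ↘ Spec (CommRingCat.of k))] [Smooth (X ↘ Spec (CommRingCat.of k))]
    (hdim : topologicalKrullDim X = 1)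
    (I : X.IdealSheafData) (hD : FGA.IsEffCartier I) (α : ℝ) (hα0 : 0 ≤ α) (hα1 : α < 1)
    {E F : X.Modules} (n m : ℕ) (hn : 0 < n) (hm : 0 < m)
    (hE : FlatMod.IsFinLocFreeOfRank n E) (hF : FlatMod.IsFinLocFreeOfRank m F)
    (F₁ : Submodule k (ParSh.fibD X I E)) (F₁' : Submodule k (ParSh.fibD X I F))
    (hEss : ParSh.IsGPSemistable k X I α F₁ n) (hFss : ParSh.IsGPSemistable k X I α F₁' m)
    (hμ : ParSh.gpDeg k X α E F₁ n * (m : ℝ) = ParSh.gpDeg k X α F F₁' m * (n : ℝ))
    (f : E ⟶ F) (hf : ParSh.IsGPHom k X I F₁ F₁' f) :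
    ∃ r₀ : ℕ, FlatMod.IsFinLocFreeOfRank r₀ (cokernel f) := by
  have hLN := Groth.DegMono.isLocallyNoetherian k (X := X)
  have hp := Groth.DegMono.isPID_stalk k X hdim
  have hFf := Groth.LocFree.isFinLocFree_of_rank hF
  by_cases hne : f = 0
  · subst hne
    exact ⟨_, Groth.DegMono.isFinLocFreeOfRank_genRank
      (Groth.KTheory.LocFree.isFinLocFree_of_iso cokernelZeroIsoTarget.symm hFf)⟩
  obtain ⟨r, hr, -, -, hG, -, h1, -⟩ :=
    Groth.DegMono.exists_image_data k hdim I hD hα0 hE hF F₁ F₁' hEss f hf hne
  have := (Groth.KTheory.LocFree.isCoh (Groth.LocFree.isFinLocFree_of_rank hE)).1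
  obtain ⟨G', j, l, hj, hl, hG'c, hlj, hrk, hfree⟩ :=
    Groth.DegMono.exists_saturation hp (Groth.KTheory.LocFree.isCoh hFf) f
  have hG' : FlatMod.IsFinLocFreeOfRank r G' := by
    have h := Groth.DegMono.isFinLocFreeOfRank_of_mono hp hG'c hFf j
    rwa [← hrk, Groth.DegMono.genRank_eq hG] at h
  have hlp := Groth.DegMono.map_le_gpInduced k I l j (Abelian.image.ι f) hlj
    (ParSh.gpInduced k X I (Abelian.image.ι f) F₁') F₁' (Submodule.map_comap_le _ _)
  obtain ⟨h2, h3⟩ := Groth.Agent.S18564.result k X hdim I hD α hα0 hα1 r hr hG hG'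
    (ParSh.gpInduced k X I (Abelian.image.ι f) F₁') (ParSh.gpInduced k X I j F₁') l hlp
  have h4 := hFss G' r j hj hr hG'
  refine ⟨_, hfree (h3.1 (h2.antisymm ?_)).1⟩
  generalize ParSh.gpDeg k X α (Abelian.image f) _ r = a at h1 h2 ⊢
  generalize ParSh.gpDeg k X α G' _ r = b at h2 h4 ⊢
  generalize ParSh.gpDeg k X α E F₁ n = e at h1 hμ
  generalize ParSh.gpDeg k X α F F₁' m = g at h4 hμ
  have hmn : (0 : ℝ) < (n : ℝ) * m := by positivity
  have h5 : b * ((n : ℝ) * m) ≤ a * ((n : ℝ) * m) :=
    calc b * ((n : ℝ) * m) = b * m * n := by ring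
      _ ≤ g * r * n := mul_le_mul_of_nonneg_right h4 (Nat.cast_nonneg n)
      _ = e * r * m := by linear_combination (-(r : ℝ)) * hμ
      _ ≤ a * n * m := mul_le_mul_of_nonneg_right h1 (Nat.cast_nonneg m)
      _ = a * ((n : ℝ) * m) := by ring
  exact le_of_mul_le_mul_right h5 hmn

end Groth.Agent.S18565
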