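import Groth.Statements.S18567
import Groth.Agent.S18566
import Groth.Agent.DegMono.GPEndo
-- import your own Groth.Agent.* helpers here

set_option autoImplicit false
universe u
open CategoryTheory CategoryTheory.Limits AlgebraicGeometry
open ParSh

namespace Groth.Agent.S18567

/-- Let Y be a smooth proper integral curve (integral, smooth and proper over k, of dimension one) over
an algebraically closed field k, D an effective Cartier divisor on Y with ideal I, and α a real
weight with 0 ≤ α < 1. A generalised parabolic structure on a finite locally free O_Y-module E is a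
k-linear subspace F₁ of H⁰(Y, E ⊗ O_D); its parabolic degree in rank n is deg E + α·dim_k F₁ (deg E
= χ(E) − n·χ(O_Y)); a homomorphism f : E → E' is parabolic when the induced k-linear map H⁰(E ⊗ O_D)
→ H⁰(E' ⊗ O_D) carries F₁ into F₁'; a submodule G → E gets the preimage structure and (E, F₁) is
semistable (stable) when deg(G, preimage) · n ≤ (<) deg(E, F₁) · r for every finite locally free
submodule G of rank r ≥ 1 (with r < n for stability). Let (E, F₁) be semistable and stable of rank n
≥ 1. Then (E, F₁) is simple: every parabolic endomorphism f : E → E acts on the underlying abelian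
sheaf as multiplication by some scalar c ∈ k. The published statement is set on the normalisation of
a singular curve with D lying over its singular points; neither is used. -/
theorem result (k : Type u) [Field k] [IsAlgClosed k] (X : Scheme.{u}) [X.Over (Spec (CommRingCat.of k))]
    [AlgebraicGeometry.IsIntegral X] [IsProper (X ↘ Spec (CommRingCat.of k))] [Smooth (X ↘ Spec (CommRingCat.of k))]
    (hdim : topologicalKrullDim X = 1)
    (I : X.IdealSheafData) (hD : FGA.IsEffCartier I) (α : ℝ) (hα0 : 0 ≤ α) (hα1 : α < 1)
    {E : X.Modules} (n : ℕ) (hn : 0 < n) (hE : FlatMod.IsFinLocFreeOfRank n E)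
    (F₁ : Submodule k (ParSh.fibD X I E))
    (hEss : ParSh.IsGPSemistable k X I α F₁ n) (hEst : ParSh.IsGPStable k X I α F₁ n)
    (f : E ⟶ E) (hf : ParSh.IsGPHom k X I F₁ F₁ f) :
    ∃ c : k, (SheafOfModules.toSheaf X.ringCatSheaf).map f =
      Coh.smulAb E (Coh.toGlobal (X ↘ Spec (CommRingCat.of k)) c) := by
  have hLN := Groth.DegMono.isLocallyNoetherian k (X := X)
  have := Groth.EulerDeg.compactSpace_of_proper k X
  obtain ⟨x, -, hx⟩ := isClosed_univ.exists_closed_singleton (S := (Set.univ : Set X)) Set.univ_nonempty
  have hfree := Groth.LocFree.isFinLocFree_of_rank hE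
  have := Groth.LocFree.finite_stalk hfree x
  have := Groth.KTheory.LocFree.free_stalk hfree x
  let b := Module.finBasisOfFinrankEq (X.presheaf.stalk x) (E.presheaf.stalk x) (Groth.LocFree.finrank_stalk hE x)
  let M := LinearMap.toMatrix b b (Groth.KTheory.LocFree.stalkₗ f x)
  let ρ := (IsLocalRing.residue (X.presheaf.stalk x)).comp (Curv2.stalkMap k X x)
  let e := RingEquiv.ofBijective ρ
    ⟨ρ.injective, Groth.DegMono.residue_stalkMap_surjective k hx⟩
  let p := (M.charpoly.map (IsLocalRing.residue (X.presheaf.stalk x))).map e.symm.toRingHom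
  obtain ⟨c, hc⟩ := IsAlgClosed.exists_root p (by
    rw [Polynomial.degree_map_eq_of_injective e.symm.injective,
      (Matrix.charpoly_monic M).degree_map, Matrix.charpoly_degree_eq_dim, Fintype.card_fin]
    exact_mod_cast hn.ne')
  refine ⟨c, ?_⟩
  let s := Coh.toGlobal (X ↘ Spec (CommRingCat.of k)) c
  let g := f - Groth.ModelsGraphs.DualExtend.smulHom E s
  have hg : ParSh.IsGPHom k X I F₁ F₁ g := by
    rintro _ ⟨v, hv, rfl⟩
    rw [Groth.DegMono.fibDMap_sub_smul]
    exact F₁.sub_mem (hf ⟨v, hv, rfl⟩) (F₁.smul_mem c hv)
  rcases Groth.Agent.S18566.result k X hdim I hD α hα0 hα1 n n hn hn hE hE F₁ F₁ hEss hEst hEss hEst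
    rfl g hg with hg0 | ⟨hiso, -⟩
  · rw [sub_eq_zero.1 hg0]
    rfl
  · exfalso
    refine Groth.DegMono.not_isIso_sub_smul k hE x b c ?_ hiso
    rw [Polynomial.IsRoot.def] at hc
    have hq : p.map e.toRingHom = M.charpoly.map (IsLocalRing.residue (X.presheaf.stalk x)) := by
      rw [Polynomial.map_map, RingEquiv.toRingHom_comp_symm_toRingHom, Polynomial.map_id]
    have h := Polynomial.eval_map_apply (p := p) (f := e.toRingHom) c
    rw [hq, hc, map_zero, show e.toRingHom c = IsLocalRing.residue _ (Curv2.stalkMap k X x c) from rfl,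
      Polynomial.eval_map_apply] at h
    exact h

end Groth.Agent.S18567
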