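import Groth.Statements.S18568
import Groth.Agent.Misc15.RankLe
import Groth.Agent.Misc15.GPArith

set_option autoImplicit false
universe u
open CategoryTheory CategoryTheory.Limits AlgebraicGeometry
open ParSh

namespace Groth.Agent.S18568

/-- Let Y be a smooth proper integral curve (integral, smooth and proper over k, of dimension one) over
an algebraically closed field k and D an effective Cartier divisor on Y with ideal I, of degree d ≥
1 in the sense that H⁰(Y, G ⊗ O_D) has k-dimension r·d for every finite locally free G of rank r. A
generalised parabolic structure on a finite locally free E is a k-subspace F₁ of H⁰(E ⊗ O_D); with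
weight α its parabolic degree in rank n is deg E + α·dim_k F₁ (deg E = χ(E) − n·χ(O_Y)); a submodule
G → E carries the preimage structure under H⁰(G ⊗ O_D) → H⁰(E ⊗ O_D), and (E, F₁) is α-semistable
(α-stable) when deg_α(G)·n ≤ (<) deg_α(E)·r for every finite locally free submodule G of rank r ≥ 1
(with r < n for stability); weight α = 1 gives 1-semistability and 1-stability. Let E have rank n ≥
2 with structure F₁ and let 0 ≤ α < 1 satisfy 1 − 1/(d·n·(n−1)) < α. If (E, F₁) is α-semistable then
it is 1-semistable. The published statement is set on the normalisation of a singular curve, with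
structures over several disjoint divisors D_i lying over its singular points and d their total
degree; here Y is any smooth proper integral curve with one structure over one divisor, which
contains the several-divisor case (D the sum of the D_i, F₁ the direct sum of the F₁^i). -/
theorem result (k : Type u) [Field k] [IsAlgClosed k] (X : Scheme.{u}) [X.Over (Spec (CommRingCat.of k))]
    [AlgebraicGeometry.IsIntegral X] [IsProper (X ↘ Spec (CommRingCat.of k))] [Smooth (X ↘ Spec (CommRingCat.of k))]
    (hdim : topologicalKrullDim X = 1)
    (I : X.IdealSheafData) (hD : FGA.IsEffCartier I) (d : ℕ) (hd : 0 < d)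
    (hdegD : ∀ (G : X.Modules) (r : ℕ), FlatMod.IsFinLocFreeOfRank r G → Module.finrank k (ParSh.fibD X I G) = r * d)
    {E : X.Modules} (n : ℕ) (hn : 2 ≤ n) (hE : FlatMod.IsFinLocFreeOfRank n E)
    (F₁ : Submodule k (ParSh.fibD X I E))
    (α : ℝ) (hα0 : 0 ≤ α) (hα1 : α < 1) (hα : 1 - 1 / ((d : ℝ) * (n : ℝ) * ((n : ℝ) - 1)) < α)
    (hss : ParSh.IsGPSemistable k X I α F₁ n) :
    ParSh.IsGPSemistable k X I 1 F₁ n := by
  intro G r i hi hr hG
  have hrn : r ≤ n := Groth.Misc15.rank_le_of_mono hG hE i
  have hfin : FiniteDimensional k (ParSh.fibD X I G) :=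
    FiniteDimensional.of_finrank_pos (by rw [hdegD G r hG]; positivity)
  have ha : Module.finrank k (ParSh.gpInduced k X I i F₁) ≤ r * d :=
    (Submodule.finrank_le _).trans (hdegD G r hG).le
  have h := hss G r i hi hr hG
  simp only [ParSh.gpDeg, ParSh.gpWt] at h ⊢
  exact Groth.Misc15.gp_ss_one hn hd hrn ha hα1 hα h

end Groth.Agent.S18568
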