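import Groth.Statements.S18570
import Groth.Agent.S18568
import Groth.Agent.S18569
import Groth.Agent.DegMono.GPBound
import Groth.Agent.Misc15.RankLe
import Groth.Agent.Misc15.GPArith
-- import your own Groth.Agent.* helpers here

set_option autoImplicit false
universe u
open CategoryTheory CategoryTheory.Limits AlgebraicGeometry
open ParSh

namespace Groth.Agent.S18570

/-- Let Y be a smooth proper integral curve (integral, smooth and proper over k, of dimension one) over
an algebraically closed field k and D an effective Cartier divisor on Y with ideal I, of degree d ≥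
1 in the sense that H⁰(Y, G ⊗ O_D) has k-dimension r·d for every finite locally free G of rank r. A
generalised parabolic structure on a finite locally free E is a k-subspace F₁ of H⁰(E ⊗ O_D); with
weight α its parabolic degree in rank n is deg E + α·dim_k F₁ (deg E = χ(E) − n·χ(O_Y)); a submodule
G → E carries the preimage structure under H⁰(G ⊗ O_D) → H⁰(E ⊗ O_D), and (E, F₁) is α-semistable
(α-stable) when deg_α(G)·n ≤ (<) deg_α(E)·r for every finite locally free submodule G of rank r ≥ 1
(with r < n for stability); weight α = 1 gives 1-semistability and 1-stability. Let E have rank n ≥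
2 with structure F₁ and let 0 ≤ α < 1 satisfy 1 − 1/(d·n·(n−1)) < α. Suppose moreover that n and deg
E are coprime and that dim_k F₁ = a·n is a multiple of n. Then α-semistability, α-stability,
1-semistability and 1-stability of (E, F₁) are all equivalent. The published statement is set on the
normalisation of a singular curve, with structures over several disjoint divisors D_i lying over its
singular points, d their total degree and each dim F₁^i a multiple of n; here Y is any smooth proper
integral curve with one structure over one divisor and only dim F₁ = a·n is assumed, which contains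
the several-divisor case (D the sum of the D_i, F₁ the direct sum of the F₁^i). -/
theorem result (k : Type u) [Field k] [IsAlgClosed k] (X : Scheme.{u}) [X.Over (Spec (CommRingCat.of k))]
    [AlgebraicGeometry.IsIntegral X] [IsProper (X ↘ Spec (CommRingCat.of k))] [Smooth (X ↘ Spec (CommRingCat.of k))]
    (hdim : topologicalKrullDim X = 1)
    (I : X.IdealSheafData) (hD : FGA.IsEffCartier I) (d : ℕ) (hd : 0 < d)
    (hdegD : ∀ (G : X.Modules) (r : ℕ), FlatMod.IsFinLocFreeOfRank r G → Module.finrank k (ParSh.fibD X I G) = r * d)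
    {E : X.Modules} (n : ℕ) (hn : 2 ≤ n) (hE : FlatMod.IsFinLocFreeOfRank n E)
    (F₁ : Submodule k (ParSh.fibD X I E))
    (α : ℝ) (hα0 : 0 ≤ α) (hα1 : α < 1) (hα : 1 - 1 / ((d : ℝ) * (n : ℝ) * ((n : ℝ) - 1)) < α)
    (hcop : IsCoprime (n : ℤ) (Curv2.deg k X E n)) (a : ℕ) (ha : Module.finrank k F₁ = a * n) :
    (ParSh.IsGPSemistable k X I α F₁ n ↔ ParSh.IsGPSemistable k X I 1 F₁ n) ∧
      (ParSh.IsGPStable k X I α F₁ n ↔ ParSh.IsGPSemistable k X I 1 F₁ n) ∧
      (ParSh.IsGPStable k X I 1 F₁ n ↔ ParSh.IsGPSemistable k X I 1 F₁ n) := by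
  have hfin : ∀ (G : X.Modules) (r : ℕ), 0 < r → FlatMod.IsFinLocFreeOfRank r G →
      FiniteDimensional k (ParSh.fibD X I G) := fun G r hr hG =>
    FiniteDimensional.of_finrank_pos (by rw [hdegD G r hG]; positivity)
  have hfinE := hfin E n (by omega) hE
  have hn' : (0 : ℝ) < n := by positivity
  have bound : ∀ (G : X.Modules) (i : G ⟶ E), Mono i → FlatMod.IsFinLocFreeOfRank n G →
      (Module.finrank k (ParSh.gpInduced k X I i F₁) : ℝ) + Curv2.deg k X G n ≤
        Module.finrank k F₁ + Curv2.deg k X E n ∧
      (Curv2.deg k X G n : ℝ) ≤ Curv2.deg k X E n := by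
    intro G i hi hG
    have := hfin G n (by omega) hG
    have h1 := Groth.DegMono.gp_map_bound k hdim.le I hD hG hE i
      ((hdegD G n hG).trans (hdegD E n hE).symm) (Submodule.map_comap_le (ParSh.fibDMap k X I i) F₁)
    have h2 := (Groth.DegMono.deg_le_of_locFree k hdim.le hG hE i).1
    refine ⟨?_, by exact_mod_cast h2⟩
    rw [ParSh.gpInduced]
    have h3 : (Module.finrank k (Submodule.comap (ParSh.fibDMap k X I i) F₁) : ℤ) + Curv2.deg k X G n ≤
        Module.finrank k F₁ + Curv2.deg k X E n := by omega
    exact_mod_cast h3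
  have hC : ParSh.IsGPSemistable k X I 1 F₁ n → ParSh.IsGPStable k X I 1 F₁ n := by
    intro h G r i hi hr hrn hG
    refine lt_of_le_of_ne (h G r i hi hr hG) fun heq => ?_
    simp only [ParSh.gpDeg, ParSh.gpWt, ha, one_mul, Nat.cast_mul] at heq
    have heq' : (Curv2.deg k X G r + Module.finrank k (ParSh.gpInduced k X I i F₁)) * (n : ℤ) =
        (Curv2.deg k X E n + (a : ℤ) * n) * r := by exact_mod_cast heq
    have hdvd : (n : ℤ) ∣ Curv2.deg k X E n * r :=
      ⟨Curv2.deg k X G r + Module.finrank k (ParSh.gpInduced k X I i F₁) - a * r, by linear_combination -heq'⟩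
    have h5 : n ∣ r := Int.natCast_dvd_natCast.1 (hcop.dvd_of_dvd_mul_left hdvd)
    exact absurd (Nat.le_of_dvd hr h5) (not_le.2 hrn)
  have hB : ParSh.IsGPStable k X I 1 F₁ n → ParSh.IsGPStable k X I α F₁ n :=
    Groth.Agent.S18569.result k X hdim I hD d hd hdegD n hn hE F₁ α hα0 hα1 hα
  have hE' : ParSh.IsGPStable k X I α F₁ n → ParSh.IsGPSemistable k X I α F₁ n := by
    intro h G r i hi hr hG
    rcases (Groth.Misc15.rank_le_of_mono hG hE i).lt_or_eq with hrn | rfl
    · exact (h G r i hi hr hrn hG).le
    · obtain ⟨h1, h2⟩ := bound G i hi hG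
      simp only [ParSh.gpDeg, ParSh.gpWt]
      refine mul_le_mul_of_nonneg_right ?_ hn'.le
      linarith [mul_le_mul_of_nonneg_left h1 hα0,
        mul_le_mul_of_nonneg_left h2 (sub_nonneg.2 hα1.le)]
  have hA : ParSh.IsGPSemistable k X I α F₁ n → ParSh.IsGPSemistable k X I 1 F₁ n :=
    Groth.Agent.S18568.result k X hdim I hD d hd hdegD n hn hE F₁ α hα0 hα1 hα
  exact ⟨⟨hA, fun h => hE' (hB (hC h))⟩, ⟨fun h => hA (hE' h), fun h => hB (hC h)⟩,
    ⟨fun h => hA (hE' (hB h)), hC⟩⟩

end Groth.Agent.S18570
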