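import Groth.Statements.S18571
import Groth.Agent.Misc15.REqLine

set_option autoImplicit false
universe u
open CategoryTheory AlgebraicGeometry
open REq

namespace Groth.Agent.S18571

/-- Let X be an integral separated scheme of finite type over a field k which is retract rational over
k. Then there is a non-empty open subscheme U of X such that, for every field K containing k, any
two K-points of U are directly R-linked in U: some open subscheme of the projective line over K maps
to U over k and hits both points at K-rational points. (Fields K are taken in the universe of k;
retract rationality is stated with an open subscheme of an affine space, which for irreducible X is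
the same as with an open subscheme of a projective space.) -/
theorem result (k : Type u) [Field k] (X : Scheme.{u})
    (f : X ⟶ Spec (CommRingCat.of k)) [IsIntegral X] [LocallyOfFiniteType f] [QuasiCompact f]
    [IsSeparated f] (hX : REq.IsRetractRational f) :
    ∃ U : X.Opens, (U : Set X).Nonempty ∧
      ∀ (K : Type u) [Field K] [Algebra k K] (A B : REq.Pts (U.ι ≫ f) K),
        REq.ElemLink (U.ι ≫ f) K A B := by
  obtain ⟨U, n, V, a, b, hne, hab, ha, hb⟩ := hX
  exact ⟨U, hne, fun K _ _ A B => Groth.Misc15.REqLine.link_retract f U V a b hab ha hb A B⟩

end Groth.Agent.S18571
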