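import Groth.Statements.S18573
import Groth.Agent.Misc15.REqLine

set_option autoImplicit false
universe u
open CategoryTheory AlgebraicGeometry
open REq

namespace Groth.Agent.S18573

/-- Let Y be a scheme over a field k and K a field containing k. Let V and W be closed subsets of Y with
V ∪ W = Y such that no K-point of Y has its image in V ∩ W. If p is a K-point of Y lying in V and q
a K-point of Y lying in W, then p and q are not R-equivalent on Y. (The published step concerns
k-points of the special fibre of a proper flat scheme over a discrete valuation ring, that is K = k;
this row is stated for any scheme Y over k and K-points for any field K containing k.) -/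
theorem result (k : Type u) [Field k] (Y : Scheme.{u})
    (g : Y ⟶ Spec (CommRingCat.of k)) (K : Type u) [Field K] [Algebra k K]
    (V W : Set Y) (hV : IsClosed V) (hW : IsClosed W) (hVW : V ∪ W = Set.univ)
    (hT : ∀ z : REq.Pts g K, ¬ (Set.range z.1.base ⊆ V ∩ W))
    (p q : REq.Pts g K) (hp : Set.range p.1.base ⊆ V) (hq : Set.range q.1.base ⊆ W) :
    ¬ REq.REquiv g K p q := by
  exact Groth.Misc15.REqLine.not_requiv_of_cover g V W hV hW hVW hT p q hp hq

end Groth.Agent.S18573
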