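import Groth.Statements.S18574
import Groth.Agent.Misc15.FunctorR

set_option autoImplicit false
universe u v
open CategoryTheory AlgebraicGeometry
open REq

namespace Groth.Agent.S18574

/-- Let k be a field and Φ a contravariant functor from the category of schemes over Spec k to sets.
Assume that for every integral scheme Y smooth, separated and quasi-compact over k, the map Φ(Y) →
Φ(P^1_Y) induced by the projection P^1_Y → Y is bijective. Let X be a proper integral scheme over k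
having a non-empty open subscheme smooth over k, and assume X is almost R-trivial over k. Then there
is a non-empty open subscheme U of X, smooth over k, such that the image of Φ(X) → Φ(U) (restriction
along the inclusion) equals the image of Φ(Spec k) → Φ(U) (along the structure morphism of U). The
functor takes values in an arbitrary universe. -/
theorem result (k : Type u) [Field k]
    (Φ : (Over (Spec (CommRingCat.of k)))ᵒᵖ ⥤ Type v)
    (hΦ : ∀ (Y : Scheme.{u}) (g : Y ⟶ Spec (CommRingCat.of k)) [IsIntegral Y] [Smooth g]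
      [IsSeparated g] [QuasiCompact g],
      Function.Bijective (Φ.map (Over.homMk (CohB1.ProjSpaceOver.toBase 1 Y) rfl :
        Over.mk (CohB1.ProjSpaceOver.toBase 1 Y ≫ g) ⟶ Over.mk g).op))
    (X : Scheme.{u}) (f : X ⟶ Spec (CommRingCat.of k)) [IsIntegral X] [IsProper f]
    (hsm : ∃ V : X.Opens, (V : Set X).Nonempty ∧ Smooth (V.ι ≫ f))
    (hR : REq.IsAlmostRTrivial f) :
    ∃ U : X.Opens, (U : Set X).Nonempty ∧ Smooth (U.ι ≫ f) ∧
      Set.range (Φ.map (Over.homMk U.ι rfl : Over.mk (U.ι ≫ f) ⟶ Over.mk f).op) =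
        Set.range (Φ.map (Over.homMk (U.ι ≫ f) (Category.comp_id _) :
          Over.mk (U.ι ≫ f) ⟶ Over.mk (𝟙 (Spec (CommRingCat.of k)))).op) := by
  classical
  obtain ⟨V, hVne, hV⟩ := hsm
  obtain ⟨U0, hU0, hR⟩ := hR
  obtain ⟨x, hx⟩ := hVne
  obtain ⟨V0, hV0a, hxV0, hV0V⟩ := exists_isAffineOpen_mem_and_subset (x := x) (U := V) hx
  haveI : Nonempty (V0 : Scheme.{u}) := ⟨⟨x, hxV0⟩⟩
  let j : Spec (CommRingCat.of Γ(X, V0)) ⟶ X := hV0a.fromSpec
  let g := j ≫ f
  haveI : Smooth g := by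
    have h1 : Smooth (V0.ι ≫ f) := by
      rw [show V0.ι = X.homOfLE hV0V ≫ V.ι from (Scheme.homOfLE_ι _ _).symm, Category.assoc]
      infer_instance
    show Smooth (hV0a.fromSpec ≫ f)
    rw [← hV0a.isoSpec_inv_ι, Category.assoc]
    infer_instance
  let Y : Scheme.{u} := Spec (CommRingCat.of Γ(X, V0))
  letI : Algebra k Y.functionField :=
    (Spec.preimage (Groth.Misc15.FunctorR.gen Y ≫ g)).hom.toAlgebra
  have hg : REq.specMap k Y.functionField = Groth.Misc15.FunctorR.gen Y ≫ g := Spec.map_preimage _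
  obtain ⟨⟨a0, ha0⟩, -⟩ := hR k
  have ha0f : a0.1 ≫ f = 𝟙 _ := by
    rw [a0.2, REq.specMap, show algebraMap k k = RingHom.id k from rfl]
    simp
  let A : REq.Pts f Y.functionField := ⟨Groth.Misc15.FunctorR.gen Y ≫ j, by
    rw [Category.assoc, hg]⟩
  let B : REq.Pts f Y.functionField := ⟨Groth.Misc15.FunctorR.gen Y ≫ g ≫ a0.1, by
    rw [Category.assoc, Category.assoc, ha0f, Category.comp_id, hg]⟩
  have hAU : REq.InOpen f U0 A := by
    rintro _ ⟨z, rfl⟩
    show j (Groth.Misc15.FunctorR.gen Y z) ∈ U0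
    rw [Subsingleton.elim (α := PrimeSpectrum Y.functionField) z
        (IsLocalRing.closedPoint Y.functionField),
      show Groth.Misc15.FunctorR.gen Y (IsLocalRing.closedPoint Y.functionField) = genericPoint Y from
        Scheme.fromSpecStalk_closedPoint, genericPoint_eq_of_isOpenImmersion j]
    obtain ⟨z, hz⟩ := hU0.nonempty
    exact (genericPoint_specializes z).mem_open U0.2 hz
  have hBU : REq.InOpen f U0 B := by
    rintro _ ⟨z, rfl⟩
    show a0.1 (g (Groth.Misc15.FunctorR.gen Y z)) ∈ U0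
    exact ha0 ⟨_, rfl⟩
  have hgood : ∀ (C D : REq.Pts f Y.functionField), REq.REquiv f Y.functionField C D →
      Groth.Misc15.FunctorR.Good g Φ f C.1 D.1 := by
    intro C D h
    induction h with
    | refl C => exact Groth.Misc15.FunctorR.good_refl C.1 (C.2.trans hg)
    | symm _ _ _ ih => exact Groth.Misc15.FunctorR.good_symm ih
    | trans _ _ _ _ _ ih ih' => exact Groth.Misc15.FunctorR.good_trans ih ih'
    | rel C D h =>
      haveI : Smooth ((⊤ : Y.Opens).ι ≫ g) := inferInstance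
      exact Groth.Misc15.FunctorR.good_link hg ⊤ trivial hΦ C D h
  obtain ⟨W, hW, v, w, hv, hw, hgv, hgw, heq⟩ := hgood A B ((hR Y.functionField).2 A B hAU hBU)
  have ev : v = W.ι ≫ j := Groth.Misc15.FunctorR.ext_gW f hW (hv.trans (Category.assoc _ _ _).symm)
    (by rw [hgv, ← Category.assoc, Groth.Misc15.FunctorR.gW_ι])
  have ew : w = W.ι ≫ g ≫ a0.1 := Groth.Misc15.FunctorR.ext_gW f hW
    (by rw [hw, Category.assoc, Category.assoc, ha0f, Category.comp_id])
    (by rw [hgw, ← Category.assoc (Groth.Misc15.FunctorR.gW W hW), Groth.Misc15.FunctorR.gW_ι])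
  subst ev ew
  let U : X.Opens := j ''ᵁ W
  let e := j.isoImage W
  have he : e.hom ≫ U.ι = W.ι ≫ j := Scheme.Hom.isoImage_hom_ι _ _
  have he' : U.ι = e.inv ≫ W.ι ≫ j := by rw [← he, Iso.inv_hom_id_assoc]
  refine ⟨U, ⟨j (genericPoint Y), genericPoint Y, hW, rfl⟩, ?_, ?_⟩
  · rw [he', Category.assoc, Category.assoc]
    infer_instance
  let rU : Over.mk (U.ι ≫ f) ⟶ Over.mk (W.ι ≫ g) := Over.homMk e.inv (by
    show e.inv ≫ W.ι ≫ j ≫ f = U.ι ≫ f
    rw [he']; simp)
  let ptO : Over.mk (𝟙 (Spec (CommRingCat.of k))) ⟶ Over.mk f := Over.homMk a0.1 ha0f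
  let strX : Over.mk f ⟶ Over.mk (𝟙 (Spec (CommRingCat.of k))) := Over.homMk f (Category.comp_id _)
  let iU : Over.mk (U.ι ≫ f) ⟶ Over.mk f := Over.homMk U.ι rfl
  let strU : Over.mk (U.ι ≫ f) ⟶ Over.mk (𝟙 (Spec (CommRingCat.of k))) :=
    Over.homMk (U.ι ≫ f) (Category.comp_id _)
  show Set.range (Φ.map iU.op) = Set.range (Φ.map strU.op)
  have h1 : iU = rU ≫ (Over.homMk (W.ι ≫ j) hv : Over.mk (W.ι ≫ g) ⟶ Over.mk f) :=
    Over.OverMorphism.ext he'
  have h2 : strU ≫ ptO = rU ≫ (Over.homMk (W.ι ≫ g ≫ a0.1) hw : Over.mk (W.ι ≫ g) ⟶ Over.mk f) := by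
    refine Over.OverMorphism.ext ?_
    show (U.ι ≫ f) ≫ a0.1 = e.inv ≫ W.ι ≫ (j ≫ f) ≫ a0.1
    rw [he']; simp
  have h3 : strU = iU ≫ strX := Over.OverMorphism.ext rfl
  have key : Φ.map iU.op = Φ.map ptO.op ≫ Φ.map strU.op := by
    rw [← Φ.map_comp, ← op_comp, h1, h2, op_comp, op_comp, Φ.map_comp, Φ.map_comp, heq]
  have key' : Φ.map strU.op = Φ.map strX.op ≫ Φ.map iU.op := by
    rw [← Φ.map_comp, ← op_comp, ← h3]
  apply Set.Subset.antisymm
  · rintro _ ⟨α, rfl⟩
    exact ⟨Φ.map ptO.op α, by rw [key]; rfl⟩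
  · rintro _ ⟨β, rfl⟩
    exact ⟨Φ.map strX.op β, by rw [key']; rfl⟩

end Groth.Agent.S18574
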