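import Groth.Statements.S18576
import Groth.Agent.Misc15.Moving

set_option autoImplicit false
universe u
open CategoryTheory AlgebraicGeometry
open REq

namespace Groth.Agent.S18576

/-- Let k be a field of characteristic zero and X a scheme that is smooth, projective and geometrically
integral over k. If X is retract rational over k, in particular if X is stably rational over k, then
X is R-trivial over k: for every field K containing k (in the universe of k), X(K) is non-empty and
any two K-points are R-equivalent. -/
theorem result (k : Type u) [Field k] [CharZero k]
    (X : Scheme.{u}) (f : X ⟶ Spec (CommRingCat.of k)) [GeometricallyIntegral f] [Smooth f]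
    (hproj : Neron.IsProjectiveOver k (Over.mk f)) (hX : REq.IsRetractRational f) :
    REq.IsRTrivial f := by
  exact Groth.Misc15.Moving.isRTrivial f hX

end Groth.Agent.S18576
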