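import Groth.Statements.S18578
import Groth.Agent.S9408
import Groth.Agent.PicAux.RegularUFD
import Mathlib.RingTheory.Smooth.Field
import Mathlib.RingTheory.Localization.NumDen
import Mathlib.RingTheory.Etale.Kaehler
import Mathlib.RingTheory.Smooth.Kaehler
-- import your own Groth.Agent.* helpers here

set_option autoImplicit false
universe u
open LogDiff

namespace Groth.Agent.S18578

open TensorProduct KaehlerDifferential

section Local

variable {k A K : Type u} [Field k] [CharZero k] [CommRing A] [IsDomain A] [IsLocalRing A] [Algebra k A]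
  [Algebra.FormallySmooth k A] [Algebra.EssFiniteType k A]
  [Field K] [Algebra A K] [IsFractionRing A K] [Algebra k K] [IsScalarTower k A K]

theorem map_injective_of_formallySmooth : Function.Injective (KaehlerDifferential.map k k A K) := by
  rw [injective_iff_map_eq_zero]
  intro z hz
  obtain ⟨c, hc⟩ := (IsLocalizedModule.eq_zero_iff (nonZeroDivisors A) (KaehlerDifferential.map k k A K)).1 hz
  have hproj : Module.Projective A Ω[A⁄k] := inferInstance
  obtain ⟨s, hs⟩ := Module.projective_def.1 hproj
  rw [← hs z]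
  have h0 : s z = 0 := by
    ext i
    have h1 : (c : A) * s z i = 0 := by
      rw [← smul_eq_mul, ← Finsupp.smul_apply, ← map_smul, ← Submonoid.smul_def, hc, map_zero, Finsupp.coe_zero, Pi.zero_apply]
    exact (mul_eq_zero.1 h1).resolve_left (nonZeroDivisors.coe_ne_zero c)
  rw [h0, map_zero]

/-- A logarithmic differential of a uniformiser is not regular. -/
theorem residue_ne (π : A) (hπ : IsLocalRing.maximalIdeal A = Ideal.span {π}) (hπ0 : π ≠ 0) (u : Aˣ) (e : ℕ) (he : e ≠ 0)
    (ω : Ω[A⁄k]) :
    (algebraMap A K ((u : A) * π ^ e))⁻¹ • KaehlerDifferential.D k K (algebraMap A K ((u : A) * π ^ e)) ≠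
      KaehlerDifferential.map k k A K ω := by
  intro h
  obtain ⟨j, rfl⟩ : ∃ j, e = j + 1 := ⟨e - 1, by omega⟩
  have hp : algebraMap A K π ≠ 0 := by simpa using hπ0
  have hu : algebraMap A K u ≠ 0 := by simp
  -- multiply by `π`
  have h1 : KaehlerDifferential.map k k A K (((j + 1 : ℕ) : A) • KaehlerDifferential.D k A π) =
      KaehlerDifferential.map k k A K (π • (ω - (↑u⁻¹ : A) • KaehlerDifferential.D k A u)) := by
    rw [map_smul, map_smul, map_sub, map_smul, KaehlerDifferential.map_D, KaehlerDifferential.map_D, ← h]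
    simp only [map_mul, map_pow, Derivation.leibniz, Derivation.leibniz_pow, Nat.add_sub_cancel, ← Nat.cast_smul_eq_nsmul K,
      smul_add, smul_smul, algebra_compatible_smul K π, algebra_compatible_smul K (↑u⁻¹ : A),
      algebra_compatible_smul K ((j + 1 : ℕ) : A), map_natCast, smul_sub, map_units_inv]
    match_scalars <;> field_simp <;> ring
  have h2 : ((j + 1 : ℕ) : A) • KaehlerDifferential.D k A π =
      π • (ω - (↑u⁻¹ : A) • KaehlerDifferential.D k A u) := map_injective_of_formallySmooth h1
  -- reduce modulo the maximal ideal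
  let L := IsLocalRing.ResidueField A
  have hsurj : Function.Surjective (algebraMap A L) := Ideal.Quotient.mk_surjective
  haveI : Algebra.EssFiniteType k L := .of_surjective (IsScalarTower.toAlgHom k A L) hsurj
  have hsub : Subsingleton (Algebra.H1Cotangent k L) := inferInstance
  have hinj := (Algebra.FormallySmooth.kerCotangentToTensor_injective_iff (R := k) (P := A) (A := L) hsurj).2 hsub
  have hmem : π ∈ RingHom.ker (algebraMap A L) := by
    rw [RingHom.mem_ker]
    exact (IsLocalRing.residue_eq_zero_iff π).2 (hπ ▸ Ideal.mem_span_singleton_self π)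
  have h3 : ((1 : L) ⊗ₜ[A] KaehlerDifferential.D k A π) = 0 := by
    have h4 : ((1 : L) ⊗ₜ[A] (((j + 1 : ℕ) : A) • KaehlerDifferential.D k A π)) = 0 := by
      rw [h2, TensorProduct.tmul_smul, TensorProduct.smul_tmul', Algebra.smul_def, RingHom.mem_ker.1 hmem, zero_mul,
        TensorProduct.zero_tmul]
    have hunit : IsUnit ((j + 1 : ℕ) : A) := by
      rw [← map_natCast (algebraMap k A)]
      exact (IsUnit.mk0 _ (Nat.cast_ne_zero.2 j.succ_ne_zero)).map _
    rwa [TensorProduct.tmul_smul, hunit.smul_eq_zero] at h4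
  have h5 : kerCotangentToTensor k A L (Ideal.toCotangent _ ⟨π, hmem⟩) = 0 := by
    rw [kerCotangentToTensor_toCotangent]; exact h3
  have h6 := (map_eq_zero_iff _ hinj).1 h5
  rw [Ideal.toCotangent_eq_zero] at h6
  change π ∈ (RingHom.ker (algebraMap A L)) ^ 2 at h6
  rw [show RingHom.ker (algebraMap A L) = IsLocalRing.maximalIdeal A from Ideal.mk_ker, hπ, Ideal.span_singleton_pow,
    Ideal.mem_span_singleton'] at h6
  obtain ⟨c, hc⟩ := h6
  have hcu : c * π = 1 := mul_right_cancel₀ hπ0 (by rw [one_mul, mul_assoc, ← pow_two, hc])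
  exact (IsLocalRing.maximalIdeal A).ne_top_iff_one.1 (IsLocalRing.maximalIdeal.isMaximal A).ne_top
    (hπ ▸ Ideal.mem_span_singleton'.2 ⟨c, hcu⟩)

end Local

section Global

variable {k R K : Type u} [Field k] [CommRing R] [Algebra k R] [Field K] [Algebra R K] [IsFractionRing R K]
  [Algebra k K] [IsScalarTower k R K]

theorem dlog_mul {a b : K} (ha : a ≠ 0) (hb : b ≠ 0) :
    (a * b)⁻¹ • KaehlerDifferential.D k K (a * b) =
      a⁻¹ • KaehlerDifferential.D k K a + b⁻¹ • KaehlerDifferential.D k K b := by
  rw [Derivation.leibniz, smul_add, smul_smul, smul_smul]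
  match_scalars <;> field_simp

theorem dlog_inv {a : K} (ha : a ≠ 0) :
    (a⁻¹)⁻¹ • KaehlerDifferential.D k K (a⁻¹) = -(a⁻¹ • KaehlerDifferential.D k K a) := by
  have h := dlog_mul (k := k) ha (inv_ne_zero ha)
  rw [mul_inv_cancel₀ ha, Derivation.map_one_eq_zero, smul_zero] at h
  exact eq_neg_of_add_eq_zero_right h.symm

variable [IsDomain R] [WfDvdMonoid R]

/-- Extract the given primes from an element. -/
theorem exists_strip {ι : Type} [Fintype ι] (f : ι → R) (hf : ∀ i, Prime (f i)) {a : R} (ha : a ≠ 0) :
    ∃ (n : ι → ℕ) (a' : R), a = (∏ i, f i ^ n i) * a' ∧ ∀ i, ¬ f i ∣ a' := by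
  classical
  induction a using (wellFounded_dvdNotUnit (α := R)).induction with
  | _ a ih =>
    by_cases h : ∃ i, f i ∣ a
    · obtain ⟨i, a1, rfl⟩ := h
      obtain ⟨n, a', h1, h2⟩ := ih a1 ⟨right_ne_zero_of_mul ha, f i, (hf i).not_isUnit, mul_comm _ _⟩ (right_ne_zero_of_mul ha)
      refine ⟨n + Pi.single i 1, a', ?_, h2⟩
      rw [h1, ← mul_assoc]
      congr 1
      simp only [Pi.add_apply, pow_add, Finset.prod_mul_distrib]
      rw [Finset.prod_eq_single_of_mem (s := Finset.univ) (f := fun j => f j ^ (Pi.single i 1 : ι → ℕ) j) i (Finset.mem_univ i) (fun j _ hj => by simp [hj])]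
      simp [mul_comm]
    · push Not at h
      exact ⟨0, a, by simp, h⟩

theorem dlog_prod {ι : Type} (s : Finset ι) (F : ι → K) (n : ι → ℕ) (hF : ∀ i, F i ≠ 0) :
    (∏ i ∈ s, F i ^ n i)⁻¹ • KaehlerDifferential.D k K (∏ i ∈ s, F i ^ n i) =
      ∑ i ∈ s, (n i : K) • ((F i)⁻¹ • KaehlerDifferential.D k K (F i)) := by
  classical
  induction s using Finset.induction_on with
  | empty => simp
  | insert i s hi ih =>
    rw [Finset.prod_insert hi, Finset.sum_insert hi, dlog_mul (pow_ne_zero _ (hF i))
      (Finset.prod_ne_zero_iff.2 fun j _ => pow_ne_zero _ (hF j)), ih]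
    congr 1
    induction n i with
    | zero => simp
    | succ m ihm =>
      rw [pow_succ, dlog_mul (pow_ne_zero _ (hF i)) (hF i), ihm, Nat.cast_succ, add_smul, one_smul]

theorem map_map (A : Type u) [CommRing A] [Algebra R A] [Algebra A K] [IsScalarTower R A K] [Algebra k A]
    [IsScalarTower k R A] [IsScalarTower k A K] (η : Ω[R⁄k]) :
    KaehlerDifferential.map k k A K (KaehlerDifferential.map k k R A η) = KaehlerDifferential.map k k R K η := by
  have hη : η ∈ Submodule.span R (Set.range (KaehlerDifferential.D k R)) := by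
    rw [KaehlerDifferential.span_range_derivation]; trivial
  induction hη using Submodule.span_induction with
  | mem x hx =>
    obtain ⟨r, rfl⟩ := hx
    rw [KaehlerDifferential.map_D, KaehlerDifferential.map_D, KaehlerDifferential.map_D,
      ← IsScalarTower.algebraMap_apply]
  | zero => simp
  | add x y _ _ hx hy => simp only [map_add, hx, hy]
  | smul r x _ hx =>
    simp only [map_smul, hx]
    rw [← algebraMap_smul A r (KaehlerDifferential.map k k R A x), map_smul, hx, algebraMap_smul]

end Global

/-- Poles of logarithmic differentials lie along the given primes. -/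
theorem key {k R K : Type u} [Field k] [CharZero k] [CommRing R] [IsDomain R] [UniqueFactorizationMonoid R] [Algebra k R]
    [Algebra.FormallySmooth k R] [Algebra.EssFiniteType k R] [Field K] [Algebra R K] [IsFractionRing R K] [Algebra k K] [IsScalarTower k R K]
    {r : ℕ} (f : Fin r → R) (hf : ∀ i, Prime (f i)) (x y π : R) (hx : x ≠ 0) (hπ : Prime π) (hπx : π ∣ x)
    (hπy : ¬ π ∣ y) (hfx : ∀ i, ¬ f i ∣ x) (η : Ω[R⁄k]) (C : Fin r → R)
    (h : (algebraMap R K x)⁻¹ • KaehlerDifferential.D k K (algebraMap R K x) -
        (algebraMap R K y)⁻¹ • KaehlerDifferential.D k K (algebraMap R K y) =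
      KaehlerDifferential.map k k R K η +
        ∑ i, algebraMap R K (C i) • ((algebraMap R K (f i))⁻¹ • KaehlerDifferential.D k K (algebraMap R K (f i)))) : False := by
  classical
  haveI hP : (Ideal.span {π}).IsPrime := (Ideal.span_singleton_prime hπ.ne_zero).2 hπ
  let A := Localization.AtPrime (Ideal.span {π})
  have hle : (Ideal.span {π}).primeCompl ≤ nonZeroDivisors R := Ideal.primeCompl_le_nonZeroDivisors _
  have hunitK : ∀ s : (Ideal.span {π}).primeCompl, IsUnit (algebraMap R K s) :=
    fun s => IsLocalization.map_units K ⟨(s : R), hle s.2⟩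
  letI : Algebra A K := (IsLocalization.lift (S := A) hunitK).toAlgebra
  haveI : IsScalarTower R A K := IsScalarTower.of_algebraMap_eq fun z => (IsLocalization.lift_eq hunitK z).symm
  haveI : IsScalarTower k A K := IsScalarTower.of_algebraMap_eq fun z => by
    rw [IsScalarTower.algebraMap_apply k R A, ← IsScalarTower.algebraMap_apply R A K, ← IsScalarTower.algebraMap_apply k R K]
  haveI : IsFractionRing A K := IsFractionRing.isFractionRing_of_isDomain_of_isLocalization (Ideal.span {π}).primeCompl A K
  haveI : IsDomain A := IsLocalization.isDomain_localization hle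
  haveI : Algebra.EssFiniteType R A := .of_isLocalization _ (Ideal.span {π}).primeCompl
  haveI : Algebra.EssFiniteType k A := Algebra.EssFiniteType.comp k R A
  haveI : Algebra.FormallySmooth k A := inferInstance
  have hcast : ∀ z : R, algebraMap R K z = algebraMap A K (algebraMap R A z) := fun z => IsScalarTower.algebraMap_apply R A K z
  have hreg : ∀ z : R, ¬ π ∣ z → ∃ ω : Ω[A⁄k], KaehlerDifferential.map k k A K ω =
      (algebraMap R K z)⁻¹ • KaehlerDifferential.D k K (algebraMap R K z) := fun z hz => by
    obtain ⟨u, hu⟩ := IsLocalization.map_units A (⟨z, fun h => hz (Ideal.mem_span_singleton.1 h)⟩ : (Ideal.span {π}).primeCompl)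
    simp only at hu
    refine ⟨(↑u⁻¹ : A) • KaehlerDifferential.D k A u, ?_⟩
    rw [map_smul, KaehlerDifferential.map_D, hcast, ← hu, algebra_compatible_smul K (↑u⁻¹ : A), map_units_inv]
  have hfπ : ∀ i, ¬ π ∣ f i := fun i h => hfx i
    (((hπ.associated_of_dvd (hf i) h).symm.dvd).trans hπx)
  choose W hW using fun i => hreg (f i) (hfπ i)
  obtain ⟨ω₁, hω₁⟩ := hreg y hπy
  obtain ⟨e, x', hx'π, hxe⟩ := WfDvdMonoid.max_power_factor hx hπ.irreducible
  have he : e ≠ 0 := fun h0 => hx'π (by rw [hxe, h0, pow_zero, one_mul] at hπx; exact hπx)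
  obtain ⟨u, hu⟩ := IsLocalization.map_units A (⟨x', fun h => hx'π (Ideal.mem_span_singleton.1 h)⟩ : (Ideal.span {π}).primeCompl)
  simp only at hu
  have hmax : IsLocalRing.maximalIdeal A = Ideal.span {algebraMap R A π} := by
    rw [← Localization.AtPrime.map_eq_maximalIdeal, Ideal.map_span, Set.image_singleton]
  have hπ0 : algebraMap R A π ≠ 0 := fun h0 => hπ.ne_zero (IsLocalization.injective A hle (h0.trans (map_zero _).symm))
  refine residue_ne (K := K) (algebraMap R A π) hmax hπ0 u e he
    (ω₁ + KaehlerDifferential.map k k R A η + ∑ i, algebraMap R A (C i) • W i) ?_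
  rw [show (u : A) * algebraMap R A π ^ e = algebraMap R A x by rw [hxe, map_mul, map_pow, hu, mul_comm], ← hcast,
    map_add, map_add, hω₁, map_map, map_sum, sub_eq_iff_eq_add'.1 h, add_assoc]
  congr 2
  refine Finset.sum_congr rfl fun i _ => ?_
  rw [map_smul, hW, algebra_compatible_smul K (algebraMap R A (C i)), ← hcast]

/-- The degree-one case, stated at the local ring of a point. Let k be a field of characteristic zero, B
a smooth k-algebra, R the localization of B at a prime ideal, K the fraction field of R and f_1, …,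
f_r prime elements of R. If g is a unit of K whose logarithmic differential g⁻¹dg in Ω_{K/k} is the
image of a form η ∈ Ω_{R/k} plus an R-linear combination Σ c_i f_i⁻¹df_i, then g⁻¹dg = v⁻¹dv + Σ b_i
f_i⁻¹df_i for a unit v of R and integers b_i. (When the f_i are part of a regular system of
parameters the hypothesis says that g⁻¹dg has at worst logarithmic poles along the divisor f_1⋯f_r =
0 at this point, and the statement is the stalkwise injectivity of 1-forms with logarithmic poles
modulo logarithmic differentials of functions invertible off the divisor into Ω¹_K modulo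
logarithmic differentials; it is stated here for arbitrary prime elements f_i.) -/
theorem result
    {k B R K : Type u} [Field k] [CharZero k] [CommRing B] [Algebra k B] [Algebra.Smooth k B]
    (p : Ideal B) [p.IsPrime] [CommRing R] [Algebra B R] [IsLocalization.AtPrime R p]
    [Algebra k R] [IsScalarTower k B R]
    [Field K] [Algebra R K] [IsFractionRing R K] [Algebra k K] [IsScalarTower k R K]
    {r : ℕ} (f : Fin r → R) (hf : ∀ i, Prime (f i))
    (g : Kˣ) (η : Ω[R⁄k]) (c : Fin r → R)
    (h : (g : K)⁻¹ • KaehlerDifferential.D k K (g : K) =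
      KaehlerDifferential.map k k R K η +
        ∑ i, (algebraMap R K (c i) * (algebraMap R K (f i))⁻¹) •
          KaehlerDifferential.D k K (algebraMap R K (f i))) :
    ∃ (v : Rˣ) (b : Fin r → ℤ),
      (g : K)⁻¹ • KaehlerDifferential.D k K (g : K) =
        (algebraMap R K (v : R))⁻¹ • KaehlerDifferential.D k K (algebraMap R K (v : R)) +
          ∑ i, ((b i : K) * (algebraMap R K (f i))⁻¹) •
            KaehlerDifferential.D k K (algebraMap R K (f i)) := by
  classical
  haveI : IsDomain R := (IsFractionRing.injective R K).isDomain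
  haveI := Groth.Agent.S9408.isRegularRing_of_smooth k B
  haveI : IsRegularLocalRing (Localization.AtPrime p) := isRegularRing_iff.mp inferInstance p
  haveI : IsRegularLocalRing R :=
    IsRegularLocalRing.of_ringEquiv (IsLocalization.algEquiv p.primeCompl (Localization.AtPrime p) R).toRingEquiv
  haveI := Groth.PicAux.ufd_of_isRegularLocalRing R
  haveI : Algebra.EssFiniteType B R := .of_isLocalization _ p.primeCompl
  haveI : Algebra.EssFiniteType k R := Algebra.EssFiniteType.comp k B R
  haveI : Algebra.FormallySmooth k R := by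
    haveI : Algebra.FormallySmooth B R := Algebra.FormallySmooth.of_isLocalization p.primeCompl
    exact Algebra.FormallySmooth.comp k B R
  let φ : K → Ω[K⁄k] := fun x => x⁻¹ • KaehlerDifferential.D k K x
  obtain ⟨a, b, hrel, hab⟩ := IsFractionRing.exists_reduced_fraction R (g : K)
  have hb : (b : R) ≠ 0 := nonZeroDivisors.coe_ne_zero b
  have hab' : algebraMap R K a = (g : K) * algebraMap R K b := by rw [← hab, IsLocalization.mk'_spec]
  have ha : a ≠ 0 := fun h0 => by
    rw [h0, map_zero, eq_comm, mul_eq_zero] at hab'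
    exact hab'.elim g.ne_zero (by simpa using hb)
  obtain ⟨n, a', han, hfa⟩ := exists_strip f hf ha
  obtain ⟨m, b', hbm, hfb⟩ := exists_strip f hf hb
  have ha' : a' ≠ 0 := fun h0 => ha (by rw [han, h0, mul_zero])
  have hb' : b' ≠ 0 := fun h0 => hb (by rw [hbm, h0, mul_zero])
  have hinj := IsFractionRing.injective R K
  have nz : ∀ {x : R}, x ≠ 0 → algebraMap R K x ≠ 0 := fun hx => (map_ne_zero_iff _ hinj).2 hx
  have hfK : ∀ i, algebraMap R K (f i) ≠ 0 := fun i => nz (hf i).ne_zero
  have hsplit : ∀ (n : Fin r → ℕ) (x : R), x ≠ 0 →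
      φ (algebraMap R K ((∏ i, f i ^ n i) * x)) = (∑ i, (n i : K) • φ (algebraMap R K (f i))) + φ (algebraMap R K x) := by
    intro n x hx
    simp only [φ, map_mul, map_prod, map_pow]
    rw [dlog_mul (Finset.prod_ne_zero_iff.2 fun i _ => pow_ne_zero _ (hfK i)) (nz hx), dlog_prod _ _ _ hfK]
  have hg : φ (g : K) = (φ (algebraMap R K a') - φ (algebraMap R K b')) + ∑ i, ((n i : K) - (m i : K)) • φ (algebraMap R K (f i)) := by
    have h1 : φ (algebraMap R K a) = φ (g : K) + φ (algebraMap R K b) := by
      rw [hab']; exact dlog_mul g.ne_zero (nz hb)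
    rw [han, hbm, hsplit n a' ha', hsplit m b' hb'] at h1
    simp only [sub_smul, Finset.sum_sub_distrib]
    linear_combination (norm := module) -h1
  have hsub : φ (algebraMap R K a') - φ (algebraMap R K b') = KaehlerDifferential.map k k R K η +
      ∑ i, algebraMap R K (c i - ((n i : R) - (m i : R))) • φ (algebraMap R K (f i)) := by
    have h2 : φ (g : K) = KaehlerDifferential.map k k R K η + ∑ i, algebraMap R K (c i) • φ (algebraMap R K (f i)) := by
      refine h.trans (congrArg _ (Finset.sum_congr rfl fun i _ => ?_))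
      rw [mul_smul]
    rw [hg] at h2
    simp only [map_sub, map_natCast, sub_smul, Finset.sum_sub_distrib] at h2 ⊢
    linear_combination (norm := module) h2
  have hrel' : IsRelPrime a' b' :=
    hrel.of_dvd_left (han ▸ dvd_mul_left _ _) |>.of_dvd_right (hbm ▸ dvd_mul_left _ _)
  have hua : IsUnit a' := by
    by_contra hu
    obtain ⟨π, hπ, hπa⟩ := WfDvdMonoid.exists_irreducible_factor hu ha'
    exact key (K := K) f hf a' b' π ha' hπ.prime hπa (fun hπb => hπ.not_isUnit (hrel' hπa hπb)) hfa η _ hsub
  have hub : IsUnit b' := by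
    by_contra hu
    obtain ⟨π, hπ, hπb⟩ := WfDvdMonoid.exists_irreducible_factor hu hb'
    refine key (K := K) f hf b' a' π hb' hπ.prime hπb (fun hπa => hπ.not_isUnit (hrel' hπa hπb)) hfb (-η)
      (fun i => -(c i - ((n i : R) - (m i : R)))) ?_
    show φ (algebraMap R K b') - φ (algebraMap R K a') = _
    rw [← neg_sub, hsub, neg_add, ← map_neg, ← Finset.sum_neg_distrib]
    simp only [map_neg, neg_smul]
    rfl
  refine ⟨hua.unit * hub.unit⁻¹, fun i => (n i : ℤ) - m i, ?_⟩
  show φ (g : K) = _
  rw [hg]
  congr 1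
  · show _ = φ (algebraMap R K (↑(hua.unit * hub.unit⁻¹)))
    rw [Units.val_mul, map_mul, map_units_inv, IsUnit.unit_spec, IsUnit.unit_spec]
    simp only [φ]
    rw [dlog_mul (nz ha') (inv_ne_zero (nz hb')), dlog_inv (nz hb'), sub_eq_add_neg]
  · refine Finset.sum_congr rfl fun i _ => ?_
    show ((n i : K) - (m i : K)) • (algebraMap R K (f i))⁻¹ • KaehlerDifferential.D k K (algebraMap R K (f i)) = _
    rw [smul_smul]
    push_cast
    rfl

end Groth.Agent.S18578
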