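import Groth.Statements.S18579
-- import your own Groth.Agent.* helpers here

set_option autoImplicit false
universe u
open LogDiff

namespace Groth.Agent.S18579

/-- An element dividing a product of powers of primes is a unit times such a product. -/
theorem exists_of_dvd {R : Type*} [CommRing R] [IsDomain R] {ι : Type*} [Fintype ι] (f : ι → R) (hf : ∀ i, Prime (f i)) :
    ∀ (N : ℕ) (e : ι → ℕ), ∑ i, e i = N → ∀ a b : R, a * b = ∏ i, f i ^ e i → ∃ (u : Rˣ) (n : ι → ℕ), a = (u : R) * ∏ i, f i ^ n i := by
  classical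
  intro N
  induction N with
  | zero =>
    intro e he a b hab
    have h0 : e = 0 := funext fun i => by simpa using Finset.single_le_sum (f := e) (fun j _ => Nat.zero_le _) (Finset.mem_univ i) |>.trans_eq he
    rw [h0] at hab
    simp only [Pi.zero_apply, pow_zero, Finset.prod_const_one] at hab
    exact ⟨(IsUnit.of_mul_eq_one _ hab).unit, 0, by simp⟩
  | succ N ih =>
    intro e he a b hab
    obtain ⟨i, hi⟩ : ∃ i, e i ≠ 0 := by
      by_contra h; push Not at h; simp [h] at he
    let e' := Function.update e i (e i - 1)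
    have hprod : ∏ j, f j ^ e j = f i * ∏ j, f j ^ e' j := by
      rw [← Finset.mul_prod_erase _ _ (Finset.mem_univ i), ← Finset.mul_prod_erase _ (fun j => f j ^ e' j) (Finset.mem_univ i), ← mul_assoc]
      congr 1
      · simp only [e', Function.update_self, ← pow_succ']
        congr 1; omega
      · exact Finset.prod_congr rfl fun j hj => by simp [e', Function.update_of_ne (Finset.ne_of_mem_erase hj)]
    have hsum : ∑ j, e' j = N := by
      have h1 := Finset.add_sum_erase Finset.univ e (Finset.mem_univ i)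
      have h2 := Finset.add_sum_erase Finset.univ e' (Finset.mem_univ i)
      have h3 : ∑ j ∈ Finset.univ.erase i, e' j = ∑ j ∈ Finset.univ.erase i, e j :=
        Finset.sum_congr rfl fun j hj => by simp [e', Function.update_of_ne (Finset.ne_of_mem_erase hj)]
      have h4 : e' i = e i - 1 := by simp [e']
      omega
    rcases (hf i).dvd_or_dvd (show f i ∣ a * b from hab ▸ hprod ▸ dvd_mul_right _ _) with ⟨a', rfl⟩ | ⟨b', rfl⟩
    · rw [hprod, mul_assoc] at hab
      obtain ⟨u, n, hn⟩ := ih e' hsum a' b (mul_left_cancel₀ (hf i).ne_zero hab)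
      refine ⟨u, n + Pi.single i 1, ?_⟩
      rw [hn]
      simp only [Pi.add_apply, pow_add, Finset.prod_mul_distrib]
      rw [Finset.prod_eq_single_of_mem (s := Finset.univ) (f := fun j => f j ^ (Pi.single i 1 : ι → ℕ) j) i (Finset.mem_univ i) (fun j _ hj => by simp [hj])]
      simp only [Pi.single_eq_same, pow_one]
      ring
    · rw [hprod, mul_left_comm] at hab
      exact ih e' hsum a b' (mul_left_cancel₀ (hf i).ne_zero hab)

/-- Exponents of pairwise non-associated primes are determined. -/
theorem exponent_eq {R : Type*} [CommRing R] [IsDomain R] {ι : Type*} [Fintype ι] [DecidableEq ι] (f : ι → R) (hf : ∀ i, Prime (f i))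
    (hfa : ∀ i j, Associated (f i) (f j) → i = j) (u v : Rˣ) (n m : ι → ℕ)
    (h : (u : R) * ∏ i, f i ^ n i = (v : R) * ∏ i, f i ^ m i) : n = m := by
  have key : ∀ (n : ι → ℕ) (i : ι) (k : ℕ) (w : Rˣ), (f i) ^ k ∣ (w : R) * ∏ j, f j ^ n j → k ≤ n i := by
    intro n i k w hd
    rw [← Finset.mul_prod_erase _ _ (Finset.mem_univ i), mul_left_comm] at hd
    by_contra hk
    obtain ⟨d, rfl⟩ := Nat.exists_eq_add_of_lt (not_le.1 hk)
    rw [add_assoc, pow_add, mul_dvd_mul_iff_left (pow_ne_zero _ (hf i).ne_zero)] at hd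
    have hd' := (dvd_pow_self (f i) (Nat.succ_ne_zero d)).trans hd
    rw [Units.dvd_mul_left, (hf i).dvd_finsetProd_iff] at hd'
    obtain ⟨j, hj, hjd⟩ := hd'
    exact Finset.ne_of_mem_erase hj (hfa _ _ ((hf i).associated_of_dvd (hf j) ((hf i).dvd_of_dvd_pow hjd))).symm
  funext i
  apply le_antisymm
  · refine key m i (n i) v (h ▸ ?_)
    exact Dvd.dvd.mul_left (Finset.dvd_prod_of_mem _ (Finset.mem_univ i)) _
  · refine key n i (m i) u (h ▸ ?_)
    exact Dvd.dvd.mul_left (Finset.dvd_prod_of_mem (fun j => f j ^ m j) (Finset.mem_univ i)) _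

/-- The exact sequence for units (first Milnor K-groups) when every component of the divisor is removed.
Let k be a field, B a smooth k-algebra, R the localization of B at a prime ideal, K the fraction
field of R and f_1, …, f_r pairwise non-associate prime elements of R. If w is a unit of K such that
w and w⁻¹ both lie in R[1/(f_1⋯f_r)], i.e. each becomes an element of R after multiplication by a
power of f_1⋯f_r, then there is exactly one pair (v, b) consisting of a unit v of R and integers
b_1, …, b_r with w = v · ∏ f_i^{b_i} in K. (This is the exactness of 0 → Γ(Spec R, O^×) → Γ(Spec R ∖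
V(f_1⋯f_r), O^×) → ℤ^r → 0, the last map being the orders along the f_i. The published statement
takes the f_i to be local equations of the components of a normal crossings divisor, over a field of
characteristic zero; this row allows arbitrary pairwise non-associate prime elements and any field.) -/
theorem result
    {k B R K : Type u} [Field k] [CommRing B] [Algebra k B] [Algebra.Smooth k B]
    (p : Ideal B) [p.IsPrime] [CommRing R] [Algebra B R] [IsLocalization.AtPrime R p]
    [Field K] [Algebra R K] [IsFractionRing R K]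
    {r : ℕ} (f : Fin r → R) (hf : ∀ i, Prime (f i)) (hfa : ∀ i j, Associated (f i) (f j) → i = j)
    (w : Kˣ)
    (hw : ∃ (a : R) (n : ℕ), (w : K) * algebraMap R K ((∏ i, f i) ^ n) = algebraMap R K a)
    (hw' : ∃ (a : R) (n : ℕ), (w⁻¹ : Kˣ) * algebraMap R K ((∏ i, f i) ^ n) = algebraMap R K a) :
    ∃! vb : Rˣ × (Fin r → ℤ),
      (w : K) = algebraMap R K (vb.1 : R) * ∏ i, (algebraMap R K (f i)) ^ (vb.2 i) := by
  classical
  haveI : IsDomain R := (IsFractionRing.injective R K).isDomain
  obtain ⟨a, N, ha⟩ := hw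
  obtain ⟨a', M, ha'⟩ := hw'
  have hfK : ∀ i, algebraMap R K (f i) ≠ 0 := fun i => (map_ne_zero_iff _ (IsFractionRing.injective R K)).2 (hf i).ne_zero
  have haa : a * a' = ∏ i, f i ^ (N + M) := by
    apply IsFractionRing.injective R K
    rw [map_mul, ← ha, ← ha', Units.val_inv_eq_inv_val, Finset.prod_pow, pow_add, map_mul]
    field_simp [w.ne_zero]
  obtain ⟨u, n, hn⟩ := exists_of_dvd f hf _ (fun _ => N + M) rfl a a' haa
  have hN : algebraMap R K ((∏ i, f i) ^ N) = ∏ i, algebraMap R K (f i) ^ N := by simp [Finset.prod_pow]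
  have hwe : (w : K) = algebraMap R K (u : R) * ∏ i, algebraMap R K (f i) ^ ((n i : ℤ) - N) := by
    rw [hN] at ha
    have h2 : (w : K) = algebraMap R K a / ∏ i, algebraMap R K (f i) ^ N := by
      rw [← ha, mul_div_assoc, div_self (Finset.prod_ne_zero_iff.2 fun i _ => pow_ne_zero _ (hfK i)), mul_one]
    rw [h2, hn, map_mul, map_prod, mul_div_assoc, ← Finset.prod_div_distrib]
    congr 1
    refine Finset.prod_congr rfl fun i _ => ?_
    rw [zpow_sub₀ (hfK i), map_pow, zpow_natCast, zpow_natCast]
  refine ⟨(u, fun i => (n i : ℤ) - N), hwe, ?_⟩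
  rintro ⟨v, c⟩ hv
  -- shift all exponents to be non-negative
  obtain ⟨L, hL⟩ : ∃ L : ℕ, ∀ i, 0 ≤ (n i : ℤ) - N + L ∧ 0 ≤ c i + L :=
    ⟨N + ∑ i, (c i).natAbs, fun i => by
      have := Finset.single_le_sum (f := fun i => (c i).natAbs) (fun _ _ => Nat.zero_le _) (Finset.mem_univ i)
      omega⟩
  have hcast : ∀ (v : Rˣ) (c : Fin r → ℤ), (∀ i, 0 ≤ c i + L) → (w : K) = algebraMap R K (v : R) * ∏ i, algebraMap R K (f i) ^ (c i) →
      algebraMap R K ((v : R) * ∏ i, f i ^ (c i + L).toNat) = (w : K) * ∏ i, algebraMap R K (f i) ^ (L : ℤ) := by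
    intro v c hc h
    rw [h, map_mul, map_prod, mul_assoc, ← Finset.prod_mul_distrib]
    congr 1
    refine Finset.prod_congr rfl fun i _ => ?_
    rw [map_pow, ← zpow_natCast, Int.toNat_of_nonneg (hc i), zpow_add₀ (hfK i)]
  have he := IsFractionRing.injective R K ((hcast u _ (fun i => (hL i).1) hwe).trans (hcast v c (fun i => (hL i).2) hv).symm)
  have hexp := exponent_eq f hf hfa _ _ _ _ he
  simp only [show ∀ i, ((n i : ℤ) - N + L).toNat = (c i + L).toNat from congrFun hexp] at he
  have huv : (u : R) = v := mul_right_cancel₀ (Finset.prod_ne_zero_iff.2 fun i _ => pow_ne_zero _ (hf i).ne_zero) he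
  refine Prod.ext (Units.ext huv).symm (funext fun i => ?_)
  have h5 := congrFun hexp i
  have h6 := hL i
  show c i = (n i : ℤ) - N
  omega

end Groth.Agent.S18579
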