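import Groth.Statements.S18580
import Groth.Agent.EtaleBase.Sections
-- import your own Groth.Agent.* helpers here

set_option autoImplicit false
universe u
open EtBase

namespace Groth.Agent.S18580

open AlgebraicGeometry CategoryTheory in
/-- Let Y be a connected scheme and f : X ⟶ Y a separated morphism that is unramified (locally of finite
type and formally unramified). Then the sections of f correspond bijectively to the connected
components of X mapping isomorphically onto Y: there is a bijection from the set of sections s of f
to the set of open subschemes U of X whose underlying set is a connected component of X and for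
which U ⟶ X ⟶ Y is an isomorphism, sending s to its image. In particular every section is an
isomorphism onto a connected component of X and is determined by its image. (A connected component
mapping isomorphically onto Y is the image of a section, hence open, so restricting to open
components loses nothing. The published statement also assumes Y Noetherian; that hypothesis plays
no role and is omitted.) -/
theorem result {X Y : Scheme.{u}} (f : X ⟶ Y)
    [FormallyUnramified f] [LocallyOfFiniteType f] [IsSeparated f] [ConnectedSpace Y] :
    ∃ e : {s : Y ⟶ X // s ≫ f = 𝟙 Y} ≃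
        {U : X.Opens // (∃ x : X, (U : Set X) = connectedComponent x) ∧ IsIso (U.ι ≫ f)},
      ∀ s : {s : Y ⟶ X // s ≫ f = 𝟙 Y}, ((e s).1 : Set X) = Set.range s.1 := by
  classical
  have key : ∀ s : {s : Y ⟶ X // s ≫ f = 𝟙 Y}, ∃ U : X.Opens,
      ((U : Set X) = Set.range s.1.base) ∧ (∃ x : X, (U : Set X) = connectedComponent x) ∧
        IsIso (U.ι ≫ f) := by
    intro s
    obtain ⟨ho, hc⟩ := Groth.EtaleBase.section_isImmersion f s.1 s.2
    have := hc inferInstance
    refine ⟨s.1.opensRange, rfl, ?_, ?_⟩
    · obtain ⟨y⟩ := (inferInstance : Nonempty Y)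
      have hclopen : IsClopen (Set.range s.1.base) :=
        ⟨s.1.isClosedEmbedding.isClosed_range, s.1.isOpenEmbedding.isOpen_range⟩
      exact ⟨s.1.base y, ((isConnected_range s.1.continuous).subset_connectedComponent ⟨y, rfl⟩).antisymm
        (hclopen.connectedComponent_subset ⟨y, rfl⟩)⟩
    · have h2 : s.1.isoOpensRange.hom ≫ (s.1.opensRange.ι ≫ f) = 𝟙 Y := by
        rw [Scheme.Hom.isoOpensRange_hom_ι_assoc, s.2]
      have : IsIso (s.1.isoOpensRange.hom ≫ (s.1.opensRange.ι ≫ f)) := by rw [h2]; infer_instance
      exact IsIso.of_isIso_comp_left s.1.isoOpensRange.hom _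
  choose U hU₁ hU₂ using key
  let e : {s : Y ⟶ X // s ≫ f = 𝟙 Y} →
      {U : X.Opens // (∃ x : X, (U : Set X) = connectedComponent x) ∧ IsIso (U.ι ≫ f)} :=
    fun s => ⟨U s, hU₂ s⟩
  refine ⟨Equiv.ofBijective e ⟨fun s t hst => ?_, fun V => ?_⟩, hU₁⟩
  · apply Subtype.ext
    refine Groth.EtaleBase.section_eq_of_range_eq f _ _ s.2 t.2 ?_
    have := congrArg (fun V : {U : X.Opens // _} => (V.1 : Set X)) hst
    rwa [hU₁, hU₁] at this
  · have := V.2.2
    refine ⟨⟨inv (V.1.ι ≫ f) ≫ V.1.ι, by simp⟩, Subtype.ext (SetLike.ext' ?_)⟩
    rw [hU₁]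
    have hr := (inv (V.1.ι ≫ f)).surjective.range_comp V.1.ι.base
    rw [Scheme.Opens.range_ι] at hr
    exact (by simpa [Scheme.Hom.comp_base] using hr)

end Groth.Agent.S18580
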