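import Groth.Statements.S18582
import Groth.Agent.BranchVar.SliceLocus

set_option autoImplicit false
universe u
open BranchVar

namespace Groth.Agent.S18582

open CategoryTheory CategoryTheory.Limits AlgebraicGeometry Groth.BranchVar.Slice Groth.Variety2

open CategoryTheory CategoryTheory.Limits AlgebraicGeometry in
/-- Let k be an algebraically closed field of characteristic zero, C a smooth proper integral curve over
k, N a natural number, and f : X ⟶ P^N_k ×_k C a finite morphism such that the composite X ⟶ C is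
flat and every fibre of X ⟶ C (over every point of C) is a reduced scheme all of whose irreducible
components have dimension N. Then there is a k-rational point p of P^N_k such that, writing s : C ⟶
P^N_k ×_k C for the section c ↦ (p, c), the preimage Y = X ×_{P^N_k ×_k C} C of the constant section
is finite and flat over C and Y is a reduced scheme (in particular the generic fibre of Y ⟶ C is
reduced, which is the printed conclusion; the argument proves that Y itself is reduced). Here P^N_k
×_k C is the fibre product of the structure morphisms P^N_k ⟶ Spec k and C ⟶ Spec k, and Y ⟶ C is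
the second projection of the fibre product of f and s. -/
theorem result (k : Type u) [Field k] [IsAlgClosed k] [CharZero k]
    (N : ℕ) (C : Scheme.{u}) (g : C ⟶ Spec (CommRingCat.of k)) (hC : Curve.IsSmoothProperCurve k C g)
    (X : Scheme.{u}) (f : X ⟶ pullback (CohB1.ProjSpace.toSpec N k) g) [IsFinite f]
    [Flat (f ≫ pullback.snd (CohB1.ProjSpace.toSpec N k) g)]
    (hred : ∀ c : C, AlgebraicGeometry.IsReduced ((f ≫ pullback.snd (CohB1.ProjSpace.toSpec N k) g).fiber c))
    (hdim : ∀ c : C, ∀ Z ∈ irreducibleComponents (↥((f ≫ pullback.snd (CohB1.ProjSpace.toSpec N k) g).fiber c) : Type u),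
      topologicalKrullDim (↥Z : Type u) = N) :
    ∃ p : Spec (CommRingCat.of k) ⟶ CohB1.ProjSpace N k,
      p ≫ CohB1.ProjSpace.toSpec N k = 𝟙 (Spec (CommRingCat.of k)) ∧
      ∀ s : C ⟶ pullback (CohB1.ProjSpace.toSpec N k) g,
        s ≫ pullback.fst (CohB1.ProjSpace.toSpec N k) g = g ≫ p →
        s ≫ pullback.snd (CohB1.ProjSpace.toSpec N k) g = 𝟙 C →
        IsFinite (pullback.snd f s) ∧ Flat (pullback.snd f s) ∧
          AlgebraicGeometry.IsReduced (pullback f s) := by
  obtain ⟨_hproper, _hsm, _hint, hCdim⟩ := hC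
  have : IsLocallyNoetherian C := LocallyOfFiniteType.isLocallyNoetherian g
  have : IsIntegral (CohB1.ProjSpace N k) :=
    GeometricallyIntegral.isIntegral_of_subsingleton (CohB1.ProjSpace.toSpec N k)
  have hSint : IsIntegral (pullback (CohB1.ProjSpace.toSpec N k) g) := isIntegral_prod N g
  have : IsLocallyNoetherian (pullback (CohB1.ProjSpace.toSpec N k) g) :=
    LocallyOfFiniteType.isLocallyNoetherian (toField N g)
  let prP := pullback.fst (CohB1.ProjSpace.toSpec N k) g
  let g' := f ≫ pullback.snd (CohB1.ProjSpace.toSpec N k) g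
  have : IsReduced X := by
    refine isReduced_of_flat_of_generic g' fun w hw => ?_
    have := hred (genericPoint C)
    exact isReduced_stalk_of_fibre g' w hw
  have hdom := apply_eq_genericPoint N g hCdim f (hdim (genericPoint C))
  have : IsLocallyNoetherian X := LocallyOfFiniteType.isLocallyNoetherian f
  have : LocallyOfFinitePresentation f := locallyOfFinitePresentation_of_noetherian f
  -- flatness locus
  let W1 : (pullback (CohB1.ProjSpace.toSpec N k) g).Opens :=
    sSup {U | ∀ x : X, f x ∈ U → (f.stalkMap x).hom.Flat}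
  have hW1 : ∀ x : X, f x ∈ W1 → (f.stalkMap x).hom.Flat := by
    intro x hx
    obtain ⟨U, hU, hxU⟩ := TopologicalSpace.Opens.mem_sSup.1 hx
    exact hU x hxU
  have hη1 : ∀ z, prP z = genericPoint _ → z ∈ W1 := by
    intro z hz
    have := isPrincipalIdealRing_stalk N g hCdim z hz
    obtain ⟨U, hzU, hU⟩ := exists_nhd_flat_stalkMap f hdom z
    exact TopologicalSpace.Opens.mem_sSup.2 ⟨U, hU, hzU⟩
  -- smooth locus
  let Bad : Set (↥(pullback (CohB1.ProjSpace.toSpec N k) g)) := f.base '' (f.smoothLocus : Set X)ᶜ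
  have hBad : IsClosed Bad := f.isClosedMap _ f.smoothLocus.2.isClosed_compl
  let W2 : (pullback (CohB1.ProjSpace.toSpec N k) g).Opens := ⟨Badᶜ, hBad.isOpen_compl⟩
  have hW2 : ∀ x : X, f x ∈ W2 → x ∈ f.smoothLocus := fun x hx => by
    by_contra hn
    exact hx ⟨x, hn, rfl⟩
  have : CharZero (pullback (CohB1.ProjSpace.toSpec N k) g).functionField :=
    charZero_functionField (toField N g)
  have hη2 : genericPoint _ ∈ W2 := by
    rintro ⟨x, hx, hfx⟩
    refine hx ?_
    -- `x` is maximal
    have hmax : ∀ z, z ⤳ x → z = x := by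
      intro z hz
      have h1 : f z = f x := by
        rw [hfx]
        exact ((hz.map f.continuous).trans (Specializes.of_eq hfx)).antisymm (genericPoint_specializes _) |>.eq
      obtain ⟨z', hz'⟩ : z ∈ Set.range (f.fiberι (f x)) := by rw [f.range_fiberι]; exact h1
      have h2 : z' ⤳ f.asFiber x := by
        rw [← (f.fiberι (f x)).isEmbedding.isInducing.specializes_iff, hz', Scheme.Hom.fiberι_asFiber]
        exact hz
      rw [← hz', h2.eq, Scheme.Hom.fiberι_asFiber]
    exact mem_smoothLocus_of_maximal f x hmax (hdom x hmax)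
  -- choice of the point
  have : Smooth prP := MorphismProperty.pullback_fst _ _ _hsm
  let T : Set ↥(CohB1.ProjSpace N k) := prP.base '' (W1 : Set _)ᶜ
  have : IsProper prP := MorphismProperty.pullback_fst _ _ _hproper
  have hT : IsClosed T := prP.isClosedMap _ W1.2.isClosed_compl
  let O : Set ↥(CohB1.ProjSpace N k) := Tᶜ ∩ prP.base '' (W2 : Set _)
  have hO : IsOpen O := hT.isOpen_compl.inter (prP.isOpenMap _ W2.2)
  have hOne : O.Nonempty := by
    refine ⟨genericPoint _, fun ⟨z, hz, hzη⟩ => hz (hη1 z hzη), ?_⟩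
    exact (genericPoint_spec _).mem_open_set_iff (prP.isOpenMap _ W2.2) |>.2
      ⟨_, Set.mem_univ _, ⟨_, hη2, rfl⟩⟩
  obtain ⟨x₀, hx₀, hx₀c⟩ := Groth.Variety2.Dim.exists_isClosed_singleton_mem
    (CohB1.ProjSpace.toSpec N k) hO.isLocallyClosed hOne
  let pp := (pointEquivClosedPoint (CohB1.ProjSpace.toSpec N k)).symm ⟨x₀, hx₀c⟩
  have hpp : pp.1 (IsLocalRing.closedPoint k) = x₀ :=
    congrArg Subtype.val ((pointEquivClosedPoint (CohB1.ProjSpace.toSpec N k)).apply_symm_apply ⟨x₀, hx₀c⟩)
  refine ⟨pp.1, pp.2, fun s hs1 hs2 => ?_⟩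
  have hsq : IsPullback s g prP pp.1 := by
    refine IsPullback.of_right ?_ hs1
      (IsPullback.of_hasPullback (CohB1.ProjSpace.toSpec N k) g).flip
    rw [hs2, pp.2]
    exact IsPullback.of_horiz_isIso ⟨by rw [Category.id_comp, Category.comp_id]⟩
  have hsfst : ∀ c : C, prP (s c) = x₀ := fun c => by
    rw [← Scheme.Hom.comp_apply, hs1, Scheme.Hom.comp_apply, ← hpp]
    exact congrArg _ (Subsingleton.elim _ _)
  have hsW1 : Set.range s ⊆ (W1 : Set _) := by
    rintro _ ⟨c, rfl⟩
    by_contra hn
    exact hx₀.1 ⟨s c, hn, hsfst c⟩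
  have hsη : s (genericPoint C) ∈ W2 := by
    obtain ⟨z, hz, hzx⟩ := hx₀.2
    obtain ⟨c, rfl⟩ : z ∈ Set.range s := by
      have h1 : z ∈ prP ⁻¹' Set.range pp.1 := ⟨IsLocalRing.closedPoint k, hpp.trans hzx.symm⟩
      rw [← Scheme.Pullback.range_fst] at h1
      obtain ⟨w, rfl⟩ := h1
      exact ⟨hsq.isoPullback.inv w, by rw [← Scheme.Hom.comp_apply, hsq.isoPullback_inv_fst]⟩
    exact ((genericPoint_specializes c).map s.continuous).mem_open W2.2 hz
  refine ⟨inferInstance, ?_, ?_⟩
  · exact flat_pullback_of_stalkMap f W1 hW1 s hsW1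
  · have hflat : Flat (pullback.snd f s) := flat_pullback_of_stalkMap f W1 hW1 s hsW1
    refine isReduced_of_flat_of_generic (pullback.snd f s) fun w hw => ?_
    exact isReduced_stalk_pullback f W2 hW2 s hs2 w (hw ▸ hsη)

end Groth.Agent.S18582
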