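import Groth.Statements.S18583
import Groth.Agent.BranchVar.Cut.Global

set_option autoImplicit false
universe u
open BranchVar

namespace Groth.Agent.S18583

open CategoryTheory CategoryTheory.Limits AlgebraicGeometry in
/-- Let k be a characteristic-zero algebraically closed field, C a smooth proper integral curve over k,
n ≥ 1, and f : X ⟶ P^{n+1}_k ×_k C a finite morphism with X reduced, every irreducible component of
X of dimension n + 1, and X ⟶ C flat. Then there is a hyperplane H of P^{n+1}_k, the zero scheme of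
a nonzero section s of O(1), such that the preimage Y = X ×_{P^{n+1}_k} H of H ×_k C under f is
reduced, all irreducible components of Y have dimension n, and Y ⟶ C is flat. Here P^{n+1}_k ×_k C
is the fibre product of the structure morphisms to Spec k, and Y is formed as the fibre product of X
⟶ P^{n+1}_k ×_k C ⟶ P^{n+1}_k with the inclusion of H. -/
theorem result (k : Type u) [Field k] [IsAlgClosed k] [CharZero k]
    (n : ℕ) (hn : 1 ≤ n) (C : Scheme.{u}) (g : C ⟶ Spec (CommRingCat.of k)) (hC : Curve.IsSmoothProperCurve k C g)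
    (X : Scheme.{u}) (f : X ⟶ pullback (CohB1.ProjSpace.toSpec (n + 1) k) g) [IsFinite f] [AlgebraicGeometry.IsReduced X]
    (hdim : ∀ Z ∈ irreducibleComponents (↥X : Type u), topologicalKrullDim (↥Z : Type u) = ((n + 1 : ℕ) : WithBot ℕ∞))
    [Flat (f ≫ pullback.snd (CohB1.ProjSpace.toSpec (n + 1) k) g)] :
    ∃ s : Coh.structureModule (CohB1.ProjSpace (n + 1) k) ⟶ Twist.twistProjSpace (n + 1) k 1, s ≠ 0 ∧
      AlgebraicGeometry.IsReduced
        (pullback (f ≫ pullback.fst (CohB1.ProjSpace.toSpec (n + 1) k) g) (PicF2.zeroScheme (Twist.twistProjSpace (n + 1) k 1) s).subschemeι) ∧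
      (∀ Z ∈ irreducibleComponents
          (↥(pullback (f ≫ pullback.fst (CohB1.ProjSpace.toSpec (n + 1) k) g) (PicF2.zeroScheme (Twist.twistProjSpace (n + 1) k 1) s).subschemeι) : Type u),
        topologicalKrullDim (↥Z : Type u) = (n : WithBot ℕ∞)) ∧
      Flat (pullback.fst (f ≫ pullback.fst (CohB1.ProjSpace.toSpec (n + 1) k) g) (PicF2.zeroScheme (Twist.twistProjSpace (n + 1) k 1) s).subschemeι ≫
        f ≫ pullback.snd (CohB1.ProjSpace.toSpec (n + 1) k) g) := by
  obtain ⟨hproper, hsm, hint, hCdim⟩ := hC
  exact Groth.BranchVar.Cut.exists_cut f (Nat.le_add_left 1 n) hCdim hn hdim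

end Groth.Agent.S18583
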