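import Groth.Statements.S18584
import Groth.Agent.BranchVar.Cut.Iter
import Groth.Agent.Curves1.CurveMor.Basic

set_option autoImplicit false
universe u
open BranchVar

namespace Groth.Agent.S18584

open Groth.Variety2 Groth.BranchVar

open CategoryTheory CategoryTheory.Limits AlgebraicGeometry in
/-- Let k be an algebraically closed field of characteristic zero, C a smooth proper integral curve over
k, n < N natural numbers, and f : X ⟶ P^N_k ×_k C a finite morphism such that X ⟶ C is flat and
every fibre of X ⟶ C (over every point of C) is a reduced scheme all of whose irreducible components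
have dimension n. Then there are n sections s_1, …, s_n of O(1) on P^N_k, cutting out a linear
subspace L (the closed subscheme defined by the sum of their zero ideal sheaves), such that the
preimage Y = X ×_{P^N_k} L of L ×_k C under f is finite and flat over C and Y is reduced (so the
generic fibre of Y ⟶ C is reduced, which is the printed conclusion together with finiteness and
flatness; the printed statement takes L to be a linear subspace of codimension exactly n, and the
argument proves Y reduced). Here P^N_k ×_k C is the fibre product of the structure morphisms to Spec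
k, and Y ⟶ C is the composite of the first projection Y ⟶ X with X ⟶ C. -/
theorem result (k : Type u) [Field k] [IsAlgClosed k] [CharZero k]
    (n N : ℕ) (hnN : n < N) (C : Scheme.{u}) (g : C ⟶ Spec (CommRingCat.of k)) (hC : Curve.IsSmoothProperCurve k C g)
    (X : Scheme.{u}) (f : X ⟶ pullback (CohB1.ProjSpace.toSpec N k) g) [IsFinite f]
    [Flat (f ≫ pullback.snd (CohB1.ProjSpace.toSpec N k) g)]
    (hred : ∀ c : C, AlgebraicGeometry.IsReduced ((f ≫ pullback.snd (CohB1.ProjSpace.toSpec N k) g).fiber c))
    (hdim : ∀ c : C, ∀ Z ∈ irreducibleComponents (↥((f ≫ pullback.snd (CohB1.ProjSpace.toSpec N k) g).fiber c) : Type u),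
      topologicalKrullDim (↥Z : Type u) = (n : WithBot ℕ∞)) :
    ∃ s : Fin n → (Coh.structureModule (CohB1.ProjSpace N k) ⟶ Twist.twistProjSpace N k 1),
      IsFinite (pullback.fst (f ≫ pullback.fst (CohB1.ProjSpace.toSpec N k) g)
          (⨆ i : Fin n, PicF2.zeroScheme (Twist.twistProjSpace N k 1) (s i)).subschemeι ≫ f ≫ pullback.snd (CohB1.ProjSpace.toSpec N k) g) ∧
      Flat (pullback.fst (f ≫ pullback.fst (CohB1.ProjSpace.toSpec N k) g)
          (⨆ i : Fin n, PicF2.zeroScheme (Twist.twistProjSpace N k 1) (s i)).subschemeι ≫ f ≫ pullback.snd (CohB1.ProjSpace.toSpec N k) g) ∧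
      AlgebraicGeometry.IsReduced
        (pullback (f ≫ pullback.fst (CohB1.ProjSpace.toSpec N k) g) (⨆ i : Fin n, PicF2.zeroScheme (Twist.twistProjSpace N k 1) (s i)).subschemeι) := by
  obtain ⟨hproper, hsm, hint, hCdim⟩ := hC
  have : IsLocallyNoetherian C := LocallyOfFiniteType.isLocallyNoetherian g
  let g' := f ≫ pullback.snd (CohB1.ProjSpace.toSpec N k) g
  let fX : X ⟶ Spec (CommRingCat.of k) := g' ≫ g
  have : LocallyOfFiniteType fX := inferInstance
  have : AlgebraicGeometry.IsReduced X := by
    refine Slice.isReduced_of_flat_of_generic g' fun w hw => ?_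
    have := hred (genericPoint C)
    exact Slice.isReduced_stalk_of_fibre g' w hw
  have hX : ∀ Z ∈ irreducibleComponents (↥X : Type u),
      topologicalKrullDim (↥Z : Type u) = ((n + 1 : ℕ) : WithBot ℕ∞) := by
    intro Z hZ
    obtain ⟨ξ, rfl, hmax⟩ := Cut.mem_irreducibleComponents_iff hZ
    obtain ⟨w, rfl⟩ : ξ ∈ Set.range (g'.fiberι (genericPoint C)) := by
      rw [g'.range_fiberι]; exact Slice.apply_eq_genericPoint_of_maximal g' ξ hmax
    have hcw := Cut.closure_mem_irreducibleComponents (ξ := w) fun v hv =>
      (g'.fiberι (genericPoint C)).isEmbedding.injective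
        (hmax _ (hv.map (g'.fiberι (genericPoint C)).continuous))
    have h1 := hdim (genericPoint C) _ hcw
    rw [Dim.dim_closure_singleton] at h1
    have h2 := Dim.height_fiber_add fX g g' rfl (genericPoint C) w
    rw [WithBot.coe_injective h1, Slice.height_genericPoint_curve hCdim] at h2
    rw [Dim.dim_closure_singleton, ← h2]
    rfl
  obtain ⟨s, hr, hd, hf⟩ := Cut.exists_cuts (g := g) (Nat.one_le_iff_ne_zero.2 (by omega)) hCdim n X f hX
  refine ⟨s, ?_, hf, hr⟩
  let L := ⨆ i : Fin n, PicF2.zeroScheme (Twist.twistProjSpace N k 1) (s i)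
  let Y := pullback (f ≫ pullback.fst (CohB1.ProjSpace.toSpec N k) g) L.subschemeι
  let π : Y ⟶ C := pullback.fst (f ≫ pullback.fst (CohB1.ProjSpace.toSpec N k) g) L.subschemeι ≫ g'
  show IsFinite π
  have : Flat π := hf
  have hprop : IsProper π := inferInstance
  have hY : topologicalKrullDim Y ≤ 1 := by
    rw [Dim.dim_eq_iSup_height]
    refine iSup_le fun y => ?_
    obtain ⟨U, hU, hyU, -⟩ := exists_isAffineOpen_mem_and_subset (x := y) (U := ⊤) trivial
    obtain ⟨P, -, hPy, hPmax⟩ := Cut.exists_maximal_generization hU hyU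
    have h1 := hd _ (Cut.closure_mem_irreducibleComponents hPmax)
    rw [Dim.dim_closure_singleton] at h1
    rw [← Nat.cast_one (R := WithBot ℕ∞), ← h1]
    exact WithBot.coe_le_coe.2 (Order.height_mono (Scheme.le_iff_specializes.2 hPy))
  have : LocallyQuasiFinite π := Groth.Curves1.CurveMor.locallyQuasiFinite (π ≫ g) g π rfl hY fun y hy => by
    have hmaxy := (Groth.Curves1.CurveMor.isMax_and_height_of_not_isClosed (π ≫ g) hY hy).1
    rw [Slice.apply_eq_genericPoint_of_maximal π y fun z hz =>
      ((Scheme.le_iff_specializes.1 (hmaxy (Scheme.le_iff_specializes.2 hz))).antisymm hz).symm.eq]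
    exact Groth.Curves1.CurveMor.not_isClosed_genericPoint hCdim
  exact IsFinite.of_isProper_of_locallyQuasiFinite π

end Groth.Agent.S18584
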