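import Groth.Statements.S18587
import Mathlib
import Groth.Agent.Calg8.WittDecompose

set_option autoImplicit false
universe u
open CAlg

namespace Groth.Agent.S18587

/-- Affine form with D = 0: let p be a prime, ℓ ≥ 1 an integer not divisible by p and n ≥ 1. Let A → B
be an injective ring homomorphism of integral domains of characteristic p such that B is spanned as
an A-module by finitely many elements y with y ^ ℓ in the image of A (a weakly ℓ-cyclic extension).
Then for every p-typical Witt vector ζ over B in the image of the n-fold Verschiebung there is a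
nonzero a in A such that the product of the Teichmüller representative of (the image of) a with ζ
lies in the ideal of W(B) generated by the images of the n-fold Verschiebungs of Witt vectors over
A. (This is the case D = 0 of the published statement, written for the coordinate rings; the
published statement allows a twist by a real Weil divisor D and assumes the rings excellent and
normal, hypotheses which the case D = 0 does not use.) -/
theorem result
    (p : ℕ) [Fact p.Prime] (ℓ n : ℕ) (hℓ : 0 < ℓ) (hpℓ : ¬ p ∣ ℓ) (hn : 0 < n)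
    (A B : Type u) [CommRing A] [CommRing B] [IsDomain A] [IsDomain B] [Algebra A B]
    [CharP A p] [CharP B p] (hinj : Function.Injective (algebraMap A B))
    (y : Finset B) (hspan : Submodule.span A (y : Set B) = ⊤)
    (hpow : ∀ b ∈ y, b ^ ℓ ∈ Set.range (algebraMap A B))
    (ζ : WittVector p B)
    (hζ : ∃ η : WittVector p B, (⇑(WittVector.verschiebung : WittVector p B →+ WittVector p B))^[n] η = ζ) :
    ∃ a : A, a ≠ 0 ∧ WittVector.teichmuller p (algebraMap A B a) * ζ ∈
      Ideal.span (Set.range (fun x : WittVector p A =>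
        WittVector.map (algebraMap A B) ((⇑(WittVector.verschiebung : WittVector p A →+ WittVector p A))^[n] x))) := by
  classical
  obtain ⟨η, rfl⟩ := hζ
  set φ := algebraMap A B with hφ
  have hex : ∀ j : ↥y, ∃ a : A, a ≠ 0 ∧ ∀ v : ℕ, φ a ^ v * (j : B) = (j : B) ^ (ℓ * v + 1) := by
    rintro ⟨b, hb⟩
    obtain ⟨a, ha⟩ := hpow b hb
    rcases eq_or_ne b 0 with rfl | hb0
    · exact ⟨1, one_ne_zero, fun v => by simp⟩
    · refine ⟨a, fun h => hb0 (eq_zero_of_pow_eq_zero (n := ℓ) (by rw [← ha, h, map_zero])), fun v => ?_⟩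
      rw [pow_succ, pow_mul]
      exact congrArg (fun t => t ^ v * b) ha
  choose a ha0 ha using hex
  have hpos : ∀ N : ℕ, 0 < p ^ N := fun N => pow_pos (Fact.out : p.Prime).pos N
  have huv : ∀ N : ℕ, ∃ u v : ℕ, u ≤ ℓ ∧ v ≤ p ^ N ∧ u * p ^ N = ℓ * v + 1 := by
    intro N
    rcases Nat.lt_or_ge 1 ℓ with hl | hl
    · have hco : Nat.Coprime (p ^ N) ℓ := ((Fact.out : p.Prime).coprime_iff_not_dvd.2 hpℓ).pow_left N
      obtain ⟨u, hul, hu⟩ := Nat.exists_mul_mod_eq_one_of_coprime hco hl
      refine ⟨u, p ^ N * u / ℓ, hul.le, Nat.div_le_of_le_mul ?_, ?_⟩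
      · rw [mul_comm ℓ]; exact Nat.mul_le_mul_left _ hul.le
      · have := Nat.div_add_mod (p ^ N * u) ℓ
        rw [hu] at this
        rw [mul_comm u]
        omega
    · have hl1 : ℓ = 1 := by omega
      refine ⟨1, p ^ N - 1, by omega, by omega, ?_⟩
      have := hpos N
      subst hl1
      omega
  choose u v hu hv huv using huv
  set c : A := ∏ j, a j with hc
  refine ⟨c, Finset.prod_ne_zero_iff.2 fun j _ => ha0 j, ?_⟩
  have hy : ∀ b : B, ∃ α : ↥y → A, ∑ j, φ (α j) * (j : B) = b := by
    intro b
    have hb : b ∈ Submodule.span A (Set.range (Subtype.val : ↥y → B)) := by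
      rw [Subtype.range_coe_subtype, Finset.setOfPred_mem, hspan]
      trivial
    obtain ⟨α, hα⟩ := (Submodule.mem_span_range_iff_exists_fun A).1 hb
    exact ⟨α, by simpa [Algebra.smul_def, hφ] using hα⟩
  obtain ⟨α, hα⟩ := Groth.Calg8.exists_sum_mk (p := p) (fun j : ↥y => (j : B)) hy η
  let β : ℕ → ↥y → A := fun i j =>
    α i j * ((∏ k ∈ Finset.univ.erase j, a k) ^ p ^ (n + i) * a j ^ (p ^ (n + i) - v (n + i)))
  have hβ : ∀ i (j : ↥y), φ (c ^ p ^ (n + i)) * (φ (α i j) * (j : B)) =
      φ (β i j) * ((j : B) ^ u (n + i)) ^ p ^ (n + i) := by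
    intro i j
    rw [← pow_mul, huv, ← ha j, hc, ← Finset.prod_erase_mul Finset.univ a (Finset.mem_univ j), mul_pow]
    simp only [β, map_mul, map_pow, map_prod]
    have e : φ (a j) ^ p ^ (n + i) = φ (a j) ^ (p ^ (n + i) - v (n + i)) * φ (a j) ^ v (n + i) := by
      rw [← pow_add, Nat.sub_add_cancel (hv (n + i))]
    rw [e]
    ring
  let x : ↥y → ℕ → WittVector p A := fun j r =>
    WittVector.mk p fun i => if u (n + i) = r then β i j else 0
  have hsplit : ∀ j : ↥y,
      WittVector.teichmuller p (φ c ^ p ^ n) * WittVector.mk p (fun i => φ (α i j) * (j : B)) =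
        ∑ r ∈ Finset.range (ℓ + 1),
          WittVector.teichmuller p (((j : B) ^ r) ^ p ^ n) * WittVector.map φ (x j r) := by
    intro j
    ext i
    have hterm : ∀ k r, (WittVector.teichmuller p (((j : B) ^ r) ^ p ^ n) * WittVector.map φ (x j r)).coeff k =
        if u (n + k) = r then φ (c ^ p ^ (n + k)) * (φ (α k j) * (j : B)) else 0 := by
      intro k r
      rw [Groth.Calg8.teichmuller_mul_coeff, WittVector.map_coeff, ← pow_mul, ← pow_add]
      show _ * φ (if u (n + k) = r then β k j else 0) = _
      split_ifs with h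
      · rw [hβ, h, mul_comm]
      · rw [map_zero, mul_zero]
    rw [Groth.Calg8.coeff_sum_of_disjoint, Finset.sum_congr rfl fun r _ => hterm i r, Finset.sum_ite_eq,
      if_pos (Finset.mem_range.2 (Nat.lt_succ_of_le (hu _))), Groth.Calg8.teichmuller_mul_coeff, map_pow,
      ← pow_mul, ← pow_add]
    · rfl
    · intro k r _ s _ hrs
      rw [hterm, hterm]
      by_cases h : u (n + k) = r
      · exact Or.inr (if_neg (h ▸ hrs))
      · exact Or.inl (if_neg h)
  rw [Groth.Calg8.teichmuller_mul_iterate_verschiebung, ← hα, Finset.mul_sum,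
    Finset.sum_congr rfl fun j _ => hsplit j, Groth.Calg8.iterate_verschiebung_sum]
  refine Ideal.sum_mem _ fun j _ => ?_
  rw [Groth.Calg8.iterate_verschiebung_sum]
  refine Ideal.sum_mem _ fun r _ => ?_
  rw [← Groth.Calg8.teichmuller_mul_iterate_verschiebung]
  refine Ideal.mul_mem_left _ _ (Ideal.subset_span ⟨x j r, ?_⟩)
  have hmap : ∀ m (w : WittVector p A), WittVector.map φ
      ((⇑(WittVector.verschiebung : WittVector p A →+ WittVector p A))^[m] w) =
      (⇑(WittVector.verschiebung : WittVector p B →+ WittVector p B))^[m] (WittVector.map φ w) := by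
    intro m w
    induction m with
    | zero => rfl
    | succ m ih => rw [Function.iterate_succ_apply', WittVector.map_verschiebung, ih, Function.iterate_succ_apply']
  exact hmap n _

end Groth.Agent.S18587
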