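import Groth.Statements.S18593
import Groth.Agent.SuslinAdj.ExtProd

set_option autoImplicit false
universe v u
open W4c5suslinpi1ab

namespace Groth.Agent.S18593

open CategoryTheory MonoidalCategory Functor.LaxMonoidal Functor.OplaxMonoidal in
/-- In a square of adjunctions between monoidal categories — fL ⊣ fR from the base S₀ to Y₁, pL ⊣ pR
from Y₁ to X (both left adjoints oplax monoidal, right adjoints with the induced lax structure), qL
⊣ qR from Y₂ to X, a functor gR : Y₂ ⥤ S₀ and a natural transformation ν : qR ⋙ gR ⟶ pR ⋙ fR from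
which the base change fL gR ⟶ pR qL is built, with right adjoints fS of fR, gS of gR, pS of pR and
the right projection morphisms of adjf, the left projection morphisms of adjp and the base change
all isomorphisms, the square relating the two shriek products commutes: exterior product, then fR pR
of the shriek product of the square, then fR of the counit of pR ⊣ pS, equals the counit of gR ⊣ gS
on the second factor, then the right projection morphism of adjf, then fR of the shriek cup product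
fS A ⊗ fL B ⟶ fS (A ⊗ B). -/
theorem result {S₀ : Type u} [Category.{v} S₀] [MonoidalCategory S₀]
    {Y₁ : Type u} [Category.{v} Y₁] [MonoidalCategory Y₁]
    {Y₂ : Type u} [Category.{v} Y₂] [MonoidalCategory Y₂]
    {X : Type u} [Category.{v} X] [MonoidalCategory X]
    {fL : S₀ ⥤ Y₁} {fR : Y₁ ⥤ S₀} (adjf : fL ⊣ fR) [fL.OplaxMonoidal] [fR.LaxMonoidal]
    [adjf.IsMonoidal] {gR : Y₂ ⥤ S₀}
    {pL : Y₁ ⥤ X} {pR : X ⥤ Y₁} (adjp : pL ⊣ pR) [pL.OplaxMonoidal] [pR.LaxMonoidal]
    [adjp.IsMonoidal] {qL : Y₂ ⥤ X} {qR : X ⥤ Y₂} (adjq : qL ⊣ qR)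
    (ν : qR ⋙ gR ⟶ pR ⋙ fR)
    {fS : S₀ ⥤ Y₁} (adjf' : fR ⊣ fS) {gS : S₀ ⥤ Y₂} (adjg' : gR ⊣ gS)
    {pS : Y₁ ⥤ X} (adjp' : pR ⊣ pS)
    [∀ (A : Y₁) (B : S₀), IsIso (W4c5suslinpi1ab.projR adjf A B)]
    [∀ (A : Y₁) (B : X), IsIso (W4c5suslinpi1ab.projL adjp A B)]
    [∀ B : Y₂, IsIso ((W4c5suslinpi1ab.bcMor adjf adjq ν).app B)] (A B : S₀) :
    W4c5suslinpi1ab.extProd adjf adjp adjq ν (fS.obj A) (gS.obj B) ≫
      fR.map (pR.map (W4c5suslinpi1ab.prodShriek adjf adjf' adjg' adjp adjp' adjq ν A B)) ≫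
        fR.map (adjp'.counit.app (fS.obj (A ⊗ B))) =
      (fR.obj (fS.obj A) ◁ adjg'.counit.app B) ≫ W4c5suslinpi1ab.projR adjf (fS.obj A) B ≫
        fR.map (W4c5suslinpi1ab.cupShriek adjf adjf' A B) := by
  exact Groth.SuslinAdj.extProd_prodShriek_counit adjf adjp adjq ν adjf' adjg' adjp' A B

end Groth.Agent.S18593
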