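import Groth.Statements.S18596
import Groth.Agent.Misc3Ram.EtalePoint

set_option autoImplicit false
universe u
open EtRam

namespace Groth.Agent.S18596

open AlgebraicGeometry CategoryTheory in
/-- Let k be a perfect field, X a k-scheme proper over k and f : Y ⟶ X finite étale. Curve-tameness of f
asks that the pullback of f to any regular k-curve mapping to X be tamely ramified at every place of
the curve's function field at infinity; proper targets make every finite étale cover curve-tame.
Stated here unfolded at a single place, in the form the argument yields: for every point y of Y with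
image x, and every discrete valuation ring A of the residue field κ(x) through which Spec κ(x) ⟶
Spec k factors, the finite separable extension κ(y) of κ(x) is tamely ramified with respect to A. -/
theorem result
    (k : Type u) [Field k] [PerfectField k] {X Y : Scheme.{u}} (s : X ⟶ Spec (CommRingCat.of k))
    [IsProper s] (f : Y ⟶ X) [IsFinite f] [Etale f] (y : Y)
    (A : ValuationSubring (X.residueField (f.base y))) [IsDiscreteValuationRing A]
    (a : Spec (CommRingCat.of A) ⟶ Spec (CommRingCat.of k))
    (ha : Spec.map (CommRingCat.ofHom A.subtype) ≫ a = X.fromSpecResidueField (f.base y) ≫ s) :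
    EtRam.IsTamelyRamified A ((f.residueFieldMap y).hom.comp A.subtype) := by
  let x := f.base y
  let S : ValuativeCommSq s :=
    { R := A
      K := X.residueField x
      i₁ := X.fromSpecResidueField x
      i₂ := a
      commSq := ⟨ha.symm⟩ }
  have hv : ValuativeCriterion s :=
    ((IsProper.eq_valuativeCriterion.le _ _ _ (inferInstance : IsProper s)).1.1.1)
  obtain ⟨⟨l, hl1, -⟩⟩ := (hv.existence S).exists_lift
  let P := Limits.pullback f l
  let πA : P ⟶ Spec (CommRingCat.of A) := Limits.pullback.snd f l
  haveI : IsFinite πA := MorphismProperty.pullback_snd _ _ inferInstance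
  haveI : Etale πA := MorphismProperty.pullback_snd _ _ inferInstance
  haveI : IsAffine P := isAffine_of_isAffineHom πA
  let B := Γ(P, ⊤)
  let ψ : CommRingCat.of A ⟶ B := Spec.preimage (P.isoSpec.inv ≫ πA)
  have hψ : Spec.map ψ = P.isoSpec.inv ≫ πA := Spec.map_preimage _
  haveI : Etale (Spec.map ψ) := by rw [hψ]; infer_instance
  haveI : IsFinite (Spec.map ψ) := by rw [hψ]; infer_instance
  have hfin : ψ.hom.Finite := (IsFinite.SpecMap_iff _).1 inferInstance
  have het : ψ.hom.Etale := (HasRingHomProperty.Spec_iff (P := @Etale)).1 inferInstance
  algebraize [ψ.hom]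
  let j : Spec (Y.residueField y) ⟶ P :=
    Limits.pullback.lift (Y.fromSpecResidueField y)
      (Spec.map (CommRingCat.ofHom ((f.residueFieldMap y).hom.comp A.subtype)))
      (by
        rw [← Scheme.Hom.SpecMap_residueFieldMap_fromSpecResidueField]
        have h1 : Spec.map (CommRingCat.ofHom ((f.residueFieldMap y).hom.comp A.subtype)) =
            Spec.map (f.residueFieldMap y) ≫ Spec.map (CommRingCat.ofHom A.subtype) :=
          Spec.map_comp (CommRingCat.ofHom A.subtype) (f.residueFieldMap y)
        refine Eq.trans ?_ (congrArg (fun F => F ≫ l) h1).symm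
        exact (congrArg (fun F => Spec.map (f.residueFieldMap y) ≫ F) hl1.symm).trans
          (Category.assoc _ _ _).symm)
  let g : B ⟶ Y.residueField y := Spec.preimage (j ≫ P.isoSpec.hom)
  have hg : Spec.map g = j ≫ P.isoSpec.hom := Spec.map_preimage _
  have hgen := Groth.Misc3Ram.closure_range_eq_top y g.hom (P.isoSpec.inv ≫ Limits.pullback.fst f l)
    (by
      rw [CommRingCat.ofHom_hom, hg, Category.assoc, Iso.hom_inv_id_assoc]
      exact Limits.pullback.lift_fst _ _ _)
  have hcomp : g.hom.comp ψ.hom = (f.residueFieldMap y).hom.comp A.subtype := by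
    have h1 : ψ ≫ g = CommRingCat.ofHom ((f.residueFieldMap y).hom.comp A.subtype) := by
      apply Spec.map_injective
      rw [Spec.map_comp, hg, hψ, Category.assoc, Iso.hom_inv_id_assoc]
      exact Limits.pullback.lift_snd _ _ _
    exact congrArg (fun F => F.hom) h1
  have hinj : Function.Injective (g.hom.comp ψ.hom) := by
    rw [hcomp]
    exact ((f.residueFieldMap y).hom.injective).comp Subtype.val_injective
  rw [← hcomp]
  exact Groth.Misc3Ram.tame_of_unramified_point g.hom hinj hgen

end Groth.Agent.S18596
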