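import Groth.Statements.S18597
import Groth.Agent.Misc3Ram.GaloisTame
import Groth.Agent.Misc3Ram.GaloisCoverResidue

set_option autoImplicit false
universe u
open EtRam

namespace Groth.Agent.S18597

open AlgebraicGeometry CategoryTheory in
/-- Let k be a perfect field and X a k-scheme. A finite étale cover of X by a torsor under a finite
group of order prime to the characteristic of k is curve-tame, i.e. tamely ramified at every place
at infinity of every regular k-curve mapping to X. Stated here unfolded at a single place and for a
connected Galois cover Z ⟶ X (the X-automorphisms of Z act transitively on geometric fibres) whose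
automorphism group has order invertible in k: for every point z of Z with image x and every discrete
valuation ring A of the residue field κ(x) through which Spec κ(x) ⟶ Spec k factors (so A contains k
and has the residue characteristic of k), the finite separable extension κ(z) of κ(x) is tamely
ramified with respect to A. Without the factorisation through Spec A the claim fails already for X =
Spec ℚ, Z = Spec ℚ(√2) and A = ℤ localised at 2. (The published statement is for torsors under a
finite abelian group of order prime to the characteristic; a connected component of such a torsor is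
a Galois cover of this kind.) -/
theorem result
    (k : Type u) [Field k] [PerfectField k] {X : Scheme.{u}} (s : X ⟶ Spec (CommRingCat.of k))
    (Z : FEt.Cat X) (hZ : PiSp.IsGaloisCover Z) (hn : (Nat.card (Aut Z) : k) ≠ 0) (z : Z.left)
    (A : ValuationSubring (X.residueField (Z.hom.base z))) [IsDiscreteValuationRing A]
    (a : Spec (CommRingCat.of A) ⟶ Spec (CommRingCat.of k))
    (ha : Spec.map (CommRingCat.ofHom A.subtype) ≫ a = X.fromSpecResidueField (Z.hom.base z) ≫ s) :
    EtRam.IsTamelyRamified A ((Z.hom.residueFieldMap z).hom.comp A.subtype) := by
  haveI : Finite (Aut Z) := Nat.finite_of_card_ne_zero fun h => hn (by rw [h, Nat.cast_zero])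
  let pr : Z.left ⟶ X := Z.hom
  letI : Algebra (X.residueField (pr z)) (Z.left.residueField z) := (pr.residueFieldMap z).hom.toAlgebra
  obtain ⟨h1, h2, h3⟩ := Groth.Misc3Ram.galois_residueField Z hZ z
  have hu : IsUnit ((Nat.card (Aut Z) : ℕ) : A) := by
    obtain ⟨φ, -⟩ : ∃ φ : k →+* A, True := ⟨(Spec.preimage a).hom, trivial⟩
    rw [← map_natCast φ]
    exact (isUnit_iff_ne_zero.2 hn).map φ
  obtain ⟨c, hc⟩ := h3
  refine Groth.Misc3Ram.tame_of_isGalois A (X.residueField (pr z)) (Z.left.residueField z) ?_
  exact isUnit_of_mul_isUnit_left (y := (c : A)) (by rw [← Nat.cast_mul]; exact hc ▸ hu)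

end Groth.Agent.S18597
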