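import Groth.Statements.S18598
import Mathlib.RingTheory.RootsOfUnity.CyclotomicUnits
import Mathlib.RingTheory.Polynomial.Cyclotomic.Eval
import Mathlib.RingTheory.Coprime.Lemmas
import Mathlib.Data.Nat.Factorization.Basic
import Mathlib.Tactic.IntervalCases
import Mathlib.Tactic.Linarith

set_option autoImplicit false
universe u
open SSRed

namespace Groth.Agent.S18598

/-- Let O be a commutative integral domain of characteristic zero, n a positive integer such that no
prime number dividing n is a unit in O, and α an element of O of finite multiplicative order such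
that (α − 1)² is divisible by n in O. Then α = 1 if n ≥ 5, α² = 1 if n = 4, α³ = 1 if n = 3, and α⁴
= 1 if n = 2. -/
theorem result (O : Type u) [CommRing O] [IsDomain O] [CharZero O]
    (n : ℕ) (hn : 0 < n) (hO : ∀ p : ℕ, p.Prime → p ∣ n → ¬ IsUnit (p : O))
    (α : O) (hα : IsOfFinOrder α) (h : (n : O) ∣ (α - 1) ^ 2) :
    (5 ≤ n → α = 1) ∧ (n = 4 → α ^ 2 = 1) ∧ (n = 3 → α ^ 3 = 1) ∧ (n = 2 → α ^ 4 = 1) := by
  have key : ∀ q j : ℕ, q.Prime → q ^ (j + 1) ∣ orderOf α →
      2 ≤ n → ∃ a, 1 ≤ a ∧ n = q ^ a ∧ a * Nat.totient (q ^ (j + 1)) ≤ 2 := by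
    intro q j hq hdvd hn2
    haveI : Fact q.Prime := ⟨hq⟩
    have hpos : 0 < orderOf α := hα.orderOf_pos
    set c := orderOf α / q ^ (j + 1) with hc
    have hζ : IsPrimitiveRoot (α ^ c) (q ^ (j + 1)) :=
      (IsPrimitiveRoot.orderOf α).pow hpos (Nat.div_mul_cancel hdvd).symm
    set ζ := α ^ c
    haveI : NeZero (q ^ (j + 1)) := ⟨(pow_pos hq.pos _).ne'⟩
    have hprod : Associated ((ζ - 1) ^ Nat.totient (q ^ (j + 1))) (q : O) := by
      have h1 := Polynomial.eval_one_cyclotomic_prime_pow (R := O) (p := q) j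
      rw [Polynomial.cyclotomic_eq_prod_X_sub_primitiveRoots hζ, Polynomial.eval_prod] at h1
      rw [← h1, ← hζ.card_primitiveRoots, ← Finset.prod_const]
      refine Associated.prod _ _ _ fun μ hμ => ?_
      rw [mem_primitiveRoots (NeZero.pos _)] at hμ
      obtain ⟨i, _, hi, rfl⟩ := hζ.isPrimitiveRoot_iff.mp hμ
      simp only [Polynomial.eval_sub, Polynomial.eval_X, Polynomial.eval_C]
      refine (hζ.associated_sub_one_pow_sub_one_of_coprime hi).trans ?_
      rw [← neg_sub]; exact Associated.neg_left (Associated.refl _)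
    have h2 : (n : O) ∣ (ζ - 1) ^ 2 := by
      refine h.trans (pow_dvd_pow_of_dvd ?_ 2)
      simpa [ζ] using sub_dvd_pow_sub_pow α 1 c
    have h3 : (n : O) ^ Nat.totient (q ^ (j + 1)) ∣ (q : O) ^ 2 := by
      refine (pow_dvd_pow_of_dvd h2 _).trans ?_
      rw [← pow_mul, mul_comm, pow_mul]
      exact (hprod.pow_pow).dvd
    have htot : 1 ≤ Nat.totient (q ^ (j + 1)) := Nat.totient_pos.mpr (pow_pos hq.pos _)
    have hall : ∀ {d : ℕ}, d.Prime → d ∣ n → d = q := by
      intro d hd hdn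
      by_contra hne
      refine hO d hd hdn ?_
      have e1 : (d : O) ∣ (q : O) ^ 2 :=
        ((Nat.cast_dvd_cast hdn).trans (dvd_pow_self _ (by omega))).trans h3
      exact IsCoprime.isUnit_of_dvd' ((Nat.Coprime.cast ((Nat.coprime_primes hd hq).mpr hne)).pow_right (n := 2)) dvd_rfl e1
    have hna := Nat.eq_prime_pow_of_unique_prime_dvd (by omega) hall
    have ha1 : 1 ≤ n.primeFactorsList.length := by
      by_contra hlt
      rw [Nat.lt_one_iff.mp (not_le.mp hlt), pow_zero] at hna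
      omega
    refine ⟨_, ha1, hna, ?_⟩
    have hqn : q ∣ n := by rw [hna]; exact dvd_pow_self _ (by omega)
    rw [hna, Nat.cast_pow, ← pow_mul] at h3
    exact (pow_dvd_pow_iff (Nat.cast_ne_zero.mpr hq.ne_zero) (hO q hq hqn)).mp h3
  have main : ∀ t : ℕ, 0 < t → (∀ q j : ℕ, q.Prime → q ^ (j + 1) ∣ orderOf α → q ^ (j + 1) ∣ t) → α ^ t = 1 := by
    intro t _ ht
    apply orderOf_dvd_iff_pow_eq_one.mp
    refine (Nat.dvd_iff_prime_pow_dvd_dvd _ _).mpr fun q k hq hk => ?_
    cases k with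
    | zero => simp
    | succ j => exact ht q j hq hk
  have bound : ∀ q j : ℕ, q.Prime → q ^ (j + 1) ∣ orderOf α → 2 ≤ n →
      (n = 2 ∧ q ^ (j + 1) ∣ 4) ∨ (n = 3 ∧ q ^ (j + 1) ∣ 3) ∨ (n = 4 ∧ q ^ (j + 1) ∣ 2) := by
    intro q j hq hd hn2
    obtain ⟨a, ha, hna, hle⟩ := key q j hq hd hn2
    rw [Nat.totient_prime_pow_succ hq] at hle
    have hq2 := hq.two_le
    have h1 : 1 ≤ q ^ j := pow_pos hq.pos _
    have h2 : q ^ j * (q - 1) ≤ 2 := le_trans (Nat.le_mul_of_pos_left _ ha) hle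
    have hq3 : q ≤ 3 := by nlinarith [Nat.sub_add_cancel (show 1 ≤ q by omega)]
    have hj : j ≤ 1 := by
      by_contra hj
      have h4 : 2 ^ 2 ≤ q ^ j :=
        (Nat.pow_le_pow_left hq2 2).trans (Nat.pow_le_pow_right hq.pos (by omega))
      nlinarith [Nat.sub_add_cancel (show 1 ≤ q by omega)]
    have ha2 : a ≤ 2 := (Nat.le_mul_of_pos_right a (Nat.mul_pos h1 (by omega))).trans hle
    interval_cases q <;> interval_cases j <;> interval_cases a <;> simp_all
  refine ⟨fun h5 => ?_, fun h4 => ?_, fun h3 => ?_, fun h2 => ?_⟩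
  · have := main 1 one_pos fun q j hq hd => by
      rcases bound q j hq hd (by omega) with ⟨e, _⟩ | ⟨e, _⟩ | ⟨e, _⟩ <;> omega
    simpa using this
  · exact main 2 two_pos fun q j hq hd => by
      rcases bound q j hq hd (by omega) with ⟨e, _⟩ | ⟨e, _⟩ | ⟨_, e⟩ <;> first | omega | exact e
  · exact main 3 (by omega) fun q j hq hd => by
      rcases bound q j hq hd (by omega) with ⟨e, _⟩ | ⟨_, e⟩ | ⟨e, _⟩ <;> first | omega | exact e
  · exact main 4 (by omega) fun q j hq hd => by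
      rcases bound q j hq hd (by omega) with ⟨_, e⟩ | ⟨e, _⟩ | ⟨e, _⟩ <;> first | omega | exact e

end Groth.Agent.S18598
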