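import Groth.Statements.S1860
import Groth.Agent.Cycles.CurveDegree
-- import your own Groth.Agent.* helpers here

set_option autoImplicit false
universe u
open CategoryTheory AlgebraicGeometry
open Cyc

namespace Groth.Agent.S1860

/-- Let X be an integral scheme of dimension 1 with a proper morphism c to Spec K, K a field, and f a
nonzero rational function on X. Then Σ_x [κ(x) : K] · ord_{O_{X,x}}(f) = 0, the sum over the closed
points x of X (a finite sum). -/
theorem result (K : Type u) [Field K] (X : Scheme.{u}) [IsIntegral X] (c : X ⟶ Spec (CommRingCat.of K)) [IsProper c] (hdim : topologicalKrullDim X = 1) (f : X.functionField) (hf : f ≠ 0) : ∑ᶠ (x : X) (_ : IsClosed ({x} : Set X)), (c.residueDegree x : ℤ) * CycAlg.ordFrac (X.presheaf.stalk x) X.functionField f = 0 := by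
  exact Groth.Cycles.finsum_eq_zero_of_proper_curve c hdim f hf

end Groth.Agent.S1860
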