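import Groth.Statements.S18600
import Mathlib.FieldTheory.IsAlgClosed.AlgebraicClosure
import Mathlib.RingTheory.IntegralClosure.IntegrallyClosed
import Mathlib.RingTheory.Polynomial.RationalRoot
import Mathlib.LinearAlgebra.Matrix.Charpoly.Basic


set_option autoImplicit false
universe v
open SSRed

namespace Groth.Agent.S18600

/-- Let n be a positive integer, g a natural number and f ∈ ℤ[x] a monic polynomial such that for every
prime ℓ dividing n there is a g × g matrix A_ℓ over ℤ_ℓ whose characteristic polynomial is f and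
such that (A_ℓ − 1)² lies in n·M_g(ℤ_ℓ). Then for every root α of f in a field of characteristic
zero and every square root s of n in that field, (α − 1)/s is integral over ℤ. (The published
statement is for matrices of size 2d and speaks of the eigenvalues of the A_ℓ, which are the roots
of their common characteristic polynomial f; the parity of the size plays no role.) -/
theorem result (n : ℕ) (hn : 0 < n) (g : ℕ) (f : Polynomial ℤ)
    (hf : f.Monic)
    (hA : ∀ (ℓ : ℕ) [Fact ℓ.Prime], ℓ ∣ n → ∃ A : Matrix (Fin g) (Fin g) ℤ_[ℓ],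
      A.charpoly = f.map (Int.castRingHom ℤ_[ℓ]) ∧
        ∃ B : Matrix (Fin g) (Fin g) ℤ_[ℓ], (A - 1) ^ 2 = (n : ℤ_[ℓ]) • B)
    (K : Type v) [Field K] [CharZero K] (α s : K) (hα : Polynomial.aeval α f = 0) (hs : s ^ 2 = (n : K)) :
    IsIntegral ℤ ((α - 1) / s) := by
  classical
  set y : K := (α - 1) ^ 2 / (n : K) with hy
  suffices hint : IsIntegral ℤ y by
    refine IsIntegral.of_pow (n := 2) (by norm_num) ?_
    rwa [div_pow, hs]
  have hαZ : IsIntegral ℤ α := ⟨f, hf, by rwa [← Polynomial.aeval_def]⟩
  have hαQ : IsIntegral ℚ α := hαZ.tower_top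
  let F := IntermediateField.adjoin ℚ ({α} : Set K)
  haveI : FiniteDimensional ℚ F := IntermediateField.adjoin.finiteDimensional hαQ
  haveI : Algebra.IsAlgebraic ℚ F := Algebra.IsAlgebraic.of_finite ℚ F
  let a : F := ⟨α, IntermediateField.mem_adjoin_simple_self ℚ α⟩
  let yF : F := (a - 1) ^ 2 / (n : F)
  have hyF : algebraMap F K yF = y := by
    simp [yF, hy, a, map_div₀, IntermediateField.algebraMap_apply]
  have hyQ : IsIntegral ℚ yF := IsIntegral.of_finite ℚ yF
  set m := minpoly ℚ yF with hm
  have hmon : m.Monic := minpoly.monic hyQ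
  have haf : Polynomial.aeval a f = 0 := by
    apply (algebraMap F K).injective
    rw [map_zero, ← Polynomial.aeval_algebraMap_apply]
    exact hα
  have hcoef : ∀ i, m.coeff i ∈ Set.range (Int.castRingHom ℚ) := by
    intro i
    refine ⟨(m.coeff i).num, ?_⟩
    have hden : (m.coeff i).den = 1 := by
      by_contra hne
      obtain ⟨ℓ, hℓ, hdvd⟩ := Nat.exists_prime_and_dvd hne
      haveI := Fact.mk hℓ
      let L := AlgebraicClosure ℚ_[ℓ]
      haveI : CharZero L := charZero_of_injective_algebraMap (algebraMap ℚ_[ℓ] L).injective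
      have key : ∀ b : L, Polynomial.aeval b f = 0 → IsIntegral ℤ_[ℓ] ((b - 1) ^ 2 / (n : L)) := by
        intro b hb
        by_cases hℓn : ℓ ∣ n
        · obtain ⟨A, hAf, B, hB⟩ := hA ℓ hℓn
          set φ := algebraMap ℤ_[ℓ] L
          refine ⟨B.charpoly, Matrix.charpoly_monic B, ?_⟩
          rw [Polynomial.eval₂_eq_eval_map, ← Matrix.charpoly_map]
          set γ : L := (b - 1) ^ 2 / (n : L)
          have hn0 : (n : L) ≠ 0 := Nat.cast_ne_zero.2 hn.ne'
          have hγ : (n : L) * γ = (b - 1) ^ 2 := mul_div_cancel₀ _ hn0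
          set A' : Matrix (Fin g) (Fin g) L := A.map φ with hA'
          set B' : Matrix (Fin g) (Fin g) L := B.map φ with hB'
          have hBA : (A' - 1) ^ 2 = (n : L) • B' := by
            have := congrArg φ.mapMatrix hB
            rw [map_pow, map_sub, map_one] at this
            rw [hA', hB']
            simp only [RingHom.mapMatrix_apply] at this
            rw [this]
            ext i j
            simp [Matrix.map_apply]
          have hdet : (Matrix.scalar (Fin g) b - A').det = 0 := by
            rw [← Matrix.eval_charpoly, hA', Matrix.charpoly_map, hAf, Polynomial.map_map,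
              Polynomial.eval_map, RingHom.ext_int (φ.comp (Int.castRingHom ℤ_[ℓ])) (algebraMap ℤ L),
              ← Polynomial.aeval_def, hb]
          have hfac : (n : L) • (Matrix.scalar (Fin g) γ - B') =
              (Matrix.scalar (Fin g) b - A') * (Matrix.scalar (Fin g) (b - 1) + (A' - 1)) := by
            have hc : Commute (Matrix.scalar (Fin g) (b - 1)) (A' - 1) :=
              Matrix.scalar_commute _ (fun _ => Commute.all _ _) _
            have h1 : (n : L) • Matrix.scalar (Fin g) γ = Matrix.scalar (Fin g) (b - 1) * Matrix.scalar (Fin g) (b - 1) := by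
              rw [← map_mul, ← sq, ← hγ]
              ext i j
              by_cases hij : i = j <;> simp [Matrix.scalar_apply, hij]
            rw [smul_sub, h1, ← hBA, sq, show Matrix.scalar (Fin g) b - A' = Matrix.scalar (Fin g) (b - 1) - (A' - 1) by
              rw [map_sub, map_one]; abel]
            exact hc.mul_self_sub_mul_self_eq'
          have hd := congrArg Matrix.det hfac
          rw [Matrix.det_smul, Matrix.det_mul, hdet, zero_mul] at hd
          rw [Matrix.eval_charpoly]
          exact (mul_eq_zero.1 hd).resolve_left (pow_ne_zero _ hn0)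
        · have hbint : IsIntegral ℤ_[ℓ] b := by
            refine ⟨f.map (Int.castRingHom ℤ_[ℓ]), hf.map _, ?_⟩
            rw [Polynomial.eval₂_map, RingHom.ext_int ((algebraMap ℤ_[ℓ] L).comp (Int.castRingHom ℤ_[ℓ])) (algebraMap ℤ L),
              ← Polynomial.aeval_def, hb]
          have hu : IsUnit ((n : ℤ) : ℤ_[ℓ]) := by
            rw [PadicInt.isUnit_iff]
            refine le_antisymm (PadicInt.norm_le_one _) (not_lt.1 ?_)
            rw [PadicInt.norm_int_lt_one_iff_dvd]
            exact_mod_cast hℓn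
          obtain ⟨uu, huu⟩ := hu
          have : (b - 1) ^ 2 / (n : L) = algebraMap ℤ_[ℓ] L (↑uu⁻¹) * (b - 1) ^ 2 := by
            have h1 : algebraMap ℤ_[ℓ] L (↑uu⁻¹) * (n : L) = 1 := by
              rw [← map_natCast (algebraMap ℤ_[ℓ] L) n, ← map_mul]
              have : ((n : ℕ) : ℤ_[ℓ]) = (uu : ℤ_[ℓ]) := by rw [huu]; simp
              rw [this, Units.inv_mul, map_one]
            have hn0 : (n : L) ≠ 0 := Nat.cast_ne_zero.2 hn.ne'
            rw [div_eq_iff hn0]
            linear_combination (-(b - 1) ^ 2) * h1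
          rw [this]
          exact (isIntegral_algebraMap).mul ((hbint.sub isIntegral_one).pow 2)
      have hroots : ∀ γ ∈ (m.map (algebraMap ℚ L)).roots, IsIntegral ℤ_[ℓ] γ := by
        intro γ hγ
        have hγ' : γ ∈ m.rootSet L := by
          rw [Polynomial.mem_rootSet_of_ne hmon.ne_zero, Polynomial.aeval_def, Polynomial.eval₂_eq_eval_map]
          exact (Polynomial.mem_roots (hmon.map _).ne_zero).1 hγ
        rw [hm, ← Algebra.IsAlgebraic.range_eval_eq_rootSet_minpoly L yF] at hγ'
        obtain ⟨ψ, rfl⟩ := hγ'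
        have : ψ yF = (ψ a - 1) ^ 2 / (n : L) := by simp [yF]
        show IsIntegral ℤ_[ℓ] (ψ yF)
        rw [this]
        refine key _ ?_
        have := congrArg ψ haf
        rw [map_zero] at this
        rw [← this]
        exact (Polynomial.aeval_algHom_apply (ψ.restrictScalars ℤ) a f)
      have hl : m.map (algebraMap ℚ L) ∈ Polynomial.lifts (integralClosure ℤ_[ℓ] L).val.toRingHom := by
        rw [(IsAlgClosed.splits (m.map (algebraMap ℚ L))).eq_prod_roots_of_monic (hmon.map _)]
        refine Subsemiring.multiset_prod_mem _ _ fun q hq => ?_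
        obtain ⟨γ, hγ, rfl⟩ := Multiset.mem_map.1 hq
        exact (Polynomial.mem_lifts _).2 ⟨Polynomial.X - Polynomial.C ⟨γ, hroots γ hγ⟩, by simp⟩
      obtain ⟨⟨c, hc⟩, hc'⟩ := (Polynomial.lifts_iff_coeff_lifts _).1 hl i
      have hc'' : c = algebraMap ℚ_[ℓ] L (m.coeff i : ℚ_[ℓ]) := by
        rw [Polynomial.coeff_map] at hc'
        simpa using hc'
      subst hc''
      have hci : IsIntegral ℤ_[ℓ] (m.coeff i : ℚ_[ℓ]) :=
        (isIntegral_algebraMap_iff (algebraMap ℚ_[ℓ] L).injective).1 hc
      obtain ⟨z, hz⟩ := IsIntegrallyClosed.isIntegral_iff.1 hci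
      set q := m.coeff i
      have hq1 : ‖(q : ℚ_[ℓ])‖ ≤ 1 := by rw [← hz]; exact PadicInt.norm_le_one z
      have hd1 : ‖((q.den : ℤ) : ℚ_[ℓ])‖ < 1 := by
        rw [Padic.norm_intCast_lt_one_iff]; exact_mod_cast hdvd
      have hnum : ‖(q.num : ℚ_[ℓ])‖ < 1 := by
        have he : (q.num : ℚ_[ℓ]) = (q : ℚ_[ℓ]) * ((q.den : ℤ) : ℚ_[ℓ]) := by
          have := congrArg (fun r : ℚ => (r : ℚ_[ℓ])) (Rat.mul_den_eq_num q)
          push_cast at this ⊢
          exact this.symm
        rw [he, norm_mul]
        exact lt_of_le_of_lt (mul_le_of_le_one_left (norm_nonneg _) hq1) hd1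
      rw [Padic.norm_intCast_lt_one_iff] at hnum
      have hnat : ℓ ∣ q.num.natAbs := Int.natCast_dvd.1 hnum
      exact hℓ.not_dvd_one (q.reduced ▸ Nat.dvd_gcd hnat hdvd)
    exact (Rat.den_eq_one_iff _).1 hden
  obtain ⟨q, hq, -, hqm⟩ := Polynomial.lifts_and_natDegree_eq_and_monic
    ((Polynomial.lifts_iff_coeff_lifts _).2 hcoef) hmon
  have hFint : IsIntegral ℤ yF := ⟨q, hqm, by
    have h0 := minpoly.aeval ℚ yF
    rw [← hm, ← hq, Polynomial.aeval_def, Polynomial.eval₂_map,
      RingHom.ext_int ((algebraMap ℚ F).comp (Int.castRingHom ℚ)) (algebraMap ℤ F)] at h0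
    exact h0⟩
  rw [← hyF]
  exact hFint.map (IntermediateField.val F |>.restrictScalars ℤ)

end Groth.Agent.S18600
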