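import Groth.Statements.S18614
import Mathlib.LinearAlgebra.Dual.Lemmas

set_option autoImplicit false
universe u v
open LinTop

namespace Groth.Agent.S18614

/-- Let k be a field carrying the discrete topology and M a separated topological k-module with a
k-linear topology (the open k-submodules form a basis of neighbourhoods of zero and M is a
topological additive group). For a closed submodule M₁, the perpendicular of the perpendicular of
M₁, both taken with respect to the pairing of M with its continuous dual (the continuous k-linear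
maps M → k), is M₁ itself: an element killed by every continuous functional vanishing on M₁ belongs
to M₁. -/
theorem result (k : Type u) (M : Type v) [Field k]
    [TopologicalSpace k] [DiscreteTopology k] [AddCommGroup M] [Module k M] [TopologicalSpace M]
    [IsTopologicalAddGroup M] [IsLinearTopology k M] [T2Space M]
    (M₁ : Submodule k M) (hM₁ : IsClosed (M₁ : Set M)) (x : M)
    (hx : ∀ φ : M →L[k] k, (∀ m ∈ M₁, φ m = 0) → φ x = 0) : x ∈ M₁ := by
  by_contra hx'
  have : IsOpen (M₁ : Set M)ᶜ := hM₁.isOpen_compl
  have hs : (fun z => x + z) ⁻¹' (M₁ : Set M)ᶜ ∈ nhds (0 : M) :=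
    (this.preimage (continuous_const_add x)).mem_nhds (by simpa using hx')
  obtain ⟨W, hW, hWs⟩ := (IsLinearTopology.hasBasis_open_submodule k).mem_iff.mp hs
  have hxW : x ∉ M₁ ⊔ W := fun h => by
    obtain ⟨m, hm, w, hw, hmw⟩ := Submodule.mem_sup.mp h
    refine hWs (W.neg_mem hw) ?_
    show x + -w ∈ M₁
    rw [← hmw]; simpa using hm
  have hp : (M₁ ⊔ W).mkQ x ≠ 0 := by simpa using hxW
  obtain ⟨f, hf⟩ := Module.Projective.exists_dual_ne_zero k hp
  let φ : M →ₗ[k] k := f.comp (M₁ ⊔ W).mkQ
  have hker : ∀ m ∈ M₁ ⊔ W, φ m = 0 := fun m hm => by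
    simp [φ, (Submodule.Quotient.mk_eq_zero _).mpr hm]
  have hcont : Continuous φ := by
    refine continuous_of_continuousAt_zero φ ?_
    rw [ContinuousAt, map_zero, nhds_discrete k, Filter.tendsto_pure]
    exact Filter.mem_of_superset (hW.mem_nhds W.zero_mem) fun m hm => hker m (le_sup_right (a := M₁) hm)
  have := hx ⟨φ, hcont⟩ fun m hm => hker m (le_sup_left (b := W) hm)
  rw [show (⟨φ, hcont⟩ : M →L[k] k) x = f ((M₁ ⊔ W).mkQ x) from rfl] at this
  exact hf this

end Groth.Agent.S18614
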