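import Groth.Statements.S18615
import Groth.Agent.AdicLinTop.ProCompl

set_option autoImplicit false
universe u v
open LinTop

namespace Groth.Agent.S18615

/-- Let k be a field carrying the discrete topology and M a separated topological k-module with a
k-linear topology (open k-submodules form a basis of neighbourhoods of zero, M a topological
additive group). For closed submodules M₁ ⊆ M₂ there is a short exact sequence 0 → M₂^⊥ → M₁^⊥ →
(M₂/M₁)^* → 0 of plain k-modules, where ⊥ denotes the annihilator in the continuous dual of M and *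
the continuous dual. Stated here as its one non-formal part, surjectivity on the right: every
continuous functional on M₂ (subspace topology) that vanishes on M₁ is the restriction of a
continuous functional on M vanishing on M₁ (continuous functionals on M₂/M₁ being the continuous
functionals on M₂ that kill M₁). -/
theorem result (k : Type u) (M : Type v) [Field k]
    [TopologicalSpace k] [DiscreteTopology k] [AddCommGroup M] [Module k M] [TopologicalSpace M]
    [IsTopologicalAddGroup M] [IsLinearTopology k M] [T2Space M]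
    (M₁ M₂ : Submodule k M) (h₁₂ : M₁ ≤ M₂) (hM₁ : IsClosed (M₁ : Set M))
    (hM₂ : IsClosed (M₂ : Set M)) (ψ : M₂ →L[k] k)
    (hψ : ∀ m : M₂, (m : M) ∈ M₁ → ψ m = 0) :
    ∃ φ : M →L[k] k, (∀ m ∈ M₁, φ m = 0) ∧ ∀ m : M₂, φ (m : M) = ψ m := by
  have hker : (ψ : M₂ → k) ⁻¹' {0} ∈ nhds (0 : M₂) :=
    ((isOpen_discrete _).preimage ψ.continuous).mem_nhds (map_zero ψ)
  rw [nhds_subtype, ZeroMemClass.coe_zero] at hker
  obtain ⟨s, hs, hsub⟩ := hker
  obtain ⟨W, hW, hWs⟩ := (IsLinearTopology.hasBasis_open_submodule k).mem_iff.mp hs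
  let K : Submodule k M := M₁ ⊔ W
  let j : M₂ →ₗ[k] M ⧸ K := K.mkQ.comp M₂.subtype
  have hle : LinearMap.ker j ≤ LinearMap.ker (ψ : M₂ →ₗ[k] k) := by
    intro m hm
    have hmK : (m : M) ∈ M₁ ⊔ W := (Submodule.Quotient.mk_eq_zero _).mp hm
    obtain ⟨a, ha, w, hw, haw⟩ := Submodule.mem_sup.mp hmK
    have hw2 : w ∈ M₂ := by
      have : w = (m : M) - a := by rw [← haw, add_sub_cancel_left]
      rw [this]
      exact M₂.sub_mem m.2 (h₁₂ ha)
    have hm' : m = ⟨a, h₁₂ ha⟩ + ⟨w, hw2⟩ := Subtype.ext haw.symm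
    rw [LinearMap.mem_ker, ContinuousLinearMap.coe_coe, hm', map_add, hψ _ ha, zero_add]
    exact hsub (show (⟨w, hw2⟩ : M₂) ∈ Subtype.val ⁻¹' s from hWs hw)
  obtain ⟨g, hg⟩ := LinearMap.exists_extend
    (((LinearMap.ker j).liftQ _ hle).comp j.quotKerEquivRange.symm.toLinearMap)
  let φ : M →ₗ[k] k := g.comp K.mkQ
  have hzero : ∀ m ∈ K, φ m = 0 := fun m hm => by
    simp [φ, (Submodule.Quotient.mk_eq_zero _).mpr hm]
  have hcont : Continuous φ := by
    refine continuous_of_continuousAt_zero φ ?_
    rw [ContinuousAt, map_zero, nhds_discrete k, Filter.tendsto_pure]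
    exact Filter.mem_of_superset (hW.mem_nhds W.zero_mem) fun m hm => hzero m (le_sup_right (a := M₁) hm)
  refine ⟨⟨φ, hcont⟩, fun m hm => hzero m (le_sup_left (b := W) hm), fun m => ?_⟩
  have h := LinearMap.congr_fun hg ⟨j m, LinearMap.mem_range_self j m⟩
  simp only [LinearMap.comp_apply, Submodule.subtype_apply, LinearEquiv.coe_coe] at h
  show g (j m) = ψ m
  rw [h]
  simp

end Groth.Agent.S18615
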