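import Groth.Statements.S18616
import Groth.Agent.DR.Contract
import Mathlib.RingTheory.MvPowerSeries.Derivative
import Mathlib.LinearAlgebra.ExteriorPower.Basis

set_option autoImplicit false
universe u
open DeRham

namespace Groth.Agent.S18616

open exteriorPower in
/-- The formal Poincaré lemma. The published statement is that for a complete separated linearly
topologized commutative algebra K over a field k of characteristic zero the inclusion of the
separated de Rham complex of K into that of K[[t_1, ..., t_n]] is a quasi-isomorphism; this row is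
the case K = k in positive degrees. Concretely: k is a field of characteristic 0, σ is finite, A =
k[[σ]]; the separated differentials are modelled by the free A-module of functions σ → A (the
coordinate dt_i being the i-th basis vector) with the derivation δ whose components are the formal
partial derivatives, so that δ(A) generates it; d is any family of k-linear maps between consecutive
exterior powers of this module over A satisfying the de Rham rule with d ∘ d = 0. Then for every p ≥
1 the closed p-forms are exact. (Degree zero, that a power series with all partial derivatives zero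
is constant, is omitted.) -/
theorem result (k : Type u) [Field k] [CharZero k]
    (σ : Type u) [Finite σ]
    (δ : Derivation k (MvPowerSeries σ k) (σ → MvPowerSeries σ k))
    (hδ : ∀ (f : MvPowerSeries σ k) (i : σ), δ f i = MvPowerSeries.pderiv k i f)
    (hgen : Submodule.span (MvPowerSeries σ k) (Set.range δ) = ⊤)
    (d : ∀ p : ℕ, ↥(⋀[MvPowerSeries σ k]^p (σ → MvPowerSeries σ k)) →ₗ[k]
      ↥(⋀[MvPowerSeries σ k]^(p + 1) (σ → MvPowerSeries σ k)))
    (hd : DeRham.IsDiff δ d) (p : ℕ) :
    DeRham.cocycles d (p + 1) ≤ DeRham.coboundaries d (p + 1) := by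
  classical
  haveI := Fintype.ofFinite σ
  letI : LinearOrder σ := linearOrderOfSTO WellOrderingRel
  let A := MvPowerSeries σ k
  let θ : (σ → A) →ₗ[A] A := ∑ i, (MvPowerSeries.X i : A) • LinearMap.proj i
  let deg : (σ →₀ ℕ) → ℕ := fun n => ∑ i, n i
  -- the Euler derivation in coefficients
  have hθ : ∀ (f : A) (n : σ →₀ ℕ),
      MvPowerSeries.coeff n (θ (δ f)) = (deg n : k) * MvPowerSeries.coeff n f := by
    intro f n
    simp only [θ, LinearMap.sum_apply, LinearMap.smul_apply, LinearMap.proj_apply, hδ, smul_eq_mul,
      map_sum, deg, Nat.cast_sum, Finset.sum_mul]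
    refine Finset.sum_congr rfl fun i _ => ?_
    rw [MvPowerSeries.X_def, MvPowerSeries.coeff_monomial_mul]
    split_ifs with h
    · have h1 : 1 ≤ n i := by simpa using h i
      rw [MvPowerSeries.coeff_pderiv, tsub_add_cancel_of_le h, one_mul, mul_comm]
      congr 1
      rw [Finsupp.tsub_apply, Finsupp.single_eq_same, Nat.cast_sub h1]
      simp
    · have h0 : n i = 0 := by
        by_contra h0
        exact h (Finsupp.single_le_iff.2 (Nat.one_le_iff_ne_zero.2 h0))
      simp [h0]
  have hXi : ∀ i, δ (MvPowerSeries.X i) = (Pi.single i 1 : σ → A) := by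
    intro i
    funext j
    rw [hδ]
    rcases eq_or_ne j i with rfl | hj
    · simp
    · rw [Pi.single_eq_of_ne hj]
      ext n
      rw [MvPowerSeries.coeff_pderiv, MvPowerSeries.coeff_X, if_neg, zero_mul, map_zero]
      intro h
      have := DFunLike.congr_fun h j
      simp [Finsupp.single_apply, hj.symm] at this
  let b : Module.Basis σ A (σ → A) := Pi.basisFun A σ
  -- the Lie derivative in coordinates
  let T : ℕ → A → A := fun q f =>
    fun n => ((deg n : k) + (q + 1)) * MvPowerSeries.coeff n f
  let T' : ℕ → A → A := fun q f =>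
    fun n => ((deg n : k) + (q + 1))⁻¹ * MvPowerSeries.coeff n f
  have hTc : ∀ q f n, MvPowerSeries.coeff n (T q f) =
      ((deg n : k) + (q + 1)) * MvPowerSeries.coeff n f := fun _ _ _ => rfl
  have hT'c : ∀ q f n, MvPowerSeries.coeff n (T' q f) =
      ((deg n : k) + (q + 1))⁻¹ * MvPowerSeries.coeff n f := fun _ _ _ => rfl
  have hne : ∀ (q : ℕ) n, ((deg n : k) + (q + 1)) ≠ 0 := fun q n => by
    rw [← add_assoc, ← Nat.cast_add]; exact Nat.cast_add_one_ne_zero _
  have hTT' : ∀ q f, T q (T' q f) = f := fun q f => by
    ext n; rw [hTc, hT'c, mul_inv_cancel_left₀ (hne q n)]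
  have hTinj : ∀ q f, T q f = 0 → f = 0 := fun q f h => by
    ext n
    have := congrArg (MvPowerSeries.coeff n) h
    rw [hTc, map_zero, mul_eq_zero] at this
    rw [map_zero]
    exact this.resolve_left (hne q n)
  have hlie : ∀ (q : ℕ) (S : Set.powersetCard σ (q + 1)) (f : A),
      Groth.DR.lie d θ q (f • (b.exteriorPower (q + 1)) S) =
        T q f • (b.exteriorPower (q + 1)) S := by
    intro q S f
    have hb : ∀ c : A, c • (b.exteriorPower (q + 1)) S = DeRham.gen δ (q + 1) c
        (MvPowerSeries.X ∘ (Set.powersetCard.ofFinEmbEquiv.symm S)) := by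
      intro c
      rw [exteriorPower.basis_apply, DeRham.gen, exteriorPower.ιMulti_family]
      congr 2
      funext i
      simp [b, hXi]
    rw [hb, hb, Groth.DR.lie_gen hgen hd.1 θ f _ (fun _ => 1)]
    · congr 1
      ext n
      rw [map_add, hθ, hTc, ← Algebra.smul_def, map_smul, smul_eq_mul, Finset.sum_const,
        Finset.card_univ, Fintype.card_fin, add_mul, nsmul_one, Nat.cast_succ]
    · intro i
      rw [map_one, one_mul, Function.comp_apply, hXi]
      simp [θ]
      rw [Finset.sum_eq_single (Set.powersetCard.ofFinEmbEquiv.symm S i)]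
      · simp
      · intro j _ hj; simp [Pi.single_eq_of_ne hj]
      · simp
  have hrepr : ∀ (q : ℕ) (x : ↥(⋀[A]^(q + 1) (σ → A))),
      Groth.DR.lie d θ q x = ∑ S, T q ((b.exteriorPower (q + 1)).repr x S) •
        (b.exteriorPower (q + 1)) S := by
    intro q x
    conv_lhs => rw [← (b.exteriorPower (q + 1)).sum_repr x]
    rw [map_sum]
    exact Finset.sum_congr rfl fun S _ => hlie q S _
  have hinj : ∀ (q : ℕ) (x : ↥(⋀[A]^(q + 1) (σ → A))), Groth.DR.lie d θ q x = 0 → x = 0 := by
    intro q x hx
    rw [hrepr] at hx
    refine (b.exteriorPower (q + 1)).ext_elem fun S => ?_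
    rw [map_zero, Finsupp.zero_apply]
    refine hTinj q _ ?_
    have := congrArg (fun z => (b.exteriorPower (q + 1)).repr z S) hx
    simp only [map_sum, map_smul, Module.Basis.repr_self, map_zero, Finsupp.coe_finsetSum,
      Finset.sum_apply, Finsupp.smul_apply, Finsupp.single_apply, smul_eq_mul, mul_ite, mul_one,
      mul_zero, Finset.sum_ite_eq', Finset.mem_univ, if_true, Finsupp.coe_zero, Pi.zero_apply]
      at this
    exact this
  intro y hy
  have hy' : d (p + 1) y = 0 := hy
  let y' : ↥(⋀[A]^(p + 1) (σ → A)) :=
    ∑ S, T' p ((b.exteriorPower (p + 1)).repr y S) • (b.exteriorPower (p + 1)) S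
  have hy'L : Groth.DR.lie d θ p y' = y := by
    rw [map_sum]
    conv_rhs => rw [← (b.exteriorPower (p + 1)).sum_repr y]
    exact Finset.sum_congr rfl fun S _ => by rw [hlie, hTT']
  have hdy' : d (p + 1) y' = 0 :=
    hinj (p + 1) _ (by rw [← Groth.DR.lie_comm hgen hd.1, hy'L, hy'])
  refine ⟨Groth.DR.contr θ p y', ?_⟩
  rw [← hy'L, Groth.DR.lie_apply, hdy', map_zero, add_zero]

end Groth.Agent.S18616
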