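import Groth.Statements.S18617
-- import your own Groth.Agent.* helpers here

set_option autoImplicit false
universe u
open LocRes

namespace Groth.Agent.S18617

/-- The published statement is that, for a complete separated linearly topologized commutative algebra K
over a field of characteristic zero, the separated de Rham complex of K tensored with the exterior
algebra on symbols α_1, ..., α_n maps quasi-isomorphically to the separated de Rham complex of the
iterated Laurent series ring K((t_1, ..., t_n)), α_i going to dlog t_i; this row is the case K = k
and n = 1, unpacked: over a field k of characteristic 0, a formal Laurent series f in k((t)) has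
term-by-term derivative zero if and only if it is the constant series on its coefficient of degree
0, and a Laurent series g is the derivative of some Laurent series if and only if its residue (the
coefficient of t⁻¹) vanishes; so H⁰ of the complex k((t)) → k((t)) dt is k and H¹ is the line
spanned by the class of dt/t, on which the residue is 1. -/
theorem result (k : Type u) [Field k] [CharZero k] :
    (∀ f : LaurentSeries k, LocRes.D k f = 0 ↔ f = HahnSeries.C (f.coeff 0)) ∧
      ∀ g : LaurentSeries k, (∃ f : LaurentSeries k, LocRes.D k f = g) ↔ LocRes.res k g = 0 := by
  constructor
  · intro f
    constructor
    · intro h
      ext n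
      rcases eq_or_ne n 0 with rfl | hn
      · simp
      · have := congrArg (fun g : LaurentSeries k => g.coeff (n - 1)) h
        simp [LocRes.derivative_coeff, hn] at this
        simp [hn, this]
    · intro h; rw [h]; exact LocRes.derivative_C k _
  · intro g
    constructor
    · rintro ⟨f, rfl⟩
      simp [LocRes.derivative_coeff]
    · intro hg
      have hb : BddBelow (Function.support fun n : ℤ => g.coeff (n - 1) / (n : k)) := by
        refine ⟨g.order + 1, fun n hn => ?_⟩
        simp only [Function.mem_support, ne_eq, div_eq_zero_iff, not_or] at hn
        have := HahnSeries.order_le_of_coeff_ne_zero hn.1
        omega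
      refine ⟨HahnSeries.ofSuppBddBelow _ hb, ?_⟩
      ext n
      rcases eq_or_ne n (-1) with rfl | hn
      · simp [LocRes.derivative_coeff]; exact (by simpa using hg.symm)
      · have : ((n : k) + 1) ≠ 0 := by exact_mod_cast (show n + 1 ≠ 0 by omega)
        simp [LocRes.derivative_coeff, zsmul_eq_mul]
        field_simp

end Groth.Agent.S18617
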