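import Groth.Statements.S18627
import Groth.Agent.Curves2.Quadric
-- import your own Groth.Agent.* helpers here

set_option autoImplicit false
universe u
open VBPn

namespace Groth.Agent.S18627

open CategoryTheory CategoryTheory.Limits AlgebraicGeometry TopologicalSpace in
/-- Let k be an algebraically closed field of characteristic zero and X = P¹_k ×_k P¹_k the smooth
quadric surface, O(a, b) = pr₁^*O(a) ⊗ pr₂^*O(b), polarised by the anticanonical module H = O(2, 2)
(which embeds X in P⁸). Let r ≥ 2 and let m : Q₁ ⊞ Q₂ → P be an epimorphism of O_X-modules with Q₁ ≅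
O(1,0)^r, Q₂ ≅ O(0,1)^r and P ≅ O(1,1)^r whose induced map H^0(X, Q₁ ⊞ Q₂) → H^0(X, P) is
surjective, and F = ker m (a vector bundle of rank r). Then H^0(X, F) = 0, H^1(X, F) = 0, H^2(X, F ⊗
O(−2,−2)) = 0, and H^1(X, F ⊗ O(2t, 2t)) = 0 for every t ∈ ℤ. (The published statement says that
E(H) is an initialized Ulrich bundle for E = F^∨; by Serre duality on X, whose canonical module is
O(−2,−2), its vanishing part, that E has no intermediate cohomology in any twist by H, is equivalent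
to the H^1-vanishings stated here, and its statement that E is initialized, H^0(X, E) = 0, to the
H^2-vanishing; the argument establishes the vanishings for F and for E symmetrically; the count
h^0(E(H)) = 8r is not restated.) -/
theorem result (k : Type u) [Field k] [IsAlgClosed k] [CharZero k]
    (r : ℕ) (hr : 2 ≤ r) (Q₁ Q₂ P₂ : (pullback (CohB1.ProjSpace.toSpec 1 k) (CohB1.ProjSpace.toSpec 1 k)).Modules)
    (hQ₁ : Nonempty (Q₁ ≅ ∐ fun _ : Fin r => CohB1.tensorMod
        ((Scheme.Modules.pullback (pullback.fst (CohB1.ProjSpace.toSpec 1 k) (CohB1.ProjSpace.toSpec 1 k))).obj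
          (Twist.twistProjSpace 1 k (1)))
        ((Scheme.Modules.pullback (pullback.snd (CohB1.ProjSpace.toSpec 1 k) (CohB1.ProjSpace.toSpec 1 k))).obj
          (Twist.twistProjSpace 1 k (0)))))
    (hQ₂ : Nonempty (Q₂ ≅ ∐ fun _ : Fin r => CohB1.tensorMod
        ((Scheme.Modules.pullback (pullback.fst (CohB1.ProjSpace.toSpec 1 k) (CohB1.ProjSpace.toSpec 1 k))).obj
          (Twist.twistProjSpace 1 k (0)))
        ((Scheme.Modules.pullback (pullback.snd (CohB1.ProjSpace.toSpec 1 k) (CohB1.ProjSpace.toSpec 1 k))).obj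
          (Twist.twistProjSpace 1 k (1)))))
    (hP₂ : Nonempty (P₂ ≅ ∐ fun _ : Fin r => CohB1.tensorMod
        ((Scheme.Modules.pullback (pullback.fst (CohB1.ProjSpace.toSpec 1 k) (CohB1.ProjSpace.toSpec 1 k))).obj
          (Twist.twistProjSpace 1 k (1)))
        ((Scheme.Modules.pullback (pullback.snd (CohB1.ProjSpace.toSpec 1 k) (CohB1.ProjSpace.toSpec 1 k))).obj
          (Twist.twistProjSpace 1 k (1)))))
    (m : Q₁ ⊞ Q₂ ⟶ P₂) [Epi m]
    (hm0 : Function.Surjective (Sheaf.H.map ((SheafOfModules.toSheaf _).map m) 0)) :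
    Subsingleton (Coh.HH _ (kernel m) 0) ∧ Subsingleton (Coh.HH _ (kernel m) 1) ∧
      Subsingleton (Coh.HH _ (CohB1.tensorMod (kernel m) (CohB1.tensorMod
        ((Scheme.Modules.pullback (pullback.fst (CohB1.ProjSpace.toSpec 1 k) (CohB1.ProjSpace.toSpec 1 k))).obj
          (Twist.twistProjSpace 1 k (-2)))
        ((Scheme.Modules.pullback (pullback.snd (CohB1.ProjSpace.toSpec 1 k) (CohB1.ProjSpace.toSpec 1 k))).obj
          (Twist.twistProjSpace 1 k (-2))))) 2) ∧
      ∀ t : ℤ, Subsingleton (Coh.HH _ (CohB1.tensorMod (kernel m) (CohB1.tensorMod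
        ((Scheme.Modules.pullback (pullback.fst (CohB1.ProjSpace.toSpec 1 k) (CohB1.ProjSpace.toSpec 1 k))).obj
          (Twist.twistProjSpace 1 k (2 * t)))
        ((Scheme.Modules.pullback (pullback.snd (CohB1.ProjSpace.toSpec 1 k) (CohB1.ProjSpace.toSpec 1 k))).obj
          (Twist.twistProjSpace 1 k (2 * t))))) 1) := by
  classical
  haveI : HasFiniteBiproducts (Groth.Curves2.Quadric.Q k).Modules := HasFiniteBiproducts.of_hasFiniteProducts
  obtain ⟨i₁⟩ := hQ₁
  obtain ⟨i₂⟩ := hQ₂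
  obtain ⟨i₃⟩ := hP₂
  let S : ShortComplex (Groth.Curves2.Quadric.Q k).Modules := ShortComplex.mk (kernel.ι m) m (kernel.condition m)
  have hS : S.ShortExact :=
    { exact := ShortComplex.exact_of_f_is_kernel _ (kernelIsKernel m)
      mono_f := inferInstanceAs (Mono (kernel.ι m))
      epi_g := inferInstanceAs (Epi m) }
  have vanQ : ∀ (n : ℕ) (a b : ℤ),
      Subsingleton (Coh.HH _ (Groth.Curves2.Quadric.O2 k (1 + a) b) n) →
      Subsingleton (Coh.HH _ (Groth.Curves2.Quadric.O2 k a (1 + b)) n) →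
      Subsingleton (Coh.HH _ (CohB1.tensorMod (Q₁ ⊞ Q₂) (Groth.Curves2.Quadric.O2 k a b)) n) := by
    intro n a b h₁ h₂
    let G := DCoh.tensorRightMod (Groth.Curves2.Quadric.O2 k a b)
    obtain ⟨e₁⟩ := Groth.Curves2.Quadric.nonempty_O2_tensor k 1 0 a b
    obtain ⟨e₂⟩ := Groth.Curves2.Quadric.nonempty_O2_tensor k 0 1 a b
    rw [zero_add] at e₁
    rw [zero_add] at e₂
    refine Groth.Curves2.Quadric.subsingleton_biprod k G Q₁ Q₂ ?_ ?_
    · exact Groth.Curves2.Quadric.subsingleton_of_iso k (G.mapIso (i₁ ≪≫ (biproduct.isoCoproduct _).symm))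
        (Groth.Curves2.Quadric.subsingleton_biproduct k G _ fun _ =>
          Groth.Curves2.Quadric.subsingleton_of_iso k e₁ h₁)
    · exact Groth.Curves2.Quadric.subsingleton_of_iso k (G.mapIso (i₂ ≪≫ (biproduct.isoCoproduct _).symm))
        (Groth.Curves2.Quadric.subsingleton_biproduct k G _ fun _ =>
          Groth.Curves2.Quadric.subsingleton_of_iso k e₂ h₂)
  have vanP : ∀ (n : ℕ) (a b : ℤ),
      Subsingleton (Coh.HH _ (Groth.Curves2.Quadric.O2 k (1 + a) (1 + b)) n) →
      Subsingleton (Coh.HH _ (CohB1.tensorMod P₂ (Groth.Curves2.Quadric.O2 k a b)) n) := by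
    intro n a b h
    let G := DCoh.tensorRightMod (Groth.Curves2.Quadric.O2 k a b)
    obtain ⟨e⟩ := Groth.Curves2.Quadric.nonempty_O2_tensor k 1 1 a b
    exact Groth.Curves2.Quadric.subsingleton_of_iso k (G.mapIso (i₃ ≪≫ (biproduct.isoCoproduct _).symm))
      (Groth.Curves2.Quadric.subsingleton_biproduct k G _ fun _ =>
        Groth.Curves2.Quadric.subsingleton_of_iso k e h)
  have hT : ∀ a b : ℤ, (S.map (DCoh.tensorRightMod (Groth.Curves2.Quadric.O2 k a b))).ShortExact := fun a b =>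
    Groth.PicAux.shortExact_tensorRightMod (Groth.Curves2.Quadric.isInvertible_O2 k a b) hS
  -- `H²` of the twists of the kernel
  have hF2 : ∀ a b : ℤ, -2 ≤ a → -2 ≤ b →
      Subsingleton (Coh.HH _ (CohB1.tensorMod (kernel m) (Groth.Curves2.Quadric.O2 k a b)) 2) := fun a b ha hb =>
    Groth.Curves2.Quadric.subsingleton_left k (hT a b) (n := 1)
      (vanP 1 a b (Groth.Curves2.Quadric.subsingleton_O2 k 1 _ _ fun p q hpq => by omega))
      (vanQ 2 a b (Groth.Curves2.Quadric.subsingleton_O2 k 2 _ _ fun p q hpq => by omega)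
        (Groth.Curves2.Quadric.subsingleton_O2 k 2 _ _ fun p q hpq => by omega))
  obtain ⟨e00⟩ := Groth.Curves2.Quadric.nonempty_O2_zero k
  let u : CohB1.tensorMod (kernel m) (Groth.Curves2.Quadric.O2 k 0 0) ≅ kernel m :=
    PicGrp.tensorModIso (Iso.refl _) e00 ≪≫ SecTwist.unitorR _
  let uQ : CohB1.tensorMod (Q₁ ⊞ Q₂) (Groth.Curves2.Quadric.O2 k 0 0) ≅ Q₁ ⊞ Q₂ :=
    PicGrp.tensorModIso (Iso.refl _) e00 ≪≫ SecTwist.unitorR _
  have hQ1z : Subsingleton (Coh.HH _ (Q₁ ⊞ Q₂) 1) :=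
    Groth.Curves2.Quadric.subsingleton_of_iso k uQ.symm (vanQ 1 0 0
      (Groth.Curves2.Quadric.subsingleton_O2 k 1 _ _ fun p q hpq => by omega)
      (Groth.Curves2.Quadric.subsingleton_O2 k 1 _ _ fun p q hpq => by omega))
  have hsurj : Function.Surjective (Groth.EulerDeg.hMap k S.g 0) := hm0
  have hF1 : Subsingleton (Coh.HH _ (kernel m) 1) := by
    refine subsingleton_of_forall_eq 0 fun z => ?_
    obtain ⟨y, rfl⟩ := ((Groth.EulerDeg.exact_left k hS 0) z).1
      (@Subsingleton.elim _ hQ1z _ _)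
    exact ((Groth.EulerDeg.exact_right k hS 0) y).2 (hsurj y)
  -- global sections
  have hdim : Module.finrank k (Coh.HH _ (Q₁ ⊞ Q₂) 0) = Module.finrank k (Coh.HH _ P₂ 0) ∧
      Module.Finite k (Coh.HH _ (Q₁ ⊞ Q₂) 0) ∧ Module.Finite k (Coh.HH _ P₂ 0) := by
    have hfin : ∀ a b : ℤ, Module.Finite k (Coh.HH _ (Groth.Curves2.Quadric.O2 k a b) 0) := fun a b =>
      Groth.EulerDeg.finite_HH k _ (Groth.EulerDeg.isCoh_of_isInvertible
        (Groth.Curves2.Quadric.isInvertible_O2 k a b)) 0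
    haveI := hfin 1 0
    haveI := hfin 0 1
    haveI := hfin 1 1
    haveI := hfin 0 0
    have h₁₀ : Module.finrank k (Coh.HH _ (Groth.Curves2.Quadric.O2 k 1 0) 0) =
        Module.finrank k (Fin 2 → Coh.HH _ (Groth.Curves2.Quadric.O2 k 0 0) 0) :=
      Groth.Curves2.Quadric.finrank_h0_step k (Groth.Curves2.Quadric.p₁ k)
        (Groth.Curves2.Quadric.isInvertible_O2 k 1 0)
        (Groth.Curves2.Quadric.nonempty_fst_tensor k (-2) 1 0)
        (by simpa using Groth.Curves2.Quadric.nonempty_fst_tensor k (-1) 1 0)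
        (by simpa using Groth.Curves2.Quadric.nonempty_fst_tensor k 0 1 0)
        (Groth.Curves2.Quadric.subsingleton_O2 k 0 _ _ fun p q hpq => by omega)
        (Groth.Curves2.Quadric.subsingleton_O2 k 1 _ _ fun p q hpq => by omega)
    have h₀₁ : Module.finrank k (Coh.HH _ (Groth.Curves2.Quadric.O2 k 0 1) 0) =
        Module.finrank k (Fin 2 → Coh.HH _ (Groth.Curves2.Quadric.O2 k 0 0) 0) :=
      Groth.Curves2.Quadric.finrank_h0_step k (Groth.Curves2.Quadric.p₂ k)
        (Groth.Curves2.Quadric.isInvertible_O2 k 0 1)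
        (Groth.Curves2.Quadric.nonempty_snd_tensor k (-2) 0 1)
        (by simpa using Groth.Curves2.Quadric.nonempty_snd_tensor k (-1) 0 1)
        (by simpa using Groth.Curves2.Quadric.nonempty_snd_tensor k 0 0 1)
        (Groth.Curves2.Quadric.subsingleton_O2 k 0 _ _ fun p q hpq => by omega)
        (Groth.Curves2.Quadric.subsingleton_O2 k 1 _ _ fun p q hpq => by omega)
    have h₁₁ : Module.finrank k (Coh.HH _ (Groth.Curves2.Quadric.O2 k 1 1) 0) =
        Module.finrank k (Fin 2 → Coh.HH _ (Groth.Curves2.Quadric.O2 k 0 1) 0) :=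
      Groth.Curves2.Quadric.finrank_h0_step k (Groth.Curves2.Quadric.p₁ k)
        (Groth.Curves2.Quadric.isInvertible_O2 k 1 1)
        (Groth.Curves2.Quadric.nonempty_fst_tensor k (-2) 1 1)
        (by simpa using Groth.Curves2.Quadric.nonempty_fst_tensor k (-1) 1 1)
        (by simpa using Groth.Curves2.Quadric.nonempty_fst_tensor k 0 1 1)
        (Groth.Curves2.Quadric.subsingleton_O2 k 0 _ _ fun p q hpq => by omega)
        (Groth.Curves2.Quadric.subsingleton_O2 k 1 _ _ fun p q hpq => by omega)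
    obtain ⟨c₁⟩ : Nonempty (Coh.HH _ (⨁ fun _ : Fin r => Groth.Curves2.Quadric.O2 k 1 0) 0 ≃ₗ[k]
        (Fin r → Coh.HH _ (Groth.Curves2.Quadric.O2 k 1 0) 0)) :=
      Groth.Curves2.Quadric.nonempty_equiv_biproduct k (𝟭 _) _
    obtain ⟨c₂⟩ : Nonempty (Coh.HH _ (⨁ fun _ : Fin r => Groth.Curves2.Quadric.O2 k 0 1) 0 ≃ₗ[k]
        (Fin r → Coh.HH _ (Groth.Curves2.Quadric.O2 k 0 1) 0)) :=
      Groth.Curves2.Quadric.nonempty_equiv_biproduct k (𝟭 _) _
    obtain ⟨c₃⟩ : Nonempty (Coh.HH _ (⨁ fun _ : Fin r => Groth.Curves2.Quadric.O2 k 1 1) 0 ≃ₗ[k]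
        (Fin r → Coh.HH _ (Groth.Curves2.Quadric.O2 k 1 1) 0)) :=
      Groth.Curves2.Quadric.nonempty_equiv_biproduct k (𝟭 _) _
    obtain ⟨c⟩ := Groth.Curves2.Quadric.nonempty_equiv_biprod k (n := 0) Q₁ Q₂
    let c₁' := Groth.EulerDeg.hEquiv k (i₁ ≪≫ (biproduct.isoCoproduct _).symm) 0 ≪≫ₗ c₁
    let c₂' := Groth.EulerDeg.hEquiv k (i₂ ≪≫ (biproduct.isoCoproduct _).symm) 0 ≪≫ₗ c₂
    let c₃' := Groth.EulerDeg.hEquiv k (i₃ ≪≫ (biproduct.isoCoproduct _).symm) 0 ≪≫ₗ c₃
    let c' := c ≪≫ₗ c₁'.prodCongr c₂'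
    refine ⟨?_, Module.Finite.equiv c'.symm, Module.Finite.equiv c₃'.symm⟩
    rw [c'.finrank_eq, c₃'.finrank_eq, Module.finrank_prod]
    simp only [Module.finrank_pi_fintype, Finset.sum_const, Finset.card_univ,
      Fintype.card_fin, smul_eq_mul] at *
    rw [h₁₀, h₁₁, h₀₁]
    ring
  obtain ⟨hd, hfQ, hfP⟩ := hdim
  have hinj : Function.Injective (Groth.EulerDeg.hMap k S.g 0) := by
    haveI := hfQ
    haveI := hfP
    exact (LinearMap.injective_iff_surjective_of_finrank_eq_finrank hd).2 hsurj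
  refine ⟨?_, hF1, hF2 (-2) (-2) le_rfl le_rfl, ?_⟩
  · refine subsingleton_of_forall_eq 0 fun z => Groth.EulerDeg.injective_zero k hS (hinj ?_)
    rw [map_zero, map_zero]
    exact (Groth.EulerDeg.exact_mid k hS 0 _).2 ⟨z, rfl⟩
  · have hup : ∀ a b : ℕ,
        Subsingleton (Coh.HH _ (CohB1.tensorMod (kernel m) (Groth.Curves2.Quadric.O2 k (a : ℤ) (b : ℤ))) 1) := by
      intro a b
      induction a with
      | zero =>
        induction b with
        | zero => exact Groth.Curves2.Quadric.subsingleton_of_iso k u hF1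
        | succ b ih =>
          exact Groth.Curves2.Quadric.h1_step k (Groth.Curves2.Quadric.p₂ k)
            (Groth.Curves2.Quadric.isInvertible_O2 k 0 ((b : ℤ) + 1))
            (Groth.Curves2.Quadric.nonempty_snd_tensor k (-2) 0 ((b : ℤ) + 1))
            (Lm := Groth.Curves2.Quadric.O2 k 0 (-2 + ((b : ℤ) + 1)))
            (by simpa using Groth.Curves2.Quadric.nonempty_snd_tensor k (-1) 0 ((b : ℤ) + 1))
            (by simpa using Groth.Curves2.Quadric.nonempty_snd_tensor k 0 0 ((b : ℤ) + 1))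
            ih (hF2 _ _ (by omega) (by omega))
      | succ a ih =>
        exact Groth.Curves2.Quadric.h1_step k (Groth.Curves2.Quadric.p₁ k)
          (Groth.Curves2.Quadric.isInvertible_O2 k ((a : ℤ) + 1) (b : ℤ))
          (Groth.Curves2.Quadric.nonempty_fst_tensor k (-2) ((a : ℤ) + 1) (b : ℤ))
          (by simpa using Groth.Curves2.Quadric.nonempty_fst_tensor k (-1) ((a : ℤ) + 1) (b : ℤ))
          (by simpa using Groth.Curves2.Quadric.nonempty_fst_tensor k 0 ((a : ℤ) + 1) (b : ℤ))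
          ih (hF2 _ _ (by omega) (by omega))
    intro t
    rcases le_or_gt 0 t with ht | ht
    · have h := hup (2 * t).toNat (2 * t).toNat
      rwa [Int.toNat_of_nonneg (by omega)] at h
    · exact Groth.Curves2.Quadric.subsingleton_left k (hT (2 * t) (2 * t)) (n := 0)
        (vanP 0 _ _ (Groth.Curves2.Quadric.subsingleton_O2 k 0 _ _ fun p q hpq => by omega))
        (vanQ 1 _ _ (Groth.Curves2.Quadric.subsingleton_O2 k 1 _ _ fun p q hpq => by omega)
          (Groth.Curves2.Quadric.subsingleton_O2 k 1 _ _ fun p q hpq => by omega))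

end Groth.Agent.S18627
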