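import Groth.Statements.S1863
import Groth.Agent.Cycles.Excision
-- import your own Groth.Agent.* helpers here

set_option autoImplicit false
universe u
open CategoryTheory AlgebraicGeometry
open Cyc

namespace Groth.Agent.S1863

/-- Let U ⊆ X be open and α, β k-cycles on X whose restrictions to U are rationally equivalent on U (for
the restricted dimension function). Then there is a k-cycle γ on X vanishing on U with α rationally
equivalent to β + γ. Here a pair (X, δ) with Cyc.IsSetup plays the role of a scheme locally of
finite type over a fixed base with a dimension function (X locally Noetherian with universally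
catenary local rings, δ a dimension function). -/
theorem result (X : Scheme.{u}) (δ : X → ℤ) (hX : Cyc.IsSetup X δ) (U : X.Opens) (k : ℤ) (α β : AlgebraicCycle X ℤ) (hα : α ∈ Cyc.Zk X δ k) (hβ : β ∈ Cyc.Zk X δ k) (αU βU : AlgebraicCycle (↑U : Scheme.{u}) ℤ) (hαU : ∀ u : ↥U, αU u = α (U.ι u)) (hβU : ∀ u : ↥U, βU u = β (U.ι u)) (h : Cyc.RatEquiv (fun u : ↥U => δ (U.ι u)) k αU βU) : ∃ γ : AlgebraicCycle X ℤ, γ ∈ Cyc.Zk X δ k ∧ (∀ x : X, x ∈ U → γ x = 0) ∧ Cyc.RatEquiv δ k α (β + γ) := by
  exact Groth.Cycles.exists_excision δ hX U k α β hα hβ αU βU hαU hβU h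

end Groth.Agent.S1863
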