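import Groth.Statements.S18631
import Groth.Agent.HilbStab.ExtBound
import Groth.Agent.Inter.NakaiCor
import Groth.Agent.Variety2.Reg.Gen
import Groth.Agent.Duality.SheafHomTwist
import Groth.Agent.DerivedCoh.KFlat.TensorPullback
import Groth.Agent.CohC3.FullyFaithful
import Groth.Agent.HilbStab.Mult
import Groth.Agent.ModelsGraphs.QuotMulSeq
import Groth.Agent.Misc6.BidualLocFree
import Groth.Agent.PnCoh.VanishingClosed
import Groth.Agent.RefRank.DivSheaf

set_option autoImplicit false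
universe u
open VBPn

namespace Groth.Agent.S18631

open CategoryTheory CategoryTheory.Limits AlgebraicGeometry TopologicalSpace Polynomial
open Groth.RefRank Groth.PicAux Groth.HilbStab

/-- A finite closed subset of a scheme of finite type over a field has dimension zero. -/
theorem dim_le_zero_of_finite (k : Type u) [Field k] {X : Scheme.{u}} [X.Over (Spec (CommRingCat.of k))]
    [LocallyOfFiniteType (X ↘ Spec (CommRingCat.of k))] {Z : Set X} (hc : IsClosed Z) (hf : Z.Finite) :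
    topologicalKrullDim Z ≤ 0 := by
  haveI : JacobsonSpace X := LocallyOfFiniteType.jacobsonSpace (X ↘ Spec (CommRingCat.of k))
  haveI : JacobsonSpace Z := JacobsonSpace.of_isClosedEmbedding hc.isClosedEmbedding_subtypeVal
  haveI : Finite Z := hf.to_subtype
  exact topologicalKrullDim_zero_of_discreteTopology Z

theorem mono_sandwich {C : Type*} [Category C] {A B B' D : C} (a : A ≅ B) (f : B ⟶ B') [Mono f]
    (b : B' ≅ D) : Mono (a.hom ≫ f ≫ b.hom) := inferInstance

theorem nonempty_cokernel_sandwich {C D : Type*} [Category C] [Category D] [Abelian C] [Abelian D]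
    (G : C ⥤ D) [G.IsEquivalence] [G.PreservesZeroMorphisms] {A B : C} (f : A ⟶ B) {A' B' : D} (a : A' ≅ G.obj A)
    (b : G.obj B ≅ B') : Nonempty (cokernel (a.hom ≫ G.map f ≫ b.hom) ≅ G.obj (cokernel f)) :=
  ⟨cokernelEpiComp a.hom (G.map f ≫ b.hom) ≪≫ cokernelCompIsIso (G.map f) b.hom ≪≫
    (PreservesCokernel.iso G f).symm⟩

/-- A twisted ideal sheaf is a submodule of the twist with cokernel supported on the subscheme. -/
theorem exists_sub_twist (k : Type u) [Field k] {X : Scheme.{u}} [X.Over (Spec (CommRingCat.of k))]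
    [IsProper (X ↘ Spec (CommRingCat.of k))] (Z : X.IdealSheafData) {M N : X.Modules}
    (hM : PicF.IsInvertible M) (e : N ≅ CohB1.tensorMod (ClSub.idealMod Z) M) :
    ∃ ι : N ⟶ M, Mono ι ∧ CohB1.support (cokernel ι) ⊆ (Z.support : Set X) := by
  obtain ⟨l, -⟩ := exists_leftUnitor M
  let T : X.Modules ⥤ X.Modules := DCoh.tensorRightMod M
  haveI : T.IsEquivalence := isEquivalence_tensorRightMod_of_isInvertible hM
  haveI : T.PreservesZeroMorphisms := Functor.preservesZeroMorphisms_of_map_zero_object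
    (T.mapZeroObject)
  haveI : Mono (ClSub.idealModι Z) := inferInstanceAs (Mono (kernel.ι _))
  haveI : Mono (T.map (ClSub.idealModι Z)) := T.map_mono _
  let e' : N ≅ T.obj (ClSub.idealMod Z) := e
  let l' : T.obj (Coh.structureModule X) ≅ M := l
  refine ⟨e'.hom ≫ T.map (ClSub.idealModι Z) ≫ l'.hom,
    mono_sandwich e' (T.map (ClSub.idealModι Z)) l', fun x hx => ?_⟩
  obtain ⟨e₀⟩ := nonempty_cokernel_sandwich T (ClSub.idealModι Z) e' l'
  have hx' : x ∈ CohB1.support (T.obj (ClSub.quotMod Z)) :=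
    (Groth.QCohMod.support_eq_of_iso
      (e₀ ≪≫ T.mapIso (Groth.ModelsGraphs.QuotMulSeq.cokerIso Z))).subset hx
  exact (Groth.Inter.support_quotMod k Z).2.subset (support_tensorMod_subset hM _ hx')

theorem exists_mono_twist {X : Scheme.{u}} {A B M : X.Modules} (hM : PicF.IsInvertible M) (f : A ⟶ B)
    [Mono f] : ∃ g : CohB1.tensorMod A M ⟶ CohB1.tensorMod B M, Mono g := by
  let T : X.Modules ⥤ X.Modules := DCoh.tensorRightMod M
  haveI : T.IsEquivalence := isEquivalence_tensorRightMod_of_isInvertible hM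
  exact ⟨T.map f, T.map_mono f⟩

/-- Let k be an algebraically closed field of characteristic zero and X ⊆ P³_k a smooth integral surface
of degree d ≥ 4: ι : X → P³_k a closed immersion over k whose ideal is that of one form F of degree
d, X proper and smooth over k of dimension 2, polarised by the ample L = ι^*O(1); assume Pic X is
generated by O_X(1), i.e. every invertible O_X-module is isomorphic to ι^*O(n) for some integer n.
Let Z ⊆ X be a closed subscheme with finite support such that H⁰(X, I_Z ⊗ ι^*O(d−2)) = 0, and let 0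
→ O_X → E → I_Z ⊗ ι^*O(d−1) → 0 be a short exact sequence of O_X-modules with E finite locally free
of rank 2. Then E is slope-stable (of dimension 2, with respect to L). (The published statement is
for the rank-2 Ulrich bundles on a general degree-d surface, 4 ≤ d ≤ 15, which come with such a
presentation and vanishing; its argument uses about generality only that Pic X is generated by
O_X(1), and about E only the displayed data; it concludes through the quoted criterion that a rank-2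
bundle on such an X is slope-stable once its normalised twist has no sections.) -/
theorem result (k : Type u) [Field k] [IsAlgClosed k] [CharZero k]
    (X : Scheme.{u}) [X.Over (Spec (CommRingCat.of k))] [AlgebraicGeometry.IsIntegral X]
    [IsProper (X ↘ (Spec (CommRingCat.of k)))] [Smooth (X ↘ (Spec (CommRingCat.of k)))]
    (hdim : topologicalKrullDim X = 2)
    (ι : X ⟶ CohB1.ProjSpace 3 k) [IsClosedImmersion ι] (hιk : ι ≫ CohB1.ProjSpace.toSpec 3 k = X ↘ (Spec (CommRingCat.of k)))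
    (hL : CohB1.IsAmple ((Scheme.Modules.pullback ι).obj (Twist.twistProjSpace 3 k (1))))
    (d : ℕ) (hd : 4 ≤ d) (F : LefPen.Form 3 k d) (hF : ι.ker = LefPen.hypIdeal F)
    (hPic : ∀ M : X.Modules, PicF.IsInvertible M → ∃ n : ℤ, Nonempty (M ≅ ((Scheme.Modules.pullback ι).obj (Twist.twistProjSpace 3 k (n)))))
    (Z : X.IdealSheafData) (hZfin : (Z.support : Set X).Finite)
    (hZ : Subsingleton (Coh.HH X (CohB1.tensorMod (ClSub.idealMod Z) ((Scheme.Modules.pullback ι).obj (Twist.twistProjSpace 3 k ((d : ℤ) - 2)))) 0))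
    (S : ShortComplex X.Modules) (hS : S.ShortExact)
    (h₁ : Nonempty (S.X₁ ≅ Coh.structureModule X))
    (h₃ : Nonempty (S.X₃ ≅ CohB1.tensorMod (ClSub.idealMod Z) ((Scheme.Modules.pullback ι).obj (Twist.twistProjSpace 3 k ((d : ℤ) - 1)))))
    (hE : FlatMod.IsFinLocFreeOfRank 2 S.X₂) :
    ShStab.IsMuStable k X ((Scheme.Modules.pullback ι).obj (Twist.twistProjSpace 3 k (1))) S.X₂ 2 := by
  have hX : topologicalKrullDim X = ((2 : ℕ) : WithBot ℕ∞) := by simpa using hdim
  haveI := Groth.HilbStab.isLocallyNoetherian k (X := X)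
  haveI := Groth.PnCoh.isLocallyNoetherian_projSpace 3 k
  let O : ℤ → X.Modules := fun a => (Scheme.Modules.pullback ι).obj (Twist.twistProjSpace 3 k a)
  have hOi : ∀ a, PicF.IsInvertible (O a) := fun a =>
    Groth.PicAux.isInvertible_pullback ι (Groth.PnCoh.isInvertible_twist (n := 3) (R := k) a)
  have hadd : ∀ a b : ℤ, Nonempty (CohB1.tensorMod (O a) (O b) ≅ O (a + b)) := fun a b => by
    obtain ⟨t⟩ := Groth.Duality.Pn.nonempty_twist_tensor 3 k a b
    obtain ⟨p, -⟩ := Groth.PicAux.exists_pullback_tensorMod ι (Twist.twistProjSpace 3 k a)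
      (Twist.twistProjSpace 3 k b)
    exact ⟨p.symm ≪≫ (Scheme.Modules.pullback ι).mapIso t⟩
  have h0 : Nonempty (O 0 ≅ Coh.structureModule X) := by
    obtain ⟨z⟩ := Groth.Duality.Pn.nonempty_twist_zero_iso' 3 k
    exact ⟨(Scheme.Modules.pullback ι).mapIso z ≪≫ (pullback_structure_iso ι).some⟩
  have hpowi : ∀ m : ℕ, Nonempty (CohB1.tensorPow (O 1) m ≅ O m) := by
    intro m
    induction m with
    | zero => exact ⟨h0.some.symm⟩
    | succ m ih =>
      obtain ⟨e⟩ := hadd m 1
      exact ⟨PicGrp.tensorModIso ih.some (Iso.refl _) ≪≫ e ≪≫ eqToIso (by push_cast; rfl)⟩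
  have hL' : CohB1.IsAmple (O 1) := hL
  -- Hilbert polynomials of the twists
  have hOc : Coh.IsCoh (Coh.structureModule X) := Groth.QCohMod.isCoh_unit
  obtain ⟨pO, hpO⟩ := Groth.HilbStab.exists_isHilbPoly k X hL' hOc
  have hOd := natDegree_le_two k hL' hX hOc hpO
  have hpow : ∀ m : ℕ, ShStab.IsHilbPoly k X (O 1) (O m) (taylor (m : ℚ) pO) := fun m => by
    obtain ⟨l, -⟩ := exists_leftUnitor (CohB1.tensorPow (O 1) m)
    exact Groth.HilbStab.isHilbPoly_iso k (l ≪≫ (hpowi m).some)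
      (Groth.HilbStab.isHilbPoly_shift k hL' hpO m)
  -- the cofinite subsheaf
  let M := O ((d : ℤ) - 1)
  let I := ClSub.idealMod Z
  obtain ⟨e₁⟩ := h₁
  obtain ⟨e₃⟩ := h₃
  have hIc : Coh.IsCoh I := Groth.RefRank.isCoh_idealMod Z
  have hMc := Groth.EulerDeg.isCoh_of_isInvertible (hOi ((d : ℤ) - 1))
  have hNc : Coh.IsCoh S.X₃ :=
    Groth.QCohMod.isCoh_of_iso e₃.symm (Groth.RefRank.isCoh_tensorMod hIc hMc)
  obtain ⟨ιM, hιM, hsupp⟩ := exists_sub_twist k Z (hOi ((d : ℤ) - 1)) e₃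
  haveI := hιM
  have hZ0 : topologicalKrullDim (CohB1.support (cokernel ιM)) ≤ 0 :=
    le_trans (Topology.IsEmbedding.inclusion hsupp).isInducing.topologicalKrullDim_le
      (dim_le_zero_of_finite k Z.support.isClosed hZfin)
  -- the middle term
  have hE' := Groth.LocFree.isFinLocFree_of_rank hE
  haveI := Groth.KTheory.LocFree.isQCoh hE'
  have hEc : Coh.IsCoh S.X₂ := Groth.KTheory.LocFree.isCoh hE'
  have hEr : RefHull.IsReflexive S.X₂ := Groth.ProjFormula.isIso_bidualMap hE'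
  have hEtf := isTorsionFree_of_isReflexive hEc hEr
  let a : Coh.structureModule X ⟶ S.X₂ := e₁.inv ≫ S.f
  have w : a ≫ S.g = 0 := by rw [Category.assoc, S.zero, Limits.comp_zero]
  have hex : (ShortComplex.mk a S.g w).ShortExact := ShortComplex.shortExact_of_iso
    (ShortComplex.isoMk e₁ (Iso.refl _) (Iso.refl _)
      (by simp [a]) (by simp) : S ≅ ShortComplex.mk a S.g w) hS
  haveI : Mono a := hex.mono_f
  have hO0 := not_isZero_of_isRankOne (isRankOne_of_isInvertible (PicLoc.isInvertible_structureModule X))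
  have hEne : ¬ IsZero S.X₂ := fun h => hO0 (by
    rw [IsZero.iff_id_eq_zero]; exact (cancel_mono a).1 (h.eq_of_tgt _ _))
  refine ⟨hEc, hEne, ?_, ?_, ?_⟩
  · rw [support_eq_univ_of_mono hEtf (𝟙 _) hEc hEne, Groth.Misc13.HodgeProper.dim_univ]
    exact hX
  · intro F j hj hF hdimF
    by_cases h0 : IsZero F
    · have : topologicalKrullDim (CohB1.support F) = ⊥ := by
        have : IsEmpty (CohB1.support F) :=
          Set.isEmpty_coe_sort.2 ((Groth.QCohMod.isZero_iff_support_eq_empty F).1 h0)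
        have : IsEmpty (TopologicalSpace.IrreducibleCloseds (CohB1.support F)) :=
          ⟨fun Z => IsEmpty.false Z.2.nonempty.some⟩
        exact Order.krullDim_eq_bot
      rw [this, WithBot.bot_add] at hdimF
      exact WithBot.bot_ne_coe hdimF
    · rw [Groth.HilbStab.isPure_of_isTorsionFree hEtf hX F j hj hF h0] at hdimF
      norm_cast at hdimF
  intro G j hj hG pG pE hpG hpE hGpos hGlt
  haveI := hj
  have hd1 : ((d : ℤ) - 1) = ((d - 1 : ℕ) : ℤ) := by omega
  have hpM : ShStab.IsHilbPoly k X (O 1) M (taylor ((d - 1 : ℕ) : ℚ) pO) :=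
    Groth.HilbStab.isHilbPoly_iso k (eqToIso (congrArg O hd1.symm)) (hpow (d - 1))
  obtain ⟨hO2, hE2, hE1⟩ := ext_polys k hL' hX (hOi _) hNc ιM hZ0 a S.g w hex hpO hpM hpE
  have hsE : StabCat.hatSlope 2 pE = StabCat.hatSlope 2 pO + ((d - 1 : ℕ) : ℚ) / 2 := by
    rw [hatSlope_two, hatSlope_two, hE2, hE1, (taylor_top hOd _).1, (taylor_top hOd _).2]
    field_simp
    ring
  have hd2 : (3 : ℚ) ≤ ((d - 1 : ℕ) : ℚ) := by exact_mod_cast (show 3 ≤ d - 1 by omega)
  suffices H : StabCat.hatSlope 2 pG ≤ StabCat.hatSlope 2 pO by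
    rw [hsE]; linarith
  rcases sub_extension_cases k hL' hX (hOi _) hNc ιM hEc hEtf a S.g w hex j hG hpO hpM hpG hZ0 hpE
    hGpos hGlt with h | ⟨D, hDi, δ, ψ, -, -, -, hmb, hbij, hext, hle⟩
  · exact h
  obtain ⟨z, ⟨eD⟩⟩ := hPic D hDi
  have hDc := Groth.EulerDeg.isCoh_of_isInvertible hDi
  obtain ⟨pD, hpD⟩ := Groth.HilbStab.exists_isHilbPoly k X hL' hDc
  refine le_trans (hle pD hpD) ?_
  by_cases hz : z ≤ 0
  · obtain ⟨m, rfl⟩ := Int.exists_eq_neg_ofNat hz
    have hDd := natDegree_le_two k hL' hX hDc hpD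
    haveI := hDc.1
    have hD2 := coeff_two_pos k hL' hX (isTorsionFree_of_isInvertible hDi) (𝟙 _) hDc
      (not_isZero_of_isRankOne (isRankOne_of_isInvertible hDi)) hpD
    obtain ⟨e⟩ := hadd (-(m : ℤ)) m
    have h2 := Groth.HilbStab.isHilbPoly_unique k
      (Groth.HilbStab.isHilbPoly_iso k (PicGrp.tensorModIso eD (hpowi m).some ≪≫ e ≪≫
        eqToIso (congrArg O (neg_add_cancel (m : ℤ))) ≪≫ h0.some)
        (Groth.HilbStab.isHilbPoly_shift k hL' hpD m)) hpO
    have h3 := hatSlope_taylor hDd hD2.ne' (m : ℚ)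
    rw [h2] at h3
    rw [h3]
    linarith [(Nat.cast_nonneg m : (0 : ℚ) ≤ m)]
  exfalso
  haveI := hDc.1
  haveI := hNc.1
  haveI := hG.1
  -- the hull gives a nonzero map `O(z) → I_Z(d - 1)`
  obtain ⟨g, hg⟩ := hext _ hEc hEr j
  haveI := hmb
  haveI : Mono (g ≫ S.g) := mono_of_generic (isTorsionFree_of_isInvertible hDi) _ fun x y h => by
    obtain ⟨x, rfl⟩ := hbij.2 x
    obtain ⟨y, rfl⟩ := hbij.2 y
    rw [← Groth.RefRank.stalkMapₗ_comp, ← Groth.RefRank.stalkMapₗ_comp, ← Category.assoc, hg] at h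
    exact congrArg _ (stalkMapₗ_injective_of_mono (j ≫ S.g) _ h)
  -- a nonzero section of `O(z - 1)`
  obtain ⟨m, hm⟩ := Int.eq_ofNat_of_zero_le (show 0 ≤ z - 1 by omega)
  obtain ⟨s, hs⟩ := Groth.Inter.exists_section_pullback_of_gg
    (Groth.PnCoh.isInvertible_twist (n := 3) (R := k) (m : ℤ))
    (Groth.Variety2.Reg.detByGlobal_twist (n := 3) (k := k) m).isGloballyGenerated ι
  let σ : Coh.structureModule X ⟶ O m := homOfSection s
  haveI := (hOi m)
  haveI : (O (m : ℤ)).IsQuasicoherent := (Groth.EulerDeg.isCoh_of_isInvertible (hOi m)).1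
  haveI : Mono σ := mono_of_ne_zero (isTorsionFree_of_isInvertible (PicLoc.isInvertible_structureModule X))
    (isRankOne_of_isInvertible (PicLoc.isInvertible_structureModule X))
    (isTorsionFree_of_isInvertible (hOi m)) σ fun h => hs (by
      rw [← homOfSection_one s, show homOfSection s = 0 from h]; rfl)
  -- gives a nonzero map `O → I_Z(d - 2)`
  obtain ⟨l1, -⟩ := exists_leftUnitor (O 1)
  obtain ⟨σ1, hσ1⟩ := exists_mono_twist (hOi 1) σ
  obtain ⟨e1⟩ := hadd m 1
  let c1 : CohB1.tensorMod (O m) (O 1) ≅ D :=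
    e1 ≪≫ eqToIso (congrArg O (show (m : ℤ) + 1 = z by omega)) ≪≫ eD.symm
  let τ : O 1 ⟶ S.X₃ := (l1.inv ≫ σ1 ≫ c1.hom) ≫ g ≫ S.g
  haveI := hσ1
  haveI : Mono (l1.inv ≫ σ1 ≫ c1.hom) := mono_sandwich l1.symm σ1 c1
  haveI : Mono τ := mono_comp (l1.inv ≫ σ1 ≫ c1.hom) (g ≫ S.g)
  obtain ⟨e2⟩ := hadd 1 (-1)
  obtain ⟨e4⟩ := hadd ((d : ℤ) - 1) (-1)
  obtain ⟨as, -⟩ := Groth.PicAux.exists_associator I M (O (-1))
  obtain ⟨τ1, hτ1⟩ := exists_mono_twist (hOi (-1)) τ
  haveI := hτ1
  let cl : Coh.structureModule X ≅ CohB1.tensorMod (O 1) (O (-1)) :=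
    h0.some.symm ≪≫ eqToIso (congrArg O (show (0 : ℤ) = 1 + -1 by omega)) ≪≫ e2.symm
  let cr : CohB1.tensorMod S.X₃ (O (-1)) ≅ CohB1.tensorMod I (O ((d : ℤ) - 2)) :=
    PicGrp.tensorModIso e₃ (Iso.refl (O (-1))) ≪≫ as ≪≫ PicGrp.tensorModIso (Iso.refl I)
      (e4 ≪≫ eqToIso (congrArg O (show (d : ℤ) - 1 + -1 = (d : ℤ) - 2 by omega)))
  let θ : Coh.structureModule X ⟶ CohB1.tensorMod I (O ((d : ℤ) - 2)) := cl.hom ≫ τ1 ≫ cr.hom
  haveI : Mono θ := mono_sandwich cl τ1 cr
  have hθ : θ = 0 := by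
    refine hom_structure_ext ?_
    haveI := hZ
    haveI : Subsingleton Γ(CohB1.tensorMod I (O ((d : ℤ) - 2)), ⊤) :=
      (Groth.CohC3.secEquiv₀ (CohB1.tensorMod I (O ((d : ℤ) - 2)))).symm.toEquiv.subsingleton
    exact Subsingleton.elim _ _
  exact hO0 (by
    rw [IsZero.iff_id_eq_zero, ← cancel_mono θ, hθ, Limits.comp_zero, Limits.comp_zero])

end Groth.Agent.S18631
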