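import Groth.Statements.S18633
import Groth.Agent.SurfRR.AmpleDivisor
import Groth.Agent.KTheory.RegKoszulSerre
import Groth.Agent.Ega2Proj.RelAmple
-- import your own Groth.Agent.* helpers here

set_option autoImplicit false
universe u
open CategoryTheory CategoryTheory.Limits AlgebraicGeometry TopologicalSpace
open Surf

namespace Groth.Agent.S18633

/-- Let k be an algebraically closed field of characteristic zero and X a strong del Pezzo surface over
k: an integral scheme, proper and smooth over k of dimension 2, with canonical module W (a second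
exterior power of Ω_{X/k}) and a tensor inverse D of W which is very ample relative to k — there is
a closed immersion ι : X → P^N_k over k with ι^*O(1) ≅ D. Assume H¹(X, O_X) = 0. Then H¹(X, D^{⊗m})
= 0 and H¹(X, W^{⊗m}) = 0 for every m ≥ 0; that is, H¹(X, O_X(m)) = 0 for all m ∈ ℤ in the
anticanonical embedding X ⊆ P^d. (The published statement is that the anticanonically embedded X is
arithmetically Cohen–Macaulay; its argument obtains H¹(X, O_X) = 0 from the rationality of del Pezzo
surfaces, quoted, and that vanishing is the hypothesis here; the part about H¹ of the twisted ideal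
sheaves of X is not restated.) -/
theorem result (k : Type u) [Field k] [IsAlgClosed k] [CharZero k] (X : Scheme.{u})
    [X.Over (Spec (CommRingCat.of k))] [IsIntegral X] [IsProper (X ↘ (Spec (CommRingCat.of k)))] [Smooth (X ↘ (Spec (CommRingCat.of k)))]
    (hdim : topologicalKrullDim X = 2)
    (W : X.Modules) (hW : ExtPow.IsExtPow 2 (Omega.sheaf (X ↘ (Spec (CommRingCat.of k)))) W)
    (D : X.Modules) (hD : ClSub.IsInverseOf D W)
    (hva : ∃ (N : ℕ) (ι : X ⟶ CohB1.ProjSpace N k), IsClosedImmersion ι ∧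
      ι ≫ CohB1.ProjSpace.toSpec N k = X ↘ (Spec (CommRingCat.of k)) ∧
      Nonempty ((Scheme.Modules.pullback ι).obj (Twist.twistProjSpace N k 1) ≅ D))
    (hq : Subsingleton (Coh.HH X (Coh.structureModule X) 1)) (m : ℕ) :
    Subsingleton (Coh.HH X (CohB1.tensorPow D m) 1) ∧ Subsingleton (Coh.HH X (CohB1.tensorPow W m) 1) := by
  obtain ⟨N, ι, hc, hι, ⟨eD⟩⟩ := hva
  haveI := hc
  have hreg := Groth.SurfRR.isRegularLocalRing_stalk k (X := X)
  obtain ⟨hWi, hDD⟩ := Groth.SurfRR.dualDim_topForms k hdim ι hι hW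
  haveI : IsNoetherian X := Groth.Inter.isNoetherian k
  have hA : CohB1.IsAmple D := Groth.Ega2Proj.isAmple_of_iso eD
    (Groth.Ega2Proj.isAmple_pullback ι ι.isClosedEmbedding.isEmbedding.isInducing
      (Groth.KTheory.RegKoszul.isAmple_twistProjSpace_one N k))
  have hW' := Groth.PicAux.isInverseOf_symm hD
  have hDi := hA.1
  have hO := Groth.EulerDeg.isInvertible_structureModule X
  have hneg : Groth.Inter.pair k W D < 0 := by
    rw [Groth.Inter.pair_inverse k hdim.le hDi hD hDi]
    have := Groth.Inter.pair_self_pos k hdim hA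
    omega
  -- a section of `D`
  have hsec : Nontrivial (Coh.HH X D 0) := by
    have hD2 := Groth.SurfRR.dualEuler_of_dualDim k hdim.le hDD
    have hRR := Groth.SurfRR.riemannRoch k hdim.le hWi hD2 hDi
    rw [Groth.Inter.intNum_eq_pair k hdim.le, Groth.Inter.intNum_eq_pair k hdim.le,
      Groth.Inter.pair_comm k D W, Groth.Inter.pair_inverse k hdim.le hDi hD hDi] at hRR
    have hWW := Groth.PicAux.isInvertible_tensorMod hWi hWi
    haveI h0 : Subsingleton (Coh.HH X (CohB1.tensorMod W W) 0) :=
      Groth.SurfRR.subsingleton_h0_of_pair_neg k hdim hWW hA (by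
        rw [Groth.Inter.pair_tensor k hdim.le hWi hWi hDi]; omega)
    have h2 := hDD D W hDi hD 0 (by omega)
    rw [Module.finrank_zero_of_subsingleton, Nat.sub_zero] at h2
    haveI : Subsingleton (Coh.HH X (Coh.structureModule X) 1) := hq
    haveI : Nontrivial (Coh.HH X (Coh.structureModule X) 0) := Groth.SurfRR.nontrivial_h0_structure k
    haveI := Groth.EulerDeg.finite_HH k X (Groth.QCohMod.isCoh_unit (X := X)) 0
    have hpos : 0 < Module.finrank k (Coh.HH X (Coh.structureModule X) 0) := Module.finrank_pos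
    rw [Groth.Inter.euler_eq_three k hdim.le, Groth.Inter.euler_eq_three k hdim.le,
      Module.finrank_zero_of_subsingleton (M := Coh.HH X (Coh.structureModule X) 1)] at hRR
    by_contra hn
    rw [not_nontrivial_iff_subsingleton] at hn
    haveI := hn
    rw [Module.finrank_zero_of_subsingleton (M := Coh.HH X D 0)] at hRR
    have := Groth.Inter.pair_self_pos k hdim hA
    push_cast at hRR
    omega
  obtain ⟨φ, hφ⟩ := (Groth.Inter.nontrivial_h0_iff k D).1 hsec
  have hreg' := Groth.PicAux.regularSection_of_ne_zero hDi hφ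
  set C := PicF2.zeroScheme D φ
  have hC : BlowUp.IsEffCartierIdeal C := Groth.PicAux.isEffCartierIdeal_zeroScheme hDi hreg'
  have hDC : ClSub.IsInverseOf D (ClSub.idealMod C) := Groth.PicAux.isInverseOf_zeroScheme hDi hreg'
  obtain ⟨eW⟩ := Groth.PicAux.isInverseOf_unique hDC hD
  have hC0 : C ≠ ⊤ := fun h => by
    have h1 := Groth.Inter.pair_inverse k hdim.le hDi hDC hDi
    obtain ⟨e⟩ := Groth.SurfRR.nonempty_idealMod_top_iso (X := X)
    rw [h, Groth.Inter.pair_congr k ⟨e⟩ D, Groth.Inter.pair_one k] at h1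
    have := Groth.Inter.pair_self_pos k hdim hA
    omega
  have hWp := fun j => Groth.PicAux.isInvertible_tensorPow hWi j
  -- vanishing for the powers of `W`
  have hW1 : ∀ j, Subsingleton (Coh.HH X (CohB1.tensorPow W j) 1) := by
    intro j
    induction j using Nat.twoStepInduction with
    | zero => exact hq
    | one =>
      refine Groth.SurfRR.subsingleton_of_finrank_eq_zero k (Groth.Inter.isCoh_of_isInvertible (hWp 1)) ?_
      obtain ⟨e⟩ := Groth.PicAux.tensorPow_one W
      have h := hDD _ _ hO (Groth.Inter.tensor_one _) 1 (by omega)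
      rw [Groth.EulerDeg.finrank_congr (k := k)
        (e ≪≫ (Groth.Inter.tensor_one W).some.symm ≪≫ (Groth.Inter.tensor_comm _ _).some) 1, h]
      haveI := hq
      exact Module.finrank_zero_of_subsingleton
    | more j _ ih =>
      obtain ⟨e₀⟩ := Groth.PicAux.tensorPow_add W j 1
      obtain ⟨e₁⟩ := Groth.PicAux.tensorPow_one W
      obtain ⟨e₂⟩ := Groth.PicAux.tensorPow_add W (j + 1) 1
      obtain ⟨S, hS, ⟨f₁⟩, ⟨f₂⟩, ⟨f₃⟩⟩ := Groth.Inter.exists_shortExact_twist (hWp (j + 1))
        (Groth.PicAux.shortExact_idealMod C)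
      haveI h0 : Subsingleton (Coh.HH X S.X₃ 0) := by
        haveI := Groth.SurfRR.subsingleton_h0_restrict_ample k hdim hreg hC hC0 hA hDC (hWp j) (fun I hI => by
          have h1 := hI.pair_neg k hdim hreg hA
          rw [Groth.Inter.pair_comm k, Groth.Inter.pair_pow k hdim.le hWi (hI.isInvertible k hdim hreg),
            Groth.Inter.pair_inverse k hdim.le hDi hD (hI.isInvertible k hdim hreg), Groth.Inter.pair_comm k]
          exact mul_nonneg (Int.natCast_nonneg _) (by omega))
        exact (Groth.EulerDeg.hEquiv k (f₃ ≪≫ (Groth.Inter.tensor_comm _ _).some ≪≫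
          (Groth.Inter.tensor_congr ⟨Iso.refl _⟩ ⟨e₀ ≪≫ (Groth.Inter.tensor_congr ⟨Iso.refl _⟩
            ⟨e₁ ≪≫ eW.symm⟩).some⟩).some) 0).toEquiv.subsingleton
      haveI : Subsingleton (Coh.HH X S.X₂ 1) :=
        haveI := ih
        (Groth.EulerDeg.hEquiv k (f₂ ≪≫ (Groth.Inter.tensor_comm _ _).some ≪≫
          (Groth.Inter.tensor_one _).some) 1).toEquiv.subsingleton
      haveI : Subsingleton (Coh.HH X S.X₁ 1) := subsingleton_of_forall_eq 0 fun x => by
        obtain ⟨y, rfl⟩ := (Groth.EulerDeg.exact_left k hS 0 x).1 (Subsingleton.elim _ _)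
        rw [Subsingleton.elim y 0, map_zero]
      exact (Groth.EulerDeg.hEquiv k (e₂ ≪≫ (Groth.Inter.tensor_congr ⟨Iso.refl _⟩ ⟨e₁ ≪≫ eW.symm⟩).some ≪≫
        f₁.symm) 1).toEquiv.subsingleton
  refine ⟨?_, hW1 m⟩
  refine Groth.SurfRR.subsingleton_of_finrank_eq_zero k
    (Groth.Inter.isCoh_of_isInvertible (Groth.PicAux.isInvertible_tensorPow hDi m)) ?_
  obtain ⟨e₀⟩ := Groth.PicAux.tensorPow_add W 1 m
  obtain ⟨e₁⟩ := Groth.PicAux.tensorPow_one W
  have h := hDD _ _ (Groth.PicAux.isInvertible_tensorPow hDi m) (Groth.PicAux.isInverseOf_tensorPow hD m) 1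
    (by omega)
  rw [← h, ← Groth.EulerDeg.finrank_congr (k := k)
    (e₀ ≪≫ (Groth.Inter.tensor_congr ⟨e₁⟩ ⟨Iso.refl _⟩).some) 1]
  haveI := hW1 (1 + m)
  exact Module.finrank_zero_of_subsingleton

end Groth.Agent.S18633
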