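import Groth.Statements.S18636
import Groth.Agent.GrMod.Bass

set_option autoImplicit false
universe u
open GrLC

namespace Groth.Agent.S18636

/-- Let R be a commutative Noetherian ℤ-graded ring, M a graded R-module (not necessarily finitely
generated) and p a prime ideal of R which is not graded; write p* for the largest graded ideal
contained in p (a graded prime). Then μ_0(p, M) = 0 and μ_{i+1}(p, M) = μ_i(p*, M) for every i ≥ 0.
(Bass numbers μ_i(q, M) are taken as the k(q)-dimension of Ext^i over R_q of k(q) into M_q, as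
extended natural numbers; the published text also recalls their description as multiplicities in a
minimal injective resolution, and the two agree over a Noetherian ring.) -/
theorem result (R : Type u) [CommRing R] [IsNoetherianRing R] (𝒜 : ℤ → AddSubgroup R) [GradedRing 𝒜] (M : Type u) [AddCommGroup M] [Module R M] (ℳ : ℤ → AddSubgroup M) [DirectSum.Decomposition ℳ] [SetLike.GradedSMul 𝒜 ℳ] (p : Ideal R) [p.IsPrime] (hp : ¬ Ideal.IsHomogeneous 𝒜 p) [(Ideal.homogeneousCore 𝒜 p).toIdeal.IsPrime] : GrLC.bassNum p M 0 = 0 ∧ ∀ i : ℕ, GrLC.bassNum p M (i + 1) = GrLC.bassNum (Ideal.homogeneousCore 𝒜 p).toIdeal M i := by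
  obtain ⟨-, h₁, h₂⟩ := GrothGr.regular_coreLoc 𝒜 p
  have hker : RingHom.ker (Ideal.Quotient.mk (GrothGr.core 𝒜 p)) ≤ p := by
    rw [Ideal.mk_ker]; exact GrothGr.core_le 𝒜 p
  have hle : (p.map (Ideal.Quotient.mk (GrothGr.core 𝒜 p))).height ≤ 1 := by
    rw [h₁, Module.finrank_self] at h₂
    exact_mod_cast h₂
  have hne : (p.map (Ideal.Quotient.mk (GrothGr.core 𝒜 p))).height ≠ 0 := by
    rw [Ne, Ideal.height_eq_zero_iff_eq_bot, Ideal.map_eq_bot_iff_le_ker, Ideal.mk_ker]
    intro h
    have heq : p = GrothGr.core 𝒜 p := le_antisymm h (GrothGr.core_le 𝒜 p)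
    apply hp
    rw [heq]
    exact (p.homogeneousCore 𝒜).isHomogeneous
  have hd : (p.map (Ideal.Quotient.mk (GrothGr.core 𝒜 p))).height = ((1 : ℕ) : ℕ∞) :=
    le_antisymm (by exact_mod_cast hle) (by exact_mod_cast Order.one_le_iff_pos.2 (pos_iff_ne_zero.2 hne))
  obtain ⟨h0, h1⟩ := GrothGr.bassNum_core_shift 𝒜 ℳ p hd
  exact ⟨h0 0 Nat.one_pos, fun i => by simpa using h1 (i + 1) (Nat.le_add_left 1 i)⟩

end Groth.Agent.S18636
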