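import Groth.Statements.S1864
import Groth.Agent.GrpschAbsch.FiniteAffine

set_option autoImplicit false
universe u v
open CategoryTheory MonoidalCategory CartesianMonoidalCategory MonObj GrpObj AlgebraicGeometry
open GrpSch

namespace Groth.Agent.S1864

/-- Let G be a group scheme locally of finite type over an algebraically closed field and g₁, …, g_n
finitely many closed points of G. Then some affine open of G contains all the g_i. -/
theorem result (K : Type u) [Field K] [IsAlgClosed K] (G : Over (Spec (CommRingCat.of K))) [GrpObj G] [LocallyOfFiniteType G.hom] (n : ℕ) (g : Fin n → G.left) (hg : ∀ i, IsClosed ({g i} : Set G.left)) : ∃ U : G.left.Opens, IsAffineOpen U ∧ ∀ i, g i ∈ U := by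
  exact Groth.GrpschAbsch.exists_affine_of_closedPoints G n g hg


end Groth.Agent.S1864
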