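import Groth.Statements.S1865
import Groth.Agent.GrpschAbsch.FieldCountable


set_option autoImplicit false
universe u v
open CategoryTheory MonoidalCategory CartesianMonoidalCategory MonObj GrpObj AlgebraicGeometry
open GrpSch

namespace Groth.Agent.S1865

/-- A group scheme over a field contains an open and closed subset containing the identity point which
is a countable union of affine opens. (The source does not mention the identity point; its
construction contains it, and without it the empty set would do.) -/
theorem result (K : Type u) [Field K] (G : Over (Spec (CommRingCat.of K))) [GrpObj G] : ∃ U : G.left.Opens, IsClosed (U : Set G.left) ∧ η[G].left (IsLocalRing.closedPoint K) ∈ U ∧ ∃ V : ℕ → G.left.Opens, (∀ n, IsAffineOpen (V n)) ∧ (U : Set G.left) = ⋃ n, (V n : Set G.left) := by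
  exact Groth.GrpschAbsch.exists_clopen_countable_union_affine G

end Groth.Agent.S1865
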