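import Groth.Statements.S18650
import Groth.Agent.GrMod.TopInjective

set_option autoImplicit false
universe u
open GrLC

namespace Groth.Agent.S18650

/-- The case M = R of the published statement. Let R be a commutative Noetherian ℤ-graded ring which is
H-local, i.e. has a unique maximal graded ideal m, and which is Cohen–Macaulay, with ht m = n. Then
R is a Gorenstein ring if and only if the graded local cohomology module H^n_m(R) is an injective
object of the category of graded R-modules. Here H^n_m(R) is computed from a *injective resolution I
of R in the graded category, and its *injectivity is expressed as the existence of a *injective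
graded R-module X and an R-linear isomorphism H^n_m(R) ≅ X preserving degrees. (The published item
is stated for a Cohen–Macaulay graded module M and the notion of Gorenstein module; this row is its
case M = R.) -/
theorem result (R : Type u) [CommRing R] [LocCoh.IsCohenMacaulayRing R] (𝒜 : ℤ → AddSubgroup R) [GradedRing 𝒜] (m : HomogeneousIdeal 𝒜) (hm : GrLC.IsStarLocal 𝒜 m) (n : ℕ) (hn : m.toIdeal.height = n) (I : GrLC.StarInjRes 𝒜 𝒜) : LocCoh.IsGorensteinRing R ↔ ∃ (X : GrLC.GMod.{u} 𝒜) (φ : I.H m n ≃ₗ[R] X.carrier), GrLC.IsStarInj 𝒜 X.gr ∧ GrLC.IsGrHom (I.Hgr m n) X.gr φ.toLinearMap := by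
  haveI := GrothGr.isPrime_of_isStarLocal 𝒜 hm
  exact ⟨fun h => GrothGr.exists_starInj_top_H 𝒜 hm n hn I,
    fun ⟨X, φ, hX, _⟩ => GrothGr.isGorensteinRing_of_top_injective 𝒜 hm n hn I X.gr hX φ⟩

end Groth.Agent.S18650
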