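import Groth.Statements.S18651
import Groth.Agent.GrMod.Polynomial

set_option autoImplicit false
universe u
attribute [local instance] MvPolynomial.weightedGradedAlgebra
open GrLC

namespace Groth.Agent.S18651

/-- Let k be a field and R = k[X_1, …, X_N] the polynomial ring with deg X_i = w_i > 0. Then the
canonical module of R is K_R = X_1 X_2 ⋯ X_N · R ≅ R(−d) with d = w_1 + ⋯ + w_N; stated here as:
there is a bijective R-linear map R → K_R homogeneous of degree d. The canonical module is
represented by a finitely generated graded module C together with a homogeneous isomorphism from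
Hom_R(C, E) onto H^N_m(R), where m = R_+, E is a *injective envelope of R/m and H^N_m(R) is computed
from a *injective resolution of R in the graded category; by graded Matlis duality this says exactly
that C ≅ K_R as graded modules. -/
theorem result (k : Type u) [Field k] (N : ℕ) (w : Fin N → ℤ) (hw : ∀ i, 0 < w i) (m : HomogeneousIdeal (MvPolynomial.weightedHomogeneousSubmodule k w)) (hm : GrLC.IsStarLocal (MvPolynomial.weightedHomogeneousSubmodule k w) m) (hmsp : m.toIdeal = Ideal.span (⋃ n ∈ Set.Ioi (0 : ℤ), (MvPolynomial.weightedHomogeneousSubmodule k w n : Set (MvPolynomial (Fin N) k)))) (I : GrLC.StarInjRes (MvPolynomial.weightedHomogeneousSubmodule k w) (MvPolynomial.weightedHomogeneousSubmodule k w)) (E' : Type u) [AddCommGroup E'] [Module (MvPolynomial (Fin N) k) E'] (𝓔 : ℤ → AddSubgroup E') [DirectSum.Decomposition 𝓔] [SetLike.GradedSMul (MvPolynomial.weightedHomogeneousSubmodule k w) 𝓔] (e : (MvPolynomial (Fin N) k ⧸ m.toIdeal) →ₗ[MvPolynomial (Fin N) k] E') (he : GrLC.IsStarInjHull (MvPolynomial.weightedHomogeneousSubmodule k w) (GrLC.quotGr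 (MvPolynomial.weightedHomogeneousSubmodule k w) m) 𝓔 e) (C : Type u) [AddCommGroup C] [Module (MvPolynomial (Fin N) k) C] (𝒞 : ℤ → AddSubgroup C) [DirectSum.Decomposition 𝒞] [SetLike.GradedSMul (MvPolynomial.weightedHomogeneousSubmodule k w) 𝒞] (hC : GrLC.IsStarCanonical (MvPolynomial.weightedHomogeneousSubmodule k w) 𝒞 𝓔 m N I) : ∃ f : MvPolynomial (Fin N) k →ₗ[MvPolynomial (Fin N) k] C, Function.Bijective f ∧ GrLC.IsGrHomDeg (MvPolynomial.weightedHomogeneousSubmodule k w) 𝒞 f ((Finset.univ : Finset (Fin N)).sum w) := by
  exact GrothGr.exists_canonical_polynomial k N w hw m hm hmsp I he hC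

end Groth.Agent.S18651
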