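import Groth.Statements.S18653
import Groth.Agent.PropsBasic.GradedDimOne
import Mathlib.Algebra.MonoidAlgebra.Basic

set_option autoImplicit false
universe u
open GrLC

namespace Groth.Agent.S18653

/-- Let R be a graded ring defined over an algebraically closed field k which is an integral domain of
dimension one. Then R is isomorphic to a semigroup ring (the subring of k[T] spanned by the
monomials T^h, h in an additive submonoid H of ℕ); moreover, if R is generated over k by R_1, then R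
is a polynomial ring k[T]. Here a graded ring defined over k is a commutative k-algebra of finite
type graded in nonnegative degrees by k-subspaces with degree-zero part k·1; the isomorphisms
asserted are ring isomorphisms. -/
theorem result (k : Type u) [Field k] [IsAlgClosed k] (R : Type u) [CommRing R] [IsDomain R] [Algebra k R] (𝒜 : ℤ → Submodule k R) [GradedAlgebra 𝒜] (hpos : ∀ n : ℤ, n < 0 → 𝒜 n = ⊥) (h0 : 𝒜 0 = Submodule.span k {(1 : R)}) [Algebra.FiniteType k R] (h1 : ringKrullDim R = 1) : (∃ H : AddSubmonoid ℕ, Nonempty (R ≃+* AddMonoidAlgebra k H)) ∧ (Ideal.span (⋃ n ∈ Set.Ioi (0 : ℤ), (𝒜 n : Set R)) = Ideal.span ((𝒜 1 : Submodule k R) : Set R) → Nonempty (R ≃+* Polynomial k)) := by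
  obtain ⟨e⟩ := Groth.GradedDimOne.nonempty_algEquiv 𝒜 hpos h0 h1
  refine ⟨⟨_, ⟨e.symm.toRingEquiv⟩⟩, fun hgen => ?_⟩
  obtain ⟨n, y, hn, hy, hy0⟩ := Groth.GradedDimOne.exists_pos 𝒜 hpos h0 h1
  have h1m : (1 : ℕ) ∈ Groth.GradedDimOne.degrees 𝒜 := by
    show 𝒜 ((1 : ℕ) : ℤ) ≠ ⊥
    intro hbot
    have hy' : y ∈ Ideal.span (⋃ n ∈ Set.Ioi (0 : ℤ), (𝒜 n : Set R)) :=
      Ideal.subset_span (Set.mem_biUnion (Set.mem_Ioi.2 hn) hy)
    rw [hgen] at hy'
    rw [Nat.cast_one] at hbot
    rw [hbot, Submodule.bot_coe, Ideal.span_singleton_eq_bot.2 rfl] at hy'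
    exact hy0 hy'
  have htop : Groth.GradedDimOne.degrees 𝒜 = ⊤ := by
    refine eq_top_iff.2 fun m _ => ?_
    have := AddSubmonoid.nsmul_mem _ h1m m
    rwa [smul_eq_mul, mul_one] at this
  let e₁ : Groth.GradedDimOne.degrees 𝒜 ≃+ ℕ :=
    (AddEquiv.addSubmonoidCongr htop).trans AddSubmonoid.topEquiv
  exact ⟨e.symm.toRingEquiv.trans ((AddMonoidAlgebra.domCongr k k e₁).toRingEquiv.trans
    (Polynomial.toFinsuppIso k).symm)⟩

end Groth.Agent.S18653
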