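import Groth.Statements.S1866
import Groth.Agent.AbVarMul.Ample
import Groth.Agent.PnCoh.AmpleVanishing

set_option autoImplicit false
universe u v
open CategoryTheory MonoidalCategory CartesianMonoidalCategory MonObj GrpObj AlgebraicGeometry
open GrpSch

namespace Groth.Agent.S1866

/-- An abelian variety over a field K is projective over K; stated as: there is a closed immersion into
projective n-space over K compatible with the structure morphisms, for some n. -/
theorem result (K : Type u) [Field K] (A : Over (Spec (CommRingCat.of K))) [GrpObj A] [IsProper A.hom] [GeometricallyIntegral A.hom] : ∃ (n : ℕ) (j : A.left ⟶ CohB1.ProjSpace n K), IsClosedImmersion j ∧ j ≫ CohB1.ProjSpace.toSpec n K = A.hom := by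
  obtain ⟨L, hL⟩ := Groth.AbVarMul.exists_isAmple (A := A)
  obtain ⟨m, N, j, -, hj, hjf, -⟩ := Groth.PnCoh.exists_closedImmersion_of_isAmple A.hom hL
  exact ⟨m, j, hj, hjf⟩


end Groth.Agent.S1866
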