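import Groth.Statements.S18660
import Groth.Agent.Misc15.SegreDimOne
import Groth.Agent.Misc13.WeilOrder

set_option autoImplicit false
universe u
open scoped TensorProduct
open GrSegre

namespace Groth.Agent.S18660

/-- Let R and S be standard graded rings defined over a field k which are Cohen–Macaulay of dimension 1,
and assume R is not a polynomial ring over k. If the Segre product T = R # S is a Gorenstein ring,
then S is a polynomial ring k[T] and R is a Gorenstein ring. Here a graded ring defined over k is a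
commutative k-algebra of finite type, graded in nonnegative degrees by k-subspaces with degree-zero
part k·1, standard graded when its irrelevant ideal is generated by the degree-one piece;
'polynomial ring' means k-algebra isomorphic to k[T]; the Segre product T = ⊕_n R_n ⊗_k S_n is
presented abstractly as a graded k-algebra T with an injective k-algebra homomorphism ψ : T → R ⊗_k
S carrying T_n onto the k-span of the elementary tensors a ⊗ b with a ∈ R_n, b ∈ S_n. -/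
theorem result (k : Type u) [Field k] (R : Type u) [CommRing R] [Algebra k R] (𝒜 : ℤ → Submodule k R) [GradedAlgebra 𝒜] (hposR : ∀ n : ℤ, n < 0 → 𝒜 n = ⊥) (h0R : 𝒜 0 = Submodule.span k {(1 : R)}) [Algebra.FiniteType k R] (S : Type u) [CommRing S] [Algebra k S] (ℬ : ℤ → Submodule k S) [GradedAlgebra ℬ] (hposS : ∀ n : ℤ, n < 0 → ℬ n = ⊥) (h0S : ℬ 0 = Submodule.span k {(1 : S)}) [Algebra.FiniteType k S] (T : Type u) [CommRing T] [Algebra k T] (𝒯 : ℤ → Submodule k T) [GradedAlgebra 𝒯] (ψ : T →ₐ[k] TensorProduct k R S) (hψ : Function.Injective ψ) (hdegT : ∀ n : ℤ, (𝒯 n).map ψ.toLinearMap = Submodule.span k {x : TensorProduct k R S | ∃ a ∈ 𝒜 n, ∃ b ∈ ℬ n, x = a ⊗ₜ[k] b}) [LocCoh.IsCohenMacaulayRing R] [LocCoh.IsCohenMacaulayRing S] (hstdR : Ideal.span (⋃ n ∈ Set.Ioi (0 : ℤ), (𝒜 n : Set R)) = Ideal.span ((𝒜 1 : Submodule k R) : Set R)) (hstdS : Ideal.span (⋃ n ∈ Set.Ioi (0 : ℤ), (ℬ n : Set S)) = Ideal.span ((ℬ 1 : Submodule k S)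 : Set S)) (hr : ringKrullDim R = 1) (hs : ringKrullDim S = 1) (hR : IsEmpty (R ≃ₐ[k] Polynomial k)) [LocCoh.IsGorensteinRing T] : Nonempty (S ≃ₐ[k] Polynomial k) ∧ LocCoh.IsGorensteinRing R := by
  haveI : Nontrivial R := by
    by_contra h
    rw [not_nontrivial_iff_subsingleton] at h
    rw [ringKrullDim_eq_bot_of_subsingleton] at hr
    simp at hr
  haveI : Nontrivial S := by
    by_contra h
    rw [not_nontrivial_iff_subsingleton] at h
    rw [ringKrullDim_eq_bot_of_subsingleton] at hs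
    simp at hs
  let ψ' : T →ₐ[k] S ⊗[k] R := (Algebra.TensorProduct.comm k R S).toAlgHom.comp ψ
  have hψ' : Function.Injective ψ' := (Algebra.TensorProduct.comm k R S).injective.comp hψ
  have hdegT' : ∀ n : ℤ, (𝒯 n).map ψ'.toLinearMap =
      Submodule.span k {x : S ⊗[k] R | ∃ b ∈ ℬ n, ∃ a ∈ 𝒜 n, x = b ⊗ₜ[k] a} := by
    intro n
    rw [show ψ'.toLinearMap = (Algebra.TensorProduct.comm k R S).toAlgHom.toLinearMap.comp ψ.toLinearMap
      from rfl, Submodule.map_comp, hdegT, Submodule.map_span]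
    congr 1
    ext z
    constructor
    · rintro ⟨_, ⟨a, ha, b, hb, rfl⟩, rfl⟩
      exact ⟨b, hb, a, ha, rfl⟩
    · rintro ⟨b, hb, a, ha, rfl⟩
      exact ⟨a ⊗ₜ b, ⟨a, ha, b, hb, rfl⟩, rfl⟩
  by_cases hS : Nonempty (S ≃ₐ[k] Polynomial k)
  · obtain ⟨e⟩ := hS
    obtain ⟨E⟩ := Groth.Misc15.SegreDimOne.nonempty_equiv ℬ 𝒜 𝒯 ψ' hψ' hdegT' hposS h0S hposR hstdS e
    exact ⟨⟨e⟩, Groth.Misc13.WeilOrder.isGorensteinRing_of_ringEquiv E.toRingEquiv⟩
  exfalso
  have honeR : ∀ z ∈ 𝒜 1, ¬ 𝒜 1 ≤ Submodule.span k {z} := fun z hz hle =>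
    hR.false (Groth.Misc15.GrCurve.equiv_polynomial 𝒜 hposR h0R hstdR hr hz hle).some
  have honeS : ∀ z ∈ ℬ 1, ¬ ℬ 1 ≤ Submodule.span k {z} := fun z hz hle =>
    hS (Groth.Misc15.GrCurve.equiv_polynomial ℬ hposS h0S hstdS hs hz hle)
  obtain ⟨eR, x0, heR, hx0, hx0r⟩ := Groth.Misc15.GrCurve.exists_regular 𝒜 hposR h0R hr.ge
  obtain ⟨eS, y0, heS, hy0, hy0r⟩ := Groth.Misc15.GrCurve.exists_regular ℬ hposS h0S hs.ge
  have hx : x0 ^ eS ∈ 𝒜 ((eR * eS : ℕ) : ℤ) := (Groth.Misc15.GrCurve.pow_mem_ne 𝒜 hx0 hx0r eS).1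
  have hy : y0 ^ eR ∈ ℬ ((eR * eS : ℕ) : ℤ) := by
    rw [Nat.mul_comm]; exact (Groth.Misc15.GrCurve.pow_mem_ne ℬ hy0 hy0r eR).1
  have hxr := pow_mem hx0r eS
  have hyr := pow_mem hy0r eR
  have he : 0 < eR * eS := Nat.mul_pos heR heS
  obtain ⟨n, u, -, hn, hu, hux, hukill⟩ :=
    Groth.Misc15.GrCurve.exists_top 𝒜 hposR h0R hstdR hr he hx hxr honeR
  obtain ⟨n', v, -, hn', hv, hvy, hvkill⟩ :=
    Groth.Misc15.GrCurve.exists_top ℬ hposS h0S hstdS hs he hy hyr honeS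
  rcases le_total n' n with h | h
  · exact Groth.Misc15.SegreDimOne.false_of_gorenstein 𝒜 ℬ 𝒯 ψ hψ hdegT hposR h0R hposS h0S hstdS
      honeS he hx hxr hy hyr hn hu hux hukill fun j hj => hvkill j (lt_of_le_of_lt h hj)
  · exact Groth.Misc15.SegreDimOne.false_of_gorenstein ℬ 𝒜 𝒯 ψ' hψ' hdegT' hposS h0S hposR h0R hstdR
      honeR he hy hyr hx hxr hn' hv hvy hvkill fun j hj => hukill j (lt_of_le_of_lt h hj)

end Groth.Agent.S18660
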