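import Groth.Statements.S18662
import Groth.Agent.GrMod.LocCoh
import Groth.Agent.LocCohBase.Cd

set_option autoImplicit false
universe u
open GrLC

namespace Groth.Agent.S18662

/-- Let R be a graded ring defined over a field, m = R_+, and M a graded R-module satisfying condition
(**): there is a homogeneous f ∈ R_d with d > 0 such that multiplication by f on M is bijective.
Then H^q_m(M) = 0 for every integer q (graded local cohomology, computed from any *injective
resolution of M in the graded category). Here 'graded ring defined over a field' means R = ⊕_{n ≥ 0}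
R_n is Noetherian with R_0 a field, and m = R_+ is its unique graded maximal ideal. -/
theorem result (R : Type u) [CommRing R] [IsNoetherianRing R] (𝒜 : ℤ → AddSubgroup R) [GradedRing 𝒜] (hpos : ∀ n : ℤ, n < 0 → 𝒜 n = ⊥) (h0 : IsField (GrLC.deg0 𝒜)) (m : HomogeneousIdeal 𝒜) (hm : GrLC.IsStarLocal 𝒜 m) (hmsp : m.toIdeal = Ideal.span (⋃ n ∈ Set.Ioi (0 : ℤ), (𝒜 n : Set R))) (M : Type u) [AddCommGroup M] [Module R M] (ℳ : ℤ → AddSubgroup M) [DirectSum.Decomposition ℳ] [SetLike.GradedSMul 𝒜 ℳ] (d : ℤ) (hd : 0 < d) (f : R) (hf : f ∈ 𝒜 d) (hbij : Function.Bijective (fun x : M => f • x)) (E : GrLC.StarInjRes 𝒜 ℳ) (q : ℕ) : Subsingleton (E.H m q) := by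
  obtain ⟨e⟩ := GrothGr.nonempty_H_equiv 𝒜 ℳ m E q
  haveI := Groth.LocCohBase.subsingleton_H_of_smul_bijective m.toIdeal M
    (hmsp ▸ Ideal.subset_span (Set.mem_biUnion (Set.mem_Ioi.2 hd) hf)) hbij q
  exact e.toEquiv.subsingleton

end Groth.Agent.S18662
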