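import Groth.Statements.S18663
import Groth.Agent.Misc15.SegreCMOne
import Groth.Agent.Misc15.HOne

set_option autoImplicit false
universe u
open scoped TensorProduct
open GrSegre

namespace Groth.Agent.S18663

/-- Let R and S be graded rings defined over a field k which are Cohen–Macaulay, with dim R = 1 and dim
S = s ≥ 1, and let T = R # S be their Segre product. (iii) If s ≥ 2, then T is a Cohen–Macaulay ring
if and only if H^1_{R_+}(R) # S = 0, that is, for every degree n, H^1_{R_+}(R)_n = 0 or S_n = 0.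
(iv) If s = 1, then T is a Cohen–Macaulay ring. Here a graded ring defined over k is a commutative
k-algebra of finite type, graded in nonnegative degrees by k-subspaces with degree-zero part k·1;
the graded local cohomology pieces are computed from a *injective resolution of R in the graded
category; the Segre product T = ⊕_n R_n ⊗_k S_n is presented abstractly as a graded k-algebra T with
an injective k-algebra homomorphism ψ : T → R ⊗_k S carrying T_n onto the k-span of the elementary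
tensors a ⊗ b with a ∈ R_n, b ∈ S_n. -/
theorem result (k : Type u) [Field k] (R : Type u) [CommRing R] [Algebra k R] (𝒜 : ℤ → Submodule k R) [GradedAlgebra 𝒜] (hposR : ∀ n : ℤ, n < 0 → 𝒜 n = ⊥) (h0R : 𝒜 0 = Submodule.span k {(1 : R)}) [Algebra.FiniteType k R] (S : Type u) [CommRing S] [Algebra k S] (ℬ : ℤ → Submodule k S) [GradedAlgebra ℬ] (hposS : ∀ n : ℤ, n < 0 → ℬ n = ⊥) (h0S : ℬ 0 = Submodule.span k {(1 : S)}) [Algebra.FiniteType k S] (T : Type u) [CommRing T] [Algebra k T] (𝒯 : ℤ → Submodule k T) [GradedAlgebra 𝒯] (ψ : T →ₐ[k] TensorProduct k R S) (hψ : Function.Injective ψ) (hdegT : ∀ n : ℤ, (𝒯 n).map ψ.toLinearMap = Submodule.span k {x : TensorProduct k R S | ∃ a ∈ 𝒜 n, ∃ b ∈ ℬ n, x = a ⊗ₜ[k] b}) [LocCoh.IsCohenMacaulayRing R] [LocCoh.IsCohenMacaulayRing S] (mR : HomogeneousIdeal 𝒜) (hmR : mR.toIdeal = Ideal.span (⋃ n ∈ Set.Ioi (0 : ℤ), (𝒜 n : Set R))) (I : GrLC.StarInjRes 𝒜 𝒜) (hr : ringKrullDim R = 1) (s : ℕ) (hs : ringKrullDim S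 = s) (h1s : 1 ≤ s) : (2 ≤ s → (LocCoh.IsCohenMacaulayRing T ↔ ∀ n : ℤ, I.Hcomp mR 1 n = ⊥ ∨ ℬ n = ⊥)) ∧ (s = 1 → LocCoh.IsCohenMacaulayRing T) := by
  classical
  haveI : IsNoetherianRing R := Algebra.FiniteType.isNoetherianRing k R
  haveI : Nontrivial R := by
    by_contra h
    rw [not_nontrivial_iff_subsingleton] at h
    rw [ringKrullDim_eq_bot_of_subsingleton] at hr
    simp at hr
  obtain ⟨e, x, he, hx, hxr⟩ := Groth.Misc15.GrCurve.exists_regular 𝒜 hposR h0R hr.ge
  have hm := Groth.Misc15.GrRegSeq.toIdeal_eq_irr 𝒜 hposR hmR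
  have key := Groth.Misc15.HOne.hcomp_eq_bot_iff I mR hx hxr
    (by rw [hm]; exact Groth.Misc15.GrCurve.mem_irr_of_mem 𝒜 hposR hx (by exact_mod_cast he))
    (by rw [hm]; exact Groth.Misc15.GrRegSeq.irr_le_radical 𝒜 hposR h0R hr he hx hxr)
  refine ⟨fun h2 => ⟨fun hT n => ?_, fun h => ?_⟩, fun h1 => ?_⟩
  · by_contra hn
    push Not at hn
    obtain ⟨hn1, hn2⟩ := hn
    obtain ⟨w, hw, hw0⟩ := (Submodule.ne_bot_iff _).1 hn2
    rw [ne_eq, key] at hn1
    push Not at hn1
    obtain ⟨N, r, hrn, hrx⟩ := hn1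
    have := Groth.Misc15.SegreCMOne.height_le_one 𝒜 ℬ 𝒯 ψ hψ hdegT hposR h0R hposS h0S hr hs h1s
      he hx hxr hw hw0 hrn hrx
    omega
  · exact Groth.Misc15.SegreCMOne.isCM 𝒜 ℬ 𝒯 ψ hψ hdegT hposR h0R hposS h0S hr hs h1s he hx hxr
      fun n hn => (key n).1 ((h n).resolve_right hn)
  · subst h1
    exact Groth.Misc15.SegreCMOne.isCM_one 𝒜 ℬ 𝒯 ψ hψ hdegT hposR h0R hposS h0S hr
      (by exact_mod_cast hs)

end Groth.Agent.S18663
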