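import Groth.Statements.S18664
import Groth.Agent.Misc15.SegreDimOne
import Groth.Agent.S18646
import Groth.Agent.S18647
import Groth.Agent.Ega4Algebra2.CMEquiv

set_option autoImplicit false
universe u
open scoped TensorProduct
open GrSegre

namespace Groth.Agent.S18664

/-- Let R and S be standard graded rings defined over a field k which are Cohen–Macaulay, with dim R = 1
and dim S ≥ 2. Then the Segre product T = R # S is a Cohen–Macaulay ring if and only if R is a
polynomial ring over k (in one variable). Here a graded ring defined over k is a commutative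
k-algebra of finite type, graded in nonnegative degrees by k-subspaces with degree-zero part k·1,
standard graded when its irrelevant ideal is generated by the degree-one piece; the Segre product T
= ⊕_n R_n ⊗_k S_n is presented abstractly as a graded k-algebra T with an injective k-algebra
homomorphism ψ : T → R ⊗_k S carrying T_n onto the k-span of the elementary tensors a ⊗ b with a ∈
R_n, b ∈ S_n. -/
theorem result (k : Type u) [Field k] (R : Type u) [CommRing R] [Algebra k R] (𝒜 : ℤ → Submodule k R) [GradedAlgebra 𝒜] (hposR : ∀ n : ℤ, n < 0 → 𝒜 n = ⊥) (h0R : 𝒜 0 = Submodule.span k {(1 : R)}) [Algebra.FiniteType k R] (S : Type u) [CommRing S] [Algebra k S] (ℬ : ℤ → Submodule k S) [GradedAlgebra ℬ] (hposS : ∀ n : ℤ, n < 0 → ℬ n = ⊥) (h0S : ℬ 0 = Submodule.span k {(1 : S)}) [Algebra.FiniteType k S] (T : Type u) [CommRing T] [Algebra k T] (𝒯 : ℤ → Submodule k T) [GradedAlgebra 𝒯] (ψ : T →ₐ[k] TensorProduct k R S) (hψ : Function.Injective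 ψ) (hdegT : ∀ n : ℤ, (𝒯 n).map ψ.toLinearMap = Submodule.span k {x : TensorProduct k R S | ∃ a ∈ 𝒜 n, ∃ b ∈ ℬ n, x = a ⊗ₜ[k] b}) [LocCoh.IsCohenMacaulayRing R] [LocCoh.IsCohenMacaulayRing S] (hstdR : Ideal.span (⋃ n ∈ Set.Ioi (0 : ℤ), (𝒜 n : Set R)) = Ideal.span ((𝒜 1 : Submodule k R) : Set R)) (hstdS : Ideal.span (⋃ n ∈ Set.Ioi (0 : ℤ), (ℬ n : Set S)) = Ideal.span ((ℬ 1 : Submodule k S) : Set S)) (hr : ringKrullDim R = 1) (hs : 2 ≤ ringKrullDim S) : LocCoh.IsCohenMacaulayRing T ↔ Nonempty (R ≃ₐ[k] Polynomial k) := by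
  constructor
  · intro hT
    by_contra hne
    obtain ⟨s, g, -, -, hs'⟩ : ∃ (s : ℕ) (g : MvPolynomial (Fin s) k →ₐ[k] S), Function.Injective g ∧
        g.IsIntegral ∧ ringKrullDim S = s := by
      haveI : Nontrivial S := by
        by_contra h
        rw [not_nontrivial_iff_subsingleton] at h
        rw [ringKrullDim_eq_bot_of_subsingleton] at hs
        simp at hs
      exact Groth.GrSegreDim.exists_indep_dim k S
    have h2s : 2 ≤ s := by rw [hs'] at hs; exact_mod_cast hs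
    haveI : Nontrivial R := by
      by_contra h
      rw [not_nontrivial_iff_subsingleton] at h
      rw [ringKrullDim_eq_bot_of_subsingleton] at hr
      simp at hr
    haveI : Nontrivial S := by
      by_contra h
      rw [not_nontrivial_iff_subsingleton] at h
      rw [ringKrullDim_eq_bot_of_subsingleton] at hs
      simp at hs
    have hone : ∀ z ∈ 𝒜 1, ¬ 𝒜 1 ≤ Submodule.span k {z} := fun z hz hle =>
      hne (Groth.Misc15.GrCurve.equiv_polynomial 𝒜 hposR h0R hstdR hr hz hle)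
    obtain ⟨eR, x0, heR, hx0, hx0r⟩ := Groth.Misc15.GrCurve.exists_regular 𝒜 hposR h0R hr.ge
    obtain ⟨eS, y0, heS, hy0, hy0r⟩ := Groth.Misc15.GrCurve.exists_regular ℬ hposS h0S
      ((show (1 : WithBot ℕ∞) ≤ 2 by norm_num).trans hs)
    have hx : x0 ^ eS ∈ 𝒜 ((eR * eS : ℕ) : ℤ) := (Groth.Misc15.GrCurve.pow_mem_ne 𝒜 hx0 hx0r eS).1
    have hy : y0 ^ eR ∈ ℬ ((eR * eS : ℕ) : ℤ) := by
      rw [Nat.mul_comm]; exact (Groth.Misc15.GrCurve.pow_mem_ne ℬ hy0 hy0r eR).1
    have hxr := pow_mem hx0r eS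
    have hyr := pow_mem hy0r eR
    have he : 0 < eR * eS := Nat.mul_pos heR heS
    obtain ⟨n, u, hen, -, hu, hux, hukill⟩ :=
      Groth.Misc15.GrCurve.exists_top 𝒜 hposR h0R hstdR hr he hx hxr hone
    obtain ⟨d, rfl⟩ := Nat.exists_eq_add_of_le hen
    obtain ⟨w, hw, hw0⟩ := Groth.Misc15.GrCurve.exists_ne_zero ℬ hposS h0S hstdS he hy hyr d
    have hz : y0 ^ eR * w ∈ ℬ ((eR * eS + d : ℕ) : ℤ) := by
      rw [Nat.cast_add]; exact SetLike.mul_mem_graded hy hw
    have hz0 : y0 ^ eR * w ≠ 0 := fun h => hw0 ((mul_cancel_left_mem_nonZeroDivisors hyr).1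
      (by rw [h, mul_zero]))
    obtain ⟨t, htm, ht⟩ := Groth.Misc15.SegreDimOne.exists_tt 𝒜 ℬ 𝒯 ψ hdegT hx hy
    obtain ⟨a, -, ha⟩ := Groth.Misc15.SegreDimOne.exists_tt 𝒜 ℬ 𝒯 ψ hdegT hu hz
    have hk := Groth.Misc15.SegreDimOne.kills 𝒜 ℬ 𝒯 ψ hψ hdegT hposR hx hy ht hu hukill hz
      (fun j _ b _ => Ideal.mem_span_singleton'.2 ⟨w * b, by ring⟩) ha
    haveI : Nontrivial (R ⊗[k] S) :=
      (Algebra.TensorProduct.includeLeft_injective (S := k) (algebraMap k S).injective).nontrivial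
    haveI : Nontrivial T := ψ.toRingHom.domain_nontrivial
    have h0T := Groth.Misc15.SegreDimOne.t_zero 𝒜 ℬ 𝒯 ψ hψ hdegT h0R h0S
    have hposT := Groth.Misc15.SegreDimOne.t_pos 𝒜 ℬ 𝒯 ψ hψ hdegT hposR
    haveI : IsNoetherianRing T :=
      Groth.Agent.S18646.result k R 𝒜 hposR h0R S ℬ hposS h0S T 𝒯 ψ hψ hdegT
    haveI := Groth.Misc15.GrCurve.finiteType_of_noetherian 𝒯 hposT h0T
    haveI := Groth.Misc15.GrCurve.irr_isMaximal 𝒯 hposT h0T
    have h1 := Groth.Misc15.Socle.height_le_one_of_socle (Groth.Misc15.GrCurve.irr 𝒯 hposT)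
      (Groth.Misc15.GrCurve.mem_irr_of_mem 𝒯 hposT htm (by exact_mod_cast he))
      (mem_nonZeroDivisors_of_injective hψ
        (ht ▸ Groth.Misc15.SegreDimOne.tmul_mem_nonZeroDivisors hxr hyr)) hk
      (Groth.Misc15.SegreDimOne.detect 𝒜 ℬ 𝒯 ψ hψ hdegT hposR h0R h0S ht hux hz0 ha hk)
    have h2 := Groth.Misc15.GrCurve.height_irr 𝒯 hposT h0T
    rw [Groth.Agent.S18647.result k R 𝒜 hposR h0R S ℬ hposS h0S T 𝒯 ψ hψ hdegT 1 s hr hs' le_rfl
      (by omega)] at h2
    have h3 : (Groth.Misc15.GrCurve.irr 𝒯 hposT).height = ((1 + s - 1 : ℕ) : ℕ∞) := by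
      exact WithBot.coe_injective (h2.trans (by rfl))
    rw [h3] at h1
    have : 1 + s - 1 ≤ 1 := by exact_mod_cast h1
    omega
  · rintro ⟨e⟩
    obtain ⟨E⟩ := Groth.Misc15.SegreDimOne.nonempty_equiv 𝒜 ℬ 𝒯 ψ hψ hdegT hposR h0R hposS hstdR e
    exact Groth.Ega4b.isCohenMacaulayRing_of_ringEquiv E.symm.toRingEquiv inferInstance

end Groth.Agent.S18664
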