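import Groth.Statements.S18666
import Groth.Agent.GrProjGor.FlatAtPrime
import Groth.Agent.Gorenstein.BaseChange
import Groth.Agent.Ega4Algebra1.RegularDescent

set_option autoImplicit false
universe u
open GrProj

namespace Groth.Agent.S18666

open AlgebraicGeometry Pointwise in
/-- Let A = ⊕_{n ≥ 0} A_n be a commutative Noetherian graded ring satisfying condition (#) — there is an
integer d_0 such that for every d ≥ d_0 the Veronese subring A^(d) is generated by A_d over A_0,
equivalently A_{(n+1)d} is additively generated by the products A_d A_{nd} for every n ≥ 1 — and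
assume A is a Gorenstein ring. Then X = Proj A is a Gorenstein scheme: all of its local rings are
Gorenstein local rings. (The Cohen–Macaulay case of the same lemma is stated separately.) -/
theorem result (A : Type u) [CommRing A] (𝒜 : ℕ → AddSubgroup A) [GradedRing 𝒜] [LocCoh.IsGorensteinRing A] (hsharp : ∃ d₀ : ℕ, ∀ d : ℕ, d₀ ≤ d → ∀ n : ℕ, 1 ≤ n → 𝒜 ((n + 1) * d) = AddSubgroup.closure ((𝒜 d : Set A) * (𝒜 (n * d) : Set A))) (x : Proj 𝒜) : LocCoh.IsGorensteinLocalRing ((Proj 𝒜).presheaf.stalk x) := by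
  classical
  obtain ⟨d₀, hd₀⟩ := hsharp
  let p : Ideal A := x.asHomogeneousIdeal.toIdeal
  haveI : p.IsPrime := x.isPrime
  obtain ⟨r, hr0, hrp⟩ := SetLike.not_le_iff_exists.1 x.not_irrelevant_le
  obtain ⟨e, he⟩ : ∃ e, (DirectSum.decompose 𝒜 r e : A) ∉ p := by
    by_contra hcon
    push Not at hcon
    refine hrp ?_
    show r ∈ p
    rw [← DirectSum.sum_support_decompose 𝒜 r]
    exact Ideal.sum_mem _ fun i _ => hcon i
  have he1 : 1 ≤ e := by
    rcases Nat.eq_zero_or_pos e with rfl | h
    · exact absurd (show (DirectSum.decompose 𝒜 r 0 : A) ∈ p from by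
        have h0 : (DirectSum.decompose 𝒜 r 0 : A) = 0 := hr0
        rw [h0]; exact zero_mem _) he
    · exact h
  have hD : ∀ d, d₀ + 1 ≤ d → ∃ f ∈ 𝒜 d, f ∉ p := by
    intro d hd
    by_contra hcon
    push Not at hcon
    refine he (Ideal.IsPrime.mem_of_pow_mem ‹p.IsPrime› d ?_)
    have hmem := SetLike.pow_mem_graded d (A := 𝒜) (DirectSum.decompose 𝒜 r e).2
    rw [smul_eq_mul] at hmem
    rcases Nat.lt_or_ge 1 e with h | h
    · obtain ⟨n, rfl⟩ : ∃ n, e = n + 1 := ⟨e - 1, by omega⟩
      rw [mul_comm, hd₀ d (by omega) n (by omega)] at hmem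
      refine AddSubgroup.closure_induction ?_ (zero_mem _) (fun _ _ _ _ => add_mem) (fun _ _ => neg_mem) hmem
      rintro _ ⟨a, ha, b, -, rfl⟩
      exact Ideal.mul_mem_right b p (hcon a ha)
    · obtain rfl : e = 1 := by omega
      rw [mul_one] at hmem
      exact hcon _ hmem
  haveI := Groth.GrProjGor.flat_atPrime 𝒜 p (d₀ + 1) hD
  haveI := Groth.GrProjGor.isLocalHom_atPrime 𝒜 p
  haveI hG : LocCoh.IsGorensteinLocalRing (Localization p.primeCompl) :=
    LocCoh.IsGorensteinRing.isGorensteinLocalRing_localization p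
  haveI : Module.FaithfullyFlat (HomogeneousLocalization.AtPrime 𝒜 p) (Localization p.primeCompl) :=
    Module.FaithfullyFlat.of_flat_of_isLocalHom
  haveI : IsNoetherianRing (Localization p.primeCompl) := hG.toIsNoetherian
  haveI : IsNoetherianRing (HomogeneousLocalization.AtPrime 𝒜 p) :=
    Groth.Ega4Algebra1.isNoetherianRing_of_faithfullyFlat (HomogeneousLocalization.AtPrime 𝒜 p) (Localization p.primeCompl)
  have hA := GrothGoren.exists_injLT_of_flat (A := HomogeneousLocalization.AtPrime 𝒜 p)
    (B := Localization p.primeCompl) ((GrothGoren.isGorenstein_iff _).1 hG)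
  let σ := (AlgebraicGeometry.Proj.stalkIso 𝒜 x).commRingCatIsoToRingEquiv
  haveI : IsNoetherianRing ((AlgebraicGeometry.Proj 𝒜).presheaf.stalk x) := isNoetherianRing_of_ringEquiv _ σ.symm
  exact (GrothGoren.isGorenstein_iff _).2 ((GrothGoren.exists_injLT_iff_of_ringEquiv σ).2 hA)


end Groth.Agent.S18666
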