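import Groth.Statements.S18667
import Groth.Agent.GrMod.FiniteCanonical

set_option autoImplicit false
universe u
open GrLC

namespace Groth.Agent.S18667

/-- Let R and S be graded rings defined over the same field k and f : R → S a degree-preserving k-linear
ring map (not necessarily injective), with R Cohen–Macaulay and S a finite R-module through f, and
put t = dim R − dim S. Then K_S = Ext^t_R(S, K_R). Stated here as the existence of an R-linear
isomorphism between the canonical module of S (an S-module, viewed over R) and the R-module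
Ext^t_R(S, K_R); the published isomorphism is natural and respects gradings. Here a graded ring
defined over a field is Noetherian, positively ℤ-graded with degree-zero part a field; that R and S
are defined over the same field and f is k-linear is expressed by asking f to carry R_0 onto S_0;
and the canonical module is represented by a finitely generated graded module together with a
homogeneous isomorphism from its Hom into a *injective envelope of the residue field onto the top
graded local cohomology of the ring with support in its irrelevant ideal, computed from a *injective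
resolution in the graded category (by graded Matlis duality this pins the module up to graded
isomorphism). -/
theorem result (R : Type u) [CommRing R] [LocCoh.IsCohenMacaulayRing R] (𝒜 : ℤ → AddSubgroup R) [GradedRing 𝒜] (hpos : ∀ n : ℤ, n < 0 → 𝒜 n = ⊥) (h0 : IsField (GrLC.deg0 𝒜)) (m : HomogeneousIdeal 𝒜) (hm : GrLC.IsStarLocal 𝒜 m) (hmsp : m.toIdeal = Ideal.span (⋃ n ∈ Set.Ioi (0 : ℤ), (𝒜 n : Set R))) (n : ℕ) (hn : ringKrullDim R = n) (I : GrLC.StarInjRes 𝒜 𝒜) (E' : Type u) [AddCommGroup E'] [Module R E'] (𝓔 : ℤ → AddSubgroup E') [DirectSum.Decomposition 𝓔] [SetLike.GradedSMul 𝒜 𝓔] (e : (R ⧸ m.toIdeal) →ₗ[R] E') (he : GrLC.IsStarInjHull 𝒜 (GrLC.quotGr 𝒜 m) 𝓔 e) (C : Type u) [AddCommGroup C] [Module R C] (𝒞 : ℤ → AddSubgroup C) [DirectSum.Decomposition 𝒞] [SetLike.GradedSMul 𝒜 𝒞] (hC : GrLC.IsStarCanonical 𝒜 𝒞 𝓔 m n I) (S : Type u) [CommRing S] [IsNoetherianRing S] [Algebra R S] [Module.Finite R S] (𝒜' : ℤ → AddSubgroup S) [GradedRing 𝒜'] (hf : ∀ j : ℤ, (𝒜 j).map (algebraMap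 R S : R →+ S) ≤ 𝒜' j) (hf0 : (𝒜 0).map (algebraMap R S : R →+ S) = 𝒜' 0) (hpos' : ∀ j : ℤ, j < 0 → 𝒜' j = ⊥) (h0' : IsField (GrLC.deg0 𝒜')) (m' : HomogeneousIdeal 𝒜') (hm' : GrLC.IsStarLocal 𝒜' m') (hm'sp : m'.toIdeal = Ideal.span (⋃ j ∈ Set.Ioi (0 : ℤ), (𝒜' j : Set S))) (n' : ℕ) (hn' : ringKrullDim S = n') (I' : GrLC.StarInjRes 𝒜' 𝒜') (E'' : Type u) [AddCommGroup E''] [Module S E''] (𝓔'' : ℤ → AddSubgroup E'') [DirectSum.Decomposition 𝓔''] [SetLike.GradedSMul 𝒜' 𝓔''] (e' : (S ⧸ m'.toIdeal) →ₗ[S] E'') (he' : GrLC.IsStarInjHull 𝒜' (GrLC.quotGr 𝒜' m') 𝓔'' e') (C' : Type u) [AddCommGroup C'] [Module S C'] [Module R C'] [IsScalarTower R S C'] (𝒞' : ℤ → AddSubgroup C') [DirectSum.Decomposition 𝒞'] [SetLike.GradedSMul 𝒜' 𝒞'] (hC' : GrLC.IsStarCanonical 𝒜' 𝒞' 𝓔'' m' n' I') : Nonempty (C' ≃ₗ[R] CategoryTheory.Abelian.Ext.{u} (ModuleCat.of R S) (ModuleCat.of R C) (n - n')) := by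
  exact GrothGr.FiniteCanonical.nonempty_canonical_ext hpos h0 hm hmsp hn I he 𝒞 hC hf hf0 hpos'
    h0' hm' hm'sp hn' I' he' 𝒞' hC'


end Groth.Agent.S18667
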