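import Groth.Statements.S18671
import Groth.Agent.GrMod.Veronese.Finrank

set_option autoImplicit false
universe u
open GrLC

namespace Groth.Agent.S18671

/-- Let R be a graded ring defined over a field, q ≥ 1, R' = R^(q) its Veronese subring with m' = R'_+,
and M a graded R-module with Veronese submodule M^(q) = ⊕_j M_{jq}, a graded R'-module. Then
H^p_{m'}(M^(q)) ≅ (H^p_m(M))^(q) for every p. Stated here, for M finitely generated, as the equality
of dimensions dim H^p_{m'}(M^(q))_j = dim H^p_m(M)_{jq} over the degree-zero fields R'_0 ≅ R_0, for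
all p and j (the published isomorphism is one of graded R'-modules; all these pieces are
finite-dimensional). Here 'graded ring defined over a field' means R = ⊕_{n ≥ 0} R_n is Noetherian
with R_0 a field, and m = R_+ is its unique graded maximal ideal. The graded local cohomologies are
computed from *injective resolutions in the respective graded categories; the Veronese subring R^(q)
= ⊕_j R_{jq}, regraded by (R^(q))_j = R_{jq}, is presented abstractly as a ℤ-graded ring R' with an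
injective ring homomorphism φ : R' → R carrying R'_j onto R_{jq} for every j. The module M^(q) is
presented as a graded R'-module M' with an injective additive map g : M' → M, semilinear over φ,
carrying M'_j onto M_{jq} for every j. -/
theorem result (R : Type u) [CommRing R] [IsNoetherianRing R] (𝒜 : ℤ → AddSubgroup R) [GradedRing 𝒜] (hpos : ∀ n : ℤ, n < 0 → 𝒜 n = ⊥) (h0 : IsField (GrLC.deg0 𝒜)) (m : HomogeneousIdeal 𝒜) (hm : GrLC.IsStarLocal 𝒜 m) (hmsp : m.toIdeal = Ideal.span (⋃ n ∈ Set.Ioi (0 : ℤ), (𝒜 n : Set R))) (M : Type u) [AddCommGroup M] [Module R M] (ℳ : ℤ → AddSubgroup M) [DirectSum.Decomposition ℳ] [SetLike.GradedSMul 𝒜 ℳ] [Module.Finite R M] (E : GrLC.StarInjRes 𝒜 ℳ) (q : ℕ) (hq : 0 < q) (R' : Type u) [CommRing R'] (𝒜' : ℤ → AddSubgroup R') [GradedRing 𝒜'] (φ : R' →+* R) (hφ : Function.Injective φ) (hdeg : ∀ j : ℤ, (𝒜' j).map (φ : R' →+ R) = 𝒜 (j * q)) (m' : HomogeneousIdeal 𝒜') (hm' : GrLC.IsStarLocal 𝒜' m') (hm'sp : m'.toIdeal = Ideal.span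 (⋃ j ∈ Set.Ioi (0 : ℤ), (𝒜' j : Set R'))) (M' : Type u) [AddCommGroup M'] [Module R' M'] (ℳ' : ℤ → AddSubgroup M') [DirectSum.Decomposition ℳ'] [SetLike.GradedSMul 𝒜' ℳ'] (g : M' →ₛₗ[φ] M) (hg : Function.Injective g) (hgdeg : ∀ j : ℤ, (ℳ' j).map (g : M' →+ M) = ℳ (j * q)) (F : GrLC.StarInjRes 𝒜' ℳ') (p : ℕ) (j : ℤ) : Module.finrank (GrLC.deg0 𝒜') (F.Hcomp m' p j) = Module.finrank (GrLC.deg0 𝒜) (E.Hcomp m p (j * q)) := by
  obtain ⟨γ, hγ⟩ := GrothGr.Vero.exists_vero_H (q := q) ⟨hφ, hq, hdeg⟩ hmsp hm'sp E ⟨hg, hgdeg⟩ F p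
  exact GrothGr.Vero.finrank_eq_of_map_eq (q := q) ⟨hφ, hq, hdeg⟩ γ hγ.inj (F.Hcomp m' p j) (E.Hcomp m p (j * q)) (hγ.map_eq j)

end Groth.Agent.S18671
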