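import Groth.Statements.S18674
import Groth.Agent.Misc15.SegLC.CanSegre
import Groth.Agent.Misc15.SegLC.SegCMStd

set_option autoImplicit false
universe u
open scoped TensorProduct
open GrSegre

namespace Groth.Agent.S18674

/-- Let R and S be graded rings defined over a field k of dimensions r ≥ 2 and s ≥ 2, and T = R # S
their Segre product (of dimension r + s − 1). Then K_T ≅ K_R # K_S. Stated here degree by degree as
dim (K_T)_n = dim (K_R)_n · dim (K_S)_n for every n (the published statement is the isomorphism of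
graded T-modules). Here a graded ring defined over k is a commutative k-algebra of finite type,
graded in nonnegative degrees by k-subspaces with degree-zero part k·1; the canonical module of each
of R, S, T is represented by a finitely generated graded module together with a homogeneous
isomorphism from its Hom into a *injective envelope of the residue field onto the top graded local
cohomology of the ring with support in its irrelevant ideal (indices r, s, r + s − 1), computed from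
a *injective resolution in the graded category; dimensions of pieces are over the respective
degree-zero fields (all k); the Segre product T = ⊕_n R_n ⊗_k S_n is presented abstractly as a
graded k-algebra T with an injective k-algebra homomorphism ψ : T → R ⊗_k S carrying T_n onto the
k-span of the elementary tensors a ⊗ b with a ∈ R_n, b ∈ S_n. -/
theorem result (k : Type u) [Field k] (R : Type u) [CommRing R] [Algebra k R] (𝒜 : ℤ → Submodule k R) [GradedAlgebra 𝒜] (hposR : ∀ n : ℤ, n < 0 → 𝒜 n = ⊥) (h0R : 𝒜 0 = Submodule.span k {(1 : R)}) [Algebra.FiniteType k R] (S : Type u) [CommRing S] [Algebra k S] (ℬ : ℤ → Submodule k S) [GradedAlgebra ℬ] (hposS : ∀ n : ℤ, n < 0 → ℬ n = ⊥) (h0S : ℬ 0 = Submodule.span k {(1 : S)}) [Algebra.FiniteType k S] (T : Type u) [CommRing T] [Algebra k T] (𝒯 : ℤ → Submodule k T) [GradedAlgebra 𝒯] (ψ : T →ₐ[k] TensorProduct k R S) (hψ : Function.Injective ψ) (hdegT : ∀ n : ℤ, (𝒯 n).map ψ.toLinearMap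 = Submodule.span k {x : TensorProduct k R S | ∃ a ∈ 𝒜 n, ∃ b ∈ ℬ n, x = a ⊗ₜ[k] b}) (mR : HomogeneousIdeal 𝒜) (hmR : mR.toIdeal = Ideal.span (⋃ n ∈ Set.Ioi (0 : ℤ), (𝒜 n : Set R))) (I : GrLC.StarInjRes 𝒜 𝒜) (mS : HomogeneousIdeal ℬ) (hmS : mS.toIdeal = Ideal.span (⋃ n ∈ Set.Ioi (0 : ℤ), (ℬ n : Set S))) (J : GrLC.StarInjRes ℬ ℬ) (mT : HomogeneousIdeal 𝒯) (hmT : mT.toIdeal = Ideal.span (⋃ n ∈ Set.Ioi (0 : ℤ), (𝒯 n : Set T))) (IT : GrLC.StarInjRes 𝒯 𝒯) (r s : ℕ) (hr : ringKrullDim R = r) (hs : ringKrullDim S = s) (h2r : 2 ≤ r) (h2s : 2 ≤ s) (ER : Type u) [AddCommGroup ER] [Module R ER] (𝓔R : ℤ → AddSubgroup ER) [DirectSum.Decomposition 𝓔R] [SetLike.GradedSMul 𝒜 𝓔R] (eR : (R ⧸ mR.toIdeal) →ₗ[R] ER) (heR : GrLC.IsStarInjHull 𝒜 (GrLC.quotGr 𝒜 mR) 𝓔R eR) (CR : Type u) [AddCommGroup CR] [Module R CR] (𝒞R : ℤ → AddSubgroup CR) [DirectSum.Decomposition 𝒞R] [SetLike.GradedSMul 𝒜 𝒞R] (hCR : GrLC.IsStarCanonical 𝒜 𝒞R 𝓔R mR r I) (ES : Type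 u) [AddCommGroup ES] [Module S ES] (𝓔S : ℤ → AddSubgroup ES) [DirectSum.Decomposition 𝓔S] [SetLike.GradedSMul ℬ 𝓔S] (eS : (S ⧸ mS.toIdeal) →ₗ[S] ES) (heS : GrLC.IsStarInjHull ℬ (GrLC.quotGr ℬ mS) 𝓔S eS) (CS : Type u) [AddCommGroup CS] [Module S CS] (𝒞S : ℤ → AddSubgroup CS) [DirectSum.Decomposition 𝒞S] [SetLike.GradedSMul ℬ 𝒞S] (hCS : GrLC.IsStarCanonical ℬ 𝒞S 𝓔S mS s J) (ET : Type u) [AddCommGroup ET] [Module T ET] (𝓔T : ℤ → AddSubgroup ET) [DirectSum.Decomposition 𝓔T] [SetLike.GradedSMul 𝒯 𝓔T] (eT : (T ⧸ mT.toIdeal) →ₗ[T] ET) (heT : GrLC.IsStarInjHull 𝒯 (GrLC.quotGr 𝒯 mT) 𝓔T eT) (CT : Type u) [AddCommGroup CT] [Module T CT] (𝒞T : ℤ → AddSubgroup CT) [DirectSum.Decomposition 𝒞T] [SetLike.GradedSMul 𝒯 𝒞T] (hCT : GrLC.IsStarCanonical 𝒯 𝒞T 𝓔T mT (r + s - 1) IT) (n : ℤ) : Module.finrank (GrLC.deg0 𝒯) (GrLC.comp 𝒯 𝒞T n) = Module.finrank (GrLC.deg0 𝒜) (GrLC.comp 𝒜 𝒞R n) * Module.finrank (GrLC.deg0 ℬ) (GrLC.comp ℬ 𝒞S n) := by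
  haveI := Groth.Misc15.SegLC.nontrivial_of_dim hr
  haveI := Groth.Misc15.SegLC.nontrivial_of_dim hs
  haveI : Nontrivial T := Groth.Misc15.SegLC.nontrivial_segre ψ
  letI : Module k CR := Module.compHom CR (algebraMap k R)
  haveI : IsScalarTower k R CR := IsScalarTower.of_algebraMap_smul fun _ _ => rfl
  letI : Module k CS := Module.compHom CS (algebraMap k S)
  haveI : IsScalarTower k S CS := IsScalarTower.of_algebraMap_smul fun _ _ => rfl
  letI : Module k CT := Module.compHom CT (algebraMap k T)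
  haveI : IsScalarTower k T CT := IsScalarTower.of_algebraMap_smul fun _ _ => rfl
  rw [Groth.Misc15.SegLC.finrank_comp
      (Groth.Misc15.SegreDimOne.t_zero 𝒜 ℬ 𝒯 ψ hψ hdegT h0R h0S),
    Groth.Misc15.SegLC.finrank_comp h0R, Groth.Misc15.SegLC.finrank_comp h0S]
  exact Groth.Misc15.CanSegre.finrank_canonical_segre hposR h0R hmR hr h2r heR hCR hposS h0S hmS hs
    h2s heS hCS ⟨hψ, hdegT⟩ hmT IT heT hCT n

end Groth.Agent.S18674
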