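import Groth.Statements.S18676
import Groth.Agent.Misc15.SemilocInj.Main

set_option autoImplicit false
open CategoryTheory MonoidalCategory CartesianMonoidalCategory MonObj GrpObj AlgebraicGeometry
universe u
open MultTori

namespace Groth.Agent.S18676

/-- Let A be a regular Noetherian integral domain with finitely many maximal ideals (a regular semilocal
domain), K its field of fractions, and M an isotrivial group of multiplicative type of finite type
over it (a group scheme M which, after one finite étale surjective base change, becomes isomorphic
as a group scheme to the diagonalizable group of a finitely generated commutative group). Then the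
restriction map H¹_fppf(A, M) → H¹_fppf(K, M_K) on classes of torsors is injective. (The source
assumes, more generally, A semilocal Noetherian integral with factorial strict henselisations;
regularity is its named sufficient condition and is what is assumed here.) -/
theorem result
    (A : Type u) [CommRing A] [IsDomain A] [IsRegularRing A] [Finite (MaximalSpectrum A)]
    (M : Over (Spec (CommRingCat.of A))) [GrpObj M]
    (hM : ∃ (Λ : Type) (_ : AddCommGroup Λ), AddGroup.FG Λ ∧
      TwC.Locally (Spec (CommRingCat.of A)) .finiteEtale
        (fun S' g => Nonempty (Grp.mk (Red.bc g M) ≅ Grp.mk (Red.DS S' Λ)))) :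
    Function.Injective
      (NonAbH1.H1Sch.bcMap (Spec.map (CommRingCat.ofHom (algebraMap A (FractionRing A)))) M
        Scheme.fppfPrecoverage) := by
  classical
  haveI := Groth.Misc15.SemilocInj.isAffineHom_of_locally hM
  obtain ⟨D⟩ := Groth.Misc15.SemilocInj.nonempty_split hM
  intro p q h
  induction p using Quot.ind with | _ P => ?_
  induction q using Quot.ind with | _ Q => ?_
  obtain ⟨e⟩ := Groth.Misc15.SemilocInj.nonempty_equivIso_of_eqvGen (Quot.eqvGen_exact h)
  obtain ⟨C, _, _, _, hsurj, ⟨z₁, hz₁⟩, ⟨z₂, hz₂⟩⟩ :=
    Groth.TorsProper.Adic.exists_cover P.isTorsor.2 Q.isTorsor.2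
  haveI : Module.FaithfullyFlat A C := Module.FaithfullyFlat.of_comap_surjective hsurj.surj
  exact Quot.sound (Groth.Misc15.SemilocInj.nonempty_equivIso D P.isTorsor.1 Q.isTorsor.1
    (Over.homMk z₁ hz₁) (Over.homMk z₂ hz₂) e)

end Groth.Agent.S18676
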