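import Groth.Statements.S1868
import Groth.Agent.Cycles.PullPush
import Groth.Agent.FlatMor2.Weighting.FlatLength
import Mathlib.AlgebraicGeometry.Morphisms.FlatRank
-- import your own Groth.Agent.* helpers here

set_option autoImplicit false
universe u
open CategoryTheory AlgebraicGeometry
open Cyc

namespace Groth.Agent.S1868

/-- Let f : X → Y be finite locally free of constant degree d (finite, flat, rank function constantly
d). Then f has relative dimension 0 and for every k-cycle α on Y, f_*(f^*α) = d·α (for any cycle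
f^*α on X with the flat-pullback coefficients). Here a pair (X, δ) with Cyc.IsSetup plays the role
of a scheme locally of finite type over a fixed base with a dimension function (X locally Noetherian
with universally catenary local rings, δ a dimension function), and Cyc.DeltaCompat records that the
dimension function upstairs is the induced one. -/
theorem result (X Y : Scheme.{u}) (δX : X → ℤ) (δY : Y → ℤ) (hX : Cyc.IsSetup X δX) (hY : Cyc.IsSetup Y δY) (f : X ⟶ Y) [IsFinite f] [Flat f] (d : ℕ) (hd : ∀ y : Y, f.finrank y = d) (hδ : Cyc.DeltaCompat f δX δY) (k : ℤ) : Cyc.HasRelDim f 0 ∧ ∀ (α : AlgebraicCycle Y ℤ), α ∈ Cyc.Zk Y δY k → ∀ α' : AlgebraicCycle X ℤ, ⇑α' = Cyc.pullFun f δX δY 0 ⇑α → AlgebraicCycle.map f δX δY α' = d • α := by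
  classical
  have hfib : ∀ y, IsFinite (f.fiberToSpecResidueField y : f.fiber y ⟶ Spec (CommRingCat.of (Y.residueField y))) :=
    fun y => MorphismProperty.of_isPullback (P := @IsFinite)
      (IsPullback.of_hasPullback f (Y.fromSpecResidueField y)) ‹IsFinite f›
  have hdisc : ∀ y, Finite (f.fiber y) ∧ DiscreteTopology (f.fiber y) := fun y =>
    @Misc3Fib.finite_discrete_of_isFinite _ _ _
      (f.fiberToSpecResidueField y : f.fiber y ⟶ Spec (CommRingCat.of (Y.residueField y))) (hfib y)
  refine ⟨fun y T hT => ?_, fun α hα α' hα' => ?_⟩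
  · have := (hdisc y).2
    obtain ⟨t, ht⟩ := hT.1.nonempty
    have hTt : T = closure {t} := by
      rw [closure_discrete]
      refine Set.Subset.antisymm (fun s hs => ?_) (Set.singleton_subset_iff.mpr ht)
      by_contra hne
      obtain ⟨w, -, hw1, hw2⟩ := hT.1.2 {s} {t} (isOpen_discrete _) (isOpen_discrete _)
        ⟨s, hs, rfl⟩ ⟨t, ht, rfl⟩
      exact hne (hw1.symm.trans hw2)
    rw [hTt, Groth.Variety2.Dim.dim_closure_singleton]
    have : IsMin t := fun w hw => ((show t ⤳ w from hw).eq).le
    rw [Order.height_eq_zero.mpr this]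
    rfl
  ext y
  have := hfib y
  obtain ⟨hfin, -⟩ := hdisc y
  have := Fintype.ofFinite (f.fiber y)
  let g : f.fiber y ⟶ Spec (CommRingCat.of (Y.residueField y)) := f.fiberToSpecResidueField y
  have : IsFinite g := ‹_›
  let z0 : ↥(Spec (CommRingCat.of (Y.residueField y))) := IsLocalRing.closedPoint (Y.residueField y)
  have key := Groth.FlatMor2.finsum_length_mul_residueDegree g z0
  have hrank : g.finrank z0 = d := by
    show (Limits.pullback.snd f (Y.fromSpecResidueField y)).finrank z0 = d
    rw [Scheme.Hom.finrank_pullback_snd, hd]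
  rw [finsum_eq_sum_of_fintype, hrank] at key
  let s : Finset X := Finset.univ.image (f.fiberι y)
  rw [Groth.Cycles.map_apply_eq_sum f δX δY α' y s fun x hx _ => by
    obtain ⟨t, rfl⟩ : x ∈ Set.range (f.fiberι y) := by rw [Scheme.Hom.range_fiberι]; exact hx
    exact Finset.mem_image_of_mem _ (Finset.mem_univ t)]
  rw [Finset.sum_image fun a _ b _ h => (f.fiberι y).isEmbedding.injective h]
  simp only [Function.locallyFinsuppWithin.coe_nsmul, Pi.smul_apply, nsmul_eq_mul]
  rw [← key, Nat.cast_sum, Finset.sum_mul]
  refine Finset.sum_congr rfl fun t _ => ?_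
  have hty : f (f.fiberι y t) = y := Groth.FibreDim.apply_fiberι f _ _
  rw [if_pos hty, hα']
  obtain ⟨n, hn, hn'⟩ := hδ (f.fiberι y t)
  have hfin' : (f.residueFieldMap (f.fiberι y t)).hom.Finite :=
    Flatmor4.finite_residueFieldMap f (f.quasiFiniteAt _)
  have hn0 : n = 0 := by
    let := (f.residueFieldMap (f.fiberι y t)).hom.toAlgebra
    have : Module.Finite (Y.residueField (f (f.fiberι y t))) (X.residueField (f.fiberι y t)) := hfin'
    have h0 : Algebra.trdeg (Y.residueField (f (f.fiberι y t))) (X.residueField (f.fiberι y t)) = 0 :=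
      trdeg_eq_zero
    rw [h0] at hn
    exact_mod_cast hn.symm
  subst hn0
  rw [Nat.cast_zero, add_zero] at hn'
  rw [Cyc.pullFun, if_pos (by rw [hn', add_zero]), AlgebraicCycle.mapCoeff, if_pos hn', show α (f (f.fiberι y t)) = α y from congrArg α hty,
    Groth.FlatMor2.fibLength_asFiber f y t, Groth.FlatMor2.residueDegree_fiber, Groth.FlatMor2.fibLength]
  push_cast
  ring

end Groth.Agent.S1868
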