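import Groth.Statements.S18681
import Groth.Agent.Misc15.UnramH1.Main
import Groth.Agent.Misc15.MultH1.Forms
-- import your own Groth.Agent.* helpers here

set_option autoImplicit false
open CategoryTheory MonoidalCategory CartesianMonoidalCategory MonObj GrpObj AlgebraicGeometry
universe u
open MultTori

namespace Groth.Agent.S18681

/-- Let A be a discrete valuation ring with residue field κ and field of fractions K, let K̂ be the
completion of K at the valuation of A (the adic completion at the height-one prime v of A; there is
only one), and let M an isotrivial group of multiplicative type of finite type over A (a group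
scheme M which, after one finite étale surjective base change, becomes isomorphic as a group scheme
to the diagonalizable group of a finitely generated commutative group), such that the κ-group M_κ
becomes diagonalizable over a finite Galois extension L of κ whose Galois group has all its Sylow
subgroups cyclic. Assume moreover that M_K is smooth over K. Then the map H¹_fppf(K, M_K) →
H¹_fppf(K̂, M_K̂) on classes of torsors is surjective. (The group M_K is assumed smooth over K, that
is, the torsion of its character group has order prime to the characteristic of K; this is automatic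
in characteristic zero. The published statement has no such condition, but its proof uses the
openness of the image of F(K̂) in P(K̂) for an isogeny F → P with kernel M (an implicit-function
argument over K̂), which requires it, and without it the statement fails: for K the rational
function field in one variable t over the field with p elements, completed t-adically, and M the
group of p-th roots of unity, the map K*/K*ᵖ → K̂*/K̂*ᵖ is not surjective, the target being
uncountable.) (The source also allows the alternative that κ has cohomological dimension at most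
one; only the splitting alternative is stated here.) -/
theorem result
    (A : Type u) [CommRing A] [IsDomain A] [IsDiscreteValuationRing A]
    (v : IsDedekindDomain.HeightOneSpectrum A)
    (M : Over (Spec (CommRingCat.of A))) [GrpObj M]
    (hM : ∃ (Λ : Type) (_ : AddCommGroup Λ), AddGroup.FG Λ ∧
      TwC.Locally (Spec (CommRingCat.of A)) .finiteEtale
        (fun S' g => Nonempty (Grp.mk (Red.bc g M) ≅ Grp.mk (Red.DS S' Λ))))
    (hsplit : (∃ (L : Type u) (_ : Field L) (_ : Algebra (IsLocalRing.ResidueField A) L),
      FiniteDimensional (IsLocalRing.ResidueField A) L ∧ IsGalois (IsLocalRing.ResidueField A) L ∧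
      (∀ (p : ℕ) [Fact p.Prime] (P : Sylow p (L ≃ₐ[(IsLocalRing.ResidueField A)] L)), IsCyclic P) ∧
      ∃ (Λ : Type) (_ : AddCommGroup Λ), AddGroup.FG Λ ∧
        Nonempty (Grp.mk (Red.bc (Spec.map (CommRingCat.ofHom (algebraMap (IsLocalRing.ResidueField A) L)) ≫ (Spec.map (CommRingCat.ofHom (IsLocalRing.residue A)))) M) ≅
          Grp.mk (Red.DS (Spec (CommRingCat.of L)) Λ))))
    [Smooth (Red.bc (Spec.map (CommRingCat.ofHom (algebraMap A (FractionRing A)))) M).hom] :
    Function.Surjective
      (NonAbH1.H1Sch.bcMap (Spec.map (CommRingCat.ofHom (algebraMap (FractionRing A) (v.adicCompletion (FractionRing A))))) (Red.bc (Spec.map (CommRingCat.ofHom (algebraMap A (FractionRing A)))) M) Scheme.fppfPrecoverage) := by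
  classical
  haveI : Smooth (Red.bc (Spec.map (CommRingCat.ofHom (algebraMap A (FractionRing A)))) M).hom := inferInstance
  obtain ⟨Λ₀, _, hfg, S', f₀, hfin, het, hsurj, hloc⟩ := hM
  let g₀ : Spec (CommRingCat.of (FractionRing A)) ⟶ Spec (CommRingCat.of A) :=
    Spec.map (CommRingCat.ofHom (algebraMap A (FractionRing A)))
  haveI : IsFinite (Limits.pullback.snd f₀ g₀) := MorphismProperty.pullback_snd _ _ hfin
  haveI : Etale (Limits.pullback.snd f₀ g₀) := MorphismProperty.pullback_snd _ _ het
  haveI : Surjective (Limits.pullback.snd f₀ g₀) := MorphismProperty.pullback_snd _ _ hsurj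
  obtain ⟨E, _, _, q, hfd, hgal, hq⟩ :=
    Groth.Misc15.MultH1.exists_galois_point (Limits.pullback.snd f₀ g₀)
  haveI := hfd; haveI := hgal
  letI : Algebra A E := ((algebraMap (FractionRing A) E).comp (algebraMap A (FractionRing A))).toAlgebra
  haveI : IsScalarTower A (FractionRing A) E := IsScalarTower.of_algebraMap_eq fun _ => rfl
  have hq' : (q ≫ Limits.pullback.fst f₀ g₀) ≫ f₀ = Groth.AlgGrp2.str A E := by
    rw [Category.assoc, Limits.pullback.condition, reassoc_of% hq, ← Spec.map_comp]
    rfl
  haveI : Algebra.FormallyEtale (FractionRing A) E := Algebra.FormallyEtale.of_isSeparable _ _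
  haveI : Algebra.Etale (FractionRing A) E :=
    ⟨inferInstance, Algebra.FinitePresentation.of_finiteType.1 inferInstance⟩
  have hMK : ∃ (Λ : Type) (_ : AddCommGroup Λ), AddGroup.FG Λ ∧
      TwC.Locally (Spec (CommRingCat.of (FractionRing A))) .finiteEtale
        (fun S'' g => Nonempty (Grp.mk (Red.bc g (Red.bc g₀ M)) ≅ Grp.mk (Red.DS S'' Λ))) := by
    refine ⟨Λ₀, inferInstance, hfg, Spec (CommRingCat.of E), Groth.AlgGrp2.str (FractionRing A) E, ?_, ?_,
      ⟨fun x => ⟨(⟨⊥, Ideal.isPrime_bot⟩ : PrimeSpectrum E), Subsingleton.elim (α := PrimeSpectrum (FractionRing A)) _ _⟩⟩,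
      fun s' => ?_⟩
    · rw [IsFinite.SpecMap_iff]
      exact RingHom.finite_algebraMap.2 inferInstance
    · refine (HasRingHomProperty.Spec_iff (P := @Etale)).2 ?_
      exact RingHom.etale_algebraMap.2 inferInstance
    obtain ⟨U, hU, -, ⟨e⟩⟩ := hloc ((q ≫ Limits.pullback.fst f₀ g₀).base s')
    have hrange : Set.range (q ≫ Limits.pullback.fst f₀ g₀).base ⊆ Set.range U.ι.base := by
      rw [Scheme.Opens.range_ι]
      rintro _ ⟨x, rfl⟩
      rwa [Subsingleton.elim (α := PrimeSpectrum E) x s']
    let e' : Red.DS (U : Scheme.{u}) Λ₀ ≅ Red.bc (U.ι ≫ f₀) M := (Grp.forget _).mapIso e.symm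
    haveI : IsMonHom e'.hom := inferInstanceAs (IsMonHom e.inv.hom.hom)
    let T : (Spec (CommRingCat.of E)).Opens := ⊤
    obtain ⟨i, hi⟩ := Groth.Reductive.FreeDiag.exists_trivialisation_comp M
      (T.ι ≫ IsOpenImmersion.lift U.ι _ hrange) (U.ι ≫ f₀) e'
    haveI := hi
    have hd : (T.ι ≫ Groth.AlgGrp2.str (FractionRing A) E) ≫ g₀ =
        (T.ι ≫ IsOpenImmersion.lift U.ι _ hrange) ≫ U.ι ≫ f₀ := by
      rw [Category.assoc, Category.assoc, IsOpenImmersion.lift_fac_assoc]
      congr 1
      rw [hq', ← Spec.map_comp]; rfl
    refine ⟨T, trivial, isClosed_univ, ⟨?_⟩⟩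
    let b := ActBC.bcCompIso (T.ι ≫ Groth.AlgGrp2.str (FractionRing A) E) g₀ M hd
    haveI : IsMonHom (b ≪≫ i.symm).hom := inferInstanceAs (IsMonHom (b.hom ≫ i.inv))
    exact Grp.mkIso' (b ≪≫ i.symm)
  obtain ⟨E₂, _, _, F, j, hfd₂, hgal₂, hj, hfgN⟩ := Groth.Misc15.MultH1.exists_form hMK
  haveI := hfd₂; haveI := hgal₂; haveI := hj; haveI := hfgN
  letI : Algebra A E₂ := ((algebraMap (FractionRing A) E₂).comp (algebraMap A (FractionRing A))).toAlgebra
  haveI : IsScalarTower A (FractionRing A) E₂ := IsScalarTower.of_algebraMap_eq fun _ => rfl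
  obtain ⟨L, _, _, hLfd, hLgal, hcyc, Λ, _, -, ⟨eL⟩⟩ := hsplit
  haveI := hLfd; haveI := hLgal
  refine Groth.Misc15.AdicH1.surjective_adicCompletion A v F j (fun _ : Fin 1 => 1) (by simp) fun _ => ?_
  letI : (Valued.v : Valuation (v.adicCompletion (FractionRing A)) (WithZero (Multiplicative ℤ))).RankOne :=
    Valuation.IsRankOneDiscrete.rankOne _ (show (1 : NNReal) < 2 by norm_num)
  letI : NontriviallyNormedField (v.adicCompletion (FractionRing A)) :=
    Valued.toNontriviallyNormedField (L := v.adicCompletion (FractionRing A)) (Γ₀ := WithZero (Multiplicative ℤ))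
  have hn := Groth.Misc15.UnramH1.adicCompletion_norm A v
  exact Groth.Misc15.UnramH1.cycSplit_unram hn.1 hn.2 F j f₀
    (fun s' => let ⟨U, hU, _, h⟩ := hloc s'; ⟨U, hU, h⟩) (q ≫ Limits.pullback.fst f₀ g₀) hq' L @hcyc eL

end Groth.Agent.S18681
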