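import Groth.Statements.S18684
import Groth.Agent.Misc15.AdicH1.Cyclo
import Groth.Agent.Misc15.AdicH1.ResCyclo
-- import your own Groth.Agent.* helpers here

set_option autoImplicit false
open CategoryTheory MonoidalCategory CartesianMonoidalCategory MonObj GrpObj AlgebraicGeometry
universe u
open MultTori

namespace Groth.Agent.S18684

/-- Let A be a discrete valuation ring with residue field κ and field of fractions K, with completion K̂
(the adic completion at the height-one prime v of A); let C be a finite commutative group whose
exponent e is invertible in κ, let 2^r be the exact power of 2 dividing e, and assume that the field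
obtained from κ by adjoining the 2^r-th roots of unity is a cyclic Galois extension of κ. Then for
the constant K-group scheme C_K the map H¹_ét(K, C_K) → H¹_ét(K̂, C_K̂) on classes of torsors is
surjective. (The source also allows the alternative that κ has cohomological dimension at most one;
only the cyclotomic alternative is stated here.) -/
theorem result
    (A : Type u) [CommRing A] [IsDomain A] [IsDiscreteValuationRing A]
    (v : IsDedekindDomain.HeightOneSpectrum A) (C : Type u) [CommGroup C] [Finite C]
    (C_ : Over (Spec (CommRingCat.of (FractionRing A)))) [GrpObj C_] (e : C_ ≅ TwC.const (Spec (CommRingCat.of (FractionRing A))) C) (he : TwC.IsConstGrp C C_ e)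
    (hexp : IsUnit ((Monoid.exponent C : ℕ) : (IsLocalRing.ResidueField A)))
    (hcyc : IsCyclic (CyclotomicField (2 ^ (Monoid.exponent C).factorization 2) (IsLocalRing.ResidueField A) ≃ₐ[(IsLocalRing.ResidueField A)] CyclotomicField (2 ^ (Monoid.exponent C).factorization 2) (IsLocalRing.ResidueField A))) :
    Function.Surjective (NonAbH1.H1Sch.bcMap (Spec.map (CommRingCat.ofHom (algebraMap (FractionRing A) (v.adicCompletion (FractionRing A))))) C_ Scheme.etalePrecoverage) := by
  have hA : IsUnit ((Monoid.exponent C : ℕ) : A) := by
    refine (isUnit_map_iff (IsLocalRing.residue A) _).1 ?_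
    rwa [map_natCast]
  have hK : IsUnit ((Monoid.exponent C : ℕ) : FractionRing A) := by
    simpa using hA.map (algebraMap A (FractionRing A))
  have : NeZero ((2 ^ (Monoid.exponent C).factorization 2 : ℕ) : IsLocalRing.ResidueField A) := ⟨fun h0 => by
    obtain ⟨q, hq⟩ := Nat.ordProj_dvd (Monoid.exponent C) 2
    exact hexp.ne_zero (by rw [hq, Nat.cast_mul, h0, zero_mul])⟩
  exact Groth.Misc15.AdicH1.surjective_constGrp A v C e he hK
    (Groth.Misc15.AdicH1.isCyclic_cyclotomic_adicCompletion A v _ hcyc)

end Groth.Agent.S18684
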