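import Groth.Statements.S18685
import Groth.Agent.Misc15.GLat.Resolutions

set_option autoImplicit false
open GLat

namespace Groth.Agent.S18685

/-- For a finite group G and a finitely generated G-module A there is an exact sequence 0 → P → F → A →
0 of finitely generated G-modules with P a permutation lattice and F a flasque lattice; rendered by
equivariant ℤ-linear maps i : P → F injective, π : F → A surjective, with range i = ker π. -/
theorem result (G : Type) [Group G] [Finite G]
    (A : Type) [AddCommGroup A] [Module.Finite ℤ A] (ρ : Representation ℤ G A) :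
    ∃ (P : Type) (_ : AddCommGroup P) (F : Type) (_ : AddCommGroup F)
      (_ : Module.Finite ℤ P) (_ : Module.Free ℤ P) (_ : Module.Finite ℤ F) (_ : Module.Free ℤ F)
      (σ : Representation ℤ G P) (τ : Representation ℤ G F) (i : P →ₗ[ℤ] F) (π : F →ₗ[ℤ] A),
      GLat.IsEquivariant σ τ i ∧ GLat.IsEquivariant τ ρ π ∧ Function.Injective i ∧ Function.Surjective π ∧
      LinearMap.range i = LinearMap.ker π ∧ GLat.IsPermutation σ ∧ GLat.IsFlasque τ := by
  exact Groth.Misc15.GLatLib.exists_flasque_cover A ρ

end Groth.Agent.S18685
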