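import Groth.Statements.S18687
import Groth.Agent.Misc15.GLat.Resolutions

set_option autoImplicit false
open GLat

namespace Groth.Agent.S18687

/-- For a finite group G and a G-lattice A (finitely generated and free over ℤ) there is an exact
sequence 0 → A → Q → P → 0 of G-lattices with Q coflasque and P a permutation lattice (a coflasque
resolution of A); rendered by equivariant ℤ-linear maps i : A → Q injective, π : Q → P surjective,
with range i = ker π. -/
theorem result (G : Type) [Group G] [Finite G]
    (A : Type) [AddCommGroup A] [Module.Finite ℤ A] [Module.Free ℤ A] (ρ : Representation ℤ G A) :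
    ∃ (Q : Type) (_ : AddCommGroup Q) (P : Type) (_ : AddCommGroup P)
      (_ : Module.Finite ℤ Q) (_ : Module.Free ℤ Q) (_ : Module.Finite ℤ P) (_ : Module.Free ℤ P)
      (σ : Representation ℤ G Q) (τ : Representation ℤ G P) (i : A →ₗ[ℤ] Q) (π : Q →ₗ[ℤ] P),
      GLat.IsEquivariant ρ σ i ∧ GLat.IsEquivariant σ τ π ∧ Function.Injective i ∧ Function.Surjective π ∧
      LinearMap.range i = LinearMap.ker π ∧ GLat.IsCoflasque σ ∧ GLat.IsPermutation τ := by
  exact Groth.Misc15.GLatLib.exists_coflasque_resolution A ρ

end Groth.Agent.S18687
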