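import Groth.Statements.S18690
import Groth.Agent.Misc15.MultH1.Local

set_option autoImplicit false
open CategoryTheory MonoidalCategory CartesianMonoidalCategory MonObj GrpObj AlgebraicGeometry
universe u
open MultTori

namespace Groth.Agent.S18690

/-- (iii) ⇒ (i): let k be a field and M an isotrivial group of multiplicative type of finite type over k
(a group scheme M which, after one finite étale surjective base change, becomes isomorphic as a
group scheme to the diagonalizable group of a finitely generated commutative group). If for every
discrete valuation ring A containing k (a k-algebra), with residue field κ, the reduction map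
H¹_fppf(A, M_A) → H¹_fppf(κ, M_κ) on classes of torsors is surjective, then this reduction map is
surjective for every local k-algebra A with residue field κ. -/
theorem result
    (k : Type u) [Field k] (M : Over (Spec (CommRingCat.of k))) [GrpObj M]
    (hM : ∃ (Λ : Type) (_ : AddCommGroup Λ), AddGroup.FG Λ ∧
      TwC.Locally (Spec (CommRingCat.of k)) .finiteEtale
        (fun S' g => Nonempty (Grp.mk (Red.bc g M) ≅ Grp.mk (Red.DS S' Λ))))
    (h : ∀ (A : Type u) [CommRing A] [IsDomain A] [IsDiscreteValuationRing A] [Algebra k A],
        Function.Surjective
          (NonAbH1.H1Sch.bcMap (Spec.map (CommRingCat.ofHom (IsLocalRing.residue A)))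
            (Red.bc (Spec.map (CommRingCat.ofHom (algebraMap k A))) M) Scheme.fppfPrecoverage)) :
    ∀ (A : Type u) [CommRing A] [IsLocalRing A] [Algebra k A],
        Function.Surjective
          (NonAbH1.H1Sch.bcMap (Spec.map (CommRingCat.ofHom (IsLocalRing.residue A)))
            (Red.bc (Spec.map (CommRingCat.ofHom (algebraMap k A))) M) Scheme.fppfPrecoverage) := by
  obtain ⟨D⟩ := Groth.Misc15.MultH1.exists_res hM
  intro A _ _ _
  exact Groth.Misc15.MultH1.surjective_local_of_dvr D h A

end Groth.Agent.S18690
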