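import Groth.Statements.S18693
import Groth.Agent.Misc15.TorusDvr.Main

set_option autoImplicit false
open CategoryTheory MonoidalCategory CartesianMonoidalCategory MonObj GrpObj AlgebraicGeometry
universe u
open MultTori

namespace Groth.Agent.S18693

/-- Let A be a discrete valuation ring whose fraction field is K, let K̂ be the completion of K at the
valuation of A (the adic completion at the height-one prime v of A) and Â ⊂ K̂ its ring of integers,
and let T be an isotrivial A-torus (isomorphic, after one finite étale surjective base change, to a
split torus of some rank). Then T(K̂) = T(Â)·T(K): every point of T over Spec K̂ (as an A-scheme) is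
the product, for the group law on points, of the restriction of a point over Spec Â and the
restriction of a point over Spec K. The restrictions are taken along given A-morphisms Spec K̂ →
Spec Â and Spec K̂ → Spec K whose underlying maps are the canonical ones. (In the printed copy the
completion signs of this formula are lost; the reading T(Â)·T(K) = T(K̂) is the one its proof
establishes.) -/
theorem result
    (A : Type u) [CommRing A] [IsDomain A] [IsDiscreteValuationRing A]
    (v : IsDedekindDomain.HeightOneSpectrum A)
    (T : Over (Spec (CommRingCat.of A))) [GrpObj T]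
    (hT : ∃ r : ℕ, TwC.Locally (Spec (CommRingCat.of A)) .finiteEtale
        (fun S' g => Red.IsSplitTorusWith (Fin r → ℤ) (Red.bc g T)))
    (ιA : Over.mk (Spec.map (CommRingCat.ofHom (algebraMap A (v.adicCompletion (FractionRing A))))) ⟶
      Over.mk (Spec.map (CommRingCat.ofHom (algebraMap A (v.adicCompletionIntegers (FractionRing A))))))
    (hιA : ιA.left = Spec.map (CommRingCat.ofHom (algebraMap (v.adicCompletionIntegers (FractionRing A)) (v.adicCompletion (FractionRing A)))))
    (ιK : Over.mk (Spec.map (CommRingCat.ofHom (algebraMap A (v.adicCompletion (FractionRing A))))) ⟶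
      Over.mk (Spec.map (CommRingCat.ofHom (algebraMap A (FractionRing A)))))
    (hιK : ιK.left = Spec.map (CommRingCat.ofHom (algebraMap (FractionRing A) (v.adicCompletion (FractionRing A)))))
    (x : Over.mk (Spec.map (CommRingCat.ofHom (algebraMap A (v.adicCompletion (FractionRing A))))) ⟶ T) :
    ∃ (a : Over.mk (Spec.map (CommRingCat.ofHom (algebraMap A (v.adicCompletionIntegers (FractionRing A))))) ⟶ T)
      (b : Over.mk (Spec.map (CommRingCat.ofHom (algebraMap A (FractionRing A)))) ⟶ T),
      x = (ιA ≫ a) * (ιK ≫ b) := by
  obtain ⟨r, hr⟩ := hT
  haveI := Groth.Reductive2.isAffineHom_of_isTorus (Groth.Misc15.TorusDvr.isTorus_of_locally hr)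
  haveI : AlgebraicGeometry.IsAffine T.left := AlgebraicGeometry.isAffine_of_isAffineHom T.hom
  obtain ⟨D⟩ := Groth.Misc15.TorusDvr.nonempty_split hr
  obtain ⟨a, b, h⟩ := Groth.Misc15.TorusDvr.point_eq_mul v D x
  refine ⟨a, b, h.trans ?_⟩
  congr 2
  · exact Over.OverMorphism.ext hιA.symm
  · exact Over.OverMorphism.ext hιK.symm

end Groth.Agent.S18693
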