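import Groth.Statements.S18694
import Groth.Prelude.Def_GmPts
import Mathlib.RingTheory.Ideal.GoingUp
import Mathlib.RingTheory.TensorProduct.Maps
-- import your own Groth.Agent.* helpers here

set_option autoImplicit false
open CategoryTheory MonoidalCategory CartesianMonoidalCategory MonObj GrpObj AlgebraicGeometry
universe u
open MultTori

namespace Groth.Agent.S18694

/-- In the case of the quasitrivial torus R_{B/A}(G_m), let A be a semilocal ring (finitely many maximal
ideals m, residue fields κ_m = A/m), B a finite étale A-algebra, and (P, q) a Weil restriction along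
Spec B → Spec A of the multiplicative group over B (P an A-scheme with q : P ×_A B → G_{m,B}
universal). Then the reduction map P(A) → ∏_m P(κ_m) is surjective: every family (u_m) of κ_m-points
of P over the closed points of Spec A is the family of restrictions of one section of P over A. (The
source states this for every invertible A-torus and reduces it to this case; the
invertible/quasitrivial notions are not available here, so only this case is stated.) -/
theorem result
    (A : Type u) [CommRing A] [Finite (MaximalSpectrum A)]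
    (B : Type u) [CommRing B] [Algebra A B] [Module.Finite A B] [Algebra.Etale A B]
    (P : Over (Spec (CommRingCat.of A))) (q : Red.bc (Spec.map (CommRingCat.ofHom (algebraMap A B))) P ⟶ Red.Gm (Spec (CommRingCat.of B)))
    (hP : WeilRes.IsWeilRes (Spec.map (CommRingCat.ofHom (algebraMap A B))) (Red.Gm (Spec (CommRingCat.of B))) P q)
    (u : ∀ m : MaximalSpectrum A, Spec (CommRingCat.of (A ⧸ m.asIdeal)) ⟶ P.left)
    (hu : ∀ m : MaximalSpectrum A, u m ≫ P.hom = (Spec.map (CommRingCat.ofHom (Ideal.Quotient.mk m.asIdeal)))) :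
    ∃ s : Spec (CommRingCat.of A) ⟶ P.left, s ≫ P.hom = 𝟙 (Spec (CommRingCat.of A)) ∧
      ∀ m : MaximalSpectrum A, (Spec.map (CommRingCat.ofHom (Ideal.Quotient.mk m.asIdeal))) ≫ s = u m := by
  classical
  let f := Spec.map (CommRingCat.ofHom (algebraMap A B))
  let T : Over (Spec (CommRingCat.of A)) := Over.mk (𝟙 _)
  let Tm : MaximalSpectrum A → Over (Spec (CommRingCat.of A)) := fun m =>
    Over.mk (Spec.map (CommRingCat.ofHom (algebraMap A (A ⧸ m.asIdeal))))
  let tm : ∀ m, Tm m ⟶ T := fun m =>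
    Over.homMk (Spec.map (CommRingCat.ofHom (algebraMap A (A ⧸ m.asIdeal)))) (Category.comp_id _)
  let gm : ∀ m, Tm m ⟶ P := fun m => Over.homMk (u m) (hu m)
  let x : ∀ m, Red.bc f (Tm m) ⟶ Red.Gm (Spec (CommRingCat.of B)) := fun m => WeilRes.restr f q (Tm m) (gm m)
  let iso : ∀ m : MaximalSpectrum A, (Red.bc f (Tm m)).left ≅
      Spec (CommRingCat.of (TensorProduct A (A ⧸ m.asIdeal) B)) := fun m => pullbackSpecIso A (A ⧸ m.asIdeal) B
  let θ : ∀ m : MaximalSpectrum A, CommRingCat.of (TensorProduct A (A ⧸ m.asIdeal) B) ⟶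
      Γ((Red.bc f (Tm m)).left, ⊤) := fun m =>
    (Scheme.ΓSpecIso _).inv ≫ (iso m).hom.appTop
  haveI hθi : ∀ m, IsIso (θ m) := fun m => by
    haveI : IsIso (iso m).hom.appTop := inferInstanceAs (IsIso ((iso m).hom.app ⊤))
    dsimp only [θ]; infer_instance
  let inR : ∀ m : MaximalSpectrum A, B →ₐ[A] TensorProduct A (A ⧸ m.asIdeal) B := fun m =>
    Algebra.TensorProduct.includeRight
  -- the residual units
  let y : ∀ m : MaximalSpectrum A, (TensorProduct A (A ⧸ m.asIdeal) B) := fun m => (inv (θ m)) (Red.gmFn (x m))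
  have hy : ∀ m, θ m (y m) = Red.gmFn (x m) := fun m => by
    show (inv (θ m) ≫ θ m) (Red.gmFn (x m)) = _
    rw [IsIso.inv_hom_id]; rfl
  have hyu : ∀ m, IsUnit (y m) := fun m => (GmPts.isUnit_gmFn (x m)).map (inv (θ m)).hom
  have hys : ∀ m, ∃ b, inR m b = y m := fun m => by
    generalize y m = z
    induction z using TensorProduct.induction_on with
    | zero => exact ⟨0, map_zero _⟩
    | add a c ha hc =>
      obtain ⟨a, rfl⟩ := ha; obtain ⟨c, rfl⟩ := hc
      exact ⟨a + c, map_add _ _ _⟩
    | tmul a c =>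
      obtain ⟨a, rfl⟩ := Ideal.Quotient.mk_surjective a
      refine ⟨a • c, ?_⟩
      show (1 : A ⧸ m.asIdeal) ⊗ₜ[A] (a • c) = _
      rw [← TensorProduct.smul_tmul, Algebra.smul_def, _root_.mul_one]
      rfl
  choose bm hbm using hys
  haveI := Fintype.ofFinite (MaximalSpectrum A)
  have hidem : ∀ m : MaximalSpectrum A, ∃ a : A, (Ideal.Quotient.mk m.asIdeal a = 1) ∧
      ∀ n : MaximalSpectrum A, n ≠ m → Ideal.Quotient.mk n.asIdeal a = 0 := fun m => by
    have hco : Pairwise fun i j : MaximalSpectrum A => IsCoprime i.asIdeal j.asIdeal := fun i j hij =>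
      Ideal.isCoprime_iff_sup_eq.2 (i.isMaximal.coprime_of_ne j.isMaximal fun h => hij (MaximalSpectrum.ext h))
    obtain ⟨a, ha⟩ := Ideal.exists_forall_sub_mem_ideal hco (Pi.single m (1 : A))
    refine ⟨a, ?_, fun n hn => ?_⟩
    · rw [← map_one (Ideal.Quotient.mk m.asIdeal), Ideal.Quotient.eq]
      simpa using ha m
    · rw [Ideal.Quotient.eq_zero_iff_mem]
      simpa [Pi.single_eq_of_ne hn] using ha n
  choose a ha1 ha0 using hidem
  let b : B := ∑ m, a m • bm m
  have hb : ∀ m, inR m b = y m := fun m => by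
    have hsm : ∀ n, inR m (a n • bm n) = Ideal.Quotient.mk m.asIdeal (a n) ⊗ₜ[A] bm n := fun n => by
      show (1 : A ⧸ m.asIdeal) ⊗ₜ[A] (a n • bm n) = _
      rw [← TensorProduct.smul_tmul, Algebra.smul_def, _root_.mul_one]
      rfl
    rw [map_sum, Finset.sum_eq_single m (fun n _ hn => by rw [hsm, ha0 n m hn.symm, TensorProduct.zero_tmul])
      (fun h => absurd (Finset.mem_univ m) h), hsm, ha1]
    exact hbm m
  have hbu : IsUnit b := by
    by_contra hu'
    obtain ⟨M, hM, hbM⟩ := exists_max_ideal_of_mem_nonunits (mem_nonunits_iff.2 hu')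
    haveI := hM
    haveI : Algebra.IsIntegral A B := Algebra.IsIntegral.of_finite A B
    let m : MaximalSpectrum A := ⟨_, Ideal.isMaximal_comap_of_isIntegral_of_isMaximal (R := A) M⟩
    let l : (A ⧸ m.asIdeal) →ₐ[A] B ⧸ M := Ideal.Quotient.liftₐ _ (Algebra.ofId A (B ⧸ M)) fun z hz => by
      show Ideal.Quotient.mk M (algebraMap A B z) = 0
      exact Ideal.Quotient.eq_zero_iff_mem.2 hz
    have h0 := (hyu m).map (Algebra.TensorProduct.lift l (Ideal.Quotient.mkₐ A M) fun _ _ => .all _ _)
    rw [← hb m, show inR m b = 1 ⊗ₜ[A] b from rfl, Algebra.TensorProduct.lift_tmul, map_one, _root_.one_mul,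
      Ideal.Quotient.mkₐ_eq_mk, Ideal.Quotient.eq_zero_iff_mem.2 hbM] at h0
    exact not_isUnit_zero h0
  -- the section
  let sn := Limits.pullback.snd T.hom f
  let r : Γ((Red.bc f T).left, ⊤)ˣ :=
    Units.map ((Scheme.ΓSpecIso (CommRingCat.of B)).inv ≫ sn.appTop).hom.toMonoidHom hbu.unit
  obtain ⟨g, hg⟩ := (hP T).2 (GmPts.ptOfUnit r)
  refine ⟨g.left, Over.w g, fun m => ?_⟩
  have key : tm m ≫ g = gm m := by
    refine (hP (Tm m)).1 ?_
    rw [WeilRes.restr_comp, hg]
    refine GmPts.gmFn_injective ?_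
    show Red.gmFn ((Over.pullback f).map (tm m) ≫ GmPts.ptOfUnit r) = Red.gmFn (x m)
    rw [GmPts.gmFn_comp, GmPts.gmFn_ptOfUnit, ← hy, ← hb]
    have h1 : ((Over.pullback f).map (tm m)).left ≫ sn = Limits.pullback.snd (Tm m).hom f :=
      Limits.pullback.lift_snd _ _ _
    have h2 : ((Scheme.ΓSpecIso (CommRingCat.of B)).inv ≫ sn.appTop) ≫ ((Over.pullback f).map (tm m)).left.appTop =
        CommRingCat.ofHom (inR m).toRingHom ≫ θ m := by
      rw [Category.assoc, ← Scheme.Hom.comp_appTop, h1, ← Category.assoc,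
        Scheme.ΓSpecIso_inv_naturality, Category.assoc, ← Scheme.Hom.comp_appTop]
      congr 2
      exact (pullbackSpecIso_hom_snd A (A ⧸ m.asIdeal) B).symm
    exact ConcreteCategory.congr_hom h2 b
  exact congrArg CommaMorphism.left key

end Groth.Agent.S18694
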