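import Groth.Statements.S18695
import Groth.Agent.Misc15.MultH1.Local
import Groth.Agent.Misc15.MultH1.Const
import Groth.Agent.Misc15.MultH1.EtaleTopo

set_option autoImplicit false
open CategoryTheory MonoidalCategory CartesianMonoidalCategory MonObj GrpObj AlgebraicGeometry
universe u
open MultTori

namespace Groth.Agent.S18695

/-- (ii) ⇒ (i): let k be a field, C a finite commutative group whose order is invertible in k, and C_k
the constant k-group scheme (given with an isomorphism to the constant scheme compatible with the
group laws). If for every discrete valuation ring A containing k (a k-algebra), with residue field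
κ, the reduction map H¹_ét(A, C_A) → H¹_ét(κ, C_κ) on classes of torsors (abelian étale covers with
group C) is surjective, then it is surjective for every local k-algebra A with residue field κ (the
universal lifting property for abelian C-covers). -/
theorem result
    (k : Type u) [Field k] (C : Type u) [CommGroup C] [Finite C]
    (C_ : Over (Spec (CommRingCat.of k))) [GrpObj C_] (e : C_ ≅ TwC.const (Spec (CommRingCat.of k)) C) (he : TwC.IsConstGrp C C_ e)
    (hC : IsUnit ((Nat.card C : ℕ) : k))
    (h : ∀ (A : Type u) [CommRing A] [IsDomain A] [IsDiscreteValuationRing A] [Algebra k A],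
        Function.Surjective
          (NonAbH1.H1Sch.bcMap (Spec.map (CommRingCat.ofHom (IsLocalRing.residue A)))
            (Red.bc (Spec.map (CommRingCat.ofHom (algebraMap k A))) C_) Scheme.etalePrecoverage)) :
    ∀ (A : Type u) [CommRing A] [IsLocalRing A] [Algebra k A],
        Function.Surjective
          (NonAbH1.H1Sch.bcMap (Spec.map (CommRingCat.ofHom (IsLocalRing.residue A)))
            (Red.bc (Spec.map (CommRingCat.ofHom (algebraMap k A))) C_) Scheme.etalePrecoverage) := by
  classical
  obtain ⟨E, _, _, F, j, hfd, hgal, hj, hfg⟩ := Groth.Misc15.MultH1.exists_form_const e he hC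
  haveI := hfd; haveI := hgal; haveI := hj; haveI := hfg
  obtain ⟨D⟩ := Groth.Misc15.MultH1.exists_res_of_form F j
  haveI : IsSeparated C_.hom := by
    rw [← Over.w j.inv]
    haveI : IsIso j.inv.left := inferInstanceAs (IsIso ((Over.forget _).map j.inv))
    haveI : IsSeparated F.sch.hom := inferInstanceAs (IsSeparated (Spec.map _))
    infer_instance
  haveI : Etale C_.hom := by
    rw [← Over.w e.hom]
    haveI : IsIso e.hom.left := inferInstanceAs (IsIso ((Over.forget _).map e.hom))
    haveI : Etale (TwC.const (Spec (CommRingCat.of k)) C).hom :=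
      IsZariskiLocalAtSource.sigmaDesc (P := @Etale) fun _ => inferInstance
    infer_instance
  have hbc : ∀ (S' : Scheme.{u}) (g : S' ⟶ Spec (CommRingCat.of k)),
      Etale (Red.bc g C_).hom ∧ IsSeparated (Red.bc g C_).hom := fun S' g =>
    ⟨MorphismProperty.pullback_snd _ _ ‹Etale C_.hom›, MorphismProperty.pullback_snd _ _ ‹IsSeparated C_.hom›⟩
  have hsurj : ∀ (A : Type u) [CommRing A] [IsLocalRing A] [Algebra k A],
      Function.Surjective (NonAbH1.H1Sch.bcMap (Spec.map (CommRingCat.ofHom (IsLocalRing.residue A)))
          (Red.bc (Spec.map (CommRingCat.ofHom (algebraMap k A))) C_) Scheme.etalePrecoverage) ↔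
        Function.Surjective (NonAbH1.H1Sch.bcMap (Spec.map (CommRingCat.ofHom (IsLocalRing.residue A)))
          (Red.bc (Spec.map (CommRingCat.ofHom (algebraMap k A))) C_) Scheme.fppfPrecoverage) := by
    intro A _ _ _
    obtain ⟨h1, h2⟩ := hbc _ (Spec.map (CommRingCat.ofHom (algebraMap k A)))
    haveI : Etale (Red.bc (Spec.map (CommRingCat.ofHom (IsLocalRing.residue A)))
        (Red.bc (Spec.map (CommRingCat.ofHom (algebraMap k A))) C_)).hom :=
      MorphismProperty.pullback_snd _ _ h1
    haveI : IsSeparated (Red.bc (Spec.map (CommRingCat.ofHom (IsLocalRing.residue A)))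
        (Red.bc (Spec.map (CommRingCat.ofHom (algebraMap k A))) C_)).hom :=
      MorphismProperty.pullback_snd _ _ h2
    exact Groth.Misc15.MultH1.surjective_iff_fppf _
  intro A _ _ _
  exact (hsurj A).2 (Groth.Misc15.MultH1.surjective_local_of_dvr D (fun A _ _ _ _ => (hsurj A).1 (h A)) A)

end Groth.Agent.S18695
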