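import Groth.Statements.S18698
import Groth.Agent.Misc15.RatTorus.Main

set_option autoImplicit false
open CategoryTheory MonoidalCategory CartesianMonoidalCategory MonObj GrpObj AlgebraicGeometry
universe u
open MultTori

namespace Groth.Agent.S18698

/-- (v) ⇒ (vi): let k be a field and T an isotrivial k-torus (isomorphic to a split torus of some rank
after one finite étale surjective base change). If for every discrete valuation ring A containing k
(a k-algebra), with residue field κ, the reduction map T(A) → T(κ) is surjective, then there is an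
isotrivial k-torus T₁ such that the k-scheme T ×_k T₁ is k-rational, i.e. birational over k to an
affine space over k. -/
theorem result
    (k : Type u) [Field k] (T : Over (Spec (CommRingCat.of k))) [GrpObj T]
    (hT : ∃ r : ℕ, TwC.Locally (Spec (CommRingCat.of k)) .finiteEtale
        (fun S' g => Red.IsSplitTorusWith (Fin r → ℤ) (Red.bc g T)))
    (h : ∀ (A : Type u) [CommRing A] [IsDomain A] [IsDiscreteValuationRing A] [Algebra k A]
        (u : Spec (CommRingCat.of (IsLocalRing.ResidueField A)) ⟶ T.left),
        u ≫ T.hom = Spec.map (CommRingCat.ofHom ((IsLocalRing.residue A).comp (algebraMap k A))) →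
        ∃ s : Spec (CommRingCat.of A) ⟶ T.left, s ≫ T.hom = Spec.map (CommRingCat.ofHom (algebraMap k A)) ∧
          Spec.map (CommRingCat.ofHom (IsLocalRing.residue A)) ≫ s = u) :
    ∃ (T₁ : Over (Spec (CommRingCat.of k))) (_ : GrpObj T₁),
      (∃ r : ℕ, TwC.Locally (Spec (CommRingCat.of k)) .finiteEtale (fun S' g => Red.IsSplitTorusWith (Fin r → ℤ) (Red.bc g T₁))) ∧
      Scheme.IsRationalOver (T ⊗ T₁).hom := by
  obtain ⟨r, hr⟩ := hT
  exact Groth.Misc15.RatTorus.exists_factor_rational hr h

end Groth.Agent.S18698
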