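import Groth.Statements.S1870
import Groth.Agent.MilnorKLambda.Periodic

set_option autoImplicit false
universe u v
open CycAlg

namespace Groth.Agent.S1870

/-- A morphism of (2,1)-periodic complexes, both with finite-length cohomology, whose kernel and
cokernel have finite length does not change the additive Herbrand quotient: e_R(M, φ, ψ) = e_R(M',
φ', ψ'). -/
theorem result {R : Type u} [CommRing R] {M M' : Type v} [AddCommGroup M] [Module R M] [AddCommGroup M'] [Module R M'] (φ ψ : M →ₗ[R] M) (φ' ψ' : M' →ₗ[R] M') (h : CycAlg.IsPeriodic φ ψ) (h' : CycAlg.IsPeriodic φ' ψ') (f : M →ₗ[R] M') (cφ : φ' ∘ₗ f = f ∘ₗ φ) (cψ : ψ' ∘ₗ f = f ∘ₗ ψ) (hfin : CycAlg.FinCoh R φ ψ) (hfin' : CycAlg.FinCoh R φ' ψ') (hker : Module.length R (LinearMap.ker f) < ⊤) (hcoker : Module.length R (M' ⧸ LinearMap.range f) < ⊤) : CycAlg.herbrand R φ ψ = CycAlg.herbrand R φ' ψ' := by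
  exact (Groth.MilnorKLambda.Per.herbrand_eq_of_finite_ker_coker h h' f cφ cψ hker hcoker hfin).2

end Groth.Agent.S1870
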