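import Groth.Statements.S18704
import Groth.Agent.DepthRefl.Serre
-- import your own Groth.Agent.* helpers here

set_option autoImplicit false
universe u
open QGor

namespace Groth.Agent.S18704

/-- Affine form. Let A be a Noetherian ring with Serre's condition (S_2), I an ideal with ht I ≥ 2
(every prime containing I has height ≥ 2), and G a finite A-module with G_p reflexive for every
prime p not containing I. Then the following are equivalent: (i) G has (S_2) and dim Supp(G_p) ≥ 2
for every prime p ⊇ I in Supp G; (ii) depth_I G ≥ 2; (iii) G is reflexive. -/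
theorem result (A : Type u) [CommRing A] [IsNoetherianRing A]
    (hA : LocCoh.HasSk 2 A A) (I : Ideal A) (hI : 2 ≤ I.height)
    (G : Type u) [AddCommGroup G] [Module A G] [Module.Finite A G]
    (hU : ∀ p : PrimeSpectrum A, ¬ I ≤ p.asIdeal →
      Module.IsReflexive (Localization.AtPrime p.asIdeal) (LocalizedModule p.asIdeal.primeCompl G)) :
    ((LocCoh.HasSk 2 A G ∧ ∀ p : PrimeSpectrum A, I ≤ p.asIdeal → p ∈ Module.support A G →
        (2 : WithBot ℕ∞) ≤ Module.supportDim (Localization.AtPrime p.asIdeal) (LocalizedModule p.asIdeal.primeCompl G)) ↔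
      2 ≤ LocCoh.idealDepth I G) ∧
    (2 ≤ LocCoh.idealDepth I G ↔ Module.IsReflexive A G) := by

  have hA2 : 2 ≤ LocCoh.idealDepth I A := by
    have h := Groth.DepthRefl.le_idealDepth_of_hasSk 2 A I hA fun p hp _ => by
      let eA := (IsLocalizedModule.linearEquiv p.asIdeal.primeCompl
        (LocalizedModule.mkLinearMap p.asIdeal.primeCompl A)
        (Algebra.linearMap A (Localization.AtPrime p.asIdeal))).extendScalarsOfIsLocalization
          p.asIdeal.primeCompl (Localization.AtPrime p.asIdeal)
      rw [Module.supportDim_eq_of_equiv eA, Module.supportDim_self_eq_ringKrullDim,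
        IsLocalization.AtPrime.ringKrullDim_eq_height p.asIdeal (Localization.AtPrime p.asIdeal),
        Groth.DepthRefl.natCast_le_coe]
      exact le_trans (by exact_mod_cast hI) (Ideal.height_mono hp)
    exact_mod_cast h
  have href : 2 ≤ LocCoh.idealDepth I G → Module.IsReflexive A G := fun h =>
    Groth.DepthRefl.isReflexive_of_depth I (le_trans one_le_two hA2) G hU h
  refine ⟨⟨fun h => ?_, fun h => ?_⟩, ⟨href, fun h => ?_⟩⟩
  · exact_mod_cast Groth.DepthRefl.le_idealDepth_of_hasSk 2 G I h.1 h.2
  · have := href h
    refine ⟨(Groth.DepthRefl.hasSk_of_reflexive G).2 hA, fun p hp hs => ?_⟩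
    have : Nontrivial (LocalizedModule p.asIdeal.primeCompl G) := Module.mem_support_iff.mp hs
    refine le_trans ?_ (Groth.LocCohBase.depth_le_supportDim _)
    have := h.trans (Groth.LocCohBase.idealDepth_le_depth_localized I p.asIdeal hp G)
    exact Groth.DepthRefl.natCast_le_coe.mpr (by exact_mod_cast this)
  · exact (Groth.DepthRefl.depth_of_reflexive I G).2 hA2

end Groth.Agent.S18704
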