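import Groth.Statements.S18709
import Groth.Agent.MiscGeom.FreePresentation

set_option autoImplicit false
universe u
open QGor

namespace Groth.Agent.S18709

/-- Affine form; the flatness and depth hypotheses of the printed lemma only serve to place the sequence
in the situation of the key proposition and are not needed for the existence. Let B be a Noetherian
ring, J an ideal and F a finite reflexive B-module with F_q free for every prime q not containing J.
Then there is an exact sequence 0 → F → Bⁿ → Bᵐ → G → 0 with G_q free for every prime q not
containing J. -/
theorem result (B : Type u) [CommRing B] [IsNoetherianRing B]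
    (J : Ideal B) (F : Type u) [AddCommGroup F] [Module B F] [Module.Finite B F] [Module.IsReflexive B F]
    (hU : ∀ q : PrimeSpectrum B, ¬ J ≤ q.asIdeal →
      Module.Free (Localization.AtPrime q.asIdeal) (LocalizedModule q.asIdeal.primeCompl F)) :
    ∃ (n m : ℕ) (g : F →ₗ[B] (Fin n → B)) (h : (Fin n → B) →ₗ[B] (Fin m → B)),
      Function.Injective g ∧ Function.Exact g h ∧
      ∀ q : PrimeSpectrum B, ¬ J ≤ q.asIdeal →
        Module.Free (Localization.AtPrime q.asIdeal)
          (LocalizedModule q.asIdeal.primeCompl ((Fin m → B) ⧸ LinearMap.range h)) := by
  exact Groth.MiscGeom.QGor.exists_fourTerm J F hU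

end Groth.Agent.S18709
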