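import Groth.Statements.S1871
import Groth.Agent.Calg6.DiagPos
import Groth.Agent.Calg6.ProperStalk
import Groth.Agent.EtaleAlgebra.EtaleCriterion
import Groth.Agent.Variety2.DimScheme

set_option autoImplicit false
universe u
open CategoryTheory AlgebraicGeometry
attribute [local instance] HasDerivedCategory.standard
open IntMult

namespace Groth.Agent.S1871

/-- Positivity of intersection multiplicities. Let X be a nonsingular variety of dimension n over an
algebraically closed field K (X integral, smooth, separated and quasi-compact over K), and V, W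
integral closed subschemes of X, given by quasi-coherent ideal sheaves, of dimensions r and s, which
intersect properly (if V ∩ W is nonempty then n ≤ r + s and dim(V ∩ W) ≤ r + s − n). Let ξ be the
generic point of an irreducible component Z of V ∩ W, i.e. a point of V ∩ W such that every point of
V ∩ W specializing to ξ equals ξ. Then the intersection multiplicity e(X, V·W, Z) = ∑_i (−1)^i
length_{O_{X,ξ}} Tor_i^{O_{X,ξ}}(O_{X,ξ}/I_{W,ξ}, O_{X,ξ}/I_{V,ξ}) is positive. -/
theorem result (K : Type u) [Field K] [IsAlgClosed K] (X : Scheme.{u}) (f : X ⟶ Spec (CommRingCat.of K)) [Smooth f] [IsSeparated f] [QuasiCompact f] [IsIntegral X] (IV IW : X.IdealSheafData) [IsIntegral IV.subscheme] [IsIntegral IW.subscheme] (n r s : ℕ) (hn : topologicalKrullDim X = n) (hr : topologicalKrullDim IV.support = r) (hs : topologicalKrullDim IW.support = s) (hprop : IntMult.ProperInt (IV.support : Set X) (IW.support : Set X) n r s) (ξ : X) (hξV : ξ ∈ IV.support) (hξW : ξ ∈ IW.support)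 (hmax : ∀ ξ' : X, ξ' ∈ IV.support → ξ' ∈ IW.support → ξ' ⤳ ξ → ξ' = ξ) : 0 < IntMult.mult IV IW ξ := by
  obtain ⟨d, a, b, hd, ha, hb, hdab⟩ :=
    Groth.Calg6.ProperStalk.dim_le_add f IV IW hn hr hs hprop hξV hξW
  haveI := Groth.Calg6.ProperStalk.isPrime_stalkIdeal IV hξV
  haveI := Groth.Calg6.ProperStalk.isPrime_stalkIdeal IW hξW
  -- a chart
  obtain ⟨U₀, hU₀, U, hU, hxU, hle, hstd⟩ := Smooth.exists_isStandardSmooth f ξ
  obtain rfl : U₀ = ⊤ := top_le_iff.1 fun z _ => (Subsingleton.elim (f ξ) z) ▸ hle hxU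
  let φ : K →+* Γ(X, U) := (f.appLE ⊤ U hle).hom.comp (Scheme.ΓSpecIso (CommRingCat.of K)).inv.hom
  have hφ : φ.IsStandardSmooth := RingHom.isStandardSmooth_respectsIso.2 _
    (Scheme.ΓSpecIso (CommRingCat.of K)).commRingCatIsoToRingEquiv.symm hstd
  obtain ⟨n', g, hg, hget⟩ := hφ.exists_etale_mvPolynomial
  letI : Algebra K Γ(X, U) := φ.toAlgebra
  letI : Algebra (MvPolynomial (Fin n') K) Γ(X, U) := g.toAlgebra
  haveI : IsScalarTower K (MvPolynomial (Fin n') K) Γ(X, U) := IsScalarTower.of_algebraMap_eq' hg.symm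
  haveI : Algebra.Etale (MvPolynomial (Fin n') K) Γ(X, U) := hget
  haveI : Algebra.FiniteType K Γ(X, U) :=
    Algebra.FiniteType.trans (S := MvPolynomial (Fin n') K) inferInstance inferInstance
  haveI : IsOpenImmersion hU.fromSpec := hU.isOpenImmersion_fromSpec
  have hht : ringKrullDim (Γ(X, U) ⧸ (hU.primeIdealOf ⟨ξ, hxU⟩).asIdeal) =
      ((Order.height ξ : ℕ∞) : WithBot ℕ∞) := by
    rw [← Groth.FibreDim.height_spec_eq (S := Γ(X, U)) (hU.primeIdealOf ⟨ξ, hxU⟩),
      ← Groth.Variety2.Dim.height_eq_of_isPreimmersion (hU.fromSpec ≫ f) f hU.fromSpec rfl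
        (hU.primeIdealOf ⟨ξ, hxU⟩), hU.fromSpec_primeIdealOf]
  have hn' : (n' : WithBot ℕ∞) ≤ n := by
    haveI : Nonempty U := ⟨⟨ξ, hxU⟩⟩
    haveI : Nontrivial Γ(X, U) := inferInstance
    obtain ⟨M, hM⟩ := Ideal.exists_maximal Γ(X, U)
    rw [← Groth.Agent.EtaleAlgebra.EtaleCriterion.ringKrullDim_atPrime_of_etale (k := K) (n := n') M,
      ← hn, ← Groth.Variety2.Dim.dim_opens f U ⟨ξ, hxU⟩,
      IsLocalization.AtPrime.ringKrullDim_eq_height M]
    refine (Ideal.height_le_ringKrullDim_of_ne_top hM.ne_top).trans (le_of_eq ?_)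
    have := IsHomeomorph.topologicalKrullDim_eq _ hU.isoSpec.schemeIsoToHomeo.isHomeomorph
    rw [this]
    exact (PrimeSpectrum.topologicalKrullDim_eq_ringKrullDim _).symm
  obtain ⟨h, hh⟩ := Groth.Variety2.Dim.exists_height_eq f ξ
  rw [hh] at hht
  have hdh := Groth.Variety2.Dim.ringKrullDim_stalk_add_height f ξ
  rw [hd, hh, hn] at hdh
  have hsum : d + h = n := by exact_mod_cast hdh
  have hn'' : n' ≤ n := by exact_mod_cast hn'
  letI : Algebra Γ(X, U) (X.presheaf.stalk ξ) := TopCat.Presheaf.algebra_section_stalk X.presheaf ⟨ξ, hxU⟩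
  haveI : IsLocalization.AtPrime (X.presheaf.stalk ξ) (hU.primeIdealOf ⟨ξ, hxU⟩).asIdeal :=
    hU.isLocalization_stalk ⟨ξ, hxU⟩
  haveI : IsNoetherianRing Γ(X, U) := Algebra.FiniteType.isNoetherianRing K Γ(X, U)
  haveI : IsNoetherianRing (X.presheaf.stalk ξ) :=
    IsLocalization.isNoetherianRing (hU.primeIdealOf ⟨ξ, hxU⟩).asIdeal.primeCompl _ inferInstance
  exact Groth.Calg6.Diag.chi_quot_pos (k := K) (n := n') (hU.primeIdealOf ⟨ξ, hxU⟩).asIdeal
    (IntMult.stalkIdeal IV ξ) (IntMult.stalkIdeal IW ξ)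
    (Groth.Calg6.ProperStalk.isFiniteLength_inter IV IW hmax) (h := h) (a := a) (b := b)
    (hht.trans rfl) ha hb (by omega)

end Groth.Agent.S1871
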