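import Groth.Statements.S18711
import Groth.Agent.MiscGeom.FourTermAt
import Groth.Agent.DepthRefl.Serre
import Groth.Agent.MiscGeom.DualIsoOff

set_option autoImplicit false
universe u
open QGor

namespace Groth.Agent.S18711

open TensorProduct in
/-- Affine form. Let A → B be a flat homomorphism of Noetherian rings, J an ideal of B such that for
every prime q ⊇ J with contraction p the fibre local ring B_q/pB_q has depth ≥ 2, A → A′ a
homomorphism of Noetherian rings and B′ = A′ ⊗_A B the (Noetherian) pushout. Let 0 → F → E⁰ → E¹ → G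
→ 0 be an exact sequence of finite B-modules with E⁰, E¹ projective and F_q, G_q free for every
prime q not containing J. Then F is reflexive; the kernel K′ of B′ ⊗_B E⁰ → B′ ⊗_B E¹ is a reflexive
B′-module with depth_{JB′} K′ ≥ 2 (so it is the module of sections of the pull-back of F off
V(JB′)); and K′ is flat over A′ with depth ≥ 2 along JB′ on every fibre stalk K′_{q′}/p′K′_{q′} if
and only if B′ ⊗_B G is flat over A′. (The published statement phrases the last left-hand condition
as the relative S₂ condition of K′ over A′; the two agree when the fibres of Spec B′ → Spec A′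
satisfy S₂ off V(JB′), and without that the relative S₂ form fails already for A = A′ a field, J =
B, F = E⁰ = B not S₂ and E¹ = G = 0, so the fibrewise-depth form, which is what the proof
establishes, is stated.) -/
theorem result (A B : Type u) [CommRing A] [CommRing B] [IsNoetherianRing A] [IsNoetherianRing B] [Algebra A B]
    (A' B' : Type u) [CommRing A'] [CommRing B'] [IsNoetherianRing A'] [IsNoetherianRing B']
    [Algebra A A'] [Algebra B B'] [Algebra A' B'] [Algebra A B'] [IsScalarTower A B B'] [IsScalarTower A A' B']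
    [Algebra.IsPushout A B A' B'] [Module.Flat A B] (J : Ideal B)
    (hZ : ∀ q : PrimeSpectrum B, J ≤ q.asIdeal →
      2 ≤ LocCoh.idealDepth (q.asIdeal.map (algebraMap B (EGA4.FibLocRing A B q.asIdeal))) (EGA4.FibLocRing A B q.asIdeal))
    (F E0 E1 G : Type u) [AddCommGroup F] [Module B F] [Module.Finite B F]
    [AddCommGroup E0] [Module B E0] [Module.Finite B E0] [Module.Projective B E0]
    [AddCommGroup E1] [Module B E1] [Module.Finite B E1] [Module.Projective B E1]
    [AddCommGroup G] [Module B G] [Module.Finite B G]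
    (f : F →ₗ[B] E0) (u : E0 →ₗ[B] E1) (v : E1 →ₗ[B] G)
    (hf : Function.Injective f) (hfu : Function.Exact f u) (huv : Function.Exact u v) (hv : Function.Surjective v)
    (hFU : ∀ q : PrimeSpectrum B, ¬ J ≤ q.asIdeal → Module.Free (Localization.AtPrime q.asIdeal) (LocalizedModule q.asIdeal.primeCompl F))
    (hGU : ∀ q : PrimeSpectrum B, ¬ J ≤ q.asIdeal → Module.Free (Localization.AtPrime q.asIdeal) (LocalizedModule q.asIdeal.primeCompl G)) :
    Module.IsReflexive B F ∧
    Module.IsReflexive B' (LinearMap.ker (u.baseChange B')) ∧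
    2 ≤ LocCoh.idealDepth (J.map (algebraMap B B')) (LinearMap.ker (u.baseChange B')) ∧
    ((∀ q' : PrimeSpectrum B', FlatCA.FlatAt A' q'.asIdeal (LinearMap.ker (u.baseChange B')) ∧
        2 ≤ LocCoh.idealDepth ((J.map (algebraMap B B')).map (algebraMap B' (EGA4.FibLocRing A' B' q'.asIdeal)))
          (EGA4.FibLocMod A' B' q'.asIdeal (LinearMap.ker (u.baseChange B')))) ↔
      Module.Flat A' (B' ⊗[B] G)) := by
  let J' := J.map (algebraMap B B')
  have hB : 2 ≤ LocCoh.idealDepth J B := Groth.MiscGeom.QGor.le_idealDepth_self_of_fibre A J 2 fun q hq => hZ q hq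
  haveI : Algebra.IsPushout A A' B B' := Algebra.IsPushout.symm inferInstance
  haveI : Module.Flat A' B' := Module.Flat.isBaseChange (R := A) (M := B) (S := A') (N := B') Algebra.IsPushout.out
  refine ⟨?_, ?_⟩
  · refine Groth.DepthRefl.isReflexive_of_depth J (le_trans one_le_two hB) F (fun q hq => ?_)
      (Groth.MiscGeom.QGor.two_le_idealDepth_of_exact J f u hf hfu ((Groth.DepthRefl.depth_of_reflexive J E0).2 hB)
        (le_trans one_le_two ((Groth.DepthRefl.depth_of_reflexive J E1).2 hB)))
    haveI := hFU q hq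
    infer_instance
  have hfib : ∀ (E : Type u) [AddCommGroup E] [Module B E] [Module.Finite B E] [Module.Projective B E]
      (r : PrimeSpectrum B'), J' ≤ r.asIdeal →
      2 ≤ LocCoh.idealDepth (r.asIdeal.map (algebraMap B' (EGA4.FibLocRing A' B' r.asIdeal)))
        (EGA4.FibLocMod A' B' r.asIdeal (B' ⊗[B] E)) := fun E _ _ _ _ r hr =>
    ((hZ ⟨r.asIdeal.comap (algebraMap B B'), inferInstance⟩ (Ideal.map_le_iff_le_comap.1 hr)).trans
      (Groth.MiscGeom.QGor.le_idealDepth_fibLocMod_projective (A := A) _ E _)).trans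
        (Groth.MiscGeom.QGor.le_idealDepth_fibre_baseChange (A := A) (A' := A') r.asIdeal E)
  have hflat : ∀ (E : Type u) [AddCommGroup E] [Module B E] [Module.Projective B E], Module.Flat A' (B' ⊗[B] E) :=
    fun E _ _ _ => Module.Flat.trans A' B' (B' ⊗[B] E)
  haveI := hflat E0
  haveI := hflat E1
  let E0' := B' ⊗[B] E0
  let E1' := B' ⊗[B] E1
  let G' := B' ⊗[B] G
  have hB' : 2 ≤ LocCoh.idealDepth J' B' := by
    haveI := hflat B
    rw [← Groth.LocCohBase.idealDepth_congr (AlgebraTensorModule.rid B B' B')]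
    exact Groth.MiscGeom.QGor.le_idealDepth_of_fibre A' J' (B' ⊗[B] B) 2 fun r hr => hfib B r hr
  let u' : E0' →ₗ[B'] E1' := u.baseChange B'
  let v' : E1' →ₗ[B'] G' := v.baseChange B'
  let K' := LinearMap.ker u'
  let f' : K' →ₗ[B'] E0' := K'.subtype
  have hf' : Function.Injective f' := Subtype.val_injective
  have hfu' : Function.Exact f' u' := LinearMap.exact_subtype_ker_map u'
  have huv' : Function.Exact u' v' := lTensor_exact B' huv hv
  have hv' : Function.Surjective v' := LinearMap.lTensor_surjective B' hv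
  have hdK : 2 ≤ LocCoh.idealDepth J' K' := Groth.MiscGeom.QGor.two_le_idealDepth_of_exact J' f' u' hf' hfu'
    (Groth.MiscGeom.QGor.le_idealDepth_of_fibre A' J' E0' 2 fun r hr => hfib E0 r hr)
    (le_trans one_le_two (Groth.MiscGeom.QGor.le_idealDepth_of_fibre A' J' E1' 2 fun r hr => hfib E1 r hr))
  have hfree := Groth.MiscGeom.QGor.free_localized_baseChange (J := J) B' G hGU
  have hGU' : ∀ r : PrimeSpectrum B', ¬ J' ≤ r.asIdeal → FlatCA.FlatAt A' r.asIdeal G' := fun r hr => by
    haveI := hfree r hr
    haveI : Module.Flat A' (Localization.AtPrime r.asIdeal) :=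
      Module.Flat.trans A' B' (Localization.AtPrime r.asIdeal)
    haveI : IsScalarTower A' (Localization.AtPrime r.asIdeal) (LocalizedModule r.asIdeal.primeCompl G') :=
      IsScalarTower.of_algebraMap_smul fun a x => by
        rw [IsScalarTower.algebraMap_apply A' B' (Localization.AtPrime r.asIdeal), algebraMap_smul, algebraMap_smul]
    exact Module.Flat.trans A' (Localization.AtPrime r.asIdeal) (LocalizedModule r.asIdeal.primeCompl G')
  refine ⟨Groth.DepthRefl.isReflexive_of_depth J' (le_trans one_le_two hB') K' (fun r hr => ?_) hdK, hdK, ?_⟩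
  · exact Groth.MiscGeom.QGor.isReflexive_localized_ker r.asIdeal.primeCompl f' u' v' hf' hfu' huv' hv' (hfree r hr)
  have hat : ∀ q : PrimeSpectrum B', _ := fun q =>
    Groth.MiscGeom.QGor.fourTerm_at (A := A') (B := B') (F := K') (E0 := E0') (E1 := E1') (G := G') J' f' u' v' hf' hfu' huv' hv' hGU' q.asIdeal
      (Groth.MiscGeom.QGor.le_idealDepth_fibLocMod_of_pointwise J' q.asIdeal E0' 2 fun r hr _ =>
        ⟨Groth.MiscGeom.QGor.flatAt_of_flat _ _, hfib E0 r hr⟩)
      (le_trans one_le_two (Groth.MiscGeom.QGor.le_idealDepth_fibLocMod_of_pointwise J' q.asIdeal E1' 2 fun r hr _ =>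
        ⟨Groth.MiscGeom.QGor.flatAt_of_flat _ _, hfib E1 r hr⟩))
  refine ⟨fun h => Groth.FlatMorOne.flat_of_forall_flat_localized (S := B') fun q => (hat q).1.2 (h q).2,
    fun hG q => ⟨(hat q).2 ?_, (hat q).1.1 ?_⟩⟩
  all_goals
    haveI := hG
    exact Groth.MiscGeom.QGor.flatAt_of_flat _ _

end Groth.Agent.S18711
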