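import Groth.Statements.S18712
import Groth.Agent.MiscGeom.RelSkConclude
-- import your own Groth.Agent.* helpers here

set_option autoImplicit false
universe u
open QGor

namespace Groth.Agent.S18712

open TensorProduct in
/-- Infinitesimal criterion, affine-local form. Let R be a Noetherian local ring with maximal ideal m, C
a finitely generated flat R-algebra, y = n a prime of C over m at which the fibre C_n/mC_n satisfies
S₂ (the structure morphism satisfies relative S₂ at y), and F a finite reflexive C-module which is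
free at every prime not containing an ideal J such that every fibre local ring C_q/pC_q at primes q
⊇ J has dimension ≥ 2 (F is locally free in codimension one on each fibre). Suppose that for every
surjective homomorphism R → A′ onto an Artinian local ring and the Noetherian pushout C′ = A′ ⊗_R C,
at every prime q′ of C′ lying over n the double dual (C′ ⊗_C F)^∨∨ is flat over A′ at q′ and its
fibre stalk satisfies S₂. Then F is flat over R at n and the fibre stalk F_n/mF_n satisfies S₂ (F
satisfies relative S₂ at y). Test rings A′ range over the universe of R. -/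
theorem result (R C : Type u) [CommRing R] [CommRing C] [IsNoetherianRing R] [IsLocalRing R] [IsNoetherianRing C]
    [Algebra R C] [Module.Flat R C] (hft : Algebra.FiniteType R C)
    (n : PrimeSpectrum C) (hn : (IsLocalRing.maximalIdeal R).map (algebraMap R C) ≤ n.asIdeal)
    (hS2 : LocCoh.HasSk 2 (EGA4.FibLocRing R C n.asIdeal) (EGA4.FibLocRing R C n.asIdeal))
    (F : Type u) [AddCommGroup F] [Module C F] [Module R F] [IsScalarTower R C F] [Module.Finite C F]
    [Module.IsReflexive C F] (J : Ideal C)
    (hFU : ∀ q : PrimeSpectrum C, ¬ J ≤ q.asIdeal → Module.Free (Localization.AtPrime q.asIdeal) (LocalizedModule q.asIdeal.primeCompl F))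
    (hcodim : ∀ q : PrimeSpectrum C, J ≤ q.asIdeal → (2 : WithBot ℕ∞) ≤ ringKrullDim (EGA4.FibLocRing R C q.asIdeal))
    (hI : ∀ (A' : Type u) [CommRing A'] [IsArtinianRing A'] [IsLocalRing A'] [Algebra R A'],
      Function.Surjective (algebraMap R A') →
      ∀ (C' : Type u) [CommRing C'] [IsNoetherianRing C'] [Algebra C C'] [Algebra A' C'] [Algebra R C']
        [IsScalarTower R C C'] [IsScalarTower R A' C'], Algebra.IsPushout R C A' C' →
        ∀ q' : PrimeSpectrum C', q'.asIdeal.comap (algebraMap C C') = n.asIdeal →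
          FlatCA.FlatAt A' q'.asIdeal (Module.Dual C' (Module.Dual C' (C' ⊗[C] F))) ∧
          LocCoh.HasSk 2 (EGA4.FibLocRing A' C' q'.asIdeal)
            (EGA4.FibLocMod A' C' q'.asIdeal (Module.Dual C' (Module.Dual C' (C' ⊗[C] F))))) :
    FlatCA.FlatAt R n.asIdeal F ∧ LocCoh.HasSk 2 (EGA4.FibLocRing R C n.asIdeal) (EGA4.FibLocMod R C n.asIdeal F) := by
  obtain ⟨k, m, f, u, hf, hfu, hG⟩ := Groth.MiscGeom.QGor.exists_fourTerm J F hFU
  have hnR : n.asIdeal.comap (algebraMap R C) = IsLocalRing.maximalIdeal R :=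
    ((IsLocalRing.maximalIdeal.isMaximal R).eq_of_le (Ideal.IsPrime.comap _).ne_top (Ideal.map_le_iff_le_comap.1 hn)).symm
  refine Groth.MiscGeom.QGor.relSk_of_flatAt_coker n.asIdeal hS2 J hcodim hFU f u hf hfu hG ?_
  let G := (Fin m → C) ⧸ LinearMap.range u
  let Cn := Localization.AtPrime n.asIdeal
  show Module.Flat R (LocalizedModule n.asIdeal.primeCompl G)
  refine Groth.FlatMorOne.flat_of_forall_flat_mod_pow (S := Cn) (IsLocalRing.maximalIdeal R) ?_ fun l hl K _ => ?_
  · rw [IsLocalRing.jacobson_eq_maximalIdeal _ bot_ne_top, IsScalarTower.algebraMap_eq R C Cn, ← Ideal.map_map,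
      ← Localization.AtPrime.map_eq_maximalIdeal]
    exact Ideal.map_mono hn
  let I := IsLocalRing.maximalIdeal R ^ l
  let A' := R ⧸ I
  haveI : Nontrivial A' := Ideal.Quotient.nontrivial_iff.2 fun h =>
    (IsLocalRing.maximalIdeal.isMaximal R).ne_top (top_le_iff.1 (h.ge.trans (Ideal.pow_le_self hl.ne')))
  haveI : IsLocalRing A' := IsLocalRing.of_surjective' (Ideal.Quotient.mk I) Ideal.Quotient.mk_surjective
  haveI : IsArtinianRing A' := by
    rw [isArtinianRing_iff_isNilpotent_maximalIdeal]
    refine ⟨l, ?_⟩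
    rw [← IsLocalRing.map_maximalIdeal_of_surjective (Ideal.Quotient.mk I) Ideal.Quotient.mk_surjective,
      ← Ideal.map_pow, Ideal.map_quotient_self]
    rfl
  let C' := C ⊗[R] A'
  letI : Algebra A' C' := Algebra.TensorProduct.rightAlgebra
  haveI : Algebra.IsPushout R C A' C' := TensorProduct.isPushout
  have hsurj : Function.Surjective (algebraMap C C') := fun z => by
    induction z using TensorProduct.induction_on with
    | zero => exact ⟨0, map_zero _⟩
    | tmul c a =>
      obtain ⟨r, rfl⟩ := Ideal.Quotient.mk_surjective a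
      refine ⟨r • c, ?_⟩
      show (r • c) ⊗ₜ[R] (1 : A') = c ⊗ₜ[R] Ideal.Quotient.mk I r
      rw [TensorProduct.smul_tmul, Algebra.smul_def, mul_one]
      rfl
    | add x y hx hy =>
      obtain ⟨a, rfl⟩ := hx
      obtain ⟨b, rfl⟩ := hy
      exact ⟨a + b, map_add _ _ _⟩
  haveI : IsNoetherianRing C' := isNoetherianRing_of_surjective C C' (algebraMap C C') hsurj
  let ev : C' →ₐ[R] C ⧸ n.asIdeal :=
    Algebra.TensorProduct.lift (Ideal.Quotient.mkₐ R n.asIdeal) (Ideal.Quotient.liftₐ I (Algebra.ofId R (C ⧸ n.asIdeal))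
      (fun a ha => Ideal.Quotient.eq_zero_iff_mem.2 (hn (Ideal.mem_map_of_mem _ (Ideal.pow_le_self hl.ne' ha)))))
      fun _ _ => .all _ _
  let q' : PrimeSpectrum C' := ⟨RingHom.ker ev, RingHom.ker_isPrime ev⟩
  haveI : q'.asIdeal.IsPrime := q'.isPrime
  have hqC : q'.asIdeal.comap (algebraMap C C') = n.asIdeal := by
    ext c
    show ev (c ⊗ₜ[R] (1 : A')) = 0 ↔ _
    rw [Algebra.TensorProduct.lift_tmul, map_one, mul_one]
    exact Ideal.Quotient.eq_zero_iff_mem
  haveI : (q'.asIdeal.comap (algebraMap A' C')).IsPrime := Ideal.IsPrime.comap _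
  haveI : (q'.asIdeal.comap (algebraMap A' C')).IsMaximal := IsArtinianRing.isMaximal_of_isPrime _
  have hqA : q'.asIdeal.comap (algebraMap A' C') = IsLocalRing.maximalIdeal A' := IsLocalRing.eq_maximalIdeal inferInstance
  obtain ⟨hfl, hsk⟩ := hI A' Ideal.Quotient.mk_surjective C' inferInstance q' hqC
  have hG' := Groth.MiscGeom.QGor.flatAt_baseChange_coker_of_hasSk (R := R) (A' := A') n.asIdeal hS2 J hcodim f u hf hfu hG
    0 (Ideal.zero_mem _) (fun a ha => ?_) q'.asIdeal hqC.le hqA (by rw [hqC]) hfl hsk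
  · haveI := Groth.MiscGeom.QGor.flat_quotient_tensor_localized I n.asIdeal G hsurj q'.asIdeal hqC hG'
    exact Groth.FlatMorOne.injective_lTensor_of_flat_quotient I K
  · rw [Ideal.span_singleton_eq_bot.2 rfl]
    obtain ⟨N, hN⟩ := (isArtinianRing_iff_isNilpotent_maximalIdeal A').1 inferInstance
    exact ⟨N, hN.le (Ideal.pow_mem_pow ha N)⟩

end Groth.Agent.S18712
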