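import Groth.Statements.S18713
import Groth.Agent.MiscGeom.RelSkConclude
import Groth.Agent.MiscGeom.FlatDVRModule
-- import your own Groth.Agent.* helpers here

set_option autoImplicit false
universe u
open QGor

namespace Groth.Agent.S18713

open TensorProduct in
/-- Valuative criterion, affine-local form. Let R be a Noetherian local ring with maximal ideal m, C a
finitely generated flat R-algebra, y = n a prime of C over m at which the fibre C_n/mC_n satisfies
S₂ (the structure morphism satisfies relative S₂ at y), and F a finite reflexive C-module which is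
free at every prime not containing an ideal J such that every fibre local ring C_q/pC_q at primes q
⊇ J has dimension ≥ 2 (F is locally free in codimension one on each fibre). Assume R is reduced, and
that for every local homomorphism R → D to a discrete valuation ring and the Noetherian pushout C′ =
D ⊗_R C, at every prime q′ of C′ lying over n and over the closed point of D the double dual (C′ ⊗_C
F)^∨∨ is flat over D at q′ and its fibre stalk satisfies S₂. Then F is flat over R at n and F_n/mF_n
satisfies S₂ (F satisfies relative S₂ at y). Test rings D range over the universe of R. -/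
theorem result (R C : Type u) [CommRing R] [CommRing C] [IsNoetherianRing R] [IsLocalRing R] [IsNoetherianRing C]
    [Algebra R C] [Module.Flat R C] (hft : Algebra.FiniteType R C)
    (n : PrimeSpectrum C) (hn : (IsLocalRing.maximalIdeal R).map (algebraMap R C) ≤ n.asIdeal)
    (hS2 : LocCoh.HasSk 2 (EGA4.FibLocRing R C n.asIdeal) (EGA4.FibLocRing R C n.asIdeal))
    (F : Type u) [AddCommGroup F] [Module C F] [Module R F] [IsScalarTower R C F] [Module.Finite C F]
    [Module.IsReflexive C F] (J : Ideal C)
    (hFU : ∀ q : PrimeSpectrum C, ¬ J ≤ q.asIdeal → Module.Free (Localization.AtPrime q.asIdeal) (LocalizedModule q.asIdeal.primeCompl F))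
    (hcodim : ∀ q : PrimeSpectrum C, J ≤ q.asIdeal → (2 : WithBot ℕ∞) ≤ ringKrullDim (EGA4.FibLocRing R C q.asIdeal)) [IsReduced R]
    (hII : ∀ (D : Type u) [CommRing D] [IsDomain D] [IsDiscreteValuationRing D] [Algebra R D],
      IsLocalHom (algebraMap R D) →
      ∀ (C' : Type u) [CommRing C'] [IsNoetherianRing C'] [Algebra C C'] [Algebra D C'] [Algebra R C']
        [IsScalarTower R C C'] [IsScalarTower R D C'], Algebra.IsPushout R C D C' →
        ∀ q' : PrimeSpectrum C', q'.asIdeal.comap (algebraMap C C') = n.asIdeal →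
          (IsLocalRing.maximalIdeal D).map (algebraMap D C') ≤ q'.asIdeal →
          FlatCA.FlatAt D q'.asIdeal (Module.Dual C' (Module.Dual C' (C' ⊗[C] F))) ∧
          LocCoh.HasSk 2 (EGA4.FibLocRing D C' q'.asIdeal)
            (EGA4.FibLocMod D C' q'.asIdeal (Module.Dual C' (Module.Dual C' (C' ⊗[C] F))))) :
    FlatCA.FlatAt R n.asIdeal F ∧ LocCoh.HasSk 2 (EGA4.FibLocRing R C n.asIdeal) (EGA4.FibLocMod R C n.asIdeal F) := by
  obtain ⟨k, m, f, u, hf, hfu, hG⟩ := Groth.MiscGeom.QGor.exists_fourTerm J F hFU
  have hnR : n.asIdeal.comap (algebraMap R C) = IsLocalRing.maximalIdeal R :=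
    ((IsLocalRing.maximalIdeal.isMaximal R).eq_of_le (Ideal.IsPrime.comap _).ne_top (Ideal.map_le_iff_le_comap.1 hn)).symm
  refine Groth.MiscGeom.QGor.relSk_of_flatAt_coker n.asIdeal hS2 J hcodim hFU f u hf hfu hG ?_
  refine Groth.MiscGeom.QGor.flatAt_of_dvr hft n.asIdeal hnR _ fun D _ _ _ _ hloc C' _ _ _ _ _ _ hpush q' _ hqC hqD => ?_
  haveI := hloc
  haveI := hpush
  haveI : Algebra.IsPushout R D C C' := Algebra.IsPushout.symm hpush
  haveI : Algebra.FiniteType R C := hft
  haveI : Algebra.FiniteType D C' := Algebra.FiniteType.equiv inferInstance (Algebra.IsPushout.equiv R D C C')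
  haveI : IsNoetherianRing C' := Algebra.FiniteType.isNoetherianRing D C'
  obtain ⟨π, hπ⟩ := IsDiscreteValuationRing.exists_irreducible D
  have hmax := hπ.maximalIdeal_eq
  obtain ⟨hfl, hsk⟩ := hII D hloc C' hpush ⟨q', inferInstance⟩ hqC (Ideal.map_le_iff_le_comap.2 hqD.ge)
  exact Groth.MiscGeom.QGor.flatAt_baseChange_coker_of_hasSk (R := R) (A' := D) n.asIdeal hS2 J hcodim f u hf hfu hG
    π (hmax ▸ Ideal.mem_span_singleton_self π) (hmax.le.trans Ideal.le_radical) q' hqC.le hqD (by rw [hqC]) hfl hsk

end Groth.Agent.S18713
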