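import Groth.Statements.S18714
import Groth.Agent.QGorRefine.Hull
import Groth.Agent.QGorRefine.Flat
import Mathlib

set_option autoImplicit false
universe u
open QGor

namespace Groth.Agent.S18714

open TensorProduct in
/-- Affine form. Let R be a Henselian Noetherian local ring with maximal ideal m, C a finitely generated
flat R-algebra all of whose fibre local rings C_q/pC_q satisfy S₂ (an S₂-morphism), F a finite
reflexive C-module free at every prime not containing an ideal J such that every fibre local ring at
primes q ⊇ J has dimension ≥ 2 (locally free in codimension one on each fibre), and y = n a prime of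
C over m. Then there is an ideal 𝔞 of R (a closed subscheme S of Spec R) with the universal
property: for every local homomorphism R → R′ to a Noetherian local ring and the Noetherian pushout
C′ = R′ ⊗_R C, the double dual (C′ ⊗_C F)^∨∨ is flat over R′ with S₂ fibre stalk at every prime q′
of C′ lying over n and over the closed point of R′ (it satisfies relative S₂ there) if and only if
𝔞R′ = 0 (Spec R′ → Spec R factors through S). Test rings R′ range over the universe of R. -/
theorem result (R C : Type u) [CommRing R] [CommRing C]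
    [IsNoetherianRing R] [HenselianLocalRing R] [IsNoetherianRing C] [Algebra R C] [Module.Flat R C]
    (hft : Algebra.FiniteType R C)
    (hS2 : ∀ q : PrimeSpectrum C, LocCoh.HasSk 2 (EGA4.FibLocRing R C q.asIdeal) (EGA4.FibLocRing R C q.asIdeal))
    (F : Type u) [AddCommGroup F] [Module C F] [Module.Finite C F] [Module.IsReflexive C F] (J : Ideal C)
    (hFU : ∀ q : PrimeSpectrum C, ¬ J ≤ q.asIdeal → Module.Free (Localization.AtPrime q.asIdeal) (LocalizedModule q.asIdeal.primeCompl F))
    (hcodim : ∀ q : PrimeSpectrum C, J ≤ q.asIdeal → (2 : WithBot ℕ∞) ≤ ringKrullDim (EGA4.FibLocRing R C q.asIdeal))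
    (n : PrimeSpectrum C) (hn : (IsLocalRing.maximalIdeal R).map (algebraMap R C) ≤ n.asIdeal) :
    ∃ 𝔞 : Ideal R, ∀ (R' : Type u) [CommRing R'] [IsNoetherianRing R'] [IsLocalRing R'] [Algebra R R'],
      IsLocalHom (algebraMap R R') →
      ∀ (C' : Type u) [CommRing C'] [IsNoetherianRing C'] [Algebra C C'] [Algebra R' C'] [Algebra R C']
        [IsScalarTower R C C'] [IsScalarTower R R' C'], Algebra.IsPushout R C R' C' →
        ((∀ q' : PrimeSpectrum C', q'.asIdeal.comap (algebraMap C C') = n.asIdeal →
            (IsLocalRing.maximalIdeal R').map (algebraMap R' C') ≤ q'.asIdeal →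
            FlatCA.FlatAt R' q'.asIdeal (Module.Dual C' (Module.Dual C' (C' ⊗[C] F))) ∧
            LocCoh.HasSk 2 (EGA4.FibLocRing R' C' q'.asIdeal)
              (EGA4.FibLocMod R' C' q'.asIdeal (Module.Dual C' (Module.Dual C' (C' ⊗[C] F))))) ↔
          𝔞.map (algebraMap R R') = ⊥) := by
  haveI := hft
  obtain ⟨k, m, f, u, hf, hfu, hG⟩ := Groth.MiscGeom.QGor.exists_fourTerm J F hFU
  have hnR : n.asIdeal.comap (algebraMap R C) = IsLocalRing.maximalIdeal R :=
    ((IsLocalRing.maximalIdeal.isMaximal R).eq_of_le (Ideal.IsPrime.comap _).ne_top (Ideal.map_le_iff_le_comap.1 hn)).symm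
  obtain ⟨𝔞, h𝔞⟩ := Groth.QGorRefine.exists_ideal_flatAt R C n.asIdeal hnR ((Fin m → C) ⧸ LinearMap.range u)
  refine ⟨𝔞, fun R' _ _ _ _ hloc C' _ _ _ _ _ _ _ hpush => ?_⟩
  haveI := hloc
  haveI := hpush
  refine Iff.trans ?_ (h𝔞 R' C')
  refine forall₃_congr fun q' _ hq'm => ?_
  have hq' : q'.asIdeal.comap (algebraMap R' C') = IsLocalRing.maximalIdeal R' :=
    ((IsLocalRing.maximalIdeal.isMaximal R').eq_of_le (Ideal.IsPrime.comap _).ne_top
      (Ideal.map_le_iff_le_comap.1 hq'm)).symm
  exact Groth.QGorRefine.relSk_ddual_iff (R := R) (C := C) J hS2 hcodim f u hf hfu hG q'.asIdeal hq'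

end Groth.Agent.S18714
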