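import Groth.Statements.S18717
import Groth.Agent.MiscGeom.SkDualEquidim

set_option autoImplicit false
universe u
open CategoryTheory
attribute [local instance] HasDerivedCategory.standard
open QGor

namespace Groth.Agent.S18717

/-- Affine-local form with a normalized dualizing complex (so the codimension function vanishes at the
closed point). Let A be a Noetherian local ring with normalized dualizing complex ω, M a nonzero
finite A-module which is equidimensional of dimension δ, E^j = Ext^j(M, ω) the A-module of morphisms
M → ω[j] in D(A), and k ≥ 1. Then M satisfies (S_k) if and only if dim Supp E^j ≤ −j − k for every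
integer j ≠ −δ, where for −j − k < 0 this means E^j = 0. -/
theorem result (A : Type u) [CommRing A] [IsNoetherianRing A]
    [IsLocalRing A] (ω : Dual.D A) (hω : Dual.IsDualizing A ω) (hn : Dual.IsNormalized A ω)
    (M : Type u) [AddCommGroup M] [Module A M] [Module.Finite A M] [Nontrivial M]
    (hM : EGA4.IsEquidimModule A M) (δ : ℕ) (hδ : Module.supportDim A M = δ) (k : ℕ) (hk : 1 ≤ k) :
    LocCoh.HasSk k A M ↔
      ∀ j : ℤ, j ≠ -(δ : ℤ) →
        (-j - (k : ℤ) < 0 → Subsingleton (Dual.inD A M ⟶ ω⟦j⟧)) ∧
        (0 ≤ -j - (k : ℤ) → Module.supportDim A (Dual.inD A M ⟶ ω⟦j⟧) ≤ ((-j - (k : ℤ)).toNat : WithBot ℕ∞)) := by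
  refine Groth.MiscGeom.QGor.hasSk_iff_supportDim hω M (fun m hm => ?_) δ (fun P hP => (hM P hP).trans hδ) k
  refine Groth.MiscGeom.QGor.isMax_degree_zero hω m fun i hi => ?_
  rw [IsLocalRing.eq_maximalIdeal hm]
  exact hn i hi

end Groth.Agent.S18717
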