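import Groth.Statements.S18718
import Groth.Agent.MiscGeom.DualIsoOff
import Groth.Agent.DepthRefl.Serre

set_option autoImplicit false
universe u
open QGor

namespace Groth.Agent.S18718

open TensorProduct in
/-- Affine form. Let A → B be a flat homomorphism of Noetherian rings, J an ideal of B such that the
fibre local ring B_q/pB_q has depth ≥ 2 at every prime q ⊇ J (p its contraction), A → A′ a
homomorphism of Noetherian rings with Noetherian pushout B′ = A′ ⊗_A B, and F a finite B-module with
F_q free for every prime q not containing J. Then depth_J (F^∨∨) ≥ 2 (the double dual is the module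
of sections of F off V(J)); the natural map (B′ ⊗_B F)^∨∨ → (B′ ⊗_B F^∨∨)^∨∨ obtained by dualising
twice the base change of F → F^∨∨ is bijective; and if moreover F is flat over A and the fibre
stalks F_q/pF_q have depth ≥ 2 at all primes q ⊇ J, then F and B′ ⊗_B F are reflexive. -/
theorem result (A B : Type u) [CommRing A] [CommRing B] [IsNoetherianRing A] [IsNoetherianRing B] [Algebra A B]
    (A' B' : Type u) [CommRing A'] [CommRing B'] [IsNoetherianRing A'] [IsNoetherianRing B']
    [Algebra A A'] [Algebra B B'] [Algebra A' B'] [Algebra A B'] [IsScalarTower A B B'] [IsScalarTower A A' B']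
    [Algebra.IsPushout A B A' B'] [Module.Flat A B] (J : Ideal B)
    (hZ : ∀ q : PrimeSpectrum B, J ≤ q.asIdeal →
      2 ≤ LocCoh.idealDepth (q.asIdeal.map (algebraMap B (EGA4.FibLocRing A B q.asIdeal))) (EGA4.FibLocRing A B q.asIdeal))
    (F : Type u) [AddCommGroup F] [Module B F] [Module A F] [IsScalarTower A B F] [Module.Finite B F]
    (hFU : ∀ q : PrimeSpectrum B, ¬ J ≤ q.asIdeal → Module.Free (Localization.AtPrime q.asIdeal) (LocalizedModule q.asIdeal.primeCompl F)) :
    2 ≤ LocCoh.idealDepth J (Module.Dual B (Module.Dual B F)) ∧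
    Function.Bijective (((Module.Dual.eval B F).baseChange B').dualMap.dualMap) ∧
    (Module.Flat A F →
      (∀ q : PrimeSpectrum B, J ≤ q.asIdeal →
        2 ≤ LocCoh.idealDepth (q.asIdeal.map (algebraMap B (EGA4.FibLocRing A B q.asIdeal))) (EGA4.FibLocMod A B q.asIdeal F)) →
      Module.IsReflexive B F ∧ Module.IsReflexive B' (B' ⊗[B] F)) := by
  have hB : 2 ≤ LocCoh.idealDepth J B := Groth.MiscGeom.QGor.le_idealDepth_self_of_fibre A J 2 fun q hq => hZ q hq
  haveI : Algebra.IsPushout A A' B B' := Algebra.IsPushout.symm inferInstance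
  have heB : ∀ q : Ideal B, ∀ [q.IsPrime], Nonempty (EGA4.FibLocMod A B q B ≃ₗ[Localization.AtPrime q] EGA4.FibLocRing A B q) :=
    fun q _ => ⟨Submodule.Quotient.equiv _ _ (LinearEquiv.extendScalarsOfIsLocalization q.primeCompl (Localization.AtPrime q)
      (IsLocalizedModule.iso q.primeCompl (Algebra.linearMap B (Localization.AtPrime q)))) (by
        rw [Submodule.map_smul'', Submodule.map_top, LinearMap.range_eq_top.2 (LinearEquiv.surjective _)]
        exact Ideal.mul_top _)⟩
  have hZ' : ∀ q' : PrimeSpectrum B', J.map (algebraMap B B') ≤ q'.asIdeal →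
      2 ≤ LocCoh.idealDepth (q'.asIdeal.map (algebraMap B' (EGA4.FibLocRing A' B' q'.asIdeal)))
        (EGA4.FibLocMod A' B' q'.asIdeal (B' ⊗[B] B)) := fun q' hq' => by
    refine le_trans ?_ (Groth.MiscGeom.QGor.le_idealDepth_fibre_baseChange (A := A) (A' := A') q'.asIdeal B)
    obtain ⟨e⟩ := heB (q'.asIdeal.comap (algebraMap B B'))
    rw [Groth.LocCohBase.idealDepth_congr (LinearEquiv.extendScalarsOfSurjective
      (R := Localization.AtPrime (q'.asIdeal.comap (algebraMap B B'))) Ideal.Quotient.mk_surjective e)]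
    exact hZ ⟨q'.asIdeal.comap (algebraMap B B'), inferInstance⟩ (Ideal.map_le_iff_le_comap.1 hq')
  haveI : Module.Flat A' B' := Module.Flat.isBaseChange (R := A) (M := B) (S := A') (N := B') Algebra.IsPushout.out
  haveI : Module.Flat A' (B' ⊗[B] B) :=
    Module.Flat.of_linearEquiv ((Algebra.IsPushout.cancelBaseChange A A' B B' B))
  have hB' : 2 ≤ LocCoh.idealDepth (J.map (algebraMap B B')) B' := by
    rw [← Groth.LocCohBase.idealDepth_congr (AlgebraTensorModule.rid B B' B')]
    exact Groth.MiscGeom.QGor.le_idealDepth_of_fibre A' _ (B' ⊗[B] B) 2 fun q' hq' => hZ' q' hq'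
  have hUr : ∀ q : PrimeSpectrum B, ¬ J ≤ q.asIdeal →
      Module.IsReflexive (Localization.AtPrime q.asIdeal) (LocalizedModule q.asIdeal.primeCompl F) := fun q hq => by
    haveI := hFU q hq
    infer_instance
  refine ⟨Groth.MiscGeom.QGor.two_le_depth_dual J hB _, ?_, fun hflat hdep => ⟨?_, ?_⟩⟩
  · have h := Groth.MiscGeom.QGor.bijective_dualMap _ hB' _
      ((Groth.MiscGeom.QGor.hasQuasiInverseOff_eval J F hUr).baseChange B')
    exact (LinearEquiv.ofBijective _ h).dualMap.bijective
  · exact Groth.DepthRefl.isReflexive_of_depth J (le_trans one_le_two hB) F hUr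
      (Groth.MiscGeom.QGor.le_idealDepth_of_fibre A J F 2 fun q hq => hdep q hq)
  · haveI : Module.Flat A' (B' ⊗[B] F) := Module.Flat.of_linearEquiv ((Algebra.IsPushout.cancelBaseChange A A' B B' F))
    refine Groth.DepthRefl.isReflexive_of_depth (J.map (algebraMap B B')) (le_trans one_le_two hB') _
      (fun q' hq' => Groth.MiscGeom.QGor.isReflexive_localized_baseChange B' F hFU q' hq')
      (Groth.MiscGeom.QGor.le_idealDepth_of_fibre A' _ (B' ⊗[B] F) 2 fun q' hq' => ?_)
    exact (hdep ⟨q'.asIdeal.comap (algebraMap B B'), inferInstance⟩ (Ideal.map_le_iff_le_comap.1 hq')).trans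
      (Groth.MiscGeom.QGor.le_idealDepth_fibre_baseChange (A := A) (A' := A') q'.asIdeal F)

end Groth.Agent.S18718
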