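import Groth.Statements.S1872
import Groth.Agent.Calg6.TorCM
import Groth.Agent.Calg6.ProperStalk
import Groth.Agent.VarietyBC.SmoothChart
import Groth.Agent.S0563
-- import your own Groth.Agent.* helpers here

set_option autoImplicit false
universe u
open CategoryTheory AlgebraicGeometry
attribute [local instance] HasDerivedCategory.standard
open IntMult

namespace Groth.Agent.S1872

/-- First statement; the cycle-level consequence V·W = [V ∩ W] is not stated: when both local rings
O_{V,ξ} and O_{W,ξ} are Cohen–Macaulay, the intersection multiplicity e(X, V·W, Z) is the length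
over O_{X,ξ} of the local ring at ξ of the scheme-theoretic intersection V ∩ W. Here X is a
nonsingular variety over an algebraically closed field K (smooth, separated, of finite type,
integral), V and W are closed subvarieties given by quasi-coherent ideal sheaves with integral
subschemes, of dimensions r and s with dim X = n, intersecting properly, and ξ is the generic point
of an irreducible component Z of V ∩ W; e(X, V·W, Z) is the alternating sum of lengths of Tor over
O_{X,ξ}. -/
theorem result (K : Type u) [Field K] [IsAlgClosed K] (X : Scheme.{u}) (f : X ⟶ Spec (CommRingCat.of K)) [Smooth f] [IsSeparated f] [QuasiCompact f] [IsIntegral X] (IV IW : X.IdealSheafData) [IsIntegral IV.subscheme] [IsIntegral IW.subscheme] (n r s : ℕ) (hn : topologicalKrullDim X = n) (hr : topologicalKrullDim IV.support = r) (hs : topologicalKrullDim IW.support = s) (hprop : IntMult.ProperInt (IV.support : Set X) (IW.support : Set X) n r s) (ξ : X) (hξV : ξ ∈ IV.support) (hξW : ξ ∈ IW.support) (hmax : ∀ ξ' : X, ξ' ∈ IV.support →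 ξ' ∈ IW.support → ξ' ⤳ ξ → ξ' = ξ) (hV : LocCoh.IsCohenMacaulayLocalRing (↑(X.presheaf.stalk ξ) ⧸ IntMult.stalkIdeal IV ξ)) (hW : LocCoh.IsCohenMacaulayLocalRing (↑(X.presheaf.stalk ξ) ⧸ IntMult.stalkIdeal IW ξ)) : (IntMult.mult IV IW ξ : ℤ) = (Module.length (X.presheaf.stalk ξ) (↑(X.presheaf.stalk ξ) ⧸ (IntMult.stalkIdeal IV ξ ⊔ IntMult.stalkIdeal IW ξ))).toNat := by
  letI : X.Over (Spec (CommRingCat.of K)) := ⟨f⟩
  haveI : Smooth (X ↘ Spec (CommRingCat.of K)) := inferInstanceAs (Smooth f)
  haveI : IsRegularLocalRing (X.presheaf.stalk ξ) := Groth.VarietyBC.isRegularLocalRing_of_mem_smoothLocus (k := K) (by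
    rw [Scheme.Hom.smoothLocus_eq_top]; trivial)
  obtain ⟨d, a, b, hd, ha, hb, hdab⟩ := Groth.Calg6.ProperStalk.dim_le_add f IV IW hn hr hs hprop hξV hξW
  have hfl := Groth.Calg6.ProperStalk.isFiniteLength_inter IV IW hmax
  haveI : Nontrivial (↑(X.presheaf.stalk ξ) ⧸ IntMult.stalkIdeal IV ξ) :=
    Ideal.Quotient.nontrivial_iff.2 (Groth.Calg6.ProperStalk.stalkIdeal_ne_top IV hξV)
  letI := HasDerivedCategory.standard.{u} (ModuleCat.{u} ↑(X.presheaf.stalk ξ))
  obtain ⟨e, -, he, hpd, -⟩ := Groth.FrobLCI.exists_depth_eq_add (M := ↑(X.presheaf.stalk ξ) ⧸ IntMult.stalkIdeal IV ξ) d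
    (Groth.Agent.S0563.result _ d hd _)
  rw [Groth.FrobLCI.depth_eq_of_isRegularLocalRing _ hd, Groth.Calg6.TorCM.depth_quotient_of_CM _ hV ha] at he
  have he' : d = e + a := by exact_mod_cast he
  exact Groth.Calg6.TorCM.chi_quot e _ _ hpd
    (by rw [Groth.Calg6.TorCM.depth_quotient_of_CM _ hW hb]; exact_mod_cast (show e ≤ b by omega)) hfl

end Groth.Agent.S1872
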