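import Groth.Statements.S18721
import Groth.Agent.MiscGeom.SkDualEquidim

set_option autoImplicit false
universe u
open CategoryTheory
attribute [local instance] HasDerivedCategory.standard
open QGor

namespace Groth.Agent.S18721

/-- Affine form. Let k be a field and A a finitely generated k-algebra, equidimensional of Krull
dimension n, and let ω be a dualizing complex of A normalized at every maximal ideal m (no nonzero
morphisms A/m → ω[i] in D(A) for i ≠ 0 — the canonical dualizing complex of Spec A over k). Put Z_i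
= Supp H^{-i}(ω). Then H^{-i}(ω) = 0 for every i > n, and for every k′ ≥ 1: A satisfies (S_{k′}) if
and only if dim Z_i ≤ i − k′ for all i ≠ n, where for i < k′ this means H^{-i}(ω) = 0. -/
theorem result (k A : Type u) [Field k] [CommRing A]
    [Algebra k A] (hft : Algebra.FiniteType k A) [IsNoetherianRing A]
    (hEq : EGA4.IsEquidim A) (n : ℕ) (hd : ringKrullDim A = n)
    (ω : Dual.D A) (hω : Dual.IsDualizing A ω)
    (hnorm : ∀ (m : Ideal A) (_ : m.IsMaximal) (i : ℤ), i ≠ 0 → Subsingleton (Dual.inD A (A ⧸ m) ⟶ ω⟦i⟧)) :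
    (∀ i : ℕ, n < i → Subsingleton (Dual.HD A ω (-(i : ℤ)))) ∧
    ∀ k' : ℕ, 1 ≤ k' →
      (LocCoh.HasSk k' A A ↔
        ∀ i : ℕ, i ≠ n →
          (i < k' → Subsingleton (Dual.HD A ω (-(i : ℤ)))) ∧
          (k' ≤ i → Module.supportDim A (Dual.HD A ω (-(i : ℤ))) ≤ ((i - k' : ℕ) : WithBot ℕ∞))) := by
  have hmax : ∀ m : PrimeSpectrum A, m.asIdeal.IsMaximal → Groth.DualCore.degree hω m = 0 := fun m hm =>
    Groth.MiscGeom.QGor.isMax_degree_zero hω m fun i hi => hnorm m.asIdeal hm i hi
  have hmin : ∀ P ∈ (Module.annihilator A A).minimalPrimes, ringKrullDim (A ⧸ P) = (n : WithBot ℕ∞) := fun P hP => by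
    have h0 : Module.annihilator A A = ⊥ := Module.annihilator_eq_bot.2 inferInstance
    rw [h0] at hP
    exact (hEq P hP).trans hd
  let e : ∀ j : ℤ, (Dual.inD A A ⟶ ω⟦j⟧) ≃ₗ[A] Dual.HD A ω j := fun j => Groth.DualCore.homAEquiv ω j
  refine ⟨fun i hi => ?_, fun k' _ => ?_⟩
  · haveI := Groth.MiscGeom.QGor.subsingleton_hom_of_lt hω A hmax n hmin (-(i : ℤ)) (by omega)
    exact (e _).symm.toEquiv.subsingleton
  rw [Groth.MiscGeom.QGor.hasSk_iff_supportDim hω A hmax n hmin k']
  constructor
  · intro h i hi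
    obtain ⟨h1, h2⟩ := h (-(i : ℤ)) (by omega)
    refine ⟨fun hlt => ?_, fun hle => ?_⟩
    · haveI := h1 (by omega)
      exact (e _).symm.toEquiv.subsingleton
    · rw [← Module.supportDim_eq_of_equiv (e _), show i - k' = (-(-(i : ℤ)) - (k' : ℤ)).toNat by omega]
      exact h2 (by omega)
  · intro h j hj
    rcases le_or_gt j 0 with hle | hgt
    · obtain ⟨i, rfl⟩ : ∃ i : ℕ, j = -(i : ℤ) := ⟨(-j).toNat, by omega⟩
      obtain ⟨h1, h2⟩ := h i (by omega)
      refine ⟨fun hlt => ?_, fun hnn => ?_⟩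
      · haveI := h1 (by omega)
        exact (e _).toEquiv.subsingleton
      · rw [Module.supportDim_eq_of_equiv (e _), show (-(-(i : ℤ)) - (k' : ℤ)).toNat = i - k' by omega]
        exact h2 (by omega)
    · refine ⟨fun _ => ?_, fun hnn => absurd hnn (by omega)⟩
      rw [← Module.support_eq_empty_iff (R := A)]
      refine Set.eq_empty_of_forall_notMem fun p hp => ?_
      obtain ⟨_, _, -, -, -, -, -, hrange⟩ := Groth.MiscGeom.QGor.exists_degree_range hω A p
        (Groth.MiscGeom.QGor.mem_support_of_mem_hom hω A p j hp)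
      obtain ⟨c, hc⟩ := Groth.MiscGeom.QGor.exists_coheight_eq hω p
      have h1 := hrange j hp
      rw [Groth.MiscGeom.QGor.degree_eq_neg_coheight hω hmax c p hc] at h1
      omega

end Groth.Agent.S18721
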