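import Groth.Statements.S18724
import Groth.Agent.LocCohBase.DepthLocal
import Groth.Agent.LocCohBase.CM

set_option autoImplicit false
universe u
open QGor

namespace Groth.Agent.S18724

/-- Affine form. Let A be a Noetherian ring, M a finite A-module and I an ideal. Then depth_I M ≤
codim(V(I) ∩ Supp M, Supp M): for every prime p ⊇ I in the support of M, depth_I M ≤ dim Supp(M_p). -/
theorem result (A : Type u) [CommRing A] [IsNoetherianRing A]
    (M : Type u) [AddCommGroup M] [Module A M] [Module.Finite A M] (I : Ideal A)
    (p : PrimeSpectrum A) (hIp : I ≤ p.asIdeal) (hp : p ∈ Module.support A M) :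
    ((LocCoh.idealDepth I M : ℕ∞) : WithBot ℕ∞) ≤
      Module.supportDim (Localization.AtPrime p.asIdeal) (LocalizedModule p.asIdeal.primeCompl M) := by
  haveI : Nontrivial (LocalizedModule p.asIdeal.primeCompl M) := Module.mem_support_iff.1 hp
  refine le_trans (WithBot.coe_le_coe.2 (Groth.LocCohBase.idealDepth_le_depth_localized I p.asIdeal hIp M)) ?_
  exact Groth.LocCohBase.depth_le_supportDim _

end Groth.Agent.S18724
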