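import Groth.Statements.S1873
import Groth.Agent.S1872
import Groth.Agent.Calg6.EdimSum
import Groth.Agent.Calg6.ProperStalk
import Groth.Agent.Calg4.RegularAscent
import Groth.Agent.VarietyBC.SmoothChart

set_option autoImplicit false
universe u
open CategoryTheory AlgebraicGeometry
attribute [local instance] HasDerivedCategory.standard
open IntMult

namespace Groth.Agent.S1873

/-- If the multiplicity of Z in the closed subscheme V ∩ W is 1, i.e. length_{O_{X,ξ}}(O_{V∩W,ξ}) = 1,
then e(X, V·W, Z) = 1 and the local rings O_{V,ξ}, O_{W,ξ} are regular (V and W are smooth at a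
general point of Z). Here X is a nonsingular variety over an algebraically closed field K (smooth,
separated, of finite type, integral), V and W are closed subvarieties given by quasi-coherent ideal
sheaves with integral subschemes, of dimensions r and s with dim X = n, intersecting properly, and ξ
is the generic point of an irreducible component Z of V ∩ W; e(X, V·W, Z) is the alternating sum of
lengths of Tor over O_{X,ξ}. -/
theorem result (K : Type u) [Field K] [IsAlgClosed K] (X : Scheme.{u}) (f : X ⟶ Spec (CommRingCat.of K)) [Smooth f] [IsSeparated f] [QuasiCompact f] [IsIntegral X] (IV IW : X.IdealSheafData) [IsIntegral IV.subscheme] [IsIntegral IW.subscheme] (n r s : ℕ) (hn : topologicalKrullDim X = n) (hr : topologicalKrullDim IV.support = r) (hs : topologicalKrullDim IW.support = s) (hprop : IntMult.ProperInt (IV.support : Set X) (IW.support : Set X) n r s) (ξ : X) (hξV : ξ ∈ IV.support) (hξW : ξ ∈ IW.support) (hmax : ∀ ξ' : X, ξ' ∈ IV.support → ξ' ∈ IW.support → ξ' ⤳ ξ → ξ' = ξ) (h1 : Module.length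 (X.presheaf.stalk ξ) (↑(X.presheaf.stalk ξ) ⧸ (IntMult.stalkIdeal IV ξ ⊔ IntMult.stalkIdeal IW ξ)) = 1) : IntMult.mult IV IW ξ = 1 ∧ IsRegularLocalRing (↑(X.presheaf.stalk ξ) ⧸ IntMult.stalkIdeal IV ξ) ∧ IsRegularLocalRing (↑(X.presheaf.stalk ξ) ⧸ IntMult.stalkIdeal IW ξ) := by
  letI : X.Over (Spec (CommRingCat.of K)) := ⟨f⟩
  haveI : Smooth (X ↘ Spec (CommRingCat.of K)) := inferInstanceAs (Smooth f)
  haveI : IsRegularLocalRing (X.presheaf.stalk ξ) :=
    Groth.VarietyBC.isRegularLocalRing_of_mem_smoothLocus (k := K) (by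
      rw [Scheme.Hom.smoothLocus_eq_top]; trivial)
  obtain ⟨d, a, b, hd, ha, hb, hdab⟩ :=
    Groth.Calg6.ProperStalk.dim_le_add f IV IW hn hr hs hprop hξV hξW
  haveI := Module.length_eq_one_iff.1 h1
  have hsup : IntMult.stalkIdeal IV ξ ⊔ IntMult.stalkIdeal IW ξ = IsLocalRing.maximalIdeal _ :=
    IsLocalRing.eq_maximalIdeal (Ideal.isMaximal_def.2 (isSimpleModule_iff_isCoatom.1 this))
  obtain ⟨hV, hW⟩ := Groth.Calg6.EdimSum.isRegularLocalRing_quotient_of_sup _ _ hsup hd ha hb hdab
  refine ⟨?_, hV, hW⟩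
  rw [Groth.Agent.S1872.result K X f IV IW n r s hn hr hs hprop ξ hξV hξW hmax
    (@Groth.Calg4.isCohenMacaulayLocalRing_of_isRegularLocalRing _ _ hV)
    (@Groth.Calg4.isCohenMacaulayLocalRing_of_isRegularLocalRing _ _ hW), h1]
  rfl

end Groth.Agent.S1873
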