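import Groth.Statements.S18734
import Groth.Agent.ModPairs.QFScheme
import Mathlib.RingTheory.Valuation.ValuationRing
import Mathlib.RingTheory.Flat.TorsionFree
-- import your own Groth.Agent.* helpers here

set_option autoImplicit false
universe u
open CategoryTheory CategoryTheory.Limits AlgebraicGeometry TopologicalSpace
open ModPair

namespace Groth.Agent.S18734

section Helpers

theorem quasiFinite_key {R B : Type u} [CommRing R] [IsDomain R] [ValuationRing R] [CommRing B]
    [Algebra R B] [Module.Flat R B] [Algebra.FiniteType R B]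
    (hS : Algebra.QuasiFinite R (Localization (Algebra.algebraMapSubmonoid B (nonZeroDivisors R)))) :
    Algebra.QuasiFinite R B := by
  refine Groth.ModPairs.quasiFinite_of_incomparable fun Q Q' hQ hQ' hle hc =>
    Groth.ModPairs.eq_of_algMod ?_ hle hc
  obtain ⟨Q₀, hQ₀, hle₀⟩ := Ideal.exists_minimalPrimes_le (I := (⊥ : Ideal B)) (J := Q) bot_le
  have := hQ₀.1.1
  have hd : Disjoint (Algebra.algebraMapSubmonoid B (nonZeroDivisors R) : Set B) (Q₀ : Set B) := by
    refine Set.disjoint_left.mpr ?_
    rintro _ ⟨r, hr, rfl⟩ hmem
    have hreg : algebraMap R B r ∈ nonZeroDivisors B := by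
      refine mem_nonZeroDivisors_iff_right.mpr fun x hx =>
        (smul_eq_zero_iff_right (nonZeroDivisors.ne_zero hr)).mp ?_
      simpa [Algebra.smul_def, mul_comm] using hx
    exact Set.disjoint_left.mp (Ideal.disjoint_nonZeroDivisors_of_mem_minimalPrimes hQ₀) hmem hreg
  refine Groth.ModPairs.algMod_mono (p₀ := ⊥) (fun a b => ?_) bot_le hle₀
    (Groth.ModPairs.algMod_of_quasiFinite_localization
      (S := Localization (Algebra.algebraMapSubmonoid B (nonZeroDivisors R))) _ Q₀ hd)
  obtain ⟨c, hc | hc⟩ := ValuationRing.cond a b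
  · exact ⟨c, Or.inl (by simp [hc])⟩
  · exact ⟨c, Or.inr (by simp [hc])⟩

end Helpers

/-- Let R be a valuation ring with fraction field K and f : Y ⟶ Spec R a morphism of schemes which is
flat, proper and generically finite (the generic fibre Y ×_{Spec R} Spec K ⟶ Spec K is a finite
morphism). Then f is finite. No finite-presentation hypothesis is assumed. -/
theorem result {R : Type u} [CommRing R]
    [IsDomain R] [ValuationRing R] {Y : Scheme.{u}} (f : Y ⟶ Spec (CommRingCat.of R)) [Flat f] [IsProper f]
    (hgen : IsFinite (pullback.snd f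
      (Spec.map (CommRingCat.ofHom (algebraMap R (FractionRing R)))))) :
    IsFinite f := by

  refine Groth.ModPairs.isFinite_of_affine f fun B j _ φ hφ hft => ?_
  have : Flat (Spec.map φ) := by rw [← hφ]; infer_instance
  have hflat : φ.hom.Flat := HasRingHomProperty.Spec_iff.mp this
  algebraize [φ.hom]
  let M := Algebra.algebraMapSubmonoid B (nonZeroDivisors R)
  let ψ : B ⟶ CommRingCat.of (Localization M) := CommRingCat.ofHom (algebraMap B (Localization M))
  let K := FractionRing R
  let χ : K →+* Localization M :=
    IsLocalization.lift (M := nonZeroDivisors R) (g := (algebraMap B (Localization M)).comp φ.hom)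
      fun y => IsLocalization.map_units (Localization M) (⟨φ.hom y, y, y.2, rfl⟩ : M)
  have hχ : χ.comp (algebraMap R K) = (algebraMap B (Localization M)).comp φ.hom :=
    IsLocalization.lift_comp _
  let g := Spec.map (CommRingCat.ofHom (algebraMap R K))
  have : LocallyQuasiFinite g :=
    HasRingHomProperty.Spec_iff.mpr (RingHom.quasiFinite_algebraMap.mpr inferInstance)
  have : IsFinite (pullback.snd f g) := hgen
  have : LocallyQuasiFinite (pullback.fst f g ≫ f) := by rw [pullback.condition]; infer_instance
  have hcond : (Spec.map ψ ≫ j) ≫ f = Spec.map (CommRingCat.ofHom χ) ≫ g := by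
    rw [Category.assoc, hφ]
    erw [← Spec.map_comp, ← Spec.map_comp]
    congr 1
    ext1
    exact hχ.symm
  have hψ : ψ.hom.QuasiFinite :=
    RingHom.quasiFinite_algebraMap.mpr (Algebra.QuasiFinite.of_isLocalization M)
  have := Groth.ModPairs.quasiFinite_of_lift f j φ hφ ψ hψ (pullback.fst f g)
    (pullback.lift (Spec.map ψ ≫ j) (Spec.map (CommRingCat.ofHom χ)) hcond) (pullback.lift_fst _ _ _)
  have e : (φ ≫ ψ).hom = algebraMap R (Localization M) := rfl
  rw [e] at this
  exact quasiFinite_key (RingHom.quasiFinite_algebraMap.mp this)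

end Groth.Agent.S18734
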