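import Groth.Statements.S18737
import Groth.Agent.ModPairs.Mprod
import Groth.Agent.BlowUpBasics.Global
import Mathlib.AlgebraicGeometry.Limits
import Mathlib.AlgebraicGeometry.Morphisms.Finite
-- import your own Groth.Agent.* helpers here

set_option autoImplicit false
universe u
open CategoryTheory CategoryTheory.Limits AlgebraicGeometry TopologicalSpace
open ModPair

namespace Groth.Agent.S18737

section Helpers

open Groth BlowUp

theorem quasiCompact_part {X : Scheme.{u}} (I : X.IdealSheafData) [IsAffineHom (ModPair.interior I).ι]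
    (U₀ U₁ : X.Opens) (hU : U₀ ⊔ U₁ = ModPair.interior I) (hd : Disjoint U₀ U₁) : QuasiCompact U₀.ι := by
  have h0 : U₀ ≤ ModPair.interior I := hU ▸ le_sup_left
  have : IsClosedImmersion (X.homOfLE h0) := by
    refine IsClosedImmersion.of_isPreimmersion _ ?_
    have hr : Set.range (X.homOfLE h0) = ((ModPair.interior I).ι ⁻¹ᵁ U₁ : Set (ModPair.interior I : Scheme.{u}))ᶜ := by
      ext x
      constructor
      · rintro ⟨y, rfl⟩ hy
        exact Set.disjoint_left.mp (disjoint_iff_inf_le.mpr (fun z hz => by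
          have := hd.le_bot (show z ∈ U₀ ⊓ U₁ from hz)
          exact this : (U₀ : Set X) ∩ U₁ ⊆ ∅)) y.2 (by simpa using hy)
      · intro hx
        have h2 : x.1 ∈ U₀ ⊔ U₁ := hU.symm ▸ x.2
        exact ⟨⟨x.1, h2.resolve_right hx⟩, Subtype.ext (by simp)⟩
    rw [hr]
    exact ((ModPair.interior I).ι ⁻¹ᵁ U₁).2.isClosed_compl
  rw [← Scheme.homOfLE_ι X h0]
  infer_instance

theorem isEffCartier_part {X : Scheme.{u}} (I : X.IdealSheafData) (hI : IsEffCartierIdeal I) (U : X.Opens)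
    [QuasiCompact U.ι] (hle : U ≤ ModPair.interior I) : IsEffCartierIdeal (I.comap U.ι.imageι) := by
  have := ModPairs.dominant_preimage_imageι U
  have : IsSchemeTheoreticallyDominant (U.ι.imageι ⁻¹ᵁ ModPair.interior I).ι :=
    ModPairs.dominant_mono (U := U.ι.imageι ⁻¹ᵁ U) fun x hx => hle hx
  exact ModPairs.isEffCartierIdeal_comap_of_dominant hI _

theorem not_mem_of_disjoint {X : Scheme.{u}} (U V : X.Opens) [QuasiCompact V.ι] (hd : Disjoint U V)
    (y : V.ι.image) : V.ι.imageι y ∉ U := by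
  intro hy
  have h1 : V.ι.imageι y ∈ closure (V : Set X) := by
    have h2 : (V.ι.ker.support : Set X) = closure (V : Set X) := by
      rw [Scheme.Hom.support_ker, Scheme.Opens.range_ι]
    rw [← h2, ← Scheme.IdealSheafData.range_subschemeι]
    exact ⟨y, rfl⟩
  obtain ⟨z, hzU, hzV⟩ := mem_closure_iff.mp h1 U U.2 hy
  exact hd.le_bot (show z ∈ U ⊓ V from ⟨hzU, hzV⟩)

theorem isIso_restrict_one {X A B : Scheme.{u}} (p : A ⟶ X) (j : B ⟶ A) [IsOpenImmersion j] (U : X.Opens)
    (hr : ∀ z : A, p z ∈ U → z ∈ Set.range j) [IsIso ((j ≫ p) ∣_ U)] : IsIso (p ∣_ U) := by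
  have : Surjective (j ∣_ p ⁻¹ᵁ U) := ⟨fun z => by
    obtain ⟨y, hy⟩ := hr z.1 z.2
    exact ⟨⟨y, show j y ∈ p ⁻¹ᵁ U by rw [hy]; exact z.2⟩, Subtype.ext (by exact (morphismRestrict_base_coe j _ _).trans hy)⟩⟩
  have : IsIso (j ∣_ p ⁻¹ᵁ U) := (isIso_iff_isOpenImmersion_and_epi_base _).mpr
    ⟨inferInstance, (TopCat.epi_iff_surjective _).mpr this.1⟩
  have h : IsIso (j ∣_ p ⁻¹ᵁ U ≫ p ∣_ U) := by rw [← morphismRestrict_comp]; assumption
  exact IsIso.of_isIso_comp_left (j ∣_ p ⁻¹ᵁ U) (p ∣_ U)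

theorem isIso_restrict {X : Scheme.{u}} (U₀ U₁ : X.Opens) [QuasiCompact U₀.ι] [QuasiCompact U₁.ι]
    (hd : Disjoint U₀ U₁) : IsIso (coprod.desc U₀.ι.imageι U₁.ι.imageι ∣_ (U₀ ⊔ U₁)) := by
  set p := coprod.desc U₀.ι.imageι U₁.ι.imageι with hp
  have hcov : ∀ z, (∃ y, (coprod.inl : U₀.ι.image ⟶ _ ⨿ U₁.ι.image) y = z) ∨
      ∃ y, (coprod.inr : U₁.ι.image ⟶ U₀.ι.image ⨿ _) y = z := by
    intro z
    obtain ⟨i, y, hy⟩ := (coprodOpenCover.{u, u} U₀.ι.image U₁.ι.image).exists_eq z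
    rcases i with i | i
    · exact Or.inl ⟨y, hy⟩
    · exact Or.inr ⟨y, hy⟩
  have hi0 : IsIso (p ∣_ U₀) := by
    have := ModPairs.isIso_imageι_restrict U₀
    have : IsIso ((coprod.inl ≫ p) ∣_ U₀) := by rw [hp, coprod.inl_desc]; assumption
    refine isIso_restrict_one p coprod.inl U₀ fun z hz => ?_
    rcases hcov z with ⟨y, rfl⟩ | ⟨y, rfl⟩
    · exact ⟨y, rfl⟩
    · rw [← Scheme.Hom.comp_apply, hp, coprod.inr_desc] at hz
      exact absurd hz (not_mem_of_disjoint U₀ U₁ hd y)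
  have hi1 : IsIso (p ∣_ U₁) := by
    have := ModPairs.isIso_imageι_restrict U₁
    have : IsIso ((coprod.inr ≫ p) ∣_ U₁) := by rw [hp, coprod.inr_desc]; assumption
    refine isIso_restrict_one p coprod.inr U₁ fun z hz => ?_
    rcases hcov z with ⟨y, rfl⟩ | ⟨y, rfl⟩
    · rw [← Scheme.Hom.comp_apply, hp, coprod.inl_desc] at hz
      exact absurd hz (not_mem_of_disjoint U₁ U₀ hd.symm y)
    · exact ⟨y, rfl⟩
  show MorphismProperty.isomorphisms Scheme _
  let V : ULift.{u} Bool → (↑(U₀ ⊔ U₁) : Scheme.{u}).Opens := fun b => (U₀ ⊔ U₁).ι ⁻¹ᵁ (bif b.down then U₀ else U₁)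
  refine IsZariskiLocalAtTarget.of_iSup_eq_top V ?_ fun b => ?_
  · refine top_le_iff.mp fun x _ => ?_
    rcases x.2 with h | h
    · exact TopologicalSpace.Opens.mem_iSup.mpr ⟨⟨true⟩, h⟩
    · exact TopologicalSpace.Opens.mem_iSup.mpr ⟨⟨false⟩, h⟩
  · rw [(MorphismProperty.isomorphisms Scheme.{u}).arrow_mk_iso_iff (morphismRestrictRestrict p _ _)]
    have hV : (U₀ ⊔ U₁).ι ''ᵁ V b = bif b.down then U₀ else U₁ := by
      rw [Scheme.Hom.image_preimage_eq_opensRange_inf, Scheme.Opens.opensRange_ι]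
      rcases b with ⟨_ | _⟩ <;> simp
    show IsIso _
    rw [hV]
    rcases b with ⟨_ | _⟩ <;> assumption

end Helpers

/-- Let X be a scheme and I the quasi-coherent ideal sheaf of an effective Cartier divisor on X, with
open complement U, and suppose U is the disjoint union of two opens U₀, U₁ of X. Let X₀, X₁ ⊆ X be
the scheme-theoretic images of U₀ and U₁ in X and p : X₀ ⨿ X₁ ⟶ X the morphism induced by the two
closed immersions. Then the pulled-back ideal I.comap p is the ideal sheaf of an effective Cartier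
divisor, and p is an abstract admissible blow-up from (X₀ ⨿ X₁, I.comap p) to (X, I): proper, with
the pulled-back modulus, and an isomorphism over U. -/
theorem result {X : Scheme.{u}}
    (I : X.IdealSheafData) (hI : BlowUp.IsEffCartierIdeal I) (U₀ U₁ : X.Opens)
    (hU : U₀ ⊔ U₁ = ModPair.interior I) (hd : Disjoint U₀ U₁) :
    BlowUp.IsEffCartierIdeal (I.comap (coprod.desc U₀.ι.imageι U₁.ι.imageι)) ∧
      ModPair.IsAdmBlowup (I.comap (coprod.desc U₀.ι.imageι U₁.ι.imageι)) I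
        (coprod.desc U₀.ι.imageι U₁.ι.imageι) := by
  have := Groth.ModPairs.isAffineHom_interior hI
  have h0 : U₀ ≤ ModPair.interior I := hU ▸ le_sup_left
  have h1 : U₁ ≤ ModPair.interior I := hU ▸ le_sup_right
  have := quasiCompact_part I U₀ U₁ hU hd
  have := quasiCompact_part I U₁ U₀ (sup_comm U₁ U₀ ▸ hU) hd.symm
  refine ⟨BlowUpBasics.isEffCartierIdeal_of_openCover (coprodOpenCover.{u, u} _ _) fun i => ?_, rfl, inferInstance, ?_⟩
  · rcases i with i | i
    · show BlowUp.IsEffCartierIdeal ((I.comap (coprod.desc U₀.ι.imageι U₁.ι.imageι)).comap coprod.inl)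
      rw [← Scheme.IdealSheafData.comap_comp, coprod.inl_desc]
      exact isEffCartier_part I hI U₀ h0
    · show BlowUp.IsEffCartierIdeal ((I.comap (coprod.desc U₀.ι.imageι U₁.ι.imageι)).comap coprod.inr)
      rw [← Scheme.IdealSheafData.comap_comp, coprod.inr_desc]
      exact isEffCartier_part I hI U₁ h1
  · rw [← hU]
    exact isIso_restrict U₀ U₁ hd

end Groth.Agent.S18737
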