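import Groth.Statements.S1914
import Groth.Agent.FrobLCI.KEuler.Limit
import Groth.Agent.Calg6.KoszulTor
-- import your own Groth.Agent.* helpers here

set_option autoImplicit false
universe u
open CategoryTheory
attribute [local instance] HasDerivedCategory.standard
open IntMult

namespace Groth.Agent.S1914

/-- Let A be a Noetherian local ring, I = (g₁, …, g_c) an ideal generated by a regular sequence and M a
finite A-module with Supp(M/IM) of dimension ≤ 0. Then c! · length_A(M/I^t M)/t^c tends, as t → ∞,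
to Σ_i (−1)^i length_A Tor_i^A(A/I, M); that is, e_I(M, c) equals this alternating sum. -/
theorem result (A : Type u) [CommRing A] [IsNoetherianRing A] [IsLocalRing A] (c : ℕ) (g : Fin c → A) (hreg : RingTheory.Sequence.IsRegular A (List.ofFn g)) (M : Type u) [AddCommGroup M] [Module A M] [Module.Finite A M] (h0 : Module.supportDim A (M ⧸ (Ideal.span (Set.range g) • (⊤ : Submodule A M))) ≤ 0) : Filter.Tendsto (fun t : ℕ => (c.factorial : ℝ) * ((Module.length A (M ⧸ (Ideal.span (Set.range g) ^ t • (⊤ : Submodule A M)))).toNat : ℝ) / (t : ℝ) ^ c) Filter.atTop (nhds (IntMult.chi A (A ⧸ Ideal.span (Set.range g)) M : ℝ)) := by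
  have hofList : Ideal.ofList (List.ofFn g) = Ideal.span (Set.range g) := by
    unfold Ideal.ofList
    congr 1
    ext a
    simp [List.mem_ofFn]
  have hle : Ideal.span (Set.range g) ≤ IsLocalRing.maximalIdeal A :=
    IsLocalRing.le_maximalIdeal fun h => hreg.top_ne_smul.symm (by rw [hofList, h, Submodule.top_smul])
  have hgood : Groth.KEuler.Good (List.ofFn g) M := fun p hp hp' => by
    rw [hofList] at hp'
    have hsupp : (⟨p, hp⟩ : PrimeSpectrum A) ∈ Module.support A (M ⧸ (Ideal.span (Set.range g) • (⊤ : Submodule A M))) := by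
      rw [Module.support_quotient, Module.support_eq_zeroLocus]
      exact ⟨fun x hx => hp' (Ideal.mem_sup_left hx), fun x hx => hp' (Ideal.mem_sup_right hx)⟩
    by_contra hne
    obtain ⟨m, hm, hpm⟩ := Ideal.exists_le_maximal p hp.ne_top
    have hm' : (⟨m, hm.isPrime⟩ : PrimeSpectrum A) ∈ Module.support A (M ⧸ (Ideal.span (Set.range g) • (⊤ : Submodule A M))) :=
      Module.mem_support_mono (p := ⟨p, hp⟩) (q := ⟨m, hm.isPrime⟩) hpm hsupp
    have hlt : (⟨⟨p, hp⟩, hsupp⟩ : Module.support A (M ⧸ (Ideal.span (Set.range g) • (⊤ : Submodule A M)))) < ⟨_, hm'⟩ :=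
      Subtype.mk_lt_mk.2 (lt_of_le_of_ne hpm fun h => hne (by
        have h' : p = m := congrArg PrimeSpectrum.asIdeal h
        rwa [h']))
    have hlen : ((1 : ℕ) : WithBot ℕ∞) ≤ Module.supportDim A (M ⧸ (Ideal.span (Set.range g) • (⊤ : Submodule A M))) :=
      Order.LTSeries.length_le_krullDim (α := Module.support A (M ⧸ (Ideal.span (Set.range g) • (⊤ : Submodule A M))))
        ((RelSeries.singleton _ (⟨⟨p, hp⟩, hsupp⟩ : Module.support A (M ⧸ (Ideal.span (Set.range g) • (⊤ : Submodule A M))))).snoc ⟨_, hm'⟩ hlt)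
    exact absurd (hlen.trans h0) (by norm_num)
  have hK := Groth.KoszulReg.isKoszulRegularSeq_of_isWeaklyRegular hreg.toIsWeaklyRegular
  rw [← hofList, Groth.Calg6.KoszulTor.intMult_chi_eq (List.ofFn g) hK M, hofList]
  have h := (Groth.KEuler.tendsto_hs g (fun j => hle (Ideal.subset_span ⟨j, rfl⟩)) hgood).const_mul (c.factorial : ℝ)
  rw [mul_div_cancel₀ _ (Nat.cast_ne_zero.2 c.factorial_ne_zero)] at h
  refine h.congr fun t => ?_
  rw [mul_div_assoc]
  rfl

end Groth.Agent.S1914
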