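import Groth.Statements.S1874
import Groth.Agent.S1871
import Groth.Agent.S1914

set_option autoImplicit false
universe u
open CategoryTheory AlgebraicGeometry
attribute [local instance] HasDerivedCategory.standard
open IntMult

namespace Groth.Agent.S1874

/-- `(A/W)/I(A/W) ≅ A/(W + I)`, in terms of lengths. -/
theorem length_quot_smul {A : Type u} [CommRing A] (W I : Ideal A) :
    Module.length A ((A ⧸ W) ⧸ (I • (⊤ : Submodule A (A ⧸ W)))) = Module.length A (A ⧸ (W ⊔ I)) := by
  let F : A →ₗ[A] (A ⧸ W) ⧸ (I • (⊤ : Submodule A (A ⧸ W))) :=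
    (I • (⊤ : Submodule A (A ⧸ W))).mkQ ∘ₗ Submodule.mkQ W
  have hF : Function.Surjective F := (Submodule.mkQ_surjective _).comp (Submodule.mkQ_surjective _)
  have hker : LinearMap.ker F = W ⊔ I := by
    rw [LinearMap.ker_comp, Submodule.ker_mkQ,
      show (I • (⊤ : Submodule A (A ⧸ W))) = Submodule.map (Submodule.mkQ W) I by
        rw [← Submodule.range_mkQ W, ← Submodule.map_top, ← Submodule.map_smul'', smul_eq_mul, Ideal.mul_top],
      Submodule.comap_map_eq, Submodule.ker_mkQ, sup_comm]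
  exact ((Submodule.quotEquivOfEq _ _ hker.symm).trans (F.quotKerEquivOfSurjective hF)).length_eq.symm

/-- Suppose the ideal of V in O_{X,ξ} is generated by a regular sequence g₁, …, g_c. Then c! ·
length(O_{W,ξ}/(g₁, …, g_c)^t O_{W,ξ}) / t^c tends to e(X, V·W, Z) as t → ∞ (so e is c! times the
leading coefficient of that Hilbert polynomial), and e(X, V·W, Z) > 0. Here X is a nonsingular
variety over an algebraically closed field K (smooth, separated, of finite type, integral), V and W
are closed subvarieties given by quasi-coherent ideal sheaves with integral subschemes, of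
dimensions r and s with dim X = n, intersecting properly, and ξ is the generic point of an
irreducible component Z of V ∩ W; e(X, V·W, Z) is the alternating sum of lengths of Tor over
O_{X,ξ}. -/
theorem result (K : Type u) [Field K] [IsAlgClosed K] (X : Scheme.{u}) (f : X ⟶ Spec (CommRingCat.of K)) [Smooth f] [IsSeparated f] [QuasiCompact f] [IsIntegral X] (IV IW : X.IdealSheafData) [IsIntegral IV.subscheme] [IsIntegral IW.subscheme] (n r s : ℕ) (hn : topologicalKrullDim X = n) (hr : topologicalKrullDim IV.support = r) (hs : topologicalKrullDim IW.support = s) (hprop : IntMult.ProperInt (IV.support : Set X) (IW.support : Set X) n r s) (ξ : X) (hξV : ξ ∈ IV.support) (hξW : ξ ∈ IW.support) (hmax : ∀ ξ' : X, ξ' ∈ IV.support → ξ' ∈ IW.support → ξ' ⤳ ξ → ξ' = ξ) (c : ℕ) (g : Fin c → ↑(X.presheaf.stalk ξ)) (hg : IntMult.stalkIdeal IV ξ = Ideal.span (Set.range g)) (hreg : RingTheory.Sequence.IsRegular (↑(X.presheaf.stalk ξ)) (List.ofFn g)) : Filter.Tendsto (fun t : ℕ => (c.factorial :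 ℝ) * ((Module.length (X.presheaf.stalk ξ) (↑(X.presheaf.stalk ξ) ⧸ (IntMult.stalkIdeal IW ξ ⊔ IntMult.stalkIdeal IV ξ ^ t))).toNat : ℝ) / (t : ℝ) ^ c) Filter.atTop (nhds (IntMult.mult IV IW ξ : ℝ)) ∧ 0 < IntMult.mult IV IW ξ := by
  letI : X.Over (Spec (CommRingCat.of K)) := ⟨f⟩
  haveI : Smooth (X ↘ Spec (CommRingCat.of K)) := inferInstanceAs (Smooth f)
  haveI : IsRegularLocalRing (X.presheaf.stalk ξ) :=
    Groth.VarietyBC.isRegularLocalRing_of_mem_smoothLocus (k := K) (by
      rw [Scheme.Hom.smoothLocus_eq_top]; trivial)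
  have hpos := Groth.Agent.S1871.result K X f IV IW n r s hn hr hs hprop ξ hξV hξW hmax
  refine ⟨?_, hpos⟩
  have hfl : IsFiniteLength (X.presheaf.stalk ξ) ((↑(X.presheaf.stalk ξ) ⧸ IntMult.stalkIdeal IW ξ) ⧸
      (Ideal.span (Set.range g) • (⊤ : Submodule (X.presheaf.stalk ξ) (↑(X.presheaf.stalk ξ) ⧸ IntMult.stalkIdeal IW ξ)))) := by
    rw [← Module.length_ne_top_iff, length_quot_smul, ← hg, sup_comm, Module.length_ne_top_iff]
    exact Groth.Calg6.ProperStalk.isFiniteLength_inter IV IW hmax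
  have h := Groth.Agent.S1914.result _ c g hreg (↑(X.presheaf.stalk ξ) ⧸ IntMult.stalkIdeal IW ξ)
    (Groth.Ega41Dim.supportDim_le_zero_of_finiteLength _ hfl)
  have hsymm : IntMult.mult IV IW ξ = IntMult.chi (X.presheaf.stalk ξ)
      (↑(X.presheaf.stalk ξ) ⧸ Ideal.span (Set.range g)) (↑(X.presheaf.stalk ξ) ⧸ IntMult.stalkIdeal IW ξ) := by
    rw [IntMult.mult, hg]
    refine finsum_congr fun i => ?_
    obtain ⟨e⟩ := Groth.HTorLib.tor_symm (A := ↑(X.presheaf.stalk ξ)) i
      (↑(X.presheaf.stalk ξ) ⧸ IntMult.stalkIdeal IW ξ) (↑(X.presheaf.stalk ξ) ⧸ Ideal.span (Set.range g))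
    rw [e.length_eq]
  rw [hsymm]
  simp only [length_quot_smul] at h
  rw [hg]
  exact h

end Groth.Agent.S1874
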