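import Groth.Statements.S18740
import Groth.Agent.ModPairs.StrictImage
-- import your own Groth.Agent.* helpers here

set_option autoImplicit false
universe u
open CategoryTheory CategoryTheory.Limits AlgebraicGeometry TopologicalSpace
open ModPair

namespace Groth.Agent.S18740

/-- Let (X, I_X) be a modulus pair (a scheme with the quasi-coherent ideal sheaf of an effective Cartier
divisor) with X quasi-compact and quasi-separated, u : Y ⟶ X a minimal morphism of modulus pairs
(I_Y = I_X.comap u) which is flat and of finite presentation (flat, locally of finite presentation,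
quasi-compact, quasi-separated), and b : Y' ⟶ Y an abstract admissible blow-up of modulus pairs.
Then there exist an abstract admissible blow-up a : X' ⟶ X of modulus pairs, a minimal morphism v :
V ⟶ X' of modulus pairs which is again flat and of finite presentation, and an abstract admissible
blow-up w : V ⟶ Y', such that w ≫ b ≫ u = v ≫ a. If u is in addition surjective (an fppf covering),
then v can be chosen surjective as well. -/
theorem result {X Y Y' : Scheme.{u}} [CompactSpace X]
    [QuasiSeparatedSpace X] (IX : X.IdealSheafData) (IY : Y.IdealSheafData) (IY' : Y'.IdealSheafData)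
    (hX : BlowUp.IsEffCartierIdeal IX) (hY : BlowUp.IsEffCartierIdeal IY)
    (hY' : BlowUp.IsEffCartierIdeal IY') (u : Y ⟶ X) (hu : ModPair.IsMinimal IY IX u) [Flat u]
    [LocallyOfFinitePresentation u] [QuasiCompact u] [QuasiSeparated u]
    (b : Y' ⟶ Y) (hb : ModPair.IsAdmBlowup IY' IY b) :
    ∃ (X' : Scheme.{u}) (IX' : X'.IdealSheafData) (a : X' ⟶ X) (V : Scheme.{u})
      (IV : V.IdealSheafData) (v : V ⟶ X') (w : V ⟶ Y'),
      BlowUp.IsEffCartierIdeal IX' ∧ ModPair.IsAdmBlowup IX' IX a ∧
        BlowUp.IsEffCartierIdeal IV ∧ ModPair.IsMinimal IV IX' v ∧ Flat v ∧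
        LocallyOfFinitePresentation v ∧ QuasiCompact v ∧ QuasiSeparated v ∧
        ModPair.IsAdmBlowup IV IY' w ∧ w ≫ b ≫ u = v ≫ a ∧
        (Surjective u → Surjective v) := by
  subst hu
  obtain ⟨hbmin, hbprop, hbiso⟩ := hb
  haveI := hbprop
  haveI : IsIso (b ∣_ u ⁻¹ᵁ ModPair.interior IX) := by
    rw [← Groth.ModPairs.interior_comap]; exact hbiso
  obtain ⟨X', a, V, v, w, h1, h2, h3, h4, h5, h6, h7, h8, h9, h10, h11⟩ :=
    Groth.ModPairs.exists_admBlowup_flat IX hX u b
  haveI := h4
  refine ⟨X', IX.comap a, a, V, (IX.comap a).comap v, v, w, h1, ⟨rfl, h2, h3⟩,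
    Groth.Divisors.isEffCartierIdeal_comap_flat h1 v, rfl, h4, h5, h6, h7, ⟨?_, h8, ?_⟩, h10, h11⟩
  · show (IX.comap a).comap v = IY'.comap w
    rw [show IY' = (IX.comap u).comap b from hbmin]
    simp only [← Scheme.IdealSheafData.comap_comp, h10, Category.assoc]
  · rw [show IY' = (IX.comap u).comap b from hbmin, ← Scheme.IdealSheafData.comap_comp,
      Groth.ModPairs.interior_comap]
    exact h9

end Groth.Agent.S18740
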