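import Groth.Statements.S18741
import Mathlib
-- import your own Groth.Agent.* helpers here

set_option autoImplicit false
universe v₁ v₂ v₃ u₁ u₂ u₃
open CategoryTheory
open ModPair

namespace Groth.Agent.S18741

section Helpers

open CategoryTheory in
theorem isEquivalence {C : Type u₁} [Category.{v₁} C] (W : MorphismProperty C) [W.HasRightCalculusOfFractions]
    (S : C) {D : Type u₂} [Category.{v₂} D] (L : C ⥤ D) [L.IsLocalization W]
    {E : Type u₃} [Category.{v₃} E] (L' : Over S ⥤ E) [L'.IsLocalization (W.inverseImage (Over.forget S))]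
    (Φ : E ⥤ Over (L.obj S)) (e : L' ⋙ Φ ≅ Over.post L) : Φ.IsEquivalence := by
  let V := W.inverseImage (Over.forget S)
  have : V.HasRightCalculusOfFractions :=
    { id_mem := fun X => W.id_mem X.left
      comp_mem := fun f g hf hg => W.comp_mem _ _ hf hg
      exists_rightFraction := fun X Y φ => by
        obtain ⟨ψ, hψ⟩ := MorphismProperty.LeftFraction.exists_rightFraction
          (⟨φ.f.left, φ.s.left, φ.hs⟩ : W.LeftFraction X.left Y.left)
        exact ⟨⟨(Over.homMk ψ.s rfl : Over.mk (ψ.s ≫ X.hom) ⟶ X), ψ.hs,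
          Over.homMk ψ.f (by
            have h1 := Over.w φ.s
            have h2 := Over.w φ.f
            show ψ.f ≫ Y.hom = ψ.s ≫ X.hom
            rw [← h1, ← reassoc_of% hψ, h2])⟩, Over.OverMorphism.ext hψ⟩
      ext := fun X Y Y' f₁ f₂ s hs h => by
        obtain ⟨Z, t, ht, heq⟩ := MorphismProperty.HasRightCalculusOfFractions.ext (W := W)
          f₁.left f₂.left s.left hs (congrArg CommaMorphism.left h)
        exact ⟨Over.mk (t ≫ X.hom), Over.homMk t rfl, ht, Over.OverMorphism.ext heq⟩ }
  have hL' : L'.IsLocalization V := inferInstanceAs (L'.IsLocalization (W.inverseImage (Over.forget S)))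
  have := Localization.essSurj L' V
  have := Localization.essSurj L W
  have hmap : ∀ {X Y : Over S} (h : X ⟶ Y),
      Φ.map (L'.map h) = e.hom.app X ≫ (Over.post L).map h ≫ e.inv.app Y := fun {X Y} h => by
    rw [← e.hom.naturality_assoc, Iso.hom_inv_id_app]; simp
  have hfaith : Φ.Faithful := by
    refine ⟨fun {A B} m m' hm => ?_⟩
    let eA := L'.objObjPreimageIso A
    let eB := L'.objObjPreimageIso B
    rw [← cancel_epi eA.hom, ← cancel_mono eB.inv, Category.assoc, Category.assoc]
    obtain ⟨φ, hφ⟩ := Localization.exists_rightFraction L' V (eA.hom ≫ m ≫ eB.inv)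
    obtain ⟨φ', hφ'⟩ := Localization.exists_rightFraction L' V (eA.hom ≫ m' ≫ eB.inv)
    obtain ⟨ψ, hψ⟩ := MorphismProperty.LeftFraction.exists_rightFraction
      (⟨φ'.s, φ.s, φ.hs⟩ : V.LeftFraction φ'.X' φ.X')
    have hc : L'.map (ψ.s ≫ φ'.s) ≫ (eA.hom ≫ m ≫ eB.inv) = L'.map (ψ.f ≫ φ.f) := by
      rw [hφ, show ψ.s ≫ φ'.s = ψ.f ≫ φ.s from hψ, Functor.map_comp, Category.assoc,
        MorphismProperty.RightFraction.map_s_comp_map, Functor.map_comp]
    have hd : L'.map (ψ.s ≫ φ'.s) ≫ (eA.hom ≫ m' ≫ eB.inv) = L'.map (ψ.s ≫ φ'.f) := by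
      rw [hφ', Functor.map_comp, Category.assoc, MorphismProperty.RightFraction.map_s_comp_map,
        Functor.map_comp]
    have h1 : Φ.map (L'.map (ψ.f ≫ φ.f)) = Φ.map (L'.map (ψ.s ≫ φ'.f)) := by
      rw [← hc, ← hd]; simp only [Functor.map_comp, hm]
    rw [hmap, hmap, cancel_epi, cancel_mono] at h1
    obtain ⟨Z, t, ht, heq⟩ := (MorphismProperty.map_eq_iff_precomp L W _ _).mp (congrArg CommaMorphism.left h1)
    have h2 : L'.map (ψ.f ≫ φ.f) = L'.map (ψ.s ≫ φ'.f) :=
      (MorphismProperty.map_eq_iff_precomp L' V _ _).mpr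
        ⟨Over.mk (t ≫ ψ.X'.hom), Over.homMk t rfl, ht, Over.OverMorphism.ext heq⟩
    have : IsIso (L'.map (ψ.s ≫ φ'.s)) := Localization.inverts L' V _ (V.comp_mem _ _ ψ.hs φ'.hs)
    rw [← cancel_epi (L'.map (ψ.s ≫ φ'.s)), hc, hd, h2]
  have hfull : Φ.Full := by
    refine ⟨fun {A B} k => ?_⟩
    let eA := L'.objObjPreimageIso A
    let eB := L'.objObjPreimageIso B
    let X := L'.objPreimage A
    let Y := L'.objPreimage B
    let k' : (Over.post L).obj X ⟶ (Over.post L).obj Y :=
      e.inv.app X ≫ Φ.map eA.hom ≫ k ≫ Φ.map eB.inv ≫ e.hom.app Y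
    let kl : L.obj X.left ⟶ L.obj Y.left := k'.left
    have hkw : kl ≫ L.map Y.hom = L.map X.hom := Over.w k'
    obtain ⟨φ, hφ⟩ := Localization.exists_rightFraction L W kl
    have hc : L.map φ.s ≫ kl = L.map φ.f := by
      rw [hφ, MorphismProperty.RightFraction.map_s_comp_map]
    have hw : L.map (φ.f ≫ Y.hom) = L.map (φ.s ≫ X.hom) := by
      rw [Functor.map_comp, Functor.map_comp, ← hc, Category.assoc, hkw]
    obtain ⟨Z, t, ht, heq⟩ := (MorphismProperty.map_eq_iff_precomp L W _ _).mp hw
    let r : Over.mk ((t ≫ φ.s) ≫ X.hom) ⟶ X := Over.homMk (t ≫ φ.s) rfl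
    let c : Over.mk ((t ≫ φ.s) ≫ X.hom) ⟶ Y := Over.homMk (t ≫ φ.f) (by simp [heq])
    have hr : IsIso (L'.map r) := Localization.inverts L' V r (W.comp_mem _ _ ht φ.hs)
    have key : (Over.post L).map r ≫ k' = (Over.post L).map c := by
      refine Over.OverMorphism.ext ?_
      show L.map (t ≫ φ.s) ≫ kl = L.map (t ≫ φ.f)
      rw [Functor.map_comp, Category.assoc, hc]
      exact (L.map_comp t φ.f).symm
    have hk : k = Φ.map eA.inv ≫ e.hom.app X ≫ k' ≫ e.inv.app Y ≫ Φ.map eB.hom := by
      simp [k', ← Functor.map_comp]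
    refine ⟨eA.inv ≫ inv (L'.map r) ≫ L'.map c ≫ eB.hom, ?_⟩
    rw [hk, Functor.map_comp, Functor.map_comp, Functor.map_comp, Functor.map_inv,
      cancel_epi, IsIso.inv_comp_eq, hmap, hmap, ← key]
    simp only [Category.assoc]
    rw [Iso.inv_hom_id_app_assoc]
  have hess : Φ.EssSurj := by
    refine ⟨fun A => ?_⟩
    let eA := L.objObjPreimageIso A.left
    obtain ⟨φ, hφ⟩ := Localization.exists_rightFraction L W (eA.hom ≫ A.hom)
    let i : L.obj φ.X' ≅ L.obj (L.objPreimage A.left) := Localization.isoOfHom L W φ.s φ.hs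
    refine ⟨L'.obj (Over.mk φ.f), ⟨e.app _ ≪≫ Over.isoMk (i ≪≫ eA) ?_⟩⟩
    show (L.map φ.s ≫ eA.hom) ≫ A.hom = L.map φ.f
    rw [Category.assoc, hφ, MorphismProperty.RightFraction.map_s_comp_map]
  exact { }

end Helpers

/-- Let C be a category, W a class of morphisms of C admitting a calculus of right fractions, and S an
object of C; let W_S be the class of morphisms of the slice category over S whose underlying
morphism lies in W. Then the canonical functor from the localization of the slice category C/S at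
W_S to the slice category over S of the localization of C at W is an equivalence: for every
localization functor L : C ⥤ D at W, every localization functor L' : C/S ⥤ E at W_S, and every
functor Φ : E ⥤ D/L(S) through which the functor C/S ⥤ D/L(S) induced by L factors up to
isomorphism, Φ is an equivalence of categories. -/
theorem result {C : Type u₁}
    [Category.{v₁} C] (W : MorphismProperty C) [W.HasRightCalculusOfFractions] (S : C)
    {D : Type u₂} [Category.{v₂} D] (L : C ⥤ D) [L.IsLocalization W]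
    {E : Type u₃} [Category.{v₃} E] (L' : Over S ⥤ E)
    [L'.IsLocalization (W.inverseImage (Over.forget S))]
    (Φ : E ⥤ Over (L.obj S)) (e : L' ⋙ Φ ≅ Over.post L) : Φ.IsEquivalence := by
  exact isEquivalence W S L L' Φ e

end Groth.Agent.S18741
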