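import Groth.Statements.S18742
import Groth.Agent.ModPairs.Limit
import Groth.Agent.Limits.RelApproxCor
-- import your own Groth.Agent.* helpers here

set_option autoImplicit false
universe u
open CategoryTheory CategoryTheory.Limits AlgebraicGeometry TopologicalSpace
open ModPair

namespace Groth.Agent.S18742

/-- Let S be a quasi-compact quasi-separated scheme, (X_i) a cofiltered system of S-schemes with affine,
scheme-theoretically dominant transition morphisms and all X_i quasi-compact and quasi-separated, X
its limit in the category of S-schemes, and Y ⟶ S locally of finite type with Y quasi-compact and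
quasi-separated. Then the canonical map from the colimit of the sets Hom_S(X_i, Y) to Hom_S(X, Y) is
bijective: every S-morphism X ⟶ Y factors through the projection to some X_i, and two S-morphisms
X_i ⟶ Y with the same composite X ⟶ Y become equal after composition with some transition morphism
X_j ⟶ X_i. No finite-presentation hypothesis on Y is assumed. -/
theorem result {S : Scheme.{u}} [CompactSpace S]
    [QuasiSeparatedSpace S] {I : Type u} [SmallCategory I] [IsCofiltered I] (D : I ⥤ Over S)
    (c : Cone D) (hc : IsLimit c)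
    [∀ (i j : I) (t : i ⟶ j), IsAffineHom (D.map t).left]
    [∀ (i j : I) (t : i ⟶ j), IsSchemeTheoreticallyDominant (D.map t).left]
    [∀ i, CompactSpace (D.obj i).left] [∀ i, QuasiSeparatedSpace (D.obj i).left]
    (Y : Over S) [CompactSpace Y.left] [QuasiSeparatedSpace Y.left] [LocallyOfFiniteType Y.hom] :
    (∀ φ : c.pt ⟶ Y, ∃ (i : I) (φi : D.obj i ⟶ Y), c.π.app i ≫ φi = φ) ∧
      ∀ (i : I) (φ ψ : D.obj i ⟶ Y), c.π.app i ≫ φ = c.π.app i ≫ ψ →
        ∃ (j : I) (t : j ⟶ i), D.map t ≫ φ = D.map t ≫ ψ := by

  let D' := D ⋙ Over.forget S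
  let c' := (Over.forget S).mapCone c
  let hc' : IsLimit c' := isLimitOfPreserves _ hc
  have : ∀ {i j : I} (t : i ⟶ j), IsAffineHom (D'.map t) := fun {i j} t =>
    inferInstanceAs (IsAffineHom (D.map t).left)
  have : ∀ {i j : I} (t : i ⟶ j), IsSchemeTheoreticallyDominant (D'.map t) := fun {i j} t =>
    inferInstanceAs (IsSchemeTheoreticallyDominant (D.map t).left)
  have hcs : ∀ i, CompactSpace (D'.obj i) := fun i => inferInstanceAs (CompactSpace (D.obj i).left)
  have hqs : ∀ i, QuasiSeparatedSpace (D'.obj i) := fun i =>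
    inferInstanceAs (QuasiSeparatedSpace (D.obj i).left)
  let s : D' ⟶ (Functor.const I).obj S :=
    { app := fun i => (D.obj i).hom
      naturality := fun i j t => by simp [D'] }
  refine ⟨fun φ => ?_, fun i φ ψ h => ?_⟩
  · obtain ⟨Y', f', ι, hlfp, -, -, hι, -, -, hfac⟩ :=
      Groth.Limits.exists_closedImmersion_fp Y.hom
    have ha : c'.π ≫ s = (Functor.const I).map ((φ.left ≫ ι) ≫ f') := by
      ext i
      simp [c', s, Category.assoc, hfac, Over.w]
    obtain ⟨i, g, hg, hg'⟩ := Scheme.exists_π_app_comp_eq_of_locallyOfFinitePresentation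
      D' s f' c' hc' (φ.left ≫ ι) ha
    have hz : IsIso (pullback.fst g ι) := by
      refine IsClosedImmersion.isIso_iff_ker_eq_bot.mpr (eq_bot_iff.mpr ?_)
      rw [← Groth.ModPairs.ker_π_eq_bot D' c' hc' i,
        ← pullback.lift_fst (f := g) (g := ι) (c'.π.app i) φ.left hg]
      exact Scheme.Hom.le_ker_comp _ _
    have hgl : inv (pullback.fst g ι) ≫ pullback.snd g ι ≫ ι = g := by
      rw [← pullback.condition, IsIso.inv_hom_id_assoc]
    let gl : D'.obj i ⟶ Y.left := inv (pullback.fst g ι) ≫ pullback.snd g ι
    have hgl' : gl ≫ ι = g := by simp only [gl, Category.assoc]; exact hgl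
    refine ⟨i, Over.homMk gl (show gl ≫ Y.hom = (D.obj i).hom by rw [← hfac, ← Category.assoc, hgl']; exact hg'), ?_⟩
    ext1
    rw [← cancel_mono ι]
    show (c'.π.app i ≫ gl) ≫ ι = _
    erw [Category.assoc, hgl', hg]
    rfl
  · obtain ⟨k, t, ht⟩ := Scheme.exists_hom_comp_eq_comp_of_locallyOfFiniteType
      D' s Y.hom c' hc' φ.left ψ.left (Over.w φ).symm (Over.w ψ).symm
      (congrArg CommaMorphism.left h)
    exact ⟨k, t, Over.OverMorphism.ext ht⟩

end Groth.Agent.S18742
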