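import Groth.Statements.S18744
import Groth.Agent.ModPairs.Limit
-- import your own Groth.Agent.* helpers here

set_option autoImplicit false
universe u
open CategoryTheory CategoryTheory.Limits AlgebraicGeometry TopologicalSpace
open ModPair

namespace Groth.Agent.S18744

/-- Let (X_i, I_i) be a cofiltered system of schemes equipped with quasi-coherent ideal sheaves of
effective Cartier divisors, with affine and minimal transition morphisms (the modulus of X_i is the
pull-back of the modulus of X_j along each transition morphism X_i ⟶ X_j), and let X be its limit
with projections π_i. Then the pulled-back ideal I_i.comap π_i is the ideal sheaf of an effective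
Cartier divisor on X for every i; with this modulus X is a modulus pair mapping minimally to each
(X_i, I_i). (The source allows the conditions on the transition morphisms to hold only beyond some
index; here they are assumed throughout.) -/
theorem result {I : Type u}
    [SmallCategory I] [IsCofiltered I] (D : I ⥤ Scheme.{u}) (c : Cone D) (hc : IsLimit c)
    [∀ (i j : I) (t : i ⟶ j), IsAffineHom (D.map t)]
    (J : ∀ i, (D.obj i).IdealSheafData) (hJ : ∀ i, BlowUp.IsEffCartierIdeal (J i))
    (hmin : ∀ (i j : I) (t : i ⟶ j), ModPair.IsMinimal (J i) (J j) (D.map t)) (i : I) :
    BlowUp.IsEffCartierIdeal ((J i).comap (c.π.app i)) := by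

  have : ∀ {i j : I} (t : i ⟶ j), IsAffineHom (D.map t) := fun t => inferInstance
  exact Groth.ModPairs.isEffCartierIdeal_comap_π D c hc J hJ (fun i j t => hmin i j t) i

end Groth.Agent.S18744
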