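import Groth.Statements.S18746
import Groth.Agent.ModPairs.Descend
import Groth.Agent.ModPairs.Limit
-- import your own Groth.Agent.* helpers here

set_option autoImplicit false
universe u
open CategoryTheory CategoryTheory.Limits AlgebraicGeometry TopologicalSpace
open ModPair

namespace Groth.Agent.S18746

/-- Let (X_i, I_i) be a cofiltered system of quasi-compact quasi-separated schemes with quasi-coherent
ideal sheaves of effective Cartier divisors and affine, minimal transition morphisms, X its limit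
with projections π_i and modulus I = I_i.comap π_i for all i, and s : Y ⟶ X an abstract admissible
blow-up of modulus pairs (I.comap s an effective Cartier ideal sheaf, s proper and an isomorphism
over the interior of (X, I)). Then the blow-up descends: for some index i there are a scheme Y_i
with the ideal sheaf I_{Y_i} of an effective Cartier divisor, an abstract admissible blow-up s_i :
Y_i ⟶ X_i from (Y_i, I_{Y_i}) to (X_i, I_i), and an isomorphism over X between Y and the ambient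
product of X and Y_i over X_i, namely the scheme-theoretic image of pr₁⁻¹(X°) ∩ pr₂⁻¹(Y_i°) in X
×_{X_i} Y_i. -/
theorem result {I : Type u}
    [SmallCategory I] [IsCofiltered I] (D : I ⥤ Scheme.{u}) (c : Cone D) (hc : IsLimit c)
    [∀ (i j : I) (t : i ⟶ j), IsAffineHom (D.map t)]
    [∀ i, CompactSpace (D.obj i)] [∀ i, QuasiSeparatedSpace (D.obj i)]
    (J : ∀ i, (D.obj i).IdealSheafData) (hJ : ∀ i, BlowUp.IsEffCartierIdeal (J i))
    (hmin : ∀ (i j : I) (t : i ⟶ j), ModPair.IsMinimal (J i) (J j) (D.map t))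
    (IX : c.pt.IdealSheafData) (hIX : ∀ i, IX = (J i).comap (c.π.app i))
    {Y : Scheme.{u}} (s : Y ⟶ c.pt) (hY : BlowUp.IsEffCartierIdeal (IX.comap s))
    (hs : ModPair.IsAdmBlowup (IX.comap s) IX s) :
    ∃ (i : I) (Yi : Scheme.{u}) (IYi : Yi.IdealSheafData) (si : Yi ⟶ D.obj i),
      BlowUp.IsEffCartierIdeal IYi ∧ ModPair.IsAdmBlowup IYi (J i) si ∧
        ∃ e : Y ≅ ModPair.mprod (c.π.app i) si IX IYi,
          e.hom ≫ ModPair.mprodι (c.π.app i) si IX IYi ≫ pullback.fst (c.π.app i) si = s := by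

  obtain ⟨hmin0, hprop, hiso⟩ := hs
  obtain ⟨i, P, p, q, w, hp, hlfp, hl⟩ := Groth.Limits.exists_proper_fp_stage hc s
  let U : (D.obj i).Opens := ModPair.interior (J i)
  have hUc : IsCompact (U : Set (D.obj i)) := by
    have := Groth.ModPairs.isAffineHom_interior (hJ i)
    rw [isCompact_iff_compactSpace]
    exact QuasiCompact.compactSpace_of_compactSpace U.ι
  have hO : ModPair.interior IX = c.π.app i ⁻¹ᵁ U := by
    rw [hIX i, Groth.ModPairs.interior_comap]
  have hiso' : IsIso (s ∣_ c.π.app i ⁻¹ᵁ U) := hO ▸ hiso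
  let a : (c.π.app i ⁻¹ᵁ U).toScheme ⟶ P :=
    inv (s ∣_ c.π.app i ⁻¹ᵁ U) ≫ (s ⁻¹ᵁ (c.π.app i ⁻¹ᵁ U)).ι ≫ q
  have ha : a ≫ p = (c.π.app i ⁻¹ᵁ U).ι ≫ c.π.app i := by
    simp only [a, Category.assoc, ← w]
    rw [← morphismRestrict_ι_assoc, IsIso.inv_hom_id_assoc]
  have hcompact : ∀ m, CompactSpace ((opensDiagram D i U).obj m) := fun m =>
    isCompact_iff_compactSpace.mp (QuasiCompact.isCompact_preimage (f := (D.map m.hom)) _ U.2 hUc)
  have hqs : ∀ m, QuasiSeparatedSpace ((opensDiagram D i U).obj m) := fun m =>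
    (Scheme.Opens.ι (D.map m.hom ⁻¹ᵁ U)).isOpenEmbedding.quasiSeparatedSpace
  let ts : opensDiagram D i U ⟶ (Functor.const _).obj (D.obj i) :=
    { app := fun m => Scheme.Opens.ι _ ≫ D.map m.hom
      naturality := fun m n b => by
        show (D.map b.left).resLE _ _ _ ≫ (Scheme.Opens.ι _ ≫ D.map n.hom) = _ ≫ 𝟙 _
        rw [Scheme.Hom.resLE_comp_ι_assoc, Category.comp_id, ← D.map_comp, Over.w b]
        rfl }
  obtain ⟨k, u, hu, hup⟩ := Scheme.exists_π_app_comp_eq_of_locallyOfFinitePresentation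
    (opensDiagram D i U) ts p _ (isLimitOpensCone D c hc i U) a (by
      ext m : 2
      show (c.π.app m.left).resLE _ _ _ ≫ Scheme.Opens.ι _ ≫ D.map m.hom = a ≫ p
      rw [Scheme.Hom.resLE_comp_ι_assoc, ha, c.w])
  have hV : ModPair.interior (J k.left) = D.map k.hom ⁻¹ᵁ U := by
    rw [show J k.left = (J i).comap (D.map k.hom) from hmin _ _ k.hom, Groth.ModPairs.interior_comap]
  have hle : ModPair.interior IX ≤ c.π.app k.left ⁻¹ᵁ (D.map k.hom ⁻¹ᵁ U) := by
    rw [hO, ← Scheme.Hom.comp_preimage, c.w]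
  have hiso'' : IsIso (s ∣_ ModPair.interior IX) := hiso
  have key : ∀ (O : c.pt.Opens) (_ : O = c.π.app i ⁻¹ᵁ U) [IsIso (s ∣_ O)]
      (h : O ≤ c.π.app k.left ⁻¹ᵁ (D.map k.hom ⁻¹ᵁ U)),
      (c.π.app k.left).resLE _ O h ≫ u = inv (s ∣_ O) ≫ (s ⁻¹ᵁ O).ι ≫ q := by
    intro O e
    subst e
    intro _ h
    exact hu
  have w' : s ≫ c.π.app k.left ≫ D.map k.hom = q ≫ p := by rw [c.w]; exact w
  have hl' : IsClosedImmersion (Limits.pullback.lift s q w') := by
    have : ∀ (r : c.pt ⟶ D.obj i) (_ : r = c.π.app i) (hr : s ≫ r = q ≫ p),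
        IsClosedImmersion (Limits.pullback.lift s q hr) := by
      rintro r rfl hr; exact hl
    exact this _ (c.w k.hom) w'
  obtain ⟨Yj, IYj, sj, h1, h2, h3⟩ := Groth.ModPairs.exists_stage_blowup (c.π.app k.left)
    (D.map k.hom) p IX (J k.left) s (hJ _) (by
      have := Groth.ModPairs.isEffCartierIdeal_comap_π D c hc J hJ hmin i
      rwa [← hIX i] at this) (hIX _) hY _ hV u hup q w' hle (key _ hO hle)
  exact ⟨k.left, Yj, IYj, sj, h1, h2, h3⟩

end Groth.Agent.S18746
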