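import Groth.Statements.S1875
import Groth.Agent.Misc1.InsepCycles.MultField


set_option autoImplicit false
universe u
open TensorProduct
open RelCyc

namespace Groth.Agent.S1875

/-- Let k be a field of exponential characteristic p, K/k any field extension and L/k a finitely
generated field extension (the function field of an integral scheme locally of finite type over k).
For every minimal prime 𝔮 of K ⊗_k L the length of the Artinian local ring (K ⊗_k L)_𝔮 — the
multiplicity of the corresponding irreducible component of the base change — is a power of p (so 1
in characteristic zero). -/
theorem result (k K L : Type u) [Field k] [Field K] [Field L] [Algebra k K] [Algebra k L] (hL : (⊤ : IntermediateField k L).FG) (p : ℕ) [ExpChar k p] (q : Ideal (K ⊗[k] L)) [q.IsPrime] (hq : q ∈ minimalPrimes (K ⊗[k] L)) : ∃ n : ℕ, Module.length (Localization.AtPrime q) (Localization.AtPrime q) = (p ^ n : ℕ) := by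
  classical
  obtain ⟨ι, x, hx⟩ := exists_isTranscendenceBasis' k L
  let M := IntermediateField.adjoin k (Set.range x)
  have halg : Algebra.IsAlgebraic M L := hx.isAlgebraic_field
  obtain ⟨S, hS⟩ := hL
  have hfin : FiniteDimensional M L := by
    have h1 : IntermediateField.adjoin M (S : Set L) = ⊤ := by
      refine eq_top_iff.2 fun y _ => ?_
      have : (IntermediateField.adjoin k (S : Set L)) ≤ (IntermediateField.adjoin M (S : Set L)).restrictScalars k :=
        IntermediateField.adjoin_le_iff.2 fun a ha => IntermediateField.subset_adjoin _ _ ha
      exact this (hS.symm ▸ IntermediateField.mem_top)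
    have : FiniteDimensional M (IntermediateField.adjoin M (S : Set L)) :=
      IntermediateField.finiteDimensional_adjoin fun y _ => Algebra.IsIntegral.isIntegral y
    rw [h1] at this
    exact Module.Finite.equiv (IntermediateField.topEquiv (F := M) (E := L)).toLinearEquiv
  let Ls := separableClosure M L
  have : Algebra.IsSeparable M Ls := separableClosure.isSeparable M L
  have : IsPurelyInseparable Ls L := separableClosure.isPurelyInseparable M L
  have : FiniteDimensional Ls L := Module.Finite.of_restrictScalars_finite M Ls L
  have : FiniteDimensional M Ls := inferInstance
  have : IsScalarTower k Ls L := IsScalarTower.of_algebraMap_eq fun _ => rfl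
  have : IsScalarTower k M Ls := IsScalarTower.of_algebraMap_eq fun _ => rfl
  have hM : IsReduced (M ⊗[k] K) := Groth.InsepCycles.isReduced_adjoin_tensor k K L x hx.1
  exact Groth.InsepCycles.exists_length_atPrime_of_tower k K L M Ls p q hq

end Groth.Agent.S1875
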