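import Groth.Statements.S18751
import Groth.Agent.ModPairs.Prod
-- import your own Groth.Agent.* helpers here

set_option autoImplicit false
universe u
open CategoryTheory CategoryTheory.Limits AlgebraicGeometry TopologicalSpace
open ModPair

namespace Groth.Agent.S18751

/-- Let (S, I_S), (T, J), (X, I) be schemes with quasi-coherent ideal sheaves of effective Cartier
divisors, f : X ⟶ S and g : T ⟶ S morphisms satisfying the modulus condition, and (Y, K) together
with π : Y ⟶ Y₀ an ambient product of (X, I) and (T, J) over S (Y₀ the scheme-theoretic image of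
pr₁⁻¹(X°) ∩ pr₂⁻¹(T°) in X ×_S T, π a blowing up of Y₀ in the sum of the pulled-back moduli, K times
the exceptional ideal equal to the product of the pulled-back moduli). Then the projection Y ⟶ T is
of finite type if f is of finite type, universally closed if f is universally closed, and proper if
f is proper. -/
theorem result {S T X Y : Scheme.{u}}
    (IS : S.IdealSheafData) (J : T.IdealSheafData) (I : X.IdealSheafData)
    (hS : BlowUp.IsEffCartierIdeal IS) (hT : BlowUp.IsEffCartierIdeal J) (hX : BlowUp.IsEffCartierIdeal I)
    (f : X ⟶ S) (hf : ModPair.IsAmbient I IS f) (g : T ⟶ S) (hg : ModPair.IsAmbient J IS g)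
    (π : Y ⟶ ModPair.mprod f g I J) (K : Y.IdealSheafData) (hY : ModPair.IsAmbProd f g I J π K) :
    ((LocallyOfFiniteType f ∧ QuasiCompact f) →
        LocallyOfFiniteType (π ≫ ModPair.mprodι f g I J ≫ pullback.snd f g) ∧
          QuasiCompact (π ≫ ModPair.mprodι f g I J ≫ pullback.snd f g)) ∧
      (UniversallyClosed f → UniversallyClosed (π ≫ ModPair.mprodι f g I J ≫ pullback.snd f g)) ∧
      (IsProper f → IsProper (π ≫ ModPair.mprodι f g I J ≫ pullback.snd f g)) := by
  have := Groth.ModPairs.ambProd_isProper hX hT hY
  refine ⟨fun ⟨h1, h2⟩ => ⟨?_, ?_⟩, fun h1 => ?_, fun h1 => ?_⟩ <;> infer_instance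

end Groth.Agent.S18751
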