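import Groth.Statements.S18753
import Groth.Agent.ModPairs.QFScheme
import Groth.Agent.ModPairs.Basic
import Groth.Agent.BlowUpBasics.EffCartier
-- import your own Groth.Agent.* helpers here

set_option autoImplicit false
universe u
open CategoryTheory CategoryTheory.Limits AlgebraicGeometry TopologicalSpace
open ModPair

namespace Groth.Agent.S18753

section Helpers

theorem quasiFinite_key {A B : Type u} [CommRing A] [CommRing B] [Algebra A B]
    [Algebra.FiniteType A B] (f : A) (p₀ : Ideal A) (hp₀ : ∀ n : ℕ, p₀ ≤ Ideal.span {f ^ n})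
    (hval : ∀ a b : A, ∃ c, b - a * c ∈ p₀ ∨ a - b * c ∈ p₀)
    (hnzd : algebraMap A B f ∈ nonZeroDivisors B)
    (hS : Algebra.QuasiFinite A (Localization.Away (algebraMap A B f))) :
    Algebra.QuasiFinite A B := by
  refine Groth.ModPairs.quasiFinite_of_incomparable fun Q Q' hQ hQ' hle hc =>
    Groth.ModPairs.eq_of_algMod ?_ hle hc
  have hloc : ∀ P : Ideal B, P.IsPrime → algebraMap A B f ∉ P → Groth.ModPairs.AlgMod A P := by
    intro P hP hf
    refine Groth.ModPairs.algMod_of_quasiFinite_localization
      (S := Localization.Away (algebraMap A B f)) (Submonoid.powers (algebraMap A B f)) P ?_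
    refine Set.disjoint_left.mpr ?_
    rintro _ ⟨n, rfl⟩ hn
    exact hf (hP.mem_of_pow_mem n hn)
  by_cases hfQ : algebraMap A B f ∉ Q
  · exact hloc Q hQ hfQ
  rw [not_not] at hfQ
  have hdisj : Disjoint (p₀.map (algebraMap A B) : Set B)
      ((Submonoid.powers (algebraMap A B f) ⊔ Q.primeCompl : Submonoid B) : Set B) := by
    refine Set.disjoint_left.mpr fun x hx hx' => ?_
    obtain ⟨_, ⟨n, rfl⟩, v, hv, rfl⟩ := Submonoid.mem_sup.mp hx'
    have h1 := Ideal.map_mono (f := algebraMap A B) (hp₀ (n + 1)) hx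
    rw [Ideal.map_span, Set.image_singleton, Ideal.mem_span_singleton, map_pow] at h1
    obtain ⟨w, hw⟩ := h1
    refine hv ?_
    have h2 : v = algebraMap A B f * w := by
      refine (mul_cancel_left_mem_nonZeroDivisors (pow_mem hnzd n)).mp ?_
      rw [hw, pow_succ]; ring
    rw [h2]
    exact Ideal.mul_mem_right _ _ hfQ
  obtain ⟨Q₀, hQ₀, hle₀, hd⟩ := Ideal.exists_le_prime_disjoint _ _ hdisj
  refine Groth.ModPairs.algMod_mono (Q₀ := Q₀) hval (Ideal.map_le_iff_le_comap.mp hle₀)
    (fun x hx => ?_) (hloc Q₀ hQ₀ ?_)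
  · by_contra hxQ
    exact Set.disjoint_left.mp hd hx (Submonoid.mem_sup_right hxQ)
  · exact fun h => Set.disjoint_left.mp hd h (Submonoid.mem_sup_left (Submonoid.mem_powers _))

theorem eq_zero_of_mul_eq_zero {B : CommRingCat.{u}} (b : B)
    [IsSchemeTheoreticallyDominant ((Spec B).basicOpen ((Scheme.ΓSpecIso B).inv b)).ι]
    (x : B) (hx : x * b = 0) : x = 0 := by
  set U := (Spec B).basicOpen ((Scheme.ΓSpecIso B).inv b)
  have : QuasiCompact U.ι := by
    have : IsAffine U := ((isAffineOpen_top (Spec B)).basicOpen _)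
    infer_instance
  apply (Scheme.ΓSpecIso B).commRingCatIsoToRingEquiv.symm.injective
  rw [map_zero]
  refine Groth.ModPairs.eq_zero_of_dominant U _ fun y hy hyU => ?_
  have h1 := congrArg (((Spec B).presheaf.germ ⊤ y hy).hom.comp (Scheme.ΓSpecIso B).inv.hom) hx
  rw [map_mul, map_zero] at h1
  exact (((Spec B).mem_basicOpen _ y hy).mp hyU).mul_left_eq_zero.mp h1

end Helpers

/-- Let O be a local ring with residue field κ, R a valuation ring of κ, A ⊆ O the subring of elements
whose residue class lies in R (the fibre product ring R ×_κ O, a semi-valuation ring), and f an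
element of A such that O is the localization of A obtained by inverting f. Equip P = Spec A with the
modulus V(f), the closed subscheme cut out by f (an effective Cartier divisor: f is a unit of O, so
a nonzerodivisor of A), whose interior is Spec O. Let q : Q ⟶ P be a proper, minimal morphism of
modulus pairs (the modulus of Q is the pull-back of V(f) and is an effective Cartier divisor) whose
restriction over the interior of P is a finite morphism. Then q is finite. -/
theorem result {O : Type u} [CommRing O]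
    [IsLocalRing O] (R : ValuationSubring (IsLocalRing.ResidueField O))
    (f : ↥((R.toSubring).comap (IsLocalRing.residue O)))
    [IsLocalization.Away f O] {Q : Scheme.{u}} (IQ : Q.IdealSheafData)
    (hQ : BlowUp.IsEffCartierIdeal IQ)
    (q : Q ⟶ Spec (CommRingCat.of ↥((R.toSubring).comap (IsLocalRing.residue O))))
    (hq : ModPair.IsMinimal IQ
      (Spec.map (CommRingCat.ofHom (Ideal.Quotient.mk (Ideal.span {f})))).ker q)
    [IsProper q]
    (hfin : IsFinite (q ∣_ ModPair.interior
      (Spec.map (CommRingCat.ofHom (Ideal.Quotient.mk (Ideal.span {f})))).ker)) :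
    IsFinite q := by

  let A := CommRingCat.of ↥((R.toSubring).comap (IsLocalRing.residue O))
  let K := (Spec.map (CommRingCat.ofHom (Ideal.Quotient.mk (Ideal.span {f})))).ker
  let U : (Spec A).Opens := PrimeSpectrum.basicOpen f
  have hint : ModPair.interior K = U := by
    ext x
    show x ∉ (K.support : Set (Spec A)) ↔ _
    rw [Scheme.Hom.support_ker]
    have hr : Set.range (Spec.map (CommRingCat.ofHom (Ideal.Quotient.mk (Ideal.span {f})))) =
        PrimeSpectrum.zeroLocus {f} := by
      erw [range_comap_of_surjective _ _ Ideal.Quotient.mk_surjective]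
      erw [Ideal.mk_ker, PrimeSpectrum.zeroLocus_span]
    erw [hr, (PrimeSpectrum.isClosed_zeroLocus _).closure_eq, PrimeSpectrum.mem_zeroLocus,
      Set.singleton_subset_iff]
    rfl
  refine Groth.ModPairs.isFinite_of_affine q fun B j _ φ hφ hft => ?_
  have hK : IQ.comap j = K.comap (Spec.map φ) := by
    rw [hq, ← Scheme.IdealSheafData.comap_comp, hφ]
  have hpre : Spec.map φ ⁻¹ᵁ U = (Spec B).basicOpen ((Scheme.ΓSpecIso B).inv (φ f)) := by
    erw [basicOpen_eq_of_affine]
    rfl
  have heff : BlowUp.IsEffCartierIdeal (K.comap (Spec.map φ)) :=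
    hK ▸ BlowUpBasics.isEffCartierIdeal_comap_of_flat j hQ
  have : IsSchemeTheoreticallyDominant ((Spec B).basicOpen ((Scheme.ΓSpecIso B).inv (φ f))).ι := by
    have := Groth.ModPairs.dominant_interior heff
    rwa [Groth.ModPairs.interior_comap, hint, hpre] at this
  algebraize [φ.hom]
  have hnzd : φ.hom f ∈ nonZeroDivisors B :=
    mem_nonZeroDivisors_iff_right.mpr fun x hx => eq_zero_of_mul_eq_zero (φ.hom f) x hx
  let S := Localization.Away (φ.hom f)
  let ψ : B ⟶ CommRingCat.of S := CommRingCat.ofHom (algebraMap B S)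
  let W := q ⁻¹ᵁ ModPair.interior K
  have hrange : Set.range (Spec.map ψ ≫ j) ⊆ Set.range W.ι := by
    rw [Scheme.Opens.range_ι]
    rintro _ ⟨y, rfl⟩
    show (j ≫ q) ((Spec.map ψ) y) ∈ ModPair.interior K
    rw [hint, hφ]
    show f ∉ ((PrimeSpectrum.comap φ.hom) ((PrimeSpectrum.comap ψ.hom) y)).asIdeal
    exact fun h => y.2.ne_top (Ideal.eq_top_of_isUnit_mem _ h
      (IsLocalization.Away.algebraMap_isUnit (S := S) (φ.hom f)))
  have : IsFinite (q ∣_ ModPair.interior K) := hfin
  have : LocallyQuasiFinite (W.ι ≫ q) := by rw [← morphismRestrict_ι]; infer_instance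
  have hψ : ψ.hom.QuasiFinite :=
    RingHom.quasiFinite_algebraMap.mpr (Algebra.QuasiFinite.of_isLocalization (Submonoid.powers (φ.hom f)))
  have h2 := Groth.ModPairs.quasiFinite_of_lift q j φ hφ ψ hψ W.ι
    (IsOpenImmersion.lift W.ι (Spec.map ψ ≫ j) hrange) (IsOpenImmersion.lift_fac _ _ _)
  have e : (φ ≫ ψ).hom = algebraMap A S := rfl
  rw [e] at h2
  let res : A →+* IsLocalRing.ResidueField O :=
    (IsLocalRing.residue O).comp ((R.toSubring).comap (IsLocalRing.residue O)).subtype
  refine quasiFinite_key f (RingHom.ker res) (fun n a ha => ?_) (fun a b => ?_) hnzd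
    (RingHom.quasiFinite_algebraMap.mp h2)
  · have hu : IsUnit ((f : O) ^ n) :=
      (IsLocalization.Away.algebraMap_isUnit (S := O) f).pow n
    obtain ⟨v, hv⟩ := hu.exists_left_inv
    have hmem : IsLocalRing.residue O (a.1 * v) = 0 := by
      rw [map_mul, show IsLocalRing.residue O a.1 = 0 from ha, zero_mul]
    refine Ideal.mem_span_singleton.mpr ⟨⟨a.1 * v, ?_⟩, ?_⟩
    · show IsLocalRing.residue O (a.1 * v) ∈ R.toSubring
      rw [hmem]; exact zero_mem _
    · ext
      show a.1 = (f : O) ^ n * (a.1 * v)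
      linear_combination (-a.1) * hv
  · by_cases ha : res a = 0
    · exact ⟨0, Or.inr (by simpa [RingHom.mem_ker] using ha)⟩
    by_cases hb : res b = 0
    · exact ⟨0, Or.inl (by simpa [RingHom.mem_ker] using hb)⟩
    rcases R.mem_or_inv_mem (res b / res a) with h | h
    · obtain ⟨c, hc⟩ := IsLocalRing.residue_surjective (R := O) (res b / res a)
      refine ⟨⟨c, show _ ∈ R.toSubring from hc ▸ h⟩, Or.inl ?_⟩
      rw [RingHom.mem_ker, map_sub, map_mul, show res ⟨c, _⟩ = res b / res a from hc,
        mul_div_cancel₀ _ ha, sub_self]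
    · rw [inv_div] at h
      obtain ⟨c, hc⟩ := IsLocalRing.residue_surjective (R := O) (res a / res b)
      refine ⟨⟨c, show _ ∈ R.toSubring from hc ▸ h⟩, Or.inr ?_⟩
      rw [RingHom.mem_ker, map_sub, map_mul, show res ⟨c, _⟩ = res a / res b from hc,
        mul_div_cancel₀ _ hb, sub_self]

end Groth.Agent.S18753
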