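import Groth.Statements.S18754
import Groth.Agent.ModPairs.Basic
import Groth.Agent.Limits.DescentStage
-- import your own Groth.Agent.* helpers here

set_option autoImplicit false
universe u
open CategoryTheory CategoryTheory.Limits AlgebraicGeometry TopologicalSpace
open ModPair

namespace Groth.Agent.S18754

/-- Let (Y, I_Y) be a modulus pair with Y quasi-compact and quasi-separated, and let (X_i ⟶ Y) be a
cofiltered system of Y-schemes with affine transition morphisms such that every X_i is quasi-compact
and quasi-separated, the pulled-back ideal I_Y.comap (X_i ⟶ Y) is the ideal of an effective Cartier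
divisor, and X_i ⟶ Y is an abstract admissible blow-up of modulus pairs which is locally of finite
presentation. Let X be the limit of the system over Y and suppose that X ⟶ Y, with the pulled-back
modulus (assumed effective Cartier), is also an abstract admissible blow-up. Then X ⟶ Y is locally
of finite presentation: an abstract admissible blow-up of quasi-compact quasi-separated modulus
pairs which is not of finite presentation is never a limit of finitely presented ones. -/
theorem result {Y : Scheme.{u}}
    [CompactSpace Y] [QuasiSeparatedSpace Y] (IY : Y.IdealSheafData) (hY : BlowUp.IsEffCartierIdeal IY)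
    {I : Type u} [SmallCategory I] [IsCofiltered I] (D : I ⥤ Over Y) (c : Cone D) (hc : IsLimit c)
    [∀ (i j : I) (t : i ⟶ j), IsAffineHom (D.map t).left]
    [∀ i, CompactSpace (D.obj i).left] [∀ i, QuasiSeparatedSpace (D.obj i).left]
    (hI : ∀ i, BlowUp.IsEffCartierIdeal (IY.comap (D.obj i).hom))
    (hadm : ∀ i, ModPair.IsAdmBlowup (IY.comap (D.obj i).hom) IY (D.obj i).hom)
    [∀ i, LocallyOfFinitePresentation (D.obj i).hom]
    (hX : BlowUp.IsEffCartierIdeal (IY.comap c.pt.hom))
    (hXadm : ModPair.IsAdmBlowup (IY.comap c.pt.hom) IY c.pt.hom) :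
    LocallyOfFinitePresentation c.pt.hom := by

  let D' := D ⋙ Over.forget Y
  let c' := (Over.forget Y).mapCone c
  let hc' : IsLimit c' := isLimitOfPreserves _ hc
  have : ∀ (i j : I) (t : i ⟶ j), IsAffineHom (D'.map t) := fun i j t =>
    inferInstanceAs (IsAffineHom (D.map t).left)
  have : ∀ i, CompactSpace (D'.obj i) := fun i => inferInstanceAs (CompactSpace (D.obj i).left)
  have := hXadm.2.1
  have hlft : ∀ i, LocallyOfFiniteType (𝟙 c'.pt ≫ c'.π.app i) := fun i => by
    have : LocallyOfFiniteType ((c.π.app i).left ≫ (D.obj i).hom) := by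
      rw [Over.w]; exact inferInstanceAs (LocallyOfFiniteType c.pt.hom)
    rw [Category.id_comp]
    exact locallyOfFiniteType_of_comp (c.π.app i).left (D.obj i).hom
  obtain ⟨i, hi⟩ := Groth.Limits.exists_isClosedImmersion_comp_π hc' (𝟙 _) inferInstance hlft
  rw [Category.id_comp] at hi
  have : IsClosedImmersion (c.π.app i).left := hi
  have h1 := hXadm.2.2
  have h2 := (hadm i).2.2
  set U := ModPair.interior IY
  set π := (c.π.app i).left
  have h3 : IsIso ((π ≫ (D.obj i).hom) ∣_ U) := by rw [Over.w]; exact h1
  rw [morphismRestrict_comp] at h3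
  have : IsIso (π ∣_ ((D.obj i).hom ⁻¹ᵁ U) ≫ (D.obj i).hom ∣_ U) := h3
  have h4 : IsIso (π ∣_ ((D.obj i).hom ⁻¹ᵁ U)) := IsIso.of_isIso_comp_right _ ((D.obj i).hom ∣_ U)
  have hdom : IsSchemeTheoreticallyDominant ((D.obj i).hom ⁻¹ᵁ U).ι := by
    have := Groth.ModPairs.dominant_interior (hI i)
    rwa [Groth.ModPairs.interior_comap] at this
  have hiso : IsIso π := by
    refine IsClosedImmersion.isIso_iff_ker_eq_bot.mpr (eq_bot_iff.mpr ?_)
    rw [← hdom.ker_eq_bot, ← IsIso.inv_hom_id_assoc (π ∣_ ((D.obj i).hom ⁻¹ᵁ U))
      ((D.obj i).hom ⁻¹ᵁ U).ι, morphismRestrict_ι, ← Category.assoc]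
    exact Scheme.Hom.le_ker_comp _ _
  have : LocallyOfFinitePresentation (π ≫ (D.obj i).hom) := inferInstance
  rwa [Over.w] at this

end Groth.Agent.S18754
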