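import Groth.Statements.S18755
import Groth.Agent.ModPairs.Prod
-- import your own Groth.Agent.* helpers here

set_option autoImplicit false
universe u
open CategoryTheory CategoryTheory.Limits AlgebraicGeometry TopologicalSpace
open ModPair

namespace Groth.Agent.S18755

/-- Let (S₀, I₀), (S₁, I₁), (T, J), (X, I) be schemes with quasi-coherent ideal sheaves of effective
Cartier divisors, f : X ⟶ S₁, g : T ⟶ S₁ and σ : S₁ ⟶ S₀ morphisms satisfying the modulus condition,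
and let (Y₁, K₁) with π₁ and (Y₀, K₀) with π₀ be ambient products of (X, I) and (T, J) over S₁ and
over S₀ (the latter for f ≫ σ and g ≫ σ): blow-ups of the scheme-theoretic image of the product of
the interiors inside X ×_{S₁} T, resp. X ×_{S₀} T, in the intersection of the pulled-back moduli,
with K·E = D_X·D_T. Then the ambient product is functorial in the base: there is a unique morphism φ
: Y₁ ⟶ Y₀ compatible with the maps to X ×_{S₀} T (through the canonical X ×_{S₁} T ⟶ X ×_{S₀} T),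
and every such φ is minimal, K₁ = K₀.comap φ. -/
theorem result {S₀ S₁ T X Y₁ Y₀ : Scheme.{u}} (I₀ : S₀.IdealSheafData)
    (I₁ : S₁.IdealSheafData) (J : T.IdealSheafData) (I : X.IdealSheafData)
    (h₀ : BlowUp.IsEffCartierIdeal I₀) (h₁ : BlowUp.IsEffCartierIdeal I₁)
    (hT : BlowUp.IsEffCartierIdeal J) (hX : BlowUp.IsEffCartierIdeal I)
    (f : X ⟶ S₁) (hf : ModPair.IsAmbient I I₁ f) (g : T ⟶ S₁) (hg : ModPair.IsAmbient J I₁ g)
    (σ : S₁ ⟶ S₀) (hσ : ModPair.IsAmbient I₁ I₀ σ)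
    (π₁ : Y₁ ⟶ ModPair.mprod f g I J) (K₁ : Y₁.IdealSheafData) (hY₁ : ModPair.IsAmbProd f g I J π₁ K₁)
    (π₀ : Y₀ ⟶ ModPair.mprod (f ≫ σ) (g ≫ σ) I J) (K₀ : Y₀.IdealSheafData)
    (hY₀ : ModPair.IsAmbProd (f ≫ σ) (g ≫ σ) I J π₀ K₀) :
    (∃! φ : Y₁ ⟶ Y₀, φ ≫ π₀ ≫ ModPair.mprodι (f ≫ σ) (g ≫ σ) I J =
        π₁ ≫ ModPair.mprodι f g I J ≫ pullback.mapDesc f g σ) ∧
      ∀ φ : Y₁ ⟶ Y₀, φ ≫ π₀ ≫ ModPair.mprodι (f ≫ σ) (g ≫ σ) I J =
          π₁ ≫ ModPair.mprodι f g I J ≫ pullback.mapDesc f g σ →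
        ModPair.IsMinimal K₁ K₀ φ := by
  obtain ⟨hK₁, ha₁, hb₁, -⟩ := Groth.ModPairs.ambProd_props hX hT hY₁
  obtain ⟨L₁, L₂, -, -, hco, e₁, e₂, hK₁e⟩ := Groth.ModPairs.ambProd_split hX hT hY₁
  obtain ⟨M₁, M₂, -, -, -, d₁, d₂, hK₀e⟩ := Groth.ModPairs.ambProd_split hX hT hY₀
  have hcond : (π₁ ≫ ModPair.mprodι f g I J ≫ pullback.fst f g) ≫ (f ≫ σ) =
      (π₁ ≫ ModPair.mprodι f g I J ≫ pullback.snd f g) ≫ (g ≫ σ) := by
    simp only [Category.assoc, pullback.condition_assoc]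
  have hlift : pullback.lift _ _ hcond = π₁ ≫ ModPair.mprodι f g I J ≫ pullback.mapDesc f g σ := by
    apply pullback.hom_ext
    · erw [pullback.lift_fst, Category.assoc, Category.assoc, pullback.lift_fst, Category.comp_id]
    · erw [pullback.lift_snd, Category.assoc, Category.assoc, pullback.lift_snd, Category.comp_id]
  have hC : BlowUp.IsEffCartierIdeal (I.comap (π₁ ≫ ModPair.mprodι f g I J ≫ pullback.fst f g) ⊔
      J.comap (π₁ ≫ ModPair.mprodι f g I J ≫ pullback.snd f g)) := by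
    rw [Scheme.IdealSheafData.comap_comp I π₁, Scheme.IdealSheafData.comap_comp J π₁,
      ← Scheme.IdealSheafData.comap_sup]
    exact hY₁.1.1
  obtain ⟨φ, hφK, hφ₁, hφ₂⟩ := Groth.ModPairs.ambProd_lift hX hT hY₀ hK₁ _ _ ha₁ hb₁ hcond hC
  have key : φ ≫ π₀ ≫ ModPair.mprodι (f ≫ σ) (g ≫ σ) I J =
      π₁ ≫ ModPair.mprodι f g I J ≫ pullback.mapDesc f g σ := by
    rw [← hlift]
    apply pullback.hom_ext
    · rw [pullback.lift_fst, Category.assoc, Category.assoc, hφ₁]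
    · rw [pullback.lift_snd, Category.assoc, Category.assoc, hφ₂]
  have huniq : ∀ ψ : Y₁ ⟶ Y₀, ψ ≫ π₀ ≫ ModPair.mprodι (f ≫ σ) (g ≫ σ) I J =
      π₁ ≫ ModPair.mprodι f g I J ≫ pullback.mapDesc f g σ → ψ = φ := by
    intro ψ hψ
    rw [← hlift] at hψ
    refine (Groth.ModPairs.ambProd_hom_ext hX hT hY₀ hK₁ hφK ?_ ?_).symm
    · rw [hφ₁]
      have := congrArg (· ≫ pullback.fst (f ≫ σ) (g ≫ σ)) hψ
      simp only [Category.assoc] at this
      rw [this, pullback.lift_fst]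
    · rw [hφ₂]
      have := congrArg (· ≫ pullback.snd (f ≫ σ) (g ≫ σ)) hψ
      simp only [Category.assoc] at this
      rw [this, pullback.lift_snd]
  refine ⟨⟨φ, key, huniq⟩, fun ψ hψ => ?_⟩
  rw [huniq ψ hψ]
  have c₁ := congrArg (fun A => Scheme.IdealSheafData.comap A φ) d₁
  have c₂ := congrArg (fun A => Scheme.IdealSheafData.comap A φ) d₂
  simp only [← Scheme.IdealSheafData.comap_comp, hφ₁] at c₁
  simp only [← Scheme.IdealSheafData.comap_comp, hφ₂] at c₂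
  have hE : ((ModPair.prodCentre (f ≫ σ) (g ≫ σ) I J).comap π₀).comap φ =
      (ModPair.prodCentre f g I J).comap π₁ := by
    simp only [ModPair.prodCentre, Scheme.IdealSheafData.comap_sup, ← Scheme.IdealSheafData.comap_comp, hφ₁, hφ₂]
  rw [Groth.Divisors.comap_mul, hE] at c₁ c₂
  show K₁ = _
  rw [hK₁e, hK₀e, Groth.Divisors.comap_mul, Groth.Divisors.comap_mul, hE,
    Groth.ModPairs.mul_cancel hY₁.1.1 (e₁.symm.trans c₁), Groth.ModPairs.mul_cancel hY₁.1.1 (e₂.symm.trans c₂)]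

end Groth.Agent.S18755
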