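import Groth.Statements.S18757
import Groth.Agent.ModPairs.Faithful
import Groth.Agent.ModPairs.BaseChangeSystem
import Groth.Agent.ModPairs.PairLimit
import Groth.Agent.S18746
import Groth.Agent.S18745
-- import your own Groth.Agent.* helpers here

set_option autoImplicit false
universe u
open CategoryTheory CategoryTheory.Limits AlgebraicGeometry TopologicalSpace
open ModPair

namespace Groth.Agent.S18757

section Helpers

set_option backward.isDefEq.respectTransparency false in
theorem exists_descend (S : ModPair.Pair.{u}) [CompactSpace S.total] [QuasiSeparatedSpace S.total]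
    {I : Type u} [SmallCategory I] [IsCofiltered I] (D : I ⥤ Over S) (c : Cone D)
    (hl : IsLimit (Groth.ModPairs.totalCone D c))
    (hIX : ∀ i, c.pt.left.mod = (D.obj i).left.mod.comap (c.π.app i).left.hom)
    [∀ (i j : I) (t : i ⟶ j), IsAffineHom (D.map t).left.hom]
    (hmin : ∀ (i j : I) (t : i ⟶ j),
      ModPair.IsMinimal (D.obj i).left.mod (D.obj j).left.mod (D.map t).left.hom)
    [∀ i, CompactSpace (D.obj i).left.total] [∀ i, QuasiSeparatedSpace (D.obj i).left.total]
    (Y : Over S) [CompactSpace Y.left.total] [QuasiSeparatedSpace Y.left.total]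
    [LocallyOfFiniteType Y.hom.hom]
    (h : (∀ (i j : I) (t : i ⟶ j), IsSchemeTheoreticallyDominant (D.map t).left.hom) ∨
      LocallyOfFinitePresentation Y.hom.hom)
    {P : ModPair.Pair.{u}} (r : P ⟶ c.pt.left) (hr : ModPair.Pair.admBlowup r) (f : P ⟶ Y.left)
    (hf : f ≫ Y.hom = r ≫ c.pt.hom) :
    ∃ (i : I) (Pi : ModPair.Pair.{u}) (sp : Pi ⟶ (D.obj i).left) (g : Pi ⟶ Y.left) (π' : P ⟶ Pi),
      ModPair.Pair.admBlowup sp ∧ g ≫ Y.hom = sp ≫ (D.obj i).hom ∧
        π' ≫ sp = r ≫ (c.π.app i).left ∧ π' ≫ g = f := by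
  let T := Groth.ModPairs.totalFunctor D
  let c' := Groth.ModPairs.totalCone D c
  let J : ∀ i, (T.obj i).IdealSheafData := fun i => (D.obj i).left.mod
  have haff : ∀ (i j : I) (t : i ⟶ j), IsAffineHom (T.map t) := fun i j t =>
    inferInstanceAs (IsAffineHom (D.map t).left.hom)
  have hcs : ∀ i, CompactSpace (T.obj i) := fun i => inferInstanceAs (CompactSpace (D.obj i).left.total)
  have hqs : ∀ i, QuasiSeparatedSpace (T.obj i) := fun i =>
    inferInstanceAs (QuasiSeparatedSpace (D.obj i).left.total)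
  let IX : c'.pt.IdealSheafData := c.pt.left.mod
  let r0 : P.total ⟶ c'.pt := r.hom
  have hminr : P.mod = IX.comap r0 := hr.1
  have hY0 : BlowUp.IsEffCartierIdeal (IX.comap r0) := hminr ▸ P.isEffCartier
  have hadm : ModPair.IsAdmBlowup (IX.comap r0) IX r0 := hminr ▸ hr
  obtain ⟨i, Yi, IYi, si, hYi, hsi, e, he⟩ := Groth.Agent.S18746.result T c' hl J
    (fun i => (D.obj i).left.isEffCartier) hmin IX hIX r0 hY0 hadm
  let B : Groth.ModPairs.BlowUpStage.{u} I :=
    { T := T, affine := haff, J := J, hJ := fun i => (D.obj i).left.isEffCartier, hmin := hmin,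
      i := i, Y := Yi, K := IYi, hK := hYi, s := si, hs := hsi }
  let q' : P.total ⟶ B.Y :=
    e.hom ≫ ModPair.mprodι (c'.π.app i) si IX IYi ≫ Limits.pullback.snd (c'.π.app i) si
  have w : q' ≫ B.s = r0 ≫ c'.π.app B.i := by
    simp only [q', B, Category.assoc]
    rw [← Limits.pullback.condition, ← he]
    simp only [Category.assoc]
  have hmono : Mono (Limits.pullback.lift q' r0 w) := by
    have e' : Limits.pullback.lift q' r0 w =
        e.hom ≫ ModPair.mprodι (c'.π.app i) si IX IYi ≫ (Limits.pullbackSymmetry (c'.π.app i) si).hom := by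
      apply Limits.pullback.hom_ext
      · rw [Limits.pullback.lift_fst, Category.assoc, Category.assoc, Limits.pullbackSymmetry_hom_comp_fst]
      · rw [Limits.pullback.lift_snd, Category.assoc, Category.assoc, Limits.pullbackSymmetry_hom_comp_snd]
        exact he.symm
    rw [e']; infer_instance
  have : IsProper r0 := hr.2.1
  have : IsIso (r0 ∣_ ModPair.interior IX) := hr.2.2
  obtain ⟨hlim⟩ := B.nonempty_isLimit_cone c' hl IX hIX r0 hY0 q' w hmono
  let cc := B.cone c' IX hIX r0 hY0 q' w
  -- the system over the total space of the base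
  have hstr : ∀ {a b : Over B.i} (t : a ⟶ b),
      B.map t ≫ B.p b ≫ (D.obj b.left).hom.hom = B.p a ≫ (D.obj a.left).hom.hom := fun {a b} t => by
    rw [← Category.assoc, B.map_p, Category.assoc]
    exact congrArg (fun x => B.p a ≫ x) (congrArg ModPair.Pair.Hom.hom (Over.w (D.map t.left)))
  let D' : Over B.i ⥤ Over S.total :=
    { obj := fun a => Over.mk (B.p a ≫ (D.obj a.left).hom.hom)
      map := fun {a b} t => Over.homMk (B.map t) (hstr t)
      map_id := fun a => Over.OverMorphism.ext (B.map_id' a)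
      map_comp := fun t t' => Over.OverMorphism.ext (B.map_comp' t t') }
  have hrs : ∀ a : Over B.i, cc.π.app a ≫ B.p a ≫ (D.obj a.left).hom.hom = r.hom ≫ c.pt.hom.hom := fun a => by
    rw [← Category.assoc, B.cone_p, Category.assoc]
    exact congrArg (fun x => r.hom ≫ x) (congrArg ModPair.Pair.Hom.hom (Over.w (c.π.app a.left)))
  let cD : Cone D' :=
    { pt := Over.mk (r.hom ≫ c.pt.hom.hom)
      π :=
      { app := fun a => Over.homMk (cc.π.app a) (hrs a)
        naturality := fun a b t => Over.OverMorphism.ext (cc.π.naturality t) } }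
  have : IsConnected (Over B.i) := IsCofiltered.isConnected _
  have hcD : IsLimit cD := isLimitOfReflects (Over.forget S.total) hlim
  have : ∀ (a b : Over B.i) (t : a ⟶ b), IsAffineHom (D'.map t).left := fun a b t => B.isAffineHom_map t
  have : ∀ a, CompactSpace (D'.obj a).left := fun a => by
    have : CompactSpace (B.T.obj a.left) := hcs a.left
    exact B.compactSpace_Z a
  have : ∀ a, QuasiSeparatedSpace (D'.obj a).left := fun a => by
    have : QuasiSeparatedSpace (B.T.obj a.left) := hqs a.left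
    exact B.quasiSeparatedSpace_Z a
  let Y' : Over S.total := Over.mk Y.hom.hom
  have : CompactSpace Y'.left := inferInstanceAs (CompactSpace Y.left.total)
  have : QuasiSeparatedSpace Y'.left := inferInstanceAs (QuasiSeparatedSpace Y.left.total)
  have : LocallyOfFiniteType Y'.hom := inferInstanceAs (LocallyOfFiniteType Y.hom.hom)
  have h' : (∀ (a b : Over B.i) (t : a ⟶ b), IsSchemeTheoreticallyDominant (D'.map t).left) ∨
      LocallyOfFinitePresentation Y'.hom := h.imp
    (fun hd a b t => by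
      have : IsSchemeTheoreticallyDominant (B.T.map t.left) := hd _ _ t.left
      exact B.dominant t) id
  let φ : cD.pt ⟶ Y' := Over.homMk f.hom (congrArg ModPair.Pair.Hom.hom hf)
  have hccM : ∀ a, IX.comap r0 = (B.M a).comap (cc.π.app a) := fun a => by
    rw [← Scheme.IdealSheafData.comap_comp, B.cone_p, Scheme.IdealSheafData.comap_comp]
    exact congrArg (fun x => Scheme.IdealSheafData.comap x r0) (hIX a.left)
  obtain ⟨a, φa, hamb, hφa⟩ := Groth.Agent.S18745.result D' cD hcD B.M B.isEffCartier_M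
    (fun a b t => B.minimal t) (IX.comap r0) hccM Y' Y.left.mod Y.left.isEffCartier h' φ (by
      show IX.comap r0 ≤ _
      rw [← hminr]; exact f.cond)
  let Pi : ModPair.Pair.{u} := ⟨B.Z a, B.M a, B.isEffCartier_M a⟩
  refine ⟨a.left, Pi, ⟨B.p a, le_rfl⟩, ⟨φa.left, hamb⟩, ⟨cc.π.app a, (hminr.trans (hccM a)).le⟩,
    B.adm a, ?_, ?_, ?_⟩
  · exact ModPair.Pair.Hom.ext (Over.w φa)
  · exact ModPair.Pair.Hom.ext (B.cone_p c' IX hIX r0 hY0 q' w a)
  · exact ModPair.Pair.Hom.ext (congrArg CommaMorphism.left hφa)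

set_option backward.isDefEq.respectTransparency false in
theorem exists_equalize (S : ModPair.Pair.{u})
    {I : Type u} [SmallCategory I] [IsCofiltered I] (D : I ⥤ Over S) (c : Cone D)
    (hl : IsLimit (Groth.ModPairs.totalCone D c))
    (hIX : ∀ i, c.pt.left.mod = (D.obj i).left.mod.comap (c.π.app i).left.hom)
    [∀ (i j : I) (t : i ⟶ j), IsAffineHom (D.map t).left.hom]
    (hmin : ∀ (i j : I) (t : i ⟶ j),
      ModPair.IsMinimal (D.obj i).left.mod (D.obj j).left.mod (D.map t).left.hom)
    [∀ i, CompactSpace (D.obj i).left.total]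
    (Y : Over S) [LocallyOfFiniteType Y.hom.hom] (i : I)
    {P : ModPair.Pair.{u}} (r : P ⟶ (D.obj i).left) (hr : ModPair.Pair.admBlowup r)
    (f g : P ⟶ Y.left) (hf : f ≫ Y.hom = r ≫ (D.obj i).hom) (hg : g ≫ Y.hom = r ≫ (D.obj i).hom) :
    ∃ (P' : ModPair.Pair.{u}) (r' : P' ⟶ c.pt.left) (q : P' ⟶ P), ModPair.Pair.admBlowup r' ∧
      r' ≫ (c.π.app i).left = q ≫ r ∧ (q ≫ f = q ≫ g →
        ∃ (j : I) (t : j ⟶ i) (Pj : ModPair.Pair.{u}) (sp : Pj ⟶ (D.obj j).left) (qj : Pj ⟶ P),
          ModPair.Pair.admBlowup sp ∧ sp ≫ (D.map t).left = qj ≫ r ∧ qj ≫ f = qj ≫ g) := by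
  let T := Groth.ModPairs.totalFunctor D
  let c' := Groth.ModPairs.totalCone D c
  let J : ∀ i, (T.obj i).IdealSheafData := fun i => (D.obj i).left.mod
  have haff : ∀ (i j : I) (t : i ⟶ j), IsAffineHom (T.map t) := fun i j t =>
    inferInstanceAs (IsAffineHom (D.map t).left.hom)
  let B : Groth.ModPairs.BlowUpStage.{u} I :=
    { T := T, affine := haff, J := J, hJ := fun i => (D.obj i).left.isEffCartier, hmin := hmin,
      i := i, Y := P.total, K := P.mod, hK := P.isEffCartier, s := r.hom, hs := hr }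
  let IX : c'.pt.IdealSheafData := c.pt.left.mod
  let ι := ModPair.mprodι B.s (c'.π.app B.i) B.K IX
  let s' := ι ≫ Limits.pullback.snd B.s (c'.π.app B.i)
  let q' := ι ≫ Limits.pullback.fst B.s (c'.π.app B.i)
  have hbc := Groth.ModPairs.isAdmBlowup_base_change (f := B.s) (g := c'.π.app B.i) (J := IX)
    c.pt.left.isEffCartier P.isEffCartier (hIX i).le hr
  have hX' : BlowUp.IsEffCartierIdeal (IX.comap s') :=
    Groth.ModPairs.isEffCartierIdeal_comap_snd P.isEffCartier c.pt.left.isEffCartier
  have w : q' ≫ B.s = s' ≫ c'.π.app B.i := by simp only [q', s', Category.assoc, Limits.pullback.condition]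
  have hmono : Mono (Limits.pullback.lift q' s' w) := by
    have e : Limits.pullback.lift q' s' w = ι := by
      apply Limits.pullback.hom_ext
      · rw [Limits.pullback.lift_fst]
      · rw [Limits.pullback.lift_snd]
    rw [e]; infer_instance
  let P' : ModPair.Pair.{u} := ⟨_, IX.comap s', hX'⟩
  refine ⟨P', ⟨s', le_rfl⟩, ⟨q', hbc.2⟩, hbc.1, ModPair.Pair.Hom.ext w.symm, fun heq => ?_⟩
  have : IsProper s' := hbc.1.2.1
  have : IsIso (s' ∣_ ModPair.interior IX) := hbc.1.2.2
  obtain ⟨hlim⟩ := B.nonempty_isLimit_cone c' hl IX hIX s' hX' q' w hmono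
  let cc := B.cone c' IX hIX s' hX' q' w
  let ts : B.functor ⟶ (Functor.const (Over B.i)).obj S.total :=
    { app := fun a => B.p a ≫ (D.obj a.left).hom.hom
      naturality := fun a b t => by
        show B.map t ≫ B.p b ≫ _ = (B.p a ≫ _) ≫ 𝟙 _
        rw [Category.comp_id, ← Category.assoc, B.map_p, Category.assoc]
        exact congrArg (fun x => B.p a ≫ x) (congrArg ModPair.Pair.Hom.hom (Over.w (D.map t.left))) }
  have : ∀ {a b : Over B.i} (t : a ⟶ b), IsAffineHom (B.functor.map t) := fun t => B.isAffineHom_map t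
  have : ∀ a, CompactSpace (B.functor.obj a) := fun a => by
    have : CompactSpace (B.T.obj a.left) := inferInstanceAs (CompactSpace (D.obj a.left).left.total)
    exact B.compactSpace_Z a
  let a₀ : Over B.i := Over.mk (𝟙 B.i)
  have hover : ∀ (u : P ⟶ Y.left), u ≫ Y.hom = r ≫ (D.obj i).hom →
      ts.app a₀ = (B.q a₀ ≫ u.hom) ≫ Y.hom.hom := fun u hu => by
    show B.p a₀ ≫ _ = _
    rw [Category.assoc, show u.hom ≫ Y.hom.hom = r.hom ≫ (D.obj i).hom.hom from
      congrArg ModPair.Pair.Hom.hom hu, ← Category.assoc]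
    show _ = (B.q a₀ ≫ B.s) ≫ _
    rw [B.q_s]
    simp [a₀, B]
  obtain ⟨k, u, hu⟩ := Scheme.exists_hom_comp_eq_comp_of_locallyOfFiniteType B.functor ts Y.hom.hom
    cc hlim (i := a₀) (B.q a₀ ≫ f.hom) (B.q a₀ ≫ g.hom) (hover f hf) (hover g hg) (by
      rw [← Category.assoc, ← Category.assoc, B.cone_q]
      exact congrArg ModPair.Pair.Hom.hom heq)
  let Pj : ModPair.Pair.{u} := ⟨B.Z k, B.M k, B.isEffCartier_M k⟩
  refine ⟨k.left, k.hom, Pj, ⟨B.p k, le_rfl⟩, ⟨B.q k, B.ambient_q k⟩, B.adm k,
    ModPair.Pair.Hom.ext (B.q_s k).symm, ModPair.Pair.Hom.ext ?_⟩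
  have hu' : B.map u ≫ B.q a₀ ≫ f.hom = B.map u ≫ B.q a₀ ≫ g.hom := hu
  show B.q k ≫ f.hom = B.q k ≫ g.hom
  rwa [← B.map_q u, Category.assoc, Category.assoc]

end Helpers

/-- Let S be a modulus pair whose total space is quasi-compact and quasi-separated, (X_i ⟶ S) a
cofiltered system of modulus pairs over S whose transition morphisms have affine, minimal underlying
morphisms, with every X_i quasi-compact and quasi-separated, and X ⟶ S a limit of the system in the
category of modulus pairs over S, X quasi-compact and quasi-separated. Let Y ⟶ S be a modulus pair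
over S whose structure morphism is locally of finite type, Y quasi-compact and quasi-separated, and
assume either that all transition morphisms are scheme-theoretically dominant or that Y ⟶ S is
locally of finite presentation. Let Q be the localization functor at the abstract admissible
blow-ups. Then the colimit of the sets of morphisms Q X_i ⟶ Q Y over Q S maps bijectively to the
morphisms Q X ⟶ Q Y over Q S: every such morphism factors through Q X ⟶ Q X_i for some i, and two
morphisms Q X_i ⟶ Q Y over Q S with the same composite Q X ⟶ Q Y agree after Q X_j ⟶ Q X_i for some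
j. -/
theorem result (S : ModPair.Pair.{u})
    [CompactSpace S.total] [QuasiSeparatedSpace S.total]
    {I : Type u} [SmallCategory I] [IsCofiltered I] (D : I ⥤ Over S) (c : Cone D) (hc : IsLimit c)
    [∀ (i j : I) (t : i ⟶ j), IsAffineHom (D.map t).left.hom]
    (hmin : ∀ (i j : I) (t : i ⟶ j),
      ModPair.IsMinimal (D.obj i).left.mod (D.obj j).left.mod (D.map t).left.hom)
    [∀ i, CompactSpace (D.obj i).left.total] [∀ i, QuasiSeparatedSpace (D.obj i).left.total]
    [CompactSpace c.pt.left.total] [QuasiSeparatedSpace c.pt.left.total]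
    (Y : Over S) [CompactSpace Y.left.total] [QuasiSeparatedSpace Y.left.total]
    [LocallyOfFiniteType Y.hom.hom]
    (h : (∀ (i j : I) (t : i ⟶ j), IsSchemeTheoreticallyDominant (D.map t).left.hom) ∨
      LocallyOfFinitePresentation Y.hom.hom) :
    (∀ φ : (ModPair.Pair.admBlowup.{u}).Q.obj c.pt.left ⟶ (ModPair.Pair.admBlowup.{u}).Q.obj Y.left,
        φ ≫ (ModPair.Pair.admBlowup.{u}).Q.map Y.hom = (ModPair.Pair.admBlowup.{u}).Q.map c.pt.hom →
        ∃ (i : I) (φi : (ModPair.Pair.admBlowup.{u}).Q.obj (D.obj i).left ⟶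
            (ModPair.Pair.admBlowup.{u}).Q.obj Y.left),
          φi ≫ (ModPair.Pair.admBlowup.{u}).Q.map Y.hom = (ModPair.Pair.admBlowup.{u}).Q.map (D.obj i).hom ∧
            (ModPair.Pair.admBlowup.{u}).Q.map (c.π.app i).left ≫ φi = φ) ∧
      ∀ (i : I) (φ ψ : (ModPair.Pair.admBlowup.{u}).Q.obj (D.obj i).left ⟶
          (ModPair.Pair.admBlowup.{u}).Q.obj Y.left),
        φ ≫ (ModPair.Pair.admBlowup.{u}).Q.map Y.hom = (ModPair.Pair.admBlowup.{u}).Q.map (D.obj i).hom →
        ψ ≫ (ModPair.Pair.admBlowup.{u}).Q.map Y.hom = (ModPair.Pair.admBlowup.{u}).Q.map (D.obj i).hom →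
        (ModPair.Pair.admBlowup.{u}).Q.map (c.π.app i).left ≫ φ =
            (ModPair.Pair.admBlowup.{u}).Q.map (c.π.app i).left ≫ ψ →
          ∃ (j : I) (t : j ⟶ i), (ModPair.Pair.admBlowup.{u}).Q.map (D.map t).left ≫ φ =
            (ModPair.Pair.admBlowup.{u}).Q.map (D.map t).left ≫ ψ := by

  obtain ⟨⟨hl⟩, hIX⟩ := Groth.ModPairs.totalCone_isLimit D c hc hmin
  let L := (ModPair.Pair.admBlowup.{u}).Q
  refine ⟨fun φ hφ => ?_, fun i φ ψ hφ hψ he => ?_⟩
  · obtain ⟨P, r, f, hr, hf⟩ := Groth.ModPairs.exists_fraction L φ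
    have hfS : f ≫ Y.hom = r ≫ c.pt.hom := Groth.ModPairs.map_injective L (by
      rw [Functor.map_comp, ← hf, Category.assoc, hφ, Functor.map_comp])
    obtain ⟨i, Pi, sp, g, π', hsp, hg, hπ', hπg⟩ :=
      exists_descend S D c hl hIX hmin Y h r hr f hfS
    have := Groth.ModPairs.isIso_map L hsp
    refine ⟨i, inv (L.map sp) ≫ L.map g, ?_, ?_⟩
    · rw [Category.assoc, ← Functor.map_comp, hg, Functor.map_comp, IsIso.inv_hom_id_assoc]
    · refine Groth.ModPairs.cancel_map L hr ?_
      rw [← Functor.map_comp_assoc, ← hπ', Functor.map_comp, Category.assoc,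
        IsIso.hom_inv_id_assoc, ← Functor.map_comp, hπg, hf]
  · obtain ⟨P, r, f, g, hr, hf, hg⟩ := Groth.ModPairs.exists_fraction₂ L φ ψ
    have hfS : f ≫ Y.hom = r ≫ (D.obj i).hom := Groth.ModPairs.map_injective L (by
      rw [Functor.map_comp, ← hf, Category.assoc, hφ, Functor.map_comp])
    have hgS : g ≫ Y.hom = r ≫ (D.obj i).hom := Groth.ModPairs.map_injective L (by
      rw [Functor.map_comp, ← hg, Category.assoc, hψ, Functor.map_comp])
    obtain ⟨P', r', q, hr', hq, key⟩ := exists_equalize S D c hl hIX hmin Y i r hr f g hfS hgS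
    have hqfg : q ≫ f = q ≫ g := Groth.ModPairs.map_injective L (by
      rw [Functor.map_comp, Functor.map_comp, ← hf, ← hg, ← Functor.map_comp_assoc,
        ← Functor.map_comp_assoc, ← hq, Functor.map_comp, Category.assoc, Category.assoc, he])
    obtain ⟨j, t, Pj, sp, qj, hsp, hqj, hfg⟩ := key hqfg
    refine ⟨j, t, Groth.ModPairs.cancel_map L hsp ?_⟩
    rw [← Functor.map_comp_assoc, ← Functor.map_comp_assoc, hqj, Functor.map_comp, Category.assoc,
      Category.assoc, hf, hg, ← Functor.map_comp, ← Functor.map_comp, hfg]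

end Groth.Agent.S18757
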