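import Groth.Statements.S18758
import Groth.Agent.S18738
import Groth.Agent.ModPairs.Cat
-- import your own Groth.Agent.* helpers here

set_option autoImplicit false
universe v₂ u₂
universe w v u
open CategoryTheory CategoryTheory.Limits AlgebraicGeometry TopologicalSpace
open ModPair

namespace Groth.Agent.S18758

section Helpers

open ModPair

abbrev ftProp (S : ModPair.Pair.{u}) : ObjectProperty (Over S) :=
  fun X : Over S => LocallyOfFiniteType X.hom.hom ∧ QuasiCompact X.hom.hom

theorem ft_comp {S : ModPair.Pair.{u}} {X : Over S} (hX : ftProp S X) {Z : ModPair.Pair.{u}}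
    (t : Z ⟶ X.left) (ht : ModPair.Pair.admBlowup t) : ftProp S (Over.mk (t ≫ X.hom)) := by
  have : IsProper t.hom := ht.2.1
  have := hX.1
  have := hX.2
  exact ⟨inferInstanceAs (LocallyOfFiniteType (t.hom ≫ X.hom.hom)),
    inferInstanceAs (QuasiCompact (t.hom ≫ X.hom.hom))⟩

theorem fullFaithful (S : ModPair.Pair.{u}) {D : Type u₂} [Category.{v₂} D]
    (L : ModPair.Pair.{u} ⥤ D) [L.IsLocalization ModPair.Pair.admBlowup.{u}]
    {E : Type v} [Category.{w} E] (L' : (ftProp S).FullSubcategory ⥤ E)
    [hL' : L'.IsLocalization ((ModPair.Pair.admBlowup.{u}.inverseImage (Over.forget S)).inverseImage (ftProp S).ι)]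
    (Φ : E ⥤ Over (L.obj S)) (e : L' ⋙ Φ ≅ (ftProp S).ι ⋙ Over.post L) : Φ.Full ∧ Φ.Faithful := by
  let W := ModPair.Pair.admBlowup.{u}
  have : W.HasRightCalculusOfFractions := Groth.Agent.S18738.result
  let V := (W.inverseImage (Over.forget S)).inverseImage (ftProp S).ι
  have : V.HasRightCalculusOfFractions :=
    { id_mem := fun X => W.id_mem X.obj.left
      comp_mem := fun f g hf hg => W.comp_mem _ _ hf hg
      exists_rightFraction := fun X Y φ => by
        obtain ⟨ψ, hψ⟩ := MorphismProperty.LeftFraction.exists_rightFraction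
          (⟨φ.f.hom.left, φ.s.hom.left, φ.hs⟩ : W.LeftFraction X.obj.left Y.obj.left)
        refine ⟨⟨(ObjectProperty.homMk (Over.homMk ψ.s rfl) :
            (⟨Over.mk (ψ.s ≫ X.obj.hom), ft_comp X.property _ ψ.hs⟩ : (ftProp S).FullSubcategory) ⟶ X), ψ.hs,
          ObjectProperty.homMk (Over.homMk ψ.f (by
            have h1 := Over.w φ.s.hom
            have h2 := Over.w φ.f.hom
            show ψ.f ≫ Y.obj.hom = ψ.s ≫ X.obj.hom
            rw [← h1, ← reassoc_of% hψ, h2]))⟩, ObjectProperty.hom_ext _ (Over.OverMorphism.ext hψ)⟩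
      ext := fun X Y Y' f₁ f₂ s hs h => by
        obtain ⟨Z, t, ht, heq⟩ := MorphismProperty.HasRightCalculusOfFractions.ext (W := W)
          f₁.hom.left f₂.hom.left s.hom.left hs (congrArg (fun m => CommaMorphism.left m.hom) h)
        exact ⟨⟨Over.mk (t ≫ X.obj.hom), ft_comp X.property _ ht⟩, ObjectProperty.homMk (Over.homMk t rfl), ht,
          ObjectProperty.hom_ext _ (Over.OverMorphism.ext heq)⟩ }
  have hL'' : L'.IsLocalization V := hL'
  have := Localization.essSurj L' V
  have : L.IsLocalization W := ‹_›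
  have := Localization.essSurj L W
  have hmap : ∀ {X Y : (ftProp S).FullSubcategory} (h : X ⟶ Y),
      Φ.map (L'.map h) = e.hom.app X ≫ ((ftProp S).ι ⋙ Over.post L).map h ≫ e.inv.app Y := fun {X Y} h => by
    rw [← e.hom.naturality_assoc, Iso.hom_inv_id_app]; simp
  have hfaith : Φ.Faithful := by
    refine ⟨fun {A B} m m' hm => ?_⟩
    let eA := L'.objObjPreimageIso A
    let eB := L'.objObjPreimageIso B
    rw [← cancel_epi eA.hom, ← cancel_mono eB.inv, Category.assoc, Category.assoc]
    obtain ⟨φ, hφ⟩ := Localization.exists_rightFraction L' V (eA.hom ≫ m ≫ eB.inv)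
    obtain ⟨φ', hφ'⟩ := Localization.exists_rightFraction L' V (eA.hom ≫ m' ≫ eB.inv)
    obtain ⟨ψ, hψ⟩ := MorphismProperty.LeftFraction.exists_rightFraction
      (⟨φ'.s, φ.s, φ.hs⟩ : V.LeftFraction φ'.X' φ.X')
    have hc : L'.map (ψ.s ≫ φ'.s) ≫ (eA.hom ≫ m ≫ eB.inv) = L'.map (ψ.f ≫ φ.f) := by
      rw [hφ, show ψ.s ≫ φ'.s = ψ.f ≫ φ.s from hψ, Functor.map_comp, Category.assoc,
        MorphismProperty.RightFraction.map_s_comp_map, Functor.map_comp]
    have hd : L'.map (ψ.s ≫ φ'.s) ≫ (eA.hom ≫ m' ≫ eB.inv) = L'.map (ψ.s ≫ φ'.f) := by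
      rw [hφ', Functor.map_comp, Category.assoc, MorphismProperty.RightFraction.map_s_comp_map,
        Functor.map_comp]
    have h1 : Φ.map (L'.map (ψ.f ≫ φ.f)) = Φ.map (L'.map (ψ.s ≫ φ'.f)) := by
      rw [← hc, ← hd]; simp only [Functor.map_comp, hm]
    rw [hmap, hmap, cancel_epi, cancel_mono] at h1
    obtain ⟨Z, t, ht, heq⟩ := (MorphismProperty.map_eq_iff_precomp L W _ _).mp (congrArg CommaMorphism.left h1)
    have h2 : L'.map (ψ.f ≫ φ.f) = L'.map (ψ.s ≫ φ'.f) :=
      (MorphismProperty.map_eq_iff_precomp L' V _ _).mpr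
        ⟨⟨Over.mk (t ≫ ψ.X'.obj.hom), ft_comp ψ.X'.property _ ht⟩, ObjectProperty.homMk (Over.homMk t rfl), ht,
          ObjectProperty.hom_ext _ (Over.OverMorphism.ext heq)⟩
    have : IsIso (L'.map (ψ.s ≫ φ'.s)) := Localization.inverts L' V _ (V.comp_mem _ _ ψ.hs φ'.hs)
    rw [← cancel_epi (L'.map (ψ.s ≫ φ'.s)), hc, hd, h2]
  have hfull : Φ.Full := by
    refine ⟨fun {A B} k => ?_⟩
    let eA := L'.objObjPreimageIso A
    let eB := L'.objObjPreimageIso B
    let X := L'.objPreimage A
    let Y := L'.objPreimage B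
    let k' : ((ftProp S).ι ⋙ Over.post L).obj X ⟶ ((ftProp S).ι ⋙ Over.post L).obj Y :=
      e.inv.app X ≫ Φ.map eA.hom ≫ k ≫ Φ.map eB.inv ≫ e.hom.app Y
    let kl : L.obj X.obj.left ⟶ L.obj Y.obj.left := k'.left
    have hkw : kl ≫ L.map Y.obj.hom = L.map X.obj.hom := Over.w k'
    obtain ⟨φ, hφ⟩ := Localization.exists_rightFraction L W kl
    have hc : L.map φ.s ≫ kl = L.map φ.f := by
      rw [hφ, MorphismProperty.RightFraction.map_s_comp_map]
    have hw : L.map (φ.f ≫ Y.obj.hom) = L.map (φ.s ≫ X.obj.hom) := by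
      rw [Functor.map_comp, Functor.map_comp, ← hc, Category.assoc, hkw]
    obtain ⟨Z, t, ht, heq⟩ := (MorphismProperty.map_eq_iff_precomp L W _ _).mp hw
    let Z' : (ftProp S).FullSubcategory :=
      ⟨Over.mk ((t ≫ φ.s) ≫ X.obj.hom), ft_comp X.property _ (W.comp_mem _ _ ht φ.hs)⟩
    let r : Z' ⟶ X := ObjectProperty.homMk (Over.homMk (t ≫ φ.s) rfl)
    let c : Z' ⟶ Y := ObjectProperty.homMk (Over.homMk (t ≫ φ.f) (by
      show (t ≫ φ.f) ≫ Y.obj.hom = (t ≫ φ.s) ≫ X.obj.hom
      simp [heq]))
    have hr : IsIso (L'.map r) := Localization.inverts L' V r (W.comp_mem _ _ ht φ.hs)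
    have key : ((ftProp S).ι ⋙ Over.post L).map r ≫ k' = ((ftProp S).ι ⋙ Over.post L).map c := by
      refine Over.OverMorphism.ext ?_
      show L.map (t ≫ φ.s) ≫ kl = L.map (t ≫ φ.f)
      rw [Functor.map_comp, Category.assoc, hc]
      exact (L.map_comp t φ.f).symm
    have hk : k = Φ.map eA.inv ≫ e.hom.app X ≫ k' ≫ e.inv.app Y ≫ Φ.map eB.hom := by
      simp [k', ← Functor.map_comp]
    refine ⟨eA.inv ≫ inv (L'.map r) ≫ L'.map c ≫ eB.hom, ?_⟩
    rw [hk, Functor.map_comp, Functor.map_comp, Functor.map_comp, Functor.map_inv,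
      cancel_epi, IsIso.inv_comp_eq, hmap, hmap, ← key]
    simp only [Category.assoc]
    rw [Iso.inv_hom_id_app_assoc]
  exact ⟨hfull, hfaith⟩

end Helpers

/-- Let S be a modulus pair and PSch_S the full subcategory of the slice category of modulus pairs over
S on the objects whose structure morphism is of finite type (locally of finite type and
quasi-compact); let Σ_ft be the class of morphisms of PSch_S whose underlying morphism of modulus
pairs is an abstract admissible blow-up, and Q the localization functor of modulus pairs at all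
abstract admissible blow-ups. Then the canonical functor from the localization of PSch_S at Σ_ft to
the slice category over Q S is fully faithful, so that it identifies the localization with the full
subcategory MSch_S of objects isomorphic to finite type ones: for every localization functor L' of
PSch_S at Σ_ft and every functor Φ to the slice over Q S through which the inclusion followed by Q
on slices factors up to isomorphism, Φ is full and faithful. -/
theorem result (S : ModPair.Pair.{u})
    {E : Type v} [Category.{w} E]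
    (L' : (ObjectProperty.FullSubcategory
        ((fun X : Over S => LocallyOfFiniteType X.hom.hom ∧ QuasiCompact X.hom.hom) :
          ObjectProperty (Over S))) ⥤ E)
    [L'.IsLocalization ((((ModPair.Pair.admBlowup.{u}).inverseImage (Over.forget S)).inverseImage
      (ObjectProperty.ι ((fun X : Over S => LocallyOfFiniteType X.hom.hom ∧ QuasiCompact X.hom.hom) :
          ObjectProperty (Over S)))))]
    (Φ : E ⥤ Over ((ModPair.Pair.admBlowup.{u}).Q.obj S))
    (e : L' ⋙ Φ ≅ ObjectProperty.ι ((fun X : Over S => LocallyOfFiniteType X.hom.hom ∧ QuasiCompact X.hom.hom) :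
          ObjectProperty (Over S)) ⋙ Over.post (ModPair.Pair.admBlowup.{u}).Q) :
    Φ.Full ∧ Φ.Faithful := by
  exact fullFaithful S (ModPair.Pair.admBlowup.{u}).Q L' Φ e

end Groth.Agent.S18758
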