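import Groth.Statements.S18759
import Groth.Agent.ModPairs.Approx
import Groth.Agent.ModPairs.Basic
-- import your own Groth.Agent.* helpers here

set_option autoImplicit false
universe u
open CategoryTheory CategoryTheory.Limits AlgebraicGeometry TopologicalSpace
open ModPair

namespace Groth.Agent.S18759

section Helpers

open Groth.ModPairs in
theorem exists_system {X Y : Scheme.{u}} [CompactSpace X] [QuasiSeparatedSpace X] [CompactSpace Y]
    [QuasiSeparatedSpace Y] (IX : X.IdealSheafData) (IY : Y.IdealSheafData)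
    (hX : BlowUp.IsEffCartierIdeal IX) (hY : BlowUp.IsEffCartierIdeal IY) (f : X ⟶ Y)
    (hf : ModPair.IsAmbient IX IY f) [LocallyOfFiniteType f] :
    ∃ (R : Groth.Limits.RelSystem f) (i : R.Iᵒᵖ) (J : (R.D.obj i).left.IdealSheafData),
      (∀ (i j : R.Iᵒᵖ) (a : i ⟶ j), IsClosedImmersion (R.D.map a).left) ∧
      (∀ i, IsClosedImmersion (R.π.app i).left) ∧ (IsProper f → ∀ i, IsProper (R.D.obj i).hom) ∧
      LocGen J ∧ J.comap (R.π.app i).left = IX ∧ ModPair.IsAmbient J IY (R.D.obj i).hom ∧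
      (ModPair.IsMinimal IX IY f → ModPair.IsMinimal J IY (R.D.obj i).hom) ∧
      (ModPair.IsMinimal IX IY f → IsIso (f ∣_ ModPair.interior IY) →
        ∀ (l : R.Iᵒᵖ) (_ : l ⟶ i), IsIso ((R.D.obj l).hom ∣_ ModPair.interior IY)) := by
  obtain ⟨R, hmap, hπ, hp⟩ : ∃ R : Groth.Limits.RelSystem f,
      (∀ (i j : R.Iᵒᵖ) (a : i ⟶ j), IsClosedImmersion (R.D.map a).left) ∧
      (∀ i, IsClosedImmersion (R.π.app i).left) ∧ (IsProper f → ∀ i, IsProper (R.D.obj i).hom) := by
    by_cases h : IsProper f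
    · obtain ⟨R, h1, h2, h3⟩ := Groth.Limits.exists_properRelSystem f
      exact ⟨R, h1, h2, fun _ => h3⟩
    · obtain ⟨R, h1, h2, -⟩ := Groth.Limits.exists_closedRelSystem f
      exact ⟨R, h1, h2, fun h' => absurd h' h⟩
  obtain ⟨i₀, J₀, hJ₀, hcomap₀⟩ := exists_locGen_stage R hπ (locGen_of_effCartier hX)
  have hwπ : ∀ {l i : R.Iᵒᵖ} (t : l ⟶ i), (R.π.app l).left ≫ (R.D.map t).left = (R.π.app i).left :=
    fun t => congrArg CommaMorphism.left (R.cone.w t)
  have hpull : ∀ {i : R.Iᵒᵖ} (J : (R.D.obj i).left.IdealSheafData) (_ : LocGen J)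
      {l : R.Iᵒᵖ} (t : l ⟶ i), LocGen (J.comap (R.D.map t).left) ∧
        (J.comap (R.D.map t).left).comap (R.π.app l).left = J.comap (R.π.app i).left :=
    fun J hJ l t => ⟨hJ.comap _, by rw [← Scheme.IdealSheafData.comap_comp, hwπ t]⟩
  have hIY : ∀ i, LocGen (IY.comap (R.D.obj i).hom) ∧
      (IY.comap (R.D.obj i).hom).comap (R.π.app i).left = IY.comap f := fun i =>
    ⟨(locGen_of_effCartier hY).comap _, by
      rw [← Scheme.IdealSheafData.comap_comp]; exact congrArg IY.comap (Over.w (R.π.app i))⟩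
  -- the modulus condition
  obtain ⟨i₁, t₁, hle₁⟩ := exists_le_stage R hJ₀ (hIY i₀).1 (by
    rw [hcomap₀, (hIY i₀).2]; exact hf)
  let J₁ := J₀.comap (R.D.map t₁).left
  have hJ₁ : LocGen J₁ ∧ J₁.comap (R.π.app i₁).left = IX :=
    ⟨(hpull J₀ hJ₀ t₁).1, (hpull J₀ hJ₀ t₁).2.trans hcomap₀⟩
  have hh : ∀ {l i : R.Iᵒᵖ} (t : l ⟶ i),
      (IY.comap (R.D.obj i).hom).comap (R.D.map t).left = IY.comap (R.D.obj l).hom := fun t => by
    rw [← Scheme.IdealSheafData.comap_comp]; exact congrArg IY.comap (Over.w (R.D.map t))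
  have hamb₁ : ModPair.IsAmbient J₁ IY (R.D.obj i₁).hom := hle₁.trans (hh t₁).le
  -- minimality
  obtain ⟨i₂, t₂, hmin₂⟩ : ∃ (i₂ : R.Iᵒᵖ) (t₂ : i₂ ⟶ i₁), ModPair.IsMinimal IX IY f →
      IY.comap (R.D.obj i₂).hom ≤ J₁.comap (R.D.map t₂).left := by
    by_cases hm : ModPair.IsMinimal IX IY f
    · obtain ⟨l, t, h⟩ := exists_le_stage R (hIY i₁).1 hJ₁.1 (by
        rw [hJ₁.2, (hIY i₁).2]; exact hm.symm.le)
      exact ⟨l, t, fun _ => (hh t).ge.trans h⟩
    · exact ⟨i₁, 𝟙 _, fun h => absurd h hm⟩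
  -- the interior
  obtain ⟨i₃, t₃, hiso₃⟩ : ∃ (i₃ : R.Iᵒᵖ) (_ : i₃ ⟶ i₂), IsIso (f ∣_ ModPair.interior IY) →
      ∀ (l : R.Iᵒᵖ) (_ : l ⟶ i₃), IsIso ((R.D.obj l).hom ∣_ ModPair.interior IY) := by
    by_cases hm : IsIso (f ∣_ ModPair.interior IY)
    · have := isAffineHom_interior hY
      have hV : IsCompact (ModPair.interior IY : Set Y) := by
        rw [isCompact_iff_compactSpace]
        exact QuasiCompact.compactSpace_of_compactSpace (ModPair.interior IY).ι
      obtain ⟨k, a, h⟩ := exists_isIso_restrict_stage R hmap _ hV hm i₂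
      exact ⟨k, a, fun _ => h⟩
    · exact ⟨i₂, 𝟙 _, fun h => absurd h hm⟩
  let t := t₃ ≫ t₂
  refine ⟨R, i₃, J₁.comap (R.D.map t).left, hmap, hπ, hp, (hpull J₁ hJ₁.1 t).1,
    (hpull J₁ hJ₁.1 t).2.trans hJ₁.2, ?_, fun hm => ?_, fun _ hm => hiso₃ hm⟩
  · exact (Scheme.IdealSheafData.comap_mono _ hamb₁).trans (hh t).le
  · refine le_antisymm ((Scheme.IdealSheafData.comap_mono _ hamb₁).trans (hh t).le) ?_
    rw [← hh t₃, trans_left R t₃ t₂, Scheme.IdealSheafData.comap_comp]
    exact Scheme.IdealSheafData.comap_mono _ (hmin₂ hm)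

end Helpers

/-- Let (X, I_X) and (Y, I_Y) be modulus pairs with X, Y quasi-compact and quasi-separated, and f : X ⟶
Y an ambient morphism (modulus condition I_X ≤ I_Y.comap f) which is locally of finite type. Then X
⟶ Y is a cofiltered limit of Y-schemes X_i such that: (1) every X_i ⟶ Y is of finite presentation
and all transition maps X_i ⟶ X_j and projections X ⟶ X_i are closed immersions; (2) every X_i
carries a locally principal quasi-coherent ideal sheaf J_i whose pull-back to X is I_X and whose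
pull-back along each transition map X_i ⟶ X_j of J_j is J_i; (3) every X_i ⟶ Y satisfies the modulus
condition for J_i, and if f is minimal all X_i ⟶ Y are minimal; (4) if f is proper all X_i ⟶ Y are
proper; (5) if f is minimal and an isomorphism over the interior of Y, every X_i ⟶ Y is an
isomorphism over the interior of Y. (Part (5) is given here in the minimal case, where the interior
of (X_i, J_i) is the preimage of the interior of Y.) -/
theorem result {X Y : Scheme.{u}}
    [CompactSpace X] [QuasiSeparatedSpace X] [CompactSpace Y] [QuasiSeparatedSpace Y]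
    (IX : X.IdealSheafData) (IY : Y.IdealSheafData) (hX : BlowUp.IsEffCartierIdeal IX)
    (hY : BlowUp.IsEffCartierIdeal IY) (f : X ⟶ Y) (hf : ModPair.IsAmbient IX IY f)
    [LocallyOfFiniteType f] :
    ∃ (I : Type u) (_ : SmallCategory I) (_ : IsCofiltered I) (D : I ⥤ Over Y) (c : Cone D)
      (_ : IsLimit c) (e : c.pt ≅ Over.mk f) (J : ∀ i, (D.obj i).left.IdealSheafData),
      (∀ i, LocallyOfFinitePresentation (D.obj i).hom ∧ QuasiCompact (D.obj i).hom ∧
          QuasiSeparated (D.obj i).hom) ∧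
        (∀ (i j : I) (t : i ⟶ j), IsClosedImmersion (D.map t).left) ∧
        (∀ i, IsClosedImmersion (c.π.app i).left) ∧
        (∀ i, Curv2.IsLocPrincipal (J i)) ∧
        (∀ i, IX = (J i).comap (e.inv.left ≫ (c.π.app i).left)) ∧
        (∀ (i j : I) (t : i ⟶ j), J i = (J j).comap (D.map t).left) ∧
        (∀ i, ModPair.IsAmbient (J i) IY (D.obj i).hom) ∧
        (ModPair.IsMinimal IX IY f → ∀ i, ModPair.IsMinimal (J i) IY (D.obj i).hom) ∧
        (IsProper f → ∀ i, IsProper (D.obj i).hom) ∧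
        (ModPair.IsMinimal IX IY f → IsIso (f ∣_ ModPair.interior IY) →
          ∀ i, IsIso ((D.obj i).hom ∣_ ModPair.interior IY)) := by

  obtain ⟨R, i₀, J₀, hmap, hπ, hp, hJ, hcomap, hamb, hmin, hiso⟩ := exists_system IX IY hX hY f hf
  let R' := R.above i₀.unop
  let σ : ∀ i : R'.Iᵒᵖ, (R.aboveFunctor i₀.unop).obj i ⟶ i₀ := fun i =>
    (homOfLE (R.above_le i₀.unop i)).op
  let J : ∀ i, (R'.D.obj i).left.IdealSheafData := fun i => J₀.comap (R.D.map (σ i)).left
  have hh : ∀ i, (R.D.map (σ i)).left ≫ (R.D.obj i₀).hom = (R'.D.obj i).hom := fun i =>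
    Over.w (R.D.map (σ i))
  refine ⟨R'.Iᵒᵖ, inferInstance, inferInstance, R'.D, R'.cone, R'.isLimit, Iso.refl _, J,
    fun i => ⟨R'.locallyOfFinitePresentation i, R'.quasiCompact i, R'.quasiSeparated i⟩,
    fun i j t => hmap _ _ _, fun i => hπ _, fun i x _ => (hJ.comap _).isLocPrincipal x,
    fun i => ?_, fun i j t => ?_, fun i => ?_, fun hm i => ?_, fun h i => hp h _,
    fun hm h i => hiso hm h _ (σ i)⟩
  · show IX = (J₀.comap (R.D.map (σ i)).left).comap (𝟙 X ≫ (R.π.app _).left)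
    rw [Category.id_comp, ← Scheme.IdealSheafData.comap_comp]
    exact hcomap.symm.trans (congrArg J₀.comap (congrArg CommaMorphism.left (R.cone.w (σ i))).symm)
  · show J₀.comap _ = (J₀.comap _).comap _
    rw [← Scheme.IdealSheafData.comap_comp]
    refine congrArg J₀.comap ?_
    have e : σ i = (R.aboveFunctor i₀.unop).map t ≫ σ j := Subsingleton.elim _ _
    rw [e, Groth.ModPairs.trans_left]
    rfl
  · have := Scheme.IdealSheafData.comap_mono (R.D.map (σ i)).left hamb
    exact le_trans this (le_of_eq ((Scheme.IdealSheafData.comap_comp _ _ _).symm.trans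
      (congrArg IY.comap (hh i))))
  · show J₀.comap (R.D.map (σ i)).left = _
    rw [hmin hm, ← Scheme.IdealSheafData.comap_comp, hh i]
    rfl

end Groth.Agent.S18759
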