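import Groth.Statements.S1876
import Groth.Agent.Misc1.DTrace.Basic


set_option autoImplicit false
universe u
open CategoryTheory
attribute [local instance] HasDerivedCategory.standard
open Trace

namespace Groth.Agent.S1876

open Groth.Misc1.DTrace

/-- Commutative coefficient ring, finite free terms: let P and Q be bounded complexes of finite free
Λ-modules with chain endomorphisms f and g, and α : P ≅ Q an isomorphism in the derived category
D(Λ) with α ∘ f = g ∘ α there. Then Σ_i (−1)^i Tr(f^i | P^i) = Σ_i (−1)^i Tr(g^i | Q^i); that is,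
the trace of an endomorphism of a perfect object of D(Λ) is well defined. -/
theorem result (Λ : Type u) [CommRing Λ] (P Q : DRing.Cx Λ) (a b : ℤ) (hP : DRing.VanishesOutside P a b) (hQ : DRing.VanishesOutside Q a b) (hPf : DRing.TermwiseFiniteFree P) (hQf : DRing.TermwiseFiniteFree Q) (f : P ⟶ P) (g : Q ⟶ Q) (α : DRing.toD P ≅ DRing.toD Q) (h : α.hom ≫ DerivedCategory.Q.map g = DerivedCategory.Q.map f ≫ α.hom) : ∑ i ∈ Finset.Icc a b, ((i.negOnePow : ℤˣ) : ℤ) • LinearMap.trace Λ (P.X i) (f.f i).hom = ∑ i ∈ Finset.Icc a b, ((i.negOnePow : ℤˣ) : ℤ) • LinearMap.trace Λ (Q.X i) (g.f i).hom := by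
  have : CochainComplex.IsKProjective P := isKProjective hP hPf
  have : CochainComplex.IsKProjective Q := isKProjective hQ hQf
  obtain ⟨φ, hφ⟩ := exists_map_eq α.hom
  obtain ⟨ψ, hψ⟩ := exists_map_eq α.inv
  obtain ⟨H₁⟩ : Nonempty (Homotopy (φ ≫ g) (f ≫ φ)) := homotopy_of_map_eq (by
    rw [Functor.map_comp, Functor.map_comp, hφ, h])
  obtain ⟨H₂⟩ : Nonempty (Homotopy (φ ≫ ψ) (𝟙 P)) := homotopy_of_map_eq (by
    rw [Functor.map_comp, hφ, hψ, CategoryTheory.Functor.map_id]; exact α.hom_inv_id)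
  obtain ⟨H₃⟩ : Nonempty (Homotopy (ψ ≫ φ) (𝟙 Q)) := homotopy_of_map_eq (by
    rw [Functor.map_comp, hφ, hψ, CategoryTheory.Functor.map_id]; exact α.inv_hom_id)
  change altTrace P a b f = altTrace Q a b g
  have e1 : altTrace P a b (f ≫ φ ≫ ψ) = altTrace P a b f := by
    have := altTrace_eq_of_homotopy hP hPf (H₂.compLeft f)
    rwa [Category.comp_id] at this
  have e2 : altTrace P a b (f ≫ φ ≫ ψ) = altTrace Q a b (ψ ≫ f ≫ φ) := by
    refine Finset.sum_congr rfl fun i _ => congrArg (((i.negOnePow : ℤˣ) : ℤ) • ·) ?_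
    have := (hPf i).1
    have := (hPf i).2
    have := (hQf i).1
    have := (hQf i).2
    simp only [HomologicalComplex.comp_f, ModuleCat.hom_comp]
    rw [LinearMap.comp_assoc, LinearMap.trace_comp_comm']
  have e3 : altTrace Q a b (ψ ≫ f ≫ φ) = altTrace Q a b (ψ ≫ φ ≫ g) :=
    altTrace_eq_of_homotopy hQ hQf (H₁.symm.compLeft ψ)
  have e4 : altTrace Q a b (ψ ≫ φ ≫ g) = altTrace Q a b g := by
    have := altTrace_eq_of_homotopy hQ hQf (H₃.compRight g)
    rwa [Category.id_comp, Category.assoc] at this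
  rw [← e1, e2, e3, e4]

end Groth.Agent.S1876
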