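import Groth.Statements.S18763
import Groth.Agent.SGA7.Ext
import Groth.Agent.AlgGrp2.Basic

set_option autoImplicit false
universe u
open CategoryTheory CategoryTheory.Limits MonoidalCategory CartesianMonoidalCategory MonObj GrpObj AlgebraicGeometry
open AlgGrp

namespace Groth.Agent.S18763

/-- Let G be a finite group scheme over a field k and H a closed subgroup scheme of G, and let (Q, q₀)
with its G-action be the homogeneous space G/H for the fppf topology (the orbit map of q₀ is an fppf
H-torsor onto Q). Let N be a closed subgroup scheme of G which is the kernel of the action of G on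
Q: a point g of G with values in a k-scheme T factors through N exactly when g acts as the identity
on all points of Q with values in T-schemes. Then N (the core of H in G) is normal in G, is
contained in H, and contains every closed normal subgroup scheme of G which is contained in H. (The
published definition takes the core to be the kernel of the linear representation of G on the
coordinate ring of G/H; this is the same subgroup as the kernel of the action on G/H used here.) -/
theorem result
    (k : Type u) [Field k]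
    (G : Over (Spec (CommRingCat.of k))) [GrpObj G] [IsFinite G.hom]
    (H : Over (Spec (CommRingCat.of k))) [GrpObj H] (i : H ⟶ G) [IsMonHom i] [IsClosedImmersion i.left]
    (Q : Over (Spec (CommRingCat.of k))) (aQ : AlgGrp.Action G Q) (q₀ : 𝟙_ (Over (Spec (CommRingCat.of k))) ⟶ Q)
    (hQ : ChGrp.IsHomog Scheme.fppfPrecoverage i aQ q₀)
    (N : Over (Spec (CommRingCat.of k))) [GrpObj N] (n : N ⟶ G) [IsMonHom n] [IsClosedImmersion n.left]
    (hN : ∀ (T : Over (Spec (CommRingCat.of k))) (g : T ⟶ G),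
      (∃ g' : T ⟶ N, g' ≫ n = g) ↔
        ∀ (T' : Over (Spec (CommRingCat.of k))) (v : T' ⟶ T) (q : T' ⟶ Q), lift (v ≫ g) q ≫ aQ.act = q) :
    AlgGrp.IsNormalHom n ∧ (∃ m : N ⟶ H, m ≫ i = n) ∧
      ∀ (N' : Over (Spec (CommRingCat.of k))) [GrpObj N'] (n' : N' ⟶ G) [IsMonHom n'] [IsClosedImmersion n'.left],
        AlgGrp.IsNormalHom n' → (∃ m' : N' ⟶ H, m' ≫ i = n') → ∃ r : N' ⟶ N, r ≫ n = n' := by
  obtain ⟨hi, hsq, hloc⟩ := hQ
  have ho : ∀ (T : Over (Spec (CommRingCat.of k))) (g : T ⟶ G),
      g ≫ aQ.orbitMap q₀ = lift g (toUnit T ≫ q₀) ≫ aQ.act := by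
    intro T g
    rw [AlgGrp.Action.orbitMap, comp_lift_assoc, Category.comp_id, ← Category.assoc,
      toUnit_unique (g ≫ toUnit G) (toUnit T)]
  refine ⟨fun T g m => ?_, ?_, fun N' _ n' _ _ hn' hN' => ?_⟩
  · obtain ⟨m', hm'⟩ := (hN T (g * (m ≫ n) * g⁻¹)).mpr (fun T' v q => by
      have hm := (hN T (m ≫ n)).mp ⟨m, rfl⟩ T' v
      rw [MonObj.comp_mul, MonObj.comp_mul, GrpObj.comp_inv, Groth.AlgGrp2.lift_mul_act,
        Groth.AlgGrp2.lift_mul_act, hm, Groth.AlgGrp2.lift_act_inv])
    exact ⟨m', hm'.symm⟩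
  · have h1 := (hN N n).mp ⟨𝟙 _, Category.id_comp _⟩ N (𝟙 _) (toUnit _ ≫ q₀)
    rw [Category.id_comp] at h1
    have h2 : (1 : N ⟶ G) ≫ aQ.orbitMap q₀ = n ≫ aQ.orbitMap q₀ := by
      rw [ho, ho, Groth.AlgGrp2.lift_one_act, h1]
    refine ⟨hsq.lift 1 n h2 ≫ snd G H, ?_⟩
    have e1 := hsq.lift_fst 1 n h2
    have e2 := hsq.lift_snd 1 n h2
    have : (G ◁ i) ≫ μ[G] = fst G H * (snd G H ≫ i) := by
      rw [Hom.mul_def]
      congr 1
    generalize hsq.lift 1 n h2 = l at e1 e2 ⊢
    rw [this, MonObj.comp_mul, e1, _root_.one_mul] at e2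
    rwa [Category.assoc]
  · obtain ⟨m', hm'⟩ := hN'
    have hH : ∀ (T : Over (Spec (CommRingCat.of k))) (h : T ⟶ H),
        lift (h ≫ i) (toUnit T ≫ q₀) ≫ aQ.act = toUnit T ≫ q₀ := by
      intro T h
      have hw := congrArg (fun t => lift (1 : T ⟶ G) h ≫ t) hsq.w
      simp only [lift_fst_assoc, lift_whiskerLeft_assoc, ← Category.assoc] at hw
      rw [lift_fst, lift_whiskerLeft, ← Hom.mul_def, _root_.one_mul, ho, ho,
        Groth.AlgGrp2.lift_one_act] at hw
      exact hw.symm
    have hid : Groth.SGA7.Ext.LocSurj (𝟙 N') := by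
      refine GrothendieckTopology.superset_covering _ ?_ (Scheme.fppfTopology.top_mem _)
      intro Y g _
      exact ⟨g, by simp⟩
    have hL := hid.tensor (Groth.SGA7.Ext.LocSurj.of_isLocallyTrivialFor (aQ.orbitMap q₀) hloc)
    have key : lift (fst N' Q ≫ n') (snd N' Q) ≫ aQ.act = snd N' Q := by
      refine hL.cancel ?_
      rw [id_tensorHom, comp_lift_assoc, whiskerLeft_snd, ← Category.assoc (N' ◁ _), whiskerLeft_fst]
      set g := snd N' G
      set x := fst N' G ≫ n'
      obtain ⟨y, hy⟩ := hn' (N' ⊗ G) g⁻¹ (fst N' G)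
      rw [_root_.inv_inv] at hy
      have hx : x = g * (y ≫ n') * g⁻¹ := by rw [← hy]; group; rfl
      rw [ho, ← Groth.AlgGrp2.lift_mul_act, hx, inv_mul_cancel_right, Groth.AlgGrp2.lift_mul_act,
        ← hm', ← Category.assoc y, hH]
    exact (hN N' n').mpr fun T' v q => by
      have h := congrArg (fun t => lift v q ≫ t) key
      simpa [comp_lift_assoc] using h

end Groth.Agent.S18763
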