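import Groth.Statements.S18772
import Groth.Agent.TFNodalAux.TorsionFree
import Groth.Agent.LocFree.Rank
import Groth.Agent.Agf.SmoothRed
-- import your own Groth.Agent.* helpers here

set_option autoImplicit false
universe u
open CategoryTheory CategoryTheory.Limits AlgebraicGeometry
open TFNodal

namespace Groth.Agent.S18772

/-- Let k be algebraically closed of characteristic zero, X a connected proper curve over k (dimension
one) whose closed points are smooth points or nodes, and π : Y → X its normalization, given as a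
finite morphism from a smooth k-scheme that is an isomorphism over the complement U of the nodes
with dense preimage of U; let F be a coherent O_X-module, torsion free of rank r with type a(x) at
each node x (stalk free of rank r off the nodes, isomorphic to O_x^{a(x)} ⊕ m_x^{r − a(x)} at a node
x). Let p : π^*F → E₀ be an epimorphism onto a locally free O_Y-module of rank r and β : F → π_*E₀
the composite of the unit with π_*p. Then every monomorphism f : F → π_*E into the direct image of a
locally free O_Y-module E of rank r factors as β followed by π_*λ for exactly one λ : E₀ → E. -/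
theorem result (k : Type u) [Field k] [IsAlgClosed k] [CharZero k]
    (X : Scheme.{u}) [X.Over (Spec (CommRingCat.of k))] [IsProper (X ↘ Spec (CommRingCat.of k))]
    [ConnectedSpace X] (hdim : topologicalKrullDim X = 1) (hnod : Curv2.AtWorstNodal k X)
    (Y : Scheme.{u}) (π : Y ⟶ X) [IsFinite π] [Smooth (π ≫ (X ↘ Spec (CommRingCat.of k)))]
    (U : X.Opens) (hU : ∀ x : X, x ∈ U ↔ ¬ Curv2.IsNode k X x) (hUiso : IsIso (π ∣_ U))
    (hUd : Dense ((π ⁻¹ᵁ U : Y.Opens) : Set Y))
    (r : ℕ) (F : X.Modules) (hF : Coh.IsCoh F) (a : X → ℕ)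
    (hfree : ∀ x : X, ¬ Curv2.IsNode k X x →
      Nonempty (F.presheaf.stalk x ≃ₗ[X.presheaf.stalk x] (Fin r → X.presheaf.stalk x)))
    (htype : ∀ x : X, Curv2.IsNode k X x → a x ≤ r ∧
      Nonempty (F.presheaf.stalk x ≃ₗ[X.presheaf.stalk x]
        ((Fin (a x) → X.presheaf.stalk x) × (Fin (r - a x) → IsLocalRing.maximalIdeal (X.presheaf.stalk x)))))
    (E₀ : Y.Modules) (hE₀ : FlatMod.IsFinLocFreeOfRank r E₀)
    (p : (Scheme.Modules.pullback π).obj F ⟶ E₀) [Epi p]
    (E : Y.Modules) (hE : FlatMod.IsFinLocFreeOfRank r E)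
    (f : F ⟶ (Scheme.Modules.pushforward π).obj E) [Mono f] :
    ∃! lam : E₀ ⟶ E, (Scheme.Modules.pullbackPushforwardAdjunction π).unit.app F ≫
      (Scheme.Modules.pushforward π).map p ≫ (Scheme.Modules.pushforward π).map lam = f := by
  have : IsLocallyNoetherian X :=
    LocallyOfFiniteType.isLocallyNoetherian (X ↘ Spec (CommRingCat.of k))
  have : IsLocallyNoetherian Y :=
    LocallyOfFiniteType.isLocallyNoetherian (π ≫ (X ↘ Spec (CommRingCat.of k)))
  have : AlgebraicGeometry.IsReduced Y :=
    Groth.Agf.isReduced_of_smooth (π ≫ (X ↘ Spec (CommRingCat.of k)))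
  let adj := Scheme.Modules.pullbackPushforwardAdjunction π
  let g : (Scheme.Modules.pullback π).obj F ⟶ E := (adj.homEquiv F E).symm f
  have hker : kernel.ι p ≫ g = 0 := by
    refine Groth.TFNodalAux.hom_eq_zero_of_stalk
      (Groth.KTheory.LocFree.isQCoh (Groth.LocFree.isFinLocFree_of_rank hE))
      (Groth.TFNodalAux.isTorsionFree_of_isFinLocFree (Groth.LocFree.isFinLocFree_of_rank hE))
      hUd _ fun y hy a => ?_
    have hyU : ¬ Curv2.IsNode k X (π y) := (hU (π y)).mp hy
    obtain ⟨eF⟩ := hfree (π y) hyU
    have : Module.Free (X.presheaf.stalk (π y)) (F.presheaf.stalk (π y)) :=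
      Module.Free.of_equiv eF.symm
    obtain ⟨W, n, s, hxW, hs⟩ := Groth.KTheory.LocFree.exists_basis_of_free_stalk hF (π y)
    have := hF.1
    have hn : n = r := by
      rw [← Groth.LocFree.finrank_stalk_of_basis hs hxW, eF.finrank_eq, Module.finrank_fin_fun]
    have hyW : y ∈ π ⁻¹ᵁ W := hxW
    let P := (Scheme.Modules.pullback π).obj F
    have hP : P.IsQuasicoherent := inferInstance
    have := Groth.KTheory.LocFree.free_stalk_of_basis (M := P) hyW (hs.pull π)
    have hfr : Module.finrank (Y.presheaf.stalk y) (P.presheaf.stalk y) = r :=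
      (Groth.LocFree.finrank_stalk_of_basis (M := P) (hs.pull π) hyW).trans hn
    have := Groth.KTheory.LocFree.free_stalk (Groth.LocFree.isFinLocFree_of_rank hE₀) y
    have := Groth.LocFree.finite_stalk (Groth.LocFree.isFinLocFree_of_rank hE₀) y
    have : Module.Finite (Y.presheaf.stalk y) (P.presheaf.stalk y) :=
      Module.Finite.of_basis (Groth.LocFree.nonempty_stalk_basis (M := P) (hs.pull π) hyW).some
    let e := LinearEquiv.ofFinrankEq (R := Y.presheaf.stalk y) (E₀.presheaf.stalk y)
      (P.presheaf.stalk y) ((Groth.LocFree.finrank_stalk hE₀ y).trans hfr.symm)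
    have hs' : Function.Surjective (Groth.KTheory.LocFree.stalkₗ p y) :=
      (Groth.QCohMod.epi_iff_stalk p).1 ‹_› y
    have hbij : Function.Bijective (e.toLinearMap ∘ₗ Groth.KTheory.LocFree.stalkₗ p y) :=
      OrzechProperty.bijective_of_surjective_endomorphism _ (e.surjective.comp hs')
    have h0 : Groth.KTheory.LocFree.stalkₗ (kernel.ι p) y a = 0 := by
      refine hbij.1 ?_
      rw [map_zero]
      have h1 : Groth.KTheory.LocFree.stalkₗ p y
          (Groth.KTheory.LocFree.stalkₗ (kernel.ι p) y a) = 0 := by
        rw [← LinearMap.comp_apply, ← Groth.GrFree.stalkₗ_comp, kernel.condition,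
          Groth.GrFree.stalkₗ_zero, LinearMap.zero_apply]
      rw [LinearMap.comp_apply, h1, map_zero]
    rw [Groth.GrFree.stalkₗ_comp, LinearMap.comp_apply, h0, map_zero]
  refine ⟨Abelian.epiDesc p g hker, ?_, fun l hl => ?_⟩
  · show adj.unit.app F ≫ (Scheme.Modules.pushforward π).map p ≫
      (Scheme.Modules.pushforward π).map (Abelian.epiDesc p g hker) = f
    rw [← Functor.map_comp, Abelian.comp_epiDesc]
    exact (adj.homEquiv_unit F E g).symm.trans (Equiv.apply_symm_apply _ _)
  · simp only [← Functor.map_comp] at hl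
    replace hl := (adj.homEquiv_unit F E (p ≫ l)).trans hl
    rw [← cancel_epi p, Abelian.comp_epiDesc]
    exact (adj.homEquiv F E).injective (hl.trans (Equiv.apply_symm_apply _ _).symm)

end Groth.Agent.S18772
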