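import Groth.Statements.S18776
import Groth.Agent.VBCurves.GenusOneTensor

set_option autoImplicit false
universe u
open CategoryTheory CategoryTheory.Limits AlgebraicGeometry
open VBCurve

open Groth.VBCurves

namespace Groth.Agent.S18776

/-- Let k be a finite field and C a smooth proper geometrically integral curve over k (proper, smooth
and geometrically integral over k, of dimension one) of genus one, i.e. dim_k H^1(C, O_C) = 1, with
a k-rational point O (an elliptic curve over k). Let F and F' be finite locally free O_C-modules of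
ranks r ≥ 1 and s ≥ 1 such that F is semistable in the sense that deg G · rk F ≤ deg F · rk G for
every finite locally free submodule G of F of positive rank (the degree of a rank-n locally free
module being χ − n·χ(O_C)), and likewise for F'. Then for every finite locally free submodule G of F
⊗ F' of rank t ≥ 1 one has μ(G) − μ(F) − μ(F') ≤ 4, that is deg G · r · s ≤ t · (4 r s + deg F · s +
deg F' · r). (The published statement takes F and F' arbitrary; that form fails for F the direct sum
of invertible modules of degrees 5 and −5 and F' = O_C, so both are taken semistable here, as the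
published argument requires.) -/
theorem result (k : Type u) [Field k] [Finite k] (X : Scheme.{u}) [X.Over (Spec (CommRingCat.of k))]
    [IsProper (X ↘ Spec (CommRingCat.of k))] [Smooth (X ↘ Spec (CommRingCat.of k))]
    [GeometricallyIntegral (X ↘ Spec (CommRingCat.of k))] (hdim : topologicalKrullDim ↥X = 1)
    (hg : Curv2.genus k X = 1) (O : Spec (CommRingCat.of k) ⟶ X) (hO : O ≫ (X ↘ Spec (CommRingCat.of k)) = 𝟙 _)
    (F F' : X.Modules) (r s : ℕ) (hr : 0 < r) (hs : 0 < s)
    (hF : FlatMod.IsFinLocFreeOfRank r F) (hF' : FlatMod.IsFinLocFreeOfRank s F')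
    (hFss : (∀ (G : X.Modules) (r' : ℕ) (i : G ⟶ F), Mono i → 0 < r' → FlatMod.IsFinLocFreeOfRank r' G →
      Curv2.deg k X G r' * (r : ℤ) ≤ Curv2.deg k X F r * (r' : ℤ)))
    (hF'ss : (∀ (G : X.Modules) (r' : ℕ) (i : G ⟶ F'), Mono i → 0 < r' → FlatMod.IsFinLocFreeOfRank r' G →
      Curv2.deg k X G r' * (s : ℤ) ≤ Curv2.deg k X F' s * (r' : ℤ)))
    (G : X.Modules) (t : ℕ) (ht : 0 < t) (hG : FlatMod.IsFinLocFreeOfRank t G)
    (i : G ⟶ CohB1.tensorMod F F') [Mono i] :
    Curv2.deg k X G t * (r : ℤ) * (s : ℤ) ≤
      (t : ℤ) * (4 * (r : ℤ) * (s : ℤ) + Curv2.deg k X F r * (s : ℤ) + Curv2.deg k X F' s * (r : ℤ)) := by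
  have hgc : GeometricallyConnected (X ↘ Spec (CommRingCat.of k)) :=
    ⟨fun K _ y W fst snd h => by
      have := GeometricallyIrreducible.geometrically_irreducibleSpace (f := X ↘ Spec (CommRingCat.of k)) y fst snd h
      infer_instance⟩
  have hc := IsVBCurve.of_connected k hdim
  have := hc.integral
  have hK := isFunctionField_of_connected (k := k) hdim
  obtain ⟨ω, hω⟩ := exists_isDualizing_of_smooth hdim hK
  have h := GenusOneTensor.slope_le (Groth.CurveBridge.isRegCurve_of_smooth k X hdim) hK O hO hc hω hg
    (Groth.LocFree.isFinLocFree_of_rank hF) (Groth.LocFree.isFinLocFree_of_rank hF')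
    (by rwa [rk_eq hF]) (by rwa [rk_eq hF']) (ss_of hF hFss) (ss_of hF' hF'ss)
    (Groth.LocFree.isFinLocFree_of_rank hG) (by rwa [rk_eq hG]) i
  rw [rk_eq hF, rk_eq hF', rk_eq hG, ← dg_eq k hF, ← dg_eq k hF', ← dg_eq k hG] at h
  exact h

end Groth.Agent.S18776
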