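import Groth.Statements.S18784
import Groth.Agent.Duality.ShriekBridge.Main
import Groth.Agent.VectorBundles.LineBundleHom
import Groth.Agent.Curves1.RR.ReducedH1
import Groth.Agent.EulerDeg.LineBundle
-- import your own Groth.Agent.* helpers here

set_option autoImplicit false
universe u
open CategoryTheory CategoryTheory.Limits AlgebraicGeometry
attribute [local instance] HasDerivedCategory.standard
open Curves

namespace Groth.Agent.S18784

theorem core {k : Type u} [Field k] {X : Scheme.{u}} [X.Over (Spec (CommRingCat.of k))]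
    [IsProper (X ↘ Spec (CommRingCat.of k))]
    [GeometricallyConnected (X ↘ Spec (CommRingCat.of k))]
    [GeometricallyReduced (X ↘ Spec (CommRingCat.of k))]
    {ω : X.Modules} {tr : Coh.HH X ω 1 →ₗ[k] k} (htr : Canon.IsRDualOver k X 1 ω tr)
    (eω : ω ≅ Coh.structureModule X)
    (L : X.Modules) (hL : PicF.IsInvertible L) (s : Coh.structureModule X ⟶ L) [Mono s]
    (hdeg : 0 < Curv2.deg k X L 1) :
    Subsingleton (Coh.HH X L 1) := by
  let f := X ↘ Spec (CommRingCat.of k)
  haveI : IsLocallyNoetherian X := LocallyOfFiniteType.isLocallyNoetherian f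
  haveI : IsReduced X := GeometricallyReduced.isReduced_of_flat_of_isLocallyNoetherian f
  haveI : ConnectedSpace X := GeometricallyConnected.connectedSpace_of_subsingleton (f := f)
  have hF := Groth.Curves1.RR.Red.isField_sections k (Y := X)
  -- no nonzero morphisms `L ⟶ O`
  have hhom : ∀ φ : L ⟶ Coh.structureModule X, φ = 0 := fun φ => by
    obtain ⟨r, hr⟩ := Groth.VectorBundles.exists_eq_smul_of_isInvertible hL (φ ≫ s)
    by_cases hr0 : r = 0
    · refine (cancel_mono s).1 ?_
      rw [zero_comp]
      refine Scheme.Modules.hom_ext _ _ fun V => ?_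
      ext x
      rw [hr V x, hr0, map_zero, zero_smul]
      rfl
    · exfalso
      have hu : IsUnit r := by
        obtain ⟨b, hb⟩ := hF.mul_inv_cancel hr0
        exact IsUnit.of_mul_eq_one b hb
      haveI : IsIso (φ ≫ s) := by
        refine Scheme.Modules.Hom.isIso_iff_isIso_app.2 fun V => ?_
        rw [ConcreteCategory.isIso_iff_bijective]
        have hV : IsUnit (Groth.PicAux.resX X (le_top : V ≤ ⊤) r) := hu.map _
        refine ⟨fun a b hab => ?_, fun b => ⟨(↑hV.unit⁻¹ : Γ(X, V)) • b, ?_⟩⟩
        · change (φ ≫ s).app V a = (φ ≫ s).app V b at hab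
          rw [hr V a, hr V b] at hab
          exact hV.smul_left_cancel.1 hab
        · change (φ ≫ s).app V _ = b
          rw [hr V, smul_smul, IsUnit.mul_val_inv, one_smul]
      haveI : Epi s := epi_of_epi φ s
      haveI : IsIso s := isIso_of_mono_of_epi s
      rw [Curv2.deg, ← Groth.EulerDeg.euler_congr k (asIso s)] at hdeg
      simp at hdeg
  have hb := htr.2 L (Groth.EulerDeg.isCoh_of_isInvertible hL).1
  refine ⟨fun a b => ?_⟩
  haveI : Module.Free k (Coh.HH X L 1) := Module.Free.of_divisionRing k (Coh.HH X L 1)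
  refine eq_of_sub_eq_zero ((Module.forall_dual_apply_eq_zero_iff k (a - b)).1 fun ℓ => ?_)
  obtain ⟨φ, hφ⟩ := hb.2 ℓ
  have hφ0 : φ = 0 := (cancel_mono eω.hom).1 ((hhom _).trans zero_comp.symm)
  rw [← hφ, hφ0]
  change tr (Groth.CohC3.hmap k (0 : L ⟶ ω) 1 (a - b)) = 0
  rw [Groth.CohC3.hmap_zero, map_zero]


/-- Let k be a perfect field and X a proper scheme over k of dimension one which is geometrically
connected and geometrically reduced over k, Gorenstein with trivial dualizing sheaf: its dualizing
module ω_X (the degree −1 cohomology sheaf of f^! O for the structure morphism f, assuming Rf_* on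
D_QCoh and its right adjoint exist) is isomorphic to O_X. Let D be an effective Cartier divisor on X
of positive degree, given here as an invertible module L = O_X(D) with a monomorphism s : O_X → L
and deg L = χ(L) − χ(O_X) > 0. Then H^1(X, O_X(D)) = 0. (The first assertion of the lemma, H^0(X,
O_X) = k, is not restated.) -/
theorem result (k : Type u) [Field k] [PerfectField k]
    (X : Scheme.{u}) [X.Over (Spec (CommRingCat.of k))] [IsProper (X ↘ Spec (CommRingCat.of k))]
    [GeometricallyConnected (X ↘ Spec (CommRingCat.of k))] [GeometricallyReduced (X ↘ Spec (CommRingCat.of k))]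
    (hdim : topologicalKrullDim ↥X = 1)
    [DCoh.HasRpush (X ↘ Spec (CommRingCat.of k))] (h : DCoh.RpushPreservesQCoh (X ↘ Spec (CommRingCat.of k))) [DCoh.HasShriek (X ↘ Spec (CommRingCat.of k)) h]
    (OY : DCoh.DQCoh (Spec (CommRingCat.of k))) (hOY : Nonempty (OY.obj ≅ DCoh.inD (Spec (CommRingCat.of k)) (Coh.structureModule (Spec (CommRingCat.of k)))))
    (hω : Nonempty (DCoh.dualizingMod (X ↘ Spec (CommRingCat.of k)) h OY 1 ≅ Coh.structureModule X))
    (L : X.Modules) (hL : PicF.IsInvertible L) (s : Coh.structureModule X ⟶ L) [Mono s]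
    (hdeg : 0 < Curv2.deg k X L 1) :
    Subsingleton (Coh.HH X L 1) := by
  obtain ⟨eω⟩ := hω
  have hfib : ∀ P, topologicalKrullDim ↥((X ↘ Spec (CommRingCat.of k)).fiber P) ≤
      ((1 : ℕ) : WithBot ℕ∞) := fun P => by
    refine le_trans ?_ hdim.le
    exact ((X ↘ Spec (CommRingCat.of k)).fiberι P).isEmbedding.isInducing.topologicalKrullDim_le
  obtain ⟨tr, htr⟩ := Groth.Duality.ShriekBridge.exists_isRDualOver_dualizingMod hfib h OY hOY
  exact core htr eω L hL s hdeg

end Groth.Agent.S18784
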