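import Groth.Statements.S18787
import Groth.Agent.VBCurves.GenusOneAut
-- import your own Groth.Agent.* helpers here

set_option autoImplicit false
universe u
open CategoryTheory CategoryTheory.Limits AlgebraicGeometry
open VBCurve

open Groth.VBCurves
open scoped Groth.CurveBridge

namespace Groth.Agent.S18787

/-- Let k be a finite field and C a smooth proper geometrically integral curve over k (proper, smooth
and geometrically integral over k, of dimension one) of genus one, i.e. dim_k H^1(C, O_C) = 1, with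
a k-rational point O (an elliptic curve over k); k is finite with q elements. Let L₁ and L₂ be
invertible O_C-modules of degree 0 (χ(L) − χ(O_C) = 0) and E = O_C ⊕ L₁ ⊕ L₂. Then the number of
automorphisms of E is: (q³ − 1)(q³ − q)(q³ − q²) if L₁ ≅ L₂ ≅ O_C; (q − 1)³ (q + 1) q if L₁ ≅ L₂ and
L₁ ≇ O_C; (q − 1)³ (q + 1) q if L₁ ≇ L₂ and L₂ ≅ O_C; and (q − 1)³ if O_C, L₁, L₂ are pairwise
non-isomorphic. (In the third case the published value is (q − 1)² q³, and the published computation
gives (q − 1)³ q²; but there E ≅ O_C ⊕ O_C ⊕ L₁ with L₁ of degree 0 and non-trivial, whose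
endomorphism ring is M₂(k) × k, so Aut(E) ≅ GL₂(k) × kˣ has (q − 1)³ (q + 1) q elements, the same
count as in the second case; the row states this corrected value.) (The published setting takes k of
characteristic at least 5; the argument does not use this and the row allows every finite field.) -/
theorem result (k : Type u) [Field k] [Finite k] (X : Scheme.{u}) [X.Over (Spec (CommRingCat.of k))]
    [IsProper (X ↘ Spec (CommRingCat.of k))] [Smooth (X ↘ Spec (CommRingCat.of k))]
    [GeometricallyIntegral (X ↘ Spec (CommRingCat.of k))] (hdim : topologicalKrullDim ↥X = 1)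
    (hg : Curv2.genus k X = 1) (O : Spec (CommRingCat.of k) ⟶ X) (hO : O ≫ (X ↘ Spec (CommRingCat.of k)) = 𝟙 _)
    (L₁ L₂ : X.Modules) (hL₁ : PicF.IsInvertible L₁) (hL₂ : PicF.IsInvertible L₂)
    (hd₁ : Curv2.deg k X L₁ 1 = 0) (hd₂ : Curv2.deg k X L₂ 1 = 0) :
    (Nonempty (L₁ ≅ Coh.structureModule X) → Nonempty (L₂ ≅ Coh.structureModule X) →
      Nat.card (Aut (Coh.structureModule X ⊞ L₁ ⊞ L₂)) =
        (Nat.card k ^ 3 - 1) * (Nat.card k ^ 3 - Nat.card k) * (Nat.card k ^ 3 - Nat.card k ^ 2)) ∧
    (Nonempty (L₁ ≅ L₂) → ¬ Nonempty (L₁ ≅ Coh.structureModule X) →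
      Nat.card (Aut (Coh.structureModule X ⊞ L₁ ⊞ L₂)) = (Nat.card k - 1) ^ 3 * (Nat.card k + 1) * Nat.card k) ∧
    (¬ Nonempty (L₁ ≅ L₂) → Nonempty (L₂ ≅ Coh.structureModule X) →
      Nat.card (Aut (Coh.structureModule X ⊞ L₁ ⊞ L₂)) = (Nat.card k - 1) ^ 3 * (Nat.card k + 1) * Nat.card k) ∧
    (¬ Nonempty (L₁ ≅ Coh.structureModule X) → ¬ Nonempty (L₂ ≅ Coh.structureModule X) → ¬ Nonempty (L₁ ≅ L₂) →
      Nat.card (Aut (Coh.structureModule X ⊞ L₁ ⊞ L₂)) = (Nat.card k - 1) ^ 3) := by
  have hgc : GeometricallyConnected (X ↘ Spec (CommRingCat.of k)) :=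
    ⟨fun K _ y W fst snd h => by
      have := GeometricallyIrreducible.geometrically_irreducibleSpace (f := X ↘ Spec (CommRingCat.of k)) y fst snd h
      infer_instance⟩
  have hc := IsVBCurve.of_connected k hdim
  have := hc.integral
  obtain ⟨ω, hω⟩ := exists_isDualizing_of_smooth hdim (isFunctionField_of_connected (k := k) hdim)
  have hO' := Groth.EulerDeg.isInvertible_structureModule X
  have hdO := Groth.EulerDeg.deg_structure (X := X) k
  exact GenusOneAut.card_aut_three_lines hc hω hO' hL₁ hL₂ hdO hd₁ hd₂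

end Groth.Agent.S18787
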