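import Groth.Statements.S18788
import Groth.Agent.VBCurves.GenusOneAut
-- import your own Groth.Agent.* helpers here

set_option autoImplicit false
universe u
open CategoryTheory CategoryTheory.Limits AlgebraicGeometry
open VBCurve

open Groth.VBCurves
open scoped Groth.CurveBridge

namespace Groth.Agent.S18788

/-- Let k be a finite field and C a smooth proper geometrically integral curve over k (proper, smooth
and geometrically integral over k, of dimension one) of genus one, i.e. dim_k H^1(C, O_C) = 1, with
a k-rational point O (an elliptic curve over k); k is finite with q elements. Let F be an O_C-module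
with a short exact sequence 0 → O_C → F → O_C → 0 that does not split, and L an invertible
O_C-module of degree 0 (χ(L) − χ(O_C) = 0). Then Aut(O_C ⊕ F) has (q − 1)² q³ elements, and if L ≇
O_C then Aut(O_C ⊕ (L ⊗ F)) has (q − 1)² q elements. (The source states this for E = O_C ⊕ G with G
a geometrically indecomposable rank-2 bundle of degree 0, which it writes as L ⊗ F with F the
non-split self-extension of O_C by a classification it quotes; the row takes G in that form
directly. The accompanying count of isomorphism classes is not restated.) (The published setting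
takes k of characteristic at least 5; the argument does not use this and the row allows every finite
field.) -/
theorem result (k : Type u) [Field k] [Finite k] (X : Scheme.{u}) [X.Over (Spec (CommRingCat.of k))]
    [IsProper (X ↘ Spec (CommRingCat.of k))] [Smooth (X ↘ Spec (CommRingCat.of k))]
    [GeometricallyIntegral (X ↘ Spec (CommRingCat.of k))] (hdim : topologicalKrullDim ↥X = 1)
    (hg : Curv2.genus k X = 1) (O : Spec (CommRingCat.of k) ⟶ X) (hO : O ≫ (X ↘ Spec (CommRingCat.of k)) = 𝟙 _)
    (T : ShortComplex X.Modules) (hT : T.ShortExact)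
    (e₁ : T.X₁ ≅ Coh.structureModule X) (e₃ : T.X₃ ≅ Coh.structureModule X) (hns : ¬ IsSplitEpi T.g)
    (L : X.Modules) (hL : PicF.IsInvertible L) (hdeg : Curv2.deg k X L 1 = 0) :
    Nat.card (Aut (Coh.structureModule X ⊞ T.X₂)) = (Nat.card k - 1) ^ 2 * Nat.card k ^ 3 ∧
    (¬ Nonempty (L ≅ Coh.structureModule X) →
      Nat.card (Aut (Coh.structureModule X ⊞ CohB1.tensorMod L T.X₂)) = (Nat.card k - 1) ^ 2 * Nat.card k) := by
  have hgc : GeometricallyConnected (X ↘ Spec (CommRingCat.of k)) :=
    ⟨fun K _ y W fst snd h => by
      have := GeometricallyIrreducible.geometrically_irreducibleSpace (f := X ↘ Spec (CommRingCat.of k)) y fst snd h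
      infer_instance⟩
  have hc := IsVBCurve.of_connected k hdim
  have := hc.integral
  obtain ⟨ω, hω⟩ := exists_isDualizing_of_smooth hdim (isFunctionField_of_connected (k := k) hdim)
  have hO' := Groth.EulerDeg.isInvertible_structureModule X
  have hdO := Groth.EulerDeg.deg_structure (X := X) k
  refine ⟨?_, fun hne => ?_⟩
  · let i := e₁.inv ≫ T.f
    let p := T.g ≫ e₃.hom
    have w : i ≫ p = 0 := by simp [i, p, reassoc_of% T.zero]
    refine GenusOneAut.card_aut_sum_selfExt hc hω hO' i p w
      (ShortComplex.shortExact_of_iso (ShortComplex.isoMk (S₁ := T) e₁ (Iso.refl _) e₃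
        (by simp [i]) (by simp [p])) hT) fun hs => hns (IsSplitEpi.mk' ⟨e₃.hom ≫ section_ p, ?_⟩)
    rw [← cancel_mono e₃.hom, Category.assoc, Category.assoc, IsSplitEpi.id p, Category.comp_id,
      Category.id_comp]
  · obtain ⟨i, p, w, hS, hns'⟩ := GenusOneAut.exists_twist hT e₁ e₃ hns hL
    exact GenusOneAut.card_aut_sum_selfExt_ne hc hω hO' hL hdO hdeg hne i p w hS hns'

end Groth.Agent.S18788
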