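import Groth.Statements.S18789
import Groth.Agent.Misc15.MGraded

set_option autoImplicit false
universe u v w x
open TorusGr

namespace Groth.Agent.S18789

open DirectSum in
/-- Let `A` be a commutative algebra over a field `k`, graded by an additive commutative group `M` (for
`M` the character group of a split torus `T` this is a `T`-action on `Spec A`, and an `M`-graded
`A`-module is a `T`-equivariant quasi-coherent sheaf), let `P` be a finitely generated projective
`A`-module with a compatible `M`-grading (a locally free `T`-sheaf of finite rank), and let `m` be a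
homogeneous maximal ideal with residue field `k` (a `T`-fixed rational point). If homogeneous
elements `f i` of `P` reduce to a basis of `P/mP`, then there is a homogeneous `s ∉ m` such that
after inverting `s` the `f i` generate `P` and every relation among them is killed by a power of
`s`: on the invariant open `D(s)` the module is free on the homogeneous sections `f i`, with the
weights of the fibre `P/mP`. (The published statement has `M ≅ ℤ^r`, a split torus; here `M` is any
additive commutative group, i.e. any diagonalizable group.) -/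
theorem result
    {k : Type u} [Field k] {M : Type v} [AddCommGroup M] [DecidableEq M]
    {A : Type w} [CommRing A] [Algebra k A] (𝒜 : M → Submodule k A) [GradedAlgebra 𝒜]
    {P : Type x} [AddCommGroup P] [Module A P] [Module k P] [IsScalarTower k A P]
    (ℳ : M → Submodule k P) [Decomposition ℳ] [SetLike.GradedSMul 𝒜 ℳ]
    [Module.Finite A P] [Module.Projective A P]
    (m : Ideal A) [m.IsMaximal] (hm : m.IsHomogeneous 𝒜)
    (hrat : Function.Surjective (algebraMap k (A ⧸ m)))
    {n : ℕ} (wt : Fin n → M) (f : Fin n → P) (hf : ∀ i, f i ∈ ℳ (wt i))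
    (hli : LinearIndependent (A ⧸ m)
      (fun i => (Submodule.Quotient.mk (f i) : P ⧸ (m • (⊤ : Submodule A P)))))
    (hsp : Submodule.span A (Set.range f) ⊔ m • (⊤ : Submodule A P) = ⊤) :
    ∃ s : A, SetLike.IsHomogeneousElem 𝒜 s ∧ s ∉ m ∧
      (∀ p : P, ∃ (N : ℕ) (c : Fin n → A), s ^ N • p = ∑ i, c i • f i) ∧
      (∀ c : Fin n → A, ∑ i, c i • f i = 0 → ∃ N : ℕ, ∀ i, s ^ N * c i = 0) := by
  classical
  set Q := Submodule.span A (Set.range f)
  have hQ : ∀ x ∈ Q, ∀ g, Groth.Misc15.MGraded.pr ℳ g x ∈ Q := by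
    intro x hx g
    obtain ⟨c, rfl⟩ := (Submodule.mem_span_range_iff_exists_fun A).1 hx
    rw [map_sum]
    refine sum_mem fun i _ => ?_
    rw [Groth.Misc15.MGraded.pr_smul_right 𝒜 ℳ (hf i)]
    exact Q.smul_mem _ (Submodule.subset_span (Set.mem_range_self i))
  -- generators after inverting a homogeneous element
  obtain ⟨s, hs, hsQ⟩ : ∃ s ∉ m, ∀ p : P, s • p ∈ Q := by
    have hle : (⊤ : Submodule A (P ⧸ Q)) ≤ m • ⊤ := by
      have := congrArg (Submodule.map Q.mkQ) hsp
      rw [Submodule.map_sup, Submodule.map_smul'', Submodule.map_top, Submodule.range_mkQ,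
        Submodule.mkQ_map_self, bot_sup_eq] at this
      exact this.ge
    obtain ⟨r, hr, hr0⟩ := Submodule.exists_sub_one_mem_and_smul_eq_zero_of_fg_of_le_smul m _
      Module.Finite.fg_top hle
    refine ⟨r, fun h => (inferInstance : m.IsMaximal).ne_top ((Ideal.eq_top_iff_one m).2 ?_),
      fun p => ?_⟩
    · simpa using sub_mem h hr
    · rw [← Submodule.Quotient.mk_eq_zero, Submodule.Quotient.mk_smul]
      exact hr0 _ Submodule.mem_top
  obtain ⟨g₁, hg₁⟩ := Groth.Misc15.MGraded.exists_pr_notMem 𝒜 m hs
  set s₁ := Groth.Misc15.MGraded.pr 𝒜 g₁ s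
  have hs₁ : ∀ p : P, s₁ • p ∈ Q := by
    intro p
    rw [Groth.Misc15.MGraded.eq_sum_pr ℳ p, Finset.smul_sum]
    refine sum_mem fun j _ => ?_
    have hj := Groth.Misc15.MGraded.pr_mem ℳ j p
    have := hQ _ (hsQ (Groth.Misc15.MGraded.pr ℳ j p)) (g₁ + j)
    rwa [Groth.Misc15.MGraded.pr_smul_right 𝒜 ℳ hj, add_sub_cancel_right] at this
  -- relations
  obtain ⟨u, hu, hurel⟩ : ∃ u ∉ m, ∀ c : Fin n → A, ∑ i, c i • f i = 0 → ∀ i, u * c i = 0 := by
    let fl : (Fin n → A) →ₗ[A] P := Fintype.linearCombination A f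
    let q : P →ₗ[A] P ⧸ (m • (⊤ : Submodule A P)) := (m • (⊤ : Submodule A P)).mkQ
    have hsurj : Function.Surjective (q ∘ₗ fl) := by
      rw [← LinearMap.range_eq_top, LinearMap.range_comp, Fintype.range_linearCombination]
      have := congrArg (Submodule.map q) hsp
      rw [Submodule.map_sup, Submodule.map_top, Submodule.range_mkQ,
        Submodule.mkQ_map_self, sup_bot_eq] at this
      exact this
    obtain ⟨g, hg⟩ := Module.projective_lifting_property (q ∘ₗ fl) q hsurj
    have hker : ∀ c : Fin n → A, q (fl c) = 0 → ∀ i, c i ∈ m := by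
      intro c hc i
      have h := Fintype.linearIndependent_iff.1 hli (fun i => Ideal.Quotient.mk m (c i)) (by
        rw [show (0 : P ⧸ (m • (⊤ : Submodule A P))) = q (fl c) from hc.symm]
        simp only [fl, Fintype.linearCombination_apply, map_sum, map_smul]
        exact Finset.sum_congr rfl fun j _ => rfl) i
      exact Ideal.Quotient.eq_zero_iff_mem.1 h
    let W : Matrix (Fin n) (Fin n) A := LinearMap.toMatrix' (g ∘ₗ fl)
    have hW : W.det - 1 ∈ m := by
      rw [← Ideal.Quotient.eq_zero_iff_mem, map_sub, RingHom.map_det, map_one, sub_eq_zero]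
      have : (Ideal.Quotient.mk m).mapMatrix W = 1 := by
        ext i j
        have h0 : q (fl (g (fl (Pi.single j 1)) - Pi.single j 1)) = 0 := by
          rw [map_sub, map_sub, sub_eq_zero]
          exact LinearMap.congr_fun hg (fl (Pi.single j 1))
        have h1 := Ideal.Quotient.eq.2 (hker _ h0 i)
        simp only [RingHom.mapMatrix_apply, Matrix.map_apply, W, LinearMap.toMatrix'_apply,
          LinearMap.comp_apply, Matrix.one_apply]
        refine h1.trans ?_
        rw [Pi.single_apply]
        split <;> simp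
      rw [this, Matrix.det_one]
    refine ⟨W.det, fun h => (inferInstance : m.IsMaximal).ne_top ((Ideal.eq_top_iff_one m).2 ?_),
      fun c hc i => ?_⟩
    · simpa using sub_mem h hW
    · have h0 : W.mulVec c = 0 := by
        rw [LinearMap.toMatrix'_mulVec]
        show g (fl c) = 0
        rw [show fl c = ∑ i, c i • f i from Fintype.linearCombination_apply A f c, hc, map_zero]
      have := congrArg (W.adjugate.mulVec) h0
      rw [Matrix.mulVec_mulVec, Matrix.adjugate_mul, Matrix.smul_mulVec, Matrix.one_mulVec,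
        Matrix.mulVec_zero] at this
      exact congrFun this i
  obtain ⟨g₂, hg₂⟩ := Groth.Misc15.MGraded.exists_pr_notMem 𝒜 m hu
  refine ⟨s₁ * Groth.Misc15.MGraded.pr 𝒜 g₂ u, ⟨g₁ + g₂, SetLike.mul_mem_graded
    (Groth.Misc15.MGraded.pr_mem 𝒜 _ _) (Groth.Misc15.MGraded.pr_mem 𝒜 _ _)⟩,
    fun h => ((inferInstance : m.IsMaximal).isPrime.mem_or_mem h).elim hg₁ hg₂, fun p => ?_,
    fun c hc => ⟨1, fun i => ?_⟩⟩
  · obtain ⟨c, hc⟩ := (Submodule.mem_span_range_iff_exists_fun A).1
      (Q.smul_mem (Groth.Misc15.MGraded.pr 𝒜 g₂ u) (hs₁ p))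
    refine ⟨1, c, ?_⟩
    rw [hc, pow_one, smul_smul, mul_comm]
  · rw [pow_one, mul_assoc, Groth.Misc15.MGraded.eq_sum_pr 𝒜 (c i), Finset.mul_sum,
      Finset.sum_eq_zero, mul_zero]
    intro d _
    have hrel : ∑ l, Groth.Misc15.MGraded.pr 𝒜 (d + wt i - wt l) (c l) • f l = 0 := by
      have := congrArg (Groth.Misc15.MGraded.pr ℳ (d + wt i)) hc
      rw [map_zero, map_sum] at this
      rw [← this]
      exact Finset.sum_congr rfl fun l _ =>
        (Groth.Misc15.MGraded.pr_smul_right 𝒜 ℳ (hf l) (c l) _).symm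
    have h1 := hurel _ hrel i
    rw [add_sub_cancel_right] at h1
    have h2 := congrArg (Groth.Misc15.MGraded.pr 𝒜 (g₂ + d)) h1
    rw [map_zero, Groth.Misc15.MGraded.pr_mul_right 𝒜 (Groth.Misc15.MGraded.pr_mem 𝒜 d _),
      add_sub_cancel_right] at h2
    exact h2

end Groth.Agent.S18789
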