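import Groth.Statements.S18790
import Groth.Agent.Misc15.MGraded

set_option autoImplicit false
universe u v w
open TorusGr

namespace Groth.Agent.S18790

/-- Let `A` be a commutative algebra over a field `k`, graded by an additive commutative group `M` (for
`M` the character group of a split torus `T`, a `T`-action on `Spec A`), let `J` be the ideal
generated by the homogeneous elements of non-zero degree (its zero locus is the fixed-point
subscheme) and let `m ⊇ J` be a maximal ideal with residue field `k` (a fixed rational point) at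
which the fixed-point subscheme is the reduced point: `J` and `m` agree after localizing at `m`.
Then the cotangent space `m/m²` has no part of weight zero: every degree-zero element of `m` lies in
`m²`. (The published statement has `M ≅ ℤ^r`, a split torus, and phrases the conclusion as the
non-vanishing of the weights of a semi-invariant basis of `m/m²`; here `M` is any additive
commutative group, i.e. any diagonalizable group.) -/
theorem result
    {k : Type u} [Field k] {M : Type v} [AddCommGroup M] [DecidableEq M]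
    {A : Type w} [CommRing A] [Algebra k A] (𝒜 : M → Submodule k A) [GradedAlgebra 𝒜]
    (m : Ideal A) [m.IsMaximal] (hrat : Function.Surjective (algebraMap k (A ⧸ m)))
    (hfix : ∀ i : M, i ≠ 0 → ∀ a ∈ 𝒜 i, a ∈ m)
    (hred : ∀ a ∈ m, ∃ s ∉ m, s * a ∈ Ideal.span {b : A | ∃ i : M, i ≠ 0 ∧ b ∈ 𝒜 i})
    {f : A} (hf0 : f ∈ 𝒜 0) (hfm : f ∈ m) : f ∈ m ^ 2 := by
  classical
  obtain ⟨s, hs, hsf⟩ := hred f hfm
  have hJ : ∀ x ∈ Ideal.span {b : A | ∃ i : M, i ≠ 0 ∧ b ∈ 𝒜 i},
      ∀ c : A, Groth.Misc15.MGraded.pr 𝒜 0 (c * x) ∈ m ^ 2 := by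
    intro x hx
    refine Submodule.span_induction (p := fun x _ => ∀ c : A,
      Groth.Misc15.MGraded.pr 𝒜 0 (c * x) ∈ m ^ 2) ?_ ?_ ?_ ?_ hx
    · rintro b ⟨i, hi, hb⟩ c
      rw [Groth.Misc15.MGraded.pr_mul_right 𝒜 hb, pow_two]
      exact Ideal.mul_mem_mul (hfix _ (by simpa using hi) _ (Groth.Misc15.MGraded.pr_mem 𝒜 _ c))
        (hfix i hi b hb)
    · intro c; simp
    · intro a b _ _ ha hb c; rw [mul_add, map_add]; exact add_mem (ha c) (hb c)
    · intro r a _ ha c; rw [smul_eq_mul, ← mul_assoc]; exact ha (c * r)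
  have h0 := hJ _ hsf 1
  rw [one_mul, Groth.Misc15.MGraded.pr_mul_right 𝒜 hf0, sub_zero] at h0
  have hs0 := Groth.Misc15.MGraded.pr_zero_notMem 𝒜 m hfix hs
  obtain ⟨c, μ, hμ, hc⟩ := (inferInstance : m.IsMaximal).exists_inv hs0
  have : f = c * (Groth.Misc15.MGraded.pr 𝒜 0 s * f) + μ * f := by
    rw [← mul_assoc, ← add_mul, hc, one_mul]
  rw [this]
  exact add_mem ((m ^ 2).mul_mem_left _ h0) (pow_two m ▸ Ideal.mul_mem_mul hμ hfm)

end Groth.Agent.S18790
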