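import Groth.Statements.S18791
import Groth.Agent.Misc15.MGraded

set_option autoImplicit false
universe u v w x
open TorusGr

namespace Groth.Agent.S18791

/-- Let `φ : B → A` be a degree-preserving homomorphism of commutative algebras over a field `k` graded
by an additive commutative group `M` (for `M` the character group of a split torus, an equivariant
morphism `Spec A → Spec B`), and let `m` be a maximal ideal of `A` containing all homogeneous
elements of non-zero degree (a fixed point). Then the ideal of those `b` whose image is zero in the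
local ring `A_m` is homogeneous: the homogeneous (weight) components of such a `b` again die in
`A_m`. Since `A_m` embeds in its completion when `A` is Noetherian, these are the elements of `B`
that die in the completed local ring. (The published lemma asserts moreover that, for `B = k[Y_1, …,
Y_d]` mapping the `Y_i` to semi-invariant lifts of a basis of `m/m²`, the kernel of the induced
surjection of completions `k[[Y]] → Â_m` is generated by semi-invariant polynomials; generation of
that kernel by polynomials can fail, so only the statement about polynomial elements of the kernel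
is recorded here. The published statement has `M ≅ ℤ^r` (a split torus) and `B` the polynomial ring
on the lifts; here `M` is any additive commutative group and `B` any `M`-graded `k`-algebra.) -/
theorem result
    {k : Type u} [Field k] {M : Type v} [AddCommGroup M] [DecidableEq M]
    {A : Type w} [CommRing A] [Algebra k A] (𝒜 : M → Submodule k A) [GradedAlgebra 𝒜]
    {B : Type x} [CommRing B] [Algebra k B] (ℬ : M → Submodule k B) [GradedAlgebra ℬ]
    (φ : B →ₐ[k] A) (hφ : ∀ i : M, ∀ b ∈ ℬ i, φ b ∈ 𝒜 i)
    (m : Ideal A) [m.IsMaximal] (hfix : ∀ i : M, i ≠ 0 → ∀ a ∈ 𝒜 i, a ∈ m) :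
    (RingHom.ker ((algebraMap A (Localization.AtPrime m)).comp (φ : B →+* A))).IsHomogeneous ℬ := by
  classical
  intro j b hb
  simp only [RingHom.mem_ker, RingHom.comp_apply, RingHom.coe_coe] at hb ⊢
  obtain ⟨⟨s, hs⟩, hsb⟩ := (IsLocalization.map_eq_zero_iff m.primeCompl _ _).1 hb
  change s * φ b = 0 at hsb
  let Z := (DirectSum.decompose ℬ b).support
  let x : M → Localization.AtPrime m := fun i =>
    algebraMap A _ (φ (Groth.Misc15.MGraded.pr ℬ i b))
  have hxm : ∀ i, φ (Groth.Misc15.MGraded.pr ℬ i b) ∈ 𝒜 i := fun i =>
    hφ i _ (Groth.Misc15.MGraded.pr_mem ℬ i b)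
  set I : Ideal (Localization.AtPrime m) := Ideal.span (Z.image x : Finset _)
  have hxI : ∀ i, x i ∈ I := fun i => by
    by_cases hi : i ∈ Z
    · exact Ideal.subset_span (Finset.mem_coe.2 (Finset.mem_image_of_mem x hi))
    · have : DirectSum.decompose ℬ b i = 0 := DFinsupp.notMem_support_iff.1 hi
      have h0 : Groth.Misc15.MGraded.pr ℬ i b = 0 := by
        show ((DirectSum.decompose ℬ b i : ℬ i) : B) = 0
        rw [this]; rfl
      simp [x, h0]
  have hmem : ∀ i, x i ∈ IsLocalRing.maximalIdeal (Localization.AtPrime m) • I := by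
    intro i
    have h1 : Groth.Misc15.MGraded.pr 𝒜 i (s * φ b) = 0 := by rw [hsb, map_zero]
    rw [Groth.Misc15.MGraded.eq_sum_pr ℬ b, map_sum, Finset.mul_sum, map_sum] at h1
    have h2 : ∀ l ∈ Z, Groth.Misc15.MGraded.pr 𝒜 i (s * φ (Groth.Misc15.MGraded.pr ℬ l b)) =
        Groth.Misc15.MGraded.pr 𝒜 (i - l) s * φ (Groth.Misc15.MGraded.pr ℬ l b) := fun l _ =>
      Groth.Misc15.MGraded.pr_mul_right 𝒜 (hxm l) s i
    rw [Finset.sum_congr rfl h2] at h1
    have h3 := congrArg (algebraMap A (Localization.AtPrime m)) h1
    rw [map_sum, map_zero] at h3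
    simp only [map_mul] at h3
    by_cases hi : i ∈ Z
    · rw [← Finset.add_sum_erase _ _ hi, sub_self] at h3
      have hu : IsUnit (algebraMap A (Localization.AtPrime m) (Groth.Misc15.MGraded.pr 𝒜 0 s)) :=
        IsLocalization.map_units _
          (⟨_, Groth.Misc15.MGraded.pr_zero_notMem 𝒜 m hfix hs⟩ : m.primeCompl)
      rw [← Submodule.smul_mem_iff_of_isUnit _ hu]
      simp only [x, smul_eq_mul]
      rw [eq_neg_of_add_eq_zero_left h3]
      refine neg_mem (sum_mem fun l hl => Submodule.smul_mem_smul ?_ (hxI l))
      refine (IsLocalization.AtPrime.to_map_mem_maximal_iff _ m _).2 (hfix _ ?_ _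
        (Groth.Misc15.MGraded.pr_mem 𝒜 _ s))
      exact sub_ne_zero.2 (Ne.symm (Finset.ne_of_mem_erase hl))
    · have : DirectSum.decompose ℬ b i = 0 := DFinsupp.notMem_support_iff.1 hi
      have h0 : Groth.Misc15.MGraded.pr ℬ i b = 0 := by
        show ((DirectSum.decompose ℬ b i : ℬ i) : B) = 0
        rw [this]; rfl
      simp [x, h0]
  have hbot : I = ⊥ := by
    refine Submodule.eq_bot_of_le_smul_of_le_jacobson_bot _ I (Submodule.fg_span (Finset.finite_toSet _))
      (Submodule.span_le.2 ?_) (IsLocalRing.jacobson_eq_maximalIdeal ⊥ bot_ne_top).ge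
    intro y hy
    rw [Finset.mem_coe, Finset.mem_image] at hy
    obtain ⟨i, -, rfl⟩ := hy
    exact hmem i
  have := hxI j
  rw [hbot, Submodule.mem_bot] at this
  exact this

end Groth.Agent.S18791
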