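import Groth.Statements.S18792

set_option autoImplicit false
universe u
open DefMod

namespace Groth.Agent.S18792

/-- Let A be an associative unital algebra over ℚ, let a ∈ A be nilpotent and let b ∈ A. Then the
commutator map x ↦ a x − x a is a nilpotent ℚ-linear endomorphism of A, and exp(a) b exp(−a) =
exp(ad a)(b), where exp is the finite exponential series of a nilpotent element and ad a is the
commutator map. (The published statement takes A an algebra over an arbitrary commutative ring; the
factorials in the exponential series require the rationals to act, so A is taken to be a ℚ-algebra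
here. The intermediate double-sum expansion printed between the two sides is not restated.) -/
theorem result {A : Type u} [Ring A] [Algebra ℚ A] (a b : A)
    (ha : IsNilpotent a) :
    IsNilpotent (LinearMap.mulLeft ℚ a - LinearMap.mulRight ℚ a) ∧
      IsNilpotent.exp a * b * IsNilpotent.exp (-a) =
        IsNilpotent.exp (LinearMap.mulLeft ℚ a - LinearMap.mulRight ℚ a) b := by
  classical
  set L : A →ₗ[ℚ] A := LinearMap.mulLeft ℚ a with hL
  set R : A →ₗ[ℚ] A := LinearMap.mulRight ℚ a with hR
  obtain ⟨n, hn⟩ := ha
  have hLn : IsNilpotent L := ⟨n, by rw [hL, LinearMap.pow_mulLeft, hn, LinearMap.mulLeft_zero_eq_zero]⟩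
  have hRn : IsNilpotent R := ⟨n, by rw [hR, LinearMap.pow_mulRight, hn, LinearMap.mulRight_zero_eq_zero]⟩
  have hc : Commute L R := by
    ext x; simp [hL, hR, mul_assoc]
  refine ⟨hc.isNilpotent_sub hLn hRn, ?_⟩
  rw [sub_eq_add_neg, IsNilpotent.exp_add_of_commute hc.neg_right hLn hRn.neg]
  have hneg : -R = LinearMap.mulRight ℚ (-a) := by ext x; simp [hR]
  have hna : (-a) ^ n = 0 := by rw [neg_pow, hn, mul_zero]
  have e1 : IsNilpotent.exp L = LinearMap.mulLeft ℚ (IsNilpotent.exp a) := by
    rw [IsNilpotent.exp_eq_sum hn, IsNilpotent.exp_eq_sum (a := L) (k := n) (by rw [hL, LinearMap.pow_mulLeft, hn, LinearMap.mulLeft_zero_eq_zero])]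
    ext x
    simp [hL, LinearMap.pow_mulLeft, Finset.sum_mul]
  have e2 : IsNilpotent.exp (-R) = LinearMap.mulRight ℚ (IsNilpotent.exp (-a)) := by
    rw [hneg, IsNilpotent.exp_eq_sum hna, IsNilpotent.exp_eq_sum (a := LinearMap.mulRight ℚ (-a)) (k := n) (by rw [LinearMap.pow_mulRight, hna, LinearMap.mulRight_zero_eq_zero])]
    ext x
    simp [LinearMap.pow_mulRight, Finset.mul_sum]
  rw [e1, e2]
  simp [Module.End.mul_apply, mul_assoc]

end Groth.Agent.S18792
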