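import Groth.Statements.S18794
import Groth.Agent.ArtfunDeform.BaseChangeHom
import Mathlib.RingTheory.TensorProduct.Free

set_option autoImplicit false
universe u v w
open scoped TensorProduct
open DefMod

namespace Groth.Agent.S18794

/-- Let E be a left module over an associative algebra D over a field K of characteristic zero. For a
field extension L of K, the base change L ⊗_K E is a module over L ⊗_K D, i.e. an L-vector space
with a commuting action of D; call it irreducible when it is nonzero and its only L-subspaces stable
under every element of D are 0 and the whole space. Then E is absolutely irreducible (its base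
change to an algebraic closure of K is irreducible) if and only if L ⊗_K E is irreducible for every
finite extension L of K. (Finite extensions are taken in the universe of K.) -/
theorem result
    {K : Type u} [Field K] [CharZero K]
    {D : Type v} [Ring D] [Algebra K D]
    {E : Type w} [AddCommGroup E] [Module K E] [Module D E] [IsScalarTower K D E] :
    (Nontrivial (AlgebraicClosure K ⊗[K] E) ∧ ∀ N : Submodule (AlgebraicClosure K) (AlgebraicClosure K ⊗[K] E), (∀ (d : D) (x : AlgebraicClosure K ⊗[K] E), x ∈ N → (DistribSMul.toLinearMap K E d).baseChange (AlgebraicClosure K) x ∈ N) → N = ⊥ ∨ N = ⊤) ↔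
      ∀ (L : Type u) [Field L] [Algebra K L] [FiniteDimensional K L],
        (Nontrivial (L ⊗[K] E) ∧ ∀ N : Submodule (L) (L ⊗[K] E), (∀ (d : D) (x : L ⊗[K] E), x ∈ N → (DistribSMul.toLinearMap K E d).baseChange (L) x ∈ N) → N = ⊥ ∨ N = ⊤) := by
  classical
  constructor
  · rintro ⟨hnt, hirr⟩ L _ _ _
    let L' := AlgebraicClosure K
    let j : L →ₐ[K] L' := IsAlgClosed.lift
    letI : Algebra L L' := j.toRingHom.toAlgebra
    haveI : IsScalarTower K L L' := IsScalarTower.of_algebraMap_eq fun x => (j.commutes x).symm
    have hnE : Nontrivial E := by
      by_contra h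
      rw [not_nontrivial_iff_subsingleton] at h
      have : Subsingleton (L' ⊗[K] E) := inferInstance
      exact not_subsingleton (L' ⊗[K] E) this
    let b := Module.Free.chooseBasis K E
    refine ⟨?_, fun N hN => ?_⟩
    · obtain ⟨i⟩ := b.index_nonempty
      exact ⟨(1 : L) ⊗ₜ b i, 0, fun h => by
        have := congrArg (fun z => (Algebra.TensorProduct.basis L b).repr z i) h
        simp at this⟩
    let ι : L ⊗[K] E →ₗ[K] L' ⊗[K] E := LinearMap.rTensor E j.toLinearMap
    have hι : ∀ (c : L) y, ι (c • y) = j c • ι y := fun c y => by
      induction y using TensorProduct.induction_on with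
      | zero => simp
      | tmul a e => simp [ι, TensorProduct.smul_tmul', smul_eq_mul]
      | add x y hx hy => rw [smul_add, map_add, hx, hy, map_add, smul_add]
    have hιd : ∀ (d : D) y, ι ((DistribSMul.toLinearMap K E d).baseChange L y) =
        (DistribSMul.toLinearMap K E d).baseChange L' (ι y) := fun d y => by
      induction y using TensorProduct.induction_on with
      | zero => simp
      | tmul a e => simp [ι]
      | add x y hx hy => simp only [map_add, hx, hy]
    have hιinj : Function.Injective ι := Module.Flat.rTensor_preserves_injective_linearMap _ j.toRingHom.injective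
    let N' : Submodule L' (L' ⊗[K] E) := Submodule.span L' (ι '' (N : Set (L ⊗[K] E)))
    have hst : ∀ (d : D) x, x ∈ N' → (DistribSMul.toLinearMap K E d).baseChange L' x ∈ N' := by
      intro d x hx
      induction hx using Submodule.span_induction with
      | mem x hx =>
        obtain ⟨y, hy, rfl⟩ := hx
        rw [← hιd]
        exact Submodule.subset_span ⟨_, hN d y hy, rfl⟩
      | zero => simp
      | add a b _ _ ha hb => rw [map_add]; exact add_mem ha hb
      | smul c a _ ha => rw [map_smul]; exact Submodule.smul_mem _ c ha
    rcases hirr N' hst with h | h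
    · left
      rw [eq_bot_iff]
      intro y hy
      have : ι y ∈ N' := Submodule.subset_span ⟨y, hy, rfl⟩
      rw [h, Submodule.mem_bot, ← map_zero ι] at this
      exact hιinj this
    · right
      by_contra hne
      obtain ⟨ℓ, hℓ, hℓN⟩ := Submodule.exists_dual_map_eq_bot_of_lt_top (lt_top_iff_ne_top.2 hne) inferInstance
      let ℓ' : L' ⊗[K] E →ₗ[L'] L' := LinearMap.liftBaseChange L'
        (j.toLinearMap ∘ₗ ℓ.restrictScalars K ∘ₗ TensorProduct.mk K L E 1)
      have hℓ' : ∀ y, ℓ' (ι y) = j (ℓ y) := fun y => by
        induction y using TensorProduct.induction_on with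
        | zero => simp
        | tmul a e =>
          simp only [ι, ℓ', LinearMap.rTensor_tmul, LinearMap.liftBaseChange_tmul, LinearMap.comp_apply,
            AlgHom.toLinearMap_apply, LinearMap.restrictScalars_apply, TensorProduct.mk_apply, smul_eq_mul]
          rw [← map_mul, ← smul_eq_mul, ← map_smul, TensorProduct.smul_tmul', smul_eq_mul, mul_one]
        | add x y hx hy => simp only [map_add, hx, hy]
      have h0 : ∀ z ∈ N', ℓ' z = 0 := by
        intro z hz
        induction hz using Submodule.span_induction with
        | mem x hx =>
          obtain ⟨y, hy, rfl⟩ := hx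
          have : ℓ y ∈ N.map ℓ := ⟨y, hy, rfl⟩
          rw [hℓN, Submodule.mem_bot] at this
          rw [hℓ', this, map_zero]
        | zero => simp
        | add a b _ _ ha hb => rw [map_add, ha, hb, add_zero]
        | smul c a _ ha => rw [map_smul, ha, smul_zero]
      refine hℓ (LinearMap.ext fun y => ?_)
      have h1 := h0 (ι y) (h ▸ Submodule.mem_top)
      rw [hℓ'] at h1
      exact j.toRingHom.injective (h1.trans (map_zero j.toRingHom).symm)
  · intro H
    let L' := AlgebraicClosure K
    haveI hnE : Nontrivial E := by
      by_contra h
      rw [not_nontrivial_iff_subsingleton] at h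
      have := (H K).1
      have : Subsingleton (K ⊗[K] E) := inferInstance
      exact not_subsingleton (K ⊗[K] E) this
    let b := Module.Free.chooseBasis K E
    refine ⟨?_, fun N hN => ?_⟩
    · obtain ⟨i⟩ := b.index_nonempty
      exact ⟨(1 : L') ⊗ₜ b i, 0, fun h => by
        have := congrArg (fun z => (Algebra.TensorProduct.basis L' b).repr z i) h
        simp at this⟩
    rcases eq_or_ne N ⊥ with h | h
    · exact Or.inl h
    right
    obtain ⟨x, hx, hx0⟩ := N.exists_mem_ne_zero_of_ne_bot h
    obtain ⟨S, hS⟩ := TensorProduct.exists_finset x
    let M : IntermediateField K L' := IntermediateField.adjoin K (↑(S.image Prod.fst) : Set L')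
    haveI : FiniteDimensional K M := IntermediateField.finiteDimensional_adjoin fun y _ =>
      Algebra.IsIntegral.isIntegral y
    let ι : M ⊗[K] E →ₗ[K] L' ⊗[K] E := LinearMap.rTensor E M.val.toLinearMap
    have hι : ∀ (c : M) y, ι (c • y) = (c : L') • ι y := fun c y => by
      induction y using TensorProduct.induction_on with
      | zero => simp
      | tmul a e => simp [ι, TensorProduct.smul_tmul', smul_eq_mul]
      | add x y hx hy => rw [smul_add, map_add, hx, hy, map_add, smul_add]
    let N₀ : Submodule M (M ⊗[K] E) :=
      { carrier := {y | ι y ∈ N}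
        add_mem' := fun {a b} ha hb => by
          change ι (a + b) ∈ N
          rw [map_add]; exact add_mem ha hb
        zero_mem' := by
          change ι 0 ∈ N
          rw [map_zero]; exact zero_mem _
        smul_mem' := fun c y hy => by
          change ι (c • y) ∈ N
          rw [hι]; exact N.smul_mem _ hy }
    have hιd : ∀ (d : D) y, ι ((DistribSMul.toLinearMap K E d).baseChange M y) =
        (DistribSMul.toLinearMap K E d).baseChange L' (ι y) := fun d y => by
      induction y using TensorProduct.induction_on with
      | zero => simp
      | tmul a e => simp [ι]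
      | add x y hx hy => simp only [map_add, hx, hy]
    obtain ⟨x₀, hx₀⟩ : x ∈ LinearMap.range ι := by
      rw [hS]
      refine Submodule.sum_mem _ fun p hp => ?_
      exact ⟨(⟨p.1, IntermediateField.subset_adjoin K _ (Finset.mem_image.2 ⟨p, hp, rfl⟩)⟩ : M) ⊗ₜ p.2, rfl⟩
    rcases (H M).2 N₀ (fun d y hy => show ι _ ∈ N by rw [hιd]; exact hN d _ hy) with h0 | h0
    · exfalso
      have : x₀ ∈ N₀ := show ι x₀ ∈ N from hx₀ ▸ hx
      rw [h0, Submodule.mem_bot] at this
      exact hx0 (by rw [← hx₀, this, map_zero])
    · rw [eq_top_iff]
      rintro z -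
      induction z using TensorProduct.induction_on with
      | zero => exact zero_mem _
      | tmul a e =>
        have h1 : ι ((1 : M) ⊗ₜ e) ∈ N := (h0.ge Submodule.mem_top : (1 : M) ⊗ₜ e ∈ N₀)
        simpa [ι, TensorProduct.smul_tmul', smul_eq_mul] using N.smul_mem a h1
      | add x y hx hy => exact add_mem hx hy

end Groth.Agent.S18794
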