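import Groth.Statements.S18795
import Groth.Agent.ArtfunDeform.BaseChangeHom

set_option autoImplicit false
universe u v w
open scoped TensorProduct
open DefMod

namespace Groth.Agent.S18795

/-- Let E be a left module over an associative algebra D over a field K of characteristic zero. Assume
that the D-linear endomorphisms of E form a finite-dimensional K-vector space, that E has a finite
presentation over D, and that E is absolutely irreducible: its base change K̄ ⊗_K E to an algebraic
closure K̄ of K is nonzero and its only K̄-subspaces stable under every element of D are 0 and the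
whole space. Then End_D(E) = K: every D-linear endomorphism of E is multiplication by a scalar from
K. -/
theorem result
    {K : Type u} [Field K] [CharZero K]
    {D : Type v} [Ring D] [Algebra K D]
    {E : Type w} [AddCommGroup E] [Module K E] [Module D E] [IsScalarTower K D E]
    [Module.Finite K (E →ₗ[D] E)] [Module.FinitePresentation D E]
    (habs : (Nontrivial (AlgebraicClosure K ⊗[K] E) ∧ ∀ N : Submodule (AlgebraicClosure K) (AlgebraicClosure K ⊗[K] E), (∀ (d : D) (x : AlgebraicClosure K ⊗[K] E), x ∈ N → (DistribSMul.toLinearMap K E d).baseChange (AlgebraicClosure K) x ∈ N) → N = ⊥ ∨ N = ⊤))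
    (φ : E →ₗ[D] E) : ∃ c : K, ∀ x : E, φ x = c • x := by
  classical
  let L := AlgebraicClosure K
  obtain ⟨hnt, hirr⟩ := habs
  haveI : Module.Finite D E := inferInstance
  let Φ : L ⊗[K] (E →ₗ[D] E) →ₗ[L] (L ⊗[K] E →ₗ[L] L ⊗[K] E) :=
    LinearMap.liftBaseChange L
      { toFun := fun f : E →ₗ[D] E => (f.restrictScalars K).baseChange L
        map_add' := fun f g => TensorProduct.AlgebraTensorModule.ext fun p e => by simp [TensorProduct.tmul_add]
        map_smul' := fun c f => TensorProduct.AlgebraTensorModule.ext fun p e => by simp }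
  have hΦ : ∀ (p : L) (f : E →ₗ[D] E), Φ (p ⊗ₜ[K] f) = p • (f.restrictScalars K).baseChange L :=
    fun p f => LinearMap.liftBaseChange_tmul _ _ p f
  obtain ⟨hinj, hrange⟩ := Groth.ArtfunDeform.baseChange_hom_injective_and_range L Φ hΦ
  have hid : Φ ((1 : L) ⊗ₜ LinearMap.id) = LinearMap.id := by
    rw [hΦ, one_smul]
    exact TensorProduct.AlgebraTensorModule.ext fun p e => by simp
  have hscalar := Groth.ArtfunDeform.exists_scalar_of_irreducible (fun d => (DistribSMul.toLinearMap K E d).baseChange L)
    (fun N hN => hirr N hN) (LinearMap.range Φ) ⟨_, hid⟩ (fun g hg => (hrange g).1 hg) (fun g hg h hh => (hrange _).2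
      fun d => by rw [LinearMap.comp_assoc, (hrange h).1 hh d, ← LinearMap.comp_assoc, (hrange g).1 hg d, LinearMap.comp_assoc])
  haveI : Nontrivial E := by
    by_contra h
    rw [not_nontrivial_iff_subsingleton] at h
    have : Subsingleton (L ⊗[K] E) := inferInstance
    exact not_subsingleton (L ⊗[K] E) this
  have hle : Module.finrank K (E →ₗ[D] E) ≤ 1 := by
    rw [← Module.finrank_baseChange (R := L), ← LinearMap.finrank_range_of_inj hinj]
    refine (Submodule.finrank_mono (show LinearMap.range Φ ≤ Submodule.span L {LinearMap.id} from fun g hg => ?_)).trans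
      ((finrank_span_le_card _).trans (by simp))
    obtain ⟨c, rfl⟩ := hscalar g hg
    exact Submodule.smul_mem _ c (Submodule.subset_span rfl)
  obtain ⟨v, hv⟩ := finrank_le_one_iff.1 hle
  obtain ⟨c₀, hc₀⟩ := hv LinearMap.id
  obtain ⟨c₁, hc₁⟩ := hv φ
  have hc₀0 : c₀ ≠ 0 := fun h => by
    obtain ⟨y, hy⟩ := exists_ne (0 : E)
    rw [h, zero_smul] at hc₀
    exact hy (LinearMap.congr_fun hc₀ y).symm
  refine ⟨c₁ * c₀⁻¹, fun x => ?_⟩
  rw [← hc₁, LinearMap.smul_apply, mul_smul]
  conv_rhs => rw [← LinearMap.id_apply (R := D) x, ← hc₀, LinearMap.smul_apply, inv_smul_smul₀ hc₀0]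

end Groth.Agent.S18795
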