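import Groth.Statements.S18796
import Groth.Agent.ArtfunDeform.BaseChangeHom

set_option autoImplicit false
universe u v w w' u'
open scoped TensorProduct
open DefMod

namespace Groth.Agent.S18796

/-- Let K be a field of characteristic zero, D an associative K-algebra, E a left D-module that is
finitely presented over D, F a left D-module and P a commutative K-algebra. The canonical P-linear
map Φ : P ⊗_K Hom_D(E, F) → Hom_P(P ⊗_K E, P ⊗_K F), determined by p ⊗ f ↦ p · (1_P ⊗ f), is
injective, and its image consists exactly of the P-linear maps that commute with the action of every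
element of D; in other words Φ identifies P ⊗_K Hom_D(E, F) with the module of homomorphisms P ⊗_K E
→ P ⊗_K F over P ⊗_K D. The map Φ is pinned here by its values on pure tensors. -/
theorem result
    {K : Type u} [Field K] [CharZero K]
    {D : Type v} [Ring D] [Algebra K D]
    {E : Type w} [AddCommGroup E] [Module K E] [Module D E] [IsScalarTower K D E]
    [Module.FinitePresentation D E]
    {F : Type w'} [AddCommGroup F] [Module K F] [Module D F] [IsScalarTower K D F]
    (P : Type u') [CommRing P] [Algebra K P]
    (Φ : P ⊗[K] (E →ₗ[D] F) →ₗ[P] (P ⊗[K] E →ₗ[P] P ⊗[K] F))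
    (hΦ : ∀ (p : P) (f : E →ₗ[D] F), Φ (p ⊗ₜ[K] f) = p • (f.restrictScalars K).baseChange P) :
    Function.Injective Φ ∧
      ∀ g : P ⊗[K] E →ₗ[P] P ⊗[K] F,
        g ∈ LinearMap.range Φ ↔
          ∀ d : D, g ∘ₗ (DistribSMul.toLinearMap K E d).baseChange P =
            (DistribSMul.toLinearMap K F d).baseChange P ∘ₗ g := by
  exact Groth.ArtfunDeform.baseChange_hom_injective_and_range P Φ hΦ

end Groth.Agent.S18796
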