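import Groth.Statements.S18798
import Groth.Agent.ArtfunDeform.Smooth2

set_option autoImplicit false
universe u v
open CategoryTheory
open scoped TensorProduct
open ArtFun

namespace Groth.Agent.S18798

/-- In the case of set-valued deformation functors, let k be a field of characteristic zero and φ : F →
G a morphism of set-valued deformation functors on Artinian local k-algebras with residue field k
(each of F(k), G(k) is a single point and F, G satisfy (RS): bijectivity of the comparison map for
fibre-product squares A₁ ×_A A₂ with A₂ → A surjective). Let V, W be obstruction theories for F, G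
in the vector-space form (obstruction classes in V ⊗ J for surjections with kernel J annihilated by
the maximal ideal, vanishing exactly when the element lifts), and let γ : V → W be an injective
k-linear map compatible with φ on small extensions: the obstruction of φ(x) along a small extension
p equals (γ ⊗ 1) applied to the obstruction of x along p. If the tangent map F(k[ε]) → G(k[ε]) is
surjective, then φ is smooth. (The published statement is for deformation categories cofibred in
groupoids with obstruction spaces defined on small extensions only; it is rendered here for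
set-valued functors with obstruction theories defined on all surjections whose kernel is annihilated
by the maximal ideal, the compatibility being required on small extensions only.) -/
theorem result
    {k : Type u} [Field k] [CharZero k]
    {F G : ArtFun.Art k k ⥤ Type v} (φ : F ⟶ G)
    (hF0 : ArtFun.H0 F) (hFrs : (∀ ⦃B A A' A'' : ArtFun.Art k k⦄ (p' : B ⟶ A') (p'' : B ⟶ A'') (f' : A' ⟶ A) (f'' : A'' ⟶ A)
        (h : ArtFun.Art.IsFibreProd p' p'' f' f''), Function.Surjective f'' → Function.Bijective (ArtFun.cmp F h)))
    (hG0 : ArtFun.H0 G) (hGrs : (∀ ⦃B A A' A'' : ArtFun.Art k k⦄ (p' : B ⟶ A') (p'' : B ⟶ A'') (f' : A' ⟶ A) (f'' : A'' ⟶ A)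
        (h : ArtFun.Art.IsFibreProd p' p'' f' f''), Function.Surjective f'' → Function.Bijective (ArtFun.cmp G h)))
    {V W : Type u} [AddCommGroup V] [Module k V] [AddCommGroup W] [Module k W]
    (oF : ArtFun.ObsTheory F V) (oG : ArtFun.ObsTheory G W)
    (γ : V →ₗ[k] W) (hγ : Function.Injective γ)
    (hcompat : ∀ ⦃C' C : ArtFun.Art k k⦄ (p : C' ⟶ C) (hp : ArtFun.Art.IsSmallExt p) (x : F.obj C),
      oG.obs p hp.isSemismallExt (φ.app C x) = LinearMap.rTensor _ γ (oF.obs p hp.isSemismallExt x))
    (hT : Function.Surjective (ArtFun.TangentSpace.map φ)) :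
    ArtFun.IsSmooth φ := by
  refine Groth.ArtfunDeform.isSmooth_of_criterion φ hF0.2 ?_ ?_ ?_ hT fun B A μ hμ x ⟨y, hy⟩ => ?_
  · exact fun B A' p' p'' h => hFrs p' p'' _ _ h (fun c =>
      ⟨algebraMap k (ArtFun.Art.dual k k) c, (ArtFun.Art.dual k k).res.commutes c⟩)
  · exact fun B A A' A'' p' p'' f' f'' h hf => (hGrs p' p'' f' f'' h hf.1).2
  · exact fun B A' p' p'' h => hGrs p' p'' _ _ h (fun c =>
      ⟨algebraMap k (ArtFun.Art.dual k k) c, (ArtFun.Art.dual k k).res.commutes c⟩)
  · refine (oF.obs_eq_zero_iff μ hμ.isSemismallExt x).1 ?_
    refine (map_eq_zero_iff _ (Module.Flat.rTensor_preserves_injective_linearMap γ hγ)).1 ?_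
    rw [← hcompat μ hμ x]
    exact (oG.obs_eq_zero_iff μ hμ.isSemismallExt _).2 ⟨y, hy⟩

end Groth.Agent.S18798
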