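import Groth.Statements.S18802
import Groth.Agent.ArtfunDeform.BaseChangeHom

set_option autoImplicit false
universe u v w w' w''
open DefMod

namespace Groth.Agent.S18802

/-- Let K be a field of characteristic zero, D an associative K-algebra and E, F left D-modules. A
K-linear map s : D → Hom_K(E, F) with s(ab)(e) = a s(b)(e) + s(a)(b e) (a derivation into the
bimodule Hom_K(E, F), i.e. a Hochschild 1-cocycle) defines the twisted sum F ⊕_s E = F × E with a ·
(f, e) = (a f + s(a) e, a e), an extension of E by F. Every extension of left D-modules 0 → F → Q →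
E → 0 arises this way: there are such an s and a D-linear isomorphism Q ≅ F ⊕_s E carrying the given
map F → Q to the inclusion f ↦ (f, 0) and compatible with the two projections onto E. (Together with
the splitting criterion this identifies derivations modulo principal derivations with Ext¹_D(E, F);
the compatibility of that identification with addition and scalars is not restated.) -/
theorem result
    {K : Type u} [Field K] [CharZero K]
    {D : Type v} [Ring D] [Algebra K D]
    {E : Type w} [AddCommGroup E] [Module K E] [Module D E] [IsScalarTower K D E]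
    {F : Type w'} [AddCommGroup F] [Module K F] [Module D F] [IsScalarTower K D F]
    {Q : Type w''} [AddCommGroup Q] [Module D Q]
    (i : F →ₗ[D] Q) (p : Q →ₗ[D] E) (hi : Function.Injective i) (hp : Function.Surjective p)
    (hex : Function.Exact i p) :
    ∃ (s : D →ₗ[K] E →ₗ[K] F) (hs : W4c6defoisocp1.IsHomDerivation s) (Φ : Q ≃ₗ[D] W4c6defoisocp1.TwistExt s hs),
      (∀ f : F, Φ (i f) = W4c6defoisocp1.TwistExt.inl f) ∧ ∀ q : Q, W4c6defoisocp1.TwistExt.snd (Φ q) = p q := by
  classical
  letI : Module K Q := Module.compHom Q (algebraMap K D)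
  haveI : IsScalarTower K D Q := ⟨fun c d q => by
    change (c • d) • q = algebraMap K D c • (d • q)
    rw [Algebra.smul_def, mul_smul]⟩
  let pK : Q →ₗ[K] E := p.restrictScalars K
  obtain ⟨σ, hσ⟩ := pK.exists_rightInverse_of_surjective (LinearMap.range_eq_top.2 hp)
  have hσ' : ∀ e, p (σ e) = e := fun e => LinearMap.congr_fun hσ e
  have hex' : ∀ q, p q = 0 → ∃ f, i f = q := fun q h => (hex q).1 h
  have hmem : ∀ (a : D) (e : E), p (a • σ e - σ (a • e)) = 0 := fun a e => by
    rw [map_sub, map_smul, hσ', hσ', sub_self]
  choose s₀ hs₀ using fun a e => hex' _ (hmem a e)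
  let s : D →ₗ[K] E →ₗ[K] F :=
    LinearMap.mk₂ K s₀
      (fun a a' e => hi (by rw [map_add, hs₀, hs₀, hs₀, add_smul, add_smul, map_add]; abel))
      (fun c a e => hi (by rw [LinearMap.map_smul_of_tower i, hs₀, hs₀, smul_assoc, smul_assoc, map_smul, smul_sub]))
      (fun a e e' => hi (by rw [map_add, hs₀, hs₀, hs₀, map_add, smul_add, smul_add, map_add]; abel))
      (fun c a e => hi (by
        rw [LinearMap.map_smul_of_tower i, hs₀, hs₀, map_smul, smul_sub, smul_comm a c e, map_smul,
          ← algebraMap_smul D c (σ e), ← algebraMap_smul D c (a • σ e), ← mul_smul, ← Algebra.commutes, mul_smul]))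
  have hs : W4c6defoisocp1.IsHomDerivation s := fun a b e => hi (by
    change i (s₀ (a * b) e) = i (a • s₀ b e + s₀ a (b • e))
    rw [map_add, map_smul, hs₀, hs₀, hs₀, smul_sub, mul_smul, mul_smul]
    abel)
  have hr : ∀ q, p (q - σ (p q)) = 0 := fun q => by rw [map_sub, hσ', sub_self]
  choose r hr' using fun q => hex' _ (hr q)
  let Φ₀ : Q →ₗ[D] W4c6defoisocp1.TwistExt s hs :=
    { toFun := fun q => W4c6defoisocp1.TwistExt.mk (r q, p q)
      map_add' := fun x y => W4c6defoisocp1.TwistExt.ext
        (hi (by simp only [W4c6defoisocp1.TwistExt.val_mk, W4c6defoisocp1.TwistExt.val_add, Prod.fst_add, map_add, hr']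
                abel))
        (map_add p x y)
      map_smul' := fun a q => W4c6defoisocp1.TwistExt.ext
        (hi (by
          change i (r (a • q)) = i (a • r q + s₀ a (p q))
          rw [map_add, map_smul, hr', hr', hs₀, map_smul, smul_sub]
          abel))
        (map_smul p a q) }
  refine ⟨s, hs, LinearEquiv.ofBijective Φ₀ ⟨fun x y h => ?_, fun z => ?_⟩, fun f => ?_, fun q => rfl⟩
  · have h1 : r x = r y := congrArg (fun t => (W4c6defoisocp1.TwistExt.val t).1) h
    have h2 : p x = p y := congrArg (fun t => (W4c6defoisocp1.TwistExt.val t).2) h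
    rw [← sub_add_cancel x (σ (p x)), ← hr', h1, hr', h2, sub_add_cancel]
  · refine ⟨i (W4c6defoisocp1.TwistExt.val z).1 + σ (W4c6defoisocp1.TwistExt.val z).2, W4c6defoisocp1.TwistExt.ext (hi ?_) ?_⟩
    · change i (r _) = _
      rw [hr', map_add, hσ', hex.apply_apply_eq_zero, zero_add, add_sub_cancel_right]
    · change p _ = _
      rw [map_add, hσ', hex.apply_apply_eq_zero, zero_add]
  · refine W4c6defoisocp1.TwistExt.ext (hi ?_) (hex.apply_apply_eq_zero f)
    change i (r (i f)) = i f
    rw [hr', hex.apply_apply_eq_zero, map_zero, sub_zero]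

end Groth.Agent.S18802
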