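import Groth.Statements.S18803
import Groth.Agent.ArtfunDeform.BaseChangeHom

set_option autoImplicit false
universe u v w w'
open DefMod

namespace Groth.Agent.S18803

/-- Let K be a field of characteristic zero, D an associative K-algebra, E and F left D-modules, and s :
D → Hom_K(E, F) a K-linear map with s(ab)(e) = a s(b)(e) + s(a)(b e). The twisted sum F ⊕_s E (that
is F × E with a · (f, e) = (a f + s(a) e, a e)) is a trivial extension of E by F — there is a
D-linear isomorphism F ⊕_s E ≅ F × E with the direct-sum module structure, carrying the inclusion f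
↦ (f, 0) to itself and compatible with the second projections — if and only if s is principal:
s(a)(e) = a σ(e) − σ(a e) for some K-linear σ : E → F (a Hochschild 1-coboundary). -/
theorem result
    {K : Type u} [Field K] [CharZero K]
    {D : Type v} [Ring D] [Algebra K D]
    {E : Type w} [AddCommGroup E] [Module K E] [Module D E] [IsScalarTower K D E]
    {F : Type w'} [AddCommGroup F] [Module K F] [Module D F] [IsScalarTower K D F]
    (s : D →ₗ[K] E →ₗ[K] F) (hs : W4c6defoisocp1.IsHomDerivation s) :
    (∃ Ψ : W4c6defoisocp1.TwistExt s hs ≃ₗ[D] F × E,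
        (∀ f : F, Ψ (W4c6defoisocp1.TwistExt.inl f) = (f, 0)) ∧ ∀ x : W4c6defoisocp1.TwistExt s hs, (Ψ x).2 = W4c6defoisocp1.TwistExt.snd x) ↔
      W4c6defoisocp1.IsPrincipal s := by
  constructor
  · rintro ⟨Ψ, h1, h2⟩
    let m : E → W4c6defoisocp1.TwistExt s hs := fun e => W4c6defoisocp1.TwistExt.mk (0, e)
    have hm : ∀ (a : D) (e : E), a • m e = W4c6defoisocp1.TwistExt.inl (s a e) + m (a • e) := fun a e =>
      W4c6defoisocp1.TwistExt.ext (by simp [m]) (by simp [m])
    have hc : ∀ (c : K) (e : E), m (c • e) = algebraMap K D c • m e := fun c e => by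
      rw [hm, algebraMap_smul, Algebra.algebraMap_eq_smul_one, map_smul,
        W4c6defoisocp1.TwistExt.map_one_eq_zero hs, smul_zero, LinearMap.zero_apply, map_zero, zero_add]
    refine ⟨{ toFun := fun e => (Ψ (m e)).1
              map_add' := fun x y => by
                rw [← Prod.fst_add, ← map_add]
                exact congrArg (fun t => (Ψ t).1) (W4c6defoisocp1.TwistExt.ext (by simp [m]) (by simp [m]))
              map_smul' := fun c e => by
                rw [RingHom.id_apply, hc, map_smul, Prod.smul_fst, algebraMap_smul] }, fun a e => ?_⟩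
    have h := congrArg (fun t => (Ψ t).1) (hm a e)
    simp only [map_smul, Prod.smul_fst, map_add, Prod.fst_add, h1] at h
    exact eq_sub_of_add_eq h.symm
  · rintro ⟨σ, hσ⟩
    let Ψ : W4c6defoisocp1.TwistExt s hs →ₗ[D] F × E :=
      { toFun := fun x => ((W4c6defoisocp1.TwistExt.val x).1 + σ (W4c6defoisocp1.TwistExt.val x).2, (W4c6defoisocp1.TwistExt.val x).2)
        map_add' := fun x y => Prod.ext (by simp only [W4c6defoisocp1.TwistExt.val_add, Prod.fst_add, Prod.snd_add, map_add]; abel) rfl
        map_smul' := fun a x => Prod.ext (by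
          simp only [W4c6defoisocp1.TwistExt.val_smul, RingHom.id_apply, Prod.smul_fst, hσ, smul_add]
          abel) rfl }
    refine ⟨LinearEquiv.ofBijective Ψ ⟨fun x y h => ?_, fun z =>
      ⟨W4c6defoisocp1.TwistExt.mk (z.1 - σ z.2, z.2), Prod.ext (sub_add_cancel _ _) rfl⟩⟩, fun f => ?_, fun x => rfl⟩
    · have h2 : (W4c6defoisocp1.TwistExt.val x).2 = (W4c6defoisocp1.TwistExt.val y).2 := (congrArg Prod.snd h : (Ψ x).2 = (Ψ y).2)
      have h1 := congrArg Prod.fst h
      refine W4c6defoisocp1.TwistExt.ext ?_ h2
      change _ + σ _ = _ + σ _ at h1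
      rw [h2] at h1
      exact add_right_cancel h1
    · exact Prod.ext (by simp [Ψ]) rfl

end Groth.Agent.S18803
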