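import Groth.Statements.S18805
import Groth.Agent.VBCurves.ColengthTwist
import Groth.Agent.CurveBridge.LinSeriesExists
import Groth.Agent.CurveBridge.Canonical
import Groth.Agent.CurveBridge.RegularSmooth
import Groth.Agent.CurveBridge.SmoothCurve

set_option autoImplicit false
universe u
open CategoryTheory CategoryTheory.Limits AlgebraicGeometry
open Curves

open Groth.CurveBridge

namespace Groth.Agent.S18805

/-- `h⁰(M) = h⁰(ω ⊗ I) + 5 - g` for `M` inverse to a colength four ideal `I`. -/
theorem numerics (k : Type u) [Field k] [IsAlgClosed k]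
    (X : Scheme.{u}) [X.Over (Spec (CommRingCat.of k))] [IsIntegral X]
    [IsProper (X ↘ Spec (CommRingCat.of k))] [Smooth (X ↘ Spec (CommRingCat.of k))]
    (hdim : topologicalKrullDim X = 1) (I : X.IdealSheafData)
    (hI4 : Module.finrank k (Coh.HH X (ClSub.quotMod I) 0) = 4) :
    PicF.IsInvertible (ClSub.idealMod I) ∧
    Module.finrank k (Coh.HH X (Omega.sheaf (X ↘ Spec (CommRingCat.of k))) 0) = Curv2.genus k X ∧
    ∀ (M : X.Modules), ClSub.IsInverseOf (ClSub.idealMod I) M →
      (Module.finrank k (Coh.HH X M 0) : ℤ) + Curv2.genus k X = 5 +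
        Module.finrank k (Coh.HH X (CohB1.tensorMod (Omega.sheaf (X ↘ Spec (CommRingCat.of k)))
          (ClSub.idealMod I)) 0) := by
  have hc := Groth.VBCurves.IsVBCurve.of_smooth (X := X) k hdim
  have h := isRegCurve_of_smooth k X hdim
  have hK := isFunctionField (k := k) (X := X) hdim
  have hF := isFF k X hdim
  have h0O : Module.finrank k (Coh.HH X (Coh.structureModule X) 0) = 1 := finrank_h0_structure h hK
  have hI := Groth.VBCurves.ColengthTwist.isInvertible_idealMod hc h0O I (by omega)
  have hd := Groth.VBCurves.ColengthTwist.deg_idealMod hc hI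
  have hΩ := isInvertible_omega (k := k) (X := X) hK
  obtain ⟨φ, C, hφ, hlC, hdC, -⟩ := exists_divEmb h hK hΩ
  obtain ⟨hn0, -, hnd⟩ := omega_numerics (k := k) (X := X) h
  have hC := isCanonical_of_numerics h hK hlC hdC hn0 hnd
  refine ⟨hI, hn0, fun M hM => ?_⟩
  obtain ⟨eM⟩ := id hM
  have hMi : PicF.IsInvertible M := Groth.PicAux.isInvertible_of_isInverseOf hI hM
  obtain ⟨χ, A, hχ, -, hdA, -⟩ := exists_divEmb h hK hI
  obtain ⟨ψ, E, hψ, hlE, hdE, -⟩ := exists_divEmb h hK hMi
  obtain ⟨ρ, hρ⟩ := exists_divEmb_tensor h hI hMi hχ hψ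
  obtain ⟨τ, hτ⟩ := exists_divEmb_tensor h hΩ hI hφ hχ
  obtain ⟨nl, nd, -⟩ := numerics_of_divEmb h hK (Groth.PicAux.isInvertible_tensorMod hI hMi) hρ
  rw [Groth.EulerDeg.finrank_congr (k := k) eM 0, h0O] at nl
  rw [Groth.EulerDeg.deg_congr (k := k) eM 1, Groth.EulerDeg.deg_structure] at nd
  obtain ⟨x, hx, hxE⟩ := Groth.FunFld1.exists_eq_neg_div hK (D := A + E) (fun hb => by
    unfold FunFld.ell at nl
    rw [hb, finrank_bot] at nl
    omega) nd.symm
  have e : C + A = C - E + FunFld.div k x⁻¹ := by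
    have hA : A = -E - FunFld.div k x := by
      rw [eq_sub_iff_add_eq, eq_neg_iff_add_eq_zero, ← hxE]
      abel
    rw [hF.div_inv, hA]
    abel
  rw [(numerics_of_divEmb h hK (Groth.PicAux.isInvertible_tensorMod hΩ hI) hτ).1, e,
    hF.ell_add_div _ (inv_ne_zero hx), hlE, genus_eq h hK]
  have hrr := Groth.FunFld1.riemann_roch hK hC E
  have hdE' : E.deg = 4 := by
    rw [Groth.FunFld1.deg_add, ← hdA, hd, hI4] at nd
    omega
  rw [hdE'] at hrr
  omega

/-- Let k be an algebraically closed field of characteristic zero and X a smooth proper integral curve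
over k (integral, proper and smooth over k, of dimension one), with sheaf of differentials ω =
Ω_(X/k). Then ω is 3-very ample, meaning dim_k H^0(X, ω ⊗ I) + 4 = dim_k H^0(X, ω) for every
quasi-coherent ideal I of O_X with dim_k H^0(X, O_X/I) = 4, if and only if X carries no g^1_4,
meaning that for every such I (the ideal of an effective divisor D of degree 4) every module M with
I ⊗ M ≅ O_X (so M plays the role of O_X(D)) has dim_k H^0(X, M) = 1. -/
theorem result
    (k : Type u) [Field k] [IsAlgClosed k] [CharZero k]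
    (X : Scheme.{u}) [X.Over (Spec (CommRingCat.of k))] [IsIntegral X]
    [IsProper (X ↘ Spec (CommRingCat.of k))] [Smooth (X ↘ Spec (CommRingCat.of k))]
    (hdim : topologicalKrullDim X = 1) :
    (∀ (I : X.IdealSheafData), Module.finrank k (Coh.HH X (ClSub.quotMod I) 0) = 4 →
      Module.finrank k (Coh.HH X (CohB1.tensorMod (Omega.sheaf (X ↘ Spec (CommRingCat.of k))) (ClSub.idealMod I)) 0) + 4 =
        Module.finrank k (Coh.HH X (Omega.sheaf (X ↘ Spec (CommRingCat.of k))) 0)) ↔
    (∀ (I : X.IdealSheafData), Module.finrank k (Coh.HH X (ClSub.quotMod I) 0) = 4 →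
      ∀ (M : X.Modules), ClSub.IsInverseOf (ClSub.idealMod I) M →
        Module.finrank k (Coh.HH X M 0) = 1) := by
  constructor
  · intro H I hI4 M hM
    obtain ⟨-, hn0, hnum⟩ := numerics k X hdim I hI4
    have := hnum M hM
    have := H I hI4
    omega
  · intro H I hI4
    obtain ⟨hI, hn0, hnum⟩ := numerics k X hdim I hI4
    obtain ⟨M, -, hM⟩ := Groth.PicAux.exists_isInverseOf hI
    have := hnum M hM
    have := H I hI4 M hM
    omega

end Groth.Agent.S18805
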