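import Groth.Statements.S18806
import Groth.Agent.Hopf.Push

set_option autoImplicit false
universe u v v' w w' x
open TensorProduct
open HopfRep

namespace Groth.Agent.S18806

/-- Let k be a field, i : C → D an injective morphism of k-coalgebras and V a right D-comodule with
coaction ρ : V → V ⊗ D. If ρ(v) lies in the image of V ⊗ C → V ⊗ D (induced by i) for every v, then
V comes from a C-comodule: there is a C-comodule structure on V whose coaction, followed by V ⊗ C →
V ⊗ D, is ρ. (The source states this for left comodules over the coordinate bialgebras of an affine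
monoid scheme over k and of its group of units, assumed open and schematically dense, and uses that
assumption only through the injectivity of the restriction map of coordinate rings; the row is the
right-comodule mirror image for any injective coalgebra map. The converse direction is immediate.) -/
theorem result (k : Type u) [Field k]
    (C : Type v) [AddCommGroup C] [Module k C] [Coalgebra k C]
    (D : Type v') [AddCommGroup D] [Module k D] [Coalgebra k D]
    (i : C →ₗc[k] D) (hi : Function.Injective i)
    (V : Type w) [AddCommGroup V] [Module k V] [HopfRep.Comod k D V]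
    (h : ∀ v : V, HopfRep.Comod.coact (k := k) (A := D) v ∈ LinearMap.range ((i : C →ₗ[k] D).lTensor V)) :
    ∃ c : HopfRep.Comod k C V,
      (i : C →ₗ[k] D).lTensor V ∘ₗ c.coact = HopfRep.Comod.coact (k := k) (A := D) := by
  classical
  let ρ := HopfRep.Comod.coact (k := k) (A := D) (V := V)
  obtain ⟨g, hg⟩ := (i : C →ₗ[k] D).exists_leftInverse_of_injective (LinearMap.ker_eq_bot.2 hi)
  have hV : Function.Injective ((i : C →ₗ[k] D).lTensor V) :=
    Module.Flat.lTensor_preserves_injective_linearMap _ hi
  have hVV : Function.Injective ((TensorProduct.map (i : C →ₗ[k] D) (i : C →ₗ[k] D)).lTensor V) := by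
    refine Module.Flat.lTensor_preserves_injective_linearMap _ ?_
    refine Function.LeftInverse.injective (g := TensorProduct.map g g) fun z => ?_
    rw [← LinearMap.comp_apply, ← TensorProduct.map_comp, hg, TensorProduct.map_id, LinearMap.id_apply]
  let c := g.lTensor V ∘ₗ ρ
  have hc : (i : C →ₗ[k] D).lTensor V ∘ₗ c = ρ := by
    refine LinearMap.ext fun v => ?_
    obtain ⟨y, hy⟩ := h v
    simp only [c, ρ, LinearMap.comp_apply, ← hy]
    rw [← LinearMap.comp_apply (f := g.lTensor V), ← LinearMap.lTensor_comp, hg, LinearMap.lTensor_id,
      LinearMap.id_apply]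
  refine ⟨{ coact := c, coassoc := LinearMap.ext fun x => hVV ?_, counit_comp := ?_ }, hc⟩
  · have e1 : ∀ z : V ⊗[k] C, TensorProduct.assoc k V D D
        (ρ.rTensor D ((i : C →ₗ[k] D).lTensor V z)) =
        (TensorProduct.map (i : C →ₗ[k] D) (i : C →ₗ[k] D)).lTensor V
          (TensorProduct.assoc k V C C (c.rTensor C z)) := by
      intro z
      induction z using TensorProduct.induction_on with
      | zero => simp
      | tmul a b =>
        rw [LinearMap.lTensor_tmul, LinearMap.rTensor_tmul, LinearMap.rTensor_tmul, ← hc,
          LinearMap.comp_apply]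
        induction c a using TensorProduct.induction_on with
        | zero => simp
        | tmul p q => simp
        | add p q hp hq => simp only [map_add, TensorProduct.add_tmul, hp, hq]
      | add p q hp hq => simp only [map_add, hp, hq]
    have h2 := LinearMap.congr_fun (HopfRep.Comod.coassoc (k := k) (A := D) (V := V)) x
    simp only [LinearMap.comp_apply, LinearEquiv.coe_coe] at h2 ⊢
    rw [← e1, ← LinearMap.comp_apply (f := (i : C →ₗ[k] D).lTensor V) (g := c), hc]
    refine h2.trans ?_
    change (Coalgebra.comul (R := k) (A := D)).lTensor V (ρ x) = _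
    conv_lhs => rw [← hc]
    rw [LinearMap.comp_apply, ← LinearMap.comp_apply (f := (TensorProduct.map _ _).lTensor V),
      ← LinearMap.lTensor_comp,
      ← LinearMap.comp_apply (f := (Coalgebra.comul (R := k) (A := D)).lTensor V), ← LinearMap.lTensor_comp]
    exact (LinearMap.congr_fun (congrArg (LinearMap.lTensor V) i.map_comp_comul) (c x)).symm
  · rw [← HopfRep.Comod.counit_comp (k := k) (A := D) (V := V)]
    change _ = _ ∘ₗ ρ
    conv_rhs => rw [← hc]
    conv_rhs => rw [← LinearMap.comp_assoc, ← LinearMap.lTensor_comp]
    exact congrArg (fun f => f.lTensor V ∘ₗ c) i.counit_comp.symm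

end Groth.Agent.S18806
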