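import Groth.Statements.S1881
import Mathlib
import Groth.Agent.GitQuot.GrpdInvAffine
-- import your own Groth.Agent.* helpers here

set_option autoImplicit false
universe u
open CategoryTheory CategoryTheory.Limits AlgebraicGeometry
open Grpd

namespace Groth.Agent.S1881

/-- Let (U, R, s, t, c) be a groupoid scheme over S with s, t finite locally free, and u a point of U
for which some affine open of U contains t(s⁻¹{u}). Then u has an R-invariant affine open
neighbourhood W (that is, s⁻¹W = t⁻¹W). (A groupoid scheme carries U, R, s, t, c, e, i over S with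
the groupoid axioms on T-points; 'finite locally free' is finite, flat and locally of finite
presentation; C ⊂ Γ(U) is the ring of functions a with s♯(a) = t♯(a) and M = Spec C.) -/
theorem result (S : Scheme.{u}) (G : Grpd.GroupoidScheme S) [IsFinite G.s] [Flat G.s] [LocallyOfFinitePresentation G.s] [IsFinite G.t] [Flat G.t] [LocallyOfFinitePresentation G.t] (u : G.U) (V : G.U.Opens) (hV : IsAffineOpen V) (huV : ∀ r : G.R, G.s r = u → G.t r ∈ V) : ∃ W : G.U.Opens, IsAffineOpen W ∧ u ∈ W ∧ G.s ⁻¹ᵁ W = G.t ⁻¹ᵁ W := by
  obtain ⟨W, h1, h2, -, h3⟩ := Groth.GrpdBasic.exists_invariant_affineOpen G u V hV huV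
  exact ⟨W, h1, h2, h3⟩

end Groth.Agent.S1881
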