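import Groth.Statements.S18810
import Groth.Agent.Hopf.Regular

set_option autoImplicit false
universe u v v' w w' x
open TensorProduct
open HopfRep

namespace Groth.Agent.S18810

/-- Let k be a field, C a k-coalgebra, V a right C-comodule and (S_j) a family of simple C-comodules
which are pairwise non-isomorphic (for j ≠ j' no k-linear isomorphism S_j ≃ S_j' commutes with the
coactions). For each j let V[j] be the isotypic component of type S_j: the sum of the images of all
comodule maps S_j → V (equivalently of all simple subcomodules of V isomorphic to S_j, a nonzero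
such map being injective). Then the family j ↦ V[j] is independent, so that the socle of V is the
direct sum of its isotypic components. (The source states this for representations of an affine
monoid scheme over k, i.e. left comodules over its coordinate bialgebra; the row is the
right-comodule form over any coalgebra.) -/
theorem result (k : Type u) [Field k]
    (C : Type v) [AddCommGroup C] [Module k C] [Coalgebra k C]
    (V : Type w) [AddCommGroup V] [Module k V] [HopfRep.Comod k C V]
    {ι : Type x} (S : ι → Type w') [∀ j, AddCommGroup (S j)] [∀ j, Module k (S j)]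
    [∀ j, HopfRep.Comod k C (S j)] (hS : ∀ j, HopfRep.IsSimpleComod k C (S j))
    (hne : ∀ j j', j ≠ j' → ∀ e : S j ≃ₗ[k] S j', ¬ Hoch.IsComodHom C (e : S j →ₗ[k] S j')) :
    iSupIndep (fun j => ⨆ f : {f : S j →ₗ[k] V // Hoch.IsComodHom C f}, LinearMap.range f.1) := by
  classical
  rw [iSupIndep_def]
  intro j
  rw [disjoint_iff]
  by_contra hbot
  have hC : ∀ j', HopfRep.IsSubcomod (k := k) (A := C)
      (⨆ f : {f : S j' →ₗ[k] V // Hoch.IsComodHom C f}, LinearMap.range f.1) := fun j' =>
    ComodLib.isSubcomod_iSup _ fun f => ComodLib.isSubcomod_range f.2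
  obtain ⟨T, hT, hTle, hTs, -⟩ := ComodLib.exists_simpleSub_le (k := k) (A := C)
    (ComodLib.isSubcomod_inf (hC j) (ComodLib.isSubcomod_iSup _ fun j' =>
      ComodLib.isSubcomod_iSup _ fun _ => hC j')) hbot
  let c : HopfRep.Comod k C V := inferInstance
  let d := ComodSub.Comod.restr c T hT
  have hTsim : @HopfRep.IsSimpleComod k C _ _ _ _ T _ _ d := ComodLib.isSimpleComod_restr c T hT hTs
  have hsub : @Hoch.IsComodHom k _ C _ _ _ T _ _ d V _ _ c T.subtype := ComodSub.isComodHom_subtype c T hT
  have hne0 : T.subtype ≠ 0 := fun e => hTs.1 (by rw [← Submodule.range_subtype T, e, LinearMap.range_zero])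
  obtain ⟨_, e, he⟩ := @ComodLib.exists_iso_of_le_sum k _ C _ _ _ V _ _ c
    {f : S j →ₗ[k] V // Hoch.IsComodHom C f} (fun _ => S j) _ _ _ T _ _ d (fun _ => hS j) (fun f => f.1)
    (fun f => f.2) hTsim T.subtype hsub (by rw [Submodule.range_subtype]; exact hTle.trans inf_le_left) hne0
  let ι' := Σ j' : {j' // j' ≠ j}, {f : S j'.1 →ₗ[k] V // Hoch.IsComodHom C f}
  obtain ⟨⟨⟨j', hj'⟩, _⟩, e', he'⟩ := @ComodLib.exists_iso_of_le_sum k _ C _ _ _ V _ _ c
    ι' (fun p => S p.1.1) _ _ _ T _ _ d (fun p => hS p.1.1) (fun p => p.2.1)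
    (fun p => p.2.2) hTsim T.subtype hsub (by
      rw [Submodule.range_subtype]
      refine (hTle.trans inf_le_right).trans (iSup₂_le fun j' hj' => iSup_le fun f => ?_)
      exact le_iSup_of_le (⟨⟨j', hj'⟩, f⟩ : ι') le_rfl) hne0
  let := d
  exact hne j' j hj' (e'.symm.trans e) (ComodLib.isComodHom_comp he (ComodLib.isComodHom_symm he'))

end Groth.Agent.S18810
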