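import Groth.Statements.S18811
import Mathlib

set_option autoImplicit false
universe u
open CategoryTheory CategoryTheory.Limits AlgebraicGeometry
open Variety

namespace Groth.Agent.S18811

/-- Let k be a field and X, Y quasi-compact k-schemes whose diagonal morphisms over k are affine
(semi-separated; for instance X and Y separated over k). Then the canonical map Γ(X, O_X) ⊗_k Γ(Y,
O_Y) → Γ(X ×_k Y, O) is an isomorphism: the commutative square of rings of global sections formed by
Spec k, X, Y and X ×_k Y with the pullback maps along the structure morphisms and the two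
projections is a pushout square of commutative rings. -/
theorem result (k : Type u) [Field k]
    (X : Scheme.{u}) [X.Over (Spec (CommRingCat.of k))] [CompactSpace ↥X]
    [IsAffineHom (pullback.diagonal (X ↘ (Spec (CommRingCat.of k))))]
    (Y : Scheme.{u}) [Y.Over (Spec (CommRingCat.of k))] [CompactSpace ↥Y]
    [IsAffineHom (pullback.diagonal (Y ↘ (Spec (CommRingCat.of k))))] :
    IsPushout (X ↘ (Spec (CommRingCat.of k))).appTop (Y ↘ (Spec (CommRingCat.of k))).appTop
      (pullback.fst (X ↘ (Spec (CommRingCat.of k))) (Y ↘ (Spec (CommRingCat.of k)))).appTop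
      (pullback.snd (X ↘ (Spec (CommRingCat.of k))) (Y ↘ (Spec (CommRingCat.of k)))).appTop := by
  set qX := X ↘ (Spec (CommRingCat.of k))
  set qY := Y ↘ (Spec (CommRingCat.of k))
  have : QuasiSeparated qX := ⟨inferInstance⟩
  have : QuasiSeparated qY := ⟨inferInstance⟩
  have : QuasiSeparatedSpace X := (HasAffineProperty.iff_of_isAffine (P := @QuasiSeparated) (f := qX)).1 inferInstance
  have : QuasiSeparatedSpace Y := (HasAffineProperty.iff_of_isAffine (P := @QuasiSeparated) (f := qY)).1 inferInstance
  have hF : IsField Γ(Spec (CommRingCat.of k), ⊤) :=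
    (Scheme.ΓSpecIso (CommRingCat.of k)).commRingCatIsoToRingEquiv.toMulEquiv.isField (Field.toIsField k)
  have hflat : ∀ {A : CommRingCat.{u}} (φ : Γ(Spec (CommRingCat.of k), ⊤) ⟶ A), φ.hom.Flat := by
    intro A φ
    letI := hF.toField
    letI := φ.hom.toAlgebra
    show Module.Flat _ _
    infer_instance
  have H := IsPullback.of_hasPullback qX qY
  have : Flat qY := by
    rw [HasRingHomProperty.iff_of_source_openCover (P := @Flat) Y.affineCover]
    intro i
    exact hflat _
  have h1 := isIso_pushoutSection_of_isCompact_of_flat_right_of_ringHomFlat H (US := ⊤) (UT := ⊤) (UX := ⊤)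
    (hUST := le_top) (hUSX := le_top) (UY := ⊤) (hUY := (inf_idem ⊤).symm)
    (isAffineOpen_top _) isCompact_univ isQuasiSeparated_univ isCompact_univ isQuasiSeparated_univ (hflat _)
  have h2 := (isIso_pushoutSection_iff H _ _ _).1 h1
  simp only [Scheme.Hom.appLE, homOfLE_leOfHom] at h2
  simpa using h2

end Groth.Agent.S18811
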