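import Groth.Statements.S18813
import Groth.Agent.Hopf.BaseChange

set_option autoImplicit false
universe u
open scoped TensorProduct
open HopfRep

namespace Groth.Agent.S18813

open Groth
open scoped TensorProduct

/-- Let k be a field, K a field extension of k and A a commutative Hopf algebra over k, the coordinate
ring of an affine group scheme G (no finiteness assumed). Then G is linearly reductive (every
finite-dimensional A-comodule is semisimple) if and only if the base change G_K is (every
finite-dimensional comodule over the K-Hopf algebra K ⊗_k A is semisimple). (The source phrases both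
sides as semisimplicity of all representations, which over a field is equivalent to semisimplicity
of the finite-dimensional ones since every comodule is the union of its finite-dimensional
subcomodules.) -/
theorem result (k K A : Type u) [Field k] [Field K]
    [Algebra k K] [CommRing A] [HopfAlgebra k A] :
    HopfRep.IsLinearlyReductive k A ↔ HopfRep.IsLinearlyReductive K (K ⊗[k] A) := by
  rw [ComodLib.isLinearlyReductive_iff_integral, ComodLib.isLinearlyReductive_iff_integral]
  constructor
  · rintro ⟨α, hα, h1⟩
    let r : K ⊗[k] k ≃ₗ[K] K := TensorProduct.AlgebraTensorModule.rid k K K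
    refine ⟨r.toLinearMap ∘ₗ α.baseChange K, ?_, ?_⟩
    · refine TensorProduct.AlgebraTensorModule.ext fun s a => ?_
      let F := r.toLinearMap ∘ₗ α.baseChange K
      change F (s ⊗ₜ[k] a) ⊗ₜ[K] (1 : K ⊗[k] A) =
        F.rTensor (K ⊗[k] A) (Coalgebra.comul (R := K) (s ⊗ₜ[k] a))
      rw [TensorProduct.comul_tmul, show Coalgebra.comul (R := K) s = (1 : K) ⊗ₜ[K] s from rfl]
      have e : ∀ z : A ⊗[k] A, F.rTensor (K ⊗[k] A) (TensorProduct.AlgebraTensorModule.tensorTensorTensorComm
            k K k K K K A A (((1 : K) ⊗ₜ[K] s) ⊗ₜ[k] z)) =
          (1 : K) ⊗ₜ[K] (s ⊗ₜ[k] TensorProduct.lid k A (α.rTensor A z)) := by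
        intro z
        induction z using TensorProduct.induction_on with
        | zero => simp
        | tmul p q =>
          simp only [TensorProduct.AlgebraTensorModule.tensorTensorTensorComm_tmul, LinearMap.rTensor_tmul,
            TensorProduct.lid_tmul]
          rw [TensorProduct.tmul_smul, algebra_compatible_smul K, ← TensorProduct.smul_tmul]
          congr 1
          simp [F, r, Algebra.smul_def]
        | add p q hp hq => simp only [map_add, TensorProduct.tmul_add, hp, hq]
      rw [e, show α.rTensor A (Coalgebra.comul (R := k) a) = α a ⊗ₜ[k] (1 : A) from (LinearMap.congr_fun hα a).symm,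
        TensorProduct.lid_tmul, Algebra.TensorProduct.one_def, TensorProduct.tmul_smul, algebra_compatible_smul K,
        ← TensorProduct.smul_tmul, show s ⊗ₜ[k] (1 : A) = s • ((1 : K) ⊗ₜ[k] (1 : A)) by
          rw [TensorProduct.smul_tmul', smul_eq_mul, mul_one], ← TensorProduct.smul_tmul]
      congr 1
      simp [F, r, Algebra.smul_def]
      ring
    · simp [r, Algebra.TensorProduct.one_def, h1]
  · rintro ⟨αK, hαK, h1⟩
    obtain ⟨r, hr⟩ := (Algebra.linearMap k K).exists_leftInverse_of_injective
      (LinearMap.ker_eq_bot.2 (algebraMap k K).injective)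
    have hr1 : r 1 = 1 := by simpa using LinearMap.congr_fun hr 1
    let i : A →ₗ[k] K ⊗[k] A := TensorProduct.mk k K A 1
    let α : A →ₗ[k] k := r ∘ₗ αK.restrictScalars k ∘ₗ i
    refine ⟨α, LinearMap.ext fun a => ?_, ?_⟩
    · have h : αK ((1 : K) ⊗ₜ[k] a) ⊗ₜ[K] (1 : K ⊗[k] A) =
          αK.rTensor (K ⊗[k] A) (Coalgebra.comul (R := K) ((1 : K) ⊗ₜ[k] a)) := LinearMap.congr_fun hαK _
      have h' := congrArg (fun z => TensorProduct.lid k A (r.rTensor A (TensorProduct.lid K (K ⊗[k] A) z))) h
      simp only [TensorProduct.lid_tmul] at h'
      apply (TensorProduct.lid k A).injective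
      change TensorProduct.lid k A (α a ⊗ₜ[k] (1 : A)) =
        TensorProduct.lid k A (α.rTensor A (Coalgebra.comul (R := k) a))
      rw [TensorProduct.lid_tmul]
      rw [TensorProduct.comul_tmul, show Coalgebra.comul (R := K) (1 : K) = (1 : K) ⊗ₜ[K] (1 : K) from rfl,
        Algebra.TensorProduct.one_def, TensorProduct.smul_tmul', smul_eq_mul, mul_one, LinearMap.rTensor_tmul,
        TensorProduct.lid_tmul] at h'
      refine h'.trans ?_
      generalize Coalgebra.comul (R := k) a = w
      induction w using TensorProduct.induction_on with
      | zero => simp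
      | tmul p q =>
        simp [α, i, TensorProduct.AlgebraTensorModule.tensorTensorTensorComm_tmul, TensorProduct.smul_tmul']
      | add p q hp hq => simp only [map_add, TensorProduct.tmul_add, hp, hq]
    · change r (αK ((1 : K) ⊗ₜ[k] (1 : A))) = 1
      rw [← Algebra.TensorProduct.one_def, h1, hr1]

end Groth.Agent.S18813
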