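import Groth.Statements.S18814
import Groth.Agent.Hopf.Comod

set_option autoImplicit false
universe u v v' w w'
open TensorProduct
open HopfRep

namespace Groth.Agent.S18814

open Groth
open scoped TensorProduct

/-- Let k be a field, C and D commutative bialgebras over k (coordinate rings of affine monoid schemes M
and N) and V a k-vector space carrying a right C-comodule structure with coaction ρ_C : V → V ⊗ C
and a right D-comodule structure with coaction ρ_D : V → V ⊗ D which commute: (ρ_C ⊗ id_D) ∘ ρ_D and
(ρ_D ⊗ id_C) ∘ ρ_C agree in V ⊗ C ⊗ D after reassociating and swapping the last two factors (the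
actions of M and N on V commute). Assume V is semisimple as a D-comodule. Then for every simple
D-comodule S the isotypic component of V of type S, the sum of the images of all D-comodule maps S →
V, is a C-subcomodule of V. (The source works with left comodules; this is the right-comodule form.) -/
theorem result (k : Type u) [Field k]
    (C : Type v) [CommRing C] [Bialgebra k C] (D : Type v') [CommRing D] [Bialgebra k D]
    (V : Type w) [AddCommGroup V] [Module k V] [HopfRep.Comod k C V] [HopfRep.Comod k D V]
    (hcomm : (TensorProduct.assoc k V C D).toLinearMap ∘ₗ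
        (HopfRep.Comod.coact (k := k) (A := C) (V := V)).rTensor D ∘ₗ HopfRep.Comod.coact (k := k) (A := D) =
      (TensorProduct.comm k D C).toLinearMap.lTensor V ∘ₗ (TensorProduct.assoc k V D C).toLinearMap ∘ₗ
        (HopfRep.Comod.coact (k := k) (A := D) (V := V)).rTensor C ∘ₗ HopfRep.Comod.coact (k := k) (A := C))
    (hV : HopfRep.IsSemisimpleComod k D V)
    (S : Type w') [AddCommGroup S] [Module k S] [HopfRep.Comod k D S] (hS : HopfRep.IsSimpleComod k D S) :
    HopfRep.IsSubcomod (k := k) (A := C)
      (⨆ f : {f : S →ₗ[k] V // Hoch.IsComodHom D f}, LinearMap.range f.1) := by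
  refine (ComodLib.isSubcomod_iff _).2 fun φ => ?_
  have hcom : ∀ ψ : D →ₗ[k] k, ∀ v : V,
      ComodLib.op (A := C) φ (ComodLib.op (A := D) ψ v) = ComodLib.op (A := D) ψ (ComodLib.op (A := C) φ v) := by
    intro ψ v
    have h := LinearMap.congr_fun hcomm v
    simp only [LinearMap.comp_apply, LinearEquiv.coe_coe] at h
    rw [ComodLib.op_apply, ComodLib.op_apply, ← ComodLib.slice_rTensor]
    conv_rhs => rw [ComodLib.op_apply, ComodLib.op_apply, ← ComodLib.slice_rTensor]
    have key : ∀ (z : (V ⊗[k] C) ⊗[k] D) (z' : (V ⊗[k] D) ⊗[k] C),
        (TensorProduct.assoc k V C D) z =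
          (TensorProduct.comm k D C).toLinearMap.lTensor V ((TensorProduct.assoc k V D C) z') →
        ComodLib.slice φ (ComodLib.slice ψ z) = ComodLib.slice ψ (ComodLib.slice φ z') := by
      intro z z' he
      have e1 : ∀ z : (V ⊗[k] C) ⊗[k] D, ComodLib.slice φ (ComodLib.slice ψ z) =
          ComodLib.slice (LinearMap.mul' k k ∘ₗ TensorProduct.map φ ψ) (TensorProduct.assoc k V C D z) := by
        intro z
        induction z using TensorProduct.induction_on with
        | zero => simp
        | add p q hp hq => simp only [map_add, hp, hq]
        | tmul a b =>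
          induction a using TensorProduct.induction_on with
          | zero => simp
          | tmul p q => simp [smul_smul, mul_comm]
          | add x y hx hy => simp only [TensorProduct.add_tmul, map_add, hx, hy]
      rw [e1, he]
      clear he
      induction z' using TensorProduct.induction_on with
      | zero => simp
      | add p q hp hq => simp only [map_add, hp, hq]
      | tmul a b =>
        induction a using TensorProduct.induction_on with
        | zero => simp
        | tmul p q => simp [smul_smul]
        | add x y hx hy => simp only [TensorProduct.add_tmul, map_add, hx, hy]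
    have := key _ _ h
    rw [ComodLib.slice_rTensor, ComodLib.slice_rTensor] at this
    rw [ComodLib.slice_rTensor, ComodLib.slice_rTensor]
    exact this
  change (⨆ f : {f : S →ₗ[k] V // Hoch.IsComodHom D f}, LinearMap.range f.1) ≤
    Submodule.comap (ComodLib.op (A := C) φ) (⨆ f : {f : S →ₗ[k] V // Hoch.IsComodHom D f}, LinearMap.range f.1)
  refine iSup_le fun f => ?_
  rintro _ ⟨s, rfl⟩
  refine Submodule.mem_iSup_of_mem ⟨ComodLib.op (A := C) φ ∘ₗ f.1, (ComodLib.isComodHom_iff _).2 fun ψ x => ?_⟩ ⟨s, rfl⟩
  simp only [LinearMap.comp_apply]
  rw [ComodLib.isComodHom_op f.2, hcom]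

end Groth.Agent.S18814
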