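import Groth.Statements.S18817
import Groth.Agent.AlgGrp1.Basic
import Groth.Agent.AlgGrp1.Antiaffine
import Groth.Agent.AlgGrp1.GenericFlat
import Groth.Agent.GrpschAbsch.Basic
import Groth.Agent.FlatMor2.FlatComp
import Groth.Agent.Variety2.DimFiber
import Groth.Agent.FibreDim.Composition
import Mathlib.AlgebraicGeometry.Morphisms.FlatMono
-- import your own Groth.Agent.* helpers here

set_option autoImplicit false
universe u
open CategoryTheory MonoidalCategory CartesianMonoidalCategory MonObj AlgebraicGeometry
open AlgGrp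

namespace Groth.Agent.S18817


/-- Homeomorphisms of schemes preserve coheights. -/
lemma coheight_eq_of_homeomorph {A B : Scheme.{u}} (e : A ≃ₜ B) (a : A) :
    Order.coheight (e a) = Order.coheight a := by
  refine Order.coheight_orderIso ({ toEquiv := e.toEquiv, map_rel_iff' := ?_ } : A ≃o B) a
  intro x y
  show e y ⤳ e x ↔ y ⤳ x
  exact e.isEmbedding.toIsInducing.specializes_iff

/-- A morphism from a reduced scheme with image in an immersed subscheme factors through it. -/
lemma exists_factor_immersion {S : Scheme.{u}} {T Z X : Over S} (c : Z ⟶ X) [IsImmersion c.left]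
    [IsReduced T.left] (f : T ⟶ X) (h : Set.range f.left.base ⊆ Set.range c.left.base) :
    ∃ z : T ⟶ Z, z ≫ c = f := by
  have hsurj : Surjective (Limits.pullback.fst f.left c.left) := ⟨fun t => by
    have : t ∈ Set.range (Limits.pullback.fst f.left c.left).base := by
      rw [Scheme.Pullback.range_fst]; exact h ⟨t, rfl⟩
    exact this⟩
  have : IsClosedImmersion (Limits.pullback.fst f.left c.left) :=
    IsClosedImmersion.of_isPreimmersion _ (by
      rw [Set.range_eq_univ.2 hsurj.surj]; exact isClosed_univ)
  have := isIso_of_isClosedImmersion_of_surjective (Limits.pullback.fst f.left c.left)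
  refine ⟨Over.homMk (inv (Limits.pullback.fst f.left c.left) ≫ Limits.pullback.snd f.left c.left) ?_, ?_⟩
  · rw [← Over.w c, Category.assoc, ← Limits.pullback.condition_assoc, IsIso.inv_hom_id_assoc, Over.w f]
  · ext
    simp [← Limits.pullback.condition]

/-- A morphism with a one-sided inverse over the base is an immersion. -/
lemma isImmersion_of_section {X Y : Scheme.{u}} (s : X ⟶ Y) (r : Y ⟶ X) (h : s ≫ r = 𝟙 X) :
    IsImmersion s := by
  have : IsImmersion (s ≫ r) := by rw [h]; infer_instance
  exact IsImmersion.of_comp s r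

section Dominance

variable {k : Type u} [Field k] {M : Over (Spec (CommRingCat.of k))} [MonObj M]
  [LocallyOfFiniteType M.hom] [GeometricallyIntegral M.hom]

/-- Over a field-valued point a right inverse is a left inverse, near the unit. -/
lemma mul_eq_one_symm {K : Type u} [Field K] (π : Spec (CommRingCat.of K) ⟶ Spec (CommRingCat.of k))
    (A B : Over.mk π ⟶ M) (h : A * B = 1) (V : M.left.Opens) (hV : IsAffineOpen V)
    (h1 : Set.range (1 : Over.mk π ⟶ M).left.base ⊆ V) (h2 : Set.range (B * A).left.base ⊆ V) :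
    B * A = 1 := by
  let T := Over.mk π
  let f := (fst T M).left
  have : GeometricallyIntegral f :=
    MorphismProperty.of_isPullback (CategoryTheory.IsPullback.of_hasPullback π M.hom).flip
      ‹GeometricallyIntegral M.hom›
  have : IsIntegral T.left := inferInstanceAs (IsIntegral (Spec (CommRingCat.of K)))
  have : Subsingleton T.left := inferInstanceAs (Subsingleton (Spec (CommRingCat.of K)))
  have : IsIntegral (T ⊗ M).left := GeometricallyIntegral.isIntegral_of_subsingleton f
  let f' : (T ⊗ M).left ⟶ Spec (CommRingCat.of K) := f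
  have : LocallyOfFiniteType f' :=
    MorphismProperty.of_isPullback (CategoryTheory.IsPullback.of_hasPullback π M.hom).flip
      ‹LocallyOfFiniteType M.hom›
  let LA : T ⊗ M ⟶ T ⊗ M := lift (fst T M) ((fst T M ≫ A) * snd T M)
  let LB : T ⊗ M ⟶ T ⊗ M := lift (fst T M) ((fst T M ≫ B) * snd T M)
  have hLL : LB ≫ LA = 𝟙 _ := by
    apply CartesianMonoidalCategory.hom_ext
    · simp [LA, LB]
    · simp only [LA, LB, Category.assoc, lift_snd, MonObj.comp_mul, lift_fst_assoc, Category.id_comp]
      rw [← _root_.mul_assoc, ← MonObj.comp_mul, h, MonObj.comp_one, _root_.one_mul]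
  have : IsImmersion LB.left := isImmersion_of_section _ LA.left (by rw [← Over.comp_left, hLL]; rfl)
  have hLBf : LB.left ≫ f' = f' := congrArg Over.Hom.left (lift_fst (fst T M) _)
  let gp := genericPoint (T ⊗ M).left
  have hgp : LB.left gp = gp := by
    have hh := Groth.Variety2.Dim.height_eq_of_isPreimmersion (f := f') f' LB.left hLBf gp
    by_contra hne
    have hlt : LB.left gp < gp := lt_of_le_not_ge
      (Scheme.le_iff_specializes.2 (genericPoint_specializes _))
      fun h' => hne ((Scheme.le_iff_specializes.1 h').antisymm (genericPoint_specializes _)).eq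
    exact (Order.height_strictMono hlt (lt_top_iff_ne_top.2 (Groth.Variety2.Dim.height_ne_top f' _))).ne hh
  let P := B * A
  let p₁ := snd T M
  let p₂ := (fst T M ≫ P) * snd T M
  have hp : LB ≫ p₁ = LB ≫ p₂ := by
    simp only [LB, p₁, p₂, P, MonObj.comp_mul, lift_fst_assoc, lift_snd]
    rw [_root_.mul_assoc (fst T M ≫ B), ← _root_.mul_assoc (fst T M ≫ A), ← MonObj.comp_mul (fst T M) A B, h,
      MonObj.comp_one, _root_.one_mul]
  have hres : (T ⊗ M).left.fromSpecResidueField gp ≫ p₁.left =
      (T ⊗ M).left.fromSpecResidueField gp ≫ p₂.left := by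
    have key : ∀ y, y = LB.left gp → (T ⊗ M).left.fromSpecResidueField y ≫ p₁.left =
        (T ⊗ M).left.fromSpecResidueField y ≫ p₂.left := by
      rintro y rfl
      have hbij : Function.Bijective (LB.left.residueFieldMap gp).hom := by
        refine ⟨(LB.left.residueFieldMap gp).hom.injective, fun c => ?_⟩
        obtain ⟨c, rfl⟩ := (T ⊗ M).left.residue_surjective gp c
        obtain ⟨c', rfl⟩ := LB.left.stalkMap_surjective gp c
        refine ⟨(T ⊗ M).left.residue _ c', ?_⟩
        exact congr(($(Scheme.residue_residueFieldMap LB.left gp)) c')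
      have : IsIso (LB.left.residueFieldMap gp) := (ConcreteCategory.isIso_iff_bijective _).2 hbij
      rw [← cancel_epi (Spec.map (LB.left.residueFieldMap gp)), ← Category.assoc, ← Category.assoc,
        Scheme.Hom.SpecMap_residueFieldMap_fromSpecResidueField, Category.assoc, Category.assoc,
        ← Over.comp_left, ← Over.comp_left, hp]
    exact key gp hgp.symm
  let s : T ⟶ T ⊗ M := lift (𝟙 T) 1
  have hs1 : s ≫ p₁ = 1 := lift_snd _ _
  have hs2 : s ≫ p₂ = P := by
    simp only [s, p₂, MonObj.comp_mul, lift_fst_assoc, lift_snd, Category.id_comp, _root_.mul_one]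
  let N := p₁.left ⁻¹ᵁ V ⊓ p₂.left ⁻¹ᵁ V
  let t₀ : T.left := IsLocalRing.closedPoint K
  have hsN : ∀ t, s.left t ∈ N := fun t => ⟨by
    show p₁.left (s.left t) ∈ V
    rw [← Scheme.Hom.comp_apply, ← Over.comp_left, hs1]
    exact h1 ⟨t, rfl⟩, by
    show p₂.left (s.left t) ∈ V
    rw [← Scheme.Hom.comp_apply, ← Over.comp_left, hs2]
    exact h2 ⟨t, rfl⟩⟩
  have hgpN : gp ∈ N := (genericPoint_specializes (s.left t₀)).mem_open N.2 (hsN t₀)
  have : IsAffine V.toScheme := hV
  let w := IsOpenImmersion.lift N.ι ((T ⊗ M).left.fromSpecResidueField gp) (by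
    rintro _ ⟨x, rfl⟩
    rw [Scheme.Opens.range_ι, Scheme.fromSpecResidueField_apply]
    exact hgpN)
  have hw : w ≫ N.ι = (T ⊗ M).left.fromSpecResidueField gp := IsOpenImmersion.lift_fac _ _ _
  have : IsDominant w := ⟨by
    refine Dense.mono ?_ (dense_iff_closure_eq.2
        (show closure ({⟨gp, hgpN⟩} : Set N.toScheme) = Set.univ from ?_))
    · rintro _ rfl
      let x : Spec ((T ⊗ M).left.residueField gp) := IsLocalRing.closedPoint _
      refine ⟨x, N.ι.isOpenEmbedding.injective ?_⟩
      rw [← Scheme.Hom.comp_apply, hw, Scheme.fromSpecResidueField_apply]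
      rfl
    · refine Set.eq_univ_of_forall fun z => specializes_iff_mem_closure.1 ?_
      rw [← N.ι.isOpenEmbedding.isInducing.specializes_iff]
      exact genericPoint_specializes _⟩
  have : IsReduced N.toScheme := isReduced_of_isOpenImmersion N.ι
  have heq : p₁.left.resLE V N inf_le_left = p₂.left.resLE V N inf_le_right := by
    refine ext_of_isDominant_of_isSeparated (V.ι ≫ M.hom) ?_ w ?_
    · rw [Scheme.Hom.resLE_comp_ι_assoc, Scheme.Hom.resLE_comp_ι_assoc, Over.w p₁, Over.w p₂]
    · rw [← cancel_mono V.ι, Category.assoc, Category.assoc, Scheme.Hom.resLE_comp_ι,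
        Scheme.Hom.resLE_comp_ι, ← Category.assoc, ← Category.assoc, hw, hres]
  let s' := IsOpenImmersion.lift N.ι s.left (by
    rintro _ ⟨t, rfl⟩
    rw [Scheme.Opens.range_ι]
    exact hsN t)
  have hs' : s' ≫ N.ι = s.left := IsOpenImmersion.lift_fac _ _ _
  have h3 := congrArg (fun e => s' ≫ e ≫ V.ι) heq
  simp only [Scheme.Hom.resLE_comp_ι] at h3
  rw [← Category.assoc, ← Category.assoc, hs', ← Over.comp_left, ← Over.comp_left, hs1, hs2] at h3
  exact (Over.OverMorphism.ext h3).symm

open Groth.Variety2.Dim in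
/-- The units of a geometrically integral algebraic monoid contain the generic point. -/
lemma exists_point_over_generic (M G : Over (Spec (CommRingCat.of k))) [MonObj M]
    [LocallyOfFiniteType M.hom] [GeometricallyIntegral M.hom] (i : G ⟶ M)
    (hi : ∀ (T : Over (Spec (CommRingCat.of k))) (m : T ⟶ M), (∃ g : T ⟶ G, g ≫ i = m) ↔ IsUnit m)
    [IsIntegral M.left] :
    ∃ g : G.left, i.left g = genericPoint M.left := by
  have := LocallyOfFiniteType.isLocallyNoetherian M.hom
  let one := 𝟙_ (Over (Spec (CommRingCat.of k)))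
  let pt : one.left := IsLocalRing.closedPoint k
  have : Subsingleton one.left := inferInstanceAs (Subsingleton (PrimeSpectrum k))
  have : LocallyOfFiniteType one.hom := inferInstanceAs (LocallyOfFiniteType (𝟙 (Spec (CommRingCat.of k))))
  have hpt : Order.height pt = 0 :=
    Order.height_eq_zero.2 fun y _ => (Subsingleton.elim y pt).ge
  let ε : one ⟶ M ⊗ M := lift η[M] η[M]
  let j : M ⟶ M ⊗ M := lift (toUnit M ≫ η[M]) (𝟙 M)
  let F := fst M M
  let mm := fst M M * snd M M
  let mm' := snd M M * fst M M
  have hone : ∀ {T : Over (Spec (CommRingCat.of k))} (t : T ⟶ one), t ≫ η[M] = 1 := fun t => by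
    rw [Hom.one_def, toUnit_unique t (toUnit _)]
  have hη1 : η[M] = 1 := (Category.id_comp _).symm.trans (hone (𝟙 one))
  have hjmm : j ≫ mm = 𝟙 M := by simp [j, mm, MonObj.comp_mul, hone]
  have hηj : η[M] ≫ j = ε := by
    simp only [j, ε, comp_lift, Category.comp_id]
    rw [hone, MonObj.comp_one, hη1]
  have hMMl : LocallyOfFiniteType (M ⊗ M).hom := by
    have := Groth.GrpschAbsch.fst_left_mem @LocallyOfFiniteType M M inferInstance
    rw [← Over.w (fst M M)]
    infer_instance
  have := LocallyOfFiniteType.isLocallyNoetherian (M ⊗ M).hom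
  have : IsImmersion η[M].left := isImmersion_of_section _ (toUnit M).left (by
    rw [← Over.comp_left, toUnit_unique (η[M] ≫ toUnit _) (𝟙 _)]; rfl)
  have : IsImmersion ε.left := isImmersion_of_section _ (toUnit (M ⊗ M)).left (by
    rw [← Over.comp_left, toUnit_unique (ε ≫ toUnit _) (𝟙 _)]; rfl)
  have : IsImmersion j.left := isImmersion_of_section _ (snd M M).left (by
    rw [← Over.comp_left, lift_snd]; rfl)
  let e : M.left := η[M].left pt
  let r : (M ⊗ M).left := ε.left pt
  have he : Order.height e = 0 :=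
    (height_eq_of_isPreimmersion (f := one.hom) M.hom η[M].left (Over.w _) pt).trans hpt
  have hr : Order.height r = 0 :=
    (height_eq_of_isPreimmersion (f := one.hom) (M ⊗ M).hom ε.left (Over.w _) pt).trans hpt
  have hFr : F.left r = e := by
    show F.left (ε.left pt) = _
    rw [← Scheme.Hom.comp_apply, ← Over.comp_left, lift_fst]
  have hmr : mm.left r = e := by
    show mm.left (ε.left pt) = _
    rw [← Scheme.Hom.comp_apply, ← Over.comp_left, show ε ≫ mm = η[M] by
      simp [ε, mm, MonObj.comp_mul, hη1]]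
  have hmr' : mm'.left r = e := by
    show mm'.left (ε.left pt) = _
    rw [← Scheme.Hom.comp_apply, ← Over.comp_left, show ε ≫ mm' = η[M] by
      simp [ε, mm', MonObj.comp_mul, hη1]]
  have hjF : Set.range j.left = F.left ⁻¹' {e} := by
    ext z
    constructor
    · rintro ⟨w, rfl⟩
      show F.left (j.left w) = e
      rw [← Scheme.Hom.comp_apply, ← Over.comp_left, lift_fst, Over.comp_left, Scheme.Hom.comp_apply]
      exact congrArg _ (Subsingleton.elim _ _)
    · intro hz
      let T : Over (Spec (CommRingCat.of k)) :=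
        Over.mk ((M ⊗ M).left.fromSpecResidueField z ≫ (M ⊗ M).hom)
      let t : T ⟶ M ⊗ M := Over.homMk ((M ⊗ M).left.fromSpecResidueField z) rfl
      have : IsReduced T.left := inferInstanceAs (IsReduced (Spec ((M ⊗ M).left.residueField z)))
      obtain ⟨o, ho⟩ := exists_factor_immersion η[M] (t ≫ F) (by
        rintro _ ⟨x, rfl⟩
        refine ⟨pt, ?_⟩
        rw [Over.comp_left, Scheme.Hom.comp_apply, show t.left x = z from
          Scheme.fromSpecResidueField_apply z x]
        exact hz.symm)
      have hte : t = (t ≫ snd M M) ≫ j := by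
        apply CartesianMonoidalCategory.hom_ext
        · simp only [j, Category.assoc, lift_fst]
          rw [← ho, toUnit_unique o (t ≫ snd M M ≫ toUnit M)]
          simp
        · simp [j]
      let x₀ : T.left := IsLocalRing.closedPoint ((M ⊗ M).left.residueField z)
      refine ⟨(t ≫ snd M M).left x₀, ?_⟩
      rw [← Scheme.Hom.comp_apply, ← Over.comp_left, ← hte]
      exact Scheme.fromSpecResidueField_apply z x₀
  -- dimension count at `r`
  obtain ⟨d, hd⟩ := exists_height_eq M.hom (genericPoint M.left)
  have hce : Order.coheight e = d := by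
    have := coheight_add_height M.hom e
    rw [he, add_zero, hd] at this
    exact this
  have : Flat F.left := Groth.GrpschAbsch.fst_left_mem @Flat M M inferInstance
  have h1 := Groth.FibreDim.ringKrullDim_stalk_eq_add_of_generalizing F.left r
    (Groth.FibreDim.generalizing_of_flat_stalkMap F.left r ((Flat.iff_flat_stalkMap F.left).1 inferInstance r))
  have h2 := Groth.FibreDim.ringKrullDim_stalk_le_add mm.left r
  rw [h1, ringKrullDim_stalk_eq_coheight, ringKrullDim_stalk_eq_coheight,
    ringKrullDim_stalk_eq_coheight, ringKrullDim_stalk_eq_coheight,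
    show Order.coheight (F.left r) = d from by rw [hFr]; exact hce,
    show Order.coheight (mm.left r) = d from by rw [hmr]; exact hce,
    ← WithBot.coe_add, ← WithBot.coe_add, WithBot.coe_le_coe] at h2
  have hfib : Order.coheight (F.left.asFiber r) = d := by
    let φ : F.left.fiber (F.left r) ≃ₜ M.left :=
      ((F.left.fiberHomeo (F.left r)).trans (Homeomorph.setCongr (by rw [hFr, ← hjF]))).trans
        j.left.isEmbedding.toHomeomorph.symm
    rw [← coheight_eq_of_homeomorph φ, show φ (F.left.asFiber r) = e from ?_, hce]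
    apply j.left.isEmbedding.injective
    have h3 : j.left (φ (F.left.asFiber r)) = r := by
      have := congrArg Subtype.val
        (j.left.isEmbedding.toHomeomorph.apply_symm_apply
          ((Homeomorph.setCongr (by rw [hFr, ← hjF])) ((F.left.fiberHomeo (F.left r)) (F.left.asFiber r))))
      exact this.trans (F.left.fiberι_asFiber r)
    rw [h3]
    show ε.left pt = j.left (η[M].left pt)
    rw [← Scheme.Hom.comp_apply, ← Over.comp_left, hηj]
  rw [hfib, ENat.add_le_add_iff_left (ENat.natCast_ne_top d)] at h2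
  obtain ⟨s, hs, hsl⟩ := Order.exists_series_of_le_coheight _ h2
  let ξ := (mm.left.fiberι _).base s.last
  have hsm : StrictMono (mm.left.fiberι (mm.left r)).base := fun a b hab =>
    lt_iff.2 ⟨(lt_iff.1 hab).1.map (mm.left.fiberι _).continuous,
      fun hh => (lt_iff.1 hab).2 ((mm.left.fiberι _).isEmbedding.injective hh)⟩
  have hξd : (d : ℕ∞) ≤ Order.height ξ := by
    rw [← hsl]
    exact (Order.length_le_height_last (p := s)).trans (Order.height_le_height_apply_of_strictMono _ hsm _)
  have hξr : ξ ⤳ r := by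
    have : s.head ≤ s.last := s.head_le_last
    rw [hs] at this
    have := (Scheme.le_iff_specializes.1 this).map (mm.left.fiberι (mm.left r)).continuous
    rwa [Scheme.Hom.fiberι_asFiber] at this
  have hmξ : mm.left ξ = e := by
    have : ξ ∈ Set.range (mm.left.fiberι (mm.left r)).base := ⟨_, rfl⟩
    rw [mm.left.range_fiberι] at this
    exact this.trans hmr
  -- the projection of `ξ` is generic
  obtain ⟨z, hξz, hzr, hzF, hz⟩ :=
    exists_fiber_height_le (M ⊗ M).hom M.hom F.left (Over.w F) hξr
  have hzr' : z = r := by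
    obtain ⟨w, rfl⟩ := hjF.ge (hzF.trans hFr)
    have hw : mm.left (j.left w) = w := by
      rw [← Scheme.Hom.comp_apply, ← Over.comp_left, hjmm]; rfl
    have h4 := hξz.map mm.left.continuous
    have h5 := hzr.map mm.left.continuous
    rw [hmξ, hw] at h4
    rw [hmr, hw] at h5
    rw [(h5.antisymm h4).eq]
    show j.left (η[M].left pt) = ε.left pt
    rw [← Scheme.Hom.comp_apply, ← Over.comp_left, hηj]
  rw [hzr', hr, hFr, he, add_zero, zero_add] at hz
  have hgen : F.left ξ = genericPoint M.left := by
    by_contra hne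
    have hlt : F.left ξ < genericPoint M.left := lt_iff.2 ⟨genericPoint_specializes _, hne⟩
    have := Order.height_strictMono hlt
      (lt_top_iff_ne_top.2 (Groth.Variety2.Dim.height_ne_top M.hom _))
    rw [hd] at this
    exact absurd (hξd.trans hz) (not_le.2 this)
  -- the residue field point is a unit
  let T : Over (Spec (CommRingCat.of k)) :=
    Over.mk ((M ⊗ M).left.fromSpecResidueField ξ ≫ (M ⊗ M).hom)
  let t : T ⟶ M ⊗ M := Over.homMk ((M ⊗ M).left.fromSpecResidueField ξ) rfl
  have htx : ∀ x, t.left x = ξ := Scheme.fromSpecResidueField_apply ξ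
  have : IsReduced T.left := inferInstanceAs (IsReduced (Spec ((M ⊗ M).left.residueField ξ)))
  have hAB : (t ≫ fst M M) * (t ≫ snd M M) = 1 := by
    rw [← MonObj.comp_mul]
    obtain ⟨o, ho⟩ := exists_factor_immersion η[M] (t ≫ mm) (by
      rintro _ ⟨x, rfl⟩
      refine ⟨pt, ?_⟩
      rw [Over.comp_left, Scheme.Hom.comp_apply, htx, hmξ])
    exact ho.symm.trans (hone o)
  obtain ⟨V, hV, heV, -⟩ := exists_isAffineOpen_mem_and_subset (U := ⊤) (Set.mem_univ e)
  have hBA : (t ≫ snd M M) * (t ≫ fst M M) = 1 := by
    refine mul_eq_one_symm _ _ _ hAB V hV ?_ ?_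
    · rintro _ ⟨x, rfl⟩
      rw [Hom.one_def, Over.comp_left, Scheme.Hom.comp_apply]
      have h7 : ∀ p : one.left, η[M].left p ∈ V := fun p => Subsingleton.elim pt p ▸ heV
      exact h7 _
    · rintro _ ⟨x, rfl⟩
      have hh : (t ≫ snd M M) * (t ≫ fst M M) = t ≫ mm' := (MonObj.comp_mul _ _ _).symm
      show ((t ≫ snd M M) * (t ≫ fst M M)).left x ∈ V
      erw [hh, Over.comp_left, Scheme.Hom.comp_apply, htx]
      exact (hξr.map mm'.left.continuous).mem_open V.2 (hmr'.symm ▸ heV)
  obtain ⟨g, hg⟩ := (hi T (t ≫ fst M M)).2 ⟨⟨_, _, hAB, hBA⟩, rfl⟩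
  let x₀ : T.left := IsLocalRing.closedPoint ((M ⊗ M).left.residueField ξ)
  refine ⟨g.left x₀, ?_⟩
  rw [← Scheme.Hom.comp_apply, ← Over.comp_left, hg, Over.comp_left, Scheme.Hom.comp_apply, htx]
  exact hgen

end Dominance

/-- Let k be a field and M an algebraic monoid over k, i.e. a monoid object in k-schemes whose
underlying scheme is of finite type over k, and assume M is geometrically integral. Let i : G → M be
the group of units of M: a monomorphism of k-schemes such that, for every k-scheme T, a T-valued
point of M factors through i if and only if it is invertible in the monoid M(T). Then i is an open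
immersion. -/
theorem result (k : Type u) [Field k]
    (M G : Over (Spec (CommRingCat.of k))) [MonObj M] [LocallyOfFiniteType M.hom] [QuasiCompact M.hom]
    [GeometricallyIntegral M.hom] (i : G ⟶ M) [Mono i]
    (hi : ∀ (T : Over (Spec (CommRingCat.of k))) (m : T ⟶ M), (∃ g : T ⟶ G, g ≫ i = m) ↔ IsUnit m) :
    IsOpenImmersion i.left := by
  have : IsIntegral M.left := GeometricallyIntegral.isIntegral_of_subsingleton M.hom
  have := LocallyOfFiniteType.isLocallyNoetherian M.hom
  have := Groth.AlgGrp1.quasiSeparated_of_locallyOfFiniteType M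
  have : CompactSpace M.left := QuasiCompact.compactSpace_of_compactSpace M.hom
  have : AlgebraicGeometry.IsNoetherian M.left := ⟨⟩
  -- `G` is the scheme of pairs of inverse elements
  let Φ : M ⊗ M ⟶ M ⊗ M := lift (fst M M * snd M M) (snd M M * fst M M)
  let ε : 𝟙_ (Over (Spec (CommRingCat.of k))) ⟶ M ⊗ M := lift η[M] η[M]
  let Q := Limits.pullback Φ ε
  let q : Q ⟶ M ⊗ M := Limits.pullback.fst Φ ε
  have hone : ∀ {T : Over (Spec (CommRingCat.of k))} (t : T ⟶ 𝟙_ _), t ≫ η[M] = 1 := fun t => by
    rw [Hom.one_def, toUnit_unique t (toUnit _)]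
  have hqΦ : q ≫ Φ = lift 1 1 := by
    show Limits.pullback.fst Φ ε ≫ Φ = _
    rw [Limits.pullback.condition, comp_lift, hone]
  have hq12 : (q ≫ fst M M) * (q ≫ snd M M) = 1 := by
    simpa [Φ, comp_lift, MonObj.comp_mul] using congrArg (· ≫ fst M M) hqΦ
  have hq21 : (q ≫ snd M M) * (q ≫ fst M M) = 1 := by
    simpa [Φ, comp_lift, MonObj.comp_mul] using congrArg (· ≫ snd M M) hqΦ
  obtain ⟨gQ, hgQ⟩ := (hi Q (q ≫ fst M M)).2 ⟨⟨_, _, hq12, hq21⟩, rfl⟩
  obtain ⟨u, hu⟩ := (hi G i).1 ⟨𝟙 G, Category.id_comp i⟩
  let v : G ⟶ M := ↑u⁻¹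
  have hiv : i * v = 1 := by rw [← hu]; exact u.mul_inv
  have hvi : v * i = 1 := by rw [← hu]; exact u.inv_mul
  let h : G ⟶ Q := Limits.pullback.lift (lift i v) (toUnit G) (by
    simp [Φ, ε, comp_lift, MonObj.comp_mul, hiv, hvi, hone])
  have hhq : h ≫ q = lift i v := Limits.pullback.lift_fst _ _ _
  have hhg : h ≫ gQ = 𝟙 _ := by
    rw [← cancel_mono i, Category.assoc, hgQ, ← Category.assoc, hhq, lift_fst, Category.id_comp]
  have hgh : gQ ≫ h = 𝟙 _ := by
    apply Limits.pullback.hom_ext
    · show (gQ ≫ h) ≫ q = 𝟙 _ ≫ q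
      rw [Category.assoc, hhq, Category.id_comp, comp_lift, hgQ]
      apply CartesianMonoidalCategory.hom_ext
      · rw [lift_fst]
      · rw [lift_snd]
        refine left_inv_eq_right_inv ?_ hq12
        rw [← hgQ, ← MonObj.comp_mul, hvi, MonObj.comp_one]
    · exact toUnit_unique _ _
  let eQ : G ≅ Q := ⟨h, gQ, hhg, hgh⟩
  have : IsImmersion ε.left :=
    isImmersion_of_section _ (toUnit (M ⊗ M)).left (by
      rw [← Over.comp_left, toUnit_unique (ε ≫ toUnit _) (𝟙 _)]; rfl)
  have : IsImmersion q.left :=
    MorphismProperty.of_isPullback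
      ((CategoryTheory.IsPullback.of_hasPullback Φ ε).map (Over.forget _)).flip ‹IsImmersion ε.left›
  have : IsIso h.left := ((Over.forget _).mapIso eQ).isIso_hom
  have : IsImmersion (h ≫ q).left := by rw [Over.comp_left]; infer_instance
  have hMMl : LocallyOfFiniteType (M ⊗ M).hom := by
    have := Groth.GrpschAbsch.fst_left_mem @LocallyOfFiniteType M M inferInstance
    rw [← Over.w (fst M M)]
    infer_instance
  have hMMq : QuasiCompact (M ⊗ M).hom := by
    have := Groth.GrpschAbsch.fst_left_mem @QuasiCompact M M inferInstance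
    rw [← Over.w (fst M M)]
    infer_instance
  have := LocallyOfFiniteType.isLocallyNoetherian (M ⊗ M).hom
  have : CompactSpace (M ⊗ M).left := QuasiCompact.compactSpace_of_compactSpace (M ⊗ M).hom
  have : AlgebraicGeometry.IsNoetherian (M ⊗ M).left := ⟨⟩
  have : LocallyOfFiniteType G.hom := by rw [← Over.w (h ≫ q)]; infer_instance
  have : TopologicalSpace.NoetherianSpace G.left :=
    (h ≫ q).left.isEmbedding.isInducing.noetherianSpace
  have : LocallyOfFiniteType (i.left ≫ M.hom) := by rw [Over.w i]; infer_instance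
  have : LocallyOfFiniteType i.left := locallyOfFiniteType_of_comp i.left M.hom
  have : QuasiCompact (i.left ≫ M.hom) := by
    rw [Over.w i, quasiCompact_iff_compactSpace]; infer_instance
  have : QuasiCompact i.left := QuasiCompact.of_comp i.left M.hom
  obtain ⟨g₀, hg₀⟩ := exists_point_over_generic M G i hi
  obtain ⟨V, hVne, hV⟩ := Groth.AlgGrp1.exists_flat_restrict i.left
  let W : G.left.Opens := i.left ⁻¹ᵁ V
  have hg₀W : g₀ ∈ W := by
    show i.left g₀ ∈ V
    rw [hg₀]
    obtain ⟨y, hy⟩ := hVne
    exact (genericPoint_specializes y).mem_open V.2 hy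
  let W' : Over (Spec (CommRingCat.of k)) := Over.mk (W.ι ≫ G.hom)
  let j : W' ⟶ G := Over.homMk W.ι rfl
  have hji : Flat (j ≫ i).left := by
    show Flat (W.ι ≫ i.left)
    rw [← morphismRestrict_ι]
    infer_instance
  have hiu : ∀ {T : Over (Spec (CommRingCat.of k))} (g : T ⟶ G), IsUnit (g ≫ i) :=
    fun g => (hi _ _).1 ⟨g, rfl⟩
  have hgiv : ∀ {T : Over (Spec (CommRingCat.of k))} (g : T ⟶ G), (g ≫ i) * (g ≫ v) = 1 := fun g => by
    rw [← MonObj.comp_mul, hiv, MonObj.comp_one]
  have hgvi : ∀ {T : Over (Spec (CommRingCat.of k))} (g : T ⟶ G), (g ≫ v) * (g ≫ i) = 1 := fun g => by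
    rw [← MonObj.comp_mul, hvi, MonObj.comp_one]
  have hgv : ∀ {T : Over (Spec (CommRingCat.of k))} (g : T ⟶ G), IsUnit (g ≫ v) :=
    fun g => ⟨⟨_, _, hgvi g, hgiv g⟩, rfl⟩
  obtain ⟨a, ha⟩ := (hi _ ((fst G W' ≫ i) * ((snd G W' ≫ j) ≫ i))).2 ((hiu _).mul (hiu _))
  obtain ⟨b, hb⟩ := (hi _ ((fst G W' ≫ i) * ((snd G W' ≫ j) ≫ v))).2 ((hiu _).mul (hgv _))
  let σ : G ⊗ W' ≅ G ⊗ W' :=
    { hom := lift a (snd G W'), inv := lift b (snd G W')
      hom_inv_id := by
        apply CartesianMonoidalCategory.hom_ext
        · rw [← cancel_mono i]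
          simp only [Category.assoc, lift_fst, Category.id_comp, hb, MonObj.comp_mul, lift_fst_assoc,
            lift_snd_assoc, ha]
          rw [_root_.mul_assoc, ← Category.assoc (snd G W'), ← Category.assoc (snd G W'),
            hgiv, _root_.mul_one]
        · simp
      inv_hom_id := by
        apply CartesianMonoidalCategory.hom_ext
        · rw [← cancel_mono i]
          simp only [Category.assoc, lift_fst, Category.id_comp, ha, MonObj.comp_mul, lift_fst_assoc,
            lift_snd_assoc, hb]
          rw [_root_.mul_assoc, ← Category.assoc (snd G W'), ← Category.assoc (snd G W'),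
            hgvi, _root_.mul_one]
        · simp }
  let τ : G ⊗ M ≅ G ⊗ M :=
    { hom := lift (fst G M) ((fst G M ≫ i) * snd G M)
      inv := lift (fst G M) ((fst G M ≫ v) * snd G M)
      hom_inv_id := by
        apply CartesianMonoidalCategory.hom_ext
        · simp
        · simp only [Category.assoc, lift_snd, Category.id_comp, MonObj.comp_mul, lift_fst_assoc]
          rw [← _root_.mul_assoc, hgvi, _root_.one_mul]
      inv_hom_id := by
        apply CartesianMonoidalCategory.hom_ext
        · simp
        · simp only [Category.assoc, lift_snd, Category.id_comp, MonObj.comp_mul, lift_fst_assoc]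
          rw [← _root_.mul_assoc, hgiv, _root_.one_mul] }
  have : IsIso σ.hom.left := ((Over.forget _).mapIso σ).isIso_hom
  have : IsIso τ.hom.left := ((Over.forget _).mapIso τ).isIso_hom
  have hW's : Surjective W'.hom :=
    ⟨fun t => ⟨⟨g₀, hg₀W⟩, Subsingleton.elim (α := PrimeSpectrum k) _ _⟩⟩
  have : Flat W'.hom := inferInstance
  have haσ : a = σ.hom ≫ fst G W' := (lift_fst _ _).symm
  have : Flat a.left := by
    rw [haσ, Over.comp_left]
    have : Flat (fst G W').left := Groth.GrpschAbsch.fst_left_mem @Flat G W' inferInstance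
    infer_instance
  have : Surjective a.left := by
    rw [haσ, Over.comp_left]
    have : Surjective (fst G W').left := Groth.GrpschAbsch.fst_left_mem @Surjective G W' hW's
    infer_instance
  have hai : a ≫ i = (G ◁ (j ≫ i)) ≫ τ.hom ≫ snd G M := by
    rw [ha, show τ.hom ≫ snd G M = (fst G M ≫ i) * snd G M from lift_snd _ _, MonObj.comp_mul,
      whiskerLeft_fst_assoc, whiskerLeft_snd, Category.assoc]
  have : Flat (a.left ≫ i.left) := by
    rw [← Over.comp_left, hai, Over.comp_left, Over.comp_left]
    have : Flat (G ◁ (j ≫ i)).left := Groth.GrpschAbsch.whiskerLeft_left_mem @Flat G _ hji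
    have : Flat (snd G M).left := Groth.GrpschAbsch.snd_left_mem @Flat G M inferInstance
    infer_instance
  have : Flat i.left := Groth.FlatMor2.flat_of_comp_surjective a.left i.left
  have : LocallyOfFinitePresentation i.left := Groth.AlgGrp1.lfp_left i
  have : Mono i.left := inferInstance
  exact IsOpenImmersion.of_flat_of_mono i.left

end Groth.Agent.S18817
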