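import Groth.Statements.S18820
import Groth.Agent.AlgGrp2.Basic

set_option autoImplicit false
universe u
open CategoryTheory MonoidalCategory CartesianMonoidalCategory AlgebraicGeometry
open AlgGrp

namespace Groth.Agent.S18820

/-- Let k be a field, M a k-scheme (in the source a monoid k-scheme) acting on a k-scheme X through a :
M ×_k X → X, and z : Z → X a closed immersion which is surjective (a closed subscheme defined by an
ideal all of whose sections are nilpotent, e.g. the reduction of X), stable under the action: a_Z :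
M ×_k Z → Z satisfies (id_M × z) followed by a = a_Z followed by z. For an open subset U of X the
following are equivalent: (i) U is stable, i.e. a maps M ×_k U into U; (ii) U ∩ Z is stable, i.e.
a_Z maps M ×_k (U ∩ Z) into U ∩ Z. (The monoid axioms of the source play no role and are not
assumed.) -/
theorem result (k : Type u) [Field k]
    (M X Z : Over (Spec (CommRingCat.of k))) (a : M ⊗ X ⟶ X) (aZ : M ⊗ Z ⟶ Z) (z : Z ⟶ X)
    [IsClosedImmersion z.left] [Surjective z.left] (hz : (M ◁ z) ≫ a = aZ ≫ z) (U : X.left.Opens) :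
    (CartesianMonoidalCategory.snd M X).left ⁻¹ᵁ U ≤ a.left ⁻¹ᵁ U ↔
      (CartesianMonoidalCategory.snd M Z).left ⁻¹ᵁ (z.left ⁻¹ᵁ U) ≤ aZ.left ⁻¹ᵁ (z.left ⁻¹ᵁ U) := by
  have e1 : ∀ q, a.left.base ((M ◁ z).left.base q) = z.left.base (aZ.left.base q) := fun q => by
    rw [← Scheme.Hom.comp_apply, ← Over.comp_left, hz, Over.comp_left, Scheme.Hom.comp_apply]
  have e2 : ∀ q, (snd M X).left.base ((M ◁ z).left.base q) = z.left.base ((snd M Z).left.base q) := fun q => by
    rw [← Scheme.Hom.comp_apply, ← Over.comp_left, whiskerLeft_snd, Over.comp_left, Scheme.Hom.comp_apply]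
  constructor
  · intro h q hq
    have hq' : (M ◁ z).left.base q ∈ (snd M X).left ⁻¹ᵁ U := by
      show (snd M X).left.base _ ∈ U
      rw [e2]; exact hq
    have := h hq'
    show z.left.base (aZ.left.base q) ∈ U
    rw [← e1]; exact this
  · intro h p hp
    have : Surjective (M ◁ z).left :=
      MorphismProperty.of_isPullback (Groth.AlgGrp2.isPullback_whiskerLeft_snd M z).flip ‹Surjective z.left›
    obtain ⟨q, rfl⟩ := (M ◁ z).left.surjective p
    have hq : q ∈ (snd M Z).left ⁻¹ᵁ (z.left ⁻¹ᵁ U) := by
      show z.left.base ((snd M Z).left.base q) ∈ U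
      rw [← e2]; exact hp
    show a.left.base _ ∈ U
    rw [e1]; exact h hq

end Groth.Agent.S18820
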