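import Groth.Statements.S18821
import Groth.Agent.AlgGrp2.Basic

set_option autoImplicit false
universe u
open CategoryTheory MonoidalCategory CartesianMonoidalCategory MonObj AlgebraicGeometry
open AlgGrp

namespace Groth.Agent.S18821

/-- Let k be a commutative ring and M a monoid k-scheme (a monoid object in k-schemes). Then the group
k-functor of units T ↦ M(T)^× is representable by a k-scheme: there are a k-scheme G and a
monomorphism i : G → M such that, for every k-scheme T, a T-valued point of M factors through i if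
and only if it is invertible in the monoid M(T). If moreover M is affine then G is affine. -/
theorem result (k : Type u) [CommRing k]
    (M : Over (Spec (CommRingCat.of k))) [MonObj M] :
    ∃ (G : Over (Spec (CommRingCat.of k))) (i : G ⟶ M), Mono i ∧
      (∀ (T : Over (Spec (CommRingCat.of k))) (m : T ⟶ M), (∃ g : T ⟶ G, g ≫ i = m) ↔ IsUnit m) ∧
      (IsAffine M.left → IsAffine G.left) := by
  let f : M ⊗ M ⟶ M ⊗ M := lift μ[M] (lift (snd M M) (fst M M) ≫ μ[M])
  let g : 𝟙_ (Over (Spec (CommRingCat.of k))) ⟶ M ⊗ M := lift η[M] η[M]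
  let P := Limits.pullback f g
  let i : P ⟶ M := Limits.pullback.fst f g ≫ fst M M
  have key : ∀ (T : Over (Spec (CommRingCat.of k))) (m n : T ⟶ M),
      lift m n ≫ f = toUnit T ≫ g ↔ m * n = 1 ∧ n * m = 1 := by
    intro T m n
    rw [CartesianMonoidalCategory.hom_ext_iff]
    simp [f, g, Hom.mul_def, Hom.one_def, comp_lift_assoc]
  have hP : ∀ (T : Over (Spec (CommRingCat.of k))) (t : T ⟶ P),
      (t ≫ i) * (t ≫ Limits.pullback.fst f g ≫ snd M M) = 1 ∧
        (t ≫ Limits.pullback.fst f g ≫ snd M M) * (t ≫ i) = 1 := by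
    intro T t
    rw [← key]
    have h : lift (t ≫ i) (t ≫ Limits.pullback.fst f g ≫ snd M M) = t ≫ Limits.pullback.fst f g := by
      apply CartesianMonoidalCategory.hom_ext <;> simp [i]
    rw [h, Category.assoc, Limits.pullback.condition, ← Category.assoc]
    congr 1
    exact toUnit_unique _ _
  refine ⟨P, i, ⟨fun {T} a b h => ?_⟩, fun T m => ?_, fun hM => ?_⟩
  · refine Limits.pullback.hom_ext ?_ (toUnit_unique _ _)
    apply CartesianMonoidalCategory.hom_ext
    · simpa [i] using h
    · simp only [Category.assoc]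
      have h1 := (hP T a).2
      have h2 := (hP T b).1
      rw [← h] at h2
      exact left_inv_eq_right_inv h1 h2
  · constructor
    · rintro ⟨t, rfl⟩
      exact ⟨⟨_, _, (hP T t).1, (hP T t).2⟩, rfl⟩
    · rintro ⟨u, rfl⟩
      exact ⟨Limits.pullback.lift (lift (u : T ⟶ M) (↑u⁻¹ : T ⟶ M)) (toUnit T)
        ((key T _ _).mpr ⟨u.mul_inv, u.inv_mul⟩), by simp only [i]; rw [Limits.pullback.lift_fst_assoc, lift_fst]⟩
  · have h := (IsPullback.of_hasPullback f g).map (Over.forget _)
    have : IsAffine (M ⊗ M).left := inferInstanceAs (IsAffine (Limits.pullback M.hom M.hom))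
    have : IsAffine (𝟙_ (Over (Spec (CommRingCat.of k)))).left :=
      inferInstanceAs (IsAffine (Spec (CommRingCat.of k)))
    exact @IsAffine.of_isIso _ _ h.isoPullback.hom (Iso.isIso_hom _) (inferInstanceAs (IsAffine (Limits.pullback f.left g.left)))

end Groth.Agent.S18821
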