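import Groth.Statements.S18823
import Groth.Agent.AlgGrp2.FixedLocus
import Groth.Agent.NeronArea.GenericDense

set_option autoImplicit false
universe u
open CategoryTheory MonoidalCategory CartesianMonoidalCategory AlgebraicGeometry
open AlgGrp

namespace Groth.Agent.S18823

/-- Let k be a field, X a separated k-scheme, M a k-scheme (in the source a monoid k-scheme) acting on X
through a : M ×_k X → X, and i : G → M a morphism of k-schemes which is a scheme-theoretically
dominant open immersion: no nonzero quasi-coherent ideal of O_M restricts to zero on G (for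
quasi-compact i this is the usual schematic density, O_M → i_*O_G injective; in the source G is the
group of units of M, open and schematically dense). For a k-scheme T and a T-valued point x of X, x
is fixed under M, i.e. a ∘ (id_M × x) = x ∘ pr_T on M ×_k T, if and only if x is fixed under G, i.e.
a ∘ (i × x) = x ∘ pr_T on G ×_k T. Thus the fixed-point subpresheaves X^M and X^G of X are equal.
(The published statement has no separatedness assumption on X and reduces to points landing in an
affine open; the step asserting that the equalizer of the two maps M ×_k T → X is closed uses that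
the target is separated, so X is taken separated here, the case the printed argument establishes.
The monoid structure and the action axioms play no role in that argument and are not assumed.) -/
theorem result (k : Type u) [Field k]
    (M G X : Over (Spec (CommRingCat.of k))) [IsSeparated X.hom] (a : M ⊗ X ⟶ X) (i : G ⟶ M)
    [IsOpenImmersion i.left] [IsSchemeTheoreticallyDominant i.left]
    (T : Over (Spec (CommRingCat.of k))) (x : T ⟶ X) :
    (M ◁ x) ≫ a = CartesianMonoidalCategory.snd M T ≫ x ↔
      (G ◁ x) ≫ (i ▷ X) ≫ a = CartesianMonoidalCategory.snd G T ≫ x := by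
  refine ⟨fun h => ?_, fun h => ?_⟩
  · rw [whisker_exchange_assoc, h, whiskerRight_snd_assoc]
  obtain ⟨Z, j, hj, hZ⟩ := Groth.AlgGrp2.exists_closed_equalizer ((β_ T M).hom ≫ (M ◁ x) ≫ a)
    (fst T M ≫ x) fun m => by
    obtain ⟨_, ⟨U, hU, rfl⟩, hmU, -⟩ :=
      M.left.isBasis_affineOpens.exists_subset_of_mem_open (Set.mem_univ m) isOpen_univ
    exact ⟨⟨⊤, isAffineOpen_top _⟩, ⟨U, hU⟩, hmU, le_top, fun y _ =>
      Groth.AlgGrp2.eqLocusChart_field _ _ ⟨U, hU⟩ y ⊤ (le_inf le_top le_top)⟩
  have hi : (T ◁ i) ≫ (β_ T M).hom ≫ (M ◁ x) ≫ a = (T ◁ i) ≫ fst T M ≫ x := by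
    have h2 := congrArg ((β_ T G).hom ≫ ·) h
    rw [whiskerLeft_fst_assoc]
    simp only [braiding_hom_snd_assoc] at h2
    rw [BraidedCategory.braiding_naturality_right_assoc, ← whisker_exchange_assoc]
    exact h2
  obtain ⟨z, hz⟩ := (hZ G i).mp hi
  obtain ⟨b, hb⟩ := Groth.NeronArea.exists_lift_of_dominant j.left (𝟙 M.left) i.left z.left
    ((congrArg CommaMorphism.left hz).trans (Category.comp_id _).symm)
  have hb' : b ≫ Z.hom = M.hom := by
    calc b ≫ Z.hom = b ≫ j.left ≫ M.hom := by rw [Over.w j]
      _ = M.hom := by rw [← Category.assoc, hb, Category.id_comp]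
  have h1 := (hZ M (𝟙 M)).mpr ⟨Over.homMk b hb', by ext; exact hb⟩
  rw [whiskerLeft_id, Category.id_comp, Category.id_comp] at h1
  have h2 := congrArg ((β_ M T).hom ≫ ·) h1
  simp only [SymmetricCategory.symmetry_assoc, braiding_hom_fst_assoc] at h2
  exact h2

end Groth.Agent.S18823
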