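import Groth.Statements.S18824
import Groth.Agent.AlgGrp2.Basic

set_option autoImplicit false
universe u
open CategoryTheory MonoidalCategory CartesianMonoidalCategory MonObj AlgebraicGeometry
open AlgGrp

namespace Groth.Agent.S18824

/-- Let k be a field, G a locally algebraic group over k (a group k-scheme locally of finite type)
acting on a k-scheme X through a : G ×_k X → X, and U an open subset of X. Let G·U ⊆ X be the image
under a of G ×_k U (the preimage of U under the projection). Then G·U is open in X, contains U, is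
G-stable in the sense that a maps G ×_k (G·U) into G·U, and is the smallest such set: every G-stable
open subset of X containing U contains G·U. -/
theorem result (k : Type u) [Field k]
    (G X : Over (Spec (CommRingCat.of k))) [GrpObj G] [LocallyOfFiniteType G.hom] (a : AlgGrp.Action G X)
    (U : Set ↥X.left) (hU : IsOpen U) :
    IsOpen (a.act.left.base '' ((CartesianMonoidalCategory.snd G X).left.base ⁻¹' U)) ∧
      U ⊆ a.act.left.base '' ((CartesianMonoidalCategory.snd G X).left.base ⁻¹' U) ∧
      a.act.left.base '' ((CartesianMonoidalCategory.snd G X).left.base ⁻¹'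
          (a.act.left.base '' ((CartesianMonoidalCategory.snd G X).left.base ⁻¹' U))) ⊆
        a.act.left.base '' ((CartesianMonoidalCategory.snd G X).left.base ⁻¹' U) ∧
      ∀ W : Set ↥X.left, IsOpen W → U ⊆ W →
        a.act.left.base '' ((CartesianMonoidalCategory.snd G X).left.base ⁻¹' W) ⊆ W →
          a.act.left.base '' ((CartesianMonoidalCategory.snd G X).left.base ⁻¹' U) ⊆ W := by
  have : UniversallyOpen G.hom := inferInstance
  have ho : UniversallyOpen a.act.left := Groth.AlgGrp2.act_prop a @UniversallyOpen this
  refine ⟨a.act.left.isOpenMap _ (hU.preimage (snd G X).left.continuous), ?_, ?_, ?_⟩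
  · intro x hx
    let s : X ⟶ G ⊗ X := lift 1 (𝟙 X)
    refine ⟨s.left.base x, ?_, ?_⟩
    · show (snd G X).left.base (s.left.base x) ∈ U
      rw [← Scheme.Hom.comp_apply, ← Over.comp_left, lift_snd]
      simpa using hx
    · rw [← Scheme.Hom.comp_apply, ← Over.comp_left, Groth.AlgGrp2.lift_one_act]
      simp
  · rintro _ ⟨p, ⟨q, hq, hqp⟩, rfl⟩
    obtain ⟨r, hr₁, hr₂⟩ := Scheme.Pullback.exists_preimage_pullback
      (f := (snd G X).left) (g := a.act.left) p q hqp.symm
    have H := Groth.AlgGrp2.isPullback_whiskerLeft_snd G a.act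
    set r' := H.isoPullback.inv.base r with hr'
    have h1 : (G ◁ a.act).left.base r' = p := by
      rw [hr', ← Scheme.Hom.comp_apply, H.isoPullback_inv_fst, hr₁]
    have h2 : (snd G (G ⊗ X)).left.base r' = q := by
      rw [hr', ← Scheme.Hom.comp_apply, H.isoPullback_inv_snd, hr₂]
    refine ⟨((α_ G G X).inv ≫ (μ[G] ▷ X)).left.base r', ?_, ?_⟩
    · show (snd G X).left.base _ ∈ U
      rw [← h2] at hq
      have e : (α_ G G X).inv ≫ (μ[G] ▷ X) ≫ snd G X = snd G (G ⊗ X) ≫ snd G X := by simp
      rw [← Scheme.Hom.comp_apply, ← Over.comp_left, Category.assoc, e, Over.comp_left,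
        Scheme.Hom.comp_apply]
      exact hq
    · have e : (α_ G G X).inv ≫ (μ[G] ▷ X) ≫ a.act = (G ◁ a.act) ≫ a.act := by
        rw [a.mul_act, Iso.inv_hom_id_assoc]
      rw [← Scheme.Hom.comp_apply, ← Over.comp_left, Category.assoc, e, Over.comp_left,
        Scheme.Hom.comp_apply, h1]
  · intro W _ hUW hW
    exact (Set.image_mono (Set.preimage_mono hUW)).trans hW

end Groth.Agent.S18824
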