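import Groth.Statements.S18825
import Groth.Agent.Agf.ImageSubgroup

set_option autoImplicit false
universe u
open CategoryTheory MonoidalCategory CartesianMonoidalCategory MonObj AlgebraicGeometry
open AlgGrp

namespace Groth.Agent.S18825

/-- Let k be a field and f : H → G a homomorphism of locally algebraic groups over k (group k-schemes
locally of finite type) which is of finite type (equivalently quasi-compact). Let H → K → G be the
factorization of f through its scheme-theoretic image: i : K → G a closed immersion and g : H → K
with g followed by i equal to f and O_K → g_*O_H injective. Then (1) K is a closed subgroup scheme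
of G: the unit section of G factors through i and, for every k-scheme T and T-valued points k₁, k₂
of K, the T-valued point (i k₁)⁻¹ · (i k₂) of G factors through i; and (2) g : H → K is surjective.
(The source also records that g is a homomorphism for the group structure induced on K; this row
does not state it.) -/
theorem result (k : Type u) [Field k]
    (H G K : Over (Spec (CommRingCat.of k))) [GrpObj H] [GrpObj G]
    [LocallyOfFiniteType H.hom] [LocallyOfFiniteType G.hom]
    (f : H ⟶ G) [IsMonHom f] [QuasiCompact f.left]
    (i : K ⟶ G) [IsClosedImmersion i.left] (g : H ⟶ K) (hgi : g ≫ i = f)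
    [IsSchemeTheoreticallyDominant g.left] :
    ((∃ e : 𝟙_ (Over (Spec (CommRingCat.of k))) ⟶ K, e ≫ i = η[G]) ∧
      ∀ (T : Over (Spec (CommRingCat.of k))) (k₁ k₂ : T ⟶ K),
        ∃ k₃ : T ⟶ K, k₃ ≫ i = (k₁ ≫ i)⁻¹ * (k₂ ≫ i)) ∧
    Surjective g.left := by
  have : IsSeparated i.left := inferInstance
  have : QuasiCompact (g.left ≫ i.left) := by rw [← Over.comp_left, hgi]; infer_instance
  have : QuasiCompact g.left := QuasiCompact.of_comp g.left i.left
  obtain ⟨inst, hi, hg⟩ := Groth.Agf.exists_grpObj_image f i g hgi
  refine ⟨⟨⟨η[K], IsMonHom.one_hom i⟩, fun T a b => ⟨a⁻¹ * b, by rw [MonObj.mul_comp, GrpObj.inv_comp]⟩⟩, ?_⟩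
  exact Groth.Agf.surjective_of_dominant g

end Groth.Agent.S18825
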