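import Groth.Statements.S18826
import Groth.Agent.AlgGrp2.Basic

set_option autoImplicit false
universe u
open CategoryTheory MonoidalCategory CartesianMonoidalCategory MonObj AlgebraicGeometry
open AlgGrp

namespace Groth.Agent.S18826

/-- Let k be a field, G a locally algebraic group over k (a group k-scheme locally of finite type)
acting on k-schemes X and Y, and f : X → Y a G-equivariant k-morphism. Let P be a property of
morphisms of schemes which is local on the target for the Zariski topology, stable under base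
change, and descends along flat surjective universally open morphisms (the published hypothesis is
descent along fpqc morphisms; the printed argument descends only along the restriction G ×_k U → G·U
of the action, which is flat, surjective and universally open). Then there is a largest open subset
V of Y such that the restriction f⁻¹(V) → V of f has P, and this V is G-stable: the action G ×_k Y →
Y maps G ×_k V into V. -/
theorem result (k : Type u) [Field k]
    (G X Y : Over (Spec (CommRingCat.of k))) [GrpObj G] [LocallyOfFiniteType G.hom]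
    (aX : AlgGrp.Action G X) (aY : AlgGrp.Action G Y) (f : X ⟶ Y) (hf : (G ◁ f) ≫ aY.act = aX.act ≫ f)
    (P : MorphismProperty Scheme.{u}) [IsZariskiLocalAtTarget P] [P.IsStableUnderBaseChange]
    [P.DescendsAlong (@Flat ⊓ @Surjective ⊓ @UniversallyOpen)] :
    ∃ V : Y.left.Opens, P (f.left ∣_ V) ∧ (∀ V' : Y.left.Opens, P (f.left ∣_ V') → V' ≤ V) ∧
      (CartesianMonoidalCategory.snd G Y).left ⁻¹ᵁ V ≤ aY.act.left ⁻¹ᵁ V := by
  let V : Y.left.Opens := ⨆ W : {W : Y.left.Opens // P (f.left ∣_ W)}, W.1
  have hmax : ∀ V', P (f.left ∣_ V') → V' ≤ V := fun V' h =>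
    le_iSup (fun W : {W : Y.left.Opens // P (f.left ∣_ W)} => W.1) ⟨V', h⟩
  have hV : P (f.left ∣_ V) := by
    refine IsZariskiLocalAtTarget.of_iSup_eq_top
      (fun W : {W : Y.left.Opens // P (f.left ∣_ W)} => V.ι ⁻¹ᵁ W.1) ?_ fun W => ?_
    · rw [← Scheme.Hom.preimage_iSup]
      exact V.ι_preimage_self
    · refine (P.arrow_mk_iso_iff (morphismRestrictRestrict f.left V _)).mpr ?_
      have e : V.ι ''ᵁ V.ι ⁻¹ᵁ W.1 = W.1 := by
        rw [Scheme.Hom.image_preimage_eq_opensRange_inf, Scheme.Opens.opensRange_ι,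
          inf_eq_right.mpr (hmax _ W.2)]
      exact (P.arrow_mk_iso_iff (morphismRestrictEq f.left e)).mpr W.2
  refine ⟨V, hV, hmax, ?_⟩
  have hG : UniversallyOpen G.hom := inferInstance
  have hFl : Flat G.hom := inferInstance
  have : UniversallyOpen aY.act.left := Groth.AlgGrp2.act_prop aY @UniversallyOpen hG
  have : Flat aY.act.left := Groth.AlgGrp2.act_prop aY @Flat hFl
  let O : (G ⊗ Y).left.Opens := (snd G Y).left ⁻¹ᵁ V
  let W : Y.left.Opens := ⟨aY.act.left.base '' O, aY.act.left.isOpenMap _ O.2⟩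
  have hOW : O ≤ aY.act.left ⁻¹ᵁ W := fun x hx => ⟨x, hx, rfl⟩
  have sqS : IsPullback (G ◁ f).left (snd G X).left (snd G Y).left f.left :=
    Groth.AlgGrp2.isPullback_whiskerLeft_snd G f
  have sqA : IsPullback (G ◁ f).left aX.act.left aY.act.left f.left := by
    have hsq : IsPullback (G ◁ f).left (Groth.AlgGrp2.shear aX).hom.left
        (Groth.AlgGrp2.shear aY).hom.left (G ◁ f).left := by
      haveI : IsIso (Groth.AlgGrp2.shear aX).hom.left := inferInstanceAs (IsIso ((Over.forget _).map (Groth.AlgGrp2.shear aX).hom))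
      haveI : IsIso (Groth.AlgGrp2.shear aY).hom.left := inferInstanceAs (IsIso ((Over.forget _).map (Groth.AlgGrp2.shear aY).hom))
      refine IsPullback.of_vert_isIso ⟨?_⟩
      rw [← Over.comp_left, ← Over.comp_left]
      congr 1
      apply CartesianMonoidalCategory.hom_ext
      · simp
      · simp [hf]
    have h := hsq.paste_vert sqS
    rwa [← Over.comp_left, ← Over.comp_left, Groth.AlgGrp2.shear_hom_snd,
      Groth.AlgGrp2.shear_hom_snd] at h
  have sqO := (isPullback_morphismRestrict (G ◁ f).left O)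
  -- g ∣_ O is a base change of f ∣_ V
  have sV := isPullback_morphismRestrict f.left V
  let q₀ := (snd G Y).left.resLE V O le_rfl
  let l₀ := sV.lift (((G ◁ f).left ∣_ O) ≫ q₀) (((G ◁ f).left ⁻¹ᵁ O).ι ≫ (snd G X).left)
    (by rw [Category.assoc, Scheme.Hom.resLE_comp_ι, ← Category.assoc, sqO.w, Category.assoc, sqS.w,
      Category.assoc])
  have h0 : IsPullback ((G ◁ f).left ∣_ O) l₀ q₀ (f.left ∣_ V) := by
    refine IsPullback.of_bot ?_ (sV.lift_fst _ _ _).symm sV
    rw [Scheme.Hom.resLE_comp_ι, sV.lift_snd]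
    exact sqO.paste_vert sqS
  have hgO : P ((G ◁ f).left ∣_ O) := MorphismProperty.of_isPullback h0.flip hV
  have sW := isPullback_morphismRestrict f.left W
  let q₁ := aY.act.left.resLE W O hOW
  let l₁ := sW.lift (((G ◁ f).left ∣_ O) ≫ q₁) (((G ◁ f).left ⁻¹ᵁ O).ι ≫ aX.act.left)
    (by rw [Category.assoc, Scheme.Hom.resLE_comp_ι, ← Category.assoc, sqO.w, Category.assoc, sqA.w,
      Category.assoc])
  have h1 : IsPullback ((G ◁ f).left ∣_ O) l₁ q₁ (f.left ∣_ W) := by
    refine IsPullback.of_bot ?_ (sW.lift_fst _ _ _).symm sW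
    rw [Scheme.Hom.resLE_comp_ι, sW.lift_snd]
    exact sqO.paste_vert sqA
  have hq : (@Flat ⊓ @Surjective ⊓ @UniversallyOpen : MorphismProperty Scheme.{u}) q₁ := by
    refine ⟨⟨?_, ⟨fun y => ?_⟩⟩, ?_⟩
    · simp only [q₁, Scheme.Hom.resLE]; infer_instance
    · obtain ⟨x, hx, hxy⟩ := y.2
      refine ⟨⟨x, hx⟩, W.ι.isOpenEmbedding.injective ?_⟩
      rw [← Scheme.Hom.comp_apply, Scheme.Hom.resLE_comp_ι, Scheme.Hom.comp_apply]
      exact hxy
    · simp only [q₁, Scheme.Hom.resLE]
      exact MorphismProperty.comp_mem _ _ _ (inferInstance : UniversallyOpen ((G ⊗ Y).left.homOfLE hOW))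
        (IsZariskiLocalAtTarget.restrict ‹UniversallyOpen aY.act.left› W)
  have hW : P (f.left ∣_ W) := MorphismProperty.of_isPullback_of_descendsAlong h1 hq hgO
  intro x hx
  exact hmax W hW ⟨x, hx, rfl⟩

end Groth.Agent.S18826
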