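import Groth.Statements.S18828
import Groth.Agent.AlgGrp2.CompletionFlat
import Groth.Agent.AlgGrp1.Basic
import Groth.Agent.GrpschAbsch.Basic
import Groth.Agent.FlatMor2.FlatComp
import Groth.Agent.S0386
import Mathlib.AlgebraicGeometry.Morphisms.FlatMono
import Mathlib.AlgebraicGeometry.Noetherian
-- import your own Groth.Agent.* helpers here

set_option autoImplicit false
universe u
open CategoryTheory MonoidalCategory CartesianMonoidalCategory MonObj AlgebraicGeometry
open AlgGrp

namespace Groth.Agent.S18828

/-- Let k be a field and f : H → G a homomorphism of locally algebraic groups over k (group k-schemes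
locally of finite type). Write e_H for the unit point of H (the image under the unit section of the
point pt of the base Spec k) and φ : O_{G,f(e_H)} → O_{H,e_H} for the induced local homomorphism of
local rings. Assume (1) φ induces an isomorphism of completed local rings, stated here as: for every
n, φ followed by reduction modulo the (n+1)-st power of the maximal ideal of O_{H,e_H} is
surjective, and an element of O_{G,f(e_H)} maps into that power exactly when it lies in the (n+1)-st
power of the maximal ideal of O_{G,f(e_H)}; and (2) f is a monomorphism of schemes. Then f is an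
open immersion. -/
theorem result (k : Type u) [Field k]
    (H G : Over (Spec (CommRingCat.of k))) [GrpObj H] [GrpObj G]
    [LocallyOfFiniteType H.hom] [LocallyOfFiniteType G.hom] (f : H ⟶ G) [IsMonHom f] [Mono f.left]
    (pt : ↥(𝟙_ (Over (Spec (CommRingCat.of k)))).left)
    (h : ∀ n : ℕ,
      Function.Surjective ((Ideal.Quotient.mk (IsLocalRing.maximalIdeal
          ↑(H.left.presheaf.stalk (η[H].left.base pt)) ^ (n + 1))).comp
        (f.left.stalkMap (η[H].left.base pt)).hom) ∧
      ∀ a : ↑(G.left.presheaf.stalk (f.left.base (η[H].left.base pt))),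
        (f.left.stalkMap (η[H].left.base pt)).hom a ∈
            IsLocalRing.maximalIdeal ↑(H.left.presheaf.stalk (η[H].left.base pt)) ^ (n + 1) ↔
          a ∈ IsLocalRing.maximalIdeal ↑(G.left.presheaf.stalk (f.left.base (η[H].left.base pt))) ^ (n + 1)) :
    IsOpenImmersion f.left := by
  have := LocallyOfFiniteType.isLocallyNoetherian H.hom
  have := LocallyOfFiniteType.isLocallyNoetherian G.hom
  have := Groth.AlgGrp1.lfp_left f
  set e := η[H].left.base pt
  have hflat : (f.left.stalkMap e).hom.Flat := by
    algebraize [(f.left.stalkMap e).hom]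
    have : IsLocalHom (algebraMap ↑(G.left.presheaf.stalk (f.left.base e))
        ↑(H.left.presheaf.stalk e)) := inferInstanceAs (IsLocalHom (f.left.stalkMap e).hom)
    exact Groth.AlgGrp2.flat_of_bijective_mod_pow _ _ h
  let U : H.left.Opens := ⟨{x | (f.left.stalkMap x).hom.Flat}, Groth.Agent.S0386.result f.left⟩
  let U' : Over (Spec (CommRingCat.of k)) := Over.mk (U.ι ≫ H.hom)
  let j : U' ⟶ H := Over.homMk U.ι rfl
  have hjf : Flat (j ≫ f).left := by
    show Flat (U.ι ≫ f.left)
    rw [Flat.iff_flat_stalkMap]
    intro x
    rw [Scheme.Hom.stalkMap_comp]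
    exact RingHom.Flat.comp x.2
      (RingHom.Flat.of_bijective (ConcreteCategory.bijective_of_isIso (U.ι.stalkMap x)))
  let a : H ⊗ U' ⟶ H := fst H U' * (snd H U' ≫ j)
  have ha : a = (Groth.GrpschAbsch.shearR j).hom ≫ fst H U' := by
    rw [Groth.GrpschAbsch.shearR_hom_fst, Groth.GrpschAbsch.whiskerLeft_mul]
  have hU's : Surjective U'.hom :=
    ⟨fun t => ⟨⟨e, hflat⟩, Subsingleton.elim (α := PrimeSpectrum k) _ _⟩⟩
  have : Flat a.left := by
    rw [ha, Over.comp_left]
    have : Flat (fst H U').left :=
      Groth.GrpschAbsch.fst_left_mem @Flat H U' inferInstance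
    infer_instance
  have : Surjective a.left := by
    rw [ha, Over.comp_left]
    have : Surjective (fst H U').left :=
      Groth.GrpschAbsch.fst_left_mem @Surjective H U' hU's
    infer_instance
  have e' : a ≫ f = (H ◁ (j ≫ f)) ≫ f ▷ G ≫ μ[G] := by
    rw [Groth.GrpschAbsch.whiskerRight_mul, MonObj.comp_mul, whiskerLeft_fst_assoc, whiskerLeft_snd,
      MonObj.mul_comp, Category.assoc]
  have : Flat (a.left ≫ f.left) := by
    rw [← Over.comp_left, e', Over.comp_left]
    have : Flat (H ◁ (j ≫ f)).left := Groth.GrpschAbsch.whiskerLeft_left_mem @Flat H _ hjf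
    have : Flat (f ▷ G ≫ μ[G]).left :=
      Groth.GrpschAbsch.whiskerRight_mul_left_mem @Flat f inferInstance
    infer_instance
  have : Flat f.left := Groth.FlatMor2.flat_of_comp_surjective a.left f.left
  exact IsOpenImmersion.of_flat_of_mono f.left

end Groth.Agent.S18828
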