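import Groth.Statements.S18829
import Groth.Agent.Hopf.BaseChange
import Groth.Agent.S18813

set_option autoImplicit false
universe u
open scoped TensorProduct
open HopfRep

namespace Groth.Agent.S18829

open Groth
open scoped TensorProduct

/-- Let k be a field and A a finitely generated commutative Hopf algebra over k, the coordinate ring of
an affine algebraic group T. Suppose T is a torus: for some algebraically closed field extension K
of k the base change K ⊗_k A is isomorphic as a K-bialgebra to the group algebra over K of a free
abelian group ℤ^n (T_K is a split torus of rank n). Then T is linearly reductive in the sense that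
every finite-dimensional A-comodule is semisimple. (The source's definition of a torus asks for such
an isomorphism over every algebraically closed extension; one suffices for the printed argument. The
source's notion of a linearly reductive algebraic group also includes smoothness of T over k, which
this row does not assert.) -/
theorem result (k K A : Type u) [Field k] [Field K]
    [Algebra k K] [IsAlgClosed K] [CommRing A] [HopfAlgebra k A] [Algebra.FiniteType k A] (n : ℕ)
    (e : (K ⊗[k] A) ≃ₐc[K] MonoidAlgebra K (Multiplicative (Fin n → ℤ))) :
    HopfRep.IsLinearlyReductive k A := by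
  classical
  refine (Groth.Agent.S18813.result k K A).2 (ComodLib.isLinearlyReductive_iff_integral.2 ?_)
  let M := Multiplicative (Fin n → ℤ)
  let f := (e : (K ⊗[k] A) →ₐc[K] MonoidAlgebra K M)
  let α₀ : MonoidAlgebra K M →ₗ[K] K := Finsupp.lapply 1 ∘ₗ (MonoidAlgebra.coeffLinearEquiv K).toLinearMap
  refine ⟨α₀ ∘ₗ f.toLinearMap, LinearMap.ext fun x => ?_, ?_⟩
  swap
  · change α₀ (f 1) = 1
    rw [map_one]
    simp [α₀, MonoidAlgebra.one_def]
  have hmono : ∀ y : MonoidAlgebra K M,
      α₀.rTensor _ (Coalgebra.comul (R := K) y) = α₀ y ⊗ₜ[K] (1 : MonoidAlgebra K M) := by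
    intro y
    induction y using MonoidAlgebra.induction_linear with
    | zero => simp
    | add p q hp hq => simp only [map_add, TensorProduct.add_tmul, hp, hq]
    | single m r =>
      by_cases h : m = 1
      · subst h
        simp only [α₀, MonoidAlgebra.one_def]
        simp
        rw [show (MonoidAlgebra.single 1 r : MonoidAlgebra K M) = r • MonoidAlgebra.single 1 1 by simp,
          ← TensorProduct.smul_tmul, smul_eq_mul, mul_one]
      · simp [α₀, h]
  have hf : ∀ z : K ⊗[k] A, Coalgebra.comul (R := K) (f z) =
      TensorProduct.map f.toLinearMap f.toLinearMap (Coalgebra.comul (R := K) z) := fun z =>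
    (CoalgHomClass.map_comp_comul_apply f z).symm
  have key := hmono (f x)
  rw [hf] at key
  have hinj : Function.Injective ((f.toLinearMap).lTensor K) :=
    Module.Flat.lTensor_preserves_injective_linearMap _ (EquivLike.injective e)
  refine hinj (Eq.symm ?_)
  change (f.toLinearMap).lTensor K ((α₀ ∘ₗ f.toLinearMap).rTensor _ (Coalgebra.comul (R := K) x)) =
    (f.toLinearMap).lTensor K (α₀ (f x) ⊗ₜ[K] (1 : K ⊗[k] A))
  rw [LinearMap.lTensor_tmul, ← LinearMap.comp_apply, LinearMap.lTensor_comp_rTensor]
  refine Eq.trans ?_ (key.trans (by rw [show f.toLinearMap (1 : K ⊗[k] A) = 1 from map_one f]))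
  rw [← LinearMap.comp_apply (f := α₀.rTensor _), LinearMap.rTensor_comp_map]

end Groth.Agent.S18829
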