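import Groth.Statements.S18830
import Groth.Agent.AlgGrp2.Basic

set_option autoImplicit false
universe u
open CategoryTheory MonoidalCategory CartesianMonoidalCategory MonObj AlgebraicGeometry
open AlgGrp

namespace Groth.Agent.S18830

/-- Let k be a field and M an algebraic monoid over k (a monoid k-scheme of finite type). Let i : G → M
be its group of units: a monomorphism of k-schemes through which a T-valued point of M factors if
and only if it is invertible in the monoid M(T). Then G is of finite type over k, i.e. the unit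
group is an algebraic group. -/
theorem result (k : Type u) [Field k]
    (M G : Over (Spec (CommRingCat.of k))) [MonObj M] [LocallyOfFiniteType M.hom] [QuasiCompact M.hom]
    (i : G ⟶ M) [Mono i]
    (hi : ∀ (T : Over (Spec (CommRingCat.of k))) (m : T ⟶ M), (∃ g : T ⟶ G, g ≫ i = m) ↔ IsUnit m) :
    LocallyOfFiniteType G.hom ∧ QuasiCompact G.hom := by
  let f : M ⊗ M ⟶ M ⊗ M := lift μ[M] ((β_ M M).hom ≫ μ[M])
  let e : 𝟙_ (Over (Spec (CommRingCat.of k))) ⟶ M ⊗ M := lift η[M] η[M]
  haveI : Subsingleton ↥(Spec (CommRingCat.of k)) := inferInstanceAs (Subsingleton (PrimeSpectrum k))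
  haveI : IsClosedImmersion e.left :=
    isClosedImmersion_of_comp_eq_id (Y := Spec (CommRingCat.of k)) (M ⊗ M).hom e.left (Over.w e)
  haveI : LocallyOfFiniteType (M ⊗ M).hom := by
    show LocallyOfFiniteType (Limits.pullback.fst M.hom M.hom ≫ M.hom)
    infer_instance
  haveI : QuasiCompact (M ⊗ M).hom := by
    show QuasiCompact (Limits.pullback.fst M.hom M.hom ≫ M.hom)
    infer_instance
  let q := Limits.pullback.fst f.left e.left
  haveI : IsClosedImmersion q := inferInstance
  let P : Over (Spec (CommRingCat.of k)) := Over.mk (q ≫ (M ⊗ M).hom)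
  let pr : P ⟶ M ⊗ M := Over.homMk q
  let p1 : P ⟶ M := pr ≫ fst M M
  let p2 : P ⟶ M := pr ≫ snd M M
  have hpr : pr ≫ f = toUnit P ≫ e := by
    apply Over.OverMorphism.ext
    show q ≫ f.left = (toUnit P).left ≫ e.left
    rw [Limits.pullback.condition (f := f.left) (g := e.left)]
    congr 1
    show _ = q ≫ (M ⊗ M).hom
    have h0 := congrArg (· ≫ (M ⊗ M).hom) (Limits.pullback.condition (f := f.left) (g := e.left))
    simp only [Category.assoc, Over.w] at h0
    exact ((h0.trans (Category.comp_id _))).symm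
  have hpair : pr = lift p1 p2 := by simp [p1, p2, ← comp_lift]
  have h12 : p1 * p2 = 1 := by
    have h1 := congrArg (· ≫ fst M M) hpr
    simp only [Category.assoc, f, e, lift_fst] at h1
    rw [Hom.mul_def, ← hpair, h1, Hom.one_def]
  have h21 : p2 * p1 = 1 := by
    have h1 := congrArg (· ≫ snd M M) hpr
    simp only [Category.assoc, f, e, lift_snd] at h1
    rw [Hom.mul_def, show lift p2 p1 = pr ≫ (β_ M M).hom by rw [hpair, lift_braiding_hom],
      Category.assoc, h1, Hom.one_def]
  obtain ⟨χ, hχ⟩ := (hi P p1).mpr ⟨⟨p1, p2, h12, h21⟩, rfl⟩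
  obtain ⟨⟨i', j, hij, hji⟩, hi'⟩ := (hi G i).mp ⟨𝟙 G, Category.id_comp i⟩
  simp only at hi'
  subst hi'
  have hlift : (lift i' j).left ≫ f.left = G.hom ≫ e.left := by
    have h : lift i' j ≫ f = toUnit G ≫ e := by
      apply CartesianMonoidalCategory.hom_ext
      · simpa [f, e, Hom.mul_def, Hom.one_def] using hij
      · simpa [f, e, Hom.mul_def, Hom.one_def, ← Category.assoc] using hji
    exact congrArg CommaMorphism.left h
  let ψ : G ⟶ P := Over.homMk (Limits.pullback.lift (lift i' j).left G.hom hlift)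
    (by show _ ≫ q ≫ _ = _; rw [Limits.pullback.lift_fst_assoc]; exact Over.w (lift i' j))
  have hψ : ψ ≫ pr = lift i' j := by
    apply Over.OverMorphism.ext
    exact Limits.pullback.lift_fst _ _ _
  have hψ1 : ψ ≫ p1 = i' := by rw [← Category.assoc, hψ, lift_fst]
  have hψχ : ψ ≫ χ = 𝟙 G := by
    rw [← cancel_mono i', Category.assoc, hχ, hψ1, Category.id_comp]
  have hχj : χ ≫ j = p2 := by
    refine left_inv_eq_right_inv ?_ h12
    rw [← hχ, ← MonObj.comp_mul, hji, MonObj.comp_one]
  have hχψ : χ ≫ ψ = 𝟙 P := by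
    haveI : Mono pr := (Over.forget _).mono_of_mono_map (show Mono q from inferInstance)
    rw [← cancel_mono pr, Category.assoc, hψ, comp_lift, hχ, hχj, ← hpair, Category.id_comp]
  haveI : IsIso ψ.left := ⟨χ.left, congrArg CommaMorphism.left hψχ, congrArg CommaMorphism.left hχψ⟩
  rw [← Over.w ψ]
  haveI : LocallyOfFiniteType P.hom := inferInstanceAs (LocallyOfFiniteType (q ≫ (M ⊗ M).hom))
  haveI : QuasiCompact P.hom := inferInstanceAs (QuasiCompact (q ≫ (M ⊗ M).hom))
  exact ⟨inferInstance, inferInstance⟩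

end Groth.Agent.S18830
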