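import Groth.Statements.S18831
import Groth.Agent.VBCurves.Slope
import Groth.Agent.VBCurves.Sat
import Groth.Agent.CurveBridge.Main
import Groth.Agent.CurveBridge.FromDivisor
import Groth.Agent.FunFld1.Rational
import Groth.Agent.PicAux.Powers
import Groth.Agent.PicAux.Sections
import Groth.Agent.EulerDeg.Tensor
import Groth.Agent.DegMono.StalkSum
import Groth.Agent.KTheory.LambdaVb
import Groth.Agent.LocFree.Tensor

set_option autoImplicit false
universe u
open CategoryTheory CategoryTheory.Limits AlgebraicGeometry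
open VBCurve

open Groth.VBCurves
open scoped Groth.CurveBridge

namespace Groth.Agent.S18831

variable {k : Type u} [Field k] {X : Scheme.{u}} [X.Over (Spec (CommRingCat.of k))]
  [IsIntegral X] [IsProper (X ↘ Spec (CommRingCat.of k))]

/-- A bundle whose subbundles all have negative slope has no sections. -/
theorem finrank_h0_eq_zero (hc : IsVBCurve k X) {E : X.Modules} (hE : FlatMod.IsFinLocFree E)
    {d : ℤ} {r : ℕ} (hd : d < 0) (h : Bnd k E d r) :
    Module.finrank k (Coh.HH X E 0) = 0 := by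
  by_contra hne
  have : Nontrivial (Coh.HH X E 0) := Module.nontrivial_of_finrank_pos (R := k) (Nat.pos_of_ne_zero hne)
  obtain ⟨v, hv⟩ := exists_ne (0 : Coh.HH X E 0)
  let s : Γ(E, ⊤) := Groth.EulerDeg.h0Equiv k E v
  have hs : s ≠ 0 := fun h0 => hv ((Groth.EulerDeg.h0Equiv k E).map_eq_zero_iff.1 h0)
  let f : Coh.structureModule X ⟶ E := Groth.PicAux.homOfSection s
  have hf : f ≠ 0 := by
    intro h0
    apply hs
    rw [← Groth.PicAux.homOfSection_one s]
    show f.app ⊤ (Groth.PicAux.oneSec X ⊤) = 0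
    rw [h0]
    rfl
  have hO := Groth.LocFree.isInvertible_iff_ofRank_one.mp
    (Groth.EulerDeg.isInvertible_structureModule X)
  obtain ⟨K, I, i, p, j, w, hS, hi, hp, hj, hfac, -, hK, hI, hrk, hdg, hpos⟩ :=
    exists_image hc (Groth.LocFree.isFinLocFree_of_rank hO) hE f
  have hI0 := hpos hf
  rw [rk_eq hO] at hrk
  have hK0 : rk K = 0 := by omega
  rw [dg_of_rk_zero k hK hK0, zero_add] at hdg
  have h1 : dg k (Coh.structureModule X) = 0 := by
    rw [← dg_eq k hO, Curv2.deg, Nat.cast_one, one_mul, sub_self]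
  have h2 := h I j hj hI hI0
  rw [← hdg, h1, zero_mul] at h2
  have : (0 : ℤ) < rk I := by exact_mod_cast hI0
  nlinarith

/-- Twisting down by a degree one invertible module lowers slope bounds by one. -/
theorem bnd_twist (hdim : topologicalKrullDim X ≤ 1) {L M : X.Modules} (hL : PicF.IsInvertible L)
    (hLM : ClSub.IsInverseOf L M) (hdeg : Curv2.deg k X L 1 = 1) {E : X.Modules} {d : ℤ} {r : ℕ}
    (h : Bnd k E d r) : Bnd k (CohB1.tensorMod E M) (d - r) r := by
  intro G i hi hG hpos
  let e := Groth.PicAux.twistEquiv hLM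
  haveI := hi
  haveI : e.functor.IsEquivalence := e.isEquivalence_functor
  haveI : Mono (e.functor.map i) := e.functor.map_mono i
  let i' : CohB1.tensorMod G L ⟶ E := e.functor.map i ≫ (e.counitIso.app E).hom
  have hL1 := Groth.LocFree.isInvertible_iff_ofRank_one.mp hL
  have hGL := Groth.LocFree.isFinLocFreeOfRank_tensorMod (isFinLocFreeOfRank_rk hG) hL1
  have h1 := h (CohB1.tensorMod G L) i'
    (@mono_comp _ _ _ _ _ (e.functor.map i) ‹_› (e.counitIso.app E).hom inferInstance) (Groth.LocFree.isFinLocFree_of_rank hGL)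
    (by rw [rk_eq hGL]; omega)
  have h2 := Groth.EulerDeg.deg_tensor k hdim (isFinLocFreeOfRank_rk hG) hL1
  rw [dg_eq k hGL, dg_eq k (isFinLocFreeOfRank_rk hG), hdeg] at h2
  rw [h2, rk_eq hGL] at h1
  push_cast at h1
  linarith

/-- Twisting by a degree one invertible module with a section adds at most the rank to `h⁰`. -/
theorem h0_step (hdim : topologicalKrullDim X ≤ 1) {L : X.Modules} (hL : PicF.IsInvertible L)
    (φ : Coh.structureModule X ⟶ L) (hφ : φ ≠ 0) (hdeg : Curv2.deg k X L 1 = 1)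
    {E : X.Modules} {r : ℕ} (hE : FlatMod.IsFinLocFreeOfRank r E) :
    Module.finrank k (Coh.HH X (CohB1.tensorMod E L) 0) ≤ Module.finrank k (Coh.HH X E 0) + r := by
  have hO := Groth.EulerDeg.isInvertible_structureModule X
  haveI := Groth.EulerDeg.mono_of_ne_zero hO hL hφ
  haveI := Groth.EulerDeg.isNoetherian_of_proper k X
  have hOc := Groth.EulerDeg.isCoh_of_isInvertible hO
  have hLc := Groth.EulerDeg.isCoh_of_isInvertible hL
  haveI := hOc.1
  haveI := hLc.1
  let S := ShortComplex.mk φ (cokernel.π φ) (cokernel.condition φ)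
  have hS : S.ShortExact := { exact := ShortComplex.exact_cokernel φ }
  have hC : Coh.IsCoh (cokernel φ) := Groth.QCohMod.isCoh_cokernel φ hLc
  have hCs := Groth.EulerDeg.supportedAtClosed_cokernel hO hL hφ hdim
  have hCe := Groth.EulerDeg.deg_sub_eq_euler_cokernel hO hL hφ k
  rw [hdeg, Groth.EulerDeg.euler_eq_h0 k hCs, Curv2.deg, Nat.cast_one, one_mul, sub_self,
    sub_zero] at hCe
  haveI : S.X₁.IsQuasicoherent := hOc.1
  haveI : S.X₂.IsQuasicoherent := hLc.1
  haveI : S.X₃.IsQuasicoherent := hC.1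
  have hT := Groth.KTheory.LambdaVb.shortExact_tensor (Groth.LocFree.isFinLocFree_of_rank hE) hS
  have hfin := Groth.EulerDeg.finite_support_and_isClosed hCs hC
  haveI := Groth.EulerDeg.finite_HH k X hC 0
  obtain ⟨hfinC, hrC⟩ := Groth.DegMono.finrank_tensor_finite_support k hE (cokernel φ) hfin.toFinset
    (fun x hx => hCs x (hfin.mem_toFinset.1 hx))
    (fun x hx => not_not.1 fun hns => hx (hfin.mem_toFinset.2 hns))
  let u : CohB1.tensorMod E (Coh.structureModule X) ≅ E := SecTwist.unitorR E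
  have hA : Module.finrank k (Coh.HH X (CohB1.tensorMod E (Coh.structureModule X)) 0) =
      Module.finrank k (Coh.HH X E 0) := (Groth.EulerDeg.hEquiv k u 0).finrank_eq
  haveI hf1 : Module.Finite k (Coh.HH X (CohB1.tensorMod E (Coh.structureModule X)) 0) :=
    Groth.EulerDeg.finite_HH k X (Groth.QCohMod.isCoh_of_iso u.symm
      (Groth.KTheory.LocFree.isCoh (Groth.LocFree.isFinLocFree_of_rank hE))) 0
  let f := Groth.EulerDeg.hMap k (S.map ((DCoh.tensorBi (X := X)).obj E)).f 0
  let g := Groth.EulerDeg.hMap k (S.map ((DCoh.tensorBi (X := X)).obj E)).g 0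
  have hfin2 : Module.Finite k (Coh.HH X (CohB1.tensorMod E L) 0) :=
    Groth.EulerDeg.finite_HH k X (Groth.KTheory.LocFree.isCoh (Groth.LocFree.isFinLocFree_of_rank
      (Groth.LocFree.isFinLocFreeOfRank_tensorMod hE (Groth.LocFree.isInvertible_iff_ofRank_one.mp hL)))) 0
  haveI : Module.Finite k (Coh.HH X (S.map ((DCoh.tensorBi (X := X)).obj E)).X₂ 0) := hfin2
  haveI : Module.Finite k (Coh.HH X (S.map ((DCoh.tensorBi (X := X)).obj E)).X₁ 0) := hf1
  haveI : Module.Finite k (Coh.HH X (S.map ((DCoh.tensorBi (X := X)).obj E)).X₃ 0) := hfinC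
  have hex : Function.Exact f g := Groth.EulerDeg.exact_mid k hT 0
  have h1 : Module.finrank k (LinearMap.range g) + Module.finrank k (LinearMap.ker g) =
      Module.finrank k (Coh.HH X (CohB1.tensorMod E L) 0) := LinearMap.finrank_range_add_finrank_ker g
  have h2 : Module.finrank k (LinearMap.range g) ≤
      Module.finrank k (Coh.HH X (CohB1.tensorMod E (cokernel φ)) 0) := Submodule.finrank_le _
  have h3 : Module.finrank k (LinearMap.ker g) ≤
      Module.finrank k (Coh.HH X (CohB1.tensorMod E (Coh.structureModule X)) 0) := by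
    rw [LinearMap.exact_iff.1 hex]
    exact LinearMap.finrank_range_le f
  rw [show Module.finrank k (Coh.HH X (cokernel φ) 0) = 1 by exact_mod_cast hCe.symm, mul_one] at hrC
  omega

/-- The bound on sections, by repeated twisting. -/
theorem h0_le (hc : IsVBCurve k X) {L M : X.Modules} (hL : PicF.IsInvertible L)
    (hM : PicF.IsInvertible M) (hLM : ClSub.IsInverseOf L M) (φ : Coh.structureModule X ⟶ L)
    (hφ : φ ≠ 0) (hdeg : Curv2.deg k X L 1 = 1) (j : ℕ) :
    ∀ {E : X.Modules} {d : ℤ} {r : ℕ}, FlatMod.IsFinLocFreeOfRank r E → Bnd k E d r →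
      d - (j : ℤ) * r < 0 → Module.finrank k (Coh.HH X E 0) ≤ j * r := by
  induction j with
  | zero =>
    intro E d r hE h hd
    rw [Nat.cast_zero, zero_mul, sub_zero] at hd
    rw [finrank_h0_eq_zero hc (Groth.LocFree.isFinLocFree_of_rank hE) hd h]
    exact Nat.zero_le _
  | succ j ih =>
    intro E d r hE h hd
    have hE' : FlatMod.IsFinLocFreeOfRank (r * 1) (CohB1.tensorMod E M) :=
      Groth.LocFree.isFinLocFreeOfRank_tensorMod hE (Groth.LocFree.isInvertible_iff_ofRank_one.mp hM)
    rw [mul_one] at hE'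
    have h1 := ih hE' (bnd_twist hc.dim.le hL hLM hdeg h) (by push_cast at hd; linarith)
    have h2 := h0_step hc.dim.le hL φ hφ hdeg hE'
    let e : CohB1.tensorMod (CohB1.tensorMod E M) L ≅ E :=
      (Groth.PicAux.twistEquiv hLM).counitIso.app E
    rw [(Groth.EulerDeg.hEquiv k e 0).finrank_eq] at h2
    rw [add_mul, one_mul]
    omega

/-- Let X be a smooth projective integral curve over an algebraically closed field k of characteristic
zero, and G a finite locally free O_X-module of rank r ≥ 1 which is slope-semistable, of slope μ =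
deg G / r (deg G = χ(G) − r χ(O_X)). Then dim_k H^0(X, G) ≤ r · max(⌊μ⌋ + 1, 0); in particular a
slope-semistable bundle of negative slope has no nonzero global section. -/
theorem result (k : Type u) [Field k] [IsAlgClosed k] [CharZero k]
    (X : Scheme.{u}) [X.Over (Spec (CommRingCat.of k))]
    [IsIntegral X] [IsProper (X ↘ Spec (CommRingCat.of k))] [Smooth (X ↘ Spec (CommRingCat.of k))]
    (hdim : topologicalKrullDim X = 1)
    (r : ℕ) (hr : 0 < r) (G : X.Modules) (hG : FlatMod.IsFinLocFreeOfRank r G)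
    (hss : ModFun.IsSlopeSemistable k X G r) :
    (Module.finrank k (Coh.HH X G 0) : ℤ) ≤
      (r : ℤ) * max (⌊(Curv2.deg k X G r : ℚ) / (r : ℚ)⌋ + 1) 0 := by
  have hc := IsVBCurve.of_smooth k hdim
  have h := Groth.CurveBridge.isRegCurve_of_smooth k X hdim
  have hK := Groth.CurveBridge.isFunctionField (k := k) (X := X) hdim
  have hF := Groth.CurveBridge.isFF k X hdim
  obtain ⟨P⟩ := hF.nonempty_place
  let D : FunFld.Divisor k X.functionField := Finsupp.single P 1
  obtain ⟨L, hL, h0, hdeg, -⟩ := Groth.CurveBridge.exists_invertible_numerics (k := k) h hK D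
  rw [Groth.FunFld1.deg_single, Groth.FunFld1.deg_eq_one_of_isAlgClosed hF P] at hdeg
  have hdeg1 : Curv2.deg k X L 1 = 1 := by simpa using hdeg
  have hD : (0 : FunFld.Divisor k X.functionField) ≤ D := Finsupp.single_nonneg.2 zero_le_one
  haveI := hF.finiteDimensional_L D
  have hpos : 0 < Module.finrank k (Coh.HH X L 0) := by
    have h1 : FunFld.ell (0 : FunFld.Divisor k X.functionField) ≤ FunFld.ell D :=
      Submodule.finrank_mono (Groth.FunFld1.L_mono hD)
    rw [Groth.FunFld1.ell_zero_eq hK] at h1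
    omega
  have : Nontrivial (Coh.HH X L 0) := Module.nontrivial_of_finrank_pos (R := k) hpos
  obtain ⟨v, hv⟩ := exists_ne (0 : Coh.HH X L 0)
  let φ : Coh.structureModule X ⟶ L := Groth.PicAux.homOfSection (Groth.EulerDeg.h0Equiv k L v)
  have hφ : φ ≠ 0 := by
    intro hz
    apply hv
    rw [← (Groth.EulerDeg.h0Equiv k L).map_eq_zero_iff, ← Groth.PicAux.homOfSection_one
      (Groth.EulerDeg.h0Equiv k L v)]
    show φ.app ⊤ (Groth.PicAux.oneSec X ⊤) = 0
    rw [hz]
    rfl
  obtain ⟨M, hM, hLM⟩ := Groth.PicAux.exists_isInverseOf hL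
  have hbnd : Bnd k G (dg k G) r := by
    have := ss_of hG hss
    rwa [SS, rk_eq hG] at this
  rw [dg_eq k hG]
  set m : ℤ := ⌊(dg k G : ℚ) / (r : ℚ)⌋
  have hr' : (0 : ℚ) < r := by exact_mod_cast hr
  have hlt : dg k G < (m + 1) * (r : ℤ) := by
    have h2 := Int.lt_floor_add_one ((dg k G : ℚ) / (r : ℚ))
    rw [div_lt_iff₀ hr', ← Int.cast_one, ← Int.cast_add, ← Int.cast_natCast (R := ℚ),
      ← Int.cast_mul] at h2
    exact Int.cast_lt.1 h2
  have hj : ((max (m + 1) 0).toNat : ℤ) = max (m + 1) 0 := Int.toNat_of_nonneg (le_max_right _ _)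
  have hle := h0_le hc hL hM hLM φ hφ hdeg1 (max (m + 1) 0).toNat hG hbnd (by
    rw [hj]
    have := mul_le_mul_of_nonneg_right (le_max_left (m + 1) 0) (Int.natCast_nonneg r)
    linarith)
  calc (Module.finrank k (Coh.HH X G 0) : ℤ)
      ≤ (((max (m + 1) 0).toNat * r : ℕ) : ℤ) := by exact_mod_cast hle
    _ = (r : ℤ) * max (m + 1) 0 := by push_cast [hj]; ring

end Groth.Agent.S18831
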