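import Groth.Statements.S18832
import Groth.Agent.S11451
import Mathlib.RingTheory.MvPolynomial.Homogeneous
import Mathlib.Algebra.MvPolynomial.Funext

set_option autoImplicit false
universe u
open Polynomial
open DefT

namespace Groth.Agent.S18832

theorem prod_pow_mem {R : Type*} [CommRing R] {n : ℕ} (K : Ideal R) (b : Fin n → R) (hb : ∀ i, b i ∈ K)
    (e : Fin n →₀ ℕ) : e.prod (fun i j => b i ^ j) ∈ K ^ e.degree := by
  rw [Finsupp.degree_apply, Finsupp.prod, ← Finset.prod_pow_eq_pow_sum]
  exact Ideal.prod_mem_prod fun i _ => Ideal.pow_mem_pow (hb i) _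

/-- The coefficient in lowest degree after substituting an arc. -/
theorem coeff_aeval_arc {k : Type*} [Field k] {n d : ℕ} (q : Fin n → k[X]) (F : MvPolynomial (Fin n) k)
    (hF : ∀ e, e.degree < d → F.coeff e = 0) :
    (MvPolynomial.aeval (fun i => (X : k[X]) * q i) F).coeff d =
      MvPolynomial.eval (fun i => (q i).coeff 0) (MvPolynomial.homogeneousComponent d F) := by
  classical
  conv_lhs => rw [F.as_sum]
  rw [map_sum, Polynomial.finsetSum_coeff]
  have hv : ∀ G : MvPolynomial (Fin n) k, MvPolynomial.eval (fun i => (q i).coeff 0) G =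
      ∑ e ∈ G.support, G.coeff e * e.prod (fun i j => (q i).coeff 0 ^ j) := fun G => by
    rw [MvPolynomial.eval_eq]; rfl
  conv_rhs => rw [MvPolynomial.homogeneousComponent_apply, map_sum, Finset.sum_filter]
  refine Finset.sum_congr rfl fun e he => ?_
  have hm : MvPolynomial.aeval (fun i => (X : k[X]) * q i) (MvPolynomial.monomial e (F.coeff e)) =
      Polynomial.C (F.coeff e) * (X ^ e.degree * e.prod (fun i j => q i ^ j)) := by
    rw [MvPolynomial.aeval_monomial]
    congr 1
    rw [Finsupp.degree_apply, ← Finset.prod_pow_eq_pow_sum, Finsupp.prod, Finsupp.prod, ← Finset.prod_mul_distrib]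
    exact Finset.prod_congr rfl fun i _ => mul_pow _ _ _
  rw [hm, Polynomial.coeff_C_mul, Polynomial.coeff_X_pow_mul']
  rcases lt_trichotomy e.degree d with h | h | h
  · exact absurd (hF e h) (MvPolynomial.mem_support_iff.1 he)
  · rw [if_pos h.le, if_pos h, ← h, Nat.sub_self, MvPolynomial.eval_monomial]
    congr 1
    rw [Finsupp.prod, Finsupp.prod, Polynomial.coeff_zero_eq_eval_zero, Polynomial.eval_prod]
    exact Finset.prod_congr rfl fun i _ => by rw [Polynomial.eval_pow, Polynomial.coeff_zero_eq_eval_zero]
  · rw [if_neg (by omega), if_neg (by omega), mul_zero]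

/-- Let k be an algebraically closed field of characteristic zero, A a finitely generated k-algebra and
m a maximal ideal of A. Then A_m is a regular local ring (the pointed scheme (Spec A, m) is smooth
at m) if and only if, for every l ≥ 1, every k-algebra homomorphism φ : A → k[X]/(X^l) mapping m
into the nilpotent elements extends to a k-algebra homomorphism ψ : A → k[X]/(X^(l+1)) reducing to φ
modulo X^l. Only jets along Spec k[X]/(X^l) are tested, not all local Artinian algebras. -/
theorem result (k : Type u) [Field k] [IsAlgClosed k] [CharZero k]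
    (A : Type u) [CommRing A] [Algebra k A] [Algebra.FiniteType k A]
    (m : Ideal A) [m.IsMaximal] :
    IsRegularLocalRing (Localization.AtPrime m) ↔
      ∀ (l : ℕ), 1 ≤ l →
        ∀ (φ : A →ₐ[k] (k[X] ⧸ Ideal.span {(X : k[X]) ^ l})),
          (∀ a ∈ m, IsNilpotent (φ a)) →
          ∃ ψ : A →ₐ[k] (k[X] ⧸ Ideal.span {(X : k[X]) ^ (l + 1)}),
            (Ideal.Quotient.factorₐ k
                (Ideal.span_singleton_le_span_singleton.mpr (pow_dvd_pow (X : k[X]) (Nat.le_succ l)))).comp ψ = φ := by
  classical
  have : IsNoetherianRing A := Algebra.FiniteType.isNoetherianRing k A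
  let L := Localization.AtPrime m
  have : Algebra.EssFiniteType A L := Algebra.EssFiniteType.of_isLocalization L m.primeCompl
  have : Algebra.EssFiniteType k L := Algebra.EssFiniteType.comp k A L
  have hres₀ : ∀ a : A, ∃ c : k, a - algebraMap k A c ∈ m := by
    let : Field (A ⧸ m) := Ideal.Quotient.field m
    have : Module.Finite k (A ⧸ m) := finite_of_finite_type_of_isJacobsonRing k (A ⧸ m)
    have : Algebra.IsIntegral k (A ⧸ m) := Algebra.IsIntegral.of_finite k _
    intro a
    obtain ⟨c, hc⟩ := (IsAlgClosed.algebraMap_bijective_of_isIntegral (k := k) (K := A ⧸ m)).2 (Ideal.Quotient.mk m a)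
    exact ⟨c, Ideal.Quotient.eq.1 (hc.symm.trans (Ideal.Quotient.mk_algebraMap k m c).symm)⟩
  have hres : Function.Surjective (algebraMap k (IsLocalRing.ResidueField L)) := by
    intro z
    obtain ⟨x, rfl⟩ := IsLocalRing.residue_surjective z
    obtain ⟨a, s, rfl⟩ := IsLocalization.exists_mk'_eq m.primeCompl x
    obtain ⟨c, hc⟩ := hres₀ a
    obtain ⟨c', hc'⟩ := hres₀ s
    have hc0 : c' ≠ 0 := fun h => s.2 (by simpa [h] using hc')
    refine ⟨c / c', ?_⟩
    have hr : ∀ (b : A) (d : k), b - algebraMap k A d ∈ m →
        IsLocalRing.residue L (algebraMap A L b) = algebraMap k (IsLocalRing.ResidueField L) d := by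
      intro b d h
      rw [IsScalarTower.algebraMap_apply k L (IsLocalRing.ResidueField L), IsScalarTower.algebraMap_apply k A L]
      refine Ideal.Quotient.eq.2 ?_
      rw [← map_sub, ← Localization.AtPrime.map_eq_maximalIdeal]
      exact Ideal.mem_map_of_mem _ h
    rw [map_div₀, ← hr a c hc, ← hr s c' hc', eq_comm, eq_div_iff, ← map_mul, IsLocalization.mk'_spec]
    rw [hr s c' hc']
    exact fun h => hc0 ((algebraMap k (IsLocalRing.ResidueField L)).injective (h.trans (map_zero _).symm))
  constructor
  · intro hreg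
    have hlift := (Groth.Agent.S11451.result k L hres).1 hreg
    intro l hl φ hφ
    let J := Ideal.span {Ideal.Quotient.mk (Ideal.span {(X : k[X]) ^ (l + 1)}) ((X : k[X]) ^ l)}
    let B' := k[X] ⧸ Ideal.span {(X : k[X]) ^ (l + 1)}
    let fac := Ideal.Quotient.factorₐ k
      (Ideal.span_singleton_le_span_singleton.mpr (pow_dvd_pow (X : k[X]) (Nat.le_succ l)))
    have : Module.Finite k B' := (Polynomial.monic_X_pow (l + 1)).finite_quotient
    have : Nontrivial B' := Ideal.Quotient.nontrivial_iff.2 fun e => by
      rw [Ideal.span_singleton_eq_top] at e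
      exact Polynomial.not_isUnit_X ((isUnit_pow_iff (Nat.succ_ne_zero l)).1 e)
    have hXn : IsNilpotent (Ideal.Quotient.mk (Ideal.span {(X : k[X]) ^ (l + 1)}) X) :=
      ⟨l + 1, by rw [← map_pow, Ideal.Quotient.eq_zero_iff_mem]; exact Ideal.mem_span_singleton_self _⟩
    have hunit : ∀ x : B', IsNilpotent x ∨ IsUnit x := by
      intro x
      obtain ⟨P, rfl⟩ := Ideal.Quotient.mk_surjective x
      rw [← Polynomial.X_mul_divX_add P, map_add, map_mul]
      by_cases h : P.coeff 0 = 0
      · left
        rw [h, map_zero, map_zero, add_zero]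
        exact (Commute.all _ _).isNilpotent_mul_right hXn
      · right
        rw [add_comm (_ * _)]
        exact ((Commute.all _ _).isNilpotent_mul_right hXn).isUnit_add_left_of_commute
          ((Polynomial.isUnit_C.2 (isUnit_iff_ne_zero.2 h)).map (Ideal.Quotient.mk _)) (Commute.all _ _)
    have : IsLocalRing B' := IsLocalRing.of_isUnit_or_isUnit_one_sub_self fun x =>
      (hunit x).symm.imp_right fun h => h.isUnit_one_sub
    have hfs : Function.Surjective fac := Ideal.Quotient.factor_surjective
      (Ideal.span_singleton_le_span_singleton.mpr (pow_dvd_pow (X : k[X]) (Nat.le_succ l)))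
    have hJ : RingHom.ker fac.toRingHom ^ 2 = ⊥ := by
      rw [eq_bot_iff, pow_two, Ideal.mul_le]
      intro x hx y hy
      obtain ⟨x, rfl⟩ := Ideal.Quotient.mk_surjective x
      obtain ⟨y, rfl⟩ := Ideal.Quotient.mk_surjective y
      have hx' : Ideal.Quotient.mk (Ideal.span {(X : k[X]) ^ l}) x = 0 := hx
      have hy' : Ideal.Quotient.mk (Ideal.span {(X : k[X]) ^ l}) y = 0 := hy
      rw [Ideal.Quotient.eq_zero_iff_mem, Ideal.mem_span_singleton] at hx' hy'
      rw [Ideal.mem_bot, ← map_mul, Ideal.Quotient.eq_zero_iff_mem, Ideal.mem_span_singleton]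
      exact (pow_dvd_pow X (by omega : l + 1 ≤ l + l)).trans ((pow_add (X : k[X]) l l).symm ▸ mul_dvd_mul hx' hy')
    let e := Ideal.quotientKerAlgEquivOfSurjective hfs
    have hφu : ∀ s : m.primeCompl, IsUnit (φ s) := fun s => by
      obtain ⟨c, hc⟩ := hres₀ s.1
      have hc0 : c ≠ 0 := fun h => s.2 (by simpa [h] using hc)
      have := hφ _ hc
      rw [map_sub, φ.commutes] at this
      have h2 := this.isUnit_add_left_of_commute ((isUnit_iff_ne_zero.2 hc0).map (algebraMap k _)) (Commute.all _ _)
      rwa [add_sub_cancel] at h2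
    let φL : L →ₐ[k] _ := IsLocalization.liftAlgHom (M := m.primeCompl) (f := φ) hφu
    obtain ⟨ψ, hψ⟩ := hlift B' (RingHom.ker fac.toRingHom) hJ (e.symm.toAlgHom.comp φL)
    refine ⟨ψ.comp (IsScalarTower.toAlgHom k A L), AlgHom.ext fun a => ?_⟩
    have h1 := congrArg e (AlgHom.congr_fun hψ (algebraMap A L a))
    refine (h1.trans (e.apply_symm_apply _)).trans ?_
    exact IsLocalization.lift_eq _ _
  · intro hjet
    refine (Groth.Agent.S11451.result k L hres).2 ?_
    -- a basis of the cotangent space
    have hkilled : ∀ x ∈ m, ∀ y ∈ m, x * y ∈ m ^ 2 := fun x hx y hy => by rw [pow_two]; exact Ideal.mul_mem_mul hx hy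
    have : Module.Finite k m.Cotangent := by
      obtain ⟨s, hs⟩ := IsNoetherian.noetherian m
      refine ⟨⟨s.attach.image fun x => m.toCotangent ⟨x.1, hs ▸ Submodule.subset_span x.2⟩, ?_⟩⟩
      rw [eq_top_iff]
      rintro z -
      obtain ⟨⟨z, hz⟩, rfl⟩ := m.toCotangent_surjective z
      have hz' : z ∈ Submodule.span A (s : Set A) := hs.symm ▸ hz
      induction hz' using Submodule.span_induction with
      | mem x hx => exact Submodule.subset_span (Finset.mem_coe.2 (Finset.mem_image.2 ⟨⟨x, hx⟩, Finset.mem_attach _ _, rfl⟩))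
      | zero =>
        rw [show (⟨0, hz⟩ : m) = 0 from rfl, map_zero]
        exact zero_mem _
      | add x y hx hy h1 h2 =>
        rw [show (⟨x + y, hz⟩ : m) = ⟨x, hs ▸ hx⟩ + ⟨y, hs ▸ hy⟩ from rfl, map_add]
        exact add_mem (h1 _) (h2 _)
      | smul r x hx h1 =>
        obtain ⟨c, hc⟩ := hres₀ r
        have e1 : m.toCotangent ⟨r • x, hz⟩ = c • m.toCotangent ⟨x, hs ▸ hx⟩ := by
          rw [← LinearMap.map_smul_of_tower, Ideal.toCotangent_eq]
          show r * x - c • x ∈ m ^ 2
          rw [Algebra.smul_def, ← sub_mul]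
          exact hkilled _ hc _ (hs ▸ hx)
        rw [e1]
        exact Submodule.smul_mem _ _ (h1 _)
    let b := Module.finBasis k m.Cotangent
    choose g hg using fun i => m.toCotangent_surjective (b i)
    let Θ : MvPolynomial (Fin (Module.finrank k m.Cotangent)) k →ₐ[k] A := MvPolynomial.aeval fun i => (g i : A)
    -- surjective modulo powers of `m`
    have hΘ : ∀ N a, ∃ F, a - Θ F ∈ m ^ N := by
      have hstep : ∀ j, ∀ a ∈ m ^ j, ∃ F, a - Θ F ∈ m ^ (j + 1) := by
        have h1 : ∀ a ∈ m, ∃ F, a - Θ F ∈ m ^ 2 ∧ Θ F ∈ m := by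
          intro a ha
          refine ⟨∑ i, MvPolynomial.C (b.repr (m.toCotangent ⟨a, ha⟩) i) * MvPolynomial.X i, ?_, ?_⟩
          · have e : (⟨_, ha⟩ : m) - ∑ i, b.repr (m.toCotangent ⟨a, ha⟩) i • g i ∈ LinearMap.ker m.toCotangent := by
              rw [LinearMap.mem_ker, map_sub, map_sum]
              simp only [LinearMap.map_smul_of_tower, hg, b.sum_repr, sub_self]
            rw [LinearMap.mem_ker, Ideal.toCotangent_eq_zero] at e
            simpa [Θ, Algebra.smul_def] using e
          · simp only [Θ, map_sum, map_mul, MvPolynomial.aeval_C, MvPolynomial.aeval_X]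
            exact sum_mem fun i _ => Ideal.mul_mem_left _ _ (g i).2
        intro j
        induction j with
        | zero =>
          intro a _
          obtain ⟨c, hc⟩ := hres₀ a
          exact ⟨MvPolynomial.C c, by simpa [Θ] using hc⟩
        | succ j ih =>
          intro a ha
          rw [pow_succ] at ha
          induction ha using Submodule.mul_induction_on' with
          | mem_mul_mem x hx y hy =>
            obtain ⟨F, hF⟩ := ih x hx
            obtain ⟨G, hG, hGm⟩ := h1 y hy
            refine ⟨F * G, ?_⟩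
            have e : x * y - Θ (F * G) = (x - Θ F) * Θ G + x * (y - Θ G) := by rw [map_mul]; ring
            rw [e]
            refine add_mem ?_ ?_
            · rw [pow_succ]; exact Ideal.mul_mem_mul hF hGm
            · rw [show j + 1 + 1 = j + 2 by rfl, pow_add]; exact Ideal.mul_mem_mul hx hG
          | add x _ y _ h1 h2 =>
            obtain ⟨F, hF⟩ := h1
            obtain ⟨G, hG⟩ := h2
            exact ⟨F + G, by rw [map_add, add_sub_add_comm]; exact add_mem hF hG⟩
      intro N
      induction N with
      | zero => intro a; exact ⟨0, by simp⟩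
      | succ N ih =>
        intro a
        obtain ⟨F, hF⟩ := ih a
        obtain ⟨G, hG⟩ := hstep N _ hF
        exact ⟨F + G, by rwa [map_add, ← sub_sub]⟩
    -- arcs through every tangent vector
    have harc : ∀ (v : Fin (Module.finrank k m.Cotangent) → k) (l : ℕ),
        ∃ φ : A →ₐ[k] k[X] ⧸ Ideal.span {(X : k[X]) ^ (l + 2)}, (∀ a ∈ m, IsNilpotent (φ a)) ∧
          ∀ i, ∃ q : k[X], q.coeff 0 = v i ∧ φ (g i) = Ideal.Quotient.mk _ (X * q) := by
      intro v l
      induction l with
      | zero =>
        choose c hc using hres₀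
        let lv := b.constr k v
        let B₂ := k[X] ⧸ Ideal.span {(X : k[X]) ^ (0 + 2)}
        let T : A → B₂ := fun a => Ideal.Quotient.mk _ (Polynomial.C (c a) + X * Polynomial.C (lv (m.toCotangent ⟨_, hc a⟩)))
        have hwd : ∀ a d (h : a - algebraMap k A d ∈ m), T a = Ideal.Quotient.mk _ (Polynomial.C d + X * Polynomial.C (lv (m.toCotangent ⟨_, h⟩))) := by
          intro a d h
          have e : c a = d := by
            by_contra hne
            have h2 := sub_mem h (hc a)
            rw [sub_sub_sub_cancel_left, ← map_sub] at h2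
            exact ‹m.IsMaximal›.ne_top (Ideal.eq_top_of_isUnit_mem _ h2 ((isUnit_iff_ne_zero.2 (sub_ne_zero.2 hne)).map _))
          subst e
          rfl
        refine ⟨{ toFun := T, map_one' := ?_, map_mul' := ?_, map_zero' := ?_, map_add' := ?_, commutes' := ?_ }, ?_, ?_⟩
        · rw [hwd 1 1 (by simp), show (⟨1 - algebraMap k A 1, by simp⟩ : m) = 0 from Subtype.ext (by simp), map_zero, map_zero]
          simp
        · intro x y
          have hm' : x * y - algebraMap k A (c x * c y) ∈ m := by
            have e : x * y - algebraMap k A (c x * c y) = (x - algebraMap k A (c x)) * y + algebraMap k A (c x) * (y - algebraMap k A (c y)) := by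
              rw [map_mul]; ring
            rw [e]; exact add_mem (Ideal.mul_mem_right _ _ (hc x)) (Ideal.mul_mem_left _ _ (hc y))
          have hcot : m.toCotangent ⟨_, hm'⟩ = c y • m.toCotangent ⟨_, hc x⟩ + c x • m.toCotangent ⟨_, hc y⟩ := by
            rw [← LinearMap.map_smul_of_tower, ← LinearMap.map_smul_of_tower, ← map_add, Ideal.toCotangent_eq]
            show x * y - algebraMap k A (c x * c y) - (c y • (x - algebraMap k A (c x)) + c x • (y - algebraMap k A (c y))) ∈ m ^ 2
            have e : x * y - algebraMap k A (c x * c y) - (c y • (x - algebraMap k A (c x)) + c x • (y - algebraMap k A (c y))) =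
                (x - algebraMap k A (c x)) * (y - algebraMap k A (c y)) := by
              rw [Algebra.smul_def, Algebra.smul_def, map_mul]; ring
            rw [e]; exact hkilled _ (hc x) _ (hc y)
          rw [hwd _ _ hm', hcot, LinearMap.map_add, LinearMap.map_smul, LinearMap.map_smul]
          refine Eq.trans ?_ (map_mul (Ideal.Quotient.mk _) _ _)
          refine Ideal.Quotient.eq.2 (Ideal.mem_span_singleton.2 ⟨-(Polynomial.C (lv (m.toCotangent ⟨_, hc x⟩)) * Polynomial.C (lv (m.toCotangent ⟨_, hc y⟩))), ?_⟩)
          simp only [smul_eq_mul, map_mul, map_add]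
          ring
        · rw [hwd 0 0 (by simp), show (⟨0 - algebraMap k A 0, by simp⟩ : m) = 0 from Subtype.ext (by simp), map_zero, map_zero]
          simp
        · intro x y
          have hm' : x + y - algebraMap k A (c x + c y) ∈ m := by
            rw [map_add, add_sub_add_comm]; exact add_mem (hc x) (hc y)
          rw [hwd _ _ hm', show (⟨_, hm'⟩ : m) = ⟨_, hc x⟩ + ⟨_, hc y⟩ from Subtype.ext (by
            show x + y - algebraMap k A (c x + c y) = _
            simp only [Submodule.coe_add, map_add]; ring), map_add, map_add]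
          show _ = T x + T y
          simp only [T, map_add, mul_add]
          abel
        · intro d
          show T (algebraMap k A d) = _
          rw [hwd _ d (by simp), show (⟨algebraMap k A d - algebraMap k A d, by simp⟩ : m) = 0 from Subtype.ext (by simp),
            map_zero, map_zero]
          simp only [map_zero, mul_zero, add_zero]
          rfl
        · intro a ha
          refine ⟨2, ?_⟩
          show T a ^ 2 = 0
          rw [hwd a 0 (by simpa using ha), map_zero, zero_add (X * _), ← map_pow, Ideal.Quotient.eq_zero_iff_mem, mul_pow]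
          exact Ideal.mul_mem_right _ _ (Ideal.mem_span_singleton_self _)
        · intro i
          refine ⟨Polynomial.C (v i), Polynomial.coeff_C_zero, ?_⟩
          show T (g i) = _
          rw [hwd (g i) 0 (by simp), map_zero, zero_add (X * _)]
          congr 3
          rw [show (⟨(g i : A) - algebraMap k A 0, by simp⟩ : m) = g i from Subtype.ext (by simp), hg, Module.Basis.constr_basis]
      | succ l ih =>
        obtain ⟨φ, hφn, hφg⟩ := ih
        obtain ⟨ψ, hψ⟩ := hjet (l + 2) (by omega) φ hφn
        refine ⟨ψ, fun a ha => ?_, fun i => ?_⟩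
        · obtain ⟨N, hN⟩ := hφn a ha
          rw [← hψ, AlgHom.comp_apply, ← map_pow] at hN
          obtain ⟨P, hP⟩ := Ideal.Quotient.mk_surjective (ψ a ^ N)
          refine ⟨N * 2, ?_⟩
          rw [pow_mul, ← hP, ← map_pow, Ideal.Quotient.eq_zero_iff_mem, Ideal.mem_span_singleton]
          rw [← hP] at hN
          have hP' : (X : k[X]) ^ (l + 2) ∣ P := Ideal.mem_span_singleton.1 (Ideal.Quotient.eq_zero_iff_mem.1 hN)
          exact (pow_dvd_pow X (by omega : l + 3 ≤ (l + 2) + (l + 2))).trans (by rw [pow_add, pow_two]; exact mul_dvd_mul hP' hP')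
        · obtain ⟨q, hq, hqφ⟩ := hφg i
          obtain ⟨P, hP⟩ := Ideal.Quotient.mk_surjective (ψ (g i))
          rw [← hψ, AlgHom.comp_apply, ← hP] at hqφ
          obtain ⟨R, hR⟩ := Ideal.mem_span_singleton.1 (Ideal.Quotient.eq.1 hqφ)
          refine ⟨q + X ^ (l + 1) * R, by simp [hq], ?_⟩
          rw [← hP, show P = X * (q + X ^ (l + 1) * R) by rw [eq_add_of_sub_eq hR]; ring]
    -- polynomials landing in a power of `m` vanish to that order
    have hinj : ∀ N F, Θ F ∈ m ^ N → ∀ e, e.degree < N → F.coeff e = 0 := by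
      intro N F hF e
      induction h : e.degree using Nat.strong_induction_on generalizing e with
      | _ d ih =>
        intro hd
        have hlow : ∀ e', e'.degree < d → F.coeff e' = 0 := fun e' he' => ih _ he' e' rfl (by omega)
        have hzero : MvPolynomial.homogeneousComponent d F = 0 := by
          refine MvPolynomial.funext fun v => ?_
          rw [map_zero]
          obtain ⟨φ, hφn, hφg⟩ := harc v d
          choose q hq hqφ using hφg
          let q' := fun i => Ideal.Quotient.mkₐ k (Ideal.span {(X : k[X]) ^ (d + 2)}) (X * q i)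
          have h1 : φ (Θ F) = Ideal.Quotient.mkₐ k _ (MvPolynomial.aeval (fun i => (X : k[X]) * q i) F) := by
            rw [← AlgHom.comp_apply, ← AlgHom.comp_apply]
            congr 1
            exact MvPolynomial.algHom_ext fun i => by simp [Θ, hqφ]
          have h2 : φ (Θ F) ∈ (Ideal.span {Ideal.Quotient.mk (Ideal.span {(X : k[X]) ^ (d + 2)}) X}) ^ N := by
            have hm : m.map φ.toRingHom ≤ Ideal.span {Ideal.Quotient.mk (Ideal.span {(X : k[X]) ^ (d + 2)}) X} := by
              rw [Ideal.map_le_iff_le_comap]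
              intro a ha
              obtain ⟨P, hP⟩ := Ideal.Quotient.mk_surjective (φ a)
              obtain ⟨M, hM⟩ := hφn a ha
              rw [← hP, ← map_pow, Ideal.Quotient.eq_zero_iff_mem, Ideal.mem_span_singleton] at hM
              refine Ideal.mem_comap.2 (Ideal.mem_span_singleton.2 ?_)
              exact hP ▸ map_dvd _ (Polynomial.prime_X.dvd_of_dvd_pow ((dvd_pow_self X (by omega)).trans hM))
            exact Ideal.pow_right_mono hm N (by rw [← Ideal.map_pow]; exact Ideal.mem_map_of_mem φ.toRingHom hF)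
          rw [h1, Ideal.span_singleton_pow, Ideal.mem_span_singleton] at h2
          obtain ⟨c, hc⟩ := h2
          obtain ⟨c, rfl⟩ := Ideal.Quotient.mk_surjective c
          rw [Ideal.Quotient.mkₐ_eq_mk, ← map_pow, ← map_mul, Ideal.Quotient.eq, Ideal.mem_span_singleton] at hc
          obtain ⟨R, hR⟩ := hc
          have h3 := coeff_aeval_arc q F hlow
          rw [eq_add_of_sub_eq hR, Polynomial.coeff_add, Polynomial.coeff_X_pow_mul', Polynomial.coeff_X_pow_mul',
            if_neg (by omega), if_neg (by omega), add_zero] at h3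
          rw [show (fun i => (q i).coeff 0) = v from funext hq] at h3
          exact h3.symm
        have := congrArg (MvPolynomial.coeff e) hzero
        rwa [MvPolynomial.coeff_homogeneousComponent, if_pos h, MvPolynomial.coeff_zero] at this
    -- lifting
    intro B' _ _ _ _ J hJ f
    have : IsArtinianRing B' := isArtinian_of_tower k inferInstance
    obtain ⟨N, hN⟩ := IsArtinianRing.isNilpotent_jacobson_bot (R := B')
    rw [IsLocalRing.jacobson_eq_maximalIdeal ⊥ bot_ne_top] at hN
    let f₀ : A →ₐ[k] B' ⧸ J := f.comp (IsScalarTower.toAlgHom k A L)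
    have hJm : J ≤ IsLocalRing.maximalIdeal B' := IsLocalRing.le_maximalIdeal fun e => by
      rw [e, Ideal.top_pow] at hJ; exact top_ne_bot hJ
    have hne : J ≠ ⊤ := fun e => by rw [e, Ideal.top_pow] at hJ; exact top_ne_bot hJ
    have : Nontrivial (B' ⧸ J) := Ideal.Quotient.nontrivial_iff.2 hne
    have hmem : ∀ a ∈ m, ∀ b, Ideal.Quotient.mk J b = f₀ a → b ∈ IsLocalRing.maximalIdeal B' := by
      intro a ha b hb
      by_contra hu
      have hu1 : IsUnit (f₀ a) := hb ▸ (IsLocalRing.notMem_maximalIdeal.1 hu).map (Ideal.Quotient.mk J)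
      obtain ⟨u, hu1⟩ := hu1
      obtain ⟨u', hu'⟩ := Ideal.Quotient.mk_surjective (↑u⁻¹ : B' ⧸ J)
      obtain ⟨c, hc⟩ : ∃ c : k, u' - algebraMap k B' c ∈ IsLocalRing.maximalIdeal B' := by
        let κ := IsLocalRing.ResidueField B'
        have : Module.Finite k κ := inferInstance
        have : Algebra.IsIntegral k κ := Algebra.IsIntegral.of_finite k κ
        obtain ⟨c, hc⟩ := (IsAlgClosed.algebraMap_bijective_of_isIntegral (k := k) (K := κ)).2 (IsLocalRing.residue B' u')
        exact ⟨c, Ideal.Quotient.eq.1 (hc.symm.trans (IsScalarTower.algebraMap_apply k B' κ c))⟩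
      -- `1 - c a` is a unit of `L` sent to a nilpotent
      have hunit : IsUnit (algebraMap A L (1 - algebraMap k A c * a)) :=
        IsLocalization.map_units L (⟨_, fun h => ‹m.IsMaximal›.ne_top ((Ideal.eq_top_iff_one _).2
          (by have := add_mem h (Ideal.mul_mem_left _ (algebraMap k A c) ha); rwa [sub_add_cancel] at this))⟩ : m.primeCompl)
      have h2 := hunit.map f
      have h3 : f₀ (1 - algebraMap k A c * a) = Ideal.Quotient.mk J ((u' - algebraMap k B' c) * b) := by
        rw [map_sub, map_one, map_mul, f₀.commutes, map_mul, map_sub, hu', Ideal.Quotient.mk_algebraMap, hb, sub_mul, ← hu1,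
          Units.inv_mul]
      have h4 : IsNilpotent (f₀ (1 - algebraMap k A c * a)) := by
        rw [h3]
        refine IsNilpotent.map ⟨N, ?_⟩ _
        have := Ideal.pow_mem_pow (Ideal.mul_mem_right b _ hc) N
        rwa [hN] at this
      exact h4.not_isUnit h2
    choose w hw using fun i => Ideal.Quotient.mk_surjective (f₀ (g i))
    let h := MvPolynomial.aeval (R := k) w
    have hwm : ∀ i, w i ∈ IsLocalRing.maximalIdeal B' := fun i => hmem _ (g i).2 _ (hw i)
    have hker : ∀ F, Θ F ∈ m ^ N → h F = 0 := by
      intro F hF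
      rw [F.as_sum, map_sum]
      refine Finset.sum_eq_zero fun e he => ?_
      have hdeg : N ≤ e.degree := by
        by_contra hlt
        exact MvPolynomial.mem_support_iff.1 he (hinj N F hF e (not_le.1 hlt))
      rw [MvPolynomial.aeval_monomial]
      have := Ideal.pow_le_pow_right hdeg (prod_pow_mem _ w hwm e)
      rw [hN] at this
      rw [show e.prod (fun i j => w i ^ j) = 0 from this, mul_zero]
    have hhΘ : ∀ F, Ideal.Quotient.mk J (h F) = f₀ (Θ F) := fun F =>
      AlgHom.congr_fun (MvPolynomial.algHom_ext (f := (Ideal.Quotient.mkₐ k J).comp h) (g := f₀.comp Θ) fun i => by simp [h, Θ, hw]) F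
    choose R hR using hΘ N
    have hwd : ∀ a F, a - Θ F ∈ m ^ N → h (R a) = h F := fun a F hF => by
      rw [← sub_eq_zero, ← map_sub]
      refine hker _ ?_
      have := sub_mem hF (hR a)
      rwa [sub_sub_sub_cancel_left, ← map_sub] at this
    let ψ : A →ₐ[k] B' :=
      { toFun := fun a => h (R a)
        map_one' := by rw [hwd 1 1 (by simp), map_one]
        map_zero' := by rw [hwd 0 0 (by simp), map_zero]
        map_add' := fun x y => by
          rw [hwd (x + y) (R x + R y) (by rw [map_add, add_sub_add_comm]; exact add_mem (hR x) (hR y)), map_add]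
        map_mul' := fun x y => by
          refine (hwd (x * y) (R x * R y) ?_).trans (map_mul _ _ _)
          rw [map_mul, show x * y - Θ (R x) * Θ (R y) = (x - Θ (R x)) * y + Θ (R x) * (y - Θ (R y)) by ring]
          exact add_mem (Ideal.mul_mem_right _ _ (hR x)) (Ideal.mul_mem_left _ _ (hR y))
        commutes' := fun c => (hwd _ (MvPolynomial.C c) (by simp [Θ])).trans (MvPolynomial.aeval_C _ _) }
    have hψ : ∀ a, Ideal.Quotient.mk J (ψ a) = f₀ a := fun a => by
      show Ideal.Quotient.mk J (h (R a)) = f₀ a
      rw [hhΘ, eq_comm, ← sub_eq_zero, ← map_sub]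
      have hmap : ∀ x ∈ m, f₀ x ∈ (IsLocalRing.maximalIdeal B').map (Ideal.Quotient.mk J) := fun x hx => by
        obtain ⟨y, hy⟩ := Ideal.Quotient.mk_surjective (f₀ x)
        exact hy ▸ Ideal.mem_map_of_mem _ (hmem x hx y hy)
      have h1 : f₀ (a - Θ (R a)) ∈ ((IsLocalRing.maximalIdeal B').map (Ideal.Quotient.mk J)) ^ N :=
        Ideal.pow_right_mono (Ideal.map_le_iff_le_comap.2 (fun x hx => Ideal.mem_comap.2 (hmap x hx)) : m.map f₀.toRingHom ≤ _) N
          (by rw [← Ideal.map_pow]; exact Ideal.mem_map_of_mem f₀.toRingHom (hR a))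
      rw [← Ideal.map_pow, hN] at h1
      simpa using h1
    have hψu : ∀ s : m.primeCompl, IsUnit (ψ s) := fun s => by
      by_contra hu
      have h1 : ψ s ∈ IsLocalRing.maximalIdeal B' := (IsLocalRing.mem_maximalIdeal _).2 hu
      have h2 : IsUnit (f₀ s) := (IsLocalization.map_units L s).map f
      refine IsNilpotent.not_isUnit (?_ : IsNilpotent (f₀ s)) h2
      rw [← hψ]
      refine IsNilpotent.map ⟨N, ?_⟩ _
      have := Ideal.pow_mem_pow h1 N
      rwa [hN] at this
    refine ⟨IsLocalization.liftAlgHom (M := m.primeCompl) (f := ψ) hψu, ?_⟩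
    apply IsLocalization.algHom_ext m.primeCompl
    refine AlgHom.ext fun a => ?_
    show Ideal.Quotient.mk J (IsLocalization.lift _ (algebraMap A L a)) = f₀ a
    rw [IsLocalization.lift_eq]
    exact hψ a

end Groth.Agent.S18832
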