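import Groth.Statements.S18833
import Groth.Agent.HilbStab.ESeries
-- import your own Groth.Agent.* helpers here

set_option autoImplicit false
open CategoryTheory CategoryTheory.Limits AlgebraicGeometry Polynomial
universe u
open ShStab

namespace Groth.Agent.S18833

/-- Let k be an algebraically closed field of characteristic zero, X a smooth projective integral
variety of dimension n ≥ 1 over k with an ample invertible sheaf L, and F a nonzero torsion-free
coherent O_X-module (pure of dimension n). Then F has exactly one increasing filtration by saturated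
subsheaves 0 ⊂ F_0 ⊂ ⋯ ⊂ F_s = F whose graded pieces are torsion-free and slope-semistable with
strictly decreasing slopes. Slopes are compared through the quantity α_(n−1)/α_n of the Hilbert
polynomials with respect to L, an increasing affine function of the slope det · L^(n−1)/rank used in
the source; the source takes L very ample, its argument using only that high twists of coherent
sheaves are globally generated, so L is taken ample here. -/
theorem result (k : Type u) [Field k] [IsAlgClosed k] [CharZero k]
    (X : Scheme.{u}) [X.Over (Spec (CommRingCat.of k))] [IsIntegral X]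
    [IsProper (X ↘ Spec (CommRingCat.of k))] [Smooth (X ↘ Spec (CommRingCat.of k))]
    (n : ℕ) (hn : 1 ≤ n) (hX : topologicalKrullDim X = (n : WithBot ℕ∞))
    (L : X.Modules) (hLi : PicF.IsInvertible L) (hL : CohB1.IsAmple L)
    (F : X.Modules) (hF : Coh.IsCoh F) (h0 : ¬ IsZero F) (htf : ShStab.IsPure X F n) :
    ∃! s : LTSeries (Subobject F),
      s.head = ⊥ ∧ s.last = ⊤ ∧
      (∀ i : Fin s.length,
        ShStab.IsPure X (StabCat.factor s i) n ∧ ShStab.IsMuSemistable k X L (StabCat.factor s i) n) ∧
      ∀ (i j : Fin s.length), i.val + 1 = j.val →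
        ∀ (p q : ℚ[X]), ShStab.IsHilbPoly k X L (StabCat.factor s i) p →
          ShStab.IsHilbPoly k X L (StabCat.factor s j) q →
          StabCat.hatSlope n q < StabCat.hatSlope n p := by
  haveI := Groth.HilbStab.isLocallyNoetherian k (X := X)
  haveI := Groth.HilbStab.compactSpace_of_proper k X
  have key : ∀ s : LTSeries (Subobject F),
      (s.head = ⊥ ∧ s.last = ⊤ ∧
      (∀ i : Fin s.length,
        ShStab.IsPure X (StabCat.factor s i) n ∧ ShStab.IsMuSemistable k X L (StabCat.factor s i) n) ∧
      ∀ (i j : Fin s.length), i.val + 1 = j.val →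
        ∀ (p q : ℚ[X]), ShStab.IsHilbPoly k X L (StabCat.factor s i) p →
          ShStab.IsHilbPoly k X L (StabCat.factor s j) q →
          StabCat.hatSlope n q < StabCat.hatSlope n p) ↔
      Groth.HilbStab.IsEHNSeries k L n 1 s := by
    intro s
    constructor
    · rintro ⟨h1, h2, h3, h4⟩
      refine ⟨h1, h2, fun i => (Groth.HilbStab.muSS_iff k hL hn).mp (h3 i), fun i j hij p q hp hq => ?_⟩
      exact (Groth.HilbStab.pp_ecr_one_iff hn
        (Groth.HilbStab.alpha_pos_of_isPure k hL (h3 j).1 (𝟙 _) (h3 j).2.1 (h3 j).2.2.1 hq)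
        (Groth.HilbStab.alpha_pos_of_isPure k hL (h3 i).1 (𝟙 _) (h3 i).2.1 (h3 i).2.2.1 hp)).mpr
        (h4 i j hij p q hp hq)
    · rintro ⟨h1, h2, h3, h4⟩
      refine ⟨h1, h2, fun i => (Groth.HilbStab.muSS_iff k hL hn).mpr (h3 i),
        fun i j hij p q hp hq => ?_⟩
      exact (Groth.HilbStab.pp_ecr_one_iff hn
        (Groth.HilbStab.alpha_pos_of_isPure k hL (h3 j).2.2.1 (𝟙 _) (h3 j).1 (h3 j).2.1 hq)
        (Groth.HilbStab.alpha_pos_of_isPure k hL (h3 i).2.2.1 (𝟙 _) (h3 i).1 (h3 i).2.1 hp)).mp
        (h4 i j hij p q hp hq)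
  obtain ⟨s, hs⟩ := Groth.HilbStab.exists_ehnSeries k hL hF htf h0 1
  exact ⟨s, (key s).mpr hs,
    fun t ht => Groth.HilbStab.ehnSeries_unique k hL hF htf t s ((key t).mp ht) hs⟩

end Groth.Agent.S18833
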