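import Groth.Statements.S18837
import Groth.Agent.ArtfunDeform.TruncatedFlat

set_option autoImplicit false
universe u
open Polynomial TensorProduct
open Deform

namespace Groth.Agent.S18837

/-- Let k be an algebraically closed field of characteristic zero, n ≥ 1, D = k[X]/(X^(n+1)) (given with
a k-algebra isomorphism e identifying the class of X with τ ∈ D), and B a finitely generated
k-algebra which is a flat D-algebra such that B/tB is smooth over k, where t is the image of τ in B
(an affine open of a flat deformation of a smooth k-scheme over Spec D); put B' = B/t^nB. Then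
Ω_(B/D) is a projective B-module, B' ⊗_B Ω_(B/k) is a projective B'-module, and the sequence 0 → B'
→ B' ⊗_B Ω_(B/k) → B' ⊗_B Ω_(B/D) → 0 is exact, the first map being b ↦ b · (1 ⊗ dt) and the second
the base change of the canonical surjection Ω_(B/k) → Ω_(B/D). The source states this for a flat
proper family over Spec D with smooth central fibre; the statement is local and is given here on an
affine open. -/
theorem result (k : Type u) [Field k] [IsAlgClosed k] [CharZero k] (n : ℕ) (hn : 1 ≤ n)
    (D : Type u) [CommRing D] [Algebra k D] (τ : D)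
    (e : (k[X] ⧸ Ideal.span {(X : k[X]) ^ (n + 1)}) ≃ₐ[k] D)
    (he : e (Ideal.Quotient.mk (Ideal.span {(X : k[X]) ^ (n + 1)}) X) = τ)
    (B : Type u) [CommRing B] [Algebra k B] [Algebra D B] [IsScalarTower k D B]
    [Algebra.FiniteType k B] [Module.Flat D B]
    (t : B) (ht : t = algebraMap D B τ) (hsm : Algebra.Smooth k (B ⧸ Ideal.span {t})) :
    Module.Projective B (Ω[B⁄D]) ∧
    Module.Projective (B ⧸ Ideal.span {t ^ n}) ((B ⧸ Ideal.span {t ^ n}) ⊗[B] Ω[B⁄k]) ∧
    Function.Injective
      (LinearMap.toSpanSingleton (B ⧸ Ideal.span {t ^ n}) ((B ⧸ Ideal.span {t ^ n}) ⊗[B] Ω[B⁄k])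
        ((1 : (B ⧸ Ideal.span {t ^ n})) ⊗ₜ[B] KaehlerDifferential.D k B t)) ∧
    Function.Exact
      (LinearMap.toSpanSingleton (B ⧸ Ideal.span {t ^ n}) ((B ⧸ Ideal.span {t ^ n}) ⊗[B] Ω[B⁄k])
        ((1 : (B ⧸ Ideal.span {t ^ n})) ⊗ₜ[B] KaehlerDifferential.D k B t))
      (LinearMap.baseChange (B ⧸ Ideal.span {t ^ n}) (KaehlerDifferential.map k D B B)) ∧
    Function.Surjective (LinearMap.baseChange (B ⧸ Ideal.span {t ^ n}) (KaehlerDifferential.map k D B B)) := by
  have := Groth.ArtfunDeform.TruncatedFlat.formallySmooth e he ht hsm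
  obtain ⟨σ, hσ⟩ := Groth.ArtfunDeform.TruncatedFlat.exists_sigma e he ht
  let B' := B ⧸ Ideal.span {t ^ n}
  let v : B' ⊗[B] Ω[B⁄k] := (1 : B') ⊗ₜ[B] KaehlerDifferential.D k B t
  let σ' : B' ⊗[B] Ω[B⁄k] →ₗ[B'] B' := σ.liftBaseChange B'
  have hσ' : ∀ c : B', σ' (c • v) = c := fun c => by
    rw [map_smul]
    simp [σ', v, hσ]
  have hex := Groth.ArtfunDeform.TruncatedFlat.exact_baseChange e he ht B'
  have hsurj : Function.Surjective (LinearMap.baseChange B' (KaehlerDifferential.map k D B B)) :=
    LinearMap.lTensor_surjective _ (KaehlerDifferential.map_surjective k D B)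
  have hinj : Function.Injective (LinearMap.toSpanSingleton B' (B' ⊗[B] Ω[B⁄k]) v) := fun a b h => by
    rw [← hσ' a, ← hσ' b]
    exact congrArg σ' h
  refine ⟨inferInstance, ?_, hinj, hex, hsurj⟩
  let π := LinearMap.baseChange B' (KaehlerDifferential.map k D B B)
  have hb : Function.Bijective (σ'.prod π) := by
    constructor
    · rw [injective_iff_map_eq_zero]
      intro x hx
      obtain ⟨h1, h2⟩ := Prod.ext_iff.1 hx
      obtain ⟨c, rfl⟩ := (hex x).1 h2
      have h3 : σ' (c • v) = 0 := h1
      rw [hσ'] at h3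
      simp [h3]
    · rintro ⟨c, w⟩
      obtain ⟨x, rfl⟩ := hsurj w
      refine ⟨x + (c - σ' x) • v, Prod.ext ?_ ?_⟩
      · show σ' (x + (c - σ' x) • v) = c
        rw [map_add, hσ', add_sub_cancel]
      · show π (x + (c - σ' x) • v) = π x
        rw [map_add, show π ((c - σ' x) • v) = 0 from hex.apply_apply_eq_zero (c - σ' x), add_zero]
  exact Module.Projective.of_equiv (LinearEquiv.ofBijective (σ'.prod π) hb).symm

end Groth.Agent.S18837
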