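import Groth.Statements.S18838
import Groth.Agent.ArtfunDeform.TruncatedFlat

set_option autoImplicit false
universe u
open Polynomial TensorProduct
open Deform

namespace Groth.Agent.S18838

/-- Let k be an algebraically closed field of characteristic zero, n ≥ 1, D = k[X]/(X^(n+1)) (given with
a k-algebra isomorphism e identifying the class of X with τ ∈ D), and B a finitely generated
k-algebra which is a flat D-algebra such that B/tB is smooth over k, where t is the image of τ in B
(an affine open of a flat deformation of a smooth k-scheme over Spec D); put B' = B/t^nB. The map μ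
: B → B' × (B' ⊗_B Ω_(B/k)) sending f to (f mod t^n, 1 ⊗ df) is injective, and its image consists
exactly of the pairs (g, α) with dg = r(α) in Ω_(B'/k), r being the canonical map B' ⊗_B Ω_(B/k) →
Ω_(B'/k). Injectivity uses that n is invertible in k. The source works with a flat proper family
over Spec D with smooth central fibre; the statement is local and is given here on an affine open. -/
theorem result (k : Type u) [Field k] [IsAlgClosed k] [CharZero k] (n : ℕ) (hn : 1 ≤ n)
    (D : Type u) [CommRing D] [Algebra k D] (τ : D)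
    (e : (k[X] ⧸ Ideal.span {(X : k[X]) ^ (n + 1)}) ≃ₐ[k] D)
    (he : e (Ideal.Quotient.mk (Ideal.span {(X : k[X]) ^ (n + 1)}) X) = τ)
    (B : Type u) [CommRing B] [Algebra k B] [Algebra D B] [IsScalarTower k D B]
    [Algebra.FiniteType k B] [Module.Flat D B]
    (t : B) (ht : t = algebraMap D B τ) (hsm : Algebra.Smooth k (B ⧸ Ideal.span {t})) :
    Function.Injective (fun f : B =>
      ((Ideal.Quotient.mk (Ideal.span {t ^ n}) f,
        (1 : (B ⧸ Ideal.span {t ^ n})) ⊗ₜ[B] KaehlerDifferential.D k B f) : (B ⧸ Ideal.span {t ^ n}) × ((B ⧸ Ideal.span {t ^ n}) ⊗[B] Ω[B⁄k]))) ∧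
    Set.range (fun f : B =>
      ((Ideal.Quotient.mk (Ideal.span {t ^ n}) f,
        (1 : (B ⧸ Ideal.span {t ^ n})) ⊗ₜ[B] KaehlerDifferential.D k B f) : (B ⧸ Ideal.span {t ^ n}) × ((B ⧸ Ideal.span {t ^ n}) ⊗[B] Ω[B⁄k]))) =
      {p | KaehlerDifferential.D k (B ⧸ Ideal.span {t ^ n}) p.1 = KaehlerDifferential.mapBaseChange k B (B ⧸ Ideal.span {t ^ n}) p.2} := by
  have := Groth.ArtfunDeform.TruncatedFlat.formallySmooth e he ht hsm
  obtain ⟨σ, hσ⟩ := Groth.ArtfunDeform.TruncatedFlat.exists_sigma e he ht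
  let B' := B ⧸ Ideal.span {t ^ n}
  let v : B' ⊗[B] Ω[B⁄k] := (1 : B') ⊗ₜ[B] KaehlerDifferential.D k B t
  let σ' : B' ⊗[B] Ω[B⁄k] →ₗ[B'] B' := σ.liftBaseChange B'
  have hσ' : ∀ c : B', σ' (c • v) = c := fun c => by
    rw [map_smul]
    simp [σ', v, hσ]
  have hq : ∀ f : B, (1 : B') ⊗ₜ[B] (t ^ n • KaehlerDifferential.D k B f) = 0 := fun f => by
    rw [← TensorProduct.smul_tmul, Algebra.smul_def, mul_one,
      show algebraMap B B' (t ^ n) = 0 from Ideal.Quotient.eq_zero_iff_mem.2 (Ideal.mem_span_singleton_self _),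
      TensorProduct.zero_tmul]
  have hD : ∀ g : B, (1 : B') ⊗ₜ[B] KaehlerDifferential.D k B (t ^ n * g) =
      ((n : B') * algebraMap B B' (t ^ (n - 1) * g)) • v := fun g => by
    rw [Derivation.leibniz, tmul_add, hq, zero_add, Derivation.leibniz_pow, smul_comm g, ← Nat.cast_smul_eq_nsmul B,
      ← mul_smul g, ← mul_smul, ← TensorProduct.smul_tmul, TensorProduct.smul_tmul', Algebra.smul_def, smul_eq_mul,
      mul_one, mul_one, map_mul, map_natCast, mul_comm g]
  constructor
  · intro f f' hff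
    obtain ⟨h1, h2⟩ := Prod.ext_iff.1 hff
    obtain ⟨g, hg⟩ := Ideal.mem_span_singleton'.1 (Ideal.Quotient.eq.1 h1)
    have h3 : (1 : B') ⊗ₜ[B] KaehlerDifferential.D k B (t ^ n * g) = 0 := by
      rw [mul_comm, hg, map_sub, tmul_sub]
      exact sub_eq_zero.2 h2
    rw [hD] at h3
    have h4 := congrArg σ' h3
    rw [hσ', map_zero] at h4
    have hu : IsUnit ((n : B')) := by
      have : IsUnit ((n : k)) := isUnit_iff_ne_zero.2 (Nat.cast_ne_zero.2 (by omega))
      simpa using this.map (algebraMap k B')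
    rw [hu.mul_right_eq_zero] at h4
    obtain ⟨c, hc⟩ := Ideal.mem_span_singleton'.1 (Ideal.Quotient.eq_zero_iff_mem.1 h4)
    refine sub_eq_zero.1 ?_
    rw [← hg, mul_comm g]
    obtain ⟨m, rfl⟩ : ∃ m, n = m + 1 := ⟨n - 1, by omega⟩
    rw [Nat.add_sub_cancel] at hc
    have h0 := Groth.ArtfunDeform.TruncatedFlat.pow_succ_eq_zero e he ht
    calc t ^ (m + 1) * g = t * (t ^ m * g) := by rw [pow_succ']; ring
      _ = t * (c * t ^ (m + 1)) := by rw [hc]
      _ = c * t ^ (m + 1 + 1) := by rw [pow_succ' t (m + 1)]; ring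
      _ = 0 := by rw [h0, mul_zero]
  · refine Set.eq_of_subset_of_subset ?_ ?_
    · rintro _ ⟨f, rfl⟩
      show KaehlerDifferential.D k B' (Ideal.Quotient.mk (Ideal.span {t ^ n}) f) = _
      rw [KaehlerDifferential.mapBaseChange_tmul, one_smul, KaehlerDifferential.map_D]
      rfl
    · rintro ⟨g, α⟩ (h : KaehlerDifferential.D k B' g = KaehlerDifferential.mapBaseChange k B B' α)
      obtain ⟨f₀, rfl⟩ := Ideal.Quotient.mk_surjective g
      have h0 : KaehlerDifferential.mapBaseChange k B B' (α - (1 : B') ⊗ₜ[B] KaehlerDifferential.D k B f₀) = 0 := by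
        rw [map_sub, ← h, KaehlerDifferential.mapBaseChange_tmul, one_smul, KaehlerDifferential.map_D]
        exact sub_self _
      obtain ⟨i, hi⟩ := (KaehlerDifferential.exact_kerCotangentToTensor_mapBaseChange k B B' Ideal.Quotient.mk_surjective _).1 h0
      obtain ⟨i, rfl⟩ := Ideal.toCotangent_surjective _ i
      rw [KaehlerDifferential.kerCotangentToTensor_toCotangent] at hi
      refine ⟨f₀ + i.1, Prod.ext ?_ ?_⟩
      · show Ideal.Quotient.mk (Ideal.span {t ^ n}) (f₀ + i.1) = _
        rw [map_add, show Ideal.Quotient.mk (Ideal.span {t ^ n}) i.1 = 0 from i.2, add_zero]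
      · show (1 : B') ⊗ₜ[B] KaehlerDifferential.D k B (f₀ + i.1) = α
        rw [map_add, tmul_add, hi, add_sub_cancel]

end Groth.Agent.S18838
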