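import Groth.Statements.S18839
import Groth.Agent.ArtfunDeform.TruncatedFlat

set_option autoImplicit false
universe u
open Polynomial TensorProduct
open Deform

namespace Groth.Agent.S18839

/-- Let k be an algebraically closed field of characteristic zero, n ≥ 1, D = k[X]/(X^(n+1)) (given with
a k-algebra isomorphism e identifying the class of X with τ ∈ D), and B a finitely generated
k-algebra which is a flat D-algebra such that B/tB is smooth over k, where t is the image of τ in B
(an affine open of a flat deformation of a smooth k-scheme over Spec D); put B' = B/t^nB. The map ν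
: Ω_(B/k) → Ω_(B/D) × (B' ⊗_B Ω_(B/k)), η ↦ (η relative to D, 1 ⊗ η), is injective, and its image
consists exactly of the pairs (α, β) with the same image in Ω_(B'/D) under the canonical maps
Ω_(B/D) → Ω_(B'/D) and B' ⊗_B Ω_(B/k) → Ω_(B'/k) → Ω_(B'/D). Injectivity uses that n + 1 is
invertible in k (so that t^n dt = 0 in Ω_(B/k)). The source works with a flat proper family over
Spec D with smooth central fibre; the statement is local and is given here on an affine open. -/
theorem result (k : Type u) [Field k] [IsAlgClosed k] [CharZero k] (n : ℕ) (hn : 1 ≤ n)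
    (D : Type u) [CommRing D] [Algebra k D] (τ : D)
    (e : (k[X] ⧸ Ideal.span {(X : k[X]) ^ (n + 1)}) ≃ₐ[k] D)
    (he : e (Ideal.Quotient.mk (Ideal.span {(X : k[X]) ^ (n + 1)}) X) = τ)
    (B : Type u) [CommRing B] [Algebra k B] [Algebra D B] [IsScalarTower k D B]
    [Algebra.FiniteType k B] [Module.Flat D B]
    (t : B) (ht : t = algebraMap D B τ) (hsm : Algebra.Smooth k (B ⧸ Ideal.span {t})) :
    Function.Injective (fun η : Ω[B⁄k] =>
      ((KaehlerDifferential.map k D B B η, (1 : (B ⧸ Ideal.span {t ^ n})) ⊗ₜ[B] η) : Ω[B⁄D] × ((B ⧸ Ideal.span {t ^ n}) ⊗[B] Ω[B⁄k]))) ∧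
    Set.range (fun η : Ω[B⁄k] =>
      ((KaehlerDifferential.map k D B B η, (1 : (B ⧸ Ideal.span {t ^ n})) ⊗ₜ[B] η) : Ω[B⁄D] × ((B ⧸ Ideal.span {t ^ n}) ⊗[B] Ω[B⁄k]))) =
      {p | KaehlerDifferential.map D D B (B ⧸ Ideal.span {t ^ n}) p.1 =
        KaehlerDifferential.map k D (B ⧸ Ideal.span {t ^ n}) (B ⧸ Ideal.span {t ^ n}) (KaehlerDifferential.mapBaseChange k B (B ⧸ Ideal.span {t ^ n}) p.2)} := by
  have := Groth.ArtfunDeform.TruncatedFlat.formallySmooth e he ht hsm
  obtain ⟨σ, hσ⟩ := Groth.ArtfunDeform.TruncatedFlat.exists_sigma e he ht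
  let B' := B ⧸ Ideal.span {t ^ n}
  let v : B' ⊗[B] Ω[B⁄k] := (1 : B') ⊗ₜ[B] KaehlerDifferential.D k B t
  let σ' : B' ⊗[B] Ω[B⁄k] →ₗ[B'] B' := σ.liftBaseChange B'
  have hσ' : ∀ c : B', σ' (c • v) = c := fun c => by
    rw [map_smul]
    simp [σ', v, hσ]
  have htn := Groth.ArtfunDeform.TruncatedFlat.pow_smul_D e he ht
  have hone : ∀ b : B, (1 : B') ⊗ₜ[B] (b • KaehlerDifferential.D k B t) = algebraMap B B' b • v := fun b => by
    rw [← TensorProduct.smul_tmul, TensorProduct.smul_tmul', Algebra.smul_def, smul_eq_mul]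
  have hrg := fun η => Groth.ArtfunDeform.TruncatedFlat.range_mapBaseChange e he ht η
  constructor
  · intro η η' hη
    obtain ⟨h1, h2⟩ := Prod.ext_iff.1 hη
    rw [← sub_eq_zero]
    obtain ⟨b, hb⟩ := (hrg (η - η')).1 (by rw [map_sub]; exact sub_eq_zero.2 h1)
    have h3 : (1 : B') ⊗ₜ[B] (η - η') = 0 := by rw [tmul_sub]; exact sub_eq_zero.2 h2
    rw [hb, hone] at h3
    have h4 := congrArg σ' h3
    rw [hσ', map_zero] at h4
    obtain ⟨c, rfl⟩ := Ideal.mem_span_singleton'.1 (Ideal.Quotient.eq_zero_iff_mem.1 h4)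
    rw [hb, mul_smul, htn, smul_zero]
  · have hfac : ∀ η : Ω[B⁄k], KaehlerDifferential.map D D B B' (KaehlerDifferential.map k D B B η) =
        KaehlerDifferential.map k D B' B' (KaehlerDifferential.mapBaseChange k B B' ((1 : B') ⊗ₜ[B] η)) := by
      intro η
      have hmem : η ∈ Submodule.span B (Set.range (KaehlerDifferential.D k B)) := by
        rw [KaehlerDifferential.span_range_derivation]; trivial
      induction hmem using Submodule.span_induction with
      | mem x hx =>
        obtain ⟨y, rfl⟩ := hx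
        simp
      | zero => simp
      | add x y _ _ hx hy => simp only [tmul_add, map_add, hx, hy]
      | smul r x _ hx => simp only [tmul_smul, map_smul, LinearMap.map_smul_of_tower, hx]
    refine Set.eq_of_subset_of_subset ?_ ?_
    · rintro _ ⟨η, rfl⟩
      exact hfac η
    · rintro ⟨α, β⟩ (h : KaehlerDifferential.map D D B B' α =
        KaehlerDifferential.map k D B' B' (KaehlerDifferential.mapBaseChange k B B' β))
      obtain ⟨η₀, rfl⟩ := KaehlerDifferential.map_surjective k D B α
      rw [hfac] at h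
      have h0 : KaehlerDifferential.map k D B' B'
          (KaehlerDifferential.mapBaseChange k B B' (β - (1 : B') ⊗ₜ[B] η₀)) = 0 := by
        rw [map_sub, map_sub, ← h, sub_self]
      obtain ⟨c, hc⟩ := (Groth.ArtfunDeform.TruncatedFlat.range_mapBaseChange (B := B') e he
        (IsScalarTower.algebraMap_apply D B B' τ).symm _).1 h0
      have hv : KaehlerDifferential.mapBaseChange k B B' v = KaehlerDifferential.D k B' (algebraMap D B' τ) := by
        rw [KaehlerDifferential.mapBaseChange_tmul, one_smul, KaehlerDifferential.map_D]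
        exact congrArg (KaehlerDifferential.D k B')
          ((congrArg (algebraMap B B') ht).trans (IsScalarTower.algebraMap_apply D B B' τ).symm)
      have h1 : KaehlerDifferential.mapBaseChange k B B' (β - (1 : B') ⊗ₜ[B] η₀ - c • v) = 0 := by
        rw [map_sub, map_smul, hv, hc, ← IsScalarTower.algebraMap_apply, sub_self]
      obtain ⟨i, hi⟩ := (KaehlerDifferential.exact_kerCotangentToTensor_mapBaseChange k B B' Ideal.Quotient.mk_surjective _).1 h1
      obtain ⟨i, rfl⟩ := Ideal.toCotangent_surjective _ i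
      rw [KaehlerDifferential.kerCotangentToTensor_toCotangent] at hi
      obtain ⟨g, hg⟩ := Ideal.mem_span_singleton'.1 (Ideal.Quotient.eq_zero_iff_mem.1 i.2)
      rw [← hg, Derivation.leibniz, tmul_add] at hi
      rw [show (1 : B') ⊗ₜ[B] (t ^ n • KaehlerDifferential.D k B g) = 0 by
        rw [← TensorProduct.smul_tmul, Algebra.smul_def, mul_one,
          show algebraMap B B' (t ^ n) = 0 from Ideal.Quotient.eq_zero_iff_mem.2 (Ideal.mem_span_singleton_self _),
          TensorProduct.zero_tmul], add_zero, Derivation.leibniz_pow, ← Nat.cast_smul_eq_nsmul B, ← mul_smul, ← mul_smul, hone] at hi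
      obtain ⟨c', rfl⟩ := Ideal.Quotient.mk_surjective c
      refine ⟨η₀ + (g * n * t ^ (n - 1) + c') • KaehlerDifferential.D k B t, Prod.ext ?_ ?_⟩
      · show KaehlerDifferential.map k D B B _ = _
        rw [map_add, (hrg _).2 ⟨_, rfl⟩, add_zero]
      · show (1 : B') ⊗ₜ[B] _ = β
        rw [tmul_add, hone, map_add, add_smul, hi]
        show (1 : B') ⊗ₜ[B] η₀ + ((β - (1 : B') ⊗ₜ[B] η₀ - Ideal.Quotient.mk _ c' • v) + Ideal.Quotient.mk _ c' • v) = β
        abel

end Groth.Agent.S18839
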