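import Groth.Statements.S1884
import Groth.Agent.CodimOneAffine.GrpdNhd

set_option autoImplicit false
set_option backward.isDefEq.respectTransparency false
set_option backward.isDefEq.respectTransparency.types false
universe u
open CategoryTheory CategoryTheory.Limits AlgebraicGeometry
open Grpd

namespace Groth.Agent.S1884

/-- Let (U, R, s, t, c) be a groupoid scheme with s, t finite, U separated and locally Noetherian, and u
a point such that every point u' in the orbit of u (u' = t(r) with s(r) = u) has local ring of
dimension at most 1. Then u lies in an R-invariant affine open of U. (A groupoid scheme carries U,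
R, s, t, c, e, i over S with the groupoid axioms on T-points; 'finite locally free' is finite, flat
and locally of finite presentation; C ⊂ Γ(U) is the ring of functions a with s♯(a) = t♯(a) and M =
Spec C.) -/
theorem result (S : Scheme.{u}) (G : Grpd.GroupoidScheme S) [IsFinite G.s] [IsFinite G.t] [G.U.IsSeparated] [IsLocallyNoetherian G.U] (u : G.U) (hdim : ∀ r : G.R, G.s r = u → ringKrullDim (G.U.presheaf.stalk (G.t r)) ≤ 1) : ∃ W : G.U.Opens, IsAffineOpen W ∧ u ∈ W ∧ G.s ⁻¹ᵁ W = G.t ⁻¹ᵁ W := by
  exact Groth.CodimOneAffine.exists_invariant_affine G u hdim

end Groth.Agent.S1884
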