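import Groth.Statements.S18840
import Groth.Agent.VBCurves.H0Bound
import Groth.Agent.S1530

set_option autoImplicit false
universe u
open CategoryTheory CategoryTheory.Limits AlgebraicGeometry Polynomial
open VBCurve

namespace Groth.Agent.S18840

/-- Let k be an algebraically closed field of characteristic zero, X a smooth projective integral curve
over k with an ample invertible sheaf L, N ≥ 0 and P a rational polynomial. There is an integer l,
depending only on X, L, N and P, such that for every vector bundle F of rank r ≥ 1 on X which is a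
quotient of O_X^N with Hilbert polynomial P (with respect to L), F is slope-semistable if and only
if dim H^0(X, F'(l)) / r' ≤ dim H^0(X, F(l)) / r for every sub-bundle (finite locally free
submodule) F' ⊂ F of rank r' ≥ 1; here G(l) = G ⊗ L^(⊗l). The source polarises X by a very ample
O_X(1); only the positivity of its degree enters, so an ample L is taken. -/
theorem result (k : Type u) [Field k] [IsAlgClosed k] [CharZero k]
    (X : Scheme.{u}) [X.Over (Spec (CommRingCat.of k))]
    [IsIntegral X] [IsProper (X ↘ Spec (CommRingCat.of k))] [Smooth (X ↘ Spec (CommRingCat.of k))]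
    (hdim : topologicalKrullDim X = 1)
    (L : X.Modules) (hLi : PicF.IsInvertible L) (hL : CohB1.IsAmple L)
    (N : ℕ) (P : ℚ[X]) :
    ∃ l : ℕ, ∀ (r : ℕ) (F : X.Modules) (q : FlatMod.freeMod X N ⟶ F),
      0 < r → FlatMod.IsFinLocFreeOfRank r F → Epi q → ShStab.IsHilbPoly k X L F P →
        (ModFun.IsSlopeSemistable k X F r ↔
          ∀ (F' : X.Modules) (r' : ℕ) (i : F' ⟶ F), Mono i → 0 < r' → FlatMod.IsFinLocFreeOfRank r' F' →
            (Module.finrank k (Coh.HH X (ShStab.twist X L F' l) 0) : ℚ) / (r' : ℚ) ≤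
              (Module.finrank k (Coh.HH X (ShStab.twist X L F l) 0) : ℚ) / (r : ℚ)) := by
  have hc : Groth.VBCurves.IsVBCurve k X := Groth.VBCurves.IsVBCurve.of_smooth k hdim
  have hLd : 0 < Curv2.deg k X L 1 := (Groth.Agent.S1530.result k X hdim L hLi).1 hL
  refine ⟨3 * Curv2.genus k X + 3 + ⌈|P.eval 0|⌉.toNat, fun r F q hr hF hq hHP => ?_⟩
  set l := 3 * Curv2.genus k X + 3 + ⌈|P.eval 0|⌉.toNat with hl
  let T := CohB1.tensorPow L l
  have hT : PicF.IsInvertible T := Groth.PicAux.isInvertible_tensorPow hLi l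
  have hT1 := Groth.LocFree.isInvertible_iff_ofRank_one.mp hT
  set D := Curv2.deg k X T 1 with hD
  have hDl : (l : ℤ) ≤ D := by
    rw [hD, Groth.VarietyBC.CurveDeg.deg_tensorPow k hdim.le hLi l]
    exact le_mul_of_one_le_right (Int.natCast_nonneg l) hLd
  set c0 := Curv2.euler k X (Coh.structureModule X) with hc0
  have hDg : 2 * (Curv2.genus k X : ℤ) + 1 ≤ D := by push_cast [hl] at hDl; omega
  have hdeg : ∀ (G : X.Modules) (s : ℕ), FlatMod.IsFinLocFreeOfRank s G →
      Curv2.deg k X (CohB1.tensorMod G T) s = (s : ℤ) * D + Curv2.deg k X G s := by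
    intro G s hG
    have h := Groth.EulerDeg.deg_tensor k hdim.le hG hT1
    rw [mul_one] at h
    rw [h, Nat.cast_one, one_mul]
  haveI := hq
  have hF1 : Subsingleton (Coh.HH X (CohB1.tensorMod F T) 1) :=
    Groth.VBCurves.H0Bound.h1_of_epi_free (k := k) hdim hT hDg q
  have hh0 : (Module.finrank k (Coh.HH X (ShStab.twist X L F l) 0) : ℤ) =
      Curv2.deg k X F r + r * D + r * c0 := by
    show (Module.finrank k (Coh.HH X (CohB1.tensorMod F T) 0) : ℤ) = _
    have h := Groth.VBCurves.H0Bound.euler_eq (k := k) hdim (E := CohB1.tensorMod F T) r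
    have h0 : Module.finrank k (Coh.HH X (CohB1.tensorMod F T) 1) = 0 := Module.finrank_zero_of_subsingleton
    rw [h0, Nat.cast_zero, sub_zero, hdeg F r hF, ← hc0] at h
    linarith
  have hP0 : (Curv2.euler k X F : ℚ) = P.eval 0 := by
    have h := hHP 0
    rw [Nat.cast_zero, Groth.EulerDeg.euler_congr k (show ShStab.twist X L F 0 ≅ F from SecTwist.unitorR F)] at h
    exact h
  have hreq : (3 * (Curv2.genus k X : ℤ) + 3) * r ≤ (Curv2.deg k X F r + r * D) + r * c0 := by
    have h1 : -(⌈|P.eval 0|⌉.toNat : ℤ) ≤ Curv2.euler k X F := by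
      have h2 : |(Curv2.euler k X F : ℚ)| ≤ ((⌈|P.eval 0|⌉.toNat : ℤ) : ℚ) := by
        rw [hP0]
        exact (Int.le_ceil _).trans (Int.cast_le.mpr (Int.self_le_toNat _))
      have h3 : ((-(⌈|P.eval 0|⌉.toNat : ℤ) : ℤ) : ℚ) ≤ (Curv2.euler k X F : ℚ) := by
        push_cast at h2 ⊢
        linarith [neg_abs_le (Curv2.euler k X F : ℚ)]
      exact Int.cast_le.mp h3
    have h2 := Groth.EulerDeg.euler_eq_deg_add k F r
    rw [← hc0] at h2
    have h3 : (r : ℤ) * (l : ℤ) ≤ (r : ℤ) * D := mul_le_mul_of_nonneg_left hDl (Int.natCast_nonneg r)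
    have h4 : (⌈|P.eval 0|⌉.toNat : ℤ) ≤ (r : ℤ) * (⌈|P.eval 0|⌉.toNat : ℤ) :=
      le_mul_of_one_le_left (Int.natCast_nonneg _) (by exact_mod_cast hr)
    push_cast [hl] at h3
    linarith
  have hrq : (0 : ℚ) < r := by exact_mod_cast hr
  constructor
  · intro hss F' r' i hi hr' hF'
    haveI := Groth.PicAux.isEquivalence_tensorRightMod_of_isInvertible hT
    haveI := hi
    let i' : CohB1.tensorMod F' T ⟶ CohB1.tensorMod F T := (DCoh.tensorRightMod T).map i
    haveI : Mono i' := (DCoh.tensorRightMod T).map_mono i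
    have hb : Groth.VBCurves.Bnd k F (Groth.VBCurves.dg k F) r := by
      have := Groth.VBCurves.ss_of hF hss
      rwa [Groth.VBCurves.SS, Groth.VBCurves.rk_eq hF] at this
    rw [← Groth.VBCurves.dg_eq k hF] at hb
    have hb' := ((Groth.VBCurves.H0Bound.bnd_tensor (k := k) hdim hT hb).sub i')
    have hE := Groth.LocFree.isFinLocFreeOfRank_tensorMod hF' hT1
    rw [mul_one] at hE
    have h := Groth.VBCurves.H0Bound.h0_le_target (k := k) hdim _ r hr hreq r' (CohB1.tensorMod F' T)
      (Groth.LocFree.isFinLocFree_of_rank hE) (Groth.VBCurves.rk_eq hE) hb'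
    rw [← hc0, ← hh0] at h
    rw [div_le_div_iff₀ (by exact_mod_cast hr') hrq, mul_comm _ (r : ℚ), mul_comm _ (r' : ℚ)]
    exact_mod_cast h
  · intro h F' r' i hi hr' hF'
    have h1 := h F' r' i hi hr' hF'
    rw [div_le_div_iff₀ (by exact_mod_cast hr') hrq] at h1
    have h2 : (Module.finrank k (Coh.HH X (ShStab.twist X L F' l) 0) : ℤ) * r ≤
        (Module.finrank k (Coh.HH X (ShStab.twist X L F l) 0) : ℤ) * r' := by exact_mod_cast h1
    have h3 : Curv2.deg k X F' r' + r' * D + r' * c0 ≤
        (Module.finrank k (Coh.HH X (ShStab.twist X L F' l) 0) : ℤ) := by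
      show _ ≤ (Module.finrank k (Coh.HH X (CohB1.tensorMod F' T) 0) : ℤ)
      have h := Groth.VBCurves.H0Bound.euler_eq (k := k) hdim (E := CohB1.tensorMod F' T) r'
      rw [hdeg F' r' hF', ← hc0] at h
      have := Int.natCast_nonneg (Module.finrank k (Coh.HH X (CohB1.tensorMod F' T) 1))
      linarith
    rw [hh0] at h2
    have h4 := mul_le_mul_of_nonneg_right h3 (Int.natCast_nonneg r)
    linarith

end Groth.Agent.S18840
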