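import Groth.Statements.S18841
import Groth.Agent.Quot.RegularQuot
import Groth.Agent.Quot.ClosedAdjunct
import Groth.Agent.Variety2.Reg.Closed
import Groth.Agent.KTheory.PushProps
import Groth.Agent.S2426

set_option autoImplicit false
universe u
open CategoryTheory CategoryTheory.Limits AlgebraicGeometry Polynomial
open Variety

namespace Groth.Agent.S18841

/-- Isomorphic modules have isomorphic tensor powers. -/
lemma nonempty_pow_congr {X : Scheme.{u}} {L L' : X.Modules} (e : L ≅ L') : ∀ l : ℕ,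
    Nonempty (CohB1.tensorPow L l ≅ CohB1.tensorPow L' l)
  | 0 => ⟨Iso.refl _⟩
  | l + 1 => ⟨PicGrp.tensorModIso (nonempty_pow_congr e l).some e⟩

/-- Euler characteristics of twists and of the twists of the direct image. -/
lemma euler_push {k : Type u} [Field k] {X : Scheme.{u}} [inst : X.Over (Spec (CommRingCat.of k))]
    {n : ℕ} (ι : X ⟶ CohB1.ProjSpace n k) [IsClosedImmersion ι]
    (hι : ι ≫ CohB1.ProjSpace.toSpec n k = X ↘ Spec (CommRingCat.of k))
    {F : X.Modules} (hF : Coh.IsCoh F) (d : ℤ) :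
    Curv2.euler k X (Pic13.twistOn k ι F d) = Groth.Quot.chiT ((Scheme.Modules.pushforward ι).obj F) d := by
  obtain ⟨s⟩ := inst
  subst hι
  have := hF.1
  refine finsum_congr fun q => ?_
  obtain ⟨e⟩ := Groth.PnCoh.nonempty_linearEquiv_push_twist n k ι F d q
  congr 2
  exact e.finrank_eq.symm

/-- Powers of `O(1)` are the twisting sheaves. -/
lemma nonempty_pow_twist (k : Type u) [Field k] (n : ℕ) : ∀ l : ℕ,
    Nonempty (CohB1.tensorPow (Twist.twistProjSpace n k 1) l ≅ Twist.twistProjSpace n k (l : ℤ))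
  | 0 => ⟨Groth.Variety2.Reg.nonempty_twist_zero.some.symm⟩
  | l + 1 => by
    obtain ⟨e⟩ := nonempty_pow_twist k n l
    obtain ⟨e'⟩ := Groth.Ega2Proj.nonempty_tensor_iso (Groth.Variety2.Reg.gen_one n k) (l : ℤ) 1
    exact ⟨PicGrp.tensorModIso e (Iso.refl _) ≪≫ e' ≪≫
      eqToIso (congrArg (Twist.twistProjSpace n k) (by push_cast; ring))⟩

/-- The Euler characteristics of a direct image in all degrees. -/
lemma chiT_pF_eq {k : Type u} [Field k] {X : Scheme.{u}} [X.Over (Spec (CommRingCat.of k))]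
    {n : ℕ} (ι : X ⟶ CohB1.ProjSpace n k) [IsClosedImmersion ι]
    (hι : ι ≫ CohB1.ProjSpace.toSpec n k = X ↘ Spec (CommRingCat.of k))
    {L : X.Modules} (hL : Nonempty (L ≅ (Scheme.Modules.pullback ι).obj (Twist.twistProjSpace n k 1)))
    {F : X.Modules} (hF : Coh.IsCoh F) {P : ℚ[X]} (hP : ShStab.IsHilbPoly k X L F P) :
    Groth.Quot.chiT ((Scheme.Modules.pushforward ι).obj F) = fun t : ℤ => ⌊P.eval (t : ℚ)⌋ := by
  have hproper : IsProper (X ↘ Spec (CommRingCat.of k)) := by
    rw [← hι]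
    have : IsProper (CohB1.ProjSpace.toSpec n k) := inferInstance
    infer_instance
  have := Groth.PnCoh.isLocallyNoetherian_projSpace n k
  have hpF := Groth.Variety2.Reg.isCoh_pF ι F hF
  obtain ⟨Q, hQ⟩ := Groth.Agent.S2426.result k n (CohB1.ProjSpace n k) (𝟙 _) (Category.id_comp _)
    ((Scheme.Modules.pushforward ι).obj F) hpF
  have hQ' : ∀ t : ℤ, (Groth.Quot.chiT ((Scheme.Modules.pushforward ι).obj F) t : ℚ) = Q.eval (t : ℚ) := by
    intro t
    rw [← hQ t, Groth.Quot.chiT_eq_eulerCharLE hpF.1, FGA.eulerCharLE]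
    simp only [Int.cast_sum, Int.cast_mul, Int.cast_pow, Int.cast_neg, Int.cast_one, Int.cast_natCast]
    refine Finset.sum_congr rfl fun j _ => ?_
    let W := Coh.HH (CohB1.ProjSpace n k) (Groth.Variety2.Reg.fT ((Scheme.Modules.pushforward ι).obj F) t) j
    have := (Groth.Quot.finCoh_fT hpF t).finite j
    have e := Groth.EulerDeg.hEquiv k (PicGrp.tensorModIso (Iso.refl ((Scheme.Modules.pushforward ι).obj F))
      ((Scheme.Modules.pullbackId (CohB1.ProjSpace n k)).app (Twist.twistProjSpace n k t)).symm) j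
    have h2 := (congrArg ENat.toNat e.length_eq).symm.trans
      (congrArg ENat.toNat (Module.length_eq_finrank k W))
    rw [h2]
    simp [W]
  have hnat : ∀ m : ℕ, (Groth.Quot.chiT ((Scheme.Modules.pushforward ι).obj F) (m : ℤ) : ℚ) =
      P.eval (m : ℚ) := by
    intro m
    have := hF.1
    rw [← hP m]
    obtain ⟨eL⟩ := hL
    obtain ⟨a⟩ := nonempty_pow_congr eL m
    obtain ⟨b⟩ := Groth.PicAux.pullback_tensorPow ι (Twist.twistProjSpace n k 1) m
    obtain ⟨c⟩ := nonempty_pow_twist k n m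
    have e : ShStab.twist X L F m ≅ Pic13.twistOn k ι F (m : ℤ) :=
      PicGrp.tensorModIso (Iso.refl F) (a ≪≫ b.symm ≪≫ (Scheme.Modules.pullback ι).mapIso c)
    rw [Groth.EulerDeg.euler_congr k e]
    norm_cast
    exact (euler_push ι hι hF m).symm
  have hPQ : Q = P := Groth.HilbStab.poly_ext_nat fun m => by
    rw [← hnat m, hQ' (m : ℤ), Int.cast_natCast]
  subst hPQ
  funext t
  rw [← hQ' t, Int.floor_intCast]

/-- Let k be an algebraically closed field of characteristic zero, X a projective k-scheme embedded in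
projective n-space by a closed immersion ι, with L ≅ ι^*O(1), and fix N ≥ 0 and a rational
polynomial P. There is an integer l_0 such that for every coherent O_X-module F which is a quotient
q : O_X^N → F with Hilbert polynomial P with respect to L, writing G for the kernel of q, one has
for all l ≥ l_0: H^i(X, F(l)) = 0 and H^i(X, G(l)) = 0 for every i > 0, and G(l) is generated by its
global sections (twists M(l) = M ⊗ L^(⊗l)). -/
theorem result
    (k : Type u) [Field k] [IsAlgClosed k] [CharZero k]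
    (X : Scheme.{u}) [X.Over (Spec (CommRingCat.of k))] [IsProper (X ↘ Spec (CommRingCat.of k))]
    (n : ℕ) (ι : X ⟶ CohB1.ProjSpace n k) [IsClosedImmersion ι]
    (hι : ι ≫ CohB1.ProjSpace.toSpec n k = X ↘ Spec (CommRingCat.of k))
    (L : X.Modules) (hL : Nonempty (L ≅ (Scheme.Modules.pullback ι).obj (Twist.twistProjSpace n k 1)))
    (N : ℕ) (P : ℚ[X]) :
    ∃ l₀ : ℕ, ∀ (F : X.Modules) (q : FlatMod.freeMod X N ⟶ F),
      Coh.IsCoh F → Epi q → ShStab.IsHilbPoly k X L F P →
        ∀ l : ℕ, l₀ ≤ l →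
          (∀ i : ℕ, 0 < i → Subsingleton (Coh.HH X (ShStab.twist X L F l) i)) ∧
          (∀ i : ℕ, 0 < i → Subsingleton (Coh.HH X (ShStab.twist X L (kernel q) l) i)) ∧
          Curv2.IsGloballyGenerated (ShStab.twist X L (kernel q) l) := by
  let j := ι
  have := Groth.PnCoh.isLocallyNoetherian_projSpace n k
  have : IsLocallyNoetherian X := LocallyOfFiniteType.isLocallyNoetherian (X ↘ Spec (CommRingCat.of k))
  have hOX : Coh.IsCoh (FlatMod.freeMod X N) := Groth.PnCoh.isCoh_sigma _ fun _ => Groth.QCohMod.isCoh_unit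
  obtain ⟨mX, hmX⟩ := Groth.Quot.exists_mReg (Groth.Variety2.Reg.isCoh_pF ι _ hOX)
  let f : ℤ → ℤ := fun t => ⌊P.eval (t : ℚ)⌋
  let R := Groth.Quot.quotBound n N 0 f
  let m := max (R + 1) mX
  refine ⟨m.toNat, fun F q hF hq hP l hl => ?_⟩
  have hml : m ≤ (l : ℤ) := (Int.self_le_toNat m).trans (Int.ofNat_le.2 hl)
  have hmR : R + 1 ≤ m := le_max_left _ _
  have hmX' : mX ≤ m := le_max_right _ _
  have := hF.1
  have := hOX.1
  have hG : Coh.IsCoh (kernel q) := Groth.QCohMod.isCoh_kernel q hOX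
  have := hG.1
  have hpF := Groth.Variety2.Reg.isCoh_pF ι F hF
  have hpO := Groth.Variety2.Reg.isCoh_pF ι _ hOX
  have hpG := Groth.Variety2.Reg.isCoh_pF ι _ hG
  have := hpF.1
  have := hpO.1
  have := hpG.1
  let A := ∐ fun _ : Fin N => Twist.twistProjSpace n k 0
  have hA : Coh.IsCoh A := Groth.PnCoh.isCoh_sigma _ fun _ => Groth.PnCoh.isCoh_twist n k _
  have := hA.1
  let adj := Scheme.Modules.pullbackPushforwardAdjunction ι
  have eA : (Scheme.Modules.pullback ι).obj A ≅ FlatMod.freeMod X N :=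
    PreservesCoproduct.iso _ _ ≪≫ Sigma.mapIso fun _ =>
      (Scheme.Modules.pullback ι).mapIso Groth.Variety2.Reg.nonempty_twist_zero.some ≪≫
        (Groth.PicAux.pullback_structure_iso ι).some
  let w := adj.homEquiv _ _ eA.hom
  let π := adj.homEquiv _ _ (eA.hom ≫ q)
  have hπ : π = w ≫ (Scheme.Modules.pushforward ι).map q := adj.homEquiv_naturality_right _ _
  have : Epi ((adj.homEquiv A F).symm π) := by
    rw [Equiv.symm_apply_apply]
    exact epi_comp _ _
  have : Epi π := Groth.Quot.epi_adjunct_of_epi ι π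
  obtain ⟨hFR, hKR⟩ := Groth.Quot.mReg_quot N 0 hpF π
  rw [chiT_pF_eq ι hι hL hF hP] at hFR hKR
  replace hFR : Curv2.IsMRegular k n ((Scheme.Modules.pushforward ι).obj F) R := hFR
  replace hKR : Curv2.IsMRegular k n (kernel π) R := hKR
  have := (Groth.QCohMod.isCoh_kernel π hA).1
  have hSEQ : ((ShortComplex.mk (kernel.ι q) q (kernel.condition q)).map
      (Scheme.Modules.pushforward ι)).ShortExact :=
    @Groth.KTheory.PushProps.shortExact_push _ _ ι _ _ (Groth.Variety2.Reg.kernel_shortExact q) hG.1 hOX.1 hF.1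
  have hsurj : ∀ d : ℤ, R - 1 ≤ d → Function.Surjective
      (((DCoh.tensorRightMod (Twist.twistProjSpace n k d)).map ((Scheme.Modules.pushforward ι).map q)).app ⊤) := by
    intro d hd z
    have hs := Groth.Variety2.Reg.shortExact_fT (Groth.Variety2.Reg.kernel_shortExact π) d
    obtain ⟨y, hy⟩ := Groth.Variety2.Reg.surjective_app_top k hs
      (Groth.Variety2.Reg.vanish_of_mReg _ hKR le_rfl (by simpa using hd)) z
    refine ⟨((DCoh.tensorRightMod (Twist.twistProjSpace n k d)).map w).app ⊤ y, ?_⟩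
    have h2 := congr(((DCoh.tensorRightMod (Twist.twistProjSpace n k d)).map $hπ).app ⊤ y)
    rw [Functor.map_comp] at h2
    exact h2.symm.trans hy
  have hGm : Curv2.IsMRegular k n ((Scheme.Modules.pushforward ι).obj (kernel q)) m := by
    intro i hi hn
    have hO := Groth.Variety2.Reg.vanish_of_mReg _ hmX hi (r := m - i) (by omega)
    obtain ⟨i, rfl⟩ : ∃ i', i = i' + 1 := ⟨i - 1, by omega⟩
    cases i with
    | zero =>
      exact Groth.Variety2.Reg.subsingleton_one_of_surjective k
        (Groth.Variety2.Reg.shortExact_fT hSEQ _) (hsurj _ (by push_cast; omega)) hO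
    | succ i =>
      exact Groth.Variety2.Reg.subsingleton_left k (Groth.Variety2.Reg.shortExact_fT hSEQ _)
        (Groth.Variety2.Reg.vanish_of_mReg _ hFR (q := i + 1) (by omega) (by push_cast; omega)) hO
  obtain ⟨eL⟩ := hL
  obtain ⟨a⟩ := nonempty_pow_congr eL l
  obtain ⟨b⟩ := Groth.PicAux.pullback_tensorPow ι (Twist.twistProjSpace n k 1) l
  obtain ⟨c⟩ := nonempty_pow_twist k n l
  have e : ∀ M : X.Modules, ShStab.twist X L M l ≅ Pic13.twistOn k ι M (l : ℤ) := fun M =>
    PicGrp.tensorModIso (Iso.refl M) (a ≪≫ b.symm ≪≫ (Scheme.Modules.pullback ι).mapIso c)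
  refine ⟨fun i hi => ?_, fun i hi => ?_, ?_⟩
  · exact Groth.Variety2.Reg.subsingleton_of_iso k (e F).symm
      ((Groth.Variety2.Reg.subsingleton_twistOn_iff ι F _ i).2
        (Groth.Variety2.Reg.vanish_of_mReg _ hFR hi (by omega)))
  · exact Groth.Variety2.Reg.subsingleton_of_iso k (e (kernel q)).symm
      ((Groth.Variety2.Reg.subsingleton_twistOn_iff ι (kernel q) _ i).2
        (Groth.Variety2.Reg.vanish_of_mReg _ hGm hi (by omega)))
  · exact ((Groth.Variety2.Reg.detByGlobal_twistOn ι (kernel q) _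
      (Groth.Variety2.Reg.detByGlobal_of_mReg _ hpG hGm hml)).of_iso (e (kernel q)).symm).isGloballyGenerated

end Groth.Agent.S18841
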