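import Groth.Statements.S18842
import Groth.Agent.TFOne.Generic
-- import your own Groth.Agent.* helpers here

set_option autoImplicit false
universe u
open CategoryTheory AlgebraicGeometry
open TFOne

namespace Groth.Agent.S18842

/-- Let X be a proper reduced scheme of pure dimension one over a field k and M a torsion-free rank-1
sheaf on X. For closed subcurves Y and Z of X (non-empty unions of irreducible components) let W be
the union of the irreducible components of X contained in Y ∩ Z (W may be empty). Writing M_T for
the torsion-free quotient of M on a closed subset T (pinned by its defining property; M_W = 0 when W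
is empty), one has χ(M_{Y ∪ Z}) + χ(M_W) ≤ χ(M_Y) + χ(M_Z). (The source states this for curves that
are moreover geometrically reduced with geometrically integral components and notes the equivalent
form with β in place of χ; neither is needed for the inequality as stated.) -/
theorem result (k : Type u) [Field k] (X : Scheme.{u}) [X.Over (Spec (CommRingCat.of k))] [IsProper (X ↘ Spec (CommRingCat.of k))] [IsReduced X] (hpure : ∀ C ∈ irreducibleComponents (X : Type u), topologicalKrullDim C = 1) (M : X.Modules) (hM : TFOne.IsTF1 X M) (Y Z W : Set X) (hY : IsClosed Y) (hZ : IsClosed Z) (hYs : VecSt.IsSubcurve X Y) (hZs : VecSt.IsSubcurve X Z) (hW : W = ⋃₀ {C | C ∈ irreducibleComponents (X : Type u) ∧ C ⊆ Y ∩ Z}) (GY GZ GU GW : X.Modules) (πY : M ⟶ GY) (πZ : M ⟶ GZ) (πU : M ⟶ GU) (πW : M ⟶ GW) (hGY : TFOne.IsQuotOn X M Y GY πY) (hGZ : TFOne.IsQuotOn X M Z GZ πZ) (hGU : TFOne.IsQuotOn X M (Y ∪ Z) GU πU) (hGW : TFOne.IsQuotOn X M W GW πW) : Curv2.euler k X GU + Curv2.euler k X GW ≤ Curv2.euler k X GY + Curv2.euler k X GZ := by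
  have hX := Groth.TFOneAux.isCurve k hpure
  refine Groth.TFOneAux.euler_union_add_le k hX hM hGY hGZ hGU hGW (fun η _ => Set.mem_union η Y Z)
    fun η hη => ?_
  rw [hW, Groth.TFOneAux.mem_sUnion_components_iff (hY.inter hZ) hη]
  rfl

end Groth.Agent.S18842
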