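import Groth.Statements.S18843
import Groth.Agent.TFOne.Simple
-- import your own Groth.Agent.* helpers here

set_option autoImplicit false
universe u
open CategoryTheory AlgebraicGeometry
open TFOne

namespace Groth.Agent.S18843

/-- Let X be a proper, geometrically reduced scheme of pure dimension one over a field k whose
irreducible components (with their reduced structure) are geometrically integral over k, and let M
be a torsion-free rank-1 sheaf on X. Let Y and Z be closed subcurves (non-empty unions of
irreducible components) with Y ∪ Z = X which have an irreducible component in common. If the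
torsion-free quotients M_Y and M_Z of M on Y and on Z (pinned by their defining property) are both
simple over k, then M is simple over k. -/
theorem result (k : Type u) [Field k] (X : Scheme.{u}) [X.Over (Spec (CommRingCat.of k))] [IsProper (X ↘ Spec (CommRingCat.of k))] [IsReduced X] [GeometricallyReduced (X ↘ Spec (CommRingCat.of k))] (hpure : ∀ C ∈ irreducibleComponents (X : Type u), topologicalKrullDim C = 1) (hgi : ∀ (C : Set X) (hC : C ∈ irreducibleComponents (X : Type u)), GeometricallyIntegral (VecSt.subschι X C (isClosed_of_mem_irreducibleComponents C hC) ≫ (X ↘ Spec (CommRingCat.of k)))) (M : X.Modules) (hM : TFOne.IsTF1 X M) (Y Z : Set X) (hY : IsClosed Y) (hZ : IsClosed Z) (hYs : VecSt.IsSubcurve X Y) (hZs : VecSt.IsSubcurve X Z) (hcov : Y ∪ Z = Set.univ) (hmeet : ∃ C ∈ irreducibleComponents (X : Type u), C ⊆ Y ∩ Z) (GY GZ : X.Modules) (πY : M ⟶ GY) (πZ : M ⟶ GZ) (hGY : TFOne.IsQuotOn X M Y GY πY) (hGZ : TFOne.IsQuotOn X M Z GZ πZ) (hsY : TFOne.IsSimple X k (X ↘ Spec (CommRingCat.of k)) GY) (hsZ : TFOne.IsSimple X k (X ↘ Spec (CommRingCat.of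 k)) GZ) : TFOne.IsSimple X k (X ↘ Spec (CommRingCat.of k)) M := by
  have hX := Groth.TFOneAux.isCurve k hpure
  obtain ⟨C, hC, hCYZ⟩ := hmeet
  obtain ⟨η, hη⟩ := QuasiSober.sober hC.1 (isClosed_of_mem_irreducibleComponents C hC)
  have hηg : η ∈ genericPoints (X : Type u) := by
    show closure ({η} : Set X) ∈ irreducibleComponents (X : Type u)
    rw [hη.def]; exact hC
  exact Groth.TFOneAux.isSimple_of_union hX hM hGY hGZ
    (fun x _ => (Set.mem_union x Y Z).1 (hcov.symm ▸ Set.mem_univ x)) hηg (hCYZ hη.mem).1
    (hCYZ hη.mem).2 hsY hsZ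

end Groth.Agent.S18843
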