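import Groth.Statements.S18845
import Groth.Agent.TFOne.Simple
import Groth.Agent.TFOne.Push
import Groth.Agent.PropsBasic2.Reduced
-- import your own Groth.Agent.* helpers here

set_option autoImplicit false
universe u
open CategoryTheory CategoryTheory.Limits AlgebraicGeometry
open TFOne

namespace Groth.Agent.S18845

/-- Let X be a proper, geometrically reduced scheme of pure dimension one over a field k whose
irreducible components (with their reduced structure) are geometrically integral over k, let Y and Z
be closed subcurves (non-empty unions of irreducible components) with Y ∪ Z = X, and let M be a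
torsion-free sheaf of rank one on X. Suppose M sits in a short exact sequence 0 ⟶ i_{Y*} I ⟶ M ⟶
i_{Z*} J ⟶ 0 of modules on X, where I is a simple torsion-free sheaf of rank one on the reduced
closed subscheme Y, J is a simple torsion-free sheaf of rank one on the reduced closed subscheme Z,
and i_{Y*}, i_{Z*} are the direct images. Then M is simple over k exactly when the sequence does not
split (the epimorphism M ⟶ i_{Z*} J has no section). -/
theorem result (k : Type u) [Field k] (X : Scheme.{u}) [X.Over (Spec (CommRingCat.of k))] [IsProper (X ↘ Spec (CommRingCat.of k))] [IsReduced X] [GeometricallyReduced (X ↘ Spec (CommRingCat.of k))] (hpure : ∀ C ∈ irreducibleComponents (X : Type u), topologicalKrullDim C = 1) (hgi : ∀ (C : Set X) (hC : C ∈ irreducibleComponents (X : Type u)), GeometricallyIntegral (VecSt.subschι X C (isClosed_of_mem_irreducibleComponents C hC) ≫ (X ↘ Spec (CommRingCat.of k)))) (Y Z : Set X) (hY : IsClosed Y) (hZ : IsClosed Z) (hYs : VecSt.IsSubcurve X Y) (hZs : VecSt.IsSubcurve X Z) (hcov : Y ∪ Z =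 Set.univ) (M : X.Modules) (hM : TFOne.IsTF1 X M) (I : (VecSt.subsch X Y hY).Modules) (hI : TFOne.IsTF1 (VecSt.subsch X Y hY) I) (hIs : TFOne.IsSimple (VecSt.subsch X Y hY) k (VecSt.subschι X Y hY ≫ (X ↘ Spec (CommRingCat.of k))) I) (J : (VecSt.subsch X Z hZ).Modules) (hJ : TFOne.IsTF1 (VecSt.subsch X Z hZ) J) (hJs : TFOne.IsSimple (VecSt.subsch X Z hZ) k (VecSt.subschι X Z hZ ≫ (X ↘ Spec (CommRingCat.of k))) J) (a : (Coh.push (VecSt.subschι X Y hY)).obj I ⟶ M) (b : M ⟶ (Coh.push (VecSt.subschι X Z hZ)).obj J) (w : a ≫ b = 0) (hex : (ShortComplex.mk a b w).ShortExact) : TFOne.IsSimple X k (X ↘ Spec (CommRingCat.of k)) M ↔ ¬ IsSplitEpi b := by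
  have hX := Groth.TFOneAux.isCurve k hpure
  haveI := hX.noeth
  haveI : IsReduced (VecSt.subsch X Z hZ) := Groth.PropsBasic2.isReduced_vanishingIdeal_subscheme ⟨Z, hZ⟩
  haveI : IsNoetherian (VecSt.subsch X Z hZ) := by
    haveI : IsLocallyNoetherian (VecSt.subsch X Z hZ) :=
      LocallyOfFiniteType.isLocallyNoetherian (VecSt.subschι X Z hZ)
    haveI : CompactSpace (VecSt.subsch X Z hZ) :=
      (VecSt.subschι X Z hZ).isClosedEmbedding.compactSpace
    exact ⟨⟩
  exact Groth.TFOneAux.isSimple_iff_not_isSplitEpi hX hM (Groth.CohTwo.isCoh_push _ hI.1)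
    (Groth.CohTwo.isCoh_push _ hJ.1)
    (fun A f hA h => Groth.TFOneAux.eq_zero_push hX _
      (Groth.TFOneAux.subscheme_not_open k hX hZ hZs) hJ.1 hJ.2.1 hA f h)
    (Groth.TFOneAux.isSimple_push _ hIs) (Groth.TFOneAux.isSimple_push _ hJs) a b w hex

end Groth.Agent.S18845
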