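import Groth.Statements.S18847
import Groth.Agent.TFOne.Assemble
-- import your own Groth.Agent.* helpers here

set_option autoImplicit false
universe u
open CategoryTheory CategoryTheory.Limits AlgebraicGeometry
open TFOne

namespace Groth.Agent.S18847

/-- Let R be a discrete valuation ring with residue field κ, f : X ⟶ Spec R flat and proper, and X_s its
special fibre, assumed reduced of pure dimension one with geometrically integral irreducible
components over κ. Let I be a coherent R-flat module on X whose restriction I(s) to X_s is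
torsion-free rank-1, E a locally free module of rank r > 0 on X with restriction E(s), and d an
integer with χ(I(s)) = d and deg E(s) = -r·d. For a closed subset T of X_s write I(s)_T for the
torsion-free quotient of I(s) on T (pinned by its defining property) and β(T) := r·χ(I(s)_T) +
deg(E(s)|_T) (the source's β cleared of the denominator r). Let Y be a closed subcurve of X_s (a
non-empty union of irreducible components), and let I^Y be the kernel of the composite I ⟶ i_* I(s)
⟶ i_* I(s)_Y, with restriction I^Y(s) to X_s and quotients I^Y(s)_T and numbers β^Y(T) :=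
r·χ(I^Y(s)_T) + deg(E(s)|_T) defined likewise. Assume that Y is the largest closed subcurve of X_s
on which β is minimal: β(Y) ≤ β(T) for every closed subcurve T of X_s, and every closed subcurve T
with β(T) = β(Y) is contained in Y. Then for every closed subcurve Z of X_s one has β(Y) ≤ β^Y(Z),
and β^Y(Z) = β(Y) only if Z ⊆ Y. (The source takes f projective.) -/
theorem result (R : Type u) [CommRing R] [IsDomain R] [IsDiscreteValuationRing R] (X : Scheme.{u}) (f : X ⟶ Spec (CommRingCat.of R)) [Flat f] [IsProper f] (Xs : Scheme.{u}) [Xs.Over (Spec (CommRingCat.of (IsLocalRing.ResidueField R)))] (i : Xs ⟶ X) (hsq : IsPullback i (Xs ↘ Spec (CommRingCat.of (IsLocalRing.ResidueField R))) f (Spec.map (CommRingCat.ofHom (IsLocalRing.residue R)))) [IsReduced Xs] (hpure : ∀ C ∈ irreducibleComponents (Xs : Type u), topologicalKrullDim C = 1) (hgi : ∀ (C : Set Xs) (hC : C ∈ irreducibleComponents (Xs : Type u)), GeometricallyIntegral (VecSt.subschι Xs C (isClosed_of_mem_irreducibleComponents C hC) ≫ (Xs ↘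 Spec (CommRingCat.of (IsLocalRing.ResidueField R))))) (I : X.Modules) (hIc : Coh.IsCoh I) (hIf : FlatMod.IsFlatOver f I) (hIs : TFOne.IsTF1 Xs ((Scheme.Modules.pullback i).obj I)) (E : X.Modules) (r : ℕ) (hr : 0 < r) (hE : FlatMod.IsFinLocFreeOfRank r E) (d : ℤ) (hχ : Curv2.euler (IsLocalRing.ResidueField R) Xs ((Scheme.Modules.pullback i).obj I) = d) (hEd : Curv2.deg (IsLocalRing.ResidueField R) Xs ((Scheme.Modules.pullback i).obj E) r = -(r : ℤ) * d) (Y : Set Xs) (hY : IsClosed Y) (hYs : VecSt.IsSubcurve Xs Y) (GY : Xs.Modules) (πY : ((Scheme.Modules.pullback i).obj I) ⟶ GY) (hGY : TFOne.IsQuotOn Xs ((Scheme.Modules.pullback i).obj I) Y GY πY) (IY : X.Modules) (hIY : IY = kernel ((Scheme.Modules.pullbackPushforwardAdjunction i).unit.app I ≫ (Scheme.Modules.pushforward i).map πY)) (hmin : ∀ (T : Set Xs) (hT : IsClosed T), VecSt.IsSubcurve Xs T → ∀ (G : Xs.Modules) (π : ((Scheme.Modules.pullback i).obj I) ⟶ G), TFOne.IsQuotOn Xs ((Scheme.Modules.pullback i).obj I) T G π → TFOne.rBeta Xs (IsLocalRing.ResidueField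 R) (Xs ↘ Spec (CommRingCat.of (IsLocalRing.ResidueField R))) Y hY ((Scheme.Modules.pullback i).obj E) r GY ≤ TFOne.rBeta Xs (IsLocalRing.ResidueField R) (Xs ↘ Spec (CommRingCat.of (IsLocalRing.ResidueField R))) T hT ((Scheme.Modules.pullback i).obj E) r G) (hmax : ∀ (T : Set Xs) (hT : IsClosed T), VecSt.IsSubcurve Xs T → ∀ (G : Xs.Modules) (π : ((Scheme.Modules.pullback i).obj I) ⟶ G), TFOne.IsQuotOn Xs ((Scheme.Modules.pullback i).obj I) T G π → TFOne.rBeta Xs (IsLocalRing.ResidueField R) (Xs ↘ Spec (CommRingCat.of (IsLocalRing.ResidueField R))) T hT ((Scheme.Modules.pullback i).obj E) r G = TFOne.rBeta Xs (IsLocalRing.ResidueField R) (Xs ↘ Spec (CommRingCat.of (IsLocalRing.ResidueField R))) Y hY ((Scheme.Modules.pullback i).obj E) r GY → T ⊆ Y) (Z : Set Xs) (hZ : IsClosed Z) (hZs : VecSt.IsSubcurve Xs Z) (GZ1 : Xs.Modules) (πZ1 : ((Scheme.Modules.pullback i).obj IY) ⟶ GZ1) (hGZ1 : TFOne.IsQuotOn Xs ((Scheme.Modules.pullback i).obj IY) Z GZ1 πZ1) : TFOne.rBeta Xs (IsLocalRing.ResidueField R) (Xs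 ↘ Spec (CommRingCat.of (IsLocalRing.ResidueField R))) Y hY ((Scheme.Modules.pullback i).obj E) r GY ≤ TFOne.rBeta Xs (IsLocalRing.ResidueField R) (Xs ↘ Spec (CommRingCat.of (IsLocalRing.ResidueField R))) Z hZ ((Scheme.Modules.pullback i).obj E) r GZ1 ∧ (TFOne.rBeta Xs (IsLocalRing.ResidueField R) (Xs ↘ Spec (CommRingCat.of (IsLocalRing.ResidueField R))) Z hZ ((Scheme.Modules.pullback i).obj E) r GZ1 = TFOne.rBeta Xs (IsLocalRing.ResidueField R) (Xs ↘ Spec (CommRingCat.of (IsLocalRing.ResidueField R))) Y hY ((Scheme.Modules.pullback i).obj E) r GY → Z ⊆ Y) := by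
  haveI := Groth.TFOneAux.isProper_fibre hsq
  have hE' := Groth.LocFree.isFinLocFreeOfRank_pullback i hE
  have hX := Groth.TFOneAux.isCurve (IsLocalRing.ResidueField R) hpure
  haveI := hX.noeth
  obtain ⟨S⟩ := Groth.TFOneAux.exists_modif' hsq hIc hIf πY hGY hIY
  have hM' := S.isTF1 hX hIs hGY
  obtain ⟨U, V, hU, hV, G, G', π, π', hZU, hVs, -, hG, hG', hUs, hbU, hbV, hineq⟩ :=
    S.beta_ge (k := IsLocalRing.ResidueField R) hpure hE' hIs hY hZ hYs hZs hGY hGZ1 hmin
  -- the minimum is nonpositive, as seen on the whole curve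
  have huniv : VecSt.IsSubcurve Xs Set.univ := by
    obtain ⟨T, hT, hTne, -⟩ := hYs
    refine ⟨irreducibleComponents (Xs : Type u), subset_rfl, hTne.mono hT, ?_⟩
    refine (Set.eq_univ_of_forall fun x => ?_).symm
    obtain ⟨C, hC, hxC⟩ := exists_mem_irreducibleComponents_subset_of_isIrreducible _
      (isIrreducible_singleton (x := x))
    exact ⟨C, hC, hxC rfl⟩
  have h0 := hmin _ isClosed_univ huniv _ _ (Groth.TFOneAux.isQuotOn_self hX hIs)
  rw [Groth.TFOneAux.beta_univ (k := IsLocalRing.ResidueField R) hpure hE' hIs hχ hEd isClosed_univ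
    (Groth.TFOneAux.isQuotOn_self hX hIs)] at h0
  refine ⟨?_, fun heq => hZU.trans (hmax U hU hUs G π hG ?_)⟩
  · rcases hbV with h | h <;> linarith
  · rcases hbV with h | h <;> linarith

end Groth.Agent.S18847
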