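import Groth.Statements.S18848
import Groth.Agent.TFOne.Semistable
-- import your own Groth.Agent.* helpers here

set_option autoImplicit false
universe u
open CategoryTheory CategoryTheory.Limits AlgebraicGeometry
open TFOne

namespace Groth.Agent.S18848

/-- Let R be a discrete valuation ring with residue field κ, f : X ⟶ Spec R flat and proper, and X_s its
special fibre, assumed reduced of pure dimension one with geometrically integral irreducible
components over κ. Let I be a coherent R-flat module on X whose restriction I(s) to X_s is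
torsion-free rank-1, E a locally free module of rank r > 0 on X with restriction E(s), and d an
integer with χ(I(s)) = d and deg E(s) = -r·d. For a closed subset T of X_s write I(s)_T for the
torsion-free quotient of I(s) on T (pinned by its defining property) and β(T) := r·χ(I(s)_T) +
deg(E(s)|_T) (the source's β cleared of the denominator r). Let Y be a closed subcurve of X_s (a
non-empty union of irreducible components), and let I^Y be the kernel of the composite I ⟶ i_* I(s)
⟶ i_* I(s)_Y, with restriction I^Y(s) to X_s and quotients I^Y(s)_T and numbers β^Y(T) :=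
r·χ(I^Y(s)_T) + deg(E(s)|_T) defined likewise. Assume I(s) is semistable with respect to E(s). Then
I^Y(s) is semistable with respect to E(s) if and only if β(Y) = 0 and I(s)_Y, viewed on the reduced
closed subscheme Y, is semistable with respect to E(s)|_Y. (Here β(Y) = 0 says that E(s)|_Y is a
polarisation for I(s)_Y, the source's implicit requirement for semistability with respect to
E(s)|_Y. The source states the conclusion for semistability of I^Y over Spec R, which it reduces at
once to the special fibre since I^Y and I agree off Y; it also asserts that I^Y(s) and I(s) are then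
Jordan–Hölder equivalent, which is not stated here; it takes f projective.) -/
theorem result (R : Type u) [CommRing R] [IsDomain R] [IsDiscreteValuationRing R] (X : Scheme.{u}) (f : X ⟶ Spec (CommRingCat.of R)) [Flat f] [IsProper f] (Xs : Scheme.{u}) [Xs.Over (Spec (CommRingCat.of (IsLocalRing.ResidueField R)))] (i : Xs ⟶ X) (hsq : IsPullback i (Xs ↘ Spec (CommRingCat.of (IsLocalRing.ResidueField R))) f (Spec.map (CommRingCat.ofHom (IsLocalRing.residue R)))) [IsReduced Xs] (hpure : ∀ C ∈ irreducibleComponents (Xs : Type u), topologicalKrullDim C = 1) (hgi : ∀ (C : Set Xs) (hC : C ∈ irreducibleComponents (Xs : Type u)), GeometricallyIntegral (VecSt.subschι Xs C (isClosed_of_mem_irreducibleComponents C hC) ≫ (Xs ↘ Spec (CommRingCat.of (IsLocalRing.ResidueField R))))) (I : X.Modules) (hIc : Coh.IsCoh I) (hIf : FlatMod.IsFlatOver f I) (hIs : TFOne.IsTF1 Xs ((Scheme.Modules.pullback i).obj I)) (E : X.Modules) (r : ℕ) (hr : 0 < r) (hE : FlatMod.IsFinLocFreeOfRank r E) (d : ℤ) (hχ : Curv2.euler (IsLocalRing.ResidueField R)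 Xs ((Scheme.Modules.pullback i).obj I) = d) (hEd : Curv2.deg (IsLocalRing.ResidueField R) Xs ((Scheme.Modules.pullback i).obj E) r = -(r : ℤ) * d) (hss : TFOne.IsSemistable Xs (IsLocalRing.ResidueField R) (Xs ↘ Spec (CommRingCat.of (IsLocalRing.ResidueField R))) ((Scheme.Modules.pullback i).obj I) ((Scheme.Modules.pullback i).obj E) r) (Y : Set Xs) (hY : IsClosed Y) (hYs : VecSt.IsSubcurve Xs Y) (GY : Xs.Modules) (πY : ((Scheme.Modules.pullback i).obj I) ⟶ GY) (hGY : TFOne.IsQuotOn Xs ((Scheme.Modules.pullback i).obj I) Y GY πY) (IY : X.Modules) (hIY : IY = kernel ((Scheme.Modules.pullbackPushforwardAdjunction i).unit.app I ≫ (Scheme.Modules.pushforward i).map πY)) : TFOne.IsSemistable Xs (IsLocalRing.ResidueField R) (Xs ↘ Spec (CommRingCat.of (IsLocalRing.ResidueField R))) ((Scheme.Modules.pullback i).obj IY) ((Scheme.Modules.pullback i).obj E) r ↔ (TFOne.rBeta Xs (IsLocalRing.ResidueField R) (Xs ↘ Spec (CommRingCat.of (IsLocalRing.ResidueField R))) Y hY ((Scheme.Modules.pullback i).obj E) r GY = 0 ∧ TFOne.IsSemistable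 (VecSt.subsch Xs Y hY) (IsLocalRing.ResidueField R) (VecSt.subschι Xs Y hY ≫ (Xs ↘ Spec (CommRingCat.of (IsLocalRing.ResidueField R)))) ((Scheme.Modules.pullback (VecSt.subschι Xs Y hY)).obj GY) ((Scheme.Modules.pullback (VecSt.subschι Xs Y hY)).obj ((Scheme.Modules.pullback i).obj E)) r) := by
  haveI := Groth.TFOneAux.isProper_fibre hsq
  have hE' := Groth.LocFree.isFinLocFreeOfRank_pullback i hE
  have hX := Groth.TFOneAux.isCurve (IsLocalRing.ResidueField R) hpure
  haveI := hX.noeth
  obtain ⟨S⟩ := Groth.TFOneAux.exists_modif' hsq hIc hIf πY hGY hIY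
  have hM' := S.isTF1 hX hIs hGY
  have hb : ∀ (T : Set Xs) (hT : IsClosed T), VecSt.IsSubcurve Xs T → ∀ (G : Xs.Modules)
      (π : ((Scheme.Modules.pullback i).obj I) ⟶ G),
      TFOne.IsQuotOn Xs ((Scheme.Modules.pullback i).obj I) T G π → 0 ≤ TFOne.rBeta Xs
        (IsLocalRing.ResidueField R) (Xs ↘ Spec (CommRingCat.of (IsLocalRing.ResidueField R))) T hT
        ((Scheme.Modules.pullback i).obj E) r G := by
    intro T hT hTs G π hG
    by_cases hTu : T = Set.univ
    · subst hTu
      exact (Groth.TFOneAux.beta_univ (k := IsLocalRing.ResidueField R) hpure hE' hIs hχ hEd hT hG).ge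
    · exact hss.2 T hT hTs hTu G π hG
  constructor
  · intro h
    refine ⟨?_, Groth.TFOneAux.isSemistable_restrict hpure hE' hss hY hYs hGY⟩
    by_cases hYu : Y = Set.univ
    · subst hYu
      exact Groth.TFOneAux.beta_univ (k := IsLocalRing.ResidueField R) hpure hE' hIs hχ hEd hY hGY
    -- test on the complementary subcurve
    obtain ⟨Y', hY'⟩ : ∃ Y', Y' = ⋃₀ {C | C ∈ irreducibleComponents (Xs : Type u) ∧ ¬ C ⊆ Y} := ⟨_, rfl⟩
    have hS₀ : {C | C ∈ irreducibleComponents (Xs : Type u) ∧ ¬ C ⊆ Y} ⊆ irreducibleComponents (Xs : Type u) :=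
      fun C hC => hC.1
    have hY'c : IsClosed Y' := hY' ▸ Groth.TFOneAux.isClosed_sUnion_components hS₀
    obtain ⟨G2, π2, hG2⟩ := Groth.TFOneAux.exists_quot_on_union hX hM' hS₀
    rw [← hY'] at hG2
    have hY's : VecSt.IsSubcurve Xs Y' := by
      refine ⟨_, hS₀, ?_, hY'⟩
      by_contra hne
      refine hYu (Set.eq_univ_of_forall fun x => ?_)
      obtain ⟨C, hC, hxC⟩ := exists_mem_irreducibleComponents_subset_of_isIrreducible _
        (isIrreducible_singleton (x := x))
      exact not_not.1 fun hx => hne ⟨C, hC, fun hCY => hx (hCY (hxC rfl))⟩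
    obtain ⟨-, -, hgen⟩ := S.euler_complement (k := IsLocalRing.ResidueField R) hpure hIs hY hGY hY' hG2
    have hY'u : Y' ≠ Set.univ := fun hu => by
      obtain ⟨T, hT, ⟨C, hC⟩, eT⟩ := hYs
      obtain ⟨η, hη⟩ := QuasiSober.sober (hT hC).1 (isClosed_of_mem_irreducibleComponents C (hT hC))
      have hg : η ∈ genericPoints (Xs : Type u) := by
        show closure ({η} : Set Xs) ∈ irreducibleComponents (Xs : Type u)
        rw [hη.def]; exact hT hC
      exact (hgen η hg).1 (eT.ge ⟨C, hC, hη.mem⟩) (hu ▸ Set.mem_univ η)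
    have hpos := h.2 Y' hY'c hY's hY'u G2 π2 hG2
    have hout := S.outside_eq (Groth.TFOneAux.phi (IsLocalRing.ResidueField R) ((Scheme.Modules.pullback i).obj E) r) hX
      (fun S hS a b c => Groth.TFOneAux.phi_add _ hE' hS a b c) (fun e => Groth.TFOneAux.phi_congr _ e)
      hIs hGY (Groth.TFOneAux.isQuotOn_self hX hIs) hG2 (fun _ _ _ => trivial)
      (fun η hη => ⟨fun h => ⟨trivial, fun h' => (hgen η hη).1 h' h⟩,
        fun h => not_not.1 fun h' => h.2 ((hgen η hη).2 h')⟩)
    rw [Groth.TFOneAux.phi_self _ hpure hE' hIs, hχ, hEd,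
      ← Groth.TFOneAux.rBeta_eq_phi _ hpure hE' hIs hY hGY,
      ← Groth.TFOneAux.rBeta_eq_phi _ hpure hE' hM' hY'c hG2] at hout
    have hge := hb Y hY hYs GY πY hGY
    linarith
  · rintro ⟨hY0, -⟩
    refine ⟨hM', fun Z hZ hZs hZu GZ πZ hGZ => ?_⟩
    obtain ⟨U, V, hU, hV, G, G', π, π', -, -, -, -, -, -, hbU, hbV, hineq⟩ :=
      S.beta_ge (k := IsLocalRing.ResidueField R) hpure hE' hIs hY hZ hYs hZs hGY hGZ hb
    rcases hbV with h | h <;> linarith

end Groth.Agent.S18848
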