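import Groth.Statements.S18851
import Groth.Agent.TFOne.Section

set_option autoImplicit false
universe u
open CategoryTheory CategoryTheory.Limits AlgebraicGeometry
open TFOne

namespace Groth.Agent.S18851

/-- Let R be a discrete valuation ring with fraction field K and residue field κ, f : X ⟶ Spec R flat
and proper with generic fibre X_K (a cartesian square over Spec K ⟶ Spec R with top arrow j) and
special fibre X_s (a cartesian square over Spec κ ⟶ Spec R), the latter reduced of pure dimension
one with geometrically integral irreducible components over κ. Let I be a relatively torsion-free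
rank-1 module on X over Spec R (R-flat, finitely presented, torsion-free rank-1 on every geometric
fibre), E a locally free module of rank r > 0 on X, and d an integer with χ(I(s)) = d and deg E(s) =
-r·d for the restrictions to X_s. If j^* I is simple and semistable with respect to j^* E on every
geometric fibre of X_K over Spec K, then there is a relatively torsion-free rank-1 module I' on X
over Spec R with j^* I' ≅ j^* I which is both simple and semistable with respect to E on every
geometric fibre of f. (The source's proof starts from an arbitrary extension, the form stated here;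
the source takes f projective.) -/
theorem result (R : Type u) [CommRing R] [IsDomain R] [IsDiscreteValuationRing R] (X : Scheme.{u}) (f : X ⟶ Spec (CommRingCat.of R)) [Flat f] [IsProper f] (Xs : Scheme.{u}) [Xs.Over (Spec (CommRingCat.of (IsLocalRing.ResidueField R)))] (i : Xs ⟶ X) (hsq : IsPullback i (Xs ↘ Spec (CommRingCat.of (IsLocalRing.ResidueField R))) f (Spec.map (CommRingCat.ofHom (IsLocalRing.residue R)))) [IsReduced Xs] (hpure : ∀ C ∈ irreducibleComponents (Xs : Type u), topologicalKrullDim C = 1) (hgi : ∀ (C : Set Xs) (hC : C ∈ irreducibleComponents (Xs : Type u)), GeometricallyIntegral (VecSt.subschι Xs C (isClosed_of_mem_irreducibleComponents C hC) ≫ (Xs ↘ Spec (CommRingCat.of (IsLocalRing.ResidueField R))))) (Xg : Scheme.{u}) [Xg.Over (Spec (CommRingCat.of (FractionRing R)))] (j : Xg ⟶ X) (hgen : IsPullback j (Xg ↘ Spec (CommRingCat.of (FractionRing R))) f (Spec.map (CommRingCat.ofHom (algebraMap R (FractionRing R))))) (I : X.Modules) (hI : TFOne.IsRelTF1 f I) (E : X.Modules) (r : ℕ) (hr : 0 < r) (hE : FlatMod.IsFinLocFreeOfRank r E) (d : ℤ) (hχ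 : Curv2.euler (IsLocalRing.ResidueField R) Xs ((Scheme.Modules.pullback i).obj I) = d) (hEd : Curv2.deg (IsLocalRing.ResidueField R) Xs ((Scheme.Modules.pullback i).obj E) r = -(r : ℤ) * d) (hIg1 : TFOne.FibSimple (Xg ↘ Spec (CommRingCat.of (FractionRing R))) ((Scheme.Modules.pullback j).obj I)) (hIg2 : TFOne.FibSemistable (Xg ↘ Spec (CommRingCat.of (FractionRing R))) ((Scheme.Modules.pullback j).obj I) ((Scheme.Modules.pullback j).obj E) r) : ∃ I' : X.Modules, TFOne.IsRelTF1 f I' ∧ Nonempty ((Scheme.Modules.pullback j).obj I' ≅ ((Scheme.Modules.pullback j).obj I)) ∧ TFOne.FibSimple f I' ∧ TFOne.FibSemistable f I' E r := by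
  haveI := TFOneAux.isProper_fibre hsq
  haveI := TFOneAux.nonempty_special hsq hgen hIg1
  obtain ⟨J, hJ, hdec⟩ := TFOneAux.exists_indecLat hsq hgen hpure (TFOneAux.SemLat f i j I E r)
    (fun _ h => h.1.1)
    (fun J P G π hJ hY hd => TFOneAux.semLat_next hsq hgen hpure hE hJ hY (by
      have h := TFOneAux.bPat_dec (k := IsLocalRing.ResidueField R) (TFOneAux.isCurve_special hsq hpure)
        (LocFree.isFinLocFreeOfRank_pullback i hE) hJ.1.1.tf hd
      have h1 := hJ.2 P
      have h2 := hJ.2 Pᶜ
      have h3 := hJ.1.2
      simp only [TFOneAux.bS] at *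
      linarith))
    hIg1 (TFOneAux.exists_semLat hsq hgen hpure hgi hE hr
      (TFOneAux.lat_self hsq hpure hgi hI hE hχ hEd) hIg2)
  exact ⟨J, TFOneAux.isRelTF1_of_good hsq hgen hgi hI hJ.1.1, hJ.1.1.gen,
    TFOneAux.fibSimple_of_good hsq hgen hpure hgi hJ.1.1 hIg1 hdec,
    TFOneAux.fibSemistable_of_good hsq hgen hpure hgi hE hJ.1.1 hIg2 hJ.2⟩

end Groth.Agent.S18851
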