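import Groth.Statements.S18853
import Groth.Agent.TFOne.Assemble
-- import your own Groth.Agent.* helpers here

set_option autoImplicit false
universe u
open CategoryTheory CategoryTheory.Limits AlgebraicGeometry
open TFOne

namespace Groth.Agent.S18853

/-- Let R be a discrete valuation ring with residue field κ, f : X ⟶ Spec R flat and proper, and X_s its
special fibre, assumed reduced of pure dimension one with geometrically integral irreducible
components over κ. Let I be a coherent R-flat module on X whose restriction I(s) to X_s is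
torsion-free rank-1, E a locally free module of rank r > 0 on X with restriction E(s), and d an
integer with χ(I(s)) = d and deg E(s) = -r·d. For a closed subset T of X_s write I(s)_T for the
torsion-free quotient of I(s) on T (pinned by its defining property) and β(T) := r·χ(I(s)_T) +
deg(E(s)|_T) (the source's β cleared of the denominator r). Let Y be a closed subcurve of X_s (a
non-empty union of irreducible components), and let I^Y be the kernel of the composite I ⟶ i_* I(s)
⟶ i_* I(s)_Y, with restriction I^Y(s) to X_s and quotients I^Y(s)_T and numbers β^Y(T) :=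
r·χ(I^Y(s)_T) + deg(E(s)|_T) defined likewise. Assume I(s) is semistable with respect to E(s). Let W
be an irreducible component of X_s and suppose that Y is the smallest closed subcurve of X_s
containing W with β(Y) = 0 (it is contained in every closed subcurve T ⊇ W with β(T) = 0). If Z is a
closed subcurve containing W with β^Y(Z) = 0 which is smallest with this property, then Y ⊆ Z. (The
source adds that I^Y is again semistable, which follows from the preceding semistability criterion
for I^Y, and that Y = Z exactly when I^Y(s) decomposes at Y; neither is stated here. The source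
takes f projective.) -/
theorem result (R : Type u) [CommRing R] [IsDomain R] [IsDiscreteValuationRing R] (X : Scheme.{u}) (f : X ⟶ Spec (CommRingCat.of R)) [Flat f] [IsProper f] (Xs : Scheme.{u}) [Xs.Over (Spec (CommRingCat.of (IsLocalRing.ResidueField R)))] (i : Xs ⟶ X) (hsq : IsPullback i (Xs ↘ Spec (CommRingCat.of (IsLocalRing.ResidueField R))) f (Spec.map (CommRingCat.ofHom (IsLocalRing.residue R)))) [IsReduced Xs] (hpure : ∀ C ∈ irreducibleComponents (Xs : Type u), topologicalKrullDim C = 1) (hgi : ∀ (C : Set Xs) (hC : C ∈ irreducibleComponents (Xs : Type u)), GeometricallyIntegral (VecSt.subschι Xs C (isClosed_of_mem_irreducibleComponents C hC) ≫ (Xs ↘ Spec (CommRingCat.of (IsLocalRing.ResidueField R))))) (I : X.Modules) (hIc : Coh.IsCoh I) (hIf : FlatMod.IsFlatOver f I) (hIs : TFOne.IsTF1 Xs ((Scheme.Modules.pullback i).obj I)) (E : X.Modules) (r : ℕ) (hr : 0 < r) (hE : FlatMod.IsFinLocFreeOfRank r E) (d : ℤ) (hχ : Curv2.euler (IsLocalRing.ResidueField R) Xs ((Scheme.Modules.pullback i).obj I)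 = d) (hEd : Curv2.deg (IsLocalRing.ResidueField R) Xs ((Scheme.Modules.pullback i).obj E) r = -(r : ℤ) * d) (hss : TFOne.IsSemistable Xs (IsLocalRing.ResidueField R) (Xs ↘ Spec (CommRingCat.of (IsLocalRing.ResidueField R))) ((Scheme.Modules.pullback i).obj I) ((Scheme.Modules.pullback i).obj E) r) (Y : Set Xs) (hY : IsClosed Y) (hYs : VecSt.IsSubcurve Xs Y) (GY : Xs.Modules) (πY : ((Scheme.Modules.pullback i).obj I) ⟶ GY) (hGY : TFOne.IsQuotOn Xs ((Scheme.Modules.pullback i).obj I) Y GY πY) (IY : X.Modules) (hIY : IY = kernel ((Scheme.Modules.pullbackPushforwardAdjunction i).unit.app I ≫ (Scheme.Modules.pushforward i).map πY)) (W : Set Xs) (hWc : W ∈ irreducibleComponents (Xs : Type u)) (hWY : W ⊆ Y) (hY0 : TFOne.rBeta Xs (IsLocalRing.ResidueField R) (Xs ↘ Spec (CommRingCat.of (IsLocalRing.ResidueField R))) Y hY ((Scheme.Modules.pullback i).obj E) r GY = 0) (hYmin : ∀ (T : Set Xs) (hT : IsClosed T), VecSt.IsSubcurve Xs T → W ⊆ T → ∀ (G : Xs.Modules) (π : ((Scheme.Modules.pullback i).obj I) ⟶ G), TFOne.IsQuotOn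 Xs ((Scheme.Modules.pullback i).obj I) T G π → TFOne.rBeta Xs (IsLocalRing.ResidueField R) (Xs ↘ Spec (CommRingCat.of (IsLocalRing.ResidueField R))) T hT ((Scheme.Modules.pullback i).obj E) r G = 0 → Y ⊆ T) (Z : Set Xs) (hZ : IsClosed Z) (hZs : VecSt.IsSubcurve Xs Z) (hWZ : W ⊆ Z) (GZ1 : Xs.Modules) (πZ1 : ((Scheme.Modules.pullback i).obj IY) ⟶ GZ1) (hGZ1 : TFOne.IsQuotOn Xs ((Scheme.Modules.pullback i).obj IY) Z GZ1 πZ1) (hZ0 : TFOne.rBeta Xs (IsLocalRing.ResidueField R) (Xs ↘ Spec (CommRingCat.of (IsLocalRing.ResidueField R))) Z hZ ((Scheme.Modules.pullback i).obj E) r GZ1 = 0) (hZmin : ∀ (T : Set Xs) (hT : IsClosed T), VecSt.IsSubcurve Xs T → W ⊆ T → ∀ (G : Xs.Modules) (π : ((Scheme.Modules.pullback i).obj IY) ⟶ G), TFOne.IsQuotOn Xs ((Scheme.Modules.pullback i).obj IY) T G π → TFOne.rBeta Xs (IsLocalRing.ResidueField R) (Xs ↘ Spec (CommRingCat.of (IsLocalRing.ResidueField R))) T hT ((Scheme.Modules.pullback i).obj E) r G = 0 → Z ⊆ T) : Y ⊆ Z := by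
  haveI := Groth.TFOneAux.isProper_fibre hsq
  have hE' := Groth.LocFree.isFinLocFreeOfRank_pullback i hE
  have hX := Groth.TFOneAux.isCurve (IsLocalRing.ResidueField R) hpure
  haveI := hX.noeth
  obtain ⟨S⟩ := Groth.TFOneAux.exists_modif' hsq hIc hIf πY hGY hIY
  have hM' := S.isTF1 hX hIs hGY
  have hb : ∀ (T : Set Xs) (hT : IsClosed T), VecSt.IsSubcurve Xs T → ∀ (G : Xs.Modules)
      (π : ((Scheme.Modules.pullback i).obj I) ⟶ G),
      TFOne.IsQuotOn Xs ((Scheme.Modules.pullback i).obj I) T G π → 0 ≤ TFOne.rBeta Xs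
        (IsLocalRing.ResidueField R) (Xs ↘ Spec (CommRingCat.of (IsLocalRing.ResidueField R))) T hT
        ((Scheme.Modules.pullback i).obj E) r G := by
    intro T hT hTs G π hG
    by_cases hTu : T = Set.univ
    · subst hTu
      exact (Groth.TFOneAux.beta_univ (k := IsLocalRing.ResidueField R) hpure hE' hIs hχ hEd hT hG).ge
    · exact hss.2 T hT hTs hTu G π hG
  obtain ⟨U, V, hU, hV, G, G', π, π', hZU, hVs, hVeq, hG, hG', hUs, hbU, hbV, hineq⟩ :=
    S.beta_ge (k := IsLocalRing.ResidueField R) hpure hE' hIs hY hZ hYs hZs hGY hGZ1 hb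
  have hWV : W ⊆ V := hVeq ▸ fun x hx => ⟨W, ⟨hWc, Set.subset_inter hWY hWZ⟩, hx⟩
  have hVs' : VecSt.IsSubcurve Xs V := hVs.resolve_right fun h => by
    obtain ⟨x, hx⟩ := hWc.1.1
    exact (h ▸ hWV hx : x ∈ (∅ : Set Xs))
  have hV0 := hb V hV hVs' G' π' hG'
  refine (hYmin V hV hVs' hWV G' π' hG' (by linarith)).trans ?_
  rw [hVeq]
  exact Set.sUnion_subset fun C hC => hC.2.trans Set.inter_subset_right

end Groth.Agent.S18853
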