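import Groth.Statements.S18856
import Groth.Agent.TFOne.Assemble
-- import your own Groth.Agent.* helpers here

set_option autoImplicit false
universe u
open CategoryTheory CategoryTheory.Limits AlgebraicGeometry
open TFOne

namespace Groth.Agent.S18856

/-- Let R be a discrete valuation ring with residue field κ, f : X ⟶ Spec R flat and proper, and X_s its
special fibre, assumed reduced of pure dimension one with geometrically integral irreducible
components over κ. Let I be a coherent R-flat module on X whose restriction I(s) to X_s is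
torsion-free rank-1, E a locally free module of rank r > 0 on X with restriction E(s), and d an
integer with χ(I(s)) = d and deg E(s) = -r·d. For a closed subset T of X_s write I(s)_T for the
torsion-free quotient of I(s) on T (pinned by its defining property) and β(T) := r·χ(I(s)_T) +
deg(E(s)|_T) (the source's β cleared of the denominator r). Let Y be a closed subcurve of X_s (a
non-empty union of irreducible components), and let I^Y be the kernel of the composite I ⟶ i_* I(s)
⟶ i_* I(s)_Y, with restriction I^Y(s) to X_s and quotients I^Y(s)_T and numbers β^Y(T) :=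
r·χ(I^Y(s)_T) + deg(E(s)|_T) defined likewise. Let Z be a closed subcurve of X_s, W the union of the
irreducible components of X_s contained in Y ∩ Z, Y' the union of the components not contained in Y,
and V the union of the components contained in Z but not in Y (each possibly empty; the torsion-free
quotient on the empty set is 0). Then the inequality β^Y(Z) + β(Y) ≥ β(W) + β(Y ∪ Z) is an equality
if and only if χ(I^Y(s)_W) + χ(I^Y(s)_{Y'}) − χ(I^Y(s)_{W ∪ Y'}) = χ(I^Y(s)_W) + χ(I^Y(s)_V) −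
χ(I^Y(s)_Z), that is δ(W, Y') = δ(W, V) for δ(A, B) := χ(I^Y(s)_A) + χ(I^Y(s)_B) − χ(I^Y(s)_{A ∪ B})
(note W ∪ V = Z). (The source takes f projective.) -/
theorem result (R : Type u) [CommRing R] [IsDomain R] [IsDiscreteValuationRing R] (X : Scheme.{u}) (f : X ⟶ Spec (CommRingCat.of R)) [Flat f] [IsProper f] (Xs : Scheme.{u}) [Xs.Over (Spec (CommRingCat.of (IsLocalRing.ResidueField R)))] (i : Xs ⟶ X) (hsq : IsPullback i (Xs ↘ Spec (CommRingCat.of (IsLocalRing.ResidueField R))) f (Spec.map (CommRingCat.ofHom (IsLocalRing.residue R)))) [IsReduced Xs] (hpure : ∀ C ∈ irreducibleComponents (Xs : Type u), topologicalKrullDim C = 1) (hgi : ∀ (C : Set Xs) (hC : C ∈ irreducibleComponents (Xs : Type u)), GeometricallyIntegral (VecSt.subschι Xs C (isClosed_of_mem_irreducibleComponents C hC) ≫ (Xs ↘ Spec (CommRingCat.of (IsLocalRing.ResidueField R))))) (I : X.Modules) (hIc : Coh.IsCoh I) (hIf : FlatMod.IsFlatOver f I) (hIs : TFOne.IsTF1 Xs ((Scheme.Modules.pullback i).obj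 I)) (E : X.Modules) (r : ℕ) (hr : 0 < r) (hE : FlatMod.IsFinLocFreeOfRank r E) (d : ℤ) (hχ : Curv2.euler (IsLocalRing.ResidueField R) Xs ((Scheme.Modules.pullback i).obj I) = d) (hEd : Curv2.deg (IsLocalRing.ResidueField R) Xs ((Scheme.Modules.pullback i).obj E) r = -(r : ℤ) * d) (Y : Set Xs) (hY : IsClosed Y) (hYs : VecSt.IsSubcurve Xs Y) (GY : Xs.Modules) (πY : ((Scheme.Modules.pullback i).obj I) ⟶ GY) (hGY : TFOne.IsQuotOn Xs ((Scheme.Modules.pullback i).obj I) Y GY πY) (IY : X.Modules) (hIY : IY = kernel ((Scheme.Modules.pullbackPushforwardAdjunction i).unit.app I ≫ (Scheme.Modules.pushforward i).map πY)) (Z W Y' V : Set Xs) (hZ : IsClosed Z) (hZs : VecSt.IsSubcurve Xs Z) (hW : W = ⋃₀ {C | C ∈ irreducibleComponents (Xs : Type u) ∧ C ⊆ Y ∩ Z}) (hWc : IsClosed W) (hY' : Y' = ⋃₀ {C | C ∈ irreducibleComponents (Xs : Type u) ∧ ¬ C ⊆ Y}) (hY'c : IsClosed Y') (hV : V = ⋃₀ {C | C ∈ irreducibleComponents (Xs : Type u) ∧ C ⊆ Z ∧ ¬ C ⊆ Y}) (hVc : IsClosed V) (GZ1 G2 G3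 G4 G5 : Xs.Modules) (πZ1 : ((Scheme.Modules.pullback i).obj IY) ⟶ GZ1) (π5 : ((Scheme.Modules.pullback i).obj IY) ⟶ G5) (hG5 : TFOne.IsQuotOn Xs ((Scheme.Modules.pullback i).obj IY) W G5 π5) (π2 : ((Scheme.Modules.pullback i).obj IY) ⟶ G2) (π3 : ((Scheme.Modules.pullback i).obj IY) ⟶ G3) (π4 : ((Scheme.Modules.pullback i).obj IY) ⟶ G4) (hGZ1 : TFOne.IsQuotOn Xs ((Scheme.Modules.pullback i).obj IY) Z GZ1 πZ1) (hG2 : TFOne.IsQuotOn Xs ((Scheme.Modules.pullback i).obj IY) Y' G2 π2) (hG3 : TFOne.IsQuotOn Xs ((Scheme.Modules.pullback i).obj IY) (W ∪ Y') G3 π3) (hG4 : TFOne.IsQuotOn Xs ((Scheme.Modules.pullback i).obj IY) V G4 π4) (GW GU : Xs.Modules) (πW : ((Scheme.Modules.pullback i).obj I) ⟶ GW) (πU : ((Scheme.Modules.pullback i).obj I) ⟶ GU) (hGW : TFOne.IsQuotOn Xs ((Scheme.Modules.pullback i).obj I) W GW πW) (hGU : TFOne.IsQuotOn Xs ((Scheme.Modules.pullback i).obj I) (Y ∪ Z) GU πU) : TFOne.rBeta Xs (IsLocalRing.ResidueField R) (Xs ↘ Spec (CommRingCat.of (IsLocalRing.ResidueField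 R))) W hWc ((Scheme.Modules.pullback i).obj E) r GW + TFOne.rBeta Xs (IsLocalRing.ResidueField R) (Xs ↘ Spec (CommRingCat.of (IsLocalRing.ResidueField R))) (Y ∪ Z) (hY.union hZ) ((Scheme.Modules.pullback i).obj E) r GU = TFOne.rBeta Xs (IsLocalRing.ResidueField R) (Xs ↘ Spec (CommRingCat.of (IsLocalRing.ResidueField R))) Z hZ ((Scheme.Modules.pullback i).obj E) r GZ1 + TFOne.rBeta Xs (IsLocalRing.ResidueField R) (Xs ↘ Spec (CommRingCat.of (IsLocalRing.ResidueField R))) Y hY ((Scheme.Modules.pullback i).obj E) r GY ↔ Curv2.euler (IsLocalRing.ResidueField R) Xs G5 + Curv2.euler (IsLocalRing.ResidueField R) Xs G2 - Curv2.euler (IsLocalRing.ResidueField R) Xs G3 = Curv2.euler (IsLocalRing.ResidueField R) Xs G5 + Curv2.euler (IsLocalRing.ResidueField R) Xs G4 - Curv2.euler (IsLocalRing.ResidueField R) Xs GZ1 := by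
  haveI := Groth.TFOneAux.isProper_fibre hsq
  have hE' := Groth.LocFree.isFinLocFreeOfRank_pullback i hE
  have hX := Groth.TFOneAux.isCurve (IsLocalRing.ResidueField R) hpure
  haveI := hX.noeth
  obtain ⟨S⟩ := Groth.TFOneAux.exists_modif' hsq hIc hIf πY hGY hIY
  have hM' := S.isTF1 hX hIs hGY
  obtain ⟨n, hn, h1, h⟩ := S.beta (k := IsLocalRing.ResidueField R) hpure hE' hIs hY hZ hGY hGZ1 hW hWc hGW hGU
  rw [h]
  have hr' : (r : ℤ) ≠ 0 := by exact_mod_cast hr.ne'
  obtain ⟨hcomp, -, hgen⟩ := S.euler_complement (k := IsLocalRing.ResidueField R) hpure hIs hY hGY hY' hG2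
  have hgW : ∀ η ∈ genericPoints (Xs : Type u), η ∈ W ↔ η ∈ Y ∧ η ∈ Z := fun η hη => by
    rw [hW, Groth.TFOneAux.mem_sUnion_components_iff (hY.inter hZ) hη]; rfl
  have hgV : ∀ η ∈ genericPoints (Xs : Type u), η ∈ V ↔ η ∈ Y ∪ Z ∧ η ∉ Y := fun η hη => by
    rw [hV]
    refine ⟨?_, fun ⟨h1, h2⟩ => ?_⟩
    · rintro ⟨C, ⟨hC, hCZ, hCY⟩, hηC⟩
      refine ⟨.inr (hCZ hηC), fun hy => hCY ?_⟩
      obtain ⟨x, hx⟩ := QuasiSober.sober hC.1 (isClosed_of_mem_irreducibleComponents C hC)
      have hg : x ∈ genericPoints (Xs : Type u) := by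
        show closure ({x} : Set Xs) ∈ irreducibleComponents (Xs : Type u)
        rw [hx.def]; exact hC
      obtain rfl := Groth.TFOneAux.eq_of_mem_closure_generic hη hg (hx.def.ge hηC)
      exact hx.def ▸ closure_minimal (Set.singleton_subset_iff.2 hy) hY
    · exact ⟨closure {η}, ⟨hη, closure_minimal (Set.singleton_subset_iff.2 (h1.resolve_left h2)) hZ,
        fun hc => h2 (hc (subset_closure rfl))⟩, subset_closure rfl⟩
  have h4 := S.outside_eq (fun A => Curv2.euler (IsLocalRing.ResidueField R) Xs A) hX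
    (fun S hS a _ c => Groth.DecShCurve.euler_ses _ hS a c) (fun e => Groth.EulerDeg.euler_congr _ e)
    hIs hGY hGU hG4 (fun η _ h => Or.inl h) hgV
  obtain ⟨n', -, h3, -, hfull⟩ := S.numeric (k := IsLocalRing.ResidueField R) hX hE' hIs hGY
    (Groth.TFOneAux.isQuotOn_self hX hIs) hGW hG3
    (fun η hη => iff_of_true trivial (by
      by_cases hy : η ∈ Y
      · exact .inl hy
      · exact .inr (.inr (not_not.1 fun h' => hy ((hgen η hη).2 h')))))
    (fun η hη => ⟨fun hw => ⟨((hgW η hη).1 hw).1, .inl hw⟩,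
      fun ⟨hy, hwy⟩ => hwy.resolve_right ((hgen η hη).1 hy)⟩)
  have hn' : n' = 0 := hfull fun η hη => by
    by_cases hy : η ∈ Y
    · exact .inl hy
    · exact .inr (.inr (not_not.1 fun h' => hy ((hgen η hη).2 h')))
  constructor
  · intro heq
    have : (r : ℤ) * n = 0 := by linarith
    have hn0 : n = 0 := (mul_eq_zero.1 this).resolve_left hr'
    omega
  · intro heq
    have hn0 : n = 0 := by omega
    rw [hn0, mul_zero, add_zero]

end Groth.Agent.S18856
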