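import Groth.Statements.S18857
import Groth.Agent.TFOne.Descend

set_option autoImplicit false
universe u
open CategoryTheory CategoryTheory.Limits AlgebraicGeometry
open TFOne

namespace Groth.Agent.S18857

/-- Let R be a complete discrete valuation ring with residue field κ, f : X ⟶ Spec R flat and proper,
and X_s its special fibre (a cartesian square over Spec κ ⟶ Spec R with top arrow i), assumed
reduced of pure dimension one with geometrically integral irreducible components over κ. Let Y ≠ X_s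
be a closed subcurve of X_s (a non-empty union of irreducible components) and Y' the union of the
components not contained in Y. Let I^0 ⊇ I^1 ⊇ I^2 ⊇ ⋯ be modules on X, I^0 coherent and R-flat with
torsion-free rank-1 restriction to X_s, such that for every n the module I^{n+1} is the kernel of
the composite I^n ⟶ i_* I^n(s) ⟶ i_* I^n(s)_Y, where I^n(s) is the restriction of I^n to X_s and
I^n(s)_Y its torsion-free quotient on Y (pinned by its defining property). Suppose that every I^n(s)
decomposes at Y: the canonical map I^n(s) ⟶ I^n(s)_Y ⊞ I^n(s)_{Y'} is an isomorphism. Then there are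
a module F on X, flat over Spec R, and an epimorphism p : I^0 ⟶ F whose restriction to X_s
identifies F(s), as a quotient of I^0(s), with I^0(s)_Y. (The source takes f projective and allows Y
= X_s, a case excluded here; it is trivial with F = I^0.) -/
theorem result (R : Type u) [CommRing R] [IsDomain R] [IsDiscreteValuationRing R] (X : Scheme.{u}) (f : X ⟶ Spec (CommRingCat.of R)) [Flat f] [IsProper f] (Xs : Scheme.{u}) [Xs.Over (Spec (CommRingCat.of (IsLocalRing.ResidueField R)))] (i : Xs ⟶ X) (hsq : IsPullback i (Xs ↘ Spec (CommRingCat.of (IsLocalRing.ResidueField R))) f (Spec.map (CommRingCat.ofHom (IsLocalRing.residue R)))) [IsReduced Xs] (hpure : ∀ C ∈ irreducibleComponents (Xs : Type u), topologicalKrullDim C = 1) (hgi : ∀ (C : Set Xs) (hC : C ∈ irreducibleComponents (Xs : Type u)), GeometricallyIntegral (VecSt.subschι Xs C (isClosed_of_mem_irreducibleComponents C hC) ≫ (Xs ↘ Spec (CommRingCat.of (IsLocalRing.ResidueField R))))) [IsAdicComplete (IsLocalRing.maximalIdeal R) R] (In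 : ℕ → X.Modules) (hIc : Coh.IsCoh (In 0)) (hIf : FlatMod.IsFlatOver f (In 0)) (hIs : TFOne.IsTF1 Xs ((Scheme.Modules.pullback i).obj (In 0))) (Y : Set Xs) (hY : IsClosed Y) (hYs : VecSt.IsSubcurve Xs Y) (hYne : Y ≠ Set.univ) (Y' : Set Xs) (hY' : Y' = ⋃₀ {C | C ∈ irreducibleComponents (Xs : Type u) ∧ ¬ C ⊆ Y}) (hY'c : IsClosed Y') (G G' : ℕ → Xs.Modules) (π : ∀ n : ℕ, ((Scheme.Modules.pullback i).obj (In n)) ⟶ G n) (π' : ∀ n : ℕ, ((Scheme.Modules.pullback i).obj (In n)) ⟶ G' n) (hG : ∀ n : ℕ, TFOne.IsQuotOn Xs ((Scheme.Modules.pullback i).obj (In n)) Y (G n) (π n)) (hG' : ∀ n : ℕ, TFOne.IsQuotOn Xs ((Scheme.Modules.pullback i).obj (In n)) Y' (G' n) (π' n)) (hstep : ∀ n : ℕ, In (n + 1) = kernel ((Scheme.Modules.pullbackPushforwardAdjunction i).unit.app (In n) ≫ (Scheme.Modules.pushforward i).map (π n))) (hdec : ∀ n : ℕ, IsIso (biprod.lift (π n) (π' n))) : ∃ (F : X.Modules) (p : In 0 ⟶ F), Epi p ∧ FlatMod.IsFlatOver f F ∧ ∃ e : (Scheme.Modules.pullback i).obj F ≅ G 0, (Scheme.Modules.pullback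 i).map p ≫ e.hom = π 0 := by
  haveI := TFOneAux.isProper_fibre hsq
  have hX : TFOneAux.IsCurve Xs := TFOneAux.isCurve (IsLocalRing.ResidueField R) hpure
  haveI := hX.noeth
  suffices hs : ∀ n (S : TFOneAux.Modif ((Scheme.Modules.pullback i).obj (In n)) (π n)
      ((Scheme.Modules.pullback i).obj (In (n + 1)))),
      TFOne.IsTF1 Xs ((Scheme.Modules.pullback i).obj (In n)) → IsIso (S.a ≫ π (n + 1)) by
    obtain ⟨F, p, -, hp, hF, e, he⟩ := TFOneAux.exists_flat_quot_of_tower hsq hX hIc hIf hIs π hstep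
      (fun n _ _ _ => ⟨(hG n).1, (hG n).2.1, (hG n).2.2.1, rfl⟩) hs
    exact ⟨F, p, hp, hF, e, he⟩
  intro n S hM
  haveI := (hG n).1
  haveI := (hG (n + 1)).1
  haveI := hdec (n + 1)
  haveI : Mono S.a := S.short.mono_f
  haveI := (hG n).2.1.1
  have hK : Coh.IsCoh (kernel (π n)) := QCohMod.isCoh_kernel (π n) hM.1
  have hYY' : ∀ η ∈ genericPoints (Xs : Type u), η ∈ Y → η ∉ Y' := by
    intro η hη hηY hηY'
    rw [hY'] at hηY'
    obtain ⟨C, ⟨hC, hCY⟩, hηC⟩ := hηY'
    have hCcl : closure {η} = C := by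
      exact hη.eq_of_le hC.1
        ((isClosed_of_mem_irreducibleComponents C hC).closure_subset_iff.2
          (Set.singleton_subset_iff.2 hηC))
    exact hCY (hCcl ▸ (hY.closure_subset_iff.2 (Set.singleton_subset_iff.2 hηY)))
  have h1 : S.a ≫ π' (n + 1) = 0 :=
    TFOneAux.eq_zero_of_generic hX (hG n).2.1 (hG' (n + 1)).2.1 (hG' (n + 1)).2.2.1 _ fun η hη v => by
      by_cases h : η ∈ Y
      · haveI := TFOneAux.subsingleton_stalk_of_not_mem (show η ∉ CohB1.support (G' (n + 1)) from
          (hG' (n + 1)).2.2.2.symm ▸ hYY' η hη h)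
        exact Subsingleton.elim _ _
      · haveI := TFOneAux.subsingleton_stalk_of_not_mem (show η ∉ CohB1.support (G n) from
          (hG n).2.2.2.symm ▸ h)
        rw [Subsingleton.elim v 0, map_zero]
  let l := biprod.lift (π (n + 1)) (π' (n + 1))
  let ι : G (n + 1) ⟶ (Scheme.Modules.pullback i).obj (In (n + 1)) := biprod.inl ≫ inv l
  have hιl : ι ≫ l = biprod.inl := by simp [ι, l]
  have hι : ι ≫ π (n + 1) = 𝟙 _ := by
    have := congrArg (· ≫ biprod.fst) hιl
    simpa [l] using this
  have h2 : ι ≫ S.b = 0 :=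
    TFOneAux.eq_zero_of_generic hX (hG (n + 1)).2.1 hK
      (TFOneAux.isTorsionFree_of_mono (kernel.ι (π n)) hM.2.1) _ fun η hη v => by
      by_cases h : η ∈ Y
      · haveI := TFOneAux.Modif.kernel_sub (πY := π n) hX hM hη ((hG n).2.2.2.symm ▸ h)
        exact Subsingleton.elim _ _
      · haveI := TFOneAux.subsingleton_stalk_of_not_mem (show η ∉ CohB1.support (G (n + 1)) from
          (hG (n + 1)).2.2.2.symm ▸ h)
        rw [Subsingleton.elim v 0, map_zero]
  let χ : G (n + 1) ⟶ G n := S.short.exact.lift ι h2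
  have hχ : χ ≫ S.a = ι := S.short.exact.lift_f _ _
  have hc : χ ≫ S.a ≫ π (n + 1) = 𝟙 _ := by rw [← Category.assoc, hχ, hι]
  haveI : Mono (S.a ≫ π (n + 1)) := by
    refine Preadditive.mono_of_cancel_zero _ fun {Z} g hg => ?_
    refine zero_of_comp_mono S.a ((cancel_mono l).1 ?_)
    apply biprod.hom_ext <;> simp only [l, Category.assoc, biprod.lift_fst, biprod.lift_snd, zero_comp]
    · exact hg
    · rw [h1, comp_zero]
  refine ⟨χ, ?_, hc⟩
  rw [← cancel_mono (S.a ≫ π (n + 1)), Category.assoc, hc, Category.comp_id, Category.id_comp]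

end Groth.Agent.S18857
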