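import Groth.Statements.S18858
import Groth.Agent.H1Proper.FpqcLocal
set_option backward.isDefEq.respectTransparency false
set_option backward.isDefEq.respectTransparency.types false

set_option autoImplicit false
universe u
open CategoryTheory MonoidalCategory CartesianMonoidalCategory MonObj GrpObj AlgebraicGeometry
open NonAbH1

open CategoryTheory.MonoidalCategory CategoryTheory.CartesianMonoidalCategory

namespace Groth.Agent.S18858

/-- Let S be a scheme, G a group scheme over S and X, X' two G-torsors over S for the fpqc topology
(pseudo-torsors under G acquiring sections on the members of some fpqc covering family of S). Then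
every G-equivariant S-morphism f : X → X' is an isomorphism; so the category of G-torsors over S
with equivariant morphisms is a groupoid. (The source takes for G the base change to a scheme over a
field of a group scheme over that field; the statement and its meaning are unchanged for an
arbitrary group scheme over the base.) -/
theorem result {S : Scheme.{u}} {G X X' : Over S} [GrpObj G]
    (a : AlgGrp.Action G X) (a' : AlgGrp.Action G X')
    (ha : NonAbH1.IsTorsorFor Scheme.fpqcPrecoverage a)
    (ha' : NonAbH1.IsTorsorFor Scheme.fpqcPrecoverage a')
    (f : X ⟶ X') (hf : AlgGrp.Action.IsEquivariant a a' f) : IsIso f := by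
  obtain ⟨R, hR, hsec⟩ := ha.2
  refine Groth.H1Proper.isIso_of_forall_whiskerRight f hR fun S' j hj => ?_
  obtain ⟨s₀, hs₀⟩ := hsec j hj
  let s : Over.mk j ⟶ X := Over.homMk s₀ hs₀
  have := Groth.H1Proper.isIso_trivialisation a ha.1 s
  have := Groth.H1Proper.isIso_trivialisation a' ha'.1 (s ≫ f)
  have e : lift ((G ◁ s) ≫ a.act) (snd G (Over.mk j)) ≫ (f ▷ Over.mk j) =
      lift ((G ◁ (s ≫ f)) ≫ a'.act) (snd G (Over.mk j)) := by
    rw [lift_whiskerRight, Category.assoc, show a.act ≫ f = (G ◁ f) ≫ a'.act from hf,
      MonoidalCategory.whiskerLeft_comp, Category.assoc]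
  have : IsIso (lift ((G ◁ s) ≫ a.act) (snd G (Over.mk j)) ≫ (f ▷ Over.mk j)) := by rw [e]; infer_instance
  exact IsIso.of_isIso_comp_left (lift ((G ◁ s) ≫ a.act) (snd G (Over.mk j))) _

end Groth.Agent.S18858
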