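import Groth.Statements.S18859
import Groth.Agent.AlgGrp2.ConstFun
import Mathlib.AlgebraicGeometry.Sites.Fpqc

set_option autoImplicit false
set_option backward.isDefEq.respectTransparency false
universe u
open CategoryTheory MonoidalCategory CartesianMonoidalCategory MonObj GrpObj AlgebraicGeometry
open NonAbH1

namespace Groth.Agent.S18859

/-- Maps out of a morphism through which an fpqc cover factors descend uniquely. -/
theorem existsUnique_desc {X S A : Scheme.{u}} (f : X ⟶ S) {R : Presieve S}
    (hR : R ∈ Scheme.fpqcPrecoverage S) (hsec : ∀ ⦃S' : Scheme.{u}⦄ (j : S' ⟶ S), R j → ∃ s, s ≫ f = j)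
    (φ : X ⟶ A) (hφ : ∀ {Z : Scheme.{u}} (p₁ p₂ : Z ⟶ X), p₁ ≫ f = p₂ ≫ f → p₁ ≫ φ = p₂ ≫ φ) :
    ∃! ψ : S ⟶ A, f ≫ ψ = φ := by
  have hmem : Sieve.generate (Presieve.singleton f) ∈ Scheme.fpqcTopology S := by
    refine Scheme.fpqcTopology.superset_covering ?_
      (Precoverage.generate_mem_toGrothendieck hR)
    rintro Y g ⟨Z, a, b, hb, rfl⟩
    obtain ⟨s, hs⟩ := hsec b hb
    exact ⟨X, a ≫ s, f, Presieve.singleton_self f, by rw [Category.assoc, hs]⟩
  have h := (GrothendieckTopology.Subcanonical.isSheaf_of_isRepresentable (J := Scheme.fpqcTopology)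
    (yoneda.obj A)) _ hmem
  rw [← Presieve.isSheafFor_iff_generate, Presieve.isSheafFor_singleton] at h
  exact h φ hφ


/-- Let S be a scheme, G a group scheme over S and X → S a G-torsor for the fpqc topology (a
pseudo-torsor under G acquiring sections on the members of some fpqc covering family of S). Then the
functions on S are the G-invariant functions on X: the ring map Γ(S, O_S) → Γ(X, O_X) is injective,
and a global function s on X lies in its image if and only if the pullbacks of s to G ×_S X along
the action morphism and along the second projection coincide. (The source works over a scheme of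
finite type over a field with G the base change of an affine group scheme over that field and states
the equality O_S = (O_X)^G as sheaves on S; applied to the restriction of the torsor over each open
of S, the present global form is that equality.) -/
theorem result {S : Scheme.{u}} {G X : Over S}
    [GrpObj G] (a : AlgGrp.Action G X) (ha : NonAbH1.IsTorsorFor Scheme.fpqcPrecoverage a) :
    Function.Injective X.hom.appTop.hom ∧
      ∀ s : Γ(X.left, ⊤), s ∈ Set.range X.hom.appTop.hom ↔
        a.act.left.appTop.hom s = (CartesianMonoidalCategory.snd G X).left.appTop.hom s := by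
  obtain ⟨R, hR, hsec⟩ := ha.2
  have hsh : IsIso (CartesianMonoidalCategory.lift a.act (CartesianMonoidalCategory.snd G X)) := ha.1
  let sh := CartesianMonoidalCategory.lift a.act (CartesianMonoidalCategory.snd G X)
  have hinv : a.act.left ≫ X.hom = (CartesianMonoidalCategory.snd G X).left ≫ X.hom := by
    rw [Over.w, Over.w]
  refine ⟨fun s t hst => ?_, fun s => ⟨?_, fun hs => ?_⟩⟩
  · have hu := existsUnique_desc X.hom hR hsec (X.hom ≫ Groth.AlgGrp2.ConstFun.fnHom S t)
      (fun p₁ p₂ h => by rw [← Category.assoc, ← Category.assoc, h])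
    refine Groth.AlgGrp2.ConstFun.fnHom_injective (hu.unique ?_ rfl)
    rw [Groth.AlgGrp2.ConstFun.fnHom_comp, Groth.AlgGrp2.ConstFun.fnHom_comp, hst]
  · rintro ⟨t, rfl⟩
    rw [← CommRingCat.comp_apply, ← CommRingCat.comp_apply, ← Scheme.Hom.comp_appTop,
      ← Scheme.Hom.comp_appTop, hinv]
  · let φ := Groth.AlgGrp2.ConstFun.fnHom X.left s
    have hφ : a.act.left ≫ φ = (CartesianMonoidalCategory.snd G X).left ≫ φ := by
      rw [Groth.AlgGrp2.ConstFun.fnHom_comp, Groth.AlgGrp2.ConstFun.fnHom_comp, hs]
    obtain ⟨ψ, hψ, -⟩ := existsUnique_desc X.hom hR hsec φ (fun {Z} p₁ p₂ h => by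
      let T : Over S := Over.mk (p₁ ≫ X.hom)
      let q₁ : T ⟶ X := Over.homMk p₁ rfl
      let q₂ : T ⟶ X := Over.homMk p₂ h.symm
      have e₁ : (CartesianMonoidalCategory.lift q₁ q₂ ≫ inv sh) ≫ a.act = q₁ := by
        rw [Category.assoc, (IsIso.inv_comp_eq sh).2 (CartesianMonoidalCategory.lift_fst _ _).symm,
          CartesianMonoidalCategory.lift_fst]
      have e₂ : (CartesianMonoidalCategory.lift q₁ q₂ ≫ inv sh) ≫ CartesianMonoidalCategory.snd G X = q₂ := by
        rw [Category.assoc, (IsIso.inv_comp_eq sh).2 (CartesianMonoidalCategory.lift_snd _ _).symm,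
          CartesianMonoidalCategory.lift_snd]
      have f₁ : p₁ = _ := congrArg CommaMorphism.left e₁.symm
      have f₂ : p₂ = _ := congrArg CommaMorphism.left e₂.symm
      rw [f₁, f₂]
      show ((CartesianMonoidalCategory.lift q₁ q₂).left ≫ (inv sh).left) ≫ a.act.left ≫ φ =
        ((CartesianMonoidalCategory.lift q₁ q₂).left ≫ (inv sh).left) ≫ (CartesianMonoidalCategory.snd G X).left ≫ φ
      rw [hφ])
    refine ⟨ψ.appTop Groth.AlgGrp2.ConstFun.coord, ?_⟩
    rw [← CommRingCat.comp_apply, ← Scheme.Hom.comp_appTop, hψ, Groth.AlgGrp2.ConstFun.appTop_fnHom]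

end Groth.Agent.S18859
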