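import Groth.Statements.S18863
import Groth.Agent.TorsLimit.Basic
import Groth.Agent.Limits.Existence
import Groth.Agent.Misc3Fib.Basic
import Groth.Agent.H1Proper.FpqcTorsor
import Groth.Agent.AlgGrp2.TorsorQuot

set_option autoImplicit false
set_option backward.isDefEq.respectTransparency.types false
universe u
open CategoryTheory CategoryTheory.Limits MonoidalCategory CartesianMonoidalCategory MonObj GrpObj AlgebraicGeometry
open NonAbH1

namespace Groth.Agent.S18863

theorem act_left_cancel {S : Scheme.{u}} {G T : Over S} [GrpObj G] (a : AlgGrp.Action G T)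
    (ha : IsPseudoTorsorSch a) {A : Over S} {g g' : A ⟶ G} {x : A ⟶ T}
    (h : lift g x ≫ a.act = lift g' x ≫ a.act) : g = g' := by
  have : IsIso (lift a.act (snd G T)) := ha
  have h2 : lift g x = lift g' x := by
    rw [← cancel_mono (lift a.act (snd G T))]
    apply CartesianMonoidalCategory.hom_ext <;> simp [h]
  simpa using congrArg (fun z => z ≫ fst G T) h2

theorem exists_act_eq {S : Scheme.{u}} {G T : Over S} [GrpObj G] (a : AlgGrp.Action G T)
    (ha : IsPseudoTorsorSch a) {A : Over S} (y x : A ⟶ T) :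
    ∃ g : A ⟶ G, lift g x ≫ a.act = y := by
  have : IsIso (lift a.act (snd G T)) := ha
  let h := lift y x ≫ inv (lift a.act (snd G T))
  have hh : h ≫ lift a.act (snd G T) = lift y x := by
    simp only [h, Category.assoc, IsIso.inv_hom_id, Category.comp_id]
  have h1 : h ≫ a.act = y := by simpa using congrArg (fun z => z ≫ fst T T) hh
  have h2 : h ≫ snd G T = x := by simpa using congrArg (fun z => z ≫ snd T T) hh
  refine ⟨h ≫ fst G T, ?_⟩
  rw [← h2, ← comp_lift, lift_fst_snd, Category.comp_id, h1]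

theorem result (k : Type u) [Field k]
    (X : Scheme.{u}) [X.Over (Spec (CommRingCat.of k))] [CompactSpace X]
    {I : Type u} [SmallCategory I] [IsCofiltered I]
    (DG : I ⥤ Grp (Over (Spec (CommRingCat.of k))))
    [∀ i, IsAffineHom (DG.obj i).X.hom] [∀ i, LocallyOfFiniteType (DG.obj i).X.hom]
    (cG : Cone DG) (hcG : IsLimit cG)
    (DT : I ⥤ Over X)
    (aT : ∀ i, AlgGrp.Action (Red.bc (X ↘ Spec (CommRingCat.of k)) (DG.obj i).X) (DT.obj i))
    (hT : ∀ i, NonAbH1.IsTorsorFor Scheme.fpqcPrecoverage (aT i))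
    (hDT : ∀ (i j : I) (φ : i ⟶ j), AlgGrp.Action.IsEquivariant (aT i)
      ((aT j).restrict ((Over.pullback (X ↘ Spec (CommRingCat.of k))).map (DG.map φ).hom.hom)) (DT.map φ))
    (cT : Cone DT) (hcT : IsLimit cT)
    (a : AlgGrp.Action (Red.bc (X ↘ Spec (CommRingCat.of k)) cG.pt.X) cT.pt)
    (ha : ∀ i, AlgGrp.Action.IsEquivariant a
      ((aT i).restrict ((Over.pullback (X ↘ Spec (CommRingCat.of k))).map (cG.π.app i).hom.hom)) (cT.π.app i)) :
    NonAbH1.IsTorsorFor Scheme.fpqcPrecoverage a := by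
  let f := X ↘ Spec (CommRingCat.of k)
  let P : Over (Spec (CommRingCat.of k)) ⥤ Over X := Over.pullback f
  have hGA : ∀ i, IsAffineHom (DG.obj i).X.hom := fun i => by
    rename_i h1 h2; first | exact h1 i | exact h2 i
  have : IsConnected I := IsCofiltered.isConnected I
  let FG := DG ⋙ Grp.forget (Over (Spec (CommRingCat.of k)))
  have hFGA : ∀ (i j : I) (φ : i ⟶ j), IsAffineHom ((FG ⋙ Over.forget _).map φ) := by
    intro i j φ
    have this_1 : IsAffineHom ((FG.map φ).left ≫ (DG.obj j).X.hom) := by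
      rw [show (FG.map φ).left ≫ (DG.obj j).X.hom = (DG.obj i).X.hom from Over.w (FG.map φ)]
      exact hGA i
    have h2 : ∀ {A B : Scheme.{u}} (g : A ⟶ B) [IsAffineHom g], IsSeparated g := fun g _ => inferInstance
    have := hGA j
    have h3 : IsSeparated (FG.obj j).hom := h2 (DG.obj j).X.hom
    exact @MorphismProperty.of_postcomp Scheme.{u} _ @IsAffineHom @IsSeparated _ _ _ _ (FG.map φ).left (FG.obj j).hom h3 this_1
  have : HasLimit (FG ⋙ Over.forget _) := Groth.Limits.hasLimit_of_isAffineHom _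
  have : HasLimit FG := hasLimit_of_created FG (Over.forget _)
  have : PreservesLimit DG (Grp.forget (Over (Spec (CommRingCat.of k)))) :=
    Groth.TorsLimit.preservesLimit_forget DG
  let hG : IsLimit (P.mapCone ((Grp.forget _).mapCone cG)) :=
    isLimitOfPreserves P (isLimitOfPreserves (Grp.forget _) hcG)
  let gπ (i : I) : Red.bc f cG.pt.X ⟶ Red.bc f (DG.obj i).X := P.map (cG.π.app i).hom.hom
  let gm {i j : I} (φ : i ⟶ j) : Red.bc f (DG.obj i).X ⟶ Red.bc f (DG.obj j).X := P.map (DG.map φ).hom.hom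
  have hpt : ∀ (i : I) {A : Over X} (g : A ⟶ Red.bc f cG.pt.X) (x : A ⟶ cT.pt),
      (lift g x ≫ a.act) ≫ cT.π.app i = lift (g ≫ gπ i) (x ≫ cT.π.app i) ≫ (aT i).act := by
    intro i A g x
    rw [Category.assoc, ha i, AlgGrp.Action.restrict_act, lift_whiskerLeft_assoc,
      lift_whiskerRight_assoc]
  have hptT : ∀ {i j : I} (φ : i ⟶ j) {A : Over X} (g : A ⟶ Red.bc f (DG.obj i).X) (x : A ⟶ DT.obj i),
      (lift g x ≫ (aT i).act) ≫ DT.map φ = lift (g ≫ gm φ) (x ≫ DT.map φ) ≫ (aT j).act := by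
    intro i j φ A g x
    rw [Category.assoc, hDT i j φ, AlgGrp.Action.restrict_act, lift_whiskerLeft_assoc,
      lift_whiskerRight_assoc]
  have hpseudo : IsPseudoTorsorSch a := by
    let A := cT.pt ⊗ cT.pt
    choose g hg using fun i => exists_act_eq (aT i) (hT i).1
      (fst cT.pt cT.pt ≫ cT.π.app i) (snd cT.pt cT.pt ≫ cT.π.app i)
    let cone : Cone (FG ⋙ P) :=
      { pt := A
        π :=
          { app := fun i => g i
            naturality := fun i j φ => by
              show 𝟙 A ≫ g j = g i ≫ gm φ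
              rw [Category.id_comp]
              refine act_left_cancel (aT j) (hT j).1 (x := snd cT.pt cT.pt ≫ cT.π.app j) ?_
              rw [hg j]
              conv_rhs => rw [← cT.w φ, ← Category.assoc, ← hptT, hg i, Category.assoc, cT.w φ] } }
    let G₀ : A ⟶ Red.bc f cG.pt.X := hG.lift cone
    have hG₀ : ∀ i, G₀ ≫ gπ i = g i := fun i => hG.fac cone i
    let φ := lift a.act (snd (Red.bc f cG.pt.X) cT.pt)
    have h1 : lift G₀ (snd cT.pt cT.pt) ≫ φ = 𝟙 A := by
      apply CartesianMonoidalCategory.hom_ext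
      · simp only [φ, Category.assoc, lift_fst, Category.id_comp]
        refine hcT.hom_ext fun i => ?_
        rw [hpt, hG₀, hg]
      · simp only [φ, Category.assoc, lift_snd, Category.id_comp]
    have hmono : Mono φ := by
      refine ⟨fun {W} p q h => ?_⟩
      have hs : p ≫ snd _ _ = q ≫ snd _ _ := by
        simpa [φ] using congrArg (fun z => z ≫ snd cT.pt cT.pt) h
      have hact : p ≫ a.act = q ≫ a.act := by
        simpa [φ] using congrArg (fun z => z ≫ fst cT.pt cT.pt) h
      refine CartesianMonoidalCategory.hom_ext _ _ (hG.hom_ext fun i => ?_) hs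
      refine act_left_cancel (aT i) (hT i).1
        (x := (p ≫ snd (Red.bc f cG.pt.X) cT.pt) ≫ cT.π.app i) ?_
      show lift ((p ≫ fst (Red.bc f cG.pt.X) cT.pt) ≫ gπ i) _ ≫ (aT i).act =
        lift ((q ≫ fst (Red.bc f cG.pt.X) cT.pt) ≫ gπ i) _ ≫ (aT i).act
      have hp : ∀ r : W ⟶ Red.bc f cG.pt.X ⊗ cT.pt, lift (r ≫ fst _ _) (r ≫ snd _ _) = r := fun r => by
        rw [← comp_lift, lift_fst_snd, Category.comp_id]
      conv_rhs => rw [hs, ← hpt, hp, Category.assoc]
      rw [← hpt, hp, hact, Category.assoc]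
    refine ⟨lift G₀ (snd cT.pt cT.pt), ?_, h1⟩
    show φ ≫ lift G₀ (snd cT.pt cT.pt) = 𝟙 _
    rw [← cancel_mono φ, Category.assoc, h1, Category.comp_id, Category.id_comp]
  refine ⟨hpseudo, ?_⟩
  have hA : ∀ i, IsAffineHom (DT.obj i).hom := fun i =>
    Groth.H1Proper.property_of_fpqc (aT i) (hT i).1 @IsAffineHom (hT i).2
      (MorphismProperty.pullback_snd (P := @IsAffineHom) _ _ (hGA i))
  have hF : ∀ i, Flat (DT.obj i).hom := fun i =>
    Groth.H1Proper.property_of_fpqc (aT i) (hT i).1 @Flat (hT i).2 (by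
      exact MorphismProperty.pullback_snd (P := @Flat) _ _
        (Groth.Misc3Fib.flat_of_field (DG.obj i).X.hom))
  obtain ⟨h₁, h₂, h₃⟩ := Groth.TorsLimit.props_of_isLimit DT hA hF
    (fun i => Groth.H1Proper.surjective_of_fpqc (hT i).2) hcT
  refine ⟨Presieve.singleton cT.pt.hom, Scheme.Hom.singleton_mem_fpqcPrecoverage cT.pt.hom, ?_⟩
  rintro S' g ⟨⟩
  exact ⟨𝟙 _, Category.id_comp _⟩

end Groth.Agent.S18863
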