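import Groth.Statements.S18864
import Mathlib.RingTheory.FiniteType
import Mathlib.RingTheory.Flat.Basic
import Mathlib.RingTheory.TensorProduct.Maps
import Mathlib.LinearAlgebra.Basis.VectorSpace
-- import your own Groth.Agent.* helpers here

set_option autoImplicit false
universe u v w
open HopfRep

namespace Groth.Agent.S18864

/-- Let k be a field and G = lim G_i a pro-algebraic group scheme over k, so that G = Spec A with A the
direct limit of the Hopf algebras A_i of the affine group schemes G_i of finite type; assume
moreover that the maps A_i → A are injective, so that A is the directed union of the A_i, here given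
as injective bialgebra maps A_i → A with directed, jointly covering images. Then every homomorphism
from G to an affine group scheme H = Spec B of finite type over k factors through some projection G
→ G_i: every bialgebra map f : B → A with B finitely generated as a k-algebra is the composite of
A_i → A with a bialgebra map B → A_i for some i. (The published statement allows arbitrary
transition maps in the system; this row assumes each A_i → A injective, the case the printed
argument treats. The source also states the pro-finite variant with H finite, which is the case of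
finite-dimensional A_i and B; finite generation of the A_i is not used.) -/
theorem result (k : Type u) [Field k]
    (A : Type v) [CommRing A] [HopfAlgebra k A] {ι : Type v} (Aι : ι → Type v)
    [∀ i, CommRing (Aι i)] [∀ i, HopfAlgebra k (Aι i)] (emb : ∀ i, Aι i →ₐc[k] A)
    (hinj : ∀ i, Function.Injective (emb i))
    (hdir : ∀ i j, ∃ l, Set.range (emb i) ⊆ Set.range (emb l) ∧ Set.range (emb j) ⊆ Set.range (emb l))
    (hcov : ∀ a : A, ∃ i, a ∈ Set.range (emb i))
    (B : Type w) [CommRing B] [HopfAlgebra k B] [Algebra.FiniteType k B] (f : B →ₐc[k] A) :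
    ∃ (i : ι) (g : B →ₐc[k] Aι i), (emb i).comp g = f := by
  classical
  obtain ⟨i₀, -⟩ := hcov 0
  haveI : Nonempty ι := ⟨i₀⟩
  obtain ⟨T, hT⟩ := (inferInstance : Algebra.FiniteType k B).out
  have hfin : ∀ U : Finset B, ∃ l, ∀ b ∈ U, f b ∈ Set.range (emb l) := by
    intro U
    induction U using Finset.induction_on with
    | empty => exact ⟨i₀, by simp⟩
    | insert b U _ ih =>
      obtain ⟨l, hl⟩ := ih
      obtain ⟨j, hj⟩ := hcov (f b)
      obtain ⟨m, h1, h2⟩ := hdir l j
      refine ⟨m, fun x hx => ?_⟩
      rcases Finset.mem_insert.mp hx with rfl | hx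
      · exact h2 hj
      · exact h1 (hl x hx)
  obtain ⟨l, hl⟩ := hfin T
  set e : Aι l →ₐ[k] A := (emb l : Aι l →ₐ[k] A) with he
  set F : B →ₐ[k] A := (f : B →ₐ[k] A) with hF
  have hrange : ∀ b, F b ∈ e.range := by
    intro b
    have hb : b ∈ Algebra.adjoin k (T : Set B) := by rw [hT]; trivial
    exact (Algebra.adjoin_le (S := e.range.comap F) fun x hx => hl x hx) hb
  set G : B →ₐ[k] Aι l :=
    (AlgEquiv.ofInjective e (hinj l)).symm.toAlgHom.comp (F.codRestrict e.range hrange) with hG
  have heG : e.comp G = F := by
    ext b
    exact congrArg Subtype.val ((AlgEquiv.ofInjective e (hinj l)).apply_symm_apply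
      ⟨F b, hrange b⟩)
  have hcounit : (Bialgebra.counitAlgHom k (Aι l)).comp G = Bialgebra.counitAlgHom k B := by
    rw [← BialgHom.counitAlgHom_comp (emb l), AlgHom.comp_assoc, heG]
    exact BialgHom.counitAlgHom_comp f
  have hcomul : (Algebra.TensorProduct.map G G).comp (Bialgebra.comulAlgHom k B) =
      (Bialgebra.comulAlgHom k (Aι l)).comp G := by
    have hh : Function.Injective (Algebra.TensorProduct.map e e) := by
      change Function.Injective (TensorProduct.map e.toLinearMap e.toLinearMap)
      exact TensorProduct.map_injective_of_flat_flat _ _ (hinj l) (hinj l)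
    refine AlgHom.ext fun b => hh ?_
    have h1 := AlgHom.congr_fun (BialgHom.map_comp_comulAlgHom f) b
    have h2 := AlgHom.congr_fun (BialgHom.map_comp_comulAlgHom (emb l)) (G b)
    rw [AlgHom.comp_apply, AlgHom.comp_apply, ← AlgHom.comp_apply (Algebra.TensorProduct.map e e),
      ← Algebra.TensorProduct.map_comp, heG]
    refine h1.trans ?_
    refine Eq.trans ?_ h2.symm
    change Bialgebra.comulAlgHom k A (F b) = Bialgebra.comulAlgHom k A (e (G b))
    rw [← heG, AlgHom.comp_apply]
  refine ⟨l, BialgHom.ofAlgHom G hcounit hcomul, BialgHom.ext fun b => ?_⟩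
  exact AlgHom.congr_fun heG b

end Groth.Agent.S18864
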