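import Groth.Statements.S18868
import Groth.Agent.Misc15.PolyLink

set_option autoImplicit false
universe u
open Liaison

namespace Groth.Agent.S18868

/-- Let K be a field, R = K[x_0, …, x_n] graded by degree, c ≥ 2, 𝔠 ⊂ R a homogeneous complete
intersection of codimension c, that is a homogeneous ideal of height c generated by c elements g_1,
…, g_c, and I ⊂ R a homogeneous ideal of height c with R/I Cohen–Macaulay which properly contains 𝔠
and has the form I = 𝔠 + fR for some f (so I is an almost complete intersection). Then the linked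
ideal J = 𝔠 : I has height c and R/J is a Gorenstein ring. (A Gorenstein ideal of the notes, one
whose quotient is Cohen–Macaulay with last graded Betti number 1, is rendered as: the quotient ring
is Gorenstein.) -/
theorem result (K : Type u) [Field K] (n c : ℕ) (hc : 2 ≤ c)
    (g : Fin c → MvPolynomial (Fin (n + 1)) K) (f : MvPolynomial (Fin (n + 1)) K) (𝔠 I : Ideal (MvPolynomial (Fin (n + 1)) K)) (h𝔠g : Ideal.span (Set.range g) = 𝔠)
    (h𝔠 : 𝔠.IsHomogeneous (GrSyz.stdGr K (Fin (n + 1)))) (hI : I.IsHomogeneous (GrSyz.stdGr K (Fin (n + 1))))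
    (h𝔠c : 𝔠.height = c) (hIc : I.height = c) [LocCoh.IsCohenMacaulayRing (MvPolynomial (Fin (n + 1)) K ⧸ I)]
    (hlt : 𝔠 < I) (hIf : I = 𝔠 ⊔ Ideal.span {f}) :
    (𝔠.colon (I : Set (MvPolynomial (Fin (n + 1)) K))).height = c ∧
      LocCoh.IsGorensteinRing (MvPolynomial (Fin (n + 1)) K ⧸ 𝔠.colon (I : Set (MvPolynomial (Fin (n + 1)) K))) := by
  haveI : IsRegularRing (MvPolynomial (Fin (n + 1)) K) := MvPolynomial.isRegularRing_of_isRegularRing K
  subst h𝔠g
  set 𝔠 := Ideal.span (Set.range g) with h𝔠def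
  haveI := Groth.Misc15.PolyLink.isGorensteinRing_ci g h𝔠c
  haveI := Groth.Misc15.Linkage.cm_of_gor (MvPolynomial (Fin (n + 1)) K ⧸ 𝔠)
  have hc₀ : ∀ P ∈ 𝔠.minimalPrimes, P.height = c := fun P hP =>
    (Groth.Misc15.Unmixed.unmixed h𝔠 P hP).trans h𝔠c
  have hu := Groth.Misc15.Unmixed.height_eq_of_ass hc₀
  have hI₀ : ∀ P ∈ I.minimalPrimes, P.height = c := fun P hP =>
    (Groth.Misc15.Unmixed.unmixed hI P hP).trans hIc
  refine ⟨(Groth.Misc15.Linkage.colon_unmixed hu (not_le_of_gt hlt)).1, ?_⟩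
  set J := 𝔠.colon (I : Set (MvPolynomial (Fin (n + 1)) K))
  have hJ' : 𝔠 ≤ J := Groth.Misc15.Linkage.le_colon_self I
  have hdd : 𝔠.colon (J : Set (MvPolynomial (Fin (n + 1)) K)) = I :=
    Groth.Misc15.Linkage.double_colon h𝔠c hlt.le (Groth.Misc15.Unmixed.height_eq_of_ass hI₀)
  have hd := Groth.Misc15.PolyLink.dimCond hlt.le hc₀ hI₀
  have hf : Submodule.annihilator (J.map (Ideal.Quotient.mk 𝔠)) =
      Ideal.span {Ideal.Quotient.mk 𝔠 f} := by
    rw [Groth.Misc15.PolyLink.colon_map hJ', hdd, hIf, Ideal.map_sup, Ideal.map_quotient_self,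
      bot_sup_eq, Ideal.map_span, Set.image_singleton]
  haveI := Groth.Misc15.LinkLocal.isGorensteinRing_link
    (Groth.Misc15.PolyLink.isCM_quot hlt.le inferInstance) hd
    (Groth.Misc15.PolyLink.colon_map hlt.le) hf
  exact GrothGoren.isGorensteinRing_of_ringEquiv (Groth.Misc15.PolyLink.quotEquiv hJ')

end Groth.Agent.S18868
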