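import Groth.Statements.S18869
import Groth.Agent.Misc15.PolyLink

set_option autoImplicit false
universe u
open Liaison

namespace Groth.Agent.S18869

/-- Let K be a field, R = K[x_0, …, x_n] graded by degree, and I₁, I₂ ⊂ R homogeneous ideals of the same
height c such that R/I₁ and R/I₂ are Cohen–Macaulay rings (they define arithmetically Cohen–Macaulay
subschemes of codimension c) and I₁, I₂ have no minimal prime in common (no common component). If
R/(I₁ ∩ I₂) is a Gorenstein ring (the union is arithmetically Gorenstein), then I₁ + I₂ has height c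
+ 1 and R/(I₁ + I₂) is a Gorenstein ring (the intersection is arithmetically Gorenstein of
codimension c + 1). (Arithmetically Gorenstein, in the notes arithmetically Cohen–Macaulay with last
graded Betti number 1, is rendered as: the quotient ring is Gorenstein.) -/
theorem result (K : Type u) [Field K] (n c : ℕ)
    (I₁ I₂ : Ideal (MvPolynomial (Fin (n + 1)) K))
    (hI₁ : I₁.IsHomogeneous (GrSyz.stdGr K (Fin (n + 1)))) (hI₂ : I₂.IsHomogeneous (GrSyz.stdGr K (Fin (n + 1))))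
    [LocCoh.IsCohenMacaulayRing (MvPolynomial (Fin (n + 1)) K ⧸ I₁)] [LocCoh.IsCohenMacaulayRing (MvPolynomial (Fin (n + 1)) K ⧸ I₂)]
    (h₁ : I₁.height = c) (h₂ : I₂.height = c) (hdisj : Disjoint I₁.minimalPrimes I₂.minimalPrimes)
    [LocCoh.IsGorensteinRing (MvPolynomial (Fin (n + 1)) K ⧸ (I₁ ⊓ I₂))] :
    (I₁ ⊔ I₂).height = c + 1 ∧ LocCoh.IsGorensteinRing (MvPolynomial (Fin (n + 1)) K ⧸ (I₁ ⊔ I₂)) := by
  haveI : IsRegularRing (MvPolynomial (Fin (n + 1)) K) := MvPolynomial.isRegularRing_of_isRegularRing K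
  set 𝔠 := I₁ ⊓ I₂ with h𝔠
  haveI := Groth.Misc15.Linkage.cm_of_gor (MvPolynomial (Fin (n + 1)) K ⧸ 𝔠)
  have hm₁ : ∀ P ∈ I₁.minimalPrimes, P.height = c := fun P hP =>
    (Groth.Misc15.Unmixed.unmixed hI₁ P hP).trans h₁
  have hm₂ : ∀ P ∈ I₂.minimalPrimes, P.height = c := fun P hP =>
    (Groth.Misc15.Unmixed.unmixed hI₂ P hP).trans h₂
  have hc : 𝔠.height = c := by
    refine le_antisymm (h₁ ▸ Ideal.height_mono inf_le_left) ?_
    rw [Ideal.height_eq_inf_minimalPrimes]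
    refine le_iInf₂ fun P hP => ?_
    rcases hP.isPrime.inf_le.1 hP.1.2 with h | h
    · exact h₁ ▸ Ideal.height_mono h
    · exact h₂ ▸ Ideal.height_mono h
  have hc₀ : ∀ P ∈ 𝔠.minimalPrimes, P.height = c := fun P hP =>
    (Groth.Misc15.Unmixed.unmixed (hI₁.inf hI₂) P hP).trans hc
  -- a prime containing both ideals has height bigger than c
  have hboth : ∀ Q : Ideal (MvPolynomial (Fin (n + 1)) K), Q.IsPrime → I₁ ≤ Q → I₂ ≤ Q →
      Q.height ≠ c := fun Q _ hQ₁ hQ₂ hQ => Set.disjoint_left.1 hdisj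
    (Groth.Misc15.Linkage.minimal_of_height_le hQ₁ (ENat.natCast_ne_top c) (fun P hP => (hm₁ P hP).ge) hQ)
    (Groth.Misc15.Linkage.minimal_of_height_le hQ₂ (ENat.natCast_ne_top c) (fun P hP => (hm₂ P hP).ge) hQ)
  have hcol : ∀ A B : Ideal (MvPolynomial (Fin (n + 1)) K),
      (∀ Q ∈ associatedPrimes (MvPolynomial (Fin (n + 1)) K) (MvPolynomial (Fin (n + 1)) K ⧸ B),
        Q.height = c) →
      (∀ Q : Ideal (MvPolynomial (Fin (n + 1)) K), Q.IsPrime → A ≤ Q → B ≤ Q → Q.height ≠ c) →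
      𝔠 = A ⊓ B → 𝔠.colon (A : Set (MvPolynomial (Fin (n + 1)) K)) = B := by
    intro A B hB hAB h
    refine le_antisymm (fun x hx => ?_) fun x hx => Submodule.mem_colon.2 fun a ha => ?_
    · by_contra hxB
      have hne : Ideal.Quotient.mk B x ≠ 0 := fun h => hxB (Ideal.Quotient.eq_zero_iff_mem.1 h)
      obtain ⟨Q, hQ, hle⟩ := exists_le_isAssociatedPrime_of_isNoetherianRing (MvPolynomial (Fin (n + 1)) K) _ hne
      refine hAB Q hQ.isPrime (fun a ha => hle ?_) (Groth.Misc15.Unmixed.exists_annihilated hQ).1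
        (hB Q hQ)
      rw [Submodule.mem_colon_singleton, Submodule.mem_bot]
      show Ideal.Quotient.mk B (a * x) = 0
      rw [Ideal.Quotient.eq_zero_iff_mem]
      have := Submodule.mem_colon.1 hx a ha
      rw [h, smul_eq_mul, mul_comm] at this
      exact this.2
    · rw [h]
      exact ⟨A.mul_mem_left _ ha, B.mul_mem_right _ hx⟩
  have hcol₁ := hcol I₁ I₂ (Groth.Misc15.Unmixed.height_eq_of_ass hm₂) hboth h𝔠
  have hcol₂ := hcol I₂ I₁ (Groth.Misc15.Unmixed.height_eq_of_ass hm₁)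
    (fun Q h a b => hboth Q h b a) (h𝔠.trans (inf_comm I₁ I₂))
  have hle₁ : 𝔠 ≤ I₁ := inf_le_left
  have hle₂ : 𝔠 ≤ I₂ := inf_le_right
  set π := Ideal.Quotient.mk 𝔠 with hπ
  have hinf : I₁.map π ⊓ I₂.map π = ⊥ := by
    refine eq_bot_iff.2 fun z hz => ?_
    obtain ⟨a, ha, rfl⟩ := (Ideal.mem_map_iff_of_surjective _ Ideal.Quotient.mk_surjective).1 hz.1
    have h2 : a ∈ (I₂.map π).comap π := hz.2
    rw [Ideal.comap_map_of_surjective' _ Ideal.Quotient.mk_surjective, Ideal.mk_ker,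
      sup_eq_left.2 hle₂] at h2
    exact (Submodule.mem_bot _).2 (Ideal.Quotient.eq_zero_iff_mem.2 ⟨ha, h2⟩)
  obtain ⟨hG, hdim⟩ := Groth.Misc15.LinkLocal.isGorensteinRing_sup
    (Groth.Misc15.PolyLink.isCM_quot hle₁ inferInstance)
    (Groth.Misc15.PolyLink.dimCond hle₁ hc₀ hm₁)
    ((Groth.Misc15.PolyLink.colon_map hle₁).trans (by rw [hcol₁]))
    ((Groth.Misc15.PolyLink.colon_map hle₂).trans (by rw [hcol₂])) hinf
  refine ⟨le_antisymm ?_ ?_, haveI := hG; GrothGoren.isGorensteinRing_of_ringEquiv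
    (R := (MvPolynomial (Fin (n + 1)) K ⧸ 𝔠) ⧸ (I₁.map π ⊔ I₂.map π))
    ((Ideal.quotEquivOfEq (Ideal.map_sup π I₁ I₂).symm).trans
      (Groth.Misc15.PolyLink.quotEquiv (hle₁.trans le_sup_left)))⟩
  · -- a minimal prime of the sum
    have horig : ∀ A : Ideal (MvPolynomial (Fin (n + 1)) K),
        A.IsHomogeneous (GrSyz.stdGr K (Fin (n + 1))) → A.height = c →
        A ≤ RingHom.ker (MvPolynomial.constantCoeff : MvPolynomial (Fin (n + 1)) K →+* K) := by
      intro A hA hAc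
      obtain ⟨P, hP⟩ := Ideal.nonempty_minimalPrimes (I := A) fun h => by
        rw [h, Ideal.height_top] at hAc; exact ENat.natCast_ne_top c hAc.symm
      haveI := hP.isPrime
      exact hP.1.2.trans (Groth.Misc15.Unmixed.le_origin (Groth.Misc15.Unmixed.minimal_homogeneous hA hP))
    obtain ⟨Q₀, hQ₀⟩ := Ideal.nonempty_minimalPrimes (I := I₁ ⊔ I₂)
      (ne_top_of_le_ne_top (RingHom.ker_ne_top _) (sup_le (horig I₁ hI₁ h₁) (horig I₂ hI₂ h₂)))
    haveI := hQ₀.isPrime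
    have hcQ : 𝔠 ≤ Q₀ := hle₁.trans (le_sup_left.trans hQ₀.1.2)
    obtain ⟨P₁, hP₁, hP₁Q⟩ := Ideal.exists_minimalPrimes_le hcQ
    haveI := Groth.Misc15.Unmixed.isPrime_map_mk hcQ
    have h1 := Groth.Misc15.Unmixed.height_eq hcQ hP₁ hP₁Q
    rw [hc₀ P₁ hP₁] at h1
    set P := Q₀.map π with hPdef
    have hPmin : P ∈ (I₁.map π ⊔ I₂.map π).minimalPrimes := by
      refine ⟨⟨inferInstance, by rw [← Ideal.map_sup]; exact Ideal.map_mono hQ₀.1.2⟩,
        fun P' ⟨hP', hLP'⟩ hle => ?_⟩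
      haveI := hP'
      refine Ideal.map_le_iff_le_comap.2 (hQ₀.2 ⟨inferInstance,
        Ideal.map_le_iff_le_comap.1 (by rw [Ideal.map_sup]; exact hLP')⟩ ?_)
      exact (Ideal.comap_mono hle).trans (Groth.Misc15.Unmixed.comap_map_mk hcQ).le
    have h2 : P.height ≤ 1 := Groth.Misc15.PolyLink.height_le_one _ (fun Q _ => hdim Q) hPmin
    rw [IsLocalization.AtPrime.ringKrullDim_eq_height (Q₀.map (Ideal.Quotient.mk 𝔠))
      (Localization.AtPrime (Q₀.map (Ideal.Quotient.mk 𝔠)))] at h1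
    norm_cast at h1
    refine (Ideal.height_mono hQ₀.1.2).trans ?_
    rw [h1, add_comm]
    gcongr
  · rw [Ideal.height_eq_inf_minimalPrimes]
    refine le_iInf₂ fun Q hQ => ?_
    haveI := hQ.isPrime
    have hge : (c : ℕ∞) ≤ Q.height := h₁ ▸ Ideal.height_mono (le_sup_left.trans hQ.1.2)
    exact (ENat.add_one_le_iff (ENat.natCast_ne_top c)).2 (lt_of_le_of_ne hge (Ne.symm
      (hboth Q hQ.isPrime (le_sup_left.trans hQ.1.2) (le_sup_right.trans hQ.1.2))))

end Groth.Agent.S18869
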