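import Groth.Statements.S18870
import Groth.Agent.Misc15.Linkage

set_option autoImplicit false
universe u
open Liaison

namespace Groth.Agent.S18870

/-- Let K be a field, R = K[x_0, …, x_n] graded by degree, and J ⊆ I ⊂ R homogeneous ideals with J ≠ 0,
height I = height J + 1 = h + 1 and R/J Cohen–Macaulay; let f ∈ R be homogeneous of degree d with J
: f = J, and put Ĩ = J + fI (the basic double link). Then Ĩ has the same height h + 1 as I. -/
theorem result (K : Type u) [Field K] (n h : ℕ)
    (J I : Ideal (MvPolynomial (Fin (n + 1)) K))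
    (hJ : J.IsHomogeneous (GrSyz.stdGr K (Fin (n + 1)))) (hI : I.IsHomogeneous (GrSyz.stdGr K (Fin (n + 1))))
    (hJ0 : J ≠ ⊥) (hJI : J ≤ I) (hJh : J.height = h) (hIh : I.height = h + 1)
    [LocCoh.IsCohenMacaulayRing (MvPolynomial (Fin (n + 1)) K ⧸ J)]
    (f : MvPolynomial (Fin (n + 1)) K) (d : ℕ) (hf : f ∈ GrSyz.stdGr K (Fin (n + 1)) (d : ℤ)) (hJf : J.colon {f} = J) :
    (J ⊔ Ideal.span {f} * I).height = h + 1 := by
  exact Groth.Misc15.Linkage.height_link hJI
    (fun P hP => (Groth.Misc15.Unmixed.unmixed hJ P hP).trans hJh) hIh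
    (Groth.Misc15.Linkage.regular_of_colon hJf)

end Groth.Agent.S18870
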