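import Groth.Statements.S18872
import Groth.Agent.Misc15.Linkage
import Groth.Agent.S14424
import Groth.Agent.LocCohTransform.Independence
import Groth.Agent.LocCohBase.Torsion
import Groth.Agent.LocDual.Duality
import Groth.Agent.Ega41Adic.KaehlerRank
import Groth.Agent.GrSyz.StarKoszul
import Groth.Agent.Calg8.PointsIdeal

set_option autoImplicit false
universe u
open Liaison

namespace Groth.Agent.S18872

/-- Let K be a field, R = K[x_0, …, x_n] graded by degree, and J ⊆ I ⊂ R homogeneous ideals with J ≠ 0,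
height I = height J + 1 = h + 1 and R/J Cohen–Macaulay; let f ∈ R be homogeneous of degree d with J
: f = J, and put Ĩ = J + fI (the basic double link). Then for every i < n − h = dim R/I the local
cohomology modules of R/Ĩ and of R/I with support in the irrelevant ideal 𝔪 = (x_0, …, x_n) are
isomorphic in degree i. (The graded statement is H^i_𝔪(R/Ĩ) ≅ H^i_𝔪(R/I)(−d); here only the
existence of an R-linear isomorphism of the underlying modules is asserted, the grading and the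
shift by d being dropped.) -/
theorem result (K : Type u) [Field K] (n h : ℕ)
    (J I : Ideal (MvPolynomial (Fin (n + 1)) K))
    (hJ : J.IsHomogeneous (GrSyz.stdGr K (Fin (n + 1)))) (hI : I.IsHomogeneous (GrSyz.stdGr K (Fin (n + 1))))
    (hJ0 : J ≠ ⊥) (hJI : J ≤ I) (hJh : J.height = h) (hIh : I.height = h + 1)
    [LocCoh.IsCohenMacaulayRing (MvPolynomial (Fin (n + 1)) K ⧸ J)]
    (f : MvPolynomial (Fin (n + 1)) K) (d : ℕ) (hf : f ∈ GrSyz.stdGr K (Fin (n + 1)) (d : ℤ)) (hJf : J.colon {f} = J) (i : ℕ) (hi : i + h < n) :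
    Nonempty (LocCoh.H (GrSyz.irrel (GrSyz.stdGr K (Fin (n + 1)))).toIdeal i (MvPolynomial (Fin (n + 1)) K ⧸ (J ⊔ Ideal.span {f} * I)) ≃ₗ[MvPolynomial (Fin (n + 1)) K]
      LocCoh.H (GrSyz.irrel (GrSyz.stdGr K (Fin (n + 1)))).toIdeal i (MvPolynomial (Fin (n + 1)) K ⧸ I)) := by
  classical
  haveI : IsRegularRing (MvPolynomial (Fin (n + 1)) K) := MvPolynomial.isRegularRing_of_isRegularRing K
  set m : Ideal (MvPolynomial (Fin (n + 1)) K) := (GrSyz.irrel (GrSyz.stdGr K (Fin (n + 1)))).toIdeal with hm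
  have hmker : m = RingHom.ker (MvPolynomial.constantCoeff : (MvPolynomial (Fin (n + 1)) K) →+* K) := by
    rw [hm, Groth.GrSyzLib.irrel_eq_idealOfVars, Groth.Calg8.ker_constantCoeff_eq_idealOfVars]
  haveI hmp : m.IsPrime := hmker ▸ RingHom.ker_isPrime _
  -- height of the vertex
  have hsurj : Function.Surjective (MvPolynomial.constantCoeff : (MvPolynomial (Fin (n + 1)) K) →+* K) := fun a =>
    ⟨MvPolynomial.C a, MvPolynomial.constantCoeff_C _ a⟩
  have hmh : (m.height : WithBot ℕ∞) = ((n + 1 : ℕ) : WithBot ℕ∞) := by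
    have h := Groth.Ega41Adic.height_add_ringKrullDim_quotient K (Fin (n + 1)) m
    rw [ringKrullDim_eq_of_ringEquiv ((Ideal.quotEquivOfEq hmker).trans
      (RingHom.quotientKerEquivOfSurjective hsurj)), ringKrullDim_eq_zero_of_field, add_zero,
      Nat.card_fin] at h
    exact h
  -- the vanishing for `(MvPolynomial (Fin (n + 1)) K)/J`
  have hJm : J ≤ m := by
    obtain ⟨P, hP⟩ := Ideal.nonempty_minimalPrimes (I := J) fun e => by
      rw [e, Ideal.height_top] at hJh; exact ENat.natCast_ne_top h hJh.symm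
    haveI := hP.isPrime
    exact hP.1.2.trans (hmker ▸ Groth.Misc15.Unmixed.le_origin
      (Groth.Misc15.Unmixed.minimal_homogeneous hJ hP))
  obtain ⟨P, hP, hPm⟩ := Ideal.exists_minimalPrimes_le hJm
  haveI := Groth.Misc15.Unmixed.isPrime_map_mk hJm
  have hq := Groth.Misc15.Unmixed.height_eq hJm hP hPm
  rw [hmh, Groth.Misc15.Unmixed.unmixed hJ P hP, hJh,
    IsLocalization.AtPrime.ringKrullDim_eq_height (m.map (Ideal.Quotient.mk J))
      (Localization.AtPrime (m.map (Ideal.Quotient.mk J)))] at hq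
  have hvanJ : ∀ l, l + h < n + 1 → Subsingleton (LocCoh.H m l ((MvPolynomial (Fin (n + 1)) K) ⧸ J)) := by
    intro l hl
    obtain ⟨φ, -⟩ := Groth.LocCohTransform.exists_restrict_addEquiv (R := (MvPolynomial (Fin (n + 1)) K)) (R' := (MvPolynomial (Fin (n + 1)) K) ⧸ J) (I := m) ((MvPolynomial (Fin (n + 1)) K) ⧸ J) l
    have hd : LocCoh.idealDepth (m.map (Ideal.Quotient.mk J)) ((MvPolynomial (Fin (n + 1)) K) ⧸ J) =
        (m.map (Ideal.Quotient.mk J)).height :=
      (Groth.Agent.S14424.result ((MvPolynomial (Fin (n + 1)) K) ⧸ J)).1 inferInstance _ (Ideal.IsPrime.ne_top inferInstance)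
    have hle : ((l + 1 : ℕ) : ℕ∞) ≤ LocCoh.idealDepth (m.map (Ideal.Quotient.mk J)) ((MvPolynomial (Fin (n + 1)) K) ⧸ J) := by
      rw [hd]
      norm_cast at hq
      by_contra hlt
      rw [not_le] at hlt
      obtain ⟨e, he⟩ := ENat.ne_top_iff_exists.1 (ne_top_of_lt hlt)
      rw [← he] at hq hlt
      norm_cast at hq hlt
      omega
    haveI : Subsingleton (LocCoh.H (m.map (algebraMap (MvPolynomial (Fin (n + 1)) K) ((MvPolynomial (Fin (n + 1)) K) ⧸ J))) l ((MvPolynomial (Fin (n + 1)) K) ⧸ J)) :=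
      (Groth.LocCohBase.le_idealDepth_iff_localCohomology _ (l + 1) ((MvPolynomial (Fin (n + 1)) K) ⧸ J)).1 hle l (by omega)
    exact φ.symm.toEquiv.subsingleton
  -- the vanishing for `(MvPolynomial (Fin (n + 1)) K)/(J + (f))`
  have hreg := Groth.Misc15.Linkage.regular_of_colon hJf
  set Jf := J ⊔ Ideal.span {f} with hJfdef
  have hmem : ∀ y, y ∈ Jf ↔ ∃ a ∈ J, ∃ b, a + b * f = y := fun y => by
    rw [hJfdef, Submodule.mem_sup]
    exact ⟨fun ⟨a, ha, z, hz, e⟩ => let ⟨b, hb⟩ := Ideal.mem_span_singleton'.1 hz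
      ⟨a, ha, b, by rw [hb, e]⟩, fun ⟨a, ha, b, e⟩ => ⟨a, ha, _, Ideal.mem_span_singleton'.2 ⟨b, rfl⟩, e⟩⟩
  let g₁ : ((MvPolynomial (Fin (n + 1)) K) ⧸ J) →ₗ[(MvPolynomial (Fin (n + 1)) K)] (MvPolynomial (Fin (n + 1)) K) ⧸ Jf := Submodule.mapQ J Jf LinearMap.id le_sup_left
  have hg₁ : Function.Surjective g₁ := fun y => by
    obtain ⟨a, rfl⟩ := Submodule.Quotient.mk_surjective _ y
    exact ⟨Submodule.Quotient.mk a, rfl⟩
  have hex₁ : Function.Exact (LinearMap.lsmul (MvPolynomial (Fin (n + 1)) K) ((MvPolynomial (Fin (n + 1)) K) ⧸ J) f) g₁ := fun y => by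
    obtain ⟨a, rfl⟩ := Submodule.Quotient.mk_surjective _ y
    show Submodule.Quotient.mk (p := Jf) a = 0 ↔ _
    rw [Submodule.Quotient.mk_eq_zero, hmem]
    constructor
    · rintro ⟨j, hj, b, rfl⟩
      refine ⟨Submodule.Quotient.mk b, (Submodule.Quotient.eq J).2 ?_⟩
      simpa [mul_comm b f] using hj
    · rintro ⟨y, hy⟩
      obtain ⟨b, rfl⟩ := Submodule.Quotient.mk_surjective _ y
      have h := (Submodule.Quotient.eq J).1 hy
      exact ⟨_, J.neg_mem h, b, by simp [mul_comm b f]⟩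
  have hinj₁ : Function.Injective (LinearMap.lsmul (MvPolynomial (Fin (n + 1)) K) ((MvPolynomial (Fin (n + 1)) K) ⧸ J) f) :=
    (injective_iff_map_eq_zero _).2 fun y hy => by
      obtain ⟨a, rfl⟩ := Submodule.Quotient.mk_surjective _ y
      exact (Submodule.Quotient.mk_eq_zero J).2 (hreg a ((Submodule.Quotient.mk_eq_zero J).1 hy))
  have hS₁ := GrothGoren.seqCx_shortExact (LinearMap.lsmul (MvPolynomial (Fin (n + 1)) K) ((MvPolynomial (Fin (n + 1)) K) ⧸ J) f) g₁ hex₁ hinj₁ hg₁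
  have hvan : ∀ l, l + h < n → Subsingleton (LocCoh.H m l ((MvPolynomial (Fin (n + 1)) K) ⧸ Jf)) := fun l hl =>
    Groth.LocCohBase.subsingleton_X₃ (I := m) hS₁ l (hvanJ l (by omega)) (hvanJ (l + 1) (by omega))
  -- the sequence of the double link
  set It := J ⊔ Ideal.span {f} * I with hIt
  have hmem' : ∀ y, y ∈ It ↔ ∃ a ∈ J, ∃ b ∈ I, a + f * b = y := fun y => by
    rw [hIt, Submodule.mem_sup]
    exact ⟨fun ⟨a, ha, z, hz, e⟩ => let ⟨b, hb, hb'⟩ := Ideal.mem_span_singleton_mul.1 hz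
      ⟨a, ha, b, hb, by rw [hb', e]⟩, fun ⟨a, ha, b, hb, e⟩ => ⟨a, ha, _, Ideal.mem_span_singleton_mul.2 ⟨b, hb, rfl⟩, e⟩⟩
  let f₂ : ((MvPolynomial (Fin (n + 1)) K) ⧸ I) →ₗ[(MvPolynomial (Fin (n + 1)) K)] (MvPolynomial (Fin (n + 1)) K) ⧸ It := Submodule.mapQ I It (LinearMap.lsmul (MvPolynomial (Fin (n + 1)) K) (MvPolynomial (Fin (n + 1)) K) f) fun b hb =>
    (hmem' _).2 ⟨0, zero_mem _, b, hb, by simp⟩
  let g₂ : ((MvPolynomial (Fin (n + 1)) K) ⧸ It) →ₗ[(MvPolynomial (Fin (n + 1)) K)] (MvPolynomial (Fin (n + 1)) K) ⧸ Jf := Submodule.mapQ It Jf LinearMap.id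
    (sup_le le_sup_left (Ideal.mul_le_left.trans le_sup_right))
  have hg₂ : Function.Surjective g₂ := fun y => by
    obtain ⟨a, rfl⟩ := Submodule.Quotient.mk_surjective _ y
    exact ⟨Submodule.Quotient.mk a, rfl⟩
  have hinj₂ : Function.Injective f₂ := (injective_iff_map_eq_zero _).2 fun y hy => by
    obtain ⟨a, rfl⟩ := Submodule.Quotient.mk_surjective _ y
    obtain ⟨j, hj, b, hb, e⟩ := (hmem' _).1 ((Submodule.Quotient.mk_eq_zero It).1 hy)
    refine (Submodule.Quotient.mk_eq_zero I).2 ?_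
    have h1 : f * (a - b) ∈ J := by
      rw [mul_sub, show f * a = j + f * b from e.symm, add_sub_cancel_right]
      exact hj
    simpa using I.add_mem (hJI (hreg _ h1)) hb
  have hex₂ : Function.Exact f₂ g₂ := fun y => by
    obtain ⟨a, rfl⟩ := Submodule.Quotient.mk_surjective _ y
    show Submodule.Quotient.mk (p := Jf) a = 0 ↔ _
    rw [Submodule.Quotient.mk_eq_zero, hmem]
    constructor
    · rintro ⟨j, hj, b, rfl⟩
      refine ⟨Submodule.Quotient.mk b, (Submodule.Quotient.eq It).2 ?_⟩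
      simpa [mul_comm b f] using (Ideal.mem_sup_left hj : j ∈ It)
    · rintro ⟨y, hy⟩
      obtain ⟨b, rfl⟩ := Submodule.Quotient.mk_surjective _ y
      obtain ⟨j, hj, c, -, e⟩ := (hmem' _).1 ((Submodule.Quotient.eq It).1 hy)
      refine ⟨-j, J.neg_mem hj, b - c, ?_⟩
      simp only [LinearMap.lsmul_apply, smul_eq_mul] at e
      linear_combination -e
  have hS₂ := GrothGoren.seqCx_shortExact f₂ g₂ hex₂ hinj₂ hg₂
  refine ⟨(LinearEquiv.ofBijective ((localCohomology m i).map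
    (ModuleCat.ofHom f₂)).hom ⟨?_, ?_⟩).symm⟩
  · cases i with
    | zero => exact Groth.LocCohBase.map_f_injective_zero (I := m) hS₂
    | succ l =>
      haveI := hvan l (by omega)
      refine (injective_iff_map_eq_zero _).2 fun x hx => ?_
      obtain ⟨y, rfl⟩ := (Groth.LocCohBase.exact₁ (I := m) hS₂ l x).1 hx
      exact (congrArg _ (Subsingleton.elim (α := LocCoh.H m l ((MvPolynomial (Fin (n + 1)) K) ⧸ Jf)) y 0)).trans (map_zero _)
  · intro x
    haveI := hvan i hi
    exact (Groth.LocCohBase.exact₂ (I := m) hS₂ i x).1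
      (Subsingleton.elim (α := LocCoh.H m i ((MvPolynomial (Fin (n + 1)) K) ⧸ Jf)) _ 0)

end Groth.Agent.S18872
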