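import Groth.Statements.S18873
import Groth.Agent.Misc15.GorLength

set_option autoImplicit false
universe u
open Liaison

namespace Groth.Agent.S18873

/-- Let K be a field, R = K[x_0, …, x_n] graded by degree, 2 ≤ c ≤ n, 𝔠 ⊂ R a homogeneous ideal of
height c such that R/𝔠 is a Gorenstein ring, I ⊂ R a homogeneous ideal of height c containing 𝔠, and
J = 𝔠 : I. Write h_𝔞(j) = dim_K [R/𝔞]_j for the Hilbert function of R/𝔞. If p_𝔠, p_I, p_J ∈ ℚ[t] are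
polynomials agreeing with h_𝔠, h_I, h_J in all sufficiently large degrees (Hilbert polynomials; R/𝔠
and R/I have dimension n + 1 − c ≥ 1, and so has R/J unless I = 𝔠, when J = R and p_J = 0), then the
coefficients of t^(n−c) satisfy p_J = p_𝔠 − p_I in that degree; multiplying by (n − c)! this says
deg J = deg 𝔠 − deg I. -/
theorem result (K : Type u) [Field K] (n c : ℕ) (hc : 2 ≤ c) (hcn : c ≤ n)
    (𝔠 I : Ideal (MvPolynomial (Fin (n + 1)) K))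
    (h𝔠 : 𝔠.IsHomogeneous (GrSyz.stdGr K (Fin (n + 1)))) (hI : I.IsHomogeneous (GrSyz.stdGr K (Fin (n + 1))))
    [LocCoh.IsGorensteinRing (MvPolynomial (Fin (n + 1)) K ⧸ 𝔠)] (h𝔠c : 𝔠.height = c) (hIc : I.height = c) (h𝔠I : 𝔠 ≤ I)
    (p𝔠 pI pJ : Polynomial ℚ)
    (hp𝔠 : ∃ j₀ : ℕ, ∀ j : ℕ, j₀ ≤ j → (Module.finrank K ↥(Submodule.map (Ideal.Quotient.mkₐ K (𝔠)).toLinearMap (GrSyz.stdGr K (Fin (n + 1)) (j : ℤ))) : ℚ) = p𝔠.eval (j : ℚ))
    (hpI : ∃ j₀ : ℕ, ∀ j : ℕ, j₀ ≤ j → (Module.finrank K ↥(Submodule.map (Ideal.Quotient.mkₐ K (I)).toLinearMap (GrSyz.stdGr K (Fin (n + 1)) (j : ℤ))) : ℚ) = pI.eval (j : ℚ))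
    (hpJ : ∃ j₀ : ℕ, ∀ j : ℕ, j₀ ≤ j → (Module.finrank K ↥(Submodule.map (Ideal.Quotient.mkₐ K (𝔠.colon (I : Set (MvPolynomial (Fin (n + 1)) K)))).toLinearMap (GrSyz.stdGr K (Fin (n + 1)) (j : ℤ))) : ℚ) = pJ.eval (j : ℚ)) :
    pJ.coeff (n - c) = p𝔠.coeff (n - c) - pI.coeff (n - c) := by
  classical
  have hJ : (𝔠.colon (I : Set (MvPolynomial (Fin (n + 1)) K))).IsHomogeneous
      (GrSyz.stdGr K (Fin (n + 1))) := fun i r hr => by
    rw [Submodule.mem_colon] at hr ⊢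
    intro y hy
    rw [← DirectSum.sum_support_decompose (GrSyz.stdGr K (Fin (n + 1))) y, Finset.smul_sum]
    refine Ideal.sum_mem _ fun d _ => ?_
    exact Submodule.mem_colon_singleton.1
      (Groth.Misc15.HilbLead.isHomogeneous_colon h𝔠 (SetLike.coe_mem _) i
        (Submodule.mem_colon_singleton.2 (hr _ (hI d hy))))
  obtain ⟨a, ha⟩ := hp𝔠
  obtain ⟨b, hb⟩ := hpI
  obtain ⟨d, hd⟩ := hpJ
  have h := Groth.Misc15.HilbLead.coeff_eq_zero (q := p𝔠 - pI - pJ)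
    (Groth.Misc15.GorLength.coeff_link c h𝔠 hI hJ h𝔠c.ge hcn h𝔠I) ⟨a + b + d, fun j hj => by
      simp only [Polynomial.eval_sub, ← ha j (by omega), ← hb j (by omega), ← hd j (by omega),
        Groth.Misc15.HilbLead.hf]⟩
  rw [Polynomial.coeff_sub, Polynomial.coeff_sub] at h
  linarith

end Groth.Agent.S18873
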