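import Groth.Statements.S18874
import Groth.Agent.SpectralTopology.SpreadProper
import Groth.Agent.Limits.LocalLimit
import Groth.Agent.EtaleBase.FpqcDescent

set_option backward.isDefEq.respectTransparency false

set_option autoImplicit false
universe u
open Lim

namespace Groth.Agent.S18874

open CategoryTheory AlgebraicGeometry in
/-- Let S be a quasi-compact scheme whose affine opens have excellent coordinate rings, let X → S and Y
→ S be quasi-compact, quasi-separated and locally of finite presentation, let f : X → Y be a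
morphism over S, let s be a closed point of S and R the completion of the local ring of S at s. If
the base change X ×_S Spec R → Y ×_S Spec R of f is proper, then s has an open neighbourhood W in S
such that X ×_S W → Y ×_S W is proper. (The published statement assumes X and Y only locally of
finite presentation over S; for S the affine line over a field, s the origin, Y = S and X the
disjoint union of S with one reduced point over each closed point other than s, the base change to
Spec R is an isomorphism while X ×_S W → W is not quasi-compact for any open W ∋ s, so X and Y are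
taken of finite presentation over S here, which is what the limit argument of the published proof
uses.) -/
theorem result
    (S : Scheme.{u}) [CompactSpace S] (hS : ∀ U : S.affineOpens, EGA4.IsExcellent Γ(S, U.1))
    {X Y : Scheme.{u}} (f : X ⟶ Y) (g : Y ⟶ S)
    [QuasiCompact g] [QuasiSeparated g] [LocallyOfFinitePresentation g]
    [QuasiCompact (f ≫ g)] [QuasiSeparated (f ≫ g)] [LocallyOfFinitePresentation (f ≫ g)]
    (s : S) (hs : IsClosed ({s} : Set S))
    (hR : IsProper (Limits.pullback.snd f (Limits.pullback.fst g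
      (Spec.map (CommRingCat.ofHom (algebraMap (S.presheaf.stalk s) (EGA4.Cpl (S.presheaf.stalk s)))) ≫
        S.fromSpecStalk s)))) :
    ∃ W : S.Opens, s ∈ W ∧ IsProper (f ∣_ (g ⁻¹ᵁ W)) := by
  open CategoryTheory.Limits in
    haveI : IsLocallyNoetherian S := ⟨fun U => (hS U).1⟩
    haveI : AlgebraicGeometry.IsNoetherian S := {}
    let O := S.presheaf.stalk s
    let t := S.fromSpecStalk s
    let a : Spec (CommRingCat.of (EGA4.Cpl O)) ⟶ Spec O :=
      Spec.map (CommRingCat.ofHom (algebraMap O (EGA4.Cpl O)))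
    -- the completion is faithfully flat
    haveI hloc : IsLocalHom (algebraMap O (EGA4.Cpl O)) := by
      refine ((IsLocalRing.local_hom_TFAE (algebraMap O (EGA4.Cpl O))).out 0 2).mpr ?_
      rw [AdicCompletion.maximalIdeal_eq_map]
    haveI : Flat a := (HasRingHomProperty.Spec_iff (P := @Flat)).2 (RingHom.flat_algebraMap_iff.2 inferInstance)
    haveI : Module.FaithfullyFlat O (EGA4.Cpl O) := Module.FaithfullyFlat.of_flat_of_isLocalHom
    haveI : Surjective a := ⟨PrimeSpectrum.comap_surjective_of_faithfullyFlat (A := O) (B := EGA4.Cpl O)⟩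
    have hfpqc : Groth.EtaleBase.Fpqc.{u} a := ⟨⟨inferInstance, inferInstance⟩, inferInstance⟩
    -- descend to the local scheme
    let Yt := pullback g t
    let Ya := pullback g (a ≫ t)
    let m : Ya ⟶ Yt := pullback.lift (pullback.fst _ _) (pullback.snd _ _ ≫ a)
      (by rw [Category.assoc]; exact pullback.condition)
    have sm : IsPullback m (pullback.snd g (a ≫ t)) (pullback.snd g t) a :=
      IsPullback.of_right (h₁₂ := pullback.fst _ _) (by rw [pullback.lift_fst]; exact IsPullback.of_hasPullback _ _)
        (pullback.lift_snd _ _ _) (IsPullback.of_hasPullback _ _)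
    have hm : Groth.EtaleBase.Fpqc.{u} m :=
      ⟨⟨MorphismProperty.of_isPullback sm.flip hfpqc.1.1, MorphismProperty.of_isPullback sm.flip hfpqc.1.2⟩,
        MorphismProperty.of_isPullback sm.flip hfpqc.2⟩
    have hloc' : IsProper (pullback.snd f (pullback.fst g t)) := by
      refine MorphismProperty.of_isPullback_of_descendsAlong (P := @IsProper) (Q := Groth.EtaleBase.Fpqc.{u})
        (IsPullback.of_hasPullback (pullback.snd f (pullback.fst g t)) m).flip hm ?_
      have h2 : IsProper (pullback.snd f (m ≫ pullback.fst g t)) := by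
        rw [pullback.lift_fst]
        exact hR
      exact (Groth.SpectralTopology.prop_snd_snd_iff @IsProper f _ m).2 h2
    -- spread out
    obtain ⟨_, ⟨W, hW, rfl⟩, hsW, -⟩ :=
      S.isBasis_affineOpens.exists_subset_of_mem_open (Set.mem_univ s) isOpen_univ
    haveI := Groth.Limits.nonempty_basicNhd (W := W) hsW
    obtain ⟨hl⟩ := Groth.Limits.nonempty_isLimit_nhdCone hW hsW
    let D := Groth.Limits.nhdDiagram W s
    have haff : ∀ V : Groth.Limits.BasicNhd W s, IsAffine (D.obj V) := fun V => Groth.Limits.isAffineOpen_nhd hW V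
    haveI : ∀ (i j : Groth.Limits.BasicNhd W s) (e : i ⟶ j), IsAffineHom (D.map e) := fun i j e =>
      haveI := haff i; haveI := haff j; inferInstance
    haveI : ∀ i, CompactSpace (D.obj i) := fun i => haveI := haff i; inferInstance
    haveI : ∀ i, QuasiSeparatedSpace (D.obj i) := fun i => haveI := haff i; inferInstance
    haveI : ∀ i, IsLocallyNoetherian (D.obj i) := fun i => isLocallyNoetherian_of_isOpenImmersion i.1.ι
    let i₀ := Groth.Limits.BasicNhd.top (W := W) hsW
    let U₀ := i₀.1
    haveI : LocallyOfFiniteType (f ≫ g) := inferInstance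
    haveI : IsLocallyNoetherian Y := LocallyOfFiniteType.isLocallyNoetherian g
    haveI : LocallyOfFiniteType f := locallyOfFiniteType_of_comp f g
    haveI : QuasiCompact f := QuasiCompact.of_comp f g
    haveI : QuasiSeparated f := QuasiSeparated.of_comp f g
    haveI : LocallyOfFinitePresentation f := inferInstance
    let g₀ : (g ⁻¹ᵁ U₀ : Scheme.{u}) ⟶ D.obj i₀ := g ∣_ U₀
    let f₀ := f ∣_ (g ⁻¹ᵁ U₀)
    haveI : LocallyOfFinitePresentation g₀ := MorphismProperty.of_isPullback (isPullback_morphismRestrict g U₀).flip ‹_›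
    haveI : QuasiCompact g₀ := MorphismProperty.of_isPullback (isPullback_morphismRestrict g U₀).flip ‹_›
    haveI : QuasiSeparated g₀ := MorphismProperty.of_isPullback (isPullback_morphismRestrict g U₀).flip ‹_›
    haveI : LocallyOfFinitePresentation f₀ := MorphismProperty.of_isPullback (isPullback_morphismRestrict f _).flip ‹_›
    haveI : QuasiCompact f₀ := MorphismProperty.of_isPullback (isPullback_morphismRestrict f _).flip ‹_›
    haveI : QuasiSeparated f₀ := MorphismProperty.of_isPullback (isPullback_morphismRestrict f _).flip ‹_›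
    let c := Groth.Limits.nhdCone W s
    have hc : c.π.app i₀ ≫ U₀.ι = t := Scheme.Opens.fromSpecStalkOfMem_ι _ _ _
    let qY : Yt ⟶ (g ⁻¹ᵁ U₀ : Scheme.{u}) := (isPullback_morphismRestrict g U₀).flip.lift
      (pullback.fst g t) (pullback.snd g t ≫ c.π.app i₀)
      (by rw [Category.assoc, hc]; exact pullback.condition)
    have sY : IsPullback qY (pullback.snd g t) g₀ (c.π.app i₀) :=
      IsPullback.of_right (h₁₂ := (g ⁻¹ᵁ U₀).ι)
        (by rw [IsPullback.lift_fst, hc]; exact IsPullback.of_hasPullback _ _)
        (IsPullback.lift_snd _ _ _ _) (isPullback_morphismRestrict g U₀).flip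
    let fl := pullback.snd f (pullback.fst g t)
    let qX : pullback f (pullback.fst g t) ⟶ (f ⁻¹ᵁ (g ⁻¹ᵁ U₀) : Scheme.{u}) :=
      (isPullback_morphismRestrict f (g ⁻¹ᵁ U₀)).flip.lift (pullback.fst _ _) (fl ≫ qY)
        (by rw [Category.assoc, IsPullback.lift_fst]; exact pullback.condition)
    have sX : IsPullback qX fl f₀ qY :=
      IsPullback.of_right (h₁₂ := (f ⁻¹ᵁ (g ⁻¹ᵁ U₀)).ι)
        (by rw [IsPullback.lift_fst, IsPullback.lift_fst]; exact IsPullback.of_hasPullback _ _)
        (IsPullback.lift_snd _ _ _ _) (isPullback_morphismRestrict f _).flip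
    obtain ⟨j, φ, hj⟩ := Groth.SpectralTopology.spreads_isProper D c hl f₀ g₀ fl (pullback.snd g t) qY qX sY sX hloc'
    refine ⟨j.1, j.2.1, ?_⟩
    have hφ : D.map φ ≫ U₀.ι = j.1.ι := S.homOfLE_ι (leOfHom φ)
    -- identify the stage with the restriction
    let Z := pullback (D.map φ) g₀
    have sZ : IsPullback (pullback.snd (D.map φ) g₀ ≫ (g ⁻¹ᵁ U₀).ι) (pullback.fst (D.map φ) g₀) g j.1.ι := by
      rw [← hφ]
      exact (IsPullback.of_hasPullback (D.map φ) g₀).flip.paste_horiz (isPullback_morphismRestrict g U₀).flip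
    let e := sZ.isoIsPullback _ _ (isPullback_morphismRestrict g j.1).flip
    have he : e.hom ≫ (g ⁻¹ᵁ j.1).ι = pullback.snd (D.map φ) g₀ ≫ (g ⁻¹ᵁ U₀).ι :=
      IsPullback.isoIsPullback_hom_fst _ _ _ _
    have s1 : IsPullback (pullback.fst f₀ (pullback.snd (D.map φ) g₀) ≫ (f ⁻¹ᵁ (g ⁻¹ᵁ U₀)).ι)
        (pullback.snd f₀ (pullback.snd (D.map φ) g₀)) f (e.hom ≫ (g ⁻¹ᵁ j.1).ι) := by
      rw [he]
      exact (IsPullback.of_hasPullback f₀ (pullback.snd (D.map φ) g₀)).paste_horiz
        (isPullback_morphismRestrict f (g ⁻¹ᵁ U₀)).flip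
    let s2 := (isPullback_morphismRestrict f (g ⁻¹ᵁ j.1)).flip
    let l := s2.lift (pullback.fst f₀ (pullback.snd (D.map φ) g₀) ≫ (f ⁻¹ᵁ (g ⁻¹ᵁ U₀)).ι)
      (pullback.snd f₀ (pullback.snd (D.map φ) g₀) ≫ e.hom) (by rw [Category.assoc]; exact s1.w)
    have hl' : IsPullback l (pullback.snd f₀ (pullback.snd (D.map φ) g₀)) (f ∣_ (g ⁻¹ᵁ j.1)) e.hom :=
      IsPullback.of_right (h₁₂ := (f ⁻¹ᵁ (g ⁻¹ᵁ j.1)).ι) (by rw [IsPullback.lift_fst]; exact s1)
        (IsPullback.lift_snd _ _ _ _) s2
    haveI : IsIso l := hl'.isIso_fst_of_isIso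
    exact ((MorphismProperty.arrow_mk_iso_iff (P := @IsProper) (Arrow.isoMk (asIso l) e hl'.w)).1 hj)

end Groth.Agent.S18874
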