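import Groth.Statements.S18876
import Groth.Agent.StkGerb.Coarse

set_option autoImplicit false
universe u
open Gerb

namespace Groth.Agent.S18876

open CategoryTheory AlgebraicGeometry in
/-- Let S be a scheme and F : 𝒳 → 𝒴 a morphism of algebraic stacks over S which makes 𝒳 an fppf gerbe
over 𝒴 and through which every morphism from 𝒳 to an algebraic space factors, uniquely up to
2-isomorphism. Then 𝒴 admits a coarse moduli space exactly when 𝒳 does, and the two coarse moduli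
spaces coincide: for every coarse moduli map π : 𝒴 → M the composite 𝒳 → 𝒴 → M is a coarse moduli
map of 𝒳. (The published statement is about the rigidification F of 𝒳 along a flat finitely
presented subgroup stack of its inertia; only two of its properties are assumed here, that F is a
gerbe and that maps to algebraic spaces factor through F, which is what the published argument uses;
neither stack is assumed quasi-separated or locally of finite presentation over S, and their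
diagonals are not assumed quasi-compact or separated.) -/
theorem result (S : Scheme.{u}) (𝒳 𝒴 : AlgSt.Cat S)
    (h𝒳 : AlgSt.IsAlgStack Scheme.fppfPrecoverage 𝒳) (h𝒴 : AlgSt.IsAlgStack Scheme.fppfPrecoverage 𝒴)
    (F : 𝒳 ⥤ᵇ 𝒴) (hF : Gerb.IsGerbeOver (QuotSh.J Scheme.fppfPrecoverage S) F)
    (huniv : ∀ (N : AlgSp.Sp S), AlgSp.IsAlgSpace N → ∀ φ : 𝒳 ⥤ᵇ AlgSt.ofSp N,
      ∃ ψ : 𝒴 ⥤ᵇ AlgSt.ofSp N, Nonempty (BasedFunctor.comp F ψ ≅ φ) ∧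
        ∀ ψ' : 𝒴 ⥤ᵇ AlgSt.ofSp N, Nonempty (BasedFunctor.comp F ψ' ≅ φ) → Nonempty (ψ' ≅ ψ)) :
    ((∃ (M : AlgSp.Sp S) (π : 𝒴 ⥤ᵇ AlgSt.ofSp M), AlgSt.IsCoarseModuli π) ↔
        ∃ (M : AlgSp.Sp S) (π : 𝒳 ⥤ᵇ AlgSt.ofSp M), AlgSt.IsCoarseModuli π) ∧
      ∀ (M : AlgSp.Sp S) (π : 𝒴 ⥤ᵇ AlgSt.ofSp M), AlgSt.IsCoarseModuli π →
        AlgSt.IsCoarseModuli (BasedFunctor.comp F π) := by
  have key : ∀ (M : AlgSp.Sp S) (π : 𝒴 ⥤ᵇ AlgSt.ofSp M), AlgSt.IsCoarseModuli π →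
      AlgSt.IsCoarseModuli (BasedFunctor.comp F π) := by
    intro M π hπ
    obtain ⟨⟨hM, hcat⟩, hgeom⟩ := hπ
    refine ⟨⟨hM, fun N hN φ => ?_⟩, fun Ω _ _ t => ⟨fun m => ?_, fun x x' h => ?_⟩⟩
    · obtain ⟨ψ, hψ, hu⟩ := huniv N hN φ
      obtain ⟨g, hg, hgu⟩ := hcat N hN ψ
      refine ⟨g, ?_, fun g' hg' => hgu g' (hu _ hg')⟩
      obtain ⟨a⟩ := hg
      obtain ⟨b⟩ := hψ
      exact ⟨(Groth.StkBase.whiskerLeftIso F a).trans b⟩
    · obtain ⟨y, rfl⟩ := (hgeom Ω t).1 m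
      obtain ⟨x, c, hc⟩ := Groth.StkGerb.exists_fib_lift hF.1 y
      refine ⟨x, ?_⟩
      rw [Groth.StkGerb.fibSec_comp]
      exact Groth.StkGerb.fibSec_eq_of_vert (x := Groth.StkGerb.fibMap F x) (y := y) (π := π) (π' := π)
        (π.map c) (Groth.StkBase.isVert_map hc)
    · obtain ⟨i⟩ := (hgeom Ω t).2 (Groth.StkGerb.fibMap F x) (Groth.StkGerb.fibMap F x') h
      exact Groth.StkGerb.nonempty_iso_of_fib_lift h𝒳.1.1 hF.2 i.hom
  refine ⟨⟨fun ⟨M, π, hπ⟩ => ⟨M, _, key M π hπ⟩, fun ⟨M, π', hπ'⟩ => ?_⟩, key⟩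
  obtain ⟨⟨hM, hcat⟩, hgeom⟩ := hπ'
  obtain ⟨ψ, ⟨α⟩, -⟩ := huniv M hM π'
  refine ⟨M, ψ, ⟨hM, fun N hN χ => ?_⟩, fun Ω _ _ t => ⟨fun m => ?_, fun y y' h => ?_⟩⟩
  · obtain ⟨g, hg, hgu⟩ := hcat N hN (BasedFunctor.comp F χ)
    obtain ⟨a⟩ := hg
    obtain ⟨w, -, hw⟩ := huniv N hN (BasedFunctor.comp F χ)
    obtain ⟨c₁⟩ := hw χ ⟨Iso.refl _⟩
    obtain ⟨c₂⟩ := hw (BasedFunctor.comp ψ (AlgSt.ofSpMap g))
      ⟨(Groth.StkBase.whiskerRightIso α (AlgSt.ofSpMap g)).trans a⟩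
    refine ⟨g, ⟨c₂.trans c₁.symm⟩, fun g' hg' => hgu g' ?_⟩
    obtain ⟨b⟩ := hg'
    exact ⟨(Groth.StkBase.whiskerRightIso α (AlgSt.ofSpMap g')).symm.trans
      (Groth.StkBase.whiskerLeftIso F b)⟩
  · obtain ⟨x, rfl⟩ := (hgeom Ω t).1 m
    exact ⟨Groth.StkGerb.fibMap F x, Groth.StkGerb.fibSec_eq_of_iso α x⟩
  · obtain ⟨x, c, hc⟩ := Groth.StkGerb.exists_fib_lift hF.1 y
    obtain ⟨x', c', hc'⟩ := Groth.StkGerb.exists_fib_lift hF.1 y'
    have e : ∀ {z : 𝒳.p.Fiber (Over.mk t)} {w : 𝒴.p.Fiber (Over.mk t)} (d : F.obj z.1 ⟶ w.1),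
        Groth.StkBase.IsVert 𝒴.p d → AlgSt.fibSec π' z = AlgSt.fibSec ψ w := fun {z w} d hd => by
      rw [← Groth.StkGerb.fibSec_eq_of_iso α z, Groth.StkGerb.fibSec_comp]
      exact Groth.StkGerb.fibSec_eq_of_vert (x := Groth.StkGerb.fibMap F z) (y := w) (π := ψ) (π' := ψ)
        (ψ.map d) (Groth.StkBase.isVert_map hd)
    obtain ⟨i⟩ := (hgeom Ω t).2 x x' ((e c hc).trans (h.trans (e c' hc').symm))
    obtain ⟨j⟩ := Groth.StkGerb.nonempty_fibIso h𝒴.1.1 (x := Groth.StkGerb.fibMap F x) (y := y) c hc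
    obtain ⟨j'⟩ := Groth.StkGerb.nonempty_fibIso h𝒴.1.1 (x := Groth.StkGerb.fibMap F x') (y := y') c' hc'
    obtain ⟨k⟩ := Groth.StkGerb.nonempty_fibIso h𝒴.1.1 (x := Groth.StkGerb.fibMap F x)
      (y := Groth.StkGerb.fibMap F x') (F.map i.hom.1)
      (Groth.StkBase.isVert_map (Groth.StkBase.isVert_of_isHomLift i.hom.2))
    exact ⟨(j.symm.trans k).trans j'⟩

end Groth.Agent.S18876
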