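import Groth.Statements.S18878
import Groth.Agent.GrpLim.Conditions
import Mathlib.CategoryTheory.Filtered.Final
-- import your own Groth.Agent.* helpers here

set_option autoImplicit false
universe u
open Lim

namespace Groth.Agent.S18878

section Helpers

open CategoryTheory Limits MonoidalCategory CartesianMonoidalCategory MonObj AlgebraicGeometry
  Groth.GrpLim

set_option backward.isDefEq.respectTransparency false

theorem core {I : Type u} [SmallCategory I] [IsCofiltered I]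
    (D : I ⥤ Scheme.{u}) (c : Limits.Cone D) (hc : Limits.IsLimit c)
    [∀ (i j : I) (a : i ⟶ j), IsAffineHom (D.map a)] [∀ i, CompactSpace (D.obj i)]
    [∀ i, QuasiSeparatedSpace (D.obj i)] (i₀ : I)
    (G₀ : Over (D.obj i₀)) [GrpObj G₀] [IsSeparated G₀.hom] [QuasiCompact G₀.hom]
    [LocallyOfFinitePresentation G₀.hom]
    (H₀ : Over (D.obj i₀)) (e : H₀ ⟶ G₀) [IsClosedImmersion e.left]
    [LocallyOfFinitePresentation e.left]
    (hH : ∃ _ : GrpObj (Red.bc (c.π.app i₀) H₀), IsMonHom ((Over.pullback (c.π.app i₀)).map e)) :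
    (∃ (i : I) (a : i ⟶ i₀) (_ : GrpObj (Red.bc (D.map a) H₀)),
        IsMonHom ((Over.pullback (D.map a)).map e)) ∧
    ((∃ (_ : GrpObj (Red.bc (c.π.app i₀) H₀)) (_ : IsMonHom ((Over.pullback (c.π.app i₀)).map e)),
        AlgGrp.IsNormalHom ((Over.pullback (c.π.app i₀)).map e)) →
      ∃ (i : I) (a : i ⟶ i₀) (_ : GrpObj (Red.bc (D.map a) H₀))
        (_ : IsMonHom ((Over.pullback (D.map a)).map e)),
        AlgGrp.IsNormalHom ((Over.pullback (D.map a)).map e)) := by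
  obtain ⟨inst, hmon⟩ := hH
  have : LocallyOfFinitePresentation H₀.hom := by rw [← Over.w e]; infer_instance
  have : QuasiCompact H₀.hom := by rw [← Over.w e]; infer_instance
  have : QuasiSeparated H₀.hom := by rw [← Over.w e]; infer_instance
  have : QuasiCompact (H₀ ⊗ H₀).hom := inferInstanceAs (QuasiCompact (pullback.fst H₀.hom H₀.hom ≫ H₀.hom))
  have : QuasiSeparated (H₀ ⊗ H₀).hom := inferInstanceAs (QuasiSeparated (pullback.fst H₀.hom H₀.hom ≫ H₀.hom))
  have : QuasiCompact (G₀ ⊗ H₀).hom := inferInstanceAs (QuasiCompact (pullback.fst G₀.hom H₀.hom ≫ G₀.hom))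
  have : QuasiSeparated (G₀ ⊗ H₀).hom := inferInstanceAs (QuasiSeparated (pullback.fst G₀.hom H₀.hom ≫ G₀.hom))
  have : QuasiCompact (𝟙_ (Over (D.obj i₀))).hom := inferInstanceAs (QuasiCompact (𝟙 (D.obj i₀)))
  have : QuasiSeparated (𝟙_ (Over (D.obj i₀))).hom := inferInstanceAs (QuasiSeparated (𝟙 (D.obj i₀)))
  let F := Over.pullback (c.π.app i₀)
  have h1 : ∃ v, v ≫ F.map e = F.map (1 : 𝟙_ (Over (D.obj i₀)) ⟶ G₀) := by
    refine ⟨(1 : _ ⟶ Red.bc (c.π.app i₀) H₀), ?_⟩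
    rw [MonObj.one_comp, Functor.map_one]
  have h2 : ∃ v, v ≫ F.map e = F.map ((fst H₀ H₀ ≫ e) * (snd H₀ H₀ ≫ e)) := by
    refine ⟨((F.map (fst H₀ H₀) : _ ⟶ Red.bc (c.π.app i₀) H₀) * F.map (snd H₀ H₀) : _ ⟶ Red.bc (c.π.app i₀) H₀), ?_⟩
    rw [MonObj.mul_comp, Functor.map_mul, Functor.map_comp, Functor.map_comp]
  have h3 : ∃ v, v ≫ F.map e = F.map e⁻¹ := by
    refine ⟨((𝟙 (Red.bc (c.π.app i₀) H₀))⁻¹ : _ ⟶ Red.bc (c.π.app i₀) H₀), ?_⟩
    rw [GrpObj.inv_comp, Category.id_comp, Functor.map_inv']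
  obtain ⟨v1, hv1⟩ := h1
  obtain ⟨v2, hv2⟩ := h2
  obtain ⟨v3, hv3⟩ := h3
  obtain ⟨i₁, f₁, e₁⟩ := exists_factors D c hc e _ v1 hv1
  obtain ⟨i₂, f₂, e₂⟩ := exists_factors D c hc e _ v2 hv2
  obtain ⟨i₃, f₃, e₃⟩ := exists_factors D c hc e _ v3 hv3
  obtain ⟨k₁, g₁, g₂, hk₁⟩ := IsCofiltered.cospan f₁ f₂
  obtain ⟨k, g, g₃, hk⟩ := IsCofiltered.cospan (g₁ ≫ f₁) f₃
  have mk : ∀ {i : I} (a : i ⟶ i₀), (∃ g : i ⟶ k₁, a = g ≫ g₁ ≫ f₁) → Factors D a e e⁻¹ →
      ∃ (_ : GrpObj (Red.bc (D.map a) H₀)), IsMonHom ((Over.pullback (D.map a)).map e) := by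
    intro i a ⟨g, ha⟩ h3
    obtain ⟨w₁, hw₁⟩ : Factors D a e 1 := by
      rw [ha]; exact Factors.mono D g (Factors.mono D g₁ e₁)
    obtain ⟨w₂, hw₂⟩ : Factors D a e ((fst H₀ H₀ ≫ e) * (snd H₀ H₀ ≫ e)) := by
      rw [ha, hk₁]; exact Factors.mono D g (Factors.mono D g₂ e₂)
    obtain ⟨w₃, hw₃⟩ := h3
    have : Mono e := Over.mono_of_mono_left e
    have : Mono ((Over.pullback (D.map a)).map e) := inferInstance
    refine Groth.Reductive.exists_grpObj_of_mono ((Over.pullback (D.map a)).map e)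
      ⟨Functor.LaxMonoidal.ε (Over.pullback (D.map a)) ≫ w₁, ?_⟩
      ⟨Functor.LaxMonoidal.μ (Over.pullback (D.map a)) H₀ H₀ ≫ w₂, ?_⟩ ⟨w₃, ?_⟩
    · rw [Category.assoc, hw₁, Functor.map_one, MonObj.comp_one]
    · rw [Category.assoc, hw₂, Functor.map_mul, MonObj.comp_mul, Functor.map_comp, Functor.map_comp,
        Functor.Monoidal.μ_fst_assoc, Functor.Monoidal.μ_snd_assoc]
    · rw [hw₃, Functor.map_inv']
  constructor
  · obtain ⟨i', hm⟩ := mk (g ≫ g₁ ≫ f₁) ⟨g, rfl⟩ (by rw [hk]; exact Factors.mono D g₃ e₃)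
    exact ⟨k, g ≫ g₁ ≫ f₁, i', hm⟩
  · rintro ⟨inst', hmon', hn⟩
    obtain ⟨v, hv⟩ := (normal_map_iff _ e).1 hn
    obtain ⟨i₄, f₄, e₄⟩ := exists_factors D c hc e (conjMap e) v hv
    obtain ⟨l, g₄, g₅, hl⟩ := IsCofiltered.cospan (g ≫ g₁ ≫ f₁) f₄
    obtain ⟨instl, hm⟩ := mk (g₄ ≫ g ≫ g₁ ≫ f₁) ⟨g₄ ≫ g, by rw [Category.assoc]⟩
      (Factors.mono D g₄ (by rw [hk]; exact Factors.mono D g₃ e₃))
    refine ⟨l, g₄ ≫ g ≫ g₁ ≫ f₁, instl, hm, (normal_map_iff _ e).2 ?_⟩
    rw [hl]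
    exact Factors.mono D g₅ e₄

theorem main
    {I : Type u} [SmallCategory I] [IsCofiltered I]
    (D : I ⥤ Scheme.{u}) (c : Limits.Cone D) (hc : Limits.IsLimit c)
    [∀ (i j : I) (a : i ⟶ j), IsAffineHom (D.map a)] (i₀ : I)
    [CompactSpace (D.obj i₀)] [QuasiSeparatedSpace (D.obj i₀)]
    (G₀ : Over (D.obj i₀)) [GrpObj G₀] [IsSeparated G₀.hom] [QuasiCompact G₀.hom]
    [LocallyOfFinitePresentation G₀.hom]
    (H₀ : Over (D.obj i₀)) (ι₀ : H₀ ⟶ G₀) [IsClosedImmersion ι₀.left]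
    [LocallyOfFinitePresentation ι₀.left]
    (hH : ∃ _ : GrpObj (Red.bc (c.π.app i₀) H₀), IsMonHom ((Over.pullback (c.π.app i₀)).map ι₀)) :
    (∃ (i : I) (a : i ⟶ i₀) (_ : GrpObj (Red.bc (D.map a) H₀)),
        IsMonHom ((Over.pullback (D.map a)).map ι₀)) ∧
    ((∃ (_ : GrpObj (Red.bc (c.π.app i₀) H₀)) (_ : IsMonHom ((Over.pullback (c.π.app i₀)).map ι₀)),
        AlgGrp.IsNormalHom ((Over.pullback (c.π.app i₀)).map ι₀)) →
      ∃ (i : I) (a : i ⟶ i₀) (_ : GrpObj (Red.bc (D.map a) H₀))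
        (_ : IsMonHom ((Over.pullback (D.map a)).map ι₀)),
        AlgGrp.IsNormalHom ((Over.pullback (D.map a)).map ι₀)) := by
  let D' := Over.forget i₀ ⋙ D
  let c' : Cone D' := c.whisker (Over.forget i₀)
  have hc' : IsLimit c' := (Functor.Initial.isLimitWhiskerEquiv (Over.forget i₀) c).symm hc
  have : ∀ (k l : Over i₀) (a : k ⟶ l), IsAffineHom (D'.map a) := fun k l a =>
    inferInstanceAs (IsAffineHom (D.map a.left))
  have : ∀ k, CompactSpace (D'.obj k) := fun k =>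
    QuasiCompact.compactSpace_of_compactSpace (D.map k.hom)
  have : ∀ k, QuasiSeparatedSpace (D'.obj k) := fun k =>
    quasiSeparatedSpace_of_quasiSeparated (D.map k.hom)
  obtain ⟨h1, h2⟩ := core D' c' hc' (Over.mk (𝟙 i₀)) G₀ H₀ ι₀ hH
  refine ⟨?_, fun hn => ?_⟩
  · obtain ⟨k, a, i', hm⟩ := h1
    exact ⟨k.left, a.left, i', hm⟩
  · obtain ⟨k, a, i', hm, hn'⟩ := h2 hn
    exact ⟨k.left, a.left, i', hm, hn'⟩

end Helpers

open CategoryTheory AlgebraicGeometry in
/-- Let S = lim S_i be a cofiltered limit of schemes with affine transition morphisms over a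
quasi-compact quasi-separated stage S_{i₀}, let G₀ be a group scheme separated and of finite
presentation over S_{i₀} and H₀ ⊆ G₀ a closed subscheme whose immersion is of finite presentation,
and write G, H (resp. G_i, H_i) for the base changes to S (resp. to a stage S_i). If H is a closed
subgroup scheme of G, that is H carries a group structure over S for which H → G is a homomorphism,
then H_i is a closed subgroup scheme of G_i for some stage i → i₀; if moreover H is normal in G, the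
stage can be chosen so that H_i is normal in G_i. (The published statement is for separated finitely
presented group algebraic spaces and an arbitrary closed subspace H₀; this row is the case of
schemes and assumes H₀ → G₀ of finite presentation: over the limit Spec k of the spectra of k[x_1,
x_2, …]/(x_1, …, x_n), k of characteristic zero, the closed subscheme of the additive group cut out
by all x_m t^m becomes the whole additive group over Spec k but is a subgroup over no stage, so a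
finiteness condition on H₀ is needed, and finite presentation is what the published limit argument
uses.) -/
theorem result
    {I : Type u} [SmallCategory I] [IsCofiltered I]
    (D : I ⥤ Scheme.{u}) (c : Limits.Cone D) (hc : Limits.IsLimit c)
    [∀ (i j : I) (a : i ⟶ j), IsAffineHom (D.map a)] (i₀ : I)
    [CompactSpace (D.obj i₀)] [QuasiSeparatedSpace (D.obj i₀)]
    (G₀ : Over (D.obj i₀)) [GrpObj G₀] [IsSeparated G₀.hom] [QuasiCompact G₀.hom]
    [LocallyOfFinitePresentation G₀.hom]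
    (H₀ : Over (D.obj i₀)) (ι₀ : H₀ ⟶ G₀) [IsClosedImmersion ι₀.left]
    [LocallyOfFinitePresentation ι₀.left]
    (hH : ∃ _ : GrpObj (Red.bc (c.π.app i₀) H₀), IsMonHom ((Over.pullback (c.π.app i₀)).map ι₀)) :
    (∃ (i : I) (a : i ⟶ i₀) (_ : GrpObj (Red.bc (D.map a) H₀)),
        IsMonHom ((Over.pullback (D.map a)).map ι₀)) ∧
    ((∃ (_ : GrpObj (Red.bc (c.π.app i₀) H₀)) (_ : IsMonHom ((Over.pullback (c.π.app i₀)).map ι₀)),
        AlgGrp.IsNormalHom ((Over.pullback (c.π.app i₀)).map ι₀)) →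
      ∃ (i : I) (a : i ⟶ i₀) (_ : GrpObj (Red.bc (D.map a) H₀))
        (_ : IsMonHom ((Over.pullback (D.map a)).map ι₀)),
        AlgGrp.IsNormalHom ((Over.pullback (D.map a)).map ι₀)) :=
  main D c hc i₀ G₀ H₀ ι₀ hH

end Groth.Agent.S18878
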