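import Groth.Statements.S1888
import Mathlib
import Groth.Agent.GitQuot.GrpdField
-- import your own Groth.Agent.* helpers here

set_option autoImplicit false
universe u
open CategoryTheory CategoryTheory.Limits AlgebraicGeometry
open Grpd

namespace Groth.Agent.S1888

/-- Let (U, R, s, t, c) be a groupoid scheme over S with U the spectrum of a field k, and r a point of R
such that both s and t induce isomorphisms from k to κ(r). Then there is an automorphism of the
scheme R carrying the identity point e to r. (The source's automorphism is x ↦ c(r, x); only the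
existence of an automorphism moving e to r is stated here.) (A groupoid scheme carries U, R, s, t,
c, e, i over S with the groupoid axioms on T-points; 'finite locally free' is finite, flat and
locally of finite presentation; C ⊂ Γ(U) is the ring of functions a with s♯(a) = t♯(a) and M = Spec
C.) -/
theorem result (S : Scheme.{u}) (G : Grpd.GroupoidScheme S) (k : Type u) [Field k] (eU : G.U ≅ Spec (CommRingCat.of k)) (r : G.R) (hs : IsIso (G.s.residueFieldMap r)) (ht : IsIso (G.t.residueFieldMap r)) : ∃ φ : G.R ≅ G.R, φ.hom (G.e (eU.inv (IsLocalRing.closedPoint k))) = r := by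
  have := Groth.GrpdBasic.subsingleton_of_iso_field k eU
  have := Groth.GrpdBasic.isIntegral_of_iso_field k eU
  have hiso : ∀ u : G.U, IsIso (G.U.fromSpecResidueField u) := fun u => by
    have hsurj : Surjective (G.U.fromSpecResidueField u) := ⟨fun v => ⟨IsLocalRing.closedPoint _, Subsingleton.elim _ _⟩⟩
    have hcl : IsClosed (Set.range (G.U.fromSpecResidueField u)) := isClosed_discrete _
    have := IsClosedImmersion.of_isPreimmersion _ hcl
    exact isIso_of_isClosedImmersion_of_surjective _
  let ι := G.R.fromSpecResidueField r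
  have h1 : IsIso (ι ≫ G.s) := by
    have := hiso (G.s r)
    rw [← Scheme.Hom.SpecMap_residueFieldMap_fromSpecResidueField]
    infer_instance
  have h2 : IsIso (ι ≫ G.t) := by
    have := hiso (G.t r)
    rw [← Scheme.Hom.SpecMap_residueFieldMap_fromSpecResidueField]
    infer_instance
  let α : G.U ⟶ G.R := inv (ι ≫ G.s) ≫ ι
  let α' : G.U ⟶ G.R := inv (ι ≫ G.t) ≫ ι
  have hαs : α ≫ G.s = 𝟙 _ := by rw [Category.assoc, IsIso.inv_hom_id]
  have hα't : α' ≫ G.t = 𝟙 _ := by rw [Category.assoc, IsIso.inv_hom_id]
  have hσ : (α ≫ G.t) ≫ α' = α := by simp [α, α']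
  have hτ : (α' ≫ G.s) ≫ α = α' := by simp [α, α']
  let φ := Groth.GrpdBasic.comp G (G.t ≫ α) (𝟙 _) (by rw [Category.assoc, hαs, Category.comp_id, Category.id_comp])
  let ψ := Groth.GrpdBasic.comp G ((G.t ≫ α') ≫ G.i) (𝟙 _)
    (by rw [Category.assoc, G.i_s, Category.assoc, hα't, Category.comp_id, Category.id_comp])
  have hφt : φ ≫ G.t = (G.t ≫ α) ≫ G.t := Groth.GrpdBasic.comp_t ..
  have hψt : ψ ≫ G.t = (G.t ≫ α') ≫ G.s := by
    rw [Groth.GrpdBasic.comp_t, Category.assoc, G.i_t]
  have e1 : φ ≫ ψ = 𝟙 _ := by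
    rw [Groth.GrpdBasic.precomp_comp]
    refine Eq.trans ?_ (Groth.GrpdBasic.inv_comp_cancel G (G.t ≫ α) (𝟙 _)
      (by rw [Category.assoc, hαs, Category.comp_id, Category.id_comp]))
    apply Groth.GrpdBasic.comp_congr
    · rw [← Category.assoc φ, ← Category.assoc φ, hφt, Category.assoc G.t, Category.assoc G.t, hσ]
    · rw [Category.comp_id]
  have e2 : ψ ≫ φ = 𝟙 _ := by
    rw [Groth.GrpdBasic.precomp_comp]
    refine Eq.trans ?_ (Groth.GrpdBasic.comp_inv_comp_cancel G (G.t ≫ α') (𝟙 _)
      (by rw [Category.assoc, G.i_s, Category.assoc, hα't, Category.comp_id, Category.id_comp]))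
    apply Groth.GrpdBasic.comp_congr
    · rw [← Category.assoc ψ, hψt, Category.assoc G.t, Category.assoc G.t, hτ]
    · rw [Category.comp_id]
  refine ⟨⟨φ, ψ, e1, e2⟩, ?_⟩
  have he : G.e ≫ φ = α := by
    rw [Groth.GrpdBasic.precomp_comp]
    refine Eq.trans ?_ (Groth.GrpdBasic.comp_unit G α hαs)
    apply Groth.GrpdBasic.comp_congr
    · rw [← Category.assoc, G.e_t, Category.id_comp]
    · rw [Category.comp_id, Category.id_comp]
  rw [← Scheme.Hom.comp_apply, he]
  rw [Scheme.Hom.comp_apply]
  exact Scheme.fromSpecResidueField_apply _ _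

end Groth.Agent.S1888
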