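import Groth.Statements.S18882
import Groth.Agent.Misc5Fact.Factor

set_option autoImplicit false
universe u
open CategoryTheory AlgebraicGeometry
open RegImm

namespace Groth.Agent.S18882

/-- Let S be a Noetherian separated scheme all of whose local rings are regular, and let f : X ⟶ S be
quasi-projective in the sense that f is an open immersion followed by a projective morphism (the
relative Proj of a quasi-coherent graded algebra generated by its degree-one part, of finite type).
Then f = i ≫ p for a closed immersion i : X ⟶ W and a smooth morphism p : W ⟶ S which is again an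
open immersion followed by a projective morphism. -/
theorem result {X S : Scheme.{u}}
    (f : X ⟶ S) [IsNoetherian S] [S.IsSeparated] (hS : ∀ s : S, IsRegularLocalRing (S.presheaf.stalk s))
    (hf : ∃ (Z : Scheme.{u}) (v : X ⟶ Z) (q : Z ⟶ S), IsOpenImmersion v ∧ RelProj.IsProjective q ∧ v ≫ q = f) :
    ∃ (W : Scheme.{u}) (i : X ⟶ W) (p : W ⟶ S), IsClosedImmersion i ∧ Smooth p ∧
      (∃ (P : Scheme.{u}) (v : W ⟶ P) (q : P ⟶ S), IsOpenImmersion v ∧ RelProj.IsProjective q ∧ v ≫ q = p) ∧
      i ≫ p = f := by
  exact Groth.Misc5Fact.exists_smooth_quasiProjective_factor f hS hf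

end Groth.Agent.S18882
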