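import Groth.Statements.S18887
import Mathlib.RingTheory.Trace.Basic
import Mathlib.LinearAlgebra.Matrix.Charpoly.Coeff
import Mathlib.Tactic

set_option autoImplicit false
universe u v
open DblCov

namespace Groth.Agent.S18887

/-- Let A be a commutative ring in which 2 is invertible and B a commutative A-algebra which is free of
rank 2 as an A-module and whose trace form tr : B → A has kernel free of rank 1 over A. Then σ(b) =
tr(b) − b defines an A-algebra endomorphism σ of B with σ ≠ id and σ ∘ σ = id, and the elements
fixed by σ are exactly the image of A in B. -/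
theorem result {A : Type u} {B : Type v} [CommRing A] [CommRing B]
    [Algebra A B] (h2 : IsUnit (2 : A)) [Module.Free A B] [Module.Finite A B]
    (hrk : Module.finrank A B = 2)
    [Module.Free A (LinearMap.ker (Algebra.trace A B))]
    (hker : Module.finrank A (LinearMap.ker (Algebra.trace A B)) = 1) :
    ∃ σ : B →ₐ[A] B, (∀ b : B, σ b = algebraMap A B (Algebra.trace A B b) - b) ∧
      σ ≠ AlgHom.id A B ∧ σ.comp σ = AlgHom.id A B ∧
      ∀ b : B, σ b = b ↔ b ∈ Set.range (algebraMap A B) := by
  classical
  rcases subsingleton_or_nontrivial A with h | h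
  · simp at hrk
  obtain ⟨bas⟩ : Nonempty (Module.Basis (Fin 2) A B) := ⟨Module.finBasisOfFinrankEq A B hrk⟩
  set T := Algebra.trace A B
  set am := algebraMap A B
  have hT1 : T 1 = 2 := by simp [T, Algebra.trace_eq_matrix_trace bas, Matrix.trace]
  have hTA : ∀ a : A, T (am a) = a * 2 := fun a => by
    rw [show am a = a • (1 : B) from Algebra.algebraMap_eq_smul_one a, map_smul, hT1, smul_eq_mul]
  let N : B → A := fun b => (Algebra.leftMulMatrix bas b).det
  have hCH : ∀ b : B, b * b = am (T b) * b - am (N b) := fun b => by
    have h := Matrix.aeval_self_charpoly (Algebra.leftMulMatrix bas b)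
    rw [Polynomial.aeval_algHom_apply, Matrix.charpoly_fin_two] at h
    simp only [map_sub, map_add, map_mul, map_pow, Polynomial.aeval_X, Polynomial.aeval_C] at h
    have h' : b ^ 2 - am (Algebra.leftMulMatrix bas b).trace * b + am (N b) = 0 :=
      Algebra.leftMulMatrix_injective bas (by simpa [am, N] using h)
    rw [← Algebra.trace_eq_matrix_trace bas b] at h'
    linear_combination h'
  obtain ⟨u, hu⟩ := h2
  have h2B : ∀ z : B, am 2 * z = 0 → z = 0 := fun z hz => by
    have := congrArg (fun t => am (↑u⁻¹ : A) * t) hz
    simpa [← mul_assoc, ← map_mul, ← hu] using this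
  have hmul : ∀ x y : B, am (T (x * y)) - x * y = (am (T x) - x) * (am (T y) - y) := fun x y => by
    have hp : am 2 * (x * y) = am (T x) * y + am (T y) * x - am (N (x + y) - N x - N y) := by
      have := hCH (x + y)
      simp only [map_add, map_sub, map_ofNat] at this ⊢
      linear_combination this - hCH x - hCH y
    have hT : T (x * y) * 2 = T x * T y * 2 - (N (x + y) - N x - N y) * 2 := by
      have h := congrArg T hp
      have e : ∀ (a : A) (z : B), T (am a * z) = a * T z := fun a z => by
        rw [show am a * z = a • z from (Algebra.smul_def a z).symm, map_smul, smul_eq_mul]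
      rw [map_sub T, map_add T, e, e, e, hTA] at h
      linear_combination h
    have hT' : T (x * y) = T x * T y - (N (x + y) - N x - N y) := by
      refine (hu ▸ u.isUnit : IsUnit (2 : A)).mul_right_cancel ?_
      rw [hT]; ring
    rw [hT', map_sub, map_mul]
    simp only [map_ofNat] at hp
    linear_combination -hp
  refine ⟨AlgHom.ofLinearMap ((Algebra.linearMap A B).comp T - LinearMap.id) ?_ ?_, fun b => rfl, ?_, ?_, ?_⟩
  · simp [hT1, map_ofNat]; norm_num
  · intro x y; exact hmul x y
  · intro hid
    have : ∀ z : LinearMap.ker T, z = 0 := fun z => by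
      have := DFunLike.congr_fun hid (z : B)
      change am (T z) - (z : B) = z at this
      rw [LinearMap.mem_ker.mp z.2, map_zero] at this
      refine Subtype.ext (h2B _ ?_)
      rw [map_ofNat]
      linear_combination -this
    have : Subsingleton (LinearMap.ker T) := ⟨fun a b => by rw [this a, this b]⟩
    rw [Module.finrank_zero_of_subsingleton] at hker
    exact zero_ne_one hker
  · ext b
    show am (T (am (T b) - b)) - (am (T b) - b) = b
    rw [map_sub T, hTA, show am (T b * 2 - T b) = am (T b) by congr 1; ring]
    ring
  · intro b
    change am (T b) - b = b ↔ b ∈ Set.range am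
    constructor
    · intro hb
      refine ⟨(↑u⁻¹ : A) * T b, ?_⟩
      have hb' : am (T b) = am 2 * b := by rw [map_ofNat]; linear_combination hb
      show am _ = b
      rw [map_mul, hb', ← mul_assoc, ← map_mul, ← hu, Units.inv_mul, map_one, one_mul]
    · rintro ⟨a, rfl⟩
      show am (T (am a)) - am a = am a
      rw [hTA, map_mul, map_ofNat]; ring

end Groth.Agent.S18887
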