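import Groth.Statements.S18888
import Mathlib

set_option autoImplicit false
universe u v w
open CAlg

namespace Groth.Agent.S18888

/-- Let A be a unique factorisation domain in which 2 is invertible, with fraction field K, and let L ⊇
K be a quadratic extension field (of degree 2 over K) containing an element y ∉ K whose square is a
squarefree element d of A. Then the integral closure of A in L equals the A-subalgebra A[y]
generated by y. -/
theorem result {A : Type u} {K : Type v} {L : Type w}
    [CommRing A] [IsDomain A] [UniqueFactorizationMonoid A] [Field K] [Algebra A K] [IsFractionRing A K]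
    [Field L] [Algebra K L] [Algebra A L] [IsScalarTower A K L]
    (h2 : IsUnit (2 : A)) (hL : Module.finrank K L = 2)
    (d : A) (hd : Squarefree d) (y : L) (hy : y * y = algebraMap A L d)
    (hyK : y ∉ Set.range (algebraMap K L)) :
    integralClosure A L = Algebra.adjoin A {y} := by
  refine le_antisymm ?_ ?_
  · intro z hz
    have hzint : IsIntegral A z := hz
    have hyz : ∃ a b : K, z = algebraMap K L a + algebraMap K L b * y := by
      have hli : LinearIndependent K ![(1 : L), y] := by
        rw [LinearIndependent.pair_iff]
        intro s t h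
        by_cases ht : t = 0
        · subst ht
          exact ⟨by simpa [Algebra.smul_def] using h, rfl⟩
        · refine absurd ⟨-s / t, ?_⟩ hyK
          have ht' : algebraMap K L t ≠ 0 := by simpa using ht
          rw [Algebra.smul_def, Algebra.smul_def, mul_one] at h
          rw [map_div₀, map_neg, div_eq_iff ht']
          linear_combination -h
      have hsp : Submodule.span K (Set.range ![(1 : L), y]) = ⊤ := by
        have : FiniteDimensional K L := Module.finite_of_finrank_eq_succ hL
        exact hli.span_eq_top_of_card_eq_finrank (by simp [hL])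
      obtain ⟨c, hc⟩ := (Submodule.mem_span_range_iff_exists_fun K).1 (hsp ▸ Submodule.mem_top :
        z ∈ Submodule.span K (Set.range ![(1 : L), y]))
      exact ⟨c 0, c 1, by simp [Fin.sum_univ_two, Algebra.smul_def] at hc; exact hc.symm⟩
    obtain ⟨a, b, rfl⟩ := hyz
    have hint : ∀ k : K, IsIntegral A k → ∃ a₀ : A, algebraMap A K a₀ = k :=
      fun k hk => IsIntegrallyClosed.isIntegral_iff.1 hk
    have hAK : ∀ x : A, algebraMap A L x = algebraMap K L (algebraMap A K x) :=
      fun x => IsScalarTower.algebraMap_apply A K L x
    obtain ⟨a₀, ha₀, b₀, hb₀⟩ : ∃ a₀, algebraMap A K a₀ = a ∧ ∃ b₀, algebraMap A K b₀ = b := by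
      by_cases hb : b = 0
      · subst hb
        have h1 : IsIntegral A a := (isIntegral_algebraMap_iff (algebraMap K L).injective).1 (by simpa using hzint)
        obtain ⟨a₀, ha₀⟩ := hint a h1
        exact ⟨a₀, ha₀, 0, map_zero _⟩
      · set z := algebraMap K L a + algebraMap K L b * y with hz'
        let q : Polynomial K := Polynomial.X ^ 2 + Polynomial.C (-2 * a) * Polynomial.X +
          Polynomial.C (a ^ 2 - b ^ 2 * algebraMap A K d)
        have hq2 : q.natDegree = 2 := by simp only [q]; compute_degree!
        have hqm : q.Monic := by simp only [q]; monicity!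
        have hqz : Polynomial.aeval z q = 0 := by
          simp only [q, map_add, map_mul, map_pow, Polynomial.aeval_X, Polynomial.aeval_C, map_sub,
            map_neg, map_ofNat, ← hAK, ← hy, hz']
          ring
        have hzK : IsIntegral K z := ⟨q, hqm, hqz⟩
        have hdeg : 2 ≤ (minpoly K z).natDegree := by
          rw [minpoly.two_le_natDegree_iff hzK]
          rintro ⟨k, hk⟩
          refine hyK ⟨(k - a) / b, ?_⟩
          have hb' : algebraMap K L b ≠ 0 := by simpa using hb
          rw [map_div₀, map_sub, hk, hz', div_eq_iff hb']
          ring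
        have hmin : minpoly K z = q := (Polynomial.eq_of_monic_of_dvd_of_natDegree_le
          (minpoly.monic hzK) hqm (minpoly.dvd K z hqz) (by omega)).symm
        have hmap : q = (minpoly A z).map (algebraMap A K) :=
          hmin ▸ minpoly.isIntegrallyClosed_eq_field_fractions' K hzint
        have h2' : (algebraMap A K) 2 ≠ 0 := (h2.map _).ne_zero
        obtain ⟨i2, hi2⟩ := h2.exists_left_inv
        have hi2' : algebraMap A K i2 * 2 = 1 := by rw [← map_ofNat (algebraMap A K) 2, ← map_mul, hi2, map_one]
        have ha : a = algebraMap A K (-(i2 * (minpoly A z).coeff 1)) := by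
          have := congrArg (fun f => Polynomial.coeff f 1) hmap
          simp [q, Polynomial.coeff_X_pow, Polynomial.coeff_map, Polynomial.coeff_C, -map_sub, -map_mul, -map_neg, -map_pow] at this
          rw [map_neg, map_mul, ← this]
          linear_combination (-a) * hi2'
        refine ⟨_, ha.symm, ?_⟩
        have hb2 : b ^ 2 * algebraMap A K d = algebraMap A K ((-(i2 * (minpoly A z).coeff 1)) ^ 2 - (minpoly A z).coeff 0) := by
          have := congrArg (fun f => Polynomial.coeff f 0) hmap
          simp [q, Polynomial.coeff_X_pow, Polynomial.coeff_map, Polynomial.coeff_C, -map_sub, -map_mul, -map_neg, -map_pow] at this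
          rw [map_sub, map_pow, ← ha]
          linear_combination -this
        obtain ⟨num, den, hcop, hbq⟩ := IsFractionRing.exists_reduced_fraction (A := A) b
        set e := (-(i2 * (minpoly A z).coeff 1)) ^ 2 - (minpoly A z).coeff 0
        have hden : algebraMap A K (den : A) ≠ 0 := IsFractionRing.to_map_ne_zero_of_mem_nonZeroDivisors den.2
        have hbn : b * algebraMap A K (den : A) = algebraMap A K num := by
          rw [← hbq, IsLocalization.mk'_spec]
        have hmul : num ^ 2 * d = e * (den : A) ^ 2 := IsFractionRing.injective A K (by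
          rw [map_mul, map_mul, map_pow, map_pow, ← hbn, ← hb2]
          ring)
        have hdvd : (den : A) ^ 2 ∣ d := (IsRelPrime.pow (hcop.symm)).dvd_of_dvd_mul_left ⟨e, by rw [hmul]; ring⟩
        have hu : IsUnit (den : A) := hd _ (by rwa [← pow_two])
        obtain ⟨w, hw⟩ := hu.exists_right_inv
        refine ⟨num * w, ?_⟩
        rw [map_mul, ← hbn, mul_assoc, ← map_mul, hw, map_one, mul_one]
    rw [← ha₀, ← hb₀, ← hAK, ← hAK]
    exact Subalgebra.add_mem _ (Subalgebra.algebraMap_mem _ _)
      (Subalgebra.mul_mem _ (Subalgebra.algebraMap_mem _ _) (Algebra.subset_adjoin rfl))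
  · refine Algebra.adjoin_le ?_
    rintro _ rfl
    exact ⟨Polynomial.X ^ 2 - Polynomial.C d, Polynomial.monic_X_pow_sub_C d two_ne_zero, by simp [sq, hy]⟩

end Groth.Agent.S18888
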