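import Groth.Statements.S18889
import Groth.Agent.Calg8.InvariantsFP

set_option autoImplicit false
universe u v w
open CAlg

namespace Groth.Agent.S18889

/-- Let R be a commutative ring, A a commutative R-algebra of finite presentation, and G a finite group
acting on A by R-algebra automorphisms such that the order of G is invertible in R. Then the ring of
invariants A^G is an R-algebra of finite presentation. (The source takes G to be a group of
automorphisms of A; here G acts through a possibly non-faithful action, which changes nothing since
the invariants and the invertibility of the order only depend on the image of G.) -/
theorem result {R : Type u} {A : Type v} [CommRing R] [CommRing A]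
    [Algebra R A] [Algebra.FinitePresentation R A]
    {G : Type w} [Group G] [Finite G] [MulSemiringAction G A] [SMulCommClass G R A]
    (hG : IsUnit ((Nat.card G : ℕ) : R)) :
    Algebra.FinitePresentation R (FixedPoints.subalgebra R A G) := by
  have := Fintype.ofFinite G
  exact Groth.Calg8.InvFP.invariants_finitePresentation (by rwa [← Nat.card_eq_fintype_card])

end Groth.Agent.S18889
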