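import Groth.Statements.S1889
import Mathlib
import Groth.Agent.GitQuot.GrpdField
-- import your own Groth.Agent.* helpers here

set_option autoImplicit false
universe u
open CategoryTheory CategoryTheory.Limits AlgebraicGeometry
open Grpd

namespace Groth.Agent.S1889

/-- Let (U, R, s, t, c) be a groupoid scheme over S with U the spectrum of a field, W ⊆ R open and a : Z
→ R a morphism. Then the image of Z ×_{s∘a, U, t} W → R ×_{s,U,t} R → R (composition) is open. (A
groupoid scheme carries U, R, s, t, c, e, i over S with the groupoid axioms on T-points; 'finite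
locally free' is finite, flat and locally of finite presentation; C ⊂ Γ(U) is the ring of functions
a with s♯(a) = t♯(a) and M = Spec C.) -/
theorem result (S : Scheme.{u}) (G : Grpd.GroupoidScheme S) (k : Type u) [Field k] (eU : G.U ≅ Spec (CommRingCat.of k)) (W : G.R.Opens) (Z : Scheme.{u}) (a : Z ⟶ G.R) : IsOpen (Set.range ⇑(pullback.lift (pullback.fst (a ≫ G.s) (W.ι ≫ G.t) ≫ a) (pullback.snd (a ≫ G.s) (W.ι ≫ G.t) ≫ W.ι) ((Category.assoc _ _ _).trans (pullback.condition.trans (Category.assoc _ _ _).symm)) ≫ G.c)) := by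
  rw [Groth.GrpdBasic.comp_comp_c]
  let m := pullback.map (a ≫ G.s) (W.ι ≫ G.t) (a ≫ G.s) G.t (𝟙 Z) W.ι (𝟙 G.U) (by simp) (by simp)
  have key : Groth.GrpdBasic.comp G
      (pullback.lift (pullback.fst (a ≫ G.s) (W.ι ≫ G.t) ≫ a) (pullback.snd (a ≫ G.s) (W.ι ≫ G.t) ≫ W.ι)
        ((Category.assoc _ _ _).trans (pullback.condition.trans (Category.assoc _ _ _).symm)) ≫ pullback.fst _ _)
      (pullback.lift (pullback.fst (a ≫ G.s) (W.ι ≫ G.t) ≫ a) (pullback.snd (a ≫ G.s) (W.ι ≫ G.t) ≫ W.ι)
        ((Category.assoc _ _ _).trans (pullback.condition.trans (Category.assoc _ _ _).symm)) ≫ pullback.snd _ _)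
      (by simp [pullback.condition]) =
      m ≫ Groth.GrpdBasic.comp G (pullback.fst (a ≫ G.s) G.t ≫ a) (pullback.snd _ _)
        (by rw [Category.assoc]; exact pullback.condition) := by
    rw [Groth.GrpdBasic.precomp_comp]
    apply Groth.GrpdBasic.comp_congr
    · simp only [m, pullback.map, pullback.lift_fst, ← Category.assoc, Category.comp_id]
    · simp only [m, pullback.map, pullback.lift_snd]
  rw [key, show (⇑(m ≫ _) : _ → G.R) = _ ∘ ⇑m from funext fun x => Scheme.Hom.comp_apply _ _ x, Set.range_comp]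
  refine Groth.GrpdBasic.isOpenMap_translate G k eU a _ ?_
  have : IsOpenImmersion m := inferInstance
  exact m.isOpenEmbedding.isOpen_range

end Groth.Agent.S1889
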