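import Groth.Statements.S18890
import Mathlib

set_option autoImplicit false
universe u v w w'
open CAlg
open scoped TensorProduct

namespace Groth.Agent.S18890

/-- Let R be a commutative ring, G a finite group whose order is invertible in R, M an R-module with an
R-linear action ρ of G and N an arbitrary R-module. Then the natural map M^G ⊗_R N → M ⊗_R N induced
by the inclusion of the invariants is injective, and its image is the submodule of invariants of M
⊗_R N under the action ρ ⊗ 1 (G acting on the first factor). (The source lets G be a group of
R-automorphisms of M; a possibly non-faithful linear action changes nothing.) -/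
theorem result {R : Type u} [CommRing R]
    {G : Type v} [Group G] [Finite G] (hG : IsUnit ((Nat.card G : ℕ) : R))
    {M : Type w} {N : Type w'} [AddCommGroup M] [Module R M] [AddCommGroup N] [Module R N]
    (ρ : Representation R G M) :
    Function.Injective (LinearMap.rTensor N ρ.invariants.subtype) ∧
      LinearMap.range (LinearMap.rTensor N ρ.invariants.subtype) =
        (ρ.tprod (Representation.trivial R G N)).invariants := by
  classical
  cases nonempty_fintype G
  have : Invertible (Fintype.card G : R) := (Nat.card_eq_fintype_card (α := G) ▸ hG).invertible
  have hp := Representation.isProj_averageMap ρ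
  let p : M →ₗ[R] ρ.invariants := LinearMap.codRestrict _ (Representation.averageMap ρ) hp.map_mem
  have hr : p ∘ₗ ρ.invariants.subtype = LinearMap.id :=
    LinearMap.ext fun x => Subtype.ext (hp.map_id x x.2)
  have hli : ∀ y, LinearMap.rTensor N p (LinearMap.rTensor N ρ.invariants.subtype y) = y := fun y => by
    rw [← LinearMap.rTensor_comp_apply, hr, LinearMap.rTensor_id, LinearMap.id_apply]
  refine ⟨Function.LeftInverse.injective hli, le_antisymm ?_ fun y hy => ?_⟩
  · rintro _ ⟨y, rfl⟩ g
    induction y using TensorProduct.induction_on with
    | zero => simp
    | tmul x n =>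
      show TensorProduct.map (ρ g) _ ((x : M) ⊗ₜ[R] n) = (x : M) ⊗ₜ[R] n
      rw [TensorProduct.map_tmul, x.2 g]
      rfl
    | add a b ha hb => rw [map_add, map_add, ha, hb]
  · refine ⟨LinearMap.rTensor N p y, ?_⟩
    have havg : ρ.averageMap = ∑ g : G, ⅟(Fintype.card G : R) • ρ g := by
      refine LinearMap.ext fun x => ?_
      simp [Representation.averageMap, GroupAlgebra.average, Finset.smul_sum]
    rw [← LinearMap.rTensor_comp_apply, LinearMap.subtype_comp_codRestrict, havg]
    have hy' : ∀ g, LinearMap.rTensor N (ρ g) y = y := fun g => hy g
    rw [← LinearMap.coe_rTensorHom (M := N) (R := R), map_sum, LinearMap.sum_apply]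
    simp only [map_smul, LinearMap.smul_apply, LinearMap.coe_rTensorHom, hy']
    rw [Finset.sum_const, Finset.card_univ, ← Nat.cast_smul_eq_nsmul R,
      smul_smul, mul_invOf_self, one_smul]

end Groth.Agent.S18890
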