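import Groth.Statements.S18891
import Groth.Agent.PropsBasic2.Misc

set_option autoImplicit false
universe u
open CategoryTheory CategoryTheory.Limits AlgebraicGeometry
open Mor

namespace Groth.Agent.S18891

/-- Let f : X → Y be a morphism of schemes which is proper and formally unramified, and such that for
every algebraically closed field Ω the map X(Ω) → Y(Ω), g ↦ g ≫ f, is injective. Then f is a closed
immersion. -/
theorem result {X Y : Scheme.{u}} (f : X ⟶ Y)
    [IsProper f] [FormallyUnramified f]
    (hinj : ∀ (Ω : Type u) [Field Ω] [IsAlgClosed Ω],
      Function.Injective (fun g : Spec (CommRingCat.of Ω) ⟶ X => g ≫ f)) :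
    IsClosedImmersion f := by
  exact Groth.PropsBasic2.isClosedImmersion_of_injective_points f hinj

end Groth.Agent.S18891
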