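import Groth.Statements.S18892
import Groth.Agent.CurveBridge.LineField
import Groth.Agent.FunFld1.RationalUnique

set_option autoImplicit false
set_option backward.isDefEq.respectTransparency.types false
universe u
open CategoryTheory CategoryTheory.Limits AlgebraicGeometry
open Curves
open scoped Groth.CurveBridge

namespace Groth.Agent.S18892

/-- Let k be an algebraically closed field of characteristic different from 2 and X a hyperelliptic
curve over k, i.e. p : X → Spec k is smooth and proper, X is connected of dimension one and of genus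
dim_k H¹(X, O_X) ≥ 2, and X admits a double cover of P¹_k (a k-morphism which is finite and flat of
rank 2 at every point). A hyperelliptic involution is a k-endomorphism σ ≠ id of X with σ ≫ h = h
for some such double cover h. Then any two hyperelliptic involutions of X coincide. -/
theorem result (k : Type u) [Field k] [IsAlgClosed k] (h2 : (2 : k) ≠ 0)
    {X : Scheme.{u}} (p : X ⟶ Spec (CommRingCat.of k)) [IsProper p] [Smooth p] [ConnectedSpace ↥X]
    (hX : topologicalKrullDim ↥X = 1) (hg : 2 ≤ @Curv2.genus k _ X ⟨p⟩)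
    (h₁ h₂ : X ⟶ CohB1.ProjSpace 1 k) (hh₁ : h₁ ≫ CohB1.ProjSpace.toSpec 1 k = p)
    (hh₂ : h₂ ≫ CohB1.ProjSpace.toSpec 1 k = p)
    [IsFinite h₁] [Flat h₁] (hr₁ : ∀ y : ↥(CohB1.ProjSpace 1 k), h₁.finrank y = 2)
    [IsFinite h₂] [Flat h₂] (hr₂ : ∀ y : ↥(CohB1.ProjSpace 1 k), h₂.finrank y = 2)
    (σ τ : X ⟶ X) (hσ : σ ≫ h₁ = h₁) (hσ₁ : σ ≠ 𝟙 X) (hτ : τ ≫ h₂ = h₂) (hτ₁ : τ ≠ 𝟙 X) :
    σ = τ := by
  classical
  letI : X.Over (Spec (CommRingCat.of k)) := ⟨p⟩
  haveI : IsProper (X ↘ Spec (CommRingCat.of k)) := ‹IsProper p›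
  haveI : Smooth (X ↘ Spec (CommRingCat.of k)) := ‹Smooth p›
  haveI := Groth.CurveBridge.isIntegral_of_smooth k X
  have h : Groth.CurveBridge.IsRegCurve X := Groth.CurveBridge.isRegCurve_of_smooth k X hX
  have hK := Groth.CurveBridge.isFunctionField (k := k) (X := X) hX
  have hgK : 2 ≤ FunFld.genus k X.functionField := by rw [← Groth.CurveBridge.genus_eq h hK]; exact hg
  have hP : topologicalKrullDim ↥(CohB1.ProjSpace 1 k) = 1 := by
    rw [Groth.Variety2.PSpace.dim_projSpace]; rfl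
  obtain ⟨e₁, t₁, htr₁, ht₁, hfix₁⟩ := Groth.CurveBridge.LineField.exists_double_field h h₁ hh₁ hr₁
  obtain ⟨e₂, t₂, htr₂, ht₂, hfix₂⟩ := Groth.CurveBridge.LineField.exists_double_field h h₂ hh₂ hr₂
  have heq := Groth.FunFld1.RationalUnique.adjoin_eq_of_double hK hgK htr₁ ht₁ htr₂ ht₂
  have hση := Groth.CurveBridge.LineField.map_generic_of_comp h h₁ e₁ hP σ hσ
  have hτη := Groth.CurveBridge.LineField.map_generic_of_comp h h₂ e₂ hP τ hτ
  have hσk : σ ≫ (X ↘ Spec (CommRingCat.of k)) = X ↘ Spec (CommRingCat.of k) := by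
    show σ ≫ p = p
    rw [← hh₁, ← Category.assoc, hσ]
  have hτk : τ ≫ (X ↘ Spec (CommRingCat.of k)) = X ↘ Spec (CommRingCat.of k) := by
    show τ ≫ p = p
    rw [← hh₂, ← Category.assoc, hτ]
  let A : ∀ (u : X ⟶ X) (hu : u (genericPoint X) = genericPoint X),
      u ≫ (X ↘ Spec (CommRingCat.of k)) = X ↘ Spec (CommRingCat.of k) → (X.functionField →ₐ[k] X.functionField) :=
    fun u hu hs => { Groth.CurveBridge.AutField.fieldMap u hu with
      commutes' := fun c => Groth.CurveBridge.AutField.fieldMap_algebraMap u hu hs c }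
  have uniq : ∀ (u v : X ⟶ X) (hu : u (genericPoint X) = genericPoint X) (hv : v (genericPoint X) = genericPoint X)
      (hsu : u ≫ (X ↘ Spec (CommRingCat.of k)) = X ↘ Spec (CommRingCat.of k))
      (hsv : v ≫ (X ↘ Spec (CommRingCat.of k)) = X ↘ Spec (CommRingCat.of k)),
      A u hu hsu = A v hv hsv → u = v := fun u v hu hv hsu hsv he =>
    (Groth.CurveBridge.AutField.existsUnique_of_algHom k h (A v hv hsv)).unique
      ⟨hsu, hu, congrArg AlgHom.toRingHom he⟩ ⟨hsv, hv, rfl⟩
  have hid : ∀ (u : X ⟶ X) (hu : u (genericPoint X) = genericPoint X)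
      (hs : u ≫ (X ↘ Spec (CommRingCat.of k)) = X ↘ Spec (CommRingCat.of k)),
      u ≠ 𝟙 X → A u hu hs ≠ AlgHom.id k X.functionField := fun u hu hs hne he =>
    hne (uniq u (𝟙 X) hu rfl hs (Category.id_comp _) (he.trans (AlgHom.ext fun z => by
      show z = Groth.CurveBridge.AutField.fieldMap (𝟙 X) rfl z
      rw [Groth.CurveBridge.AutField.fieldMap, Groth.CurveBridge.AutField.fieldHom_id]
      rfl)))
  exact uniq σ τ hση hτη hσk hτk (Groth.FunFld1.RationalUnique.algHom_eq_of_index_two ht₁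
    (hfix₁ σ hση hσ) (fun z hz => hfix₂ τ hτη hτ z (heq ▸ hz)) (hid σ hση hσk hσ₁) (hid τ hτη hτk hτ₁))

end Groth.Agent.S18892
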