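import Groth.Statements.S18894
import Groth.Agent.CurveExtend.Extend
-- import your own Groth.Agent.* helpers here

set_option autoImplicit false
universe u
open CategoryTheory CategoryTheory.Limits AlgebraicGeometry
open Curves

namespace Groth.Agent.S18894

/-- Together with the accompanying claim: let R be a discrete valuation ring with fraction field K, η :
Spec K → Spec R the generic point, and f : X → Spec R, g : Y → Spec R two smooth curves of genus n ≥
1 (proper and smooth, with geometrically connected fibres of dimension one and genus n). Then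
restriction to the generic fibre is a bijection from R-isomorphisms X ≅ Y onto K-isomorphisms X_η ≅
Y_η: every isomorphism φ of the generic fibres over Spec K is induced by a unique morphism e : X → Y
compatible with the first projections, and this e is an isomorphism over Spec R. -/
theorem result {R : Type u} [CommRing R] [IsDomain R]
    [IsDiscreteValuationRing R] {X Y : Scheme.{u}}
    (f : X ⟶ Spec (CommRingCat.of R)) (g : Y ⟶ Spec (CommRingCat.of R))
    [IsProper f] [Smooth f] [GeometricallyConnected f] [IsProper g] [Smooth g] [GeometricallyConnected g]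
    (hXdim : ∀ s : ↥(Spec (CommRingCat.of R)), topologicalKrullDim ↥(f.fiber s) = 1)
    (hYdim : ∀ s : ↥(Spec (CommRingCat.of R)), topologicalKrullDim ↥(g.fiber s) = 1)
    (n : ℕ) (hn : 1 ≤ n)
    (hXgen : ∀ s : ↥(Spec (CommRingCat.of R)),
      letI : (f.fiber s).Over (Spec ((Spec (CommRingCat.of R)).residueField s)) := ⟨f.fiberToSpecResidueField s⟩
      Curv2.genus ((Spec (CommRingCat.of R)).residueField s) (f.fiber s) = n)
    (hYgen : ∀ s : ↥(Spec (CommRingCat.of R)),
      letI : (g.fiber s).Over (Spec ((Spec (CommRingCat.of R)).residueField s)) := ⟨g.fiberToSpecResidueField s⟩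
      Curv2.genus ((Spec (CommRingCat.of R)).residueField s) (g.fiber s) = n)
    (η : Spec (CommRingCat.of (FractionRing R)) ⟶ Spec (CommRingCat.of R))
    (hη : η = Spec.map (CommRingCat.ofHom (algebraMap R (FractionRing R))))
    (φ : pullback f η ≅ pullback g η) (hφ : φ.hom ≫ pullback.snd g η = pullback.snd f η) :
    ∃ e : X ≅ Y, e.hom ≫ g = f ∧ pullback.fst f η ≫ e.hom = φ.hom ≫ pullback.fst g η ∧
      ∀ e' : X ⟶ Y, pullback.fst f η ≫ e' = φ.hom ≫ pullback.fst g η → e' = e.hom := by
  obtain ⟨π, hπ⟩ := IsDiscreteValuationRing.exists_irreducible R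
  haveI := Groth.CurveExtend.isLocalization_away_uniformizer hπ (FractionRing R)
  haveI : IsOpenImmersion (Spec.map (CommRingCat.ofHom (algebraMap R (FractionRing R)))) :=
    IsOpenImmersion.of_isLocalization π
  have hr := Groth.CurveExtend.range_generic (R := R) (K := FractionRing R)
  rw [← hη] at hr
  haveI : IsOpenImmersion η := hη ▸ ‹IsOpenImmersion (Spec.map (CommRingCat.ofHom (algebraMap R (FractionRing R))))›
  refine Groth.CurveExtend.exists_iso f g (pullback.fst f η) (φ.hom ≫ pullback.fst g η) ?_ ?_ ?_
    (hXdim _) (hYdim _) (hn.trans (hXgen _).ge) (hn.trans (hYgen _).ge)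
  · rw [Category.assoc, pullback.condition, pullback.condition (f := g), ← Category.assoc, ← hφ,
      Category.assoc]
  · rw [Scheme.Pullback.range_fst, hr]
  · rw [Scheme.Hom.comp_base, TopCat.coe_comp, Set.range_comp, φ.hom.surjective.range_eq, Set.image_univ,
      Scheme.Pullback.range_fst, hr]

end Groth.Agent.S18894
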