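import Groth.Statements.S18896
import Groth.Agent.FibreVA.StructureEpi
import Groth.Agent.FibreVA.RpushFree
import Groth.Agent.FibreVA.CurveCohom
import Groth.Agent.Limits.BC0.Consequences

set_option autoImplicit false
universe u
open CategoryTheory CategoryTheory.Limits AlgebraicGeometry
open Curves

namespace Groth.Agent.S18896

/-- Let f : X → S be a smooth curve of genus g over a scheme S, i.e. f is proper and smooth and its
fibres are geometrically connected of dimension one and genus g (g the dimension of H¹ of the
structure sheaf of each fibre over its residue field). Then R¹f_*(O_X) is a locally free O_S-module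
of rank g. -/
theorem result {X S : Scheme.{u}} (f : X ⟶ S)
    [IsProper f] [Smooth f] [GeometricallyConnected f]
    (hdim : ∀ s : S, topologicalKrullDim ↥(f.fiber s) = 1) (g : ℕ)
    (hgen : ∀ s : S, letI : (f.fiber s).Over (Spec (S.residueField s)) := ⟨f.fiberToSpecResidueField s⟩
      Curv2.genus (S.residueField s) (f.fiber s) = g)
    [HasInjectiveResolutions X.Modules] :
    FlatMod.IsFinLocFreeOfRank g ((Coh.Rpush f 1).obj (Coh.structureModule X)) := by
  haveI : Flat f := inferInstance
  have hinv : PicF.IsInvertible (Coh.structureModule X) := Groth.EulerDeg.isInvertible_structureModule X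
  haveI := Groth.PicAux.isQCoh_of_isInvertible hinv
  have hfl := Groth.CohBase.isFlatOver_of_isInvertible f hinv
  have hF := Groth.PropsBasic.LocFree.isFP_of_isFinLocFree _
    (Groth.LocFree.isFinLocFree_of_rank (Groth.LocFree.isInvertible_iff_ofRank_one.1 hinv))
  refine Groth.FibreVA.RpushFree.isFinLocFreeOfRank_Rpush 1 g (fun s => ?_) (fun y => ?_)
  · letI : (f.fiber s).Over (Spec (S.residueField s)) := ⟨f.fiberToSpecResidueField s⟩
    haveI := Groth.PicAux.isIso_pullUnit (f.fiberι s)
    exact ((Groth.EulerDeg.hEquiv (S.residueField s) (asIso (Groth.PicAux.pullUnit (f.fiberι s))) 1).finrank_eq).trans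
      (hgen s)
  · let k := S.residueField y
    letI : (f.fiber y).Over (Spec (CommRingCat.of k)) := ⟨f.fiberToSpecResidueField y⟩
    haveI : IsProper ((f.fiber y) ↘ Spec (CommRingCat.of k)) :=
      MorphismProperty.pullback_snd (P := @IsProper) _ _ ‹_›
    haveI : IsProper (f.fiberToSpecResidueField y) :=
      MorphismProperty.pullback_snd (P := @IsProper) _ _ ‹_›
    haveI : Smooth (f.fiberToSpecResidueField y) :=
      MorphismProperty.pullback_snd (P := @Smooth) _ _ ‹_›
    haveI : GeometricallyConnected (f.fiberToSpecResidueField y) :=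
      MorphismProperty.pullback_snd (P := @GeometricallyConnected) _ _ ‹_›
    haveI : GeometricallyReduced (f.fiberToSpecResidueField y) :=
      Groth.AlgGrp1.geometricallyReduced_of_smooth (k := k) _
    haveI := Groth.CohC3.isNoetherian_of_proper k (f.fiber y)
    have h2 : Subsingleton (CohIII.fiberH f (Coh.structureModule X) y 2) :=
      Groth.EulerDeg.subsingleton_HH_of_dim_le_one _ (hdim y).le _ 2 le_rfl
    have hepi := Groth.FibreVA.StructureEpi.epi_bc0_structure (f.fiber_fac y)
      (fun W => (Groth.GrpschAbsch.H0General.app_bijective (f.fiberToSpecResidueField y) W).2)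
    obtain ⟨V, hV, M, hy⟩ := Groth.CohC3.BC.exists_local hF hfl y
    refine ⟨V, hV, M, hy, ?_, (Groth.CohC3.BC.mem_freeLocus_of_vanish hV M hy 2 h2).1.2⟩
    let z : Spec (S.residueField y) := IsLocalRing.closedPoint (S.residueField y)
    have hpt : ∀ w : Spec (S.residueField y), S.fromSpecResidueField y w = y :=
      fun w => Scheme.fromSpecResidueField_apply y w
    have hK : IsField Γ(Spec (S.residueField y), ⊤) :=
      MulEquiv.isField (Field.toIsField (S.residueField y))
        (Scheme.ΓSpecIso (S.residueField y)).commRingCatIsoToRingEquiv.toMulEquiv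
    have hmem := Groth.Limits.BC0.mem_freeLocus_of_epi M
      (IsPullback.of_hasPullback f (S.fromSpecResidueField y)) hV (isAffineOpen_top _)
      (fun w _ => show S.fromSpecResidueField y w ∈ V by rw [hpt w]; exact hy) hK (z := z) trivial hepi
    have e : (⟨S.fromSpecResidueField y z, by rw [hpt z]; exact hy⟩ : V) = ⟨y, hy⟩ :=
      Subtype.ext (hpt z)
    rwa [show hV.primeIdealOf _ = hV.primeIdealOf ⟨y, hy⟩ from congrArg _ e] at hmem

end Groth.Agent.S18896
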