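import Groth.Statements.S18897
import Groth.Agent.QuotCurve.Basic
import Groth.Agent.Curves1.CurveMor.Smooth
import Groth.Agent.AbVarMul.Consequences
import Groth.Agent.CurveBridge.BaseChange
import Groth.Agent.NeronArea.SmoothLocusNMP
import Groth.Agent.Calg4.NormalizationChar

set_option autoImplicit false
set_option backward.isDefEq.respectTransparency.types false
universe u
open CategoryTheory CategoryTheory.Limits AlgebraicGeometry
open Curves

namespace Groth.Agent.S18897

/-- Let k be a field, p : X → Spec k a smooth, proper, geometrically connected curve (X of dimension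
one), and G a finite group acting faithfully on X by k-automorphisms, with the order of G invertible
in k. Let π : X → Y be a k-morphism which is a quotient of X by G: π is affine and G-invariant and
over every open of Y the sections of O_Y are exactly the G-invariant sections of O_X. Then Y is a
smooth, proper, geometrically connected curve over k and π is a cover of degree |G|: finite, flat,
of rank |G| at every point. (The source says projective where this row says proper; for curves over
a field the two agree.) -/
theorem result (k : Type u) [Field k]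
    {X Y : Scheme.{u}} (p : X ⟶ Spec (CommRingCat.of k)) [IsProper p] [Smooth p] [GeometricallyConnected p]
    (hX : topologicalKrullDim ↥X = 1)
    {G : Type u} [Group G] [Finite G] (hG : ((Nat.card G : ℕ) : k) ≠ 0)
    (ρ : G →* Aut X) (hρ : Function.Injective ρ) (hρk : ∀ g : G, (ρ g).hom ≫ p = p)
    (π : X ⟶ Y) (q : Y ⟶ Spec (CommRingCat.of k)) (hπ : π ≫ q = p) (hquot : SGA1.IsQuot ρ π) :
    IsProper q ∧ Smooth q ∧ GeometricallyConnected q ∧ topologicalKrullDim ↥Y = 1 ∧
      IsFinite π ∧ Flat π ∧ ∀ y : Y, π.finrank y = Nat.card G := by
  classical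
  letI : X.Over (Spec (CommRingCat.of k)) := ⟨p⟩
  letI : Y.Over (Spec (CommRingCat.of k)) := ⟨q⟩
  haveI : IsProper (X ↘ Spec (CommRingCat.of k)) := ‹IsProper p›
  haveI : Smooth (X ↘ Spec (CommRingCat.of k)) := ‹Smooth p›
  haveI : GeometricallyConnected (X ↘ Spec (CommRingCat.of k)) := ‹GeometricallyConnected p›
  haveI := Groth.CurveBridge.connectedSpace_of_geometrically X k
  haveI := Groth.CurveBridge.isIntegral_of_smooth k X
  haveI : X.IsSeparated := ⟨by rw [← terminal.comp_from p]; infer_instance⟩
  haveI := hquot.affine
  haveI : IsProper (π ≫ q) := hπ ▸ ‹IsProper p›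
  haveI : IsFinite π := Groth.Pi1Quot.isFinite_of_comp hquot q
  haveI : Surjective π := Groth.Pi1Quot.surjective hquot
  haveI : LocallyOfFiniteType q := Groth.Pi1Quot.locallyOfFiniteType_quot hquot q
  haveI : IsSeparated q := Groth.Pi1Quot.isSeparated_of_comp hquot q
  haveI : UniversallyClosed q := UniversallyClosed.of_comp_surjective π q
  haveI : IsProper q := {}
  haveI := Groth.QuotCurve.isIntegral_quot hquot
  haveI : IsLocallyNoetherian Y := LocallyOfFiniteType.isLocallyNoetherian q
  have hnY : Pi1.IsNormalScheme Y := Groth.QuotCurve.isNormalScheme_quot hquot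
    (Groth.NeronArea.isNormalScheme_of_smooth p
      (Groth.Calg4.NormChar.isNormalScheme_specField _ (Field.toIsField k)))
  have hY : topologicalKrullDim ↥Y = 1 :=
    (Groth.AbVarMul.topologicalKrullDim_eq_of_finite_surjective π).symm.trans hX
  have e : π (genericPoint X) = genericPoint Y := by
    have h := (genericPoint_spec X).image π.continuous
    rw [Set.image_univ, π.surjective.range_eq, closure_univ] at h
    exact h.eq (genericPoint_spec Y)
  haveI hflat : Flat π := Groth.Curves1.CurveMor.flat_of_dominant π e (fun y => (hnY y).2) hY.le
  haveI : LocallyOfFiniteType (Y ↘ Spec (CommRingCat.of k)) := ‹LocallyOfFiniteType q›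
  have hs : Smooth q := Groth.Curves1.CurveMor.smooth_of_flat_surjective (k := k) π hπ
  have hgc : GeometricallyConnected q := by
    refine ⟨fun K _ y Z fst snd h => ?_⟩
    let u : pullback p y ⟶ Z := h.lift (pullback.fst p y ≫ π) (pullback.snd p y)
      (by rw [Category.assoc, hπ, pullback.condition])
    haveI : ConnectedSpace ↥(pullback p y) :=
      GeometricallyConnected.geometrically_connectedSpace y _ _ (IsPullback.of_hasPullback p y)
    have hbig : IsPullback (pullback.fst p y) (u ≫ snd) (π ≫ q) y := by
      rw [hπ, h.lift_snd]
      exact IsPullback.of_hasPullback p y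
    have hsq : IsPullback (pullback.fst p y) u π fst := hbig.of_bot (h.lift_fst _ _ _).symm h
    haveI : Surjective u :=
      MorphismProperty.of_isPullback (P := (@Surjective : MorphismProperty Scheme.{u})) hsq ‹_›
    exact u.surjective.connectedSpace u.continuous
  refine ⟨inferInstance, hs, hgc, hY, inferInstance, hflat, fun y => ?_⟩
  rw [π.isLocallyConstant_finrank.apply_eq_of_preconnectedSpace y (genericPoint Y),
    Groth.Agent.S15003.finrank_genericPoint π e]
  exact Groth.QuotCurve.homDegree_quot hquot hρ e

end Groth.Agent.S18897
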