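import Groth.Statements.S18899
import Mathlib

set_option autoImplicit false
universe u v w
open CAlg

namespace Groth.Agent.S18899

/-- Let A be a commutative ring on which a finite group G acts by ring automorphisms, with ring of
invariants A^G, and let K be a field. If two ring homomorphisms f₁, f₂ : A → K have the same
restriction to A^G, then f₂ = f₁ ∘ γ for some γ ∈ G. -/
theorem result {A : Type u} [CommRing A] {G : Type v} [Group G] [Finite G]
    [MulSemiringAction G A] {K : Type w} [Field K] (f₁ f₂ : A →+* K)
    (h : ∀ a : A, (∀ g : G, g • a = a) → f₁ a = f₂ a) :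
    ∃ γ : G, ∀ a : A, f₂ a = f₁ (γ • a) := by
  classical
  cases nonempty_fintype G
  by_contra hne
  push Not at hne
  choose a ha using hne
  let e := Fintype.equivFin G
  let b : Polynomial A := ∑ g, Polynomial.monomial (e g : ℕ) (a g)
  have hcoeff : ∀ g, b.coeff (e g : ℕ) = a g := by
    intro g
    simp only [b, Polynomial.finset_sum_coeff, Polynomial.coeff_monomial]
    rw [Finset.sum_eq_single g (fun x _ hx => if_neg fun hh => hx (e.injective (Fin.ext hh))) (by simp), if_pos rfl]
  let P := MulSemiringAction.charpoly G b
  have hP : P.map (Polynomial.mapRingHom f₁) = P.map (Polynomial.mapRingHom f₂) := by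
    refine Polynomial.ext fun n => Polynomial.ext fun m => ?_
    simp only [Polynomial.coeff_map, Polynomial.coe_mapRingHom]
    refine h _ fun g => ?_
    have hs := congrArg (fun p : Polynomial A => p.coeff m) (MulSemiringAction.smul_coeff_charpoly b n g)
    simpa [Polynomial.coeff_smul, P] using hs
  have h0 : (P.map (Polynomial.mapRingHom f₂)).eval (b.map f₂) = 0 := by
    simp only [P, MulSemiringAction.charpoly_eq, Polynomial.map_prod, Polynomial.eval_prod]
    exact Finset.prod_eq_zero (Finset.mem_univ (1 : G)) (by simp)
  rw [← hP] at h0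
  simp only [P, MulSemiringAction.charpoly_eq, Polynomial.map_prod, Polynomial.eval_prod,
    Polynomial.map_sub, Polynomial.map_X, Polynomial.map_C, Polynomial.eval_sub, Polynomial.eval_X, Polynomial.eval_C,
    Finset.prod_eq_zero_iff, sub_eq_zero, Polynomial.coe_mapRingHom] at h0
  obtain ⟨γ, -, hγ⟩ := h0
  have := congrArg (fun p : Polynomial K => p.coeff (e γ : ℕ)) hγ
  simp only [Polynomial.coeff_map, Polynomial.coeff_smul, hcoeff] at this
  exact ha γ this

end Groth.Agent.S18899
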