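import Groth.Statements.S1890
-- import your own Groth.Agent.* helpers here

set_option autoImplicit false
universe u
open CategoryTheory CategoryTheory.Limits AlgebraicGeometry
open Grpd

namespace Groth.Agent.S1890

/-- Take a quasi-compact immersion j : V → Spec A and an element f ∈ A such that j⁻¹(D(f)) is affine and
j(V) ∩ V(f) is closed in Spec A. Then V is affine. -/
theorem result (A : Type u) [CommRing A] (V : Scheme.{u}) (j : V ⟶ Spec (CommRingCat.of A)) [IsImmersion j] [QuasiCompact j] (f : A) (haff : IsAffineOpen (j ⁻¹ᵁ PrimeSpectrum.basicOpen f)) (hcl : IsClosed (Set.range ⇑j ∩ PrimeSpectrum.zeroLocus {f})) : IsAffine V := by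
  have : IsAffineHom j := by
    refine isAffineHom_of_forall_exists_isAffineOpen j fun y => ?_
    by_cases hy : y ∈ Set.range ⇑j ∩ PrimeSpectrum.zeroLocus {f}
    · obtain ⟨⟨x, rfl⟩, -⟩ := hy
      have hmem : j x ∈ j.coborderRange := subset_coborder ⟨x, rfl⟩
      obtain ⟨U, hU, hxU, hUle⟩ := TopologicalSpace.Opens.isBasis_iff_nbhd.mp
        (Spec (CommRingCat.of A)).isBasis_affineOpens hmem
      refine ⟨U, hxU, hU, ?_⟩
      have hU' : IsAffineOpen (j.coborderRange.ι ⁻¹ᵁ U) := by
        refine (j.coborderRange.ι).isAffineOpen_iff_of_isOpenImmersion.mp ?_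
        rwa [Scheme.Hom.image_preimage_eq_opensRange_inf, Scheme.Opens.opensRange_ι, inf_eq_right.mpr hUle]
      have hpre := hU'.preimage j.liftCoborder
      rwa [← Scheme.Hom.comp_preimage, Scheme.Hom.liftCoborder_ι] at hpre
    · obtain ⟨_, ⟨h, rfl⟩, hyh, hsub⟩ := PrimeSpectrum.isTopologicalBasis_basic_opens
        |>.exists_subset_of_mem_open hy hcl.isOpen_compl
      refine ⟨PrimeSpectrum.basicOpen h, hyh, ?_, ?_⟩
      · have := (isAffineOpen_top (Spec (CommRingCat.of A))).basicOpen ((Scheme.ΓSpecIso (CommRingCat.of A)).inv h)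
        rwa [basicOpen_eq_of_affine] at this
      · let g : Γ(Spec (CommRingCat.of A), ⊤) := (Scheme.ΓSpecIso (CommRingCat.of A)).inv h
        have hg : (Spec (CommRingCat.of A)).basicOpen g = PrimeSpectrum.basicOpen h :=
          basicOpen_eq_of_affine h
        have hle : j ⁻¹ᵁ PrimeSpectrum.basicOpen h ≤ j ⁻¹ᵁ PrimeSpectrum.basicOpen f := by
          intro x hx
          show j x ∈ PrimeSpectrum.basicOpen f
          by_contra hc
          exact hsub (a := j x) hx ⟨⟨x, rfl⟩, by
            intro z hz
            rw [Set.mem_singleton_iff.mp hz]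
            exact not_not.mp hc⟩
        have := haff.basicOpen (V.presheaf.map (homOfLE le_top).op (j.appTop g))
        rw [Scheme.basicOpen_res, ← Scheme.preimage_basicOpen_top, hg, inf_eq_right.mpr hle] at this
        exact this
  exact isAffine_of_isAffineHom j

end Groth.Agent.S1890
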