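import Groth.Statements.S18900
import Groth.Agent.Misc6.FinCovCover
import Groth.Agent.LocFree.FP
import Groth.Agent.Pi1Quot.Local
import Mathlib.RingTheory.Trace.Basic
import Mathlib.GroupTheory.OrderOfElement

set_option autoImplicit false
universe u
open CategoryTheory CategoryTheory.Limits AlgebraicGeometry
open DblCov

namespace Groth.Agent.S18900

section algebra

variable {R B : Type*} [CommRing R] [CommRing B] [Algebra R B]

theorem conj_mul (b : Module.Basis (Fin 2) R B) (x y : B) :
    (algebraMap R B (Algebra.trace R B x) - x) * (algebraMap R B (Algebra.trace R B y) - y) =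
      algebraMap R B (Algebra.trace R B (x * y)) - x * y := by
  rw [mul_comm x y]
  apply Algebra.leftMulMatrix_injective b
  simp only [map_mul, map_sub, AlgHom.commutes, Algebra.trace_eq_matrix_trace b]
  ext i j
  fin_cases i <;> fin_cases j <;>
    simp [Matrix.mul_apply, Fin.sum_univ_two, Matrix.trace_fin_two, Matrix.algebraMap_matrix_apply] <;> ring

theorem trace_algebraMap_two (b : Module.Basis (Fin 2) R B) (r : R) :
    Algebra.trace R B (algebraMap R B r) = 2 * r := by
  rw [Algebra.trace_algebraMap_of_basis b r, Fintype.card_fin, two_nsmul, two_mul]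

theorem algebraMap_injective_of_basis (b : Module.Basis (Fin 2) R B) :
    Function.Injective (algebraMap R B) := by
  intro r s h
  have := congrArg (fun z => b.repr (z * b 0) 0) h
  simpa [← Algebra.smul_def] using this

end algebra

section conj

variable {X Y : Scheme.{u}} (f : X ⟶ Y)

abbrev alg (V : Y.Opens) : Algebra Γ(Y, V) Γ(X, f ⁻¹ᵁ V) := (f.app V).hom.toAlgebra

noncomputable abbrev rs {U V : Y.Opens} (h : V ≤ U) : Γ(X, f ⁻¹ᵁ U) →+* Γ(X, f ⁻¹ᵁ V) :=
  (X.presheaf.map (homOfLE (f.preimage_mono h)).op).hom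

theorem rs_app {U V : Y.Opens} (h : V ≤ U) (r : Γ(Y, U)) :
    rs f h (f.app U r) = f.app V (Y.presheaf.map (homOfLE h).op r) :=
  (RingHom.congr_fun (congrArg CommRingCat.Hom.hom (f.naturality (homOfLE h).op)) r).symm

/-- `f_* O_X` has compatible bases of size two below `V`. -/
structure Chart (V : Y.Opens) where
  basis : ∀ W : Y.Opens, W ≤ V → (letI := alg f W; Module.Basis (Fin 2) Γ(Y, W) Γ(X, f ⁻¹ᵁ W))
  res_basis : ∀ (W W' : Y.Opens) (h : W ≤ V) (h' : W' ≤ W) (i : Fin 2),
    rs f h' (letI := alg f W; basis W h i) = (letI := alg f W'; basis W' (h'.trans h) i)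

noncomputable def tr (V : Y.Opens) (x : Γ(X, f ⁻¹ᵁ V)) : Γ(Y, V) :=
  letI := alg f V
  Algebra.trace Γ(Y, V) Γ(X, f ⁻¹ᵁ V) x

variable {f}

theorem tr_res {V W W' : Y.Opens} (c : Chart f V) (h : W ≤ V) (h' : W' ≤ W) (a : Γ(X, f ⁻¹ᵁ W)) :
    Y.presheaf.map (homOfLE h').op (tr f W a) = tr f W' (rs f h' a) := by
  letI := alg f W
  letI := alg f W'
  classical
  let bV := c.basis W h
  let bW := c.basis W' (h'.trans h)
  have hb : ∀ i, rs f h' (bV i) = bW i := c.res_basis W W' h h'
  have hrepr : ∀ (x : Γ(X, f ⁻¹ᵁ W)) (i : Fin 2),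
      bW.repr (rs f h' x) i = Y.presheaf.map (homOfLE h').op (bV.repr x i) := by
    intro x i
    have e : rs f h' x = ∑ k, Y.presheaf.map (homOfLE h').op (bV.repr x k) • bW k := by
      conv_lhs => rw [← bV.sum_repr x]
      rw [map_sum]
      refine Finset.sum_congr rfl fun k _ => ?_
      rw [Algebra.smul_def, map_mul, hb k, Algebra.smul_def]
      exact congrArg (· * bW k) (rs_app f h' _)
    rw [e]
    exact congrFun (bW.repr_sum_self _) i
  change Y.presheaf.map (homOfLE h').op (Algebra.trace _ _ a) = Algebra.trace _ _ (rs f h' a)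
  rw [Algebra.trace_eq_matrix_trace bV, Algebra.trace_eq_matrix_trace bW, Matrix.trace, Matrix.trace,
    map_sum]
  refine Finset.sum_congr rfl fun i _ => ?_
  simp only [Matrix.diag_apply, Algebra.leftMulMatrix_eq_repr_mul]
  rw [← hrepr, map_mul, hb]

/-- The conjugation. -/
noncomputable def conj {V : Y.Opens} (c : Chart f V) (W : Y.Opens) (h : W ≤ V) :
    Γ(X, f ⁻¹ᵁ W) →+* Γ(X, f ⁻¹ᵁ W) where
  toFun x := f.app W (tr f W x) - x
  map_one' := by
    letI := alg f W
    have h1 : tr f W 1 = 2 := by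
      show Algebra.trace _ _ _ = _
      rw [← map_one (algebraMap Γ(Y, W) Γ(X, f ⁻¹ᵁ W)), trace_algebraMap_two (c.basis W h), mul_one]
    rw [h1, map_ofNat]
    ring
  map_zero' := by
    letI := alg f W
    simp [tr]
  map_add' x y := by
    letI := alg f W
    simp only [tr, map_add]
    ring
  map_mul' x y := by
    letI := alg f W
    exact (conj_mul (c.basis W h) x y).symm

theorem conj_app {V : Y.Opens} (c : Chart f V) (W : Y.Opens) (h : W ≤ V) (r : Γ(Y, W)) :
    conj c W h (f.app W r) = f.app W r := by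
  letI := alg f W
  show f.app W (tr f W (algebraMap _ _ r)) - f.app W r = _
  rw [tr, trace_algebraMap_two (c.basis W h), map_mul, map_ofNat]
  ring

theorem conj_conj {V : Y.Opens} (c : Chart f V) (W : Y.Opens) (h : W ≤ V) (x : Γ(X, f ⁻¹ᵁ W)) :
    conj c W h (conj c W h x) = x := by
  show conj c W h (f.app W (tr f W x) - x) = x
  rw [map_sub, conj_app]
  show f.app W (tr f W x) - (f.app W (tr f W x) - x) = x
  ring

theorem res_conj {V V' W W' : Y.Opens} (c : Chart f V) (c' : Chart f V') (h : W ≤ V) (hW' : W' ≤ V')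
    (h' : W' ≤ W) (x : Γ(X, f ⁻¹ᵁ W)) :
    rs f h' (conj c W h x) = conj c' W' hW' (rs f h' x) := by
  show rs f h' (f.app W (tr f W x) - x) = f.app W' (tr f W' (rs f h' x)) - rs f h' x
  rw [map_sub, rs_app, tr_res c h h']

variable (f) in
theorem exists_chart [IsFinite f] [Flat f] [LocallyOfFinitePresentation f]
    (hrk : ∀ y : Y, f.finrank y = 2) (y : Y) :
    ∃ (V : Y.Opens) (_ : Chart f V), IsAffineOpen V ∧ y ∈ V := by
  obtain ⟨V, s, hV, hy, hs⟩ := Groth.LocFree.exists_affine_basis_ofRank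
    (Groth.Misc6.FinCov.pushforward_of_isCover f 2 ⟨⟨inferInstance, inferInstance, inferInstance⟩, hrk⟩) y
  refine ⟨V, ⟨fun W h => letI := alg f W; (Groth.LocFree.basisOfBasis' hs h).map
      { toFun := fun x => x
        invFun := fun x => x
        left_inv := fun _ => rfl
        right_inv := fun _ => rfl
        map_add' := fun _ _ => rfl
        map_smul' := fun _ _ => rfl }, fun W W' h h' i => ?_⟩, hV, hy⟩
  letI := alg f W
  letI := alg f W'
  rw [Module.Basis.map_apply, Module.Basis.map_apply, Groth.LocFree.basisOfBasis'_apply,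
    Groth.LocFree.basisOfBasis'_apply]
  exact Groth.PicAux.res_res (M := (Scheme.Modules.pushforward f).obj (Coh.structureModule X)) h h' (s i)

/-- The conjugation of an affine chart, as a morphism to `X`. -/
noncomputable def conjMap [IsAffineHom f] {V : Y.Opens} (c : Chart f V) {W : Y.Opens} (hW : IsAffineOpen W) (h : W ≤ V) :
    Spec Γ(X, f ⁻¹ᵁ W) ⟶ X :=
  Spec.map (CommRingCat.ofHom (conj c W h)) ≫ (hW.preimage f).fromSpec

theorem res_conjMap [IsAffineHom f] {V V' : Y.Opens} (c : Chart f V) (c' : Chart f V') {W W' : Y.Opens}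
    (hW : IsAffineOpen W) (hW' : IsAffineOpen W') (h : W ≤ V) (h' : W' ≤ V') (hle : W' ≤ W) :
    Spec.map (X.presheaf.map (homOfLE (f.preimage_mono hle)).op) ≫ conjMap c hW h = conjMap c' hW' h' := by
  rw [conjMap, conjMap, ← (hW.preimage f).map_fromSpec (hW'.preimage f) (homOfLE (f.preimage_mono hle)).op,
    ← Spec.map_comp_assoc, ← Spec.map_comp_assoc]
  congr 2
  ext x
  exact res_conj c c' h h' hle x

theorem conjMap_comp [IsAffineHom f] {V : Y.Opens} (c : Chart f V) {W : Y.Opens} (hW : IsAffineOpen W) (h : W ≤ V) :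
    conjMap c hW h ≫ f = (hW.preimage f).fromSpec ≫ f := by
  rw [conjMap, Category.assoc, ← IsAffineOpen.SpecMap_appLE_fromSpec f hW (hW.preimage f) le_rfl,
    ← Spec.map_comp_assoc, ← Scheme.Hom.app_eq_appLE]
  congr 2
  ext r
  exact conj_app c W h r

end conj

/-- Let f : X → Y be a double cover, i.e. a finite, flat, locally finitely presented morphism of rank 2
at every point, and assume 2 is invertible in O_Y(Y). Then X carries a Y-automorphism σ with σ ∘ σ =
id such that f is the quotient of X by the group generated by σ: f is affine and σ-invariant, and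
over every open subset of Y the sections of O_Y are exactly the σ-invariant sections of O_X. (The
source adds that σ has order exactly 2, which holds as soon as X is non-empty.) -/
theorem result {X Y : Scheme.{u}} (f : X ⟶ Y)
    [IsFinite f] [Flat f] [LocallyOfFinitePresentation f] (hrk : ∀ y : Y, f.finrank y = 2)
    (h2 : IsUnit (2 : Γ(Y, ⊤))) :
    ∃ σ : Aut X, σ.hom ≫ f = f ∧ σ * σ = 1 ∧ SGA1.IsQuot (Subgroup.zpowers σ).subtype f := by
  choose V c hV hy using exists_chart f hrk
  let 𝒰 : X.OpenCover :=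
    { I₀ := Y
      X := fun y => Spec Γ(X, f ⁻¹ᵁ V y)
      f := fun y => ((hV y).preimage f).fromSpec
      mem₀ := by
        rw [Scheme.presieve₀_mem_precoverage_iff]
        refine ⟨fun x => ⟨f.base x, ?_⟩, inferInstance⟩
        rw [((hV _).preimage f).range_fromSpec]
        exact hy _ }
  have hcompat : ∀ y y', pullback.fst (𝒰.f y) (𝒰.f y') ≫ conjMap (c y) (hV y) le_rfl =
      pullback.snd (𝒰.f y) (𝒰.f y') ≫ conjMap (c y') (hV y') le_rfl := by
    intro y y'
    refine Scheme.hom_ext_of_forall _ _ fun q => ?_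
    let p := pullback.fst (𝒰.f y) (𝒰.f y') ≫ 𝒰.f y
    have : IsOpenImmersion p := inferInstance
    have h1 : f.base (p.base q) ∈ V y ⊓ V y' := by
      constructor
      · have h : p.base q ∈ Set.range ((hV y).preimage f).fromSpec.base :=
          ⟨(pullback.fst (𝒰.f y) (𝒰.f y')).base q, rfl⟩
        rw [((hV y).preimage f).range_fromSpec] at h
        exact h
      · have h : p.base q ∈ Set.range ((hV y').preimage f).fromSpec.base :=
          ⟨(pullback.snd (𝒰.f y) (𝒰.f y')).base q,
            (congrArg (fun m : pullback (𝒰.f y) (𝒰.f y') ⟶ X => m.base q) pullback.condition).symm⟩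
        rw [((hV y').preimage f).range_fromSpec] at h
        exact h
    obtain ⟨_, ⟨W, hW, rfl⟩, hxW, hWV⟩ :=
      Y.isBasis_affineOpens.exists_subset_of_mem_open h1 (V y ⊓ V y').2
    have hW1 : W ≤ V y := fun z hz => (hWV hz).1
    have hW2 : W ≤ V y' := fun z hz => (hWV hz).2
    let a : Spec Γ(X, f ⁻¹ᵁ W) ⟶ pullback (𝒰.f y) (𝒰.f y') :=
      pullback.lift (Spec.map (X.presheaf.map (homOfLE (f.preimage_mono hW1)).op))
        (Spec.map (X.presheaf.map (homOfLE (f.preimage_mono hW2)).op))
        (((hV y).preimage f).map_fromSpec (hW.preimage f) _ |>.trans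
          (((hV y').preimage f).map_fromSpec (hW.preimage f) _).symm)
    have ha : a ≫ p = (hW.preimage f).fromSpec := by
      rw [pullback.lift_fst_assoc]
      exact ((hV y).preimage f).map_fromSpec (hW.preimage f) _
    have : IsOpenImmersion (a ≫ p) := ha ▸ inferInstance
    have : IsOpenImmersion a := IsOpenImmersion.of_comp a p
    refine ⟨a.opensRange, ?_, ?_⟩
    · obtain ⟨w, hw⟩ : p.base q ∈ Set.range (hW.preimage f).fromSpec.base := by
        rw [(hW.preimage f).range_fromSpec]; exact hxW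
      refine ⟨w, p.isOpenEmbedding.injective ?_⟩
      rw [← hw, ← ha]
      rfl
    · rw [← cancel_epi a.isoOpensRange.hom, Scheme.Hom.isoOpensRange_hom_ι_assoc,
        Scheme.Hom.isoOpensRange_hom_ι_assoc, pullback.lift_fst_assoc, pullback.lift_snd_assoc,
        res_conjMap (c y) (c y) (hV y) hW le_rfl hW1 hW1, res_conjMap (c y') (c y) (hV y') hW le_rfl hW1 hW2]
  let s : X ⟶ X := 𝒰.glueMorphisms (fun y => conjMap (c y) (hV y) le_rfl) hcompat
  have hs : ∀ y, ((hV y).preimage f).fromSpec ≫ s = conjMap (c y) (hV y) le_rfl :=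
    𝒰.ι_glueMorphisms _ hcompat
  have hsf : s ≫ f = f := 𝒰.hom_ext _ _ fun y => by
    show ((hV y).preimage f).fromSpec ≫ s ≫ f = ((hV y).preimage f).fromSpec ≫ f
    rw [reassoc_of% (hs y), conjMap_comp]
  have hss : s ≫ s = 𝟙 X := 𝒰.hom_ext _ _ fun y => by
    show ((hV y).preimage f).fromSpec ≫ s ≫ s = ((hV y).preimage f).fromSpec ≫ 𝟙 X
    rw [reassoc_of% (hs y), conjMap, Category.assoc, hs y, conjMap, ← Spec.map_comp_assoc, Category.comp_id]
    have e : CommRingCat.ofHom (conj (c y) (V y) le_rfl) ≫ CommRingCat.ofHom (conj (c y) (V y) le_rfl) = 𝟙 _ := by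
      ext x
      exact conj_conj (c y) (V y) le_rfl x
    rw [e, Spec.map_id]
    exact Category.id_comp _
  let σ : Aut X := ⟨s, s, hss, hss⟩
  have hσ : σ * σ = 1 := Iso.ext hss
  have hinv : ∀ g : Subgroup.zpowers σ, ((Subgroup.zpowers σ).subtype g).hom ≫ f = f := by
    rintro ⟨g, n, rfl⟩
    show (σ ^ n).hom ≫ f = f
    rcases Int.even_or_odd' n with ⟨m, rfl | rfl⟩
    · rw [zpow_mul, zpow_two, hσ, one_zpow]
      exact Category.id_comp f
    · rw [zpow_add, zpow_mul, zpow_two, hσ, one_zpow, one_mul, zpow_one]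
      exact hsf
  have : Finite (Subgroup.zpowers σ) :=
    (isOfFinOrder_iff_pow_eq_one.2 ⟨2, two_pos, by rw [pow_two, hσ]⟩).finite_zpowers
  refine ⟨σ, hsf, hσ, Groth.Pi1Quot.isQuot_of_local hinv fun y => ⟨V y, hV y, hy y, ?_, fun x hx => ?_⟩⟩
  · letI := alg f (V y)
    exact algebraMap_injective_of_basis ((c y).basis (V y) le_rfl)
  · have h1 := (Groth.Pi1Quot.forall_smul_iff hinv (V y) x).1 hx ⟨σ, Subgroup.mem_zpowers σ⟩
    have e : s.appLE (f ⁻¹ᵁ V y) (f ⁻¹ᵁ V y) (SGA1.preimage_le_of_inv _ f hinv ⟨σ, Subgroup.mem_zpowers σ⟩ (V y)) =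
        CommRingCat.ofHom (conj (c y) (V y) le_rfl) := by
      refine Spec.map_injective ?_
      rw [← cancel_mono ((hV y).preimage f).fromSpec,
        IsAffineOpen.SpecMap_appLE_fromSpec s ((hV y).preimage f) ((hV y).preimage f), hs y]
      rfl
    have h3 : f.app (V y) (tr f (V y) x) - x = x :=
      ((congrArg (fun m : Γ(X, f ⁻¹ᵁ V y) ⟶ Γ(X, f ⁻¹ᵁ V y) => m x) e).symm).trans h1
    obtain ⟨w, hw⟩ := (h2.map (Y.presheaf.map (homOfLE (le_top : V y ≤ ⊤)).op).hom).exists_right_inv
    rw [map_ofNat] at hw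
    refine ⟨tr f (V y) x * w, ?_⟩
    have h4 := congrArg (f.app (V y)) hw
    rw [map_mul, map_ofNat, map_one] at h4
    rw [map_mul]
    linear_combination (f.app (V y) w) * h3 + x * h4

end Groth.Agent.S18900
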