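import Groth.Statements.S18902
import Groth.Agent.CohBase.UnitBC
import Groth.Agent.GrpschAbsch.FibreFlat

set_option autoImplicit false
set_option backward.isDefEq.respectTransparency.types false
universe u
open CategoryTheory CategoryTheory.Limits AlgebraicGeometry
open Curves

namespace Groth.Agent.S18902

/-- Let q : P → S be a conic bundle, i.e. a smooth curve of genus 0 over S (q proper and smooth, with
geometrically connected fibres of dimension one and genus dim H¹(P_s, O) = 0). Then the canonical
map O_S → q_*O_P is an isomorphism. -/
theorem result {P S : Scheme.{u}} (q : P ⟶ S)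
    [IsProper q] [Smooth q] [GeometricallyConnected q]
    (hPdim : ∀ s : S, topologicalKrullDim ↥(q.fiber s) = 1)
    (hPgen : ∀ s : S, letI : (q.fiber s).Over (Spec (S.residueField s)) := ⟨q.fiberToSpecResidueField s⟩
      Curv2.genus (S.residueField s) (q.fiber s) = 0) :
    IsIso (ClSub.unitToPush q) := by
  have : LocallyOfFinitePresentation q := inferInstance
  have hr : ∀ s : S, CohIII.fiberRank q (Coh.structureModule P) 0 s = 1 := fun s => by
    let K := S.residueField s
    let C := q.fiber s
    let : C.Over (Spec (CommRingCat.of K)) := ⟨q.fiberToSpecResidueField s⟩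
    have : IsProper (C ↘ Spec (CommRingCat.of K)) :=
      MorphismProperty.pullback_snd _ _ ‹IsProper q›
    have : Smooth (C ↘ Spec (CommRingCat.of K)) :=
      MorphismProperty.pullback_snd _ _ ‹Smooth q›
    have : GeometricallyReduced (C ↘ Spec (CommRingCat.of K)) :=
      Groth.GrpschAbsch.FibreFlat.geometricallyReduced_of_smooth _
    have : GeometricallyConnected (C ↘ Spec (CommRingCat.of K)) :=
      MorphismProperty.pullback_snd _ _ ‹GeometricallyConnected q›
    have hb := Groth.VarietyBC.GlobalField.appTop_bijective (C ↘ Spec (CommRingCat.of K))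
    have hbij : Function.Bijective (algebraMap K Γ(C, ⊤)) :=
      hb.comp (ConcreteCategory.bijective_of_isIso (Scheme.ΓSpecIso (CommRingCat.of K)).inv)
    rw [Groth.CohBase.fiberRank_zero_structure q s]
    exact ((LinearEquiv.ofBijective (Algebra.linearMap K Γ(C, ⊤)) hbij).finrank_eq).symm.trans
      (Module.finrank_self K)
  rw [← Groth.CohBase.pushUnit_eq_unitToPush]
  exact Groth.CohBase.isIso_pushUnit_of_fiberRank q hr

end Groth.Agent.S18902
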