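import Groth.Statements.S18903
import Groth.Agent.QuotCurve.Family
import Groth.Agent.S18900
import Groth.Agent.S2925
import Groth.Agent.CurveBridge.BaseChange
-- import your own Groth.Agent.* helpers here

set_option autoImplicit false
universe u
open CategoryTheory CategoryTheory.Limits AlgebraicGeometry
open Curves

namespace Groth.Agent.S18903

theorem genus_eq_of_isIso {k : Type u} [Field k] {X Y : Scheme.{u}} [X.Over (Spec (CommRingCat.of k))]
    [Y.Over (Spec (CommRingCat.of k))] [IsProper (Y ↘ Spec (CommRingCat.of k))] (e : X ⟶ Y) [IsIso e]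
    (he : e ≫ (Y ↘ Spec (CommRingCat.of k)) = X ↘ Spec (CommRingCat.of k)) :
    Curv2.genus k X = Curv2.genus k Y := by
  haveI : CompactSpace Y := QuasiCompact.compactSpace_of_compactSpace (Y ↘ Spec (CommRingCat.of k))
  haveI := Groth.HilbStab.BC.isSeparated_of_proper k Y
  haveI := Groth.CurveBridge.isQuasicoherent_structure Y
  have hsq : Groth.CohBase.IsBC (A := k) (A' := k) e := by
    have : IsIso (Spec.map (CommRingCat.ofHom (algebraMap k k))) :=
      inferInstanceAs (IsIso (Spec.map (𝟙 (CommRingCat.of k))))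
    refine IsPullback.of_horiz_isIso ⟨?_⟩
    rw [he]
    exact ((congrArg (_ ≫ ·) (Spec.map_id (CommRingCat.of k))).trans (Category.comp_id _)).symm
  obtain ⟨i⟩ := Groth.PicAux.pullback_structure_iso e
  unfold Curv2.genus
  rw [← Groth.HilbStab.BC.finrank_HH_baseChange hsq (Coh.structureModule Y) 1]
  exact (Groth.EulerDeg.finrank_congr i 1).symm

/-- A quotient by a trivial action is an isomorphism. -/
theorem isIso_of_trivial {X Y : Scheme.{u}} {G : Type u} [Group G] [Finite G] {ρ : G →* Aut X}
    {π : X ⟶ Y} (hp : SGA1.IsQuot ρ π) (h : ∀ g, (ρ g).hom = 𝟙 X) : IsIso π := by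
  obtain ⟨v, hv, -⟩ := Groth.Agent.S2925.result ρ π hp X (𝟙 X) fun g => by rw [h, Category.comp_id]
  refine ⟨v, hv, ?_⟩
  exact (Groth.Agent.S2925.result ρ π hp Y π hp.inv).unique (by rw [reassoc_of% hv]) (Category.comp_id _)

/-- Let S be a scheme on which 2 is invertible and f : X → S a smooth curve of genus g ≥ 2 (proper and
smooth, geometrically connected fibres of dimension one and genus g). The following are equivalent:
(a) f = h ≫ q for a conic bundle q : P → S (a smooth curve of genus 0) and a double cover h : X → P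
(finite, flat, locally of finite presentation, of rank 2 at every point); (b) there are an
S-automorphism σ of X with σ ∘ σ = id and a quotient π : X → P of X by the group generated by σ (π
affine and σ-invariant, with O_P the σ-invariant sections of O_X over every open) such that the
induced morphism P → S is a conic bundle. -/
theorem result {X S : Scheme.{u}} (f : X ⟶ S)
    (h2 : IsUnit (2 : Γ(S, ⊤)))
    [IsProper f] [Smooth f] [GeometricallyConnected f]
    (hdim : ∀ s : S, topologicalKrullDim ↥(f.fiber s) = 1) (g : ℕ) (hg : 2 ≤ g)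
    (hgen : ∀ s : S, letI : (f.fiber s).Over (Spec (S.residueField s)) := ⟨f.fiberToSpecResidueField s⟩
      Curv2.genus (S.residueField s) (f.fiber s) = g) :
    (∃ (P : Scheme.{u}) (q : P ⟶ S) (h : X ⟶ P), h ≫ q = f ∧
        IsProper q ∧ Smooth q ∧ GeometricallyConnected q ∧
        (∀ s : S, topologicalKrullDim ↥(q.fiber s) = 1) ∧
        (∀ s : S, letI : (q.fiber s).Over (Spec (S.residueField s)) := ⟨q.fiberToSpecResidueField s⟩
          Curv2.genus (S.residueField s) (q.fiber s) = 0) ∧
        IsFinite h ∧ Flat h ∧ LocallyOfFinitePresentation h ∧ ∀ y : P, h.finrank y = 2) ↔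
      ∃ (σ : Aut X) (P : Scheme.{u}) (π : X ⟶ P) (q : P ⟶ S), σ.hom ≫ f = f ∧ σ * σ = 1 ∧ π ≫ q = f ∧
        SGA1.IsQuot (Subgroup.zpowers σ).subtype π ∧
        IsProper q ∧ Smooth q ∧ GeometricallyConnected q ∧
        (∀ s : S, topologicalKrullDim ↥(q.fiber s) = 1) ∧
        ∀ s : S, letI : (q.fiber s).Over (Spec (S.residueField s)) := ⟨q.fiberToSpecResidueField s⟩
          Curv2.genus (S.residueField s) (q.fiber s) = 0 := by
  constructor
  · rintro ⟨P, q, h, hh, hq1, hq2, hq3, hdimP, hgenP, hfin, hflat, hlfp, hrk⟩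
    have h2P : IsUnit (2 : Γ(P, ⊤)) := by
      have := h2.map (q.appTop).hom
      rwa [map_ofNat] at this
    obtain ⟨σ, hσ, hσ2, hquot⟩ := Groth.Agent.S18900.result h hrk h2P
    exact ⟨σ, P, h, q, by rw [← hh, reassoc_of% hσ], hσ2, hh, hquot, hq1, hq2, hq3, hdimP, hgenP⟩
  · rintro ⟨σ, P, π, q, hσf, hσ2, hπ, hquot, hq1, hq2, hq3, hdimP, hgenP⟩
    subst hπ
    have hord : orderOf σ ∣ 2 := orderOf_dvd_of_pow_eq_one (by rw [sq]; exact hσ2)
    have hfo : IsOfFinOrder σ := orderOf_pos_iff.1 (Nat.pos_of_dvd_of_pos hord two_pos)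
    haveI : Finite (Subgroup.zpowers σ) := hfo.finite_zpowers
    have hcases : ∀ a : Subgroup.zpowers σ, a = 1 ∨ a = ⟨σ, Subgroup.mem_zpowers σ⟩ := by
      rintro ⟨_, n, rfl⟩
      rcases Int.even_or_odd' n with ⟨m, rfl | rfl⟩
      · refine Or.inl (Subtype.ext ?_)
        show σ ^ (2 * m) = 1
        rw [zpow_mul, zpow_ofNat, sq, hσ2, one_zpow]
      · refine Or.inr (Subtype.ext ?_)
        show σ ^ (2 * m + 1) = σ
        rw [zpow_add_one, zpow_mul, zpow_ofNat, sq, hσ2, one_zpow, one_mul]
    let a₀ : Subgroup.zpowers σ := ⟨σ, Subgroup.mem_zpowers σ⟩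
    have hG : IsUnit ((Nat.card (Subgroup.zpowers σ) : ℕ) : Γ(S, ⊤)) := by
      rw [Nat.card_zpowers]
      rcases (Nat.dvd_prime Nat.prime_two).1 hord with h | h <;> rw [h]
      · simp
      · simpa using h2
    have hmove : ∀ s : S, Groth.QuotCurve.bcAct (S.fromSpecResidueField s) hquot.inv q a₀ ≠ 1 := by
      intro s hs
      have htriv : ∀ a, (Groth.QuotCurve.bcAct (S.fromSpecResidueField s) hquot.inv q a).hom = 𝟙 _ := by
        intro a
        rcases hcases a with rfl | rfl
        · rw [map_one]; rfl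
        · exact congrArg Iso.hom hs
      have hqs := Groth.QuotCurve.isQuot_bc hquot hG (q := q) (S.fromSpecResidueField s)
      haveI : IsProper (q.fiberToSpecResidueField s) := MorphismProperty.pullback_snd _ _ inferInstance
      letI : (q.fiber s).Over (Spec (S.residueField s)) := ⟨q.fiberToSpecResidueField s⟩
      letI : ((π ≫ q).fiber s).Over (Spec (S.residueField s)) := ⟨(π ≫ q).fiberToSpecResidueField s⟩
      haveI : IsProper ((q.fiber s) ↘ Spec (CommRingCat.of (S.residueField s))) :=
        ‹IsProper (q.fiberToSpecResidueField s)›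
      let φ : (π ≫ q).fiber s ⟶ q.fiber s := pullback.map (π ≫ q) (S.fromSpecResidueField s) q (S.fromSpecResidueField s) π (𝟙 _) (𝟙 S)
          (by simp) (by simp)
      haveI : IsIso φ := isIso_of_trivial hqs htriv
      have h := genus_eq_of_isIso (k := S.residueField s)
        (X := (π ≫ q).fiber s) (Y := q.fiber s)
        φ ((pullback.lift_snd _ _ _).trans (Category.comp_id _))
      rw [hgen s, hgenP s] at h
      omega
    obtain ⟨-, -, -, -, hf1, hf2, hf3, hrk⟩ := Groth.QuotCurve.family hquot q hG hdim fun s => by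
      rw [injective_iff_map_eq_one]
      intro a ha
      rcases hcases a with rfl | rfl
      · rfl
      · exact absurd ha (hmove s)
    refine ⟨P, q, π, rfl, hq1, hq2, hq3, hdimP, hgenP, hf1, hf2, hf3, fun y => ?_⟩
    rw [hrk y, Nat.card_zpowers]
    refine ((Nat.dvd_prime Nat.prime_two).1 hord).resolve_left fun h1 => hmove (q y) ?_
    have : a₀ = 1 := Subtype.ext (orderOf_eq_one_iff.1 h1)
    rw [this, map_one]

end Groth.Agent.S18903
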