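import Groth.Statements.S18904
import Groth.Agent.FibreVA.CurveFamily
import Groth.Agent.Ega2Proj.PolEmb
import Groth.Agent.DescentBase.QCohFpqc
import Groth.Agent.Ega2Proj.SymGen

set_option autoImplicit false
universe u
open CategoryTheory CategoryTheory.Limits AlgebraicGeometry
open Curves

namespace Groth.Agent.S18904

/-- A smooth curve of genus g ≥ 2, i.e. a proper smooth morphism f : X → S whose fibres are
geometrically connected of dimension one and genus g, is a projective morphism: X is isomorphic over
S to the homogeneous spectrum of a quasi-coherent graded O_S-algebra generated by its degree-one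
part, the latter of finite type. -/
theorem result {X S : Scheme.{u}} (f : X ⟶ S)
    [IsProper f] [Smooth f] [GeometricallyConnected f]
    (hdim : ∀ s : S, topologicalKrullDim ↥(f.fiber s) = 1) (g : ℕ) (hg : 2 ≤ g)
    (hgen : ∀ s : S, letI : (f.fiber s).Over (Spec (S.residueField s)) := ⟨f.fiberToSpecResidueField s⟩
      Curv2.genus (S.residueField s) (f.fiber s) = g) :
    RelProj.IsProjective f := by
  obtain ⟨E, hE, 𝒮, j, hj, P, p, chart, hP, O1, lam, hO1, i, hi, hif, ⟨e⟩⟩ :=
    Groth.FibreVA.CurveFamily.isRelVeryAmple_omegaPow f hdim g hgen 3 hg le_rfl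
  haveI : E.IsQuasicoherent := hE
  have hL := Groth.FibreVA.CurveFamily.isInvertible_omegaPow f hdim g hgen hg 3
  haveI := Groth.PicAux.isQCoh_of_isInvertible hL
  haveI := Groth.PicAux.isQCoh_of_isInvertible (Groth.PicAux.isInvertible_of_iso hL e)
  haveI := Groth.QCohMod.isQCoh_pushforward (M := CohB1.tensorPow (Omega.sheaf f) 3) f
  haveI := Groth.QCohMod.isQCoh_pushforward (M := (Scheme.Modules.pullback i).obj O1) f
  have hft := Groth.FibreVA.CurveFamily.isFT_push_omegaPow f (fun y => (hdim y).le) 3 fun y =>
    (Groth.FibreVA.CurveFamily.fibre_facts f hdim g hgen 3 hg le_rfl y).2.2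
  exact Groth.Ega2Proj.isProjective_of_immersion_finite hP hO1 (Groth.Ega2Proj.isGenDegOne_sym hj) f i hif
    (Groth.DescentBase.QCohFpqc.isFT_of_iso ((Scheme.Modules.pushforward f).mapIso e) hft)

end Groth.Agent.S18904
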