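import Groth.Statements.S18905
import Groth.Agent.AlgGrp1.TangentOpen
import Mathlib.AlgebraicGeometry.Morphisms.FormallyUnramified

set_option autoImplicit false
universe u
open CategoryTheory CategoryTheory.Limits AlgebraicGeometry
open Mor

namespace Groth.Agent.S18905

open scoped DualNumber in
theorem formallyUnramified_of_points {k A : Type u} [Field k] [IsAlgClosed k] [CommRing A] [Algebra k A]
    [Algebra.FiniteType k A]
    (h : ∀ P Q : A →ₐ[k] k[ε], (∀ x, (P x).fst = (Q x).fst) → P = Q) : Algebra.FormallyUnramified k A := by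
  refine ⟨?_⟩
  have key : ∀ m : Ideal A, m.IsMaximal → (⊤ : Submodule A Ω[A⁄k]) ≤ m • ⊤ := by
    intro m hm
    let := Ideal.Quotient.field m
    haveI : Algebra.FiniteType k (A ⧸ m) :=
      Algebra.FiniteType.of_surjective (Ideal.Quotient.mkₐ k m) Ideal.Quotient.mk_surjective
    haveI : Module.Finite k (A ⧸ m) := finite_of_finite_type_of_isJacobsonRing k (A ⧸ m)
    let e : k ≃ₐ[k] (A ⧸ m) := AlgEquiv.ofBijective (Algebra.ofId k (A ⧸ m))
      (IsAlgClosed.algebraMap_bijective_of_isIntegral)
    let p : A →ₐ[k] k := e.symm.toAlgHom.comp (Ideal.Quotient.mkₐ k m)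
    have hpm : RingHom.ker p = m := by
      ext x
      simp [p, RingHom.mem_ker, Ideal.Quotient.eq_zero_iff_mem]
    have hsq : ∀ a ∈ m, KaehlerDifferential.D k A a ∈ m • (⊤ : Submodule A Ω[A⁄k]) := fun a ha => by
      have h2 : a ∈ m ^ 2 := hpm ▸ Groth.AlgGrp1.TangentOpen.mem_sq_of_tangent p
        (RingHom.mem_ker.1 (hpm.symm ▸ ha)) (fun P hP => by
          rw [h P ((TrivSqZeroExt.inlAlgHom k k k).comp p) (fun x => by simp [hP x])]
          have hpa : p a = 0 := RingHom.mem_ker.1 (hpm.symm ▸ ha)
          simp [hpa])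
      rw [pow_two] at h2
      refine Submodule.mul_induction_on h2 (fun x hx y hy => ?_) (fun x y hx hy => ?_)
      · rw [Derivation.leibniz]
        exact Submodule.add_mem _ (Submodule.smul_mem_smul hx Submodule.mem_top)
          (Submodule.smul_mem_smul hy Submodule.mem_top)
      · rw [map_add]
        exact Submodule.add_mem _ hx hy
    rw [← KaehlerDifferential.span_range_derivation k A, Submodule.span_le]
    rintro _ ⟨x, rfl⟩
    rw [KaehlerDifferential.span_range_derivation]
    have hx : x - algebraMap k A (p x) ∈ m := hpm ▸ (by simp [RingHom.mem_ker])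
    simpa using hsq _ hx
  haveI : Module.Finite A Ω[A⁄k] := inferInstance
  have hann : Module.annihilator A Ω[A⁄k] = ⊤ := by
    by_contra hne
    obtain ⟨m, hm, hle⟩ := Ideal.exists_le_maximal _ hne
    obtain ⟨r, hr, hr0⟩ := Submodule.exists_sub_one_mem_and_smul_eq_zero_of_fg_of_le_smul m
      (⊤ : Submodule A Ω[A⁄k]) Module.Finite.fg_top (key m hm)
    have hrm : r ∈ m := hle (Module.mem_annihilator.2 fun z => hr0 z Submodule.mem_top)
    exact hm.ne_top ((Ideal.eq_top_iff_one m).2 (by simpa using m.sub_mem hrm hr))
  refine subsingleton_of_forall_eq 0 fun z => ?_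
  have h1 : (1 : A) ∈ Module.annihilator A Ω[A⁄k] := hann ▸ Submodule.mem_top
  simpa using Module.mem_annihilator.1 h1 z


/-- Let k be an algebraically closed field and X a scheme locally of finite type over k. Then X → Spec k
is formally unramified if and only if the map Hom_k(Spec k[ε], X) → Hom_k(Spec k, X) given by
restricting along the closed immersion of Spec k into Spec k[ε] (k[ε] the ring of dual numbers, ε ↦
0), is bijective; since that map is always surjective, the condition is stated as injectivity: two
k-morphisms from Spec k[ε] to X which agree on Spec k are equal. -/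
theorem result (k : Type u) [Field k] [IsAlgClosed k]
    {X : Scheme.{u}} (p : X ⟶ Spec (CommRingCat.of k)) [LocallyOfFiniteType p] :
    FormallyUnramified p ↔
      ∀ v₁ v₂ : Spec (CommRingCat.of (DualNumber k)) ⟶ X,
        v₁ ≫ p = Spec.map (CommRingCat.ofHom (algebraMap k (DualNumber k))) →
        v₂ ≫ p = Spec.map (CommRingCat.ofHom (algebraMap k (DualNumber k))) →
        Spec.map (CommRingCat.ofHom (TrivSqZeroExt.fstHom k k k).toRingHom) ≫ v₁ =
          Spec.map (CommRingCat.ofHom (TrivSqZeroExt.fstHom k k k).toRingHom) ≫ v₂ →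
        v₁ = v₂ := by
  constructor
  · intro _ v₁ v₂ h1 h2 h12
    let i : Spec (CommRingCat.of k) ⟶ Spec (CommRingCat.of (DualNumber k)) :=
      Spec.map (CommRingCat.ofHom (TrivSqZeroExt.fstHom k k k).toRingHom)
    let L : Spec (CommRingCat.of (DualNumber k)) ⟶ Limits.pullback p p :=
      Limits.pullback.lift v₁ v₂ (h1.trans h2.symm)
    have hi : i ≫ L = (i ≫ v₁) ≫ Limits.pullback.diagonal p := by
      apply Limits.pullback.hom_ext
      · rw [Category.assoc, Category.assoc, Limits.pullback.diagonal_fst, Category.comp_id]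
        exact congrArg (i ≫ ·) (Limits.pullback.lift_fst v₁ v₂ _)
      · rw [Category.assoc, Category.assoc, Limits.pullback.diagonal_snd, Category.comp_id]
        exact (congrArg (i ≫ ·) (Limits.pullback.lift_snd v₁ v₂ _)).trans h12.symm
    have hsurj : Function.Surjective i.base := fun (z : PrimeSpectrum (DualNumber k)) => by
      let m := RingHom.ker (TrivSqZeroExt.fstHom k k k).toRingHom
      have hm : m.IsMaximal := RingHom.ker_isMaximal_of_surjective _ (fun r => ⟨TrivSqZeroExt.inl r, by simp⟩)
      have hle : m ≤ z.asIdeal := fun x hx => z.2.mem_of_pow_mem 2 (by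
        have hx0 : x.fst = 0 := RingHom.mem_ker.1 hx
        have : x ^ 2 = 0 := by ext <;> simp [pow_two, hx0]
        rw [this]; exact zero_mem _)
      refine ⟨(default : PrimeSpectrum k), PrimeSpectrum.ext ?_⟩
      show Ideal.comap _ (default : PrimeSpectrum k).asIdeal = z.asIdeal
      rw [← hm.eq_of_le z.2.ne_top hle, Ideal.eq_bot_of_prime (default : PrimeSpectrum k).asIdeal]
      rfl
    have hrange : Set.range L.base ⊆ Set.range (Limits.pullback.diagonal p).base := by
      rintro _ ⟨z, rfl⟩
      obtain ⟨w, rfl⟩ := hsurj z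
      exact ⟨(i ≫ v₁).base w, by rw [← Scheme.Hom.comp_apply, ← hi, Scheme.Hom.comp_apply]⟩
    have h := IsOpenImmersion.lift_fac (Limits.pullback.diagonal p) L hrange
    have e1 := congrArg (· ≫ Limits.pullback.fst p p) h
    have e2 := congrArg (· ≫ Limits.pullback.snd p p) h
    simp only [L, Category.assoc, Limits.pullback.diagonal_fst, Limits.pullback.diagonal_snd, Category.comp_id,
      Limits.pullback.lift_fst, Limits.pullback.lift_snd] at e1 e2
    exact e1.symm.trans e2
  · intro h
    rw [IsZariskiLocalAtSource.iff_of_openCover (P := @FormallyUnramified) X.affineCover]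
    intro j
    suffices main : ∀ (R : CommRingCat.{u}) (c : Spec R ⟶ X) [IsOpenImmersion c], FormallyUnramified (c ≫ p) from
      @main _ (X.affineCover.f j) (X.affineCover.map_prop j)
    intro R c _
    obtain ⟨φ, hφ⟩ := Spec.map_surjective (c ≫ p)
    have hft : LocallyOfFiniteType (c ≫ p) := inferInstance
    rw [← hφ, HasRingHomProperty.Spec_iff (P := @LocallyOfFiniteType)] at hft
    rw [← hφ, HasRingHomProperty.Spec_iff (P := @FormallyUnramified)]
    algebraize [φ.hom]
    haveI : Algebra.FiniteType k R := hft
    refine formallyUnramified_of_points fun P Q hPQ => ?_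
    have hspec : ∀ R : _ →ₐ[k] DualNumber k, (Spec.map (CommRingCat.ofHom R.toRingHom) ≫ c) ≫ p =
        Spec.map (CommRingCat.ofHom (algebraMap k (DualNumber k))) := fun R => by
      rw [Category.assoc, ← hφ, ← Spec.map_comp]
      congr 1
      exact CommRingCat.hom_ext (RingHom.ext fun r => R.commutes r)
    have e := h _ _ (hspec P) (hspec Q) (by
      simp only [← Spec.map_comp_assoc, ← CommRingCat.ofHom_comp]
      congr 3
      ext x
      exact hPQ x)
    rw [cancel_mono, Spec.map_inj] at e
    exact AlgHom.ext fun x => congr($e x)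

end Groth.Agent.S18905
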