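import Groth.Statements.S18907
import Groth.Agent.QuotCurve.Family
import Groth.Agent.Chow.Projective
-- import your own Groth.Agent.* helpers here

set_option autoImplicit false
universe u
open CategoryTheory CategoryTheory.Limits AlgebraicGeometry
open Curves

namespace Groth.Agent.S18907

/-- Let f : X → S be a projective morphism of schemes (X ≅ Proj of a quasi-coherent graded O_S-algebra
generated in degree one with degree-one part of finite type), G a finite group acting on X by
S-automorphisms, and π : X → Y, with q : Y → S and π ≫ q = f, a quotient of X by G: π is affine and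
G-invariant and over every open of Y the sections of O_Y are exactly the G-invariant sections of
O_X. Then π is surjective, finite, open and closed. If moreover the order of G is invertible in
O_S(S), then: Y is flat over S whenever X is; q is separated; and if f is locally of finite
presentation then q is proper and locally of finite presentation and π is locally of finite
presentation. (The existence of the quotient, parts (1), (2), and the base-change statement (5) of
the source are not stated.) -/
theorem result {X Y S : Scheme.{u}} (f : X ⟶ S)
    (hf : RelProj.IsProjective f)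
    {G : Type u} [Group G] [Finite G] (ρ : G →* Aut X) (hρ : ∀ g : G, (ρ g).hom ≫ f = f)
    (π : X ⟶ Y) (q : Y ⟶ S) (hπ : π ≫ q = f) (hquot : SGA1.IsQuot ρ π) :
    (Surjective π ∧ IsFinite π ∧ IsOpenMap π ∧ IsClosedMap π) ∧
      (IsUnit ((Nat.card G : ℕ) : Γ(S, ⊤)) →
        (Flat f → Flat q) ∧ IsSeparated q ∧
        (LocallyOfFinitePresentation f →
          IsProper q ∧ LocallyOfFinitePresentation q ∧ LocallyOfFinitePresentation π)) := by
  subst hπ
  haveI := Groth.Chow.isProper_of_isProjective hf
  haveI := hquot.affine
  haveI : Surjective π := Groth.Pi1Quot.surjective hquot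
  haveI : IsFinite π := Groth.Pi1Quot.isFinite_of_comp hquot q
  have hclosed : IsClosedMap π := π.isClosedMap
  have hqm := hclosed.isQuotientMap π.continuous π.surjective
  refine ⟨⟨inferInstance, inferInstance, fun W hW => ?_, hclosed⟩, fun hG => ⟨fun _ => ?_, ?_, fun _ => ?_⟩⟩
  · rw [← hqm.isCoinducing.isOpen_preimage]
    have e : π ⁻¹' (π '' W) = ⋃ g : G, (ρ g).hom '' W := by
      ext x
      simp only [Set.mem_preimage, Set.mem_image, Set.mem_iUnion]
      constructor
      · rintro ⟨w, hw, hwx⟩
        obtain ⟨g, hg⟩ := Groth.Pi1Quot.exists_smul_eq hquot hwx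
        exact ⟨g, w, hw, hg⟩
      · rintro ⟨g, w, hw, rfl⟩
        exact ⟨w, hw, (Groth.Pi1Quot.apply_smul hquot g w).symm⟩
    rw [e]
    exact isOpen_iUnion fun g => (ρ g).hom.isOpenEmbedding.isOpenMap W hW
  · exact Groth.QuotCurve.flat_quot hquot q hG
  · exact Groth.Pi1Quot.isSeparated_of_comp hquot q
  · haveI := Groth.QuotCurve.locallyOfFinitePresentation_quot hquot q hG
    haveI : IsSeparated q := Groth.Pi1Quot.isSeparated_of_comp hquot q
    haveI : UniversallyClosed q := UniversallyClosed.of_comp_surjective π q
    exact ⟨{}, inferInstance, Groth.FlatMor2.FibCrit.lfp_of_comp π q⟩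

end Groth.Agent.S18907
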