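import Groth.Statements.S18908
import Mathlib
import Groth.Agent.S17335

set_option autoImplicit false
universe u v w
open scoped TensorProduct
open CAlg
open scoped TensorProduct

namespace Groth.Agent.S18908

/-- Let K ⊇ k be a finite field extension of degree n and Ω ⊇ k an algebraically closed extension. Then
K is separable over k if and only if Ω ⊗_k K is isomorphic, as an Ω-algebra, to the product of n
copies of Ω. (The source says 'for every (some) algebraically closed extension Ω'; the equivalence
is stated for each fixed Ω, which gives both readings.) -/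
theorem result (k : Type u) (K : Type v) (Ω : Type w)
    [Field k] [Field K] [Algebra k K] [FiniteDimensional k K]
    [Field Ω] [Algebra k Ω] [IsAlgClosed Ω] :
    Algebra.IsSeparable k K ↔ Nonempty ((Ω ⊗[k] K) ≃ₐ[Ω] (Fin (Module.finrank k K) → Ω)) := by
  classical
  let A := Ω ⊗[k] K
  obtain ⟨hfin, hsurj, -⟩ := Groth.Agent.S17335.result Ω A
  have hrank : Module.finrank Ω A = Module.finrank k K := Module.finrank_baseChange
  let e : (K →ₐ[k] Ω) ≃ (A →ₐ[Ω] Ω) :=
    { toFun := fun f => Algebra.TensorProduct.lift (AlgHom.id Ω Ω) f fun _ _ => Commute.all _ _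
      invFun := fun g => (g.restrictScalars k).comp Algebra.TensorProduct.includeRight
      left_inv := fun f => AlgHom.ext fun x => by simp [A]
      right_inv := fun g => by
        refine Algebra.TensorProduct.ext (Subsingleton.elim _ _) (AlgHom.ext fun x => ?_)
        simp [A] }
  have hsep : Field.finSepDegree k K = Nat.card (A →ₐ[Ω] Ω) :=
    (Field.finSepDegree_eq_of_isAlgClosed k K Ω).trans (Nat.card_congr e)
  rw [← Field.finSepDegree_eq_finrank_iff]
  constructor
  · intro h
    cases nonempty_fintype (A →ₐ[Ω] Ω)
    have hc : Fintype.card (A →ₐ[Ω] Ω) = Module.finrank k K := by rw [← Nat.card_eq_fintype_card, ← hsep, h]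
    let φ : A →ₐ[Ω] ((A →ₐ[Ω] Ω) → Ω) := AlgHom.pi fun f : A →ₐ[Ω] Ω => f
    have hinj : Function.Injective φ.toLinearMap :=
      (LinearMap.injective_iff_surjective_of_finrank_eq_finrank (by rw [hrank, Module.finrank_fintype_fun_eq_card, hc])).2 hsurj
    exact ⟨(AlgEquiv.ofBijective φ ⟨hinj, hsurj⟩).trans (AlgEquiv.piCongrLeft Ω (fun _ : Fin (Module.finrank k K) => Ω) (Fintype.equivFinOfCardEq hc))⟩
  · rintro ⟨g⟩
    refine le_antisymm (Field.finSepDegree_le_finrank k K) ?_
    rw [hsep]
    let π : Fin (Module.finrank k K) → (A →ₐ[Ω] Ω) := fun i => (Pi.evalAlgHom Ω (fun _ => Ω) i).comp g.toAlgHom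
    have hπ : Function.Injective π := fun i j hij => by
      have := AlgHom.congr_fun hij (g.symm (Pi.single i 1))
      simp only [π, AlgHom.coe_comp, Function.comp_apply, AlgEquiv.coe_toAlgHom, AlgEquiv.apply_symm_apply, Pi.evalAlgHom_apply,
        Pi.single_eq_same] at this
      by_contra hne
      rw [Pi.single_eq_of_ne (Ne.symm hne)] at this
      exact one_ne_zero this
    simpa using Nat.card_le_card_of_injective π hπ

end Groth.Agent.S18908
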