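import Groth.Statements.S18909
import Groth.Agent.QuotCurve.Family
-- import your own Groth.Agent.* helpers here

set_option autoImplicit false
universe u
open CategoryTheory CategoryTheory.Limits AlgebraicGeometry
open Curves

namespace Groth.Agent.S18909

/-- Let f : X → S be a smooth curve of genus g ≠ 1 (proper and smooth, geometrically connected fibres of
dimension one and genus g) and G a finite group acting on X by S-automorphisms, faithfully on every
fibre (rendered: every g ≠ 1 moves some point of each fibre), with the order of G invertible in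
O_S(S). Let π : X → Y be a quotient of X by G over S (π affine and G-invariant, O_Y the G-invariant
sections of O_X; the source shows such a quotient exists). Then Y → S is proper and smooth with
geometrically connected fibres of dimension one, and π is a cover of degree |G|: finite, flat,
locally of finite presentation and of rank |G| at every point of Y. -/
theorem result {X Y S : Scheme.{u}} (f : X ⟶ S)
    [IsProper f] [Smooth f] [GeometricallyConnected f]
    (hdim : ∀ s : S, topologicalKrullDim ↥(f.fiber s) = 1) (g : ℕ) (hg : g ≠ 1)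
    (hgen : ∀ s : S, letI : (f.fiber s).Over (Spec (S.residueField s)) := ⟨f.fiberToSpecResidueField s⟩
      Curv2.genus (S.residueField s) (f.fiber s) = g)
    {G : Type u} [Group G] [Finite G] (hG : IsUnit ((Nat.card G : ℕ) : Γ(S, ⊤)))
    (ρ : G →* Aut X) (hρ : ∀ a : G, (ρ a).hom ≫ f = f)
    (hfaith : ∀ (s : S) (a : G), a ≠ 1 → ∃ x : X, f x = s ∧ (ρ a).hom x ≠ x)
    (π : X ⟶ Y) (q : Y ⟶ S) (hπ : π ≫ q = f) (hquot : SGA1.IsQuot ρ π) :
    IsProper q ∧ Smooth q ∧ GeometricallyConnected q ∧ (∀ s : S, topologicalKrullDim ↥(q.fiber s) = 1) ∧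
      IsFinite π ∧ Flat π ∧ LocallyOfFinitePresentation π ∧ ∀ y : Y, π.finrank y = Nat.card G := by
  subst hπ
  refine Groth.QuotCurve.family hquot q hG hdim fun s => ?_
  rw [injective_iff_map_eq_one]
  intro a ha
  by_contra hne
  obtain ⟨x, rfl, hx⟩ := hfaith s a hne
  apply hx
  have h : Groth.QuotCurve.bcHom (S.fromSpecResidueField ((π ≫ q) x)) hquot.inv q a = 𝟙 _ :=
    congrArg Iso.hom ha
  have h2 := Groth.QuotCurve.bcHom_fst (S.fromSpecResidueField ((π ≫ q) x)) hquot.inv (q := q) a
  rw [h, Category.id_comp] at h2
  have h3 : (π ≫ q).fiberι _ = (π ≫ q).fiberι ((π ≫ q) x) ≫ (ρ a).hom := h2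
  have h4 := congrArg (fun m => m ((π ≫ q).asFiber x)) h3
  exact (((π ≫ q).fiberι_asFiber x).symm.trans (h4.trans ((Scheme.Hom.comp_apply _ _ _).trans
    (congrArg (ρ a).hom ((π ≫ q).fiberι_asFiber x))))).symm

end Groth.Agent.S18909
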