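import Groth.Statements.S18910
import Groth.Agent.FibreVA.CurveFamily

set_option autoImplicit false
universe u
open CategoryTheory CategoryTheory.Limits AlgebraicGeometry
open Curves

namespace Groth.Agent.S18910

/-- Let f : X → S be a smooth curve of genus g ≥ 2 over a scheme S (proper and smooth, geometrically
connected fibres of dimension one and genus g) and n ≥ 3. Then ω_f^{⊗n} = Ω_{X/S}^{⊗n} is very ample
relative to f: there are a quasi-coherent O_S-module E and an S-immersion i of X into the projective
bundle P(E) with Ω_{X/S}^{⊗n} isomorphic to i^*O_{P(E)}(1) (existence of an isomorphism, as in the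
definition of relative very ampleness). (The second assertion of the published statement, that
f_*ω_f^{⊗n} is locally free of rank (2n − 1)(g − 1), is not restated here.) -/
theorem result {X S : Scheme.{u}} (f : X ⟶ S)
    [IsProper f] [Smooth f] [GeometricallyConnected f]
    (hdim : ∀ s : S, topologicalKrullDim ↥(f.fiber s) = 1) (g : ℕ) (hg : 2 ≤ g)
    (hgen : ∀ s : S, letI : (f.fiber s).Over (Spec (S.residueField s)) := ⟨f.fiberToSpecResidueField s⟩
      Curv2.genus (S.residueField s) (f.fiber s) = g)
    (n : ℕ) (hn : 3 ≤ n) :
    RelProj.IsRelVeryAmple f (CohB1.tensorPow (Omega.sheaf f) n) := by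
  exact Groth.FibreVA.CurveFamily.isRelVeryAmple_omegaPow f hdim g hgen n hg hn

end Groth.Agent.S18910
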