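import Groth.Statements.S18912
import Mathlib.FieldTheory.IsAlgClosed.Basic
import Mathlib.RingTheory.RootsOfUnity.AlgebraicallyClosed

set_option autoImplicit false
universe u
open CategoryTheory CategoryTheory.Limits AlgebraicGeometry
open TFNodal

namespace Groth.Agent.S18912

/-- Let k be an algebraically closed field of characteristic zero, X a reduced scheme locally of finite
type over k, F an O_X-module, d ≥ 1 an integer and τ, τ' : F → O_X two O_X-linear maps whose d-th
symmetric powers agree, in the sense that for every open U and all sections a_1, …, a_d of F over U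
the products τ(a_1)⋯τ(a_d) and τ'(a_1)⋯τ'(a_d) coincide in Γ(U, O_X). Then for every point η of X
whose local ring is a field (a generic point of an irreducible component) there is a d-th root of
unity ξ in k such that, for every section a of F over an open containing η, the germ of τ'(a) at η
is ξ times the germ of τ(a). The published statement is for a coherent module on a projective nodal
curve and concludes that τ' = ξ τ with one root of unity ξ on each connected component; that form
fails for the union of two lines meeting at a node, F the ideal of the node, τ the inclusion and τ'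
equal to τ on one line and to −τ on the other (d = 2), so the conclusion is stated here at each
generic point, i.e. per irreducible component, which is what the stalkwise argument yields. -/
theorem result
    (k : Type u) [Field k] [IsAlgClosed k] [CharZero k]
    (X : Scheme.{u}) [X.Over (Spec (CommRingCat.of k))]
    [LocallyOfFiniteType (X ↘ Spec (CommRingCat.of k))] [AlgebraicGeometry.IsReduced X]
    (F : X.Modules) (τ τ' : F ⟶ Coh.structureModule X) (d : ℕ) (hd : 1 ≤ d)
    (hS : ∀ (U : X.Opens) (a : Fin d → Γ(F, U)),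
      (∏ i, (τ.app U (a i) : Γ(X, U)) : Γ(X, U)) = (∏ i, (τ'.app U (a i) : Γ(X, U)) : Γ(X, U)))
    (η : X) (hη : IsField (X.presheaf.stalk η)) :
    ∃ ξ : k, ξ ^ d = 1 ∧ ∀ (U : X.Opens) (hU : η ∈ U) (a : Γ(F, U)),
      (X.presheaf.germ U η hU (τ'.app U a : Γ(X, U)) : X.presheaf.stalk η) =
        Curv2.stalkMap k X η ξ * X.presheaf.germ U η hU (τ.app U a : Γ(X, U)) := by
  classical
  letI : Field (X.presheaf.stalk η) := hη.toField
  let g : ∀ (σ : F ⟶ Coh.structureModule X) (U : X.Opens) (_ : η ∈ U), Γ(F, U) → X.presheaf.stalk η :=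
    fun σ U hU a => X.presheaf.germ U η hU (σ.app U a : Γ(X, U))
  have hres : ∀ (σ : F ⟶ Coh.structureModule X) {U V : X.Opens} (h : V ≤ U) (hV : η ∈ V) (a : Γ(F, U)),
      g σ V hV (F.presheaf.map (homOfLE h).op a) = g σ U (h hV) a := by
    intro σ U V h hV a
    show X.presheaf.germ V η hV _ = X.presheaf.germ U η (h hV) _
    have e := ConcreteCategory.congr_hom (σ.mapPresheaf.naturality (homOfLE h).op) a
    refine Eq.trans (congrArg _ e) ?_
    exact TopCat.Presheaf.germ_res_apply X.presheaf (homOfLE h) η hV _
  have key : ∀ (U : X.Opens) (hU : η ∈ U) (a b : Γ(F, U)),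
      g τ U hU a * g τ U hU b ^ (d - 1) = g τ' U hU a * g τ' U hU b ^ (d - 1) := by
    intro U hU a b
    obtain ⟨e, rfl⟩ : ∃ e, d = e + 1 := ⟨d - 1, by omega⟩
    have h := congrArg (X.presheaf.germ U η hU) (hS U (Fin.cons a fun _ => b))
    simpa [g, map_mul, map_pow, Fin.prod_univ_succ, Fin.cons_succ, Finset.prod_const] using h
  have keyd : ∀ (U : X.Opens) (hU : η ∈ U) (a : Γ(F, U)), g τ U hU a ^ d = g τ' U hU a ^ d := by
    intro U hU a
    have h := key U hU a a
    rwa [← pow_succ', ← pow_succ', Nat.sub_add_cancel hd] at h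
  by_cases h0 : ∃ (U : X.Opens) (hU : η ∈ U) (b : Γ(F, U)), g τ U hU b ≠ 0
  · obtain ⟨W, hW, b, hb⟩ := h0
    let r := g τ' W hW b / g τ W hW b
    have hrd : r ^ d = 1 := by rw [div_pow, ← keyd, div_self (pow_ne_zero _ hb)]
    haveI : NeZero d := ⟨by omega⟩
    haveI : NeZero (d : k) := ⟨Nat.cast_ne_zero.2 (by omega)⟩
    obtain ⟨ζ, hζ⟩ := HasEnoughRootsOfUnity.exists_primitiveRoot k d
    have hζ' := hζ.map_of_injective (Curv2.stalkMap k X η).injective
    obtain ⟨i, -, hi⟩ := hζ'.eq_pow_of_pow_eq_one hrd
    refine ⟨ζ ^ i, by rw [← pow_mul, mul_comm, pow_mul, hζ.pow_eq_one, one_pow], fun U hU a => ?_⟩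
    show g τ' U hU a = _ * g τ U hU a
    rw [map_pow, hi]
    let V : X.Opens := U ⊓ W
    have hV : η ∈ V := ⟨hU, hW⟩
    have h := key V hV (F.presheaf.map (homOfLE (inf_le_left : V ≤ U)).op a)
      (F.presheaf.map (homOfLE (inf_le_right : V ≤ W)).op b)
    rw [hres, hres, hres, hres] at h
    have hb' : g τ' W hW b = r * g τ W hW b := (div_mul_cancel₀ _ hb).symm
    rw [hb', mul_pow] at h
    have hr1 : r ^ (d - 1) * r = 1 := by rw [← pow_succ, Nat.sub_add_cancel hd, hrd]
    have hp : g τ W hW b ^ (d - 1) ≠ 0 := pow_ne_zero _ hb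
    have h2 : g τ U hU a = g τ' U hU a * r ^ (d - 1) := mul_right_cancel₀ hp (by rw [mul_assoc]; exact h)
    rw [h2, mul_left_comm, mul_comm r, hr1, mul_one]
  · push Not at h0
    refine ⟨1, one_pow _, fun U hU a => ?_⟩
    show g τ' U hU a = _ * g τ U hU a
    have h := keyd U hU a
    rw [h0 U hU a, zero_pow (by omega)] at h
    rw [h0 U hU a, mul_zero, (pow_eq_zero_iff (by omega)).1 h.symm]

end Groth.Agent.S18912
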