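import Groth.Statements.S18915
import Groth.Agent.TFNodal.StalkDepth
import Groth.Agent.FlatStrata.Twist
import Groth.Agent.RefRank.DepthTwo

set_option autoImplicit false
universe u
open CategoryTheory CategoryTheory.Limits AlgebraicGeometry
open TFNodal

namespace Groth.Agent.S18915

/-- Let k be an algebraically closed field of characteristic zero, X a reduced proper curve over k (a
proper k-scheme of dimension one) without isolated points (no closed point is open, i.e. X is
one-dimensional at every point), C a smooth irreducible k-scheme of dimension one and c a closed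
point of C. Put Z = X ×_k C with projections p_X and p_C, let Y be a nonempty finite set of closed
points of Z lying over c, and let j : U → Z be the inclusion of the open complement of Y. Then for
every coherent torsion free O_X-module F (every stalk a torsion free module over the local ring),
the unit map p_X^* F → j_* j^* (p_X^* F) is an isomorphism. -/
theorem result
    (k : Type u) [Field k] [IsAlgClosed k] [CharZero k]
    (X : Scheme.{u}) [X.Over (Spec (CommRingCat.of k))] [IsProper (X ↘ Spec (CommRingCat.of k))]
    [AlgebraicGeometry.IsReduced X] (hdim : topologicalKrullDim X = 1)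
    (hpure : ∀ x : X, IsClosed ({x} : Set X) → ¬ IsOpen ({x} : Set X))
    (C : Scheme.{u}) [C.Over (Spec (CommRingCat.of k))] [Smooth (C ↘ Spec (CommRingCat.of k))]
    [IrreducibleSpace C] (hdimC : topologicalKrullDim C = 1)
    (c : C) (hc : IsClosed ({c} : Set C))
    (Y : Set ↑(pullback (X ↘ Spec (CommRingCat.of k)) (C ↘ Spec (CommRingCat.of k))))
    (hYfin : Y.Finite) (hYne : Y.Nonempty) (hYcl : ∀ z ∈ Y, IsClosed ({z} : Set _))
    (hYc : ∀ z ∈ Y, (pullback.snd (X ↘ Spec (CommRingCat.of k)) (C ↘ Spec (CommRingCat.of k))).base z = c)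
    (U : (pullback (X ↘ Spec (CommRingCat.of k)) (C ↘ Spec (CommRingCat.of k))).Opens)
    (hU : (U : Set _) = Yᶜ)
    (F : X.Modules) (hF : Coh.IsCoh F) (htF : TorSh.IsTorsionFree F) :
    IsIso ((Scheme.Modules.restrictAdjunction U.ι).unit.app
      ((Scheme.Modules.pullback (pullback.fst (X ↘ Spec (CommRingCat.of k)) (C ↘ Spec (CommRingCat.of k)))).obj F)) := by
  haveI : IsLocallyNoetherian X := LocallyOfFiniteType.isLocallyNoetherian (X ↘ Spec (CommRingCat.of k))
  haveI : IsLocallyNoetherian (pullback (X ↘ Spec (CommRingCat.of k)) (C ↘ Spec (CommRingCat.of k))) :=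
    LocallyOfFiniteType.isLocallyNoetherian (pullback.fst (X ↘ Spec (CommRingCat.of k)) (C ↘ Spec (CommRingCat.of k)) ≫ (X ↘ Spec (CommRingCat.of k)))
  haveI : CompactSpace X := QuasiCompact.compactSpace_of_compactSpace (X ↘ Spec (CommRingCat.of k))
  haveI : AlgebraicGeometry.IsNoetherian X := { }
  haveI := hF.1
  have hFp := Groth.FlatStrata.isCoh_pullback (pullback.fst (X ↘ Spec (CommRingCat.of k)) (C ↘ Spec (CommRingCat.of k))) hF
  refine Groth.RefRank.isIso_unit_of_depth hFp fun z hz => ?_
  have hzY : z ∈ Y := by
    by_contra h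
    exact hz (by rw [← SetLike.mem_coe, hU]; exact h)
  have hzc : pullback.snd (X ↘ Spec (CommRingCat.of k)) (C ↘ Spec (CommRingCat.of k)) z = c := hYc z hzY
  have hzcl := hYcl z hzY
  subst hzc
  exact Groth.TFNodalDepth.two_le_depth_stalk (X ↘ Spec (CommRingCat.of k)) (C ↘ Spec (CommRingCat.of k)) hpure hdimC F htF z hzcl hc

end Groth.Agent.S18915
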