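import Groth.Statements.S18916
import Groth.Agent.DecShCurve.TorsFree
import Groth.Agent.RefRank.Stalk
import Groth.Agent.LocFree.Basic
-- import your own Groth.Agent.* helpers here

set_option autoImplicit false
universe u
open CategoryTheory CategoryTheory.Limits AlgebraicGeometry
open TFNodal

namespace Groth.Agent.S18916

/-- Let k be an algebraically closed field of characteristic zero, X a reduced proper curve over k (a
proper k-scheme of dimension one) without isolated points (no closed point is open, i.e. X is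
one-dimensional at every point) and F a coherent O_X-module. Then the dual 𝓗om(F, O_X) is torsion
free: no closed point of X is an associated point of it. -/
theorem result
    (k : Type u) [Field k] [IsAlgClosed k] [CharZero k]
    (X : Scheme.{u}) [X.Over (Spec (CommRingCat.of k))] [IsProper (X ↘ Spec (CommRingCat.of k))]
    [AlgebraicGeometry.IsReduced X] (hdim : topologicalKrullDim X = 1)
    (hpure : ∀ x : X, IsClosed ({x} : Set X) → ¬ IsOpen ({x} : Set X))
    (F : X.Modules) (hF : Coh.IsCoh F) (x : X) (hx : IsClosed ({x} : Set X)) :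
    ¬ Curv2.IsAssPoint (RefHull.dual F) x := by
  have : IsLocallyNoetherian X := LocallyOfFiniteType.isLocallyNoetherian (X ↘ Spec (CommRingCat.of k))
  have : F.IsQuasicoherent := hF.1
  have : CompactSpace X := (quasiCompact_iff_compactSpace (X ↘ Spec (CommRingCat.of k))).mp inferInstance
  have : AlgebraicGeometry.IsNoetherian X := ⟨⟩
  have hO : TorSh.IsTorsionFree (Coh.structureModule X) := fun y =>
    (Groth.RefRank.oneEquiv (X := X) y).symm.injective.moduleIsTorsionFree _ (fun r m => map_smul (Groth.RefRank.oneEquiv (X := X) y).symm r m)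
  have : SheafOfModules.IsQuasicoherent (R := X.ringCatSheaf) (Coh.structureModule X) :=
    (Groth.KTheory.LocFree.isCoh (Groth.LocFree.isFinLocFree_unit X)).1
  have htf : TorSh.IsTorsionFree (RefHull.dual F) := Groth.RefRank.isTorsionFree_homSh hF.2 hO
  intro hass
  obtain ⟨hp, t, ht⟩ := isAssociatedPrime_iff.mp hass
  obtain ⟨_, ⟨W, hW, rfl⟩, hxW, -⟩ := X.isBasis_affineOpens.exists_subset_of_mem_open (Set.mem_univ x) isOpen_univ
  obtain ⟨r, hr, hxr⟩ := Groth.DecShCurve.exists_nzd hW ⟨x, hxW⟩ hx (hpure x hx)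
  algebraize [(X.presheaf.germ W x hxW).hom]
  have hloc : IsLocalization.AtPrime (X.presheaf.stalk x) (hW.primeIdealOf ⟨x, hxW⟩).asIdeal :=
    hW.isLocalization_stalk ⟨x, hxW⟩
  have hreg : IsRegular (algebraMap Γ(X, W) (X.presheaf.stalk x) r) := by
    refine isRegular_iff_mem_nonZeroDivisors.mpr (mem_nonZeroDivisors_iff_right.mpr fun c hc => ?_)
    obtain ⟨b, u, rfl⟩ := IsLocalization.exists_mk'_eq (hW.primeIdealOf ⟨x, hxW⟩).asIdeal.primeCompl c
    rw [mul_comm, IsLocalization.mul_mk'_eq_mk'_of_mul, IsLocalization.mk'_eq_zero_iff] at hc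
    obtain ⟨m, hm⟩ := hc
    rw [IsLocalization.mk'_eq_zero_iff]
    exact ⟨m, mem_nonZeroDivisors_iff_right.mp hr _ (by rw [← hm]; ring)⟩
  have hmem : algebraMap Γ(X, W) (X.presheaf.stalk x) r ∈ IsLocalRing.maximalIdeal (X.presheaf.stalk x) :=
    (IsLocalRing.mem_maximalIdeal _).mpr fun hu => hxr ((Scheme.mem_basicOpen X r x hxW).mpr hu)
  have h0 := hmem
  rw [ht, Submodule.mem_colon_singleton, Submodule.mem_bot] at h0
  have ht0 : t = 0 := ((htf x).isSMulRegular hreg).right_eq_zero_of_smul h0
  refine hp.ne_top ?_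
  rw [ht, ht0]
  exact eq_top_iff.mpr fun a _ => Submodule.mem_colon_singleton.mpr (by rw [smul_zero]; exact zero_mem _)

end Groth.Agent.S18916
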