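import Groth.Statements.S18918
import Groth.Agent.Pi1FEt.Points

set_option autoImplicit false
universe u
open CategoryTheory CategoryTheory.Limits AlgebraicGeometry
open FEt

namespace Groth.Agent.S18918

/-- Let f : X → Y be a finite étale morphism of degree n (f_*O_X locally free of rank n) and φ : X' → Y
a morphism from a nonempty connected scheme X'. Then the Y-morphisms X' → X (equivalently, the
sections of X ×_Y X' → X') form a finite set with at most n elements, and there are exactly n of
them if and only if the covering X ×_Y X' → X' is trivial, i.e. X ×_Y X' is isomorphic over X' to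
the disjoint union of n copies of X'. The source works with separated Noetherian schemes over an
algebraically closed field of characteristic zero; that setting is not needed for the statement. -/
theorem result
    {X Y X' : Scheme.{u}} (f : X ⟶ Y) [IsFinite f] [Etale f] (n : ℕ)
    (hdeg : FlatMod.IsFinLocFreeOfRank n ((Scheme.Modules.pushforward f).obj (Coh.structureModule X)))
    (φ : X' ⟶ Y) [Nonempty X'] [ConnectedSpace X'] :
    Finite (Over.mk φ ⟶ Over.mk f) ∧ Nat.card (Over.mk φ ⟶ Over.mk f) ≤ n ∧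
      (Nat.card (Over.mk φ ⟶ Over.mk f) = n ↔
        ∃ e : pullback f φ ≅ ∐ fun _ : Fin n => X',
          e.hom ≫ Sigma.desc (fun _ : Fin n => 𝟙 X') = pullback.snd f φ) := by
  have hw : ∀ a : Over.mk φ ⟶ Over.mk f, a.left ≫ f = 𝟙 X' ≫ φ := fun a =>
    (Over.w a).trans (Category.id_comp φ).symm
  let s : (Over.mk φ ⟶ Over.mk f) → (X' ⟶ pullback f φ) := fun a => pullback.lift a.left (𝟙 _) (hw a)
  have hs : ∀ a, s a ≫ pullback.snd f φ = 𝟙 _ := fun a => pullback.lift_snd _ _ _
  have hsinj : Function.Injective s := fun a b h => Over.OverMorphism.ext (by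
    have h' := congrArg (· ≫ pullback.fst f φ) h
    simpa only [s, pullback.lift_fst] using h')
  have hinj := fun (Ω : Type u) [Field Ω] [IsAlgClosed Ω] (η : Spec (CommRingCat.of Ω) ⟶ X') =>
    Groth.Pi1FEt.pointsMap_injective (pullback.snd f φ) s hs hsinj η
  have hdeg : ∀ t, (pullback.snd f φ).finrank t = n := fun t => by
    rw [Scheme.Hom.finrank_pullback_snd, Groth.Pi1FEt.finrank_eq_of_isFinLocFreeOfRank f n hdeg]
  obtain ⟨hfin, hle, -⟩ := Groth.Pi1FEt.natCard_le_and_isIso_iff _ s hs hinj hdeg
  refine ⟨hfin, hle, fun hc => ?_, fun ⟨e, he⟩ => ?_⟩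
  · obtain ⟨σ⟩ : Nonempty (Fin n ≃ (Over.mk φ ⟶ Over.mk f)) :=
      ⟨(Finite.equivFinOfCardEq hc).symm⟩
    obtain ⟨-, -, h3⟩ := Groth.Pi1FEt.natCard_le_and_isIso_iff (pullback.snd f φ) (fun i => s (σ i))
      (fun i => hs _) (fun Ω _ _ η a b h => σ.injective (hinj Ω η h)) hdeg
    haveI := h3.1 (Nat.card_fin n)
    refine ⟨(asIso (Sigma.desc fun i => s (σ i))).symm, ?_⟩
    rw [Iso.symm_hom, asIso_inv, IsIso.inv_comp_eq]
    exact Sigma.hom_ext _ _ fun i => by simp [hs]
  · refine le_antisymm hle ?_
    rw [← Nat.card_fin n]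
    have hsec : ∀ i : Fin n, (Sigma.ι (fun _ : Fin n => X') i ≫ e.inv) ≫ pullback.snd f φ = 𝟙 X' := fun i => by
      rw [Category.assoc, ← he, e.inv_hom_id_assoc, Sigma.ι_desc]
    let a : Fin n → (Over.mk φ ⟶ Over.mk f) := fun i =>
      Over.homMk (Sigma.ι (fun _ : Fin n => X') i ≫ e.inv ≫ pullback.fst f φ) (by
        show (_ ≫ _ ≫ _) ≫ f = φ
        rw [Category.assoc, Category.assoc, pullback.condition, ← Category.assoc, ← Category.assoc,
          hsec, Category.id_comp])
    refine Nat.card_le_card_of_injective a fun i j hij => ?_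
    have h1 : Sigma.ι (fun _ : Fin n => X') i ≫ e.inv = Sigma.ι (fun _ : Fin n => X') j ≫ e.inv := by
      refine pullback.hom_ext ?_ ((hsec i).trans (hsec j).symm)
      have := congrArg (fun b => Over.Hom.left b) hij
      simpa [a] using this
    rw [cancel_mono] at h1
    by_contra hne
    obtain ⟨x⟩ := ‹Nonempty X'›
    have h2 := (sigmaι_eq_iff (fun _ : Fin n => X') i j x x).1 (by rw [h1])
    exact hne (congrArg Sigma.fst h2)

end Groth.Agent.S18918
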