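import Groth.Statements.S18922
import Groth.Agent.Misc1.TorSh
-- import your own Groth.Agent.* helpers here

set_option autoImplicit false
universe u
open CategoryTheory CategoryTheory.Limits AlgebraicGeometry
open TFNodal

namespace Groth.Agent.S18922

/-- Let k be an algebraically closed field of characteristic zero, X a reduced proper curve over k (a
proper k-scheme of dimension one) and F a coherent torsion free O_X-module (every stalk a torsion
free module over the local ring). Let x be a point of X and U an open subset containing x such that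
every irreducible component of U passes through x, that is, every point of U whose local ring is a
field specializes to x. Then the map from the sections of F over U to the stalk F_x is injective.
(The source states this for x a node of a connected nodal curve and U inside the union of the
irreducible components through x, meeting no other node.) -/
theorem result
    (k : Type u) [Field k] [IsAlgClosed k] [CharZero k]
    (X : Scheme.{u}) [X.Over (Spec (CommRingCat.of k))] [IsProper (X ↘ Spec (CommRingCat.of k))]
    [AlgebraicGeometry.IsReduced X] (hdim : topologicalKrullDim X = 1)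
    (F : X.Modules) (hF : Coh.IsCoh F) (htF : TorSh.IsTorsionFree F)
    (x : X) (U : X.Opens) (hxU : x ∈ U)
    (hU : ∀ y : X, y ∈ U → IsField (X.presheaf.stalk y) → x ∈ closure ({y} : Set X)) :
    Function.Injective (F.presheaf.germ U x hxU) := by
  have : IsLocallyNoetherian X := LocallyOfFiniteType.isLocallyNoetherian (X ↘ Spec (CommRingCat.of k))
  have : F.IsQuasicoherent := hF.1
  refine (injective_iff_map_eq_zero (F.presheaf.germ U x hxU).hom).mpr fun s hs => ?_
  obtain ⟨W₀, hxW₀, i, i', hW₀⟩ := TopCat.Presheaf.germ_eq F.presheaf x hxU hxU s 0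
    (hs.trans (map_zero (F.presheaf.germ U x hxU).hom).symm)
  refine Groth.Misc1.TorSh.eq_zero_of_germ F s fun z hz => ?_
  obtain ⟨V, hV, hzV, hVU0⟩ := exists_isAffineOpen_mem_and_subset (U := U) hz
  have hVU : V ≤ U := hVU0
  have : IsNoetherianRing Γ(X, V) := IsLocallyNoetherian.component_noetherian ⟨V, hV⟩
  let s' := Groth.QCohMod.res F hVU s
  let I : Ideal Γ(X, V) :=
    { carrier := {a | a • s' = 0}
      zero_mem' := zero_smul _ _
      add_mem' := fun {a b} (ha : a • s' = 0) (hb : b • s' = 0) => by
        show (a + b) • s' = 0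
        rw [add_smul, ha, hb, add_zero]
      smul_mem' := fun c a (ha : a • s' = 0) => by
        show (c * a) • s' = 0
        rw [mul_smul, ha, smul_zero] }
  have key : ∀ P ∈ minimalPrimes Γ(X, V), ¬ I ≤ P := by
    intro P hP hle
    have hPp : P.IsPrime := Ideal.minimalPrimes_isPrime hP
    let q : PrimeSpectrum Γ(X, V) := ⟨P, hPp⟩
    have hyV : hV.fromSpec q ∈ V := by
      have : hV.fromSpec q ∈ Set.range hV.fromSpec := ⟨q, rfl⟩
      rwa [hV.range_fromSpec] at this
    let y : X := hV.fromSpec q
    algebraize [(X.presheaf.germ V y hyV).hom]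
    have hloc : IsLocalization.AtPrime (X.presheaf.stalk y) P := hV.isLocalization_stalk' q hyV
    have hfield : IsField (X.presheaf.stalk y) := by
      have : Ring.KrullDimLE 0 (X.presheaf.stalk y) := Ring.krullDimLE_iff.mpr (by
        rw [IsLocalization.AtPrime.ringKrullDim_eq_height P (X.presheaf.stalk y),
          Ideal.height_eq_zero_iff.mpr hP]; rfl)
      exact Ring.KrullDimLE.isField_of_isReduced
    have hyW₀ : y ∈ W₀ := by
      obtain ⟨w, hw, hw'⟩ := mem_closure_iff.mp (hU y (hVU hyV) hfield) W₀ W₀.isOpen hxW₀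
      rwa [Set.mem_singleton_iff.mp hw'] at hw
    have hgy : Groth.QCohMod.germ F y hyV s' = 0 := by
      rw [show s' = Groth.QCohMod.res F hVU s from rfl, Groth.QCohMod.germ_res]
      change F.presheaf.germ U y _ s = 0
      rw [← TopCat.Presheaf.germ_res_apply F.presheaf i y hyW₀ s, hW₀, map_zero, map_zero]
    obtain ⟨a, hay, has⟩ := Groth.QCohMod.exists_smul_eq_zero_of_germ_eq_zero F hV y hyV s' hgy
    have h1 : IsUnit (algebraMap Γ(X, V) (X.presheaf.stalk y) a) :=
      (Scheme.mem_basicOpen X a y hyV).mp hay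
    exact (IsLocalization.AtPrime.isUnit_to_map_iff (X.presheaf.stalk y) P a).mp h1 (hle has)
  obtain ⟨a, haI, ha⟩ : ∃ a ∈ I, ∀ P ∈ minimalPrimes Γ(X, V), a ∉ P := by
    by_contra! hcon
    have hfin : (minimalPrimes Γ(X, V)).Finite := minimalPrimes.finite_of_isNoetherianRing _
    obtain ⟨P, hP, hle⟩ := (Ideal.subset_union_prime (s := hfin.toFinset) (f := fun P => P) ⊥ ⊥
      (fun P hP _ _ => Ideal.minimalPrimes_isPrime (hfin.mem_toFinset.mp hP)) (I := I)).mp (fun b hb => by
        obtain ⟨P, hP, hbP⟩ := hcon b hb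
        exact Set.mem_iUnion₂.mpr ⟨P, hfin.mem_toFinset.mpr hP, hbP⟩)
    exact key P (hfin.mem_toFinset.mp hP) hle
  algebraize [(X.presheaf.germ V z hzV).hom]
  have hloc : IsLocalization.AtPrime (X.presheaf.stalk z) (hV.primeIdealOf ⟨z, hzV⟩).asIdeal :=
    hV.isLocalization_stalk ⟨z, hzV⟩
  have hz0 : ∀ b : Γ(X, V), a * b = 0 → b = 0 := by
    intro b hb
    refine IsReduced.eq_zero b (mem_nilradical.mp ?_)
    rw [nilradical, ← Ideal.sInf_minimalPrimes, Ideal.mem_sInf]
    exact fun {P} hP => ((Ideal.minimalPrimes_isPrime hP).mem_or_mem (hb ▸ P.zero_mem)).resolve_left (ha P hP)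
  have hreg : IsRegular (algebraMap Γ(X, V) (X.presheaf.stalk z) a) := by
    refine isRegular_iff_mem_nonZeroDivisors.mpr (mem_nonZeroDivisors_iff_right.mpr fun c hc => ?_)
    obtain ⟨b, t, rfl⟩ := IsLocalization.exists_mk'_eq (hV.primeIdealOf ⟨z, hzV⟩).asIdeal.primeCompl c
    rw [mul_comm, IsLocalization.mul_mk'_eq_mk'_of_mul, IsLocalization.mk'_eq_zero_iff] at hc
    obtain ⟨m, hm⟩ := hc
    rw [IsLocalization.mk'_eq_zero_iff]
    exact ⟨m, hz0 _ (by rw [← hm]; ring)⟩
  have h0 : algebraMap Γ(X, V) (X.presheaf.stalk z) a • Groth.QCohMod.germ F z hzV s' = 0 := by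
    rw [show algebraMap Γ(X, V) (X.presheaf.stalk z) a = X.presheaf.germ V z hzV a from rfl,
      ← Groth.QCohMod.germ_smul, (haI : a • s' = 0), map_zero]
  rw [← Groth.QCohMod.germ_res F hVU z hzV s]
  exact (htF z).isSMulRegular hreg |>.right_eq_zero_of_smul h0

end Groth.Agent.S18922
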