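import Groth.Statements.S18924
import Groth.Agent.ResHyp.Count

set_option autoImplicit false
universe u
open ResHyp

namespace Groth.Agent.S18924


theorem pv_smul {F : Type u} [Field F] {k : ℕ} (c : F) (v : Fin k → F) :
    Groth.Agent.ResHypCount.pv (c • v) = Polynomial.C c * Groth.Agent.ResHypCount.pv v := by
  simp [Groth.Agent.ResHypCount.pv, Finset.mul_sum, mul_assoc]

/-- Let F be a finite field with q elements and let n ≥ 3 be odd. Count the pairs (f, g) where f is a
binary quadratic form and g a binary form of degree n over F, recorded by their coefficient vectors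
of lengths 3 and n + 1 (leading coefficients may vanish), whose resultant — the Sylvester
determinant of the two coefficient vectors with size parameters 2 and n — equals 1. The number of
such pairs is q ^ (n + 3) - q ^ (n + 1). (The published statement gives q ^ (n + 3) + q ^ (n + 1);
for q = 3 and n = 3 the count is 648, not 810.) -/
theorem result (F : Type u) [Field F] [Fintype F] (n : ℕ)
    (hn : Odd n) (h3 : 3 ≤ n) :
    Nat.card {p : (Fin 3 → F) × (Fin (n + 1) → F) //
      Polynomial.resultant (∑ i : Fin 3, Polynomial.C (p.1 i) * Polynomial.X ^ (i : ℕ))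
        (∑ j : Fin (n + 1), Polynomial.C (p.2 j) * Polynomial.X ^ (j : ℕ)) 2 n = 1} =
      Fintype.card F ^ (n + 3) - Fintype.card F ^ (n + 1) := by
  classical
  obtain ⟨l, rfl⟩ := hn
  let A := {p : (Fin 3 → F) × (Fin (2 * l + 1 + 1) → F) //
      Polynomial.resultant (Groth.Agent.ResHypCount.pv p.1) (Groth.Agent.ResHypCount.pv p.2) 2 (2 * l + 1) = 1}
  let B := {p : (Fin 3 → F) × (Fin (2 * l + 1 + 1) → F) //
      Polynomial.resultant (Groth.Agent.ResHypCount.pv p.1) (Groth.Agent.ResHypCount.pv p.2) 2 (2 * l + 1) ≠ 0}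
  show Nat.card A = _
  let R : (Fin 3 → F) × (Fin (2 * l + 1 + 1) → F) → F := fun p =>
    Polynomial.resultant (Groth.Agent.ResHypCount.pv p.1) (Groth.Agent.ResHypCount.pv p.2) 2 (2 * l + 1)
  let sc : Fˣ → (Fin 3 → F) × (Fin (2 * l + 1 + 1) → F) → (Fin 3 → F) × (Fin (2 * l + 1 + 1) → F) :=
    fun c p => ((c : F) • p.1, (((c ^ l)⁻¹ : Fˣ) : F) • p.2)
  have hsc : ∀ c p, R (sc c p) = (c : F) * R p := by
    intro c p
    simp only [R, sc]
    rw [pv_smul, pv_smul, Polynomial.resultant_C_mul_left, Polynomial.resultant_C_mul_right]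
    rw [← mul_assoc, ← Units.val_pow_eq_pow_val, ← Units.val_pow_eq_pow_val, ← Units.val_mul]
    congr 2
    rw [inv_pow, ← pow_mul, mul_comm l 2, pow_succ', mul_inv_cancel_right]
  have hcomp : ∀ c d p, sc c (sc d p) = sc (c * d) p := by
    intro c d p
    refine Prod.ext ?_ ?_ <;> simp [sc, smul_smul, mul_pow, mul_comm]
  have hone : ∀ p, sc 1 p = p := fun p => by simp [sc]
  let e : Fˣ × A ≃ B :=
    { toFun := fun x => ⟨sc x.1 x.2.1, by
        show R (sc x.1 x.2.1) ≠ 0
        rw [hsc, show R x.2.1 = 1 from x.2.2, mul_one]; exact x.1.ne_zero⟩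
      invFun := fun y => (Units.mk0 (R y.1) y.2, ⟨sc (Units.mk0 (R y.1) y.2)⁻¹ y.1, by
        show R (sc _ y.1) = 1
        rw [hsc, Units.val_inv_eq_inv_val, Units.val_mk0]; exact inv_mul_cancel₀ y.2⟩)
      left_inv := fun x => by
        obtain ⟨c, p, hp⟩ := x
        have hc : ∀ h, Units.mk0 (R (sc c p)) h = c := fun h =>
          Units.ext (by rw [Units.val_mk0, hsc, show R p = 1 from hp, mul_one])
        have hne : R (sc c p) ≠ 0 := by rw [hsc, show R p = 1 from hp, mul_one]; exact c.ne_zero
        refine Prod.ext (hc hne) (Subtype.ext ?_)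
        show sc (Units.mk0 (R (sc c p)) hne)⁻¹ (sc c p) = p
        rw [hc, hcomp, inv_mul_cancel, hone]
      right_inv := fun y => by
        refine Subtype.ext ?_
        show sc _ (sc _ y.1) = y.1
        rw [hcomp, mul_inv_cancel, hone] }
  have hcard := Nat.card_congr e
  rw [Nat.card_prod, Nat.card_eq_fintype_card, Fintype.card_units] at hcard
  have htot := Groth.Agent.ResHypCount.total_sub (F := F) (2 * l + 1) (by omega)
  rw [show Groth.Agent.ResHypCount.cnt _ = Nat.card B from rfl, ← hcard] at htot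
  obtain ⟨d, hd⟩ : ∃ d, Fintype.card F = d + 2 := Nat.exists_eq_add_of_le' Fintype.one_lt_card
  rw [hd, show d + 2 - 1 = d + 1 by omega] at htot
  rw [hd]
  have hA : Nat.card A = (d + 2) ^ (2 * l + 2) * ((d + 1) * (d + 3)) :=
    Nat.eq_of_mul_eq_mul_left (show 0 < d + 1 by omega) (htot.trans (by ring))
  rw [hA]
  refine (Nat.sub_eq_of_eq_add ?_).symm
  ring

end Groth.Agent.S18924
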