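import Groth.Statements.S18925
import Groth.Agent.ResHyp.Count

set_option autoImplicit false
universe u
open ResHyp

namespace Groth.Agent.S18925


/-- Let F be a finite field with q elements and let n ≥ 2. Count the pairs (f, g) where f is a binary
quadratic form and g a binary form of degree n over F, recorded by their coefficient vectors of
lengths 3 and n + 1 (leading coefficients may vanish), whose resultant — the Sylvester determinant
of the two coefficient vectors with size parameters 2 and n — is nonzero, i.e. f and g have no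
common zero on the projective line. The number of such pairs is q ^ (n + 4) - q ^ (n + 3) - q ^ (n +
2) + q ^ (n + 1). (The source's result is the compactly supported ℓ-adic cohomology of this locus:
one-dimensional of Tate weights n + 4, n + 3, n + 2, n + 1 in degrees 2n + 8, 2n + 7, 2n + 5, 2n + 4
and zero elsewhere; this row keeps only the resulting point count.) -/
theorem result (F : Type u) [Field F] [Fintype F] (n : ℕ) (h2 : 2 ≤ n) :
    Nat.card {p : (Fin 3 → F) × (Fin (n + 1) → F) //
      Polynomial.resultant (∑ i : Fin 3, Polynomial.C (p.1 i) * Polynomial.X ^ (i : ℕ))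
        (∑ j : Fin (n + 1), Polynomial.C (p.2 j) * Polynomial.X ^ (j : ℕ)) 2 n ≠ 0} =
      Fintype.card F ^ (n + 4) - Fintype.card F ^ (n + 3) - Fintype.card F ^ (n + 2) + Fintype.card F ^ (n + 1) := by
  classical
  show Groth.Agent.ResHypCount.cnt (fun p : (Fin 3 → F) × (Fin (n + 1) → F) =>
    Polynomial.resultant (Groth.Agent.ResHypCount.pv p.1) (Groth.Agent.ResHypCount.pv p.2) 2 n ≠ 0) = _
  rw [Groth.Agent.ResHypCount.total_sub n h2]
  obtain ⟨e, he⟩ : ∃ e, Fintype.card F = e + 2 := Nat.exists_eq_add_of_le' Fintype.one_lt_card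
  rw [he, show e + 2 - 1 = e + 1 by omega]
  have hA : (e + 2) ^ (n + 4) = (e + 2) ^ (n + 3) + (e + 2) ^ (n + 2) +
      (e ^ 2 + 3 * e + 1) * (e + 2) ^ (n + 2) := by ring
  have hAB : (e + 2) ^ (n + 4) - (e + 2) ^ (n + 3) - (e + 2) ^ (n + 2) =
      (e ^ 2 + 3 * e + 1) * (e + 2) ^ (n + 2) := by omega
  rw [hAB]
  ring

end Groth.Agent.S18925
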