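import Groth.Statements.S18926
import Groth.Agent.VarietyBC.GlobalField
import Groth.Agent.Misc14.GeomQuotDescent
import Groth.Agent.PicAux.KummerCover
import Groth.Agent.QCohMod.Stalk
import Mathlib.CategoryTheory.Abelian.Basic

set_option autoImplicit false
universe u
open FinCov

namespace Groth.Agent.S18926

open CategoryTheory CategoryTheory.Limits AlgebraicGeometry in
/-- For a flat surjective quasi-compact morphism `O_Y ⟶ ρ_* O_X` is a monomorphism. -/
theorem mono_unitToPush {X Y : Scheme.{u}} (ρ : X ⟶ Y) [Flat ρ] [Surjective ρ] [QuasiCompact ρ] :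
    Mono (ClSub.unitToPush ρ) :=
  (Groth.QCohMod.mono_iff_stalk _).mpr
    ((TopCat.Presheaf.app_injective_iff_stalkFunctor_map_injective
      (F := (⟨(Coh.structureModule Y).presheaf, (Coh.structureModule Y).isSheaf⟩ : TopCat.Sheaf Ab.{u} Y))
      (G := ((Scheme.Modules.pushforward ρ).obj (Coh.structureModule X)).presheaf)
      ((Scheme.Modules.toPresheaf Y).map (ClSub.unitToPush ρ))).mpr
        fun U => Groth.Misc14.GeomQuotDescent.app_injective_of_fpqc ρ U)

open CategoryTheory CategoryTheory.Limits AlgebraicGeometry in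
/-- If the cokernel of `O_Y ⟶ ρ_* O_X` has no global sections, every function on `X` comes from `Y`. -/
theorem appTop_surjective {X Y : Scheme.{u}} (ρ : X ⟶ Y) [Flat ρ] [Surjective ρ] [QuasiCompact ρ]
    (h0 : Subsingleton (Coh.HH Y (cokernel (ClSub.unitToPush ρ)) 0)) :
    Function.Surjective ρ.appTop := by
  intro t
  haveI := mono_unitToPush ρ
  let C := cokernel (ClSub.unitToPush ρ)
  haveI : Subsingleton Γ(C, ⊤) :=
    (Sheaf.H.equiv₀ (Coh.toAb C) (T := (⊤ : TopologicalSpace.Opens Y))
      isTerminalTop).symm.injective.subsingleton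
  let y : Γ((Scheme.Modules.pushforward ρ).obj (Coh.structureModule X), ⊤) :=
    (show Γ(Coh.structureModule X, ρ ⁻¹ᵁ ⊤) from t)
  let φ := Groth.PicAux.homOfSection y
  have hφ : φ ≫ cokernel.π (ClSub.unitToPush ρ) = 0 :=
    Groth.PicAux.hom_structure_ext (Subsingleton.elim (α := Γ(C, ⊤)) _ _)
  let ψ := Abelian.monoLift (ClSub.unitToPush ρ) φ hφ
  refine ⟨(show Γ(Y, ⊤) from ψ.app ⊤ (Groth.PicAux.oneSec Y ⊤)), ?_⟩
  have h : ψ ≫ ClSub.unitToPush ρ = φ := Abelian.monoLift_comp _ _ _
  have := congrArg (fun χ : Coh.structureModule Y ⟶ _ => χ.app ⊤ (Groth.PicAux.oneSec Y ⊤)) h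
  exact this.trans (Groth.PicAux.homOfSection_one y)

open CategoryTheory CategoryTheory.Limits AlgebraicGeometry in
/-- Let k be a field, Y a proper, geometrically connected and geometrically reduced scheme over k, and ρ
: X ⟶ Y a finite, flat and surjective morphism. If the zeroth cohomology group of the cokernel of
the O_Y-module map O_Y ⟶ ρ_* O_X has at most one element, then X is geometrically connected over k.
(The published statement assumes Y projective and takes for X one of the finite locally free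
Gorenstein covers of degree 3, 4 or 5 that it constructs, with the cokernel identified with a dual
vector bundle; this row assumes only that ρ is finite, flat and surjective and that Y is proper.) -/
theorem result
    (k : Type u) [Field k] (X Y : Scheme.{u}) (g : Y ⟶ Spec (CommRingCat.of k)) (ρ : X ⟶ Y)
    [IsProper g] [GeometricallyConnected g] [GeometricallyReduced g]
    [IsFinite ρ] [Flat ρ] [Surjective ρ]
    (h0 : Subsingleton (Coh.HH Y (cokernel (ClSub.unitToPush ρ)) 0)) :
    GeometricallyConnected (ρ ≫ g) := by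
  refine ⟨fun K _ y Z fst snd hsq => ?_⟩
  haveI : Nonempty Y := by
    obtain ⟨p⟩ := (inferInstance : Nonempty (g.fiber (IsLocalRing.closedPoint k)))
    exact ⟨g.fiberι _ p⟩
  haveI : Nonempty X := ⟨(ρ.surjective (Classical.arbitrary Y)).choose⟩
  obtain ⟨φ, rfl⟩ := Spec.map_surjective y
  letI : Algebra k K := φ.hom.toAlgebra
  let f : CommRingCat.of k ⟶ Γ(X, ⊤) := (Scheme.ΓSpecIso (CommRingCat.of k)).inv ≫ (ρ ≫ g).appTop
  letI : Algebra k Γ(X, ⊤) := f.hom.toAlgebra
  haveI : CompactSpace X := QuasiCompact.compactSpace_of_compactSpace (ρ ≫ g)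
  haveI : QuasiSeparatedSpace X := quasiSeparatedSpace_of_quasiSeparated (ρ ≫ g)
  obtain ⟨e⟩ := Groth.VarietyBC.GlobalField.exists_ringEquiv (E := K) (ρ ≫ g) rfl hsq
  have hsurj : Function.Surjective (algebraMap k Γ(X, ⊤)) := by
    intro t
    obtain ⟨s, rfl⟩ := appTop_surjective ρ h0 t
    obtain ⟨c, rfl⟩ := (Groth.VarietyBC.GlobalField.appTop_bijective g).2 s
    refine ⟨(Scheme.ΓSpecIso (CommRingCat.of k)).hom c, ?_⟩
    simp [RingHom.algebraMap_toAlgebra, f]
  haveI : Nonempty (⊤ : X.Opens) := ⟨⟨Classical.arbitrary X, trivial⟩⟩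
  let ek : k ≃ₐ[k] Γ(X, ⊤) :=
    AlgEquiv.ofBijective (Algebra.ofId k Γ(X, ⊤)) ⟨(algebraMap k Γ(X, ⊤)).injective, hsurj⟩
  let e' : K ≃+* Γ(Z, ⊤) :=
    (((Algebra.TensorProduct.rid k K K).symm.toRingEquiv).trans
      (Algebra.TensorProduct.congr AlgEquiv.refl ek : TensorProduct k K k ≃ₐ[K] TensorProduct k K Γ(X, ⊤)).toRingEquiv).trans e
  exact Groth.PicAux.connectedSpace_of_isField
    (MulEquiv.isField (Field.toIsField K) e'.symm.toMulEquiv)

end Groth.Agent.S18926
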