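import Groth.Statements.S18927
import Mathlib

set_option autoImplicit false
universe u v
open W4c6secantcecovers

namespace Groth.Agent.S18927

open TensorProduct

variable (R : Type u) [CommRing R] (r : ℕ)

/-- The interior product is an odd derivation on products of vectors. -/
theorem contr_mul (j : Fin r) : ∀ (k : ℕ) (e : Fin k → (Fin r → R)) (η : W4c6secantcecovers.SSLam R r),
    W4c6secantcecovers.ssContr R r j (ExteriorAlgebra.ιMulti R k e * η) =
      W4c6secantcecovers.ssContr R r j (ExteriorAlgebra.ιMulti R k e) * η +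
        ((-1 : R) ^ k) • (ExteriorAlgebra.ιMulti R k e * W4c6secantcecovers.ssContr R r j η) := by
  intro k
  induction k with
  | zero =>
    intro e η
    have h1 : W4c6secantcecovers.ssContr R r j (1 : W4c6secantcecovers.SSLam R r) = 0 :=
      CliffordAlgebra.contractLeft_one (Q := (0 : QuadraticForm R (Fin r → R))) _
    simp [ExteriorAlgebra.ιMulti_zero_apply, h1]
  | succ k ih =>
    intro e η
    have hs : ExteriorAlgebra.ιMulti R (k + 1) e =
        ExteriorAlgebra.ι R (e 0) * ExteriorAlgebra.ιMulti R k (Matrix.vecTail e) :=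
      ExteriorAlgebra.ιMulti_succ_apply e
    have hd : ∀ x : W4c6secantcecovers.SSLam R r,
        W4c6secantcecovers.ssContr R r j (ExteriorAlgebra.ι R (e 0) * x) =
          e 0 j • x - ExteriorAlgebra.ι R (e 0) * W4c6secantcecovers.ssContr R r j x := fun x =>
      CliffordAlgebra.contractLeft_ι_mul (Q := (0 : QuadraticForm R (Fin r → R))) _ _ _
    rw [hs, mul_assoc, hd, ih, hd, sub_mul, smul_mul_assoc, mul_add, mul_smul_comm, ← mul_assoc,
      ← mul_assoc, pow_succ]
    module

/-- More vectors than the rank have zero wedge. -/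
theorem ιMulti_eq_zero {n : ℕ} (hn : r < n) (v : Fin n → (Fin r → R)) :
    ExteriorAlgebra.ιMulti R n v = 0 := by
  have : ExteriorAlgebra.ιMulti R n (M := Fin r → R) = 0 := by
    refine (Pi.basisFun R (Fin r)).ext_alternating fun w hw => ?_
    exfalso
    have := Fintype.card_le_of_injective w hw
    simp only [Fintype.card_fin] at this
    omega
  rw [this]
  rfl

theorem mul_eq_zero_of_rank {a b : ℕ} (h : r < a + b) (e : Fin a → (Fin r → R)) (f : Fin b → (Fin r → R)) :
    ExteriorAlgebra.ιMulti R a e * ExteriorAlgebra.ιMulti R b f = 0 := by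
  rw [← ιMulti_eq_zero R r h (Fin.append e f)]
  simp only [ExteriorAlgebra.ιMulti_apply, List.ofFn_fin_append, ← List.prod_append]
  congr 1
  rw [← List.ofFn_fin_append]
  congr 1
  funext i
  refine Fin.addCases (fun i => ?_) (fun i => ?_) i <;> simp [Fin.append_left, Fin.append_right]

end Groth.Agent.S18927

namespace Groth.Agent.S18927

open TensorProduct in
/-- Let R be a commutative ring, E = R^r the free module with its coordinate basis, S = R[X_1, …, X_r]
(the symmetric algebra of E), and N an R-module carrying R-linear operators φ_j (the action of the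
j-th basis vector of E) and an R-bilinear form β with β(φ_j n, m) = β(n, φ_j m) for every j. On (ΛE
⊗ S) ⊗ N — all terms Λ^k(S ⊗ E) ⊗ N of the Scheja–Storch complex at once — let δ be the differential
sending (e_1 ∧ ⋯ ∧ e_k) ⊗ s ⊗ n to Σ_i (-1)^(i-1) (e_1 ∧ ⋯ ê_i ⋯ ∧ e_k) ⊗ x(e_i) s ⊗ n + Σ_i (-1)^i
(e_1 ∧ ⋯ ê_i ⋯ ∧ e_k) ⊗ s ⊗ e_i · n, and pair a term u = ω ⊗ s ⊗ n of degree k with v = η ⊗ t ⊗ m by
⟨u, v⟩_k = (-1)^(k choose 2) β(n, m) · (ω ∧ η) ⊗ s t. Then the differential is adjoint to itself for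
this pairing in complementary degrees: for u = (e_0 ∧ ⋯ ∧ e_k) ⊗ s ⊗ n of degree k + 1 ≤ r and v =
(f_1 ∧ ⋯ ∧ f_(r-k)) ⊗ t ⊗ m of degree r - k, ⟨δ u, v⟩_k = ⟨u, δ v⟩_(k+1). (The source takes E
finitely generated projective and N a module over the ambient algebra with a pairing satisfying ⟨f,
g h⟩ = ⟨g f, h⟩; the proof runs on a basis, which is the form stated here, with the action of E
recorded by the operators φ_j.) -/
theorem result
    (R : Type u) [CommRing R] (r : ℕ) (N : Type v) [AddCommGroup N] [Module R N]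
    (φ : Fin r → (N →ₗ[R] N)) (β : N →ₗ[R] N →ₗ[R] R)
    (hβ : ∀ (j : Fin r) (n m : N), β (φ j n) m = β n (φ j m))
    (k : ℕ) (hk : k < r)
    (e : Fin (k + 1) → (Fin r → R)) (f : Fin (r - k) → (Fin r → R))
    (s t : MvPolynomial (Fin r) R) (n m : N) :
    W4c6secantcecovers.ssPair R r N β k
        (W4c6secantcecovers.ssDelta R r N φ ((ExteriorAlgebra.ιMulti R (k + 1) e ⊗ₜ[R] s) ⊗ₜ[R] n))
        ((ExteriorAlgebra.ιMulti R (r - k) f ⊗ₜ[R] t) ⊗ₜ[R] m) =
      W4c6secantcecovers.ssPair R r N β (k + 1)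
        ((ExteriorAlgebra.ιMulti R (k + 1) e ⊗ₜ[R] s) ⊗ₜ[R] n)
        (W4c6secantcecovers.ssDelta R r N φ ((ExteriorAlgebra.ιMulti R (r - k) f ⊗ₜ[R] t) ⊗ₜ[R] m)) := by
  classical
  have hflip : ∀ j : Fin r,
      W4c6secantcecovers.ssContr R r j (ExteriorAlgebra.ιMulti R (k + 1) e) * ExteriorAlgebra.ιMulti R (r - k) f =
        ((-1 : R) ^ k) • (ExteriorAlgebra.ιMulti R (k + 1) e *
          W4c6secantcecovers.ssContr R r j (ExteriorAlgebra.ιMulti R (r - k) f)) := fun j => by
    have h := contr_mul R r j (k + 1) e (ExteriorAlgebra.ιMulti R (r - k) f)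
    rw [mul_eq_zero_of_rank R r (by omega) e f, map_zero] at h
    have h' := (eq_neg_of_add_eq_zero_left h.symm)
    rw [h', pow_succ]
    module
  have hsign : ((-1 : R) ^ k.choose 2) * (-1) ^ k = (-1) ^ (k + 1).choose 2 := by
    rw [← pow_add, Nat.choose_succ_succ', Nat.choose_one_right, add_comm]
  simp only [W4c6secantcecovers.ssDelta, LinearMap.sum_apply, LinearMap.add_apply, LinearMap.smul_apply,
    map_sum, map_add, map_smul]
  refine Finset.sum_congr rfl fun j _ => ?_
  simp only [W4c6secantcecovers.ssPair, W4c6secantcecovers.ssPairAux, W4c6secantcecovers.ssDKoszul,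
    W4c6secantcecovers.ssDAct, LinearMap.smul_apply, TensorProduct.curry_apply, LinearMap.coe_comp,
    LinearEquiv.coe_coe, Function.comp_apply, TensorProduct.map_tmul, LinearMap.id_coe, id_eq,
    TensorProduct.tensorTensorTensorComm_tmul, TensorProduct.lift.tmul, LinearMap.mul'_apply,
    Algebra.TensorProduct.tmul_mul_tmul, TensorProduct.rid_tmul, LinearMap.mulLeft_apply, hβ, hflip,
    TensorProduct.smul_tmul', ← hsign, smul_smul]
  ring_nf

end Groth.Agent.S18927
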