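import Groth.Statements.S18928
import Mathlib.Tactic.LinearCombination

set_option autoImplicit false
universe u
open DPow

namespace Groth.Agent.S18928

/-- Let B be a commutative ring, I an ideal of B with a divided power structure, p a prime, r a natural
number, b an element of B and δ an element of I. Then (b + δ)^(p^r) − b^(p^r) lies in the ideal p^r
I. (The source states this for a divided power thickening over the Witt vectors of length n and 0 ≤
r ≤ n; neither restriction is used.) -/
theorem result {B : Type u} [CommRing B] {I : Ideal B}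
    (hI : DividedPowers I) (p : ℕ) [Fact p.Prime] (r : ℕ) (b δ : B) (hδ : δ ∈ I) :
    (b + δ) ^ (p ^ r) - b ^ (p ^ r) ∈ Ideal.span {((p : B) ^ r)} * I := by
  rw [add_comm, add_pow, Finset.sum_range_succ', pow_zero, one_mul, Nat.choose_zero_right, Nat.cast_one,
    mul_one, Nat.sub_zero, add_sub_cancel_right]
  refine Submodule.sum_mem _ fun k _ => ?_
  obtain ⟨q, hq⟩ : p ^ r ∣ (p ^ r).choose (k + 1) * (k + 1).factorial := by
    refine ⟨(p ^ r - 1).descFactorial k, ?_⟩
    rw [mul_comm, ← Nat.descFactorial_eq_factorial_mul_choose]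
    obtain ⟨m, hm⟩ := Nat.exists_eq_succ_of_ne_zero (pow_ne_zero r (Fact.out : p.Prime).ne_zero)
    rw [hm, Nat.succ_eq_add_one, Nat.succ_descFactorial_succ, Nat.add_sub_cancel]
  have hq' : ((p ^ r).choose (k + 1) : B) * ((k + 1).factorial : B) = (p : B) ^ r * (q : B) := by
    exact_mod_cast congrArg (Nat.cast : ℕ → B) hq
  rw [← hI.factorial_mul_dpow_eq_pow hδ, show ((k + 1).factorial : B) * hI.dpow (k + 1) δ * b ^ (p ^ r - (k + 1)) *
      ((p ^ r).choose (k + 1) : B) = ((p : B) ^ r) * ((q : B) * b ^ (p ^ r - (k + 1)) * hI.dpow (k + 1) δ) by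
    linear_combination (hI.dpow (k + 1) δ * b ^ (p ^ r - (k + 1))) * hq']
  exact Ideal.mul_mem_mul (Ideal.subset_span rfl) (I.mul_mem_left _ (hI.dpow_mem (Nat.succ_ne_zero k) hδ))

end Groth.Agent.S18928
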