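import Groth.Statements.S18930
import Groth.Agent.AdicLinTop.DP.Witt

set_option autoImplicit false
universe u
open DPow

namespace Groth.Agent.S18930

/-- Let p be a prime, n ≥ 1, B a commutative ring with p^n = 0 and A = B/pB. Let θ : W_n(A) → B be the
ring homomorphism which sends the reduction of a Witt vector (x_0, …, x_{n−1}) over B to Σ_{i<n} p^i
x_i^(p^(n−i)), let J_n be its kernel and let I_n be the set of a in W_n(A) whose zeroth component
satisfies a_0^(p^n) = 0. Then J_n + (p) ⊆ I_n. (In the source B is the ring of global sections of a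
scheme over the Witt vectors of length n of a perfect field.) -/
theorem result (p : ℕ) [Fact p.Prime] (n : ℕ) (hn : 0 < n)
    {B : Type u} [CommRing B] (hp : (p : B) ^ n = 0)
    (θ : TruncatedWittVector p n (B ⧸ (Ideal.span {(p : B)})) →+* B)
    (hθ : ∀ x : WittVector p B, θ (WittVector.truncate n (WittVector.map (Ideal.Quotient.mk (Ideal.span {(p : B)})) x)) =
        ∑ i : Fin n, (p : B) ^ (i : ℕ) * (x.coeff i) ^ (p ^ (n - i)))
    (a : TruncatedWittVector p n (B ⧸ (Ideal.span {(p : B)})))
    (ha : a ∈ RingHom.ker θ ⊔ Ideal.span {(p : TruncatedWittVector p n (B ⧸ (Ideal.span {(p : B)})))}) :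
    (TruncatedWittVector.coeff ⟨0, hn⟩ a) ^ (p ^ n) = 0 := by
  have hle : RingHom.ker θ ⊔ Ideal.span {(p : TruncatedWittVector p n (B ⧸ (Ideal.span {(p : B)})))} ≤
      RingHom.ker ((Ideal.Quotient.mk (Ideal.span {(p : B)})).comp θ) := by
    refine sup_le (fun c hc => ?_) ((Ideal.span_singleton_le_iff_mem _).mpr ?_)
    · rw [RingHom.mem_ker, RingHom.comp_apply, RingHom.mem_ker.mp hc, map_zero]
    · rw [RingHom.mem_ker, RingHom.comp_apply, map_natCast θ, Ideal.Quotient.eq_zero_iff_mem]
      exact Ideal.mem_span_singleton_self _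
  rw [← Groth.AdicLinTop.DP.mk_theta p n θ hθ hn a]
  exact hle ha

end Groth.Agent.S18930
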