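import Groth.Statements.S18932
import Groth.Agent.AdicLinTop.DP.Witt
import Mathlib.RingTheory.WittVector.Identities

set_option autoImplicit false
universe u
open DPow

namespace Groth.Agent.S18932

/-- Let p be a prime, k a perfect field of characteristic p, n a natural number and A a commutative
W_n(k)-algebra, W_n(k) the truncated Witt vectors, which is flat over W_n(k) and whose reduction
A/pA has surjective p-th power map. Let θ : W_n(A/pA) → A be the ring homomorphism which sends the
reduction of a Witt vector (x_0, …, x_{n−1}) over A to Σ_{i<n} p^i x_i^(p^(n−i)). Then θ is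
surjective, so A is the quotient of W_n(A/pA) by the kernel of θ. (This is the step of the source's
proposition establishing that Spec of the divided power envelope of that kernel is a thickening of
Spec A; the assertion that it is a final object of the crystalline site is not stated here.) -/
theorem result (p : ℕ) [Fact p.Prime]
    (k : Type u) [Field k] [CharP k p] [PerfectRing k p] (n : ℕ)
    (A : Type u) [CommRing A] [Algebra (TruncatedWittVector p n k) A] [Module.Flat (TruncatedWittVector p n k) A]
    (hF : Function.Surjective (fun y : A ⧸ (Ideal.span {(p : A)}) => y ^ p))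
    (θ : TruncatedWittVector p n (A ⧸ (Ideal.span {(p : A)})) →+* A)
    (hθ : ∀ x : WittVector p A, θ (WittVector.truncate n (WittVector.map (Ideal.Quotient.mk (Ideal.span {(p : A)})) x)) =
        ∑ i : Fin n, (p : A) ^ (i : ℕ) * (x.coeff i) ^ (p ^ (n - i))) :
    Function.Surjective θ := by
  have hpk : (p : TruncatedWittVector p n k) ^ n = 0 := by
    rw [← map_natCast (WittVector.truncate (p := p) (R := k) n), ← map_pow, ← RingHom.mem_ker,
      WittVector.mem_ker_truncate]
    exact fun i hi => WittVector.coeff_p_pow_eq_zero p k (Nat.ne_of_lt hi)
  refine Groth.AdicLinTop.DP.theta_surjective p n ?_ θ hθ hF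
  rw [← map_natCast (algebraMap (TruncatedWittVector p n k) A), ← map_pow, hpk, map_zero]

end Groth.Agent.S18932
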