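import Groth.Statements.S18936
-- import your own Groth.Agent.* helpers here

set_option autoImplicit false
universe u
open CAlg

namespace Groth.Agent.S18936

/-- Let A be a Noetherian commutative ring, q a prime ideal of A and f an element of A whose image in
the localization A_q is a non-zero-divisor. Then there is an element b of A not in q such that the
image of f in A[1/b] is a non-zero-divisor. -/
theorem result {A : Type u} [CommRing A] [IsNoetherianRing A]
    (q : Ideal A) [q.IsPrime] (f : A)
    (hf : algebraMap A (Localization.AtPrime q) f ∈ nonZeroDivisors (Localization.AtPrime q)) :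
    ∃ b : A, b ∉ q ∧ algebraMap A (Localization.Away b) f ∈ nonZeroDivisors (Localization.Away b) := by
  classical
  obtain ⟨T, hT⟩ := IsNoetherian.noetherian (LinearMap.ker (LinearMap.mulLeft A f))
  have hs : ∀ x ∈ T, ∃ s : q.primeCompl, (s : A) * x = 0 := by
    intro x hx
    have hx' : f * x = 0 := (hT ▸ Submodule.subset_span hx :
      x ∈ LinearMap.ker (LinearMap.mulLeft A f))
    have : algebraMap A (Localization.AtPrime q) x = 0 := by
      apply (mem_nonZeroDivisors_iff_right.1 hf)
      rw [← map_mul, mul_comm, hx', map_zero]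
    exact (IsLocalization.map_eq_zero_iff q.primeCompl _ x).1 this
  choose s hs using hs
  refine ⟨∏ x ∈ T.attach, (s x.1 x.2 : A), ?_, ?_⟩
  · exact (prod_mem fun (x : {x // x ∈ T}) _ => (s x.1 x.2).2 :
      (∏ x ∈ T.attach, (s x.1 x.2 : A)) ∈ q.primeCompl)
  set b := ∏ x ∈ T.attach, (s x.1 x.2 : A) with hb
  have hkill : ∀ x, f * x = 0 → b * x = 0 := by
    intro x hx
    have hle : LinearMap.ker (LinearMap.mulLeft A f) ≤ LinearMap.ker (LinearMap.mulLeft A b) := by
      rw [← hT, Submodule.span_le]
      intro y hy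
      show b * y = 0
      rw [hb, ← Finset.prod_erase_mul T.attach (fun x => (s x.1 x.2 : A))
        (Finset.mem_attach T ⟨y, hy⟩), mul_assoc, hs y hy, mul_zero]
    exact hle hx
  rw [mem_nonZeroDivisors_iff_right]
  intro x hx
  obtain ⟨a, c, rfl⟩ := IsLocalization.exists_mk'_eq (Submonoid.powers b) x
  rw [mul_comm, IsLocalization.mul_mk'_eq_mk'_of_mul, IsLocalization.mk'_eq_zero_iff] at hx
  obtain ⟨⟨m, l, rfl⟩, hm⟩ := hx
  rw [IsLocalization.mk'_eq_zero_iff]
  refine ⟨⟨b ^ (l + 1), l + 1, rfl⟩, ?_⟩
  show b ^ (l + 1) * a = 0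
  rw [pow_succ', mul_assoc]
  exact hkill _ (by
    rw [← hm]
    show f * (b ^ l * a) = b ^ l * (f * a)
    ring)

end Groth.Agent.S18936
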