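import Groth.Statements.S18937
import Mathlib.RingTheory.Regular.Flat
import Mathlib.RingTheory.Localization.Away.AdjoinRoot
import Mathlib.AlgebraicGeometry.Morphisms.ClosedImmersion
import Mathlib.Tactic
-- import your own Groth.Agent.* helpers here

set_option autoImplicit false
universe u
open CategoryTheory AlgebraicGeometry
open RegImm
open scoped Pointwise

namespace Groth.Agent.S18937

section Aux

variable {P : Type u} [CommRing P]

/-- On a regular closed immersion `Spec (P/I) → Spec P`, around every point some localisation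
`I P_h` is generated by a weakly regular sequence. -/
theorem exists_away_weaklyRegular (I : Ideal P)
    (H : RegImm.IsRegularImmersion RegImm.Kind.regular
      (Spec.map (CommRingCat.ofHom (Ideal.Quotient.mk I))))
    (q : PrimeSpectrum (P ⧸ I)) :
    ∃ h : P, Ideal.Quotient.mk I h ∉ q.asIdeal ∧
      ∃ rs : List (Localization.Away h), RingTheory.Sequence.IsWeaklyRegular (Localization.Away h) rs ∧
        I.map (algebraMap P (Localization.Away h)) = Ideal.ofList rs := by
  set i := Spec.map (CommRingCat.ofHom (Ideal.Quotient.mk I)) with hi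
  obtain ⟨-, H⟩ := H
  obtain ⟨U, hzU, -, rs, hrs, hker⟩ := H q
  obtain ⟨f, hfU, hzf⟩ := (isAffineOpen_top (Spec (CommRingCat.of P))).exists_basicOpen_le
    (V := U.1) ⟨i q, hzU⟩ trivial
  set e := (Scheme.ΓSpecIso (CommRingCat.of P)).commRingCatIsoToRingEquiv with he
  obtain ⟨h, rfl⟩ : ∃ h : P, e.symm h = f := ⟨e f, e.symm_apply_apply f⟩
  set V := (Spec (CommRingCat.of P)).basicOpen (e.symm h) with hV
  refine ⟨h, ?_, ?_⟩
  · have h1 : i q ∈ (Spec (CommRingCat.of P)).basicOpen ((Scheme.ΓSpecIso (CommRingCat.of P)).inv h) := hzf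
    rw [basicOpen_eq_of_affine'] at h1
    simp only [Iso.inv_hom_id_apply] at h1
    exact h1
  let ι : P →+* Γ((Spec (CommRingCat.of P)), ⊤) := e.symm.toRingHom
  letI : Algebra P Γ((Spec (CommRingCat.of P)), V) := (((Spec (CommRingCat.of P)).presheaf.map (homOfLE (le_top : V ≤ ⊤)).op).hom.comp ι).toAlgebra
  haveI hlocP : IsLocalization.Away h Γ((Spec (CommRingCat.of P)), V) := by
    letI := ((Spec (CommRingCat.of P)).presheaf.map (homOfLE (le_top : V ≤ ⊤)).op).hom.toAlgebra
    have h1 : IsLocalization.Away (e.symm h) Γ((Spec (CommRingCat.of P)), V) :=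
      (isAffineOpen_top (Spec (CommRingCat.of P))).isLocalization_of_eq_basicOpen (e.symm h) (homOfLE le_top) rfl
    have h2 := IsLocalization.isLocalization_of_base_ringEquiv (Submonoid.powers (e.symm h)) Γ((Spec (CommRingCat.of P)), V) e
    have h3 : (Submonoid.powers (e.symm h)).map (e : Γ((Spec (CommRingCat.of P)), ⊤) →* P) = Submonoid.powers h := by
      rw [Submonoid.map_powers]
      congr 1
      exact e.apply_symm_apply h
    exact (h3 ▸ h2 :)
  set res := ((Spec (CommRingCat.of P)).presheaf.map (homOfLE hfU).op).hom with hres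
  letI : Algebra Γ((Spec (CommRingCat.of P)), U.1) Γ((Spec (CommRingCat.of P)), V) := res.toAlgebra
  set hU' := ((Spec (CommRingCat.of P)).presheaf.map (homOfLE (le_top : U.1 ≤ ⊤)).op).hom (e.symm h) with hhU'
  haveI : IsLocalization.Away hU' Γ((Spec (CommRingCat.of P)), V) := by
    refine U.2.isLocalization_of_eq_basicOpen hU' (homOfLE hfU) ?_
    rw [hhU', Scheme.basicOpen_res]
    exact (inf_eq_right.mpr hfU).symm
  have hcomp : ∀ a : P, res (((Spec (CommRingCat.of P)).presheaf.map (homOfLE (le_top : U.1 ≤ ⊤)).op).hom (ι a)) =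
      algebraMap P Γ((Spec (CommRingCat.of P)), V) a := by
    intro a
    change ((Spec (CommRingCat.of P)).presheaf.map _ ≫ (Spec (CommRingCat.of P)).presheaf.map _).hom (ι a) = _
    rw [← Functor.map_comp]
    rfl
  have hmapI : I.map (algebraMap P Γ((Spec (CommRingCat.of P)), V)) = (RingHom.ker (i.app U.1).hom).map res := by
    have hnat : ∀ a : P, (i.appTop).hom (ι a) =
        (Scheme.ΓSpecIso (CommRingCat.of (P ⧸ I))).inv.hom (Ideal.Quotient.mk I a) := by
      intro a
      exact (congr($((Scheme.ΓSpecIso_inv_naturality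
        (CommRingCat.ofHom (Ideal.Quotient.mk I)))).hom a)).symm
    have hnatU : ∀ (W : (Spec (CommRingCat.of P)).Opens) (x : Γ((Spec (CommRingCat.of P)), ⊤)), (i.app W).hom (((Spec (CommRingCat.of P)).presheaf.map (homOfLE (le_top : W ≤ ⊤)).op).hom x) =
        ((Spec (CommRingCat.of (P ⧸ I))).presheaf.map
          (homOfLE (le_top : i ⁻¹ᵁ W ≤ ⊤)).op).hom ((i.appTop).hom x) := by
      intro W x
      exact congr_arg (fun φ => φ.hom x) (i.naturality (homOfLE (le_top : W ≤ ⊤)).op)
    refine le_antisymm (Ideal.map_le_iff_le_comap.mpr fun a ha => ?_) ?_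
    · rw [Ideal.mem_comap, ← hcomp]
      refine Ideal.mem_map_of_mem _ ?_
      rw [RingHom.mem_ker, hnatU, hnat, Ideal.Quotient.eq_zero_iff_mem.mpr ha, map_zero, map_zero]
    · refine Ideal.map_le_iff_le_comap.mpr fun x hx => ?_
      rw [Ideal.mem_comap]
      obtain ⟨a, s, has⟩ := IsLocalization.exists_mk'_eq (Submonoid.powers h) (res x)
      rw [← has, IsLocalization.mk'_mem_map_algebraMap_iff]
      have hzero : ((Spec (CommRingCat.of (P ⧸ I))).presheaf.map
          (homOfLE (le_top : i ⁻¹ᵁ V ≤ ⊤)).op).hom ((i.appTop).hom (ι a)) = 0 := by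
        rw [← hnatU]
        change (i.app V).hom (algebraMap P Γ((Spec (CommRingCat.of P)), V) a) = 0
        rw [← IsLocalization.mk'_spec' Γ((Spec (CommRingCat.of P)), V) a s, map_mul, has]
        have : (i.app V).hom (res x) = 0 := by
          have h4 := congr_arg (fun φ => φ.hom x) (i.naturality (homOfLE hfU).op)
          simp only [CommRingCat.comp_apply, CommRingCat.hom_comp, RingHom.comp_apply] at h4
          rw [hres]
          erw [h4, RingHom.mem_ker.mp hx, map_zero]
        rw [this, mul_zero]
      set gY := (i.appTop).hom (e.symm h) with hgY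
      have hle : (Spec (CommRingCat.of (P ⧸ I))).basicOpen gY ≤ i ⁻¹ᵁ V := by
        rw [hV, Scheme.preimage_basicOpen]
        exact le_rfl
      obtain ⟨n, hn⟩ := exists_pow_mul_eq_zero_of_res_basicOpen_eq_zero_of_isCompact
        (X := (Spec (CommRingCat.of (P ⧸ I)))) (U := ⊤) isCompact_univ ((i.appTop).hom (ι a)) gY (by
          have h5 := congr_arg ((Spec (CommRingCat.of (P ⧸ I))).presheaf.map (homOfLE hle).op).hom hzero
          rw [map_zero] at h5
          rw [← h5]
          rw [← CommRingCat.comp_apply, ← Functor.map_comp]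
          rfl)
      refine ⟨h ^ n, ⟨n, rfl⟩, ?_⟩
      rw [← Ideal.Quotient.eq_zero_iff_mem]
      apply (ConcreteCategory.bijective_of_isIso (Scheme.ΓSpecIso (CommRingCat.of (P ⧸ I))).inv).1
      change (Scheme.ΓSpecIso (CommRingCat.of (P ⧸ I))).inv.hom _ =
        (Scheme.ΓSpecIso (CommRingCat.of (P ⧸ I))).inv.hom 0
      rw [map_zero, ← hnat, map_mul, map_pow, map_mul, map_pow]
      exact hn
  set eL := IsLocalization.algEquiv (Submonoid.powers h) Γ((Spec (CommRingCat.of P)), V) (Localization.Away h) with heL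
  refine ⟨(rs.map res).map eL, ?_, ?_⟩
  · have h1 : RingTheory.Sequence.IsWeaklyRegular Γ((Spec (CommRingCat.of P)), V) (rs.map res) :=
      RingTheory.Sequence.IsWeaklyRegular.of_isLocalization Γ((Spec (CommRingCat.of P)), V) (Submonoid.powers hU')
        hrs.toIsWeaklyRegular
    refine (AddEquiv.isWeaklyRegular_congr (e := eL.toRingEquiv.toAddEquiv) ?_).mp h1
    rw [List.forall₂_map_right_iff, List.forall₂_same]
    intro r _ x
    exact map_mul eL r x
  · have h2 : (algebraMap P (Localization.Away h)) = eL.toRingHom.comp (algebraMap P Γ((Spec (CommRingCat.of P)), V)) := by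
      ext a
      exact (eL.commutes a).symm
    rw [h2, ← Ideal.map_map, hmapI, hker, Ideal.map_ofList, Ideal.map_ofList]
    rfl

theorem ker_awayMap_mk (I : Ideal P) (h : P) :
    RingHom.ker (Localization.awayMap (Ideal.Quotient.mk I) h) =
      I.map (algebraMap P (Localization.Away h)) := by
  refine le_antisymm ?_ (Ideal.map_le_iff_le_comap.mpr fun a ha => ?_)
  · intro x hx
    obtain ⟨a, ⟨s, k, rfl⟩, rfl⟩ := IsLocalization.exists_mk'_eq (Submonoid.powers h) x
    rw [IsLocalization.mk'_mem_map_algebraMap_iff]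
    rw [RingHom.mem_ker, Localization.awayMap, IsLocalization.Away.map, IsLocalization.map_mk',
      IsLocalization.mk'_eq_zero_iff] at hx
    obtain ⟨⟨m, n, rfl⟩, hm⟩ := hx
    refine ⟨h ^ n, ⟨n, rfl⟩, ?_⟩
    rw [← Ideal.Quotient.eq_zero_iff_mem, map_mul, map_pow]
    exact hm
  · rw [Ideal.mem_comap, RingHom.mem_ker, Localization.awayMap, IsLocalization.Away.map,
      IsLocalization.map_eq, Ideal.Quotient.eq_zero_iff_mem.mpr ha, map_zero]

theorem isSMulRegular_C_mul_X_sub_one (h : P) :
    IsSMulRegular (Polynomial P) (Polynomial.C h * Polynomial.X - 1) := by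
  intro F G hFG
  simp only [smul_eq_mul] at hFG
  have H : (Polynomial.C h * Polynomial.X - 1) * (F - G) = 0 := by rw [mul_sub, hFG, sub_self]
  rw [← sub_eq_zero]
  generalize F - G = Q at H
  have H' : Q = Polynomial.C h * (Polynomial.X * Q) := by
    linear_combination -H
  refine Polynomial.ext fun n => ?_
  rw [Polynomial.coeff_zero]
  induction n with
  | zero => rw [H', Polynomial.coeff_C_mul, Polynomial.coeff_X_mul_zero, mul_zero]
  | succ n ih => rw [H', Polynomial.coeff_C_mul, Polynomial.coeff_X_mul, ih, mul_zero]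

theorem ker_aeval_invSelf (h : P) :
    RingHom.ker (Polynomial.aeval (R := P) (IsLocalization.Away.invSelf h : Localization.Away h)) =
      Ideal.span {Polynomial.C h * Polynomial.X - 1} ∧
    Function.Surjective (Polynomial.aeval (R := P) (IsLocalization.Away.invSelf h : Localization.Away h)) := by
  set E := Localization.awayEquivAdjoin h
  have key : Polynomial.aeval (R := P) (IsLocalization.Away.invSelf h : Localization.Away h) =
      E.symm.toAlgHom.comp (AdjoinRoot.mkₐ (Polynomial.C h * Polynomial.X - 1)) := by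
    apply Polynomial.algHom_ext
    simp [E, Localization.awayEquivAdjoin]
    all_goals erw [AdjoinRoot.liftAlgHom_root]
  refine ⟨?_, ?_⟩
  · ext x
    rw [RingHom.mem_ker, key, AlgHom.comp_apply, Ideal.mem_span_singleton]
    rw [← AdjoinRoot.mk_eq_zero]
    exact E.symm.map_eq_zero_iff
  · rw [key, AlgHom.coe_comp]
    exact E.symm.surjective.comp AdjoinRoot.mk_surjective

theorem weaklyRegular_quot {R : Type*} [CommRing R] {L : Type*} [CommRing L] (π : R →+* L)
    (hπs : Function.Surjective π) (r : R) (hπk : RingHom.ker π = Ideal.span {r}) (lifts : List R)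
    (hreg : RingTheory.Sequence.IsWeaklyRegular L (lifts.map π)) :
    RingTheory.Sequence.IsWeaklyRegular (QuotSMulTop r R) lifts := by
  let _ : Algebra R L := π.toAlgebra
  let lin := Algebra.linearMap R L
  have hlk : (r • ⊤ : Submodule R R) = LinearMap.ker lin := by
    ext x
    rw [LinearMap.mem_ker, Submodule.mem_smul_pointwise_iff_exists]
    change _ ↔ π x = 0
    rw [← RingHom.mem_ker, hπk, Ideal.mem_span_singleton]
    constructor
    · rintro ⟨y, -, rfl⟩; exact ⟨y, rfl⟩
    · rintro ⟨y, rfl⟩; exact ⟨y, trivial, rfl⟩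
  refine (((Submodule.quotEquivOfEq _ _ hlk).trans
    (lin.quotKerEquivOfSurjective hπs)).isWeaklyRegular_congr lifts).mpr ?_
  rw [← RingTheory.Sequence.isWeaklyRegular_map_algebraMap_iff L L lifts]
  exact hreg

end Aux

/-- Let A be a Noetherian commutative ring, n a natural number, I an ideal of the polynomial ring A[X_1,
…, X_n] and B = A[X_1, …, X_n]/I, and assume that the closed immersion Spec B → Spec A[X_1, …, X_n]
is a regular immersion (kind: successive non-zero-divisors). Then Spec B is covered by basic opens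
D(g) with B[1/g] isomorphic, as an A-algebra, to a quotient A[X_0, …, X_n]/(P_1, …, P_d) of the
polynomial ring in one more variable by a regular sequence P_1, …, P_d. -/
theorem result
    (A : Type u) [CommRing A] [IsNoetherianRing A] (n : ℕ) (I : Ideal (MvPolynomial (Fin n) A))
    (h : RegImm.IsRegularImmersion RegImm.Kind.regular
      (Spec.map (CommRingCat.ofHom (Ideal.Quotient.mk I))))
    (q : PrimeSpectrum (MvPolynomial (Fin n) A ⧸ I)) :
    ∃ g : MvPolynomial (Fin n) A ⧸ I, g ∉ q.asIdeal ∧
      ∃ (d : ℕ) (P : Fin d → MvPolynomial (Fin (n + 1)) A),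
        RingTheory.Sequence.IsRegular (MvPolynomial (Fin (n + 1)) A) (List.ofFn P) ∧
        Nonempty (Localization.Away g ≃ₐ[A] (MvPolynomial (Fin (n + 1)) A ⧸ Ideal.ofList (List.ofFn P))) := by
  obtain ⟨hh, hq, rs, hrs, hI⟩ := exists_away_weaklyRegular I h q
  refine ⟨Ideal.Quotient.mk I hh, hq, ?_⟩
  set E := MvPolynomial.finSuccEquiv A n
  let π : MvPolynomial (Fin (n + 1)) A →ₐ[A] (Localization.Away hh) :=
    ((Polynomial.aeval (R := (MvPolynomial (Fin n) A)) (IsLocalization.Away.invSelf hh : (Localization.Away hh))).restrictScalars A).comp E.toAlgHom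
  obtain ⟨hk, hs⟩ := ker_aeval_invSelf hh
  have hπs : Function.Surjective π := hs.comp E.surjective
  set r := E.symm (Polynomial.C hh * Polynomial.X - 1) with hr
  have hπk : RingHom.ker π = Ideal.span {r} := by
    ext x
    rw [RingHom.mem_ker, Ideal.mem_span_singleton]
    change Polynomial.aeval _ (E x) = 0 ↔ _
    rw [← RingHom.mem_ker, hk, Ideal.mem_span_singleton, hr]
    conv_rhs => rw [← E.symm_apply_apply x]
    exact (map_dvd_iff E.symm).symm
  obtain ⟨lifts, hlifts⟩ : ∃ l : List (MvPolynomial (Fin (n + 1)) A), l.map π = rs :=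
    ⟨rs.map (Function.surjInv hπs), by
      rw [List.map_map, Function.comp_surjInv, List.map_id]⟩
  set l := r :: lifts with hl
  have hψ : ∀ a : A, Localization.awayMap (Ideal.Quotient.mk I) hh (algebraMap A (Localization.Away hh) a) =
      algebraMap A (Localization.Away (Ideal.Quotient.mk I hh)) a := by
    intro a
    rw [IsScalarTower.algebraMap_apply A (MvPolynomial (Fin n) A) (Localization.Away hh), IsScalarTower.algebraMap_apply A ((MvPolynomial (Fin n) A) ⧸ I)
      (Localization.Away (Ideal.Quotient.mk I hh)), Localization.awayMap, IsLocalization.Away.map,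
      IsLocalization.map_eq]
    rfl
  let ψ : (Localization.Away hh) →ₐ[A] Localization.Away (Ideal.Quotient.mk I hh) :=
    ⟨Localization.awayMap (Ideal.Quotient.mk I) hh, hψ⟩
  have hψs : Function.Surjective ψ := Localization.awayMap_surjective_iff.mpr fun a => by
    obtain ⟨b, rfl⟩ := Ideal.Quotient.mk_surjective a
    exact ⟨b, 0, by simp⟩
  have hker : RingHom.ker (ψ.comp π) = Ideal.ofList l := by
    have : RingHom.ker (ψ.comp π) = (RingHom.ker ψ).comap π.toRingHom := by
      ext; simp [RingHom.mem_ker]
    rw [this]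
    change (RingHom.ker (Localization.awayMap (Ideal.Quotient.mk I) hh)).comap π.toRingHom = _
    refine (congr_arg (Ideal.comap π.toRingHom) ((ker_awayMap_mk I hh).trans hI)).trans ?_
    rw [hl, Ideal.ofList_cons]
    rw [← hlifts]
    have h1 : Ideal.ofList (lifts.map π) = (Ideal.ofList lifts).map π.toRingHom :=
      (Ideal.map_ofList _ _).symm
    rw [h1, Ideal.comap_map_of_surjective π.toRingHom hπs, sup_comm]
    congr 1
  obtain ⟨P', hP'⟩ : ∃ P' : Fin l.length → MvPolynomial (Fin (n + 1)) A, List.ofFn P' = l :=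
    ⟨l.get, List.ofFn_get l⟩
  refine ⟨l.length, P', ?_, ?_⟩
  · rw [hP']
    refine ⟨?_, ?_⟩
    · rw [hl, RingTheory.Sequence.isWeaklyRegular_cons_iff]
      refine ⟨?_, ?_⟩
      · intro x y hxy
        apply E.injective
        apply isSMulRegular_C_mul_X_sub_one hh
        have := congr_arg E hxy
        simpa [hr, smul_eq_mul] using this
      · exact weaklyRegular_quot π.toRingHom hπs r hπk lifts (hlifts ▸ hrs)
    · rw [smul_eq_mul, Ideal.mul_top, ← hker]
      intro hc
      haveI : Nontrivial (Localization.Away (Ideal.Quotient.mk I hh)) :=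
        (subsingleton_or_nontrivial _).resolve_left fun hsub => by
          obtain ⟨⟨_, k, rfl⟩, hk⟩ := (IsLocalization.map_eq_zero_iff (Submonoid.powers (Ideal.Quotient.mk I hh)) (Localization.Away (Ideal.Quotient.mk I hh)) 1).mp (Subsingleton.elim _ _)
          refine hq (q.isPrime.mem_of_pow_mem k ?_)
          change Ideal.Quotient.mk I hh ^ k ∈ _
          simp only [mul_one] at hk
          rw [hk]
          exact q.asIdeal.zero_mem
      exact one_ne_zero (α := Localization.Away (Ideal.Quotient.mk I hh))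
        ((map_one (ψ.comp π)).symm.trans (RingHom.mem_ker.mp (hc ▸ Submodule.mem_top : (1 : MvPolynomial (Fin (n + 1)) A) ∈ RingHom.ker (ψ.comp π))))
  · rw [hP']
    exact ⟨((Ideal.quotientEquivAlgOfEq A hker).symm.trans
      (Ideal.quotientKerAlgEquivOfSurjective (hψs.comp hπs))).symm⟩

end Groth.Agent.S18937
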