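import Groth.Statements.S18939
import Groth.Agent.KoszulLCI.Local

set_option autoImplicit false
universe u
open LCI

namespace Groth.Agent.S18939

/-- Let R be a commutative ring, I a proper ideal of R and f_1, …, f_r a Koszul-regular sequence of
elements of I generating I. Then I/I² is a free R/I-module of rank r, with basis the classes of f_1,
…, f_r. -/
theorem result {R : Type u} [CommRing R] {I : Ideal R} (hI : I ≠ ⊤)
    (r : ℕ) (f : Fin r → I) (hf : LCI.IsKoszulRegularSeq R (List.ofFn (fun i => (f i : R))))
    (hfI : Ideal.span (Set.range (fun i => (f i : R))) = I) :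
    ∃ b : Module.Basis (Fin r) (R ⧸ I) I.Cotangent, ∀ i, b i = I.toCotangent (f i) := by
  have rel : ∀ c : Fin r → R, ∑ i, c i * f i = 0 → ∀ i, c i ∈ I := by
    intro c hc i
    let L := List.ofFn fun i => (f i : R)
    have hlen : L.length = r := List.length_ofFn
    have hperm : ((f i : R) :: L.eraseIdx i.1).Perm L := by
      have := List.getElem_cons_eraseIdx_perm (l := L) (n := i.1) (by omega)
      simpa [L] using this
    have h := Groth.KoszulLCI.isKoszulRegularSeq_of_perm hperm.symm hf
    have hsub : Ideal.ofList (L.eraseIdx i.1) ≤ I := Ideal.span_le.mpr fun x hx => by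
      obtain ⟨j, rfl⟩ := List.mem_ofFn.mp (List.mem_of_mem_eraseIdx hx)
      exact (f j).2
    refine hsub (Groth.KoszulLCI.mem_of_mul_mem h ?_)
    rw [← Finset.add_sum_erase _ _ (Finset.mem_univ i), add_eq_zero_iff_eq_neg] at hc
    rw [mul_comm, hc]
    refine neg_mem (sum_mem fun j hj => Ideal.mul_mem_left _ _ (Groth.KoszulLCI.mem_ofList ?_))
    exact List.mem_eraseIdx_iff_getElem.mpr
      ⟨j.1, by omega, fun e => Finset.ne_of_mem_erase hj (Fin.ext e), by simp [L]⟩
  let v : Fin r → I.Cotangent := fun i => I.toCotangent (f i)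
  have hspan : Submodule.span (R ⧸ I) (Set.range v) = ⊤ := by
    rw [eq_top_iff]
    intro x _
    obtain ⟨⟨y, hy⟩, rfl⟩ := I.toCotangent_surjective x
    obtain ⟨c, hc⟩ := Submodule.mem_span_range_iff_exists_fun R |>.mp (hfI.symm.le hy)
    have : (⟨y, hy⟩ : I) = ∑ i, c i • f i := Subtype.ext (by simp [← hc])
    rw [this, map_sum]
    refine sum_mem fun i _ => ?_
    rw [map_smul]
    exact Submodule.smul_mem _ (Ideal.Quotient.mk I (c i)) (Submodule.subset_span (s := Set.range v) ⟨i, rfl⟩)
  have hli : LinearIndependent (R ⧸ I) v := by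
    rw [Fintype.linearIndependent_iff]
    intro c hc i
    choose a ha using fun i => Ideal.Quotient.mk_surjective (c i)
    have h0 : I.toCotangent (∑ i, a i • f i) = 0 := by
      rw [map_sum, ← hc]
      exact Finset.sum_congr rfl fun i _ => by rw [map_smul, ← ha i]; rfl
    rw [Ideal.toCotangent_eq_zero] at h0
    obtain ⟨d, hd1, hd2⟩ := (Submodule.mem_ideal_smul_span_iff_exists_sum I (fun i => (f i : R)) _).mp
      (show ((∑ i, a i • f i : I) : R) ∈ I • Submodule.span R (Set.range fun i => (f i : R)) by
        rw [Ideal.submodule_span_eq, hfI, smul_eq_mul, ← pow_two]; exact h0)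
    have hz : ∑ l, (a l - d l) * f l = 0 := by
      simp only [sub_mul, Finset.sum_sub_distrib]
      rw [Finsupp.sum_fintype _ _ (fun _ => by simp)] at hd2
      simp only [smul_eq_mul] at hd2
      rw [hd2]
      simp
    rw [← ha i, Ideal.Quotient.eq_zero_iff_mem]
    simpa using add_mem (rel _ hz i) (hd1 i)
  exact ⟨Module.Basis.mk hli hspan.ge, fun i => Module.Basis.mk_apply hli hspan.ge i⟩

end Groth.Agent.S18939
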