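import Groth.Statements.S18942
import Mathlib.RingTheory.WittVector.TeichmullerSeries
import Mathlib.RingTheory.WittVector.Truncated
import Mathlib.NumberTheory.Basic
import Mathlib.Algebra.BigOperators.Fin

set_option autoImplicit false
universe u
open DPow

namespace Groth.Agent.S18942

/-- Let p be a prime, k a perfect field of characteristic p, n a natural number and x an element of
W_n(k), written here as the truncation of a Witt vector x over k. For any Witt vectors y_0, …,
y_{n−1} over k lifting the components of x under the map y ↦ (y_0)^(p^n) (that is, (y_i)_0^(p^n) =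
x_i), one has x = Σ_{i<n} p^i y_i^(p^(n−i)) in W_n(k). -/
theorem result (p : ℕ) [Fact p.Prime]
    (k : Type u) [Field k] [CharP k p] [PerfectRing k p] (n : ℕ) (x : WittVector p k)
    (y : Fin n → WittVector p k) (hy : ∀ i : Fin n, ((y i).coeff 0) ^ (p ^ n) = x.coeff i) :
    WittVector.truncate n x =
      WittVector.truncate n (∑ i : Fin n, (p : WittVector p k) ^ (i : ℕ) * (y i) ^ (p ^ (n - i))) := by
  rcases Nat.eq_zero_or_pos n with rfl | hn
  · exact TruncatedWittVector.ext fun i => i.elim0
  obtain ⟨m, rfl⟩ := Nat.exists_eq_succ_of_ne_zero hn.ne'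
  have h1 := WittVector.dvd_sub_sum_teichmuller_iterateFrobeniusEquiv_coeff x m
  have h2 : (p : WittVector p k) ^ (m + 1) ∣
      (∑ i ∈ Finset.Iic m, WittVector.teichmuller p (((frobeniusEquiv k p).symm ^ i) (x.coeff i)) * (p : WittVector p k) ^ i) -
        ∑ i : Fin (m + 1), (p : WittVector p k) ^ (i : ℕ) * (y i) ^ (p ^ (m + 1 - i)) := by
    rw [show Finset.Iic m = Finset.range (m + 1) by ext j; simp [Nat.lt_succ_iff], Finset.sum_range,
      ← Finset.sum_sub_distrib]
    refine Finset.dvd_sum fun i _ => ?_
    have hfr : ∀ j (c : k), ((frobeniusEquiv k p).symm ^ j) (c ^ (p ^ j)) = c := fun j => by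
      induction j with
      | zero => intro c; simp
      | succ j ih =>
        intro c
        rw [pow_succ' (frobeniusEquiv k p).symm, pow_succ' p, pow_mul]
        show (frobeniusEquiv k p).symm (((frobeniusEquiv k p).symm ^ j) ((c ^ p) ^ p ^ j)) = c
        rw [ih, ← frobenius_def (p := p) c, ← frobeniusEquiv_apply, RingEquiv.symm_apply_apply]
    have hy' : ((frobeniusEquiv k p).symm ^ (i : ℕ)) (x.coeff i) = ((y i).coeff 0) ^ (p ^ (m + 1 - i)) := by
      rw [← hy i, show p ^ (m + 1) = p ^ (m + 1 - i) * p ^ (i : ℕ) by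
        rw [← pow_add, Nat.sub_add_cancel (Nat.le_of_lt i.2)], pow_mul, hfr]
    have hd : (p : WittVector p k) ∣ WittVector.teichmuller p ((y i).coeff 0) - y i := by
      rw [← Ideal.mem_span_singleton, WittVector.mem_span_p_iff_coeff_zero_eq_zero]
      show WittVector.constantCoeff (WittVector.teichmuller p ((y i).coeff 0) - y i) = 0
      rw [map_sub]
      show (WittVector.teichmuller p ((y i).coeff 0)).coeff 0 - (y i).coeff 0 = 0
      rw [WittVector.teichmuller_coeff_zero, sub_self]
    have hd' := dvd_sub_pow_of_dvd_sub hd (m + 1 - i)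
    rw [hy', map_pow, mul_comm, ← mul_sub]
    refine (pow_dvd_pow _ (Nat.le_succ (m + 1))).trans ?_
    rw [show (m + 1).succ = (i : ℕ) + (m + 1 - i + 1) by omega, pow_add]
    exact mul_dvd_mul_left _ hd'
  have h3 := dvd_add h1 h2
  rw [sub_add_sub_cancel] at h3
  rw [← sub_eq_zero, ← map_sub, ← RingHom.mem_ker, WittVector.mem_ker_truncate]
  exact (WittVector.mem_span_p_pow_iff_le_coeff_eq_zero _ _).mp (Ideal.mem_span_singleton.mpr h3)

end Groth.Agent.S18942
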