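import Groth.Statements.S18943
import Mathlib

set_option autoImplicit false
open scoped ContDiff
open CInfGerm

namespace Groth.Agent.S18943

open MeasureTheory in
private theorem smooth_G (n : ℕ) : ∀ (k : ℕ) (h : ℝ → ℝ), ContDiff ℝ ∞ h →
    ContDiff ℝ n (fun x => ∫ s in (0:ℝ)..1, s ^ k * h (s * x)) := by
  induction n with
  | zero =>
    intro k h hh
    rw [Nat.cast_zero, contDiff_zero]
    have := hh.continuous
    exact intervalIntegral.continuous_parametric_intervalIntegral_of_continuous' (by fun_prop) _ _
  | succ n ih =>
    intro k h hh
    have hh' : ContDiff ℝ ∞ (deriv h) := (contDiff_infty_iff_deriv.mp hh).2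
    have hd : ∀ x, HasDerivAt (fun x => ∫ s in (0:ℝ)..1, s ^ k * h (s * x))
        (∫ s in (0:ℝ)..1, s ^ (k + 1) * deriv h (s * x)) x := by
      intro x₀
      have hc := hh.continuous
      have hc' := hh'.continuous
      obtain ⟨C, hC⟩ := ((isCompact_Icc (a := (0:ℝ)) (b := 1)).prod
        (isCompact_closedBall x₀ (1:ℝ))).exists_bound_of_continuousOn
        (f := fun p : ℝ × ℝ => p.1 ^ (k + 1) * deriv h (p.1 * p.2)) (Continuous.continuousOn (by fun_prop))
      refine (intervalIntegral.hasDerivAt_integral_of_dominated_loc_of_deriv_le (bound := fun _ => C)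
        (Metric.closedBall_mem_nhds x₀ one_pos) (F' := fun x s => s ^ (k + 1) * deriv h (s * x))
        (Filter.Eventually.of_forall fun x => (Continuous.aestronglyMeasurable (by fun_prop)))
        (Continuous.intervalIntegrable (by fun_prop) _ _)
        (Continuous.aestronglyMeasurable (by fun_prop)) ?_ intervalIntegrable_const ?_).2
      · refine Filter.Eventually.of_forall fun t ht x hx => hC (t, x) ⟨?_, hx⟩
        rw [Set.uIoc_of_le zero_le_one] at ht
        exact ⟨ht.1.le, ht.2⟩
      · refine Filter.Eventually.of_forall fun t _ x _ => ?_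
        have h1 := ((hh.differentiable (by simp)) (t * x)).hasDerivAt.comp x ((hasDerivAt_id x).const_mul t)
        have h2 := h1.const_mul (t ^ k)
        simp only [Function.comp_apply, mul_one] at h2
        exact h2.congr_deriv (by rw [pow_succ]; ring)
    rw [Nat.cast_succ, contDiff_succ_iff_deriv]
    refine ⟨fun x => (hd x).differentiableAt, fun hω => ?_, ?_⟩
    · simp at hω
    · rw [funext fun x => (hd x).deriv]
      exact ih (k + 1) _ hh'


/-- Let f be an infinitely differentiable real-valued function on the real line with f(0) = 0. Then f(x)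
= x·g(x) for an infinitely differentiable function g. (The source phrases this for germs at 0: the
maximal ideal of the local ring of germs of smooth functions at the origin is generated by the
coordinate t; the global form stated here is what its argument, smooth extension of f(x)/x across 0,
gives.) -/
theorem result (f : ℝ → ℝ) (hf : ContDiff ℝ ∞ f) (h0 : f 0 = 0) :
    ∃ g : ℝ → ℝ, ContDiff ℝ ∞ g ∧ ∀ x : ℝ, f x = x * g x := by
  refine ⟨fun x => ∫ s in (0:ℝ)..1, deriv f (s * x), ?_, fun x => ?_⟩
  · rw [contDiff_infty]
    intro n
    simpa using smooth_G n 0 _ (contDiff_infty_iff_deriv.mp hf).2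
  · rcases eq_or_ne x 0 with rfl | hx
    · simp [h0]
    · simp only
      rw [intervalIntegral.integral_comp_mul_right (deriv f) hx, intervalIntegral.integral_deriv_eq_sub]
      · simp [h0, hx]
      · intro y _; exact hf.differentiable (by simp) y
      · exact (hf.continuous_deriv (by simp)).intervalIntegrable _ _

end Groth.Agent.S18943
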