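import Groth.Statements.S18944
import Mathlib.RingTheory.Regular.Flat
import Mathlib.AlgebraicGeometry.Morphisms.ClosedImmersion
-- import your own Groth.Agent.* helpers here

set_option autoImplicit false
universe u
open CategoryTheory AlgebraicGeometry
open RegImm

namespace Groth.Agent.S18944

/-- Let i : Z → X be a regular immersion of schemes (kind: successive non-zero-divisors). Then for every
point z of Z the kernel of the induced map of local rings O_{X, i(z)} → O_{Z, z} is generated by a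
regular sequence of O_{X, i(z)}. (No Noetherian hypothesis; over a locally Noetherian X the converse
also holds.) -/
theorem result {Z X : Scheme.{u}} (i : Z ⟶ X)
    (h : RegImm.IsRegularImmersion RegImm.Kind.regular i) (z : Z) :
    ∃ rs : List (X.presheaf.stalk (i z)),
      RingTheory.Sequence.IsRegular (X.presheaf.stalk (i z)) rs ∧
        RingHom.ker (i.stalkMap z).hom = Ideal.ofList rs := by
  obtain ⟨-, h⟩ := h
  obtain ⟨U, hzU, hci, rs, hrs, hker⟩ := h z
  haveI := hci
  haveI : IsAffine U.1 := U.2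
  have hV : IsAffineOpen (i ⁻¹ᵁ U.1) := isAffine_of_isAffineHom (i ∣_ U.1)
  have hsurj : Function.Surjective (i.app U.1).hom := by
    have h1 := (i ∣_ U.1).app_surjective ⊤ (isAffineOpen_top _)
    rw [morphismRestrict_app] at h1
    have h2 : Function.Surjective (i.app (U.1.ι ''ᵁ ⊤)).hom := by
      intro y
      obtain ⟨x, hx⟩ := h1 ((Z.presheaf.map (eqToHom (image_morphismRestrict_preimage i U.1 ⊤)).op).hom y)
      exact ⟨x, (ConcreteCategory.bijective_of_isIso
        (Z.presheaf.map (eqToHom (image_morphismRestrict_preimage i U.1 ⊤)).op)).1 hx⟩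
    rwa [Scheme.Opens.ι_image_top] at h2
  letI := TopCat.Presheaf.algebra_section_stalk X.presheaf ⟨i z, hzU⟩
  letI := TopCat.Presheaf.algebra_section_stalk Z.presheaf (⟨z, hzU⟩ : (i ⁻¹ᵁ U.1 : Z.Opens))
  have hlocX : IsLocalization.AtPrime (X.presheaf.stalk (i z)) (U.2.primeIdealOf ⟨i z, hzU⟩).asIdeal :=
    U.2.isLocalization_stalk ⟨i z, hzU⟩
  have hlocZ : IsLocalization.AtPrime (Z.presheaf.stalk z) (hV.primeIdealOf ⟨z, hzU⟩).asIdeal :=
    hV.isLocalization_stalk ⟨z, hzU⟩
  set p := (U.2.primeIdealOf ⟨i z, hzU⟩).asIdeal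
  set q := (hV.primeIdealOf ⟨z, hzU⟩).asIdeal
  set φ := (i.app U.1).hom
  have hgerm : ∀ a, (i.stalkMap z).hom (algebraMap _ (X.presheaf.stalk (i z)) a) =
      algebraMap _ (Z.presheaf.stalk z) (φ a) := fun a ↦ Scheme.Hom.germ_stalkMap_apply i U.1 z hzU a
  have hmem : ∀ a, a ∉ p → φ a ∉ q := by
    intro a ha hq
    have h1 : IsUnit ((i.stalkMap z).hom (algebraMap _ (X.presheaf.stalk (i z)) a)) :=
      (IsLocalization.map_units (X.presheaf.stalk (i z)) (⟨a, ha⟩ : p.primeCompl)).map _
    rw [hgerm, IsLocalization.AtPrime.isUnit_to_map_iff (Z.presheaf.stalk z) q] at h1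
    exact h1 hq
  have hmem' : ∀ a, φ a ∉ q → a ∉ p := by
    intro a ha hp
    apply ha
    by_contra hnq
    have h1 : IsUnit ((i.stalkMap z).hom (algebraMap _ (X.presheaf.stalk (i z)) a)) := by
      rw [hgerm]
      exact IsLocalization.map_units (Z.presheaf.stalk z) (⟨φ a, hnq⟩ : q.primeCompl)
    have h2 : IsUnit (algebraMap _ (X.presheaf.stalk (i z)) a) := (isUnit_map_iff (i.stalkMap z).hom _).mp h1
    exact (IsLocalization.AtPrime.isUnit_to_map_iff (X.presheaf.stalk (i z)) p a).mp h2 hp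
  refine ⟨rs.map (algebraMap _ _), RingTheory.Sequence.IsWeaklyRegular.isRegular_of_isLocalization_of_mem (X.presheaf.stalk (i z)) p hrs.toIsWeaklyRegular fun r hr ↦ ?_, ?_⟩
  · by_contra hrp
    have : φ r = 0 := by
      rw [← RingHom.mem_ker, hker]
      exact Ideal.subset_span hr
    exact hmem r hrp (this ▸ q.zero_mem)
  rw [← Ideal.map_ofList, ← hker]
  refine le_antisymm ?_ (Ideal.map_le_iff_le_comap.mpr fun a ha ↦ ?_)
  · intro w hw
    obtain ⟨a, s, rfl⟩ := IsLocalization.exists_mk'_eq p.primeCompl w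
    rw [IsLocalization.mk'_mem_map_algebraMap_iff]
    have h1 : (i.stalkMap z).hom (algebraMap _ _ a) = 0 := by
      rw [← IsLocalization.mk'_spec (X.presheaf.stalk (i z)) a s, map_mul, RingHom.mem_ker.mp hw, zero_mul]
    rw [hgerm, IsLocalization.map_eq_zero_iff q.primeCompl] at h1
    obtain ⟨⟨m, hm⟩, hma⟩ := h1
    obtain ⟨t, rfl⟩ := hsurj m
    exact ⟨t, hmem' t hm, RingHom.mem_ker.mpr (by rw [map_mul]; exact hma)⟩
  · rw [Ideal.mem_comap, RingHom.mem_ker, hgerm, RingHom.mem_ker.mp ha, map_zero]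

end Groth.Agent.S18944
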