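import Groth.Statements.S18945
import Groth.Agent.Syntomic.Scheme
import Groth.Agent.Calg5.TraceIso

set_option autoImplicit false
universe u
open CategoryTheory AlgebraicGeometry
open Synt

namespace Groth.Agent.S18945

open CategoryTheory AlgebraicGeometry

/-- Adjoining a `p`-th root of `r`. -/
theorem exists_root_algebra (p : ℕ) (hp : 0 < p) (R : Type u) [CommRing R] (r : R) :
    ∃ (B : Type u) (_ : CommRing B) (_ : Algebra R B), Synt.IsSyntomic R B ∧
      Function.Surjective (PrimeSpectrum.comap (algebraMap R B)) ∧ ∃ b : B, b ^ p = algebraMap R B r := by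
  let F : Fin 1 → MvPolynomial (Fin 1) R := fun _ => MvPolynomial.X 0 ^ p - MvPolynomial.C r
  set J := Ideal.span (Set.range F) with hJ
  let b : MvPolynomial (Fin 1) R ⧸ J := Ideal.Quotient.mk J (MvPolynomial.X 0)
  have hb : b ^ p = algebraMap R _ r := by
    rw [← map_pow, IsScalarTower.algebraMap_apply R (MvPolynomial (Fin 1) R) (_ ⧸ J),
      Ideal.Quotient.algebraMap_eq, Ideal.Quotient.eq]
    exact Ideal.subset_span ⟨0, rfl⟩
  have hmon : (Polynomial.X ^ p - Polynomial.C r).Monic := Polynomial.monic_X_pow_sub_C r hp.ne'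
  let θ : AdjoinRoot (Polynomial.X ^ p - Polynomial.C r) →ₐ[R] MvPolynomial (Fin 1) R ⧸ J :=
    AdjoinRoot.liftAlgHom _ (Algebra.ofId R _) b (by
      rw [Polynomial.eval₂_sub, Polynomial.eval₂_X_pow, Polynomial.eval₂_C]
      change b ^ p - algebraMap R _ r = 0
      rw [hb, sub_self])
  have hθ : Function.Surjective θ := by
    intro z
    obtain ⟨z, rfl⟩ := Ideal.Quotient.mk_surjective z
    induction z using MvPolynomial.induction_on with
    | C a => exact ⟨algebraMap R _ a, θ.commutes a⟩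
    | add x y hx hy => obtain ⟨x', hx⟩ := hx; obtain ⟨y', hy⟩ := hy; exact ⟨x' + y', by rw [map_add, hx, hy, map_add]⟩
    | mul_X x i hx =>
      obtain ⟨x', hx⟩ := hx
      refine ⟨x' * AdjoinRoot.root _, ?_⟩
      rw [map_mul, hx, map_mul, Subsingleton.elim i 0]
      congr 1
      exact AdjoinRoot.liftAlgHom_root _ _ _ _
  have : Module.Finite R (AdjoinRoot (Polynomial.X ^ p - Polynomial.C r)) := hmon.finite_adjoinRoot
  have : Module.Finite R (MvPolynomial (Fin 1) R ⧸ J) := Module.Finite.of_surjective θ.toLinearMap hθ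
  refine ⟨MvPolynomial (Fin 1) R ⧸ J, inferInstance, inferInstance,
    Groth.Calg5.RelGCI.isSyntomic_of_isRelGCI (Groth.Calg5.Trace.isRelGCI_of_finite F), fun q => ?_, b, hb⟩
  -- a root in an algebraic closure
  obtain ⟨x, hx⟩ := IsAlgClosed.exists_pow_nat_eq
    (algebraMap R (AlgebraicClosure q.asIdeal.ResidueField) r) hp
  let ev : MvPolynomial (Fin 1) R →ₐ[R] AlgebraicClosure q.asIdeal.ResidueField :=
    MvPolynomial.aeval fun _ => x
  let χ : MvPolynomial (Fin 1) R ⧸ J →ₐ[R] AlgebraicClosure q.asIdeal.ResidueField :=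
    Ideal.Quotient.liftₐ J ev (fun a ha => by
      refine (Ideal.span_le.mpr ?_ : J ≤ RingHom.ker ev.toRingHom) ha
      rintro _ ⟨i, rfl⟩
      simp [F, ev, hx])
  refine ⟨⟨RingHom.ker χ.toRingHom, RingHom.ker_isPrime _⟩, PrimeSpectrum.ext ?_⟩
  change (RingHom.ker χ.toRingHom).comap (algebraMap R _) = q.asIdeal
  rw [RingHom.comap_ker]
  ext a
  rw [RingHom.mem_ker]
  change χ (algebraMap R _ a) = 0 ↔ _
  rw [AlgHom.commutes, IsScalarTower.algebraMap_apply R q.asIdeal.ResidueField (AlgebraicClosure _),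
    map_eq_zero, Ideal.algebraMap_residueField_eq_zero]

/-- A syntomic algebra gives a syntomic morphism of spectra. -/
theorem isSyntomicMor_specMap {R B : Type u} [CommRing R] [CommRing B] [Algebra R B] (h : Synt.IsSyntomic R B) :
    Synt.IsSyntomicMor (Spec.map (CommRingCat.ofHom (algebraMap R B))) := by
  obtain ⟨hflat, hlci⟩ := Groth.Syntomic.isSyntomic_iff.mp h
  refine (Groth.Syntomic.isSyntomicMor_iff _).mpr ⟨?_, ?_⟩
  · rw [HasRingHomProperty.Spec_iff (P := @Flat)]
    exact RingHom.flat_algebraMap_iff.mpr hflat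
  · rw [HasRingHomProperty.Spec_iff (P := Groth.KoszulLCI.MorLCI)]
    exact Groth.KoszulLCI.ringLCI_algebraMap.mpr hlci


/-- Let p be a prime, X a scheme and a a global section of the structure sheaf of X. There is a covering
of X for the syntomic topology, that is a jointly surjective family of syntomic morphisms X_i → X,
such that the restriction of a to each X_i is a p-th power. (The source states the surjectivity of
the p-th power map of the structure sheaf on the small syntomic site of a syntomic scheme over a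
perfect field of characteristic p; the covering it uses elsewhere, adjoining a p-th root T^p = a
over affine pieces, gives the statement for every scheme, which is the form given here.) -/
theorem result (p : ℕ) [Fact p.Prime] (X : Scheme.{u}) (a : Γ(X, ⊤)) :
    ∃ 𝒰 : Scheme.Cover.{u} (Scheme.precoverage @Synt.IsSyntomicMor) X,
      ∀ i : 𝒰.I₀, ∃ b : Γ(𝒰.X i, ⊤), b ^ p = (𝒰.f i).appTop a := by
  classical
  let 𝒱 := X.affineOpenCover
  choose B iB aB hB hsurj b hb using fun i => exists_root_algebra p (Fact.out : p.Prime).pos (𝒱.X i)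
    ((Scheme.ΓSpecIso (𝒱.X i)).hom ((𝒱.f i).appTop a))
  let g : ∀ i, Spec (CommRingCat.of (B i)) ⟶ X := fun i =>
    Spec.map (CommRingCat.ofHom (algebraMap (𝒱.X i) (B i))) ≫ 𝒱.f i
  refine ⟨Scheme.Cover.mkOfCovers 𝒱.I₀ (fun i => Spec (CommRingCat.of (B i))) g (fun x => ?_) (fun i => ?_),
    fun i => ⟨(Scheme.ΓSpecIso (CommRingCat.of (B i))).inv (b i), ?_⟩⟩
  · obtain ⟨y, hy⟩ := 𝒱.covers x
    obtain ⟨z, hz⟩ := hsurj (𝒱.idx x) y
    refine ⟨𝒱.idx x, z, ?_⟩
    change (𝒱.f (𝒱.idx x)) ((Spec.map (CommRingCat.ofHom (algebraMap (𝒱.X (𝒱.idx x)) (B (𝒱.idx x))))) z) = x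
    exact (congrArg (fun w => (𝒱.f (𝒱.idx x)) w) hz).trans hy
  · exact Groth.Syntomic.isSyntomicMor_comp (isSyntomicMor_specMap (hB i))
      (Groth.Syntomic.isSyntomicMor_of_smooth (𝒱.f i))
  · refine ((map_pow (Scheme.ΓSpecIso (CommRingCat.of (B i))).inv.hom (b i) p).symm.trans ?_)
    refine (congrArg (Scheme.ΓSpecIso (CommRingCat.of (B i))).inv.hom (hb i)).trans ?_
    change _ = (g i).appTop a
    rw [Scheme.Hom.comp_appTop, CommRingCat.comp_apply]
    have := congrArg (fun φ => φ.hom ((Scheme.ΓSpecIso (𝒱.X i)).hom ((𝒱.f i).appTop a)))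
      (Scheme.ΓSpecIso_inv_naturality (CommRingCat.ofHom (algebraMap (𝒱.X i) (B i))))
    simp only [CommRingCat.hom_comp, RingHom.comp_apply] at this
    refine this.trans ?_
    exact congrArg (Scheme.Hom.appTop (Spec.map (CommRingCat.ofHom (algebraMap (𝒱.X i) (B i))))).hom
      ((Scheme.ΓSpecIso (𝒱.X i)).hom_inv_id_apply _)

end Groth.Agent.S18945
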