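import Groth.Statements.S18946
-- import your own Groth.Agent.* helpers here

set_option autoImplicit false
universe u
open scoped BigOperators
open InvQ

namespace Groth.Agent.S18946

/-- Let k be an algebraically closed field of characteristic zero and n a natural number, and let the
torus of (n+1)-tuples of units of k with product 1 act on the polynomial ring k[t_0, ..., t_n] by
rescaling each variable t_i by the i-th unit. A polynomial is fixed by every such rescaling if and
only if it lies in the k-subalgebra generated by the product t_0 t_1 ... t_n. (This is the
computation of the ring of functions on affine (n+1)-space invariant under the maximal diagonal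
torus of the special linear group, identified with the polynomial ring in the single coordinate t =
t_0 ... t_n of the line it maps to by the product map; invariance is tested on k-valued points of
the torus, which over an infinite field is the same as invariance under the group scheme.) -/
theorem result
    (k : Type u) [Field k] [IsAlgClosed k] [CharZero k] (n : ℕ)
    (f : MvPolynomial (Fin (n + 1)) k) :
    (∀ σ : Fin (n + 1) → kˣ, ∏ i, (σ i : k) = 1 →
        MvPolynomial.aeval (fun i => MvPolynomial.C (σ i : k) * MvPolynomial.X i) f = f) ↔
      f ∈ Algebra.adjoin k ({∏ i : Fin (n + 1), MvPolynomial.X i} : Set (MvPolynomial (Fin (n + 1)) k)) := by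
  classical
  constructor
  · intro hf
    have key : ∀ m ∈ f.support, ∀ i, m i = m 0 := by
      intro m hm i
      by_contra hne
      have hi : i ≠ 0 := fun h => hne (by rw [h])
      let t : kˣ := Units.mk0 2 two_ne_zero
      let σ : Fin (n + 1) → kˣ := fun j => if j = i then t else if j = 0 then t⁻¹ else 1
      have hsame : ∀ g : Fin (n + 1) → k, (∀ j, j ≠ i → j ≠ 0 → g j = 1) → ∏ j, g j = g i * g 0 := by
        intro g hg
        rw [Finset.prod_eq_mul i 0 hi (fun c _ hc => hg c hc.1 hc.2)]
        · simp
        · simp
      have hσ : ∏ j, (σ j : k) = 1 := by
        rw [hsame _ (fun j a b => by simp [σ, a, b])]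
        simp [σ, Ne.symm hi]
      have h2 := congrArg (MvPolynomial.coeff m) (hf σ hσ)
      have hscale : ∀ (q : MvPolynomial (Fin (n + 1)) k), MvPolynomial.coeff m
          (MvPolynomial.aeval (fun j => MvPolynomial.C (σ j : k) * MvPolynomial.X j) q) =
          (∏ j, (σ j : k) ^ m j) * MvPolynomial.coeff m q := by
        intro q
        induction q using MvPolynomial.induction_on' with
        | monomial e c =>
          rw [MvPolynomial.aeval_monomial, Finsupp.prod_fintype _ _ (by simp)]
          simp only [mul_pow, Finset.prod_mul_distrib, MvPolynomial.algebraMap_eq, ← map_pow, ← map_prod]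
          have he : ∏ x, (MvPolynomial.X x : MvPolynomial (Fin (n + 1)) k) ^ e x = MvPolynomial.monomial e 1 := by
            rw [MvPolynomial.monomial_eq, Finsupp.prod_fintype _ _ (by simp)]
            simp
          rw [← mul_assoc, ← map_mul, MvPolynomial.coeff_C_mul, he]
          by_cases hem : e = m
          · subst hem
            simp [MvPolynomial.coeff_monomial, mul_comm]
          · simp [MvPolynomial.coeff_monomial, hem]
        | add p q hp hq => simp [hp, hq, mul_add]
      rw [hscale, hsame _ (fun j a b => by simp [σ, a, b])] at h2
      have hc : MvPolynomial.coeff m f ≠ 0 := MvPolynomial.mem_support_iff.mp hm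
      have h3 := mul_right_cancel₀ hc (h2.trans (one_mul _).symm)
      simp only [σ, ↓reduceIte, if_neg (Ne.symm hi), Units.val_inv_eq_inv_val, t, Units.val_mk0] at h3
      rw [inv_pow, mul_inv_eq_one₀ (pow_ne_zero _ two_ne_zero)] at h3
      exact hne (Nat.pow_right_injective le_rfl (by exact_mod_cast h3))
    rw [MvPolynomial.as_sum f]
    refine Subalgebra.sum_mem _ fun m hm => ?_
    have : MvPolynomial.monomial m (MvPolynomial.coeff m f) =
        MvPolynomial.C (MvPolynomial.coeff m f) * (∏ i : Fin (n + 1), MvPolynomial.X i) ^ (m 0) := by
      rw [MvPolynomial.monomial_eq, Finsupp.prod_fintype _ _ (by simp), ← Finset.prod_pow]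
      congr 1
      exact Finset.prod_congr rfl fun i _ => by rw [key m hm i]
    rw [this, ← MvPolynomial.smul_eq_C_mul]
    exact Subalgebra.smul_mem _ (Subalgebra.pow_mem _ (Algebra.subset_adjoin (Set.mem_singleton _)) _) _
  · intro hf σ hσ
    induction hf using Algebra.adjoin_induction with
    | mem x hx =>
      rw [Set.mem_singleton_iff] at hx
      subst hx
      rw [map_prod]
      simp only [MvPolynomial.aeval_X, Finset.prod_mul_distrib, ← map_prod, hσ, map_one, one_mul]
    | algebraMap r => simp
    | add x y _ _ hx hy => rw [map_add, hx, hy]
    | mul x y _ _ hx hy => rw [map_mul, hx, hy]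

end Groth.Agent.S18946
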