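import Groth.Statements.S18948
import Mathlib.Tactic

set_option autoImplicit false
universe u v
open CExt

namespace Groth.Agent.S18948

/-- Let f : E → G be a surjective homomorphism of groups whose kernel is central in E, and let x ∈ E.
Then f maps the conjugacy class of x bijectively onto the conjugacy class of f(x) if and only if
every element of G commuting with f(x) is the image of some element of E commuting with x. (In the
source E → G is the central extension, with kernel the roots of unity, attached to a Brauer class of
the classifying stack of a finite tame étale group scheme, and a conjugacy class of E mapping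
bijectively onto a given class of G is a marking; the equivalence is stated here for an arbitrary
central extension of abstract groups.) -/
theorem result {E : Type u} {G : Type v} [Group E] [Group G]
    (f : E →* G) (hf : Function.Surjective f) (hker : f.ker ≤ Subgroup.center E) (x : E) :
    Set.BijOn f (MulAction.orbit (ConjAct E) x) (MulAction.orbit (ConjAct G) (f x)) ↔
      ∀ g : G, g * f x = f x * g → ∃ e : E, f e = g ∧ e * x = x * e := by
  constructor
  · intro h g hg
    obtain ⟨e₀, rfl⟩ := hf g
    have h1 : f (e₀ * x * e₀⁻¹) = f x := by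
      simp only [map_mul, map_inv, hg]; group
    have := h.injOn ⟨ConjAct.toConjAct e₀, rfl⟩ ⟨1, one_smul _ _⟩
    simp only [ConjAct.smul_def, ConjAct.ofConjAct_toConjAct] at this
    have := this h1
    exact ⟨e₀, rfl, by rwa [mul_inv_eq_iff_eq_mul] at this⟩
  · intro h
    refine ⟨?_, ?_, ?_⟩
    · rintro _ ⟨c, rfl⟩
      exact ⟨ConjAct.toConjAct (f (ConjAct.ofConjAct c)), by simp [ConjAct.smul_def]⟩
    · rintro _ ⟨c, rfl⟩ _ ⟨d, rfl⟩ he
      simp only [ConjAct.smul_def] at he ⊢
      set a := ConjAct.ofConjAct c
      set b := ConjAct.ofConjAct d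
      simp only [map_mul, map_inv] at he
      obtain ⟨e, he1, he2⟩ := h (f (b⁻¹ * a)) (by
        simp only [map_mul, map_inv]
        have := congrArg (fun t => (f b)⁻¹ * t * f a) he
        simpa [mul_assoc] using this)
      have hz := hker (show (b⁻¹ * a) * e⁻¹ ∈ f.ker by simp [MonoidHom.mem_ker, he1])
      rw [Subgroup.mem_center_iff] at hz
      have hc : (b⁻¹ * a) * x = x * (b⁻¹ * a) := by
        calc (b⁻¹ * a) * x = ((b⁻¹ * a) * e⁻¹) * (e * x) := by group
          _ = ((b⁻¹ * a) * e⁻¹) * (x * e) := by rw [he2]
          _ = (((b⁻¹ * a) * e⁻¹) * x) * e := by group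
          _ = (x * ((b⁻¹ * a) * e⁻¹)) * e := by rw [hz x]
          _ = x * (b⁻¹ * a) := by group
      calc a * x * a⁻¹ = b * ((b⁻¹ * a) * x) * a⁻¹ := by group
        _ = b * (x * (b⁻¹ * a)) * a⁻¹ := by rw [hc]
        _ = b * x * b⁻¹ := by group
    · rintro _ ⟨c, rfl⟩
      obtain ⟨e, he⟩ := hf (ConjAct.ofConjAct c)
      exact ⟨e * x * e⁻¹, ⟨ConjAct.toConjAct e, by simp [ConjAct.smul_def]⟩,
        by simp [ConjAct.smul_def, he]⟩

end Groth.Agent.S18948
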