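import Groth.Statements.S18949
import Mathlib.Tactic

set_option autoImplicit false
universe u v
open CExt

namespace Groth.Agent.S18949

/-- Automorphisms over the base: let f : E → G be a surjective homomorphism of groups with central
kernel A. For every homomorphism χ : G → A the map e ↦ χ(f(e)) · e is an endomorphism of E over G
which is the identity on A; and every endomorphism α of E with f ∘ α = f and α equal to the identity
on A is of this form for exactly one χ. (In the source this identifies the automorphisms of a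
central extension fixing its kernel with Hom(G, A), for extensions of profinite étale group schemes
over a field; stated here for abstract groups.) -/
theorem result {E : Type u} {G : Type v} [Group E] [Group G]
    (f : E →* G) (hf : Function.Surjective f) (hker : f.ker ≤ Subgroup.center E) :
    (∀ χ : G →* f.ker, ∃ α : E →* E, f.comp α = f ∧ (∀ a ∈ f.ker, α a = a) ∧
        ∀ e : E, α e = (χ (f e) : E) * e) ∧
      ∀ α : E →* E, f.comp α = f → (∀ a ∈ f.ker, α a = a) →
        ∃! χ : G →* f.ker, ∀ e : E, α e = (χ (f e) : E) * e := by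
  have hc : ∀ a ∈ f.ker, ∀ e : E, e * a = a * e := fun a ha => Subgroup.mem_center_iff.mp (hker ha)
  refine ⟨fun χ => ⟨⟨⟨fun e => (χ (f e) : E) * e, by simp⟩, fun a b => ?_⟩, ?_, ?_, fun e => rfl⟩, ?_⟩
  · simp only [map_mul, Subgroup.coe_mul]
    calc (χ (f a) : E) * χ (f b) * (a * b) = χ (f a) * ((χ (f b) : E) * a) * b := by group
      _ = χ (f a) * (a * (χ (f b) : E)) * b := by rw [← hc _ (χ (f b)).2 a]
      _ = χ (f a) * a * ((χ (f b) : E) * b) := by group
  · ext e; simp [MonoidHom.mem_ker.mp (χ (f e)).2]
  · intro a ha; simp [MonoidHom.mem_ker.mp ha]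
  · intro α hα hαA
    have hmem : ∀ e, α e * e⁻¹ ∈ f.ker := fun e => by
      have h' : f (α e) = f e := DFunLike.congr_fun hα e
      simp [MonoidHom.mem_ker, map_mul, map_inv, h']
    let ψ : E →* f.ker := ⟨⟨fun e => ⟨α e * e⁻¹, hmem e⟩, by simp⟩, fun a b => Subtype.ext (by
      simp only [map_mul, Subgroup.coe_mul]
      calc α a * α b * (a * b)⁻¹ = α a * ((α b * b⁻¹) * a⁻¹) := by group
        _ = α a * (a⁻¹ * (α b * b⁻¹)) := by rw [hc _ (hmem b) a⁻¹]
        _ = α a * a⁻¹ * (α b * b⁻¹) := by group)⟩
    have hk : f.ker ≤ ψ.ker := fun a ha => Subtype.ext (by simp [ψ, hαA a ha])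
    refine ⟨f.liftOfSurjective hf ⟨ψ, hk⟩, fun e => ?_, fun χ hχ => ?_⟩
    · simp [MonoidHom.liftOfRightInverse_comp_apply, ψ]
    · ext g
      obtain ⟨e, rfl⟩ := hf g
      simp [MonoidHom.liftOfRightInverse_comp_apply, ψ, hχ e]

end Groth.Agent.S18949
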