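import Groth.Statements.S1895
import Groth.Agent.GitQuot.EtQuot.OfScheme

set_option autoImplicit false
universe u
open CategoryTheory CategoryTheory.Limits AlgebraicGeometry
open Grpd

namespace Groth.Agent.S1895

/-- Let f : (U', R', s', t', c') → (U, R, s, t, c) be a morphism of groupoid schemes over S with U, R,
U', R' affine, s, t, s', t' finite locally free, the squares for s and for t cartesian, the induced
square of stabilizer group schemes cartesian, and f : U' → U étale. Then the induced morphism Spec
C' → Spec C on spectra of invariant rings (the unique one compatible with U' → U) is étale. (The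
source's second conclusion, U' = Spec C' ×_{Spec C} U, is not stated.) (A groupoid scheme carries U,
R, s, t, c, e, i over S with the groupoid axioms on T-points; 'finite locally free' is finite, flat
and locally of finite presentation; C ⊂ Γ(U) is the ring of functions a with s♯(a) = t♯(a) and M =
Spec C.) -/
theorem result (S : Scheme.{u}) (G' G : Grpd.GroupoidScheme S) (f : Grpd.GroupoidScheme.Hom G' G) [IsAffine G.U] [IsAffine G.R] [IsAffine G'.U] [IsAffine G'.R] [IsFinite G.s] [Flat G.s] [LocallyOfFinitePresentation G.s] [IsFinite G.t] [Flat G.t] [LocallyOfFinitePresentation G.t] [IsFinite G'.s] [Flat G'.s] [LocallyOfFinitePresentation G'.s] [IsFinite G'.t] [Flat G'.t] [LocallyOfFinitePresentation G'.t] (hs : IsPullback f.fR G'.s G.s f.fU) (ht : IsPullback f.fR G'.t G.t f.fU) (hstab : ∃ g : G'.stabilizer ⟶ G.stabilizer, g ≫ pullback.fst G.j G.diag = pullback.fst G'.j G'.diag ≫ f.fR ∧ IsPullback g G'.stabilizerToU G.stabilizerToU f.fU) [Etale f.fU] : ∃ g : Spec (CommRingCat.of G'.invariants) ⟶ Spec (CommRingCat.of G.invariants), G'.toQuot ≫ g = f.fU ≫ G.toQuot ∧ Etale g :=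
  ⟨Groth.EtQuot.quotMap f, Groth.EtQuot.toQuot_quotMap f, (Groth.EtQuot.etale_isPullback f hs ht hstab).1⟩

end Groth.Agent.S1895
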