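import Groth.Statements.S18950
import Mathlib.Tactic

set_option autoImplicit false
universe u v
open CExt

namespace Groth.Agent.S18950

/-- Let f : E → G be a homomorphism of groups whose kernel is central in E, let α be an endomorphism of
E with f ∘ α = f which is the identity on the kernel, and let S ⊆ E be a subset fixed pointwise by α
such that f(S) generates G. Then α is the identity. (In the source S is the marking of a marked
central extension of finite tame étale group schemes and the hypothesis is that the marked conjugacy
classes generate G; the conclusion there is that a morphism of marked extensions inducing the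
identity on the kernel and on G is unique.) -/
theorem result {E : Type u} {G : Type v} [Group E] [Group G]
    (f : E →* G) (hker : f.ker ≤ Subgroup.center E) (α : E →* E) (hα : f.comp α = f)
    (hαA : ∀ a ∈ f.ker, α a = a) (S : Set E) (hS : Subgroup.closure (f '' S) = ⊤)
    (hαS : ∀ s ∈ S, α s = s) : α = MonoidHom.id E := by
  have hfix : ∀ g : G, ∃ e, f e = g ∧ α e = e := by
    intro g
    induction (hS ▸ Subgroup.mem_top g : g ∈ Subgroup.closure (f '' S)) using Subgroup.closure_induction with
    | mem x hx => obtain ⟨s, hs, rfl⟩ := hx; exact ⟨s, rfl, hαS s hs⟩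
    | one => exact ⟨1, map_one f, map_one α⟩
    | mul x y _ _ hx hy =>
      obtain ⟨a, rfl, ha⟩ := hx
      obtain ⟨b, rfl, hb⟩ := hy
      exact ⟨a * b, map_mul f a b, by rw [map_mul, ha, hb]⟩
    | inv x _ hx =>
      obtain ⟨a, rfl, ha⟩ := hx
      exact ⟨a⁻¹, map_inv f a, by rw [map_inv, ha]⟩
  ext e
  obtain ⟨a, ha, ha'⟩ := hfix (f e)
  have h := hαA (e * a⁻¹) (by simp [MonoidHom.mem_ker, ha])
  simp only [map_mul, map_inv, ha', mul_left_inj] at h
  simpa using h

end Groth.Agent.S18950
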