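import Groth.Statements.S18951
import Mathlib.Tactic

set_option autoImplicit false
universe u
open OrbPic

namespace Groth.Agent.S18951

/-- Let G be a group and C ⊆ G a subset that generates G. Then the projection (χ, w) ↦ w from the group
of geometric partial orbifold line bundles with respect to C to functions G → ℚ is injective, its
image contains every conjugation-invariant integer-valued function vanishing at 1 and outside C, and
the group is torsion-free. (The source works with the geometric points of a tame finite étale group
scheme, characters with values in roots of unity and weights on conjugacy classes of the Tate twist;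
here these are identified with a group, homomorphisms to ℚ/ℤ and class functions as the source does
after choosing roots of unity. The case C = G ∖ {1} is the statement for full orbifold line
bundles.) -/
theorem result (G : Type u) [Group G] (C : Set G)
    (hC : Subgroup.closure C = ⊤) :
    Set.InjOn (fun p : (Additive G →+ W4c6brauerbgmalle.QmodZ) × (G → ℚ) => p.2) (W4c6brauerbgmalle.picOrb G C) ∧
      (∀ w ∈ W4c6brauerbgmalle.intWeights G C, ((0 : Additive G →+ W4c6brauerbgmalle.QmodZ), w) ∈ W4c6brauerbgmalle.picOrb G C) ∧
      ∀ (n : ℕ) (p : (Additive G →+ W4c6brauerbgmalle.QmodZ) × (G → ℚ)), p ∈ W4c6brauerbgmalle.picOrb G C → n ≠ 0 →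
        n • p = 0 → p = 0 := by
  have hsum : ∀ p : (Additive G →+ W4c6brauerbgmalle.QmodZ) × (G → ℚ),
      p ∈ W4c6brauerbgmalle.picOrb G C → p.2 = 0 → p.1 = 0 := by
    rintro ⟨χ, w⟩ ⟨-, -, -, h4⟩ (hw : w = 0)
    have : ∀ g : G, χ (Additive.ofMul g) = 0 := fun g => by
      induction (hC ▸ Subgroup.mem_top g : g ∈ Subgroup.closure C) using Subgroup.closure_induction with
      | mem x hx => simpa [hw] using (h4 x hx).symm
      | one => simp
      | mul x y _ _ a b => simp [a, b]
      | inv x _ a => simp [a]
    exact AddMonoidHom.ext this
  refine ⟨fun p hp q hq h => ?_, fun w hw => ⟨hw.1, hw.2.1, hw.2.2.1, fun g hg => ?_⟩, fun n p hp hn h => ?_⟩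
  · have h' := hsum _ ((W4c6brauerbgmalle.picOrb G C).sub_mem hp hq) (by simpa [sub_eq_zero] using h)
    exact Prod.ext (sub_eq_zero.mp h') h
  · obtain ⟨m, hm⟩ := hw.2.2.2 g
    show W4c6brauerbgmalle.toQmodZ (w g) = 0
    rw [hm, QuotientAddGroup.mk'_apply, QuotientAddGroup.eq_zero_iff]
    exact ⟨m, by simp⟩
  · have h2 : p.2 = 0 := by
      have := congrArg Prod.snd h
      funext g
      have := congrFun this g
      simpa [hn] using this
    exact Prod.ext (hsum p hp h2) h2

end Groth.Agent.S18951
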