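import Groth.Statements.S18952
import Mathlib.Tactic

set_option autoImplicit false
universe u
open OrbPic

namespace Groth.Agent.S18952

/-- Let G be a group and C ⊆ G a subset stable under conjugation. Then (χ, w) ↦ χ maps the group of
geometric partial orbifold line bundles with respect to C onto all characters G → ℚ/ℤ, and a pair in
its kernel (χ trivial) has w a conjugation-invariant integer-valued function vanishing at 1 and
outside C: with the inclusion of such functions this is the exact sequence 0 → Hom(C/conj, ℤ) → Pic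
→ Hom(G, ℚ/ℤ) → 0 over a separably closed field. (As in the source after a choice of roots of unity,
the group G stands for the geometric points of a tame finite étale group scheme, characters are
homomorphisms to ℚ/ℤ and weights are class functions on G.) -/
theorem result (G : Type u) [Group G] (C : Set G)
    (hC : ∀ g h : G, g ∈ C → h * g * h⁻¹ ∈ C) :
    (∀ χ : Additive G →+ W4c6brauerbgmalle.QmodZ, ∃ w : G → ℚ, (χ, w) ∈ W4c6brauerbgmalle.picOrb G C) ∧
      (∀ p : (Additive G →+ W4c6brauerbgmalle.QmodZ) × (G → ℚ), p ∈ W4c6brauerbgmalle.picOrb G C → p.1 = 0 →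
        p.2 ∈ W4c6brauerbgmalle.intWeights G C) := by
  classical
  refine ⟨fun χ => ?_, ?_⟩
  · let r : W4c6brauerbgmalle.QmodZ → ℚ := fun q => if q = 0 then 0 else Quotient.out q
    have hr : ∀ q, W4c6brauerbgmalle.toQmodZ (r q) = q := fun q => by
      by_cases h : q = 0
      · simp [r, h]
      · simp only [r, if_neg h]; exact Quotient.out_eq' q
    refine ⟨fun g => if g ∈ C then r (χ (Additive.ofMul g)) else 0, ?_, fun g hg => if_neg hg, fun g h => ?_, fun g hg => ?_⟩
    · by_cases h : (1:G) ∈ C <;> simp [h, r]
    · have h1 : h * g * h⁻¹ ∈ C ↔ g ∈ C :=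
        ⟨fun hh => by simpa [mul_assoc] using hC _ h⁻¹ hh, hC g h⟩
      have h2 : χ (Additive.ofMul (h * g * h⁻¹)) = χ (Additive.ofMul g) := by
        simp [ofMul_mul, ofMul_inv]
      simp only [h1, h2]
    · simp only [if_pos hg]; exact hr _
  · rintro ⟨χ, w⟩ ⟨h1, h2, h3, h4⟩ (hp : χ = 0)
    refine ⟨h1, h2, h3, fun g => ?_⟩
    by_cases hg : g ∈ C
    · have := h4 g hg
      simp only [hp, AddMonoidHom.zero_apply] at this
      rw [QuotientAddGroup.mk'_apply, QuotientAddGroup.eq_zero_iff] at this
      obtain ⟨m, hm⟩ := this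
      exact ⟨m, by simpa using hm.symm⟩
    · exact ⟨0, by simpa using h2 g hg⟩

end Groth.Agent.S18952
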