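import Groth.Statements.S18953
import Mathlib.Tactic

set_option autoImplicit false
universe u v
open OrbPic

namespace Groth.Agent.S18953

/-- Let G₁ and G₂ be groups with subsets C₁ ⊆ G₁ and C₂ ⊆ G₂, and let C ⊆ G₁ × G₂ be the union of C₁ ×
{1} and {1} × C₂. Restricting the character and the weight along the two inclusions G₁ → G₁ × G₂ and
G₂ → G₁ × G₂ is a bijection from the geometric partial orbifold line bundles of G₁ × G₂ with respect
to C onto pairs of geometric partial orbifold line bundles of G₁ with respect to C₁ and of G₂ with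
respect to C₂. (As in the source after a choice of roots of unity, each group stands for the
geometric points of a tame finite étale group scheme, characters are homomorphisms to ℚ/ℤ and
weights are class functions; the source states the Galois-equivariant version, which follows by
taking invariants.) -/
theorem result (G₁ : Type u) (G₂ : Type v) [Group G₁] [Group G₂] (C₁ : Set G₁) (C₂ : Set G₂) :
    Set.BijOn
      (fun p : (Additive (G₁ × G₂) →+ W4c6brauerbgmalle.QmodZ) × (G₁ × G₂ → ℚ) =>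
        ((p.1.comp (MonoidHom.toAdditive (MonoidHom.inl G₁ G₂)), fun g => p.2 (g, 1)),
          (p.1.comp (MonoidHom.toAdditive (MonoidHom.inr G₁ G₂)), fun g => p.2 (1, g))))
      (W4c6brauerbgmalle.picOrb (G₁ × G₂) ((fun g => (g, (1 : G₂))) '' C₁ ∪ (fun g => ((1 : G₁), g)) '' C₂))
      ((W4c6brauerbgmalle.picOrb G₁ C₁ : Set _) ×ˢ (W4c6brauerbgmalle.picOrb G₂ C₂ : Set _)) := by
  classical
  refine ⟨?_, ?_, ?_⟩
  · rintro ⟨χ, w⟩ ⟨h1, h2, h3, h4⟩
    refine ⟨⟨h1, fun g hg => ?_, fun g h => ?_, fun g hg => ?_⟩, ⟨h1, fun g hg => ?_, fun g h => ?_, fun g hg => ?_⟩⟩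
    · by_cases hg1 : g = 1
      · subst hg1; exact h1
      · exact h2 _ (by rintro (⟨a, ha, e⟩ | ⟨a, ha, e⟩) <;> simp at e <;> aesop)
    · simpa using h3 (g, 1) (h, 1)
    · exact h4 _ (.inl ⟨g, hg, rfl⟩)
    · by_cases hg1 : g = 1
      · subst hg1; exact h1
      · exact h2 _ (by rintro (⟨a, ha, e⟩ | ⟨a, ha, e⟩) <;> simp at e <;> aesop)
    · simpa using h3 (1, g) (1, h)
    · exact h4 _ (.inr ⟨g, hg, rfl⟩)
  · rintro ⟨χ, w⟩ ⟨h1, h2, -, -⟩ ⟨χ', w'⟩ ⟨h1', h2', -, -⟩ he
    simp only [Prod.mk.injEq] at he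
    obtain ⟨⟨e1, e2⟩, e3, e4⟩ := he
    refine Prod.ext ?_ ?_
    · ext ⟨a, b⟩
      have hab : Additive.ofMul (a, b) = Additive.ofMul ((a, 1) : G₁ × G₂) + Additive.ofMul ((1, b) : G₁ × G₂) := by
        rw [← ofMul_mul]; simp
      have ha := DFunLike.congr_fun e1 (Additive.ofMul a)
      have hb := DFunLike.congr_fun e3 (Additive.ofMul b)
      simp at ha hb
      show χ (Additive.ofMul (a, b)) = χ' (Additive.ofMul (a, b))
      rw [hab, map_add, map_add]
      exact congrArg₂ _ ha hb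
    · funext ⟨a, b⟩
      by_cases hb : b = 1
      · subst hb; exact congrFun e2 a
      by_cases ha : a = 1
      · subst ha; exact congrFun e4 b
      · have : (a, b) ∉ (fun g => (g, (1 : G₂))) '' C₁ ∪ (fun g => ((1 : G₁), g)) '' C₂ := by
          rintro (⟨x, -, e⟩ | ⟨x, -, e⟩) <;> simp at e <;> aesop
        exact (h2 _ this).trans (h2' _ this).symm
  · rintro ⟨⟨χ₁, w₁⟩, χ₂, w₂⟩ ⟨⟨a1, a2, a3, a4⟩, b1, b2, b3, b4⟩
    simp only at a1 a2 a3 a4 b1 b2 b3 b4
    let w : G₁ × G₂ → ℚ := fun p => (if p.2 = 1 then w₁ p.1 else 0) + (if p.1 = 1 then w₂ p.2 else 0)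
    let χ : Additive (G₁ × G₂) →+ W4c6brauerbgmalle.QmodZ :=
      χ₁.comp (MonoidHom.toAdditive (MonoidHom.fst G₁ G₂)) + χ₂.comp (MonoidHom.toAdditive (MonoidHom.snd G₁ G₂))
    refine ⟨(χ, w), ⟨by simp [w, a1, b1], ?_, ?_, ?_⟩, ?_⟩
    · rintro ⟨a, b⟩ hab
      simp only [Set.mem_union, Set.mem_image, not_or, not_exists, not_and] at hab
      have e1 : (if b = 1 then w₁ a else 0) = 0 := by
        split_ifs with hb
        · exact a2 a fun ha => hab.1 a ha (by simp [hb])
        · rfl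
      have e2 : (if a = 1 then w₂ b else 0) = 0 := by
        split_ifs with ha
        · exact b2 b fun hb => hab.2 b hb (by simp [ha])
        · rfl
      simp [w, e1, e2]
    · rintro ⟨a, b⟩ ⟨c, d⟩
      simp [w, a3, b3, conj_eq_one_iff]
    · rintro _ (⟨a, ha, rfl⟩ | ⟨a, ha, rfl⟩)
      · by_cases h : a = 1
        · subst h; simp [w, χ, a1, b1, ← a4 1 ha]
        · simp [w, χ, h, b1, ← a4 a ha]
      · by_cases h : a = 1
        · subst h; simp [w, χ, a1, b1, ← b4 1 ha]
        · simp [w, χ, h, a1, ← b4 a ha]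
    · refine Prod.ext (Prod.ext ?_ ?_) (Prod.ext ?_ ?_)
      · ext g; simp [χ]
      · funext g; by_cases h : g = 1 <;> simp [w, h, a1, b1]
      · ext g; simp [χ]
      · funext g; by_cases h : g = 1 <;> simp [w, h, a1, b1]

end Groth.Agent.S18953
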