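import Groth.Statements.S18954
import Mathlib.GroupTheory.GroupAction.Quotient
import Mathlib.Tactic

set_option autoImplicit false
universe u v w
open Classical
open BGCount

namespace Groth.Agent.S18954

/-- Let a finite group G act on a finite set X, let W be a finite set of orbits and f a function on
orbits with values in a field of characteristic zero. Then Σ_{O ∈ W} f(O)/|Stab(x_O)|, with x_O any
point of O, equals |G|⁻¹ · Σ f(orbit(x)) over the points x of X whose orbit lies in W. (In the
source X is the set of 1-cocycles of the absolute Galois group of a field in a finite étale group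
scheme G, acted on by the geometric points of G, the orbits are the isomorphism classes of G-torsors
and the stabilisers their automorphism groups; stated here for an arbitrary action of a finite group
on a finite set, the representative x_O being chosen by Quotient.out.) -/
theorem result {G : Type u} {X : Type v} (𝕜 : Type w)
    [Group G] [Fintype G] [MulAction G X] [Fintype X] [Field 𝕜] [CharZero 𝕜]
    (W : Finset (MulAction.orbitRel.Quotient G X)) (f : MulAction.orbitRel.Quotient G X → 𝕜) :
    (∑ O ∈ W, f O / (Nat.card (MulAction.stabilizer G O.out) : 𝕜)) =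
      (Fintype.card G : 𝕜)⁻¹ *
        ∑ x ∈ Finset.univ.filter (fun x : X => (Quotient.mk (MulAction.orbitRel G X) x) ∈ W),
          f (Quotient.mk (MulAction.orbitRel G X) x) := by
  have h1 : ∀ O : MulAction.orbitRel.Quotient G X,
      ((Finset.univ.filter fun x : X => Quotient.mk (MulAction.orbitRel G X) x = O).card : 𝕜) *
        (Nat.card (MulAction.stabilizer G O.out) : 𝕜) = (Fintype.card G : 𝕜) := by
    intro O
    have h2 : ((Finset.univ.filter fun x : X => Quotient.mk (MulAction.orbitRel G X) x = O).card) =
        Fintype.card (MulAction.orbit G O.out) := by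
      rw [← Set.toFinset_card]
      congr 1
      ext x
      rw [Set.mem_toFinset, Finset.mem_filter]
      conv_lhs => rw [← Quotient.out_eq O, Quotient.eq]
      simp [MulAction.orbitRel_apply]
    rw [h2, Nat.card_eq_fintype_card]
    exact_mod_cast MulAction.card_orbit_mul_card_stabilizer_eq_card_group G O.out
  rw [Finset.mul_sum, ← Finset.sum_fiberwise_of_maps_to (t := W)
    (g := fun x : X => Quotient.mk (MulAction.orbitRel G X) x) (fun x hx => (Finset.mem_filter.mp hx).2)]
  refine Finset.sum_congr rfl fun O hO => ?_
  rw [Finset.filter_filter]
  have : (Finset.univ.filter fun x : X => (Quotient.mk (MulAction.orbitRel G X) x) ∈ W ∧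
      Quotient.mk (MulAction.orbitRel G X) x = O) = Finset.univ.filter fun x : X => Quotient.mk (MulAction.orbitRel G X) x = O := by
    refine Finset.filter_congr fun x _ => ⟨fun h => h.2, fun h => ⟨h ▸ hO, h⟩⟩
  rw [this, Finset.sum_congr rfl (g := fun _ => (Fintype.card G : 𝕜)⁻¹ * f O)
    (fun x hx => by rw [(Finset.mem_filter.mp hx).2]), Finset.sum_const, nsmul_eq_mul]
  have h3 := h1 O
  have hG : (Fintype.card G : 𝕜) ≠ 0 := by simp
  have hs : (Nat.card (MulAction.stabilizer G O.out) : 𝕜) ≠ 0 := by
    exact_mod_cast Nat.card_pos.ne'
  field_simp
  linear_combination (-(f O)) * h3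

end Groth.Agent.S18954
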