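import Groth.Statements.S18955
import Groth.Agent.Flatmor4.EqvExt

set_option autoImplicit false
universe u
open CategoryTheory MonoidalCategory CartesianMonoidalCategory MonObj AlgebraicGeometry Opposite
open Magnet

namespace Groth.Agent.S18955

/-- Let k be a field, M an affine monoid k-scheme (a monoid object in k-schemes with affine underlying
scheme), G an affine group k-scheme and i : G → M a homomorphism of monoids which is an open
immersion with scheme-theoretically dense image, and let X be an affine k-scheme with an action a of
G. Let D_X be the functor on k-schemes whose value at Y is the set of k-morphisms M ×_k Y → X that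
are G-equivariant for G acting on M ×_k Y by left multiplication through i on the first factor and
on X through a. Then D_X is representable by a k-scheme Z, and the canonical map D_X → X
(restriction to the unit section of M) is a closed immersion j : Z → X. (The published statement
takes G to be the group of units of M, open and schematically dense; here it is assumed only that i
is a homomorphism of monoids and a scheme-theoretically dominant open immersion of affine schemes.) -/
theorem result (k : Type u) [Field k]
    (M G X : Over (Spec (CommRingCat.of k))) [MonObj M] [GrpObj G] [IsAffine M.left] [IsAffine G.left]
    [IsAffine X.left] (i : G ⟶ M) [IsMonHom i] [IsOpenImmersion i.left]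
    [IsSchemeTheoreticallyDominant i.left] (a : AlgGrp.Action G X) :
    ∃ (Z : Over (Spec (CommRingCat.of k))) (j : Z ⟶ X)
      (e : (Magnet.MonAct.eqvHom ((Magnet.MonAct.regular M).restrict i) (Magnet.MonAct.ofAction a)).RepresentableBy Z),
      IsClosedImmersion j.left ∧
      ∀ (T : Over (Spec (CommRingCat.of k))) (z : T ⟶ Z),
        (Magnet.MonAct.eqvHom.evalAt ((Magnet.MonAct.regular M).restrict i) (Magnet.MonAct.ofAction a) η[M]).app
          (op T) (e.homEquiv z) = z ≫ j := by
  haveI : IsAffineHom i.left := isAffineHom_of_isAffine i.left
  haveI : QuasiCompact i.left := inferInstance
  exact Groth.Flatmor4.EqvExt.exists_representableBy i (Magnet.MonAct.ofAction a)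

end Groth.Agent.S18955
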