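import Groth.Statements.S18958
import Groth.Agent.AlgGrp2.Basic

set_option autoImplicit false
universe u
open CategoryTheory MonoidalCategory CartesianMonoidalCategory MonObj AlgebraicGeometry Opposite
open Magnet

namespace Groth.Agent.S18958

/-- Let k be a field, G a group k-scheme and M a monoid k-scheme with a homomorphism of monoids i : G →
M and a zero o : Spec k → M (m·o = o = o·m for every point m of M). Assume that for every k-scheme T
whose underlying scheme is the spectrum of a field K, every open subset of M ×_k T which is stable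
under G acting by left multiplication through i on the first factor and which contains the zero
section T → M ×_k T is the whole of M ×_k T. Let X be a k-scheme with an action aX of G and j : U →
X an open immersion, G-equivariant for an action aU of G on U (an open G-stable subscheme). For a
G-scheme W write D_W for the functor on k-schemes whose value at Y is the set of k-morphisms M ×_k Y
→ W that are G-equivariant for G acting on M ×_k Y by left multiplication through i on the first
factor. Then the square of presheaves formed by D_U → D_X (composition with j), the restrictions D_U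
→ U and D_X → X to the zero section of M, and j is cartesian. (In the source M is a Kempf monoid
with G its group of units, and the restriction to the zero section is viewed as the retraction of
D_X onto the fixed points X^G; the displayed property of the open G-stable subsets of M over field
extensions is what the argument uses about M, and the square over X^G is cartesian exactly when the
one over X is, U^G being X^G ×_X U.) -/
theorem result (k : Type u) [Field k]
    (M G X U : Over (Spec (CommRingCat.of k))) [MonObj M] [GrpObj G] (i : G ⟶ M) [IsMonHom i]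
    (o : 𝟙_ (Over (Spec (CommRingCat.of k))) ⟶ M)
    (ho : ∀ (T : Over (Spec (CommRingCat.of k))) (m : T ⟶ M), m * (toUnit T ≫ o) = toUnit T ≫ o ∧ (toUnit T ≫ o) * m = toUnit T ≫ o)
    (hM : ∀ (T : Over (Spec (CommRingCat.of k))) (K : Type u) [Field K] (eT : T.left ≅ Spec (CommRingCat.of K))
      (W : (M ⊗ T).left.Opens),
      (CartesianMonoidalCategory.snd G (M ⊗ T)).left ⁻¹ᵁ W ≤
          ((((Magnet.MonAct.regular M).restrict i).prod (Magnet.MonAct.trivial G T)).act).left ⁻¹ᵁ W →
      (CartesianMonoidalCategory.lift (toUnit T ≫ o) (𝟙 T)).left ⁻¹ᵁ W = ⊤ → W = ⊤)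
    (aX : AlgGrp.Action G X) (aU : AlgGrp.Action G U) (j : U ⟶ X) [IsOpenImmersion j.left]
    (hj : Magnet.MonAct.IsEquivariant (Magnet.MonAct.ofAction aU) (Magnet.MonAct.ofAction aX) j) :
    IsPullback
      (Magnet.MonAct.eqvHom.postcomp ((Magnet.MonAct.regular M).restrict i) j hj)
      (Magnet.MonAct.eqvHom.evalAt ((Magnet.MonAct.regular M).restrict i) (Magnet.MonAct.ofAction aU) o)
      (Magnet.MonAct.eqvHom.evalAt ((Magnet.MonAct.regular M).restrict i) (Magnet.MonAct.ofAction aX) o)
      (yoneda.map j) := by
  refine IsPullback.of_forall_isPullback_app fun T => (Limits.Types.isPullback_iff _ _ _ _).2 ⟨?_, ?_, ?_⟩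
  · ext φ
    exact (Category.assoc _ _ _).symm
  · intro φ φ' h
    have hm : Mono j := Over.mono_of_mono_left j
    exact Subtype.ext ((cancel_mono j).1 (congrArg Subtype.val h.1))
  · intro φ u hu
    obtain ⟨Y⟩ := T
    have hu' : lift (toUnit Y ≫ o) (𝟙 Y) ≫ φ.1 = u ≫ j := hu
    have hm : Mono j := Over.mono_of_mono_left j
    have hrange : Set.range φ.1.left.base ⊆ Set.range j.left.base := by
      rintro _ ⟨z, rfl⟩
      let y := (snd M Y).left.base z
      let T : Over (Spec (CommRingCat.of k)) := Over.mk (Y.left.fromSpecResidueField y ≫ Y.hom)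
      let t : T ⟶ Y := Over.homMk (Y.left.fromSpecResidueField y) rfl
      let ψ : M ⊗ T ⟶ X := (M ◁ t) ≫ φ.1
      let W : (M ⊗ T).left.Opens := ψ.left ⁻¹ᵁ j.left.opensRange
      have hψ : Magnet.MonAct.IsEquivariant
          (((Magnet.MonAct.regular M).restrict i).prod (Magnet.MonAct.trivial G T))
          (Magnet.MonAct.ofAction aX) ψ :=
        ((Magnet.MonAct.eqvHom _ _).map t.op φ).2
      have hW : W = ⊤ := by
        refine hM T _ (Iso.refl _) W ?_ ?_
        · intro p hp
          let V : (G ⊗ (M ⊗ T)).left.Opens := (CartesianMonoidalCategory.snd G (M ⊗ T)).left ⁻¹ᵁ W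
          let Vo : Over (Spec (CommRingCat.of k)) := Over.mk (V.ι ≫ (G ⊗ (M ⊗ T)).hom)
          let v : Vo ⟶ G ⊗ (M ⊗ T) := Over.homMk V.ι rfl
          have hsub : Set.range (v ≫ snd G (M ⊗ T) ≫ ψ).left.base ⊆ Set.range j.left.base := by
            rintro _ ⟨q, rfl⟩
            exact q.2
          let u' : Vo ⟶ U := Over.homMk (IsOpenImmersion.lift j.left _ hsub) (by
            rw [← Over.w j, IsOpenImmersion.lift_fac_assoc]
            exact Over.w (v ≫ snd G (M ⊗ T) ≫ ψ))
          have hu'' : u' ≫ j = v ≫ snd G (M ⊗ T) ≫ ψ :=
            Over.OverMorphism.ext (IsOpenImmersion.lift_fac _ _ _)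
          have key : v ≫ (((Magnet.MonAct.regular M).restrict i).prod (Magnet.MonAct.trivial G T)).act ≫ ψ =
              (lift (v ≫ fst _ _) u' ≫ aU.act) ≫ j := by
            have h1 : v = lift (v ≫ fst _ _) (v ≫ snd _ _) := by rw [← comp_lift, lift_fst_snd, Category.comp_id]
            conv_lhs => rw [h1]
            rw [(Magnet.MonAct.isEquivariant_iff _ _ _).1 hψ, Category.assoc, Category.assoc]
            refine Eq.trans ?_ ((Magnet.MonAct.isEquivariant_iff _ _ _).1 hj _ (v ≫ fst _ _) u').symm
            rw [hu'']
          exact ⟨_, (congrArg (fun m : Vo ⟶ X => m.left.base (⟨p, hp⟩ : V)) key).symm⟩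
        · refine top_le_iff.1 fun p _ => ⟨(t ≫ u).left.base p, ?_⟩
          have key : lift (toUnit T ≫ o) (𝟙 T) ≫ ψ = (t ≫ u) ≫ j := by
            rw [Category.assoc, ← hu']
            simp only [ψ, lift_whiskerLeft_assoc, comp_lift_assoc, Category.id_comp, Category.comp_id,
              comp_toUnit_assoc]
          exact (congrArg (fun m : T ⟶ X => m.left.base p) key).symm
      obtain ⟨q, -, hq⟩ := Scheme.exists_preimage_of_isPullback (Groth.AlgGrp2.isPullback_whiskerLeft_snd M t).flip
        (IsLocalRing.closedPoint (Y.left.residueField y) : Spec (Y.left.residueField y)) z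
        (Scheme.fromSpecResidueField_apply _ _)
      have hqW : q ∈ W := hW.symm ▸ trivial
      rw [← hq]
      exact hqW
    let φ' : M ⊗ Y ⟶ U := Over.homMk (IsOpenImmersion.lift j.left φ.1.left hrange) (by
      rw [← Over.w j, IsOpenImmersion.lift_fac_assoc]
      exact Over.w φ.1)
    have hφ' : φ' ≫ j = φ.1 := Over.OverMorphism.ext (IsOpenImmersion.lift_fac _ _ _)
    refine ⟨⟨φ', (Magnet.MonAct.isEquivariant_iff _ _ _).2 fun T' g x => ?_⟩, Subtype.ext hφ', ?_⟩
    · rw [← cancel_mono j, Category.assoc, Category.assoc, hφ', Category.assoc,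
        (Magnet.MonAct.isEquivariant_iff _ _ _).1 hj, Category.assoc, hφ']
      exact (Magnet.MonAct.isEquivariant_iff _ _ _).1 φ.2 T' g x
    · show lift (toUnit Y ≫ o) (𝟙 Y) ≫ φ' = u
      rw [← cancel_mono j, Category.assoc, hφ', hu']

end Groth.Agent.S18958
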