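import Groth.Statements.S18959
import Groth.Agent.Misc7.Magnet.LineIso

set_option autoImplicit false
universe u
open CategoryTheory MonoidalCategory CartesianMonoidalCategory MonObj AlgebraicGeometry Opposite
open Magnet

namespace Groth.Agent.S18959

/-- Let k be a field and let M be the affine line A^1_k with its multiplication (the diagonalizable
monoid scheme of the additive monoid of natural numbers; the published statement covers any Kempf
monoid over k), acting on k-schemes X and Y through a and b so that X and Y are locally linear, i.e.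
every point has an affine open neighbourhood stable under the action. Let Y be locally Noetherian
and f : X → Y an equivariant k-morphism such that: (1) the induced map of fixed-point subfunctors
X^M → Y^M is an isomorphism; (2) the square formed by X^M → Y^M, the inclusions X^M → X, Y^M → Y of
functors of points and f is cartesian; (3) there is an open subset V of X on which f is étale and
through which every fixed T-valued point of X factors. Then f is an isomorphism. -/
theorem result (k : Type u) [Field k]
    (X Y : Over (Spec (CommRingCat.of k))) (a : Magnet.MonAct (Magnet.AMonS (Spec (CommRingCat.of k)) ℕ) X) (b : Magnet.MonAct (Magnet.AMonS (Spec (CommRingCat.of k)) ℕ) Y)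
    (hX : ∀ x : X.left, ∃ U : X.left.Opens, x ∈ U ∧ IsAffineOpen U ∧
      (CartesianMonoidalCategory.snd (Magnet.AMonS (Spec (CommRingCat.of k)) ℕ) X).left ⁻¹ᵁ U ≤ a.act.left ⁻¹ᵁ U)
    (hY : ∀ y : Y.left, ∃ U : Y.left.Opens, y ∈ U ∧ IsAffineOpen U ∧
      (CartesianMonoidalCategory.snd (Magnet.AMonS (Spec (CommRingCat.of k)) ℕ) Y).left ⁻¹ᵁ U ≤ b.act.left ⁻¹ᵁ U)
    [IsLocallyNoetherian Y.left] (f : X ⟶ Y) (hf : Magnet.MonAct.IsEquivariant a b f)
    (h1 : IsIso (Magnet.MonAct.fixedPsh.map f hf))
    (h2 : IsPullback (Magnet.MonAct.fixedPsh.map f hf) (Magnet.MonAct.fixedPshι a)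
      (Magnet.MonAct.fixedPshι b) (yoneda.map f))
    (V : X.left.Opens) [Etale (V.ι ≫ f.left)]
    (h3 : ∀ (T : Over (Spec (CommRingCat.of k))) (x : (Magnet.MonAct.fixedPsh a).obj (op T)), x.1.left ⁻¹ᵁ V = ⊤) :
    IsIso f :=
  Groth.Misc7.Mag.isIso_of_fixed a b f hf h1 V h3

end Groth.Agent.S18959
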