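import Groth.Statements.S18960


set_option autoImplicit false
universe w' w v u
open CategoryTheory Limits
open CatLim

namespace Groth.Agent.S18960

/-- Let C be a category and T an endofunctor of C; let C(T) be the category whose objects are pairs (X,
u) with u : T X → X an isomorphism and whose morphisms (X, u) → (Y, w) are the morphisms X → Y
compatible with u and w — the full subcategory of T-algebras with invertible structure map — and let
π : C(T) → C be the forgetful functor. If T preserves colimits of shape J then π creates colimits of
shape J. (The source assumes T preserves all small colimits and concludes for all small shapes; the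
argument is shape by shape.) -/
theorem result {C : Type u} [Category.{v} C] (T : C ⥤ C)
    (J : Type w) [Category.{w'} J] [PreservesColimitsOfShape J T] :
    Nonempty (CreatesColimitsOfShape J
      ((ObjectProperty.ι (fun A : Endofunctor.Algebra T => IsIso A.str)) ⋙ Endofunctor.Algebra.forget T)) := by
  let P : ObjectProperty (Endofunctor.Algebra T) := fun A => IsIso A.str
  refine ⟨⟨fun {K} => createsColimitOfReflectsIso fun c t => ?_⟩⟩
  let G := ObjectProperty.ι P ⋙ Endofunctor.Algebra.forget T
  haveI : ∀ j, IsIso (K.obj j).obj.str := fun j => (K.obj j).property
  let α : (K ⋙ G) ⋙ T ≅ K ⋙ G := NatIso.ofComponents (fun j => @asIso _ _ _ _ (K.obj j).obj.str (this j)) fun {i j} f => (K.map f).hom.h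
  let w : T.obj c.pt ≅ c.pt := IsColimit.coconePointsIsoOfNatIso (isColimitOfPreserves T t) t α
  have hw : ∀ j, T.map (c.ι.app j) ≫ w.hom = (K.obj j).obj.str ≫ c.ι.app j := fun j =>
    IsColimit.comp_coconePointsIsoOfNatIso_hom (isColimitOfPreserves T t) t α j
  let pt : P.FullSubcategory := ⟨⟨c.pt, w.hom⟩, show IsIso w.hom from inferInstance⟩
  let L : Cocone K :=
    { pt := pt
      ι :=
        { app := fun j => ObjectProperty.homMk ⟨c.ι.app j, hw j⟩
          naturality := fun i j f => by
            ext
            refine (c.ι.naturality f).trans ?_
            rfl } }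
  have hL : ∀ (s : Cocone K), T.map (t.desc (G.mapCocone s)) ≫ s.pt.obj.str = w.hom ≫ t.desc (G.mapCocone s) := fun s => by
    refine (isColimitOfPreserves T t).hom_ext fun j => ?_
    show T.map (c.ι.app j) ≫ _ = T.map (c.ι.app j) ≫ _
    refine ((Category.assoc _ _ _).symm.trans ?_).trans
      (((congrArg (fun z => z ≫ t.desc (G.mapCocone s)) (hw j)).symm).trans (Category.assoc _ _ _))
    erw [← Functor.map_comp, t.fac, Category.assoc, t.fac]
    exact (s.ι.app j).hom.h
  exact
    { liftedCocone := L
      validLift := Cocone.ext (Iso.refl _) fun j => Category.comp_id _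
      makesColimit :=
        { desc := fun s => ObjectProperty.homMk ⟨t.desc (G.mapCocone s), hL s⟩
          fac := fun s j => by
            ext
            exact t.fac (G.mapCocone s) j
          uniq := fun s m hm => by
            ext
            exact t.uniq (G.mapCocone s) m.hom.f fun j => congrArg (fun z => z.hom.f) (hm j) } }

end Groth.Agent.S18960
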