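import Groth.Statements.S18962
import Mathlib
-- import your own Groth.Agent.* helpers here

set_option autoImplicit false
universe u
open BBDec
open scoped TensorProduct

namespace Groth.Agent.S18962

section
open KaehlerDifferential
open scoped TensorProduct

variable {A B₁ B₂ : Type u} [CommRing A] [CommRing B₁] [CommRing B₂] [Algebra A B₁] [Algebra A B₂]
  [Algebra B₂ B₁] [IsScalarTower A B₂ B₁]

theorem smul_eq_of_ker {M : Type u} [AddCommGroup M] [Module A M] [Module B₁ M]
    [IsScalarTower A B₁ M] (σ₁ : B₁ →ₐ[A] A) (hM : ∀ x ∈ RingHom.ker σ₁, ∀ m : M, x • m = 0)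
    (x : B₁) (m : M) : x • m = σ₁ x • m := by
  have h := hM (x - algebraMap A B₁ (σ₁ x)) (RingHom.mem_ker.mpr (by simp)) m
  rw [sub_smul, algebraMap_smul, sub_eq_zero] at h
  exact h

noncomputable def toKer (σ₁ : B₁ →ₐ[A] A) : B₁ →ₗ[A] RingHom.ker σ₁ where
  toFun y := ⟨y - algebraMap A B₁ (σ₁ y), RingHom.mem_ker.mpr (by simp)⟩
  map_add' x y := by ext; simp [sub_add_sub_comm]
  map_smul' a x := by
    ext
    simp [Algebra.smul_def, mul_sub]

theorem exists_extend {M : Type u} [AddCommGroup M] [Module A M] [Module B₁ M] [Module B₂ M]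
    [IsScalarTower A B₁ M] [IsScalarTower B₂ B₁ M]
    (σ₁ : B₁ →ₐ[A] A) (σ₂ : B₂ →ₐ[A] A) (hσ : σ₁.comp (IsScalarTower.toAlgHom A B₂ B₁) = σ₂)
    (hle : RingHom.ker σ₂ ≤ (RingHom.ker σ₁).comap (IsScalarTower.toAlgHom A B₂ B₁))
    (hcot : Function.Bijective
      (Ideal.mapCotangent (RingHom.ker σ₂) (RingHom.ker σ₁) (IsScalarTower.toAlgHom A B₂ B₁) hle))
    (hM : ∀ x ∈ RingHom.ker σ₁, ∀ m : M, x • m = 0) (D₀ : Derivation A B₂ M) :
    ∃ D' : Derivation A B₁ M, ∀ b, D' (algebraMap B₂ B₁ b) = D₀ b := by
  have hz : ∀ x ∈ RingHom.ker σ₂, ∀ m : M, x • m = 0 := fun x hx m => by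
    rw [← algebraMap_smul B₁ x m]
    exact hM _ (hle hx) m
  let Db : (RingHom.ker σ₂).Cotangent →ₗ[A] M :=
    Ideal.Cotangent.lift ((D₀ : B₂ →ₗ[A] M).comp ((RingHom.ker σ₂).subtype.restrictScalars A))
      fun x y => by
        show D₀ ((x : B₂) * (y : B₂)) = 0
        rw [Derivation.leibniz, hz _ x.2, hz _ y.2, add_zero]
  let e := LinearEquiv.ofBijective
    (Ideal.mapCotangent (RingHom.ker σ₂) (RingHom.ker σ₁) (IsScalarTower.toAlgHom A B₂ B₁) hle) hcot
  let T : B₁ →ₗ[A] (RingHom.ker σ₁).Cotangent :=
    ((RingHom.ker σ₁).toCotangent.restrictScalars A).comp (toKer σ₁)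
  let L : B₁ →ₗ[A] M := Db.comp (e.symm.toLinearMap.comp T)
  have hC : ∀ (x : B₁), x ∈ RingHom.ker σ₁ → ∀ c : (RingHom.ker σ₁).Cotangent, x • c = 0 :=
    fun x hx c => Ideal.Cotangent.smul_eq_zero_of_mem hx c
  have hT : ∀ x y, T (x * y) = σ₁ x • T y + σ₁ y • T x := fun x y => by
    have e1 : toKer σ₁ (x * y) = x • toKer σ₁ y + y • toKer σ₁ x -
        ((toKer σ₁ x : B₁)) • toKer σ₁ y := by
      ext
      simp [toKer]
      ring
    show (RingHom.ker σ₁).toCotangent (toKer σ₁ (x * y)) = _
    rw [e1, map_sub, map_add, map_smul, map_smul, map_smul, hC _ (toKer σ₁ x).2, sub_zero,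
      smul_eq_of_ker σ₁ hC, smul_eq_of_ker σ₁ hC]
    rfl
  refine ⟨Derivation.mk' L fun x y => ?_, fun b => ?_⟩
  · show Db (e.symm (T (x * y))) = x • Db (e.symm (T y)) + y • Db (e.symm (T x))
    rw [hT, map_add, map_smul, map_smul, map_add, map_smul, map_smul,
      smul_eq_of_ker σ₁ hM, smul_eq_of_ker σ₁ hM]
  · show Db (e.symm (T (algebraMap B₂ B₁ b))) = D₀ b
    have hb : σ₁ (algebraMap B₂ B₁ b) = σ₂ b := DFunLike.congr_fun hσ b
    let z : RingHom.ker σ₂ := ⟨b - algebraMap A B₂ (σ₂ b), RingHom.mem_ker.mpr (by simp)⟩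
    have hz' : T (algebraMap B₂ B₁ b) = e ((RingHom.ker σ₂).toCotangent z) := by
      show (RingHom.ker σ₁).toCotangent (toKer σ₁ _) = _
      rw [LinearEquiv.ofBijective_apply, Ideal.mapCotangent_toCotangent]
      congr 1
      ext
      simp [toKer, z, hb, ← IsScalarTower.algebraMap_apply]
    rw [hz', e.symm_apply_apply]
    show D₀ (b - algebraMap A B₂ (σ₂ b)) = D₀ b
    rw [map_sub, Derivation.map_algebraMap, sub_zero]

end

/-- Let A be a commutative ring (the base V = Spec A) and B₁, B₂ commutative A-algebras (V-schemes X₁,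
X₂) with A-algebra maps σ₁ : B₁ → A and σ₂ : B₂ → A (sections s₁, s₂ of the structure maps, closed
immersions with ideals b₁ = ker σ₁, b₂ = ker σ₂), and let B₂ → B₁ be an A-algebra map (a V-morphism
f : X₁ → X₂) with σ₁ ∘ (B₂ → B₁) = σ₂ (f s₁ = s₂). Assume B₁ is finitely presented over A and smooth
over A at every prime containing b₁ (r₁ smooth along s₁(V)), B₂ is of finite type over A, and the
induced map b₂/b₂² → b₁/b₁² of conormal modules is bijective. Then B₂ → B₁ is étale at every prime
of B₁ containing b₁ (f étale along s₁(V)). (The published statement puts no finiteness condition on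
B₂ over A, and in that generality the conclusion fails: over a field k, the square-zero extension of
k[x] by k[x, 1/x] mapping onto k[y] by x ↦ y, with the zero sections, satisfies every other
hypothesis and is not étale at the origin. Here B₂ is assumed of finite type over A.) -/
theorem result (A B₁ B₂ : Type u)
    [CommRing A] [CommRing B₁] [CommRing B₂] [Algebra A B₁] [Algebra A B₂] [Algebra B₂ B₁]
    [IsScalarTower A B₂ B₁] [Algebra.FinitePresentation A B₁] [Algebra.FiniteType A B₂]
    (σ₁ : B₁ →ₐ[A] A) (σ₂ : B₂ →ₐ[A] A) (hσ : σ₁.comp (IsScalarTower.toAlgHom A B₂ B₁) = σ₂)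
    (hle : RingHom.ker σ₂ ≤ (RingHom.ker σ₁).comap (IsScalarTower.toAlgHom A B₂ B₁))
    (hcot : Function.Bijective
      (Ideal.mapCotangent (RingHom.ker σ₂) (RingHom.ker σ₁) (IsScalarTower.toAlgHom A B₂ B₁) hle))
    (hsm : ∀ (P : Ideal B₁) [P.IsPrime], RingHom.ker σ₁ ≤ P → Algebra.IsSmoothAt A P)
    (P : Ideal B₁) [P.IsPrime] (hP : RingHom.ker σ₁ ≤ P) : Algebra.IsEtaleAt B₂ P := by
  haveI : Algebra.FormallySmooth A (Localization.AtPrime P) := hsm P hP
  let S := Localization.AtPrime P
  haveI : Algebra.FormallyEtale B₁ S := Algebra.FormallyEtale.of_isLocalization P.primeCompl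
  let b₁ := RingHom.ker σ₁
  let I : Ideal S := b₁.map (algebraMap B₁ S)
  have hI : I ≤ Ideal.jacobson ⊥ := by
    rw [IsLocalRing.jacobson_eq_maximalIdeal ⊥ bot_ne_top, ← Localization.AtPrime.map_eq_maximalIdeal]
    exact Ideal.map_mono hP
  haveI : Module.Finite B₂ (KaehlerDifferential A B₂) := inferInstance
  haveI : Module.Finite S (KaehlerDifferential A S) := inferInstance
  let β := KaehlerDifferential.mapBaseChange A B₂ S
  let te := KaehlerDifferential.tensorKaehlerEquivOfFormallyEtale A B₁ S
  -- surjectivity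
  have hsurj : Function.Surjective β := by
    let R' : Submodule S (KaehlerDifferential A S) := LinearMap.range β ⊔ I • ⊤
    let d : Derivation A B₁ (KaehlerDifferential A S ⧸ R') :=
      (R'.mkQ.restrictScalars B₁).compDer ((KaehlerDifferential.D A S).compAlgebraMap B₁)
    have hkill : ∀ x ∈ b₁, ∀ m : KaehlerDifferential A S ⧸ R', x • m = 0 := fun x hx m => by
      obtain ⟨m, rfl⟩ := Submodule.mkQ_surjective _ m
      rw [← algebraMap_smul S x, ← map_smul, Submodule.mkQ_apply, Submodule.Quotient.mk_eq_zero]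
      exact Submodule.mem_sup_right (Submodule.smul_mem_smul (Ideal.mem_map_of_mem _ hx) trivial)
    have hd2 : ∀ b, d (algebraMap B₂ B₁ b) = 0 := fun b => by
      show R'.mkQ (KaehlerDifferential.D A S (algebraMap B₁ S (algebraMap B₂ B₁ b))) = 0
      rw [Submodule.mkQ_apply, Submodule.Quotient.mk_eq_zero, ← IsScalarTower.algebraMap_apply]
      exact Submodule.mem_sup_left ⟨1 ⊗ₜ KaehlerDifferential.D A B₂ b, by
        simp [β, KaehlerDifferential.mapBaseChange_tmul]⟩
    have hsq : ∀ x ∈ b₁ ^ 2, d x = 0 := fun x hx => by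
      rw [pow_two] at hx
      refine Submodule.mul_induction_on hx (fun u hu v hv => ?_) fun u v hu hv => by
        rw [map_add, hu, hv, add_zero]
      rw [Derivation.leibniz, hkill u hu, hkill v hv, add_zero]
    have hd : ∀ y, d y = 0 := fun y => by
      obtain ⟨c, hc⟩ := hcot.2 (b₁.toCotangent (toKer σ₁ y))
      obtain ⟨z, rfl⟩ := Ideal.toCotangent_surjective _ c
      rw [Ideal.mapCotangent_toCotangent, Ideal.toCotangent_eq] at hc
      have h := hsq _ hc
      rw [map_sub, sub_eq_zero] at h
      have hy : d y = d (toKer σ₁ y : B₁) := by simp [toKer]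
      rw [hy, ← h]
      exact hd2 _
    have hz : ∀ t : S ⊗[B₁] KaehlerDifferential A B₁, R'.mkQ (te t) = 0 := by
      intro t
      have hlin : (R'.mkQ.comp te.toLinearMap) = 0 := by
        refine TensorProduct.AlgebraTensorModule.ext fun s w => ?_
        simp only [LinearMap.comp_apply, LinearMap.zero_apply, LinearEquiv.coe_coe]
        rw [← mul_one s, ← smul_eq_mul, ← TensorProduct.smul_tmul', map_smul, map_smul]
        have hw : (R'.mkQ.comp te.toLinearMap).restrictScalars B₁ ∘ₗ
            (TensorProduct.mk B₁ S (KaehlerDifferential A B₁) 1) = 0 := by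
          refine Derivation.liftKaehlerDifferential_unique _ _ (Derivation.ext fun y => ?_)
          show R'.mkQ (te (1 ⊗ₜ KaehlerDifferential.D A B₁ y)) = 0
          rw [show te (1 ⊗ₜ KaehlerDifferential.D A B₁ y) =
              KaehlerDifferential.D A S (algebraMap B₁ S y) by
            simp [te, KaehlerDifferential.tensorKaehlerEquivOfFormallyEtale_apply]]
          exact hd y
        have := LinearMap.congr_fun hw w
        simp only [LinearMap.comp_apply, LinearMap.restrictScalars_apply, TensorProduct.mk_apply,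
          LinearEquiv.coe_coe, LinearMap.zero_apply] at this
        rw [this, smul_zero]
      exact LinearMap.congr_fun hlin t
    have htop : (⊤ : Submodule S (KaehlerDifferential A S)) ≤ LinearMap.range β :=
      Submodule.le_of_le_smul_of_le_jacobson_bot Module.Finite.fg_top hI fun w _ => by
        have h := hz (te.symm w)
        rwa [te.apply_symm_apply, Submodule.mkQ_apply, Submodule.Quotient.mk_eq_zero] at h
    exact fun w => htop (trivial : w ∈ (⊤ : Submodule S _))
  -- injectivity
  have hinj : Function.Injective β := by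
    obtain ⟨s, hs⟩ := Module.projective_lifting_property β LinearMap.id hsurj
    let N := (S ⊗[B₂] KaehlerDifferential A B₂)
    let R' : Submodule S N := I • ⊤
    let D₀ : Derivation A B₂ (N ⧸ R') :=
      ((R'.mkQ.restrictScalars B₂).comp
        (TensorProduct.mk B₂ S (KaehlerDifferential A B₂) 1)).compDer (KaehlerDifferential.D A B₂)
    have hkill : ∀ x ∈ b₁, ∀ m : N ⧸ R', x • m = 0 := fun x hx m => by
      obtain ⟨m, rfl⟩ := Submodule.mkQ_surjective _ m
      rw [← algebraMap_smul S x, ← map_smul, Submodule.mkQ_apply, Submodule.Quotient.mk_eq_zero]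
      exact Submodule.smul_mem_smul (Ideal.mem_map_of_mem _ hx) trivial
    obtain ⟨D', hD'⟩ := exists_extend σ₁ σ₂ hσ hle hcot hkill D₀
    let L : KaehlerDifferential A S →ₗ[S] N ⧸ R' :=
      (D'.liftKaehlerDifferential.liftBaseChange S).comp te.symm.toLinearMap
    have hL : ∀ t, L (β t) = R'.mkQ t := by
      have hlin : L.comp β = R'.mkQ := by
        refine TensorProduct.AlgebraTensorModule.ext fun s w => ?_
        simp only [LinearMap.comp_apply]
        rw [← mul_one s, ← smul_eq_mul, ← TensorProduct.smul_tmul', map_smul, map_smul, map_smul]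
        congr 1
        have hw : (L.comp β).restrictScalars B₂ ∘ₗ
            (TensorProduct.mk B₂ S (KaehlerDifferential A B₂) 1) =
              R'.mkQ.restrictScalars B₂ ∘ₗ (TensorProduct.mk B₂ S (KaehlerDifferential A B₂) 1) := by
          refine Derivation.liftKaehlerDifferential_unique _ _ (Derivation.ext fun b => ?_)
          show L (β (1 ⊗ₜ KaehlerDifferential.D A B₂ b)) = D₀ b
          rw [show β (1 ⊗ₜ KaehlerDifferential.D A B₂ b) = KaehlerDifferential.D A S
              (algebraMap B₁ S (algebraMap B₂ B₁ b)) by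
            simp [β, KaehlerDifferential.mapBaseChange_tmul, ← IsScalarTower.algebraMap_apply]]
          simp only [L, te, LinearMap.comp_apply, LinearEquiv.coe_coe,
            KaehlerDifferential.tensorKaehlerEquivOfFormallyEtale_symm_D_algebraMap,
            LinearMap.liftBaseChange_tmul, Derivation.liftKaehlerDifferential_comp_D, one_smul]
          exact hD' b
        exact LinearMap.congr_fun hw w
      exact LinearMap.congr_fun hlin
    let p : N →ₗ[S] N := LinearMap.id - s.comp β
    have hK : LinearMap.range p ≤ I • LinearMap.range p := by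
      rintro _ ⟨x, rfl⟩
      have hbp : β (p x) = 0 := by
        have := LinearMap.congr_fun hs (β x)
        simp only [LinearMap.comp_apply, LinearMap.id_apply] at this
        simp [p, this]
      have hpp : p (p x) = p x := by
        show p x - s (β (p x)) = p x
        rw [hbp, map_zero, sub_zero]
      have hmem : p x ∈ R' := by
        have := hL (p x)
        rw [hbp, map_zero, Submodule.mkQ_apply, eq_comm, Submodule.Quotient.mk_eq_zero] at this
        exact this
      have := Submodule.mem_map_of_mem (f := p) hmem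
      rw [hpp, Submodule.map_smul'', Submodule.map_top] at this
      exact this
    have hK0 : LinearMap.range p = ⊥ := Submodule.eq_bot_of_le_smul_of_le_jacobson_bot I _
      (by rw [LinearMap.range_eq_map]; exact (Module.Finite.fg_top).map p) hK hI
    rw [injective_iff_map_eq_zero]
    intro x hx
    have : p x = x := by
      show x - s (β x) = x
      rw [hx, map_zero, sub_zero]
    rw [← this, ← Submodule.mem_bot S, ← hK0]
    exact ⟨x, rfl⟩
  refine ⟨?_, ?_⟩
  · refine ⟨fun x y => ?_⟩
    suffices ∀ z : KaehlerDifferential B₂ S, z = 0 by rw [this x, this y]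
    intro z
    obtain ⟨w, rfl⟩ := KaehlerDifferential.map_surjective A B₂ S z
    obtain ⟨t, rfl⟩ := hsurj w
    exact (KaehlerDifferential.exact_mapBaseChange_map A B₂ S).apply_apply_eq_zero t
  · refine ⟨fun x y => ?_⟩
    suffices ∀ z : Algebra.H1Cotangent B₂ S, z = 0 by rw [this x, this y]
    intro z
    have hz : Algebra.H1Cotangent.δ A B₂ S z = 0 :=
      hinj (((Algebra.H1Cotangent.exact_δ_mapBaseChange A B₂ S).apply_apply_eq_zero z).trans
        (map_zero β).symm)
    obtain ⟨w, rfl⟩ := (Algebra.H1Cotangent.exact_map_δ A B₂ S z).mp hz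
    rw [Subsingleton.elim w 0, map_zero]

end Groth.Agent.S18962
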