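import Groth.Statements.S18966
import Groth.Agent.HilbStab.TFPure
import Groth.Agent.HilbStab.ELattice
import Groth.Agent.HilbStab.Subobjects
import Groth.Agent.RefRank.Normality
import Groth.Agent.RefRank.IsoLocus
import Groth.Agent.KTheory.LocFree
import Groth.Agent.Variety2.DimScheme
import Groth.Agent.NeronArea.WeilExtensionBase
-- import your own Groth.Agent.* helpers here

set_option autoImplicit false
open CategoryTheory CategoryTheory.Limits AlgebraicGeometry Polynomial
universe u
open ShStab

namespace Groth.Agent.S18966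

/-- Let k be an algebraically closed field of characteristic zero, X a smooth projective integral
variety of dimension n ≥ 1 over k polarised by an ample invertible sheaf L, and F, G reflexive
coherent O_X-modules which are slope-stable with respect to L. If μ_L(G) ≤ μ_L(F) then every nonzero
morphism F → G is an isomorphism. Slopes are compared through the quantity α_(n−1)/α_n of the
Hilbert polynomials with respect to L, an increasing affine function of the slope det ·
L^(n−1)/rank; reflexive means that the canonical map to the double dual is an isomorphism. -/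
theorem result (k : Type u) [Field k] [IsAlgClosed k] [CharZero k]
    (X : Scheme.{u}) [X.Over (Spec (CommRingCat.of k))] [IsIntegral X]
    [IsProper (X ↘ Spec (CommRingCat.of k))] [Smooth (X ↘ Spec (CommRingCat.of k))]
    (n : ℕ) (hn : 1 ≤ n) (hX : topologicalKrullDim X = (n : WithBot ℕ∞))
    (L : X.Modules) (hLi : PicF.IsInvertible L) (hL : CohB1.IsAmple L)
    (F G : X.Modules) (hFr : RefHull.IsReflexive F) (hGr : RefHull.IsReflexive G)
    (hF : ShStab.IsMuStable k X L F n) (hG : ShStab.IsMuStable k X L G n)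
    (pF pG : ℚ[X]) (hpF : ShStab.IsHilbPoly k X L F pF) (hpG : ShStab.IsHilbPoly k X L G pG)
    (hle : StabCat.hatSlope n pG ≤ StabCat.hatSlope n pF) (φ : F ⟶ G) (hφ : φ ≠ 0) : IsIso φ := by
  obtain ⟨hFc, hF0, -, -, hFs⟩ := hF
  obtain ⟨hGc, hG0, -, -, hGs⟩ := hG
  haveI := Groth.HilbStab.isLocallyNoetherian k (X := X)
  haveI := hFc.1
  haveI := hGc.1
  have hpF' := Groth.HilbStab.isPure_of_isTorsionFree
    (Groth.HilbStab.isTorsionFree_of_isReflexive hFc hFr) hX
  have hpG' := Groth.HilbStab.isPure_of_isTorsionFree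
    (Groth.HilbStab.isTorsionFree_of_isReflexive hGc hGr) hX
  have hαF := Groth.HilbStab.alpha_pos_of_isPure k hL hpF' (𝟙 F) hFc hF0 hpF
  have hαG := Groth.HilbStab.alpha_pos_of_isPure k hL hpG' (𝟙 G) hGc hG0 hpG
  have hGF : Groth.HilbStab.NN (Groth.HilbStab.ecr 1 n pG pF) :=
    (Groth.HilbStab.nn_ecr_one_iff hn hαG hαF).mpr hle
  have hC := Groth.QCohMod.isCoh_cokernel φ hGc
  haveI := hC.1
  have hI : Coh.IsCoh (Abelian.image φ) := Groth.QCohMod.isCoh_kernel (cokernel.π φ) hGc
  haveI := hI.1
  have hI0 : ¬ IsZero (Abelian.image φ) := fun h => hφ (by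
    rw [← Abelian.image.fac φ, h.eq_of_src (Abelian.image.ι φ) 0, Limits.comp_zero])
  obtain ⟨pI, hpI⟩ := Groth.HilbStab.exists_isHilbPoly k X hL hI
  obtain ⟨pC, hpC⟩ := Groth.HilbStab.exists_isHilbPoly k X hL hC
  have hαI := Groth.HilbStab.alpha_pos_of_isPure k hL hpG' (Abelian.image.ι φ) hI hI0 hpI
  have sG := Groth.HilbStab.isHilbPoly_kernel_add k hL hGc (cokernel.π φ) hC hpI hpG hpC
  have hdC := Groth.HilbStab.natDegree_quot_le k hL hGc hpG' (cokernel.π φ) hC hpC
  have hnC := Groth.HilbStab.nn_hilbPoly k hL hC hpC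
  -- the image is at most as large as `G`
  have hIG : Groth.HilbStab.NN (Groth.HilbStab.ecr 1 n pI pG) ∧
      (Groth.HilbStab.ecr 1 n pI pG = 0 → StabCat.alpha n pC = 0) := by
    rcases eq_or_lt_of_le (Groth.HilbStab.alpha_nonneg_of_natDegree_le hnC hdC) with e | e
    · refine ⟨?_, fun _ => e.symm⟩
      rw [sG, Groth.HilbStab.ecr_left_self, Groth.HilbStab.ecr_of_alpha_eq_zero e.symm]
      exact (Groth.HilbStab.nn_topPart hnC hdC).smul hαI.le
    · have hlt : StabCat.alpha n pI < StabCat.alpha n pG := by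
        rw [sG, Groth.HilbStab.alpha_add]; linarith
      have h := (Groth.HilbStab.pp_ecr_one_iff hn hαI hαG).mpr
        (hGs _ (Abelian.image.ι φ) inferInstance hI pI pG hpI hpG hαI hlt)
      exact ⟨h.nn, fun h0 => absurd (h0 ▸ h) Groth.HilbStab.not_pp_zero⟩
  haveI hm : Mono φ := by
    by_contra hm
    let q := Abelian.factorThruImage φ
    have hK := Groth.QCohMod.isCoh_kernel q hFc
    have hK0 : ¬ IsZero (kernel q) := fun h => hm <| by
      haveI : Mono q := Preadditive.mono_of_kernel_zero (h.eq_of_src _ _)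
      rw [← Abelian.image.fac φ]
      exact mono_comp q _
    obtain ⟨pK, hpK⟩ := Groth.HilbStab.exists_isHilbPoly k X hL hK
    have sF := Groth.HilbStab.isHilbPoly_kernel_add k hL hFc q hI hpK hpF hpI
    have hαK := Groth.HilbStab.alpha_pos_of_isPure k hL hpF' (kernel.ι q) hK hK0 hpK
    have e1 := (Groth.HilbStab.pp_ecr_one_iff hn hαK hαF).mpr
      (hFs _ (kernel.ι q) inferInstance hK pK pF hpK hpF hαK
        (by rw [sF, Groth.HilbStab.alpha_add]; linarith))
    have h2 := Groth.HilbStab.nn_ecr_trans hαI.le hαG hαF.le hIG.1 hGF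
    rw [sF, Groth.HilbStab.ecr_left_self] at e1
    rw [sF, Groth.HilbStab.ecr_add_right, Groth.HilbStab.ecr_self, add_zero,
      Groth.HilbStab.ecr_swap, Groth.HilbStab.nn_neg_iff] at h2
    exact h2 e1
  -- so the image has the polynomial of `F`, and the cokernel is small
  let q := Abelian.factorThruImage φ
  haveI : Mono q := mono_of_mono_fac (Abelian.image.fac φ)
  haveI : IsIso q := isIso_of_mono_of_epi q
  obtain rfl := Groth.HilbStab.isHilbPoly_unique k
    (Groth.HilbStab.isHilbPoly_iso k (asIso q) hpF) hpI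
  have h0 : Groth.HilbStab.ecr 1 n pF pG = 0 :=
    (Groth.HilbStab.nn_iff.mp hIG.1).resolve_right fun h => by
      have := hGF
      rw [Groth.HilbStab.ecr_swap, Groth.HilbStab.nn_neg_iff] at this
      exact this h
  have hC0 := hIG.2 h0
  have hC1 : Groth.HilbStab.ecr 1 n pF pC = 0 := by
    rwa [sG, Groth.HilbStab.ecr_left_self] at h0
  have hc1 : pC.coeff (n - 1) = 0 := by
    have h := Groth.HilbStab.ecr_one_leadingCoeff hn pF pC
    rw [hC1, leadingCoeff_zero, hC0, zero_mul, sub_zero, eq_comm, mul_eq_zero] at h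
    exact h.resolve_left hαF.ne'
  have hc0 : pC.coeff n = 0 :=
    (mul_eq_zero.mp hC0).resolve_left (by exact_mod_cast (Nat.factorial_pos n).ne')
  have hdim : ∀ x ∈ CohB1.support (cokernel φ),
      (2 : WithBot ℕ∞) ≤ ringKrullDim (X.presheaf.stalk x) := by
    intro x hx
    have hz : ¬ IsZero (cokernel φ) := fun h => by
      rw [(Groth.QCohMod.isZero_iff_support_eq_empty _).mp h] at hx
      exact hx
    have hne : pC ≠ 0 := Groth.HilbStab.pp_ne_zero (Groth.HilbStab.pp_of_not_isZero k hL hC hz hpC)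
    have h1 : pC.natDegree + 2 ≤ n := by
      by_contra hlt
      have hd := leadingCoeff_ne_zero.mpr hne
      rw [leadingCoeff] at hd
      rcases (show pC.natDegree = n ∨ pC.natDegree = n - 1 by omega) with e | e
      · exact hd (e ▸ hc0)
      · exact hd (e ▸ hc1)
    have hsub : closure ({x} : Set X) ⊆ CohB1.support (cokernel φ) :=
      (Groth.CohTwo.isClosed_support _ hC).closure_subset_iff.mpr (Set.singleton_subset_iff.mpr hx)
    have h2 : topologicalKrullDim (closure ({x} : Set X)) ≤ (pC.natDegree : WithBot ℕ∞) := by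
      rw [← Groth.HilbStab.natDegree_eq_dim k hL hC hz hpC]
      exact (Topology.IsEmbedding.inclusion hsub).isInducing.topologicalKrullDim_le
    rw [Groth.Variety2.Dim.dim_closure_singleton] at h2
    have h2' : Order.height x ≤ (pC.natDegree : ℕ∞) := WithBot.coe_le_coe.mp h2
    obtain ⟨a, ha⟩ := Groth.Variety2.Dim.exists_height_eq (X ↘ Spec (CommRingCat.of k)) x
    have h3 := Groth.Variety2.Dim.ringKrullDim_stalk_add_height (X ↘ Spec (CommRingCat.of k)) x
    rw [ha, hX] at h3
    rw [ha] at h2'
    have ha' : a ≤ pC.natDegree := by exact_mod_cast h2'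
    cases hs : ringKrullDim (X.presheaf.stalk x) using WithBot.recBotCoe with
    | bot => rw [hs, WithBot.bot_add] at h3; exact absurd h3 WithBot.bot_ne_coe
    | coe b =>
      rw [hs] at h3
      cases b using ENat.recTopCoe with
      | top => exact WithBot.coe_le_coe.mpr le_top
      | coe b =>
        have h4 : b + a = n := by exact_mod_cast h3
        have h5 : ((2 : ℕ) : ℕ∞) ≤ (b : ℕ∞) := by exact_mod_cast (show 2 ≤ b by omega)
        exact WithBot.coe_le_coe.mpr h5
  have hnorm : Pi1.IsNormalScheme X := Groth.RefRank.isNormalScheme_of_regular fun x =>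
    Groth.NeronArea.Weil.isRegularLocalRing_of_smooth_dedekind (R := k)
      (X ↘ Spec (CommRingCat.of k)) x
  let U : X.Opens := ⟨(CohB1.support (cokernel φ))ᶜ,
    (Groth.CohTwo.isClosed_support _ hC).isOpen_compl⟩
  have hbij : ∀ x ∈ U, Function.Bijective (RefHull.stalkMapₗ φ x) := by
    intro x hx
    have hS : (ShortComplex.mk φ (cokernel.π φ) (cokernel.condition φ)).ShortExact :=
      { exact := ShortComplex.exact_of_g_is_cokernel _ (cokernelIsCokernel φ) }
    obtain ⟨hinj, hex, -⟩ := Groth.KTheory.LocFree.stalk_exact hS x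
    have hss : Subsingleton ((cokernel φ).presheaf.stalk x) := not_not.mp hx
    exact ⟨hinj, fun t => (hex t).mp (Subsingleton.elim _ _)⟩
  have key : ∀ W : X.Opens, Function.Surjective (φ.app W) := by
    intro W s
    have hWU : ∀ x : X, x ∈ W → x ∉ W ⊓ U →
        (2 : WithBot ℕ∞) ≤ ringKrullDim (X.presheaf.stalk x) := fun x hx hxU =>
      hdim x (not_not.mp fun h => hxU ⟨hx, h⟩)
    have bF := Groth.RefRank.bijective_res_of_isReflexive hnorm hFc hFr (inf_le_left : W ⊓ U ≤ W) hWU
    have bG := Groth.RefRank.bijective_res_of_isReflexive hnorm hGc hGr (inf_le_left : W ⊓ U ≤ W) hWU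
    obtain ⟨m', hm'⟩ := (Groth.RefRank.app_bijective_of_stalk φ (V := W ⊓ U)
      (fun x hx => hbij x hx.2)).2 (Groth.QCohMod.res G (inf_le_left : W ⊓ U ≤ W) s)
    obtain ⟨m, rfl⟩ := bF.2 m'
    refine ⟨m, bG.1 (Eq.trans ?_ hm')⟩
    exact (congr($(φ.mapPresheaf.naturality (homOfLE (inf_le_left : W ⊓ U ≤ W)).op) m)).symm
  exact Groth.HilbStab.isIso_of_mono_of_surjective φ (fun V : X.affineOpens => V.1) (fun V => V.2)
    (fun x => by
      obtain ⟨V, hV, hx⟩ := Groth.QCohMod.exists_affine_mem x
      exact ⟨⟨V, hV⟩, hx⟩) fun V => key V.1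

end Groth.Agent.S18966
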