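import Groth.Statements.S18967
import Groth.Agent.HilbStab.ESeries
import Groth.Agent.CohTwo.QCohExt
-- import your own Groth.Agent.* helpers here

set_option autoImplicit false
open CategoryTheory CategoryTheory.Limits AlgebraicGeometry Polynomial
universe u
open ShStab

namespace Groth.Agent.S18967

/-- Let k be an algebraically closed field of characteristic zero, X a smooth projective integral
variety of dimension n ≥ 1 over k polarised by an ample invertible sheaf L, and 0 → F → H → G → 0 a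
short exact sequence of O_X-modules with F and G torsion-free coherent (pure of dimension n) and
slope-semistable with respect to L of the same slope μ. Then H is slope-semistable of slope μ; in
particular this applies to H = F ⊕ G. Slopes are compared through the quantity α_(n−1)/α_n of the
Hilbert polynomials with respect to L, an increasing affine function of the slope det ·
L^(n−1)/rank. -/
theorem result (k : Type u) [Field k] [IsAlgClosed k] [CharZero k]
    (X : Scheme.{u}) [X.Over (Spec (CommRingCat.of k))] [IsIntegral X]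
    [IsProper (X ↘ Spec (CommRingCat.of k))] [Smooth (X ↘ Spec (CommRingCat.of k))]
    (n : ℕ) (hn : 1 ≤ n) (hX : topologicalKrullDim X = (n : WithBot ℕ∞))
    (L : X.Modules) (hLi : PicF.IsInvertible L) (hL : CohB1.IsAmple L)
    (T : ShortComplex X.Modules) (hT : T.ShortExact)
    (hFt : ShStab.IsPure X T.X₁ n) (hGt : ShStab.IsPure X T.X₃ n)
    (hF : ShStab.IsMuSemistable k X L T.X₁ n) (hG : ShStab.IsMuSemistable k X L T.X₃ n)
    (pF pG : ℚ[X]) (hpF : ShStab.IsHilbPoly k X L T.X₁ pF) (hpG : ShStab.IsHilbPoly k X L T.X₃ pG)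
    (hμ : StabCat.hatSlope n pF = StabCat.hatSlope n pG) :
    ShStab.IsMuSemistable k X L T.X₂ n ∧
      ∀ pH : ℚ[X], ShStab.IsHilbPoly k X L T.X₂ pH → StabCat.hatSlope n pH = StabCat.hatSlope n pF := by
  haveI := Groth.HilbStab.isLocallyNoetherian k (X := X)
  have eF := (Groth.HilbStab.muSS_iff k hL hn).mp ⟨hFt, hF⟩
  have eG := (Groth.HilbStab.muSS_iff k hL hn).mp ⟨hGt, hG⟩
  haveI := eF.1.1
  haveI := eG.1.1
  haveI := hT.mono_f
  haveI := hT.epi_g
  haveI := Groth.CohTwo.QCohExt.isQCoh_of_shortExact hT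
  have hH : Coh.IsCoh T.X₂ := Groth.QCohMod.isCoh_of_shortExact hT eF.1 eG.1
  obtain ⟨pH, hpH⟩ := Groth.HilbStab.exists_isHilbPoly k X hL hH
  have hsum := Groth.HilbStab.isHilbPoly_add k hL hT eF.1 eG.1 hpF hpH hpG
  have hαF := Groth.HilbStab.alpha_pos_of_isPure k hL hFt (𝟙 _) eF.1 eF.2.1 hpF
  have hαG := Groth.HilbStab.alpha_pos_of_isPure k hL hGt (𝟙 _) eG.1 eG.2.1 hpG
  have hαH : 0 < StabCat.alpha n pH := by rw [hsum, Groth.HilbStab.alpha_add]; linarith
  have hFG : Groth.HilbStab.ecr 1 n pF pG = 0 := by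
    refine (Groth.HilbStab.nn_iff.mp ((Groth.HilbStab.nn_ecr_one_iff hn hαF hαG).mpr hμ.le)).resolve_right
      fun h => absurd hμ ((Groth.HilbStab.pp_ecr_one_iff hn hαF hαG).mp h).ne
  have hFH : Groth.HilbStab.ecr 1 n pF pH = 0 := by
    rw [hsum, Groth.HilbStab.ecr_left_self, hFG]
  have hGH : Groth.HilbStab.ecr 1 n pG pH = 0 := by
    rw [hsum, Groth.HilbStab.ecr_add_right, Groth.HilbStab.ecr_self, add_zero,
      Groth.HilbStab.ecr_swap, hFG, neg_zero]
  have hz : Groth.HilbStab.NN (Groth.HilbStab.ecr 1 n pF pH) := by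
    rw [hFH]; exact Groth.HilbStab.nn_zero
  have hz' : Groth.HilbStab.NN (Groth.HilbStab.ecr 1 n pG pH) := by
    rw [hGH]; exact Groth.HilbStab.nn_zero
  -- every coherent submodule is a kernel part plus an image part
  have hsub : ∀ (A : X.Modules) (ι : A ⟶ T.X₂), Mono ι → Coh.IsCoh A →
      ∀ pA, ShStab.IsHilbPoly k X L A pA → (¬ IsZero A → 0 < StabCat.alpha n pA) ∧
        Groth.HilbStab.NN (Groth.HilbStab.ecr 1 n pA pH) := by
    intro A ι hι hA pA hpA
    haveI := hA.1
    let g := ι ≫ T.g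
    haveI := Groth.QCohMod.isQCoh_cokernel g
    have hI : Coh.IsCoh (Abelian.image g) := Groth.QCohMod.isCoh_kernel (cokernel.π g) eG.1
    haveI := hI.1
    let q := Abelian.factorThruImage g
    have hK := Groth.QCohMod.isCoh_kernel q hA
    obtain ⟨pK, hpK⟩ := Groth.HilbStab.exists_isHilbPoly k X hL hK
    obtain ⟨pI, hpI⟩ := Groth.HilbStab.exists_isHilbPoly k X hL hI
    have hq : (kernel.ι q ≫ ι) ≫ T.g = 0 := by
      rw [Category.assoc, show ι ≫ T.g = q ≫ Abelian.image.ι g from (Abelian.image.fac g).symm,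
        ← Category.assoc, kernel.condition, Limits.zero_comp]
    obtain ⟨l, hl⟩ := KernelFork.IsLimit.lift' hT.fIsKernel (kernel.ι q ≫ ι) hq
    replace hl : l ≫ T.f = kernel.ι q ≫ ι := hl
    haveI : Mono l := mono_of_mono_fac hl
    have sA := Groth.HilbStab.isHilbPoly_kernel_add k hL hA q hI hpK hpA hpI
    have k1 := Groth.HilbStab.nn_ecr_sub k hL eF l hK hpK hpF
    have k2 := Groth.HilbStab.nn_ecr_sub k hL eG (Abelian.image.ι g) hI hpI hpG
    have dK : 0 ≤ StabCat.alpha n pK ∧ (¬ IsZero (kernel q) → 0 < StabCat.alpha n pK) := by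
      refine ⟨?_, fun h => Groth.HilbStab.alpha_pos_of_isPure k hL hFt l hK h hpK⟩
      by_cases h : IsZero (kernel q)
      · rw [Groth.HilbStab.eq_zero_of_isZero k h hpK]; simp [StabCat.alpha]
      · exact (Groth.HilbStab.alpha_pos_of_isPure k hL hFt l hK h hpK).le
    have dI : 0 ≤ StabCat.alpha n pI ∧ (¬ IsZero (Abelian.image g) → 0 < StabCat.alpha n pI) := by
      refine ⟨?_, fun h => Groth.HilbStab.alpha_pos_of_isPure k hL hGt (Abelian.image.ι g) hI h hpI⟩
      by_cases h : IsZero (Abelian.image g)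
      · rw [Groth.HilbStab.eq_zero_of_isZero k h hpI]; simp [StabCat.alpha]
      · exact (Groth.HilbStab.alpha_pos_of_isPure k hL hGt (Abelian.image.ι g) hI h hpI).le
    refine ⟨fun h => ?_, ?_⟩
    · rw [sA, Groth.HilbStab.alpha_add]
      by_cases hK0 : IsZero (kernel q)
      · haveI : Mono q := Preadditive.mono_of_kernel_zero (hK0.eq_of_src _ _)
        have hI0 : ¬ IsZero (Abelian.image g) := fun h' => h (h'.of_mono q)
        linarith [dK.1, dI.2 hI0]
      · linarith [dK.2 hK0, dI.1]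
    · rw [sA, Groth.HilbStab.ecr_add_left]
      exact (Groth.HilbStab.nn_ecr_trans dK.1 hαF hαH.le k1 hz).add
        (Groth.HilbStab.nn_ecr_trans dI.1 hαG hαH.le k2 hz')
  have hH0 : ¬ IsZero T.X₂ := fun h => by
    rw [Groth.HilbStab.eq_zero_of_isZero k h hpH] at hαH
    simp [StabCat.alpha] at hαH
  have hdim : topologicalKrullDim (CohB1.support T.X₂) ≤ (n : WithBot ℕ∞) :=
    hX ▸ Topology.IsInducing.subtypeVal.topologicalKrullDim_le
  have hpure : ShStab.IsPure X T.X₂ n := by
    intro A ι hι hA hA0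
    obtain ⟨pA, hpA⟩ := Groth.HilbStab.exists_isHilbPoly k X hL hA
    have hα := (hsub A ι hι hA pA hpA).1 hA0
    have hle := Groth.HilbStab.natDegree_le_of_support_subset k hL hdim
      (Groth.KTheory.Devissage.support_subset_of_mono ι) hA hpA
    rw [Groth.HilbStab.natDegree_eq_dim k hL hA hA0 hpA]
    refine congrArg (fun m : ℕ => (m : WithBot ℕ∞)) (le_antisymm hle (not_lt.mp fun hd => ?_))
    rw [StabCat.alpha, Polynomial.coeff_eq_zero_of_natDegree_lt hd, mul_zero] at hα
    exact lt_irrefl _ hα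
  refine ⟨((Groth.HilbStab.muSS_iff k hL hn).mpr ⟨hH, hH0, hpure,
    fun A ι hι hA pA pH' hpA hpH' _ _ => ?_⟩).2, fun pH' hpH' => ?_⟩
  · rw [Groth.HilbStab.isHilbPoly_unique k hpH' hpH, Groth.HilbStab.redLE_topPart_iff]
    exact (hsub A ι hι hA pA hpA).2
  · rw [Groth.HilbStab.isHilbPoly_unique k hpH' hpH]
    refine le_antisymm ?_ ((Groth.HilbStab.nn_ecr_one_iff hn hαF hαH).mp hz)
    refine (Groth.HilbStab.nn_ecr_one_iff hn hαH hαF).mp ?_
    rw [Groth.HilbStab.ecr_swap, hFH, neg_zero]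
    exact Groth.HilbStab.nn_zero

end Groth.Agent.S18967
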