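import Groth.Statements.S18973
import Groth.Agent.HilbStab.ESeries
-- import your own Groth.Agent.* helpers here

set_option autoImplicit false
open CategoryTheory CategoryTheory.Limits AlgebraicGeometry Polynomial
universe u
open ShStab

namespace Groth.Agent.S18973

/-- Let k be a field and X an integral scheme, smooth and proper over k, with a closed immersion ι into
projective N-space over k compatible with the structure maps, polarised by the ample O_X(1) =
ι^*O(1); let 1 ≤ ℓ ≤ d. Let E be a nonzero coherent O_X-module, pure of dimension d, with an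
ℓ-Harder–Narasimhan filtration 0 = E_0 ⊂ E_1 ⊂ ⋯ ⊂ E_m = E (factors ℓ-semistable of dimension d,
reduced ℓ-truncated Hilbert polynomials of consecutive factors strictly decreasing), and let F =
E/E_(m−1) be its last factor, the minimal ℓ-destabilising quotient of E. If E → G is another
quotient with G nonzero, coherent and pure of dimension d, such that the Hilbert polynomials of F
and G have the same multiplicity α_d and the same reduced ℓ-truncation p_ℓ, then G and F are
isomorphic as quotients of E: there is an isomorphism F ≅ G carrying the quotient map of F to that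
of G. Here a sheaf is ℓ-semistable of dimension d when it is coherent, nonzero, pure of dimension d,
and p_ℓ(F') ≤ p_ℓ for every coherent submodule F' of multiplicity strictly between 0 and its own,
p_ℓ denoting the reduced truncation of the Hilbert polynomial (with respect to O_X(1)) to the
degrees d − ℓ, …, d. -/
theorem result (k : Type u) [Field k]
    (X : Scheme.{u}) [X.Over (Spec (CommRingCat.of k))] [IsIntegral X]
    [Smooth (X ↘ Spec (CommRingCat.of k))] [IsProper (X ↘ Spec (CommRingCat.of k))]
    (N : ℕ) (ι : X ⟶ CohB1.ProjSpace N k) [IsClosedImmersion ι]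
    (hι : ι ≫ CohB1.ProjSpace.toSpec N k = X ↘ Spec (CommRingCat.of k))
    (hL : CohB1.IsAmple ((Scheme.Modules.pullback ι).obj (Twist.twistProjSpace N k 1)))
    (d ℓ : ℕ) (hℓ : 1 ≤ ℓ) (hℓd : ℓ ≤ d)
    (E : X.Modules) (hE : Coh.IsCoh E) (h0 : ¬ IsZero E) (hp : ShStab.IsPure X E d)
    (s : LTSeries (Subobject E))
    (hs : StabCat.IsHNWith (fun G => ShStab.IsEllSemistable k X ((Scheme.Modules.pullback ι).obj (Twist.twistProjSpace N k 1)) G d ℓ)
      (fun G P => ∃ Q : Polynomial ℚ, ShStab.IsHilbPoly k X ((Scheme.Modules.pullback ι).obj (Twist.twistProjSpace N k 1)) G Q ∧ P = StabCat.topPart ℓ d Q) d E s)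
    (G : X.Modules) (q : E ⟶ G) [Epi q] (hG : Coh.IsCoh G) (hG0 : ¬ IsZero G) (hGp : ShStab.IsPure X G d)
    (pF pG : ℚ[X]) (hpF : ShStab.IsHilbPoly k X ((Scheme.Modules.pullback ι).obj (Twist.twistProjSpace N k 1)) (cokernel s.eraseLast.last.arrow) pF)
    (hpG : ShStab.IsHilbPoly k X ((Scheme.Modules.pullback ι).obj (Twist.twistProjSpace N k 1)) G pG)
    (hα : StabCat.alpha d pF = StabCat.alpha d pG)
    (hred : StabCat.RedEq d (StabCat.topPart ℓ d pF) (StabCat.topPart ℓ d pG)) :
    ∃ φ : (cokernel s.eraseLast.last.arrow) ≅ G, cokernel.π s.eraseLast.last.arrow ≫ φ.hom = q := by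
  haveI := Groth.HilbStab.isLocallyNoetherian k (X := X)
  haveI := hE.1
  haveI := hG.1
  have hsE : Groth.HilbStab.IsEHNSeries k ((Scheme.Modules.pullback ι).obj (Twist.twistProjSpace N k 1))
      d ℓ s :=
    ⟨hs.1, hs.2.1, hs.2.2.1, fun i j hij p r hp' hr => Groth.HilbStab.redLT_topPart_iff.mp
      (hs.2.2.2 i j hij _ _ ⟨p, hp', rfl⟩ ⟨r, hr, rfl⟩)⟩
  obtain ⟨c, hc, hc0, hc1, hcs, hcp⟩ :=
    Groth.HilbStab.exists_chain_of_series k hL hE hp s hsE
  have hn : 0 < s.length := by
    by_contra hn
    have h : s 0 = s (Fin.last s.length) := congrArg s.toFun (Fin.ext (by simp; omega))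
    rw [show s 0 = ⊥ from hs.1, show s (Fin.last s.length) = ⊤ from hs.2.1] at h
    exact (Groth.HilbStab.cBot_lt_cTop hE h0).ne (Subtype.ext h)
  let m : Fin s.length := ⟨s.length - 1, by omega⟩
  have hlast : s.eraseLast.last = s m.castSucc := by
    rw [RelSeries.last_eraseLast]
    congr
  have hm : m.val + 1 = s.length := by simp [m]; omega
  have hms : m.succ = Fin.last s.length := Fin.ext (by simp [m]; omega)
  -- the kernel of `q`
  have hK := Groth.QCohMod.isCoh_kernel q hE
  let C := Groth.HilbStab.toCoh hE (kernel.ι q) hK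
  have sC := Groth.HilbStab.isHilbPoly_kernel_add k hL hE q hG
    (Groth.HilbStab.isHilbPoly_toCoh k hL hE (kernel.ι q) hK) (Groth.HilbStab.isHilbPoly_top k hL hE) hpG
  let S := Groth.HilbStab.subLattice k hL hE hp
  have hQG : S.Q C (Groth.HilbStab.cTop hE) = pG := sub_eq_iff_eq_add'.mpr sC
  have hle : ∀ A : Groth.HilbStab.cohSub E hE, A ≤ Groth.HilbStab.cTop hE :=
    Groth.HilbStab.le_cTop hE
  let e₁ : ∀ A : Groth.HilbStab.cohSub E hE,
      Groth.HilbStab.fac (show A.1 ≤ (Groth.HilbStab.cTop hE).1 from hle A) ≅ cokernel A.1.arrow :=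
    fun A =>
      haveI : IsIso (Groth.HilbStab.cTop hE).1.arrow :=
        inferInstanceAs (IsIso ((⊤ : Subobject E).arrow))
      cokernel.mapIso _ _ (Iso.refl _) (asIso (Groth.HilbStab.cTop hE).1.arrow)
        (by simp only [asIso_hom, Subobject.ofLE_arrow, Iso.refl_hom, Category.id_comp])
  have hQF : S.Q (c m.castSucc) (Groth.HilbStab.cTop hE) = pF := by
    refine Groth.HilbStab.isHilbPoly_unique k ?_ hpF
    have h := Groth.HilbStab.isHilbPoly_iso k (e₁ (c m.castSucc))
      (Groth.HilbStab.isHilbPoly_fac' k hL hE hp (hle (c m.castSucc)))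
    refine Groth.HilbStab.isHilbPoly_iso k ?_ h
    have key : ∀ {A B : Subobject E}, A = B → Nonempty (cokernel A.arrow ≅ cokernel B.arrow) := by
      rintro A B rfl; exact ⟨Iso.refl _⟩
    exact (key ((hc m.castSucc).trans hlast.symm)).some
  let e₂ : cokernel (kernel.ι q) ≅ G :=
    IsColimit.coconePointUniqueUpToIso (cokernelIsCokernel (kernel.ι q))
      (Abelian.epiIsCokernelOfKernel (KernelFork.ofι (kernel.ι q) (kernel.condition q))
        (kernelIsKernel q))
  have he₂ : cokernel.π (kernel.ι q) ≫ e₂.hom = q :=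
    IsColimit.comp_coconePointUniqueUpToIso_hom (cokernelIsCokernel (kernel.ι q))
      (Abelian.epiIsCokernelOfKernel (KernelFork.ofι (kernel.ι q) (kernel.condition q))
        (kernelIsKernel q)) WalkingParallelPair.one
  have hpureC : S.Pure C (Groth.HilbStab.cTop hE) := by
    refine (Groth.HilbStab.pure_iff k hL hE hp (hle C)).mpr fun A κ _ hA hA0 => ?_
    let e₃ : cokernel C.1.arrow ≅ cokernel (kernel.ι q) :=
      cokernel.mapIso _ _ (Subobject.underlyingIso (kernel.ι q)) (Iso.refl _)
        (by simp only [Iso.refl_hom, Category.comp_id]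
            exact (Subobject.underlyingIso_hom_comp_eq_mk _).symm)
    exact hGp A (κ ≫ (e₁ C ≪≫ e₃ ≪≫ e₂).hom) (mono_comp _ _) hA hA0
  have hcm : c m.castSucc = C := by
    have hb : c (Fin.last _) = Groth.HilbStab.cTop hE := hc1
    obtain ⟨-, h2⟩ := Groth.HilbStab.PolyLattice.ecr_last (S := S) c hcs hcp m hm (C := C)
      (hc0 ▸ Groth.HilbStab.cBot_le hE C) (hb ▸ hle C)
    rw [hms, hb, hQF, hQG] at h2
    have h3 := h2 (Groth.HilbStab.redEq_topPart_iff.mp hred) hpureC
    rcases eq_or_lt_of_le h3 with e | e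
    · exact e
    exfalso
    have hess := hcs m
    rw [hms, hb] at hess
    have hμ := hess.2.1.μ_pos e (hle C)
    have h4 := S.μ_add (c m.castSucc) C (Groth.HilbStab.cTop hE)
    simp only [Groth.HilbStab.PolyLattice.μ, hQF, hQG] at h4 hμ
    linarith
  have hsub : s.eraseLast.last = Subobject.mk (kernel.ι q) :=
    hlast.trans ((hc m.castSucc).symm.trans (congrArg Subtype.val hcm))
  have hfin : ∀ A : Subobject E, A = Subobject.mk (kernel.ι q) →
      ∃ φ : cokernel A.arrow ≅ G, cokernel.π A.arrow ≫ φ.hom = q := by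
    rintro A rfl
    refine ⟨cokernel.mapIso _ _ (Subobject.underlyingIso (kernel.ι q)) (Iso.refl _)
      (by simp only [Iso.refl_hom, Category.comp_id]
          exact (Subobject.underlyingIso_hom_comp_eq_mk _).symm) ≪≫ e₂, ?_⟩
    rw [Iso.trans_hom, cokernel.mapIso_hom, cokernel.π_desc_assoc, Iso.refl_hom,
      Category.id_comp, he₂]
  exact hfin _ hsub

end Groth.Agent.S18973
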