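import Groth.Statements.S18976
import Groth.Agent.AlgGrp2.TorsorQuot
import Groth.Agent.S16133
-- import your own Groth.Agent.* helpers here

set_option autoImplicit false
universe u
open CategoryTheory MonoidalCategory CartesianMonoidalCategory MonObj AlgebraicGeometry
open GIT

namespace Groth.Agent.S18976

/-- The associated fibre bundle exists. Over an algebraically closed field k of characteristic zero, let
G be an affine group scheme of finite type over k acting on a k-scheme X, let φ : X → Y be a
G-torsor over Y (the square formed by the action, the second projection and φ twice is cartesian,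
and φ acquires sections on the members of some fpqc covering family of Y), and let G act on an
affine k-scheme F. Give X ×_k F the diagonal action. Then there are a k-scheme Q with a morphism to
Y and a morphism q : X ×_k F → Q compatible with the projection to Y such that q is a G-torsor over
Q in the same sense; moreover q is affine and a geometric quotient. (The source writes the torsor
with a right action and lets g act on X × F by (x g⁻¹, g f); with the left action g x := x g⁻¹ this
is the diagonal action used here. The last assertion of the source, on the case where F is a larger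
affine group containing G, is not part of this row.) -/
theorem result
    (k : Type u) [Field k] [IsAlgClosed k] [CharZero k]
    (G X Y F : Over (Spec (CommRingCat.of k))) [GrpObj G] [IsAffine G.left] [LocallyOfFiniteType G.hom]
    (a : AlgGrp.Action G X) (φ : X ⟶ Y)
    (hcart : IsPullback a.act (snd G X) φ φ)
    (hloc : NonAbH1.IsLocallyTrivialFor Scheme.fpqcPrecoverage (Over.mk φ.left : Over Y.left))
    [IsAffine F.left] (b : AlgGrp.Action G F) :
    ∃ (Q : Over (Spec (CommRingCat.of k))) (q : X ⊗ F ⟶ Q) (r : Q ⟶ Y),
      q ≫ r = fst X F ≫ φ ∧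
      IsPullback (a.prod b).act (snd G (X ⊗ F)) q q ∧
      NonAbH1.IsLocallyTrivialFor Scheme.fpqcPrecoverage (Over.mk q.left : Over Q.left) ∧
      IsAffineHom q.left ∧ GIT.IsGeomQuot (a.prod b) q := by
  have hsq : IsPullback a.act.left (snd G X).left φ.left φ.left := hcart.map (Over.forget _)
  have : IsAffineHom G.hom := isAffineHom_of_isAffine G.hom
  have : Surjective G.hom := ⟨fun t => ⟨η[G].left t, Subsingleton.elim (α := PrimeSpectrum k) _ _⟩⟩
  have : IsAffineHom φ.left :=
    Groth.AlgGrp2.prop_of_locallyTrivial a φ hsq hloc @IsAffineHom inferInstance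
  have : Flat φ.left := Groth.AlgGrp2.prop_of_locallyTrivial a φ hsq hloc @Flat inferInstance
  have : Surjective φ.left := Groth.AlgGrp2.prop_of_locallyTrivial a φ hsq hloc @Surjective inferInstance
  let h := (fst X F).left
  have : IsAffineHom F.hom := isAffineHom_of_isAffine F.hom
  have : IsAffineHom h := MorphismProperty.of_isPullback (CategoryTheory.IsPullback.of_hasPullback X.hom F.hom).flip
    ‹IsAffineHom F.hom›
  obtain ⟨U, π, q₀, hpb, hcompat⟩ := Groth.Pi1Desc.Act.eff_of_isAffineHom (Groth.Agent.S16133.bundleAct hsq b)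
  let Q : Over (Spec (CommRingCat.of k)) := Over.mk (π ≫ Y.hom)
  let q : X ⊗ F ⟶ Q := Over.homMk q₀ (by
    show q₀ ≫ π ≫ Y.hom = _
    rw [hpb.w_assoc, Over.w φ]; exact Over.w (fst X F))
  let r : Q ⟶ Y := Over.homMk π rfl
  have hqr : q ≫ r = fst X F ≫ φ := Over.OverMorphism.ext hpb.w
  have : Flat q.left := MorphismProperty.of_isPullback hpb.flip ‹Flat φ.left›
  have : Surjective q.left := MorphismProperty.of_isPullback hpb.flip ‹Surjective φ.left›
  have : IsAffineHom q.left := MorphismProperty.of_isPullback hpb.flip ‹IsAffineHom φ.left›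
  have hd : (a.prod b).act ≫ fst X F = (G ◁ fst X F) ≫ a.act := by simp [AlgGrp.Action.prod]
  have houter : IsPullback ((G ◁ fst X F).left ≫ a.act.left) (snd G (X ⊗ F)).left φ.left
      (h ≫ φ.left) := (Groth.GrpschAbsch.isPullback_whiskerLeft G (fst X F)).paste_horiz hsq
  have hinv : (a.prod b).act ≫ q = snd G (X ⊗ F) ≫ q := by
    apply Over.OverMorphism.ext
    let x' := (lift (fst G (X ⊗ F)) (snd G (X ⊗ F) ≫ fst X F) ≫ a.act).left
    have e : (snd G (X ⊗ F)).left ≫ (fst X F).left ≫ φ.left = x' ≫ φ.left := by
      have := congrArg ((lift (fst G (X ⊗ F)) (snd G (X ⊗ F) ≫ fst X F)).left ≫ ·) hsq.w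
      simp only [← Category.assoc, ← Over.comp_left, lift_snd] at this
      simp only [x', ← Over.comp_left, Category.assoc] at this ⊢
      exact this.symm
    have h1 := hcompat _ (snd G (X ⊗ F)).left x' e
    have h2 := Groth.Agent.S16133.moveTo_eq hsq b (snd G (X ⊗ F)).left x' e (t := (G ⊗ (X ⊗ F)).hom)
      (snd G (X ⊗ F)) (fst G (X ⊗ F)) rfl rfl
    rw [show (Groth.Agent.S16133.bundleAct hsq b).act _ _ e = _ from h2] at h1
    have h3 : (a.prod b).act =
        Groth.Agent.S16133.diagAct (a := a) b (fst G (X ⊗ F)) (snd G (X ⊗ F)) := by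
      have hwl : ∀ {V : Over (Spec (CommRingCat.of k))} (w : X ⊗ F ⟶ V),
          (G ◁ w) = lift (fst G (X ⊗ F)) (snd G (X ⊗ F) ≫ w) := fun w => by ext <;> simp
      show lift ((G ◁ fst X F) ≫ a.act) ((G ◁ snd X F) ≫ b.act) = _
      rw [hwl, hwl]
      rfl
    rw [Over.comp_left, Over.comp_left, h3]
    exact h1
  have hq : IsPullback (a.prod b).act.left (snd G (X ⊗ F)).left q.left q.left := by
    refine IsPullback.of_right ?_ (congrArg Over.Hom.left hinv) hpb.flip
    rw [← Over.comp_left, hd, Over.comp_left]
    exact hpb.w.symm ▸ houter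
  refine ⟨Q, q, r, hqr, IsPullback.of_map (Over.forget _) hinv hq, ?_, inferInstance,
    Groth.AlgGrp2.isGeomQuot_of_torsor _ q hq⟩
  exact ⟨Presieve.singleton q.left, q.left.singleton_mem_fpqcPrecoverage, fun _ f ⟨⟩ =>
    ⟨𝟙 _, Category.id_comp _⟩⟩

end Groth.Agent.S18976
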