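import Groth.Statements.S18977
import Groth.Agent.AlgGrp2.Basic

set_option autoImplicit false
universe u
open CategoryTheory MonoidalCategory CartesianMonoidalCategory MonObj AlgebraicGeometry
open GIT

namespace Groth.Agent.S18977

lemma loc_comp {X Y Z : Scheme.{u}} (f : X ⟶ Y) (g : Y ⟶ Z)
    (hf : NonAbH1.IsLocallyTrivialFor Scheme.fpqcPrecoverage (Over.mk f))
    (hg : NonAbH1.IsLocallyTrivialFor Scheme.fpqcPrecoverage (Over.mk g)) :
    NonAbH1.IsLocallyTrivialFor Scheme.fpqcPrecoverage (Over.mk (f ≫ g)) := by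
  obtain ⟨R, hR, hsec⟩ := hf
  obtain ⟨R', hR', hsec'⟩ := hg
  obtain ⟨I, U, u, rfl⟩ := R'.exists_eq_ofArrows
  choose s hs using fun i => hsec' (u i) ⟨i⟩
  have hT : ∀ i, ∃ (J : Type (u + 1)) (V : J → Scheme.{u}) (v : ∀ j, V j ⟶ U i),
      Presieve.ofArrows V v ∈ Scheme.fpqcPrecoverage (U i) ∧
      ∀ j, ∃ t : V j ⟶ X, t ≫ f ≫ g = v j ≫ u i := by
    intro i
    obtain ⟨J, V, v, hv⟩ := (R.pullbackArrows (s i)).exists_eq_ofArrows
    refine ⟨J, V, v, hv ▸ Precoverage.pullbackArrows_mem (s i) hR, fun j => ?_⟩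
    have hmem : R.pullbackArrows (s i) (v j) := by rw [hv]; exact ⟨j⟩
    have key : ∀ {W : Scheme.{u}} (w : W ⟶ U i), R.pullbackArrows (s i) w →
        ∃ t : W ⟶ X, t ≫ f = w ≫ s i := by
      rintro W _ ⟨W', h, hh⟩
      obtain ⟨t, ht⟩ := hsec h hh
      refine ⟨Limits.pullback.fst h (s i) ≫ t, ?_⟩
      rw [Category.assoc, show t ≫ f = h from ht, Limits.pullback.condition]
    obtain ⟨t, ht⟩ := key (v j) hmem
    exact ⟨t, by rw [reassoc_of% ht, show s i ≫ g = u i from hs i]⟩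
  choose J V v hv t ht using hT
  refine ⟨_, Scheme.fpqcPrecoverage.comp_mem_coverings u hR' v hv, ?_⟩
  rintro W _ ⟨⟨i, j⟩⟩
  exact ⟨t i j, ht i j⟩

/-- Composition of torsors. Over an algebraically closed field k of characteristic zero, let G be an
affine group scheme of finite type over k, N a closed normal subgroup scheme which is the kernel of
a homomorphism q : G → Q, and H a closed subgroup scheme of G which q maps isomorphically onto Q (so
G is the inner semidirect product N H). Let G act on a k-scheme X and let φ₁ : X → Y be a torsor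
over Y under the restricted action of N (the square formed by the N-action, the second projection
and φ₁ twice is cartesian, and φ₁ acquires sections on the members of some fpqc covering family of
Y); let Q act on Y so that φ₁ is equivariant along q, and let φ₂ : Y → Z be a Q-torsor over Z in the
same sense. Then φ₂ ∘ φ₁ is a G-torsor over Z: the square formed by the G-action, the second
projection and φ₂ ∘ φ₁ twice is cartesian, and φ₂ ∘ φ₁ acquires sections fpqc-locally on Z. (The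
induced action of the factor group on Y is taken as a datum together with the equivariance of φ₁;
the source's second assertion, that the composite of trivial torsors is trivial, amounts to
composing sections and is not restated.) -/
theorem result
    (k : Type u) [Field k] [IsAlgClosed k] [CharZero k]
    (G N Q H X Y Z : Over (Spec (CommRingCat.of k))) [GrpObj G] [GrpObj N] [GrpObj Q] [GrpObj H]
    [IsAffine G.left] [LocallyOfFiniteType G.hom]
    (iN : N ⟶ G) [IsMonHom iN] [IsClosedImmersion iN.left] (hnorm : AlgGrp.IsNormalHom iN)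
    (q : G ⟶ Q) [IsMonHom q] (hker : AlgGrp.IsKernel iN q)
    (iH : H ⟶ G) [IsMonHom iH] [IsClosedImmersion iH.left] [IsIso (iH ≫ q)]
    (a : AlgGrp.Action G X) (φ₁ : X ⟶ Y)
    (h₁ : IsPullback (a.restrict iN).act (snd N X) φ₁ φ₁)
    (h₁loc : NonAbH1.IsLocallyTrivialFor Scheme.fpqcPrecoverage (Over.mk φ₁.left : Over Y.left))
    (aY : AlgGrp.Action Q Y) (hequiv : (q ⊗ₘ φ₁) ≫ aY.act = a.act ≫ φ₁)
    (φ₂ : Y ⟶ Z) (h₂ : IsPullback aY.act (snd Q Y) φ₂ φ₂)
    (h₂loc : NonAbH1.IsLocallyTrivialFor Scheme.fpqcPrecoverage (Over.mk φ₂.left : Over Z.left)) :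
    IsPullback a.act (snd G X) (φ₁ ≫ φ₂) (φ₁ ≫ φ₂) ∧
      NonAbH1.IsLocallyTrivialFor Scheme.fpqcPrecoverage (Over.mk (φ₁ ≫ φ₂).left : Over Z.left) := by
  have hcond : a.act ≫ (φ₁ ≫ φ₂) = snd G X ≫ (φ₁ ≫ φ₂) := by
    rw [← reassoc_of% hequiv, h₂.w, tensorHom_snd_assoc]
  have hφ : ∀ {T : Over (Spec (CommRingCat.of k))} (g : T ⟶ G) (x : T ⟶ X),
      (lift g x ≫ a.act) ≫ φ₁ = lift (g ≫ q) (x ≫ φ₁) ≫ aY.act := fun g x => by
    rw [Category.assoc, ← hequiv, lift_map_assoc]
  have hN : ∀ {T : Over (Spec (CommRingCat.of k))} (n : T ⟶ N) (x : T ⟶ X),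
      lift n x ≫ (a.restrict iN).act = lift (n ≫ iN) x ≫ a.act := fun n x => by
    rw [AlgGrp.Action.lift_restrict_act]
  have free : ∀ {T : Over (Spec (CommRingCat.of k))} (g : T ⟶ G) (x : T ⟶ X),
      lift g x ≫ a.act = x → g = 1 := by
    intro T g x hg
    have h1 := hφ g x
    rw [hg] at h1
    have hq : g ≫ q = 1 := by
      have : lift (g ≫ q) (x ≫ φ₁) = lift 1 (x ≫ φ₁) := h₂.hom_ext
        (by rw [← h1, Groth.AlgGrp2.lift_one_act]) (by simp)
      simpa using congrArg (· ≫ fst Q Y) this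
    obtain ⟨n, hn, -⟩ := hker.exists_lift g (toUnit T) (by rw [hq, Hom.one_def])
    have : lift n x = lift 1 x := h₁.hom_ext
      (by rw [hN, hN, hn, MonObj.one_comp, Groth.AlgGrp2.lift_one_act, hg]) (by simp)
    have hn1 : n = 1 := by simpa using congrArg (· ≫ fst N X) this
    rw [← hn, hn1, MonObj.one_comp]
  have ex : ∀ {T : Over (Spec (CommRingCat.of k))} (y x : T ⟶ X), y ≫ φ₁ ≫ φ₂ = x ≫ φ₁ ≫ φ₂ →
      ∃ g : T ⟶ G, lift g x ≫ a.act = y := by
    intro T y x h
    obtain ⟨m, hm1, hm2⟩ := h₂.exists_lift (y ≫ φ₁) (x ≫ φ₁) (by simpa using h)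
    obtain ⟨n', hn1, hn2⟩ := h₁.exists_lift y
      (lift ((m ≫ fst Q Y) ≫ inv (iH ≫ q) ≫ iH) x ≫ a.act) (by
        rw [hφ]
        simp only [Category.assoc, IsIso.inv_hom_id, Category.comp_id, IsIso.inv_hom_id_assoc]
        rw [← hm2, ← comp_lift, lift_fst_snd, Category.comp_id, hm1])
    refine ⟨(n' ≫ fst N X ≫ iN) * ((m ≫ fst Q Y) ≫ inv (iH ≫ q) ≫ iH), ?_⟩
    rw [Groth.AlgGrp2.lift_mul_act, ← hn2, ← Category.assoc n' (fst N X) iN, ← hN, ← comp_lift_assoc,
      lift_fst_snd, Category.id_comp, hn1]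
  refine ⟨?_, loc_comp φ₁.left φ₂.left h₁loc h₂loc⟩
  choose g hg using fun (s : Limits.PullbackCone (φ₁ ≫ φ₂) (φ₁ ≫ φ₂)) => ex s.fst s.snd s.condition
  refine IsPullback.of_isLimit' ⟨hcond⟩ (Limits.PullbackCone.IsLimit.mk hcond
    (fun s => lift (g s) s.snd) (fun s => hg s) (fun s => lift_snd _ _) ?_)
  intro s m hm1 hm2
  apply CartesianMonoidalCategory.hom_ext
  · have e : lift (m ≫ fst G X) s.snd ≫ a.act = lift (g s) s.snd ≫ a.act := by
      rw [hg, ← hm2, ← comp_lift, lift_fst_snd, Category.comp_id, hm1]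
    have h1 := free ((g s)⁻¹ * (m ≫ fst G X)) s.snd
      (by rw [Groth.AlgGrp2.lift_mul_act, e, Groth.AlgGrp2.lift_inv_act])
    rw [lift_fst]
    exact (inv_mul_eq_one.mp h1).symm
  · rw [lift_snd, hm2]

end Groth.Agent.S18977
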