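import Groth.Statements.S1898
import Groth.Agent.Calg6.PushSheafCyc.Stalk
import Groth.Agent.Calg6.PushSheafCyc.Length
import Groth.Agent.Cycles.PullComp
import Groth.Agent.Cycles.NormScheme

set_option autoImplicit false
universe u
open CategoryTheory AlgebraicGeometry
open Cyc

namespace Groth.Agent.S1898

open Groth.Calg6.PushSheafCyc Groth.Cycles IsLocalRing

/-- The length of a stalk over the local ring of the image point. -/
theorem length_stalk_over {X Y : Scheme.{u}} (f : X ⟶ Y) [LocallyOfFiniteType f] (F : X.Modules) {x : X} {y : Y}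
    (h : f x = y) (hfin : IsFiniteLength (X.presheaf.stalk x) ↑(F.presheaf.stalk x))
    (hres : (f.residueFieldMap x).hom.Finite) :
    letI := Module.compHom ↑(F.presheaf.stalk x) (psi f h)
    Module.length (Y.presheaf.stalk y) ↑(F.presheaf.stalk x) =
      (((Module.length (X.presheaf.stalk x) ↑(F.presheaf.stalk x)).toNat * f.residueDegree x : ℕ) : ℕ∞) := by
  letI := (psi f h).toAlgebra
  letI := Module.compHom ↑(F.presheaf.stalk x) (psi f h)
  have : IsScalarTower (Y.presheaf.stalk y) (X.presheaf.stalk x) ↑(F.presheaf.stalk x) :=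
    ⟨fun a b m => mul_smul (psi f h a) b m⟩
  have h1 := length_restrict (A := Y.presheaf.stalk y) ↑(F.presheaf.stalk x) hfin
  have h2 : (Module.length (Y.presheaf.stalk y) (ResidueField (X.presheaf.stalk x))).toNat = f.residueDegree x :=
    toNat_length_residueField f x y h
  have hpos : 0 < f.residueDegree x := by
    letI := (f.residueFieldMap x).hom.toAlgebra
    have : Module.Finite (Y.residueField (f x)) (X.residueField x) := hres
    exact Module.finrank_pos
  have h3 : Module.length (Y.presheaf.stalk y) (ResidueField (X.presheaf.stalk x)) ≠ ⊤ := fun e => by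
    rw [e] at h2; simp at h2; omega
  rw [h1, Nat.cast_mul, ← h2, ENat.coe_toNat h3, ENat.coe_toNat (Module.length_ne_top_iff.mpr hfin)]

/-- Let f : X → Y be proper and F a coherent O_X-module whose support has δ-dimension ≤ k. Then f_*[F]_k
= [f_*F]_k: for any cycle α on X with the coefficients of [F]_k, the pushforward f_*α has the
coefficients of [f_*F]_k. A pair (X, δ) with Cyc.IsSetup plays the role of a scheme locally of
finite type over a fixed base with a dimension function (X locally Noetherian with universally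
catenary local rings, δ a dimension function), and Cyc.DeltaCompat records that the dimension
function upstairs is the induced one. -/
theorem result (X Y : Scheme.{u}) (δX : X → ℤ) (δY : Y → ℤ) (hX : Cyc.IsSetup X δX) (hY : Cyc.IsSetup Y δY) (f : X ⟶ Y) [IsProper f] (hδ : Cyc.DeltaCompat f δX δY) (k : ℤ) (F : X.Modules) (hF : Coh.IsCoh F) (hdim : ∀ x : X, Nontrivial (F.presheaf.stalk x) → δX x ≤ k) (α : AlgebraicCycle X ℤ) (hα : ⇑α = Cyc.sheafFun δX k F) : ⇑(AlgebraicCycle.map f δX δY α) = Cyc.sheafFun δY k ((Coh.push f).obj F) := by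
  classical
  have := hX.1
  have hnn : ∀ x : X, ¬ Nontrivial (F.presheaf.stalk x) → Subsingleton (F.presheaf.stalk x) :=
    fun x h => not_nontrivial_iff_subsingleton.mp h
  have hαs : ∀ x : X, α x ≠ 0 → δX x = k ∧ Nontrivial (F.presheaf.stalk x) := fun x h => by
    rw [hα, Cyc.sheafFun] at h
    split_ifs at h with hk
    · refine ⟨hk, ?_⟩
      by_contra hn
      have := hnn x hn
      rw [Module.length_eq_zero] at h
      exact h rfl
    · exact absurd rfl h
  funext y
  by_cases hy : δY y = k
  swap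
  · rw [Groth.Cycles.map_apply_eq_sum f δX δY α y _ (fun x hx hc =>
      (Set.Finite.mem_toFinset (Groth.Cycles.finite_preimage_inter_support f α y)).2 ⟨hx, hc⟩),
      Cyc.sheafFun, if_neg hy]
    refine Finset.sum_eq_zero fun x hx => ?_
    obtain ⟨hxy, hxα⟩ := (Set.Finite.mem_toFinset _).1 hx
    rw [if_pos hxy, AlgebraicCycle.mapCoeff, if_neg, Nat.cast_zero, mul_zero]
    rw [(hαs x hxα).1, hxy]
    exact Ne.symm hy
  -- the points of the support over `y`
  have hdelta : ∀ x : X, f x = y → Nontrivial (F.presheaf.stalk x) → δX x = k := fun x hx hn => by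
    have h1 := Groth.Cycles.delta_le_of_deltaCompat hδ x
    rw [hx] at h1
    have := hdim x hn
    omega
  have hmax : ∀ x : X, f x = y → Nontrivial (F.presheaf.stalk x) → ∀ z : X,
      Nontrivial (F.presheaf.stalk z) → z ⤳ x → z = x := fun x hx hn z hz hzx =>
    Groth.Cycles.eq_of_specializes_of_delta_le hX.2.2 hzx ((hdim z hz).trans (hdelta x hx hn).ge)
  obtain ⟨_, ⟨V₀, hV₀, rfl⟩, hyV₀, -⟩ :=
    Y.isBasis_affineOpens.exists_subset_of_mem_open (Set.mem_univ y) isOpen_univ
  obtain ⟨G, hGfin, hGZ, hG⟩ := exists_finite_generic (Groth.CohTwo.isClosed_support F hF) (f ⁻¹ᵁ V₀)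
    (f.isCompact_preimage hV₀.isCompact)
  have hSfin : {x : X | f x = y ∧ Nontrivial (F.presheaf.stalk x)}.Finite := hGfin.subset fun x hx => by
    obtain ⟨g, hg, hgx⟩ := hG x (not_subsingleton_iff_nontrivial.mpr hx.2)
      (show f x ∈ V₀ by rw [hx.1]; exact hyV₀)
    exact (hmax x hx.1 hx.2 g (not_subsingleton_iff_nontrivial.mp (hGZ hg)) hgx) ▸ hg
  let s := hSfin.toFinset
  have hmem : ∀ x, x ∈ s ↔ f x = y ∧ Nontrivial (F.presheaf.stalk x) := fun x => hSfin.mem_toFinset
  have hs : ∀ x : s, f x.1 = y := fun x => ((hmem _).1 x.2).1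
  have hbij := bijective_fibGerm f F s hs hF (fun x => hmax x.1 (hs x) ((hmem _).1 x.2).2)
    (fun x hx hxs => hnn x fun h => hxs ((hmem x).2 ⟨hx, h⟩))
  letI : ∀ x : s, Module (Y.presheaf.stalk y) ↑(F.presheaf.stalk x.1) :=
    fun x => Module.compHom _ (psi f (hs x))
  let e : ↑(((Scheme.Modules.pushforward f).obj F).presheaf.stalk y) ≃ₗ[Y.presheaf.stalk y]
      ((x : s) → ↑(F.presheaf.stalk x.1)) :=
    LinearEquiv.ofBijective
      { toFun := fun t => fun x : s => fibGerm f F (hs x) t
        map_add' := fun a b => funext fun x => map_add _ a b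
        map_smul' := fun a t => funext fun x => fibGerm_smul f F (hs x) a t } hbij
  have hres : ∀ x : s, (f.residueFieldMap x.1).hom.Finite := fun x => by
    refine Groth.Cycles.finite_residueFieldMap_of_trdeg_eq_zero f x.1 ?_
    obtain ⟨n, hn, hn'⟩ := hδ x.1
    rw [hdelta x.1 (hs x) ((hmem _).1 x.2).2, hs x, hy] at hn'
    obtain rfl : n = 0 := by omega
    simpa [Groth.Variety2.Dim.relTrdeg] using hn
  have hlen : Module.length (Y.presheaf.stalk y) ↑(((Scheme.Modules.pushforward f).obj F).presheaf.stalk y) =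
      ((∑ x : s, (Module.length (X.presheaf.stalk x.1) ↑(F.presheaf.stalk x.1)).toNat * f.residueDegree x.1 : ℕ) : ℕ∞) := by
    rw [e.length_eq, Module.length_pi_of_fintype, Nat.cast_sum]
    exact Finset.sum_congr rfl fun x _ => length_stalk_over f F (hs x)
      (Module.length_ne_top_iff.mp (Groth.Cycles.length_stalk_ne_top_of_le hX hF hdim x.1
        (hdelta x.1 (hs x) ((hmem _).1 x.2).2))) (hres x)
  rw [Groth.Cycles.map_apply_eq_sum f δX δY α y s (fun x hx hc => (hmem x).2 ⟨hx, (hαs x hc).2⟩),
    Cyc.sheafFun, if_pos hy]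
  erw [hlen]
  rw [ENat.toNat_coe, Nat.cast_sum, ← Finset.sum_coe_sort s]
  refine Finset.sum_congr rfl fun x _ => ?_
  have hk := hdelta x.1 (hs x) ((hmem _).1 x.2).2
  rw [if_pos (hs x), AlgebraicCycle.mapCoeff, if_pos (by rw [hk, hs x, hy]), hα, Cyc.sheafFun,
    if_pos hk, Nat.cast_mul]

end Groth.Agent.S1898
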