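import Groth.Statements.S18981
import Groth.Agent.AlgStCover.GoodQuot
import Groth.Agent.AlgGrp1.GenSubgroup

set_option autoImplicit false
set_option backward.isDefEq.respectTransparency false
set_option backward.isDefEq.respectTransparency.types false
universe u
open CategoryTheory MonoidalCategory CartesianMonoidalCategory MonObj AlgebraicGeometry Topology
open NRQuot

namespace Groth.Agent.S18981

/-- Over an algebraically closed field k of characteristic zero, let G be an affine group scheme of
finite type over k acting on a k-scheme X locally of finite type, and let φ : X → Y be a good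
quotient (affine and invariant, functions on every open of Y are exactly the invariant functions on
its preimage, invariant closed subsets have closed images, images commute with intersections of
families of invariant closed subsets). If the orbit of every k-point of X is closed in X, then φ is
a geometric quotient; this row states the one clause that a good quotient lacks: fibres are orbits,
read on k-points — two k-points of X with the same image in Y are translates of each other by a
k-point of G. (Surjectivity and submersiveness of a good quotient are the content of the companion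
statement on good quotients; X locally of finite type is what the argument on closed points uses.) -/
theorem result
    (k : Type u) [Field k] [IsAlgClosed k] [CharZero k]
    (G X Y : Over (Spec (CommRingCat.of k))) [GrpObj G] [IsAffine G.left] [LocallyOfFiniteType G.hom]
    [LocallyOfFiniteType X.hom]
    (a : AlgGrp.Action G X) (φ : X ⟶ Y) (h : NRQuot.IsGoodQuot a φ)
    (hcl : ∀ x : 𝟙_ (Over (Spec (CommRingCat.of k))) ⟶ X, IsClosed (Set.range (a.orbitMap x).left.base))
    (x₁ x₂ : 𝟙_ (Over (Spec (CommRingCat.of k))) ⟶ X) (hφ : x₁ ≫ φ = x₂ ≫ φ) :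
    ∃ g : 𝟙_ (Over (Spec (CommRingCat.of k))) ⟶ G, lift g x₁ ≫ a.act = x₂ := by
  let p₀ : (𝟙_ (Over (Spec (CommRingCat.of k)))).left := (IsLocalRing.closedPoint k : Spec (CommRingCat.of k))
  obtain ⟨q, hq⟩ := (Groth.AlgStCover.closure_orbit_inter_iff h x₁ x₂).2 hφ
  have := LocallyOfFiniteType.jacobsonSpace X.hom
  have := LocallyOfFiniteType.jacobsonSpace G.hom
  obtain ⟨p, hp, hpc⟩ := nonempty_inter_closedPoints
    (Z := closure (Set.range (a.orbitMap x₁).left.base) ∩ closure (Set.range (a.orbitMap x₂).left.base)) ⟨q, hq⟩
    (isClosed_closure.inter isClosed_closure).isLocallyClosed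
  rw [(hcl x₁).closure_eq, (hcl x₂).closure_eq] at hp
  obtain ⟨z, hz⟩ := Groth.AlgGrp1.exists_rpt hpc
  have key : ∀ x : 𝟙_ (Over (Spec (CommRingCat.of k))) ⟶ X, p ∈ Set.range (a.orbitMap x).left.base →
      ∃ g : 𝟙_ (Over (Spec (CommRingCat.of k))) ⟶ G, lift g x ≫ a.act = z := by
    intro x hx
    obtain ⟨g₀, hg₀⟩ := hx
    obtain ⟨g₁, hg₁, hg₁c⟩ := nonempty_inter_closedPoints
      (Z := (a.orbitMap x).left.base ⁻¹' {p}) ⟨g₀, hg₀⟩
      (((show IsClosed ({p} : Set X.left) from hpc).preimage (a.orbitMap x).left.continuous).isLocallyClosed)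
    obtain ⟨g, hg⟩ := Groth.AlgGrp1.exists_rpt hg₁c
    have e : g ≫ a.orbitMap x = z := Over.OverMorphism.ext
      (Groth.AlgStCover.point_eq_of_closedPoint X.hom (g ≫ a.orbitMap x).left z.left
        (Over.w (g ≫ a.orbitMap x)) (Over.w z)
        ((show (a.orbitMap x).left.base (g.left.base (IsLocalRing.closedPoint k)) = p by
          rw [show g.left.base (IsLocalRing.closedPoint k) = g₁ from hg]; exact hg₁).trans hz.symm))
    refine ⟨g, ?_⟩
    rw [← e, Groth.AlgGrp1.comp_orbit, toUnit_unique (toUnit _) (𝟙 _), Category.id_comp]
  obtain ⟨g₁, h₁⟩ := key x₁ hp.1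
  obtain ⟨g₂, h₂⟩ := key x₂ hp.2
  exact ⟨g₂⁻¹ * g₁, by rw [a.lift_mul_act, h₁, ← h₂, ← a.lift_mul_act, inv_mul_cancel, a.lift_one_act]⟩

end Groth.Agent.S18981
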