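import Groth.Statements.S18987
import Groth.Agent.Misc1.Unip.Infinitesimal

set_option autoImplicit false
universe u
open TensorProduct
open HopfRep

namespace Groth.Agent.S18987

/-- In Hopf-algebra form, over an algebraically closed field k of characteristic zero, let A be a
finitely generated commutative Hopf algebra which is unipotent in the fixed-vector sense (the
coordinate ring of a unipotent group U), coacting multiplicatively on a finitely generated
commutative k-algebra R (an action of U on the affine scheme Spec R). Then an element f of R is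
invariant if and only if, for every ε-derivation ξ : A → k (every element of the Lie algebra of U),
applying ξ to the A-factor of the coaction of f gives zero (the infinitesimal action of ξ kills f). -/
theorem result
    (k : Type u) [Field k] [IsAlgClosed k] [CharZero k]
    (A : Type u) [CommRing A] [HopfAlgebra k A] [Algebra.FiniteType k A] (hU : HopfRep.IsUnipotent k A)
    (R : Type u) [CommRing R] [Algebra k R] [Algebra.FiniteType k R]
    [HopfRep.Comod k A R] [GLin.IsCoactAlg k A R] (f : R) :
    f ∈ GLin.invariants k A R ↔
      ∀ ξ : LieHopf.Lie k A,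
        LinearMap.lTensor R (ξ.toLinearMap.restrictScalars k) (HopfRep.Comod.coact (k := k) (A := A) f) = 0 := by
  refine ⟨fun hf ξ => ?_, fun h => ?_⟩
  · rw [Groth.Misc1.Unip.lTensor_lie_eq,
      show HopfRep.Comod.coact (k := k) (A := A) f = f ⊗ₜ[k] (1 : A) from hf,
      Groth.ComodLib.slice_tmul, LieHopf.dlin_one, zero_smul, TensorProduct.zero_tmul]
  · change HopfRep.Comod.coact (k := k) (A := A) f = f ⊗ₜ[k] (1 : A)
    rw [← sub_eq_zero]
    refine Groth.ComodLib.eq_zero_of_lslice fun ψ => ?_
    obtain ⟨n, hn⟩ := Groth.ComodLib.exists_mem_fixSeries hU (Groth.ComodLib.cf (A := A) ψ f)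
    have hc := Groth.Misc1.Unip.eq_const_of_op_lie hU n _ hn fun D => by
      rw [← Groth.ComodLib.isComodHom_op (Groth.ComodLib.isComodHom_cf ψ)]
      have h2 := h D
      rw [Groth.Misc1.Unip.lTensor_lie_eq,
        ← TensorProduct.zero_tmul (M := R) (show LieHopf.K k A from (1 : k))] at h2
      rw [show Groth.ComodLib.op (LieHopf.dlin D) f = 0 from Groth.Misc1.Unip.ridK_injective h2, map_zero]
    obtain ⟨c, hc⟩ := Submodule.mem_span_singleton.1 hc
    have hε := congrArg (Coalgebra.counit (R := k)) hc
    rw [map_smul, Bialgebra.counit_one, smul_eq_mul, mul_one, Groth.ComodLib.apply_cf,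
      Groth.ComodLib.op_counit] at hε
    rw [map_sub, Groth.ComodLib.lslice_tmul, sub_eq_zero, ← Groth.ComodLib.cf_apply, ← hc, hε]

end Groth.Agent.S18987
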