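import Groth.Statements.S18988
import Groth.Agent.Misc1.Unip.Infinitesimal

set_option autoImplicit false
universe u
open TensorProduct
open HopfRep

namespace Groth.Agent.S18988

/-- In Hopf-algebra form, over an algebraically closed field k of characteristic zero, let A be a
finitely generated commutative Hopf algebra which is unipotent in the fixed-vector sense (the
coordinate ring of a unipotent group U), coacting multiplicatively on a finitely generated
commutative k-algebra R. Then a k-subspace V of R is a subcomodule (is invariant under U) if and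
only if it is stable under the infinitesimal action of every ε-derivation ξ : A → k: for every v in
V, applying ξ to the A-factor of the coaction of v gives an element of the image of V ⊗ k in R ⊗ k. -/
theorem result
    (k : Type u) [Field k] [IsAlgClosed k] [CharZero k]
    (A : Type u) [CommRing A] [HopfAlgebra k A] [Algebra.FiniteType k A] (hU : HopfRep.IsUnipotent k A)
    (R : Type u) [CommRing R] [Algebra k R] [Algebra.FiniteType k R]
    [HopfRep.Comod k A R] [GLin.IsCoactAlg k A R] (V : Submodule k R) :
    HopfRep.IsSubcomod (k := k) (A := A) V ↔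
      ∀ (ξ : LieHopf.Lie k A) (v : R), v ∈ V →
        LinearMap.lTensor R (ξ.toLinearMap.restrictScalars k) (HopfRep.Comod.coact (k := k) (A := A) v) ∈
          LinearMap.range (LinearMap.rTensor (LieHopf.K k A) V.subtype) := by
  refine ⟨fun hV ξ v hv => ?_, fun h => ?_⟩
  · rw [Groth.Misc1.Unip.lTensor_lie_eq]
    exact ⟨(⟨_, (Groth.ComodLib.isSubcomod_iff V).1 hV (LieHopf.dlin ξ) v hv⟩ : V) ⊗ₜ[k]
      (show LieHopf.K k A from (1 : k)), rfl⟩
  · refine Groth.Misc1.Unip.isSubcomod_of_lie hU V fun D v hv => ?_
    obtain ⟨z, hz⟩ := h D v hv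
    rw [Groth.Misc1.Unip.lTensor_lie_eq] at hz
    have hz' : ∀ z : V ⊗[k] LieHopf.K k A, ∃ w ∈ V, LinearMap.rTensor (LieHopf.K k A) V.subtype z =
        w ⊗ₜ[k] (show LieHopf.K k A from (1 : k)) := by
      intro z
      induction z using TensorProduct.induction_on with
      | zero => exact ⟨0, V.zero_mem, by simp⟩
      | tmul p c =>
        refine ⟨(show k from c) • (p : R), V.smul_mem _ p.2, ?_⟩
        rw [LinearMap.rTensor_tmul, TensorProduct.smul_tmul]
        congr 1
        exact (mul_one (show k from c)).symm
      | add p q hp hq =>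
        obtain ⟨w1, m1, h1⟩ := hp
        obtain ⟨w2, m2, h2⟩ := hq
        exact ⟨w1 + w2, V.add_mem m1 m2, by rw [map_add, h1, h2, TensorProduct.add_tmul]⟩
    obtain ⟨w, hw, hw'⟩ := hz' z
    rw [hw'] at hz
    exact Groth.Misc1.Unip.ridK_injective hz ▸ hw

end Groth.Agent.S18988
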