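import Groth.Statements.S18989
import Groth.Agent.Misc1.Unip.Infinitesimal

set_option autoImplicit false
universe u
open TensorProduct
open HopfRep

namespace Groth.Agent.S18989

/-- An action of a unipotent group on an affine scheme is determined by its infinitesimal action. Over
an algebraically closed field k of characteristic zero, let A be a finitely generated commutative
Hopf algebra, unipotent in the fixed-vector sense, coacting multiplicatively on two finitely
generated commutative k-algebras R₁ and R₂, and let e : R₁ → R₂ be an algebra isomorphism which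
intertwines the two infinitesimal actions: for every ε-derivation ξ : A → k and every f in R₁,
applying ξ to the A-factor of the coaction of e(f) equals e ⊗ id applied to the same for f. Then e
intertwines the coactions: the coaction of e(f) is (e ⊗ id) of the coaction of f for all f. (With R₁
= R₂ and e the identity this says that two actions with the same infinitesimal action coincide,
which is the printed assertion.) -/
theorem result
    (k : Type u) [Field k] [IsAlgClosed k] [CharZero k]
    (A : Type u) [CommRing A] [HopfAlgebra k A] [Algebra.FiniteType k A] (hU : HopfRep.IsUnipotent k A)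
    (R₁ R₂ : Type u) [CommRing R₁] [Algebra k R₁] [Algebra.FiniteType k R₁]
    [HopfRep.Comod k A R₁] [GLin.IsCoactAlg k A R₁]
    [CommRing R₂] [Algebra k R₂] [Algebra.FiniteType k R₂]
    [HopfRep.Comod k A R₂] [GLin.IsCoactAlg k A R₂]
    (e : R₁ ≃ₐ[k] R₂)
    (h : ∀ (ξ : LieHopf.Lie k A) (f : R₁),
      LinearMap.lTensor R₂ (ξ.toLinearMap.restrictScalars k) (HopfRep.Comod.coact (k := k) (A := A) (e f)) =
        LinearMap.rTensor (LieHopf.K k A) e.toLinearMap
          (LinearMap.lTensor R₁ (ξ.toLinearMap.restrictScalars k) (HopfRep.Comod.coact (k := k) (A := A) f))) :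
    ∀ f : R₁, HopfRep.Comod.coact (k := k) (A := A) (e f) =
      LinearMap.rTensor A e.toLinearMap (HopfRep.Comod.coact (k := k) (A := A) f) := by
  intro f
  rw [← sub_eq_zero]
  refine Groth.ComodLib.eq_zero_of_lslice fun ψ => ?_
  let L : R₁ →ₗ[k] A := Groth.ComodLib.cf (A := A) ψ ∘ₗ e.toLinearMap -
    Groth.ComodLib.cf (A := A) (ψ ∘ₗ e.toLinearMap)
  have hzero := Groth.Misc1.Unip.eq_zero_of_lie_stable hU (W := LinearMap.range L)
    (fun D a ha => by
      obtain ⟨x, rfl⟩ := ha
      refine ⟨Groth.ComodLib.op (LieHopf.dlin D) x, ?_⟩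
      have h2 := h D x
      rw [Groth.Misc1.Unip.lTensor_lie_eq, Groth.Misc1.Unip.lTensor_lie_eq, LinearMap.rTensor_tmul] at h2
      have h3 : Groth.ComodLib.op (LieHopf.dlin D) (e x) = e (Groth.ComodLib.op (LieHopf.dlin D) x) :=
        Groth.Misc1.Unip.ridK_injective h2
      change Groth.ComodLib.cf (A := A) ψ (e (Groth.ComodLib.op (LieHopf.dlin D) x)) -
          Groth.ComodLib.cf (A := A) (ψ ∘ₗ e.toLinearMap) (Groth.ComodLib.op (LieHopf.dlin D) x) =
        Groth.ComodLib.op (LieHopf.dlin D) (Groth.ComodLib.cf (A := A) ψ (e x) -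
          Groth.ComodLib.cf (A := A) (ψ ∘ₗ e.toLinearMap) x)
      rw [← h3, map_sub, Groth.ComodLib.isComodHom_op (Groth.ComodLib.isComodHom_cf ψ),
        Groth.ComodLib.isComodHom_op (Groth.ComodLib.isComodHom_cf (ψ ∘ₗ e.toLinearMap))])
    (fun a ha => by
      obtain ⟨x, rfl⟩ := ha
      change Coalgebra.counit (R := k) (Groth.ComodLib.cf (A := A) ψ (e x) -
        Groth.ComodLib.cf (A := A) (ψ ∘ₗ e.toLinearMap) x) = 0
      rw [map_sub, Groth.ComodLib.apply_cf, Groth.ComodLib.apply_cf, Groth.ComodLib.op_counit,
        Groth.ComodLib.op_counit]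
      exact sub_self _)
    (L f) ⟨f, rfl⟩
  rw [map_sub, Groth.ComodLib.lslice_rTensor]
  exact hzero

end Groth.Agent.S18989
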