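import Groth.Statements.S1899
import Groth.Agent.Cycles.SheafCyc
-- import your own Groth.Agent.* helpers here

set_option autoImplicit false
universe u
open CategoryTheory AlgebraicGeometry
open Cyc

namespace Groth.Agent.S1899

/-- For a closed immersion i : Z → X with Z of δ-dimension ≤ k, [Z]_k = [O_Z]_k, i.e. the multiplicities
computed from lengths of the local rings O_{Z,z} agree with those computed from the stalks of i_*O_Z
as O_X-modules. A pair (X, δ) with Cyc.IsSetup plays the role of a scheme locally of finite type
over a fixed base with a dimension function (X locally Noetherian with universally catenary local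
rings, δ a dimension function), and Cyc.DeltaCompat records that the dimension function upstairs is
the induced one. -/
theorem result (X Z : Scheme.{u}) (δ : X → ℤ) (hX : Cyc.IsSetup X δ) (i : Z ⟶ X) [IsClosedImmersion i] (k : ℤ) (hdim : ∀ z : Z, δ (i z) ≤ k) : Cyc.subschemeFun δ k i = Cyc.sheafFun δ k ((Coh.push i).obj (Coh.structureModule Z)) := by
  have := hX.1
  funext x
  simp only [Cyc.subschemeFun, Cyc.sheafFun]
  split_ifs with hx
  · by_cases h : x ∈ Set.range i
    · obtain ⟨z, rfl⟩ := h
      have hset : {w : Z | i w = i z} = {z} := by
        ext w
        exact ⟨fun hw => i.isClosedEmbedding.injective hw, fun hw => by rw [show w = z from hw]; rfl⟩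
      rw [hset, finsum_mem_singleton]
      have e : Module.length (Z.presheaf.stalk z) (Z.presheaf.stalk z) =
          Module.length (X.presheaf.stalk (i z))
            (((Coh.push i).obj (Coh.structureModule Z)).presheaf.stalk (i z)) := by
        let L := LinearEquiv.ofBijective _ (Groth.CohTwo.bijective_toSpanSingleton_one (X := Z) z)
        let : Algebra (X.presheaf.stalk (i z)) (Z.presheaf.stalk z) := (i.stalkMap z).hom.toAlgebra
        rw [← Module.length_eq_of_surjective (S := X.presheaf.stalk (i z)) (R := Z.presheaf.stalk z)
          (i.stalkMap_surjective z)]
        exact (LinearEquiv.ofBijective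
          ({ toFun := fun t => L.symm (Groth.CohTwo.pushStalk i (Coh.structureModule Z) z t)
             map_add' := fun a b => (congrArg L.symm
               ((Groth.CohTwo.pushStalk i (Coh.structureModule Z) z).map_add a b)).trans (map_add L.symm _ _)
             map_smul' := fun a t => by
               rw [Groth.CohTwo.pushStalk_smul, map_smul]
               rfl } :
            ((Coh.push i).obj (Coh.structureModule Z)).presheaf.stalk (i z) →ₗ[X.presheaf.stalk (i z)]
              Z.presheaf.stalk z)
          (L.symm.bijective.comp
            (Groth.CohTwo.bijective_pushStalk i (Coh.structureModule Z) z))).length_eq.symm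
      rw [e]
    · have hset : {w : Z | i w = x} = ∅ := Set.eq_empty_of_forall_notMem fun w hw => h ⟨w, hw⟩
      have : Subsingleton (((Coh.push i).obj (Coh.structureModule Z)).presheaf.stalk x) :=
        not_not.mp fun hne => h (Groth.CohTwo.support_push_subset i _ hne)
      rw [hset, finsum_mem_empty, Module.length_eq_zero]
      simp
  · rfl

end Groth.Agent.S1899
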