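import Groth.Statements.S18991
import Groth.Agent.AbvarAlb.AffConst

set_option autoImplicit false
universe u
open CategoryTheory MonoidalCategory CartesianMonoidalCategory MonObj GrpObj AlgebraicGeometry CategoryTheory.Limits
open AbVar

namespace Groth.Agent.S18991

/-- In the form of the factorization it amounts to, let k be a perfect field, X a reduced separated
k-scheme of finite type, n ≥ 0 and G a large group over k, that is a commutative separated k-group
scheme locally of finite type together with a connected open subgroup scheme G⁰ (its neutral
component) which is semiabelian: G⁰ has a closed subgroup scheme T that is a torus and is the kernel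
of a flat surjective homomorphism from G⁰ onto an abelian variety A (a proper smooth connected
k-group scheme). Then every k-morphism X ×_k 𝔸ⁿ_k → G factors through the first projection X ×_k
𝔸ⁿ_k → X. (So a k-morphism X → A_X that is universal for morphisms from X to large groups remains
universal after composing with the projection: the Albanese scheme of X ×_k 𝔸ⁿ_k is that of X via
the projection.) -/
theorem result (k : Type u) [Field k] [PerfectField k]
    (X : Over (Spec (CommRingCat.of k))) [IsReduced X.left] [IsSeparated X.hom] [QuasiCompact X.hom]
    [LocallyOfFiniteType X.hom] (n : ℕ)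
    (G : Over (Spec (CommRingCat.of k))) [GrpObj G] [IsCommMonObj G] [IsSeparated G.hom] [LocallyOfFiniteType G.hom]
    (G0 : Over (Spec (CommRingCat.of k))) [GrpObj G0] (e : G0 ⟶ G) [IsMonHom e] [IsOpenImmersion e.left]
    [ConnectedSpace ↥G0.left]
    (T : Over (Spec (CommRingCat.of k))) [GrpObj T] (i : T ⟶ G0) [IsMonHom i] [IsClosedImmersion i.left]
    (hT : Red.IsTorus T)
    (A : Over (Spec (CommRingCat.of k))) [GrpObj A] [IsProper A.hom] [Smooth A.hom] [ConnectedSpace ↥A.left]
    (q : G0 ⟶ A) [IsMonHom q] [Surjective q.left] [Flat q.left] (hker : AlgGrp.IsKernel i q)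
    (φ : X ⊗ Over.mk (Spec.map (CommRingCat.ofHom (algebraMap k (MvPolynomial (Fin n) k)))) ⟶ G) :
    ∃ ψ : X ⟶ G, φ = fst X (Over.mk (Spec.map (CommRingCat.ofHom (algebraMap k (MvPolynomial (Fin n) k))))) ≫ ψ := by
  have := Groth.AlgGrp1.geometricallyReduced_of_smooth_hom A
  have : GeometricallyIntegral A.hom := Groth.AbvarAlb.geometricallyIntegral_of_connected A
  exact ⟨_, Groth.AbvarAlb.factor_fst (X := X) n e i hT q hker φ⟩

end Groth.Agent.S18991
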