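import Groth.Statements.S18994
import Mathlib.RingTheory.MvPolynomial.Homogeneous
import Mathlib.LinearAlgebra.Dimension.OrzechProperty
import Mathlib.RingTheory.FiniteType
import Mathlib.LinearAlgebra.Dimension.StrongRankCondition
import Mathlib.Data.Finsupp.Weight

set_option autoImplicit false
universe u
open TernForm

namespace Groth.Agent.S18994

/-- Let R be a commutative ring, j ∈ {0, 1, 2}, q a homogeneous polynomial of degree 2 in R[X_0, X_1,
X_2] whose coefficient of X_j^2 is a unit, and n a natural number. Then the family consisting of the
monomials of degree n not divisible by X_j^2 (exponent of X_j at most 1) together with the products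
q · m, m running over the monomials of degree n − 2 (indexed by exponents m with |m| + 2 = n), is
linearly independent over R and spans exactly the homogeneous polynomials of degree n; in particular
it is a basis of that module and the two parts are disjoint. (The published lemma is stated over a
field with the coefficient nonzero, the special case of a field R here; the version over a ring with
the coefficient invertible is what its change-of-basis argument gives — ordering monomials by
decreasing exponent of X_j makes the matrix triangular with diagonal entries 1 and that coefficient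
— and is the form used to trivialise the bundle of degree-n forms modulo multiples of q over the
locus where the coefficient is invertible. The published lemma also allows an arbitrary monomial of
degree 2 in place of X_j^2; for the mixed monomial X_1X_2, the form q = X_1^2 + X_1X_2 + X_2^2 and n
= 3 give the linear relation q·X_1 − q·X_2 = X_1^3 − X_2^3 among members of the family, so the claim
fails there and is stated here for the square of a variable.) -/
theorem result
    (R : Type u) [CommRing R] (j : Fin 3) (q : MvPolynomial (Fin 3) R)
    (hq : q.IsHomogeneous 2) (hqj : IsUnit (q.coeff (Finsupp.single j 2))) (n : ℕ) :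
    LinearIndependent R (Sum.elim (fun m : {m : Fin 3 →₀ ℕ // m.degree = n ∧ m j < 2} => MvPolynomial.monomial m.1 (1 : R)) (fun m : {m : Fin 3 →₀ ℕ // m.degree + 2 = n} => q * MvPolynomial.monomial m.1 (1 : R))) ∧
      Submodule.span R (Set.range (Sum.elim (fun m : {m : Fin 3 →₀ ℕ // m.degree = n ∧ m j < 2} => MvPolynomial.monomial m.1 (1 : R)) (fun m : {m : Fin 3 →₀ ℕ // m.degree + 2 = n} => q * MvPolynomial.monomial m.1 (1 : R)))) = MvPolynomial.homogeneousSubmodule (Fin 3) R n := by
  classical
  set v := Sum.elim (fun m : {m : Fin 3 →₀ ℕ // m.degree = n ∧ m j < 2} => MvPolynomial.monomial m.1 (1 : R))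
    (fun m : {m : Fin 3 →₀ ℕ // m.degree + 2 = n} => q * MvPolynomial.monomial m.1 (1 : R)) with hv
  have hmem : ∀ i, v i ∈ MvPolynomial.homogeneousSubmodule (Fin 3) R n := by
    rintro (m | m)
    · exact MvPolynomial.isHomogeneous_monomial _ m.2.1
    · have := hq.mul (MvPolynomial.isHomogeneous_monomial (1 : R) (d := m.1) rfl)
      rw [show 2 + m.1.degree = n by have := m.2; omega] at this
      exact this
  have hmon : ∀ (e : ℕ) (m : Fin 3 →₀ ℕ), m.degree = n → m j = e →
      MvPolynomial.monomial m (1 : R) ∈ Submodule.span R (Set.range v) := by
    intro e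
    induction e using Nat.strong_induction_on with
    | _ e ih =>
      intro m hm he
      by_cases h2 : m j < 2
      · exact Submodule.subset_span ⟨Sum.inl ⟨m, hm, h2⟩, rfl⟩
      · let m' : Fin 3 →₀ ℕ := m - Finsupp.single j 2
        have hadd : Finsupp.single j 2 + m' = m := add_tsub_cancel_of_le (Finsupp.single_le_iff.2 (by omega))
        have hm' : m'.degree + 2 = n := by
          rw [← hm, ← hadd, map_add, Finsupp.degree_single]
          omega
        have hj' : e = m' j + 2 := by
          rw [← he, ← hadd]
          simp [add_comm]
        have hexp : q * MvPolynomial.monomial m' (1 : R) =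
            q.coeff (Finsupp.single j 2) • MvPolynomial.monomial m (1 : R) +
              ∑ s ∈ q.support.erase (Finsupp.single j 2), q.coeff s • MvPolynomial.monomial (s + m') (1 : R) := by
          conv_lhs => rw [MvPolynomial.as_sum q, Finset.sum_mul]
          rw [Finset.sum_congr rfl (fun s _ => show MvPolynomial.monomial s (q.coeff s) * MvPolynomial.monomial m' (1 : R) =
            q.coeff s • MvPolynomial.monomial (s + m') (1 : R) by
              rw [MvPolynomial.monomial_mul, mul_one, MvPolynomial.smul_monomial, smul_eq_mul, mul_one])]
          by_cases hs : Finsupp.single j 2 ∈ q.support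
          · rw [← Finset.add_sum_erase _ _ hs, hadd]
          · rw [MvPolynomial.notMem_support_iff.1 hs, zero_smul, zero_add, Finset.erase_eq_of_notMem hs]
        obtain ⟨u, hu⟩ := hqj
        have hsmul : q.coeff (Finsupp.single j 2) • MvPolynomial.monomial m (1 : R) ∈
            Submodule.span R (Set.range v) := by
          rw [eq_sub_of_add_eq hexp.symm]
          refine sub_mem (Submodule.subset_span ⟨Sum.inr ⟨m', hm'⟩, rfl⟩) (Submodule.sum_mem _ fun s hs => ?_)
          refine Submodule.smul_mem _ _ ?_
          obtain ⟨hne, hs⟩ := Finset.mem_erase.1 hs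
          have hd : s.degree = 2 := by
            rw [Finsupp.degree_eq_weight_one]
            exact hq (MvPolynomial.mem_support_iff.1 hs)
          have hsj : s j < 2 := by
            by_contra hc
            have hsplit : Finsupp.single j 2 + (s - Finsupp.single j 2) = s :=
              add_tsub_cancel_of_le (Finsupp.single_le_iff.2 (by omega))
            have h0 : (s - Finsupp.single j 2).degree = 0 := by
              have := congrArg Finsupp.degree hsplit
              rw [map_add, Finsupp.degree_single, hd] at this
              omega
            rw [Finsupp.degree_eq_zero_iff] at h0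
            rw [h0, add_zero] at hsplit
            exact hne hsplit.symm
          refine ih (s j + m' j) (by omega) (s + m') ?_ (by simp)
          rw [map_add, hd]
          omega
        rw [← hu] at hsmul
        simpa [smul_smul] using Submodule.smul_mem _ (↑u⁻¹ : R) hsmul
  have hspan : Submodule.span R (Set.range v) = MvPolynomial.homogeneousSubmodule (Fin 3) R n := by
    refine le_antisymm (Submodule.span_le.2 (by rintro _ ⟨i, rfl⟩; exact hmem i)) fun p hp => ?_
    rw [MvPolynomial.as_sum p]
    refine Submodule.sum_mem _ fun s hs => ?_
    have hd : s.degree = n := by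
      rw [Finsupp.degree_eq_weight_one]
      exact hp (MvPolynomial.mem_support_iff.1 hs)
    simpa [MvPolynomial.smul_monomial] using Submodule.smul_mem _ (p.coeff s) (hmon _ s hd rfl)
  refine ⟨?_, hspan⟩
  cases subsingleton_or_nontrivial R
  · haveI := Module.subsingleton R (({m : Fin 3 →₀ ℕ // m.degree = n ∧ m j < 2} ⊕ {m : Fin 3 →₀ ℕ // m.degree + 2 = n}) →₀ R)
    exact fun x y _ => Subsingleton.elim x y
  let S : Set (Fin 3 →₀ ℕ) := {d | d.degree = n}
  haveI : Finite S := (Finsupp.finite_of_degree_le n).subset (fun d hd => le_of_eq hd) |>.to_subtype
  let ε : ({m : Fin 3 →₀ ℕ // m.degree = n ∧ m j < 2} ⊕ {m : Fin 3 →₀ ℕ // m.degree + 2 = n}) ≃ S :=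
    { toFun := Sum.elim (fun m => ⟨m.1, m.2.1⟩) fun m => ⟨Finsupp.single j 2 + m.1, by
        show _ = n
        rw [map_add, Finsupp.degree_single]
        have := m.2
        omega⟩
      invFun := fun d => if h : d.1 j < 2 then Sum.inl ⟨d.1, d.2, h⟩ else Sum.inr ⟨d.1 - Finsupp.single j 2, by
        have := congrArg Finsupp.degree
          (add_tsub_cancel_of_le (Finsupp.single_le_iff.2 (show 2 ≤ d.1 j by omega)) : Finsupp.single j 2 + (d.1 - Finsupp.single j 2) = d.1)
        rw [map_add, Finsupp.degree_single] at this
        have hd : d.1.degree = n := d.2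
        omega⟩
      left_inv := by
        rintro (⟨m, h1, h2⟩ | ⟨m, h1⟩)
        · simp [h2]
        · have h3 : ¬ 2 + m j ≤ 1 := by omega
          simp [h3]
      right_inv := fun d => by
        by_cases h : d.1 j < 2
        · simp [h]
        · simp only [h, dite_false, Sum.elim_inr]
          exact Subtype.ext (add_tsub_cancel_of_le (Finsupp.single_le_iff.2 (show 2 ≤ d.1 j by omega))) }
  haveI := Fintype.ofFinite S
  haveI : Fintype ({m : Fin 3 →₀ ℕ // m.degree = n ∧ m j < 2} ⊕ {m : Fin 3 →₀ ℕ // m.degree + 2 = n}) := Fintype.ofEquiv S ε.symm
  have hH : MvPolynomial.homogeneousSubmodule (Fin 3) R n = MvPolynomial.restrictSupport R S :=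
    MvPolynomial.homogeneousSubmodule_eq_finsupp_supported _ _ n
  have hcard : Fintype.card ({m : Fin 3 →₀ ℕ // m.degree = n ∧ m j < 2} ⊕ {m : Fin 3 →₀ ℕ // m.degree + 2 = n}) = (Set.range v).finrank R := by
    rw [Set.finrank, hspan, hH, Module.finrank_eq_card_basis (MvPolynomial.basisRestrictSupport R S)]
    exact Fintype.card_congr ε
  exact linearIndependent_iff_card_eq_finrank_span.2 hcard

end Groth.Agent.S18994
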