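import Groth.Statements.S19004
import Mathlib.LinearAlgebra.Vandermonde
import Mathlib.Tactic
-- import your own Groth.Agent.* helpers here

set_option autoImplicit false
open GIT

namespace Groth.Agent.S19004

/-- For the group PGL(n) acting on the space of n × n matrices the T-quotient is (P^{n−1})^n with Chow
ring ℚ[t_1,…,t_n]/(t_1^n,…,t_n^n), the class c_top(g/t) is the product of all roots t_i − t_j (i ≠
j), and the computation in the proof shows that this product equals n!·t_1^{n−1}⋯t_n^{n−1} in that
ring. Stated here as the equivalent coefficient identity in ℤ[t_1,…,t_n]: the coefficient of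
t_1^{n−1}⋯t_n^{n−1} in the product over ordered pairs i ≠ j of (t_i − t_j) is n!. -/
theorem result (n : ℕ) :
    MvPolynomial.coeff (Finsupp.equivFunOnFinite.symm (fun _ : Fin n => n - 1))
      (∏ i : Fin n, ∏ j ∈ Finset.univ.erase i, (MvPolynomial.X i - MvPolynomial.X j : MvPolynomial (Fin n) ℤ)) = (n.factorial : ℤ) := by
  classical
  let V : Matrix (Fin n) (Fin n) (MvPolynomial (Fin n) ℤ) := Matrix.projVandermonde (fun i => MvPolynomial.X i) 1
  let W : Matrix (Fin n) (Fin n) (MvPolynomial (Fin n) ℤ) := Matrix.projVandermonde 1 (fun i => MvPolynomial.X i)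
  have hprod : (∏ i : Fin n, ∏ j ∈ Finset.univ.erase i, (MvPolynomial.X i - MvPolynomial.X j : MvPolynomial (Fin n) ℤ)) =
      V.det * W.det := by
    rw [Matrix.det_projVandermonde, Matrix.det_projVandermonde]
    simp only [Pi.one_apply, mul_one, one_mul]
    have h1 : ∀ i : Fin n, Finset.univ.erase i = Finset.Iio i ∪ Finset.Ioi i := by
      intro i; ext j; simp [lt_or_lt_iff_ne]
    have hd : ∀ i : Fin n, Disjoint (Finset.Iio i) (Finset.Ioi i) := fun i =>
      Finset.disjoint_left.mpr fun a ha hb => by simp at ha hb; omega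
    simp only [h1, Finset.prod_union (hd _), Finset.prod_mul_distrib]
    congr 1
    exact Finset.prod_comm' (fun i j => by simp)
  rw [hprod, Matrix.det_apply', Matrix.det_apply', Finset.sum_mul_sum, MvPolynomial.coeff_sum]
  have hmono : ∀ (g : Fin n → ℕ), (∏ i, (MvPolynomial.X i : MvPolynomial (Fin n) ℤ) ^ g i) =
      MvPolynomial.monomial (Finsupp.equivFunOnFinite.symm g) 1 := by
    intro g
    rw [MvPolynomial.monomial_eq, Finsupp.prod_fintype _ _ (by simp)]
    simp
  have hV : ∀ σ : Equiv.Perm (Fin n), (∏ i, V (σ i) i) =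
      MvPolynomial.monomial (Finsupp.equivFunOnFinite.symm fun a => (σ.symm a : ℕ)) 1 := by
    intro σ
    rw [← hmono, ← Equiv.prod_comp σ (fun a => (MvPolynomial.X a : MvPolynomial (Fin n) ℤ) ^ ((σ.symm a : ℕ)))]
    exact Finset.prod_congr rfl fun i _ => by simp [V, Matrix.projVandermonde, Matrix.rectVandermonde]
  have hW : ∀ σ : Equiv.Perm (Fin n), (∏ i, W (σ i) i) =
      MvPolynomial.monomial (Finsupp.equivFunOnFinite.symm fun a => ((σ.symm a).rev : ℕ)) 1 := by
    intro σ
    rw [← hmono, ← Equiv.prod_comp σ (fun a => (MvPolynomial.X a : MvPolynomial (Fin n) ℤ) ^ (((σ.symm a).rev : ℕ)))]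
    exact Finset.prod_congr rfl fun i _ => by simp [W, Matrix.projVandermonde, Matrix.rectVandermonde]
  have hterm : ∀ σ τ : Equiv.Perm (Fin n),
      MvPolynomial.coeff (Finsupp.equivFunOnFinite.symm (fun _ : Fin n => n - 1))
        ((((Equiv.Perm.sign σ : ℤ) : MvPolynomial (Fin n) ℤ) * ∏ i, V (σ i) i) *
          (((Equiv.Perm.sign τ : ℤ) : MvPolynomial (Fin n) ℤ) * ∏ i, W (τ i) i)) =
      if σ = τ then 1 else 0 := by
    intro σ τ
    have hC : ∀ z : ℤ, ((z : ℤ) : MvPolynomial (Fin n) ℤ) = MvPolynomial.C z := fun z =>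
      (map_intCast (MvPolynomial.C : ℤ →+* MvPolynomial (Fin n) ℤ) z).symm.trans (by simp)
    rw [hV, hW, hC, hC, MvPolynomial.C_mul_monomial, MvPolynomial.C_mul_monomial,
      MvPolynomial.monomial_mul, MvPolynomial.coeff_monomial]
    by_cases h : σ = τ
    · subst h
      rw [if_pos, if_pos rfl]
      · simp [← Units.val_mul, Int.units_mul_self]
      · ext a
        simp [Fin.val_rev]
        omega
    · rw [if_neg, if_neg h]
      intro he
      apply h
      apply Equiv.symm_bijective.injective
      ext a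
      have := DFunLike.congr_fun he a
      simp [Fin.val_rev] at this
      omega
  rw [Finset.sum_congr rfl fun σ _ => MvPolynomial.coeff_sum _ _ _,
    Finset.sum_congr rfl fun σ _ => Finset.sum_congr rfl fun τ _ => hterm σ τ]
  simp [Fintype.card_perm]

end Groth.Agent.S19004
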