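import Groth.Statements.S19005
import Mathlib.LinearAlgebra.QuadraticForm.Basic
import Mathlib.LinearAlgebra.TensorProduct.Prod
import Mathlib.Tactic

set_option autoImplicit false
open scoped TensorProduct
open K2Cent

namespace Groth.Agent.S19005

/-- For abelian groups X and M and ε in M with 2ε = 0 (in the source X is the character group of a split
torus and ε is the class of −1 among the units), the map x ↦ (x ⊗ x, −(x ⊗ ε)) into (X ⊗ X) × (X ⊗
M) is quadratic over ℤ, i.e. it underlies an integer quadratic map with exactly these values. -/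
theorem result (X M : Type*) [AddCommGroup X]
    [AddCommGroup M] (ε : M) (hε : 2 • ε = 0) :
    ∃ R : QuadraticMap ℤ X (TensorProduct ℤ X X × TensorProduct ℤ X M),
      ∀ x : X, R x = (x ⊗ₜ[ℤ] x, -(x ⊗ₜ[ℤ] ε)) := by
  have h2 : ∀ x : X, (2:ℤ) • (x ⊗ₜ[ℤ] ε) = 0 := fun x => by
    rw [← TensorProduct.tmul_smul, show ((2:ℤ) • ε) = 0 by exact_mod_cast hε, TensorProduct.tmul_zero]
  refine ⟨⟨fun x => (x ⊗ₜ[ℤ] x, -(x ⊗ₜ[ℤ] ε)), fun a x => ?_,
    ⟨LinearMap.mk₂ ℤ (fun x y : X => ((x ⊗ₜ[ℤ] y + y ⊗ₜ[ℤ] x, 0) : TensorProduct ℤ X X × TensorProduct ℤ X M))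
      (fun a b c => by simp [TensorProduct.add_tmul, TensorProduct.tmul_add]; abel)
      (fun c a b => by simp [← TensorProduct.smul_tmul', TensorProduct.tmul_smul])
      (fun a b c => by simp [TensorProduct.add_tmul, TensorProduct.tmul_add]; abel)
      (fun c a b => by simp [← TensorProduct.smul_tmul', TensorProduct.tmul_smul]), fun x y => ?_⟩⟩, fun x => rfl⟩
  · obtain ⟨m, hm⟩ : (2:ℤ) ∣ a * a - a := by
      have := Int.even_mul_succ_self (a - 1)
      rw [show a - 1 + 1 = a by ring] at this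
      obtain ⟨m, hm⟩ := this
      exact ⟨m, by linarith [hm]⟩
    have hε' : (a * a) • (x ⊗ₜ[ℤ] ε) = a • (x ⊗ₜ[ℤ] ε) := by
      rw [show a * a = a + m * 2 by linarith, add_smul, mul_smul, h2, smul_zero, add_zero]
    refine Prod.ext ?_ ?_
    · show (a • x) ⊗ₜ[ℤ] (a • x) = (a * a) • (x ⊗ₜ[ℤ] x)
      rw [← TensorProduct.smul_tmul', TensorProduct.tmul_smul, smul_smul]
    · show -((a • x) ⊗ₜ[ℤ] ε) = (a * a) • -(x ⊗ₜ[ℤ] ε)
      rw [smul_neg, hε', ← TensorProduct.smul_tmul']
  · refine Prod.ext ?_ ?_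
    · simp [TensorProduct.add_tmul, TensorProduct.tmul_add, LinearMap.mk₂_apply]; abel
    · simp [TensorProduct.add_tmul, LinearMap.mk₂_apply]; abel

end Groth.Agent.S19005
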