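import Groth.Statements.S19007
import Groth.Agent.RootData.QuadForm
import Groth.Agent.RootData.RatCone

set_option autoImplicit false
universe u v w x
open RootD

namespace Groth.Agent.S19007

/-- Let P be a finite reduced crystallographic root pairing over an integral domain of characteristic
zero, b a base of P (a system of simple roots) and Q a quadratic form on the coweight module with
polar form B. Then Q is invariant under all root reflections (equivalently under the Weyl group) on
the span of the coroots if and only if for all pairs of distinct simple roots α_i ≠ α_j one has
B(α_i^∨, α_j^∨) = ⟨α_j, α_i^∨⟩ Q(α_j^∨). (In the source the form is integer-valued on the lattice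
spanned by the coroots and the condition says that the bilinear form lies in the kernel of the last
map of a three-term complex built from the Bruhat cells of codimension at most two; here the form
takes values in the base ring.) -/
theorem result {ι : Type u} {R : Type v} {M : Type w} {N : Type x} [CommRing R] [IsDomain R] [CharZero R]
    [AddCommGroup M] [Module R M] [AddCommGroup N] [Module R N] (P : RootPairing ι R M N)
    [Finite ι] [P.IsCrystallographic] [P.IsReduced] (b : P.Base) (Q : QuadraticMap R N R) :
    (∀ i : ι, ∀ y ∈ Submodule.span R (Set.range P.coroot), Q (P.coreflection i y) = Q y) ↔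
      ∀ i ∈ b.support, ∀ j ∈ b.support, i ≠ j →
        QuadraticMap.polar Q (P.coroot i) (P.coroot j) = P.pairing j i * Q (P.coroot j) := by
  constructor
  · intro h i _ j hj _
    have hmem : ∀ k, P.coroot k ∈ Submodule.span R (Set.range P.coroot) :=
      fun k ↦ Submodule.subset_span (Set.mem_range_self k)
    rw [(Groth.RootData.invariant_iff Q j (hmem j)).mp (h j) _ (hmem i)]
    rfl
  · intro h
    set D := Submodule.span R (Set.range P.coroot)
    have hmem : ∀ k, P.coroot k ∈ D := fun k ↦ Submodule.subset_span (Set.mem_range_self k)
    have hsimple : ∀ j ∈ b.support, ∀ y ∈ D, Q (P.coreflection j y) = Q y := by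
      intro j hj
      rw [Groth.RootData.invariant_iff Q j (hmem j)]
      intro y hy
      have hy' : y ∈ Submodule.span R (P.coroot '' b.support) := by
        rw [b.span_coroot_support]; exact hy
      have key : Q.polarBilin.flip (P.coroot j) y = (Q (P.coroot j) • P.root' j) y := by
        refine LinearMap.eqOn_span ?_ hy'
        rintro _ ⟨i, hi, rfl⟩
        rw [LinearMap.flip_apply, QuadraticMap.polarBilin_apply_apply, LinearMap.smul_apply,
          P.root'_coroot_eq_pairing, smul_eq_mul, mul_comm]
        rcases eq_or_ne i j with rfl | hij
        · rw [QuadraticMap.polar_self, P.pairing_same, two_nsmul, two_mul]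
        · exact h i hi j hj hij
      rw [LinearMap.flip_apply, QuadraticMap.polarBilin_apply_apply, LinearMap.smul_apply, smul_eq_mul,
        mul_comm] at key
      exact key
    have hstab : ∀ j, ∀ y ∈ D, P.coreflection j y ∈ D := fun j y hy ↦ by
      rw [P.coreflection_apply]
      exact sub_mem hy (Submodule.smul_mem _ _ (hmem j))
    intro i
    induction i using b.induction_reflect with
    | h₀ k hk =>
      intro y hy
      rw [show P.coreflection (P.reflectionPerm k k) y = P.coreflection k y by
        rw [P.coreflection_apply, P.coreflection_apply]
        simp only [RootPairing.root', Groth.RootData.root_neg, Groth.RootData.coroot_neg, map_neg,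
          LinearMap.neg_apply, neg_smul, smul_neg, neg_neg]]
      exact hk y hy
    | h₁ k hk => exact hsimple k hk
    | h₂ k j hk hj =>
      intro y hy
      rw [show P.coreflection (P.reflectionPerm j k) y = P.coreflection j (P.coreflection k (P.coreflection j y)) from
        LinearEquiv.congr_fun (P.flip.reflection_reflectionPerm (i := k) (j := j)) y]
      rw [hsimple j hj _ (hstab k _ (hstab j y hy)), hk _ (hstab j y hy), hsimple j hj y hy]

end Groth.Agent.S19007
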