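import Groth.Statements.S19008
import Groth.Agent.RootData.Height
import Groth.Agent.RootData.IntDatum
import Groth.Agent.RootData.EdgeSys

set_option autoImplicit false
universe u v w x
open RootD

namespace Groth.Agent.S19008

/-- Let P be a finite reduced crystallographic root pairing over an integral domain of characteristic
zero and b a base (simple roots α_i, i in the support of b), with Cartan integers a_ij = ⟨α_i,
α_j^∨⟩. An integer-valued bilinear form C on the lattice with basis the simple coroots is an integer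
matrix C_ij = C(α_i^∨, α_j^∨), and the component of the last map of the complex at the pair (i, j),
i ≠ j, is C ↦ C(α_i^∨, α_j^∨) + C(α_j^∨, s_j(α_i^∨)) = C_ij + C_ji − a_ji C_jj; the pairs (i, j) and
(j, i) index the same component exactly when α_i and α_j are orthogonal. This map is surjective: for
every family of integers d_ij (i ≠ j in the support) with d_ij = d_ji whenever a_ij = 0 there is an
integer matrix C with C_ij + C_ji − a_ji C_jj = d_ij for all i ≠ j in the support. -/
theorem result {ι : Type u} {R : Type v} {M : Type w} {N : Type x} [CommRing R] [IsDomain R] [CharZero R]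
    [AddCommGroup M] [Module R M] [AddCommGroup N] [Module R N] (P : RootPairing ι R M N)
    [Finite ι] [P.IsCrystallographic] [P.IsReduced] (b : P.Base) (d : ι → ι → ℤ)
    (hd : ∀ i ∈ b.support, ∀ j ∈ b.support, i ≠ j → P.pairingIn ℤ i j = 0 → d i j = d j i) :
    ∃ C : ι → ι → ℤ, ∀ i ∈ b.support, ∀ j ∈ b.support, i ≠ j →
      C i j + C j i - P.pairingIn ℤ j i * C j j = d i j := by
  classical
  have : Fintype ι := Fintype.ofFinite ι
  have hΔ := Groth.RootData.Base.isSimpleSys b
  have hpos := Groth.RootData.IsSimpleSys.isPosSys hΔ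
  let S : Finset ι := Finset.univ.filter (· ∈ RootD.posOf P (b.support : Set ι))
  have hS : RootD.IsPosSys P (S : Set ι) := by
    rwa [show (S : Set ι) = RootD.posOf P (b.support : Set ι) by ext; simp [S]]
  let r : ι → (ι → ℤ) := fun i k ↦ Groth.RootData.pI P i k
  have hr : Function.Injective r := fun i j h ↦ P.root.injective (sub_eq_zero.mp (by
    refine Groth.RootData.eq_zero_of_forall_coroot' (P := P)
      (sub_mem (Submodule.subset_span (Set.mem_range_self i)) (Submodule.subset_span (Set.mem_range_self j)))
      fun k ↦ ?_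
    rw [map_sub, Groth.RootData.coroot'_root, Groth.RootData.coroot'_root,
      show Groth.RootData.pI P i k = Groth.RootData.pI P j k from congrFun h k, sub_self]))
  let h : (ι → ℤ) →+ ℤ := AddMonoidHom.mk' (fun y ↦ ∑ k ∈ S, y k) fun _ _ ↦ Finset.sum_add_distrib
  have hT : Groth.RootData.EdgeSys.Adm h (b.support.image r) := by
    refine ⟨?_, ?_, ?_⟩
    · intro v hv
      obtain ⟨i, hi, rfl⟩ := Finset.mem_image.mp hv
      exact Groth.RootData.sum_pI_pos_of_mem hS
        (Finset.mem_filter.mpr ⟨Finset.mem_univ _, Groth.RootData.subset_posOf _ hi⟩)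
    · intro v hv w hw
      obtain ⟨i, -, rfl⟩ := Finset.mem_image.mp hv
      obtain ⟨j, -, rfl⟩ := Finset.mem_image.mp hw
      exact Dvd.intro_left _ (Groth.RootData.two_mul_formInt (P := P) i j).symm
    · intro v hv w hw hne
      obtain ⟨i, hi, rfl⟩ := Finset.mem_image.mp hv
      obtain ⟨j, hj, rfl⟩ := Finset.mem_image.mp hw
      exact Groth.RootData.formInt_nonpos (b.pairingIn_le_zero_of_ne (fun e ↦ hne (e ▸ rfl)) hi hj)
  have ha : ∀ i j, Groth.RootData.EdgeSys.a (r i) (r j) = P.pairingIn ℤ i j := fun i j ↦ by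
    have h2 := Groth.RootData.two_mul_formInt (P := P) i j
    change 2 * (Groth.RootData.formInt P i j) / Groth.RootData.formInt P j j = _
    rw [h2, Int.mul_ediv_cancel _ (Groth.RootData.formInt_self_pos (P := P) j).ne']
  cases isEmpty_or_nonempty ι with
  | inl _ => exact ⟨fun _ _ ↦ 0, fun i ↦ isEmptyElim i⟩
  | inr _ => ?_
  let g := Function.invFun r
  have hg : ∀ i, g (r i) = i := Function.leftInverse_invFun hr
  obtain ⟨x, hx⟩ := Groth.RootData.EdgeSys.solve hT (fun p q ↦ d (g p) (g q) - d (g q) (g p))
    (fun _ _ _ _ _ ↦ by ring) (fun v hv w hw hne h0 ↦ by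
      obtain ⟨i, hi, rfl⟩ := Finset.mem_image.mp hv
      obtain ⟨j, hj, rfl⟩ := Finset.mem_image.mp hw
      have hij : P.pairingIn ℤ i j = 0 := by rw [← ha, Groth.RootData.EdgeSys.a_eq_zero h0]
      simp only [hg, hd i hi j hj (fun e ↦ hne (e ▸ rfl)) hij, sub_self])
  let n := Fintype.equivFin ι
  refine ⟨fun i j ↦ if i = j then x (r i) else if n i < n j then d i j + P.pairingIn ℤ j i * x (r j) else 0,
    fun i hi j hj hij ↦ ?_⟩
  have key := hx (r i) (Finset.mem_image_of_mem r hi) (r j) (Finset.mem_image_of_mem r hj) (fun e ↦ hij (hr e))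
  simp only [hg, ha] at key
  simp only [if_neg hij, if_neg (Ne.symm hij), if_pos]
  rcases lt_or_gt_of_ne (fun e ↦ hij (n.injective e) : n i ≠ n j) with hn | hn
  · rw [if_pos hn, if_neg hn.asymm]; ring
  · rw [if_pos hn, if_neg hn.asymm]; linear_combination key

end Groth.Agent.S19008
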