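import Groth.Statements.S19010
import Groth.Agent.RootData.QuadForm
import Groth.Agent.RootData.RatCone

set_option autoImplicit false
universe u v w x
open RootD

namespace Groth.Agent.S19010

/-- Let P be a root pairing over an integral domain R of characteristic zero (roots α acting on the
coweight module N through reflections y ↦ y − ⟨α, y⟩ α^∨), D ⊆ N a submodule containing every coroot
and such that every element of D has a positive integer multiple in the span of the coroots (the
derived part), and Y₀ a complement of D in N. Let Q' be a quadratic form on N invariant under all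
root reflections. Then restriction to Y₀ is a bijection from the set of quadratic forms on N that
are invariant under all root reflections and agree with Q' on D onto the set of all quadratic forms
on Y₀. (In the source R = ℤ and N = Y₀ ⊕ Y_der is the cocharacter lattice of a split reductive
group; forms take values in R here.) -/
theorem result {ι : Type u} {R : Type v} {M : Type w} {N : Type x} [CommRing R] [IsDomain R] [CharZero R]
    [AddCommGroup M] [Module R M] [AddCommGroup N] [Module R N] (P : RootPairing ι R M N)
    (D Y₀ : Submodule R N) (hD : ∀ i : ι, P.coroot i ∈ D)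
    (hDsat : ∀ y ∈ D, ∃ n : ℕ, 0 < n ∧ n • y ∈ Submodule.span R (Set.range P.coroot))
    (hc : IsCompl Y₀ D)
    (Q' : QuadraticMap R N R) (hQ' : ∀ (i : ι) (y : N), Q' (P.coreflection i y) = Q' y) :
    Set.BijOn (fun Q : QuadraticMap R N R => Q.comp Y₀.subtype)
      {Q | (∀ (i : ι) (y : N), Q (P.coreflection i y) = Q y) ∧ ∀ y ∈ D, Q y = Q' y} Set.univ := by
  refine ⟨fun Q _ ↦ trivial, fun Q₁ h₁ Q₂ h₂ h ↦ ?_, fun q _ ↦ ?_⟩
  · ext y
    obtain ⟨a, d, rfl⟩ := Groth.RootData.exists_decomp hc y
    have ha : Q₁ a = Q₂ a := QuadraticMap.congr_fun h a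
    have hd : Q₁ d = Q₂ d := (h₁.2 d d.2).trans (h₂.2 d d.2).symm
    have hpol : QuadraticMap.polar Q₁ (a : N) d = QuadraticMap.polar Q₂ (a : N) d := by
      have hspan : ∀ x ∈ Submodule.span R (Set.range P.coroot),
          Q₁.polarBilin (a : N) x = Q₂.polarBilin (a : N) x := by
        intro x hx
        refine LinearMap.eqOn_span ?_ hx
        rintro _ ⟨i, rfl⟩
        rw [QuadraticMap.polarBilin_apply_apply, QuadraticMap.polarBilin_apply_apply,
          (Groth.RootData.invariant_iff_univ Q₁ i).mp (h₁.1 i) a,
          (Groth.RootData.invariant_iff_univ Q₂ i).mp (h₂.1 i) a, h₁.2 _ (hD i), h₂.2 _ (hD i)]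
      obtain ⟨n, hn, hnd⟩ := hDsat d d.2
      have h1 := hspan _ hnd
      rw [map_nsmul, map_nsmul, nsmul_eq_mul, nsmul_eq_mul] at h1
      exact mul_left_cancel₀ (Nat.cast_ne_zero.mpr hn.ne') h1
    rw [QuadraticMap.polar] at hpol
    simp only [QuadraticMap.polar] at hpol
    linear_combination hpol + ha + hd
  · refine ⟨Groth.RootData.glue hc q Q'.polarBilin Q',
      ⟨fun i y ↦ Groth.RootData.glue_invariant hc hD q Q'.polarBilin Q' (fun i y _ ↦ hQ' i y) (fun y₀ _ i ↦ ?_) i y,
        Groth.RootData.glue_eq_on hc q _ _⟩, ?_⟩
    · rw [QuadraticMap.polarBilin_apply_apply]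
      exact (Groth.RootData.invariant_iff_univ Q' i).mp (hQ' i) y₀
    · ext a
      have := Groth.RootData.glue_apply_add hc q Q'.polarBilin Q' a 0
      simpa using this

end Groth.Agent.S19010
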