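import Groth.Statements.S19011
import Groth.Agent.RootData.QuadForm
import Groth.Agent.RootData.RatCone

set_option autoImplicit false
universe u v w x
open RootD

namespace Groth.Agent.S19011

/-- For a finite reduced crystallographic root pairing over an integral domain of characteristic zero,
the additive group generated by the coroots admits the presentation with one generator [β] for each
root β and the relations [s_α(β)] = [β] − ⟨α, β^∨⟩ [α] for all roots α, β, where ⟨α, β^∨⟩ is the
Cartan integer. Concretely: the kernel of the ℤ-linear map from the free abelian group on the index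
type of the roots to the coweight module sending the generator of index β to the coroot β^∨ is the
subgroup generated by the elements [s_α(β)] − [β] + ⟨α, β^∨⟩ [α]. (The source states this for the
cocharacter lattice of a split semi-simple simply connected group, which is the group generated by
the coroots.) -/
theorem result {ι : Type u} {R : Type v} {M : Type w} {N : Type x} [CommRing R] [IsDomain R] [CharZero R]
    [AddCommGroup M] [Module R M] [AddCommGroup N] [Module R N] (P : RootPairing ι R M N)
    [Finite ι] [P.IsCrystallographic] [P.IsReduced] :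
    LinearMap.ker (Finsupp.linearCombination ℤ (fun i : ι => (P.coroot i : N))) =
      Submodule.span ℤ (Set.range fun p : ι × ι =>
        Finsupp.single (P.reflectionPerm p.1 p.2) (1 : ℤ) - Finsupp.single p.2 1 +
          P.pairingIn ℤ p.1 p.2 • Finsupp.single p.1 1) := by
  classical
  obtain ⟨S, hS⟩ := Groth.RootData.exists_isPosSys P
  set Δ := Groth.RootData.simpleOf P S
  have hΔ := Groth.RootData.isSimpleSys_simpleOf hS
  have : Module.IsReflexive R N := .of_isPerfPair P.flip.toLinearMap
  have : Module.IsReflexive R M := .of_isPerfPair P.toLinearMap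
  have hliΔ : LinearIndepOn ℤ P.coroot Δ := by
    refine (Groth.RootData.linIndepOn_int (P := P.flip)
      (Groth.RootData.isSimpleSys_indCoroots hΔ).linInd).mono fun i hi ↦ ?_
    exact ⟨i, hi, .inl ⟨rfl, Groth.RootData.isIndiv_of_isReduced (P := P.flip) i⟩⟩
  set Rel := Submodule.span ℤ (Set.range fun p : ι × ι =>
        Finsupp.single (P.reflectionPerm p.1 p.2) (1 : ℤ) - Finsupp.single p.2 1 +
          P.pairingIn ℤ p.1 p.2 • Finsupp.single p.1 1)
  have hrel : ∀ a k : ι, Finsupp.single (P.reflectionPerm a k) (1 : ℤ) - Finsupp.single k 1 +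
      P.pairingIn ℤ a k • Finsupp.single a 1 ∈ Rel := fun a k ↦ Submodule.subset_span ⟨(a, k), rfl⟩
  refine le_antisymm (fun x hx ↦ ?_) (Submodule.span_le.mpr ?_)
  · let V : Submodule ℤ (ι →₀ ℤ) := Submodule.span ℤ ((fun i ↦ Finsupp.single i (1 : ℤ)) '' Δ) ⊔ Rel
    have hstep : ∀ g ∈ Subgroup.closure (Groth.RootData.refl P '' Δ), ∀ k, Finsupp.single k (1 : ℤ) ∈ V →
        Finsupp.single (g • k) (1 : ℤ) ∈ V := by
      have hone : ∀ a ∈ Δ, ∀ k, Finsupp.single k (1 : ℤ) ∈ V → Finsupp.single (P.reflectionPerm a k) (1 : ℤ) ∈ V := by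
        intro a ha k hk
        have h1 := Submodule.mem_sup_right (S := Submodule.span ℤ ((fun i ↦ Finsupp.single i (1 : ℤ)) '' Δ)) (hrel a k)
        have h2 : P.pairingIn ℤ a k • Finsupp.single a (1 : ℤ) ∈ V :=
          Submodule.smul_mem _ _ (Submodule.mem_sup_left (Submodule.subset_span (Set.mem_image_of_mem _ ha)))
        have := sub_mem (add_mem h1 hk) h2
        convert this using 1
        abel
      intro g hg
      induction hg using Subgroup.closure_induction'' with
      | one => intro k hk; rwa [one_smul]
      | mem z hz => obtain ⟨a, ha, rfl⟩ := hz; exact hone a ha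
      | inv_mem z hz => obtain ⟨a, ha, rfl⟩ := hz; rw [Groth.RootData.refl_inv]; exact hone a ha
      | mul y z _ _ hy hz => intro k hk; rw [mul_smul]; exact hy _ (hz k hk)
    have hall : ∀ k, Finsupp.single k (1 : ℤ) ∈ V := fun k ↦ by
      obtain ⟨g, hg, i, hi, rfl⟩ := Groth.RootData.exists_weyl_smul_simple hΔ (Groth.RootData.isIndiv_of_isReduced k)
      exact hstep g hg i (Submodule.mem_sup_left (Submodule.subset_span (Set.mem_image_of_mem _ hi)))
    have hxV : x ∈ V := by
      rw [← Finsupp.sum_single x]
      refine sum_mem fun k _ ↦ ?_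
      rw [← Finsupp.smul_single_one]
      exact Submodule.smul_mem _ _ (hall k)
    obtain ⟨c, hc, r, hr, rfl⟩ := Submodule.mem_sup.mp hxV
    have hr0 : Finsupp.linearCombination ℤ (fun i : ι => (P.coroot i : N)) r = 0 := by
      refine (LinearMap.mem_ker (f := Finsupp.linearCombination ℤ (fun i : ι => (P.coroot i : N)))).mp ?_
      refine Submodule.span_le.mpr ?_ hr
      rintro _ ⟨⟨a, k⟩, rfl⟩
      simp only [SetLike.mem_coe, LinearMap.mem_ker, map_add, map_sub, map_smul, Finsupp.linearCombination_single, one_smul]
      rw [← P.reflectionPerm_coroot, P.root_coroot_eq_pairing, ← P.algebraMap_pairingIn ℤ, algebraMap_smul]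
      abel
    rw [LinearMap.mem_ker, map_add, hr0, add_zero] at hx
    have hc' : c ∈ Finsupp.supported ℤ ℤ Δ := by
      rw [Finsupp.supported_eq_span_single]
      exact hc
    rw [linearIndepOn_iff.mp hliΔ c hc' hx, zero_add]
    exact hr
  · rintro _ ⟨⟨a, k⟩, rfl⟩
    simp only [SetLike.mem_coe, LinearMap.mem_ker, map_add, map_sub, map_smul, Finsupp.linearCombination_single, one_smul]
    rw [← P.reflectionPerm_coroot, P.root_coroot_eq_pairing, ← P.algebraMap_pairingIn ℤ, algebraMap_smul]
    abel

end Groth.Agent.S19011
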