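import Groth.Statements.S19012
import Groth.Agent.RootData.QuadForm
import Groth.Agent.RootData.RatCone

set_option autoImplicit false
universe u v w x
open RootD

namespace Groth.Agent.S19012

/-- Let P be a finite reduced crystallographic root pairing over a field of characteristic zero which is
irreducible, and b a base. A quadratic form on the coweight module that is invariant under all root
reflections and vanishes on some simple coroot is zero; in other words an invariant form is
determined by its value on a single simple coroot. (The source proves, component by component of the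
Dynkin diagram, that an invariant integer-valued form on the coroot lattice with prescribed value on
the first simple coroot of each component is unique; here the system is irreducible, the coroots
span the coweight module, and forms take values in the base field.) -/
theorem result {ι : Type u} {K : Type v} {M : Type w} {N : Type x} [Field K] [CharZero K]
    [AddCommGroup M] [Module K M] [AddCommGroup N] [Module K N] (P : RootPairing ι K M N)
    [Finite ι] [P.IsCrystallographic] [P.IsReduced] [P.IsIrreducible] (b : P.Base)
    (Q : QuadraticMap K N K) (hQ : ∀ (i : ι) (y : N), Q (P.coreflection i y) = Q y)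
    (i₀ : ι) (hi₀ : i₀ ∈ b.support) (h0 : Q (P.coroot i₀) = 0) : Q = 0 := by
  have : Nonempty ι := ⟨i₀⟩
  have hperm : ∀ a k, Q (P.coroot (P.reflectionPerm a k)) = Q (P.coroot k) := fun a k ↦ by
    rw [P.coroot_reflectionPerm, hQ]
  have hZ : ∀ k, Q (P.coroot k) = 0 := by
    by_contra! hex
    obtain ⟨k, hk⟩ := hex
    let q : Submodule K M := Submodule.span K (P.root '' {a | Q (P.coroot a) = 0})
    have hq : q = ⊤ := by
      refine RootPairing.IsIrreducible.eq_top_of_invtSubmodule_reflection (P := P) q (fun l ↦ ?_) ?_
      · rw [Module.End.mem_invtSubmodule]
        refine Submodule.span_le.mpr ?_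
        rintro _ ⟨a, ha, rfl⟩
        refine Submodule.subset_span ⟨P.reflectionPerm l a, ?_, P.root_reflectionPerm l a⟩
        exact (hperm l a).trans ha
      · exact fun e ↦ P.ne_zero i₀ ((Submodule.mem_bot K).mp (e ▸ Submodule.subset_span ⟨i₀, h0, rfl⟩))
    have hkill : P.coroot' k (P.root k) = 0 := by
      refine Submodule.span_induction (p := fun x _ ↦ P.coroot' k x = 0) ?_ (map_zero _)
        (fun x y _ _ hx hy ↦ by rw [map_add, hx, hy, add_zero])
        (fun t x _ hx ↦ by rw [map_smul, hx, smul_zero]) (hq ▸ Submodule.mem_top : P.root k ∈ q)
      rintro _ ⟨a, ha, rfl⟩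
      -- the polar form at the two coroots, computed both ways
      have h1 := (Groth.RootData.invariant_iff_univ Q k).mp (hQ k) (P.coroot a)
      have h2 := (Groth.RootData.invariant_iff_univ Q a).mp (hQ a) (P.coroot k)
      rw [QuadraticMap.polar_comm, h1, ha, mul_zero] at h2
      have h3 := (mul_eq_zero.mp h2).resolve_right hk
      rw [P.root_coroot'_eq_pairing]
      rw [P.root'_coroot_eq_pairing] at h3
      exact P.pairing_eq_zero_iff'.mp h3
    rw [P.root_coroot'_eq_pairing, P.pairing_same] at hkill
    exact two_ne_zero hkill
  ext y
  have hB : Q.polarBilin = 0 := by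
    refine LinearMap.ext_on (RootPairing.IsRootSystem.span_coroot_eq_top (P := P)) ?_
    rintro _ ⟨a, rfl⟩
    refine LinearMap.ext_on (RootPairing.IsRootSystem.span_coroot_eq_top (P := P)) ?_
    rintro _ ⟨k, rfl⟩
    rw [QuadraticMap.polarBilin_apply_apply, (Groth.RootData.invariant_iff_univ Q k).mp (hQ k), hZ, mul_zero]
    simp
  have h2 := congrArg (fun B ↦ B y y) hB
  simp only [QuadraticMap.polarBilin_apply_apply, QuadraticMap.polar_self, LinearMap.zero_apply, two_nsmul] at h2
  simpa using (add_self_eq_zero (a := Q y)).mp h2

end Groth.Agent.S19012
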