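import Groth.Statements.S19013
import Groth.Agent.MilnorKLambda.Struct

set_option autoImplicit false
universe u v
open MilnorK Groth.MilnorKLambda

namespace Groth.Agent.S19013

/-- Let A ⊆ B be discrete valuation rings, the inclusion being a local homomorphism, with fraction
fields E ⊆ F compatibly, with the induced homomorphism of residue fields κ(A) → κ(B), and with
ramification index e, the natural number such that the maximal ideal of A generates the e-th power
of the maximal ideal of B. Let ∂_A : K_{n+1}(E) → K_n(κ(A)) and ∂_B : K_{n+1}(F) → K_n(κ(B)) be the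
residue maps (tame symbols) on Milnor K-groups. Then for every x in K_{n+1}(E) one has ∂_B(x_F) = e
· (∂_A x)_{κ(B)}, where the subscripts denote the change-of-fields maps along E → F and κ(A) → κ(B).
(The published statement concerns discrete valuations of geometric type on fields finitely generated
over a base field; it is stated here for an arbitrary pair of discrete valuation rings, which is all
the printed computation uses.) -/
theorem result
    (A B : Type u) [CommRing A] [IsDomain A] [IsDiscreteValuationRing A]
    [CommRing B] [IsDomain B] [IsDiscreteValuationRing B] [Algebra A B] [IsLocalHom (algebraMap A B)]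
    (E F : Type v) [Field E] [Field F] [Algebra A E] [IsFractionRing A E] [Algebra B F] [IsFractionRing B F]
    [Algebra E F] [Algebra A F] [IsScalarTower A E F] [IsScalarTower A B F]
    (e : ℕ) (he : Ideal.map (algebraMap A B) (IsLocalRing.maximalIdeal A) = IsLocalRing.maximalIdeal B ^ e)
    (n : ℕ) (dA : MilK.K E (n + 1) →+ MilK.K (IsLocalRing.ResidueField A) n) (hdA : MilK.IsTameSymbol A E n dA)
    (dB : MilK.K F (n + 1) →+ MilK.K (IsLocalRing.ResidueField B) n) (hdB : MilK.IsTameSymbol B F n dB)
    (x : MilK.K E (n + 1)) :
    dB (MilK.map (algebraMap E F) (n + 1) x) =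
      e • MilK.map (IsLocalRing.ResidueField.map (algebraMap A B)) n (dA x) := by
  obtain ⟨ϖ, hϖ⟩ := IsDiscreteValuationRing.exists_irreducible B
  obtain rfl := IsTameSymbol.eq_dH ϖ hϖ hdB
  refine DFunLike.congr_fun (hom_ext_uniformizer (A := A)
    (f := (dH F ϖ hϖ n).comp (MilK.map (algebraMap E F) (n + 1)))
    (g := e • (MilK.map (IsLocalRing.ResidueField.map (algebraMap A B)) n).comp dA)
    fun ϖ' hϖ' u => ?_) x
  have eu : (fun i => Units.map (algebraMap E F : E →* F) (MilK.unitToFrac A E (u i))) =
      fun i => MilK.unitToFrac B F (Units.map (algebraMap A B : A →* B) (u i)) := funext fun i =>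
    Units.ext ((IsScalarTower.algebraMap_apply A E F _).symm.trans (IsScalarTower.algebraMap_apply A B F _))
  obtain ⟨w, hw⟩ : ∃ w : Bˣ, algebraMap A B ϖ' = ϖ ^ e * w := by
    rw [hϖ'.maximalIdeal_eq, hϖ.maximalIdeal_eq, Ideal.map_span, Set.image_singleton,
      Ideal.span_singleton_pow, Ideal.span_singleton_eq_span_singleton] at he
    obtain ⟨w, hw⟩ := he.symm
    exact ⟨w, hw.symm⟩
  have ev : Units.map (algebraMap E F : E →* F) (MilK.unitFrac A E ϖ' hϖ'.ne_zero) =
      MilK.unitFrac B F ϖ hϖ.ne_zero ^ (e : ℤ) * MilK.unitToFrac B F w := Units.ext (by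
    simp [unitToFrac_coe, ← IsScalarTower.algebraMap_apply, IsScalarTower.algebraMap_apply A B F, hw])
  simp only [AddMonoidHom.comp_apply, AddMonoidHom.smul_apply, ← cns_symbol, map_cns, MilK.map_symbol, eu, ev]
  rw [dH_cns_unitSub ϖ hϖ _ (symbol_mem_unitSub _), vv_compose, sH_unit, natCast_zsmul]
  simp only [cns_symbol]
  rw [hdA ϖ' hϖ' u, MilK.map_symbol]
  congr 2

end Groth.Agent.S19013
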