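import Groth.Statements.S19018
import Mathlib.Tactic

set_option autoImplicit false
universe u
open TensorProduct
open SymTen

open scoped Pointwise

namespace Groth.Agent.S19018

/-- Suppose k is a field in which 2 ≠ 0 and R is a commutative k-algebra. Write I for the ideal of the
diagonal, i.e. the kernel of multiplication R ⊗_k R → R, and write S for the subalgebra of R ⊗_k R
consisting of elements invariant under interchanging the two tensor factors. Then, viewed as ideals
of S, the swap-invariant elements of I^4 form precisely the square of the ideal of swap-invariant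
elements of I^2. (The source is stated over the complex numbers; the proof needs only that 2 is
invertible.) -/
theorem result
    (k R : Type u) [Field k] [NeZero (2 : k)] [CommRing R] [Algebra k R] :
    Ideal.comap
        (AlgHom.equalizer ((Algebra.TensorProduct.comm k R R : R ⊗[k] R ≃ₐ[k] R ⊗[k] R) : R ⊗[k] R →ₐ[k] R ⊗[k] R)
          (AlgHom.id k (R ⊗[k] R))).val
        (KaehlerDifferential.ideal k R ^ 4) =
      (Ideal.comap
        (AlgHom.equalizer ((Algebra.TensorProduct.comm k R R : R ⊗[k] R ≃ₐ[k] R ⊗[k] R) : R ⊗[k] R →ₐ[k] R ⊗[k] R)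
          (AlgHom.id k (R ⊗[k] R))).val
        (KaehlerDifferential.ideal k R ^ 2)) ^ 2 := by
  classical
  set σ : R ⊗[k] R →ₐ[k] R ⊗[k] R :=
    ((Algebra.TensorProduct.comm k R R : R ⊗[k] R ≃ₐ[k] R ⊗[k] R) : R ⊗[k] R →ₐ[k] R ⊗[k] R) with hσ
  set I := KaehlerDifferential.ideal k R
  set S := AlgHom.equalizer σ (AlgHom.id k (R ⊗[k] R)) with hS
  have hmem : ∀ z, z ∈ S ↔ σ z = z := fun z => Iff.rfl
  apply le_antisymm
  swap
  · rw [pow_two (Ideal.comap _ _), show (4 : ℕ) = 2 + 2 from rfl, pow_add, Ideal.mul_le]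
    intro a ha b hb
    rw [Ideal.mem_comap, map_mul]
    exact Ideal.mul_mem_mul ha hb
  let d : R → R ⊗[k] R := fun r => (1 : R) ⊗ₜ[k] r - r ⊗ₜ[k] (1 : R)
  have hσd : ∀ r, σ (d r) = -d r := fun r => by simp [σ, d]
  have hI : I = Ideal.span (Set.range d) := (KaehlerDifferential.span_range_eq_ideal k R).symm
  have hd : ∀ r, d r ∈ I := fun r => hI ▸ Ideal.subset_span ⟨r, rfl⟩
  have hI4 : I ^ 4 = Ideal.span ((Set.range d * Set.range d) * (Set.range d * Set.range d)) := by
    rw [show (4 : ℕ) = 2 + 2 from rfl, pow_add, pow_two, hI, Ideal.span_mul_span', Ideal.span_mul_span']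
  have hσσ : ∀ z, σ (σ z) = z := by
    intro z
    induction z with
    | zero => simp
    | tmul a b => simp [σ]
    | add a b ha hb => rw [map_add, map_add, ha, hb]
  have key : ∀ x ∈ I ^ 4, ∀ r : R ⊗[k] R,
      ∃ y ∈ (Ideal.comap S.val (I ^ 2)) ^ 2, (y : R ⊗[k] R) = r * x + σ (r * x) := by
    intro x hx
    rw [hI4] at hx
    induction hx using Submodule.span_induction with
    | zero => exact fun r => ⟨0, zero_mem _, by simp⟩
    | add a b _ _ ha hb =>
      intro r
      obtain ⟨y, hy, hy'⟩ := ha r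
      obtain ⟨z, hz, hz'⟩ := hb r
      exact ⟨y + z, add_mem hy hz, by rw [AddMemClass.coe_add, hy', hz', mul_add, map_add]; abel⟩
    | mem g hg =>
      obtain ⟨_, ⟨_, ⟨a, rfl⟩, _, ⟨b, rfl⟩, rfl⟩, _, ⟨_, ⟨c, rfl⟩, _, ⟨e, rfl⟩, rfl⟩, rfl⟩ := hg
      intro r
      have h0 : r + σ r ∈ S := (hmem _).mpr (by rw [map_add, hσσ, add_comm])
      have h1 : d a * d b ∈ S := (hmem _).mpr (by rw [map_mul, hσd, hσd, neg_mul_neg])
      have h2 : d c * d e ∈ S := (hmem _).mpr (by rw [map_mul, hσd, hσd, neg_mul_neg])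
      refine ⟨⟨_, h0⟩ * (⟨_, h1⟩ * ⟨_, h2⟩), Ideal.mul_mem_left _ _ ?_, ?_⟩
      · rw [pow_two]
        exact Ideal.mul_mem_mul (show d a * d b ∈ I ^ 2 from pow_two I ▸ Ideal.mul_mem_mul (hd a) (hd b))
          (show d c * d e ∈ I ^ 2 from pow_two I ▸ Ideal.mul_mem_mul (hd c) (hd e))
      · simp only [MulMemClass.coe_mul, map_mul, hσd]
        ring
    | smul r a _ ha =>
      intro r'
      obtain ⟨y, hy, hy'⟩ := ha (r' * r)
      exact ⟨y, hy, by rw [hy', smul_eq_mul, mul_assoc]⟩
  intro x hx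
  obtain ⟨y, hy, hy'⟩ := key x.1 hx 1
  rw [one_mul, show σ x.1 = x.1 from x.2] at hy'
  have hxy : x = algebraMap k S (2 : k)⁻¹ * y := by
    apply Subtype.ext
    rw [MulMemClass.coe_mul, hy', Subalgebra.coe_algebraMap, ← two_mul, ← map_ofNat (algebraMap k (R ⊗[k] R)) 2,
      ← mul_assoc, ← map_mul, inv_mul_cancel₀ two_ne_zero, map_one, one_mul]
  rw [hxy]
  exact Ideal.mul_mem_left _ _ hy

end Groth.Agent.S19018
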