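import Groth.Statements.S19019
import Groth.Agent.Misc15.Toeplitz

set_option autoImplicit false
open scoped ComplexOrder
open Toeplitz

namespace Groth.Agent.S19019

/-- Let A be an m × m complex Hermitian Toeplitz matrix, with entries A i j = t (j - i) constant along
diagonals, and let f(y) = Σ_{-m < k < m} t k · exp(i k y) be the trigonometric polynomial attached
to it. If f has positive real part at every real y outside a countable set, then A is positive
definite (hence nondegenerate). (The source also states the mirror case: f negative off a countable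
set gives A negative definite, which is this statement for -A.) -/
theorem result
    (m : ℕ) (t : ℤ → ℂ) (A : Matrix (Fin m) (Fin m) ℂ)
    (hA : ∀ i j : Fin m, A i j = t ((j : ℤ) - (i : ℤ))) (hH : A.IsHermitian)
    (hpos : Set.Countable {y : ℝ | ¬ 0 < (∑ k ∈ Finset.Ioo (-(m : ℤ)) (m : ℤ),
        t k * Complex.exp (Complex.I * (k : ℂ) * (y : ℂ))).re}) :
    A.PosDef := by
  let t' : ℤ → ℂ := fun k => if k ∈ Finset.Ioo (-(m : ℤ)) (m : ℤ) then t k else 0
  have hsymb : ∀ y : ℝ, Groth.Misc15.symb t' (Finset.Ioo (-(m : ℤ)) (m : ℤ)) y =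
      ∑ k ∈ Finset.Ioo (-(m : ℤ)) (m : ℤ), t k * Complex.exp (Complex.I * (k : ℂ) * (y : ℂ)) :=
    fun y => Finset.sum_congr rfl fun k hk => by simp only [t', if_pos hk]
  refine Matrix.PosDef.of_dotProduct_mulVec_pos hH fun x hx => ?_
  have h := Groth.Misc15.quad_re_pos m t' (Finset.Ioo (-(m : ℤ)) (m : ℤ))
    (fun k hk => if_neg hk) (by simp only [hsymb]; exact hpos) x hx
  have e : star x ⬝ᵥ A.mulVec x =
      ∑ i : Fin m, ∑ j : Fin m, (starRingEnd ℂ) (x i) * t' ((j : ℤ) - (i : ℤ)) * x j := by
    simp only [dotProduct, Matrix.mulVec, Finset.mul_sum, Pi.star_apply]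
    refine Finset.sum_congr rfl fun i _ => Finset.sum_congr rfl fun j _ => ?_
    rw [hA, show t' ((j : ℤ) - (i : ℤ)) = t ((j : ℤ) - (i : ℤ)) from if_pos (Finset.mem_Ioo.mpr ⟨by omega, by omega⟩)]
    simp [mul_assoc]
  refine Complex.lt_def.mpr ⟨?_, (hH.im_star_dotProduct_mulVec_self x).symm⟩
  rw [e]; exact h

end Groth.Agent.S19019
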