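import Groth.Statements.S19020
import Groth.Agent.Misc15.Toeplitz

set_option autoImplicit false
open Toeplitz

namespace Groth.Agent.S19020

/-- For natural numbers n and m, the m × m real Toeplitz matrix with (i, j) entry (-1)^(i+j) · C(2n, n +
|i - j|), i.e. with t_k = (-1)^k C(2n, n + k) on the k-th diagonal for |k| ≤ n and zero beyond, is
positive definite; in particular it is nondegenerate, which is the printed assertion (positive
definiteness is what the printed proof establishes; m = 0 is the empty matrix). -/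
theorem result (n m : ℕ) :
    (Matrix.of fun i j : Fin m =>
        (-1 : ℝ) ^ ((i : ℕ) + (j : ℕ)) * (Nat.choose (2 * n) (n + Nat.dist i j) : ℝ)).PosDef := by
  refine Matrix.PosDef.of_dotProduct_mulVec_pos ?_ fun x hx => ?_
  · ext i j; simp [add_comm (i : ℕ), Nat.dist_comm]
  have hf : ∀ y : ℝ, (Groth.Misc15.symb (Groth.Misc15.sbin (2 * n) n) (Groth.Misc15.binSupp (2 * n) n) y).re =
      (4 : ℝ) ^ n * (Real.sin (y / 2) ^ 2) ^ n := by
    intro y
    rw [Groth.Misc15.symb_sbin, show ((2 * n : ℕ) : ℤ) - 2 * n = 0 by push_cast; ring, zpow_zero, mul_one,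
      pow_mul, ← mul_pow, show (-1 : ℂ) * (-2 * Complex.I * ((Real.sin (y / 2) : ℝ) : ℂ)) ^ 2 =
      ((4 * Real.sin (y / 2) ^ 2 : ℝ) : ℂ) by rw [mul_pow, mul_pow, Complex.I_sq]; push_cast; ring]
    rw [← Complex.ofReal_pow, Complex.ofReal_re, mul_pow]
  have h := Groth.Misc15.quad_re_pos m (Groth.Misc15.sbin (2 * n) n) _ (Groth.Misc15.sbin_supp (2 * n) n)
    (Groth.Misc15.countable_sin_half_zero.mono fun y hy => by
      simp only [Set.mem_ofPred_eq] at hy ⊢
      rw [hf] at hy
      by_contra h0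
      exact hy (by positivity))
    (fun i => (x i : ℂ)) (fun h0 => hx (funext fun i => by simpa using congrFun h0 i))
  have key : ∀ i j : Fin m, Groth.Misc15.sbin (2 * n) n ((j : ℤ) - (i : ℤ)) =
      (((-1 : ℝ) ^ ((i : ℕ) + (j : ℕ)) * (Nat.choose (2 * n) (n + Nat.dist i j) : ℝ) : ℝ) : ℂ) := by
    intro i j
    unfold Groth.Misc15.sbin
    have hz : (-1 : ℂ) ^ ((j : ℤ) - (i : ℤ)) = (-1 : ℂ) ^ ((i : ℕ) + (j : ℕ)) := by
      rw [zpow_sub₀ (by norm_num), zpow_natCast, zpow_natCast, pow_add]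
      rcases neg_one_pow_eq_or ℂ (i : ℕ) with h | h <;> simp [h, div_neg]
    have hd : Nat.dist (i : ℕ) (j : ℕ) = ((i : ℕ) - j) + ((j : ℕ) - i) := rfl
    push_cast
    split_ifs with hk
    · rw [hz]
      congr 2
      rcases le_total (i : ℕ) (j : ℕ) with hij | hij
      · congr 1; omega
      · rw [← Nat.choose_symm (by omega : n + Nat.dist (i : ℕ) (j : ℕ) ≤ 2 * n)]; congr 1; omega
    · rw [Nat.choose_eq_zero_of_lt (by omega)]; simp
  simp only [key, Complex.conj_ofReal, ← Complex.ofReal_mul, ← Complex.ofReal_sum, Complex.ofReal_re] at h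
  refine lt_of_lt_of_eq h ?_
  simp [dotProduct, Matrix.mulVec, Finset.mul_sum, mul_assoc]

end Groth.Agent.S19020
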