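import Groth.Statements.S19021
import Groth.Agent.Misc15.Toeplitz

set_option autoImplicit false
open Toeplitz

namespace Groth.Agent.S19021

/-- For natural numbers n and m, the m × m integer Toeplitz matrix with (i, j) entry (-1)^(i+j) ·
C(2n+1, n+1+i-j) (the binomial coefficient being 0 outside the range 0 ≤ n+1+i-j ≤ 2n+1;
equivalently s_k = (-1)^k C(2n+1, n+k+1) on the diagonal i - j = k for -n-1 ≤ k ≤ n and zero beyond)
is nondegenerate: its determinant is nonzero (m = 0 is the empty matrix, of determinant 1). -/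
theorem result (n m : ℕ) :
    (Matrix.of fun i j : Fin m =>
        (-1 : ℤ) ^ ((i : ℕ) + (j : ℕ)) *
          (if (j : ℕ) ≤ (i : ℕ) then (Nat.choose (2 * n + 1) (n + 1 + ((i : ℕ) - (j : ℕ))) : ℤ)
            else (Nat.choose (2 * n + 1) (n + ((j : ℕ) - (i : ℕ))) : ℤ))).det ≠ 0 := by
  intro hdet
  obtain ⟨v, hv, hv0⟩ := (Matrix.exists_mulVec_eq_zero_iff).mpr ((Matrix.det_transpose _).trans hdet)
  have hf : ∀ y : ℝ, (Groth.Misc15.symb (Groth.Misc15.sbin (2 * n + 1) (n + 1)) (Groth.Misc15.binSupp (2 * n + 1) (n + 1)) y).re =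
      2 ^ (2 * n + 1) * (Real.sin (y / 2) ^ 2) ^ (n + 1) := by
    intro y
    set c := Real.cos (y / 2)
    set s := Real.sin (y / 2)
    have e : Complex.exp (Complex.I * ((y / 2 : ℝ) : ℂ)) ^ (-1 : ℤ) = (c : ℂ) - (s : ℂ) * Complex.I := by
      rw [zpow_neg_one, ← Complex.exp_neg, show -(Complex.I * ((y / 2 : ℝ) : ℂ)) = ((-(y / 2) : ℝ) : ℂ) * Complex.I by push_cast; ring,
        Complex.exp_mul_I, ← Complex.ofReal_cos, ← Complex.ofReal_sin, Real.cos_neg, Real.sin_neg, Complex.ofReal_neg, neg_mul, ← sub_eq_add_neg]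
    rw [Groth.Misc15.symb_sbin, show ((2 * n + 1 : ℕ) : ℤ) - 2 * ((n + 1 : ℕ) : ℤ) = -1 by push_cast; ring, e]
    have e2 : (-1 : ℂ) ^ (n + 1) * ((c : ℂ) - (s : ℂ) * Complex.I) * (-2 * Complex.I * (s : ℂ)) ^ (2 * n + 1) =
        ((2 ^ (2 * n + 1) * (s ^ 2) ^ n * s : ℝ) : ℂ) * (Complex.I * ((c : ℂ) - (s : ℂ) * Complex.I)) := by
      rw [mul_pow, mul_pow, pow_succ Complex.I, pow_mul Complex.I, Complex.I_sq,
        Odd.neg_pow ⟨n, rfl⟩, pow_succ (-1 : ℂ) n]
      push_cast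
      rcases neg_one_pow_eq_or ℂ n with h | h <;> rw [h] <;> ring
    rw [e2, Complex.re_ofReal_mul]
    simp [Complex.mul_re]
    ring
  have h := Groth.Misc15.quad_re_pos m (Groth.Misc15.sbin (2 * n + 1) (n + 1)) _ (Groth.Misc15.sbin_supp _ _)
    (Groth.Misc15.countable_sin_half_zero.mono fun y hy => by
      simp only [Set.mem_ofPred_eq] at hy ⊢
      rw [hf] at hy
      by_contra h0
      exact hy (by positivity))
    (fun i => (v i : ℂ)) (fun h0 => hv (funext fun i => by simpa using congrFun h0 i))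
  have key : ∀ i j : Fin m, Groth.Misc15.sbin (2 * n + 1) (n + 1) ((j : ℤ) - (i : ℤ)) =
      (((-1 : ℤ) ^ ((j : ℕ) + (i : ℕ)) *
          (if (i : ℕ) ≤ (j : ℕ) then (Nat.choose (2 * n + 1) (n + 1 + ((j : ℕ) - (i : ℕ))) : ℤ)
            else (Nat.choose (2 * n + 1) (n + ((i : ℕ) - (j : ℕ))) : ℤ)) : ℤ) : ℂ) := by
    intro i j
    unfold Groth.Misc15.sbin
    have hz : (-1 : ℂ) ^ ((j : ℤ) - (i : ℤ)) = (-1 : ℂ) ^ ((j : ℕ) + (i : ℕ)) := by
      rw [zpow_sub₀ (by norm_num), zpow_natCast, zpow_natCast, pow_add]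
      rcases neg_one_pow_eq_or ℂ (i : ℕ) with h | h <;> simp [h, div_neg]
    rw [hz]
    split_ifs with h1 h2 h3
    · push_cast; congr 3; omega
    · push_cast
      congr 2
      rw [← Nat.choose_symm (by omega : n + ((i : ℕ) - j) ≤ 2 * n + 1)]
      congr 1; omega
    · omega
    · rw [Nat.choose_eq_zero_of_lt (by omega)]; simp
  have h0 : ∀ i : Fin m, ∑ j : Fin m, (starRingEnd ℂ) (v i : ℂ) *
      Groth.Misc15.sbin (2 * n + 1) (n + 1) ((j : ℤ) - (i : ℤ)) * (v j : ℂ) = 0 := by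
    intro i
    have := congrArg (fun z : ℤ => (starRingEnd ℂ) (v i : ℂ) * (z : ℂ)) (congrFun hv0 i)
    simp only [Matrix.mulVec, dotProduct, Matrix.transpose_apply, Matrix.of_apply, Pi.zero_apply,
      Int.cast_sum, Int.cast_mul, Int.cast_zero, mul_zero, Finset.mul_sum] at this
    refine (Finset.sum_congr rfl fun j _ => ?_).trans this
    rw [key]; push_cast; ring
  rw [Finset.sum_eq_zero fun i _ => h0 i] at h
  simp at h

end Groth.Agent.S19021
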