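import Groth.Statements.S19025
import Mathlib.Algebra.Group.ForwardDiff
import Mathlib.RingTheory.Ideal.Operations
import Mathlib.Tactic

set_option autoImplicit false
universe u
open HigherRestr

namespace Groth.Agent.S19025

open fwdDiff in
private theorem key (S : Type u) [CommRing S] (I : Ideal S) (a b : S) (hg : b - a ∈ I) :
    ∀ (N m : ℕ) (y : ℕ → S),
    (∀ i : ℕ, 1 ≤ i → i ≤ N → (fwdDiff (1 : ℕ))^[N - i] y i ∈ I ^ (N - i + m)) →
    a ^ N * (fwdDiff (1 : ℕ))^[N] y 0 -
      (fwdDiff (1 : ℕ))^[N] (fun j : ℕ => a ^ (N - j) * b ^ j * y j) 0 ∈ I ^ (N + m) := by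
  intro N
  induction N with
  | zero => intro m y _; simp
  | succ N ih =>
    intro m y hy
    let y' : ℕ → S := fun j => y (j + 1)
    have hshift : ∀ k i, (fwdDiff (1 : ℕ))^[k] y' i = (fwdDiff (1 : ℕ))^[k] y (i + 1) := fun k i =>
      fwdDiff_iter_comp_add 1 y 1 k i
    have h1 := ih (m + 1) (fwdDiff (1 : ℕ) y) fun i hi hi' => by
      rw [← Function.iterate_succ_apply, show (N - i).succ = N + 1 - i by omega,
        show N - i + (m + 1) = N + 1 - i + m by omega]
      exact hy i hi (by omega)
    have h2 := ih m y' fun i hi hi' => by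
      rw [hshift, show N - i = N + 1 - (i + 1) by omega]
      exact hy (i + 1) (by omega) (by omega)
    have h3 : (fwdDiff (1 : ℕ))^[N] y' 0 ∈ I ^ (N + m) := by
      rw [hshift]; simpa using hy 1 le_rfl (by omega)
    have h4 : (fwdDiff (1 : ℕ))^[N] (fun j : ℕ => a ^ (N - j) * b ^ j * y' j) 0 ∈ I ^ (N + m) := by
      simpa using sub_mem (Ideal.mul_mem_left _ (a ^ N) h3) h2
    have e : (fwdDiff (1 : ℕ))^[N + 1] (fun j : ℕ => a ^ (N + 1 - j) * b ^ j * y j) 0 =
        a * (fwdDiff (1 : ℕ))^[N] (fun j : ℕ => a ^ (N - j) * b ^ j * fwdDiff (1 : ℕ) y j) 0 +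
        (b - a) * (fwdDiff (1 : ℕ))^[N] (fun j : ℕ => a ^ (N - j) * b ^ j * y' j) 0 := by
      rw [Function.iterate_succ_apply, fwdDiff_iter_eq_sum_shift, fwdDiff_iter_eq_sum_shift,
        fwdDiff_iter_eq_sum_shift, Finset.mul_sum, Finset.mul_sum, ← Finset.sum_add_distrib]
      refine Finset.sum_congr rfl fun j hj => ?_
      have hj' : j ≤ N := by simpa [Finset.mem_range, Nat.lt_succ_iff] using hj
      simp only [zero_add, smul_eq_mul, mul_one, fwdDiff, y', zsmul_eq_mul]
      rw [show N + 1 - j = (N - j) + 1 by omega, show N + 1 - (j + 1) = N - j by omega, pow_succ, pow_succ]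
      ring
    rw [e, Function.iterate_succ_apply, pow_succ', show ∀ P Q R : S, a * a ^ N * P - (a * Q + (b - a) * R) =
      a * (a ^ N * P - Q) - (b - a) * R from fun P Q R => by ring, show N + 1 + m = N + m + 1 by omega]
    refine sub_mem (Ideal.mul_mem_left _ a (by rwa [← add_assoc] at h1)) ?_
    rw [pow_succ']
    exact Ideal.mul_mem_mul hg h4


/-- In abstract form, the estimate its proof establishes. Let S be a commutative ring, I an ideal of S,
g₀ and g₁ elements with g₁ - g₀ ∈ I, N a natural number and y a sequence in S such that, for 1 ≤ i ≤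
N, the (N-i)-fold unit-step forward difference of y taken at i lies in I^(N-i). Then g₀^N times the
N-fold forward difference of y at 0, minus the N-fold forward difference at 0 of the twisted
sequence j ↦ g₀^(N-j) g₁^j y_j, lies in I^N. (In the source S is the ring of functions on an affine
chart of X^n, I the ideal of a pairwise diagonal, g₀ and g₁ the two pullbacks of a transition unit
of L, and y_j the components x_λ along the compositions a₀^(N-j) a₁^j μ; the estimate is what makes
the higher order restrictions D^l_L well defined on ker D^(l-1)_L independently of the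
trivialisation.) -/
theorem result
    (S : Type u) [CommRing S] (I : Ideal S) (g₀ g₁ : S) (hg : g₁ - g₀ ∈ I)
    (N : ℕ) (y : ℕ → S)
    (hy : ∀ i : ℕ, 1 ≤ i → i ≤ N → (fwdDiff (1 : ℕ))^[N - i] y i ∈ I ^ (N - i)) :
    g₀ ^ N * (fwdDiff (1 : ℕ))^[N] y 0 -
        (fwdDiff (1 : ℕ))^[N] (fun j : ℕ => g₀ ^ (N - j) * g₁ ^ j * y j) 0 ∈ I ^ N := by
  exact key S I g₀ g₁ hg N 0 y hy

end Groth.Agent.S19025
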