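import Groth.Statements.S19036
import Mathlib
-- import your own Groth.Agent.* helpers here

set_option autoImplicit false
universe u
open Instab
set_option backward.isDefEq.respectTransparency false

namespace Groth.Agent.S19036

section
open CategoryTheory AlgebraicGeometry IsLocalRing Topology Filter

/-- the valuation subring of elements lying in `F`-almost all members -/
def ultraLimit {K : Type u} [Field K] {ι : Type u} (O : ι → ValuationSubring K) (F : Ultrafilter ι) :
    ValuationSubring K where
  carrier := {x | {i | x ∈ O i} ∈ F}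
  mul_mem' {x y} hx hy := mem_of_superset (inter_mem hx hy) fun i (h : x ∈ O i ∧ y ∈ O i) => mul_mem h.1 h.2
  one_mem' := mem_of_superset univ_mem fun i _ => one_mem (O i)
  add_mem' {x y} hx hy := mem_of_superset (inter_mem hx hy) fun i (h : x ∈ O i ∧ y ∈ O i) => add_mem h.1 h.2
  zero_mem' := mem_of_superset univ_mem fun i _ => zero_mem (O i)
  neg_mem' {x} hx := mem_of_superset hx fun i (h : x ∈ O i) => neg_mem h
  mem_or_inv_mem' x := Ultrafilter.union_mem_iff.mp
    (mem_of_superset univ_mem fun i _ => (O i).mem_or_inv_mem x)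

theorem mem_ultraLimit {K : Type u} [Field K] {ι : Type u} (O : ι → ValuationSubring K) (F : Ultrafilter ι) (x : K) :
    x ∈ ultraLimit O F ↔ {i | x ∈ O i} ∈ F := Iff.rfl

theorem isCompact_piece {X Y : Scheme.{u}} (f : X ⟶ Y) [LocallyOfFiniteType f]
    (hf : ValuativeCriterion f) {V : Y.Opens} (hV : IsAffineOpen V) (η : X) (hη : f η ∈ V) :
    IsCompact ((f ⁻¹' (V : Set Y)) ∩ closure {η}) := by
  have hr : Set.range ⇑(X.fromSpecResidueField η ≫ f) ⊆ Set.range ⇑hV.fromSpec := by
    rw [hV.range_fromSpec]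
    rintro _ ⟨z, rfl⟩
    rw [Scheme.Hom.comp_apply, Scheme.fromSpecResidueField_apply]
    exact hη
  let α : Γ(Y, V) ⟶ X.residueField η :=
    Spec.preimage (IsOpenImmersion.lift hV.fromSpec (X.fromSpecResidueField η ≫ f) hr)
  have hα : Spec.map α ≫ hV.fromSpec = X.fromSpecResidueField η ≫ f := by
    simp [α]
  let R := {O : ValuationSubring (X.residueField η) // ∀ a, α.hom a ∈ O}
  let αO : (O : R) → (Γ(Y, V) ⟶ CommRingCat.of O.1) := fun O =>
    CommRingCat.ofHom (α.hom.codRestrict O.1.toSubring O.2)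
  let incl : (O : R) → (CommRingCat.of O.1 ⟶ X.residueField η) := fun O =>
    CommRingCat.ofHom (algebraMap O.1 (X.residueField η))
  have hincl : ∀ O : R, αO O ≫ incl O = α := fun O => rfl
  have w : ∀ O : R, X.fromSpecResidueField η ≫ f =
      Spec.map (incl O) ≫ Spec.map (αO O) ≫ hV.fromSpec := fun O => by
    rw [← Spec.map_comp_assoc, hincl, hα]
  let Sq : R → ValuativeCommSq f := fun O =>
    { R := O.1, K := X.residueField η, i₁ := X.fromSpecResidueField η,
      i₂ := Spec.map (αO O) ≫ hV.fromSpec, commSq := ⟨w O⟩ }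
  have hex : ∀ O : R, ∃ l : Spec (.of O.1) ⟶ X,
      Spec.map (incl O) ≫ l = X.fromSpecResidueField η ∧ l ≫ f = Spec.map (αO O) ≫ hV.fromSpec :=
    fun O => by
      obtain ⟨⟨l, h1, h2⟩⟩ := (hf.existence (Sq O)).exists_lift
      exact ⟨l, h1, h2⟩
  choose l hl₁ hl₂ using hex
  have huniq : ∀ (O : R) (l' : Spec (.of O.1) ⟶ X),
      Spec.map (incl O) ≫ l' = X.fromSpecResidueField η →
      l' ≫ f = Spec.map (αO O) ≫ hV.fromSpec → l' = l O := fun O l' h1 h2 =>
    congrArg CommSq.LiftStruct.l
      ((hf.uniqueness (Sq O)).elim ⟨l', h1, h2⟩ ⟨l O, hl₁ O, hl₂ O⟩)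
  let c : R → X := fun O => l O (closedPoint O.1)
  have hc1 : ∀ O, c O ∈ (f ⁻¹' (V : Set Y)) ∩ closure {η} := fun O => by
    refine ⟨?_, specializes_iff_mem_closure.mp ?_⟩
    · show f (l O (closedPoint O.1)) ∈ (V : Set Y)
      rw [← Scheme.Hom.comp_apply, hl₂, Scheme.Hom.comp_apply, ← hV.range_fromSpec]
      exact ⟨_, rfl⟩
    · have := (specializes_closedPoint (Spec.map (incl O) (closedPoint (X.residueField η)))).map
        (l O).continuous
      rwa [← Scheme.Hom.comp_apply, hl₁, Scheme.fromSpecResidueField_apply] at this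
  have hsurj : ∀ x ∈ (f ⁻¹' (V : Set Y)) ∩ closure {η}, ∃ O, c O = x := by
    rintro x ⟨hxV, hx⟩
    have hs : η ⤳ x := specializes_iff_mem_closure.mpr hx
    let φ : X.presheaf.stalk x ⟶ X.residueField η := X.presheaf.stalkSpecializes hs ≫ X.residue η
    obtain ⟨A, hA, hAl⟩ := exists_factor_valuationRing φ.hom
    let ψ : X.presheaf.stalk x ⟶ CommRingCat.of A :=
      CommRingCat.ofHom (φ.hom.codRestrict A.toSubring hA)
    let j : CommRingCat.of A ⟶ X.residueField η := CommRingCat.ofHom (algebraMap A (X.residueField η))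
    let l' : Spec (.of A) ⟶ X := Spec.map ψ ≫ X.fromSpecStalk x
    have hl'1 : Spec.map j ≫ l' = X.fromSpecResidueField η := by
      rw [← Spec.map_comp_assoc, Scheme.fromSpecResidueField,
        ← Scheme.SpecMap_stalkSpecializes_fromSpecStalk hs, ← Spec.map_comp_assoc]
      rfl
    have hcl : l' (closedPoint A) = x := by
      have : Spec.map ψ (closedPoint A) = closedPoint (X.presheaf.stalk x) :=
        comap_closedPoint (S := A) (φ.hom.codRestrict A.toSubring hA)
      rw [Scheme.Hom.comp_apply, this, X.fromSpecStalk_closedPoint]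
    have hr' : Set.range ⇑(l' ≫ f) ⊆ Set.range ⇑hV.fromSpec := by
      rw [hV.range_fromSpec]
      rintro _ ⟨z, rfl⟩
      refine ((specializes_closedPoint z).map (l' ≫ f).continuous).mem_open V.2 ?_
      show (l' ≫ f) (closedPoint A) ∈ (V : Set Y)
      rw [Scheme.Hom.comp_apply, hcl]
      exact hxV
    let a : Γ(Y, V) ⟶ CommRingCat.of A :=
      Spec.preimage (IsOpenImmersion.lift hV.fromSpec (l' ≫ f) hr')
    have ha : Spec.map a ≫ hV.fromSpec = l' ≫ f := by simp [a]
    have haj : a ≫ j = α := by
      apply Spec.map_injective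
      rw [← cancel_mono hV.fromSpec, hα, Spec.map_comp, Category.assoc, ha, ← Category.assoc, hl'1]
    let O : R := ⟨A, fun b => by rw [← haj]; exact (a.hom b).2⟩
    have hao : αO O = a := by
      ext b
      show α.hom b = (a ≫ j).hom b
      rw [haj]
    refine ⟨O, ?_⟩
    show l O (closedPoint A) = x
    rw [← huniq O l' hl'1 (by rw [hao, ha]), hcl]
  have himg : Set.range c = (f ⁻¹' (V : Set Y)) ∩ closure {η} :=
    Set.Subset.antisymm (Set.range_subset_iff.mpr hc1) hsurj
  rw [← himg, isCompact_iff_ultrafilter_le_nhds]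
  intro G hG
  have hGr : Set.range c ∈ G := le_principal_iff.mp hG
  let F : Ultrafilter R := Ultrafilter.ofComapInfPrincipal (m := c) (s := Set.univ) (g := G)
    (by rwa [Set.image_univ])
  have hF : F.map c = G := Ultrafilter.ofComapInfPrincipal_eq_of_map _
  let O₀ : R := ⟨ultraLimit Subtype.val F, fun b => (mem_ultraLimit _ F _).mpr <| show {i : R | α.hom b ∈ i.1} ∈ F from mem_of_superset univ_mem fun (i : R) _ => i.2 b⟩
  refine ⟨c O₀, ⟨O₀, rfl⟩, ?_⟩
  intro W hW
  obtain ⟨W', hW'W, hW'o, hcW'⟩ := mem_nhds_iff.mp hW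
  obtain ⟨_, ⟨U, hU, rfl⟩, hcU, hUW⟩ := X.isBasis_affineOpens.exists_subset_of_mem_open
    (show c O₀ ∈ W' ∩ f ⁻¹' (V : Set Y) from ⟨hcW', (hc1 O₀).1⟩)
    (hW'o.inter (f.continuous.isOpen_preimage _ V.2))
  have hUV : U ≤ f ⁻¹ᵁ V := fun z hz => (hUW hz).2
  have hr₀ : Set.range ⇑(l O₀) ⊆ Set.range ⇑hU.fromSpec := by
    rw [hU.range_fromSpec]
    rintro _ ⟨z, rfl⟩
    exact ((specializes_closedPoint z).map (l O₀).continuous).mem_open U.2 hcU
  let β₀ : Γ(X, U) ⟶ CommRingCat.of O₀.1 := Spec.preimage (IsOpenImmersion.lift hU.fromSpec (l O₀) hr₀)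
  let β : Γ(X, U) ⟶ X.residueField η := β₀ ≫ incl O₀
  have hβ : Spec.map β ≫ hU.fromSpec = X.fromSpecResidueField η := by
    rw [Spec.map_comp, Category.assoc, Spec.map_preimage, IsOpenImmersion.lift_fac, hl₁]
  let g := f.appLE V U hUV
  have hgβ : g ≫ β = α := by
    apply Spec.map_injective
    rw [← cancel_mono hV.fromSpec, hα, Spec.map_comp, Category.assoc,
      hV.SpecMap_appLE_fromSpec f hU hUV, ← Category.assoc, hβ]
  have hgft : g.hom.FiniteType := f.finiteType_appLE hV hU hUV
  letI : Algebra Γ(Y, V) Γ(X, U) := g.hom.toAlgebra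
  obtain ⟨s, hs⟩ := hgft.out
  have hmemF : {O : R | ∀ z ∈ s, β.hom z ∈ O.1} ∈ F :=
    (Filter.biInter_finset_mem s).mpr (fun z _ => show {O : R | β.hom z ∈ O.1} ∈ F from (mem_ultraLimit _ F _).mp (β₀.hom z).2) |> fun h =>
      mem_of_superset h fun O hO z hz => Set.mem_iInter₂.mp hO z hz
  have hpre : {O : R | ∀ z ∈ s, β.hom z ∈ O.1} ⊆ c ⁻¹' W := by
    intro O hO
    have hall : ∀ z, β.hom z ∈ O.1 := by
      intro z
      have hz : z ∈ Algebra.adjoin Γ(Y, V) (s : Set Γ(X, U)) := hs ▸ Algebra.mem_top
      induction hz using Algebra.adjoin_induction with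
      | mem x hx => exact hO x hx
      | algebraMap r =>
        have : β.hom (g.hom r) = α.hom r := DFunLike.congr_fun (congrArg CommRingCat.Hom.hom hgβ) r
        rw [RingHom.algebraMap_toAlgebra, this]
        exact O.2 r
      | add x y _ _ hx hy => rw [map_add]; exact add_mem hx hy
      | mul x y _ _ hx hy => rw [map_mul]; exact mul_mem hx hy
    let m : Γ(X, U) ⟶ CommRingCat.of O.1 := CommRingCat.ofHom (β.hom.codRestrict O.1.toSubring hall)
    have hm : m ≫ incl O = β := rfl
    have hgm : g ≫ m = αO O := by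
      ext r
      show (g ≫ β).hom r = α.hom r
      rw [hgβ]
    have hl : Spec.map m ≫ hU.fromSpec = l O := by
      refine huniq O _ ?_ ?_
      · rw [← Spec.map_comp_assoc, hm, hβ]
      · rw [Category.assoc, ← hV.SpecMap_appLE_fromSpec f hU hUV, ← Spec.map_comp_assoc, hgm]
    apply hW'W
    refine (hUW (?_ : l O (closedPoint O.1) ∈ (U : Set X))).1
    rw [← hl, Scheme.Hom.comp_apply, ← hU.range_fromSpec]
    exact ⟨_, rfl⟩
  rw [← hF]
  exact Ultrafilter.mem_map.mpr (mem_of_superset hmemF hpre)

end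

open CategoryTheory AlgebraicGeometry in
/-- Let f : X → Y be a morphism of schemes which is locally of finite presentation, and for which the
valuative criterion holds (every valuative square over a valuation ring has exactly one lift). When
X has only finitely many irreducible components, the morphism f is quasi-compact. (The source states
this for algebraic spaces and adds that f is then proper; universal closedness follows from
quasi-compactness and the existence part by the standard criterion, and separatedness from the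
uniqueness part once f is quasi-separated. Only the scheme case and the quasi-compactness conclusion
are stated here.) -/
theorem result
    {X Y : Scheme.{u}} (f : X ⟶ Y) [LocallyOfFinitePresentation f]
    (hf : ValuativeCriterion f) (hX : (irreducibleComponents ↥X).Finite) :
    QuasiCompact f := by
  refine ⟨fun U hUo hUc => ?_⟩
  suffices h : ∀ V : Y.Opens, IsAffineOpen V → IsCompact (f ⁻¹' (V : Set Y)) by
    exact (quasiCompact_iff_forall_isAffineOpen.mpr fun V hV => h V hV).isCompact_preimage _ hUo hUc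
  intro V hV
  have key : (f ⁻¹' (V : Set Y)) = ⋃ η ∈ genericPoints X ∩ f ⁻¹' (V : Set Y),
      (f ⁻¹' (V : Set Y)) ∩ closure {η} := by
    ext x
    simp only [Set.mem_iUnion, exists_prop, Set.mem_inter_iff]
    refine ⟨fun hx => ?_, fun ⟨η, _, h, _⟩ => h⟩
    let Z : irreducibleComponents X := ⟨irreducibleComponent x, irreducibleComponent_mem_irreducibleComponents x⟩
    let η := genericPoints.ofComponent Z
    have hcl : closure {η.1} = Z.1 :=
      congrArg Subtype.val (genericPoints.component_ofComponent Z)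
    have hxZ : x ∈ closure {η.1} := hcl ▸ mem_irreducibleComponent
    have hs : η.1 ⤳ x := specializes_iff_mem_closure.mpr hxZ
    exact ⟨η.1, ⟨η.2, hs.mem_open (f.continuous.isOpen_preimage _ V.2) hx⟩, hx, hxZ⟩
  rw [key]
  exact ((genericPoints.finite hX).inter_of_left _).isCompact_biUnion fun η hη =>
    isCompact_piece f hf hV η hη.2

end Groth.Agent.S19036
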