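import Groth.Statements.S19037
-- import your own Groth.Agent.* helpers here

set_option autoImplicit false
universe u v
open scoped Polynomial LaurentPolynomial
open Instab

namespace Groth.Agent.S19037

/-- Affine form over a ring R. Let A be a commutative ℤ-graded R-algebra and t an element of degree −1
(so A is a graded algebra over R[t] with t in degree −1), and let ψ : A[1/t] → R[T, T⁻¹] be an
R-algebra map sending t to T which is graded, in the sense that each homogeneous element of degree n
of A goes to an element of R times T^(−n). Then ψ is obtained by inverting t from an R-algebra map χ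
: A → R[T] (compared through the inclusion of R[T] in R[T, T⁻¹]) if and only if ψ kills t·a for
every homogeneous a of degree 1; such a χ is unique. (The source states this for quasi-coherent
graded algebras over an arbitrary base scheme; the statement is local on the base and is given here
over an affine base.) -/
theorem result
    {R : Type u} {A : Type v} [CommRing R] [CommRing A] [Algebra R A]
    (𝒜 : ℤ → Submodule R A) [GradedAlgebra 𝒜] (t : A) (ht : t ∈ 𝒜 (-1))
    (ψ : Localization.Away t →ₐ[R] R[T;T⁻¹])
    (hψt : ψ (algebraMap A (Localization.Away t) t) = LaurentPolynomial.T 1)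
    (hψ : ∀ (n : ℤ) (a : A), a ∈ 𝒜 n →
      ∃ r : R, ψ (algebraMap A (Localization.Away t) a) = LaurentPolynomial.C r * LaurentPolynomial.T (-n)) :
    (∃! χ : A →ₐ[R] R[X], ∀ a : A,
        ψ (algebraMap A (Localization.Away t) a) = Polynomial.toLaurentAlg (χ a)) ↔
      ∀ a ∈ 𝒜 1, ψ (algebraMap A (Localization.Away t) (t * a)) = 0 := by
  have hinj : Function.Injective (Polynomial.toLaurentAlg (R := R)) := by
    intro x y hxy
    exact Polynomial.toLaurent_injective (by simpa [Polynomial.toLaurentAlg_apply] using hxy)
  have hT1 : ∀ r : R, (LaurentPolynomial.C r * LaurentPolynomial.T (-1) : R[T;T⁻¹]) ∈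
      (Polynomial.toLaurentAlg (R := R)).range → r = 0 := by
    rintro r ⟨f, hf⟩
    have h1 : Polynomial.toLaurent (f * Polynomial.X) = Polynomial.toLaurent (Polynomial.C r) := by
      have hf' : Polynomial.toLaurent f = LaurentPolynomial.C r * LaurentPolynomial.T (-1) := by
        simpa [Polynomial.toLaurentAlg_apply] using hf
      rw [map_mul, hf', Polynomial.toLaurent_X, Polynomial.toLaurent_C, mul_assoc, ← LaurentPolynomial.T_add]
      simp
    have := congrArg (fun g => Polynomial.coeff g 0) (Polynomial.toLaurent_injective h1)
    simpa using this.symm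
  have hta : ∀ a : A, ∀ r : R, ψ (algebraMap A (Localization.Away t) a) = LaurentPolynomial.C r * LaurentPolynomial.T (-1) →
      ψ (algebraMap A (Localization.Away t) (t * a)) = LaurentPolynomial.C r := fun a r h => by
    rw [map_mul, map_mul, hψt, h, mul_left_comm, ← LaurentPolynomial.T_add]
    simp
  constructor
  · rintro ⟨χ, hχ, -⟩ a ha
    obtain ⟨r, hr⟩ := hψ 1 a ha
    rw [hta a r hr, hT1 r ⟨χ a, (hχ a).symm.trans hr⟩, map_zero]
  · intro h
    let g : A →ₐ[R] R[T;T⁻¹] := ψ.comp (IsScalarTower.toAlgHom R A (Localization.Away t))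
    have hgn : ∀ n : ℕ, ∀ a ∈ 𝒜 ((n : ℤ) + 1), g a = 0 := by
      intro n a ha
      obtain ⟨r, hr⟩ := hψ _ a ha
      have hpow : t ^ n * a ∈ 𝒜 1 := by
        have := SetLike.mul_mem_graded (SetLike.pow_mem_graded n ht) ha
        simpa using this
      obtain ⟨r', hr'⟩ := hψ 1 _ hpow
      have h0 := h _ hpow
      rw [hta _ r' hr'] at h0
      have hz : g (t ^ n * a) = 0 := by
        show ψ (algebraMap A (Localization.Away t) (t ^ n * a)) = 0
        rw [hr', h0, zero_mul]
      rw [map_mul, map_pow] at hz
      have hu : IsUnit (g t ^ n) := by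
        show IsUnit (ψ (algebraMap A (Localization.Away t) t) ^ n)
        rw [hψt]
        exact (LaurentPolynomial.isUnit_T 1).pow n
      exact hu.mul_right_eq_zero.1 hz
    have hmem : ∀ a, g a ∈ (Polynomial.toLaurentAlg (R := R)).range := by
      intro a
      induction a using DirectSum.Decomposition.inductionOn 𝒜 with
      | zero => exact (map_zero g).symm ▸ zero_mem _
      | add x y hx hy => exact (map_add g x y).symm ▸ add_mem hx hy
      | homogeneous a =>
        rename_i i
        obtain ⟨r, hr⟩ := hψ i a a.2
        by_cases hi : i ≤ 0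
        · obtain ⟨m, hm⟩ := Int.exists_eq_neg_ofNat hi
          refine ⟨Polynomial.C r * Polynomial.X ^ m, ?_⟩
          show _ = ψ (algebraMap A (Localization.Away t) a)
          rw [hr, hm]
          simp [Polynomial.toLaurentAlg_apply]
        · obtain ⟨m, rfl⟩ : ∃ m : ℕ, i = (m : ℤ) + 1 := ⟨(i - 1).toNat, by omega⟩
          rw [hgn m a a.2]
          exact zero_mem _
    let e := AlgEquiv.ofInjective (Polynomial.toLaurentAlg (R := R)) hinj
    have hc : ∀ a, ψ (algebraMap A (Localization.Away t) a) =
        Polynomial.toLaurentAlg ((e.symm.toAlgHom.comp (g.codRestrict _ hmem)) a) := fun a =>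
      (congrArg Subtype.val (e.apply_symm_apply (g.codRestrict _ hmem a))).symm
    exact ⟨_, hc, fun χ hχ => AlgHom.ext fun a => hinj ((hχ a).symm.trans (hc a))⟩

end Groth.Agent.S19037
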