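import Groth.Statements.S19039
import Mathlib
import Groth.Prelude.Def_GmAct

set_option autoImplicit false
universe u
open Instab

namespace Groth.Agent.S19039

open CategoryTheory CategoryTheory.Limits MonoidalCategory CartesianMonoidalCategory MonObj GrpObj AlgebraicGeometry Opposite
open scoped TensorProduct

/-- The monoidal structure on `Spec`. -/
noncomputable local instance braidedAlgSpecOf' (R : Type u) [CommRing R] :
    (algSpec (CommRingCat.of R)).Braided :=
  braidedAlgSpec

section Cancel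

variable {R : Type u} [CommRing R] {B C : Type u} [CommRing B] [CommRing C] [Algebra R B] [Algebra R C]

/-- `Spec B ⊗ Spec C → Spec (B ⊗ C)` is inverse to the pair of the two points. -/
theorem isIso_lift_pt : IsIso (lift (CoactBr.pt (Algebra.TensorProduct.includeLeft : B →ₐ[R] B ⊗[R] C))
    (CoactBr.pt (Algebra.TensorProduct.includeRight : C →ₐ[R] B ⊗[R] C))) := by
  have h := CoactBr.lift_pt_pt (R := R) (Algebra.TensorProduct.includeLeft : B →ₐ[R] B ⊗[R] C)
    (Algebra.TensorProduct.includeRight : C →ₐ[R] B ⊗[R] C)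
  have e : Algebra.TensorProduct.lift (Algebra.TensorProduct.includeLeft : B →ₐ[R] B ⊗[R] C)
      (Algebra.TensorProduct.includeRight : C →ₐ[R] B ⊗[R] C) (fun _ _ => .all _ _) = AlgHom.id R _ := by
    ext x <;> simp
  rw [e, CoactBr.pt_id] at h
  have : IsIso (Functor.LaxMonoidal.μ (algSpec (CommRingCat.of R)) (op (CommAlgCat.of R B))
      (op (CommAlgCat.of R C))) :=
    Iso.isIso_hom (Functor.Monoidal.μIso (algSpec (CommRingCat.of R)) _ _)
  exact @IsIso.of_isIso_fac_right _ _ _ _ _ _ _ _ this (IsIso.id _) h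

/-- Maps to a separated scheme agree if they agree on a dominant affine piece. -/
theorem pt_cancel (ψ : B →ₐ[R] C) (hψ : Function.Injective ψ) (X : Over (Spec (CommRingCat.of R)))
    [IsSeparated X.hom] {u v : CoactBr.sp R B ⟶ X}
    (h : CoactBr.pt ψ ≫ u = CoactBr.pt ψ ≫ v) : u = v := by
  let g := Spec.map (CommRingCat.ofHom ψ.toRingHom)
  have hg : g.ker = ⊥ := by
    refine Scheme.IdealSheafData.ext_of_isAffine ?_
    rw [Scheme.Hom.ker_apply, Scheme.IdealSheafData.ideal_bot]
    refine (RingHom.injective_iff_ker_eq_bot _).1 fun a b hab => ?_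
    have hnat := Scheme.ΓSpecIso_naturality (CommRingCat.ofHom ψ.toRingHom)
    have ha : ψ ((Scheme.ΓSpecIso _).hom.hom a) = ψ ((Scheme.ΓSpecIso _).hom.hom b) := by
      have h1 := congrArg (fun f => f.hom a) hnat
      have h2 := congrArg (fun f => f.hom b) hnat
      simp only [CommRingCat.hom_comp, RingHom.comp_apply] at h1 h2
      exact h1.symm.trans ((congrArg _ hab).trans h2)
    exact (Scheme.ΓSpecIso _).commRingCatIsoToRingEquiv.injective (hψ ha)
  let δ := pullback.diagonal X.hom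
  have huv : u.left ≫ X.hom = v.left ≫ X.hom := (Over.w u).trans (Over.w v).symm
  let φ : (CoactBr.sp R B).left ⟶ pullback X.hom X.hom := pullback.lift u.left v.left huv
  have hguv : g ≫ v.left = g ≫ u.left := (congrArg CommaMorphism.left h).symm
  have hw : g ≫ φ = (g ≫ u.left) ≫ δ := by
    refine pullback.hom_ext ?_ ?_
    · rw [Category.assoc, Category.assoc]
      refine (congrArg (g ≫ ·) (pullback.lift_fst u.left v.left huv)).trans ?_
      exact ((congrArg ((g ≫ u.left) ≫ ·) (pullback.diagonal_fst X.hom)).trans (Category.comp_id _)).symm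
    · rw [Category.assoc, Category.assoc]
      refine (congrArg (g ≫ ·) (pullback.lift_snd u.left v.left huv)).trans ?_
      exact hguv.trans ((congrArg ((g ≫ u.left) ≫ ·) (pullback.diagonal_snd X.hom)).trans (Category.comp_id _)).symm
  have hker : δ.ker ≤ φ.ker := by
    have h1 : (g ≫ φ).ker = φ.ker := by
      rw [Scheme.Hom.ker_comp, hg, Scheme.IdealSheafData.map_bot]
      rfl
    rw [← h1, hw]
    exact Scheme.Hom.le_ker_comp _ _
  have hχ := IsClosedImmersion.lift_fac δ φ hker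
  refine Over.OverMorphism.ext ?_
  have h1 := congrArg (fun f => f ≫ pullback.fst X.hom X.hom) hχ
  have h2 := congrArg (fun f => f ≫ pullback.snd X.hom X.hom) hχ
  simp only [Category.assoc] at h1 h2
  replace h1 := ((Category.comp_id _).symm.trans (congrArg (_ ≫ ·) (pullback.diagonal_fst X.hom)).symm).trans
    (h1.trans (pullback.lift_fst u.left v.left huv))
  replace h2 := ((Category.comp_id _).symm.trans (congrArg (_ ≫ ·) (pullback.diagonal_snd X.hom)).symm).trans
    (h2.trans (pullback.lift_snd u.left v.left huv))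
  exact h1.symm.trans h2

/-- Cancelling a whiskered map of affine schemes, for an affine second factor. -/
theorem whisker_cancel_affine (φ : B →ₐ[R] C) {A : Type u} [CommRing A] [Algebra R A]
    (hφ : Function.Injective (Algebra.TensorProduct.map φ (AlgHom.id R A)))
    (X : Over (Spec (CommRingCat.of R))) [IsSeparated X.hom] {u v : CoactBr.sp R B ⊗ CoactBr.sp R A ⟶ X}
    (h : (CoactBr.pt φ ▷ CoactBr.sp R A) ≫ u = (CoactBr.pt φ ▷ CoactBr.sp R A) ≫ v) : u = v := by
  have := isIso_lift_pt (R := R) (B := B) (C := A)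
  rw [← cancel_epi (lift (CoactBr.pt (Algebra.TensorProduct.includeLeft : B →ₐ[R] B ⊗[R] A))
    (CoactBr.pt (Algebra.TensorProduct.includeRight : A →ₐ[R] B ⊗[R] A)))]
  refine pt_cancel (Algebra.TensorProduct.map φ (AlgHom.id R A)) hφ X ?_
  have e : CoactBr.pt (Algebra.TensorProduct.map φ (AlgHom.id R A)) ≫
      lift (CoactBr.pt (Algebra.TensorProduct.includeLeft : B →ₐ[R] B ⊗[R] A))
        (CoactBr.pt (Algebra.TensorProduct.includeRight : A →ₐ[R] B ⊗[R] A)) =
      lift (CoactBr.pt (Algebra.TensorProduct.includeLeft : C →ₐ[R] C ⊗[R] A))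
        (CoactBr.pt (Algebra.TensorProduct.includeRight : A →ₐ[R] C ⊗[R] A)) ≫ (CoactBr.pt φ ▷ CoactBr.sp R A) := by
    rw [comp_lift, lift_whiskerRight, ← CoactBr.pt_comp, ← CoactBr.pt_comp, ← CoactBr.pt_comp,
      Algebra.TensorProduct.map_comp_includeLeft, Algebra.TensorProduct.map_comp_includeRight, AlgHom.comp_id]
  rw [reassoc_of% e, reassoc_of% e, h]

/-- Cancelling a whiskered map of affine schemes, for any second factor. -/
theorem whisker_cancel (φ : B →ₐ[R] C)
    (hφ : ∀ (A : Type u) [CommRing A] [Algebra R A], Function.Injective (Algebra.TensorProduct.map φ (AlgHom.id R A)))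
    (X : Over (Spec (CommRingCat.of R))) [IsSeparated X.hom] (T : Over (Spec (CommRingCat.of R)))
    {u v : CoactBr.sp R B ⊗ T ⟶ X} (h : (CoactBr.pt φ ▷ T) ≫ u = (CoactBr.pt φ ▷ T) ≫ v) : u = v := by
  refine Over.OverMorphism.ext ((Scheme.Pullback.openCoverOfRight T.left.affineCover (CoactBr.sp R B).hom T.hom).hom_ext
    _ _ fun i => ?_)
  obtain ⟨A, g, hg⟩ : ∃ (A : CommRingCat.{u}) (g : Spec A ⟶ T.left), ∀ (K : Scheme.{u})
      (p q : (CoactBr.sp R B ⊗ T).left ⟶ K),
      pullback.map (CoactBr.sp R B).hom (g ≫ T.hom) (CoactBr.sp R B).hom T.hom (𝟙 _) g (𝟙 _)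
          (by simp) (by simp) ≫ p =
        pullback.map (CoactBr.sp R B).hom (g ≫ T.hom) (CoactBr.sp R B).hom T.hom (𝟙 _) g (𝟙 _)
          (by simp) (by simp) ≫ q →
      (Scheme.Pullback.openCoverOfRight T.left.affineCover (CoactBr.sp R B).hom T.hom).f i ≫ p =
        (Scheme.Pullback.openCoverOfRight T.left.affineCover (CoactBr.sp R B).hom T.hom).f i ≫ q :=
    ⟨_, T.left.affineCover.f i, fun K p q h => h⟩
  refine hg _ _ _ ?_
  clear hg i
  obtain ⟨ψ, hψ⟩ : ∃ ψ, Spec.map ψ = g ≫ T.hom := ⟨_, Spec.map_preimage _⟩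
  let _ : Algebra R A := ψ.hom.toAlgebra
  let f : CoactBr.sp R A ⟶ T := Over.homMk g hψ.symm
  have key : (CoactBr.sp R B ◁ f) ≫ u = (CoactBr.sp R B ◁ f) ≫ v :=
    whisker_cancel_affine φ (hφ _) X (by rw [← whisker_exchange_assoc, h, whisker_exchange_assoc])
  have := congrArg CommaMorphism.left key
  let c : pullback (CoactBr.sp R B).hom (g ≫ T.hom) ⟶ (CoactBr.sp R B ⊗ CoactBr.sp R A).left :=
    (pullback.congrHom (rfl : (CoactBr.sp R B).hom = _) (hψ.symm : g ≫ T.hom = (CoactBr.sp R A).hom)).hom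
  have hc : c ≫ (CoactBr.sp R B ◁ f).left =
      pullback.map (CoactBr.sp R B).hom (g ≫ T.hom) (CoactBr.sp R B).hom T.hom (𝟙 _) g (𝟙 _)
          (by simp) (by simp) := by
    have h1 := congrArg CommaMorphism.left (whiskerLeft_fst (CoactBr.sp R B) f)
    have h2 := congrArg CommaMorphism.left (whiskerLeft_snd (CoactBr.sp R B) f)
    refine pullback.hom_ext ?_ ?_
    · refine (Category.assoc _ _ _).trans ((congrArg (c ≫ ·) h1).trans ?_)
      refine Eq.trans ?_ (pullback.lift_fst _ _ _).symm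
      exact (pullback.lift_fst _ _ _).trans (Category.comp_id _)
    · refine (Category.assoc _ _ _).trans ((congrArg (c ≫ ·) h2).trans ?_)
      refine Eq.trans ?_ (pullback.lift_snd _ _ _).symm
      refine (Category.assoc _ _ _).symm.trans (congrArg (· ≫ g) ?_)
      exact (pullback.lift_snd _ _ _).trans (Category.comp_id _)
  rw [← hc]
  exact (Category.assoc _ _ _).trans ((congrArg (c ≫ ·) this).trans (Category.assoc _ _ _).symm)

end Cancel

section Line

variable (R : Type u) [CommRing R]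

/-- `R[x] → R[z, z⁻¹]` is injective after any tensor product. -/
theorem incl_injective (A : Type u) [CommRing A] [Algebra R A] :
    Function.Injective (Algebra.TensorProduct.map (ThetaS.linePt (R := R) (ThetaS.zPow R 1)) (AlgHom.id R A)) := by
  classical
  obtain ⟨ρ, hρ⟩ : ∃ ρ : ThetaS.Lau R →ₗ[R] Polynomial R,
      ρ ∘ₗ (ThetaS.linePt (R := R) (ThetaS.zPow R 1)).toLinearMap = LinearMap.id := by
    let b : Module.Basis (Multiplicative ℤ) R (ThetaS.Lau R) := MonoidAlgebra.basis (Multiplicative ℤ) R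
    refine ⟨b.constr R fun m => if 0 ≤ m.toAdd then Polynomial.X ^ m.toAdd.toNat else 0, ?_⟩
    refine (Polynomial.basisMonomials R).ext fun n => ?_
    have h1 : ThetaS.linePt (R := R) (ThetaS.zPow R 1) (Polynomial.monomial n (1 : R)) = b (Multiplicative.ofAdd (n : ℤ)) := by
      simp [b, ThetaS.linePt, Polynomial.aeval_monomial, MonoidAlgebra.single_pow, ← ofAdd_nsmul]
    simp [h1, Polynomial.X_pow_eq_monomial]
  have : ρ.rTensor A ∘ₗ (ThetaS.linePt (R := R) (ThetaS.zPow R 1)).toLinearMap.rTensor A = LinearMap.id := by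
    rw [← LinearMap.rTensor_comp, hρ, LinearMap.rTensor_id]
  intro a b hab
  have ha := LinearMap.congr_fun this a
  have hb := LinearMap.congr_fun this b
  have e : ∀ x, Algebra.TensorProduct.map (ThetaS.linePt (R := R) (ThetaS.zPow R 1)) (AlgHom.id R A) x =
      (ThetaS.linePt (R := R) (ThetaS.zPow R 1)).toLinearMap.rTensor A x := fun x => rfl
  rw [e, e] at hab
  simp only [LinearMap.comp_apply, LinearMap.id_apply] at ha hb
  rw [← ha, hab, hb]

/-- The inclusion of `G_m` in the line is equivariant. -/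
theorem incl_equivariant :
    (ThetaS.Gm R ◁ (CoactBr.pt (ThetaS.linePt (ThetaS.zPow R 1)) : ThetaS.Gm R ⟶ ThetaS.Line R)) ≫
        (ThetaS.lineAction R).act =
      μ[ThetaS.Gm R] ≫ CoactBr.pt (ThetaS.linePt (ThetaS.zPow R 1)) := by
  have := isIso_lift_pt (R := R) (B := ThetaS.Lau R) (C := ThetaS.Lau R)
  rw [← cancel_epi (lift (CoactBr.pt (Algebra.TensorProduct.includeLeft : ThetaS.Lau R →ₐ[R] _))
    (CoactBr.pt (Algebra.TensorProduct.includeRight : ThetaS.Lau R →ₐ[R] ThetaS.Lau R ⊗[R] ThetaS.Lau R)))]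
  rw [lift_whiskerLeft_assoc, ← CoactBr.pt_comp, show
      (Algebra.TensorProduct.includeRight : ThetaS.Lau R →ₐ[R] ThetaS.Lau R ⊗[R] ThetaS.Lau R).comp
        (ThetaS.linePt (ThetaS.zPow R 1)) = ThetaS.linePt (1 ⊗ₜ[R] ThetaS.zPow R 1) from
      Polynomial.algHom_ext (by simp), ThetaS.lineAction_pt, ← Category.assoc, ← Hom.mul_def,
    CoactBr.pt_mul_pt, ← CoactBr.pt_comp]
  congr 1
  refine Polynomial.algHom_ext ?_
  simp [Bialgebra.comulAlgHom_apply, ThetaS.comul_zPow]

end Line

end Groth.Agent.S19039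

namespace Groth.Agent.S19039

open CategoryTheory MonoidalCategory CartesianMonoidalCategory MonObj GrpObj AlgebraicGeometry in
/-- The case n = 1 for a scheme X separated over an affine base Spec R, stated as the two facts that
identify equivariant families with maps whose orbit map extends. Let G_m act on X (a left action a :
G_m × X → X over Spec R) and on A¹ × T through the scaling action on A¹, for an R-scheme T; write j
: G_m → A¹ for the inclusion t ↦ t. (a) If u, v : A¹ × T → X are G_m-equivariant R-morphisms with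
the same restriction to the section {1} × T, then u = v. (b) If x : T → X is an R-morphism and u :
A¹ × T → X is an R-morphism whose restriction along j × T is the orbit family (g, t) ↦ g · x(t),
then u is G_m-equivariant. (The source works with an algebraic space X quasi-separated and locally
of finite presentation over a base B with an action of G_mⁿ and deduces that X⁺ → X is a locally
finitely presented unramified monomorphism; only the elementary identification for n = 1 is stated
here, which uses separatedness alone.) -/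
theorem result
    (R : Type u) [CommRing R] (X : Over (Spec (CommRingCat.of R))) [IsSeparated X.hom]
    (a : AlgGrp.Action (ThetaS.Gm R) X) (T : Over (Spec (CommRingCat.of R))) :
    (∀ u v : ThetaS.Line R ⊗ T ⟶ X,
        (α_ (ThetaS.Gm R) (ThetaS.Line R) T).inv ≫ ((ThetaS.lineAction R).act ▷ T) ≫ u = (ThetaS.Gm R ◁ u) ≫ a.act →
        (α_ (ThetaS.Gm R) (ThetaS.Line R) T).inv ≫ ((ThetaS.lineAction R).act ▷ T) ≫ v = (ThetaS.Gm R ◁ v) ≫ a.act →
        lift ((1 : T ⟶ ThetaS.Gm R) ≫ (CoactBr.pt (ThetaS.linePt (ThetaS.zPow R 1)) : ThetaS.Gm R ⟶ ThetaS.Line R)) (𝟙 T) ≫ u =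
          lift ((1 : T ⟶ ThetaS.Gm R) ≫ (CoactBr.pt (ThetaS.linePt (ThetaS.zPow R 1)) : ThetaS.Gm R ⟶ ThetaS.Line R)) (𝟙 T) ≫ v →
        u = v) ∧
    (∀ (x : T ⟶ X) (u : ThetaS.Line R ⊗ T ⟶ X),
        ((CoactBr.pt (ThetaS.linePt (ThetaS.zPow R 1)) : ThetaS.Gm R ⟶ ThetaS.Line R) ▷ T) ≫ u = (ThetaS.Gm R ◁ x) ≫ a.act →
        (α_ (ThetaS.Gm R) (ThetaS.Line R) T).inv ≫ ((ThetaS.lineAction R).act ▷ T) ≫ u =
          (ThetaS.Gm R ◁ u) ≫ a.act) := by
  set j : ThetaS.Gm R ⟶ ThetaS.Line R := CoactBr.pt (ThetaS.linePt (ThetaS.zPow R 1)) with hj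
  have hcan : ∀ (W : Over (Spec (CommRingCat.of R))) {u v : ThetaS.Line R ⊗ W ⟶ X},
      (j ▷ W) ≫ u = (j ▷ W) ≫ v → u = v := fun W u v h =>
    whisker_cancel _ (incl_injective R) X W h
  refine ⟨fun u v hu hv he => hcan T ?_, fun x u hx => ?_⟩
  · let s : ThetaS.Gm R ⊗ T ⟶ ThetaS.Gm R ⊗ (ThetaS.Line R ⊗ T) :=
      lift (fst _ _) (lift ((1 : ThetaS.Gm R ⊗ T ⟶ ThetaS.Gm R) ≫ j) (snd _ _))
    have hs : s ≫ (α_ _ _ _).inv ≫ ((ThetaS.lineAction R).act ▷ T) = j ▷ T := by
      have h1 : lift (fst (ThetaS.Gm R) T) ((1 : ThetaS.Gm R ⊗ T ⟶ ThetaS.Gm R) ≫ j) ≫ (ThetaS.lineAction R).act =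
          fst _ _ ≫ j := by
        rw [← lift_whiskerLeft, Category.assoc, incl_equivariant, ← Category.assoc, ← Hom.mul_def, _root_.mul_one]
      have hα : s ≫ (α_ _ _ _).inv =
          lift (lift (fst (ThetaS.Gm R) T) ((1 : ThetaS.Gm R ⊗ T ⟶ ThetaS.Gm R) ≫ j)) (snd _ _) := by
        apply CartesianMonoidalCategory.hom_ext
        · apply CartesianMonoidalCategory.hom_ext <;> simp [s]
        · simp [s]
      rw [← Category.assoc, hα, lift_whiskerRight, h1]
      exact CartesianMonoidalCategory.hom_ext _ _ (by simp) (by simp)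
    have key : ∀ w : ThetaS.Line R ⊗ T ⟶ X, (α_ _ _ _).inv ≫ ((ThetaS.lineAction R).act ▷ T) ≫ w = (ThetaS.Gm R ◁ w) ≫ a.act →
        (j ▷ T) ≫ w = lift (fst _ _) (snd _ _ ≫ lift ((1 : T ⟶ ThetaS.Gm R) ≫ j) (𝟙 T) ≫ w) ≫ a.act := by
      intro w hw
      have := congrArg (s ≫ ·) hw
      simp only [reassoc_of% hs] at this
      rw [this, ← Category.assoc]
      congr 1
      simp only [s, lift_whiskerLeft]
      congr 1
      rw [← Category.assoc, comp_lift, MonObj.comp_one_assoc, Category.comp_id]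
    rw [key u hu, key v hv, he]
  · -- cancel `j` under the first factor
    let σ : ∀ M : Over (Spec (CommRingCat.of R)), M ⊗ (ThetaS.Gm R ⊗ T) ⟶ ThetaS.Gm R ⊗ (M ⊗ T) := fun M =>
      lift (snd _ _ ≫ fst _ _) (lift (fst _ _) (snd _ _ ≫ snd _ _))
    let τ : ThetaS.Gm R ⊗ (ThetaS.Line R ⊗ T) ⟶ ThetaS.Line R ⊗ (ThetaS.Gm R ⊗ T) :=
      lift (snd _ _ ≫ fst _ _) (lift (fst _ _) (snd _ _ ≫ snd _ _))
    have hτ : τ ≫ σ (ThetaS.Line R) = 𝟙 _ := by
      refine CartesianMonoidalCategory.hom_ext _ _ (by simp [σ, τ]) ?_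
      refine CartesianMonoidalCategory.hom_ext _ _ (by simp [σ, τ]) (by simp [σ, τ])
    have hσj : (j ▷ (ThetaS.Gm R ⊗ T)) ≫ σ (ThetaS.Line R) = σ (ThetaS.Gm R) ≫ (ThetaS.Gm R ◁ (j ▷ T)) := by
      refine CartesianMonoidalCategory.hom_ext _ _ (by simp [σ]) ?_
      refine CartesianMonoidalCategory.hom_ext _ _ (by simp [σ]) (by simp [σ])
    have main : (ThetaS.Gm R ◁ (j ▷ T)) ≫ (α_ _ _ _).inv ≫ ((ThetaS.lineAction R).act ▷ T) ≫ u =
        (ThetaS.Gm R ◁ (j ▷ T)) ≫ (ThetaS.Gm R ◁ u) ≫ a.act := by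
      rw [associator_inv_naturality_middle_assoc, ← comp_whiskerRight_assoc, incl_equivariant,
        comp_whiskerRight_assoc, ← MonoidalCategory.whiskerLeft_comp_assoc, hx,
        MonoidalCategory.whiskerLeft_comp_assoc, ← whisker_exchange_assoc, a.mul_act]
      simp
    have := hcan (ThetaS.Gm R ⊗ T) (u := σ (ThetaS.Line R) ≫ (α_ _ _ _).inv ≫ ((ThetaS.lineAction R).act ▷ T) ≫ u)
      (v := σ (ThetaS.Line R) ≫ (ThetaS.Gm R ◁ u) ≫ a.act) (by rw [reassoc_of% hσj, main, reassoc_of% hσj])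
    have := congrArg (τ ≫ ·) this
    simpa only [reassoc_of% hτ] using this

end Groth.Agent.S19039
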