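import Groth.Statements.S19041
import Groth.Agent.DieuGc.Basic

set_option autoImplicit false
universe u
open Dieu

namespace Groth.Agent.S19041

/-- Let `k` be a perfect field of characteristic `2` and `c` a natural number, and consider the explicit
`2c`-dimensional `k`-space on `X_1, …, X_c, Y_1, …, Y_c` with its operators `F` and `V` (`F Y_j =
0`; `F X_j = X_{j/2}` for `j` even and `Y_{c-(j-1)/2}` for `j` odd; `V Y_j = Y_{2j}` when `2j ≤ c`,
else `0`; `V X_j = Y_{2c-2j+1}` when `2j > c`, else `0`). For `j = 2^e l` with `l` odd and `c < 2j ≤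
2c`, and for `j'` with `c < 2j' ≤ 2c` and `n` with `2^n (2c - 2j' + 1) = c - (l-1)/2`, one has
`F^{e+1} X_j + V^{n+1} X_{j'} = 0`. (Stated over any perfect field of characteristic `2`; the source
works over an algebraically closed one.) -/
theorem result (c : ℕ) (k : Type u) [Field k] [CharP k 2] [PerfectRing k 2]
    (j e l : ℕ) (hj : j = 2 ^ e * l) (hl : Odd l) (hjc : j ≤ c) (hcj : c < 2 * j)
    (j' n : ℕ) (hj'c : j' ≤ c) (hcj' : c < 2 * j') (hn : 2 ^ n * (2 * c - 2 * j' + 1) = c - (l - 1) / 2) :
    (W4c6eohyperellchar2.F c k)^[e + 1] (W4c6eohyperellchar2.X c k j) + (W4c6eohyperellchar2.V c k)^[n + 1] (W4c6eohyperellchar2.X c k j') = 0 := by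
  obtain ⟨r, rfl⟩ := hl
  have hlc : 2 * r + 1 ≤ c := le_trans (hj ▸ Nat.le_mul_of_pos_left _ (by positivity)) hjc
  have hF : ∀ i ≤ e, (W4c6eohyperellchar2.F c k)^[i] (W4c6eohyperellchar2.X c k j) = W4c6eohyperellchar2.X c k (2 ^ (e - i) * (2 * r + 1)) := by
    intro i hi
    induction i with
    | zero => simp [← hj]
    | succ i ih =>
      rw [Function.iterate_succ_apply', ih (by omega), show e - i = e - (i + 1) + 1 by omega, pow_succ',
        mul_assoc, Groth.DieuGc.F_X_even _ (Nat.mul_pos (by positivity) (by omega))]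
      rw [← mul_assoc, ← pow_succ']
      exact le_trans (hj ▸ Nat.mul_le_mul_right _ (Nat.pow_le_pow_right two_pos (by omega))) hjc
  have hV : ∀ i ≤ n, (W4c6eohyperellchar2.V c k)^[i + 1] (W4c6eohyperellchar2.X c k j') = W4c6eohyperellchar2.Y c k (2 ^ i * (2 * c - 2 * j' + 1)) := by
    intro i hi
    induction i with
    | zero => simp [Groth.DieuGc.V_X j' hcj' hj'c]
    | succ i ih =>
      rw [Function.iterate_succ_apply', ih (by omega), Groth.DieuGc.V_Y _ (Nat.mul_pos (by positivity) (by omega))]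
      · rw [pow_succ', mul_assoc]
      · have := Nat.mul_le_mul_right (2 * c - 2 * j' + 1) (Nat.pow_le_pow_right two_pos hi)
        rw [hn, pow_succ', mul_assoc] at this
        omega
  rw [Function.iterate_succ_apply', hF e le_rfl, hV n le_rfl, hn, Nat.sub_self, pow_zero, one_mul,
    Groth.DieuGc.F_X_odd _ hlc, show (2 * r + 1 - 1) / 2 = r by omega, ← two_smul k,
    CharTwo.two_eq_zero, zero_smul]

end Groth.Agent.S19041
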