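import Groth.Statements.S19043
import Groth.Agent.DieuGc.Basic

set_option autoImplicit false
universe u
open Dieu

namespace Groth.Agent.S19043

/-- Let `k` be a perfect field of characteristic `2` and `c` a natural number, and let `M` be the
explicit `2c`-dimensional `k`-space on `X_1, …, X_c, Y_1, …, Y_c` with its operators `F` and `V` (`F
Y_j = 0`; `F X_j = X_{j/2}` for `j` even and `Y_{c-(j-1)/2}` for `j` odd; `V Y_j = Y_{2j}` when `2j
≤ c`, else `0`; `V X_j = Y_{2c-2j+1}` when `2j > c`, else `0`). The classes of the `X_j` with `c <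
2j ≤ 2c` in the quotient of `M` by the `k`-span of `F(M) ∪ V(M)` are linearly independent and span
that quotient. (Stated over any perfect field of characteristic `2`; the source works over an
algebraically closed one.) -/
theorem result (c : ℕ) (k : Type u) [Field k] [CharP k 2] [PerfectRing k 2] :
    LinearIndependent k (fun j : {j : ℕ // c < 2 * j ∧ j ≤ c} =>
        Submodule.mkQ (Submodule.span k (Set.range (W4c6eohyperellchar2.F c k) ∪ Set.range (W4c6eohyperellchar2.V c k))) (W4c6eohyperellchar2.X c k j.1)) ∧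
      Submodule.span k (Set.range (fun j : {j : ℕ // c < 2 * j ∧ j ≤ c} =>
        Submodule.mkQ (Submodule.span k (Set.range (W4c6eohyperellchar2.F c k) ∪ Set.range (W4c6eohyperellchar2.V c k))) (W4c6eohyperellchar2.X c k j.1))) = ⊤ := by
  set S := Submodule.span k (Set.range (W4c6eohyperellchar2.F c k) ∪ Set.range (W4c6eohyperellchar2.V c k)) with hS
  have hmemS : ∀ v, (v ∈ S → ∀ n, c < 2 * n → n ≤ c → W4c6eohyperellchar2.coefX v n = 0) := by
    intro v hv
    induction hv using Submodule.span_induction with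
    | mem x hx =>
      intro n h1 h2
      rcases hx with ⟨w, rfl⟩ | ⟨w, rfl⟩
      · rw [Groth.DieuGc.coefX_F _ _ (by omega) h2, Groth.DieuGc.coefX_eq_zero (by omega)]; simp
      · exact Groth.DieuGc.coefX_V _ _
    | zero => simp
    | add x y _ _ hx hy => intro n a b; rw [Groth.DieuGc.coefX_add, hx n a b, hy n a b, add_zero]
    | smul a x _ hx => intro n p q; rw [Groth.DieuGc.coefX_smul, hx n p q, mul_zero]
  refine ⟨?_, ?_⟩
  · classical
    rw [linearIndependent_iff']
    intro s g hsum i hi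
    have hsum' : S.mkQ (∑ j ∈ s, g j • W4c6eohyperellchar2.X c k j.1) = 0 := by
      rw [map_sum]; simpa only [map_smul] using hsum
    rw [Submodule.mkQ_apply, Submodule.Quotient.mk_eq_zero] at hsum'
    have h0 := hmemS _ hsum' i.1 i.2.1 i.2.2
    have hcoef : ∀ (t : Finset {j : ℕ // c < 2 * j ∧ j ≤ c}),
        W4c6eohyperellchar2.coefX (∑ j ∈ t, g j • W4c6eohyperellchar2.X c k j.1) i.1 = if i ∈ t then g i else 0 := by
      intro t
      induction t using Finset.induction with
      | empty => simp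
      | @insert a t ha ih =>
        rw [Finset.sum_insert ha, Groth.DieuGc.coefX_add, ih, Groth.DieuGc.coefX_smul, Groth.DieuGc.coefX_X]
        by_cases h : a = i
        · subst h; simp [ha, a.2.2, show 1 ≤ a.1 by omega]
        · have : a.1 ≠ i.1 := fun e => h (Subtype.ext e)
          simp [this, Ne.symm h]
    rw [hcoef, if_pos hi] at h0
    exact h0
  · rw [eq_top_iff]
    rintro q -
    obtain ⟨v, rfl⟩ := S.mkQ_surjective q

    show v ∈ Submodule.comap S.mkQ
        (Submodule.span k (Set.range (fun j : {j : ℕ // c < 2 * j ∧ j ≤ c} => S.mkQ (W4c6eohyperellchar2.X c k j.1))))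
    have hX : ∀ j : ℕ, c < 2 * j → j ≤ c → W4c6eohyperellchar2.X c k j ∈ Submodule.comap S.mkQ
        (Submodule.span k (Set.range (fun j : {j : ℕ // c < 2 * j ∧ j ≤ c} => S.mkQ (W4c6eohyperellchar2.X c k j.1)))) :=
      fun j h1 h2 => Submodule.subset_span ⟨⟨j, h1, h2⟩, rfl⟩
    have hs : ∀ w, w ∈ S → w ∈ Submodule.comap S.mkQ
        (Submodule.span k (Set.range (fun j : {j : ℕ // c < 2 * j ∧ j ≤ c} => S.mkQ (W4c6eohyperellchar2.X c k j.1)))) := by
      intro w hw
      show S.mkQ w ∈ (Submodule.span k (Set.range (fun j : {j : ℕ // c < 2 * j ∧ j ≤ c} => S.mkQ (W4c6eohyperellchar2.X c k j.1))))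
      rw [Submodule.mkQ_apply, (Submodule.Quotient.mk_eq_zero S).2 hw]
      exact zero_mem _
    obtain ⟨hx, hy⟩ := Groth.DieuGc.basis_mem _
      (fun n h1 h2 _ => hs _ (Submodule.subset_span (Or.inl ⟨_, Groth.DieuGc.F_X_even (k := k) n h1 h2⟩)))
      (fun r h1 _ => hs _ (Submodule.subset_span (Or.inl ⟨_, Groth.DieuGc.F_X_odd (k := k) r h1⟩)))
      (fun n h1 h2 _ => hs _ (Submodule.subset_span (Or.inr ⟨_, Groth.DieuGc.V_Y (k := k) n h1 h2⟩)))
      (fun n h1 h2 _ => hs _ (Submodule.subset_span (Or.inr ⟨_, Groth.DieuGc.V_X (k := k) n h1 h2⟩))) hX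
    exact Groth.DieuGc.mem_of_basis _ (fun n a b => Or.inr (hx n a b)) (fun n a b => Or.inr (hy n a b))

end Groth.Agent.S19043
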