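import Groth.Statements.S19045
import Groth.Agent.Funfld2.Quad.AS

set_option autoImplicit false
universe u v
open FunFld Groth.FunFld1

namespace Groth.Agent.S19045

/-- Let `k` be algebraically closed of characteristic `2` and `K = k(x, y)` with `y² + y = f(x)`, `K`
separable of degree `2` over `k(x)`; let `B ⊆ k` be a finite set containing `0` such that `f` has a
pole of odd order `d_β` at `x = β` for every `β ∈ B` and is integral at all other places of `k(x)`.
Then `y` is integral at the places of `K` above `x = ∞` and has order `0` at one of them, and for `α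
∈ B` and `j ∈ ℤ` the divisor of poles of `y (x - α)^j` consists of: order `max(d_α - 2j, 0)` at the
place above `α`, order exactly `d_β` above every other `β ∈ B`, order `max(j - ord_P y, 0)` at each
place `P` above `∞`, and nothing elsewhere. -/
theorem result (k : Type u) (K : Type v)
    [Field k] [IsAlgClosed k] [CharP k 2] [Field K] [Algebra k K] [Algebra (RatFunc k) K] [IsScalarTower k (RatFunc k) K]
    (hK : FunFld.IsFunctionField k K) (hdeg : Module.finrank (RatFunc k) K = 2) [Algebra.IsSeparable (RatFunc k) K]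
    (y : K) (hy : y ∉ Set.range (algebraMap (RatFunc k) K)) (f : RatFunc k)
    (heq : y ^ 2 + y = algebraMap (RatFunc k) K f)
    (B : Finset k) (h0 : (0 : k) ∈ B) (d : k → ℕ) (hd : ∀ β ∈ B, Odd (d β))
    (hpole : ∀ (p : FunFld.Place k (RatFunc k)) (β : k), β ∈ B →
      p.1 ((RatFunc.X : RatFunc k) - RatFunc.C β) < 1 → p.ord f = -(d β : ℤ))
    (hint : ∀ p : FunFld.Place k (RatFunc k), (∀ β ∈ B, 1 ≤ p.1 ((RatFunc.X : RatFunc k) - RatFunc.C β)) → p.1 f ≤ 1) :
    (∀ P : FunFld.Place k K, 1 < P.1 (algebraMap (RatFunc k) K RatFunc.X) → 0 ≤ P.ord y) ∧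
    (∃ P : FunFld.Place k K, 1 < P.1 (algebraMap (RatFunc k) K RatFunc.X) ∧ P.ord y = 0) ∧
    ∀ (α : k), α ∈ B → ∀ (j : ℤ) (P : FunFld.Place k K),
      (P.1 ((algebraMap (RatFunc k) K RatFunc.X) - (algebraMap k K α)) < 1 →
        max (-(P.ord (y * ((algebraMap (RatFunc k) K RatFunc.X) - (algebraMap k K α)) ^ j))) 0 = max ((d α : ℤ) - 2 * j) 0) ∧
      (∀ β : k, β ∈ B → β ≠ α → P.1 ((algebraMap (RatFunc k) K RatFunc.X) - (algebraMap k K β)) < 1 →
        P.ord (y * ((algebraMap (RatFunc k) K RatFunc.X) - (algebraMap k K α)) ^ j) = -(d β : ℤ)) ∧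
      (1 < P.1 (algebraMap (RatFunc k) K RatFunc.X) → max (-(P.ord (y * ((algebraMap (RatFunc k) K RatFunc.X) - (algebraMap k K α)) ^ j))) 0 = max (j - P.ord y) 0) ∧
      (P.1 (algebraMap (RatFunc k) K RatFunc.X) ≤ 1 → (∀ β : k, β ∈ B → 1 ≤ P.1 ((algebraMap (RatFunc k) K RatFunc.X) - (algebraMap k K β))) → 0 ≤ P.ord (y * ((algebraMap (RatFunc k) K RatFunc.X) - (algebraMap k K α)) ^ j)) := by
  have hF := Groth.Funfld2.Rat.isFF (k := k)
  have := Groth.Funfld2.Quad.finite hdeg
  have h2 : (2 : RatFunc k) = 0 := Groth.Funfld2.Quad.two_eq_zero_ratFunc (ringChar.eq k 2)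
  have hy0 : y ≠ 0 := fun e => hy ⟨0, by rw [e, map_zero]⟩
  have hx0 : ∀ α : k, (algebraMap (RatFunc k) K RatFunc.X) - algebraMap k K α ≠ 0 := fun α => by
    rw [← Groth.Funfld2.Quad.algebraMap_X_sub, map_ne_zero, Groth.Funfld2.Quad.X_sub_C_eq]
    exact RatFunc.algebraMap_ne_zero (Polynomial.X_sub_C_ne_zero α)
  have hinfy : ∀ P : FunFld.Place k K, 1 < P.1 (algebraMap (RatFunc k) K RatFunc.X) → 0 ≤ P.ord y :=
    fun P hP => (Groth.FunFld1.val_le_one_iff P y).1
      (Groth.Funfld2.Quad.at_infty hdeg hy heq hint h2 hP 0).1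
  have hmul : ∀ (P : FunFld.Place k K) (α : k) (j : ℤ),
      P.ord (y * ((algebraMap (RatFunc k) K RatFunc.X) - algebraMap k K α) ^ j) =
        P.ord y + j * P.ord ((algebraMap (RatFunc k) K RatFunc.X) - algebraMap k K α) := by
    intro P α j
    rw [Groth.FunFld1.ord_mul P hy0 (zpow_ne_zero _ (hx0 α)),
      Groth.FunFld1.ord_eq_of_val_eq P
        (x := ((algebraMap (RatFunc k) K RatFunc.X) - algebraMap k K α) ^ j) (n := j * -P.ord ((algebraMap (RatFunc k) K RatFunc.X) - algebraMap k K α)) (by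
        rw [map_zpow₀, Groth.FunFld1.val_eq_exp_neg_ord P (hx0 α), ← WithZero.exp_zsmul,
          smul_eq_mul])]
    ring
  refine ⟨hinfy, ?_, fun α hα j P => ⟨fun hP => ?_, fun β hβ hne hP => ?_, fun hP => ?_,
    fun hX hP => ?_⟩⟩
  · obtain ⟨pinf, hpinf⟩ : ∃ p : FunFld.Place k (RatFunc k), 1 < p.1 (RatFunc.X : RatFunc k) := by
      by_contra! hall
      have hd := hF.deg_poleDiv_eq (x := (RatFunc.X : RatFunc k)) Groth.Funfld2.Rat.transcendental_X
      have h0 : Groth.FunFld1.zeroDiv k (RatFunc.X : RatFunc k)⁻¹ = 0 := by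
        ext p
        rw [hF.zeroDiv_apply, Groth.FunFld1.ord_inv, Finsupp.zero_apply]
        have := (Groth.FunFld1.val_le_one_iff p _).1 (hall p)
        omega
      have h1 : Module.finrank (IntermediateField.adjoin k
          ({(RatFunc.X : RatFunc k)} : Set (RatFunc k))) (RatFunc k) = 1 := by
        rw [RatFunc.adjoin_X]; exact IntermediateField.finrank_top
      rw [h0, h1, Groth.FunFld1.deg_zero] at hd
      norm_num at hd
    have hf : pinf.1 f ≤ 1 := hint pinf fun β _ => by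
      rw [Valuation.map_sub_eq_of_lt_left _ (((congrArg pinf.1 (RingHom.congr_fun RatFunc.algebraMap_eq_C β)).symm.trans_le
          (pinf.2.1 β)).trans_lt hpinf)]
      exact hpinf.le
    obtain ⟨Q, hQ, hQy⟩ := Groth.Funfld2.Quad.exists_unit_above hF hdeg h2 hy heq pinf hf
    exact ⟨Q, not_le.1 fun h => not_le.2 hpinf ((Groth.FunFld1.over_le_one_iff hQ _).1 h), hQy⟩
  · obtain ⟨p, -, -, -, -, hoy, -, hox⟩ := Groth.Funfld2.Quad.at_pole hdeg hy heq hd hpole hα hP
    rw [hmul, hoy, hox]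
    congr 1
    ring
  · obtain ⟨p, -, -, -, -, hoy, -, -⟩ := Groth.Funfld2.Quad.at_pole hdeg hy heq hd hpole hβ hP
    rw [hmul, hoy, (Groth.FunFld1.val_eq_one_iff P (hx0 α)).1
      (Groth.Funfld2.Quad.sep_of_val_lt P _ hne hP), mul_zero, add_zero]
  · rw [hmul, (Groth.Funfld2.Quad.at_infty hdeg hy heq hint h2 hP α).2]
    congr 1
    ring
  · rw [hmul]
    have h1 : P.1 ((algebraMap (RatFunc k) K RatFunc.X) - algebraMap k K α) = 1 :=
      le_antisymm (Valuation.map_sub_le _ hX (P.2.1 α)) (hP α hα)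
    rw [(Groth.FunFld1.val_eq_one_iff P (hx0 α)).1 h1, mul_zero, add_zero]
    exact (Groth.FunFld1.val_le_one_iff P y).1
      (Groth.Funfld2.Quad.at_regular hdeg hy heq hint hP).1
end Groth.Agent.S19045
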