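import Groth.Statements.S19047
import Groth.Agent.Funfld2.Quad.AS

set_option autoImplicit false
universe u v
open Classical
open FunFld Groth.FunFld1

namespace Groth.Agent.S19047

/-- Let `k` be algebraically closed of characteristic `2`, `K = k(x, y)` with `y² + y = f(x)` separable
of degree `2` over `k(x)`, `B ⊆ k` a finite set containing `0` with `f` having a pole of odd order
`d_β` at `x = β` for `β ∈ B` and integral elsewhere, `c_β = (d_β - 1)/2`, and `P_β` a place of `K`
above `x = β`. With `H¹(X, O)` of the smooth projective model written as repartitions modulo `W =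
A(0) + K` (everywhere-integral repartitions plus constants) and its Frobenius induced by
componentwise squaring, for `α ∈ B` and `j ≥ 0`: the Frobenius of the class of the repartition
supported at `P_α` with value `y (x - α)^j` is the class of the one with value `y (x - α)^{2j}` when
`2j ≤ c_α`, and is `0` when `2j > c_α`. -/
theorem result (k : Type u) (K : Type v)
    [Field k] [IsAlgClosed k] [CharP k 2] [Field K] [Algebra k K] [Algebra (RatFunc k) K] [IsScalarTower k (RatFunc k) K]
    (hK : FunFld.IsFunctionField k K) (hdeg : Module.finrank (RatFunc k) K = 2) [Algebra.IsSeparable (RatFunc k) K]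
    (y : K) (hy : y ∉ Set.range (algebraMap (RatFunc k) K)) (f : RatFunc k)
    (heq : y ^ 2 + y = algebraMap (RatFunc k) K f)
    (B : Finset k) (h0 : (0 : k) ∈ B) (d : k → ℕ) (hd : ∀ β ∈ B, Odd (d β))
    (hpole : ∀ (p : FunFld.Place k (RatFunc k)) (β : k), β ∈ B →
      p.1 ((RatFunc.X : RatFunc k) - RatFunc.C β) < 1 → p.ord f = -(d β : ℤ))
    (hint : ∀ p : FunFld.Place k (RatFunc k), (∀ β ∈ B, 1 ≤ p.1 ((RatFunc.X : RatFunc k) - RatFunc.C β)) → p.1 f ≤ 1)
    (Pl : k → FunFld.Place k K) (hPl : ∀ β ∈ B, (Pl β).1 ((algebraMap (RatFunc k) K RatFunc.X) - (algebraMap k K β)) < 1)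
    (α : k) (hα : α ∈ B) (j : ℕ) :
    (4 * j + 1 ≤ d α → (Pi.single (Pl α) ((y * ((algebraMap (RatFunc k) K RatFunc.X) - (algebraMap k K α)) ^ j) ^ 2) : FunFld.Place k K → K) - (Pi.single (Pl α) (y * ((algebraMap (RatFunc k) K RatFunc.X) - (algebraMap k K α)) ^ (2 * j)) : FunFld.Place k K → K) ∈ (FunFld.AD (0 : FunFld.Divisor k K) ⊔ LinearMap.range (FunFld.diag k K))) ∧
    (d α < 4 * j + 1 → (Pi.single (Pl α) ((y * ((algebraMap (RatFunc k) K RatFunc.X) - (algebraMap k K α)) ^ j) ^ 2) : FunFld.Place k K → K) ∈ (FunFld.AD (0 : FunFld.Divisor k K) ⊔ LinearMap.range (FunFld.diag k K))) := by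
  classical
  have hF := Groth.Funfld2.Rat.isFF (k := k)
  have := Groth.Funfld2.Quad.finite hdeg
  have h2 : (2 : RatFunc k) = 0 := Groth.Funfld2.Quad.two_eq_zero_ratFunc (ringChar.eq k 2)
  have h2K : (2 : K) = 0 := by rw [← map_ofNat (algebraMap (RatFunc k) K) 2, h2, map_zero]
  obtain ⟨p, he, huniq, -, -, hoy, -, hox⟩ :=
    Groth.Funfld2.Quad.at_pole hdeg hy heq hd hpole hα (hPl α hα)
  set u := (algebraMap (RatFunc k) K RatFunc.X) - algebraMap k K α with hu
  obtain ⟨r, hr, hr'⟩ := Groth.Funfld2.Quad.exists_principal_part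
    Groth.Funfld2.Rat.isFunctionField Groth.Funfld2.Rat.genus_eq_zero p
    (f * ((RatFunc.X : RatFunc k) - RatFunc.C α) ^ (2 * j))
  have hg : (Pi.single (Pl α) (algebraMap (RatFunc k) K f * u ^ (2 * j)) :
      FunFld.Place k K → K) ∈
      FunFld.AD (0 : FunFld.Divisor k K) ⊔ LinearMap.range (FunFld.diag k K) := by
    have hsub : (Pi.single (Pl α) (algebraMap (RatFunc k) K f * u ^ (2 * j)) :
        FunFld.Place k K → K) - FunFld.diag k K (algebraMap (RatFunc k) K r) ∈
        FunFld.AD (0 : FunFld.Divisor k K) := fun Q => by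
      simp only [Pi.sub_apply, Groth.FunFld1.diag_apply, Finsupp.zero_apply, WithZero.exp_zero]
      by_cases hQ : Q = Pl α
      · subst hQ
        rw [Pi.single_eq_same, hu, ← Groth.Funfld2.Quad.algebraMap_X_sub, ← map_pow, ← map_mul,
          ← map_sub, Groth.FunFld1.overWith_le_one_iff he]
        exact hr
      · rw [Pi.single_eq_of_ne hQ, zero_sub, Valuation.map_neg]
        obtain ⟨q, hq⟩ := hF.exists_isOver Q
        rw [Groth.FunFld1.over_le_one_iff hq]
        exact hr' q fun e => hQ (huniq Q (e ▸ hq))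
    have := Submodule.add_mem_sup hsub (LinearMap.mem_range_self (FunFld.diag k K)
      (algebraMap (RatFunc k) K r))
    rwa [sub_add_cancel] at this
  have hsq : (y * u ^ j) ^ 2 = algebraMap (RatFunc k) K f * u ^ (2 * j) + y * u ^ (2 * j) := by
    rw [mul_pow, ← pow_mul, mul_comm j 2, ← heq]
    linear_combination -(y * u ^ (2 * j)) * h2K
  refine ⟨fun _ => ?_, fun hlt => ?_⟩
  · rw [hsq, Pi.single_add, add_sub_cancel_right]
    exact hg
  · rw [hsq, Pi.single_add]
    refine Submodule.add_mem _ hg (Submodule.mem_sup_left fun Q => ?_)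
    simp only [Finsupp.zero_apply, WithZero.exp_zero]
    by_cases hQ : Q = Pl α
    · subst hQ
      rw [Pi.single_eq_same]
      have hu0 : u ≠ 0 := fun e => by rw [e, Groth.FunFld1.ord_zero] at hox; omega
      have hy0 : y ≠ 0 := fun e => hy ⟨0, by rw [e, map_zero]⟩
      rw [Groth.FunFld1.val_le_one_iff, Groth.FunFld1.ord_mul _ hy0 (pow_ne_zero _ hu0), hoy,
        Groth.FunFld1.ord_eq_of_val_eq _ (x := u ^ (2 * j)) (n := -(4 * j : ℤ)) (by
          rw [map_pow, Groth.FunFld1.val_eq_exp_neg_ord _ hu0, hox, ← WithZero.exp_nsmul]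
          congr 1
          rw [nsmul_eq_mul]; push_cast; ring)]
      omega
    · rw [Pi.single_eq_of_ne hQ, map_zero]; exact zero_le
end Groth.Agent.S19047
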