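import Groth.Statements.S19048
import Groth.Agent.DieuGc.Basic

set_option autoImplicit false
universe u
open Dieu

namespace Groth.Agent.S19048

/-- Let `k` be a perfect field of characteristic `2`, `c` a natural number and `a_1, …, a_c ∈ k` with
`a_c ≠ 0`. On the `2c`-dimensional `k`-space with basis `λ_1, …, λ_c, σ_1, …, σ_c` let `F` be
Frobenius-semilinear with `F λ_j = 0`, `F σ_j = σ_{2j}` for `2j ≤ c`, `F σ_j = Σ_{i=j}^{c} a_i
λ_{2i-2j+1}` for `2j > c`, and `V` inverse-Frobenius-semilinear with `V λ_j = λ_{j/2}` (`j` even),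
`0` (`j` odd), `V σ_j = 0` (`j` even), `V σ_j = Σ_{i=(j+1)/2}^{c} a_i^{1/2} λ_{i-(j-1)/2}` (`j` odd)
— the shape of `F` and `V` on the block of the first de Rham cohomology of `y² − y = f(x)` belonging
to a branch point with invariant `d = 2c + 1`, `a_i` the coefficients of the odd polynomial `f_α`.
Put `N_i = ⟨λ_1, …, λ_i⟩` for `i ≤ c` and `N_i = ⟨λ_1, …, λ_c, σ_{2c-i+1}, …, σ_c⟩` for `c ≤ i ≤
2c`. Then for `0 ≤ i ≤ 2c`: `dim N_i = i`, `V(N_i) = N_{⌊i/2⌋}` and `F⁻¹(N_i) = N_{c+⌈i/2⌉}`; so
`(N_i)` is a final filtration with `dim V(N_i) = ⌊i/2⌋`. (The published statement adjoins the `σ_j`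
starting from `σ_1`; then `V(N_{c+1})` contains `V σ_1`, whose `λ_c`-coefficient is a square root of
`a_c ≠ 0`, so it is not `N_{⌊(c+1)/2⌋}` once `c ≥ 2`; adjoining them from `σ_c` downward, as here,
makes both identities hold.) -/
theorem result (c : ℕ) (k : Type u) [Field k] [CharP k 2] [PerfectRing k 2]
    (a : ℕ → k) (ha : a c ≠ 0) (i : ℕ) (hi : i ≤ 2 * c) :
    Module.finrank k (W4c6eohyperellchar2.Nfil c k i) = i ∧
      W4c6eohyperellchar2.NV c k a '' (W4c6eohyperellchar2.Nfil c k i : Set (W4c6eohyperellchar2.GcMod c k)) = (W4c6eohyperellchar2.Nfil c k (i / 2) : Set (W4c6eohyperellchar2.GcMod c k)) ∧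
      W4c6eohyperellchar2.NF c k a ⁻¹' (W4c6eohyperellchar2.Nfil c k i : Set (W4c6eohyperellchar2.GcMod c k)) = (W4c6eohyperellchar2.Nfil c k (c + (i + 1) / 2) : Set (W4c6eohyperellchar2.GcMod c k)) := by
  refine ⟨Groth.DieuGc.finrank_Nfil i hi, ?_, ?_⟩
  · ext w
    have hNVY : ∀ (v : W4c6eohyperellchar2.GcMod c k) (m : ℕ), 1 ≤ m → m ≤ c →
        W4c6eohyperellchar2.coefY (W4c6eohyperellchar2.NV c k a v) m =
          (frobeniusEquiv k 2).symm (W4c6eohyperellchar2.coefY v (2 * m)) +
            ∑ j : Fin c, if (j.val + 1) % 2 = 1 ∧ m + j.val / 2 ≤ c then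
              (frobeniusEquiv k 2).symm (v.1 j * a (m + j.val / 2)) else 0 := by
      intro v m h1 h2
      unfold W4c6eohyperellchar2.NV
      rw [W4c6eohyperellchar2.coefY, dif_pos ⟨h1, h2⟩]
      simp only [show m - 1 + 1 = m by omega]
    have hNVX : ∀ (v : W4c6eohyperellchar2.GcMod c k) (m : ℕ),
        W4c6eohyperellchar2.coefX (W4c6eohyperellchar2.NV c k a v) m = 0 := fun v m => by
      simp [W4c6eohyperellchar2.NV, W4c6eohyperellchar2.coefX]
    have hadd : ∀ v v', W4c6eohyperellchar2.NV c k a (v + v') =
        W4c6eohyperellchar2.NV c k a v + W4c6eohyperellchar2.NV c k a v' := by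
      intro v v'
      refine Prod.ext (by simp [W4c6eohyperellchar2.NV]) (funext fun l => ?_)
      simp only [W4c6eohyperellchar2.NV, Prod.snd_add, Prod.fst_add, Pi.add_apply, Groth.DieuGc.coefY_add, map_add, add_mul]
      rw [add_add_add_comm, ← Finset.sum_add_distrib]
      congr 1
      refine Finset.sum_congr rfl fun j _ => ?_
      split <;> simp
    constructor
    · rintro ⟨v, hv, rfl⟩
      obtain ⟨hvy, hvx⟩ := Groth.DieuGc.mem_Nfil.1 hv
      refine Groth.DieuGc.mem_Nfil.2 ⟨fun m hm him => ?_, fun m _ _ => hNVX v m⟩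
      rw [hNVY v m (by omega) hm]
      have h1 : W4c6eohyperellchar2.coefY v (2 * m) = 0 := by
        by_cases h : 2 * m ≤ c
        · exact hvy _ h (by omega)
        · exact Groth.DieuGc.coefY_eq_zero (by omega)
      rw [h1, map_zero, zero_add]
      refine Finset.sum_eq_zero fun j _ => ?_
      split_ifs with h
      · have := hvx (j.val + 1) (by omega) (by omega)
        rw [Groth.DieuGc.coefX_fin] at this
        simp [this]
      · rfl
    · intro hw
      obtain ⟨hwy, hwx⟩ := Groth.DieuGc.mem_Nfil.1 hw
      let I : AddSubmonoid (W4c6eohyperellchar2.GcMod c k) :=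
        { carrier := W4c6eohyperellchar2.NV c k a '' (W4c6eohyperellchar2.Nfil c k i : Set (W4c6eohyperellchar2.GcMod c k))
          zero_mem' := ⟨0, zero_mem _, by
            refine Prod.ext (by simp [W4c6eohyperellchar2.NV]) (funext fun l => ?_)
            simp [W4c6eohyperellchar2.NV]⟩
          add_mem' := by
            rintro _ _ ⟨x, hx, rfl⟩ ⟨y, hy, rfl⟩
            exact ⟨x + y, add_mem hx hy, hadd x y⟩ }
      suffices key : ∀ m, 1 ≤ m → m ≤ i / 2 → ∀ s : k, s • W4c6eohyperellchar2.Y c k m ∈ I by
        show w ∈ I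
        rw [Groth.DieuGc.decomp w]
        refine add_mem (AddSubmonoid.sum_mem _ fun j _ => ?_) (AddSubmonoid.sum_mem _ fun j _ => ?_)
        · have := hwx (j.val + 1) (by omega) (by omega)
          rw [Groth.DieuGc.coefX_fin] at this
          simp [this]
        · by_cases h : j.val + 1 ≤ i / 2
          · exact key _ (by omega) h _
          · have := hwy (j.val + 1) (by omega) (by omega)
            rw [Groth.DieuGc.coefY_fin] at this
            simp [this]
      intro m
      induction m using Nat.strong_induction_on with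
      | _ m ih =>
        intro hm1 hm2 s
        by_cases h2m : 2 * m ≤ c
        · refine ⟨(s ^ 2) • W4c6eohyperellchar2.Y c k (2 * m), Submodule.smul_mem _ _ (Groth.DieuGc.mem_Nfil.2
            ⟨fun n hn hin => by rw [Groth.DieuGc.coefY_Y, if_neg]; omega, fun n _ _ => Groth.DieuGc.coefX_Y⟩), ?_⟩
          refine Groth.DieuGc.ext' (fun n _ _ => by rw [hNVX, Groth.DieuGc.coefX_smul, Groth.DieuGc.coefX_Y, mul_zero]) fun n h1 h2 => ?_
          rw [hNVY _ _ h1 h2, Groth.DieuGc.coefY_smul, Groth.DieuGc.coefY_smul, Groth.DieuGc.coefY_Y, Groth.DieuGc.coefY_Y]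
          have hz : ∀ j : Fin c, (s ^ 2 • W4c6eohyperellchar2.Y c k (2 * m)).1 j = 0 := fun j => by simp [W4c6eohyperellchar2.Y]
          simp only [hz, zero_mul, map_zero, ite_self, Finset.sum_const_zero, add_zero]
          rw [RingEquiv.symm_apply_eq, frobeniusEquiv_apply, frobenius_def]
          split_ifs <;> first | (exfalso; omega) | simp
        · let j₀ : Fin c := ⟨2 * (c - m), by omega⟩
          let t : k := s ^ 2 / a c
          let v := t • W4c6eohyperellchar2.X c k (2 * (c - m) + 1)
          have hv1 : ∀ j : Fin c, v.1 j = if j = j₀ then t else 0 := by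
            intro j
            simp [v, W4c6eohyperellchar2.X, j₀, Fin.ext_iff]
          have hv : v ∈ W4c6eohyperellchar2.Nfil c k i := Submodule.smul_mem _ _ (Groth.DieuGc.mem_Nfil.2
            ⟨fun n _ _ => Groth.DieuGc.coefY_X, fun n hn hin => by rw [Groth.DieuGc.coefX_X, if_neg]; omega⟩)
          have hval : ∀ n, 1 ≤ n → n ≤ c → W4c6eohyperellchar2.coefY (W4c6eohyperellchar2.NV c k a v) n =
              if n ≤ m then (frobeniusEquiv k 2).symm (t * a (n + (c - m))) else 0 := by
            intro n h1 h2
            rw [hNVY v n h1 h2, Groth.DieuGc.coefY_smul, Groth.DieuGc.coefY_X, mul_zero, map_zero, zero_add,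
              Finset.sum_eq_single j₀]
            · rw [hv1, if_pos rfl]
              simp only [j₀, show 2 * (c - m) / 2 = c - m by omega]
              split_ifs <;> first | rfl | omega
            · intro b _ hb; rw [hv1, if_neg hb]; simp
            · simp
          let low : Fin m → W4c6eohyperellchar2.GcMod c k := fun p =>
            (if p.val = 0 then 0 else (frobeniusEquiv k 2).symm (t * a (p.val + (c - m)))) • W4c6eohyperellchar2.Y c k p.val
          have hlow : ∑ p, low p ∈ I := by
            refine AddSubmonoid.sum_mem _ fun p _ => ?_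
            by_cases hp : p.val = 0
            · simp [low, hp]
            · simp only [low, if_neg hp]
              exact ih p p.2 (by omega) (by omega) _
          have hneg : W4c6eohyperellchar2.NV c k a v + ∑ p, low p = s • W4c6eohyperellchar2.Y c k m := by
            refine Groth.DieuGc.ext' (fun n h1 h2 => ?_) (fun n h1 h2 => ?_)
            · have : ∀ T : Finset (Fin m), W4c6eohyperellchar2.coefX (∑ p ∈ T, low p) n = 0 := fun T => by
                induction T using Finset.induction with
                | empty => simp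
                | @insert b T hb iT => rw [Finset.sum_insert hb, Groth.DieuGc.coefX_add, iT, Groth.DieuGc.coefX_smul, Groth.DieuGc.coefX_Y]; simp
              rw [Groth.DieuGc.coefX_add, hNVX, this, Groth.DieuGc.coefX_smul, Groth.DieuGc.coefX_Y]; simp
            · have : ∀ T : Finset (Fin m), W4c6eohyperellchar2.coefY (∑ p ∈ T, low p) n =
                  ∑ p ∈ T, if p.val = n then (frobeniusEquiv k 2).symm (t * a (n + (c - m))) else 0 := fun T => by
                induction T using Finset.induction with
                | empty => simp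
                | @insert b T hb iT =>
                  rw [Finset.sum_insert hb, Finset.sum_insert hb, Groth.DieuGc.coefY_add, iT, Groth.DieuGc.coefY_smul, Groth.DieuGc.coefY_Y]
                  congr 1
                  by_cases h : b.val = n
                  · simp [h, h1, h2, show n ≠ 0 by omega]
                  · simp [h]
              rw [Groth.DieuGc.coefY_add, hval n h1 h2, this, Groth.DieuGc.coefY_smul, Groth.DieuGc.coefY_Y]
              rcases lt_trichotomy n m with hn | rfl | hn
              · rw [if_pos hn.le, Finset.sum_eq_single ⟨n, hn⟩ (fun b _ hb => if_neg fun e => hb (Fin.ext e)) (by simp),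
                  if_pos rfl, CharTwo.add_self_eq_zero, if_neg (by omega), mul_zero]
              · rw [if_pos le_rfl, Finset.sum_eq_zero (fun b _ => if_neg (by omega)), add_zero,
                  if_pos ⟨rfl, h1, h2⟩, mul_one, RingEquiv.symm_apply_eq, frobeniusEquiv_apply, frobenius_def,
                  show n + (c - n) = c by omega, div_mul_cancel₀ _ ha]
              · rw [if_neg (by omega), Finset.sum_eq_zero (fun b _ => if_neg (by omega)), add_zero, if_neg (by omega), mul_zero]
          rw [← hneg]
          exact add_mem ⟨v, hv, rfl⟩ hlow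
  · ext v
    simp only [Set.mem_preimage, SetLike.mem_coe, Groth.DieuGc.mem_Nfil]
    have hNFY : ∀ m, 1 ≤ m → m ≤ c → W4c6eohyperellchar2.coefY (W4c6eohyperellchar2.NF c k a v) m =
        if m % 2 = 1 then ∑ j : Fin c, (if c < 2 * (j.val + 1) ∧ (j.val + 1) + (m - 1) / 2 ≤ c then
          v.1 j ^ 2 * a ((j.val + 1) + (m - 1) / 2) else 0) else 0 := by
      intro m h1 h2
      unfold W4c6eohyperellchar2.NF
      rw [W4c6eohyperellchar2.coefY, dif_pos ⟨h1, h2⟩]
      simp only [show m - 1 + 1 = m by omega]
    have hNFX : ∀ m, 1 ≤ m → m ≤ c → W4c6eohyperellchar2.coefX (W4c6eohyperellchar2.NF c k a v) m =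
        if m % 2 = 0 then W4c6eohyperellchar2.coefX v (m / 2) ^ 2 else 0 := by
      intro m h1 h2
      unfold W4c6eohyperellchar2.NF
      rw [W4c6eohyperellchar2.coefX, dif_pos ⟨h1, h2⟩]
      simp only [show m - 1 + 1 = m by omega]
    have hfin : ∀ j : Fin c, W4c6eohyperellchar2.coefX v (j.val + 1) = v.1 j := fun j => by
      exact Groth.DieuGc.coefX_fin v j
    constructor
    · rintro ⟨hy, hx⟩
      refine ⟨fun n h1 h2 => by omega, fun n => ?_⟩
      induction n using Nat.strong_induction_on with
      | _ n ih =>
        intro hn hni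
        rcases Nat.eq_zero_or_pos n with rfl | hpos
        · exact Groth.DieuGc.coefX_eq_zero (by omega)
        by_cases h2n : 2 * n ≤ c
        · have := hx (2 * n) h2n (by omega)
          rw [hNFX _ (by omega) h2n, if_pos (by omega), show 2 * n / 2 = n by omega] at this
          exact pow_eq_zero_iff (two_ne_zero) |>.1 this
        · have := hy (2 * (c - n) + 1) (by omega) (by omega)
          rw [hNFY _ (by omega) (by omega), if_pos (by omega), show (2 * (c - n) + 1 - 1) / 2 = c - n by omega,
            Finset.sum_eq_single ⟨n - 1, by omega⟩] at this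
          · rw [← hfin] at this
            simp only [show n - 1 + 1 = n by omega, show n + (c - n) = c by omega] at this
            rw [if_pos (by omega)] at this
            exact pow_eq_zero_iff (two_ne_zero) |>.1 ((mul_eq_zero_iff_right ha).1 this)
          · intro b _ hb
            split_ifs with h
            · rw [← hfin, ih _ (by have := Fin.val_ne_iff.2 hb; simp at this; omega) (by omega) (by omega)]; simp
            · rfl
          · simp
    · rintro ⟨-, hx⟩
      refine ⟨fun n h1 h2 => ?_, fun n h1 h2 => ?_⟩
      · rw [hNFY n (by omega) h1]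
        split_ifs with h
        · refine Finset.sum_eq_zero fun j _ => ?_
          split_ifs with h'
          · rw [← hfin, hx _ (by omega) (by omega)]; simp
          · rfl
        · rfl
      · rcases Nat.eq_zero_or_pos n with rfl | hpos
        · exact Groth.DieuGc.coefX_eq_zero (by omega)
        rw [hNFX n hpos h1]
        split_ifs with h
        · rw [hx _ (by omega) (by omega)]; simp
        · rfl

end Groth.Agent.S19048
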