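import Groth.Statements.S1905
import Groth.Agent.Cycles.FlatDiv
-- import your own Groth.Agent.* helpers here

set_option autoImplicit false
universe u
open CategoryTheory AlgebraicGeometry
open Cyc

namespace Groth.Agent.S1905

/-- Let f : X → Y be a flat morphism, locally of finite type, of relative dimension r between integral
schemes, and g a nonzero rational function on Y, taken in the residue field at f(η_X) (the generic
point of Y). Then f^*(div_Y g) = div_X(g ∘ f) coefficientwise, where g ∘ f is the image of g in
κ(η_X). A pair (X, δ) with Cyc.IsSetup plays the role of a scheme locally of finite type over a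
fixed base with a dimension function (X locally Noetherian with universally catenary local rings, δ
a dimension function), and Cyc.DeltaCompat records that the dimension function upstairs is the
induced one. -/
theorem result (X Y : Scheme.{u}) [IsIntegral X] [IsIntegral Y] (δX : X → ℤ) (δY : Y → ℤ) (hX : Cyc.IsSetup X δX) (hY : Cyc.IsSetup Y δY) (f : X ⟶ Y) [Flat f] [LocallyOfFiniteType f] (r : ℕ) (hr : Cyc.HasRelDim f r) (hδ : Cyc.DeltaCompat f δX δY) (g : Y.residueField (f (genericPoint X))) (hg : g ≠ 0) : Cyc.pullFun f δX δY r (Cyc.divFun δY (f (genericPoint X)) g) = Cyc.divFun δX (genericPoint X) (f.residueFieldMap (genericPoint X) g) := by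
  have hmax : ∀ z : X, z ⤳ genericPoint X → z = genericPoint X := fun z hz =>
    (hz.antisymm (genericPoint_specializes z)).eq
  funext x
  rw [Groth.Cycles.pullFun_divFun δX δY hX hY f r (fun x hx => Groth.Cycles.delta_eq_add_of_isFibreGeneric f hr hδ hx) (f (genericPoint X))
    (Groth.Cycles.apply_eq_genericPoint_of_max f hmax) g hg x]
  rw [finsum_eq_single _ ⟨genericPoint X, hmax, rfl⟩ fun ξ hξ =>
    absurd (Subtype.ext (ξ.2.1 _ (genericPoint_specializes ξ.1)).symm) hξ]
  have hlen : Module.length (X.presheaf.stalk (genericPoint X)) (X.presheaf.stalk (genericPoint X)) = 1 := by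
    have : IsSimpleOrder (Ideal (X.presheaf.stalk (genericPoint X))) :=
      inferInstanceAs (IsSimpleOrder (Ideal X.functionField))
    exact Module.length_eq_one_iff.mpr (isSimpleModule_iff _ _ |>.mpr this)
  simp only [Groth.Cycles.pullTerm, hlen]
  simp

end Groth.Agent.S1905
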