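import Groth.Statements.S19051
import Groth.Agent.NonPureEnd.IdealEnd
import Groth.Agent.ModelsGraphs.GlobalFunctions
import Groth.Agent.NeronArea.SmoothLocusNMP
import Groth.Agent.Misc12.ExcDivisor
import Groth.Agent.GrpschAbsch.UnitalMul

set_option autoImplicit false
open CategoryTheory CategoryTheory.Limits AlgebraicGeometry
universe u
open NonPure

namespace Groth.Agent.S19051

/-- Let K be a field and X an integral K-scheme, smooth, proper and geometrically irreducible over K, of
dimension at least 2, with an invertible ample O_X-module L (the polarisation for Hilbert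
polynomials) and an integer ℓ ≥ 1. Let A_j (j ∈ J) be sets of closed subschemes of X (quasi-coherent
ideal sheaves), each member integral and different from X. Assume condition (†)(1) over K — every
nonzero morphism I_{W'} → I_W between the ideal sheaves (as O_X-modules) of members W ∈ A_j, W' ∈
A_{j'} is an isomorphism — and condition (†)(2) over K: for W ∈ A_j, Y ∈ A_{j'} and every coherent
torsion-free O_Y-module G of generic rank one whose Hilbert polynomial is P_{O_Y} − ℓ, every
morphism I_W → i_*G vanishes (I_W the ideal sheaf of W as an O_X-module, i : Y → X the inclusion).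
Let F be a sheaf of torsion type: a short exact sequence 0 → i_*G → F → I_W → 0 with W and Y in the
same A_j and G a coherent torsion-free O_Y-module of generic rank one with Hilbert polynomial
P_{O_Y} − ℓ. If for some W' ∈ A_{j'} there is a nonzero morphism I_{W'} → F, then: the sequence
splits; I_W ≅ I_{W'} (existence of an isomorphism); Hom(I_W, F) is a one-dimensional K-vector space;
and every morphism I_{W'} → F factors through any splitting I_W → F. (In the published statement X
is the base change to K of a fixed smooth projective geometrically connected variety and the A_j are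
the K-points of the connected components α_j of a fixed open and closed α ⊆ Hilb(X) whose points are
geometrically integral and geometrically normal or divisors, with (†) asked over every field
extension; the row keeps exactly what the printed argument uses over K, and makes explicit that
members of α are proper closed subschemes.) -/
theorem result
    (K : Type u) [Field K] (X : Scheme.{u}) [X.Over (Spec (CommRingCat.of K))]
    [IsIntegral X] [Smooth (X ↘ Spec (CommRingCat.of K))] [IsProper (X ↘ Spec (CommRingCat.of K))]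
    [GeometricallyIrreducible (X ↘ Spec (CommRingCat.of K))]
    (hdim : 2 ≤ topologicalKrullDim X)
    (L : X.Modules) (hLi : PicF.IsInvertible L) (hLa : CohB1.IsAmple L)
    (ℓ : ℕ) (hℓ : 0 < ℓ)
    (J : Type u) (A : J → Set X.IdealSheafData)
    (hA : ∀ j, ∀ W ∈ A j, IsIntegral W.subscheme ∧ W ≠ ⊥)
    (dag1 : ∀ j j', ∀ W ∈ A j, ∀ W' ∈ A j', ∀ φ : ClSub.idealMod W' ⟶ ClSub.idealMod W,
      φ ≠ 0 → IsIso φ)
    (dag2 : ∀ j j', ∀ W ∈ A j, ∀ Y ∈ A j', ∀ (hY : IsIntegral Y.subscheme) (G : Y.subscheme.Modules),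
      Coh.IsCoh G → TorSh.IsTorsionFree G →
      (haveI := hY
       Module.finrank (Y.subscheme.presheaf.stalk (genericPoint Y.subscheme))
        (G.presheaf.stalk (genericPoint Y.subscheme)) = 1) →
      (letI : Y.subscheme.Over (Spec (CommRingCat.of K)) := ⟨Y.subschemeι ≫ (X ↘ Spec (CommRingCat.of K))⟩
       ∃ P : Polynomial ℚ,
        ShStab.IsHilbPoly K Y.subscheme ((Scheme.Modules.pullback Y.subschemeι).obj L)
          (Coh.structureModule Y.subscheme) P ∧
        ShStab.IsHilbPoly K Y.subscheme ((Scheme.Modules.pullback Y.subschemeι).obj L) G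
          (P - Polynomial.C (ℓ : ℚ))) →
      ∀ φ : ClSub.idealMod W ⟶ (Coh.push Y.subschemeι).obj G, φ = 0)
    (j : J) (W : X.IdealSheafData) (hW : W ∈ A j) (Y : X.IdealSheafData) (hYA : Y ∈ A j)
    [IsIntegral Y.subscheme] (G : Y.subscheme.Modules) (hGc : Coh.IsCoh G) (hGt : TorSh.IsTorsionFree G)
    (hGr : Module.finrank (Y.subscheme.presheaf.stalk (genericPoint Y.subscheme))
        (G.presheaf.stalk (genericPoint Y.subscheme)) = 1)
    (hGP : letI : Y.subscheme.Over (Spec (CommRingCat.of K)) := ⟨Y.subschemeι ≫ (X ↘ Spec (CommRingCat.of K))⟩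
       ∃ P : Polynomial ℚ,
        ShStab.IsHilbPoly K Y.subscheme ((Scheme.Modules.pullback Y.subschemeι).obj L)
          (Coh.structureModule Y.subscheme) P ∧
        ShStab.IsHilbPoly K Y.subscheme ((Scheme.Modules.pullback Y.subschemeι).obj L) G
          (P - Polynomial.C (ℓ : ℚ)))
    (F : X.Modules) (a : (Coh.push Y.subschemeι).obj G ⟶ F) (q : F ⟶ ClSub.idealMod W)
    (w : a ≫ q = 0) (hex : (ShortComplex.mk a q w).ShortExact)
    (j' : J) (W' : X.IdealSheafData) (hW' : W' ∈ A j')
    (hne : ∃ φ : ClSub.idealMod W' ⟶ F, φ ≠ 0) :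
    (∃ σ : ClSub.idealMod W ⟶ F, σ ≫ q = 𝟙 _) ∧
    Nonempty (ClSub.idealMod W ≅ ClSub.idealMod W') ∧
    Module.Finite K (ClSub.idealMod W ⟶ F) ∧ Module.finrank K (ClSub.idealMod W ⟶ F) = 1 ∧
    (∀ σ : ClSub.idealMod W ⟶ F, σ ≫ q = 𝟙 _ →
      ∀ f : ClSub.idealMod W' ⟶ F, ∃ g : ClSub.idealMod W' ⟶ ClSub.idealMod W, f = g ≫ σ) := by
  obtain ⟨φ₀, hφ₀⟩ := hne
  haveI : Mono a := hex.mono_f
  have hkill : ∀ (j₁ : J) (V : X.IdealSheafData), V ∈ A j₁ → ∀ h : ClSub.idealMod V ⟶ F, h ≫ q = 0 → h = 0 := by
    intro j₁ V hV h hh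
    let l := KernelFork.IsLimit.lift' hex.fIsKernel h hh
    rw [show h = l.1 ≫ a from l.2.symm,
      show l.1 = 0 from dag2 j₁ j V hV Y hYA ‹IsIntegral Y.subscheme› G hGc hGt hGr hGP l.1]
    exact zero_comp
  have hq₀ : φ₀ ≫ q ≠ 0 := fun h => hφ₀ (hkill j' W' hW' φ₀ h)
  haveI := dag1 j j' W hW W' hW' (φ₀ ≫ q) hq₀
  let σ : ClSub.idealMod W ⟶ F := inv (φ₀ ≫ q) ≫ φ₀
  have hσ : σ ≫ q = 𝟙 _ := by rw [Category.assoc, IsIso.inv_hom_id]
  have hid : (𝟙 (ClSub.idealMod W) : ClSub.idealMod W ⟶ ClSub.idealMod W) ≠ 0 := fun h => hq₀ (by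
    rw [← Category.comp_id (φ₀ ≫ q), h, comp_zero])
  have hnorm : Pi1.IsNormalScheme X := Groth.NeronArea.isNormalScheme_of_smooth
    (X ↘ Spec (CommRingCat.of K)) (Groth.Misc12.ExcDivisor.isNormalScheme_spec K)
  haveI : IsLocallyNoetherian X :=
    LocallyOfFiniteType.isLocallyNoetherian (X ↘ Spec (CommRingCat.of K))
  haveI := Groth.GrpschAbsch.UnitalMul.geometricallyConnected_of_geometricallyIrreducible (X ↘ Spec (CommRingCat.of K))
  have hglob := Groth.ModelsGraphs.GlobalFun.appTop_bijective_of_geometricallyConnected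
    (X ↘ Spec (CommRingCat.of K))
  let L₀ : K →ₗ[K] (ClSub.idealMod W ⟶ F) := LinearMap.toSpanSingleton K _ σ
  have hL₀ : Function.Bijective L₀ := by
    refine ⟨(injective_iff_map_eq_zero _).2 fun c hc => ?_, fun f => ?_⟩
    · by_contra hc0
      refine hid ?_
      have h1 : σ = 0 := by
        have h2 := congrArg (fun t => c⁻¹ • t) hc
        simpa [L₀, smul_smul, hc0] using h2
      rw [← hσ, h1, zero_comp]
    · obtain ⟨g, hg⟩ := Groth.NonPureEnd.exists_global_scalar hnorm W (hA j W hW).2 (f ≫ q)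
      obtain ⟨r, hr⟩ := hglob.2 g
      let c : K := (Scheme.ΓSpecIso (CommRingCat.of K)).hom r
      have hc : Coh.toGlobal (X ↘ Spec (CommRingCat.of K)) c = g := by
        rw [← hr]
        exact congrArg _ (congr(($((Scheme.ΓSpecIso (CommRingCat.of K)).hom_inv_id)) r))
      refine ⟨c, sub_eq_zero.1 (hkill j W hW _ ?_)⟩
      rw [Preadditive.sub_comp, sub_eq_zero]
      change (c • σ) ≫ q = f ≫ q
      rw [Linear.smul_comp, hσ]
      ext V s
      change (c • 𝟙 (ClSub.idealMod W)).app V s = _
      rw [KLin.smul_app_apply, hg V s, hc]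
      rfl
  refine ⟨⟨σ, hσ⟩, ⟨(asIso (φ₀ ≫ q)).symm⟩, Module.Finite.equiv (LinearEquiv.ofBijective L₀ hL₀), ?_, ?_⟩
  · exact (LinearEquiv.ofBijective L₀ hL₀).finrank_eq.symm.trans (Module.finrank_self K)
  · intro τ hτ f
    refine ⟨f ≫ q, sub_eq_zero.1 (hkill j' W' hW' _ ?_)⟩
    rw [Preadditive.sub_comp, Category.assoc, Category.assoc, hτ, Category.comp_id, sub_self]

end Groth.Agent.S19051
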