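import Groth.Statements.S19059
import Groth.Agent.FibreVA.NormalGen

set_option autoImplicit false
universe u
open CategoryTheory CategoryTheory.Limits AlgebraicGeometry Opposite
open Curves

namespace Groth.Agent.S19059

/-- Let R be a Noetherian ring and f : X ⟶ Spec R a relative curve (proper and smooth, with
geometrically connected fibres of dimension one). Let L be an ample invertible O_X-module which is
normally generated, i.e. for every n ≥ 1 the global sections of L^(n+1) = L^n ⊗ L are additively
generated by the products m ⊗ s of a global section m of L^n and a global section s of L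
(equivalently, the n-fold tensor powers of the global sections of L map onto the global sections of
L^n for all n ≥ 1). Then L is very ample relative to f: there is an immersion i : X ⟶ P^N over Spec
R with L ≅ i^*O(1). (The projectivity of X over Spec R assumed in the source follows here from the
ampleness of L.) -/
theorem result (R : Type u) [CommRing R] [IsNoetherianRing R]
    {X : Scheme.{u}} (f : X ⟶ Spec (CommRingCat.of R)) [IsProper f] [Smooth f] [GeometricallyConnected f]
    (hdim : ∀ s : Spec (CommRingCat.of R), topologicalKrullDim ↥(f.fiber s) = 1)
    (L : X.Modules) (hL : PicF.IsInvertible L) (hLa : CohB1.IsAmple L)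
    (hng : ∀ n : ℕ, 1 ≤ n → AddSubgroup.closure {t | ∃ (m : (CohB1.tensorPow L n).val.obj (op ⊤)) (s : L.val.obj (op ⊤)), t = SecTwist.tmul (CohB1.tensorPow L n) L ⊤ m s} = ⊤) :
    RelAmple.IsRelVeryAmplePn f L := by
  exact Groth.FibreVA.NormalGen.isRelVeryAmplePn f hLa hng

end Groth.Agent.S19059
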