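import Groth.Statements.S19060
import Groth.Agent.CohBase.CxBaseChange
import Groth.Agent.CohBase.LocalModel
import Groth.Agent.Limits.FibreVanishingGeneral

set_option autoImplicit false
set_option backward.isDefEq.respectTransparency.types false
universe u
open CategoryTheory CategoryTheory.Limits AlgebraicGeometry Opposite
open Curves

namespace Groth.Agent.S19060

/-- Let R be a Noetherian ring and X a relative curve over Spec R (proper and smooth, with geometrically
connected fibres of dimension one, and projective: X carries an ample invertible module). Let F be a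
coherent O_X-module which is flat over Spec R (every stalk is a flat module over the local ring of
the base). If H^1(X, F) is a projective R-module, then H^0(X, F) is a projective R-module. (The
source says only that F is an O_X-module flat over the base; F is taken coherent here, as the
finiteness of its cohomology over R used there requires.) -/
theorem result (R : Type u) [CommRing R] [IsNoetherianRing R]
    (X : Scheme.{u}) [X.Over (Spec (CommRingCat.of R))] [IsProper (X ↘ Spec (CommRingCat.of R))]
    [Smooth (X ↘ Spec (CommRingCat.of R))] [GeometricallyConnected (X ↘ Spec (CommRingCat.of R))]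
    (hdim : ∀ s : Spec (CommRingCat.of R), topologicalKrullDim ↥((X ↘ Spec (CommRingCat.of R)).fiber s) = 1)
    (hproj : ∃ M : X.Modules, CohB1.IsAmple M)
    (F : X.Modules) (hF : Coh.IsCoh F) (hfl : FlatMod.IsFlatOver (X ↘ Spec (CommRingCat.of R)) F)
    (h1 : Module.Projective R (Coh.HH X F 1)) :
    Module.Projective R (Coh.HH X F 0) := by
  let f := X ↘ Spec (CommRingCat.of R)
  have := hF.1
  have : CompactSpace X := Groth.CohFin.compactSpace_of_proper f
  have : X.IsSeparated := Groth.CohFin.isSeparated_of_proper f
  have hfin : ∀ p : ℕ, Module.Finite R (Coh.HH X F p) := fun p =>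
    Groth.CohFin.hFin_of_proper Groth.CohFin.projFinite p X f F hF
  obtain ⟨cov⟩ := Groth.CohBase.exists_goodCover X
  obtain ⟨L, φ, hL, ⟨b, hb⟩, hq⟩ := Groth.CohBase.exists_finiteFree_qis R cov F hfl hfin
  have : ∀ i, Module.Finite R (L.X i) := fun i => (hL i).1
  have : ∀ i, Module.Free R (L.X i) := fun i => (hL i).2
  have e : ∀ p : ℕ, Coh.HH X F p ≃ₗ[R] Groth.CohBase.CxRank.Hk L (p : ℤ) := fun p =>
    (Groth.CohBase.selfLinIso R cov F p).symm.trans
      (((Groth.CohBase.tFunIso φ (p : ℤ) hq).app (ModuleCat.of R R)).toLinearEquiv.symm.trans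
        (Groth.CohBase.CxRank.tOneEquiv L (p : ℤ)))
  have hflat : ∀ i : ℤ, 1 ≤ i → Module.Flat R (Groth.CohBase.CxRank.Hk L i) := by
    intro i hi
    obtain ⟨p, rfl⟩ : ∃ p : ℕ, i = p := ⟨i.toNat, by omega⟩
    by_cases h : p = 1
    · subst h
      have : Module.Flat R (Coh.HH X F 1) := @Module.Flat.of_projective R _ _ _ _ h1
      exact Module.Flat.of_linearEquiv (e 1).symm
    · have := Groth.Limits.FibreVanishing.subsingleton_HH_of_dim_fiber_le (A := R) (X := X) 1
        (fun P => (hdim P).le) F p (by omega)
      have := (e p).symm.toEquiv.subsingleton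
      infer_instance
  have h1' : Module.Flat R (Groth.CohBase.CxRank.Qc L (((0 : ℕ) : ℤ) + 1)) :=
    Groth.CohBase.CxRank.flat_Qc_of_flat_Hk L b hb 1 hflat _ (by simp)
  have hz : ∀ N : ModuleCat.{u} R, IsZero (CohIII.T L (-1) N) := fun N => by
    refine IsZero.of_iso ?_ ((Groth.CohBase.tFunIso φ (-1) hq).app N)
    refine (Groth.FlatCxBase.isZero_T_iff _ (Groth.FlatCxBase.cochain_prev _)
      (Groth.FlatCxBase.cochain_next _) N).2 fun x _ => ⟨0, ?_⟩
    have := ModuleCat.subsingleton_of_isZero
      (Groth.CohBase.isZero_cxA_of_neg R cov.U F (show (-1 : ℤ) < 0 by omega))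
    exact Subsingleton.elim _ _
  have h0' : Module.Flat R (Groth.CohBase.CxRank.Qc L ((0 : ℕ) : ℤ)) :=
    Groth.CohBase.CxRank.flat_Qc_succ_of_isZero L (-1) hz
  have := (Groth.CohBase.CxRank.finite_projective_Hk L _ h0' h1').2
  exact Module.Projective.of_equiv (e 0).symm

end Groth.Agent.S19060
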