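import Groth.Statements.S19061
import Groth.Agent.FibreVA.Curve

set_option autoImplicit false
universe u
open CategoryTheory CategoryTheory.Limits AlgebraicGeometry Opposite
open Curves

namespace Groth.Agent.S19061

/-- Let R be a Noetherian ring and f : X ⟶ Spec R a relative curve of genus g (proper and smooth, with
geometrically connected fibres of dimension one and genus g, and projective: X carries an ample
invertible module). Let L be an invertible O_X-module such that for every point s of Spec R the
restriction L_s of L to the fibre X_s has degree at least 2g + 1. Then L is very ample relative to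
f: there is an immersion i : X ⟶ P^N over Spec R with L ≅ i^*O(1). -/
theorem result (R : Type u) [CommRing R] [IsNoetherianRing R]
    {X : Scheme.{u}} (f : X ⟶ Spec (CommRingCat.of R)) [IsProper f] [Smooth f] [GeometricallyConnected f]
    (hdim : ∀ s : Spec (CommRingCat.of R), topologicalKrullDim ↥(f.fiber s) = 1)
    (hproj : ∃ M : X.Modules, CohB1.IsAmple M)
    (g : ℕ) (hgen : ∀ s : Spec (CommRingCat.of R), letI : (f.fiber s).Over (Spec ((Spec (CommRingCat.of R)).residueField s)) := ⟨f.fiberToSpecResidueField s⟩
      Curv2.genus ((Spec (CommRingCat.of R)).residueField s) (f.fiber s) = g)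
    (L : X.Modules) (hL : PicF.IsInvertible L)
    (hdeg : ∀ s : Spec (CommRingCat.of R), letI : (f.fiber s).Over (Spec ((Spec (CommRingCat.of R)).residueField s)) := ⟨f.fiberToSpecResidueField s⟩
      2 * (g : ℤ) + 1 ≤ Curv2.deg ((Spec (CommRingCat.of R)).residueField s) (f.fiber s) (CohIII.fiberMod f L s) 1) :
    RelAmple.IsRelVeryAmplePn f L := by
  have key : ∀ s : Spec (CommRingCat.of R),
      RelAmple.IsRelVeryAmplePn (f.fiberToSpecResidueField s) (CohIII.fiberMod f L s) ∧
        Subsingleton (Coh.HH (f.fiber s) (CohIII.fiberMod f L s) 1) := fun s => by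
    letI : (f.fiber s).Over (Spec ((Spec (CommRingCat.of R)).residueField s)) :=
      ⟨f.fiberToSpecResidueField s⟩
    haveI : IsProper ((f.fiber s) ↘ Spec ((Spec (CommRingCat.of R)).residueField s)) :=
      MorphismProperty.pullback_snd (P := @IsProper) _ _ ‹_›
    haveI : Smooth ((f.fiber s) ↘ Spec ((Spec (CommRingCat.of R)).residueField s)) :=
      MorphismProperty.pullback_snd (P := @Smooth) _ _ ‹_›
    haveI : GeometricallyConnected ((f.fiber s) ↘ Spec ((Spec (CommRingCat.of R)).residueField s)) :=
      MorphismProperty.pullback_snd (P := @GeometricallyConnected) _ _ ‹_›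
    refine Groth.FibreVA.Curve.veryAmple_and_h1 ((Spec (CommRingCat.of R)).residueField s) (f.fiber s) (hdim s) _
      (Groth.PicAux.isInvertible_pullback (f.fiberι s) hL) ?_
    have h := hdeg s
    rwa [hgen s]
  exact Groth.RelVA.isRelVeryAmplePn_of_hasPnData (Groth.RelVA.hasPnData_of_isRelVeryAmple hL
    (Groth.FibreVA.isRelVeryAmple_of_fibres f L hL (fun s => (key s).1) (fun s => (key s).2)))

end Groth.Agent.S19061
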