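import Groth.Statements.S19092
import Mathlib.RingTheory.Localization.Defs
import Mathlib.RingTheory.Finiteness.Basic
import Mathlib.Tactic

set_option autoImplicit false
universe u
open FrobAlg

namespace Groth.Agent.S19092

theorem finite_iff_exists_gens {R S : Type*} [CommRing R] [CommRing S] (f : R →+* S) :
    f.Finite ↔ ∃ (n : ℕ) (g : Fin n → S), ∀ x, ∃ c : Fin n → R, x = ∑ i, f (c i) * g i := by
  letI := f.toAlgebra
  have hs : ∀ (n : ℕ) (g : Fin n → S) (c : Fin n → R), ∑ i, c i • g i = ∑ i, f (c i) * g i := fun n g c =>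
    Finset.sum_congr rfl fun i _ => Algebra.smul_def _ _
  change Module.Finite R S ↔ _
  rw [Module.finite_def, Submodule.fg_iff_exists_fin_generating_family]
  constructor
  · rintro ⟨n, g, hg⟩
    refine ⟨n, g, fun x => ?_⟩
    have hx : x ∈ Submodule.span R (Set.range g) := hg.symm ▸ Submodule.mem_top
    obtain ⟨c, hc⟩ := (Submodule.mem_span_range_iff_exists_fun R).1 hx
    exact ⟨c, hc.symm.trans (hs n g c)⟩
  · rintro ⟨n, g, hg⟩
    refine ⟨n, g, eq_top_iff.2 fun x _ => ?_⟩
    obtain ⟨c, hc⟩ := hg x
    exact (Submodule.mem_span_range_iff_exists_fun R).2 ⟨c, (hs n g c).trans hc.symm⟩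

theorem finite_frobenius_iff {p : ℕ} [Fact p.Prime] {R : Type*} [CommRing R] [CharP R p] :
    (frobenius R p).Finite ↔ ∃ (n : ℕ) (g : Fin n → R), ∀ x, ∃ c : Fin n → R, x = ∑ i, c i ^ p * g i :=
  finite_iff_exists_gens _

theorem quotient_finite {p : ℕ} [Fact p.Prime] {R S : Type*} [CommRing R] [CharP R p] [CommRing S]
    [CharP S p] (f : R →+* S) (hf : Function.Surjective f) (hF : (frobenius R p).Finite) :
    (frobenius S p).Finite := by
  obtain ⟨n, g, hg⟩ := finite_frobenius_iff.1 hF
  refine finite_frobenius_iff.2 ⟨n, f ∘ g, fun x => ?_⟩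
  obtain ⟨y, rfl⟩ := hf x
  obtain ⟨c, rfl⟩ := hg y
  exact ⟨f ∘ c, by simp⟩

theorem localization_finite {p : ℕ} [Fact p.Prime] {R S : Type*} [CommRing R] [CharP R p] [CommRing S]
    [CharP S p] (M : Submonoid R) [Algebra R S] [IsLocalization M S] (hF : (frobenius R p).Finite) :
    (frobenius S p).Finite := by
  obtain ⟨n, g, hg⟩ := finite_frobenius_iff.1 hF
  refine finite_frobenius_iff.2 ⟨n, algebraMap R S ∘ g, fun x => ?_⟩
  obtain ⟨⟨a, s⟩, e⟩ := IsLocalization.surj M x
  obtain ⟨c, hc⟩ := hg (a * (s : R) ^ (p - 1))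
  obtain ⟨u, hu⟩ := (IsLocalization.map_units S s).exists_right_inv
  refine ⟨fun i => algebraMap R S (c i) * u, ?_⟩
  have h1 := congrArg (algebraMap R S) hc
  simp only [map_mul, map_sum, map_pow, ← e] at h1
  have hup : algebraMap R S (s : R) * algebraMap R S (s : R) ^ (p - 1) * u ^ p = 1 := by
    rw [← pow_succ', Nat.sub_add_cancel (Fact.out : p.Prime).one_le, ← mul_pow, hu, one_pow]
  simp only [Function.comp_apply, mul_pow]
  rw [← mul_one x, ← hup, show x * (algebraMap R S (s : R) * algebraMap R S (s : R) ^ (p - 1) * u ^ p) =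
    x * algebraMap R S (s : R) * algebraMap R S (s : R) ^ (p - 1) * u ^ p by ring, h1, Finset.sum_mul]
  exact Finset.sum_congr rfl fun i _ => by ring


/-- Let p be a prime and A a commutative ring of characteristic p whose absolute Frobenius a ↦ a^p is a
finite ring homomorphism. Then the same holds for every quotient and every localization of A: for
every ideal I of A such that A ⧸ I has characteristic p (every proper ideal) the absolute Frobenius
of A ⧸ I is finite, and for every submonoid S of A and every localization B of A at S of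
characteristic p (every nonzero localization) the absolute Frobenius of B is finite. -/
theorem result (p : ℕ) [Fact p.Prime]
    (A : Type u) [CommRing A] [CharP A p] (hF : (frobenius A p).Finite) :
    (∀ (I : Ideal A) [CharP (A ⧸ I) p], (frobenius (A ⧸ I) p).Finite) ∧
      ∀ (S : Submonoid A) (B : Type u) [CommRing B] [Algebra A B] [IsLocalization S B] [CharP B p],
        (frobenius B p).Finite := by
  exact ⟨fun I _ => quotient_finite (Ideal.Quotient.mk I) Ideal.Quotient.mk_surjective hF,
    fun S B _ _ _ _ => localization_finite S hF⟩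

end Groth.Agent.S19092
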