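import Groth.Statements.S19093
import Groth.Agent.S19092
import Mathlib.RingTheory.PowerSeries.Expand
import Mathlib.RingTheory.ZariskisMainTheorem

set_option autoImplicit false
universe u
open FrobAlg

namespace Groth.Agent.S19093

/-- Let p be a prime, k a finite field of characteristic p, A a commutative k[[t]]-algebra of finite
type over the power series ring k[[t]], and P a prime ideal of A. Then the absolute Frobenius a ↦
a^p of the local ring A_P is a finite ring homomorphism. In particular every local ring of a scheme
of finite type over k[[t]] has finite absolute Frobenius. (The instance hypothesis that A_P has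
characteristic p always holds, A_P being a nonzero algebra over k.) The published statement is for
the local rings of a projective strictly semistable scheme over k[[t]] and adds that such a scheme
is regular with F-finite local rings; its proof uses only that the scheme is of finite type over
k[[t]], which is the form stated here. -/
theorem result (p : ℕ) [Fact p.Prime]
    (k : Type u) [Field k] [Finite k] [CharP k p]
    (A : Type u) [CommRing A] [Algebra (PowerSeries k) A] [Algebra.FiniteType (PowerSeries k) A]
    (P : Ideal A) [P.IsPrime] [CharP (Localization.AtPrime P) p] :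
    (frobenius (Localization.AtPrime P) p).Finite := by
  have hp := (Fact.out : p.Prime)
  have : CharP (PowerSeries k) p := charP_of_injective_algebraMap (algebraMap k (PowerSeries k)).injective p
  have : Nontrivial A :=
    nontrivial_of_ne (0 : A) 1 fun h => ‹P.IsPrime›.ne_top (P.eq_top_iff_one.2 (h ▸ P.zero_mem))
  have : CharP A p := (CharP.charP_iff_prime_eq_zero hp).mpr (by
    rw [← map_natCast (algebraMap (PowerSeries k) A), CharP.cast_eq_zero, map_zero])
  have hPS : (frobenius (PowerSeries k) p).Finite := by
    refine Groth.Agent.S19092.finite_frobenius_iff.2 ⟨p, fun r => PowerSeries.X ^ (r : ℕ), fun f => ?_⟩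
    refine ⟨fun r => PowerSeries.mk fun n => (frobeniusEquiv k p).symm (PowerSeries.coeff (p * n + r) f), ?_⟩
    refine PowerSeries.ext fun m => ?_
    rw [map_sum]
    have hcoeff : ∀ (r : Fin p), PowerSeries.coeff m
        ((PowerSeries.mk fun n => (frobeniusEquiv k p).symm (PowerSeries.coeff (p * n + r) f)) ^ p *
          PowerSeries.X ^ (r : ℕ)) = if r = ⟨m % p, Nat.mod_lt _ hp.pos⟩ then PowerSeries.coeff m f else 0 := by
      intro r
      set g := PowerSeries.mk fun n => (frobeniusEquiv k p).symm (PowerSeries.coeff (p * n + r) f) with hg
      have hgp : ∀ j, PowerSeries.coeff j (g ^ p) = if p ∣ j then PowerSeries.coeff (j / p) g ^ p else 0 := by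
        intro j
        have : g ^ p = PowerSeries.map (frobenius k p) (PowerSeries.expand p hp.ne_zero g) :=
          (MvPowerSeries.map_frobenius_expand p hp.ne_zero).symm
        rw [this, PowerSeries.coeff_map, PowerSeries.coeff_expand, frobenius_def]
        split_ifs
        · rfl
        · exact zero_pow hp.ne_zero
      rw [PowerSeries.coeff_mul_X_pow']
      by_cases hr : r = ⟨m % p, Nat.mod_lt _ hp.pos⟩
      · subst hr
        have hm : m - m % p = p * (m / p) := by have := Nat.mod_add_div m p; omega
        simp only [if_true]
        rw [if_pos (Nat.mod_le _ _), hgp, hm, if_pos (dvd_mul_right _ _), Nat.mul_div_cancel_left _ hp.pos,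
          hg, PowerSeries.coeff_mk, frobeniusEquiv_symm_pow_p k p]
        exact congrArg (fun j => PowerSeries.coeff j f) (Nat.div_add_mod m p)
      · rw [if_neg hr]
        split_ifs with hle
        · rw [hgp, if_neg]
          rintro ⟨q, hq⟩
          refine hr (Fin.ext ?_)
          have : m = r + p * q := by omega
          simp only
          rw [this, Nat.add_mul_mod_self_left, Nat.mod_eq_of_lt r.isLt]
        · rfl
    rw [Finset.sum_congr rfl fun r _ => hcoeff r, Finset.sum_ite_eq', if_pos (Finset.mem_univ _)]
  have hA : (frobenius A p).Finite := by
    refine RingHom.finite_iff_isIntegral_and_finiteType.mpr ⟨fun a => ⟨Polynomial.X ^ p - Polynomial.C a,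
      Polynomial.monic_X_pow_sub_C _ hp.ne_zero, ?_⟩, ?_⟩
    · rw [Polynomial.eval₂_sub, Polynomial.eval₂_X_pow, Polynomial.eval₂_C, frobenius_def, sub_self]
    · refine RingHom.FiniteType.of_comp_finiteType (f := algebraMap (PowerSeries k) A) ?_
      have : (frobenius A p).comp (algebraMap (PowerSeries k) A) =
          (algebraMap (PowerSeries k) A).comp (frobenius (PowerSeries k) p) :=
        RingHom.ext fun x => ((algebraMap (PowerSeries k) A).map_frobenius p x).symm
      rw [this]
      exact RingHom.FiniteType.comp (RingHom.finiteType_algebraMap.2 inferInstance) hPS.finiteType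
  exact Groth.Agent.S19092.localization_finite P.primeCompl hA

end Groth.Agent.S19093
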