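import Groth.Statements.S19094
import Groth.Agent.FrobLCI.PDegree
import Mathlib.RingTheory.LaurentSeries
import Mathlib.RingTheory.PowerSeries.Expand

set_option autoImplicit false
set_option linter.style.haveILetI false
universe u
open FrobAlg

namespace Groth.Agent.S19094

/-- a perfect field: power series decompose uniquely along `1, X, …, X^{p-1}` -/
theorem powerSeries_decomp (p : ℕ) [Fact p.Prime] {k : Type u} [Field k] [CharP k p] [PerfectRing k p]
    (g : PowerSeries k) : ∃! d : Fin p → PowerSeries k, ∑ i : Fin p, d i ^ p * PowerSeries.X ^ (i : ℕ) = g := by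
  have hp : 0 < p := (Fact.out : p.Prime).pos
  have key : ∀ (d : Fin p → PowerSeries k) (m : ℕ) (j : Fin p),
      PowerSeries.coeff (p * m + j) (∑ i : Fin p, d i ^ p * PowerSeries.X ^ (i : ℕ)) =
        PowerSeries.coeff m (d j) ^ p := by
    intro d m j
    rw [map_sum, Finset.sum_eq_single j]
    · rw [PowerSeries.coeff_mul_X_pow, ← MvPowerSeries.map_frobenius_expand p hp.ne']
      show PowerSeries.coeff (p * m) (PowerSeries.map (frobenius k p) (PowerSeries.expand p hp.ne' (d j))) = _
      rw [PowerSeries.coeff_map, PowerSeries.coeff_expand_mul, frobenius_def]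
    · intro i _ hij
      rw [PowerSeries.coeff_mul_X_pow']
      split_ifs with h
      · rw [← MvPowerSeries.map_frobenius_expand p hp.ne']
        show PowerSeries.coeff _ (PowerSeries.map (frobenius k p) (PowerSeries.expand p hp.ne' (d i))) = _
        rw [PowerSeries.coeff_map, PowerSeries.coeff_expand_of_not_dvd, map_zero]
        rintro ⟨c, hc⟩
        refine hij (Fin.ext ?_)
        have h4 : p * m + (j : ℕ) = p * c + (i : ℕ) := by omega
        have h5 := congrArg (fun z => z % p) h4
        simp only [Nat.mul_add_mod, Nat.mod_eq_of_lt i.isLt, Nat.mod_eq_of_lt j.isLt] at h5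
        exact h5.symm
      · rfl
    · simp
  refine ⟨fun j => PowerSeries.mk fun m => (frobeniusEquiv k p).symm (PowerSeries.coeff (p * m + j) g), ?_, ?_⟩
  · ext N
    have hN : N = p * (N / p) + ((⟨N % p, Nat.mod_lt _ hp⟩ : Fin p) : ℕ) := (Nat.div_add_mod N p).symm
    rw [hN, key, PowerSeries.coeff_mk, frobeniusEquiv_symm_pow_p]
  · intro d hd
    funext j
    ext m
    rw [PowerSeries.coeff_mk, ← hd, key, ← frobenius_def, frobeniusEquiv_symm_apply_frobenius]

theorem laurent_decomp (p : ℕ) [Fact p.Prime] {k : Type u} [Field k] [CharP k p] [PerfectRing k p]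
    (c : LaurentSeries k) :
    ∃! d : Fin p → LaurentSeries k,
      ∑ i : Fin p, d i ^ p * algebraMap (PowerSeries k) (LaurentSeries k) (PowerSeries.X ^ (i : ℕ)) = c := by
  set f := algebraMap (PowerSeries k) (LaurentSeries k) with hf
  have hinj : Function.Injective f := IsFractionRing.injective (PowerSeries k) (LaurentSeries k)
  obtain ⟨g, y, hy, hc⟩ := IsFractionRing.div_surjective (A := PowerSeries k) c
  have hy0 : f y ≠ 0 := (map_ne_zero_iff f hinj).2 (nonZeroDivisors.ne_zero hy)
  obtain ⟨e, he⟩ : ∃ e, e = g * y ^ (p - 1) := ⟨_, rfl⟩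
  have hce : c * f y ^ p = f e := by
    rw [← hc, he, map_mul, map_pow, show p = p - 1 + 1 by have := (Fact.out : p.Prime).pos; omega, pow_succ]
    rw [← hf]
    field_simp
    rw [show p - 1 + 1 - 1 = p - 1 by omega]
  obtain ⟨d, hd, huniq⟩ := powerSeries_decomp p e
  refine ⟨fun i => f (d i) / f y, ?_, fun d' hd' => ?_⟩
  · refine mul_right_cancel₀ (pow_ne_zero p hy0) ?_
    rw [hce, ← hd, map_sum, Finset.sum_mul]
    refine Finset.sum_congr rfl fun i _ => ?_
    rw [map_mul, map_pow, div_pow]
    field_simp
    simp only [map_pow]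
    ring
  · have hex : ∀ i, ∃ a : PowerSeries k, ∃ z : PowerSeries k, z ≠ 0 ∧ d' i = f a / f z := fun i => by
      obtain ⟨a, z, hz, h⟩ := IsFractionRing.div_surjective (A := PowerSeries k) (d' i)
      exact ⟨a, z, nonZeroDivisors.ne_zero hz, h.symm⟩
    choose a z hz haz using hex
    classical
    set Z := ∏ i, z i with hZ
    have hZ0 : Z ≠ 0 := Finset.prod_ne_zero_iff.2 fun i _ => hz i
    set A' := fun i => a i * (∏ j ∈ Finset.univ.erase i, z j) * y with hA
    have hA' : ∀ i, f (A' i) = d' i * f (Z * y) := fun i => by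
      rw [haz, hA, hZ, ← Finset.mul_prod_erase _ _ (Finset.mem_univ i)]
      simp only [map_mul]
      field_simp [(map_ne_zero_iff f hinj).2 (hz i)]
    have h1 : ∑ i : Fin p, A' i ^ p * PowerSeries.X ^ (i : ℕ) = Z ^ p * e := by
      refine hinj ?_
      rw [map_sum, map_mul f (Z ^ p) e, ← hce, map_pow, ← hd', Finset.sum_mul, Finset.mul_sum]
      refine Finset.sum_congr rfl fun i _ => ?_
      rw [map_mul, map_pow, hA', map_mul]
      ring
    obtain ⟨u, -, hu⟩ := powerSeries_decomp p (Z ^ p * e)
    have h2 : ∑ i : Fin p, (Z * d i) ^ p * PowerSeries.X ^ (i : ℕ) = Z ^ p * e := by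
      rw [← hd, Finset.mul_sum]
      exact Finset.sum_congr rfl fun i _ => by ring
    have h3 := (hu _ h1).trans (hu _ h2).symm
    funext i
    have h4 := congrArg f (congrFun h3 i)
    rw [hA', map_mul, map_mul] at h4
    rw [eq_div_iff hy0]
    refine mul_right_cancel₀ ((map_ne_zero_iff f hinj).2 hZ0) ?_
    linear_combination h4

/-- Let p be a prime, k a finite field of characteristic p and K a finitely generated field extension of
the Laurent series field k((t)) of finite transcendence degree d. Then [K : K^p] = p^(d+1), where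
K^p ⊆ K is the subfield of p-th powers (the image of the Frobenius). The case of interest is the
residue field of a generic point of a projective strictly semistable scheme of relative dimension d
over k[[t]], which is such an extension. -/
theorem result (p : ℕ) [Fact p.Prime]
    (k : Type u) [Field k] [Finite k] [CharP k p]
    (K : Type u) [Field K] [Algebra (LaurentSeries k) K] [CharP K p]
    (hfg : (⊤ : IntermediateField (LaurentSeries k) K).FG)
    (d : ℕ) (hd : Algebra.trdeg (LaurentSeries k) K = d) :
    Module.finrank (↥(frobenius K p).fieldRange) K = p ^ (d + 1) := by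
  haveI : CharP (LaurentSeries k) p := (Algebra.charP_iff (LaurentSeries k) K p).2 inferInstance
  obtain ⟨σ, s, hs⟩ := exists_isTranscendenceBasis' (LaurentSeries k) K
  have hcard := hs.cardinalMk_eq_trdeg
  rw [hd] at hcard
  haveI : Finite σ := Cardinal.lt_aleph0_iff_finite.1 (by
    have h := congrArg Cardinal.lift.{0} hcard
    simp at h
    rw [h]
    exact Cardinal.natCast_lt_aleph0)
  haveI := Fintype.ofFinite σ
  have hn : Fintype.card σ = d := by
    have h := hcard
    simp only [Cardinal.mk_fintype, Nat.cast_inj] at h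
    exact h
  have h := Groth.PDegree.finrank_fieldRange (laurent_decomp p (k := k))
    (hs.comp_equiv (Fintype.equivFinOfCardEq hn).symm) hfg
  rw [h, Fintype.card_fin, pow_succ']

end Groth.Agent.S19094
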