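import Groth.Statements.S19096
import Groth.Agent.Misc1.Unip.Conj.Closed
import Groth.Agent.AlgGrp2.AffinePts
-- import your own Groth.Agent.* helpers here

set_option autoImplicit false
open CategoryTheory MonoidalCategory CartesianMonoidalCategory MonObj AlgebraicGeometry
open HopfRep

namespace Groth.Agent.S19096

attribute [local instance 100] Groth.Misc1.Unip.convGrpC

open WithConv Groth.Misc1.Unip.Conj

theorem inv_inv_conj {G : Type*} [Group G] (a x : G) : (x⁻¹)⁻¹ * a * x⁻¹ = x * a * x⁻¹ := by rw [inv_inv]

/-- Let A be a finitely generated commutative Hopf algebra over the complex numbers all of whose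
finite-dimensional comodules are semisimple (a linearly reductive complex linear algebraic group G =
Spec A; over the complex numbers these are exactly the algebraic groups, connected or not, whose
identity component has a torus as radical, which is the notion of reductive group used in the
source), and let g : A → ℂ be a complex point of G. Then the conjugacy class of g, the image of the
morphism G → G sending x to x g x⁻¹, is a closed subset of G if and only if g is semisimple, meaning
that right translation by g on the coordinate ring A (the action of g on the regular comodule) is a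
semisimple endomorphism. -/
theorem result
    (A : Type) [CommRing A] [HopfAlgebra ℂ A] [Algebra.FiniteType ℂ A]
    (hred : HopfRep.IsLinearlyReductive ℂ A) (g : A →ₐ[ℂ] ℂ) :
    IsClosed (Set.range ((𝟙 (CoactBr.sp ℂ A) * CoactBr.pt ((Algebra.ofId ℂ A).comp g) *
        (𝟙 (CoactBr.sp ℂ A))⁻¹).left.base)) ↔
      Module.End.IsSemisimple (HopfRep.Comod.act ℂ A A g) := by
  refine Iff.trans ?_ ((isClosedOrbit_iff_isSS hred (toConv g)).trans (isSS_iff (toConv g)))
  let E : WithConv (A →ₐ[ℂ] A) ≃* (CoactBr.sp ℂ A ⟶ CoactBr.sp ℂ A) := Spec.mapMulEquiv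
  let ψ : WithConv (A →ₐ[ℂ] A) := idPt * Groth.Misc1.Unip.constPt A (toConv g) * idPt⁻¹
  have h1 : E idPt = 𝟙 _ := CoactBr.pt_id
  have h2 : E (Groth.Misc1.Unip.constPt A (toConv g)) = CoactBr.pt ((Algebra.ofId ℂ A).comp g) := rfl
  have h3 : E ψ = 𝟙 (CoactBr.sp ℂ A) * CoactBr.pt ((Algebra.ofId ℂ A).comp g) * (𝟙 (CoactBr.sp ℂ A))⁻¹ := by
    rw [map_mul, map_mul, map_inv, h1, h2]
  rw [← h3]
  let S : A →ₐ[ℂ] A := HopfAlgebra.antipodeAlgHom ℂ A
  let o : A →ₐ[ℂ] A := GLin.orbitHom ℂ A (R := Adj ℂ A) (toAdj (toConv g))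
  have hψ : ψ.ofConv = S.comp o := by
    have h : Groth.Misc1.Unip.pushPt S (idPt⁻¹ * Groth.Misc1.Unip.constPt A (toConv g) * idPt) = ψ := by
      rw [map_mul, map_mul, map_inv, pushPt_constPt',
        show Groth.Misc1.Unip.pushPt S (idPt (k := ℂ) (A := A)) = idPt⁻¹ from rfl]
      exact inv_inv_conj _ _
    rw [← h, show o = _ from orbitHom_toAdj (toConv g)]
    rfl
  change IsClosed (Set.range (PrimeSpectrum.comap ψ.ofConv.toRingHom)) ↔
    IsClosed (Set.range (PrimeSpectrum.comap o.toRingHom))
  have hinv : ∀ x : A, S (S x) = x := fun x => DFunLike.congr_fun (congrArg WithConv.ofConv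
    (inv_inv (idPt (k := ℂ) (A := A)))) x
  have hS : Function.Surjective (PrimeSpectrum.comap S.toRingHom) := fun p =>
    ⟨PrimeSpectrum.comap S.toRingHom p, PrimeSpectrum.ext (Ideal.ext fun x => by
      change S (S x) ∈ p.asIdeal ↔ x ∈ p.asIdeal
      rw [hinv])⟩
  rw [hψ, show (S.comp o).toRingHom = S.toRingHom.comp o.toRingHom from rfl, PrimeSpectrum.comap_comp,
    Set.range_comp, hS.range_eq, Set.image_univ]

end Groth.Agent.S19096
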