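import Groth.Statements.S19098
import Mathlib
import Groth.Agent.ChGrpH.BalProd

set_option autoImplicit false
universe u
open CategoryTheory MonoidalCategory CartesianMonoidalCategory MonObj AlgebraicGeometry
open ChGrp

namespace Groth.Agent.S19098

/-- Let S be a scheme, G an S-group scheme acting on an S-scheme X through a, and h an S-point of G. Let
i : Z → G be a homomorphism and ψ : Ψ → G a monomorphism with a G-action on Ψ under which ψ
intertwines with conjugation, and o an S-point of Ψ over h, such that (Ψ, o) is the homogeneous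
space G/Z for the fppf topology through the orbit map g ↦ g h g⁻¹ (so Z is the centralizer of h and
Ψ its conjugacy class). Let incl : X^h → X be a monomorphism whose points are the points of X fixed
by h, with the Z-action restricted from a; let σ : S_Ψ → G ×_S X be a monomorphism whose points are
the pairs (g, x) with g a point of Ψ and g x = x (the part of the global stabilizer over Ψ), with
the G-action by conjugation on the first entry and by a on the second; and let Φ : G ×_S X^h → S_Ψ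
be the morphism (g, x) ↦ (g h g⁻¹, g x). Then Φ makes S_Ψ, with its G-action, the balanced product G
×^Z X^h for the fppf topology: Φ is G-equivariant, it is a Z-torsor for the action z (g, x) = (g
z⁻¹, z x), and it has sections fppf-locally on S_Ψ. (The source works with algebraic spaces of
finite type over the complex numbers and a semisimple conjugacy class Ψ, where the identification of
Ψ with G/Z comes from the theory of algebraic groups; here that identification is the hypothesis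
hhom, the base is arbitrary and X is a scheme.) -/
theorem result
    {S : Scheme.{u}} {G X Z Ψ Xh SΨ : Over S} [GrpObj G] [GrpObj Z]
    (a : AlgGrp.Action G X) (h : 𝟙_ (Over S) ⟶ G)
    (i : Z ⟶ G) [IsMonHom i]
    (ψ : Ψ ⟶ G) [Mono ψ] (aΨ : AlgGrp.Action G Ψ)
    (hψ : aΨ.act ≫ ψ = fst G Ψ * (snd G Ψ ≫ ψ) * (fst G Ψ)⁻¹)
    (o : 𝟙_ (Over S) ⟶ Ψ) (ho : o ≫ ψ = h)
    (hhom : ChGrp.IsHomog Scheme.fppfPrecoverage i aΨ o)
    (incl : Xh ⟶ X) [Mono incl]
    (hXh : ∀ (T : Over S) (x : T ⟶ X), (∃ y : T ⟶ Xh, y ≫ incl = x) ↔ lift (toUnit T ≫ h) x ≫ a.act = x)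
    (aXh : AlgGrp.Action Z Xh) (hincl : AlgGrp.Action.IsEquivariant aXh (a.restrict i) incl)
    (σ : SΨ ⟶ G ⊗ X) [Mono σ]
    (hSΨ : ∀ (T : Over S) (g : T ⟶ G) (x : T ⟶ X),
      (∃ q : T ⟶ SΨ, q ≫ σ = lift g x) ↔ ((∃ y : T ⟶ Ψ, y ≫ ψ = g) ∧ lift g x ≫ a.act = x))
    (aS : AlgGrp.Action G SΨ)
    (hσ : aS.act ≫ σ = lift (fst G SΨ * (snd G SΨ ≫ σ ≫ fst G X) * (fst G SΨ)⁻¹)
      (lift (fst G SΨ) (snd G SΨ ≫ σ ≫ snd G X) ≫ a.act))
    (Φ : G ⊗ Xh ⟶ SΨ)
    (hΦ : Φ ≫ σ = lift (fst G Xh * (toUnit (G ⊗ Xh) ≫ h) * (fst G Xh)⁻¹)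
      (lift (fst G Xh) (snd G Xh ≫ incl) ≫ a.act)) :
    ChGrp.IsBalProd Scheme.fppfPrecoverage i aXh aS Φ := by
  obtain ⟨-, hsq, hloc⟩ := hhom
  have hq := Groth.ChGrpH.hasLocSections _ hloc
  let c : ∀ T : Over S, T ⟶ G := fun T => toUnit T ≫ h
  have hc : ∀ {T T' : Over S} (t : T' ⟶ T), t ≫ c T = c T' := fun t => by
    rw [← Category.assoc, toUnit_unique (t ≫ toUnit _) (toUnit _)]
  have horb : ∀ (T : Over S) (g : T ⟶ G), g ≫ aΨ.orbitMap o ≫ ψ = g * c T * g⁻¹ := by
    intro T g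
    rw [← Category.assoc, AlgGrp.Action.comp_orbitMap, Category.assoc, hψ, comp_mul, comp_mul, GrpObj.comp_inv, lift_fst,
      lift_snd_assoc, Category.assoc, ho]
  have hΦ' : ∀ (T : Over S) (g : T ⟶ G) (x : T ⟶ Xh),
      lift g x ≫ Φ ≫ σ = lift (g * c T * g⁻¹) (lift g (x ≫ incl) ≫ a.act) := by
    intro T g x
    rw [hΦ]
    simp only [comp_lift, comp_mul, GrpObj.comp_inv, lift_fst, lift_snd, comp_lift_assoc, c, ← Category.assoc]
    rw [toUnit_unique (lift g x ≫ toUnit (G ⊗ Xh)) (toUnit T)]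
  have hσ' : ∀ (T : Over S) (g : T ⟶ G) (q : T ⟶ SΨ), lift g q ≫ aS.act ≫ σ =
      lift (g * (q ≫ σ ≫ fst G X) * g⁻¹) (lift g (q ≫ σ ≫ snd G X) ≫ a.act) := by
    intro T g q
    rw [hσ]
    simp only [comp_lift, comp_mul, GrpObj.comp_inv, lift_fst, lift_snd_assoc, comp_lift_assoc]
  have hinc : ∀ (T : Over S) (z : T ⟶ Z) (x : T ⟶ Xh),
      (lift z x ≫ aXh.act) ≫ incl = lift (z ≫ i) (x ≫ incl) ≫ a.act := by
    intro T z x
    rw [Category.assoc, show aXh.act ≫ incl = (Z ◁ incl) ≫ (a.restrict i).act from hincl, lift_whiskerLeft_assoc,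
      AlgGrp.Action.lift_restrict_act]
  -- points of `i` commute with `h`
  have horbi : ∀ (T : Over S) (g : T ⟶ G) (z : T ⟶ Z),
      (g * (z ≫ i)) ≫ aΨ.orbitMap o = g ≫ aΨ.orbitMap o := by
    intro T g z
    have h1 := congrArg (fun m => lift g z ≫ m) hsq.w
    simp only [lift_fst_assoc, lift_whiskerLeft_assoc, Category.assoc] at h1
    rw [Hom.mul_def, Category.assoc]
    exact h1.symm
  have hcent : ∀ (T : Over S) (g : T ⟶ G) (z : T ⟶ Z),
      (g * (z ≫ i)) * c T * (g * (z ≫ i))⁻¹ = g * c T * g⁻¹ := by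
    intro T g z
    rw [← horb, ← horb, ← Category.assoc, horbi, Category.assoc]
  refine ⟨?_, ?_, ?_⟩
  · rw [AlgGrp.Action.IsEquivariant, ← cancel_mono σ]
    apply AlgGrp.Action.hom_ext_lift₂
    intro T g p
    rw [Groth.ChGrpH.point_eq_lift p, Category.assoc, Category.assoc, AlgGrp.Action.lift_prod_act_assoc,
      AlgGrp.Action.lift_trivial_act, lift_whiskerLeft_assoc, hσ', hΦ']
    rw [show (lift (p ≫ fst G Xh) (p ≫ snd G Xh) ≫ Φ) ≫ σ ≫ fst G X =
        (p ≫ fst G Xh) * c T * (p ≫ fst G Xh)⁻¹ by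
      rw [Category.assoc, reassoc_of% hΦ', lift_fst],
      show (lift (p ≫ fst G Xh) (p ≫ snd G Xh) ≫ Φ) ≫ σ ≫ snd G X =
        lift (p ≫ fst G Xh) ((p ≫ snd G Xh) ≫ incl) ≫ a.act by
      rw [Category.assoc, reassoc_of% hΦ', lift_snd], ← AlgGrp.Action.lift_mul_act]
    simp [NonAbH1.trivialAction, Hom.mul_def, ← _root_.mul_assoc]
    simp only [← Hom.mul_def, _root_.mul_assoc, mul_inv_rev]
  · refine Groth.ChGrpH.isPullback_of_points ?_ ?_ ?_
    · rw [← cancel_mono σ]
      apply AlgGrp.Action.hom_ext_lift₂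
      intro T z p
      rw [Groth.ChGrpH.point_eq_lift p, Category.assoc, Category.assoc, ChGrp.lift_twist_act_assoc, lift_snd_assoc,
        hΦ', hΦ', hinc, ← AlgGrp.Action.lift_mul_act, inv_mul_cancel_right]
      congr 1
      have h1 := hcent T ((p ≫ fst G Xh) * (z ≫ i)⁻¹) z
      rw [inv_mul_cancel_right] at h1
      exact h1.symm
    · intro T p p' hpp
      rw [Groth.ChGrpH.point_eq_lift p, Groth.ChGrpH.point_eq_lift p'] at hpp ⊢
      have h1 := congrArg (· ≫ σ) hpp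
      simp only [Category.assoc, hΦ'] at h1
      have h2 := congrArg (· ≫ fst G X) h1
      have h3 := congrArg (· ≫ snd G X) h1
      simp only [lift_fst, lift_snd] at h2 h3
      rw [← horb, ← horb, ← Category.assoc, ← Category.assoc, cancel_mono] at h2
      obtain ⟨l, hl1, hl2⟩ := hsq.exists_lift _ _ h2.symm
      let z := l ≫ snd G Z
      have hg : p ≫ fst G Xh = (p' ≫ fst G Xh) * (z ≫ i) := by
        rw [← hl2, ← hl1, Groth.ChGrpH.point_eq_lift l, lift_whiskerLeft_assoc, lift_fst, ← Hom.mul_def]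
      refine ⟨lift z⁻¹ (lift (p' ≫ fst G Xh) (p' ≫ snd G Xh)), ?_, lift_snd _ _⟩
      rw [ChGrp.lift_twist_act]
      congr 1
      · rw [hg, GrpObj.inv_comp, inv_inv]
      · rw [← cancel_mono incl, hinc, GrpObj.inv_comp]
        have h4 := congrArg (fun y => lift (p ≫ fst G Xh)⁻¹ y ≫ a.act) h3
        simp only [← AlgGrp.Action.lift_mul_act, inv_mul_cancel, AlgGrp.Action.lift_one_act] at h4
        simp only [Category.assoc] at h4 ⊢
        rw [h4, hg, mul_inv_rev, inv_mul_cancel_right]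
    · intro T l l' h1 h2
      apply CartesianMonoidalCategory.hom_ext
      · have h3 : ∀ l : T ⟶ Z ⊗ (G ⊗ Xh), l = lift (l ≫ fst _ _) (lift (l ≫ snd _ _ ≫ fst G Xh) (l ≫ snd _ _ ≫ snd G Xh)) := by
          intro l
          conv_lhs => rw [Groth.ChGrpH.point_eq_lift l, Groth.ChGrpH.point_eq_lift (l ≫ snd _ _)]
          simp only [Category.assoc]
        rw [h3 l, h3 l', ChGrp.lift_twist_act, ChGrp.lift_twist_act] at h1
        have h4 := congrArg (· ≫ fst G Xh) h1
        simp only [lift_fst, reassoc_of% h2, mul_right_inj, inv_inj] at h4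
        have h5 : lift (1 : T ⟶ G) (l ≫ fst _ _) = lift (1 : T ⟶ G) (l' ≫ fst _ _) := by
          apply hsq.hom_ext
          · simp only [lift_fst]
          · rw [lift_whiskerLeft_assoc, lift_whiskerLeft_assoc, h4]
        simpa using congrArg (· ≫ snd G Z) h5
      · exact h2
  · obtain ⟨y, hy⟩ := ((hSΨ SΨ (σ ≫ fst G X) (σ ≫ snd G X)).1 ⟨𝟙 _, by rw [Category.id_comp, ← comp_lift, lift_fst_snd, Category.comp_id]⟩).1
    have hfix := ((hSΨ SΨ (σ ≫ fst G X) (σ ≫ snd G X)).1 ⟨𝟙 _, by rw [Category.id_comp, ← comp_lift, lift_fst_snd, Category.comp_id]⟩).2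
    obtain ⟨R, hR, hl⟩ := hq.exists_lift y
    refine Groth.ChGrpH.isLocallyTrivialFor_of_exists Φ hR fun U f hf => ?_
    obtain ⟨g, hg⟩ := hl f hf
    let t : Over.mk (f ≫ SΨ.hom) ⟶ SΨ := Over.homMk f
    have hg' : g * c _ * g⁻¹ = t ≫ σ ≫ fst G X := by rw [← horb, ← hy, reassoc_of% hg]
    have hfix' : lift (g * c _ * g⁻¹) (t ≫ σ ≫ snd G X) ≫ a.act = t ≫ σ ≫ snd G X := by
      rw [hg', ← comp_lift_assoc, hfix]
    have hx : lift (c _) (lift g⁻¹ (t ≫ σ ≫ snd G X) ≫ a.act) ≫ a.act = lift g⁻¹ (t ≫ σ ≫ snd G X) ≫ a.act := by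
      conv_rhs => rw [← hfix', ← AlgGrp.Action.lift_mul_act]
      rw [← AlgGrp.Action.lift_mul_act]
      congr 1
      simp [← _root_.mul_assoc]
    obtain ⟨x, hx'⟩ := (hXh _ _).2 hx
    refine ⟨lift g x, ?_⟩
    rw [← cancel_mono σ, Category.assoc, hΦ', hx', ← AlgGrp.Action.lift_mul_act, mul_inv_cancel,
      AlgGrp.Action.lift_one_act, hg', ← comp_lift, ← comp_lift, lift_fst_snd, Category.comp_id]

end Groth.Agent.S19098
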