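import Groth.Statements.S19099
import Mathlib
import Groth.Agent.ChGrpH.BalProd
import Groth.Agent.GrpschAbsch.Basic

set_option autoImplicit false
universe u
open CategoryTheory MonoidalCategory CartesianMonoidalCategory MonObj AlgebraicGeometry
open ChGrp

namespace Groth.Agent.S19099

/-- Let S be a scheme, i : G → Q a monomorphic homomorphism of S-group schemes (a closed subgroup), h an
S-point of G whose image in Q is central, and X an S-scheme with a G-action a. Let incl : X^h → X be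
a monomorphism whose points are the points of X fixed by h, with a G-action making incl equivariant
(X^h is G-stable since h is central in G). Let Y with its Q-action and j : Q ×_S X → Y be the
balanced product Q ×^G X for the fppf topology, Y' with j' : Q ×_S X^h → Y' the balanced product Q
×^G X^h, and m : Y' → Y the morphism under which j' followed by m is Q × incl followed by j. Then m
is a monomorphism, a point of Y factors through m exactly when it is fixed by h acting on Y through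
the Q-action, and m is a closed immersion if incl is one: Q ×^G X^h is the fixed locus of h in Q ×^G
X. (The source states this for a smooth algebraic space X of finite type over the complex numbers,
as an equality of closed subspaces, and argues on closed points; the form here is the one its
computation gives for the fppf quotients over any base, with X a scheme.) -/
theorem result
    {S : Scheme.{u}} {Q G X Xh Y Y' : Over S} [GrpObj Q] [GrpObj G]
    (i : G ⟶ Q) [IsMonHom i] [Mono i]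
    (h : 𝟙_ (Over S) ⟶ G)
    (hcent : ∀ (T : Over S) (q : T ⟶ Q), q * (toUnit T ≫ h ≫ i) = (toUnit T ≫ h ≫ i) * q)
    (a : AlgGrp.Action G X)
    (incl : Xh ⟶ X) [Mono incl]
    (hXh : ∀ (T : Over S) (x : T ⟶ X), (∃ y : T ⟶ Xh, y ≫ incl = x) ↔ lift (toUnit T ≫ h) x ≫ a.act = x)
    (aXh : AlgGrp.Action G Xh) (hincl : AlgGrp.Action.IsEquivariant aXh a incl)
    (aY : AlgGrp.Action Q Y) (j : Q ⊗ X ⟶ Y) (hY : ChGrp.IsBalProd Scheme.fppfPrecoverage i a aY j)
    (aY' : AlgGrp.Action Q Y') (j' : Q ⊗ Xh ⟶ Y') (hY' : ChGrp.IsBalProd Scheme.fppfPrecoverage i aXh aY' j')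
    (m : Y' ⟶ Y) (hm : j' ≫ m = (Q ◁ incl) ≫ j) :
    Mono m ∧
      (∀ (T : Over S) (y : T ⟶ Y), (∃ y' : T ⟶ Y', y' ≫ m = y) ↔ lift (toUnit T ≫ h ≫ i) y ≫ aY.act = y) ∧
      (IsClosedImmersion incl.left → IsClosedImmersion m.left) := by
  have hj := Groth.ChGrpH.balProd_hasLocSections hY
  have hj' := Groth.ChGrpH.balProd_hasLocSections hY'
  have hm' : ∀ (T : Over S) (q : T ⟶ Q) (x : T ⟶ Xh), lift q x ≫ j' ≫ m = lift q (x ≫ incl) ≫ j := by
    intro T q x
    rw [hm, lift_whiskerLeft_assoc]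
  have hinc : ∀ (T : Over S) (g : T ⟶ G) (x : T ⟶ Xh), (lift g x ≫ aXh.act) ≫ incl = lift g (x ≫ incl) ≫ a.act := by
    intro T g x
    rw [Category.assoc, show aXh.act ≫ incl = (G ◁ incl) ≫ a.act from hincl, lift_whiskerLeft_assoc]
  have hmono : Mono m := by
    refine ⟨fun {T} p p' e => ?_⟩
    obtain ⟨R, hR, hl⟩ := Groth.ChGrpH.balProd_exists_local hY' p
    refine Groth.ChGrpH.hom_ext_of_cover hR fun U f hf => ?_
    obtain ⟨q, x, hqx⟩ := hl f hf
    obtain ⟨R', hR', hl'⟩ := Groth.ChGrpH.balProd_exists_local hY' ((Over.homMk f : Over.mk (f ≫ T.hom) ⟶ T) ≫ p')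
    suffices (Over.homMk f : Over.mk (f ≫ T.hom) ⟶ T) ≫ p = Over.homMk f ≫ p' from congrArg Over.Hom.left this
    refine Groth.ChGrpH.hom_ext_of_cover hR' fun V f' hf' => ?_
    obtain ⟨q', x', hqx'⟩ := hl' f' hf'
    let t : Over.mk (f' ≫ (Over.mk (f ≫ T.hom)).hom) ⟶ Over.mk (f ≫ T.hom) := Over.homMk f'
    suffices t ≫ (Over.homMk f : Over.mk (f ≫ T.hom) ⟶ T) ≫ p = t ≫ (Over.homMk f : Over.mk (f ≫ T.hom) ⟶ T) ≫ p' from
      congrArg Over.Hom.left this
    rw [← hqx', ← hqx, ← Category.assoc t, comp_lift]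
    have e1 : lift (t ≫ q) ((t ≫ x) ≫ incl) ≫ j = lift q' (x' ≫ incl) ≫ j := by
      rw [← hm', ← hm', ← Category.assoc, ← Category.assoc (lift q' x'), hqx']
      rw [show lift (t ≫ q) (t ≫ x) ≫ j' = t ≫ (Over.homMk f : Over.mk (f ≫ T.hom) ⟶ T) ≫ p by
        rw [← hqx, ← Category.assoc t, comp_lift]]
      simp only [Category.assoc, e]
      rfl
    obtain ⟨g, hg, hx⟩ := Groth.ChGrpH.balProd_exists_of_eq hY e1
    rw [← hinc, cancel_mono] at hx
    rw [hx, hg, ← Groth.ChGrpH.balProd_assoc hY', inv_mul_cancel_right]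
  have hlocal : ∀ (T : Over S) (y : T ⟶ Y), lift (toUnit T ≫ h ≫ i) y ≫ aY.act = y →
      ∃ R ∈ Scheme.fppfPrecoverage T.left, ∀ ⦃U : Scheme.{u}⦄ (f : U ⟶ T.left), R f →
        ∃ y' : Over.mk (f ≫ T.hom) ⟶ Y', y' ≫ m = Over.homMk f ≫ y := by
    intro T y hy
    obtain ⟨R, hR, hl⟩ := Groth.ChGrpH.balProd_exists_local hY y
    refine ⟨R, hR, fun U f hf => ?_⟩
    obtain ⟨q, x, hqx⟩ := hl f hf
    let t : Over.mk (f ≫ T.hom) ⟶ T := Over.homMk f
    have e0 : lift (toUnit _ ≫ h ≫ i) (lift q x ≫ j) ≫ aY.act = lift q x ≫ j := by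
      have h0 := congrArg (t ≫ ·) hy
      simp only [comp_lift_assoc] at h0
      rw [← Category.assoc t, toUnit_unique (t ≫ toUnit T) (toUnit _)] at h0
      rw [hqx]
      exact h0
    rw [← Groth.ChGrpH.balProd_mul hY, ← hcent] at e0
    rw [← Category.assoc (toUnit _) h i, Groth.ChGrpH.balProd_assoc hY] at e0
    obtain ⟨g, hg, hx⟩ := Groth.ChGrpH.balProd_exists_of_eq hY e0
    have hgi : g ≫ i = (1 : _ ⟶ G) ≫ i := by
      rw [MonObj.one_comp]
      exact inv_eq_one.1 (mul_eq_left.1 hg.symm)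
    rw [(cancel_mono i).1 hgi, AlgGrp.Action.lift_one_act] at hx
    obtain ⟨x', hx'⟩ := (hXh _ x).2 hx
    refine ⟨lift q x' ≫ j', ?_⟩
    rw [Category.assoc, hm', hx', hqx]
  refine ⟨hmono, fun T y => ⟨?_, fun hy => ?_⟩, fun hcl => ?_⟩
  · rintro ⟨y', rfl⟩
    obtain ⟨R, hR, hl⟩ := Groth.ChGrpH.balProd_exists_local hY' y'
    refine Groth.ChGrpH.hom_ext_of_cover hR fun U f hf => ?_
    obtain ⟨q, x, hqx⟩ := hl f hf
    let t : Over.mk (f ≫ T.hom) ⟶ T := Over.homMk f
    suffices t ≫ lift (toUnit T ≫ h ≫ i) (y' ≫ m) ≫ aY.act = t ≫ y' ≫ m from congrArg Over.Hom.left this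
    have e1 : t ≫ y' ≫ m = lift q (x ≫ incl) ≫ j := by rw [← hm', ← Category.assoc, ← hqx, Category.assoc]
    rw [comp_lift_assoc, ← Category.assoc t, toUnit_unique (t ≫ toUnit T) (toUnit _), e1,
      ← Groth.ChGrpH.balProd_mul hY, ← hcent, ← Category.assoc (toUnit _) h i, Groth.ChGrpH.balProd_assoc hY,
      (hXh _ (x ≫ incl)).1 ⟨x, rfl⟩]
  · obtain ⟨R, hR, hl⟩ := hlocal T y hy
    choose y' hy' using hl
    have hy'' : ∀ ⦃U : Scheme.{u}⦄ (f : U ⟶ T.left) (hf : R f), (y' f hf).left ≫ m.left = f ≫ y.left :=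
      fun U f hf => congrArg Over.Hom.left (hy' f hf)
    have hmono' : Mono m.left := by
      haveI := hmono
      refine ⟨fun {W} u v huv => ?_⟩
      have hv : v ≫ Y'.hom = u ≫ Y'.hom := by rw [← Over.w m, ← Category.assoc, ← huv, Category.assoc]
      exact congrArg Over.Hom.left ((cancel_mono m).1
        (show (Over.homMk u : Over.mk (u ≫ Y'.hom) ⟶ Y') ≫ m = Over.homMk v hv ≫ m by ext; exact huv))
    let fam : Presieve.FamilyOfElements (yoneda.obj Y'.left) R := fun U f hf => (y' f hf).left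
    have hfam : fam.Compatible := by
      intro U₁ U₂ W g₁ g₂ f₁ f₂ h₁ h₂ hcomm
      show g₁ ≫ (y' f₁ h₁).left = g₂ ≫ (y' f₂ h₂).left
      rw [← cancel_mono m.left, Category.assoc, Category.assoc, hy'', hy'', reassoc_of% hcomm]
    let g₀ : T.left ⟶ Y'.left := (Groth.ChGrpH.isSheafFor hR Y'.left).amalgamate fam hfam
    have hg₀ : g₀ ≫ m.left = y.left := by
      refine (Groth.ChGrpH.isSheafFor hR Y.left).isSeparatedFor (fun U f _ => f ≫ y.left) _ _ ?_ (fun U f _ => rfl)
      intro U f hf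
      show f ≫ g₀ ≫ m.left = f ≫ y.left
      have hg : f ≫ g₀ = (y' f hf).left := (Groth.ChGrpH.isSheafFor hR Y'.left).valid_glue hfam f hf
      rw [reassoc_of% hg, hy'']
    refine ⟨Over.homMk g₀ ?_, by ext; exact hg₀⟩
    rw [← Over.w m, ← Category.assoc, hg₀, Over.w y]
  · have hsq : IsPullback (Q ◁ incl) j' j m := by
      refine Groth.ChGrpH.isPullback_of_points hm.symm (fun T p y hpy => ?_) fun T l l' h1 h2 => ?_
      · rw [Groth.ChGrpH.point_eq_lift p] at hpy ⊢
        obtain ⟨R, hR, hl⟩ := Groth.ChGrpH.balProd_exists_local hY' y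
        -- the point of `X` is fixed
        have hfix : lift (toUnit T ≫ h) (p ≫ snd Q X) ≫ a.act = p ≫ snd Q X := by
          refine Groth.ChGrpH.hom_ext_of_cover hR fun U f hf => ?_
          obtain ⟨q', x', hqx⟩ := hl f hf
          let t : Over.mk (f ≫ T.hom) ⟶ T := Over.homMk f
          suffices t ≫ lift (toUnit T ≫ h) (p ≫ snd Q X) ≫ a.act = t ≫ p ≫ snd Q X from congrArg Over.Hom.left this
          have e1 : lift (t ≫ p ≫ fst Q X) (t ≫ p ≫ snd Q X) ≫ j = lift q' (x' ≫ incl) ≫ j := by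
            rw [← hm', ← comp_lift, Category.assoc, hpy, ← Category.assoc, ← hqx, Category.assoc]
          obtain ⟨g, hg, hx⟩ := Groth.ChGrpH.balProd_exists_of_eq hY e1
          rw [comp_lift_assoc, ← Category.assoc t, toUnit_unique (t ≫ toUnit T) (toUnit _)]
          exact (hXh _ _).1 ⟨lift g x' ≫ aXh.act, (hinc _ g x').trans hx.symm⟩
        obtain ⟨x, hx⟩ := (hXh _ _).2 hfix
        refine ⟨lift (p ≫ fst Q X) x, ?_, ?_⟩
        · rw [lift_whiskerLeft, hx]
        · rw [← cancel_mono m, Category.assoc, hm', hx, hpy]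
      · apply CartesianMonoidalCategory.hom_ext
        · simpa using congrArg (· ≫ fst Q X) h1
        · rw [← cancel_mono incl]
          simpa using congrArg (· ≫ snd Q X) h1
    have hcl' : IsClosedImmersion (Q ◁ incl).left :=
      MorphismProperty.of_isPullback (P := @IsClosedImmersion) (Groth.GrpschAbsch.isPullback_whiskerLeft Q incl).flip hcl
    exact Groth.ChGrpH.of_hasLocSections @IsClosedImmersion inferInstance hj
      ((hsq.map (Over.forget S)).flip) hcl'

end Groth.Agent.S19099
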