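import Groth.Statements.S19102
import Groth.Agent.Misc1.Unip.ClassFun
import Groth.Agent.Misc1.Unip.LieKolchin
import Groth.Agent.AlgGrp2.AffinePts
-- import your own Groth.Agent.* helpers here

set_option autoImplicit false
open CategoryTheory MonoidalCategory CartesianMonoidalCategory MonObj AlgebraicGeometry
open scoped TensorProduct
open HopfRep

namespace Groth.Agent.S19102

/-- two points with values in the same scheme form a point of the product -/
theorem exists_pair (A : Type) [CommRing A] [Algebra ℂ A] {T : Over (Spec (CommRingCat.of ℂ))}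
    (x g : T ⟶ CoactBr.sp ℂ A) : ∃ u : T ⟶ CoactBr.sp ℂ (A ⊗[ℂ] A),
      u ≫ CoactBr.pt Algebra.TensorProduct.includeLeft = x ∧
        u ≫ CoactBr.pt Algebra.TensorProduct.includeRight = g := by
  let : (algSpec (CommRingCat.of ℂ)).Braided := braidedAlgSpec
  let e : CoactBr.sp ℂ A ⊗ CoactBr.sp ℂ A ≅ CoactBr.sp ℂ (A ⊗[ℂ] A) :=
    Functor.Monoidal.μIso (algSpec (CommRingCat.of ℂ)) (Opposite.op (.of ℂ A)) (Opposite.op (.of ℂ A))
  let p := lift (CoactBr.pt (R := ℂ) (Algebra.TensorProduct.includeLeft : A →ₐ[ℂ] A ⊗[ℂ] A))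
    (CoactBr.pt (R := ℂ) (Algebra.TensorProduct.includeRight : A →ₐ[ℂ] A ⊗[ℂ] A))
  have h1 : p ≫ e.hom = 𝟙 _ := by
    refine (CoactBr.lift_pt_pt _ _).trans ?_
    rw [← CoactBr.pt_id]
    congr 1
    exact Algebra.TensorProduct.ext' fun a b => by simp [Algebra.TensorProduct.tmul_mul_tmul]
  have h2 : e.hom ≫ p = 𝟙 _ := by
    rw [← cancel_mono e.hom, Category.assoc, h1, Category.comp_id, Category.id_comp]
  refine ⟨lift x g ≫ e.hom, ?_, ?_⟩
  · have := congrArg (fun m => lift x g ≫ m ≫ fst _ _) h2
    simpa [p] using this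
  · have := congrArg (fun m => lift x g ≫ m ≫ snd _ _) h2
    simpa [p] using this

attribute [local instance 100] Groth.Misc1.Unip.convGrpC

open WithConv

theorem pushPt_pt {A : Type} [CommRing A] [HopfAlgebra ℂ A] {C D : Type} [CommRing C] [Algebra ℂ C]
    [CommRing D] [Algebra ℂ D] (c : C →ₐ[ℂ] D) (F : WithConv (A →ₐ[ℂ] C)) (a : A) :
    (Groth.Misc1.Unip.pushPt c F).ofConv a = c (F.ofConv a) := rfl

/-- class functions are the symmetric functions -/
theorem classFun_iff (A : Type) [CommRing A] [HopfAlgebra ℂ A] (f : A) :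
    (∀ (T : Over (Spec (CommRingCat.of ℂ))) (x g : T ⟶ CoactBr.sp ℂ A),
          (x * g * x⁻¹).left.appTop ((Scheme.ΓSpecIso (CommRingCat.of A)).inv f) =
            g.left.appTop ((Scheme.ΓSpecIso (CommRingCat.of A)).inv f)) ↔
      TensorProduct.comm ℂ A A (Coalgebra.comul (R := ℂ) f) = Coalgebra.comul (R := ℂ) f := by
  let iL : WithConv (A →ₐ[ℂ] A ⊗[ℂ] A) := toConv Algebra.TensorProduct.includeLeft
  let iR : WithConv (A →ₐ[ℂ] A ⊗[ℂ] A) := toConv Algebra.TensorProduct.includeRight
  let χ := iL * iR * iL⁻¹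
  let E : WithConv (A →ₐ[ℂ] A ⊗[ℂ] A) ≃* (CoactBr.sp ℂ (A ⊗[ℂ] A) ⟶ CoactBr.sp ℂ A) := Spec.mapMulEquiv
  have hE : E χ = E iL * E iR * (E iL)⁻¹ := by
    rw [← map_inv E, ← map_mul, ← map_mul]
  have happ : ∀ F : WithConv (A →ₐ[ℂ] A ⊗[ℂ] A), (E F).left.appTop ((Scheme.ΓSpecIso (CommRingCat.of A)).inv f) =
      (Scheme.ΓSpecIso (CommRingCat.of (A ⊗[ℂ] A))).inv (F.ofConv f) := fun F =>
    (congrArg (fun m => m.hom f) (Scheme.ΓSpecIso_inv_naturality (CommRingCat.ofHom F.ofConv.toRingHom))).symm
  have key : (∀ (T : Over (Spec (CommRingCat.of ℂ))) (x g : T ⟶ CoactBr.sp ℂ A),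
      (x * g * x⁻¹).left.appTop ((Scheme.ΓSpecIso (CommRingCat.of A)).inv f) =
        g.left.appTop ((Scheme.ΓSpecIso (CommRingCat.of A)).inv f)) ↔ χ.ofConv f = iR.ofConv f := by
    refine ⟨fun h => ?_, fun h T x g => ?_⟩
    · have := h _ (E iL) (E iR)
      rw [← hE, happ, happ] at this
      exact (Scheme.ΓSpecIso (CommRingCat.of (A ⊗[ℂ] A))).commRingCatIsoToRingEquiv.symm.injective this
    · obtain ⟨u, hu1, hu2⟩ := exists_pair A x g
      rw [← hu1, ← hu2, ← GrpObj.comp_inv, ← MonObj.comp_mul, ← MonObj.comp_mul,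
        show CoactBr.pt Algebra.TensorProduct.includeLeft * CoactBr.pt Algebra.TensorProduct.includeRight *
          (CoactBr.pt Algebra.TensorProduct.includeLeft)⁻¹ = E χ from hE.symm,
        Over.comp_left, Over.comp_left, Scheme.Hom.comp_appTop, Scheme.Hom.comp_appTop]
      refine congrArg (fun z => u.left.appTop z) ?_
      change (E χ).left.appTop _ = (E iR).left.appTop _
      rw [happ, happ, h]
  rw [key]
  have hL : (iL * iR).ofConv f = Coalgebra.comul (R := ℂ) f := by
    rw [AlgHom.convMul_apply]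
    generalize Coalgebra.comul (R := ℂ) f = z
    induction z using TensorProduct.induction_on with
    | zero => simp
    | tmul p q => simp [iL, iR, Algebra.TensorProduct.tmul_mul_tmul]
    | add p q hp hq => simp only [map_add, hp, hq]
  have hR : (iR * iL).ofConv f = TensorProduct.comm ℂ A A (Coalgebra.comul (R := ℂ) f) := by
    rw [AlgHom.convMul_apply]
    generalize Coalgebra.comul (R := ℂ) f = z
    induction z using TensorProduct.induction_on with
    | zero => simp
    | tmul p q => simp [iL, iR, Algebra.TensorProduct.tmul_mul_tmul]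
    | add p q hp hq => simp only [map_add, hp, hq]
  rw [← hR, ← hL]
  let push (G : WithConv (A →ₐ[ℂ] A ⊗[ℂ] A)) := Groth.Misc1.Unip.pushPt (A := A)
    (Algebra.TensorProduct.lift iL.ofConv G.ofConv fun _ _ => Commute.all _ _)
  have hpL : ∀ G, push G iL = iL := fun G => WithConv.ofConv_injective (AlgHom.ext fun a => by
    change Algebra.TensorProduct.lift iL.ofConv G.ofConv (fun _ _ => Commute.all _ _) (a ⊗ₜ (1 : A)) = a ⊗ₜ (1 : A)
    rw [Algebra.TensorProduct.lift_tmul, map_one, _root_.mul_one]
    rfl)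
  have hpR : ∀ G, push G iR = G := fun G => WithConv.ofConv_injective (AlgHom.ext fun a => by
    change Algebra.TensorProduct.lift iL.ofConv G.ofConv (fun _ _ => Commute.all _ _) ((1 : A) ⊗ₜ a) = G.ofConv a
    rw [Algebra.TensorProduct.lift_tmul, map_one, _root_.one_mul])
  constructor
  · intro h
    have h2 := congrArg (Algebra.TensorProduct.lift iL.ofConv (iR * iL).ofConv fun _ _ => Commute.all _ _) h
    rw [← pushPt_pt, ← pushPt_pt] at h2
    change (push (iR * iL) χ).ofConv f = (push (iR * iL) iR).ofConv f at h2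
    rw [hpR, show χ = iL * iR * iL⁻¹ from rfl, map_mul, map_mul, map_inv, hpL, hpR, ← _root_.mul_assoc,
      mul_inv_cancel_right] at h2
    exact h2.symm
  · intro h
    have h2 := congrArg (Algebra.TensorProduct.lift iL.ofConv (iR * iL⁻¹).ofConv fun _ _ => Commute.all _ _) h
    rw [← pushPt_pt, ← pushPt_pt] at h2
    change (push (iR * iL⁻¹) (iR * iL)).ofConv f = (push (iR * iL⁻¹) (iL * iR)).ofConv f at h2
    rw [map_mul, map_mul, hpL, hpR, inv_mul_cancel_right, ← _root_.mul_assoc] at h2
    exact h2.symm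

/-- Let A be a finitely generated commutative Hopf algebra over the complex numbers all of whose
finite-dimensional comodules are semisimple (a linearly reductive complex linear algebraic group G =
Spec A, connected or not; over the complex numbers these are the groups whose identity component has
a torus as radical, the reductive groups of the source). For a comodule structure on the coordinate
space ℂ^d with coaction e_i ↦ Σ_j e_j ⊗ a_ji, its character is the element Σ_i a_ii of A. Then (1)
an element f of A is a class function, meaning f(x g x⁻¹) = f(g) for all points x, g of G with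
values in any ℂ-scheme, if and only if f is a ℂ-linear combination of characters; and (2) the
characters of finitely many simple comodule structures on coordinate spaces, pairwise non-isomorphic
(no linear isomorphism intertwines the coactions), are linearly independent over ℂ. In other words
the character map from the complexified representation ring of G to the ring of class functions on G
is bijective. (The source's further assertion that R(G) is a finitely generated algebra for every G
is not restated.) -/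
theorem result
    (A : Type) [CommRing A] [HopfAlgebra ℂ A] [Algebra.FiniteType ℂ A]
    (hred : HopfRep.IsLinearlyReductive ℂ A) :
    (∀ f : A,
      (∀ (T : Over (Spec (CommRingCat.of ℂ))) (x g : T ⟶ CoactBr.sp ℂ A),
          (x * g * x⁻¹).left.appTop ((Scheme.ΓSpecIso (CommRingCat.of A)).inv f) =
            g.left.appTop ((Scheme.ΓSpecIso (CommRingCat.of A)).inv f)) ↔
        f ∈ Submodule.span ℂ (Set.range fun p : (Σ d : ℕ, HopfRep.Comod ℂ A (Fin d → ℂ)) =>
          ∑ i : Fin p.1, TensorProduct.lid ℂ A (LinearMap.rTensor A (LinearMap.proj i)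
            (@HopfRep.Comod.coact ℂ A _ _ _ _ (Fin p.1 → ℂ) _ _ p.2 (Pi.single i 1))))) ∧
    (∀ (n : ℕ) (d : Fin n → ℕ) (c : (i : Fin n) → HopfRep.Comod ℂ A (Fin (d i) → ℂ)),
      (∀ i, @HopfRep.IsSimpleComod ℂ A _ _ _ _ (Fin (d i) → ℂ) _ _ (c i)) →
      (∀ i j, i ≠ j → ∀ P : (Fin (d i) → ℂ) ≃ₗ[ℂ] (Fin (d j) → ℂ),
          LinearMap.rTensor A P.toLinearMap ∘ₗ @HopfRep.Comod.coact ℂ A _ _ _ _ (Fin (d i) → ℂ) _ _ (c i) ≠
            (@HopfRep.Comod.coact ℂ A _ _ _ _ (Fin (d j) → ℂ) _ _ (c j)) ∘ₗ P.toLinearMap) →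
      LinearIndependent ℂ (fun i : Fin n => ∑ t : Fin (d i), TensorProduct.lid ℂ A (LinearMap.rTensor A (LinearMap.proj t)
            (@HopfRep.Comod.coact ℂ A _ _ _ _ (Fin (d i) → ℂ) _ _ (c i) (Pi.single t 1))))) := by
  have hset := Groth.ComodLib.range_char_eq ℂ A
  refine ⟨fun f => ?_, ?_⟩
  · rw [classFun_iff, hset]
    exact ⟨fun h => Groth.Misc1.Unip.ClassFun.mem_span_of_comm (fun U hU hfin => @hred U _ _ (ComodSub.Comod.restr (HopfRep.Comod.regular ℂ A) U hU) hfin) h,
      Groth.Misc1.Unip.ClassFun.comm_comul_of_mem_span⟩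
  · intro n d c hs hne
    letI := c
    have h := Groth.Misc1.Unip.ClassFun.linearIndependent_trace (k := ℂ) (A := A)
      (V := fun i : Fin n => Fin (d i) → ℂ) hs (fun i j hij P hP => hne i j hij P hP.symm) d
      (fun i => Pi.basisFun ℂ (Fin (d i)))
    refine Eq.subst (motive := fun F => LinearIndependent ℂ F) (funext fun i => ?_) h
    refine Finset.sum_congr rfl fun t _ => ?_
    have h1 : (Pi.basisFun ℂ (Fin (d i))).coord t = LinearMap.proj t := LinearMap.ext fun x => by simp
    simp [Matrix.diag, Groth.ComodLib.cfMat, Groth.ComodLib.cf_apply, Groth.ComodLib.lslice, h1]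

end Groth.Agent.S19102
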