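import Groth.Statements.S19106
import Mathlib.Combinatorics.Young.YoungDiagram
import Mathlib.Tactic

set_option autoImplicit false
open HilbD

namespace Groth.Agent.S19106

/-- Let μ be a non-empty Young diagram, V the number of its cells, E the number of unordered pairs of
cells sharing a side (a cell together with the cell immediately below it, or immediately to its
right, both in μ) and Q the number of 2 × 2 blocks of cells of μ (cells c such that the cell
diagonally below-right of c is in μ, the other two corners being in μ automatically). Then V − E + Q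
− 1 = 0, stated as V + Q = E + 1 in the naturals. (The empty diagram, for which the count reads 0 −
0 + 0 − 1, is excluded.) -/
theorem result (μ : YoungDiagram) (hμ : μ ≠ ⊥) :
    μ.cells.card + (μ.cells.filter (fun c => (c.1 + 1, c.2 + 1) ∈ μ)).card =
      (μ.cells.filter (fun c => (c.1 + 1, c.2) ∈ μ)).card + (μ.cells.filter (fun c => (c.1, c.2 + 1) ∈ μ)).card + 1 := by
  classical
  set A := μ.cells.filter (fun c => 0 < c.1) with hA
  set B := μ.cells.filter (fun c => 0 < c.2) with hB
  have h00 : ((0, 0) : ℕ × ℕ) ∈ μ := by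
    by_contra h
    refine hμ (YoungDiagram.ext (Finset.eq_empty_of_forall_notMem fun c hc => h ?_))
    exact μ.up_left_mem (Nat.zero_le _) (Nat.zero_le _) ((YoungDiagram.mem_cells c).1 hc)
  have h1 : (μ.cells.filter (fun c => (c.1 + 1, c.2) ∈ μ)).card = A.card := by
    refine Finset.card_bij (fun c _ => (c.1 + 1, c.2)) (fun c hc => ?_) (fun a _ b _ h => ?_) (fun c hc => ?_)
    · simp_all
    · simp only [Prod.mk.injEq] at h; exact Prod.ext (by omega) h.2
    · simp only [hA, Finset.mem_filter, YoungDiagram.mem_cells] at hc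
      refine ⟨(c.1 - 1, c.2), ?_, Prod.ext (by simp only; omega) rfl⟩
      simp only [Finset.mem_filter, YoungDiagram.mem_cells]
      exact ⟨μ.up_left_mem (by omega) le_rfl hc.1, by rw [Nat.sub_add_cancel hc.2]; exact hc.1⟩
  have h2 : (μ.cells.filter (fun c => (c.1, c.2 + 1) ∈ μ)).card = B.card := by
    refine Finset.card_bij (fun c _ => (c.1, c.2 + 1)) (fun c hc => ?_) (fun a _ b _ h => ?_) (fun c hc => ?_)
    · simp_all
    · simp only [Prod.mk.injEq] at h; exact Prod.ext h.1 (by omega)
    · simp only [hB, Finset.mem_filter, YoungDiagram.mem_cells] at hc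
      refine ⟨(c.1, c.2 - 1), ?_, Prod.ext rfl (by simp only; omega)⟩
      simp only [Finset.mem_filter, YoungDiagram.mem_cells]
      exact ⟨μ.up_left_mem le_rfl (by omega) hc.1, by rw [Nat.sub_add_cancel hc.2]; exact hc.1⟩
  have h3 : (μ.cells.filter (fun c => (c.1 + 1, c.2 + 1) ∈ μ)).card = (A ∩ B).card := by
    refine Finset.card_bij (fun c _ => (c.1 + 1, c.2 + 1)) (fun c hc => ?_) (fun a _ b _ h => ?_) (fun c hc => ?_)
    · simp_all
    · simp only [Prod.mk.injEq] at h; exact Prod.ext (by omega) (by omega)
    · simp only [hA, hB, Finset.mem_inter, Finset.mem_filter, YoungDiagram.mem_cells] at hc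
      obtain ⟨⟨hc, hc1⟩, -, hc2⟩ := hc
      refine ⟨(c.1 - 1, c.2 - 1), ?_, Prod.ext (by simp only; omega) (by simp only; omega)⟩
      simp only [Finset.mem_filter, YoungDiagram.mem_cells]
      exact ⟨μ.up_left_mem (by omega) (by omega) hc, by rw [Nat.sub_add_cancel hc1, Nat.sub_add_cancel hc2]; exact hc⟩
  have h4 : μ.cells = insert (0, 0) (A ∪ B) := by
    ext ⟨a, b⟩
    simp only [hA, hB, Finset.mem_insert, Finset.mem_union, Finset.mem_filter, YoungDiagram.mem_cells, Prod.mk.injEq]
    refine ⟨fun h => ?_, ?_⟩
    · rcases Nat.eq_zero_or_pos a with ha | ha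
      · rcases Nat.eq_zero_or_pos b with hb | hb
        · exact Or.inl ⟨ha, hb⟩
        · exact Or.inr (Or.inr ⟨h, hb⟩)
      · exact Or.inr (Or.inl ⟨h, ha⟩)
    · rintro (⟨rfl, rfl⟩ | h | h)
      exacts [h00, h.1, h.1]
  have hcard : μ.cells.card = (A ∪ B).card + 1 := by
    rw [h4, Finset.card_insert_of_notMem (by simp [hA, hB])]
  have := Finset.card_union_add_card_inter A B
  omega

end Groth.Agent.S19106
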