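import Groth.Statements.S19116
import Groth.Agent.StMod.AffRep.CohAffine
-- import your own Groth.Agent.* helpers here

set_option autoImplicit false
set_option backward.isDefEq.respectTransparency false
set_option backward.isDefEq.respectTransparency.types false
universe u
open CategoryTheory AlgebraicGeometry
open StMod

namespace Groth.Agent.S19116

/-- In the case of a morphism to an algebraic space, let `S` be a quasi-separated scheme, `𝒳` an
algebraic stack over `(Sch/S)` for the fppf topology, `M` an algebraic space over `S` that is
quasi-separated over `S`, and `π : 𝒳 ⟶ M` a morphism that is representable by algebraic spaces and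
affine. Then `π` is cohomologically affine and quasi-compact: pushforward along `π` takes
surjections of quasi-coherent modules to maps surjective on sections over every affine scheme etale
over `M`. (The printed item is for affine morphisms between arbitrary algebraic stacks; the target
is an algebraic space here. Standing conventions of the source: all algebraic spaces and morphisms
are quasi-separated.) -/
theorem result
    (S : Scheme.{u}) [QuasiSeparatedSpace S]
    (𝒳 : AlgSt.Cat S) (h𝒳 : AlgSt.IsAlgStack Scheme.fppfPrecoverage 𝒳)
    (M : AlgSp.Space S) (hM : AlgSp.IsQuasiSeparatedSp M.obj) (π : 𝒳 ⥤ᵇ AlgSt.ofSp M.obj)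
    (hπ : AlgSt.RepByAlgSpWith AlgSp.IsAffineMor π) :
    StMod.IsCohAffine π ∧ AlgSt.IsQuasiCompactMor Scheme.fppfPrecoverage π := by
  refine ⟨Groth.StModAffRep.isCohAffine_of_repWith_affine π hπ, ?_⟩
  refine (Groth.AlgStBasic.repWith_qc_iff_isQuasiCompactMor h𝒳
    (Groth.AlgStBasic.isAlgStack_ofSp M.property) (Groth.AlgStBasic.repWith_repByAlgSp1 hπ)).1 ?_
  exact Groth.AlgStBasic.repWith_mono (fun F G f hF hG h =>
    Groth.AlgSpBasic.isQuasiCompactMor_of_repWith hF hG (Groth.AlgSpBasic.repWith_mono
      (fun _ _ g hg => by
        have : IsAffineHom g := hg
        exact (inferInstance : QuasiCompact g))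
      (Groth.AlgSpBasic.isAffineMor_iff_repWith.1 h))) hπ

end Groth.Agent.S19116
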