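import Groth.Statements.S19127
import Groth.Agent.FrobLCI.HSL.Basic
import Groth.Agent.Matlis.Criterion
import Groth.Agent.LocDual.Completion

set_option autoImplicit false
set_option linter.style.haveILetI false
universe u v
open FrobAlg

namespace Groth.Agent.S19127

open IsLocalRing

theorem small_of_cofinite {A : Type u} [CommRing A] [IsNoetherianRing A] [IsLocalRing A]
    {M : Type v} [AddCommGroup M] [Module A M]
    (htors : LocCoh.IsPowerTorsion (maximalIdeal A) M)
    (hsoc : Module.Finite A ↥(LocCoh.torsionBy (maximalIdeal A) M)) : Small.{u} M := by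
  classical
  haveI := hsoc
  have hfin : ∀ k, (LocCoh.torsionBy (maximalIdeal A ^ k) M).FG := by
    intro k
    induction k with
    | zero =>
      rw [show LocCoh.torsionBy (maximalIdeal A ^ 0) M = ⊥ by
        rw [eq_bot_iff]
        intro x hx
        simpa using (Submodule.mem_torsionBySet_iff _ _).1 hx ⟨1, by simp⟩]
      exact Submodule.fg_bot
    | succ k ih =>
      obtain ⟨G, hG⟩ := IsNoetherian.noetherian (maximalIdeal A)
      haveI : Module.Finite A ↥(LocCoh.torsionBy (maximalIdeal A ^ k) M) := Module.Finite.iff_fg.2 ih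
      let g : ↥(LocCoh.torsionBy (maximalIdeal A ^ (k + 1)) M) →ₗ[A] (G → ↥(LocCoh.torsionBy (maximalIdeal A ^ k) M)) :=
        { toFun := fun x a => ⟨(a : A) • (x : M), (Submodule.mem_torsionBySet_iff _ _).2 fun r => by
            show (r : A) • ((a : A) • (x : M)) = 0
            rw [← mul_smul]
            exact (Submodule.mem_torsionBySet_iff _ _).1 x.2
              ⟨_, by rw [pow_succ]; exact Ideal.mul_mem_mul r.2 (hG ▸ Submodule.subset_span a.2)⟩⟩
          map_add' := fun x y => by ext a; simp
          map_smul' := fun c x => funext fun a => Subtype.ext (smul_comm (a : A) c (x : M)) }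
      rw [← Submodule.fg_top]
      refine Submodule.fg_of_fg_map_of_fg_inf_ker g ?_ ?_
      · haveI := isNoetherian_of_isNoetherianRing_of_finite A (G → ↥(LocCoh.torsionBy (maximalIdeal A ^ k) M))
        exact IsNoetherian.noetherian _
      · rw [top_inf_eq]
        let ψ : LinearMap.ker g →ₗ[A] ↥(LocCoh.torsionBy (maximalIdeal A) M) :=
          { toFun := fun x => ⟨(x : ↥(LocCoh.torsionBy (maximalIdeal A ^ (k + 1)) M)).1,
              (Submodule.mem_torsionBySet_iff _ _).2 fun r => by
                obtain ⟨r, hr0⟩ := r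
                show r • _ = (0 : M)
                have hr : r ∈ Submodule.span A (G : Set A) := hG.symm ▸ hr0
                clear hr0
                induction hr using Submodule.span_induction with
                | mem a ha => exact congrArg Subtype.val (congrFun (LinearMap.mem_ker.1 x.2) ⟨a, ha⟩)
                | zero => rw [zero_smul]
                | add a b _ _ ha hb => rw [add_smul, ha, hb, add_zero]
                | smul c a _ ha => rw [smul_eq_mul, mul_smul, ha, smul_zero]⟩
            map_add' := fun _ _ => rfl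
            map_smul' := fun _ _ => rfl }
        haveI : IsNoetherian A ↥(LocCoh.torsionBy (maximalIdeal A) M) :=
          isNoetherian_of_isNoetherianRing_of_finite A _
        haveI : Module.Finite A (LinearMap.ker g) := Module.Finite.of_injective ψ fun x y h =>
          Subtype.ext (Subtype.ext (congrArg (fun z : ↥(LocCoh.torsionBy (maximalIdeal A) M) => (z : M)) h))
        exact Module.Finite.iff_fg.1 inferInstance
  have hmod : ∀ k, ∃ (n : ℕ) (v : Fin n → M), ∀ x ∈ LocCoh.torsionBy (maximalIdeal A ^ k) M,
      ∃ c : Fin n → A, ∑ i, c i • v i = x := fun k => by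
    obtain ⟨n, v, hv⟩ := Submodule.fg_iff_exists_fin_generating_family.1 (hfin k)
    exact ⟨n, v, fun x hx => (Submodule.mem_span_range_iff_exists_fun A).1 (hv.symm ▸ hx)⟩
  choose n v hv using hmod
  refine small_of_surjective (α := Σ k, Fin (n k) → A) (f := fun s => ∑ i, s.2 i • v s.1 i) fun x => ?_
  obtain ⟨k, hk⟩ := htors x
  obtain ⟨c, hc⟩ := hv k x ((Submodule.mem_torsionBySet_iff _ _).2 fun r => hk r r.2)
  exact ⟨⟨k, c⟩, hc⟩

theorem main (p : ℕ) [Fact p.Prime] {A : Type u} [CommRing A] [IsNoetherianRing A] [IsLocalRing A] [CharP A p]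
    {M : Type u} [AddCommGroup M] [Module A M]
    (htors : LocCoh.IsPowerTorsion (maximalIdeal A) M)
    (hsoc : Module.Finite A ↥(LocCoh.torsionBy (maximalIdeal A) M))
    (φ : M →+ M) (hφ : ∀ (a : A) x, φ (a • x) = a ^ p • φ x)
    (hloc : ∀ x : M, ∃ n : ℕ, (⇑φ)^[n] x = 0) :
    ∃ n : ℕ, ∀ x : M, (⇑φ)^[n] x = 0 := by
  let S := AdicCompletion (maximalIdeal A) A
  have hp : p.Prime := Fact.out
  haveI := Groth.LocDual.isNoetherianRing_cpl (R := A)
  haveI : IsAdicComplete (maximalIdeal S) S := AdicCompletion.isAdicComplete_of_fg (IsNoetherian.noetherian _)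
  haveI : CharP S p := (CharP.charP_iff_prime_eq_zero hp).2 (by
    rw [← map_natCast (algebraMap A S), CharP.cast_eq_zero, map_zero])
  haveI := hsoc
  haveI : Module.Finite (A ⧸ maximalIdeal A) ↥(LocCoh.torsionBy (maximalIdeal A) M) :=
    Module.Finite.of_restrictScalars_finite A _ _
  obtain ⟨E, _, _, f, hf⟩ := GrothMatlis.exists_hull A (ResidueField A)
  haveI : IsArtinian A M := GrothMatlis.isArtinian_of_socle hf M htors
  let e : M ≃ₗ[A] TensorProduct A S M := LinearEquiv.ofBijective (TensorProduct.mk A S M 1)
    (GrothMatlis.completion_tensor_bijective htors)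
  letI : Module S M := e.toAddEquiv.module S
  have hS : ∀ (s : S) (x : M), s • x = e.symm (s • e x) := fun s x => rfl
  haveI : IsScalarTower A S M := IsScalarTower.of_algebraMap_smul fun r x => by
    rw [hS, algebraMap_smul, map_smul, e.symm_apply_apply]
  haveI : IsArtinian S M := isArtinian_of_tower A inferInstance
  have hkill : ∀ x : M, ∃ k, ∀ s ∈ maximalIdeal S ^ k, s • x = 0 := fun x => by
    obtain ⟨k, hk⟩ := htors x
    refine ⟨k, fun s hs => ?_⟩
    rw [AdicCompletion.maximalIdeal_eq_map, ← Ideal.map_pow] at hs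
    induction hs using Submodule.span_induction with
    | mem s hs =>
      obtain ⟨a, ha, rfl⟩ := hs
      rw [algebraMap_smul]
      exact hk a ha
    | zero => exact zero_smul _ _
    | add a b _ _ ha hb => rw [add_smul, ha, hb, add_zero]
    | smul c a _ ha => rw [smul_eq_mul, mul_smul, ha, smul_zero]
  refine Groth.HSL.nilpotent_of_locallyNilpotent (R := S) hp.two_le φ (fun s x => ?_) hloc
  obtain ⟨k, hk⟩ := hkill x
  obtain ⟨l, hl⟩ := hkill (φ x)
  obtain ⟨r, hr⟩ := Submodule.Quotient.mk_surjective _ (s.val (k + l))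
  have hmem : s - algebraMap A S r ∈ maximalIdeal S ^ (k + l) := by
    have hker : s - AdicCompletion.of (maximalIdeal A) A r ∈
        maximalIdeal A ^ (k + l) • (⊤ : Submodule A S) := by
      rw [AdicCompletion.pow_smul_top_eq_ker_eval (maximalIdeal A).fg_of_isNoetherianRing,
        LinearMap.mem_ker, map_sub, AdicCompletion.eval_of, AdicCompletion.eval_apply, ← hr,
        Submodule.mkQ_apply, sub_self]
    rw [AdicCompletion.maximalIdeal_eq_map, ← Ideal.map_pow]
    rw [show algebraMap A S r = AdicCompletion.of (maximalIdeal A) A r from rfl]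
    rw [Ideal.smul_top_eq_map] at hker
    exact hker
  have h1 : s • x = r • x := by
    rw [← sub_eq_zero, ← algebraMap_smul S r x, ← sub_smul]
    exact hk _ (Ideal.pow_le_pow_right (Nat.le_add_right k l) hmem)
  have h2 : s ^ p • φ x = r ^ p • φ x := by
    rw [← sub_eq_zero, ← algebraMap_smul S (r ^ p) (φ x), ← sub_smul, map_pow, ← sub_pow_char]
    exact hl _ (Ideal.pow_mem_of_mem _ (Ideal.pow_le_pow_right (Nat.le_add_left l k) hmem) _ hp.pos)
  rw [h1, hφ, h2]

/-- Let p be a prime, A a Noetherian local ring of characteristic p with maximal ideal m, and M an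
A-module which is cofinite, meaning that every element of M is annihilated by some power of m and
that the socle of M (the elements annihilated by m) is a finitely generated A-module. Let φ : M → M
be an additive map that is semilinear for the Frobenius of A, φ(a x) = a^p φ(x). If φ is locally
nilpotent, i.e. every element of M is annihilated by some iterate of φ, then φ is nilpotent: one
iterate of φ is zero on all of M. -/
theorem result
    (p : ℕ) [Fact p.Prime] (A : Type u) [CommRing A] [IsNoetherianRing A] [IsLocalRing A] [CharP A p]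
    (M : Type v) [AddCommGroup M] [Module A M]
    (htors : LocCoh.IsPowerTorsion (IsLocalRing.maximalIdeal A) M)
    (hsoc : Module.Finite A ↥(LocCoh.torsionBy (IsLocalRing.maximalIdeal A) M))
    (φ : M →ₛₗ[frobenius A p] M)
    (hloc : ∀ x : M, ∃ n : ℕ, (⇑φ)^[n] x = 0) :
    ∃ n : ℕ, ∀ x : M, (⇑φ)^[n] x = 0 := by
  haveI := small_of_cofinite htors hsoc
  let e := Shrink.linearEquiv A M
  have htors' : LocCoh.IsPowerTorsion (maximalIdeal A) (Shrink.{u} M) := fun x => by
    obtain ⟨k, hk⟩ := htors (e x)
    exact ⟨k, fun a ha => e.injective (by rw [map_smul, hk a ha, map_zero])⟩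
  have hsoc' : Module.Finite A ↥(LocCoh.torsionBy (maximalIdeal A) (Shrink.{u} M)) := by
    haveI : IsNoetherian A ↥(LocCoh.torsionBy (maximalIdeal A) M) :=
      haveI := hsoc; isNoetherian_of_isNoetherianRing_of_finite A _
    let ψ : ↥(LocCoh.torsionBy (maximalIdeal A) (Shrink.{u} M)) →ₗ[A] ↥(LocCoh.torsionBy (maximalIdeal A) M) :=
      { toFun := fun x => ⟨e x, (Submodule.mem_torsionBySet_iff _ _).2 fun r => by
          show (r : A) • e x = 0
          rw [← map_smul, show (r : A) • (x : Shrink.{u} M) = 0 from
            (Submodule.mem_torsionBySet_iff _ _).1 x.2 r, map_zero]⟩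
        map_add' := fun a b => Subtype.ext (map_add e _ _)
        map_smul' := fun a b => Subtype.ext (map_smul e _ _) }
    exact Module.Finite.of_injective ψ fun a b h => Subtype.ext (e.injective
      (congrArg (fun z : ↥(LocCoh.torsionBy (maximalIdeal A) M) => (z : M)) h))
  let ψ : Shrink.{u} M →+ Shrink.{u} M :=
    AddMonoidHom.mk' (fun x => e.symm (φ (e x))) fun a b => by simp only [map_add]
  have hsemi : ∀ x, e (ψ x) = φ (e x) := fun x => e.apply_symm_apply _
  have hit : ∀ n x, e ((⇑ψ)^[n] x) = (⇑φ)^[n] (e x) := by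
    intro n
    induction n with
    | zero => exact fun x => rfl
    | succ n ih => intro x; rw [Function.iterate_succ_apply', Function.iterate_succ_apply', hsemi, ih]
  obtain ⟨n, hn⟩ := main p htors' hsoc' ψ
    (fun a x => e.injective (by rw [hsemi, map_smul, map_smulₛₗ, map_smul, hsemi, frobenius_def]))
    (fun x => by
      obtain ⟨n, hn⟩ := hloc (e x)
      exact ⟨n, e.injective (by rw [hit, hn, map_zero])⟩)
  refine ⟨n, fun y => ?_⟩
  rw [← e.apply_symm_apply y, ← hit, hn, map_zero]

end Groth.Agent.S19127
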