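import Groth.Statements.S1913
import Groth.Agent.Calg6.DiagStalk
import Groth.Agent.EtaleAlgebra.EtaleCriterion
import Mathlib.AlgebraicGeometry.PullbackCarrier

set_option autoImplicit false
universe u
open CategoryTheory AlgebraicGeometry
attribute [local instance] HasDerivedCategory.standard
open CategoryTheory.Limits
open IntMult

namespace Groth.Agent.S1913

/-- Reduction to the diagonal for intersection multiplicities, coefficientwise: e(X, V·W, Z) = e(X × X,
Δ·(V × W), Δ(Z)), where X × X is the product over K, Δ its diagonal (a closed immersion, X being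
separated) and V × W ⊆ X × X the product closed subscheme. Here X is a nonsingular variety over an
algebraically closed field K (smooth, separated, of finite type, integral), V and W are closed
subvarieties given by quasi-coherent ideal sheaves with integral subschemes, of dimensions r and s
with dim X = n, intersecting properly, and ξ is the generic point of an irreducible component Z of V
∩ W; e(X, V·W, Z) is the alternating sum of lengths of Tor over 𝒪_{X,ξ}. -/
theorem result (K : Type u) [Field K] [IsAlgClosed K] (X : Scheme.{u}) (f : X ⟶ Spec (CommRingCat.of K)) [Smooth f] [IsSeparated f] [QuasiCompact f] [IsIntegral X] (IV IW : X.IdealSheafData) [IsIntegral IV.subscheme] [IsIntegral IW.subscheme] (n r s : ℕ) (hn : topologicalKrullDim X = n) (hr : topologicalKrullDim IV.support = r) (hs : topologicalKrullDim IW.support = s) (hprop : IntMult.ProperInt (IV.support : Set X) (IW.support : Set X) n r s) (ξ : X) (hξV : ξ ∈ IV.support) (hξW : ξ ∈ IW.support) (hmax : ∀ ξ' : X, ξ' ∈ IV.support →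 ξ' ∈ IW.support → ξ' ⤳ ξ → ξ' = ξ) : IntMult.mult IV IW ξ = IntMult.mult (pullback.map (IV.subschemeι ≫ f) (IW.subschemeι ≫ f) f f IV.subschemeι IW.subschemeι (𝟙 _) (Category.comp_id _) (Category.comp_id _)).ker (pullback.diagonal f).ker (pullback.diagonal f ξ) := by
  let fV := IV.subschemeι ≫ f
  let fW := IW.subschemeι ≫ f
  let z := pullback.diagonal f ξ
  let p : pullback fV fW ⟶ pullback f f :=
    pullback.map fV fW f f IV.subschemeι IW.subschemeι (𝟙 _) (Category.comp_id _) (Category.comp_id _)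
  haveI : IsClosedImmersion p :=
    MorphismProperty.pullbackMap (P := @IsClosedImmersion) (inferInstance : IsClosedImmersion IV.subschemeι)
      (inferInstance : IsClosedImmersion IW.subschemeι) rfl rfl
  have hz₁ : pullback.fst f f z = ξ := by
    rw [← Scheme.Hom.comp_apply, pullback.diagonal_fst]; rfl
  have hz₂ : pullback.snd f f z = ξ := by
    rw [← Scheme.Hom.comp_apply, pullback.diagonal_snd]; rfl
  obtain ⟨z', hz'⟩ : z ∈ Set.range p := by
    rw [Scheme.Pullback.range_map]
    exact ⟨by rw [Scheme.IdealSheafData.range_subschemeι]; show pullback.fst f f z ∈ IV.support; rwa [hz₁],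
      by rw [Scheme.IdealSheafData.range_subschemeι]; show pullback.snd f f z ∈ IW.support; rwa [hz₂]⟩
  -- a chart
  obtain ⟨U₀, hU₀, U, hU, hxU, hle, hstd⟩ := Smooth.exists_isStandardSmooth f ξ
  obtain rfl : U₀ = ⊤ := top_le_iff.1 fun z _ => (Subsingleton.elim (f ξ) z) ▸ hle hxU
  let φ : K →+* Γ(X, U) := (f.appLE ⊤ U hle).hom.comp (Scheme.ΓSpecIso (CommRingCat.of K)).inv.hom
  have hφ : φ.IsStandardSmooth := RingHom.isStandardSmooth_respectsIso.2 _
    (Scheme.ΓSpecIso (CommRingCat.of K)).commRingCatIsoToRingEquiv.symm hstd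
  obtain ⟨n', g, hg, hget⟩ := hφ.exists_etale_mvPolynomial
  letI : Algebra K Γ(X, U) := φ.toAlgebra
  letI : Algebra (MvPolynomial (Fin n') K) Γ(X, U) := g.toAlgebra
  haveI : IsScalarTower K (MvPolynomial (Fin n') K) Γ(X, U) := IsScalarTower.of_algebraMap_eq' hg.symm
  haveI : Algebra.Etale (MvPolynomial (Fin n') K) Γ(X, U) := hget
  haveI : Algebra.FiniteType K Γ(X, U) :=
    Algebra.FiniteType.trans (S := MvPolynomial (Fin n') K) inferInstance inferInstance
  letI : Algebra Γ(X, U) (X.presheaf.stalk ξ) := TopCat.Presheaf.algebra_section_stalk X.presheaf ⟨ξ, hxU⟩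
  let m := (hU.primeIdealOf ⟨ξ, hxU⟩).asIdeal
  haveI : IsLocalization.AtPrime (X.presheaf.stalk ξ) m := hU.isLocalization_stalk ⟨ξ, hxU⟩
  letI algK : Algebra (CommRingCat.of K) (X.presheaf.stalk ξ) := (Groth.Calg6.ProdStalk.baseHom f ξ).hom.toAlgebra
  letI algK' : Algebra K (X.presheaf.stalk ξ) := algK
  haveI : IsScalarTower K Γ(X, U) (X.presheaf.stalk ξ) := IsScalarTower.of_algebraMap_eq fun r =>
    (congr($(Groth.Calg6.ProdStalk.baseHom_appLE f ξ U hxU hle).hom r)).symm
  letI : Algebra (MvPolynomial (Fin n') K) (X.presheaf.stalk ξ) :=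
    ((algebraMap Γ(X, U) (X.presheaf.stalk ξ)).comp (algebraMap (MvPolynomial (Fin n') K) Γ(X, U))).toAlgebra
  haveI : IsScalarTower (MvPolynomial (Fin n') K) Γ(X, U) (X.presheaf.stalk ξ) := IsScalarTower.of_algebraMap_eq' rfl
  haveI : IsScalarTower K (MvPolynomial (Fin n') K) (X.presheaf.stalk ξ) := IsScalarTower.of_algebraMap_eq fun r => by
    rw [IsScalarTower.algebraMap_apply K Γ(X, U) (X.presheaf.stalk ξ),
      IsScalarTower.algebraMap_apply (MvPolynomial (Fin n') K) Γ(X, U) (X.presheaf.stalk ξ),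
      ← IsScalarTower.algebraMap_apply K (MvPolynomial (Fin n') K) Γ(X, U)]
  haveI : Module.Flat Γ(X, U) (X.presheaf.stalk ξ) := IsLocalization.flat _ m.primeCompl
  haveI : Algebra.EssFiniteType Γ(X, U) (X.presheaf.stalk ξ) := Algebra.EssFiniteType.of_isLocalization _ m.primeCompl
  haveI : Algebra.EssFiniteType K (X.presheaf.stalk ξ) := Algebra.EssFiniteType.comp K Γ(X, U) _
  haveI : IsNoetherianRing (X.presheaf.stalk ξ) := Algebra.EssFiniteType.isNoetherianRing K _
  haveI : Algebra.FormallyUnramified Γ(X, U) (X.presheaf.stalk ξ) :=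
    Algebra.FormallyUnramified.of_isLocalization m.primeCompl
  haveI : Algebra.FormallyUnramified (MvPolynomial (Fin n') K) (X.presheaf.stalk ξ) :=
    Algebra.FormallyUnramified.comp _ Γ(X, U) _
  haveI : Module.Flat (MvPolynomial (Fin n') K) Γ(X, U) := inferInstance
  haveI : Module.Flat (MvPolynomial (Fin n') K) (X.presheaf.stalk ξ) := Module.Flat.trans _ Γ(X, U) _
  obtain ⟨π, hl, hr, hloc⟩ := Groth.Calg6.DiagStalk.exists_pi f f z ξ ξ hz₁ hz₂
  let δ := (Groth.Calg6.DiagStalk.stalkMapAt (pullback.diagonal f) ξ z rfl).hom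
  have hδ : δ.comp π = (Algebra.TensorProduct.lmul' (CommRingCat.of K) (S := X.presheaf.stalk ξ)).toRingHom := by
    have e₁ : Groth.Calg6.DiagStalk.stalkMapAt (pullback.fst f f) z ξ hz₁ ≫
        Groth.Calg6.DiagStalk.stalkMapAt (pullback.diagonal f) ξ z rfl = 𝟙 _ := by
      rw [Groth.Calg6.DiagStalk.stalkMapAt_comp _ _ ξ z ξ rfl hz₁ hz₁,
        Groth.Calg6.DiagStalk.stalkMapAt_congr (pullback.diagonal_fst f) ξ ξ _ rfl,
        Groth.Calg6.DiagStalk.stalkMapAt_id]
    have e₂ : Groth.Calg6.DiagStalk.stalkMapAt (pullback.snd f f) z ξ hz₂ ≫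
        Groth.Calg6.DiagStalk.stalkMapAt (pullback.diagonal f) ξ z rfl = 𝟙 _ := by
      rw [Groth.Calg6.DiagStalk.stalkMapAt_comp _ _ ξ z ξ rfl hz₂ hz₂,
        Groth.Calg6.DiagStalk.stalkMapAt_congr (pullback.diagonal_snd f) ξ ξ _ rfl,
        Groth.Calg6.DiagStalk.stalkMapAt_id]
    refine RingHom.ext fun c => ?_
    induction c using TensorProduct.induction_on with
    | zero => simp only [map_zero]
    | add c d hc hd => simp only [map_add, hc, hd]
    | tmul c d =>
      change δ (π _) = Algebra.TensorProduct.lmul' (CommRingCat.of K) _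
      rw [Algebra.TensorProduct.lmul'_apply_tmul,
        show c ⊗ₜ[(CommRingCat.of K)] d = (c ⊗ₜ[(CommRingCat.of K)] (1 : X.presheaf.stalk ξ)) *
            ((1 : X.presheaf.stalk ξ) ⊗ₜ[(CommRingCat.of K)] d) by
          rw [Algebra.TensorProduct.tmul_mul_tmul, mul_one, one_mul], map_mul, map_mul]
      refine congrArg₂ (· * ·) ?_ ?_
      · exact (congrArg δ (congrArg (fun h => h c) hl)).trans congr($(e₁).hom c)
      · exact (congrArg δ (congrArg (fun h => h d) hr)).trans congr($(e₂).hom d)
  have h := Groth.Calg6.Diag.chi_reduce (n := n') K (X.presheaf.stalk ξ) π hloc δ hδ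
    (IntMult.stalkIdeal IV ξ) (IntMult.stalkIdeal IW ξ)
  have hP := Groth.Calg6.DiagStalk.ker_prod f f IV.subschemeι IW.subschemeι p (pullback.lift_fst _ _ _)
    (pullback.lift_snd _ _ _) z' z ξ ξ hz' hz₁ hz₂
  rw [Groth.Calg6.DiagStalk.ker_stalkMapAt p z' z hz', Scheme.IdealSheafData.ker_subschemeι,
    Scheme.IdealSheafData.ker_subschemeι, ← hl, ← hr] at hP
  have hQ : RingHom.ker δ = IntMult.stalkIdeal (pullback.diagonal f).ker z :=
    Groth.Calg6.DiagStalk.ker_stalkMapAt (pullback.diagonal f) ξ z rfl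
  rw [hQ, ← hP] at h
  exact h.symm

end Groth.Agent.S1913
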