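import Groth.Statements.S19130
import Groth.Agent.Misc3Zar.GenPoint
import Groth.Agent.EtaleBase.RpushExact
import Groth.Agent.S0627
import Groth.Agent.S0074

set_option autoImplicit false
universe u
open CategoryTheory CategoryTheory.Limits AlgebraicGeometry Opposite
open EtCoh

namespace Groth.Agent.S19130

/-- Let p be a prime and Y an integral scheme which is normal (every local ring is integrally closed in
its fraction field) and whose function field is algebraically closed. Then the étale cohomology of
the constant sheaf Z/p on Y is Z/p in degree 0 and vanishes in positive degrees: H^0(Y_et, Z/p) has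
exactly p elements and H^i(Y_et, Z/p) = 0 for i > 0. Moreover, for every nonempty open subscheme j :
U → Y, the unit morphism from the constant sheaf Z/p on Y_et to j_* of its restriction to U is an
isomorphism. -/
theorem result
    (p : ℕ) [Fact p.Prime] (Y : Scheme.{u}) [IsIntegral Y]
    (hnorm : ∀ y : Y, IsIntegrallyClosed (Y.presheaf.stalk y)) [IsAlgClosed Y.functionField] :
    Nat.card (EtCoh.H Y (EtCoh.const Y (ZMod p)) 0) = p ∧
      (∀ i : ℕ, 0 < i → Subsingleton (EtCoh.H Y (EtCoh.const Y (ZMod p)) i)) ∧
      ∀ U : Y.Opens, (U : Set Y).Nonempty →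
        IsIso ((EtCoh.pullPushAdj U.ι).unit.app (EtCoh.const Y (ZMod p))) := by
  refine ⟨?_, ?_, fun U hU => Groth.Agent.S0627.result Y hnorm U hU (ZMod p)⟩
  all_goals
    let K := Y.functionField
    let j : Spec (CommRingCat.of K) ⟶ Y := Y.fromSpecStalk (genericPoint Y)
    haveI : IsPreimmersion j := inferInstanceAs (IsPreimmersion (Y.fromSpecStalk (genericPoint Y)))
    haveI : IsSepClosed K := inferInstance
    haveI : IsSepClosed (IsLocalRing.ResidueField K) :=
      Groth.EtaleBase.NormalEt.isSepClosed_of_ringEquiv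
        (RingEquiv.ofBijective (IsLocalRing.residue K)
          ⟨(IsLocalRing.residue K).injective, IsLocalRing.residue_surjective⟩)
    haveI : (EtCoh.push j).Additive := (EtCoh.pullPushAdj j).right_adjoint_additive
    haveI := Groth.EtaleBase.NormalConst.isIso_unit j (EtCoh.const Y (ZMod p)) _ hnorm
      (Groth.EtaleBase.LocConst.exists_stalkBij_const (EtCoh.top Y) (ULift.{u + 1} (ZMod p)))
      ⟨IsLocalRing.closedPoint _, Scheme.fromSpecStalk_closedPoint⟩
    let G := (EtCoh.pull j).obj (EtCoh.const Y (ZMod p))
    have hacyc : ∀ q : ℕ, 0 < q → IsZero ((EtCoh.Rpush j q).obj G) := by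
      intro q hq
      obtain ⟨k, rfl⟩ : ∃ k, q = k + 1 := ⟨q - 1, by omega⟩
      obtain ⟨I⟩ : Nonempty (InjectiveResolution G) := ⟨injectiveResolution G⟩
      have : PreservesFiniteLimits (EtCoh.push j) :=
        (EtCoh.pullPushAdj j).rightAdjoint_preservesLimits.{0, 0}.preservesFiniteLimits
      haveI : (EtCoh.push j).PreservesEpimorphisms := ⟨fun {A B} φ hφ => by
        let D := ShortComplex.mk (kernel.ι φ) φ (kernel.condition _)
        have hD : D.ShortExact := ⟨ShortComplex.exact_of_f_is_kernel D (kernelIsKernel _)⟩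
        exact (Groth.Misc3Zar.GenPt.shortExact_push j hD).epi_g⟩
      haveI := (EtCoh.push j).preservesHomology_of_preservesEpis_and_kernels
      exact Groth.EtaleBase.isZero_rightDerived_of_preservesHomology _ G k
    let e : ∀ n, EtCoh.H Y (EtCoh.const Y (ZMod p)) n ≃+
        EtCoh.H (Spec (CommRingCat.of K)) (EtCoh.const (Spec (CommRingCat.of K)) (ZMod p)) n := fun n =>
      (((EtCoh.HF Y n).mapIso
        (asIso ((EtCoh.pullPushAdj j).unit.app (EtCoh.const Y (ZMod p))))).addCommGroupIsoToAddEquiv).trans
      ((AddEquiv.ofBijective (EtLim.HofPush j G n)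
        (Groth.EtaleBase.InjCoh.HofPush_bijective j G hacyc n)).trans
      (((EtCoh.HF (Spec (CommRingCat.of K)) n).mapIso
        (EtCore.pullConst j (ZMod p))).addCommGroupIsoToAddEquiv))
  · rw [Nat.card_congr (e 0).toEquiv,
      Nat.card_congr (Sheaf.H.equiv₀ (EtCoh.const (Spec (CommRingCat.of K)) (ZMod p))
        (EtCore.topIsTerminal (Spec (CommRingCat.of K)))).toEquiv]
    have hs := Groth.EtaleBase.LocConst.exists_stalkBij_const (X := Spec (CommRingCat.of K))
      (EtCoh.top (Spec (CommRingCat.of K))) (ULift.{u + 1} (ZMod p)) (IsLocalRing.ResidueField K) _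
      inferInstance (Spec.map (CommRingCat.ofHom (IsLocalRing.residue K)))
      (Over.homMk (Spec.map (CommRingCat.ofHom (IsLocalRing.residue K))) (Category.comp_id _))
    have hg := Groth.Agent.S0074.result K (EtCoh.const (Spec (CommRingCat.of K)) (ZMod p))
    refine (Nat.card_congr ((Equiv.ofBijective _ hg).trans (Equiv.ofBijective _ hs).symm)).trans ?_
    show Nat.card (ULift.{u + 1} (ZMod p)) = p
    rw [Nat.card_ulift, Nat.card_zmod]
  · intro i hi
    haveI : IsFinite (𝟙 (Spec (CommRingCat.of K))) := inferInstance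
    haveI := Groth.EtaleBase.H_subsingleton (R := K) (𝟙 (Spec (CommRingCat.of K)))
      (EtCoh.const (Spec (CommRingCat.of K)) (ZMod p)) i (by omega)
    exact (e i).toEquiv.subsingleton

end Groth.Agent.S19130
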