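import Groth.Statements.S19131
import Mathlib.CategoryTheory.Triangulated.TStructure.TruncLEGT
import Mathlib.CategoryTheory.Localization.CalculusOfFractions

set_option autoImplicit false
universe v u v' u'
open CategoryTheory CategoryTheory.Limits CategoryTheory.Pretriangulated CategoryTheory.Triangulated
open PervT

namespace Groth.Agent.S19131

section Helpers

open CategoryTheory.Limits CategoryTheory.Pretriangulated CategoryTheory.Triangulated

variable {C : Type u} [Category.{v} C] [Preadditive C] [HasZeroObject C] [HasShift C ℤ]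
  [∀ n : ℤ, (shiftFunctor C n).Additive] [Pretriangulated C] [IsTriangulated C]
  (t : TStructure C) (hb : ∀ X : C, t.bounded X)
  (D : ObjectProperty C) [D.IsTriangulated] [D.IsClosedUnderIsomorphisms]
  (h1 : ∀ X : C, D X → ∀ n : ℤ, D ((t.truncGELE n n).obj X))
  (h2 : ∀ (X Y Z : C) (f : X ⟶ Y) (g : Y ⟶ Z) (h : Z ⟶ X⟦(1 : ℤ)⟧),
    Triangle.mk f g h ∈ distTriang C → t.heart X → t.heart Y → t.heart Z → D Y → D X ∧ D Z)

include h1 in
lemma truncGE_mem_of_bounds : ∀ (k : ℕ) (X : C) (a : ℤ), D X → t.IsGE X a → t.IsLE X (a + k) →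
    ∀ n : ℤ, D ((t.truncGE n).obj X) := by
  intro k
  induction k with
  | zero =>
    intro X a hX hge hle n
    by_cases hn : n ≤ a
    · have : t.IsGE X n := t.isGE_of_ge X n a hn
      exact D.prop_of_iso (asIso ((t.truncGEπ n).app X)) hX
    · have : t.IsLE X (n - 1) := t.isLE_of_le X (a + ((0 : ℕ) : ℤ)) (n - 1) (by omega)
      exact D.prop_of_isZero (t.isZero_truncGE_obj_of_isLE (n - 1) n (by omega) X)
  | succ k ih =>
    intro X a hX hge hle n
    by_cases hn : n ≤ a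
    · have : t.IsGE X n := t.isGE_of_ge X n a hn
      exact D.prop_of_iso (asIso ((t.truncGEπ n).app X)) hX
    have hlow : D ((t.truncLT (a + 1)).obj X) := by
      have hI : IsIso ((t.truncGEπ a).app ((t.truncLT (a + 1)).obj X)) := inferInstance
      exact D.prop_of_iso (asIso ((t.truncGEπ a).app ((t.truncLT (a + 1)).obj X))).symm (h1 X hX a)
    have hhigh : D ((t.truncGE (a + 1)).obj X) :=
      D.ext_of_isTriangulatedClosed₃ _ (t.triangleLTGE_distinguished (a + 1) X) hlow hX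
    have : t.IsLE ((t.truncGE (a + 1)).obj X) (a + 1 + k) :=
      t.isLE_of_le _ (a + ((k + 1 : ℕ) : ℤ)) _ (by push_cast; omega)
    have := t.isIso_truncGE_map_truncGEπ_app n (a + 1) (by omega) X
    exact D.prop_of_iso (asIso ((t.truncGE n).map ((t.truncGEπ (a + 1)).app X))).symm
      (ih _ (a + 1) hhigh inferInstance inferInstance n)

include hb h1 in
lemma truncGE_mem (X : C) (hX : D X) (n : ℤ) : D ((t.truncGE n).obj X) := by
  obtain ⟨⟨a, ha⟩, ⟨b, hb'⟩⟩ := hb X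
  exact truncGE_mem_of_bounds t D h1 (b - a).toNat X a hX ha
    (t.isLE_of_le X b _ (by omega)) n

include hb h1 in
lemma truncLT_mem (X : C) (hX : D X) (n : ℤ) : D ((t.truncLT n).obj X) :=
  D.ext_of_isTriangulatedClosed₁ _ (t.triangleLTGE_distinguished n X) hX
    (truncGE_mem t hb D h1 X hX n)

include hb h1 h2 in
lemma mem_of_cone_le {W Z K : C} (w : W ⟶ Z) (i : Z ⟶ K) (j : K ⟶ W⟦(1 : ℤ)⟧)
    (hT : Triangle.mk w i j ∈ distTriang C) (hW : D W) (hZ : t.IsGE Z 1) (hK : t.IsLE K 0) :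
    D Z := by
  let W₁ := (t.truncGE 1).obj W
  have hW₁ : D W₁ := truncGE_mem t hb D h1 W hW 1
  let w₁ : W₁ ⟶ Z := t.descTruncGE w 1
  obtain ⟨K', i', j', hT'⟩ := distinguished_cocone_triangle w₁
  have o₁ := someOctahedron (t.π_descTruncGE w 1)
    (rot_of_distTriang _ (t.triangleLTGE_distinguished 1 W)) hT' hT
  have hLW : t.IsLE (((t.truncLT 1).obj W)⟦(1 : ℤ)⟧) (-1) := by
    have := t.isLE_truncLT_obj W 1 0
    exact t.isLE_shift _ 0 1 (-1) (by omega)
  have hK'le : t.IsLE K' 0 :=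
    t.isLE₂ _ (rot_of_distTriang _ o₁.mem) 0 hK (by
      have := t.isLE_shift (((t.truncLT 1).obj W)⟦(1 : ℤ)⟧) (-1) 1 (-2) (by omega)
      exact t.isLE_of_le ((((t.truncLT 1).obj W)⟦(1 : ℤ)⟧)⟦(1 : ℤ)⟧) (-2) 0 (by omega))
  have hW₁s : t.IsGE (W₁⟦(1 : ℤ)⟧) 0 := t.isGE_shift W₁ 1 1 0 (by omega)
  have hK'ge : t.IsGE K' 0 :=
    t.isGE₂ _ (rot_of_distTriang _ hT') 0 (t.isGE_of_ge Z 0 1 (by omega)) hW₁s
  let H₀ := (t.truncLT 1).obj (W₁⟦(1 : ℤ)⟧)
  have hH₀ : D H₀ := truncLT_mem t hb D h1 _ (D.le_shift (1 : ℤ) _ hW₁) 1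
  have hH₀le : t.IsLE H₀ 0 := t.isLE_truncLT_obj _ 1 0
  have hH₀ge : t.IsGE H₀ 0 := inferInstance
  let u : K' ⟶ H₀ := t.liftTruncLT j' 0 1 rfl
  obtain ⟨U, a, b, hu⟩ := distinguished_cocone_triangle u
  have o₂ := someOctahedron (t.liftTruncLT_ι j' 0 1 rfl) hu (t.triangleLTGE_distinguished 1 _)
    (rot_of_distTriang _ (rot_of_distTriang _ hT'))
  have hUge : t.IsGE U 0 :=
    t.isGE₂ _ (inv_rot_of_distTriang _ o₂.mem) 0 (by
      have := t.isGE_shift ((t.truncGE 1).obj (W₁⟦(1 : ℤ)⟧)) 1 (-1) 2 (by omega)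
      exact t.isGE_of_ge (((t.truncGE 1).obj (W₁⟦(1 : ℤ)⟧))⟦(-1 : ℤ)⟧) 0 2 (by omega))
      (t.isGE_shift Z 1 1 0 (by omega))
  have hUle : t.IsLE U 0 :=
    t.isLE₂ _ (rot_of_distTriang _ hu) 0 hH₀le (by
      have := t.isLE_shift K' 0 1 (-1) (by omega)
      exact t.isLE_of_le (K'⟦(1 : ℤ)⟧) (-1) 0 (by omega))
  have hK' : D K' := (h2 K' H₀ U u a b hu ((t.mem_heart_iff _).2 ⟨hK'le, hK'ge⟩)
    ((t.mem_heart_iff _).2 ⟨hH₀le, hH₀ge⟩) ((t.mem_heart_iff _).2 ⟨hUle, hUge⟩) hH₀).1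
  exact D.ext_of_isTriangulatedClosed₂ _ hT' hW₁ hK'

include hb h1 h2 in
lemma trW_truncLTι {X X' : C} (s : X' ⟶ X) (hs : D.trW s) [t.IsLE X 0] :
    D.trW ((t.truncLTι 1).app X') := by
  obtain ⟨Q, i, j, hT, hQ⟩ := hs
  refine ⟨_, _, _, t.triangleLTGE_distinguished 1 X', ?_⟩
  obtain ⟨K, i', j', hK⟩ := distinguished_cocone_triangle
    ((Triangle.mk s i j).invRotate.mor₁ ≫ (t.truncGEπ 1).app X')
  have o := someOctahedron rfl (inv_rot_of_distTriang _ hT)
    (rot_of_distTriang _ (t.triangleLTGE_distinguished 1 X')) hK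
  refine mem_of_cone_le t hb D h1 h2 _ i' j' hK (D.le_shift (-1 : ℤ) _ hQ)
    (t.isGE_truncGE_obj X' 1 1 le_rfl) (t.isLE₂ _ o.mem 0 ‹t.IsLE X 0› ?_)
  have := t.isLE_truncLT_obj X' 1 0
  have := t.isLE_shift ((t.truncLT 1).obj X') 0 1 (-1) (by omega)
  exact t.isLE_of_le (((t.truncLT 1).obj X')⟦(1 : ℤ)⟧) (-1) 0 (by omega)

include hb h1 h2 in
lemma hom_eq_zero {E : Type u'} [Category.{v'} E] [Preadditive E]
    (q : C ⥤ E) [q.Additive] [q.IsLocalization D.trW] {X Y : C} [t.IsLE X 0] [t.IsGE Y 1]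
    (f : q.obj X ⟶ q.obj Y) : f = 0 := by
  obtain ⟨φ, hφ⟩ := Localization.exists_rightFraction q D.trW f
  have hι := trW_truncLTι t hb D h1 h2 φ.s φ.hs
  have hiso : IsIso (q.map ((t.truncLTι 1).app φ.X' ≫ φ.s)) :=
    Localization.inverts q D.trW _ (D.trW.comp_mem _ _ hι φ.hs)
  have : t.IsLE ((t.truncLT 1).obj φ.X') 0 := t.isLE_truncLT_obj _ 1 0
  rw [← cancel_epi (q.map ((t.truncLTι 1).app φ.X' ≫ φ.s)), comp_zero, hφ, Functor.map_comp,
    Category.assoc, MorphismProperty.RightFraction.map_s_comp_map, ← q.map_comp,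
    t.zero ((t.truncLTι 1).app φ.X' ≫ φ.f) 0 1 (by omega), q.map_zero]

end Helpers

/-- Let C be a triangulated category (octahedron axiom included) carrying a bounded t-structure t (every
object is ≥ a and ≤ b for some integers a, b), and let D be a strictly full triangulated subcategory
of C (a property of objects containing zero, stable under shifts, extensions and isomorphisms) such
that (1) for X in D and every integer n the n-th cohomology object of X for t, realised as τ^{≥ n}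
τ^{≤ n} X, lies in D, and (2) the objects of D in the heart of t are closed under subobjects and
quotients in the heart: for every distinguished triangle X → Y → Z → X[1] whose three vertices lie
in the heart, if Y is in D then so are X and Z. Let q : C ⥤ E be a triangulated functor to a
pretriangulated category E which exhibits E as the localization of C at the class of morphisms whose
cone lies in D (the Verdier quotient of C by D). Then E carries exactly one t-structure for which q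
is t-exact (q sends objects ≤ n to objects ≤ n and objects ≥ n to objects ≥ n), and for this
t-structure an object of E is ≤ n, respectively ≥ n, if and only if it is isomorphic to q X for some
X ≤ n, respectively X ≥ n, in C. (The source also identifies the heart of this t-structure with the
quotient of the heart of t by its intersection with D; that identification is not asserted here.) -/
theorem result
    {C : Type u} [Category.{v} C] [Preadditive C] [HasZeroObject C] [HasShift C ℤ]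
    [∀ n : ℤ, (shiftFunctor C n).Additive] [Pretriangulated C] [IsTriangulated C]
    (t : TStructure C) (hb : ∀ X : C, t.bounded X)
    (D : ObjectProperty C) [D.IsTriangulated] [D.IsClosedUnderIsomorphisms]
    (h1 : ∀ X : C, D X → ∀ n : ℤ, D ((t.truncGELE n n).obj X))
    (h2 : ∀ (X Y Z : C) (f : X ⟶ Y) (g : Y ⟶ Z) (h : Z ⟶ X⟦(1 : ℤ)⟧),
      Triangle.mk f g h ∈ distTriang C → t.heart X → t.heart Y → t.heart Z → D Y → D X ∧ D Z)
    {E : Type u'} [Category.{v'} E] [Preadditive E] [HasZeroObject E] [HasShift E ℤ]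
    [∀ n : ℤ, (shiftFunctor E n).Additive] [Pretriangulated E]
    (q : C ⥤ E) [q.CommShift ℤ] [q.IsTriangulated] [q.IsLocalization D.trW] :
    ∃ t' : TStructure E,
      (∀ (X : C) (n : ℤ), t.IsLE X n → t'.IsLE (q.obj X) n) ∧
      (∀ (X : C) (n : ℤ), t.IsGE X n → t'.IsGE (q.obj X) n) ∧
      (∀ (Y : E) (n : ℤ), t'.IsLE Y n ↔ ∃ X : C, t.IsLE X n ∧ Nonempty (q.obj X ≅ Y)) ∧
      (∀ (Y : E) (n : ℤ), t'.IsGE Y n ↔ ∃ X : C, t.IsGE X n ∧ Nonempty (q.obj X ≅ Y)) ∧
      ∀ t'' : TStructure E,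
        (∀ (X : C) (n : ℤ), t.IsLE X n → t''.IsLE (q.obj X) n) →
        (∀ (X : C) (n : ℤ), t.IsGE X n → t''.IsGE (q.obj X) n) → t'' = t' := by
  classical
  have : q.EssSurj := Localization.essSurj q D.trW
  let le' : ℤ → ObjectProperty E := fun n Y => ∃ X : C, t.IsLE X n ∧ Nonempty (q.obj X ≅ Y)
  let ge' : ℤ → ObjectProperty E := fun n Y => ∃ X : C, t.IsGE X n ∧ Nonempty (q.obj X ≅ Y)
  let t' : TStructure E :=
    { le := le'
      ge := ge'
      le_isClosedUnderIsomorphisms := fun n =>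
        ⟨fun {_ _} e ⟨X, hX, ⟨i⟩⟩ => ⟨X, hX, ⟨i ≪≫ e⟩⟩⟩
      ge_isClosedUnderIsomorphisms := fun n =>
        ⟨fun {_ _} e ⟨X, hX, ⟨i⟩⟩ => ⟨X, hX, ⟨i ≪≫ e⟩⟩⟩
      le_shift := fun n a n' h Y ⟨X, hX, ⟨i⟩⟩ =>
        ⟨X⟦a⟧, t.isLE_shift X n a n' h,
          ⟨(q.commShiftIso a).app X ≪≫ (shiftFunctor E a).mapIso i⟩⟩
      ge_shift := fun n a n' h Y ⟨X, hX, ⟨i⟩⟩ =>
        ⟨X⟦a⟧, t.isGE_shift X n a n' h,
          ⟨(q.commShiftIso a).app X ≪≫ (shiftFunctor E a).mapIso i⟩⟩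
      zero' := fun {Y Y'} f ⟨X, hX, ⟨i⟩⟩ ⟨X', hX', ⟨i'⟩⟩ => by
        rw [← cancel_epi i.hom, ← cancel_mono i'.inv, comp_zero, zero_comp]
        exact hom_eq_zero t hb D h1 h2 q _
      le_zero_le := fun Y ⟨X, hX, hi⟩ => ⟨X, t.isLE_of_le X 0 1 (by omega), hi⟩
      ge_one_le := fun Y ⟨X, hX, hi⟩ => ⟨X, t.isGE_of_ge X 0 1 (by omega), hi⟩
      exists_triangle_zero_one := fun Y => by
        let i := q.objObjPreimageIso Y
        have hT := q.map_distinguished _ (t.triangleLTGE_distinguished 1 (q.objPreimage Y))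
        exact ⟨_, _, ⟨_, t.isLE_truncLT_obj _ 1 0, ⟨Iso.refl _⟩⟩,
          ⟨_, t.isGE_truncGE_obj _ 1 1 le_rfl, ⟨Iso.refl _⟩⟩,
          q.map ((t.truncLTι 1).app _) ≫ i.hom, i.inv ≫ q.map ((t.truncGEπ 1).app _), _,
          isomorphic_distinguished _ hT _ (Triangle.isoMk _ _ (Iso.refl _) i.symm (Iso.refl _)
            ((Category.assoc _ _ _).trans ((congrArg _ i.hom_inv_id).trans
              ((Category.comp_id _).trans (Category.id_comp _).symm)))
            (Category.comp_id _)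
            ((congrArg _ (CategoryTheory.Functor.map_id _ _)).trans
              ((Category.comp_id _).trans (Category.id_comp _).symm)))⟩ }
  have hLE : ∀ (X : C) (n : ℤ), t.IsLE X n → t'.IsLE (q.obj X) n :=
    fun X n h => ⟨⟨X, h, ⟨Iso.refl _⟩⟩⟩
  have hGE : ∀ (X : C) (n : ℤ), t.IsGE X n → t'.IsGE (q.obj X) n :=
    fun X n h => ⟨⟨X, h, ⟨Iso.refl _⟩⟩⟩
  refine ⟨t', hLE, hGE, fun Y n => ⟨fun h => h.le, fun h => ⟨h⟩⟩,
    fun Y n => ⟨fun h => h.ge, fun h => ⟨h⟩⟩, fun t'' g1 g2 => ?_⟩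
  have hle : ∀ (Y : E) (n : ℤ), t''.IsLE Y n ↔ t'.IsLE Y n := by
    intro Y n
    constructor
    · intro hY
      rw [t'.isLE_iff_orthogonal n (n + 1) rfl]
      intro Z f hZ
      obtain ⟨X, hX, ⟨i⟩⟩ := hZ.ge
      have := g2 X (n + 1) hX
      have := t''.isGE_of_iso i (n + 1)
      exact t''.zero f n (n + 1) (by omega)
    · intro hY
      obtain ⟨X, hX, ⟨i⟩⟩ := hY.le
      have := g1 X n hX
      exact t''.isLE_of_iso i n
  have hge : ∀ (Y : E) (n : ℤ), t''.IsGE Y n ↔ t'.IsGE Y n := by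
    intro Y n
    rw [t'.isGE_iff_orthogonal (n - 1) n (by omega), t''.isGE_iff_orthogonal (n - 1) n (by omega)]
    exact ⟨fun h Z f hZ => h Z f ((hle Z _).2 hZ), fun h Z f hZ => h Z f ((hle Z _).1 hZ)⟩
  have e₁ : t''.le = t'.le := funext fun n => funext fun Y =>
    propext ⟨fun h => ((hle Y n).1 ⟨h⟩).le, fun h => ((hle Y n).2 ⟨h⟩).le⟩
  have e₂ : t''.ge = t'.ge := funext fun n => funext fun Y =>
    propext ⟨fun h => ((hge Y n).1 ⟨h⟩).ge, fun h => ((hge Y n).2 ⟨h⟩).ge⟩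
  clear_value t'
  cases t''
  cases t'
  cases e₁
  cases e₂
  rfl

end Groth.Agent.S19131
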