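import Groth.Statements.S19132
import Groth.Agent.DualCore.Depth
import Groth.Agent.DualCore.DevissageHom

set_option autoImplicit false
universe u
open CategoryTheory
attribute [local instance] HasDerivedCategory.standard
open Dual

namespace Groth.Agent.S19132

/-- In the case of a local ring whose dualizing complex is normalized, let A be a Noetherian local ring
with residue field k and ω a normalized dualizing complex over A (Hom(k, ω[i]) = 0 in D(A) for i ≠
0), and let N be an object of D(A) which is bounded with finitely generated cohomology modules and
concentrated in nonnegative degrees (H^i(N) = 0 for i < 0). Then RHom_A(N, ω) is concentrated in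
nonpositive degrees: the group of morphisms N → ω[i] in D(A) vanishes for every i > 0. (For the
local ring at a point x of a scheme of finite type over the base, whose dualizing complex is
normalized only up to the shift by the integer d(x), the corresponding bound is degree −d(x); that
case is this statement applied to the shifted complex.) -/
theorem result
    (A : Type u) [CommRing A] [IsLocalRing A] [IsNoetherianRing A]
    (ω : Dual.D A) (hω : Dual.IsDualizing A ω) (hn : Dual.IsNormalized A ω)
    (N : Dual.D A) (hfin : ∀ i : ℤ, Module.Finite A (Dual.HD A N i))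
    (b : ℤ) (hb : ∀ i : ℤ, b < i → Subsingleton (Dual.HD A N i))
    (hge : ∀ i : ℤ, i < 0 → Subsingleton (Dual.HD A N i))
    (i : ℤ) (hi : 0 < i) :
    Subsingleton (N ⟶ ω⟦i⟧) := by
  obtain ⟨a, ha⟩ := Groth.DualCore.exists_isGE hω
  haveI : DerivedCategory.IsGE N 0 := Groth.DualCore.isGE_of_HD N 0 hge
  haveI : DerivedCategory.IsLE N b := by
    rw [DerivedCategory.isLE_iff]
    exact fun j hj => ModuleCat.isZero_iff_subsingleton.2 (hb j hj)
  revert i
  refine Groth.DualCore.devissage (fun X => ∀ i : ℤ, 0 < i → Subsingleton (X ⟶ ω⟦i⟧))
    (fun e h i hi => haveI := h i hi; Groth.DualCore.subsingleton_hom_of_iso e _)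
    (fun X hX i _ => ⟨fun u v => hX.eq_of_src u v⟩)
    (fun T hT h₁ h₃ i hi => haveI := h₁ i hi; haveI := h₃ i hi;
      Groth.DualCore.subsingleton_hom_of_triangle T hT ω i) 0
    (fun M _ _ _ n hn0 i hi => ?_) N b hfin
  haveI := Groth.DualCore.subsingleton_hom_of_pos ω a hω.finite_cohomology hn M (i + n) (by lia)
  exact Groth.DualCore.subsingleton_hom_single M ω n i

end Groth.Agent.S19132
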