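import Groth.Statements.S19135
import Groth.Agent.LocCohTransform.RgammaHDI
import Groth.Agent.DualCore.LocalDuality
import Groth.Agent.Matlis.Duality

set_option autoImplicit false
universe u
open CategoryTheory
attribute [local instance] HasDerivedCategory.standard
open Dual

namespace Groth.Agent.S19135

open IsLocalRing

/-- Maps into the hull separate the elements of any module. -/
theorem exists_ne_zero {A : Type u} [CommRing A] [IsLocalRing A] {E : Type u} [AddCommGroup E] [Module A E]
    {f : ResidueField A →ₗ[A] E} (hf : InjHull.IsInjectiveHull f) {V : Type*} [AddCommGroup V] [Module A V]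
    {x : V} (hx : x ≠ 0) : ∃ φ : V →ₗ[A] E, φ x ≠ 0 := by
  let P : A →ₗ[A] V := LinearMap.toSpanSingleton A V x
  have hle : LinearMap.ker P ≤ maximalIdeal A := le_maximalIdeal fun h => hx (by
    have h1 : (1 : A) ∈ LinearMap.ker P := h ▸ Submodule.mem_top
    simpa [P] using h1)
  let g : A ⧸ LinearMap.ker P →ₗ[A] E := (LinearMap.ker P).liftQ (f ∘ₗ Algebra.linearMap A (ResidueField A))
    (fun a ha => by
      rw [LinearMap.mem_ker, LinearMap.comp_apply, Algebra.linearMap_apply,
        show algebraMap A (ResidueField A) a = 0 from (residue_eq_zero_iff a).2 (hle ha), map_zero])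
  haveI := hf.isInjective
  obtain ⟨φ, hφ⟩ := (Module.Baer.of_injective hf.isInjective).extension_property
    ((LinearMap.ker P).liftQ P le_rfl) (LinearMap.ker_eq_bot.1 (Submodule.ker_liftQ_eq_bot' _ _ rfl)) g
  refine ⟨φ, fun h => ?_⟩
  have h1 := LinearMap.congr_fun hφ (Submodule.Quotient.mk 1)
  simp only [LinearMap.comp_apply, Submodule.liftQ_apply, P, LinearMap.toSpanSingleton_apply, one_smul, h, g,
    Algebra.linearMap_apply, map_one] at h1
  exact one_ne_zero (α := ResidueField A) (hf.injective (h1.symm.trans (map_zero f).symm))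

/-- In the case of the spectrum of the base local ring and its closed point, let A be a Noetherian local
ring with maximal ideal m and ω a normalized dualizing complex over A (Hom(k, ω[i]) = 0 in D(A) for
i ≠ 0), assume the total right derived functor RΓ_m of the m-power-torsion functor exists on D(A),
and let M be an object of D(A) which is bounded with finitely generated cohomology modules. Then
RHom(M, ω) is concentrated in degrees ≥ 0 (Hom(M, ω[i]) = 0 for all i < 0) if and only if RΓ_m M is
concentrated in degrees ≤ 0 (H^i(RΓ_m M) = 0 for all i > 0); and RHom(M, ω) is concentrated in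
degrees ≤ 0 if and only if RΓ_m M is concentrated in degrees ≥ 0. In particular M is perverse
coherent (RHom(M, ω) concentrated in degree 0) exactly when its local cohomology at m is
concentrated in degree 0. (The published statement of the two halves, read in cohomological
indexing, has the inequalities on the local cohomology side exchanged: over a field k with ω = k,
the complex k[1] has RHom(k[1], ω) = k[−1] concentrated in degrees ≥ 0 while its local cohomology
k[1] is concentrated in degree −1, not in degrees ≥ 0. This statement gives the form that local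
duality yields, which is the one compatible with the description of the perverse t-structure by
support conditions.) -/
theorem result
    (A : Type u) [CommRing A] [IsLocalRing A] [IsNoetherianRing A]
    (ω : Dual.D A) (hω : Dual.IsDualizing A ω) (hn : Dual.IsNormalized A ω)
    [DRing.HasRgammaI (IsLocalRing.maximalIdeal A)] (M : Dual.D A)
    (hfin : ∀ i : ℤ, Module.Finite A (Dual.HD A M i))
    (hbd : ∃ a b : ℤ, ∀ i : ℤ, (i < a ∨ b < i) → Subsingleton (Dual.HD A M i)) :
    ((∀ i : ℤ, i < 0 → Subsingleton (M ⟶ ω⟦i⟧)) ↔
      (∀ i : ℤ, 0 < i → Subsingleton (Dual.HD A ((DRing.RgammaI (IsLocalRing.maximalIdeal A)).obj M) i))) ∧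
    ((∀ i : ℤ, 0 < i → Subsingleton (M ⟶ ω⟦i⟧)) ↔
      (∀ i : ℤ, i < 0 → Subsingleton (Dual.HD A ((DRing.RgammaI (IsLocalRing.maximalIdeal A)).obj M) i))) := by
  obtain ⟨E, _, _, f, hf⟩ := GrothMatlis.exists_hull A (IsLocalRing.ResidueField A)
  have key : ∀ i : ℤ, Subsingleton (M ⟶ ω⟦-i⟧) ↔
      Subsingleton (Dual.HD A ((DRing.RgammaI (IsLocalRing.maximalIdeal A)).obj M) i) := by
    intro i
    obtain ⟨e₁⟩ := Groth.LocCohTransform.RgammaHDI.nonempty_HD_equiv_HDI (IsLocalRing.maximalIdeal A) M i
    obtain ⟨e₂⟩ := Groth.DualCore.nonempty_HDI_equiv hω hn hf M hfin i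
    rw [(e₁.trans e₂).toEquiv.subsingleton_congr]
    constructor
    · intro h
      exact ⟨fun φ ψ => LinearMap.ext fun x => by rw [Subsingleton.elim x 0, map_zero, map_zero]⟩
    · intro h
      refine subsingleton_of_forall_eq 0 fun x => ?_
      by_contra hx
      obtain ⟨φ, hφ⟩ := exists_ne_zero hf hx
      exact hφ (by rw [Subsingleton.elim φ 0, LinearMap.zero_apply])
  refine ⟨⟨fun h i hi => (key i).1 (h (-i) (by omega)), fun h i hi => ?_⟩,
    ⟨fun h i hi => (key i).1 (h (-i) (by omega)), fun h i hi => ?_⟩⟩
  · have := (key (-i)).2 (h (-i) (by omega))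
    rwa [neg_neg] at this
  · have := (key (-i)).2 (h (-i) (by omega))
    rwa [neg_neg] at this

end Groth.Agent.S19135
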