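import Groth.Statements.S19138
import Mathlib

set_option autoImplicit false
open Instab

namespace Groth.Agent.S19138

open Matrix in
theorem kkt {L a Q b c δ : ℝ} (hL : 0 < L) (hδ : 0 < δ)
    (h : ∀ t : ℝ, |t| < δ → (L + t * a) ^ 2 * Q ≤ L ^ 2 * (Q + 2 * t * b + t ^ 2 * c)) : a * Q = L * b := by
  by_contra hne
  set C := 2 * L * (a * Q - L * b) with hC
  set D := a ^ 2 * Q - L ^ 2 * c with hD
  have hC0 : C ≠ 0 := mul_ne_zero (by positivity) (sub_ne_zero.2 hne)
  obtain ⟨s, hs0, hsδ, hsD⟩ : ∃ s : ℝ, 0 < s ∧ s * |C| < δ ∧ s * |D| < 1 / 2 := by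
    refine ⟨min (δ / (|C| + 1)) (1 / (2 * (|D| + 1))) , lt_min (by positivity) (by positivity), ?_, ?_⟩
    · calc _ ≤ δ / (|C| + 1) * |C| := mul_le_mul_of_nonneg_right (min_le_left _ _) (abs_nonneg _)
        _ < δ / (|C| + 1) * (|C| + 1) := mul_lt_mul_of_pos_left (lt_add_one _) (by positivity)
        _ = δ := div_mul_cancel₀ _ (by positivity)
    · calc _ ≤ 1 / (2 * (|D| + 1)) * |D| := mul_le_mul_of_nonneg_right (min_le_right _ _) (abs_nonneg _)
        _ < 1 / (2 * (|D| + 1)) * (|D| + 1) := mul_lt_mul_of_pos_left (lt_add_one _) (by positivity)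
        _ = 1 / 2 := by field_simp
  have h1 := h (s * C) (by rw [abs_mul, abs_of_pos hs0]; exact hsδ)
  have h2 : s * C * C + (s * C) ^ 2 * D ≤ 0 := by rw [hC, hD] at *; nlinarith
  have h3 : 0 < s * C * C * (1 + s * D) := by
    refine mul_pos (by rw [mul_assoc]; exact mul_pos hs0 (mul_self_pos.2 hC0)) ?_
    have := (abs_lt.1 (show |s * D| < 1 / 2 by rw [abs_mul, abs_of_pos hs0]; exact hsD)).1
    linarith
  nlinarith


open Matrix in
/-- Let ℓ ∈ ℚⁿ and let B be a rational n × n matrix whose real quadratic form q(y) = y · (B y) is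
non-negative on ℝⁿ and positive at every non-zero point of the non-negative orthant. If ℓ · y > 0 at
some point of the orthant, then the function ℓ · y / √q(y) on the non-zero points of the orthant
attains its maximum at a point with rational coordinates. (The published lemma says that the
numerical invariant attached to a rational degree-two class and such a norm on graded points attains
its maximum on each rational simplex at a rational point whenever it is positive somewhere on that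
simplex; on one rational simplex that invariant is this function, so this is what is asked there.
The case of a piecewise rational linear norm is not stated here.) -/
theorem result (n : ℕ) (ℓ : Fin n → ℚ)
    (B : Matrix (Fin n) (Fin n) ℚ)
    (hnn : ∀ y : Fin n → ℝ, 0 ≤ y ⬝ᵥ (B.map (fun r : ℚ => (r : ℝ))) *ᵥ y)
    (hpos : ∀ y : Fin n → ℝ, (∀ i, 0 ≤ y i) → y ≠ 0 → 0 < y ⬝ᵥ (B.map (fun r : ℚ => (r : ℝ))) *ᵥ y)
    (hℓ : ∃ y : Fin n → ℝ, (∀ i, 0 ≤ y i) ∧ 0 < (fun i => (ℓ i : ℝ)) ⬝ᵥ y) :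
    ∃ x : Fin n → ℚ, (∀ i, 0 ≤ x i) ∧ x ≠ 0 ∧
      ∀ y : Fin n → ℝ, (∀ i, 0 ≤ y i) → y ≠ 0 →
        (fun i => (ℓ i : ℝ)) ⬝ᵥ y / Real.sqrt (y ⬝ᵥ (B.map (fun r : ℚ => (r : ℝ))) *ᵥ y) ≤
          (fun i => (ℓ i : ℝ)) ⬝ᵥ (fun i => (x i : ℝ)) /
            Real.sqrt ((fun i => (x i : ℝ)) ⬝ᵥ (B.map (fun r : ℚ => (r : ℝ))) *ᵥ (fun i => (x i : ℝ))) := by
  classical
  set Br := B.map (fun r : ℚ => (r : ℝ)) with hBr
  set lr : Fin n → ℝ := fun i => (ℓ i : ℝ) with hlr
  set q : (Fin n → ℝ) → ℝ := fun y => y ⬝ᵥ Br *ᵥ y with hq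
  set f : (Fin n → ℝ) → ℝ := fun y => lr ⬝ᵥ y / Real.sqrt (q y) with hf
  have hqsmul : ∀ (c : ℝ) y, q (c • y) = c * c * q y := fun c y => by
    simp only [hq, Matrix.mulVec_smul, smul_dotProduct, dotProduct_smul, smul_eq_mul]
    ring
  have hfsmul : ∀ (c : ℝ) y, 0 < c → f (c • y) = f y := fun c y hc => by
    simp only [hf]
    rw [hqsmul, Real.sqrt_mul (mul_self_nonneg c), Real.sqrt_mul_self hc.le, dotProduct_smul, smul_eq_mul,
      mul_div_mul_left _ _ hc.ne']
  let Sx : Set (Fin n → ℝ) := {y | (∀ i, 0 ≤ y i) ∧ ∑ i, y i = 1}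
  have hSx : IsCompact Sx := by
    have : Sx = stdSimplex ℝ (Fin n) := rfl
    rw [this]
    exact isCompact_stdSimplex ℝ (Fin n)
  have hne0 : ∀ y ∈ Sx, y ≠ 0 := fun y hy h0 => by simpa [h0] using hy.2
  have hsum : ∀ y : Fin n → ℝ, (∀ i, 0 ≤ y i) → y ≠ 0 → 0 < ∑ i, y i := fun y hy h0 =>
    lt_of_le_of_ne (Finset.sum_nonneg fun i _ => hy i) fun h =>
      h0 (funext fun i => (Finset.sum_eq_zero_iff_of_nonneg fun i _ => hy i).1 h.symm i (Finset.mem_univ i))
  have hnorm : ∀ y : Fin n → ℝ, (∀ i, 0 ≤ y i) → y ≠ 0 → (∑ i, y i)⁻¹ • y ∈ Sx := fun y hy h0 =>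
    ⟨fun i => mul_nonneg (inv_nonneg.2 (hsum y hy h0).le) (hy i), by
      simp only [Pi.smul_apply, smul_eq_mul, ← Finset.mul_sum]
      exact inv_mul_cancel₀ (hsum y hy h0).ne'⟩
  obtain ⟨y₀, hy₀, hy₀l⟩ := hℓ
  have hy₀0 : y₀ ≠ 0 := fun h => by simp [h] at hy₀l
  obtain ⟨x₁, hx₁, hmax⟩ := hSx.exists_isMaxOn ⟨_, hnorm y₀ hy₀ hy₀0⟩ (f := f) (by
    apply ContinuousOn.div
    · exact (continuous_finsetSum _ fun i _ => continuous_const.mul (continuous_apply i)).continuousOn
    · refine (Real.continuous_sqrt.comp ?_).continuousOn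
      simp only [hq, dotProduct, Matrix.mulVec]
      fun_prop
    · exact fun y hy => (Real.sqrt_pos.2 (hpos y hy.1 (hne0 y hy))).ne')
  have hM : ∀ y : Fin n → ℝ, (∀ i, 0 ≤ y i) → y ≠ 0 → f y ≤ f x₁ := fun y hy h0 => by
    rw [← hfsmul _ y (inv_pos.2 (hsum y hy h0))]
    exact hmax (hnorm y hy h0)
  have hex : ∃ k : ℕ, ∃ x : Fin n → ℝ, (∀ i, 0 ≤ x i) ∧ x ≠ 0 ∧ f x = f x₁ ∧
      (Finset.univ.filter fun i => 0 < x i).card = k := ⟨_, x₁, hx₁.1, hne0 _ hx₁, rfl, rfl⟩
  obtain ⟨x, hx, hx0, hxf, hxk⟩ := Nat.find_spec hex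
  set Q := q x with hQdef
  set L := lr ⬝ᵥ x with hLdef
  have hQ : 0 < Q := hpos x hx hx0
  have hL : 0 < L := by
    have h : (0 : ℝ) < lr ⬝ᵥ y₀ / Real.sqrt (q y₀) := div_pos hy₀l (Real.sqrt_pos.2 (hpos y₀ hy₀ hy₀0))
    have h2 : f y₀ ≤ f x := hxf ▸ hM y₀ hy₀ hy₀0
    have h3 : 0 < L / Real.sqrt Q := h.trans_le h2
    exact (div_pos_iff_of_pos_right (Real.sqrt_pos.2 hQ)).1 h3
  set Bs : (Fin n → ℝ) → (Fin n → ℝ) := fun v => (1 / 2 : ℝ) • (Br *ᵥ v + Br.transpose *ᵥ v) with hBs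
  have hbil : ∀ u v : Fin n → ℝ, u ⬝ᵥ Br.transpose *ᵥ v = v ⬝ᵥ Br *ᵥ u := fun u v => by
    rw [Matrix.mulVec_transpose, dotProduct_comm, Matrix.dotProduct_mulVec]
  have hexp : ∀ (v : Fin n → ℝ) (s : ℝ), q (x + s • v) = Q + 2 * s * (v ⬝ᵥ Bs x) + s ^ 2 * q v := fun v s => by
    simp only [hQdef, hq, hBs, Matrix.mulVec_add, Matrix.mulVec_smul, add_dotProduct, dotProduct_add,
      smul_dotProduct, dotProduct_smul, smul_eq_mul, hbil]
    ring
  have hline : ∀ (v : Fin n → ℝ), (∀ i, ¬ 0 < x i → v i = 0) → (lr ⬝ᵥ v) * Q = L * (v ⬝ᵥ Bs x) := by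
    intro v hv
    have hev : ∀ᶠ s : ℝ in nhds 0, (∀ i, 0 ≤ (x + s • v) i) ∧ 0 < L + s * (lr ⬝ᵥ v) ∧ 0 < q (x + s • v) := by
      refine Filter.Eventually.and (Filter.eventually_all.2 fun i => ?_) (Filter.Eventually.and ?_ ?_)
      · by_cases hi : 0 < x i
        · exact ((continuous_const.add (continuous_id.mul continuous_const)).tendsto' (0 : ℝ) (x i) (by simp)).eventually
            (eventually_ge_nhds hi)
        · exact Filter.Eventually.of_forall fun s => by simp [hv i hi, hx i]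
      · exact ((continuous_const.add (continuous_id.mul continuous_const)).tendsto' (0 : ℝ) L (by simp [hLdef])).eventually
          (eventually_gt_nhds hL)
      · simp only [hexp]
        refine ((?_ : Continuous _).tendsto' (0 : ℝ) Q (by simp)).eventually (eventually_gt_nhds hQ)
        fun_prop
    obtain ⟨δ, hδ, hball⟩ := Metric.eventually_nhds_iff.1 hev
    refine kkt hL hδ (c := q v) fun s hs => ?_
    obtain ⟨hge, hLs, hqs⟩ := hball (y := s) (by simpa using hs)
    have hne : x + s • v ≠ 0 := fun h => by simp [h, hq] at hqs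
    have h1 : (L + s * (lr ⬝ᵥ v)) / Real.sqrt (q (x + s • v)) ≤ L / Real.sqrt Q := by
      have := hxf ▸ hM _ hge hne
      simpa [hf, hLdef, dotProduct_add, dotProduct_smul] using this
    rw [div_le_div_iff₀ (Real.sqrt_pos.2 hqs) (Real.sqrt_pos.2 hQ)] at h1
    have h2 := pow_le_pow_left₀ (mul_nonneg hLs.le (Real.sqrt_nonneg _)) h1 2
    rw [mul_pow, mul_pow, Real.sq_sqrt hQ.le, Real.sq_sqrt hqs.le, hexp] at h2
    exact h2
  have hinj : ∀ d : Fin n → ℝ, (∀ i, ¬ 0 < x i → d i = 0) → (∀ i, 0 < x i → Bs d i = 0) → d = 0 := by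
    intro d hd hBd
    by_contra hd0
    wlog hneg : ∃ i, d i < 0 generalizing d with H
    · refine H (-d) (fun i hi => by simp [hd i hi]) (fun i hi => ?_) (neg_ne_zero.2 hd0) ?_
      · have := hBd i hi
        simp only [hBs, Matrix.mulVec_neg] at this ⊢
        simp only [Pi.smul_apply, Pi.add_apply, Pi.neg_apply, smul_eq_mul] at this ⊢
        linarith
      · obtain ⟨i, hi⟩ := Function.ne_iff.1 hd0
        push Not at hneg
        exact ⟨i, by simpa using lt_of_le_of_ne (hneg i) (Ne.symm hi)⟩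
    have hzero : ∀ u : Fin n → ℝ, (∀ i, ¬ 0 < x i → u i = 0) → u ⬝ᵥ Bs d = 0 := fun u hu =>
      Finset.sum_eq_zero fun i _ => by
        by_cases hi : 0 < x i
        · rw [hBd i hi, mul_zero]
        · rw [hu i hi, zero_mul]
    have hsym : ∀ u v : Fin n → ℝ, u ⬝ᵥ Bs v = v ⬝ᵥ Bs u := fun u v => by
      simp only [hBs, dotProduct_smul, dotProduct_add, hbil, smul_eq_mul]
      ring
    have hb : d ⬝ᵥ Bs x = 0 := by
      rw [hsym]
      exact hzero x fun i hi => le_antisymm (not_lt.1 hi) (hx i)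
    have hqd : q d = 0 := by
      have := hzero d hd
      simp only [hBs, dotProduct_smul, dotProduct_add, hbil, smul_eq_mul] at this
      simp only [hq]
      linarith
    have ha : lr ⬝ᵥ d = 0 := by
      have := hline d hd
      rw [hb, mul_zero] at this
      exact (mul_eq_zero.1 this).resolve_right hQ.ne'
    obtain ⟨i₀, hi₀, hmin⟩ := Finset.exists_min_image (Finset.univ.filter fun i => d i < 0) (fun i => x i / -d i)
      (by obtain ⟨i, hi⟩ := hneg; exact ⟨i, by simp [hi]⟩)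
    simp only [Finset.mem_filter, Finset.mem_univ, true_and] at hi₀ hmin
    set s := x i₀ / -d i₀ with hs
    have hspos : 0 ≤ s := div_nonneg (hx i₀) (by linarith)
    set z := x + s • d with hz
    have hqz : q z = Q := by rw [hz, hexp, hb, hqd]; ring
    have hz0 : z ≠ 0 := fun h => by
      have : q z = 0 := by rw [h]; simp [hq]
      linarith [hqz ▸ this]
    have hzge : ∀ i, 0 ≤ z i := fun i => by
      simp only [hz, Pi.add_apply, Pi.smul_apply, smul_eq_mul]
      rcases lt_or_ge (d i) 0 with hi | hi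
      · have := (le_div_iff₀ (by linarith : (0:ℝ) < -d i)).1 (hmin i hi)
        linarith
      · nlinarith [hx i]
    have hzf : f z = f x₁ := by
      rw [← hxf]
      simp only [hf]
      rw [hqz, hz, dotProduct_add, dotProduct_smul, ha, smul_zero, add_zero]
    have hlt : (Finset.univ.filter fun i => 0 < z i).card < Nat.find hex := by
      rw [← hxk]
      refine Finset.card_lt_card ((Finset.ssubset_iff_of_subset ?_).2 ⟨i₀, ?_, ?_⟩)
      · intro i hi
        simp only [Finset.mem_filter, Finset.mem_univ, true_and] at hi ⊢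
        by_contra h
        simp only [hz, Pi.add_apply, Pi.smul_apply, smul_eq_mul, hd i h, mul_zero, add_zero] at hi
        exact h hi
      · simp only [Finset.mem_filter, Finset.mem_univ, true_and]
        exact not_not.1 fun h => (hd i₀ h ▸ hi₀).ne rfl
      · simp only [Finset.mem_filter, Finset.mem_univ, true_and, hz, Pi.add_apply, Pi.smul_apply, smul_eq_mul, hs, not_lt]
        have hd' : d i₀ ≠ 0 := hi₀.ne
        exact le_of_eq (by field_simp; ring)
    exact Nat.find_min hex hlt ⟨z, hzge, hz0, hzf, rfl⟩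
  let N : (Fin n → ℚ) →ₗ[ℚ] (Fin n → ℚ) :=
    { toFun := fun v i => if 0 < x i then ((B *ᵥ v) i + (B.transpose *ᵥ v) i) / 2 else v i
      map_add' := fun u v => by ext i; simp only [Matrix.mulVec_add, Pi.add_apply]; split_ifs <;> ring
      map_smul' := fun a v => by
        ext i; simp only [Matrix.mulVec_smul, Pi.smul_apply, smul_eq_mul, RingHom.id_apply]; split_ifs <;> ring }
  have hcast : ∀ (v : Fin n → ℚ) i, Bs (fun j => (v j : ℝ)) i = (((B *ᵥ v) i + (B.transpose *ᵥ v) i) / 2 : ℚ) := fun v i => by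
    simp only [hBs, hBr, Pi.smul_apply, Pi.add_apply, Matrix.mulVec, dotProduct, Matrix.map_apply,
      Matrix.transpose_apply, smul_eq_mul]
    push_cast
    ring
  have hNinj : Function.Injective N := by
    rw [injective_iff_map_eq_zero]
    intro v hv
    have h0 := hinj (fun j => (v j : ℝ)) (fun i hi => by
      have : v i = 0 := by simpa [N, hi] using congrFun hv i
      simp [this]) (fun i hi => by
      rw [hcast, show ((B *ᵥ v) i + (B.transpose *ᵥ v) i) / 2 = 0 by simpa [N, hi] using congrFun hv i, Rat.cast_zero])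
    exact funext fun i => by simpa using congrFun h0 i
  obtain ⟨w, hw⟩ := (LinearMap.injective_iff_surjective.1 hNinj) (fun i => if 0 < x i then ℓ i else 0)
  have hwx : x = (Q / L) • (fun j => (w j : ℝ)) := by
    refine sub_eq_zero.1 (hinj _ (fun i hi => ?_) (fun i hi => ?_))
    · have h1 : w i = 0 := by simpa [N, hi] using congrFun hw i
      simp [h1, le_antisymm (not_lt.1 hi) (hx i)]
    · have h1 : ((B *ᵥ w) i + (B.transpose *ᵥ w) i) / 2 = ℓ i := by simpa [N, hi] using congrFun hw i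
      have h2 := hline (Pi.single i 1) (fun j hj => Pi.single_eq_of_ne (fun h => hj (by rw [h]; exact hi)) _)
      simp only [dotProduct_single, single_dotProduct, mul_one, one_mul] at h2
      have h3 : Bs (x - (Q / L) • fun j => (w j : ℝ)) i = Bs x i - Q / L * Bs (fun j => (w j : ℝ)) i := by
        simp only [hBs, Matrix.mulVec_sub, Matrix.mulVec_smul, Pi.smul_apply, Pi.add_apply, Pi.sub_apply, smul_eq_mul]
        ring
      rw [h3, hcast, h1, sub_eq_zero, div_mul_eq_mul_div, eq_div_iff hL.ne', mul_comm, ← h2, mul_comm]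
  have hc : 0 < Q / L := div_pos hQ hL
  refine ⟨w, fun i => ?_, fun h => hx0 (by rw [hwx, h]; ext; simp), fun y hy hy0 => ?_⟩
  · have h1 : 0 ≤ Q / L * (w i : ℝ) := (hx i).trans_eq (congrFun hwx i)
    exact_mod_cast nonneg_of_mul_nonneg_right h1 hc
  · show f y ≤ f (fun j => (w j : ℝ))
    rw [← hfsmul _ (fun j => (w j : ℝ)) hc, ← hwx, hxf]
    exact hM y hy hy0

end Groth.Agent.S19138
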