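import Groth.Statements.S19140
import Groth.Agent.Reductive.MultTypeHomLocally
-- import your own Groth.Agent.* helpers here

set_option autoImplicit false
open CategoryTheory MonoidalCategory CartesianMonoidalCategory MonObj GrpObj AlgebraicGeometry
universe u
open SGA3x

namespace Groth.Agent.S19140

open Groth.Reductive.FreeDiag

/-- Let f : H ⟶ Q be a homomorphism of S-group schemes, with H of multiplicative type (of arbitrary
type: fpqc-locally on S, Zariski-locally isomorphic as a group to some diagonalisable group D(M))
and Q of multiplicative type and of finite type. Then the set U of points s ∈ S such that the fibre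
homomorphism f_s : H_s ⟶ Q_s is faithfully flat (flat and surjective) is open and closed in S, and
the homomorphism H|_U ⟶ Q|_U induced above U is faithfully flat. (No finite-type hypothesis on H.) -/
theorem result {S : Scheme.{u}} (H Q : Over S) [GrpObj H] [GrpObj Q]
    (hH : TwC.Locally S TwC.Topology.fpqc (fun S' g => ∃ (M : Type) (_ : AddCommGroup M), Nonempty (Grp.mk (Red.bc g H) ≅ Grp.mk (Red.DS S' M))))
    (hQ : SGA3x.IsMultTypeFT Q) (f : H ⟶ Q) [IsMonHom f] :
    ∃ U : S.Opens, IsClosed (U : Set S) ∧
      (∀ s : S, s ∈ U ↔ (Flat ((Over.pullback (S.fromSpecResidueField s)).map f).left ∧ Surjective ((Over.pullback (S.fromSpecResidueField s)).map f).left)) ∧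
      (Flat ((Over.pullback U.ι).map f).left ∧ Surjective ((Over.pullback U.ι).map f).left) := by
  haveI : IsZariskiLocalAtTarget (@Flat ⊓ @Surjective : MorphismProperty Scheme.{u}) :=
    inferInstance
  haveI : (@Flat ⊓ @Surjective : MorphismProperty Scheme.{u}).DescendsAlong
      Groth.DescentBase.SFQ :=
    ⟨fun sq hf h ↦
      ⟨Groth.AlgSp2.flat_descendsAlong.of_isPullback sq hf h.1,
        MorphismProperty.of_isPullback_of_descendsAlong (P := @Surjective) sq hf h.2⟩⟩
  exact exists_clopen_prop_locally (@Flat ⊓ @Surjective) (fun f ↦ Function.Injective f)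
    (fun f hf ↦ flat_surjective_dsHom f hf)
    (fun {K} _ {M N} _ _ f hf ↦ by
      haveI := hf.1
      haveI := hf.2
      haveI := Flat.epi_of_flat_of_surjective (dsHom (T := Spec (CommRingCat.of K)) f).left
      exact injective_of_epi_dsHom (K := K) f) hH hQ f

end Groth.Agent.S19140
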