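import Groth.Statements.S19142
import Groth.Agent.Reductive.MTTransporter
-- import your own Groth.Agent.* helpers here

set_option autoImplicit false
open CategoryTheory MonoidalCategory CartesianMonoidalCategory MonObj GrpObj AlgebraicGeometry
universe u
open SGA3x

namespace Groth.Agent.S19142

/-- Let H be an S-group of multiplicative type (of arbitrary type: no finite-type hypothesis), G an
S-group smooth and affine over S and u : H ⟶ G a homomorphism. Then the centralizer of u in G is
representable by a closed subgroup scheme of G which is smooth over S. -/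
theorem result {S : Scheme.{u}} (H G : Over S) [GrpObj H] [GrpObj G]
    (hH : TwC.Locally S TwC.Topology.fpqc (fun S' g => ∃ (M : Type) (_ : AddCommGroup M), Nonempty (Grp.mk (Red.bc g H) ≅ Grp.mk (Red.DS S' M))))
    (hG : Smooth G.hom) (hGa : IsAffineHom G.hom) (u : H ⟶ G) [IsMonHom u] :
    ∃ (Z : Over S) (_ : GrpObj Z) (j : Z ⟶ G), Red.IsCentralizerOf u j ∧ IsClosedImmersion j.left ∧ Smooth Z.hom := by
  obtain ⟨Z, inst, j, h1, h2, h3, h4, h5⟩ :=
    Groth.Reductive.MTInt.exists_centralizer (Groth.Reductive.MTInt.locTriv_of_locally hH) hG hGa u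
  exact ⟨Z, inst, j, ⟨h1, h2, h3⟩, h4, h5⟩

end Groth.Agent.S19142
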