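import Groth.Statements.S19144
import Mathlib
import Groth.Agent.Reductive2.TwConstFinite
import Groth.Agent.Reductive2.HomTwConst
-- import your own Groth.Agent.* helpers here

set_option autoImplicit false
open CategoryTheory MonoidalCategory CartesianMonoidalCategory MonObj GrpObj AlgebraicGeometry
universe u
open TwC

namespace Groth.Agent.S19144

section Helpers

open CategoryTheory CategoryTheory.Limits AlgebraicGeometry TopologicalSpace
open Groth.Reductive2.TwConstEtale
open Groth.EtaleBase
open scoped TensorProduct

set_option backward.isDefEq.respectTransparency.types false in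
/-- The projection of a constant scheme being separated, a twisted constant scheme is separated. -/
theorem isSeparated_hom {S : Scheme.{u}} (X : Over S) (hX : TwC.IsTwConst TwC.Topology.etale X) :
    IsSeparated X.hom := by
  have : MorphismProperty.DescendsAlong (@IsSeparated : MorphismProperty Scheme.{u})
      (@Surjective ⊓ @Flat ⊓ @QuasiCompact : MorphismProperty Scheme.{u}) := Groth.EtaleBase.descendsAlong_isSeparated
  have : IsZariskiLocalAtTarget (@IsSeparated : MorphismProperty Scheme.{u}) := inferInstance
  have : MorphismProperty.DescendsAlong (@IsSeparated : MorphismProperty Scheme.{u})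
      (@Surjective ⊓ @Flat ⊓ @LocallyOfFinitePresentation : MorphismProperty Scheme.{u}) := by infer_instance
  refine Groth.Reductive2.TwConstFinite.of_etale_locally (@IsSeparated : MorphismProperty Scheme.{u}) X.hom fun s => ?_
  obtain ⟨S', f, hf, hs, I, ⟨e⟩⟩ := hX s
  obtain ⟨σ, hσ⟩ := exists_sections X f e
  refine ⟨S', f, hf, hs, ?_⟩
  rw [← hσ.isoPullback_inv_snd]
  exact (MorphismProperty.cancel_left_of_respectsIso @IsSeparated _ _).mpr
    (Groth.Reductive2.HomTwConst.isSeparated_const S' I)

/-- A morphism to an étale open neighbourhood from a valuation ring dominating the given one. -/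
theorem exists_valuation_lift {R : Type u} [CommRing R] [IsDomain R] [IsLocalRing R] {W : Scheme.{u}}
    (q : W ⟶ Spec (CommRingCat.of R)) [Flat q] (z : W) (hz : q z = IsLocalRing.closedPoint R) :
    ∃ (L : Type u) (_ : Field L) (A : ValuationSubring L) (φ : R →+* A) (v : Spec (CommRingCat.of A) ⟶ W),
      Function.Injective φ ∧ IsLocalHom φ ∧ v ≫ q = Spec.map (CommRingCat.ofHom φ) := by
  obtain ⟨z', hz', hqz'⟩ := Flat.generalizingMap q (a := z)
    (b := genericPoint (Spec (CommRingCat.of R) : Scheme.{u}))
    ((genericPoint_spec (Spec (CommRingCat.of R) : Scheme.{u})).specializes trivial)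
  let ρ : W.presheaf.stalk z ⟶ W.residueField z' := W.presheaf.stalkSpecializes hz' ≫ W.residue z'
  obtain ⟨A, hA, hAl⟩ := IsLocalRing.exists_factor_valuationRing ρ.hom
  let ψ : W.presheaf.stalk z ⟶ CommRingCat.of A := CommRingCat.ofHom (ρ.hom.codRestrict _ hA)
  let v : Spec (CommRingCat.of A) ⟶ W := Spec.map ψ ≫ W.fromSpecStalk z
  have hvc : v (IsLocalRing.closedPoint A) = z := by
    show (Spec.map ψ ≫ W.fromSpecStalk z) (IsLocalRing.closedPoint A) = z
    show W.fromSpecStalk z (Spec.map ψ (IsLocalRing.closedPoint A)) = z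
    have : Spec.map ψ (IsLocalRing.closedPoint A) = IsLocalRing.closedPoint (W.presheaf.stalk z) :=
      IsLocalRing.comap_closedPoint (S := A) (ρ.hom.codRestrict A.toSubring hA)
    rw [this, W.fromSpecStalk_closedPoint]
  have hvg : Spec.map (CommRingCat.ofHom (algebraMap A (W.residueField z'))) ≫ v = W.fromSpecResidueField z' := by
    show _ ≫ Spec.map ψ ≫ W.fromSpecStalk z = _
    rw [← Spec.map_comp_assoc, Scheme.fromSpecResidueField,
      ← Scheme.SpecMap_stalkSpecializes_fromSpecStalk hz', ← Spec.map_comp_assoc]
    rfl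
  let φ := (Spec.preimage (v ≫ q)).hom
  have hφ : Spec.map (CommRingCat.ofHom φ) = v ≫ q := Spec.map_preimage _
  refine ⟨W.residueField z', inferInstance, A, φ, v, ?_, ?_, hφ.symm⟩
  · have hg : PrimeSpectrum.comap ((algebraMap A (W.residueField z')).comp φ) (IsLocalRing.closedPoint (W.residueField z')) =
        genericPoint (Spec (CommRingCat.of R) : Scheme.{u}) := by
      show Spec.map (CommRingCat.ofHom ((algebraMap A (W.residueField z')).comp φ)) _ = _
      rw [CommRingCat.ofHom_comp, Spec.map_comp, hφ, ← Category.assoc, hvg]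
      show q (W.fromSpecResidueField z' (IsLocalRing.closedPoint (W.residueField z'))) = _
      erw [Scheme.fromSpecResidueField_apply]
      exact hqz'
    rw [genericPoint_eq_bot_of_affine] at hg
    have h2 := congrArg PrimeSpectrum.asIdeal hg
    intro a b hab
    have : a - b ∈ (⊥ : Ideal R) := by
      refine h2.le ?_
      show ((algebraMap A (W.residueField z')).comp φ) (a - b) ∈ IsLocalRing.maximalIdeal _
      rw [RingHom.comp_apply, map_sub φ, hab, sub_self, map_zero]
      exact zero_mem _
    exact sub_eq_zero.mp this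
  · refine ((IsLocalRing.local_hom_TFAE φ).out 0 4).mpr ?_
    have h1 : PrimeSpectrum.comap φ (IsLocalRing.closedPoint A) = IsLocalRing.closedPoint R := by
      show Spec.map (CommRingCat.ofHom φ) _ = _
      rw [hφ]
      show q (v (IsLocalRing.closedPoint A)) = _
      rw [hvc, hz]
    exact congrArg PrimeSpectrum.asIdeal h1

/-- Two morphisms to a separated scheme which agree on a schematically dense affine agree. -/
theorem ext_of_injective {B C : Type u} [CommRing B] [CommRing C] (m : B →+* C) (hm : Function.Injective m)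
    {X S : Scheme.{u}} (p : X ⟶ S) [IsSeparated p] (a b : Spec (CommRingCat.of B) ⟶ X) (hp : a ≫ p = b ≫ p)
    (h : Spec.map (CommRingCat.ofHom m) ≫ a = Spec.map (CommRingCat.ofHom m) ≫ b) : a = b := by
  let d := pullback.lift a b hp
  let E := pullback d (pullback.diagonal p)
  let incl : E ⟶ Spec (CommRingCat.of B) := pullback.fst d (pullback.diagonal p)
  let l : Spec (CommRingCat.of C) ⟶ E :=
    pullback.lift (Spec.map (CommRingCat.ofHom m)) (Spec.map (CommRingCat.ofHom m) ≫ a) (by
      refine pullback.hom_ext ?_ ?_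
      · rw [Category.assoc, Category.assoc, pullback.diagonal_fst, Category.comp_id]
        erw [pullback.lift_fst]
      · rw [Category.assoc, Category.assoc, pullback.diagonal_snd, Category.comp_id]
        erw [pullback.lift_snd]
        exact h.symm)
  have hl : l ≫ incl = Spec.map (CommRingCat.ofHom m) := pullback.lift_fst _ _ _
  have : IsClosedImmersion incl := inferInstance
  have : IsIso incl := by
    rw [IsClosedImmersion.isIso_iff_ker_eq_bot, eq_bot_iff]
    refine (Scheme.Hom.le_ker_comp l incl).trans ?_
    rw [hl]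
    refine Scheme.IdealSheafData.le_of_isAffine fun x hx => ?_
    rw [Scheme.Hom.ker_apply, RingHom.mem_ker] at hx
    rw [Scheme.IdealSheafData.ideal_bot, Pi.bot_apply, Ideal.mem_bot]
    have hn := congrArg (fun g => g x) (congrArg CommRingCat.Hom.hom (Scheme.ΓSpecIso_naturality (CommRingCat.ofHom m)))
    apply (Scheme.ΓSpecIso (CommRingCat.of B)).commRingCatIsoToRingEquiv.injective
    rw [map_zero]
    apply hm
    rw [map_zero]
    refine hn.symm.trans ?_
    show (Scheme.ΓSpecIso (CommRingCat.of C)).hom.hom ((Spec.map (CommRingCat.ofHom m)).appTop.hom x) = 0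
    erw [hx]
    exact map_zero _
  have e1 : incl ≫ a = pullback.snd d (pullback.diagonal p) := by
    have := congrArg (· ≫ pullback.fst p p) (pullback.condition (f := d) (g := pullback.diagonal p))
    simp only [Category.assoc, pullback.diagonal_fst, Category.comp_id] at this
    erw [pullback.lift_fst] at this
    exact this
  have e2 : incl ≫ b = pullback.snd d (pullback.diagonal p) := by
    have := congrArg (· ≫ pullback.snd p p) (pullback.condition (f := d) (g := pullback.diagonal p))
    simp only [Category.assoc, pullback.diagonal_snd, Category.comp_id] at this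
    erw [pullback.lift_snd] at this
    exact this
  rw [← cancel_epi incl, e1, e2]

set_option synthInstance.maxHeartbeats 200000 in
/-- The valuative criterion for a scheme which becomes constant étale locally. -/
theorem existence {S : Scheme.{u}} (X : Over S) (hX : TwC.IsTwConst TwC.Topology.etale X) :
    ValuativeCriterion.Existence X.hom := by
  have := isSeparated_hom X hX
  rintro ⟨R, K, i₁, i₂, ⟨w⟩⟩
  refine CommSq.HasLift.mk ?_
  obtain ⟨S', f, hf, ⟨s', hs'⟩, I, ⟨e⟩⟩ := hX (i₂ (IsLocalRing.closedPoint R))
  obtain ⟨σ, hσ⟩ := exists_sections X f e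
  obtain ⟨z, hz, -⟩ := Scheme.Pullback.exists_preimage_pullback (f := i₂) (g := f)
    (IsLocalRing.closedPoint R) s' hs'.symm
  obtain ⟨L, hL, A, φ, v, hinj, hloc, hv⟩ := exists_valuation_lift (pullback.fst i₂ f) z hz
  let algA : Algebra R A := φ.toAlgebra
  let algL : Algebra R L := ((algebraMap A L).comp φ).toAlgebra
  have : IsScalarTower R A L := IsScalarTower.of_algebraMap_eq fun _ => rfl
  have hinjL : Function.Injective (algebraMap R L) := Subtype.val_injective.comp hinj
  let κ : K →+* L := IsFractionRing.lift hinjL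
  have hκ : ∀ r, κ (algebraMap R K r) = algebraMap A L (φ r) := fun r => IsFractionRing.lift_algebraMap _ r
  have : Module.IsTorsionFree R A :=
    Module.isTorsionFree_iff_algebraMap_injective.mpr hinj
  have hflatA : Module.Flat R A :=
    Module.Flat.flat_iff_torsion_eq_bot_of_isBezout.mpr (Submodule.isTorsionFree_iff_torsion_eq_bot.mp inferInstance)
  have : Module.IsTorsionFree R L :=
    Module.isTorsionFree_iff_algebraMap_injective.mpr hinjL
  have hflatL : Module.Flat R L :=
    Module.Flat.flat_iff_torsion_eq_bot_of_isBezout.mpr (Submodule.isTorsionFree_iff_torsion_eq_bot.mp inferInstance)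
  have : IsLocalHom (algebraMap R A) := hloc
  have : Module.FaithfullyFlat R A := Module.FaithfullyFlat.of_flat_of_isLocalHom
  let p : Spec (CommRingCat.of A) ⟶ Spec (CommRingCat.of R) := Spec.map (CommRingCat.ofHom φ)
  let pL : Spec (CommRingCat.of L) ⟶ Spec (CommRingCat.of K) := Spec.map (CommRingCat.ofHom κ)
  let jA : Spec (CommRingCat.of L) ⟶ Spec (CommRingCat.of A) := Spec.map (CommRingCat.ofHom (algebraMap A L))
  have hκ' : CommRingCat.ofHom φ ≫ CommRingCat.ofHom (algebraMap A L) =
      CommRingCat.ofHom (algebraMap R K) ≫ CommRingCat.ofHom κ :=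
    CommRingCat.hom_ext (RingHom.ext fun r => (hκ r).symm)
  have hjp : jA ≫ p = pL ≫ Spec.map (CommRingCat.ofHom (algebraMap R K)) := by
    simp only [jA, p, pL, ← Spec.map_comp, hκ']
  -- the constant model over `A`
  let t' := v ≫ pullback.snd i₂ f
  have ht' : t' ≫ f = p ≫ i₂ := by
    rw [Category.assoc, ← pullback.condition, ← Category.assoc, hv]
  have hσ' := isPullback_comp hσ t'
  rw [ht'] at hσ'
  let pt : Spec (CommRingCat.of L) ⟶ ∐ fun _ : I => Spec (CommRingCat.of A) :=
    hσ'.lift (pL ≫ i₁) jA (by rw [Category.assoc, w, ← Category.assoc, ← hjp, Category.assoc])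
  have hpt1 := hσ'.lift_fst (pL ≫ i₁) jA (by rw [Category.assoc, w, ← Category.assoc, ← hjp, Category.assoc])
  have hpt2 := hσ'.lift_snd (pL ≫ i₁) jA (by rw [Category.assoc, w, ← Category.assoc, ← hjp, Category.assoc])
  let i := sigmaIdx (pt (IsLocalRing.closedPoint L))
  have hrange : Set.range pt ⊆ Set.range (Sigma.ι (fun _ : I => Spec (CommRingCat.of A)) i) := by
    rintro _ ⟨y, rfl⟩
    rw [Subsingleton.elim (α := PrimeSpectrum L) y (IsLocalRing.closedPoint L)]
    exact exists_ι _ |>.elim fun x hx => ⟨x, hx⟩
  let m := IsOpenImmersion.lift (Sigma.ι (fun _ : I => Spec (CommRingCat.of A)) i) pt hrange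
  have hm : m ≫ Sigma.ι (fun _ : I => Spec (CommRingCat.of A)) i = pt := IsOpenImmersion.lift_fac _ _ _
  have hmj : m = jA := by
    rw [← hpt2]
    show m = pt ≫ _
    rw [← hm, Category.assoc, Sigma.ι_desc, Category.comp_id]
  let ℓA := t' ≫ σ i
  have hℓ1 : jA ≫ ℓA = pL ≫ i₁ := by
    rw [← hpt1]
    show _ = pt ≫ _
    rw [← hm, Category.assoc, Sigma.ι_desc, hmj]
  have hℓ2 : ℓA ≫ X.hom = p ≫ i₂ := by
    have := congrArg (Sigma.ι (fun _ : I => Spec (CommRingCat.of A)) i ≫ ·) hσ'.w
    simpa [ℓA] using this
  -- descent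
  have : Flat p := (HasRingHomProperty.Spec_iff (P := @Flat)).mpr hflatA
  have : Surjective p := ⟨PrimeSpectrum.comap_surjective_of_faithfullyFlat (A := R) (B := A)⟩
  have hpair : pullback.fst p p ≫ ℓA = pullback.snd p p ≫ ℓA := by
    rw [← cancel_epi (pullbackSpecIso R A A).inv, pullbackSpecIso_inv_fst'_assoc, pullbackSpecIso_inv_snd_assoc]
    let mm : A ⊗[R] A →ₐ[R] L ⊗[R] L :=
      Algebra.TensorProduct.map (IsScalarTower.toAlgHom R A L) (IsScalarTower.toAlgHom R A L)
    have hmm : Function.Injective mm :=
      TensorProduct.map_injective_of_flat_flat (IsScalarTower.toAlgHom R A L).toLinearMap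
        (IsScalarTower.toAlgHom R A L).toLinearMap Subtype.val_injective Subtype.val_injective
    refine ext_of_injective mm.toRingHom hmm X.hom _ _ ?_ ?_
    · simp only [Category.assoc]
      erw [hℓ2]
      rw [← Category.assoc, ← Category.assoc]
      congr 1
      simp only [p, ← Spec.map_comp]
      congr 1
      exact CommRingCat.hom_ext (RingHom.ext fun r => ((Algebra.TensorProduct.includeLeft : A →ₐ[R] A ⊗[R] A).commutes r).trans
        ((Algebra.TensorProduct.includeRight : A →ₐ[R] A ⊗[R] A).commutes r).symm)
    · have e1 : CommRingCat.ofHom (algebraMap A (A ⊗[R] A)) ≫ CommRingCat.ofHom mm.toRingHom =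
          CommRingCat.ofHom (algebraMap A L) ≫ CommRingCat.ofHom (algebraMap L (L ⊗[R] L)) :=
        CommRingCat.hom_ext (RingHom.ext fun a => by simp [mm])
      have e2 : CommRingCat.ofHom (RingHomClass.toRingHom (Algebra.TensorProduct.includeRight : A →ₐ[R] A ⊗[R] A)) ≫
          CommRingCat.ofHom mm.toRingHom = CommRingCat.ofHom (algebraMap A L) ≫
            CommRingCat.ofHom (Algebra.TensorProduct.includeRight : L →ₐ[R] L ⊗[R] L).toRingHom :=
        CommRingCat.hom_ext (RingHom.ext fun a => by simp [mm])
      have e3 : CommRingCat.ofHom κ ≫ CommRingCat.ofHom (algebraMap L (L ⊗[R] L)) =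
          CommRingCat.ofHom κ ≫ CommRingCat.ofHom (Algebra.TensorProduct.includeRight : L →ₐ[R] L ⊗[R] L).toRingHom := by
        refine CommRingCat.hom_ext (IsLocalization.ringHom_ext (nonZeroDivisors R) (RingHom.ext fun r => ?_))
        show algebraMap L (L ⊗[R] L) (κ (algebraMap R K r)) =
          (Algebra.TensorProduct.includeRight : L →ₐ[R] L ⊗[R] L) (κ (algebraMap R K r))
        rw [hκ]
        exact ((Algebra.TensorProduct.includeLeft : L →ₐ[R] L ⊗[R] L).commutes r).trans
          ((Algebra.TensorProduct.includeRight : L →ₐ[R] L ⊗[R] L).commutes r).symm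
      rw [← Spec.map_comp_assoc, ← Spec.map_comp_assoc]
      erw [e1, e2]
      simp only [Spec.map_comp, Category.assoc]
      erw [hℓ1]
      simp only [pL, ← Spec.map_comp_assoc, e3]
  have key : ∀ {Z : Scheme.{u}} (g₁ g₂ : Z ⟶ Spec (CommRingCat.of A)), g₁ ≫ p = g₂ ≫ p → g₁ ≫ ℓA = g₂ ≫ ℓA := by
    intro Z g₁ g₂ h
    have := congrArg (pullback.lift g₁ g₂ h ≫ ·) hpair
    simp only [← Category.assoc, pullback.lift_fst, pullback.lift_snd] at this
    exact this
  let ℓ := EffectiveEpi.desc p ℓA key
  have hℓ : p ≫ ℓ = ℓA := EffectiveEpi.fac p ℓA key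
  let algKL : Algebra K L := κ.toAlgebra
  have : Flat pL := (HasRingHomProperty.Spec_iff (P := @Flat)).mpr (inferInstanceAs (Module.Flat K L))
  have : Surjective pL := ⟨fun y => ⟨IsLocalRing.closedPoint L, Subsingleton.elim (α := PrimeSpectrum K) _ y⟩⟩
  have : EffectiveEpi p := inferInstance
  have : Epi p := inferInstance
  have : Epi pL := inferInstance
  exact ⟨{ l := ℓ
           fac_left := by rw [← cancel_epi pL, ← Category.assoc, ← hjp, Category.assoc, hℓ, hℓ1]
           fac_right := by rw [← cancel_epi p, ← Category.assoc, hℓ, hℓ2] }⟩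

end Helpers

/-- A quasi-isotrivial twisted constant S-scheme X (etale-locally on S isomorphic to a constant scheme)
is separated and etale over S, and its structure morphism satisfies the valuative criterion of
properness (every valuative square has exactly one lift; X ⟶ S need not be quasi-compact). -/
theorem result {S : Scheme.{u}} (X : Over S)
    (hX : TwC.IsTwConst TwC.Topology.etale X) :
    IsSeparated X.hom ∧ Etale X.hom ∧ ValuativeCriterion X.hom := by
  have := isSeparated_hom X hX
  exact ⟨this, Groth.Reductive2.TwConstFinite.etale_hom X hX,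
    ValuativeCriterion.iff.mpr ⟨existence X hX, IsSeparated.valuativeCriterion X.hom⟩⟩

end Groth.Agent.S19144
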