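import Groth.Statements.S19145
import Mathlib
import Groth.Agent.S19144
import Groth.Agent.EtaleBaseTwo.EtaleComponents
-- import your own Groth.Agent.* helpers here

set_option autoImplicit false
open CategoryTheory MonoidalCategory CartesianMonoidalCategory MonObj GrpObj AlgebraicGeometry
universe u
open TwC

namespace Groth.Agent.S19145

section
open CategoryTheory CategoryTheory.Limits AlgebraicGeometry TopologicalSpace
open Groth.Reductive2.TwConstEtale Groth.Reductive2.TwConstFinite

set_option backward.isDefEq.respectTransparency.types false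

/-- Around every point a twisted constant scheme is constant on an irreducible étale neighbourhood
which is quasi-compact over an affine open. -/
theorem exists_irreducible_chart {S : Scheme.{u}} [IrreducibleSpace S]
    (hS : ∀ s : S, CAlg2.IsGeomUnibranch (S.presheaf.stalk s)) (P : Over S)
    (hP : TwC.IsTwConst TwC.Topology.etale P) (s : S) :
    ∃ (V : S.Opens) (T : Scheme.{u}) (f₀ : T ⟶ (V : Scheme.{u})), QuasiCompact f₀ ∧ Etale (f₀ ≫ V.ι) ∧
      IrreducibleSpace T ∧ s ∈ Set.range (f₀ ≫ V.ι) ∧ ∃ (I : Type u) (σ : I → (T ⟶ P.left)),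
        IsPullback (Sigma.desc σ) (Sigma.desc fun _ : I => 𝟙 T) P.hom (f₀ ≫ V.ι) := by
  obtain ⟨S', f, hf, ⟨x, hx⟩, I, ⟨e⟩⟩ := hP s
  obtain ⟨σ, hσ⟩ := exists_sections P f e
  obtain ⟨W, Z, hxW, -, hZ, -, hWZ⟩ := Groth.EtaleBaseTwo.exists_irreducible_nhd f x (hS _)
  obtain ⟨_, ⟨V, hV, rfl⟩, hsV, -⟩ := S.isBasis_affineOpens.exists_subset_of_mem_open (Set.mem_univ s) isOpen_univ
  obtain ⟨_, ⟨T, hT, rfl⟩, hxT, hTsub⟩ := S'.isBasis_affineOpens.exists_subset_of_mem_open
    (show x ∈ ((W ⊓ f ⁻¹ᵁ V : S'.Opens) : Set S') from ⟨hxW, show f x ∈ V by rw [hx]; exact hsV⟩) (W ⊓ f ⁻¹ᵁ V).isOpen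
  replace hV : IsAffineOpen V := hV
  replace hT : IsAffineOpen T := hT
  have : IsAffine (Scheme.Opens.toScheme V) := hV
  have : IsAffine (Scheme.Opens.toScheme T) := hT
  let f₀ : Scheme.Opens.toScheme T ⟶ Scheme.Opens.toScheme V := f.resLE V T (fun y hy => (hTsub hy).2)
  have hf₀ : f₀ ≫ Scheme.Opens.ι V = Scheme.Opens.ι T ≫ f := Scheme.Hom.resLE_comp_ι _ _
  have hirr : IrreducibleSpace (Scheme.Opens.toScheme T) := by
    have h1 : IsPreirreducible (T : Set S') := by
      refine fun u v hu hv hu' hv' => ?_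
      obtain ⟨a, ha1, ha2⟩ := hu'
      obtain ⟨b, hb1, hb2⟩ := hv'
      obtain ⟨c, -, hc2, hc3⟩ := hZ.1.2 (u ∩ T) (v ∩ T) (hu.inter T.isOpen) (hv.inter T.isOpen)
        ⟨a, hWZ (hTsub ha1).1, ha2, ha1⟩ ⟨b, hWZ (hTsub hb1).1, hb2, hb1⟩
      exact ⟨c, hc2.2, hc2.1, hc3.1⟩
    exact { isPreirreducible_univ := (Subtype.preirreducibleSpace h1).isPreirreducible_univ, toNonempty := ⟨⟨x, hxT⟩⟩ }
  refine ⟨V, _, f₀, inferInstance, ?_, hirr, ⟨⟨x, hxT⟩, ?_⟩, I, fun i => Scheme.Opens.ι T ≫ σ i, ?_⟩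
  · rw [hf₀]; infer_instance
  · rw [hf₀]; exact hx
  · rw [hf₀]; exact isPullback_comp hσ (Scheme.Opens.ι T)

/-- A closed and open part with one point over the generic point is finite. -/
theorem isFinite_clopen {S : Scheme.{u}} [IrreducibleSpace S]
    (hS : ∀ s : S, CAlg2.IsGeomUnibranch (S.presheaf.stalk s)) (P : Over S)
    (hP : TwC.IsTwConst TwC.Topology.etale P) [Etale P.hom] (Z : P.left.Opens) (hZ : IsClosed (Z : Set P.left))
    (l : P.left) (hl : ∀ z ∈ Z, P.hom z = genericPoint S → z = l) : IsFinite (Z.ι ≫ P.hom) := by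
  refine of_etale_locally @IsFinite _ fun s => ?_
  obtain ⟨V, T, f₀, hqc, hf, hirr, hs, I, σ, hσ⟩ := exists_irreducible_chart hS P hP s
  refine ⟨T, f₀ ≫ V.ι, hf, hs, ?_⟩
  let w := genericPoint T
  have hwη : (f₀ ≫ V.ι) w = genericPoint S :=
    Groth.EtaleBaseTwo.map_genericPoint_of_flat (f₀ ≫ V.ι) (Z := Set.univ)
      (by rw [irreducibleComponents_eq_singleton]; rfl) (genericPoint_spec T)
  have hall : ∀ (i : I) (y : T), σ i y ∈ Z ↔ σ i w ∈ Z := fun i y => by
    rcases isClopen_iff.mp (show IsClopen (σ i ⁻¹' (Z : Set P.left)) from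
      ⟨hZ.preimage (σ i).continuous, Z.isOpen.preimage (σ i).continuous⟩) with h | h
    · exact ⟨fun hy => ((Set.eq_empty_iff_forall_notMem.mp h) y hy).elim,
        fun hy => ((Set.eq_empty_iff_forall_notMem.mp h) w hy).elim⟩
    · exact ⟨fun _ => Set.eq_univ_iff_forall.mp h w, fun _ => Set.eq_univ_iff_forall.mp h y⟩
  let J := {i : I // σ i w ∈ Z}
  have hσP : ∀ i y, P.hom (σ i y) = (f₀ ≫ V.ι) y := fun i y => by
    have := congr(Sigma.ι (fun _ : I => T) i ≫ $(hσ.w))
    simp only [Sigma.ι_desc_assoc, Category.id_comp] at this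
    exact congrArg (fun q : T ⟶ S => q y) this
  -- the map to the part of `P` over `V` is quasi-compact
  let d := IsOpenImmersion.lift (P.hom ⁻¹ᵁ V).ι (Sigma.desc σ) (by
    rw [Scheme.Opens.range_ι]
    rintro _ ⟨q, rfl⟩
    show P.hom (Sigma.desc σ q) ∈ V
    rw [← Scheme.Hom.comp_apply, hσ.w, Scheme.Hom.comp_apply, Scheme.Hom.comp_apply]
    exact Subtype.prop _)
  have hd : d ≫ (P.hom ⁻¹ᵁ V).ι = Sigma.desc σ := IsOpenImmersion.lift_fac _ _ _
  have hpb : IsPullback d (Sigma.desc fun _ : I => 𝟙 T) (P.hom ∣_ V) f₀ := by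
    refine IsPullback.of_right ?_ ?_ (isPullback_morphismRestrict P.hom V).flip
    · rw [hd]; exact hσ
    · rw [← cancel_mono V.ι, Category.assoc, morphismRestrict_ι, ← Category.assoc, hd, hσ.w, Category.assoc]
  have : Etale (Sigma.desc σ) := MorphismProperty.of_isPullback hσ.flip hf
  have : Etale (d ≫ (P.hom ⁻¹ᵁ V).ι) := by rw [hd]; infer_instance
  have : Etale d := .of_comp d (P.hom ⁻¹ᵁ V).ι
  have : QuasiCompact d := MorphismProperty.of_isPullback hpb.flip hqc
  have hJ : Finite J := by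
    rw [← Set.finite_univ_iff]
    let pw : J → ↑(∐ fun _ : I => T) := fun i => Sigma.ι (fun _ : I => T) i.1 w
    have hlw : ∀ i : J, Sigma.desc σ (pw i) = l := fun i => by
      show Sigma.desc σ (Sigma.ι (fun _ : I => T) i.1 w) = l
      rw [← Scheme.Hom.comp_apply, Sigma.ι_desc]
      exact hl _ i.2 ((hσP i.1 w).trans hwη)
    refine Set.Finite.of_finite_image (f := pw) ?_ fun a _ b _ hab => Subtype.ext
      ((sigmaIdx_ι a.1 w).symm.trans ((congrArg sigmaIdx hab).trans (sigmaIdx_ι b.1 w)))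
    rcases isEmpty_or_nonempty J with hJe | ⟨⟨i₀⟩⟩
    · simp [Set.eq_empty_of_isEmpty]
    refine (d.finite_preimage_singleton (d (pw i₀))).subset ?_
    rintro _ ⟨i, -, rfl⟩
    show d (pw i) = d (pw i₀)
    refine (P.hom ⁻¹ᵁ V).ι.isOpenEmbedding.injective ?_
    show (d ≫ (P.hom ⁻¹ᵁ V).ι) (pw i) = (d ≫ (P.hom ⁻¹ᵁ V).ι) (pw i₀)
    rw [hd]
    exact (hlw i).trans (hlw i₀).symm
  let j : (∐ fun _ : J => T) ⟶ ∐ fun _ : I => T := Sigma.desc fun i => Sigma.ι (fun _ : I => T) i.1
  have : IsOpenImmersion j := by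
    refine isOpenImmersion_sigmaDesc _ _ fun a b hab => ?_
    refine Set.disjoint_iff_forall_ne.mpr ?_
    rintro _ ⟨p, rfl⟩ _ ⟨q, rfl⟩ e
    exact hab (Subtype.ext ((sigmaIdx_ι a.1 p).symm.trans ((congrArg sigmaIdx e).trans (sigmaIdx_ι b.1 q))))
  have hr : Set.range j = Sigma.desc σ ⁻¹' Set.range Z.ι := by
    rw [Scheme.Opens.range_ι]
    ext q
    constructor
    · rintro ⟨v, rfl⟩
      obtain ⟨y, hy⟩ := exists_ι v
      rw [← hy]
      show Sigma.desc σ (j (Sigma.ι (fun _ : J => T) _ y)) ∈ Z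
      rw [← Scheme.Hom.comp_apply, ← Scheme.Hom.comp_apply]
      simp only [j, Sigma.ι_desc, Sigma.ι_desc_assoc, Category.assoc]
      exact (hall _ y).mpr (sigmaIdx v).2
    · intro hw
      obtain ⟨y, hy⟩ := exists_ι q
      rw [← hy] at hw ⊢
      have hi : σ (sigmaIdx q) y ∈ Z := by
        have : Sigma.desc σ (Sigma.ι (fun _ : I => T) (sigmaIdx q) y) ∈ Z := hw
        rwa [← Scheme.Hom.comp_apply, Sigma.ι_desc] at this
      refine ⟨Sigma.ι (fun _ : J => T) ⟨sigmaIdx q, (hall _ y).mp hi⟩ y, ?_⟩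
      rw [← Scheme.Hom.comp_apply, Sigma.ι_desc]
  let lf := IsOpenImmersion.lift Z.ι (j ≫ Sigma.desc σ) (by
    rintro _ ⟨v, rfl⟩
    exact hr.subset ⟨v, rfl⟩)
  have hlf : lf ≫ Z.ι = j ≫ Sigma.desc σ := IsOpenImmersion.lift_fac _ _ _
  have h := (isPullback_of_openImmersion hlf hr).paste_vert hσ
  rw [← h.isoPullback_inv_snd]
  refine (MorphismProperty.cancel_left_of_respectsIso @IsFinite _ _).mpr ?_
  rw [show j ≫ Sigma.desc (fun _ : I => 𝟙 T) = Sigma.desc fun _ : J => 𝟙 T from
    Sigma.hom_ext _ _ fun i => by simp [j]]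
  exact isFinite_const J

/-- Two sections agreeing at one point of an irreducible base agree. -/
theorem section_ext {S X : Scheme.{u}} [IrreducibleSpace S] (p : X ⟶ S) [IsSeparated p] [FormallyUnramified p]
    [LocallyOfFiniteType p] {K : Scheme.{u}} [Nonempty K] (m : K ⟶ S) (σ₁ σ₂ : S ⟶ X) (h₁ : σ₁ ≫ p = 𝟙 S) (h₂ : σ₂ ≫ p = 𝟙 S)
    (h : m ≫ σ₁ = m ≫ σ₂) : σ₁ = σ₂ := by
  let d := pullback.lift σ₁ σ₂ (h₁.trans h₂.symm)
  let incl := pullback.fst d (pullback.diagonal p)
  have : IsClosedImmersion incl := inferInstance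
  have : IsOpenImmersion incl := inferInstance
  let lK : K ⟶ pullback d (pullback.diagonal p) := pullback.lift m (m ≫ σ₁) (by
    apply pullback.hom_ext
    · rw [Category.assoc, Category.assoc, pullback.diagonal_fst, Category.comp_id, pullback.lift_fst]
    · rw [Category.assoc, Category.assoc, pullback.diagonal_snd, Category.comp_id, pullback.lift_snd, h])
  obtain ⟨k⟩ := ‹Nonempty K›
  have hsurj : Surjective incl := ⟨fun s => by
    have hc : IsClopen (Set.range incl) := ⟨incl.isClosedEmbedding.isClosed_range, incl.isOpenEmbedding.isOpen_range⟩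
    exact (hc.eq_univ ⟨_, ⟨lK k, rfl⟩⟩).ge (Set.mem_univ s)⟩
  have : IsIso incl := (isIso_iff_isOpenImmersion_and_surjective _).mpr ⟨inferInstance, hsurj⟩
  have e1 : incl ≫ σ₁ = pullback.snd d (pullback.diagonal p) := by
    have := congrArg (· ≫ pullback.fst p p) (pullback.condition (f := d) (g := pullback.diagonal p))
    simp only [Category.assoc, pullback.diagonal_fst, Category.comp_id, d, pullback.lift_fst] at this
    exact this
  have e2 : incl ≫ σ₂ = pullback.snd d (pullback.diagonal p) := by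
    have := congrArg (· ≫ pullback.snd p p) (pullback.condition (f := d) (g := pullback.diagonal p))
    simp only [Category.assoc, pullback.diagonal_snd, Category.comp_id, d, pullback.lift_snd] at this
    exact this
  rw [← cancel_epi incl, e1, e2]

/-- A morphism from a field through a point which is a rational point over its image. -/
theorem ext_of_rational {S X : Scheme.{u}} (p : X ⟶ S) {s : S} (τ : Spec (S.residueField s) ⟶ X)
    (hτ : τ ≫ p = S.fromSpecResidueField s) {L : Type u} [Field L] (h₁ h₂ : Spec (CommRingCat.of L) ⟶ X)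
    (e₁ : ∀ y y', h₁ y = τ y') (e₂ : ∀ y y', h₂ y = τ y') (e : h₁ ≫ p = h₂ ≫ p) : h₁ = h₂ := by
  obtain ⟨⟨l, ψ⟩, hψ⟩ := (Scheme.SpecToEquivOfField (S.residueField s) X).symm.surjective τ
  replace hψ : Spec.map ψ ≫ X.fromSpecResidueField l = τ := hψ
  have hτl : ∀ y', τ y' = l := fun y' => by
    rw [← hψ, Scheme.Hom.comp_apply]
    exact Scheme.fromSpecResidueField_apply _ _
  have hpl : p l = s := by
    obtain ⟨y'⟩ := (inferInstance : Nonempty (PrimeSpectrum (S.residueField s)))
    rw [← hτl y', ← Scheme.Hom.comp_apply, hτ]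
    exact Scheme.fromSpecResidueField_apply _ _
  let φ : S.residueField s ⟶ X.residueField l := (S.residueFieldCongr hpl).inv ≫ p.residueFieldMap l
  have hφψ : φ ≫ ψ = 𝟙 _ := by
    apply Spec.map_injective
    rw [Spec.map_id, ← cancel_mono (S.fromSpecResidueField s), Spec.map_comp, Category.assoc]
    have : Spec.map φ ≫ S.fromSpecResidueField s = X.fromSpecResidueField l ≫ p := by
      rw [← Scheme.Hom.SpecMap_residueFieldMap_fromSpecResidueField]
      simp only [φ, Spec.map_comp, Category.assoc]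
      congr 1
      subst hpl
      simp
    rw [this, ← Category.assoc, hψ, hτ]
    exact (Category.id_comp _).symm
  have hbij : Function.Bijective ψ.hom := ⟨RingHom.injective _, fun a => ⟨φ.hom a, congrArg (fun q => q.hom a) hφψ⟩⟩
  have : IsIso ψ := (ConcreteCategory.isIso_iff_bijective ψ).mpr hbij
  have key : ∀ h : Spec (CommRingCat.of L) ⟶ X, (∀ y, h y = l) → ∃ m, h = m ≫ τ := by
    intro h hh
    obtain ⟨⟨x, g⟩, rfl⟩ := (Scheme.SpecToEquivOfField L X).symm.surjective h
    have hx : x = l := by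
      rw [← hh (IsLocalRing.closedPoint L)]
      exact (Scheme.fromSpecResidueField_apply _ _).symm
    subst hx
    refine ⟨Spec.map g ≫ inv (Spec.map ψ), ?_⟩
    show Spec.map g ≫ X.fromSpecResidueField _ = _
    rw [← hψ, Category.assoc, IsIso.inv_hom_id_assoc]
  obtain ⟨y'⟩ := (inferInstance : Nonempty (PrimeSpectrum (S.residueField s)))
  obtain ⟨m₁, rfl⟩ := key h₁ fun y => (e₁ y y').trans (hτl y')
  obtain ⟨m₂, rfl⟩ := key h₂ fun y => (e₂ y y').trans (hτl y')
  rw [Category.assoc, Category.assoc, hτ, cancel_mono] at e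
  rw [e]

theorem main_statement {S : Scheme.{u}} [IrreducibleSpace S]
    (hS : ∀ s : S, CAlg2.IsGeomUnibranch (S.presheaf.stalk s))
    (X : Over S) (hX : TwC.IsTwConst TwC.Topology.etale X) :
    (∀ x : X.left, ∃! l : X.left, X.hom l = genericPoint S ∧ x ∈ closure ({l} : Set X.left)) ∧
    (∀ l : X.left, X.hom l = genericPoint S →
      ∃ U : X.left.Opens, (U : Set X.left) = closure ({l} : Set X.left) ∧ IsClosed (U : Set X.left) ∧
        IsFinite (U.ι ≫ X.hom) ∧ Etale (U.ι ≫ X.hom) ∧ Surjective (U.ι ≫ X.hom)) ∧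
    (∀ σ₁ σ₂ : S ⟶ X.left, σ₁ ≫ X.hom = 𝟙 S → σ₂ ≫ X.hom = 𝟙 S →
      S.fromSpecResidueField (genericPoint S) ≫ σ₁ = S.fromSpecResidueField (genericPoint S) ≫ σ₂ → σ₁ = σ₂) ∧
    (∀ τ : Spec (S.residueField (genericPoint S)) ⟶ X.left, τ ≫ X.hom = S.fromSpecResidueField (genericPoint S) →
      ∃ σ : S ⟶ X.left, σ ≫ X.hom = 𝟙 S ∧ S.fromSpecResidueField (genericPoint S) ≫ σ = τ) := by
  have := Groth.Agent.S19144.isSeparated_hom X hX
  have := Groth.Reductive2.TwConstFinite.etale_hom X hX
  obtain ⟨hc1, hc2⟩ := Groth.EtaleBaseTwo.components_of_etale_over_geomUnibranch X.hom hS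
  -- the component of a point over the generic point is its closure
  have hgen : ∀ (Z : Set X.left), Z ∈ irreducibleComponents X.left → ∀ l ∈ Z, X.hom l = genericPoint S →
      closure {l} = Z := by
    intro Z hZ l hl hlη
    obtain ⟨ζ, hζ⟩ := QuasiSober.sober hZ.1 (isClosed_of_mem_irreducibleComponents _ hZ)
    rw [Groth.EtaleBaseTwo.eq_genericPoint_of_fibre X.hom hZ hζ hl hlη]
    exact hζ.def
  have hB : ∀ l : X.left, X.hom l = genericPoint S →
      ∃ U : X.left.Opens, (U : Set X.left) = closure ({l} : Set X.left) ∧ IsClosed (U : Set X.left) ∧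
        IsFinite (U.ι ≫ X.hom) ∧ Etale (U.ι ≫ X.hom) ∧ Surjective (U.ι ≫ X.hom) := by
    intro l hl
    obtain ⟨Z, ⟨hZ, hlZ⟩, -⟩ := hc1 l
    have hZl := hgen Z hZ l hlZ hl
    let U : X.left.Opens := ⟨Z, (hc2 Z hZ).1⟩
    have hUc : IsClosed (U : Set X.left) := isClosed_of_mem_irreducibleComponents _ hZ
    have hfin : IsFinite (U.ι ≫ X.hom) := isFinite_clopen hS X hX U hUc l fun z hz hzη =>
      (hc2 Z hZ).2.unique ⟨hz, hzη⟩ ⟨hlZ, hl⟩
    refine ⟨U, hZl.symm, hUc, hfin, inferInstance, ⟨fun s => ?_⟩⟩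
    have hcl := (U.ι ≫ X.hom).isClosedMap.isClosed_range
    exact (genericPoint_specializes s).mem_closed hcl ⟨⟨l, hlZ⟩, hl⟩
  refine ⟨fun x => ?_, hB, fun σ₁ σ₂ h₁ h₂ h => ?_, fun τ hτ => ?_⟩
  · obtain ⟨Z, ⟨hZ, hxZ⟩, hu⟩ := hc1 x
    obtain ⟨l, ⟨hlZ, hl⟩, hlu⟩ := (hc2 Z hZ).2
    refine ⟨l, ⟨hl, by rw [hgen Z hZ l hlZ hl]; exact hxZ⟩, fun l' hl' => ?_⟩
    obtain ⟨hl'η, hl'x⟩ := hl'
    obtain ⟨Z', ⟨hZ', hlZ'⟩, -⟩ := hc1 l'
    rw [hgen Z' hZ' l' hlZ' hl'η] at hl'x
    obtain rfl := hu Z' ⟨hZ', hl'x⟩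
    exact hlu l' ⟨hlZ', hl'η⟩
  · exact section_ext X.hom (S.fromSpecResidueField (genericPoint S)) σ₁ σ₂ h₁ h₂ h
  · set l := τ (IsLocalRing.closedPoint (S.residueField (genericPoint S))) with hldef
    have hl : X.hom l = genericPoint S := by
      show (τ ≫ X.hom) _ = _
      rw [hτ]
      exact Scheme.fromSpecResidueField_apply _ _
    obtain ⟨U, hU, hUc, hfin, het, hsurj⟩ := hB l hl
    let π := U.ι ≫ X.hom
    have hlU : ∀ z : U.toScheme, π z = genericPoint S → U.ι z = l := by
      intro z hz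
      obtain ⟨Z, ⟨hZ, hlZ⟩, -⟩ := hc1 l
      refine (hc2 Z hZ).2.unique ⟨?_, hz⟩ ⟨hlZ, hl⟩
      rw [← hgen Z hZ l hlZ hl, ← hU]
      exact z.2
    have hdiag : Surjective (pullback.diagonal π) := ⟨fun q => by
      have hcl : IsClosed (Set.range (pullback.diagonal π)) := (pullback.diagonal π).isClosedEmbedding.isClosed_range
      obtain ⟨q', hq', hq'η⟩ := Flat.generalizingMap (pullback.fst π π ≫ π) (a := q) (genericPoint_specializes _)
      refine hq'.mem_closed hcl ?_
      let g := (pullback π π).fromSpecResidueField q'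
      have hgq : g (IsLocalRing.closedPoint ((pullback π π).residueField q')) = q' :=
        Scheme.fromSpecResidueField_apply _ _
      have e : g ≫ pullback.fst π π = g ≫ pullback.snd π π := by
        rw [← cancel_mono U.ι]
        have hg : ∀ y, g y = q' := fun y => Scheme.fromSpecResidueField_apply _ _
        have hτy : ∀ y', τ y' = l := fun y' => by
          rw [hldef]; congr 1; exact Subsingleton.elim (α := PrimeSpectrum (S.residueField (genericPoint S))) _ _
        refine ext_of_rational X.hom τ hτ (L := (pullback π π).residueField q') _ _ ?_ ?_ ?_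
        · intro y y'
          show U.ι (pullback.fst π π (g y)) = τ y'
          rw [hτy]
          refine hlU _ ?_
          rw [hg]
          exact hq'η
        · intro y y'
          show U.ι (pullback.snd π π (g y)) = τ y'
          rw [hτy]
          refine hlU _ ?_
          rw [hg]
          have := congrArg (fun m : pullback π π ⟶ S => m q') (pullback.condition (f := π) (g := π))
          exact this.symm.trans hq'η
        · show (g ≫ pullback.fst π π) ≫ π = (g ≫ pullback.snd π π) ≫ π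
          rw [Category.assoc, Category.assoc, pullback.condition]
      refine ⟨pullback.fst π π (g (IsLocalRing.closedPoint ((pullback π π).residueField q'))), ?_⟩
      have : (g ≫ pullback.fst π π) ≫ pullback.diagonal π = g := by
        apply pullback.hom_ext
        · rw [Category.assoc, Category.assoc, pullback.diagonal_fst, Category.comp_id]
        · rw [Category.assoc, Category.assoc, pullback.diagonal_snd, Category.comp_id, e]
      refine (congrArg (fun m : Spec ((pullback π π).residueField q') ⟶ pullback π π =>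
        m (IsLocalRing.closedPoint ((pullback π π).residueField q'))) this).trans ?_
      exact hgq⟩
    have : IsIso (pullback.diagonal π) := (isIso_iff_isOpenImmersion_and_surjective _).mpr ⟨inferInstance, hdiag⟩
    have : Mono π := (pullback.isIso_diagonal_iff π).mp inferInstance
    have : IsOpenImmersion π := IsOpenImmersion.of_flat_of_mono π
    have : IsIso π := (isIso_iff_isOpenImmersion_and_surjective _).mpr ⟨inferInstance, hsurj⟩
    have hr : Set.range τ ⊆ Set.range U.ι := by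
      rw [Scheme.Opens.range_ι, hU]
      rintro _ ⟨y, rfl⟩
      rw [Subsingleton.elim (α := PrimeSpectrum (S.residueField (genericPoint S))) y (IsLocalRing.closedPoint _)]
      exact subset_closure rfl
    let lt := IsOpenImmersion.lift U.ι τ hr
    have hlt : lt ≫ U.ι = τ := IsOpenImmersion.lift_fac _ _ _
    refine ⟨inv π ≫ U.ι, by rw [Category.assoc]; exact IsIso.inv_hom_id π, ?_⟩
    rw [← hτ, ← hlt]
    show ((lt ≫ U.ι) ≫ X.hom) ≫ inv π ≫ U.ι = lt ≫ U.ι
    simp only [Category.assoc]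
    rw [show U.ι ≫ X.hom ≫ inv π ≫ U.ι = (π ≫ inv π) ≫ U.ι by simp only [π, Category.assoc], IsIso.hom_inv_id, Category.id_comp]

end

/-- Let S be an irreducible scheme whose local rings are all geometrically unibranch, η its generic
point, and X a quasi-isotrivial twisted constant S-scheme (etale-locally on S isomorphic to a
constant scheme). Then X is the disjoint union, over the points λ of the generic fibre X_η, of the
closures X(λ) of λ: every point of X lies in the closure of exactly one such λ, each X(λ) is open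
and closed in X and, as an open subscheme, is a finite etale cover of S (finite, etale and
surjective); and restricting a section of X ⟶ S to the generic point is a bijection from the
sections of X over S onto the sections of X_η over η. -/
theorem result {S : Scheme.{u}} [IrreducibleSpace S]
    (hS : ∀ s : S, CAlg2.IsGeomUnibranch (S.presheaf.stalk s))
    (X : Over S) (hX : TwC.IsTwConst TwC.Topology.etale X) :
    (∀ x : X.left, ∃! l : X.left, X.hom.base l = genericPoint S ∧ x ∈ closure ({l} : Set X.left)) ∧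
    (∀ l : X.left, X.hom.base l = genericPoint S →
      ∃ U : X.left.Opens, (U : Set X.left) = closure ({l} : Set X.left) ∧ IsClosed (U : Set X.left) ∧
        IsFinite (U.ι ≫ X.hom) ∧ Etale (U.ι ≫ X.hom) ∧ Surjective (U.ι ≫ X.hom)) ∧
    (∀ σ₁ σ₂ : S ⟶ X.left, σ₁ ≫ X.hom = 𝟙 S → σ₂ ≫ X.hom = 𝟙 S →
      S.fromSpecResidueField (genericPoint S) ≫ σ₁ = S.fromSpecResidueField (genericPoint S) ≫ σ₂ → σ₁ = σ₂) ∧
    (∀ τ : Spec (S.residueField (genericPoint S)) ⟶ X.left, τ ≫ X.hom = S.fromSpecResidueField (genericPoint S) →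
      ∃ σ : S ⟶ X.left, σ ≫ X.hom = 𝟙 S ∧ S.fromSpecResidueField (genericPoint S) ≫ σ = τ) := by
  exact main_statement hS X hX

end Groth.Agent.S19145
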