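import Groth.Statements.S19146
import Mathlib
import Groth.Agent.S19144
import Groth.Agent.Hensel1.QFSplit
-- import your own Groth.Agent.* helpers here

set_option autoImplicit false
open CategoryTheory MonoidalCategory CartesianMonoidalCategory MonObj GrpObj AlgebraicGeometry
universe u
open TwC

namespace Groth.Agent.S19146

section
open CategoryTheory CategoryTheory.Limits AlgebraicGeometry TopologicalSpace

/-- Near a point over the closed point a separated étale scheme over a henselian local ring is finite. -/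
theorem exists_local_piece {R : Type u} [CommRing R] [HenselianLocalRing R] {X : Scheme.{u}}
    (p : X ⟶ Spec (CommRingCat.of R)) [Etale p] (x : X) (hx : p x = IsLocalRing.closedPoint R) :
    ∃ (C : Type u) (_ : CommRing C) (_ : IsLocalRing C) (_ : Algebra R C) (j : Spec (CommRingCat.of C) ⟶ X),
      Algebra.Etale R C ∧ Module.Finite R C ∧ IsOpenImmersion j ∧ j (IsLocalRing.closedPoint C) = x ∧
        j ≫ p = Spec.map (CommRingCat.ofHom (algebraMap R C)) := by
  obtain ⟨_, ⟨U, hU, rfl⟩, hxU, -⟩ := X.isBasis_affineOpens.exists_subset_of_mem_open (Set.mem_univ x) isOpen_univ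
  replace hU : IsAffineOpen U := hU
  let φ := Spec.preimage (hU.fromSpec ≫ p)
  have hφ : Spec.map φ = hU.fromSpec ≫ p := Spec.map_preimage _
  let _ : Algebra R Γ(X, U) := φ.hom.toAlgebra
  have : Algebra.Etale R Γ(X, U) := by
    have h : Etale (Spec.map φ) := by rw [hφ]; infer_instance
    exact (HasRingHomProperty.Spec_iff (P := @Etale)).mp h
  let z : Spec Γ(X, U) := hU.primeIdealOf ⟨x, hxU⟩
  have hzx : hU.fromSpec z = x := hU.fromSpec_primeIdealOf ⟨x, hxU⟩
  have hz : Spec.map φ z = IsLocalRing.closedPoint R := by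
    rw [hφ, Scheme.Hom.comp_apply, hzx, hx]
  have : z.asIdeal.LiesOver (IsLocalRing.maximalIdeal R) := ⟨(congrArg PrimeSpectrum.asIdeal hz).symm⟩
  obtain ⟨f, hfz, hf, hloc⟩ := Groth.Hensel1.exists_idempotent_of_quasiFiniteAt (R := R) z.asIdeal
  have hfin := hf.finite
  have hle : Ideal.span {1 - f} ≤ z.asIdeal := by
    rw [Ideal.span_le, Set.singleton_subset_iff]
    have : f * (1 - f) ∈ z.asIdeal := by rw [hf.1.mul_one_sub_self]; exact zero_mem _
    exact (z.2.mem_or_mem this).resolve_left hfz
  let C := Γ(X, U) ⧸ Ideal.span {1 - f}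
  have haway : IsLocalization.Away f C :=
    IsLocalization.away_of_isIdempotentElem hf.1 (Ideal.mk_ker (I := Ideal.span {1 - f})) Ideal.Quotient.mk_surjective
  have : Algebra.Etale Γ(X, U) C := Algebra.Etale.of_isLocalizationAway f
  have het : Algebra.Etale R C := Algebra.Etale.comp R Γ(X, U) C
  let jC : Spec (CommRingCat.of C) ⟶ Spec Γ(X, U) := Spec.map (CommRingCat.ofHom (algebraMap Γ(X, U) C))
  have hι : IsOpenImmersion jC := IsOpenImmersion.of_isLocalization f
  refine ⟨C, inferInstance, hloc, inferInstance, jC ≫ hU.fromSpec, het, hfin, inferInstance, ?_, ?_⟩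
  · show hU.fromSpec (jC _) = x
    have hmax : jC (IsLocalRing.closedPoint C) = z := by
      apply PrimeSpectrum.ext
      show (IsLocalRing.maximalIdeal C).comap (algebraMap Γ(X, U) C) = z.asIdeal
      have hzm : (z.asIdeal.map (Ideal.Quotient.mk (Ideal.span {1 - f}))).IsMaximal := by
        have hp : (z.asIdeal.map (Ideal.Quotient.mk (Ideal.span {1 - f}))).IsPrime :=
          Ideal.map_isPrime_of_surjective Ideal.Quotient.mk_surjective (by rwa [Ideal.mk_ker])
        have : Algebra.IsIntegral R C := Algebra.IsIntegral.of_finite R C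
        refine Ideal.isMaximal_of_isIntegral_of_isMaximal_comap (R := R) _ ?_
        have : (z.asIdeal.map (Ideal.Quotient.mk (Ideal.span {1 - f}))).comap (algebraMap R C) =
            IsLocalRing.maximalIdeal R := by
          rw [IsScalarTower.algebraMap_eq R Γ(X, U) C, ← Ideal.comap_comap, Ideal.Quotient.algebraMap_eq,
            Ideal.comap_map_of_surjective' _ Ideal.Quotient.mk_surjective, Ideal.mk_ker, sup_eq_left.mpr hle]
          exact (z.asIdeal.over_def (IsLocalRing.maximalIdeal R)).symm
        rw [this]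
        exact IsLocalRing.maximalIdeal.isMaximal R
      rw [← IsLocalRing.eq_maximalIdeal hzm, Ideal.Quotient.algebraMap_eq,
        Ideal.comap_map_of_surjective' _ Ideal.Quotient.mk_surjective, Ideal.mk_ker, sup_eq_left.mpr hle]
    rw [hmax, hzx]
  · rw [Category.assoc, ← hφ, ← Spec.map_comp]
    rfl

theorem factor_piece {X : Scheme.{u}} {C : Type u} [CommRing C] [IsLocalRing C]
    (j : Spec (CommRingCat.of C) ⟶ X) [IsOpenImmersion j] :
    ∃ e : Spec (X.presheaf.stalk (j (IsLocalRing.closedPoint C))) ⟶ Spec (CommRingCat.of C),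
      IsIso e ∧ e ≫ j = X.fromSpecStalk _ := by
  let m := Spec.map (Scheme.stalkClosedPointTo j)
  have hm : m ≫ X.fromSpecStalk _ = j := Scheme.Spec_stalkClosedPointTo_fromSpecStalk j
  have hr : Set.range (X.fromSpecStalk (j (IsLocalRing.closedPoint C))) ⊆ Set.range j := by
    rw [Scheme.range_fromSpecStalk]
    intro y hy
    exact hy.mem_open j.isOpenEmbedding.isOpen_range ⟨_, rfl⟩
  let l := IsOpenImmersion.lift j (X.fromSpecStalk _) hr
  have hl : l ≫ j = X.fromSpecStalk _ := IsOpenImmersion.lift_fac _ _ _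
  refine ⟨l, ⟨⟨m, ?_, ?_⟩⟩, hl⟩
  · rw [← cancel_mono (X.fromSpecStalk _), Category.assoc, hm, hl, Category.id_comp]
  · rw [← cancel_mono j, Category.assoc, hl, hm, Category.id_comp]

theorem existsUnique_section {R C : Type u} [CommRing R] [HenselianLocalRing R] [CommRing C] [Algebra R C]
    [Algebra.Etale R C] (τ : Spec (CommRingCat.of (IsLocalRing.ResidueField R)) ⟶ Spec (CommRingCat.of C))
    (hτ : τ ≫ Spec.map (CommRingCat.ofHom (algebraMap R C)) = Spec.map (CommRingCat.ofHom (IsLocalRing.residue R))) :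
    ∃! σ : Spec (CommRingCat.of R) ⟶ Spec (CommRingCat.of C),
      σ ≫ Spec.map (CommRingCat.ofHom (algebraMap R C)) = 𝟙 _ ∧
        Spec.map (CommRingCat.ofHom (IsLocalRing.residue R)) ≫ σ = τ := by
  have hτ' : CommRingCat.ofHom (algebraMap R C) ≫ Spec.preimage τ = CommRingCat.ofHom (IsLocalRing.residue R) := by
    apply Spec.map_injective
    rw [Spec.map_comp, Spec.map_preimage, hτ]
  let τ' : C →ₐ[R] IsLocalRing.ResidueField R :=
    { (Spec.preimage τ).hom with commutes' := fun r => congrArg (fun h => h.hom r) hτ' }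
  obtain ⟨g, hg, huniq⟩ := Groth.Hensel1.existsUnique_algHom_lift_residue τ'
  refine ⟨Spec.map (CommRingCat.ofHom g.toRingHom), ⟨?_, ?_⟩, ?_⟩
  · rw [← Spec.map_comp, ← Spec.map_id]
    congr 1
    exact CommRingCat.hom_ext (RingHom.ext fun r => g.commutes r)
  · rw [← Spec.map_comp, ← Spec.map_preimage τ]
    congr 1
    exact CommRingCat.hom_ext (RingHom.ext fun c => hg c)
  · rintro σ ⟨h1, h2⟩
    have h1' : CommRingCat.ofHom (algebraMap R C) ≫ Spec.preimage σ = 𝟙 _ := by
      apply Spec.map_injective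
      rw [Spec.map_comp, Spec.map_preimage, h1, Spec.map_id]
    have h2' : Spec.preimage σ ≫ CommRingCat.ofHom (IsLocalRing.residue R) = Spec.preimage τ := by
      apply Spec.map_injective
      rw [Spec.map_comp, Spec.map_preimage, Spec.map_preimage, h2]
    let s' : C →ₐ[R] R :=
      { (Spec.preimage σ).hom with commutes' := fun r => congrArg (fun h => h.hom r) h1' }
    have := huniq s' fun c => congrArg (fun h => h.hom c) h2'
    rw [← Spec.map_preimage σ, ← this]
    rfl

theorem apply_closedPoint_residue {R : Type u} [CommRing R] [IsLocalRing R] {X : Scheme.{u}}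
    (σ : Spec (CommRingCat.of R) ⟶ X) :
    σ (IsLocalRing.closedPoint R) =
      (Spec.map (CommRingCat.ofHom (IsLocalRing.residue R)) ≫ σ) (IsLocalRing.closedPoint (IsLocalRing.ResidueField R)) := by
  show _ = σ (Spec.map (CommRingCat.ofHom (IsLocalRing.residue R)) _)
  congr 1
  exact (IsLocalRing.comap_closedPoint (IsLocalRing.residue R)).symm

theorem main_statement (R : Type u) [CommRing R] [HenselianLocalRing R]
    (X : Over (Spec (CommRingCat.of R))) [Etale X.hom] [IsSeparated X.hom] (hex : ValuativeCriterion.Existence X.hom) :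
    (∀ x : X.left, X.hom x = IsLocalRing.closedPoint R →
      IsOpenImmersion (X.left.fromSpecStalk x) ∧ IsClosedImmersion (X.left.fromSpecStalk x) ∧
        IsFinite (X.left.fromSpecStalk x ≫ X.hom) ∧ Etale (X.left.fromSpecStalk x ≫ X.hom) ∧
        Surjective (X.left.fromSpecStalk x ≫ X.hom)) ∧
    (∀ y : X.left, ∃! x : X.left, X.hom x = IsLocalRing.closedPoint R ∧
      y ∈ Set.range (X.left.fromSpecStalk x)) ∧
    (∀ σ₁ σ₂ : Spec (CommRingCat.of R) ⟶ X.left, σ₁ ≫ X.hom = 𝟙 _ → σ₂ ≫ X.hom = 𝟙 _ →
      Spec.map (CommRingCat.ofHom (IsLocalRing.residue R)) ≫ σ₁ = Spec.map (CommRingCat.ofHom (IsLocalRing.residue R)) ≫ σ₂ → σ₁ = σ₂) ∧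
    (∀ τ : Spec (CommRingCat.of (IsLocalRing.ResidueField R)) ⟶ X.left,
      τ ≫ X.hom = Spec.map (CommRingCat.ofHom (IsLocalRing.residue R)) →
      ∃ σ : Spec (CommRingCat.of R) ⟶ X.left, σ ≫ X.hom = 𝟙 _ ∧ Spec.map (CommRingCat.ofHom (IsLocalRing.residue R)) ≫ σ = τ) := by
  have hA : ∀ x : X.left, X.hom x = IsLocalRing.closedPoint R →
      IsOpenImmersion (X.left.fromSpecStalk x) ∧ IsClosedImmersion (X.left.fromSpecStalk x) ∧
        IsFinite (X.left.fromSpecStalk x ≫ X.hom) ∧ Etale (X.left.fromSpecStalk x ≫ X.hom) ∧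
        Surjective (X.left.fromSpecStalk x ≫ X.hom) := by
    intro x hx
    obtain ⟨C, _, _, _, j, het, hfin, hj, rfl, hjp⟩ := exists_local_piece X.hom x hx
    obtain ⟨e, he, hej⟩ := factor_piece j
    have hf : IsFinite (j ≫ X.hom) := by
      rw [hjp, IsFinite.SpecMap_iff]
      exact RingHom.finite_algebraMap.mpr hfin
    have : IsProper j := IsProper.of_comp j X.hom
    have hcl : IsClosedImmersion j := IsClosedImmersion.of_isPreimmersion j j.isClosedMap.isClosed_range
    have het' : Etale (j ≫ X.hom) := inferInstance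
    rw [← hej, Category.assoc]
    refine ⟨inferInstance, inferInstance, inferInstance, inferInstance, ?_⟩
    have : Surjective (j ≫ X.hom) := ⟨fun s => by
      have ho := (j ≫ X.hom).isOpenMap.isOpen_range
      exact ((IsLocalRing.specializes_closedPoint s).mem_open ho ⟨IsLocalRing.closedPoint C, hx⟩)⟩
    infer_instance
  have hdiscr : ∀ x x' : X.left, X.hom x = IsLocalRing.closedPoint R → X.hom x' = IsLocalRing.closedPoint R →
      x' ⤳ x → x' = x := by
    intro x x' hx hx' h
    have := (X.hom.isDiscrete_preimage_singleton (IsLocalRing.closedPoint R)).to_subtype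
    have h' : (⟨x', hx'⟩ : X.hom ⁻¹' {IsLocalRing.closedPoint R}) ⤳ ⟨x, hx⟩ :=
      Topology.IsInducing.subtypeVal.specializes_iff.mp h
    exact congrArg Subtype.val h'.eq
  refine ⟨hA, fun y => ?_, fun σ₁ σ₂ h₁ h₂ hres => ?_, fun τ hτ => ?_⟩
  · obtain ⟨x, hyx, hx⟩ := ValuativeCriterion.Existence.specializingMap (f := X.hom) hex
      (IsLocalRing.specializes_closedPoint (X.hom y))
    refine ⟨x, ⟨hx, by rw [Scheme.range_fromSpecStalk]; exact hyx⟩, fun x' hx' => ?_⟩
    obtain ⟨hx', hy'⟩ := hx'
    have hcl : IsClosed (Set.range (X.left.fromSpecStalk x')) := by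
      have := (hA x' hx').2.1
      exact (X.left.fromSpecStalk x').isClosedEmbedding.isClosed_range
    have h1 : x ∈ Set.range (X.left.fromSpecStalk x') := hyx.mem_closed hcl hy'
    rw [Scheme.range_fromSpecStalk] at h1
    exact (hdiscr x' x hx' hx h1).symm
  · set x := σ₁ (IsLocalRing.closedPoint R) with hxdef
    have hx2 : σ₂ (IsLocalRing.closedPoint R) = x := by
      rw [hxdef, apply_closedPoint_residue σ₂, apply_closedPoint_residue σ₁, hres]
    have hx : X.hom x = IsLocalRing.closedPoint R := by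
      exact congrArg (fun m : Spec (CommRingCat.of R) ⟶ Spec (CommRingCat.of R) => m (IsLocalRing.closedPoint R)) h₁
    obtain ⟨C, _, _, _, j, het, hfin, hj, hjx, hjp⟩ := exists_local_piece X.hom x hx
    have hr : ∀ σ : Spec (CommRingCat.of R) ⟶ X.left, σ (IsLocalRing.closedPoint R) = x →
        Set.range σ ⊆ Set.range j := by
      rintro σ hσ _ ⟨s, rfl⟩
      exact ((IsLocalRing.specializes_closedPoint s).map σ.continuous).mem_open j.isOpenEmbedding.isOpen_range
        ⟨IsLocalRing.closedPoint C, hjx.trans hσ.symm⟩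
    let l₁ := IsOpenImmersion.lift j σ₁ (hr σ₁ rfl)
    let l₂ := IsOpenImmersion.lift j σ₂ (hr σ₂ hx2)
    have e₁ : l₁ ≫ j = σ₁ := IsOpenImmersion.lift_fac _ _ _
    have e₂ : l₂ ≫ j = σ₂ := IsOpenImmersion.lift_fac _ _ _
    obtain ⟨σ, -, hu⟩ := existsUnique_section (C := C) (Spec.map (CommRingCat.ofHom (IsLocalRing.residue R)) ≫ l₁)
      (by rw [Category.assoc, ← hjp, ← Category.assoc l₁, e₁, h₁, Category.comp_id])
    have hl : l₁ = l₂ := by
      rw [hu l₁ ⟨by rw [← hjp, ← Category.assoc, e₁, h₁], rfl⟩,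
        hu l₂ ⟨by rw [← hjp, ← Category.assoc, e₂, h₂],
          by rw [← cancel_mono j, Category.assoc, Category.assoc, e₁, e₂, hres]⟩]
    rw [← e₁, ← e₂, hl]
  · set x := τ (IsLocalRing.closedPoint (IsLocalRing.ResidueField R)) with hxdef
    have hx : X.hom x = IsLocalRing.closedPoint R := by
      exact (congrArg (fun m : Spec (CommRingCat.of (IsLocalRing.ResidueField R)) ⟶ Spec (CommRingCat.of R) =>
        m (IsLocalRing.closedPoint _)) hτ).trans (IsLocalRing.comap_closedPoint (IsLocalRing.residue R))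
    obtain ⟨C, _, _, _, j, het, hfin, hj, hjx, hjp⟩ := exists_local_piece X.hom x hx
    have hr : Set.range τ ⊆ Set.range j := by
      rintro _ ⟨s, rfl⟩
      rw [Subsingleton.elim (α := PrimeSpectrum (IsLocalRing.ResidueField R)) s (IsLocalRing.closedPoint _)]
      exact ⟨_, hjx⟩
    let l := IsOpenImmersion.lift j τ hr
    have e : l ≫ j = τ := IsOpenImmersion.lift_fac _ _ _
    obtain ⟨σ, ⟨hσ1, hσ2⟩, -⟩ := existsUnique_section (C := C) l (by rw [← hjp, ← Category.assoc, e, hτ])
    exact ⟨σ ≫ j, by rw [Category.assoc, hjp, hσ1], by rw [← Category.assoc, hσ2, e]⟩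

end

/-- Let R be a henselian local ring, s the closed point of S = Spec R, and X a quasi-isotrivial twisted
constant S-scheme (etale-locally on S isomorphic to a constant scheme). Then X is the disjoint
union, over the points x of the closed fibre X_s, of the local schemes X(x) = Spec O_{X,x}: for each
such x the canonical morphism Spec O_{X,x} ⟶ X is an open and closed immersion and X(x) is a finite
etale cover of S (finite, etale, surjective), every point of X lies in X(x) for exactly one x ∈ X_s,
and restricting a section of X ⟶ S to the closed point is a bijection from the sections of X over S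
onto the sections of X_s over s. -/
theorem result (R : Type u) [CommRing R] [HenselianLocalRing R]
    (X : Over (Spec (CommRingCat.of R))) (hX : TwC.IsTwConst TwC.Topology.etale X) :
    (∀ x : X.left, X.hom.base x = IsLocalRing.closedPoint R →
      IsOpenImmersion (X.left.fromSpecStalk x) ∧ IsClosedImmersion (X.left.fromSpecStalk x) ∧
        IsFinite (X.left.fromSpecStalk x ≫ X.hom) ∧ Etale (X.left.fromSpecStalk x ≫ X.hom) ∧
        Surjective (X.left.fromSpecStalk x ≫ X.hom)) ∧
    (∀ y : X.left, ∃! x : X.left, X.hom.base x = IsLocalRing.closedPoint R ∧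
      y ∈ Set.range (X.left.fromSpecStalk x).base) ∧
    (∀ σ₁ σ₂ : Spec (CommRingCat.of R) ⟶ X.left, σ₁ ≫ X.hom = 𝟙 _ → σ₂ ≫ X.hom = 𝟙 _ →
      Spec.map (CommRingCat.ofHom (IsLocalRing.residue R)) ≫ σ₁ = Spec.map (CommRingCat.ofHom (IsLocalRing.residue R)) ≫ σ₂ → σ₁ = σ₂) ∧
    (∀ τ : Spec (CommRingCat.of (IsLocalRing.ResidueField R)) ⟶ X.left,
      τ ≫ X.hom = Spec.map (CommRingCat.ofHom (IsLocalRing.residue R)) →
      ∃ σ : Spec (CommRingCat.of R) ⟶ X.left, σ ≫ X.hom = 𝟙 _ ∧ Spec.map (CommRingCat.ofHom (IsLocalRing.residue R)) ≫ σ = τ) := by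
  haveI := Groth.Agent.S19144.isSeparated_hom X hX
  haveI := Groth.Reductive2.TwConstFinite.etale_hom X hX
  exact main_statement R X (Groth.Agent.S19144.existence X hX)

end Groth.Agent.S19146
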