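import Groth.Statements.S19147
import Groth.Agent.Reductive.MonoTorus.ImageMT

set_option autoImplicit false
open CategoryTheory MonoidalCategory CartesianMonoidalCategory MonObj GrpObj AlgebraicGeometry
universe u
open SGA3x

namespace Groth.Agent.S19147

/-- Let Γ be a torsion-free commutative group, G an S-group separated and of finite presentation over S,
and f : D_S(Γ) ⟶ G a homomorphism. Then the image of f (the closed subgroup of G through which f
factors by a faithfully flat homomorphism) is a locally trivial subtorus of G: f = f' ≫ j with f'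
flat and surjective, j the inclusion of a closed subgroup scheme Q, and Q Zariski-locally on S
isomorphic as a group to D(ℤ^r) for some r (depending on the open). -/
theorem result {S : Scheme.{u}} (Γ : Type) [AddCommGroup Γ] [IsAddTorsionFree Γ]
    (G : Over S) [GrpObj G] [IsSeparated G.hom] [QuasiCompact G.hom] [LocallyOfFinitePresentation G.hom]
    (f : Red.DS S Γ ⟶ G) [IsMonHom f] :
    ∃ (Q : Over S) (_ : GrpObj Q) (j : Q ⟶ G) (_ : IsMonHom j) (f' : Red.DS S Γ ⟶ Q) (_ : IsMonHom f'),
      IsClosedImmersion j.left ∧ Flat f'.left ∧ Surjective f'.left ∧ f' ≫ j = f ∧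
      TwC.Locally S TwC.Topology.zariski (fun S' g => ∃ r : ℕ, Red.IsSplitTorusWith (Fin r → ℤ) (Red.bc g Q)) := by
  exact Groth.Reductive.MonoTorus.exists_image_torsionFree f

end Groth.Agent.S19147
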