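import Groth.Statements.S19148
import Groth.Agent.FiltModH.Basic

set_option autoImplicit false
open scoped TensorProduct
universe u v
open FiltMod

namespace Groth.Agent.S19148

/-- In affine form, let R be a commutative ring, M a finitely generated projective R-module (a finite
locally free sheaf on Spec R), F₁ and F₂ direct summands of M and k ≥ 1. Then the images of F₁^{⊗k}
and F₂^{⊗k} in the k-th tensor power M^{⊗k} are equal if and only if F₁ = F₂. (The source states
this for local direct factors of a finite locally free sheaf on a scheme; equality of subsheaves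
being local, this is the affine case with global direct summands, to which it reduces.) -/
theorem result {R : Type u} [CommRing R] {M : Type v} [AddCommGroup M] [Module R M]
    [Module.Finite R M] [Module.Projective R M] (F₁ F₂ : Submodule R M)
    (h₁ : ∃ C : Submodule R M, IsCompl F₁ C) (h₂ : ∃ C : Submodule R M, IsCompl F₂ C) (k : ℕ) (hk : 1 ≤ k) :
    LinearMap.range (PiTensorProduct.map (R := R) (fun _ : Fin k => F₁.subtype)) =
      LinearMap.range (PiTensorProduct.map (R := R) (fun _ : Fin k => F₂.subtype)) ↔ F₁ = F₂ := by
  refine ⟨fun h => ?_, fun h => by rw [h]⟩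
  have key : ∀ (A B : Submodule R M), (∃ C, IsCompl A C) → (∃ C, IsCompl B C) →
      LinearMap.range (PiTensorProduct.map (R := R) (fun _ : Fin k => A.subtype)) ≤
        LinearMap.range (PiTensorProduct.map (R := R) (fun _ : Fin k => B.subtype)) → A ≤ B := by
    rintro A B ⟨CA, hA⟩ ⟨CB, hB⟩ hAB v hv
    let qA : M →ₗ[R] A := Submodule.linearProjOfIsCompl A CA hA
    let qB : M →ₗ[R] CB := Submodule.linearProjOfIsCompl CB B hB.symm
    let w : M := (qB v : M)
    suffices hw : w = 0 by
      have h0 : qB v = 0 := Subtype.ext hw
      exact (Submodule.linearProjOfIsCompl_apply_eq_zero_iff hB.symm).1 h0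
    by_contra hw
    have hJ : LinearMap.ker (LinearMap.toSpanSingleton R M w) ≠ ⊤ := by
      intro e
      have : (1 : R) ∈ LinearMap.ker (LinearMap.toSpanSingleton R M w) := e ▸ trivial
      exact hw (by simpa using this)
    obtain ⟨m, hm, hJm⟩ := Ideal.exists_le_maximal _ hJ
    by_cases hall : ∀ φ : M →ₗ[R] R, ∀ u ∈ A, φ u ∈ m
    · haveI : Module.Finite R A := Module.Finite.of_surjective qA
        (fun x => ⟨x, Submodule.linearProjOfIsCompl_apply_left hA x⟩)
      have hle : (⊤ : Submodule R A) ≤ m • ⊤ := by
        intro x _
        have hx := Groth.FiltModH.mem_smul_top_of_forall_dual m (x : M) fun φ => hall φ x x.2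
        have := Submodule.mem_map_of_mem (f := qA) hx
        rw [Submodule.map_smul'', show qA (x : M) = x from Submodule.linearProjOfIsCompl_apply_left hA x] at this
        exact Submodule.smul_mono le_rfl le_top this
      obtain ⟨r, hr, hr0⟩ := Submodule.exists_sub_one_mem_and_smul_eq_zero_of_fg_of_le_smul m ⊤
        Module.Finite.fg_top hle
      have hrv : r • v = 0 := congrArg Subtype.val (hr0 ⟨v, hv⟩ trivial)
      have : r ∈ m := hJm (by
        show r • w = 0
        rw [show r • w = ((qB (r • v) : CB) : M) by simp [w], hrv, map_zero]; rfl)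
      exact hm.ne_top ((Ideal.eq_top_iff_one m).2 (by simpa using sub_mem this hr))
    · push Not at hall
      obtain ⟨φ, u, hu, hφu⟩ := hall
      refine hφu (hm.isPrime.mem_of_pow_mem (k - 1) (hJm ?_))
      show φ u ^ (k - 1) • w = 0
      have hz : ∀ ψ : M →ₗ[R] R, ψ (φ u ^ (k - 1) • w) ∈ (⊥ : Ideal R) := by
        intro ψ
        let j₀ : Fin k := ⟨0, hk⟩
        have := Groth.FiltModH.prod_apply_eq_zero (ι := Unit) (fun _ _ => B) (fun _ => A)
          (Function.update (fun _ => φ) j₀ (ψ ∘ₗ CB.subtype ∘ₗ qB))
          (fun _ => ⟨j₀, fun x hx => by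
            have h0 : qB x = 0 := (Submodule.linearProjOfIsCompl_apply_eq_zero_iff hB.symm).2 hx
            simp [h0]⟩)
          (le_trans hAB (le_iSup_of_le () le_rfl)) (Function.update (fun _ => u) j₀ v) (fun j => by
            rcases eq_or_ne j j₀ with rfl | hne
            · simpa using hv
            · simpa [hne] using hu)
        rw [← Finset.mul_prod_erase _ _ (Finset.mem_univ j₀),
          Finset.prod_congr rfl (g := fun _ => φ u) (fun j hj => by simp [(Finset.mem_erase.1 hj).1])] at this
        rw [Submodule.mem_bot, map_smul, smul_eq_mul]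
        simpa [w, mul_comm] using this
      simpa using Groth.FiltModH.mem_smul_top_of_forall_dual ⊥ _ hz
  exact le_antisymm (key _ _ h₁ h₂ h.le) (key _ _ h₂ h₁ h.ge)

end Groth.Agent.S19148
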