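import Groth.Statements.S1915
import Groth.Agent.CycInter.DvrPull

set_option autoImplicit false
universe u
open CategoryTheory AlgebraicGeometry
open CategoryTheory.Limits
open Cyc

namespace Groth.Agent.S1915

/-- Let f : X' → X be flat, locally of finite type, of relative dimension e, between schemes locally of
finite type over a discrete valuation ring R, with induced morphisms f_η, f_s of fibres. Then for
every r-cycle α on X_η, sp_{X'}(f_η^* α) = f_s^*(sp_X α) coefficientwise. Here sp is Cyc.spFun,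
fibres are Mathlib's Scheme.Hom.fiber with dimension functions given by transcendence degree, flat
pullback is Cyc.pullFun, and the maps of fibres are the base changes of f. -/
theorem result (R : Type u) [CommRing R] [IsDomain R] [IsDiscreteValuationRing R] (X' X : Scheme.{u}) (b : X ⟶ Spec (CommRingCat.of R)) [LocallyOfFiniteType b] (f : X' ⟶ X) [Flat f] [LocallyOfFiniteType f] (e : ℕ) (he : Cyc.HasRelDim f e) (δX'η : ↥((f ≫ b).fiber (genericPoint ↥(Spec (CommRingCat.of R)))) → ℤ) (δX's : ↥((f ≫ b).fiber (IsLocalRing.closedPoint R)) → ℤ) (δXη : ↥(b.fiber (genericPoint ↥(Spec (CommRingCat.of R)))) → ℤ) (δXs : ↥(b.fiber (IsLocalRing.closedPoint R)) → ℤ) (h1 : Cyc.DeltaCompat ((f ≫ b).fiberToSpecResidueField (genericPoint ↥(Spec (CommRingCat.of R)))) δX'η (fun _ => 0)) (h2 : Cyc.DeltaCompat ((f ≫ b).fiberToSpecResidueField (IsLocalRing.closedPoint R)) δX's (fun _ => 0)) (h3 : Cyc.DeltaCompat (b.fiberToSpecResidueField (genericPoint ↥(Spec (CommRingCat.of R)))) δXη (fun _ => 0)) (h4 : Cyc.DeltaCompat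 (b.fiberToSpecResidueField (IsLocalRing.closedPoint R)) δXs (fun _ => 0)) (r : ℤ) (α : AlgebraicCycle (b.fiber (genericPoint ↥(Spec (CommRingCat.of R)))) ℤ) (hα : α ∈ Cyc.Zk (b.fiber (genericPoint ↥(Spec (CommRingCat.of R)))) δXη r) : Cyc.spFun (f ≫ b) (genericPoint ↥(Spec (CommRingCat.of R))) (IsLocalRing.closedPoint R) δX'η δX's (r + e) (Cyc.pullFun (pullback.map (f ≫ b) ((Spec (CommRingCat.of R)).fromSpecResidueField (genericPoint ↥(Spec (CommRingCat.of R)))) b ((Spec (CommRingCat.of R)).fromSpecResidueField (genericPoint ↥(Spec (CommRingCat.of R)))) f (𝟙 _) (𝟙 _) (Category.comp_id _) ((Category.comp_id _).trans (Category.id_comp _).symm)) δX'η δXη e ⇑α) = Cyc.pullFun (pullback.map (f ≫ b) ((Spec (CommRingCat.of R)).fromSpecResidueField (IsLocalRing.closedPoint R)) b ((Spec (CommRingCat.of R)).fromSpecResidueField (IsLocalRing.closedPoint R)) f (𝟙 _) (𝟙 _) (Category.comp_id _) ((Category.comp_id _).trans (Category.id_comp _).symm)) δX's δXs e (Cyc.spFun b (genericPoint ↥(Spec (CommRingCat.of R)))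 (IsLocalRing.closedPoint R) δXη δXs r ⇑α) := by
  let fη : (f ≫ b).fiber (genericPoint ↥(Spec (CommRingCat.of R))) ⟶ b.fiber (genericPoint ↥(Spec (CommRingCat.of R))) :=
    pullback.map (f ≫ b) ((Spec (CommRingCat.of R)).fromSpecResidueField (genericPoint ↥(Spec (CommRingCat.of R)))) b ((Spec (CommRingCat.of R)).fromSpecResidueField (genericPoint ↥(Spec (CommRingCat.of R)))) f (𝟙 _) (𝟙 _) (Category.comp_id _) ((Category.comp_id _).trans (Category.id_comp _).symm)
  let fs : (f ≫ b).fiber (IsLocalRing.closedPoint R) ⟶ b.fiber (IsLocalRing.closedPoint R) :=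
    pullback.map (f ≫ b) ((Spec (CommRingCat.of R)).fromSpecResidueField (IsLocalRing.closedPoint R)) b ((Spec (CommRingCat.of R)).fromSpecResidueField (IsLocalRing.closedPoint R)) f (𝟙 _) (𝟙 _) (Category.comp_id _) ((Category.comp_id _).trans (Category.id_comp _).symm)
  exact Groth.CycInter.Dvr.spFun_pullFun b f e he h1 h2 h3 h4
    fη (pullback.lift_fst _ _ _) fs (pullback.lift_fst _ _ _) r α hα

end Groth.Agent.S1915
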