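import Groth.Statements.S19154
import Groth.Agent.FiltModH.Rank

set_option autoImplicit false
open scoped TensorProduct
universe u v w
open FiltMod

namespace Groth.Agent.S19154

/-- (1) ⇔ (4): in affine form, let Γ be a non-trivial totally ordered commutative group, R a commutative
ring, M a finitely generated projective R-module (a finite locally free sheaf on X = Spec R) and F a
non-increasing Γ-indexed family of submodules of M; write F^γ_+ for the sum of the F^η with η > γ
and Gr^γ = F^γ/F^γ_+. Then the following are equivalent: (1) there is a Γ-grading M = ⊕_γ G_γ by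
submodules (internal direct sum) with F^γ = Σ_{η ≥ γ} G_η for every γ; (4) every Gr^γ is finitely
generated projective over R and, for every prime p of R, dim_{κ(p)} (κ(p) ⊗ M) = Σ_γ dim_{κ(p)} Gr^γ
of the image filtration on κ(p) ⊗ M (whose γ-th term F_x^γ is the image of κ(p) ⊗ F^γ; dim Gr^γ is
written as dim F_x^γ − dim F_x^γ_+, and the sum has finitely many non-zero terms). (The source's
conditions (2), (3) are the Zariski- and fpqc-local forms of (1) on a general scheme; its further
assertions on F^γ ⊗ κ(x) are not stated.) -/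
theorem result
    {Γ : Type w} [AddCommGroup Γ] [LinearOrder Γ] [IsOrderedAddMonoid Γ] [Nontrivial Γ]
    {R : Type u} [CommRing R] {M : Type v} [AddCommGroup M] [Module R M] [Module.Finite R M] [Module.Projective R M]
    (F : Γ → Submodule R M) (hF : Antitone F)
    (Fp : Γ → Submodule R M) (hFp : ∀ γ, Fp γ = ⨆ η ∈ Set.Ioi γ, F η) :
    (∃ G : Γ → Submodule R M, DirectSum.IsInternal G ∧ ∀ γ, F γ = ⨆ η ∈ Set.Ici γ, G η) ↔
    ((∀ γ, Module.Finite R (↥(F γ) ⧸ Submodule.comap (F γ).subtype (Fp γ)) ∧
        Module.Projective R (↥(F γ) ⧸ Submodule.comap (F γ).subtype (Fp γ))) ∧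
      ∀ (p : PrimeSpectrum R) (Fx : Γ → Submodule p.asIdeal.ResidueField (p.asIdeal.ResidueField ⊗[R] M)),
        (∀ γ, Fx γ = LinearMap.range ((F γ).subtype.baseChange p.asIdeal.ResidueField)) →
        Module.finrank p.asIdeal.ResidueField (p.asIdeal.ResidueField ⊗[R] M) =
          ∑ᶠ γ, (Module.finrank p.asIdeal.ResidueField ↥(Fx γ) -
            Module.finrank p.asIdeal.ResidueField ↥(⨆ η ∈ Set.Ioi γ, Fx η))) := by
  classical
  have hFx : ∀ (p : PrimeSpectrum R) (γ : Γ),
      ⨆ η ∈ Set.Ioi γ, (F η).baseChange p.asIdeal.ResidueField = (Fp γ).baseChange p.asIdeal.ResidueField := by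
    intro p γ
    rw [hFp]
    simp only [Groth.FiltModH.baseChange_iSup]
  constructor
  · rintro ⟨G, hG, hFG⟩
    obtain ⟨π, hm, h₁, h₀⟩ := Groth.FiltModH.exists_proj hG
    have hFpG : ∀ γ, Fp γ = ⨆ η ∈ Set.Ioi γ, G η := by
      intro γ
      rw [hFp]
      refine le_antisymm (iSup₂_le fun η hη => ?_) (iSup₂_le fun η hη => le_iSup₂_of_le η hη ?_)
      · rw [hFG]
        exact iSup₂_le fun ζ hζ => le_iSup₂_of_le ζ (lt_of_lt_of_le hη hζ) le_rfl
      · rw [hFG]
        exact le_iSup₂_of_le η Set.self_mem_Ici le_rfl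
    refine ⟨fun γ => ?_, fun p Fx hdef => ?_⟩
    · let f : F γ →ₗ[R] G γ := ((π γ).codRestrict (G γ) (hm γ)) ∘ₗ (F γ).subtype
      have hker : LinearMap.ker f = Submodule.comap (F γ).subtype (Fp γ) := by
        ext ⟨x, hx⟩
        rw [LinearMap.mem_ker, Submodule.mem_comap, Submodule.subtype_apply, hFpG,
          Groth.FiltModH.proj_mem_iff hG hm h₁ h₀, ← Subtype.coe_inj]
        show π γ x = 0 ↔ ∀ η ∉ Set.Ioi γ, π η x = 0
        refine ⟨fun h0 η hη => ?_, fun h => h γ (lt_irrefl _)⟩
        rcases (not_lt.1 hη).lt_or_eq with hlt | rfl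
        · exact (Groth.FiltModH.proj_mem_iff hG hm h₁ h₀ (Set.Ici γ) x).1 (hFG γ ▸ hx) η (not_le.2 hlt)
        · exact h0
      have hsurj : Function.Surjective f := fun y =>
        ⟨⟨y, hFG γ ▸ Submodule.mem_iSup_of_mem γ (Submodule.mem_iSup_of_mem Set.self_mem_Ici y.2)⟩,
          Subtype.ext (h₁ γ y y.2)⟩
      let e : (↥(F γ) ⧸ Submodule.comap (F γ).subtype (Fp γ)) ≃ₗ[R] G γ :=
        (Submodule.quotEquivOfEq _ _ hker.symm).trans (f.quotKerEquivOfSurjective hsurj)
      have : Module.Finite R (G γ) := Module.Finite.of_surjective ((π γ).codRestrict (G γ) (hm γ))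
        (fun y => ⟨y, Subtype.ext (h₁ γ y y.2)⟩)
      have : Module.Projective R (G γ) := Module.Projective.of_split (G γ).subtype ((π γ).codRestrict (G γ) (hm γ))
        (LinearMap.ext fun y => Subtype.ext (h₁ γ y y.2))
      exact ⟨Module.Finite.equiv e.symm, Module.Projective.of_equiv e.symm⟩
    · obtain rfl : Fx = fun γ => (F γ).baseChange p.asIdeal.ResidueField := funext hdef
      refine (Groth.FiltModH.finrank_eq_finsum p.asIdeal.ResidueField hG F hFG Fp hFpG).trans
        (finsum_congr fun γ => ?_)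
      rw [hFx p γ]
  · rintro ⟨hgr, hrank⟩
    refine Groth.FiltModH.exists_splitting_of_finrank F hF Fp hFp (fun γ => (hgr γ).2) fun p => ?_
    have := hrank p (fun γ => (F γ).baseChange p.asIdeal.ResidueField) (fun γ => rfl)
    refine this.trans (finsum_congr fun γ => ?_)
    rw [hFx p γ]

end Groth.Agent.S19154
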