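import Groth.Statements.S19156
import Groth.Agent.RootData.Domain

set_option autoImplicit false
open RootPairing
open RootD

namespace Groth.Agent.S19156

/-- Let P be a root datum (root pairing over ℤ with finitely many roots indexed by ι), S a system of
positive roots, Γ a non-trivial totally ordered commutative group and f : M → Γ additive. Then f is
dominant (non-negative on the positive roots) if and only if, for every w in the Weyl group, f − f ∘
w is a combination m ↦ Σ_{α ∈ S} ⟨m, α∨⟩ c_α of the positive coroots with coefficients c_α ≥ 0 in Γ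
(f ∘ w is strongly dominated by f); and f is dominant if and only if f(w m) ≤ f(m) for every w ∈ W
and every dominant weight m (weak dominance). -/
theorem result {ι M N : Type*} [AddCommGroup M] [AddCommGroup N]
    (P : RootPairing ι ℤ M N) [Fintype ι] (S : Set ι) (hS : RootD.IsPosSys P S)
    {Γ : Type*} [AddCommGroup Γ] [LinearOrder Γ] [IsOrderedAddMonoid Γ] [Nontrivial Γ] (f : M →+ Γ) :
    ((∀ i ∈ S, 0 ≤ f (P.root i)) ↔
      ∀ g : P.Aut, g ∈ P.weylGroup → ∃ c : ι → Γ, (∀ i, 0 ≤ c i) ∧ (∀ i, i ∉ S → c i = 0) ∧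
        ∀ m : M, f m - f (RootPairing.Equiv.weightHom P g m) = ∑ i, (P.coroot' i m) • c i) ∧
    ((∀ i ∈ S, 0 ≤ f (P.root i)) ↔
      ∀ g : P.Aut, g ∈ P.weylGroup → ∀ m : M, (∀ i ∈ S, 0 ≤ P.coroot' i m) →
        f (RootPairing.Equiv.weightHom P g m) ≤ f m) := by
  constructor
  · refine ⟨fun h g hg ↦ Groth.RootData.dominant_sub_eq hS f h hg, fun h i hi ↦ ?_⟩
    refine Groth.RootData.dominant_of_test hS f (fun g hg m hm ↦ ?_) hi
    obtain ⟨c, hc0, hc1, hc⟩ := h g hg
    have e := hc m
    rw [Groth.RootData.weightHom_eq_smul] at e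
    rw [← sub_nonneg, e]
    refine Finset.sum_nonneg fun j _ ↦ ?_
    by_cases hj : j ∈ S
    · exact zsmul_nonneg (hc0 j) (hm j hj)
    · simp [hc1 j hj]
  · exact ⟨fun h g hg m hm ↦ Groth.RootData.dominant_weyl_le hS f h hg hm,
      fun h i hi ↦ Groth.RootData.dominant_of_test hS f h hi⟩

end Groth.Agent.S19156
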