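import Groth.Statements.S19157
import Groth.Agent.FiltModH.Basic

set_option autoImplicit false
open scoped TensorProduct
universe u v w
open FiltMod

namespace Groth.Agent.S19157

/-- In affine form, let Γ be a non-trivial totally ordered commutative group, R a commutative ring, M a
finitely generated projective R-module, k ≥ 1, and F₁, F₂ two Γ-filtrations of M each admitting a
splitting (a grading M = ⊕_γ G_γ by submodules with F^γ = Σ_{η ≥ γ} G_η). If the filtrations they
induce on the k-th tensor power M^{⊗k} coincide, i.e. for every γ the sum over γ₁ + ⋯ + γ_k = γ of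
the images of F₁^{γ₁} ⊗ ⋯ ⊗ F₁^{γ_k} in M^{⊗k} equals the corresponding sum for F₂, then F₁ = F₂.
(The source states this for Γ-filtrations of a finite locally free sheaf on a scheme, which split
Zariski-locally; this is the affine split case to which it reduces.) -/
theorem result
    {Γ : Type w} [AddCommGroup Γ] [LinearOrder Γ] [IsOrderedAddMonoid Γ] [Nontrivial Γ]
    {R : Type u} [CommRing R] {M : Type v} [AddCommGroup M] [Module R M] [Module.Finite R M] [Module.Projective R M]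
    (F₁ F₂ : Γ → Submodule R M)
    (h₁ : ∃ G : Γ → Submodule R M, DirectSum.IsInternal G ∧ ∀ γ, F₁ γ = ⨆ η ∈ Set.Ici γ, G η)
    (h₂ : ∃ G : Γ → Submodule R M, DirectSum.IsInternal G ∧ ∀ γ, F₂ γ = ⨆ η ∈ Set.Ici γ, G η)
    (k : ℕ) (hk : 1 ≤ k)
    (h : ∀ γ : Γ,
      (⨆ c : {c : Fin k → Γ // ∑ i, c i = γ}, LinearMap.range (PiTensorProduct.map (R := R) (fun i => (F₁ (c.1 i)).subtype))) =
      (⨆ c : {c : Fin k → Γ // ∑ i, c i = γ}, LinearMap.range (PiTensorProduct.map (R := R) (fun i => (F₂ (c.1 i)).subtype)))) :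
    F₁ = F₂ := by
  classical
  let j₀ : Fin k := ⟨0, hk⟩
  have key : ∀ (A B : Γ → Submodule R M),
      (∃ G : Γ → Submodule R M, DirectSum.IsInternal G ∧ ∀ γ, A γ = ⨆ η ∈ Set.Ici γ, G η) →
      (∃ G : Γ → Submodule R M, DirectSum.IsInternal G ∧ ∀ γ, B γ = ⨆ η ∈ Set.Ici γ, G η) →
      (∀ γ : Γ,
        (⨆ c : {c : Fin k → Γ // ∑ i, c i = γ}, LinearMap.range (PiTensorProduct.map (R := R) (fun i => (A (c.1 i)).subtype))) =
        (⨆ c : {c : Fin k → Γ // ∑ i, c i = γ}, LinearMap.range (PiTensorProduct.map (R := R) (fun i => (B (c.1 i)).subtype)))) →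
      ∀ γ, A γ ≤ B γ := by
    rintro A B ⟨G₁, hG₁, hA⟩ ⟨G₂, hG₂, hB⟩ hAB γ v hv
    obtain ⟨π₁, hm₁, e₁, z₁⟩ := Groth.FiltModH.exists_proj hG₁
    obtain ⟨π₂, hm₂, e₂, z₂⟩ := Groth.FiltModH.exists_proj hG₂
    obtain ⟨S₁, hS₁⟩ := Groth.FiltModH.exists_finset hG₁ e₁ z₁
    obtain ⟨S₂, hS₂⟩ := Groth.FiltModH.exists_finset hG₂ e₂ z₂
    rw [hB, Groth.FiltModH.proj_mem_iff hG₂ hm₂ e₂ z₂]
    intro η hη
    have hηγ : η < γ := not_le.1 hη
    by_contra hw
    have hJ : LinearMap.ker (LinearMap.toSpanSingleton R M (π₂ η v)) ≠ ⊤ := by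
      intro e
      have : (1 : R) ∈ LinearMap.ker (LinearMap.toSpanSingleton R M (π₂ η v)) := e ▸ trivial
      exact hw (by simpa using this)
    obtain ⟨m, hm, hJm⟩ := Ideal.exists_le_maximal _ hJ
    let mM : Submodule R M := m • ⊤
    have hne : ¬ (⊤ : Submodule R M) ≤ mM := by
      intro hle
      obtain ⟨r, hr, hr0⟩ := Submodule.exists_sub_one_mem_and_smul_eq_zero_of_fg_of_le_smul m ⊤
        Module.Finite.fg_top hle
      have : r ∈ m := hJm (hr0 _ trivial)
      exact hm.ne_top ((Ideal.eq_top_iff_one m).2 (by simpa using sub_mem this hr))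
    -- highest degree not killed modulo `m`
    have htop : ∀ (G : Γ → Submodule R M) (π : Γ → M →ₗ[R] M) (S : Finset Γ), (∀ δ x, π δ x ∈ G δ) →
        (∀ δ, ∀ x ∈ G δ, π δ x = x) → (∀ δ ε, δ ≠ ε → ∀ x ∈ G ε, π δ x = 0) → (∀ x, ∑ δ ∈ S, π δ x = x) →
        ∃ a, (∃ u ∈ G a, u ∉ mM) ∧ ∀ δ, a < δ → G δ ≤ mM := by
      intro G π S hm' he hz hS
      have hD : (S.filter fun δ => ¬ G δ ≤ mM).Nonempty := by
        by_contra hD
        rw [Finset.not_nonempty_iff_eq_empty, Finset.filter_eq_empty_iff] at hD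
        exact hne fun x _ => hS x ▸ Submodule.sum_mem _ fun δ hδ => not_not.1 (hD hδ) (hm' δ x)
      refine ⟨_, SetLike.not_le_iff_exists.1 (Finset.mem_filter.1 (Finset.max'_mem _ hD)).2, fun δ hδ x hx => ?_⟩
      by_cases hδS : δ ∈ S
      · by_contra hx'
        exact not_le.2 hδ (Finset.le_max' _ δ (Finset.mem_filter.2 ⟨hδS, fun hle => hx' (hle hx)⟩))
      · have : x = 0 := by
          rw [← hS x]
          exact Finset.sum_eq_zero fun ε hε => hz ε δ (fun e => hδS (e ▸ hε)) x hx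
        rw [this]; exact zero_mem _
    have hvan : ∀ (G : Γ → Submodule R M) (π : Γ → M →ₗ[R] M), (∀ δ ε, δ ≠ ε → ∀ x ∈ G ε, π δ x = 0) →
        ∀ (δ ε : Γ), δ < ε → ∀ x ∈ (⨆ η ∈ Set.Ici ε, G η), π δ x = 0 := by
      intro G π hz δ ε hlt x hx
      exact (iSup₂_le fun ζ hζ y hy => hz δ ζ (ne_of_lt (lt_of_lt_of_le hlt hζ)) y hy :
        (⨆ η ∈ Set.Ici ε, G η) ≤ LinearMap.ker (π δ)) hx
    -- lower degree components of a filtered vector are in `mM`
    have hlow : ∀ (A' B' G' : Γ → Submodule R M) (π' : Γ → M →ₗ[R] M),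
        (∀ δ ε, δ ≠ ε → ∀ x ∈ G' ε, π' δ x = 0) → (∀ δ, B' δ = ⨆ η ∈ Set.Ici δ, G' η) →
        (∀ γ : Γ,
          (⨆ c : {c : Fin k → Γ // ∑ i, c i = γ}, LinearMap.range (PiTensorProduct.map (R := R) (fun i => (A' (c.1 i)).subtype))) =
          (⨆ c : {c : Fin k → Γ // ∑ i, c i = γ}, LinearMap.range (PiTensorProduct.map (R := R) (fun i => (B' (c.1 i)).subtype)))) →
        ∀ a, ∀ u ∈ A' a, ∀ δ < a, π' δ u ∈ mM := by
      intro A' B' G' π' hz hB' hA'B' a u hu δ hδ
      refine Groth.FiltModH.mem_smul_top_of_forall_dual m _ fun φ => hm.isPrime.mem_of_pow_mem k ?_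
      have := Groth.FiltModH.prod_apply_eq_zero
        (fun c : {c : Fin k → Γ // ∑ i, c i = ∑ _i : Fin k, a} => fun j => B' (c.1 j)) (fun _ => A' a)
        (fun _ => φ ∘ₗ π' δ) (fun c => by
          obtain ⟨j, hj⟩ : ∃ j, a ≤ c.1 j := by
            by_contra hc
            push Not at hc
            exact (Finset.sum_lt_sum_of_nonempty ⟨j₀, Finset.mem_univ _⟩ fun j _ => hc j).ne c.2
          refine ⟨j, fun x hx => ?_⟩
          rw [hB'] at hx
          rw [LinearMap.comp_apply, hvan G' π' hz δ _ (lt_of_lt_of_le hδ hj) x hx, map_zero])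
        (le_trans (le_iSup (fun c : {c : Fin k → Γ // ∑ i, c i = ∑ _i : Fin k, a} =>
          LinearMap.range (PiTensorProduct.map (R := R) (fun i => (A' (c.1 i)).subtype))) ⟨fun _ => a, rfl⟩) (hA'B' _).le)
        (fun _ => u) (fun _ => hu)
      simp only [Finset.prod_const, Finset.card_univ, Fintype.card_fin, LinearMap.comp_apply] at this
      rw [this]; exact zero_mem _
    have hmem : ∀ (F G : Γ → Submodule R M), (∀ δ, F δ = ⨆ η ∈ Set.Ici δ, G η) → ∀ a, G a ≤ F a :=
      fun F G hF a => hF a ▸ fun x hx => Submodule.mem_iSup_of_mem a (Submodule.mem_iSup_of_mem Set.self_mem_Ici hx)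
    obtain ⟨a, ⟨u, huG, hum⟩, ha⟩ := htop G₁ π₁ S₁ hm₁ e₁ z₁ hS₁
    obtain ⟨b, ⟨u', huG', hum'⟩, hb⟩ := htop G₂ π₂ S₂ hm₂ e₂ z₂ hS₂
    have h12 := hlow A B G₂ π₂ z₂ hB hAB a u (hmem A G₁ hA a huG)
    have h21 := hlow B A G₁ π₁ z₁ hA (fun γ => (hAB γ).symm) b u' (hmem B G₂ hB b huG')
    have hab : a = b := by
      rcases lt_trichotomy a b with hlt | heq | hgt
      · refine absurd ?_ hum'
        rw [← hS₁ u']
        exact Submodule.sum_mem _ fun δ _ => (lt_or_ge δ b).elim (h21 δ)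
          (fun hle => ha δ (lt_of_lt_of_le hlt hle) (hm₁ δ _))
      · exact heq
      · refine absurd ?_ hum
        rw [← hS₂ u]
        exact Submodule.sum_mem _ fun δ _ => (lt_or_ge δ a).elim (h12 δ)
          (fun hle => hb δ (lt_of_lt_of_le hgt hle) (hm₂ δ _))
    have hua : π₂ a u ∉ mM := by
      intro hin
      refine hum ?_
      rw [← hS₂ u]
      refine Submodule.sum_mem _ fun δ _ => ?_
      rcases lt_trichotomy δ a with hlt | heq | hgt
      · exact h12 δ hlt
      · exact heq ▸ hin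
      · exact hb δ (hab ▸ hgt) (hm₂ δ _)
    obtain ⟨φ, hφ⟩ : ∃ φ : M →ₗ[R] R, φ (π₂ a u) ∉ m := by
      by_contra hc
      push Not at hc
      exact hua (Groth.FiltModH.mem_smul_top_of_forall_dual m _ hc)
    refine hφ (hm.isPrime.mem_of_pow_mem (k - 1) (hJm ?_))
    show φ (π₂ a u) ^ (k - 1) • π₂ η v = 0
    have hz : ∀ ψ : M →ₗ[R] R, ψ (φ (π₂ a u) ^ (k - 1) • π₂ η v) ∈ (⊥ : Ideal R) := by
      intro ψ
      let c₀ : Fin k → Γ := Function.update (fun _ => a) j₀ γ
      have := Groth.FiltModH.prod_apply_eq_zero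
        (fun c : {c : Fin k → Γ // ∑ i, c i = ∑ i, c₀ i} => fun j => B (c.1 j)) (fun j => A (c₀ j))
        (Function.update (fun _ => φ ∘ₗ π₂ a) j₀ (ψ ∘ₗ π₂ η)) (fun c => by
          by_cases hc : η < c.1 j₀
          · refine ⟨j₀, fun x hx => ?_⟩
            rw [hB] at hx
            rw [Function.update_self, LinearMap.comp_apply, hvan G₂ π₂ z₂ η _ hc x hx, map_zero]
          · obtain ⟨j, hj, hja⟩ : ∃ j, j ≠ j₀ ∧ a < c.1 j := by
              by_contra hc'
              push Not at hc'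
              refine (Finset.sum_lt_sum (f := c.1) (g := c₀) (s := Finset.univ) (fun j _ => ?_)
                ⟨j₀, Finset.mem_univ _, ?_⟩).ne c.2
              · rcases eq_or_ne j j₀ with rfl | hne'
                · simpa [c₀] using (not_lt.1 hc).trans hηγ.le
                · simpa [c₀, hne'] using hc' j hne'
              · simpa [c₀] using lt_of_le_of_lt (not_lt.1 hc) hηγ
            refine ⟨j, fun x hx => ?_⟩
            rw [hB] at hx
            rw [Function.update_of_ne hj, LinearMap.comp_apply, hvan G₂ π₂ z₂ a _ hja x hx, map_zero])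
        (le_trans (le_iSup (fun c : {c : Fin k → Γ // ∑ i, c i = ∑ i, c₀ i} =>
          LinearMap.range (PiTensorProduct.map (R := R) (fun i => (A (c.1 i)).subtype))) ⟨c₀, rfl⟩) (hAB _).le)
        (Function.update (fun _ => u) j₀ v) (fun j => by
          rcases eq_or_ne j j₀ with rfl | hne'
          · simpa [c₀] using hv
          · simpa [c₀, hne'] using hmem A G₁ hA a huG)
      rw [← Finset.mul_prod_erase _ _ (Finset.mem_univ j₀),
        Finset.prod_congr rfl (g := fun _ => φ (π₂ a u)) (fun j hj => by simp [(Finset.mem_erase.1 hj).1])] at this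
      rw [Submodule.mem_bot, map_smul, smul_eq_mul]
      simpa [mul_comm] using this
    simpa using Groth.FiltModH.mem_smul_top_of_forall_dual ⊥ _ hz
  exact funext fun γ => le_antisymm (key _ _ h₁ h₂ h γ) (key _ _ h₂ h₁ (fun γ => (h γ).symm) γ)

end Groth.Agent.S19157
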