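import Groth.Statements.S19158
import Groth.Agent.FiltModH.Basic

set_option autoImplicit false
universe u v w
open FiltMod

namespace Groth.Agent.S19158

/-- In affine form, let Γ be a non-trivial totally ordered commutative group, R a commutative ring and
(M_a) a finite family of finitely generated projective R-modules, each carrying a non-increasing
Γ-indexed family of submodules F_a; give M = Π_a M_a the family F^γ = Π_a F_a^γ. Then F is split by
a Γ-grading of M (an internal direct sum decomposition M = ⊕_γ G_γ with F^γ = Σ_{η ≥ γ} G_η for all
γ) if and only if each F_a is split by a Γ-grading of M_a. (The published statement is for finite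
locally free sheaves on a scheme, where a filtration counts as split when it is split by a grading
locally on the scheme; this row is the affine case, in which that is the same as being split by one
global grading.) -/
theorem result
    {Γ : Type w} [AddCommGroup Γ] [LinearOrder Γ] [IsOrderedAddMonoid Γ] [Nontrivial Γ]
    {R : Type u} [CommRing R] {A : Type v} [Fintype A] (M : A → Type v) [∀ a, AddCommGroup (M a)] [∀ a, Module R (M a)]
    [∀ a, Module.Finite R (M a)] [∀ a, Module.Projective R (M a)]
    (F : ∀ a, Γ → Submodule R (M a)) (hF : ∀ a, Antitone (F a)) :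
    (∃ G : Γ → Submodule R (∀ a, M a), DirectSum.IsInternal G ∧
        ∀ γ, Submodule.pi Set.univ (fun a => F a γ) = ⨆ η ∈ Set.Ici γ, G η) ↔
    ∀ a, ∃ G : Γ → Submodule R (M a), DirectSum.IsInternal G ∧ ∀ γ, F a γ = ⨆ η ∈ Set.Ici γ, G η := by
  classical
  constructor
  · rintro ⟨G, hG, hFG⟩ a
    exact Groth.FiltModH.exists_splitting_of_retract hG (fun γ => Submodule.pi Set.univ (fun b => F b γ)) hFG
      (F a) (hF a) (LinearMap.single R M a) (LinearMap.proj a) (fun x => by simp)
      (fun γ x hx b _ => by
        rcases eq_or_ne b a with rfl | hne
        · simpa using hx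
        · simp [hne])
      (fun γ y hy => hy a trivial)
  · intro h
    choose G hG hFG using h
    have key : ∀ (P : Set Γ) (x : ∀ a, M a), (∀ a, x a ∈ ⨆ η ∈ P, G a η) →
        x ∈ ⨆ η ∈ P, Submodule.pi Set.univ (fun a => G a η) := by
      intro P x hx
      rw [← Finset.univ_sum_single x]
      refine Submodule.sum_mem _ fun a _ => ?_
      have : (⨆ η ∈ P, G a η).map (LinearMap.single R M a) ≤ ⨆ η ∈ P, Submodule.pi Set.univ (fun b => G b η) := by
        simp only [Submodule.map_iSup]
        refine iSup₂_mono fun η _ => ?_
        rintro _ ⟨y, hy, rfl⟩ b _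
        rcases eq_or_ne b a with rfl | hne
        · simpa using hy
        · simp [hne]
      exact this ⟨x a, hx a, rfl⟩
    refine ⟨fun γ => Submodule.pi Set.univ (fun a => G a γ), ?_, fun γ => le_antisymm ?_ ?_⟩
    · rw [DirectSum.isInternal_submodule_iff_iSupIndep_and_iSup_eq_top]
      refine ⟨?_, ?_⟩
      · rw [iSupIndep_iff_finset_sum_eq_zero_imp_eq_zero]
        intro s g hg hsum η hη
        funext a
        have hi := ((DirectSum.isInternal_submodule_iff_iSupIndep_and_iSup_eq_top _).1 (hG a)).1
        rw [iSupIndep_iff_finset_sum_eq_zero_imp_eq_zero] at hi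
        exact hi s (fun η => g η a) (fun η hη => hg η hη a trivial)
          (by rw [← Finset.sum_apply, hsum, Pi.zero_apply]) η hη
      · rw [eq_top_iff]
        intro x _
        have := key Set.univ x fun a => by simp [(hG a).submodule_iSup_eq_top]
        simpa using this
    · intro x hx
      exact key _ x fun a => hFG a γ ▸ hx a trivial
    · refine iSup₂_le fun η hη x hx a _ => ?_
      show x a ∈ F a γ
      rw [hFG]
      exact Submodule.mem_iSup_of_mem η (Submodule.mem_iSup_of_mem hη (hx a trivial))

end Groth.Agent.S19158
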