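import Groth.Statements.S19163
import Groth.Agent.Reductive.MTClosedLocus
import Groth.Agent.Reductive.MTLocTriv
import Groth.Agent.PropsBasic2.Spread
import Groth.Agent.Hopf.Cochar.MaxRank

set_option autoImplicit false
open CategoryTheory MonoidalCategory CartesianMonoidalCategory MonObj GrpObj AlgebraicGeometry
universe u
open SGA3x

namespace Groth.Agent.S19163

/-- Let Γ be a non-trivial totally ordered commutative group and H ⟶ G a closed immersion of reductive
S-groups (a homomorphism which is a closed immersion). Let A_H with υ_H, resp. A_G with υ_G,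
represent the functor of group homomorphisms D_S(Γ) ⟶ H, resp. D_S(Γ) ⟶ G, and let φ : A_H ⟶ A_G be
the S-morphism induced by composing with H ⟶ G (the universal family over A_H followed by H ⟶ G is
the pull-back of υ_G along φ). Then φ is a closed immersion, locally of finite presentation. -/
theorem result {S : Scheme.{u}}
    (Γ : Type) [AddCommGroup Γ] [LinearOrder Γ] [IsOrderedAddMonoid Γ] [Nontrivial Γ]
    (H G : Over S) [GrpObj H] [GrpObj G] (hH : Red.IsReductive H) (hG : Red.IsReductive G)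
    (k : H ⟶ G) [IsMonHom k] (hk : IsClosedImmersion k.left)
    (AH : Over S) (υH : Red.DS S Γ ⊗ AH ⟶ H) (hAH : AutFam.RepresentsHom (Red.DS S Γ) H AH υH)
    (AG : Over S) (υG : Red.DS S Γ ⊗ AG ⟶ G) (hAG : AutFam.RepresentsHom (Red.DS S Γ) G AG υG)
    (φ : AH ⟶ AG) (hφ : (Red.DS S Γ ◁ φ) ≫ υG = υH ≫ k) :
    IsClosedImmersion φ.left ∧ LocallyOfFinitePresentation φ.left := by
  classical
  haveI := hk
  haveI := hH.2.1
  haveI := hG.2.1
  haveI : LocallyOfFinitePresentation k.left := by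
    haveI : LocallyOfFinitePresentation (k.left ≫ G.hom) := by rw [Over.w k]; infer_instance
    exact Groth.PropsBasic2.lfp_of_comp k.left G.hom
  have hlt : Groth.Reductive.MTInt.LocTriv (Red.DS S Γ) := by
    refine Groth.Reductive.MTInt.locTriv_of_locally ⟨S, 𝟙 S, inferInstance, inferInstance,
      fun V hV => ⟨V, hV.isCompact, by simp⟩, fun s => ⟨⊤, trivial, Γ, inferInstance, ?_⟩⟩
    obtain ⟨e, he⟩ := Groth.Cochar.exists_iso_bc_DS (S := S) ((⊤ : S.Opens).ι ≫ 𝟙 S) Γ
    haveI := he.1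
    exact ⟨(Grp.mkIso' e).symm⟩
  obtain ⟨C, j, hj, hjfp, hC⟩ := Groth.Reductive.MTInt.exists_factorLocusG hlt k υG
  haveI : Mono k := Over.mono_of_mono_left k
  haveI : Mono j := Over.mono_of_mono_left j
  obtain ⟨z, hz⟩ := (hC AH φ).mpr ⟨υH, hφ.symm⟩
  obtain ⟨w, hw⟩ := (hC C j).mp ⟨𝟙 C, Category.id_comp j⟩
  have hwf : AutFam.IsHomFamily (Red.DS S Γ) H w := fun X g₁ g₂ t => by
    rw [← cancel_mono k, MonObj.mul_comp]
    simp only [Category.assoc, hw, lift_whiskerLeft_assoc]
    exact hAG.1 X g₁ g₂ (t ≫ j)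
  obtain ⟨a, ha, -⟩ := hAH.2 C w hwf
  have haφ : a ≫ φ = j := by
    have hjf : AutFam.IsHomFamily (Red.DS S Γ) G ((Red.DS S Γ ◁ j) ≫ υG) := fun X g₁ g₂ t => by
      simp only [lift_whiskerLeft_assoc]
      exact hAG.1 X g₁ g₂ (t ≫ j)
    refine (hAG.2 C _ hjf).unique ?_ rfl
    rw [whiskerLeft_comp, Category.assoc, hφ, ← Category.assoc, ha, hw]
  have hza : a ≫ z = 𝟙 C := by rw [← cancel_mono j, Category.assoc, hz, haφ, Category.id_comp]
  have haz : z ≫ a = 𝟙 AH := by
    refine (hAH.2 AH υH hAH.1).unique ?_ (by rw [whiskerLeft_id, Category.id_comp])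
    rw [← cancel_mono k, whiskerLeft_comp]
    simp only [Category.assoc]
    rw [reassoc_of% ha, hw, ← Category.assoc, ← whiskerLeft_comp, hz, hφ]
  haveI : IsIso z := ⟨a, haz, hza⟩
  haveI : IsIso z.left := inferInstanceAs (IsIso ((Over.forget S).map z))
  haveI := hjfp inferInstance
  rw [← hz, Over.comp_left]
  exact ⟨inferInstance, inferInstance⟩

end Groth.Agent.S19163
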