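import Groth.Statements.S19169
import Groth.Agent.AdicLinTop.ProCompl

set_option autoImplicit false
universe u
open ProCompl

namespace Groth.Agent.S19169

/-- Let B be a Hausdorff, locally compact, totally disconnected topological abelian group which is
compactly generated, i.e. generated as a group by a compact subset. Then the open subgroups of
finite index of B have trivial intersection: every nonzero b lies outside some open subgroup of
finite index. Equivalently, the natural map from B to its completion with respect to open subgroups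
of finite index is injective. -/
theorem result
    {B : Type u} [AddCommGroup B] [TopologicalSpace B] [IsTopologicalAddGroup B]
    [T2Space B] [LocallyCompactSpace B] [TotallyDisconnectedSpace B]
    (hcg : ∃ K : Set B, IsCompact K ∧ AddSubgroup.closure K = ⊤) (b : B) (hb : b ≠ 0) :
    ∃ B' : AddSubgroup B, IsOpen (B' : Set B) ∧ B'.FiniteIndex ∧ b ∉ B' := by
  obtain ⟨K, hK, hgen⟩ := hcg
  obtain ⟨U, hU⟩ := Groth.AdicLinTop.ProCompl.exists_openSubgroup_subset (isOpen_ne.mem_nhds (Ne.symm hb) : {x : B | x ≠ b} ∈ nhds 0)
  haveI := QuotientAddGroup.discreteTopology (N := (U : AddSubgroup B)) U.isOpen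
  let q := QuotientAddGroup.mk' (U : AddSubgroup B)
  have hfin : (q '' K).Finite := (hK.image continuous_quotient_mk').finite_of_discrete
  haveI : AddGroup.FG (B ⧸ (U : AddSubgroup B)) := by
    refine ⟨⟨hfin.toFinset, ?_⟩⟩
    rw [Set.Finite.coe_toFinset, ← AddMonoidHom.map_closure, hgen,
      AddSubgroup.map_top_of_surjective _ (QuotientAddGroup.mk'_surjective _)]
  obtain ⟨H, -, hfi, hbH⟩ := Groth.AdicLinTop.ProCompl.exists_finiteIndex_not_mem_of_fg (a := q b) ⊥
    (fun h => hU ((QuotientAddGroup.eq_zero_iff b).mp h) rfl)
  refine ⟨H.comap q, AddSubgroup.isOpen_mono (H₁ := (U : AddSubgroup B)) (fun x hx => ?_) U.isOpen,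
    ⟨?_⟩, hbH⟩
  · rw [AddSubgroup.mem_comap, show q x = 0 from (QuotientAddGroup.eq_zero_iff x).mpr hx]
    exact H.zero_mem
  · rw [H.index_comap_of_surjective (QuotientAddGroup.mk'_surjective _)]
    exact hfi.index_ne_zero

end Groth.Agent.S19169
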