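import Groth.Statements.S19172
import Groth.Agent.AdicLinTop.ProCompl

set_option autoImplicit false
universe u v w
open ProCompl

namespace Groth.Agent.S19172

open W4c61motalbduality in
/-- Let i : A → B and p : B → C be continuous homomorphisms of topological abelian groups with p
surjective and open and with the kernel of p equal to the image of i. Then the induced sequence of
completions with respect to open subgroups of finite index, A^∧ → B^∧ → C^∧ → 0, is exact: the map
B^∧ → C^∧ is surjective and its kernel is the image of A^∧. The completion is the group of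
compatible families of residues modulo all open subgroups of finite index. (The published statement
takes i injective, as the first map of an exact sequence 0 → A → B → C → 0 of topological abelian
groups; here it is only assumed that the image of i is the kernel of p, which is all the proof
uses.) -/
theorem result
    {A : Type u} {B : Type v} {C : Type w}
    [AddCommGroup A] [TopologicalSpace A] [IsTopologicalAddGroup A]
    [AddCommGroup B] [TopologicalSpace B] [IsTopologicalAddGroup B]
    [AddCommGroup C] [TopologicalSpace C] [IsTopologicalAddGroup C]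
    (i : A →+ B) (hi : Continuous i) (p : B →+ C) (hp : Continuous p)
    (hpo : IsOpenMap p) (hps : Function.Surjective p) (hex : p.ker = i.range) :
    Function.Surjective (FICompl.map p hp) ∧ (FICompl.map p hp).ker = (FICompl.map i hi).range := by
  refine ⟨fun z => ?_, le_antisymm (fun y hy => ?_) ?_⟩
  · obtain ⟨x, hx⟩ := Groth.AdicLinTop.ProCompl.exists_of_constraints (fun V : OpenFI C => V.comap p hp)
      (fun V => {q | QuotientAddGroup.map (V.comap p hp).toAddSubgroup V.toAddSubgroup p
        (V.comap_le p) q = z.1 V}) (fun t => by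
        obtain ⟨W, hW⟩ := Groth.AdicLinTop.ProCompl.exists_le_finset t
        obtain ⟨c, hc⟩ := QuotientAddGroup.mk_surjective (z.1 W)
        obtain ⟨b, rfl⟩ := hps c
        refine ⟨b, fun V hV => ?_⟩
        have h2 := z.2 W V (hW V hV)
        rw [← hc] at h2
        exact h2)
    exact ⟨x, Subtype.ext (funext fun V => hx V)⟩
  · obtain ⟨x, hx⟩ := Groth.AdicLinTop.ProCompl.exists_of_constraints (fun U : OpenFI B => U.comap i hi)
      (fun U => {q | QuotientAddGroup.map (U.comap i hi).toAddSubgroup U.toAddSubgroup i
        (U.comap_le i) q = y.1 U}) (fun t => by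
        obtain ⟨W, hW⟩ := Groth.AdicLinTop.ProCompl.exists_le_finset t
        obtain ⟨b, hb⟩ := QuotientAddGroup.mk_surjective (y.1 W)
        let V : OpenFI C := ⟨W.toAddSubgroup.map p, hpo _ W.isOpen', ⟨fun h0 => by
          have h1 := W.toAddSubgroup.index_map_dvd hps
          rw [h0, zero_dvd_iff] at h1
          exact W.finiteIndex'.index_ne_zero h1⟩⟩
        have h2 := y.2 W (V.comap p hp) (fun w hw => ⟨w, hw, rfl⟩)
        rw [← hb] at h2
        have h3 := Groth.AdicLinTop.ProCompl.map_apply_of_mk p hp y V b h2.symm
        rw [show FICompl.map p hp y = 0 from hy] at h3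
        obtain ⟨w, hw, hwb⟩ := (QuotientAddGroup.eq_zero_iff _).mp h3.symm
        obtain ⟨a, ha⟩ : b - w ∈ i.range := hex ▸ (show p (b - w) = 0 by rw [map_sub, hwb, sub_self])
        refine ⟨a, fun U hU => ?_⟩
        have h4 := y.2 W U (hW U hU)
        rw [← hb] at h4
        show (i a : B ⧸ U.toAddSubgroup) = y.1 U
        rw [← h4, ha]
        show ((b - w : B) : B ⧸ U.toAddSubgroup) = (b : B ⧸ U.toAddSubgroup)
        rw [QuotientAddGroup.mk_sub, (QuotientAddGroup.eq_zero_iff w).mpr (hW U hU hw), sub_zero])
    exact ⟨x, Subtype.ext (funext fun U => hx U)⟩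
  · rintro _ ⟨x, rfl⟩
    refine AddMonoidHom.mem_ker.mpr (Subtype.ext (funext fun V => ?_))
    obtain ⟨a, ha⟩ := QuotientAddGroup.mk_surjective (x.1 ((V.comap p hp).comap i hi))
    rw [Groth.AdicLinTop.ProCompl.map_apply_of_mk p hp _ V (i a) (Groth.AdicLinTop.ProCompl.map_apply_of_mk i hi x _ a ha.symm),
      show p (i a) = 0 from AddMonoidHom.mem_ker.mp (hex ▸ ⟨a, rfl⟩)]
    rfl

end Groth.Agent.S19172
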