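import Groth.Statements.S19173
import Groth.Agent.AdicLinTop.ProCompl
import Mathlib.Algebra.Module.CharacterModule

set_option autoImplicit false
universe u v
open ProCompl

namespace Groth.Agent.S19173

open W4c61motalbduality Topology in
/-- Let B be a Hausdorff, locally compact, totally disconnected topological abelian group generated as a
group by a compact subset, and let i : A → B be an injective continuous homomorphism inducing the
topology of A from that of B (a strict injection) with closed image. Then the map induced by i on
completions with respect to open subgroups of finite index is injective; together with right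
exactness for open surjections this makes 0 → A^∧ → B^∧ → C^∧ → 0 exact for a topological exact
sequence 0 → A → B → C → 0 with such B, strict closed i and open p. -/
theorem result
    {A : Type u} {B : Type v} [AddCommGroup A] [TopologicalSpace A] [IsTopologicalAddGroup A]
    [AddCommGroup B] [TopologicalSpace B] [IsTopologicalAddGroup B]
    [T2Space B] [LocallyCompactSpace B] [TotallyDisconnectedSpace B]
    (hcg : ∃ K : Set B, IsCompact K ∧ AddSubgroup.closure K = ⊤)
    (i : A →+ B) (hi : Continuous i) (hinj : Function.Injective i) (hind : IsInducing i)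
    (hcl : IsClosed (Set.range i)) :
    Function.Injective (FICompl.map i hi) := by
  refine (injective_iff_map_eq_zero _).mpr fun x hx => Subtype.ext (funext fun U => ?_)
  obtain ⟨a, ha⟩ := QuotientAddGroup.mk_surjective (x.1 U)
  by_contra hne
  have ha0 : (a : A ⧸ U.toAddSubgroup) ≠ 0 := ha ▸ hne
  obtain ⟨φ, hφ⟩ := CharacterModule.exists_character_apply_ne_zero_of_ne_zero ha0
  let χ : A →+ ℚ ⧸ AddSubgroup.zmultiples (1 : ℚ) :=
    AddMonoidHom.comp φ (QuotientAddGroup.mk' U.toAddSubgroup)
  have hUχ : U.toAddSubgroup ≤ χ.ker := fun u hu => by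
    show φ (u : A ⧸ U.toAddSubgroup) = 0
    rw [(QuotientAddGroup.eq_zero_iff u).mpr hu, map_zero]
  obtain ⟨ψ, hψo, hψ⟩ := Groth.AdicLinTop.ProCompl.exists_extension_openKer i hind χ
    (AddSubgroup.isOpen_mono hUχ U.isOpen') hinj
  let V : OpenFI B := ⟨ψ.ker, hψo, Groth.AdicLinTop.ProCompl.finiteIndex_ker hcg ψ hψo⟩
  have h2 := x.2 U (V.comap i hi) (fun u hu => by
    show ψ (i u) = 0
    rw [← AddMonoidHom.comp_apply, hψ]
    exact hUχ hu)
  rw [← ha] at h2
  have h3 := Groth.AdicLinTop.ProCompl.map_apply_of_mk i hi x V a h2.symm
  rw [hx] at h3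
  apply hφ
  have h4 : ψ (i a) = 0 := (QuotientAddGroup.eq_zero_iff (i a)).mp h3.symm
  rwa [← AddMonoidHom.comp_apply, hψ] at h4

end Groth.Agent.S19173
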