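import Groth.Statements.S19176
import Mathlib

set_option autoImplicit false
universe u
open PlaneCurve

namespace Groth.Agent.S19176

open MvPolynomial in
/-- Let k be a field of characteristic p (p = 0 allowed) and F = y² − x³ in k[x, y] (x the variable of
index 0, y of index 1). The singular subscheme of the plane curve F = 0, cut out by F and its two
partial derivatives, is finite over k of degree 4 when p = 2, of degree 3 when p = 3, and of degree
2 otherwise: the k-dimension of k[x, y]/(F, ∂F/∂x, ∂F/∂y) is that number. (The source phrases this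
through the complete local ring of a cusp; the row is the computation for the standard cusp y² =
x³.) -/
theorem result (k : Type u) [Field k] (p : ℕ) [CharP k p] :
    Module.finrank k (MvPolynomial (Fin 2) k ⧸ Ideal.span
      ({X 1 ^ 2 - X 0 ^ 3, pderiv 0 (X 1 ^ 2 - X 0 ^ 3), pderiv 1 (X 1 ^ 2 - X 0 ^ 3)} :
        Set (MvPolynomial (Fin 2) k))) = (if p = 2 then 4 else if p = 3 then 3 else 2) := by
  have key : ∀ a b : ℕ, Module.finrank k (MvPolynomial (Fin 2) k ⧸ Ideal.span
      ({X 0 ^ a, X 1 ^ b} : Set (MvPolynomial (Fin 2) k))) = a * b := by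
    intro a b
    let S : Set (Fin 2 →₀ ℕ) := {Finsupp.single 0 a, Finsupp.single 1 b}
    have hspan : ({X 0 ^ a, X 1 ^ b} : Set (MvPolynomial (Fin 2) k)) = (fun s => monomial s (1 : k)) '' S := by
      simp [S, Set.image_pair, X_pow_eq_monomial]
    let d : Fin a × Fin b → (Fin 2 →₀ ℕ) := fun ij => Finsupp.single 0 (ij.1 : ℕ) + Finsupp.single 1 (ij.2 : ℕ)
    have hd : Function.Injective d := fun x y h => by
      have h0 := DFunLike.congr_fun h 0
      have h1 := DFunLike.congr_fun h 1
      simp [d] at h0 h1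
      exact Prod.ext (Fin.ext h0) (Fin.ext h1)
    let π : MvPolynomial (Fin 2) k →ₗ[k] (Fin a × Fin b → k) := LinearMap.pi fun ij => MvPolynomial.lcoeff k (d ij)
    have hker : LinearMap.ker π = (Ideal.span ({X 0 ^ a, X 1 ^ b} : Set (MvPolynomial (Fin 2) k))).restrictScalars k := by
      ext f
      rw [LinearMap.mem_ker, Submodule.restrictScalars_mem, hspan, mem_ideal_span_monomial_image]
      constructor
      · intro h m hm
        by_cases h0 : m 0 < a
        · by_cases h1 : m 1 < b
          · exfalso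
            have e : d (⟨m 0, h0⟩, ⟨m 1, h1⟩) = m := by
              ext i; fin_cases i <;> simp [d]
            exact mem_support_iff.1 hm (e ▸ congrFun h (⟨m 0, h0⟩, ⟨m 1, h1⟩))
          · exact ⟨_, Or.inr rfl, Finsupp.single_le_iff.2 (not_lt.1 h1)⟩
        · exact ⟨_, Or.inl rfl, Finsupp.single_le_iff.2 (not_lt.1 h0)⟩
      · intro h
        funext ij
        show coeff (d ij) f = 0
        by_contra hne
        obtain ⟨s, hs, hle⟩ := h _ (mem_support_iff.2 hne)
        rcases hs with rfl | rfl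
        · have := Finsupp.single_le_iff.1 hle; simp [d] at this; omega
        · have := Finsupp.single_le_iff.1 hle; simp [d] at this; omega
    have hsurj : Function.Surjective π := by
      intro g
      refine ⟨∑ ij, monomial (d ij) (g ij), funext fun ij => ?_⟩
      show coeff (d ij) (∑ x, monomial (d x) (g x)) = g ij
      simp [coeff_sum, coeff_monomial, hd.eq_iff]
    rw [← (Submodule.Quotient.restrictScalarsEquiv k _).finrank_eq, ← hker,
      (π.quotKerEquivOfSurjective hsurj).finrank_eq, Module.finrank_fintype_fun_eq_card]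
    simp
  have hp0 : pderiv (0 : Fin 2) (X 1 ^ 2 - X 0 ^ 3 : MvPolynomial (Fin 2) k) = C (-3) * X 0 ^ 2 := by
    simp [Derivation.leibniz_pow, map_ofNat]
  have hp1 : pderiv (1 : Fin 2) (X 1 ^ 2 - X 0 ^ 3 : MvPolynomial (Fin 2) k) = C 2 * X 1 := by
    simp [Derivation.leibniz_pow, map_ofNat]
  rw [hp0, hp1]
  set g : MvPolynomial (Fin 2) k := X 1 ^ 2 - X 0 ^ 3 with hg
  set J := Ideal.span ({g, C (-3) * X 0 ^ 2, C 2 * X 1} : Set (MvPolynomial (Fin 2) k)) with hJ
  have mg : g ∈ J := Ideal.subset_span (by simp)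
  have mx : C (-3) * X 0 ^ 2 ∈ J := Ideal.subset_span (by simp)
  have my : C 2 * X 1 ∈ J := Ideal.subset_span (by simp)
  have fin : ∀ a b : ℕ, X 0 ^ a ∈ J → X 1 ^ b ∈ J →
      g ∈ Ideal.span ({X 0 ^ a, X 1 ^ b} : Set (MvPolynomial (Fin 2) k)) →
      C (-3) * X 0 ^ 2 ∈ Ideal.span ({X 0 ^ a, X 1 ^ b} : Set (MvPolynomial (Fin 2) k)) →
      C 2 * X 1 ∈ Ideal.span ({X 0 ^ a, X 1 ^ b} : Set (MvPolynomial (Fin 2) k)) →
      Module.finrank k (MvPolynomial (Fin 2) k ⧸ J) = a * b := by
    intro a b ha hb h1 h2 h3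
    have e : J = Ideal.span ({X 0 ^ a, X 1 ^ b} : Set (MvPolynomial (Fin 2) k)) := by
      refine le_antisymm (Ideal.span_le.2 ?_) (Ideal.span_le.2 ?_)
      · rintro x (rfl | rfl | rfl) <;> assumption
      · rintro x (rfl | rfl) <;> assumption
    rw [e, key]
  by_cases h2 : p = 2
  · subst h2
    have e2 : (2 : k) = 0 := by simpa using CharP.cast_eq_zero k 2
    have e3 : (-3 : k) = 1 := by linear_combination (-2 : k) * e2
    rw [e3, map_one, one_mul] at mx fin
    rw [e2, map_zero, zero_mul] at fin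
    rw [if_pos rfl, fin 2 2 mx ?_ ?_ (Ideal.subset_span (by simp)) (zero_mem _)]
    · rw [show X 1 ^ 2 = g + X 0 * X 0 ^ 2 by simp only [g]; ring]
      exact add_mem mg (Ideal.mul_mem_left _ _ mx)
    · exact Ideal.mem_span_pair.2 ⟨-X 0, 1, by simp only [g]; ring⟩
  · rw [if_neg h2]
    have e2 : (2 : k) ≠ 0 := by
      intro h
      have h' : ((2 : ℕ) : k) = 0 := by simpa using h
      rcases (Nat.dvd_prime Nat.prime_two).1 ((CharP.cast_eq_zero_iff k p 2).1 h') with rfl | rfl
      · exact CharP.char_ne_one k 1 rfl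
      · exact h2 rfl
    have hy : (X 1 : MvPolynomial (Fin 2) k) ∈ J := by
      rw [show (X 1 : MvPolynomial (Fin 2) k) = C (2⁻¹) * (C 2 * X 1) by
        rw [← mul_assoc, ← map_mul, inv_mul_cancel₀ e2, map_one, one_mul]]
      exact Ideal.mul_mem_left _ _ my
    have hy' : ∀ a : ℕ, C 2 * X 1 ∈ Ideal.span ({X 0 ^ a, X 1 ^ 1} : Set (MvPolynomial (Fin 2) k)) :=
      fun a => Ideal.mem_span_pair.2 ⟨0, C 2, by ring⟩
    by_cases h3 : p = 3
    · subst h3
      have e3 : (-3 : k) = 0 := by simpa using CharP.cast_eq_zero k 3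
      rw [e3, map_zero, zero_mul] at fin
      rw [if_pos rfl, fin 3 1 ?_ (by simpa using hy) ?_ (zero_mem _) (hy' 3)]
      · rw [show X 0 ^ 3 = X 1 * X 1 - g by simp only [g]; ring]
        exact sub_mem (Ideal.mul_mem_left _ _ hy) mg
      · exact Ideal.mem_span_pair.2 ⟨-1, X 1, by simp only [g]; ring⟩
    · rw [if_neg h3]
      have e3 : (-3 : k) ≠ 0 := by
        intro h
        have h' : ((3 : ℕ) : k) = 0 := by simpa using h
        rcases (Nat.dvd_prime Nat.prime_three).1 ((CharP.cast_eq_zero_iff k p 3).1 h') with rfl | rfl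
        · exact CharP.char_ne_one k 1 rfl
        · exact h3 rfl
      rw [fin 2 1 ?_ (by simpa using hy) ?_ (Ideal.mem_span_pair.2 ⟨C (-3), 0, by ring⟩) (hy' 2)]
      · rw [show (X 0 : MvPolynomial (Fin 2) k) ^ 2 = C ((-3 : k)⁻¹) * (C (-3) * X 0 ^ 2) by
          rw [← mul_assoc, ← map_mul, inv_mul_cancel₀ e3, map_one, one_mul]]
        exact Ideal.mul_mem_left _ _ mx
      · exact Ideal.mem_span_pair.2 ⟨-X 0, X 1, by simp only [g]; ring⟩

end Groth.Agent.S19176
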