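import Groth.Statements.S19177
import Mathlib

set_option autoImplicit false
universe u
open CAlg

namespace Groth.Agent.S19177

/-- Let S → R be a homomorphism of commutative rings making R a finitely generated projective S-module
of rank 2 at every prime of S (the affine form of a finite locally free morphism of degree 2). Then
the cokernel of the (injective) structure map S → R, the S-module R/S, is a projective S-module of
rank 1 at every prime of S (locally free of rank 1). -/
theorem result
    (S R : Type u) [CommRing S] [CommRing R] [Algebra S R] [Module.Finite S R] [Module.Projective S R]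
    (h2 : ∀ p : PrimeSpectrum S, Module.rankAtStalk (R := S) R p = 2) :
    Module.Projective S (R ⧸ LinearMap.range (Algebra.linearMap S R)) ∧
      ∀ p : PrimeSpectrum S,
        Module.rankAtStalk (R := S) (R ⧸ LinearMap.range (Algebra.linearMap S R)) p = 1 := by
  have hex : ∃ φ : R →ₗ[S] S, φ 1 = 1 := by
    let I : Ideal S := LinearMap.range (Module.Dual.eval S R 1)
    by_cases hI : I = ⊤
    · obtain ⟨φ, hφ⟩ := (show (1 : S) ∈ I from hI ▸ Submodule.mem_top)
      exact ⟨φ, hφ⟩
    exfalso
    obtain ⟨m, hm, hIm⟩ := Ideal.exists_le_maximal I hI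
    obtain ⟨n, f, g, -, -, hfg⟩ := Module.Finite.exists_comp_eq_id_of_projective S R
    have h1 : (1 : R) ∈ m.map (algebraMap S R) := by
      rw [show (1 : R) = f (g 1) from (LinearMap.congr_fun hfg 1).symm, ← Finset.univ_sum_single (g 1), map_sum]
      refine Ideal.sum_mem _ fun i _ => ?_
      rw [show Pi.single i (g 1 i) = g 1 i • (Pi.single i (1 : S) : Fin n → S) by rw [← Pi.single_smul', smul_eq_mul, mul_one], map_smul, Algebra.smul_def]
      exact Ideal.mul_mem_right _ _ (Ideal.mem_map_of_mem _ (hIm ⟨(LinearMap.proj i).comp g, rfl⟩))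
    have htop : (⊤ : Submodule S R) ≤ m • ⊤ := fun x _ => by
      rw [Ideal.smul_top_eq_map, (Ideal.eq_top_iff_one _).2 h1]
      trivial
    obtain ⟨c, hc, hc0⟩ := Submodule.exists_sub_one_mem_and_smul_eq_zero_of_fg_of_le_smul m ⊤ Module.Finite.fg_top htop
    have hcm : c ∉ m := fun h => hm.ne_top ((Ideal.eq_top_iff_one _).2 (by simpa using sub_mem h hc))
    have hs : (⟨m, hm.isPrime⟩ : PrimeSpectrum S) ∉ Module.support S R :=
      Module.notMem_support_iff'.2 fun x => ⟨c, hcm, hc0 x trivial⟩
    have h0 := h2 ⟨m, hm.isPrime⟩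
    have : Subsingleton (LocalizedModule m.primeCompl R) := Module.notMem_support_iff.1 hs
    rw [Module.rankAtStalk, Module.finrank_zero_of_subsingleton] at h0
    omega
  obtain ⟨φ, hφ⟩ := hex
  let L := LinearMap.range (Algebra.linearMap S R)
  let e : R ≃ₗ[S] S × (R ⧸ L) := LinearEquiv.ofBijective (φ.prod L.mkQ) ⟨fun x y h => by
      obtain ⟨h1, h2⟩ := Prod.mk.inj (show (φ x, L.mkQ x) = (φ y, L.mkQ y) from h)
      obtain ⟨s, hs⟩ := (Submodule.Quotient.eq L).1 h2
      have : φ (x - y) = s := by rw [← hs, Algebra.linearMap_apply, Algebra.algebraMap_eq_smul_one, map_smul, hφ, smul_eq_mul, mul_one]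
      rw [map_sub, h1, sub_self] at this
      rw [← this, map_zero] at hs
      exact sub_eq_zero.1 hs.symm,
    fun ⟨s, q⟩ => by
      obtain ⟨x, rfl⟩ := L.mkQ_surjective q
      refine ⟨x + algebraMap S R (s - φ x), Prod.ext ?_ ?_⟩
      · show φ _ = s
        rw [map_add, Algebra.algebraMap_eq_smul_one, map_smul, hφ, smul_eq_mul, mul_one, add_sub_cancel]
      · show L.mkQ _ = L.mkQ x
        rw [map_add, show L.mkQ (algebraMap S R (s - φ x)) = 0 from (Submodule.Quotient.mk_eq_zero L).2 ⟨_, rfl⟩, add_zero]⟩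
  have hproj : Module.Projective S (R ⧸ L) :=
    Module.Projective.of_split (e.symm.toLinearMap.comp (LinearMap.inr S S (R ⧸ L)))
      ((LinearMap.snd S S (R ⧸ L)).comp e.toLinearMap) (LinearMap.ext fun x => by simp)
  refine ⟨hproj, fun p => ?_⟩
  have hnt : Nontrivial S := ⟨⟨0, 1, fun h => p.2.ne_top ((Ideal.eq_top_iff_one _).2 (h ▸ p.asIdeal.zero_mem))⟩⟩
  have := h2 p
  rw [Module.rankAtStalk_eq_of_equiv e, Module.rankAtStalk_prod] at this
  have h1 : Module.rankAtStalk (R := S) S p = 1 := by simp
  simp only [Pi.add_apply, h1] at this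
  change Module.rankAtStalk (R := S) (R ⧸ L) p = 1
  omega

end Groth.Agent.S19177
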