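import Groth.Statements.S19178
import Mathlib
-- import your own Groth.Agent.* helpers here

set_option autoImplicit false
universe u
open Curves

namespace Groth.Agent.S19178

/-- For every field k and every choice of coefficients a₁, a₂, a₃, a₄, a₆ in k, the homogeneous
Weierstrass cubic Y²Z + a₁XYZ + a₃YZ² − (X³ + a₂X²Z + a₄XZ² + a₆Z³) is an irreducible polynomial in
k[X, Y, Z]. Applied to all fields, this says every fibre of the Weierstrass family over the affine
space of coefficients is geometrically integral. -/
theorem result (k : Type u) [Field k]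
    (W : WeierstrassCurve k) :
    Irreducible (WeierstrassCurve.Projective.polynomial W) := by
  classical
  -- dehomogenisation `Z = 1`
  let ψ : MvPolynomial (Fin 3) k →ₐ[k] Polynomial (Polynomial k) :=
    MvPolynomial.aeval ![Polynomial.C Polynomial.X, Polynomial.X, 1]
  -- restriction to `Y = 0`, `Z = 1`
  let χ : MvPolynomial (Fin 3) k →ₐ[k] Polynomial k :=
    MvPolynomial.aeval ![Polynomial.X, 0, 1]
  have hψ : ψ W.toProjective.polynomial = W.toAffine.polynomial := by
    simp [ψ, WeierstrassCurve.Projective.polynomial, WeierstrassCurve.Affine.polynomial,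
      Polynomial.algebraMap_def]
    ring
  have hχψ : ∀ A, χ A = (ψ A).eval 0 := by
    intro A
    induction A using MvPolynomial.induction_on with
    | C a => simp [χ, ψ, Polynomial.algebraMap_def]
    | add p q hp hq => simp [hp, hq]
    | mul_X p i hp =>
      rw [map_mul, map_mul, Polynomial.eval_mul, ← hp]
      congr 1
      fin_cases i <;> simp [χ, ψ]
  have hdeg : ∀ B, (χ B).natDegree ≤ B.totalDegree := by
    intro B
    conv_lhs => rw [MvPolynomial.as_sum B, map_sum]
    refine Polynomial.natDegree_sum_le_of_forall_le _ _ fun d hd => ?_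
    refine le_trans ?_ (MvPolynomial.le_totalDegree hd)
    simp only [χ, MvPolynomial.aeval_monomial, Polynomial.algebraMap_eq]
    refine (Polynomial.natDegree_C_mul_le _ _).trans ((Polynomial.natDegree_prod_le _ _).trans ?_)
    refine Finset.sum_le_sum fun i _ => ?_
    refine Polynomial.natDegree_pow_le.trans ?_
    fin_cases i <;> simp
  have hχP : (χ W.toProjective.polynomial).natDegree = 3 := by
    rw [hχψ, hψ]
    simp only [WeierstrassCurve.Affine.polynomial, Polynomial.eval_sub, Polynomial.eval_add,
      Polynomial.eval_pow, Polynomial.eval_mul, Polynomial.eval_X, Polynomial.eval_C]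
    rw [show (0 : Polynomial k) ^ 2 + (Polynomial.C W.toAffine.a₁ * Polynomial.X + Polynomial.C W.toAffine.a₃) * 0
        - (Polynomial.X ^ 3 + Polynomial.C W.toAffine.a₂ * Polynomial.X ^ 2
          + Polynomial.C W.toAffine.a₄ * Polynomial.X + Polynomial.C W.toAffine.a₆) =
        -(Polynomial.X ^ 3 + Polynomial.C W.toAffine.a₂ * Polynomial.X ^ 2
          + Polynomial.C W.toAffine.a₄ * Polynomial.X + Polynomial.C W.toAffine.a₆) by ring,
      Polynomial.natDegree_neg]
    compute_degree!
  have hP3 : W.toProjective.polynomial.totalDegree ≤ 3 := by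
    have hX := MvPolynomial.isHomogeneous_X k (σ := Fin 3)
    refine MvPolynomial.IsHomogeneous.totalDegree_le (n := 3) ?_
    unfold WeierstrassCurve.Projective.polynomial
    exact (((((hX 1).pow 2).mul (hX 2)).add
      ((((MvPolynomial.isHomogeneous_C _ _).mul (hX 0)).mul (hX 1)).mul (hX 2))).add
      (((MvPolynomial.isHomogeneous_C _ _).mul (hX 1)).mul ((hX 2).pow 2))).sub
      (((((hX 0).pow 3)).add
      (((MvPolynomial.isHomogeneous_C _ _).mul ((hX 0).pow 2)).mul (hX 2))).add
      (((MvPolynomial.isHomogeneous_C _ _).mul (hX 0)).mul ((hX 2).pow 2))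
      |>.add ((MvPolynomial.isHomogeneous_C _ _).mul ((hX 2).pow 3)))
  have hirr := W.toAffine.irreducible_polynomial
  refine ⟨fun hu => hirr.not_isUnit (hψ ▸ hu.map ψ), fun A B hAB => ?_⟩
  have hP0 : W.toProjective.polynomial ≠ 0 := fun h => hirr.ne_zero (by rw [← hψ, h, map_zero])
  have main : ∀ A B : MvPolynomial (Fin 3) k, W.toProjective.polynomial = A * B →
      IsUnit (ψ A) → IsUnit A := by
    intro A B hAB hu
    have hA0 : A ≠ 0 := fun h => hP0 (by simp [hAB, h])
    have hB0 : B ≠ 0 := fun h => hP0 (by simp [hAB, h])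
    have hχA : (χ A).natDegree = 0 := by
      rw [hχψ]
      exact Polynomial.natDegree_eq_zero_of_isUnit (hu.map (Polynomial.evalRingHom 0))
    have hB3 : 3 ≤ B.totalDegree := by
      refine le_trans (le_of_eq ?_) (hdeg B)
      have := hχP
      rw [hAB, map_mul, Polynomial.natDegree_mul ?_ ?_, hχA, zero_add] at this
      · exact this.symm
      · intro h; rw [hAB, map_mul, h] at hχP; simp at hχP
      · intro h; rw [hAB, map_mul, h] at hχP; simp at hχP
    have := MvPolynomial.totalDegree_mul_of_isDomain hA0 hB0
    rw [← hAB] at this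
    have hA : A.totalDegree = 0 := by omega
    rw [MvPolynomial.totalDegree_eq_zero_iff_eq_C.1 hA] at hA0 ⊢
    exact (isUnit_iff_ne_zero.2 fun h => hA0 (by rw [h, map_zero])).map MvPolynomial.C
  rcases hirr.isUnit_or_isUnit (show W.toAffine.polynomial = ψ A * ψ B by rw [← hψ, hAB, map_mul])
    with h | h
  · exact Or.inl (main A B hAB h)
  · exact Or.inr (main B A (by rw [hAB, mul_comm]) h)

end Groth.Agent.S19178
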