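import Groth.Statements.S19181
import Mathlib

set_option autoImplicit false
universe u
open CAlg

namespace Groth.Agent.S19181

theorem reg_aux {R : Type u} [CommRing R] (p q : Polynomial R) (h0 : p.coeff 0 = 1) (h : p * q = 0) : q = 0 := by
  refine Polynomial.ext fun n => ?_
  induction n using Nat.strong_induction_on with
  | _ n ih =>
    have := congrArg (fun r : Polynomial R => r.coeff n) h
    rw [Polynomial.coeff_mul, Finset.sum_eq_single (0, n)] at this
    · simpa [h0] using this
    · rintro ⟨i, j⟩ hij hne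
      rw [Finset.HasAntidiagonal.mem_antidiagonal] at hij
      rcases Nat.eq_zero_or_pos i with rfl | hi
      · simp only [zero_add] at hij; exact absurd (by rw [hij]) hne
      · rw [ih j (by simp only at hij; omega), Polynomial.coeff_zero, mul_zero]
    · simp

/-- If `X 0` is a non-zero-divisor modulo `g` then `(g)` is the saturation of `(X 0 ^ 2 * g)`. -/
theorem saturation_aux {R : Type u} [CommRing R] (g : MvPolynomial (Fin 2) R)
    (hreg : ∀ t : Polynomial R, MvPolynomial.aeval ![0, Polynomial.X] g * t = 0 → t = 0) (s : MvPolynomial (Fin 2) R) :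
    (∃ n : ℕ, MvPolynomial.X 0 ^ n * s ∈ Ideal.span ({MvPolynomial.X 0 ^ 2 * g} : Set (MvPolynomial (Fin 2) R))) ↔
      s ∈ Ideal.span ({g} : Set (MvPolynomial (Fin 2) R)) := by
  let x : MvPolynomial (Fin 2) R := MvPolynomial.X 0
  let e : MvPolynomial (Fin 2) R →ₐ[R] Polynomial R := MvPolynomial.aeval ![0, Polynomial.X]
  let ι : Polynomial R →ₐ[R] MvPolynomial (Fin 2) R := Polynomial.aeval (MvPolynomial.X 1)
  have hzero : ∀ t, e t = 0 → ∃ t', t = x * t' := by
    intro t ht
    have h : (Ideal.Quotient.mkₐ R (Ideal.span {x})).comp (ι.comp e) = Ideal.Quotient.mkₐ R (Ideal.span {x}) := by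
      refine MvPolynomial.algHom_ext fun i => ?_
      fin_cases i
      · simpa [e, ι, x] using (Ideal.Quotient.eq_zero_iff_mem.2 (Ideal.mem_span_singleton_self x)).symm
      · simp [e, ι, x]
    have h' := AlgHom.congr_fun h t
    simp only [AlgHom.coe_comp, Function.comp_apply, ht, map_zero] at h'
    exact Ideal.mem_span_singleton.1 (Ideal.Quotient.eq_zero_iff_mem.1 h'.symm)
  have hcancel : ∀ a b : MvPolynomial (Fin 2) R, x * a = x * b → a = b := fun a b h =>
    (MvPolynomial.X_mul_cancel_left_iff (i := (0 : Fin 2))).1 h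
  have step : ∀ s, x * s ∈ Ideal.span {g} → s ∈ Ideal.span {g} := by
    intro s hs
    obtain ⟨t, ht⟩ := Ideal.mem_span_singleton'.1 hs
    have h0 : e t = 0 := hreg _ (by
      have := congrArg e ht
      rw [map_mul, map_mul, show e x = 0 from by simp [e, x], zero_mul, mul_comm] at this
      exact this)
    obtain ⟨t', rfl⟩ := hzero t h0
    exact Ideal.mem_span_singleton'.2 ⟨t', hcancel _ _ (by rw [← ht, mul_assoc])⟩
  refine ⟨fun ⟨n, hn⟩ => ?_, fun hs => ⟨2, ?_⟩⟩
  · have : x ^ n * s ∈ Ideal.span {g} := Ideal.span_singleton_le_span_singleton.2 (dvd_mul_left _ _) hn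
    clear hn
    induction n with
    | zero => simpa using this
    | succ n ih => exact ih (step _ (by rwa [pow_succ', mul_assoc] at this))
  · obtain ⟨t, rfl⟩ := Ideal.mem_span_singleton'.1 hs
    exact Ideal.mem_span_singleton'.2 ⟨t, by ring⟩

open MvPolynomial in
/-- Let R be a commutative ring, a₁, a₂ ∈ R, and C ⊂ A²_R the curve y² + a₁xy = x³ + a₂x², blown up at
the section x = y = 0. In the chart where x = yα (variables y = X 0, α = X 1) the equation of C
becomes y²·g₁ with g₁ = 1 + a₁α − yα³ − a₂α², and the y-saturation of the ideal (y²g₁) is (g₁): for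
s ∈ R[y, α], some yⁿs lies in (y²g₁) if and only if s ∈ (g₁). In the chart where y = xβ (variables x
= X 0, β = X 1) the equation becomes x²·g₂ with g₂ = β² + a₁β − x − a₂, and some xⁿs lies in (x²g₂)
if and only if s ∈ (g₂). In other words the strict transform of C is cut out by g₁, resp. g₂, in the
two charts. -/
theorem result (R : Type u) [CommRing R] (a₁ a₂ : R) :
    (∀ s : MvPolynomial (Fin 2) R,
      (∃ n : ℕ, X 0 ^ n * s ∈ Ideal.span ({X 0 ^ 2 * (1 + C a₁ * X 1 - X 0 * X 1 ^ 3 - C a₂ * X 1 ^ 2)} :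
        Set (MvPolynomial (Fin 2) R))) ↔
      s ∈ Ideal.span ({1 + C a₁ * X 1 - X 0 * X 1 ^ 3 - C a₂ * X 1 ^ 2} : Set (MvPolynomial (Fin 2) R))) ∧
    (∀ s : MvPolynomial (Fin 2) R,
      (∃ n : ℕ, X 0 ^ n * s ∈ Ideal.span ({X 0 ^ 2 * (X 1 ^ 2 + C a₁ * X 1 - X 0 - C a₂)} :
        Set (MvPolynomial (Fin 2) R))) ↔
      s ∈ Ideal.span ({X 1 ^ 2 + C a₁ * X 1 - X 0 - C a₂} : Set (MvPolynomial (Fin 2) R))) := by
  refine ⟨saturation_aux _ fun t ht => reg_aux _ t ?_ ht, saturation_aux _ fun t ht => ?_⟩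
  · simp
  · have hm : (MvPolynomial.aeval ![(0 : Polynomial R), Polynomial.X] (MvPolynomial.X 1 ^ 2 + MvPolynomial.C a₁ * MvPolynomial.X 1 - MvPolynomial.X 0 - MvPolynomial.C a₂)).Monic := by
      simp only [map_sub, map_add, map_mul, map_pow, MvPolynomial.aeval_X, MvPolynomial.aeval_C, Polynomial.algebraMap_eq,
        Matrix.cons_val_zero, Matrix.cons_val_one, sub_zero]
      monicity!
    exact (Polynomial.Monic.isRegular hm).left (by simpa using ht)

end Groth.Agent.S19181
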