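import Groth.Statements.S19182
import Mathlib.RingTheory.Smooth.StandardSmoothCotangent

set_option autoImplicit false
universe u
open CAlg

namespace Groth.Agent.S19182

open MvPolynomial in
theorem smooth_quot_of_isUnit_pderiv {R : Type u} [CommRing R] {n : Type} [Finite n] (f : MvPolynomial n R) (i : n)
    (h : IsUnit (Ideal.Quotient.mk (Ideal.span ({f} : Set (MvPolynomial n R))) (pderiv i f))) :
    Algebra.Smooth R (MvPolynomial n R ⧸ Ideal.span ({f} : Set (MvPolynomial n R))) := by
  classical
  let v : Fin 1 → MvPolynomial n R := fun _ => f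
  have hv : Ideal.span (Set.range v) = Ideal.span ({f} : Set (MvPolynomial n R)) := by
    rw [Set.range_const]
  let P : Algebra.PreSubmersivePresentation R (MvPolynomial n R ⧸ Ideal.span (Set.range v)) n (Fin 1) :=
    Algebra.PreSubmersivePresentation.naive (fun _ => i) (Function.injective_of_subsingleton _)
  have hP : IsUnit P.jacobian := by
    rw [Algebra.PreSubmersivePresentation.jacobian_eq_jacobiMatrix_det, Matrix.det_fin_one,
      Algebra.PreSubmersivePresentation.jacobiMatrix_naive]
    have h' := h.map (Ideal.quotientEquivAlgOfEq R hv.symm)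
    have key : ∀ q : MvPolynomial n R, MvPolynomial.aeval P.val q = Ideal.Quotient.mk (Ideal.span (Set.range v)) q := by
      intro q
      have hq : MvPolynomial.aeval P.val = Ideal.Quotient.mkₐ R (Ideal.span (Set.range v)) := by
        refine MvPolynomial.algHom_ext fun j => ?_
        rw [MvPolynomial.aeval_X]
        rfl
      rw [hq]; rfl
    show IsUnit (algebraMap P.Ring _ (pderiv i f))
    rw [Algebra.Generators.algebraMap_apply, key]
    simpa using h'
  let Q : Algebra.SubmersivePresentation R (MvPolynomial n R ⧸ Ideal.span (Set.range v)) n (Fin 1) :=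
    { P with jacobian_isUnit := hP }
  have := Q.isStandardSmooth
  exact Algebra.Smooth.of_equiv (Ideal.quotientEquivAlgOfEq R hv)

open MvPolynomial in
/-- Let R be a commutative ring and a₁, a₂ ∈ R. The two affine charts of the blow-up of the plane curve
y² + a₁xy = x³ + a₂x² at the section x = y = 0, with coordinate rings R[y, α]/(1 + a₁α − yα³ − a₂α²)
and R[x, β]/(β² + a₁β − x − a₂) (variables indexed 0 and 1 in this order), are smooth R-algebras
(formally smooth of finite presentation). This is the local computation behind the statement that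
the blow-up of a Weierstrass curve along a section through its singular locus is a smooth proper
curve of genus 0. -/
theorem result (R : Type u) [CommRing R] (a₁ a₂ : R) :
    Algebra.Smooth R (MvPolynomial (Fin 2) R ⧸
      Ideal.span ({1 + C a₁ * X 1 - X 0 * X 1 ^ 3 - C a₂ * X 1 ^ 2} : Set (MvPolynomial (Fin 2) R))) ∧
    Algebra.Smooth R (MvPolynomial (Fin 2) R ⧸
      Ideal.span ({X 1 ^ 2 + C a₁ * X 1 - X 0 - C a₂} : Set (MvPolynomial (Fin 2) R))) := by
  refine ⟨smooth_quot_of_isUnit_pderiv _ 0 ?_, smooth_quot_of_isUnit_pderiv _ 0 ?_⟩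
  · set I := Ideal.span ({1 + C a₁ * X 1 - X 0 * X 1 ^ 3 - C a₂ * X 1 ^ 2} : Set (MvPolynomial (Fin 2) R))
    have h1 : IsUnit (Ideal.Quotient.mk I (X 1)) := by
      refine IsUnit.of_mul_eq_one (Ideal.Quotient.mk I (X 0 * X 1 ^ 2 + C a₂ * X 1 - C a₁)) ?_
      rw [← map_mul, ← map_one (Ideal.Quotient.mk I), Ideal.Quotient.eq]
      have : X 1 * (X 0 * X 1 ^ 2 + C a₂ * X 1 - C a₁) - 1 =
          (-1 : MvPolynomial (Fin 2) R) * (1 + C a₁ * X 1 - X 0 * X 1 ^ 3 - C a₂ * X 1 ^ 2) := by ring
      rw [this]
      exact I.mul_mem_left _ (Ideal.subset_span rfl)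
    have h2 : pderiv (0 : Fin 2) (1 + C a₁ * X 1 - X 0 * X 1 ^ 3 - C a₂ * X 1 ^ 2) = -(X 1 ^ 3 : MvPolynomial (Fin 2) R) := by
      simp
    rw [h2, map_neg, map_pow]
    exact (h1.pow 3).neg
  · have h2 : pderiv (0 : Fin 2) (X 1 ^ 2 + C a₁ * X 1 - X 0 - C a₂) = -(1 : MvPolynomial (Fin 2) R) := by
      simp
    rw [h2, map_neg, map_one]
    exact IsUnit.neg (isUnit_one (M := MvPolynomial (Fin 2) R ⧸ Ideal.span ({X 1 ^ 2 + C a₁ * X 1 - X 0 - C a₂} : Set (MvPolynomial (Fin 2) R))))


end Groth.Agent.S19182
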