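import Groth.Statements.S19183
import Mathlib
-- import your own Groth.Agent.* helpers here

set_option autoImplicit false
universe u
open CAlg

namespace Groth.Agent.S19183

/-- Let A be a non-zero commutative ring and f ∈ A a non-zero-divisor. The fibre product A ×_{A/(f)} A
of two copies of A over A/(f) — the A-submodule of A × A of pairs (x, y) with x − y ∈ (f), which is
the coordinate ring of two copies of Spec A glued along the Cartier divisor f = 0 — is a free
A-module of rank 2. (This is what makes the gluing of two copies of a curve along an effective
Cartier divisor finite locally free of degree 2 over the curve.) -/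
theorem result (A : Type u) [CommRing A] [Nontrivial A]
    (f : A) (hf : f ∈ nonZeroDivisors A) :
    Module.Free A (Submodule.comap (LinearMap.fst A A A - LinearMap.snd A A A) (Ideal.span ({f} : Set A))) ∧
      Module.finrank A (Submodule.comap (LinearMap.fst A A A - LinearMap.snd A A A) (Ideal.span ({f} : Set A))) = 2 := by
  set S := Submodule.comap (LinearMap.fst A A A - LinearMap.snd A A A) (Ideal.span ({f} : Set A))
    with hS
  let φ : A × A →ₗ[A] S := LinearMap.codRestrict S
    ((LinearMap.fst A A A + f • LinearMap.snd A A A).prod (LinearMap.fst A A A))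
    (fun x => by
      simp only [hS, Submodule.mem_comap, Ideal.mem_span_singleton]
      exact ⟨x.2, by simp⟩)
  have hφ : Function.Bijective φ := by
    constructor
    · rintro ⟨a, b⟩ ⟨c, d⟩ h
      have h' := congrArg Subtype.val h
      simp only [φ, LinearMap.codRestrict_apply, LinearMap.prod_apply, Function.prod, LinearMap.add_apply,
        LinearMap.smul_apply, LinearMap.fst_apply, LinearMap.snd_apply, smul_eq_mul,
        Prod.mk.injEq] at h'
      obtain ⟨h1, rfl⟩ := h'
      rw [add_right_inj] at h1
      rw [mem_nonZeroDivisors_iff_right] at hf
      have := hf (b - d) (by rw [sub_mul, sub_eq_zero, mul_comm, h1, mul_comm])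
      rw [sub_eq_zero.1 this]
    · rintro ⟨⟨x, y⟩, hxy⟩
      obtain ⟨b, hb⟩ := Ideal.mem_span_singleton.1 hxy
      refine ⟨(y, b), Subtype.ext ?_⟩
      simp only [LinearMap.sub_apply, LinearMap.fst_apply, LinearMap.snd_apply] at hb
      simp [φ, ← hb]
  let e := LinearEquiv.ofBijective φ hφ
  exact ⟨Module.Free.of_equiv e, by rw [← e.finrank_eq]; simp⟩

end Groth.Agent.S19183
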