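import Groth.Statements.S19184
import Mathlib

set_option autoImplicit false
universe u
open CAlg

namespace Groth.Agent.S19184

open Polynomial in
/-- Let S be a commutative ring, a, b ∈ S, f = x² + ax + b ∈ S[x] and R = S[x]/(f), a free S-algebra of
rank 2. Let A ⊂ S[x] be the S-subalgebra of polynomials whose class in R lies in the image of S → R;
it is the fibre product S[x] ×_R S, the coordinate ring of the affine line over S with the degree-2
subscheme Spec R collapsed onto Spec S. Then A is a free S-module and S[x] is a finitely generated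
A-module. -/
theorem result (S : Type u) [CommRing S] (a b : S) :
    Module.Free S ((⊥ : Subalgebra S (S[X] ⧸ Ideal.span ({X ^ 2 + C a * X + C b} : Set S[X]))).comap
        (Ideal.Quotient.mkₐ S (Ideal.span ({X ^ 2 + C a * X + C b} : Set S[X])))) ∧
      Module.Finite ((⊥ : Subalgebra S (S[X] ⧸ Ideal.span ({X ^ 2 + C a * X + C b} : Set S[X]))).comap
        (Ideal.Quotient.mkₐ S (Ideal.span ({X ^ 2 + C a * X + C b} : Set S[X])))) S[X] := by
  rcases subsingleton_or_nontrivial S with h | h
  · exact ⟨inferInstance, ⟨⟨∅, by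
      have : Subsingleton S[X] := inferInstance
      exact Subsingleton.elim _ _⟩⟩⟩
  set f : S[X] := X ^ 2 + C a * X + C b with hf
  have hmon : f.Monic := by rw [hf]; monicity!
  have hdeg : f.natDegree = 2 := by rw [hf]; compute_degree!
  set A := (⊥ : Subalgebra S (S[X] ⧸ Ideal.span ({f} : Set S[X]))).comap (Ideal.Quotient.mkₐ S (Ideal.span ({f} : Set S[X])))
  have memA : ∀ p, p ∈ A ↔ ∃ (c : S) (q : S[X]), p = C c + f * q := by
    intro p
    rw [Subalgebra.mem_comap, Algebra.mem_bot]
    constructor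
    · rintro ⟨c, hc⟩
      obtain ⟨q, hq⟩ := Ideal.mem_span_singleton.1 ((Ideal.Quotient.eq (x := p) (y := C c)).1 hc.symm)
      exact ⟨c, q, by rw [← hq]; ring⟩
    · rintro ⟨c, q, rfl⟩
      exact ⟨c, ((Ideal.Quotient.eq (x := C c + f * q) (y := C c)).2 (Ideal.mem_span_singleton.2 ⟨q, by ring⟩)).symm⟩
  constructor
  · let φ : S × S[X] →ₗ[S] A :=
      { toFun := fun cq => ⟨C cq.1 + f * cq.2, (memA _).2 ⟨_, _, rfl⟩⟩
        map_add' := fun x y => Subtype.ext (by simp only [Prod.fst_add, Prod.snd_add, map_add, AddMemClass.mk_add_mk]; ring)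
        map_smul' := fun r x => Subtype.ext (by simp [smul_add, Polynomial.smul_C]) }
    refine Module.Free.of_equiv (LinearEquiv.ofBijective φ ⟨?_, fun p => ?_⟩)
    · rw [← LinearMap.ker_eq_bot, LinearMap.ker_eq_bot']
      intro ⟨c, q⟩ h
      have h' : C c + f * q = 0 := congrArg Subtype.val h
      by_cases hq : q = 0
      · subst hq; simpa using h'
      · have h2 := congrArg Polynomial.natDegree (eq_neg_of_add_eq_zero_right h')
        rw [hmon.natDegree_mul' hq, natDegree_neg, natDegree_C, hdeg] at h2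
        omega
    · obtain ⟨c, q, h⟩ := (memA _).1 p.2
      exact ⟨(c, q), Subtype.ext h.symm⟩
  · classical
    refine ⟨⟨({1, X} : Finset S[X]), ?_⟩⟩
    rw [eq_top_iff]
    intro p _
    have hd := modByMonic_add_div p f
    have hlt : (p %ₘ f).natDegree < 2 := hdeg ▸ natDegree_modByMonic_lt p hmon (fun h => by rw [h] at hdeg; simp at hdeg)
    obtain ⟨d, c, hr⟩ := exists_eq_X_add_C_of_natDegree_le_one (Nat.le_of_lt_succ hlt)
    rw [← hd, hr]
    simp only [Finset.coe_insert, Finset.coe_singleton]
    refine Submodule.mem_span_pair.2 ⟨⟨C c + f * (p /ₘ f), (memA _).2 ⟨_, _, rfl⟩⟩, ⟨C d, (memA _).2 ⟨d, 0, by simp⟩⟩, ?_⟩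
    show (C c + f * (p /ₘ f)) * 1 + C d * X = _
    ring

end Groth.Agent.S19184
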