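import Mathlib
import Groth.Statements.S19185
import Groth.Agent.Agf.PlaneLinearSmooth

set_option autoImplicit false
universe u
open Curves

namespace Groth.Agent.S19185

open Polynomial Groth.Agf.PlaneLinear

theorem resultant_ne_zero_iff_coprime {K : Type*} [Field K] (f g : K[X]) (m n : ℕ) (hm : 0 < m) (hn : 0 < n)
    (hf : f.natDegree ≤ m) (hg : g.natDegree ≤ n) :
    resultant f g m n ≠ 0 ↔ ¬(f.coeff m = 0 ∧ g.coeff n = 0) ∧ IsCoprime f g := by
  by_cases h1 : f.coeff m = 0
  · by_cases h2 : g.coeff n = 0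
    · have hlt : ∀ (p : K[X]) (l : ℕ), 0 < l → p.natDegree ≤ l → p.coeff l = 0 → p.natDegree < l := by
        intro p l hl hp hc
        refine lt_of_le_of_ne hp fun he => ?_
        rw [← he, coeff_natDegree, leadingCoeff_eq_zero] at hc
        rw [hc, natDegree_zero] at he
        omega
      simp [h1, h2, resultant_eq_zero_of_lt_lt f g m n (hlt f m hm hf h1) (hlt g n hn hg h2)]
    · have hgn : g.natDegree = n := le_antisymm hg (le_natDegree_of_ne_zero h2)
      have hg0 : g ≠ 0 := fun h => h2 (by simp [h])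
      obtain ⟨l, rfl⟩ := Nat.exists_eq_add_of_le hf
      rw [resultant_add_left_deg _ _ _ _ _ le_rfl, ← hgn, mul_ne_zero_iff, mul_ne_zero_iff]
      have : resultant f g ≠ 0 ↔ IsCoprime f g := by
        rw [Ne, resultant_eq_zero_iff]; simp [hg0]
      rw [this, coeff_natDegree]
      simp [hg0]
  · have hfm : f.natDegree = m := le_antisymm hf (le_natDegree_of_ne_zero h1)
    have hf0 : f ≠ 0 := fun h => h1 (by simp [h])
    obtain ⟨l, rfl⟩ := Nat.exists_eq_add_of_le hg
    rw [resultant_add_right_deg _ _ _ _ _ le_rfl, ← hfm, mul_ne_zero_iff]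
    have : resultant f g ≠ 0 ↔ IsCoprime f g := by
      rw [Ne, resultant_eq_zero_iff]; simp [hf0]
    rw [this, coeff_natDegree]
    simp [hf0]

theorem coprime_iff_noRoot {k : Type u} [Field k] (f g : k[X]) (hne : f ≠ 0 ∨ g ≠ 0) :
    IsCoprime f g ↔ ∀ a : AlgebraicClosure k, ¬(aeval a f = 0 ∧ aeval a g = 0) := by
  constructor
  · rintro ⟨u, v, h⟩ a ⟨hf, hg⟩
    simpa [hf, hg] using congrArg (aeval a) h
  · intro h
    refine isCoprime_of_dvd f g (by tauto) fun z hz hz0 hzf hzg => ?_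
    have hd : z.degree ≠ 0 := fun hd => hz (isUnit_iff_degree_eq_zero.2 hd)
    obtain ⟨a, ha⟩ := IsAlgClosed.exists_aeval_eq_zero (AlgebraicClosure k) z hd
    exact h a ⟨aeval_eq_zero_of_dvd_aeval_eq_zero hzf ha, aeval_eq_zero_of_dvd_aeval_eq_zero hzg ha⟩

theorem charts_iff {k : Type u} [Field k] (A B : k[X]) (hne : A ≠ 0 ∨ B ≠ 0) :
    (Algebra.Smooth k (MvPolynomial (Fin 2) k ⧸ Ideal.span {eqn A B}) ∧
      Algebra.Smooth k (MvPolynomial (Fin 2) k ⧸ Ideal.span {eqn B A})) ↔
    ∀ a : AlgebraicClosure k, ¬(aeval a A = 0 ∧ aeval a B = 0) := by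
  constructor
  · rintro ⟨h1, h2⟩ a ⟨hA, hB⟩
    by_cases hB' : aeval a (derivative B) = 0
    · by_cases hA' : aeval a (derivative A) = 0
      · exact not_formallySmooth A B hne a 0 hA hB (by simp [hA', hB']) h1.formallySmooth
      · exact not_formallySmooth B A hne.symm a 0 hB hA (by simp [hB']) h2.formallySmooth
    · exact not_formallySmooth A B hne a (-aeval a (derivative A) / aeval a (derivative B)) hA hB
        (by field_simp; ring) h1.formallySmooth
  · intro h
    exact ⟨smooth (AlgebraicClosure k) A B fun a _ hA hB _ => h a ⟨hA, hB⟩,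
      smooth (AlgebraicClosure k) B A fun a _ hB hA _ => h a ⟨hA, hB⟩⟩

theorem eqn_sum {k : Type u} [Field k] {m n : ℕ} (q : Fin m → k) (ξ : Fin n → k) (e : Fin m → ℕ) (d : Fin n → ℕ) :
    eqn (∑ i, C (q i) * X ^ e i) (∑ j, C (ξ j) * X ^ d j) =
      (∑ i, MvPolynomial.C (q i) * MvPolynomial.X 0 ^ e i) +
        (∑ j, MvPolynomial.C (ξ j) * MvPolynomial.X 0 ^ d j) * MvPolynomial.X (1 : Fin 2) := by
  simp [eqn, map_sum, MvPolynomial.algebraMap_eq]


/-- Let k be a field, n ≥ 3, q a binary quadratic form and ξ a binary form of degree n over k, given by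
coefficient vectors (q_i the coefficient of x^i y^(2−i), ξ_j that of x^j y^(n−j)), not both zero.
The pair (q, ξ) is a global section of O(2) ⊕ O(n) on P¹_k, i.e. of the line bundle of class e + nf
on the Hirzebruch surface F_{n−2} = P(O ⊕ O(n−2)) → P¹_k, and cuts out the curve W : q·u + ξ·v = 0
there ([u : v] the fibre coordinates). Over the two standard opens of P¹ (t = x/y, s = y/x) and the
two opens u ≠ 0, v ≠ 0 of the fibres, W is covered by four affine charts with coordinate rings k[t,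
w]/(q(t,1) + ξ(t,1)·w), k[t, w]/(q(t,1)·w + ξ(t,1)), k[s, w]/(q(1,s) + ξ(1,s)·w) and k[s,
w]/(q(1,s)·w + ξ(1,s)) (variables indexed 0 for t or s and 1 for w). Then W is smooth over k — all
four chart algebras are smooth k-algebras — if and only if the resultant of q and ξ (the Sylvester
determinant of the two coefficient vectors with size parameters 2 and n) is nonzero. (The published
statement is over a general base scheme B, for a section (q, ξ) vanishing on no fibre, with 'the
resultant is a unit on B' in place of 'nonzero'; its proof reduces at once to the statement over a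
field given here, which is the case B = Spec k.) -/
theorem result (k : Type u) [Field k] (n : ℕ) (hn : 3 ≤ n)
    (q : Fin 3 → k) (ξ : Fin (n + 1) → k) (hqξ : q ≠ 0 ∨ ξ ≠ 0) :
    (Algebra.Smooth k (MvPolynomial (Fin 2) k ⧸ Ideal.span ({(∑ i : Fin 3, MvPolynomial.C (q i) * MvPolynomial.X 0 ^ (i : ℕ)) + (∑ j : Fin (n + 1), MvPolynomial.C (ξ j) * MvPolynomial.X 0 ^ (j : ℕ)) * MvPolynomial.X 1} : Set (MvPolynomial (Fin 2) k))) ∧
      Algebra.Smooth k (MvPolynomial (Fin 2) k ⧸ Ideal.span ({(∑ i : Fin 3, MvPolynomial.C (q i) * MvPolynomial.X 0 ^ (i : ℕ)) * MvPolynomial.X 1 + (∑ j : Fin (n + 1), MvPolynomial.C (ξ j) * MvPolynomial.X 0 ^ (j : ℕ))} : Set (MvPolynomial (Fin 2) k))) ∧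
      Algebra.Smooth k (MvPolynomial (Fin 2) k ⧸ Ideal.span ({(∑ i : Fin 3, MvPolynomial.C (q i) * MvPolynomial.X 0 ^ (2 - (i : ℕ))) + (∑ j : Fin (n + 1), MvPolynomial.C (ξ j) * MvPolynomial.X 0 ^ (n - (j : ℕ))) * MvPolynomial.X 1} : Set (MvPolynomial (Fin 2) k))) ∧
      Algebra.Smooth k (MvPolynomial (Fin 2) k ⧸ Ideal.span ({(∑ i : Fin 3, MvPolynomial.C (q i) * MvPolynomial.X 0 ^ (2 - (i : ℕ))) * MvPolynomial.X 1 + (∑ j : Fin (n + 1), MvPolynomial.C (ξ j) * MvPolynomial.X 0 ^ (n - (j : ℕ)))} : Set (MvPolynomial (Fin 2) k)))) ↔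
    Polynomial.resultant (∑ i : Fin 3, Polynomial.C (q i) * Polynomial.X ^ (i : ℕ))
      (∑ j : Fin (n + 1), Polynomial.C (ξ j) * Polynomial.X ^ (j : ℕ)) 2 n ≠ 0 := by
  classical
  set Q : Polynomial k := ∑ i : Fin 3, Polynomial.C (q i) * Polynomial.X ^ (i : ℕ) with hQ
  set Z : Polynomial k := ∑ j : Fin (n + 1), Polynomial.C (ξ j) * Polynomial.X ^ (j : ℕ) with hZ
  let Q' : Polynomial k := ∑ i : Fin 3, Polynomial.C (q i) * Polynomial.X ^ (2 - (i : ℕ))
  let Z' : Polynomial k := ∑ j : Fin (n + 1), Polynomial.C (ξ j) * Polynomial.X ^ (n - (j : ℕ))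
  have hQi : ∀ i : Fin 3, Q.coeff i = q i := fun i => by
    simp [hQ, Polynomial.finsetSum_coeff, Polynomial.coeff_X_pow, Fin.val_inj]
  have hZi : ∀ j : Fin (n + 1), Z.coeff j = ξ j := fun j => by
    simp [hZ, Polynomial.finsetSum_coeff, Polynomial.coeff_X_pow, Fin.val_inj]
  have hne : Q ≠ 0 ∨ Z ≠ 0 := hqξ.imp
    (fun h e => h (funext fun i => by rw [← hQi i, e, Polynomial.coeff_zero]; rfl))
    (fun h e => h (funext fun i => by rw [← hZi i, e, Polynomial.coeff_zero]; rfl))
  have hQ'i : ∀ i : Fin 3, Q'.coeff (2 - i) = q i := fun i => by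
    simp only [Q', Polynomial.finsetSum_coeff, Polynomial.coeff_C_mul, Polynomial.coeff_X_pow]
    rw [Finset.sum_eq_single i (fun j _ hj => by
      rw [if_neg (fun h => hj (Fin.ext (by omega))), mul_zero]) (by simp)]
    simp
  have hZ'i : ∀ i : Fin (n + 1), Z'.coeff (n - i) = ξ i := fun i => by
    simp only [Z', Polynomial.finsetSum_coeff, Polynomial.coeff_C_mul, Polynomial.coeff_X_pow]
    rw [Finset.sum_eq_single i (fun j _ hj => by
      rw [if_neg (fun h => hj (Fin.ext (by omega))), mul_zero]) (by simp)]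
    simp
  have hne' : Q' ≠ 0 ∨ Z' ≠ 0 := hqξ.imp
    (fun h e => h (funext fun i => by rw [← hQ'i i, e, Polynomial.coeff_zero]; rfl))
    (fun h e => h (funext fun i => by rw [← hZ'i i, e, Polynomial.coeff_zero]; rfl))
  have e1 := eqn_sum q ξ (fun i => (i : ℕ)) (fun j => (j : ℕ))
  have e2 := eqn_sum ξ q (fun j => (j : ℕ)) (fun i => (i : ℕ))
  have e3 := eqn_sum q ξ (fun i => 2 - (i : ℕ)) (fun j => n - (j : ℕ))
  have e4 := eqn_sum ξ q (fun j => n - (j : ℕ)) (fun i => 2 - (i : ℕ))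
  have e2' := e2.trans (add_comm _ _)
  have e4' := e4.trans (add_comm _ _)
  rw [← e1, ← e2', ← e3, ← e4', ← and_assoc, charts_iff _ _ hne, charts_iff _ _ hne',
    resultant_ne_zero_iff_coprime _ _ 2 n (by omega) (by omega)
      (Polynomial.natDegree_sum_le_of_forall_le _ _ fun i _ =>
        (Polynomial.natDegree_C_mul_X_pow_le _ _).trans (by omega))
      (Polynomial.natDegree_sum_le_of_forall_le _ _ fun i _ =>
        (Polynomial.natDegree_C_mul_X_pow_le _ _).trans (by omega)),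
    ← coprime_iff_noRoot _ _ hne, and_comm]
  refine and_congr_left fun hcop => ?_
  have hQ2 : Q.coeff 2 = q 2 := hQi 2
  have hZn : Z.coeff n = ξ (Fin.last n) := hZi (Fin.last n)
  rw [hQ2, hZn]
  have hzeroQ : Polynomial.aeval (0 : AlgebraicClosure k) Q' = algebraMap k _ (q 2) := by
    rw [Polynomial.aeval_def, Polynomial.eval₂_at_zero, ← hQ'i 2]; rfl
  have hzeroZ : Polynomial.aeval (0 : AlgebraicClosure k) Z' = algebraMap k _ (ξ (Fin.last n)) := by
    rw [Polynomial.aeval_def, Polynomial.eval₂_at_zero, ← hZ'i (Fin.last n), Fin.val_last, Nat.sub_self]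
  have hinj := (algebraMap k (AlgebraicClosure k)).injective
  constructor
  · rintro h ⟨hq, hx⟩
    exact h 0 ⟨by rw [hzeroQ, hq, map_zero], by rw [hzeroZ, hx, map_zero]⟩
  · rintro h a ⟨hQa, hZa⟩
    rcases eq_or_ne a 0 with rfl | ha
    · rw [hzeroQ] at hQa; rw [hzeroZ] at hZa
      exact h ⟨(map_eq_zero _).1 hQa, (map_eq_zero _).1 hZa⟩
    · have hrev : ∀ (m : ℕ) (c : Fin (m + 1) → k),
          Polynomial.aeval a (∑ i, Polynomial.C (c i) * Polynomial.X ^ (m - (i : ℕ))) = 0 →
          Polynomial.aeval a⁻¹ (∑ i, Polynomial.C (c i) * Polynomial.X ^ (i : ℕ)) = 0 := by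
        intro m c hc
        simp only [map_sum, map_mul, Polynomial.aeval_C, map_pow, Polynomial.aeval_X] at hc ⊢
        refine (mul_eq_zero.1 ?_).resolve_left (pow_ne_zero m ha)
        rw [Finset.mul_sum, ← hc]
        refine Finset.sum_congr rfl fun i _ => ?_
        rw [mul_left_comm, pow_sub₀ a ha (Nat.le_of_lt_succ i.2), inv_pow]
      exact (coprime_iff_noRoot _ _ hne).1 hcop a⁻¹ ⟨hrev 2 q hQa, hrev n ξ hZa⟩

end Groth.Agent.S19185
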