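import Groth.Statements.S19186
import Mathlib

set_option autoImplicit false
universe u
open OneMot

namespace Groth.Agent.S19186

/-- Let p and ℓ be distinct prime numbers, r and n natural numbers, and f : A → B a homomorphism of
abelian groups whose kernel and cokernel are annihilated by p^r (f a = 0 implies p^r • a = 0, and
every p^r • b lies in the image of f). Then f induces a bijection between the ℓ^n-torsion subgroups
of A and B and a bijection A/ℓ^n A → B/ℓ^n B. Spelled out without quotients: every ℓ^n-torsion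
element of B has exactly one ℓ^n-torsion preimage; an element of A whose image is an ℓ^n-multiple is
itself an ℓ^n-multiple; and every element of B is the sum of an image and an ℓ^n-multiple. -/
theorem result {A B : Type u} [AddCommGroup A] [AddCommGroup B] (f : A →+ B) (p ℓ r n : ℕ) (hp : p.Prime) (hl : ℓ.Prime) (hne : ℓ ≠ p) (hker : ∀ a : A, f a = 0 → p ^ r • a = 0) (hcoker : ∀ b : B, ∃ a : A, f a = p ^ r • b) : (∀ b : B, ℓ ^ n • b = 0 → ∃! a : A, ℓ ^ n • a = 0 ∧ f a = b) ∧ (∀ a : A, (∃ b' : B, f a = ℓ ^ n • b') → ∃ a' : A, a = ℓ ^ n • a') ∧ (∀ b : B, ∃ (a : A) (b' : B), b = f a + ℓ ^ n • b') := by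
  obtain ⟨x, y, hxy⟩ : IsCoprime ((p : ℤ) ^ r) ((ℓ : ℤ) ^ n) := by
    have := (Nat.coprime_primes hp hl).2 hne.symm
    exact ((Nat.isCoprime_iff_coprime).2 this).pow
  have key : ∀ {C : Type u} [AddCommGroup C] (c : C),
      x • (p ^ r • c) + y • (ℓ ^ n • c) = c := by
    intro C _ c
    rw [← natCast_zsmul, ← natCast_zsmul, smul_smul, smul_smul, ← add_smul]
    push_cast
    rw [hxy, one_smul]
  refine ⟨?_, ?_, ?_⟩
  · intro b hb
    obtain ⟨a₀, ha₀⟩ := hcoker b
    have hb' : x • (p ^ r • b) = b := by simpa [hb] using key b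
    have h1 : p ^ r • (ℓ ^ n • a₀) = 0 := hker _ (by simp [ha₀, smul_comm (ℓ ^ n) (p ^ r), hb])
    refine ⟨x • (x • (p ^ r • a₀)), ⟨?_, ?_⟩, ?_⟩
    · rw [smul_comm (ℓ ^ n) x, smul_comm (ℓ ^ n) x, smul_comm (ℓ ^ n) (p ^ r), h1, smul_zero, smul_zero]
    · rw [map_zsmul, map_zsmul, map_nsmul, ha₀]
      rw [smul_comm x (p ^ r) (p ^ r • b), hb', hb']
    · rintro a ⟨ha, rfl⟩
      have h2 : p ^ r • (a - x • (x • (p ^ r • a₀))) = 0 := by
        apply hker
        rw [map_sub, map_zsmul, map_zsmul, map_nsmul, ha₀, smul_comm x (p ^ r) (p ^ r • f a), hb', hb', sub_self]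
      have h3 : ℓ ^ n • (a - x • (x • (p ^ r • a₀))) = 0 := by
        rw [smul_sub, ha, smul_comm (ℓ ^ n) x, smul_comm (ℓ ^ n) x, smul_comm (ℓ ^ n) (p ^ r), h1, smul_zero, smul_zero, sub_zero]
      simpa [h2, h3, sub_eq_zero, eq_comm] using key (a - x • (x • (p ^ r • a₀)))
  · rintro a ⟨b', hb'⟩
    obtain ⟨a₀, ha₀⟩ := hcoker b'
    have h0 : p ^ r • (p ^ r • a - ℓ ^ n • a₀) = 0 := hker _ (by
      rw [map_sub, map_nsmul, map_nsmul, ha₀, hb', smul_comm, sub_self])
    rw [smul_sub, sub_eq_zero] at h0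
    refine ⟨x • x • (p ^ r • a₀) + (y • a + x • y • (p ^ r • a)), ?_⟩
    conv_lhs => rw [← key a]
    conv_lhs => arg 1; rw [← key (p ^ r • a), h0]
    simp only [smul_add, smul_comm (ℓ ^ n) (p ^ r), smul_comm (ℓ ^ n) x, smul_comm (ℓ ^ n) y]
    abel
  · intro b
    obtain ⟨a, ha⟩ := hcoker b
    refine ⟨x • a, y • b, ?_⟩
    rw [map_zsmul, ha, smul_comm (ℓ ^ n) y, key]

end Groth.Agent.S19186
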