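import Groth.Statements.S19187
-- import your own Groth.Agent.* helpers here

set_option autoImplicit false
universe u
open Cpct

namespace Groth.Agent.S19187

open CategoryTheory AlgebraicGeometry in
/-- Let k be a field, X̄ and Ȳ schemes proper over Spec k, j : X → X̄ an open immersion with dense image
and v : Y → Ȳ an open immersion (compactifications of X and Y), f : X → Y a proper morphism and f̄ :
X̄ → Ȳ a morphism over Spec k with f̄ ∘ j = v ∘ f. Then the preimage under f̄ of the open v(Y) is
the open j(X); equivalently, the complement of X in X̄ is the preimage of the complement of Y in Ȳ.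
(The base field k is arbitrary: no perfectness assumption is needed.) -/
theorem result {k : Type u} [Field k] {X Y Xb Yb : Scheme.{u}} (a : Xb ⟶ Spec (CommRingCat.of k)) (b : Yb ⟶ Spec (CommRingCat.of k)) [IsProper a] [IsProper b] (j : X ⟶ Xb) [IsOpenImmersion j] (hj : Dense (Set.range j.base)) (v : Y ⟶ Yb) [IsOpenImmersion v] (f : X ⟶ Y) [IsProper f] (fb : Xb ⟶ Yb) (hfb : fb ≫ b = a) (hsq : j ≫ fb = f ≫ v) : fb ⁻¹ᵁ v.opensRange = j.opensRange := by
  have : IsSeparated (fb ≫ b) := by rw [hfb]; infer_instance
  have : IsSeparated fb := IsSeparated.of_comp fb b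
  let l : X ⟶ Limits.pullback fb v := Limits.pullback.lift j f hsq
  have : IsProper (l ≫ Limits.pullback.snd fb v) := by rw [Limits.pullback.lift_snd]; infer_instance
  have : IsProper l := IsProper.of_comp l (Limits.pullback.snd fb v)
  have hclosed : IsClosed (Set.range l) := l.isClosedMap.isClosed_range
  have hl : ∀ q, Limits.pullback.fst fb v (l q) = j q := fun q => by
    rw [← Scheme.Hom.comp_apply, Limits.pullback.lift_fst]
  have hfst : ∀ p, Limits.pullback.fst fb v p ∈ Set.range j := by
    intro p
    by_contra hp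
    have hp' : p ∈ (Set.range l)ᶜ := by
      rintro ⟨q, rfl⟩
      exact hp ⟨q, (hl q).symm⟩
    have hopen : IsOpen (Limits.pullback.fst fb v '' (Set.range l)ᶜ) :=
      (Limits.pullback.fst fb v).isOpenEmbedding.isOpenMap _ hclosed.isOpen_compl
    obtain ⟨_, ⟨z, hz, rfl⟩, q, hq⟩ := hj.inter_open_nonempty _ hopen ⟨_, p, hp', rfl⟩
    exact hz ⟨q, (Limits.pullback.fst fb v).isOpenEmbedding.injective ((hl q).trans hq)⟩
  refine TopologicalSpace.Opens.ext (Set.ext fun x => ⟨fun hx => ?_, ?_⟩)
  · obtain ⟨y, hy⟩ := hx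
    obtain ⟨p, hp1, -⟩ := Scheme.Pullback.exists_preimage_pullback (f := fb) (g := v) x y hy.symm
    exact hp1 ▸ hfst p
  · rintro ⟨q, rfl⟩
    exact ⟨f q, by rw [← Scheme.Hom.comp_apply, ← hsq]; rfl⟩

end Groth.Agent.S19187
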