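import Groth.Statements.S19189
import Mathlib

set_option autoImplicit false
universe v u
open CategoryTheory CategoryTheory.Limits CategoryTheory.Pretriangulated CategoryTheory.Triangulated
open CohDer

namespace Groth.Agent.S19189
open CategoryTheory CategoryTheory.Limits CategoryTheory.Pretriangulated CategoryTheory.Triangulated

variable {C : Type u} [Category.{v} C] [Preadditive C]
    [HasZeroObject C] [HasShift C ℤ] [∀ n : ℤ, (shiftFunctor C n).Additive] [Pretriangulated C]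
    [IsTriangulated C]

/-- `p` splits. -/
def Splits {X : C} (p : X ⟶ X) : Prop :=
  ∃ (Y : C) (i : Y ⟶ X) (e : X ⟶ Y), i ≫ e = 𝟙 Y ∧ e ≫ i = p

omit [HasZeroObject C] [HasShift C ℤ] [∀ n : ℤ, (shiftFunctor C n).Additive] [Pretriangulated C] in
/-- Nearby idempotents split simultaneously. -/
lemma splits_of_sub_sq {X : C} {p q : X ⟶ X} (hp : p ≫ p = p) (hq : q ≫ q = q)
    (h : (p - q) ≫ (p - q) = 0) (hs : Splits q) : Splits p := by
  obtain ⟨Y, i, e, hie, hei⟩ := hs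
  let w : X ⟶ X := p + q - 𝟙 X
  simp only [Preadditive.comp_sub, Preadditive.sub_comp, hp, hq] at h
  have hww : w ≫ w = 𝟙 X := by
    have h' : q ≫ p = p + q - p ≫ q := by
      rw [← sub_eq_zero, ← neg_eq_zero, ← h]; abel
    simp only [w, Preadditive.comp_sub, Preadditive.sub_comp, Preadditive.comp_add,
      Preadditive.add_comp, hp, hq, Category.comp_id, Category.id_comp, h']
    abel
  have hwp : p ≫ w = w ≫ q := by
    simp only [w, Preadditive.comp_sub, Preadditive.sub_comp, Preadditive.comp_add,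
      Preadditive.add_comp, hp, hq, Category.comp_id, Category.id_comp]
    abel
  refine ⟨Y, i ≫ w, w ≫ e, ?_, ?_⟩
  · rw [Category.assoc, reassoc_of% hww, hie]
  · rw [Category.assoc, reassoc_of% hei, ← reassoc_of% hwp, hww, Category.comp_id]

/-- Idempotents of an extension split when the induced ones on both ends do. -/
lemma splits_of_triangle (T : Triangle C) (hT : T ∈ distTriang C) (p₁ : T.obj₁ ⟶ T.obj₁)
    (p₂ : T.obj₂ ⟶ T.obj₂) (p₃ : T.obj₃ ⟶ T.obj₃) (hp₂ : p₂ ≫ p₂ = p₂)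
    (c₁ : T.mor₁ ≫ p₂ = p₁ ≫ T.mor₁) (c₂ : T.mor₂ ≫ p₃ = p₂ ≫ T.mor₂)
    (c₃ : T.mor₃ ≫ p₁⟦(1 : ℤ)⟧' = p₃ ≫ T.mor₃)
    (h₁ : Splits p₁) (h₃ : Splits p₃) : Splits p₂ := by
  obtain ⟨Y₁, i₁, e₁, hie₁, hei₁⟩ := h₁
  obtain ⟨Y₃, i₃, e₃, hie₃, hei₃⟩ := h₃
  obtain ⟨Y₂, f, g, hY⟩ := distinguished_cocone_triangle₂ (i₃ ≫ T.mor₃ ≫ e₁⟦(1 : ℤ)⟧')
  obtain ⟨i₂, hi₁, hi₃⟩ := complete_distinguished_triangle_morphism₂ _ _ hY hT i₁ i₃ (by
    change (i₃ ≫ T.mor₃ ≫ e₁⟦(1 : ℤ)⟧') ≫ i₁⟦(1 : ℤ)⟧' = i₃ ≫ T.mor₃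
    rw [Category.assoc, Category.assoc, ← Functor.map_comp, hei₁, c₃, ← hei₃]
    simp only [Category.assoc, reassoc_of% hie₃])
  obtain ⟨e₂, he₁, he₃⟩ := complete_distinguished_triangle_morphism₂ _ _ hT hY e₁ e₃ (by
    change T.mor₃ ≫ e₁⟦(1 : ℤ)⟧' = e₃ ≫ i₃ ≫ T.mor₃ ≫ e₁⟦(1 : ℤ)⟧'
    rw [reassoc_of% hei₃, ← reassoc_of% c₃, ← Functor.map_comp, ← hei₁, Category.assoc, hie₁,
      Category.comp_id])
  change Y₂ ⟶ T.obj₂ at i₂
  change T.obj₂ ⟶ Y₂ at e₂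
  change f ≫ i₂ = i₁ ≫ T.mor₁ at hi₁
  change g ≫ i₃ = i₂ ≫ T.mor₂ at hi₃
  change T.mor₁ ≫ e₂ = e₁ ≫ f at he₁
  change T.mor₂ ≫ e₃ = e₂ ≫ g at he₃
  have hf : f ≫ i₂ ≫ e₂ = f := by
    rw [reassoc_of% hi₁, he₁, reassoc_of% hie₁]
  have hg : (i₂ ≫ e₂) ≫ g = g := by
    rw [Category.assoc, ← he₃, ← reassoc_of% hi₃, hie₃, Category.comp_id]
  let φ : Triangle.mk f g (i₃ ≫ T.mor₃ ≫ e₁⟦(1 : ℤ)⟧') ⟶
      Triangle.mk f g (i₃ ≫ T.mor₃ ≫ e₁⟦(1 : ℤ)⟧') :=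
    { hom₁ := 𝟙 _, hom₂ := i₂ ≫ e₂, hom₃ := 𝟙 _
      comm₁ := by change f ≫ i₂ ≫ e₂ = 𝟙 _ ≫ f; rw [hf, Category.id_comp]
      comm₂ := by change g ≫ 𝟙 _ = (i₂ ≫ e₂) ≫ g; rw [hg, Category.comp_id]
      comm₃ := by
        change (i₃ ≫ T.mor₃ ≫ e₁⟦(1 : ℤ)⟧') ≫ (𝟙 Y₁)⟦(1 : ℤ)⟧' = 𝟙 Y₃ ≫ (i₃ ≫ T.mor₃ ≫ e₁⟦(1 : ℤ)⟧')
        rw [CategoryTheory.Functor.map_id]
        exact (Category.comp_id _).trans (Category.id_comp _).symm }
  have : IsIso (i₂ ≫ e₂) := isIso₂_of_isIso₁₃ φ hY hY (IsIso.id _) (IsIso.id _)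
  let e : T.obj₂ ⟶ Y₂ := e₂ ≫ inv (i₂ ≫ e₂)
  have hie : i₂ ≫ e = 𝟙 _ := by rw [← Category.assoc, IsIso.hom_inv_id]
  have hfe : f ≫ inv (i₂ ≫ e₂) = f := by
    conv_lhs => rw [← hf]
    simp [← Category.assoc i₂]
  have hge : inv (i₂ ≫ e₂) ≫ g = g := by rw [IsIso.inv_comp_eq, hg]
  have hq : (e ≫ i₂) ≫ e ≫ i₂ = e ≫ i₂ := by
    rw [Category.assoc, reassoc_of% hie]
  refine splits_of_sub_sq hp₂ hq ?_ ⟨Y₂, i₂, e, hie, rfl⟩
  have hd₁ : T.mor₁ ≫ (p₂ - e ≫ i₂) = 0 := by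
    simp only [Preadditive.comp_sub, c₁, e, Category.assoc]
    rw [reassoc_of% he₁, reassoc_of% hfe, hi₁, ← Category.assoc, hei₁, sub_self]
  have hd₂ : (p₂ - e ≫ i₂) ≫ T.mor₂ = 0 := by
    simp only [Preadditive.sub_comp, ← c₂, e, Category.assoc]
    rw [← hi₃, reassoc_of% hge, ← reassoc_of% he₃, hei₃, sub_self]
  obtain ⟨a, ha⟩ := Triangle.coyoneda_exact₂ T hT _ hd₂
  conv_lhs => arg 1; rw [ha]
  rw [Category.assoc, hd₁, comp_zero]

/-- Idempotents of an object concentrated in a single degree split. -/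
lemma splits_of_pure (t : TStructure C) (a : ℤ) (X : C) (hl : t.IsLE X a) (hg : t.IsGE X a)
    (p : X ⟶ X) (hp : p ≫ p = p) : Splits p := by
  obtain ⟨Z, b, δ, hT⟩ := distinguished_cocone_triangle (𝟙 X - p)
  have hX1 : t.IsLE (X⟦(1 : ℤ)⟧) (a - 1) := t.isLE_shift X a 1 (a - 1) (by omega)
  have hZ : t.IsLE Z a :=
    t.isLE₂ _ (rot_of_distTriang _ hT) a hl (show t.IsLE (X⟦(1 : ℤ)⟧) a from t.isLE_of_le _ (a - 1) a (by omega))
  obtain ⟨L, Q, hL, hQ, u, π, d, hT'⟩ := t.exists_triangle Z (a - 1) a (by omega)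
  have hL' : t.IsLE L (a - 1) := ⟨hL⟩
  have hQ' : t.IsGE Q a := ⟨hQ⟩
  let e : X ⟶ Q := b ≫ π
  have h0 : (𝟙 X - p) ≫ p = 0 := by rw [Preadditive.sub_comp, Category.id_comp, hp, sub_self]
  obtain ⟨g, hg'⟩ := Triangle.yoneda_exact₂ _ hT p h0
  change Z ⟶ X at g
  change p = b ≫ g at hg'
  obtain ⟨i, hi⟩ := Triangle.yoneda_exact₂ _ hT' g
    (t.zero_of_isLE_of_isGE _ (a - 1) a (by omega) hL' hg)
  change Q ⟶ X at i
  change g = π ≫ i at hi
  have hei : e ≫ i = p := by rw [hg', hi, Category.assoc]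
  have hpe : p ≫ e = e := by
    have : (𝟙 X - p) ≫ b = 0 := comp_distTriang_mor_zero₁₂ _ hT
    rw [Preadditive.sub_comp, Category.id_comp, sub_eq_zero] at this
    exact (Category.assoc p b π).symm.trans (by rw [← this])
  have hcancel : ∀ φ : Q ⟶ Q, e ≫ φ = 0 → φ = 0 := by
    intro φ h
    obtain ⟨c, hc⟩ := Triangle.yoneda_exact₂ _ (rot_of_distTriang _ hT) (π ≫ φ)
      ((Category.assoc b π φ).symm.trans h)
    change π ≫ φ = δ ≫ c at hc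
    replace hc : π ≫ φ = 0 := hc.trans ((congrArg (δ ≫ ·)
      (t.zero_of_isLE_of_isGE c (a - 1) a (by omega) hX1 hQ')).trans comp_zero)
    obtain ⟨c', hc'⟩ := Triangle.yoneda_exact₂ _ (rot_of_distTriang _ hT') φ hc
    change φ = d ≫ c' at hc'
    exact hc'.trans ((congrArg (d ≫ ·) (t.zero_of_isLE_of_isGE c' (a - 2) a (by omega)
      (t.isLE_shift L (a - 1) 1 (a - 2) (by omega)) hQ')).trans comp_zero)
  refine ⟨Q, i, e, ?_, hei⟩
  rw [← sub_eq_zero]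
  apply hcancel
  rw [Preadditive.comp_sub, reassoc_of% hei, hpe, Category.comp_id, sub_self]

/-- Idempotents of bounded objects split. -/
lemma splits_of_bounded (t : TStructure C) : ∀ (n : ℕ) (a : ℤ) (X : C), t.IsGE X a →
    t.IsLE X (a + n) → ∀ p : X ⟶ X, p ≫ p = p → Splits p := by
  intro n
  induction n with
  | zero => intro a X hg hl p hp; exact splits_of_pure t a X (by simpa using hl) hg p hp
  | succ n ih =>
    intro a X hg hl p hp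
    obtain ⟨X₁, X₃, h₁, h₃, f, g, δ, hT⟩ :=
      t.exists_triangle X (a + n) (a + n + 1) rfl
    have h₁' : t.IsLE X₁ (a + n) := ⟨h₁⟩
    have h₃' : t.IsGE X₃ (a + n + 1) := ⟨h₃⟩
    have hs : t.IsGE (X₃⟦(-1 : ℤ)⟧) (a + n + 2) := t.isGE_shift X₃ (a + n + 1) (-1) _ (by omega)
    have hg₁ : t.IsGE X₁ a :=
      t.isGE₂ _ (inv_rot_of_distTriang _ hT) a (show t.IsGE (X₃⟦(-1 : ℤ)⟧) a from t.isGE_of_ge _ a (a + n + 2) (by omega)) hg
    have hl₃ : t.IsLE X₃ (a + n + 1) := by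
      have hl' : t.IsLE X (a + n + 1) := by
        rw [show a + (n : ℤ) + 1 = a + ((n + 1 : ℕ) : ℤ) by omega]; exact hl
      exact t.isLE₂ _ (rot_of_distTriang _ hT) _ hl'
        (by
          have := t.isLE_shift X₁ (a + n) 1 (a + n - 1) (by omega)
          exact t.isLE_of_le (X₁⟦(1 : ℤ)⟧) (a + n - 1) (a + n + 1) (by omega))
    obtain ⟨p₁, hp₁⟩ := Triangle.coyoneda_exact₂ _ hT (f ≫ p)
      (t.zero_of_isLE_of_isGE _ (a + n) (a + n + 1) (by omega) h₁' h₃')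
    change X₁ ⟶ X₁ at p₁
    change f ≫ p = p₁ ≫ f at hp₁
    have uniq₁ : ∀ φ : X₁ ⟶ X₁, φ ≫ f = 0 → φ = 0 := by
      intro φ h
      obtain ⟨c, hc⟩ := Triangle.coyoneda_exact₂ _ (inv_rot_of_distTriang _ hT) φ h
      try dsimp at c hc
      exact hc.trans ((congrArg (fun t => t ≫ _)
        (t.zero_of_isLE_of_isGE c (a + n) (a + n + 2) (by omega) h₁' hs)).trans Limits.zero_comp)
    obtain ⟨p₃, hc₂, hc₃⟩ := complete_distinguished_triangle_morphism _ _ hT hT p₁ p hp₁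
    change X₃ ⟶ X₃ at p₃
    change g ≫ p₃ = p ≫ g at hc₂
    change δ ≫ p₁⟦(1 : ℤ)⟧' = p₃ ≫ δ at hc₃
    have uniq₃ : ∀ φ : X₃ ⟶ X₃, g ≫ φ = 0 → φ = 0 := by
      intro φ h
      obtain ⟨c, hc⟩ := Triangle.yoneda_exact₂ _ (rot_of_distTriang _ hT) φ h
      try dsimp at c hc
      exact hc.trans ((congrArg (fun t => _ ≫ t)
        (t.zero_of_isLE_of_isGE c (a + n - 1) (a + n + 1) (by omega)
          (t.isLE_shift X₁ (a + n) 1 (a + n - 1) (by omega)) h₃')).trans Limits.comp_zero)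
    have e₁ : p₁ ≫ p₁ = p₁ := by
      rw [← sub_eq_zero]
      apply uniq₁
      rw [Preadditive.sub_comp, Category.assoc, ← hp₁, ← Category.assoc, ← hp₁, Category.assoc, hp,
        sub_self]
    have e₃ : p₃ ≫ p₃ = p₃ := by
      rw [← sub_eq_zero]
      apply uniq₃
      rw [Preadditive.comp_sub, reassoc_of% hc₂, hc₂, reassoc_of% hp, sub_self]
    have s₃ : Splits p₃ := splits_of_pure t (a + n + 1) X₃ hl₃ h₃' p₃ e₃
    exact splits_of_triangle _ hT p₁ p p₃ hp hp₁ hc₂ hc₃ (ih a X₁ hg₁ h₁' p₁ e₁) s₃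


/-- Let `C` be a triangulated category (octahedron axiom included) and `t` a t-structure on `C` which is
bounded, i.e. every object of `C` is both `≥ a` and `≤ b` for some integers `a`, `b`. Then `C` is
idempotent complete (Karoubian): every idempotent endomorphism `p = p ≫ p` of an object splits as `p
= e ≫ i` with `i ≫ e = 𝟙`. -/
theorem result {C : Type u} [Category.{v} C] [Preadditive C]
    [HasZeroObject C] [HasShift C ℤ] [∀ n : ℤ, (shiftFunctor C n).Additive] [Pretriangulated C]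
    [IsTriangulated C] (t : TStructure C) (hb : ∀ X : C, t.bounded X) :
    IsIdempotentComplete C := by
  refine ⟨fun X p hp => ?_⟩
  obtain ⟨⟨a, ha⟩, b, hb'⟩ := hb X
  exact splits_of_bounded t (b - a).toNat a X ha
    (t.isLE_of_le X b (a + (b - a).toNat) (by omega)) p hp

end Groth.Agent.S19189
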