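import Groth.Statements.S19190
-- import your own Groth.Agent.* helpers here

set_option autoImplicit false
universe w v u v' u'
open CategoryTheory CategoryTheory.Limits CategoryTheory.Pretriangulated CategoryTheory.Triangulated
open CohDer

namespace Groth.Agent.S19190
open CategoryTheory CategoryTheory.Limits CategoryTheory.Pretriangulated ZeroObject

variable {A : Type w} [CommRing A] (S : Submonoid A)
    {T : Type u} [Category.{v} T] [Preadditive T] [Linear A T] [HasZeroObject T] [HasShift T ℤ]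
    [∀ n : ℤ, (shiftFunctor T n).Additive] [∀ n : ℤ, (shiftFunctor T n).Linear A]
    [Pretriangulated T]

/-- Objects killed by an element of `S`. -/
def killed : ObjectProperty T := fun Z => ∃ f ∈ S, f • 𝟙 Z = 0

omit [HasZeroObject T] [HasShift T ℤ] [∀ n : ℤ, (shiftFunctor T n).Additive] [∀ n : ℤ, (shiftFunctor T n).Linear A] [Pretriangulated T] in
lemma killed_retract {X Y : T} (r : Retract X Y) (h : killed S Y) : killed S X := by
  obtain ⟨f, hf, h0⟩ := h
  refine ⟨f, hf, ?_⟩
  calc f • 𝟙 X = r.i ≫ (f • 𝟙 Y) ≫ r.r := by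
        rw [Linear.smul_comp, Category.id_comp, Linear.comp_smul, r.retract]
    _ = 0 := by rw [h0, zero_comp, comp_zero]

omit [HasZeroObject T] [HasShift T ℤ] [∀ n : ℤ, (shiftFunctor T n).Additive] [∀ n : ℤ, (shiftFunctor T n).Linear A] [Pretriangulated T] in
lemma killed_iso : (killed (T := T) S).IsClosedUnderIsomorphisms :=
  ⟨fun {X Y} e h => killed_retract S ⟨e.inv, e.hom, e.inv_hom_id⟩ h⟩

omit [HasZeroObject T] [HasShift T ℤ] [∀ n : ℤ, (shiftFunctor T n).Additive] [∀ n : ℤ, (shiftFunctor T n).Linear A] [Pretriangulated T] in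
lemma killed_stableRetracts : (killed (T := T) S).IsStableUnderRetracts :=
  ⟨fun r h => killed_retract S r h⟩

lemma killed_triangulated : (killed (T := T) S).IsTriangulated := by
  have h0 : (killed (T := T) S).ContainsZero :=
    ⟨⟨0, isZero_zero T, 1, S.one_mem, (isZero_zero T).eq_of_src _ _⟩⟩
  have h1 : (killed (T := T) S).IsStableUnderShift ℤ := by
    refine ⟨fun a => ⟨fun X hX => ?_⟩⟩
    obtain ⟨f, hf, h⟩ := hX
    refine ⟨f, hf, ?_⟩
    rw [← CategoryTheory.Functor.map_id, ← Functor.map_smul, h, Functor.map_zero]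
  have h2 : (killed (T := T) S).IsTriangulatedClosed₂ := by
    refine ⟨fun Δ hΔ ⟨f, hf, hf0⟩ ⟨g, hg, hg0⟩ => ObjectProperty.le_isoClosure _ _ ?_⟩
    obtain ⟨a, ha⟩ := Triangle.coyoneda_exact₂ Δ hΔ (g • 𝟙 Δ.obj₂) (by
      rw [Linear.smul_comp, Category.id_comp, ← Category.comp_id Δ.mor₂, ← Linear.comp_smul, hg0,
        comp_zero])
    refine ⟨f * g, S.mul_mem hf hg, ?_⟩
    rw [mul_smul, ha, ← Linear.comp_smul, ← Category.id_comp Δ.mor₁, ← Linear.smul_comp, hf0,
      zero_comp, comp_zero]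
  exact {}

lemma killed_cone {X : T} {f : A} (hf : f ∈ S) {Z : T} {g : X ⟶ Z} {h : Z ⟶ X⟦(1 : ℤ)⟧}
    (hΔ : Triangle.mk (f • 𝟙 X) g h ∈ distTriang T) : killed S Z := by
  have h1 : (f • 𝟙 X) ≫ g = 0 := comp_distTriang_mor_zero₁₂ _ hΔ
  have h2 : h ≫ (f • 𝟙 X)⟦(1 : ℤ)⟧' = 0 := comp_distTriang_mor_zero₃₁ _ hΔ
  rw [Linear.smul_comp, Category.id_comp] at h1
  rw [Functor.map_smul, CategoryTheory.Functor.map_id, Linear.comp_smul, Category.comp_id] at h2
  obtain ⟨a, ha⟩ := Triangle.yoneda_exact₂ _ (rot_of_distTriang _ hΔ) (f • 𝟙 Z) (by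
    change g ≫ (f • 𝟙 Z) = 0
    rw [Linear.comp_smul, Category.comp_id, h1])
  change f • 𝟙 Z = h ≫ a at ha
  refine ⟨f * f, S.mul_mem hf hf, ?_⟩
  rw [mul_smul, ha, ← Linear.smul_comp, h2, zero_comp]

lemma exists_pre {X' X : T} {s : X' ⟶ X} {U : ObjectProperty T} (hU : U ≤ killed S) (hs : U.trW s) :
    ∃ f ∈ S, ∃ a : X ⟶ X', f • 𝟙 X = a ≫ s := by
  obtain ⟨Z, π, δ, hΔ, hZ⟩ := hs
  obtain ⟨f, hf, h0⟩ := hU _ hZ
  refine ⟨f, hf, ?_⟩
  exact Triangle.coyoneda_exact₂ _ hΔ (f • 𝟙 X) (by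
    change (f • 𝟙 X) ≫ π = 0
    rw [Linear.smul_comp, Category.id_comp, ← Category.comp_id π, ← Linear.comp_smul, h0, comp_zero])


/-- Let `A` be a commutative ring, `S` a multiplicative subset of `A` and `T` an `A`-linear triangulated
category (octahedron axiom included; the shift functors are `A`-linear). Call an object of `T`
`S`-torsion when it lies in the smallest thick subcategory `U` of `T` (a property of objects
containing zero, stable under shifts, extensions, isomorphisms and direct factors) containing every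
cone of an endomorphism `f • 𝟙 X` with `f ∈ S`. Let `Q : T ⥤ E` exhibit `E` as the localization of
`T` at the morphisms whose cone lies in `U` (the Verdier quotient `T/U`), where `E` is preadditive
and `A`-linear and `Q` is `A`-linear. Then for all objects `X`, `Y` of `T` the `A`-linear map
`Hom_T(X, Y) → Hom_E(Q X, Q Y)` given by `Q` exhibits its target as the localization of `Hom_T(X,
Y)` at `S`. Since `Q` is essentially surjective, this says that the comparison functor from `T/U` to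
the category having the objects of `T` and morphism modules `Hom_T(X, Y) ⊗_A S⁻¹A` is an
equivalence. -/
theorem result
    {A : Type w} [CommRing A] (S : Submonoid A)
    {T : Type u} [Category.{v} T] [Preadditive T] [Linear A T] [HasZeroObject T] [HasShift T ℤ]
    [∀ n : ℤ, (shiftFunctor T n).Additive] [∀ n : ℤ, (shiftFunctor T n).Linear A]
    [Pretriangulated T] [IsTriangulated T]
    (U : ObjectProperty T) [U.IsTriangulated] [U.IsClosedUnderIsomorphisms] [U.IsStableUnderRetracts]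
    (hU : ∀ (X : T) (f : A), f ∈ S → ∀ (Z : T) (g : X ⟶ Z) (h : Z ⟶ X⟦(1 : ℤ)⟧),
      Triangle.mk (f • 𝟙 X) g h ∈ distTriang T → U Z)
    (hmin : ∀ (U' : ObjectProperty T) [U'.IsTriangulated] [U'.IsClosedUnderIsomorphisms]
      [U'.IsStableUnderRetracts],
      (∀ (X : T) (f : A), f ∈ S → ∀ (Z : T) (g : X ⟶ Z) (h : Z ⟶ X⟦(1 : ℤ)⟧),
        Triangle.mk (f • 𝟙 X) g h ∈ distTriang T → U' Z) → U ≤ U')
    {E : Type u'} [Category.{v'} E] [Preadditive E] [Linear A E]
    (Q : T ⥤ E) [Q.Additive] [Q.Linear A] [Q.IsLocalization U.trW] (X Y : T) :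
    IsLocalizedModule S (Q.mapLinearMap A : (X ⟶ Y) →ₗ[A] (Q.obj X ⟶ Q.obj Y)) := by
  have hkill : U ≤ killed S := by
    have := killed_triangulated (A := A) (T := T) S
    have := killed_iso (A := A) (T := T) S
    have := killed_stableRetracts (A := A) (T := T) S
    exact hmin _ fun X f hf Z g h hΔ => killed_cone S hf hΔ
  have hW : ∀ (f : A), f ∈ S → ∀ (Z : T), U.trW (f • 𝟙 Z) := by
    intro f hf Z
    obtain ⟨Z', g, h, hΔ⟩ := distinguished_cocone_triangle (f • 𝟙 Z)
    exact ⟨Z', g, h, hΔ, hU Z f hf Z' g h hΔ⟩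
  have hiso : ∀ (f : A), f ∈ S → ∀ (Z : T), IsIso (f • 𝟙 (Q.obj Z)) := by
    intro f hf Z
    rw [← CategoryTheory.Functor.map_id, ← Functor.map_smul]
    exact Localization.inverts Q U.trW _ (hW f hf Z)
  refine ⟨fun f => ?_, fun φ => ?_, fun {x₁ x₂} h => ?_⟩
  · have := hiso f.1 f.2 Y
    refine (Module.End.isUnit_iff _).2 ⟨fun a b h => ?_, fun b => ⟨b ≫ inv ((f : A) • 𝟙 (Q.obj Y)), ?_⟩⟩
    · rw [← cancel_mono ((f : A) • 𝟙 (Q.obj Y))]
      simpa [Module.algebraMap_end_apply] using h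
    · change (f : A) • (b ≫ inv ((f : A) • 𝟙 (Q.obj Y))) = b
      rw [← Category.comp_id (b ≫ inv ((f : A) • 𝟙 (Q.obj Y))), ← Linear.comp_smul, Category.assoc,
        IsIso.inv_hom_id, Category.comp_id]
  · obtain ⟨ψ, hψ⟩ := Localization.exists_rightFraction Q U.trW φ
    obtain ⟨f, hf, a, ha⟩ := exists_pre S hkill ψ.hs
    refine ⟨⟨a ≫ ψ.f, ⟨f, hf⟩⟩, ?_⟩
    change f • φ = Q.map (a ≫ ψ.f)
    rw [Q.map_comp, ← MorphismProperty.RightFraction.map_s_comp_map ψ Q (Localization.inverts Q U.trW),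
      ← hψ, ← Category.assoc, ← Q.map_comp, ← ha, Functor.map_smul, CategoryTheory.Functor.map_id,
      Linear.smul_comp, Category.id_comp]
  · change Q.map x₁ = Q.map x₂ at h
    rw [MorphismProperty.map_eq_iff_precomp Q U.trW] at h
    obtain ⟨X', s, hs, eq⟩ := h
    obtain ⟨f, hf, a, ha⟩ := exists_pre S hkill hs
    refine ⟨⟨f, hf⟩, ?_⟩
    change f • x₁ = f • x₂
    rw [← Category.id_comp x₁, ← Category.id_comp x₂, ← Linear.smul_comp, ← Linear.smul_comp, ha,
      Category.assoc, Category.assoc, eq]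

end Groth.Agent.S19190
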