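import Groth.Statements.S6604
import Groth.Agent.DerivedCoh.LocKernel

set_option autoImplicit false
universe v u v' u'
open CategoryTheory CategoryTheory.Limits
open CohDer

namespace Groth.Agent.S6604
open CategoryTheory.Limits CategoryTheory.Pretriangulated ZeroObject

/-- Let D be a triangulated category, B a full triangulated subcategory and Q : D → D/B the quotient
functor. Q sends an object Z of D to zero (Q(Z) = 0, i.e. Z belongs to the kernel of Q) exactly
when, for a suitable object Z' of D, the direct sum Z ⊞ Z' is isomorphic to some object lying in B;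
put differently, the kernel is the smallest saturated, strictly full triangulated subcategory that
contains B. -/
theorem result {D : Type u} [Category.{v} D] [Preadditive D] [HasZeroObject D] [HasShift D ℤ]
    [∀ n : ℤ, (shiftFunctor D n).Additive] [Pretriangulated D] [IsTriangulated D]
    (B : ObjectProperty D) [B.IsTriangulated]
    {E : Type u'} [Category.{v'} E] (Q : D ⥤ E) [Q.IsLocalization B.trW] (Z : D) :
    IsZero (Q.obj Z) ↔ ∃ (Z' Y : D), B Y ∧ Nonempty (Z ⊞ Z' ≅ Y) := by
  rw [Groth.DerivedCoh.LocKernel.isZero_iff B.trW Q Z]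
  constructor
  · intro hZ
    obtain ⟨Z', X, Y, f, g, h, hT, hf⟩ :=
      (Groth.DerivedCoh.LocKernel.isZero_Q_iff_triangle B.trW Z).1 hZ
    obtain ⟨C, g', h', hT', hC⟩ := (B.trW_iff f).1 hf
    let e := isoTriangleOfIso₁₂ (Triangle.mk f g h) (Triangle.mk f g' h') hT hT' (Iso.refl _)
      (Iso.refl _) ((Category.comp_id _).trans (Category.id_comp _).symm)
    exact ⟨Z', C, hC, ⟨Triangle.π₃.mapIso e⟩⟩
  · rintro ⟨Z', Y, hY, ⟨e⟩⟩
    have hY0 : IsZero (B.trW.Q.obj Y) :=
      Groth.DerivedCoh.LocKernel.isZero_obj₃ B.trW (Triangle.mk (0 : 0 ⟶ Y) (𝟙 Y) 0)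
        (contractible_distinguished₁ Y) (ObjectProperty.trW.mk B (contractible_distinguished₁ Y) hY)
    exact Groth.DerivedCoh.LocKernel.isZero_biprod_left B.trW
      (hY0.of_iso (B.trW.Q.mapIso e))

end Groth.Agent.S6604
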