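import Groth.Statements.S19191
import Groth.Agent.S6604

set_option autoImplicit false
universe w v u v' u'
open CategoryTheory CategoryTheory.Limits CategoryTheory.Pretriangulated CategoryTheory.Triangulated
open CohDer

namespace Groth.Agent.S19191

/-- Let `A` be a commutative ring, `T` an `A`-linear triangulated category (octahedron axiom included;
shift functors `A`-linear), `U` a thick subcategory of `T` (a property of objects containing zero,
stable under shifts, extensions, isomorphisms and direct factors), and `Q : T ⥤ E` a localization of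
`T` at the morphisms whose cone lies in `U` (the Verdier quotient `T/U`), where `E` is preadditive
and `A`-linear and `Q` is `A`-linear. For an object `X` of `T` the following two conditions are
equivalent: (i) `X` lies in `U`; (ii) for every maximal ideal `m` of `A` the image of `X` in the
category obtained from `T/U` by tensoring the morphism modules with `A_m` is zero, i.e. some element
of `A` outside `m` annihilates the identity of `Q X`. (The published statement also lists a third
equivalent condition, phrased with idempotent completions of the localized categories; it is not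
asserted here.) -/
theorem result
    {A : Type w} [CommRing A]
    {T : Type u} [Category.{v} T] [Preadditive T] [Linear A T] [HasZeroObject T] [HasShift T ℤ]
    [∀ n : ℤ, (shiftFunctor T n).Additive] [∀ n : ℤ, (shiftFunctor T n).Linear A]
    [Pretriangulated T] [IsTriangulated T]
    (U : ObjectProperty T) [U.IsTriangulated] [U.IsClosedUnderIsomorphisms] [U.IsStableUnderRetracts]
    {E : Type u'} [Category.{v'} E] [Preadditive E] [Linear A E]
    (Q : T ⥤ E) [Q.Additive] [Q.Linear A] [Q.IsLocalization U.trW] (X : T) :
    U X ↔ ∀ m : Ideal A, m.IsMaximal → ∃ s : A, s ∉ m ∧ s • 𝟙 (Q.obj X) = 0 := by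
  constructor
  · intro hX m hm
    refine ⟨1, fun h => hm.ne_top ((Ideal.eq_top_iff_one m).2 h), ?_⟩
    have h0 : IsZero (Q.obj X) := by
      rw [Groth.Agent.S6604.result U Q X]
      obtain ⟨Z, hZ⟩ := HasZeroObject.zero (C := T)
      exact ⟨Z, X, hX, ⟨(isoBiprodZero hZ).symm⟩⟩
    rw [one_smul]
    exact h0.eq_of_src _ _
  · intro h
    have hann : ∀ m : Ideal A, m.IsMaximal → ¬ LinearMap.ker (LinearMap.toSpanSingleton A (Q.obj X ⟶ Q.obj X) (𝟙 (Q.obj X))) ≤ m := fun m hm hle => by
      obtain ⟨s, hs, hs0⟩ := h m hm
      exact hs (hle (by simpa using hs0))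
    have htop : LinearMap.ker (LinearMap.toSpanSingleton A (Q.obj X ⟶ Q.obj X) (𝟙 (Q.obj X))) = ⊤ := by
      by_contra hne
      obtain ⟨m, hm, hle⟩ := Ideal.exists_le_maximal _ hne
      exact hann m hm hle
    have h1 : (1 : A) • 𝟙 (Q.obj X) = 0 := by
      have h1' : (1 : A) ∈ LinearMap.ker (LinearMap.toSpanSingleton A (Q.obj X ⟶ Q.obj X) (𝟙 (Q.obj X))) := htop ▸ Submodule.mem_top
      simpa using h1'
    have h0 : IsZero (Q.obj X) := by rwa [IsZero.iff_id_eq_zero, ← one_smul A (𝟙 (Q.obj X))]
    obtain ⟨Z', Y, hY, ⟨e⟩⟩ := (Groth.Agent.S6604.result U Q X).1 h0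
    exact U.prop_of_retract { i := biprod.inl ≫ e.hom, r := e.inv ≫ biprod.fst } hY

end Groth.Agent.S19191
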