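import Groth.Statements.S19195
import Groth.Agent.RelS1H.Model
import Groth.Agent.FlatMorOne.FlatLocusOpen

set_option autoImplicit false
universe u
open TensorProduct
open RelS1

namespace Groth.Agent.S19195

/-- Let A be a commutative ring, B a finitely presented A-algebra and M a finitely presented B-module
which is flat over A. Suppose that for every prime p of A, with residue field κ(p), the fibre module
(B ⊗_A κ(p)) ⊗_B M over the fibre ring B ⊗_A κ(p) satisfies Serre's condition (S_1) in the form:
each of its associated primes is a minimal prime of its annihilator. Let a be an element of B whose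
image a ⊗ 1 in every fibre ring B ⊗_A κ(p) lies in no minimal prime of the annihilator of the fibre
module. Then a is a non-zero-divisor on M. (Since all hypotheses are preserved by base change of A
and by passing to affine opens, this expresses that a flat finitely presented sheaf with (S_1)
fibres is pure relative to the base after every base change. The published statement is an
equivalence for sheaves on a locally finitely presented morphism, quantified over all base changes;
this row states its direct implication in affine form.) -/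
theorem result (A B M : Type u) [CommRing A] [CommRing B] [Algebra A B]
    [Algebra.FinitePresentation A B] [AddCommGroup M] [Module B M] [Module A M]
    [IsScalarTower A B M] [Module.FinitePresentation B M] [Module.Flat A M]
    (hS1 : ∀ (p : Ideal A) [p.IsPrime],
      associatedPrimes (B ⊗[A] p.ResidueField) ((B ⊗[A] p.ResidueField) ⊗[B] M) ⊆
        (Module.annihilator (B ⊗[A] p.ResidueField) ((B ⊗[A] p.ResidueField) ⊗[B] M)).minimalPrimes)
    (a : B)
    (ha : ∀ (p : Ideal A) [p.IsPrime],
      ∀ P ∈ (Module.annihilator (B ⊗[A] p.ResidueField) ((B ⊗[A] p.ResidueField) ⊗[B] M)).minimalPrimes,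
        a ⊗ₜ[A] (1 : p.ResidueField) ∉ P) :
    IsSMulRegular M a := by
  classical
  obtain ⟨R₀, hR₀, S₀, _, _, _, hT, hS₀, hpush, M₀, _, _, _, _, _, _, f, hM₀, hf⟩ :=
    Groth.FlatMorOne.exists_models A B M
  haveI := hR₀
  haveI : IsNoetherianRing R₀ := Algebra.FiniteType.isNoetherianRing ℤ R₀
  haveI : Algebra.FiniteType R₀ S₀ := Algebra.FiniteType.of_finitePresentation
  haveI := hM₀
  haveI := hpush
  letI : ∀ (C : Type u) [CommRing C] [Algebra R₀ C], Algebra S₀ (C ⊗[R₀] S₀) :=
    fun C _ _ => Algebra.TensorProduct.rightAlgebra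
  obtain ⟨A₁, hA₁, hflat⟩ := Groth.FlatMorOne.exists_stage_flat_global (R₀ := R₀) (R := A) (S₀ := S₀) (S := B) hf
  obtain ⟨A₂, hA₂, y, hy⟩ :=
    Groth.FlatMorOne.exists_sMap_eq R₀ S₀ ((Groth.FlatMorOne.pushoutAlgEquiv R₀ A S₀ B).symm a)
  let A' : Subalgebra R₀ A := A₁ ⊔ A₂
  haveI : IsNoetherianRing A' := isNoetherianRing_of_fg (hA₁.sup hA₂)
  haveI := hflat A' (hA₁.sup hA₂) le_sup_left
  haveI : IsNoetherianRing (Groth.FlatMorOne.SOf R₀ S₀ A') := Algebra.FiniteType.isNoetherianRing A' _
  refine Groth.RelS1H.isSMulRegular_of_model (A' := A') (B' := Groth.FlatMorOne.SOf R₀ S₀ A')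
    (Groth.FlatMorOne.stageLinearMap (R₀ := R₀) (R := A) hf A')
    (Groth.FlatMorOne.isBaseChange_stageLinearMap (R₀ := R₀) (R := A) hf A')
    (Groth.FlatMorOne.stageAlgHom R₀ A S₀ B A').toRingHom (fun r => ?_)
    (Groth.FlatMorOne.stageLinearMap_smul (R₀ := R₀) (R := A) hf A') a
    (Groth.FlatMorOne.sMap R₀ S₀ (Subalgebra.inclusion (le_sup_right : A₂ ≤ A')) y) ?_ fun p _ =>
      Groth.RelS1H.rTensor_injective_of_forall_notMem p (hS1 p) a (ha p)
  · show Groth.FlatMorOne.pushoutAlgEquiv R₀ A S₀ B
      (Groth.FlatMorOne.sMap R₀ S₀ (IsScalarTower.toAlgHom R₀ A' A) (r ⊗ₜ[R₀] (1 : S₀))) = _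
    rw [Groth.FlatMorOne.sMap_tmul, Groth.FlatMorOne.pushoutAlgEquiv_tmul, map_one, mul_one]
    rfl
  · show Groth.FlatMorOne.pushoutAlgEquiv R₀ A S₀ B
      (Groth.FlatMorOne.sMap R₀ S₀ (IsScalarTower.toAlgHom R₀ A' A) (Groth.FlatMorOne.sMap R₀ S₀ _ y)) = a
    rw [Groth.FlatMorOne.sMap_sMap]
    exact (congrArg _ hy).trans (AlgEquiv.apply_symm_apply _ a)

end Groth.Agent.S19195
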