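import Groth.Statements.S19196
import Mathlib

set_option autoImplicit false
universe u
open RelS1

namespace Groth.Agent.S19196

/-- Let R be a Noetherian commutative ring and N a finitely generated R-module which fails Serre's
condition (S_1), in the sense that some associated prime of N is not a minimal prime of the
annihilator of N. Then there exist an element a of R lying in no minimal prime of the annihilator of
N and a nonzero element b of N with a • b = 0; thus the basic open set D(a) meets the support of N
densely while restriction to it is not injective on N. -/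
theorem result (R N : Type u) [CommRing R] [IsNoetherianRing R]
    [AddCommGroup N] [Module R N] [Module.Finite R N]
    (h : ¬ associatedPrimes R N ⊆ (Module.annihilator R N).minimalPrimes) :
    ∃ (a : R) (b : N), (∀ P ∈ (Module.annihilator R N).minimalPrimes, a ∉ P) ∧ b ≠ 0 ∧ a • b = 0 := by
  obtain ⟨P, hP, hPm⟩ := Set.not_subset.1 h
  obtain ⟨hPp, b, hb⟩ := (isAssociatedPrime_iff).1 hP
  have hfin := Ideal.finite_minimalPrimes_of_isNoetherianRing R (Module.annihilator R N)
  have hann : Module.annihilator R N ≤ P := by
    intro r hr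
    rw [hb, Submodule.mem_colon_singleton, Submodule.mem_bot]
    exact Module.mem_annihilator.1 hr b
  have hnot : ¬ ((P : Set R) ⊆ ⋃ Q ∈ hfin.toFinset, (Q : Set R)) := by
    intro hs
    obtain ⟨Q, hQ, hle⟩ := (Ideal.subset_union_prime ⊥ ⊥ (fun Q hQ _ _ =>
      (hfin.mem_toFinset.1 hQ).1.1)).1 hs
    rw [hfin.mem_toFinset] at hQ
    exact hPm (le_antisymm (hQ.2 ⟨hPp, hann⟩ hle) hle ▸ hQ)
  obtain ⟨a, haP, ha⟩ := Set.not_subset.1 hnot
  refine ⟨a, b, fun Q hQ haQ => ha (Set.mem_biUnion (hfin.mem_toFinset.2 hQ) haQ), ?_, ?_⟩
  · rintro rfl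
    apply hPp.ne_top
    rw [hb, Ideal.eq_top_iff_one, Submodule.mem_colon_singleton]
    simp
  · simpa [hb, Submodule.mem_colon_singleton] using haP

end Groth.Agent.S19196
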