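import Groth.Statements.S19197
import Mathlib
import Groth.Agent.Ega43FP2.PdLocal
-- import your own Groth.Agent.* helpers here

set_option autoImplicit false
universe u
open TensorProduct CategoryTheory
open RelS1

namespace Groth.Agent.S19197


/-- In affine form, let A be a commutative ring, B a finitely presented A-algebra which is flat over A,
and M a finitely presented B-module which is flat over A. For a prime P of B lying over the prime p
of A, let B_P/pB_P be the local ring of the fibre at P and M_P/pM_P = (B_P/pB_P) ⊗_B M the fibre
stalk module. Then the function sending P to the projective dimension of M_P/pM_P over B_P/pB_P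
(valued in WithBot ℕ∞, the zero module having dimension ⊥) is upper semicontinuous on Spec B: for
every bound, the set of P where the fibre projective dimension is below the bound is open. -/
theorem result (A B M : Type u) [CommRing A] [CommRing B] [Algebra A B]
    [Algebra.FinitePresentation A B] [Module.Flat A B] [AddCommGroup M] [Module B M] [Module A M]
    [IsScalarTower A B M] [Module.FinitePresentation B M] [Module.Flat A M] :
    UpperSemicontinuous fun P : PrimeSpectrum B => projectiveDimension (ModuleCat.of
      (Localization.AtPrime P.asIdeal ⧸ (P.asIdeal.under A).map (algebraMap A (Localization.AtPrime P.asIdeal)))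
      ((Localization.AtPrime P.asIdeal ⧸ (P.asIdeal.under A).map (algebraMap A (Localization.AtPrime P.asIdeal))) ⊗[B] M)) := by
  let f : PrimeSpectrum B → WithBot ℕ∞ := fun P => projectiveDimension (Groth.Ega43FP2.fibStk P (⟨M⟩ : Groth.Ega43FP2.FPFlat A B))
  show UpperSemicontinuous f
  have hopen : ∀ i : ℕ, IsOpen {P | f P < i} := fun i => by
    have : {P : PrimeSpectrum B | f P < i} =
        {P | HasProjectiveDimensionLT (Groth.Ega43FP2.stk P (⟨M⟩ : Groth.Ega43FP2.FPFlat A B)) i} := by
      ext P
      exact projectiveDimension_lt_iff.trans (Groth.Ega43FP2.hasProjectiveDimensionLT_stk_iff P i _)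
    rw [this]
    exact Groth.Ega43FP2.isOpen_hasProjectiveDimensionLT B i _
  intro P y hy
  have key : ∃ i : ℕ, f P < i ∧ ∀ v : WithBot ℕ∞, v < i → v < y := by
    rcases hv : f P with _ | (_ | k)
    · exact ⟨0, WithBot.bot_lt_coe _, fun v hv' => by
        rw [Nat.cast_zero, WithBot.lt_zero_iff_eq_bot] at hv'; subst hv'; rw [hv] at hy; exact hy⟩
    · rw [hv] at hy
      exact absurd hy not_top_lt
    · refine ⟨k + 1, by show ((k : ℕ) : WithBot ℕ∞) < _; rw [Nat.cast_add, Nat.cast_one, ENat.WithBot.lt_add_one_iff], fun v hv' => lt_of_le_of_lt ?_ hy⟩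
      rw [hv]
      show v ≤ ((k : ℕ) : WithBot ℕ∞)
      rw [Nat.cast_add, Nat.cast_one, ENat.WithBot.lt_add_one_iff] at hv'
      exact hv'
  obtain ⟨i, hi, hlt⟩ := key
  filter_upwards [(hopen i).mem_nhds hi] with Q hQ using hlt _ hQ

end Groth.Agent.S19197
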