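import Groth.Statements.S1920
import Groth.Agent.Cycles.C1Comm
-- import your own Groth.Agent.* helpers here

set_option autoImplicit false
universe u
open CategoryTheory AlgebraicGeometry
open Cyc

namespace Groth.Agent.S1920

/-- Let X be integral with δ(η) = n, L and N invertible O_X-modules with nonzero rational sections s ∈
L(η), t ∈ N(η), α = div_L(s), β = div_N(t). Then c_1(N) ∩ α ∼_rat c_1(L) ∩ β as (n − 2)-cycles, for
any choices of nonzero rational sections used to compute the two sides. Here L(ξ) = L_ξ/𝔪_ξ L_ξ is
the space of rational sections of L on the closure of ξ, div_{L|W}(s) and c_1(L) ∩ α are computed as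
coefficient functions from chosen nonzero rational sections (Cyc.secDivFun, Cyc.c1CapFun), and
results are compared up to rational equivalence for any cycles with those coefficients. A pair (X,
δ) with Cyc.IsSetup plays the role of a scheme locally of finite type over a fixed base with a
dimension function (X locally Noetherian with universally catenary local rings, δ a dimension
function), and Cyc.DeltaCompat records that the dimension function upstairs is the induced one. -/
theorem result (X : Scheme.{u}) [IsIntegral X] (δ : X → ℤ) (hX : Cyc.IsSetup X δ) (n : ℤ) (hn : δ (genericPoint X) = n) (L N : X.Modules) (hL : PicF.IsInvertible L) (hN : PicF.IsInvertible N) (s : Cyc.secFibre L (genericPoint X)) (hs : s ≠ 0) (t : Cyc.secFibre N (genericPoint X)) (ht : t ≠ 0) (u : (ξ : X) → Cyc.secFibre N ξ) (hu : ∀ ξ, u ξ ≠ 0) (v : (ξ : X) → Cyc.secFibre L ξ) (hv : ∀ ξ, v ξ ≠ 0) (γ₁ γ₂ : AlgebraicCycle X ℤ) (h₁ : ⇑γ₁ = Cyc.c1CapFun δ N (Cyc.secDivFun δ L (genericPoint X) s) u) (h₂ : ⇑γ₂ = Cyc.c1CapFun δ L (Cyc.secDivFun δ N (genericPoint X) t) v) : Cyc.RatEquiv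 δ (n - 2) γ₁ γ₂ := by
  refine Groth.Cycles.ratEquivZero_of_family hX X (fun x => x)
    (fun x => Groth.Cycles.commFun hX hL hN (genericPoint X) s t u v x)
    (fun x => Groth.Cycles.commFun_ne_zero hX hL hN hs ht hu hv x) (fun x hx => ?_) (fun V hV => ?_) fun z => ?_
  · have hd : Groth.Cycles.IsDivPt δ (genericPoint X) x := by_contra fun h => hx (dif_neg h)
    have := hd.2
    omega
  · exact (Groth.Cycles.finite_commFun hX hL hN hs ht hV).subset fun x hx => ⟨hx.2, hx.1⟩
  · simp only [Function.locallyFinsuppWithin.coe_sub, Pi.sub_apply]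
    rw [h₁, h₂]
    exact Groth.Cycles.c1_comm hX hL hN hs ht hu hv z

end Groth.Agent.S1920
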