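import Groth.Statements.S19202
import Groth.Agent.Flatmor4.FlatImage

set_option autoImplicit false
universe u
open CategoryTheory AlgebraicGeometry
open FlatMor

namespace Groth.Agent.S19202

/-- Let R be a Dedekind domain, X and Y schemes over Spec R with X flat over Spec R, and f : X → Y a
morphism over Spec R. Then the scheme-theoretic image of f, i.e. the closed subscheme of Y cut out
by the kernel ideal sheaf of f, is flat over Spec R. (The published statement takes the base to be a
non-singular curve and f proper; this row takes the spectrum of any Dedekind domain and any morphism
f over it.) -/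
theorem result (R : Type u) [CommRing R] [IsDedekindDomain R]
    {X Y : Scheme.{u}} (p : X ⟶ Spec (CommRingCat.of R)) (q : Y ⟶ Spec (CommRingCat.of R))
    (f : X ⟶ Y) (w : f ≫ q = p) [Flat p] : Flat (f.imageι ≫ q) := by
  exact Groth.Flatmor4.flat_imageι_comp p q f w

end Groth.Agent.S19202
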