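import Groth.Statements.S19203
import Groth.Agent.Variety2.Growth.StableBase

set_option autoImplicit false
universe u
open CategoryTheory AlgebraicGeometry
open Coh

namespace Groth.Agent.S19203

/-- Let X be a scheme proper over a field k with dim X = r, and L an invertible O_X-module generated by
its global sections. Then for each i ≥ 1 the dimensions dim_k H^i(X, L^{⊗n}) are O(n^{r-1}): there
is a real constant C with dim_k H^i(X, L^{⊗n}) ≤ C·n^{r-1} for every n ≥ 1. (For r = 0 the exponent
r − 1 is read as 0; k is any field.) -/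
theorem result (k : Type u) [Field k] (X : Scheme.{u})
    [X.Over (Spec (CommRingCat.of k))] [IsProper (X ↘ (Spec (CommRingCat.of k)))]
    (r : ℕ) (hdim : topologicalKrullDim X = r)
    (L : X.Modules) (hL : PicF.IsInvertible L) (hgen : Curv2.IsGloballyGenerated L)
    (i : ℕ) (hi : 1 ≤ i) :
    ∃ C : ℝ, ∀ n : ℕ, 1 ≤ n →
      (Module.finrank k (Coh.HH X (CohB1.tensorPow L n) i) : ℝ) ≤ C * (n : ℝ) ^ (r - 1) := by
  open Groth.Variety2.Growth Groth.Inter Groth in
  exact by
    have hB : topologicalKrullDim ↥(W4c5asymptcohfn.stableBaseLocus X L) ≤ ((0 : ℕ) : WithBot ℕ∞) := by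
      have he : W4c5asymptcohfn.stableBaseLocus X L = ∅ := Set.eq_empty_of_forall_notMem fun x hx => by
        have h := Set.mem_iInter.1 hx 0
        obtain ⟨t, ht⟩ := Groth.VarietyBC.GGen.exists_mem_gloc hL hgen x
        let e : L ≅ CohB1.tensorPow L (0 + 1) := (Groth.Inter.tensor_one L).some.symm
        refine h (Groth.PicAux.homOfSection (e.hom.app ⊤ t)) ?_
        change x ∈ Groth.PropsBasic.Ample.gloc (e.hom.app ⊤ t)
        rw [Groth.PropsBasic.Ample.gloc_map]
        exact ht
      have : IsEmpty ↥(W4c5asymptcohfn.stableBaseLocus X L) := Set.isEmpty_coe_sort.2 he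
      have : IsEmpty (TopologicalSpace.IrreducibleCloseds ↥(W4c5asymptcohfn.stableBaseLocus X L)) :=
        ⟨fun Z => isEmptyElim Z.isIrreducible.nonempty.some⟩
      exact (Order.krullDim_eq_bot).trans_le bot_le
    obtain ⟨C, hC⟩ := exists_bound_stableBase (k := k) hL hB r
      (isCoh_of_isInvertible (Groth.EulerDeg.isInvertible_structureModule X))
      ((topologicalKrullDim_subspace_le X _).trans hdim.le) i (by omega)
    refine ⟨((C * 2 ^ r : ℕ) : ℝ), fun n hn => ?_⟩
    have h : Module.finrank k (Coh.HH X (CohB1.tensorPow L n) i) ≤ C * 2 ^ r * n ^ (r - 1) := by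
      refine ((h_congr k (Groth.Inter.tensor_one (CohB1.tensorPow L n)).some i).symm.trans_le (hC n)).trans ?_
      rw [mul_assoc]
      refine Nat.mul_le_mul_left _ ?_
      rcases r with _ | e
      · exact Nat.zero_le _
      · simp only [Nat.sub_zero, Nat.add_sub_cancel, wgt]
        calc (n + 1) ^ e ≤ (2 * n) ^ e := Nat.pow_le_pow_left (by omega) e
          _ = 2 ^ e * n ^ e := mul_pow _ _ _
          _ ≤ _ := Nat.mul_le_mul_right _ (Nat.pow_le_pow_right (by omega) e.le_succ)
    exact_mod_cast h

end Groth.Agent.S19203
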