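import Groth.Statements.S19206
import Groth.Agent.FrobLCI.Lech.Ineq
import Mathlib.RingTheory.Polynomial.Basic
import Mathlib.RingTheory.Flat.Stability
import Mathlib.RingTheory.Flat.Localization

set_option autoImplicit false
set_option linter.style.haveILetI false
universe u
open Filter
open LocAlg

namespace Groth.Agent.S19206

open IsLocalRing TensorProduct

theorem length_baseChange {O R : Type u} [CommRing O] [IsLocalRing O] [CommRing R] [IsLocalRing R] [Algebra O R]
    [Module.Flat O R] (hmax : (maximalIdeal O).map (algebraMap O R) = maximalIdeal R)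
    {M : Type u} [AddCommGroup M] [Module O M] (h : IsFiniteLength O M) :
    Module.length R (R ⊗[O] M) = Module.length O M := by
  induction h with
  | @of_subsingleton M _ _ _ => rw [Module.length_eq_zero, Module.length_eq_zero]
  | @of_simple_quotient M _ _ N _ hN ih =>
    rw [Module.length_eq_add_of_exact N.subtype N.mkQ N.injective_subtype N.mkQ_surjective
      (LinearMap.exact_subtype_mkQ N), Module.length_eq_one O (M ⧸ N), ← ih]
    obtain ⟨m, hm, ⟨e⟩⟩ := (isSimpleModule_iff_quot_maximal (R := O) (M := M ⧸ N)).1 inferInstance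
    obtain rfl := eq_maximalIdeal hm
    have hs : Module.length R (R ⊗[O] (M ⧸ N)) = 1 := by
      rw [(TensorProduct.AlgebraTensorModule.congr (LinearEquiv.refl R R) e).length_eq,
        ← (Algebra.TensorProduct.quotIdealMapEquivTensorQuot R (maximalIdeal O)).toLinearEquiv.length_eq, hmax]
      haveI : IsSimpleModule R (R ⧸ maximalIdeal R) :=
        isSimpleModule_iff_quot_maximal.2 ⟨maximalIdeal R, inferInstance, ⟨LinearEquiv.refl R _⟩⟩
      exact Module.length_eq_one R _
    rw [Module.length_eq_add_of_exact (N.subtype.baseChange R) (N.mkQ.baseChange R)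
      (Module.Flat.lTensor_preserves_injective_linearMap _ N.injective_subtype)
      (LinearMap.lTensor_surjective R N.mkQ_surjective) (lTensor_exact R (LinearMap.exact_subtype_mkQ N) N.mkQ_surjective), hs]

/-- Let O be a Noetherian local ring of Krull dimension r which contains a field, with maximal ideal m,
and let I be an m-primary ideal (I ⊆ m and m^N ⊆ I for some N). Write e(I) for the Samuel
multiplicity of I, the limit of r!·length(O/I^n)/n^r, and e(O) for that of m. Then e(I) ≤
r!·e(O)·length(O/I); consequently the supremum of e(I)/(r!·length(O/I)) over such I is at most e(O).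
(Stated for real numbers e(I), e(O) equal to those limits; the hypothesis that O contains a field is
the standing equicharacteristic convention of the section and is not needed for the inequality.) -/
theorem result (O : Type u) [CommRing O] [IsNoetherianRing O] [IsLocalRing O]
    (K : Type u) [Field K] [Algebra K O] (r : ℕ) (hr : ringKrullDim O = r)
    (I : Ideal O) (hI : I ≤ IsLocalRing.maximalIdeal O) (hIN : ∃ N : ℕ, IsLocalRing.maximalIdeal O ^ N ≤ I)
    (eI eO : ℝ)
    (heI : Tendsto (fun n : ℕ => (r.factorial : ℝ) * ((Module.length O (O ⧸ I ^ n)).toNat : ℝ) / (n : ℝ) ^ r)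
      atTop (nhds eI))
    (heO : Tendsto (fun n : ℕ => (r.factorial : ℝ) *
        ((Module.length O (O ⧸ IsLocalRing.maximalIdeal O ^ n)).toNat : ℝ) / (n : ℝ) ^ r) atTop (nhds eO)) :
    eI ≤ (r.factorial : ℝ) * eO * ((Module.length O (O ⧸ I)).toNat : ℝ) := by
  classical
  set m := IsLocalRing.maximalIdeal O with hm
  haveI : (m.map (Polynomial.C : O →+* Polynomial O)).IsPrime := Ideal.isPrime_map_C_of_isPrime
  let R := Localization.AtPrime (m.map (Polynomial.C : O →+* Polynomial O))
  haveI : IsNoetherianRing R := IsLocalization.isNoetherianRing (m.map (Polynomial.C : O →+* Polynomial O)).primeCompl R inferInstance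
  haveI : Module.Flat (Polynomial O) R := IsLocalization.flat R (m.map (Polynomial.C : O →+* Polynomial O)).primeCompl
  haveI : Module.Flat O R := Module.Flat.trans O (Polynomial O) R
  have hmax : m.map (algebraMap O R) = IsLocalRing.maximalIdeal R := by
    rw [← Localization.AtPrime.map_eq_maximalIdeal, IsScalarTower.algebraMap_eq O (Polynomial O) R,
      ← Ideal.map_map, Polynomial.algebraMap_eq]
  haveI : Infinite (IsLocalRing.ResidueField R) := by
    refine Infinite.of_injective (fun i : ℕ => IsLocalRing.residue R (algebraMap (Polynomial O) R (Polynomial.X ^ i))) fun i j hij => ?_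
    by_contra hne
    rw [← sub_eq_zero, ← map_sub, ← map_sub, IsLocalRing.residue_eq_zero_iff] at hij
    have h2 := (IsLocalization.AtPrime.to_map_mem_maximal_iff R (m.map (Polynomial.C : O →+* Polynomial O)) _).1 hij
    have h3 := Ideal.mem_map_C_iff.1 h2 i
    rw [Polynomial.coeff_sub, Polynomial.coeff_X_pow, Polynomial.coeff_X_pow, if_pos rfl, if_neg hne, sub_zero] at h3
    exact (IsLocalRing.maximalIdeal.isMaximal O).ne_top ((Ideal.eq_top_iff_one _).2 h3)
  have hlen : ∀ J : Ideal O, Groth.Lech.Prim J →
      Groth.Lech.len (J.map (algebraMap O R)) = Groth.Lech.len J := fun J hJ => by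
    rw [Groth.Lech.len, Groth.Lech.len,
      (Algebra.TensorProduct.quotIdealMapEquivTensorQuot R J).toLinearEquiv.length_eq,
      length_baseChange hmax (Module.length_ne_top_iff.1 hJ.length_ne_top)]
  have hIp : Groth.Lech.Prim I := hIN
  have hmp : Groth.Lech.Prim m := ⟨1, (pow_one _).le⟩
  have hhs : ∀ J : Ideal O, Groth.Lech.Prim J → ∀ P : Polynomial ℚ, Groth.Ega41Dim.IsHSPoly J O P →
      Groth.Ega41Dim.IsHSPoly (J.map (algebraMap O R)) R P := fun J hJ P hP => by
    refine hP.mono fun n hn => ?_
    rw [Groth.Lech.hs_eq_len, ← Ideal.map_pow, hlen _ (hJ.pow n), ← Groth.Lech.hs_eq_len]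
    exact hn
  obtain ⟨P, hP⟩ := Groth.Lech.exists_poly hmp
  obtain ⟨Q, hQ⟩ := Groth.Lech.exists_poly hIp
  haveI : IsArtinianRing (O ⧸ m) := hmp.isArtinian
  have hdeg : P.natDegree ≤ r := Groth.Ega41Dim.natDegree_le_of_supportDim_le
    (fun q hq hle => (IsLocalRing.maximalIdeal.isMaximal O).eq_of_le hq.ne_top hle ▸ IsLocalRing.maximalIdeal.isMaximal O)
    (IsLocalRing.jacobson_eq_maximalIdeal ⊥ bot_ne_top).ge r O
    (by rw [Module.supportDim_self_eq_ringKrullDim, hr]) P hP
  have hQdeg := Groth.Lech.natDegree_le hIp hP hdeg hQ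
  have hlim : ∀ (J : Ideal O) (S : Polynomial ℚ) (e : ℝ), Groth.Ega41Dim.IsHSPoly J O S → S.natDegree ≤ r →
      Tendsto (fun n : ℕ => (r.factorial : ℝ) * ((Module.length O (O ⧸ J ^ n)).toNat : ℝ) / (n : ℝ) ^ r) atTop (nhds e) →
      e = (r.factorial : ℝ) * (S.coeff r : ℝ) := fun J S e hS hSd he => by
    refine tendsto_nhds_unique he (((Groth.KEuler.tendsto_eval_div hSd).const_mul _).congr' ?_)
    filter_upwards [hS] with n hn
    rw [← hn, Rat.cast_natCast, Groth.Lech.hs_eq_len, mul_div_assoc]
    rfl
  have h := Groth.Lech.lech r R P (hmax ▸ hhs m hmp P hP) hdeg (I.map (algebraMap O R))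
    (by obtain ⟨N, hN⟩ := hIN; exact ⟨N, by rw [← hmax, ← Ideal.map_pow]; exact Ideal.map_mono hN⟩) Q (hhs I hIp Q hQ)
  rw [hlen I hIp] at h
  rw [hlim I Q eI hQ hQdeg heI, hlim m P eO hP hdeg heO]
  have h' : (Q.coeff r : ℝ) ≤ (r.factorial : ℝ) * (P.coeff r : ℝ) * (Groth.Lech.len I : ℝ) := by exact_mod_cast h
  refine (mul_le_mul_of_nonneg_left h' (Nat.cast_nonneg r.factorial)).trans (le_of_eq ?_)
  rw [Groth.Lech.len]
  ring

end Groth.Agent.S19206
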