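import Groth.Statements.S19207
import Groth.Agent.FrobLCI.Lech.Ineq
import Groth.Agent.SGA7.PowerSeries
import Mathlib.RingTheory.MvPowerSeries.Equiv
import Mathlib.RingTheory.MvPowerSeries.NoZeroDivisors

set_option autoImplicit false
set_option linter.style.haveILetI false
universe u
open Filter
open LocAlg

namespace Groth.Agent.S19207

open MvPowerSeries Groth.Lech
open Groth.KEuler (Good chi)

variable (k : Type u) [Field k]

local notation "P" => MvPowerSeries (Fin 3) k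

/-- the exponent vector -/
noncomputable def E (t : ℕ × ℕ × ℕ) : Fin 3 →₀ ℕ :=
  Finsupp.single 0 t.1 + Finsupp.single 1 t.2.1 + Finsupp.single 2 t.2.2

theorem E0 (t : ℕ × ℕ × ℕ) : E t 0 = t.1 := by simp [E]
theorem E1 (t : ℕ × ℕ × ℕ) : E t 1 = t.2.1 := by simp [E]
theorem E2 (t : ℕ × ℕ × ℕ) : E t 2 = t.2.2 := by simp [E]

theorem E_le (s t : ℕ × ℕ × ℕ) : E s ≤ E t ↔ s.1 ≤ t.1 ∧ s.2.1 ≤ t.2.1 ∧ s.2.2 ≤ t.2.2 := by
  rw [Finsupp.le_def, Fin.forall_fin_succ, Fin.forall_fin_two]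
  rw [show (Fin.succ (0 : Fin 2) : Fin 3) = 1 from rfl, show (Fin.succ (1 : Fin 2) : Fin 3) = 2 from rfl]
  simp only [E0, E1, E2]

noncomputable def mono (t : ℕ × ℕ × ℕ) : P := monomial (E t) 1

theorem mono_eq (t : ℕ × ℕ × ℕ) : mono k t = X 0 ^ t.1 * X 1 ^ t.2.1 * X 2 ^ t.2.2 := by
  simp [mono, E, X_pow_eq, monomial_mul_monomial]

/-- the monomial ideal -/
noncomputable def J (s : Finset (ℕ × ℕ × ℕ)) : Ideal P := Ideal.span (mono k '' (s : Set (ℕ × ℕ × ℕ)))

theorem coeff_zero_of_mem {s : Finset (ℕ × ℕ × ℕ)} {f : P} (hf : f ∈ J k s) :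
    ∀ u : Fin 3 →₀ ℕ, (∀ g ∈ s, ¬ E g ≤ u) → coeff u f = 0 := by
  classical
  induction hf using Submodule.span_induction with
  | mem f hf =>
    obtain ⟨g, hg, rfl⟩ := hf
    intro u hu
    rw [mono, coeff_monomial, if_neg]
    rintro rfl
    exact hu g hg le_rfl
  | zero => intro u _; exact map_zero _
  | add a b _ _ ha hb => intro u hu; rw [map_add, ha u hu, hb u hu, add_zero]
  | smul c a _ ha =>
    intro u hu
    rw [smul_eq_mul, coeff_mul]
    refine Finset.sum_eq_zero fun p hp => ?_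
    rw [ha p.2 (fun g hg h => hu g hg (h.trans ?_)), mul_zero]
    rw [← Finset.HasAntidiagonal.mem_antidiagonal.1 hp]
    exact le_add_self

theorem mono_mem {s : Finset (ℕ × ℕ × ℕ)} (g : ℕ × ℕ × ℕ) (hg : g ∈ s) (t : ℕ × ℕ × ℕ)
    (h : g.1 ≤ t.1 ∧ g.2.1 ≤ t.2.1 ∧ g.2.2 ≤ t.2.2) : mono k t ∈ J k s := by
  obtain ⟨h1, h2, h3⟩ := h
  obtain ⟨a, ha⟩ := Nat.exists_eq_add_of_le h1
  obtain ⟨b, hb⟩ := Nat.exists_eq_add_of_le h2
  obtain ⟨c, hc⟩ := Nat.exists_eq_add_of_le h3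
  have e : mono k t = mono k g * (X 0 ^ a * X 1 ^ b * X 2 ^ c) := by
    rw [mono_eq, mono_eq, ha, hb, hc]
    ring
  rw [e]
  exact Ideal.mul_mem_right _ _ (Ideal.subset_span ⟨g, hg, rfl⟩)

theorem max_le (I : Ideal P) (h : ∀ i : Fin 3, X i ∈ I) : IsLocalRing.maximalIdeal P ≤ I := fun f hf => by
  have h0 : constantCoeff f = 0 := by
    by_contra hne
    exact (IsLocalRing.mem_maximalIdeal f).1 hf (isUnit_iff_constantCoeff.2 (Ne.isUnit hne))
  have := (Groth.SGA7.PS.mem_varIdeal_iff f).2 h0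
  exact (Ideal.span_le.2 (by rintro _ ⟨i, rfl⟩; exact h i) : Groth.SGA7.PS.varIdeal (Fin 3) k ≤ I) this

theorem prim_J {s : Finset (ℕ × ℕ × ℕ)} (h0 : ∃ a, (a, 0, 0) ∈ s) (h1 : ∃ a, (0, a, 0) ∈ s)
    (h2 : ∃ a, (0, 0, a) ∈ s) : Prim (J k s) := by
  refine Ideal.exists_pow_le_of_le_radical_of_fg_radical (max_le k _ fun i => ?_) (IsNoetherian.noetherian _)
  obtain ⟨a, ha⟩ := h0
  obtain ⟨b, hb⟩ := h1
  obtain ⟨c, hc⟩ := h2
  fin_cases i
  · exact ⟨a, by
      show (X 0 : P) ^ a ∈ J k s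
      rw [show (X 0 : P) ^ a = mono k (a,0,0) by simp [mono_eq]]
      exact Ideal.subset_span (Set.mem_image_of_mem (mono k) ha)⟩
  · exact ⟨b, by
      show (X 1 : P) ^ b ∈ J k s
      rw [show (X 1 : P) ^ b = mono k (0,b,0) by simp [mono_eq]]
      exact Ideal.subset_span (Set.mem_image_of_mem (mono k) hb)⟩
  · exact ⟨c, by
      show (X 2 : P) ^ c ∈ J k s
      rw [show (X 2 : P) ^ c = mono k (0,0,c) by simp [mono_eq]]
      exact Ideal.subset_span (Set.mem_image_of_mem (mono k) hc)⟩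

/-- adding one corner -/
theorem len_insert {s : Finset (ℕ × ℕ × ℕ)} (hs : Prim (J k s)) (t : ℕ × ℕ × ℕ)
    (hnot : ∀ g ∈ s, ¬ (g.1 ≤ t.1 ∧ g.2.1 ≤ t.2.1 ∧ g.2.2 ≤ t.2.2))
    (h0 : ∃ g ∈ s, g.1 ≤ t.1 + 1 ∧ g.2.1 ≤ t.2.1 ∧ g.2.2 ≤ t.2.2)
    (h1 : ∃ g ∈ s, g.1 ≤ t.1 ∧ g.2.1 ≤ t.2.1 + 1 ∧ g.2.2 ≤ t.2.2)
    (h2 : ∃ g ∈ s, g.1 ≤ t.1 ∧ g.2.1 ≤ t.2.1 ∧ g.2.2 ≤ t.2.2 + 1) :
    len (J k s) = 1 + len (J k (insert t s)) ∧ Prim (J k (insert t s)) := by
  classical
  have hins : J k (insert t s) = J k s ⊔ Ideal.span {mono k t} := by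
    rw [J, J, Finset.coe_insert, Set.image_insert_eq, Ideal.span_insert, sup_comm]
  have hcol : col (J k s) (mono k t) = IsLocalRing.maximalIdeal P := by
    refine ((IsLocalRing.maximalIdeal.isMaximal P).eq_of_le ?_ (max_le k _ fun i => ?_)).symm
    · intro htop
      have h : mono k t ∈ J k s := by
        have := mem_col.1 ((Ideal.eq_top_iff_one _).1 htop)
        rwa [mul_one] at this
      have := coeff_zero_of_mem k h (E t) fun g hg hle => hnot g hg ((E_le g t).1 hle)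
      rw [mono, coeff_monomial_same] at this
      exact one_ne_zero this
    · rw [mem_col]
      fin_cases i
      · obtain ⟨g, hg, hle⟩ := h0
        convert mono_mem k g hg (t.1 + 1, t.2.1, t.2.2) hle using 1
        simp only [mono_eq, Fin.zero_eta]; ring
      · obtain ⟨g, hg, hle⟩ := h1
        convert mono_mem k g hg (t.1, t.2.1 + 1, t.2.2) hle using 1
        simp only [mono_eq, Fin.mk_one]; ring
      · obtain ⟨g, hg, hle⟩ := h2
        convert mono_mem k g hg (t.1, t.2.1, t.2.2 + 1) hle using 1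
        simp only [mono_eq, Fin.reduceFinMk]; ring
  refine ⟨?_, hins ▸ hs.mono le_sup_left⟩
  rw [len_step hs (mono k t), hcol, hins, len]
  congr 1
  haveI : IsSimpleModule P (P ⧸ IsLocalRing.maximalIdeal P) :=
    isSimpleModule_iff_quot_maximal.2 ⟨IsLocalRing.maximalIdeal P, inferInstance, ⟨LinearEquiv.refl P _⟩⟩
  rw [Module.length_eq_one P, ENat.toNat_one]

theorem J_top {s : Finset (ℕ × ℕ × ℕ)} (h : (0, 0, 0) ∈ s) : len (J k s) = 0 := by
  rw [show J k s = ⊤ from (Ideal.eq_top_iff_one _).2 (by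
    rw [show (1 : P) = mono k (0,0,0) by simp [mono_eq]]
    exact Ideal.subset_span (Set.mem_image_of_mem (mono k) h)), len_top]

theorem len_seven : len (J k {(2,0,0), (1,1,0), (0,2,0), (1,0,1), (0,1,2), (0,0,4)}) = 7 := by
  have p0 := prim_J k (s := {(2,0,0), (1,1,0), (0,2,0), (1,0,1), (0,1,2), (0,0,4)})
    ⟨2, by decide⟩ ⟨2, by decide⟩ ⟨4, by decide⟩
  obtain ⟨e1, p1⟩ := len_insert k p0 (0,0,3) (by decide) (by decide) (by decide) (by decide)
  obtain ⟨e2, p2⟩ := len_insert k p1 (0,0,2) (by decide) (by decide) (by decide) (by decide)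
  obtain ⟨e3, p3⟩ := len_insert k p2 (0,1,1) (by decide) (by decide) (by decide) (by decide)
  obtain ⟨e4, p4⟩ := len_insert k p3 (1,0,0) (by decide) (by decide) (by decide) (by decide)
  obtain ⟨e5, p5⟩ := len_insert k p4 (0,1,0) (by decide) (by decide) (by decide) (by decide)
  obtain ⟨e6, p6⟩ := len_insert k p5 (0,0,1) (by decide) (by decide) (by decide) (by decide)
  obtain ⟨e7, -⟩ := len_insert k p6 (0,0,0) (by decide) (by decide) (by decide) (by decide)
  rw [J_top k (Finset.mem_insert_self _ _)] at e7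
  omega

theorem len_four : len (J k {(2,0,0), (0,1,0), (0,0,2)}) = 4 := by
  have p0 := prim_J k (s := {(2,0,0), (0,1,0), (0,0,2)}) ⟨2, by decide⟩ ⟨1, by decide⟩ ⟨2, by decide⟩
  obtain ⟨e1, p1⟩ := len_insert k p0 (1,0,1) (by decide) (by decide) (by decide) (by decide)
  obtain ⟨e2, p2⟩ := len_insert k p1 (1,0,0) (by decide) (by decide) (by decide) (by decide)
  obtain ⟨e3, p3⟩ := len_insert k p2 (0,0,1) (by decide) (by decide) (by decide) (by decide)
  obtain ⟨e4, -⟩ := len_insert k p3 (0,0,0) (by decide) (by decide) (by decide) (by decide)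
  rw [J_top k (Finset.mem_insert_self _ _)] at e4
  omega

variable (n : ℕ)

local notation "F" => (X 0 ^ 2 - X 1 ^ n : MvPowerSeries (Fin 3) k)

theorem mem_two_iff {f : P} :
    f ∈ J k {(2,0,0), (0,1,0)} ↔ ∀ m : Fin 3 →₀ ℕ, m 0 < 2 → m 1 = 0 → coeff m f = 0 := by
  classical
  constructor
  · intro hf m h0 h1
    refine coeff_zero_of_mem k hf m fun g hg hle => ?_
    have hd := Finsupp.le_def.1 hle
    simp only [Finset.mem_insert, Finset.mem_singleton] at hg
    rcases hg with rfl | rfl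
    · have := hd 0; rw [E0] at this; simp at this; omega
    · have := hd 1; rw [E1] at this; simp at this; omega
  · intro h
    obtain ⟨f1, hf1⟩ : ∃ f1 : P, ∀ m, coeff m f1 = if m 1 = 0 then coeff m f else 0 :=
      ⟨fun m => if m 1 = 0 then coeff m f else 0, fun m => rfl⟩
    have ha : (X 1 : P) ∣ f - f1 := X_dvd_iff.2 fun m hm => by rw [map_sub, hf1, if_pos hm, sub_self]
    have hb : (X 0 : P) ^ 2 ∣ f1 := X_pow_dvd_iff.2 fun m hm => by
      rw [hf1]
      split_ifs with h'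
      · exact h m hm h'
      · rfl
    obtain ⟨a, ha⟩ := ha
    obtain ⟨b, hb⟩ := hb
    rw [show f = mono k (2,0,0) * b + mono k (0,1,0) * a by
      simp only [mono_eq, pow_zero, mul_one, one_mul, pow_one]
      rw [← ha, ← hb]; ring]
    exact Submodule.add_mem _ (Ideal.mul_mem_right _ _ (Ideal.subset_span (Set.mem_image_of_mem (mono k) (by simp))))
      (Ideal.mul_mem_right _ _ (Ideal.subset_span (Set.mem_image_of_mem (mono k) (by simp))))

theorem span_F_y (hn : 1 ≤ n) : Ideal.span {F} ⊔ Ideal.span {(X 1 : P)} = J k {(2,0,0), (0,1,0)} := by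
  have e1 : (X 0 : P) ^ 2 = mono k (2,0,0) := by simp [mono_eq]
  have e2 : (X 1 : P) = mono k (0,1,0) := by simp [mono_eq]
  refine le_antisymm (sup_le ?_ ?_) ?_
  · rw [Ideal.span_singleton_le_iff_mem]
    refine Ideal.sub_mem _ (e1 ▸ Ideal.subset_span (Set.mem_image_of_mem (mono k) (by simp))) ?_
    exact Ideal.pow_mem_of_mem _ (e2 ▸ Ideal.subset_span (Set.mem_image_of_mem (mono k) (by simp))) n hn
  · rw [Ideal.span_singleton_le_iff_mem]
    exact e2 ▸ Ideal.subset_span (Set.mem_image_of_mem (mono k) (by simp))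
  · rw [J, Ideal.span_le]
    rintro _ ⟨g, hg, rfl⟩
    simp only [Finset.coe_insert, Finset.coe_singleton, Set.mem_insert_iff, Set.mem_singleton_iff] at hg
    rcases hg with rfl | rfl
    · rw [← e1]
      have h2 := Submodule.add_mem_sup (Ideal.mem_span_singleton_self F)
        (Ideal.pow_mem_of_mem (Ideal.span {(X 1 : P)}) (Ideal.mem_span_singleton_self _) n hn)
      rwa [sub_add_cancel] at h2
    · rw [← e2]
      exact Ideal.mem_sup_right (Ideal.mem_span_singleton_self _)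

theorem regular_quot {I : Ideal P} {a : P} (h : ∀ f, a * f ∈ I → f ∈ I) : IsSMulRegular (P ⧸ I) a := by
  intro u v huv
  obtain ⟨u, rfl⟩ := Ideal.Quotient.mk_surjective u
  obtain ⟨v, rfl⟩ := Ideal.Quotient.mk_surjective v
  refine Ideal.Quotient.eq.2 (h _ ?_)
  rw [mul_sub]
  exact Ideal.Quotient.eq.1 huv

theorem regular_y (hn : 1 ≤ n) : IsSMulRegular (P ⧸ Ideal.span {F}) (X 1 : P) := by
  classical
  refine regular_quot k fun f hf => ?_
  obtain ⟨g, hg⟩ := Ideal.mem_span_singleton'.1 hf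
  have hy : (X 1 : P) ∣ g := X_dvd_iff.2 fun m hm => by
    have h := congrArg (coeff (m + Finsupp.single (0 : Fin 3) 2)) hg
    have hz : (m + Finsupp.single (0 : Fin 3) 2 : Fin 3 →₀ ℕ) 1 = 0 := by simp [hm]
    rw [mul_sub, map_sub, X_pow_eq, coeff_add_mul_monomial, mul_one] at h
    rw [X_pow_eq, coeff_mul_monomial, if_neg (fun hle => by
      have := Finsupp.le_def.1 hle 1
      rw [hz, Finsupp.single_eq_same] at this; omega), sub_zero,
      X_dvd_iff.1 (dvd_mul_right (X 1 : P) f) _ hz] at h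
    exact h
  obtain ⟨g', rfl⟩ := hy
  have hX : (X 1 : P) ≠ 0 := fun h0 => by
    have := congrArg (coeff (Finsupp.single (1 : Fin 3) 1)) h0
    rw [coeff_index_single_self_X, map_zero] at this
    exact one_ne_zero this
  exact Ideal.mem_span_singleton'.2 ⟨g', mul_left_cancel₀ hX (by rw [← hg]; ring)⟩

theorem regular_t : IsSMulRegular (P ⧸ J k {(2,0,0), (0,1,0)}) ((X 2 : P) ^ 2) := by
  refine regular_quot k fun f hf => ?_
  rw [mem_two_iff] at hf ⊢
  intro m h0 h1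
  have h := hf (Finsupp.single 2 2 + m) (by simp [h0]) (by simp [h1])
  rw [X_pow_eq, coeff_add_monomial_mul, one_mul] at h
  exact h

theorem smul_top_quot (I J' : Ideal P) :
    Nonempty (((P ⧸ I) ⧸ (J' • ⊤ : Submodule P (P ⧸ I))) ≃ₗ[P] P ⧸ (I ⊔ J')) := by
  have e : (J' • ⊤ : Submodule P (P ⧸ I)) = Submodule.map I.mkQ (I ⊔ J') := by
    rw [Submodule.map_sup, show Submodule.map I.mkQ I = ⊥ from by
      exact (LinearMap.le_ker_iff_map (f := I.mkQ)).1 (Submodule.ker_mkQ I).ge, bot_sup_eq,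
      show Submodule.map I.mkQ J' = J' • Submodule.map I.mkQ ⊤ by rw [← Submodule.map_smul'', smul_eq_mul, Ideal.mul_top],
      Submodule.map_top, Submodule.range_mkQ]
  exact ⟨(Submodule.quotEquivOfEq _ _ e).trans (Submodule.quotientQuotientEquivQuotient I (I ⊔ J') le_sup_left)⟩

theorem quotSMulTop_quot (I : Ideal P) (a : P) :
    Nonempty (QuotSMulTop a (P ⧸ I) ≃ₗ[P] P ⧸ (I ⊔ Ideal.span {a})) := by
  obtain ⟨e⟩ := smul_top_quot k I (Ideal.span {a})
  exact ⟨(Submodule.quotEquivOfEq _ _ (Submodule.ideal_span_singleton_smul a ⊤).symm).trans e⟩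

theorem chi_four (hn : 1 ≤ n) :
    chi (List.ofFn ![(X 1 : P), X 2 ^ 2]) (P ⧸ Ideal.span {F}) = 4 := by
  obtain ⟨e1⟩ := quotSMulTop_quot k (Ideal.span {F}) (X 1)
  rw [span_F_y k n hn] at e1
  obtain ⟨e2⟩ := quotSMulTop_quot k (J k {(2,0,0), (0,1,0)}) (X 2 ^ 2)
  have e : J k {(2,0,0), (0,1,0)} ⊔ Ideal.span {(X 2 : P) ^ 2} = J k {(2,0,0), (0,1,0), (0,0,2)} := by
    rw [show ({(2,0,0), (0,1,0), (0,0,2)} : Finset (ℕ × ℕ × ℕ)) = insert (0,0,2) {(2,0,0), (0,1,0)} by decide,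
      J, J, Finset.coe_insert (0,0,2), Set.image_insert_eq, Ideal.span_insert, sup_comm]
    simp [mono_eq]
  rw [e] at e2
  rw [show List.ofFn ![(X 1 : P), X 2 ^ 2] = [X 1, X 2 ^ 2] by simp,
    Groth.KEuler.chi_cons_of_regular _ _ _ (regular_y k n hn), Groth.KEuler.chi_congr _ e1,
    Groth.KEuler.chi_cons_of_regular _ _ _ (regular_t k), Groth.KEuler.chi_congr _ e2, Groth.KEuler.chi_nil]
  exact congrArg Nat.cast (len_four k)

theorem I_eq : Ideal.span {(X 0 ^ 2 : P), X 0 * X 1, X 1 ^ 2, X 0 * X 2, X 1 * X 2 ^ 2, X 2 ^ 4} =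
    J k {(2,0,0), (1,1,0), (0,2,0), (1,0,1), (0,1,2), (0,0,4)} := by
  rw [J]
  congr 1
  simp [Set.image_insert_eq, mono_eq]

theorem F_mem (hn : 2 ≤ n) : F ∈ J k {(2,0,0), (1,1,0), (0,2,0), (1,0,1), (0,1,2), (0,0,4)} := by
  refine Ideal.sub_mem _ ?_ ?_
  · rw [show (X 0 : P) ^ 2 = mono k (2,0,0) by simp [mono_eq]]
    exact Ideal.subset_span (Set.mem_image_of_mem (mono k) (by simp))
  · rw [show (X 1 : P) ^ n = mono k (0,n,0) by simp [mono_eq]]
    exact mono_mem k (0,2,0) (by simp) _ ⟨le_rfl, hn, le_rfl⟩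

theorem sq_le : (Ideal.span {(X 1 : P), X 2 ^ 2}) ^ 2 ≤
    J k {(2,0,0), (1,1,0), (0,2,0), (1,0,1), (0,1,2), (0,0,4)} := by
  rw [pow_two, Ideal.span_mul_span', Ideal.span_le]
  rintro _ ⟨u, hu, v, hv, rfl⟩
  simp only [Set.mem_insert_iff, Set.mem_singleton_iff] at hu hv
  rcases hu with rfl | rfl <;> rcases hv with rfl | rfl
  · have h := mono_mem k (s := {(2,0,0), (1,1,0), (0,2,0), (1,0,1), (0,1,2), (0,0,4)}) (0,2,0) (by simp) (0,2,0) ⟨le_rfl, le_rfl, le_rfl⟩
    simpa [mono_eq, pow_two] using h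
  · have h := mono_mem k (s := {(2,0,0), (1,1,0), (0,2,0), (1,0,1), (0,1,2), (0,0,4)}) (0,1,2) (by simp) (0,1,2) ⟨le_rfl, le_rfl, le_rfl⟩
    simpa [mono_eq] using h
  · have h := mono_mem k (s := {(2,0,0), (1,1,0), (0,2,0), (1,0,1), (0,1,2), (0,0,4)}) (0,1,2) (by simp) (0,1,2) ⟨le_rfl, le_rfl, le_rfl⟩
    simpa [mono_eq, mul_comm] using h
  · have h := mono_mem k (s := {(2,0,0), (1,1,0), (0,2,0), (1,0,1), (0,1,2), (0,0,4)}) (0,0,4) (by simp) (0,0,4) ⟨le_rfl, le_rfl, le_rfl⟩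
    simpa [mono_eq, ← pow_add] using h

theorem reduction (hn : 3 ≤ n) : J k {(2,0,0), (1,1,0), (0,2,0), (1,0,1), (0,1,2), (0,0,4)} *
      J k {(2,0,0), (1,1,0), (0,2,0), (1,0,1), (0,1,2), (0,0,4)} ≤
    (Ideal.span {(X 1 : P), X 2 ^ 2}) ^ 2 * J k {(2,0,0), (1,1,0), (0,2,0), (1,0,1), (0,1,2), (0,0,4)} ⊔
      Ideal.span {F} := by
  set s : Finset (ℕ × ℕ × ℕ) := {(2,0,0), (1,1,0), (0,2,0), (1,0,1), (0,1,2), (0,0,4)} with hs
  have hy2 : mono k (0,2,0) ∈ (Ideal.span {(X 1 : P), X 2 ^ 2}) ^ 2 := by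
    rw [mono_eq]; simpa using Ideal.pow_mem_pow (Ideal.subset_span (by simp)) 2
  have hyt : mono k (0,1,2) ∈ (Ideal.span {(X 1 : P), X 2 ^ 2}) ^ 2 := by
    rw [mono_eq, pow_two (Ideal.span _)]
    simpa using Ideal.mul_mem_mul (Ideal.subset_span (by simp : (X 1 : P) ∈ ({(X 1 : P), X 2 ^ 2} : Set P)))
      (Ideal.subset_span (by simp : (X 2 : P) ^ 2 ∈ ({(X 1 : P), X 2 ^ 2} : Set P)))
  have ht4 : mono k (0,0,4) ∈ (Ideal.span {(X 1 : P), X 2 ^ 2}) ^ 2 := by
    rw [mono_eq]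
    simpa [← pow_mul] using Ideal.pow_mem_pow (Ideal.subset_span (by simp : (X 2 : P) ^ 2 ∈ ({(X 1 : P), X 2 ^ 2} : Set P))) 2
  have hx : ∀ g ∈ s, g.1 = 0 → mono k g ∈ (Ideal.span {(X 1 : P), X 2 ^ 2}) ^ 2 := by
    intro g hg h
    simp only [hs, Finset.mem_insert, Finset.mem_singleton] at hg
    rcases hg with rfl | rfl | rfl | rfl | rfl | rfl <;> first | exact absurd h (by decide) | assumption
  rw [J, Ideal.span_mul_span', Ideal.span_le]
  rintro _ ⟨_, ⟨g, hg, rfl⟩, _, ⟨g', hg', rfl⟩, rfl⟩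
  by_cases h : g.1 = 0
  · exact Ideal.mem_sup_left (Ideal.mul_mem_mul (hx g hg h) (Ideal.subset_span ⟨g', hg', rfl⟩))
  by_cases h' : g'.1 = 0
  · show mono k g * mono k g' ∈ _
    rw [mul_comm (mono k g) (mono k g')]
    exact Ideal.mem_sup_left (Ideal.mul_mem_mul (hx g' hg' h') (Ideal.subset_span (Set.mem_image_of_mem (mono k) hg)))
  obtain ⟨c, d, e, hcde, hle⟩ : ∃ c d e, mono k g * mono k g' = X 0 ^ 2 * mono k (c, d, e) ∧
      ∃ q ∈ s, q.1 ≤ c ∧ q.2.1 ≤ d + (n - 2) ∧ q.2.2 ≤ e := by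
    refine ⟨g.1 + g'.1 - 2, g.2.1 + g'.2.1, g.2.2 + g'.2.2, ?_, ?_⟩
    · simp only [mono_eq]
      obtain ⟨q, hq⟩ : ∃ q, g.1 + g'.1 = 2 + q := ⟨g.1 + g'.1 - 2, by omega⟩
      calc _ = (X 0 : P) ^ (g.1 + g'.1) * X 1 ^ (g.2.1 + g'.2.1) * X 2 ^ (g.2.2 + g'.2.2) := by ring
        _ = _ := by rw [hq, Nat.add_sub_cancel_left]; ring
    · simp only [hs, Finset.mem_coe, Finset.mem_insert, Finset.mem_singleton] at hg hg'
      rcases hg with rfl | rfl | rfl | rfl | rfl | rfl <;> rcases hg' with rfl | rfl | rfl | rfl | rfl | rfl <;>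
        first
        | exact absurd rfl h
        | exact absurd rfl h'
        | exact ⟨(2,0,0), by simp [hs], by dsimp only; omega, by dsimp only; omega, by dsimp only; omega⟩
        | exact ⟨(1,1,0), by simp [hs], by dsimp only; omega, by dsimp only; omega, by dsimp only; omega⟩
        | exact ⟨(0,2,0), by simp [hs], by dsimp only; omega, by dsimp only; omega, by dsimp only; omega⟩
        | exact ⟨(0,1,2), by simp [hs], by dsimp only; omega, by dsimp only; omega, by dsimp only; omega⟩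
  show mono k g * mono k g' ∈ _
  rw [hcde, show (X 0 : P) ^ 2 * mono k (c, d, e) = mono k (0,2,0) * mono k (c, d + (n - 2), e) + mono k (c, d, e) * F by
    simp only [mono_eq]
    obtain ⟨j, rfl⟩ : ∃ j, n = j + 2 := ⟨n - 2, by omega⟩
    simp only [Nat.add_sub_cancel]
    ring]
  obtain ⟨q, hq, hq'⟩ := hle
  exact Submodule.add_mem_sup (Ideal.mul_mem_mul hy2 (mono_mem k q hq _ hq'))
    (Ideal.mul_mem_left _ _ (Ideal.mem_span_singleton_self _))

theorem pow_succ_le {R : Type u} [CommRing R] {I Q C : Ideal R} (h : I * I ≤ Q * I ⊔ C) (m : ℕ) :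
    I ^ (m + 1) ≤ Q ^ m * I ⊔ C := by
  induction m with
  | zero => rw [pow_zero, one_mul, pow_one]; exact le_sup_left
  | succ m ih =>
    have h1 : I ^ (m + 1 + 1) ≤ (Q ^ m * I ⊔ C) * I := by
      rw [pow_succ]; exact Ideal.mul_mono ih le_rfl
    have h2 : Q ^ m * (I * I) ≤ Q ^ (m + 1) * I ⊔ C := by
      refine le_trans (Ideal.mul_mono le_rfl h) ?_
      rw [Ideal.mul_sup, ← mul_assoc, ← pow_succ]
      exact sup_le le_sup_left (le_trans (Ideal.mul_le.2 fun a _ b hb => Ideal.mul_mem_left _ a hb) le_sup_right)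
    refine le_trans h1 ?_
    rw [Ideal.sup_mul, mul_assoc]
    exact sup_le h2 (le_trans (Ideal.mul_le.2 fun a ha b _ => Ideal.mul_mem_right b _ ha) le_sup_right)

/-- Let k be a field and n ≥ 3, and let A = k[[x, y, t]]/(x^2 − y^n), the power-series ring in t over
the higher double point O = k[[x, y]]/(x^2 − y^n), a two-dimensional local ring. The ideal I = (x^2,
xy, y^2, xt, yt^2, t^4) of A has length(A/I) = 7 and Samuel multiplicity e(I) = 16, in the sense
that 2·length(A/I^m)/m^2 tends to 16. Hence e(I)/(2!·length(A/I)) = 8/7, which gives the bound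
e_1(O) ≥ 8/7 for the first flat multiplicity of a higher double point (the supremum of
e(I)/(2!·length(A/I)) over ideals of finite colength of A = O[[t]]). Here x, y, t are the
power-series variables indexed 0, 1, 2. -/
theorem result (k : Type u) [Field k] (n : ℕ) (hn : 3 ≤ n)
    (I : Ideal (MvPowerSeries (Fin 3) k ⧸ Ideal.span {(MvPowerSeries.X 0 ^ 2 - MvPowerSeries.X 1 ^ n : MvPowerSeries (Fin 3) k)}))
    (hI : I = Ideal.map (Ideal.Quotient.mk (Ideal.span {(MvPowerSeries.X 0 ^ 2 - MvPowerSeries.X 1 ^ n : MvPowerSeries (Fin 3) k)}))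
      (Ideal.span {(MvPowerSeries.X 0 ^ 2 : MvPowerSeries (Fin 3) k), MvPowerSeries.X 0 * MvPowerSeries.X 1,
        MvPowerSeries.X 1 ^ 2, MvPowerSeries.X 0 * MvPowerSeries.X 2,
        MvPowerSeries.X 1 * MvPowerSeries.X 2 ^ 2, MvPowerSeries.X 2 ^ 4})) :
    Module.length (MvPowerSeries (Fin 3) k ⧸ Ideal.span {(MvPowerSeries.X 0 ^ 2 - MvPowerSeries.X 1 ^ n : MvPowerSeries (Fin 3) k)}) ((MvPowerSeries (Fin 3) k ⧸ Ideal.span {(MvPowerSeries.X 0 ^ 2 - MvPowerSeries.X 1 ^ n : MvPowerSeries (Fin 3) k)}) ⧸ I) = 7 ∧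
      Tendsto (fun m : ℕ => (2 : ℝ) * ((Module.length (MvPowerSeries (Fin 3) k ⧸ Ideal.span {(MvPowerSeries.X 0 ^ 2 - MvPowerSeries.X 1 ^ n : MvPowerSeries (Fin 3) k)}) ((MvPowerSeries (Fin 3) k ⧸ Ideal.span {(MvPowerSeries.X 0 ^ 2 - MvPowerSeries.X 1 ^ n : MvPowerSeries (Fin 3) k)}) ⧸ I ^ m)).toNat : ℝ) / (m : ℝ) ^ 2)
        atTop (nhds 16) := by
  classical
  subst hI
  set A := MvPowerSeries (Fin 3) k ⧸ Ideal.span {(X 0 ^ 2 - X 1 ^ n : MvPowerSeries (Fin 3) k)} with hA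
  set C := Ideal.span {(X 0 ^ 2 - X 1 ^ n : MvPowerSeries (Fin 3) k)} with hC
  have hlenA : ∀ I' : Ideal (MvPowerSeries (Fin 3) k),
      Module.length A (A ⧸ I'.map (Ideal.Quotient.mk C)) =
        Module.length (MvPowerSeries (Fin 3) k) (MvPowerSeries (Fin 3) k ⧸ (C ⊔ I')) := fun I' => by
    rw [← Module.length_eq_of_surjective (S := MvPowerSeries (Fin 3) k) (R := A) Ideal.Quotient.mk_surjective]
    exact (DoubleQuot.quotQuotEquivQuotSupₐ (MvPowerSeries (Fin 3) k) C I').toLinearEquiv.length_eq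
  rw [I_eq k]
  set It := J k {(2,0,0), (1,1,0), (0,2,0), (1,0,1), (0,1,2), (0,0,4)} with hIt
  have hCI : C ≤ It := (Ideal.span_singleton_le_iff_mem _).2 (F_mem k n (by omega))
  have hItp : Prim It := prim_J k ⟨2, by simp⟩ ⟨2, by simp⟩ ⟨4, by simp⟩
  refine ⟨?_, ?_⟩
  · rw [hlenA, sup_eq_right.2 hCI, ← ENat.natCast_toNat hItp.length_ne_top]
    exact congrArg Nat.cast (len_seven k)
  set v : Fin 2 → MvPowerSeries (Fin 3) k := ![X 1, X 2 ^ 2] with hv
  set Q := Ideal.span {(X 1 : MvPowerSeries (Fin 3) k), X 2 ^ 2} with hQ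
  have hrange : Ideal.span (Set.range v) = Q := by rw [hv, hQ, Matrix.range_cons_cons_empty]
  have hCQ : Prim (C ⊔ Q) := by
    refine Ideal.exists_pow_le_of_le_radical_of_fg_radical (max_le k _ fun i => ?_) (IsNoetherian.noetherian _)
    fin_cases i
    · refine ⟨2, ?_⟩
      show (X 0 : MvPowerSeries (Fin 3) k) ^ 2 ∈ C ⊔ Q
      rw [show (X 0 : MvPowerSeries (Fin 3) k) ^ 2 = (X 0 ^ 2 - X 1 ^ n) + X 1 ^ n by ring]
      exact Submodule.add_mem_sup (Ideal.mem_span_singleton_self _)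
        (Ideal.pow_mem_of_mem _ (Ideal.subset_span (by simp)) n (by omega))
    · exact ⟨1, Ideal.mem_sup_right (by simpa using Ideal.subset_span (α := MvPowerSeries (Fin 3) k) (Set.mem_insert (X 1) {X 2 ^ 2}))⟩
    · exact ⟨2, Ideal.mem_sup_right (Ideal.subset_span (by simp))⟩
  have hM : Good (List.ofFn v) (MvPowerSeries (Fin 3) k ⧸ C) := Groth.KEuler.good_ofFn (by
    obtain ⟨e⟩ := smul_top_quot k C (Ideal.span (Set.range v))
    rw [← Module.length_ne_top_iff, e.length_eq, hrange]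
    exact hCQ.length_ne_top)
  obtain ⟨Pol, hPol⟩ := Groth.KEuler.exists_hsPoly v hM
  have hvm : ∀ j, v j ∈ IsLocalRing.maximalIdeal (MvPowerSeries (Fin 3) k) := fun j => by
    rw [IsLocalRing.mem_maximalIdeal, mem_nonunits_iff, isUnit_iff_constantCoeff]
    fin_cases j <;> simp [hv]
  have hdeg := Groth.KEuler.natDegree_le_of_good v hvm hM hPol
  have hc2 : Pol.coeff 2 = 2 := by
    have h := Groth.KEuler.chi_eq_coeff v hM hPol hdeg
    rw [hv, chi_four k n (by omega)] at h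
    norm_num at h
    linarith
  set L : ℕ → ℕ := fun j => len (C ⊔ Q ^ j) with hL
  have hLhs : ∀ j, Groth.Ega41Dim.hs (Ideal.span (Set.range v)) (MvPowerSeries (Fin 3) k ⧸ C) j = L j := fun j => by
    obtain ⟨e⟩ := smul_top_quot k C (Ideal.span (Set.range v) ^ j)
    rw [Groth.Ega41Dim.hs, e.length_eq, hrange]
    rfl
  have hPrimC : ∀ j, Prim (C ⊔ Q ^ j) := fun j => by
    obtain ⟨N, hN⟩ := hCQ.pow j
    refine ⟨N, hN.trans ?_⟩
    induction j with
    | zero => simp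
    | succ j ih =>
      calc (C ⊔ Q) ^ (j + 1) = (C ⊔ Q) ^ j * (C ⊔ Q) := pow_succ _ _
        _ ≤ (C ⊔ Q ^ j) * (C ⊔ Q) := by
          refine Ideal.mul_mono ?_ le_rfl
          clear hN ih
          induction j with
          | zero => simp
          | succ j ih' =>
            rw [pow_succ]
            refine (Ideal.mul_mono ih' le_rfl).trans ?_
            rw [Ideal.sup_mul, Ideal.mul_sup, Ideal.mul_sup, ← pow_succ]
            exact sup_le (sup_le (Ideal.mul_le_right.trans le_sup_left) (Ideal.mul_le_left.trans le_sup_left))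
              (sup_le (Ideal.mul_le_right.trans le_sup_left) le_sup_right)
        _ ≤ _ := by
          rw [Ideal.sup_mul, Ideal.mul_sup, Ideal.mul_sup, ← pow_succ]
          exact sup_le (sup_le (Ideal.mul_le_right.trans le_sup_left) (Ideal.mul_le_left.trans le_sup_left))
            (sup_le (Ideal.mul_le_right.trans le_sup_left) le_sup_right)
  have hup : ∀ m, len (C ⊔ It ^ m) ≤ L (2 * m) := fun m => len_anti (hPrimC _)
    (sup_le_sup_left (by rw [pow_mul]; exact Ideal.pow_right_mono (sq_le k) m) _)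
  have hlow : ∀ m, L (2 * m) ≤ len (C ⊔ It ^ (m + 1)) := fun m => by
    refine len_anti ((hItp.pow (m + 1)).mono le_sup_right) (sup_le le_sup_left ?_)
    refine (pow_succ_le (reduction k n hn) m).trans (sup_le ?_ le_sup_left)
    rw [← pow_mul]
    exact Ideal.mul_le_left.trans le_sup_right
  have hlimit : ∀ c : ℚ, Tendsto (fun m : ℕ => ((Pol.eval (2 * (m : ℚ) + c) : ℚ) : ℝ) / (m : ℝ) ^ 2) atTop (nhds 8) := by
    intro c
    set R : Polynomial ℚ := Polynomial.C (4 * Pol.coeff 2) * Polynomial.X ^ 2 +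
      Polynomial.C (4 * c * Pol.coeff 2 + 2 * Pol.coeff 1) * Polynomial.X +
      Polynomial.C (c ^ 2 * Pol.coeff 2 + c * Pol.coeff 1 + Pol.coeff 0) with hR
    have he : ∀ q : ℚ, R.eval q = Pol.eval (2 * q + c) := fun q => by
      rw [Polynomial.eval_eq_sum_range' (Nat.lt_succ_of_le hdeg) (2 * q + c), hR]
      simp only [Finset.sum_range_succ, Finset.sum_range_zero, Polynomial.eval_add, Polynomial.eval_mul,
        Polynomial.eval_C, Polynomial.eval_pow, Polynomial.eval_X]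
      ring
    have hd : R.natDegree ≤ 2 := by rw [hR]; exact Polynomial.natDegree_quadratic_le
    have h := Groth.KEuler.tendsto_eval_div hd
    have h8 : R.coeff 2 = 8 := by
      rw [hR, Polynomial.coeff_add, Polynomial.coeff_add, Polynomial.coeff_C_mul, Polynomial.coeff_C_mul,
        Polynomial.coeff_X_pow, Polynomial.coeff_X, Polynomial.coeff_C, hc2]
      norm_num
    rw [h8] at h
    simp only [he] at h
    exact_mod_cast h
  have key : Tendsto (fun m : ℕ => (len (C ⊔ It ^ m) : ℝ) / (m : ℝ) ^ 2) atTop (nhds 8) := by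
    refine tendsto_of_tendsto_of_tendsto_of_le_of_le' (hlimit (-2)) (hlimit 0) ?_ ?_
    · filter_upwards [((tendsto_id.const_mul_atTop' (by omega : 0 < 2)).comp (tendsto_sub_atTop_nat 1)).eventually hPol,
        eventually_ge_atTop 1] with m h1 h2
      obtain ⟨j, rfl⟩ : ∃ j, m = j + 1 := ⟨m - 1, by omega⟩
      simp only [Function.comp_apply, id_eq, Nat.add_sub_cancel] at h1
      refine div_le_div_of_nonneg_right ?_ (by positivity)
      rw [show (2 : ℚ) * ((j + 1 : ℕ) : ℚ) + -2 = ((2 * j : ℕ) : ℚ) by push_cast; ring, ← h1, Rat.cast_natCast, hLhs,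
        Nat.cast_le]
      exact hlow j
    · filter_upwards [(tendsto_id.const_mul_atTop' (by omega : 0 < 2)).eventually hPol] with m h1
      simp only [id_eq] at h1
      refine div_le_div_of_nonneg_right ?_ (by positivity)
      rw [show (2 : ℚ) * (m : ℚ) + 0 = ((2 * m : ℕ) : ℚ) by push_cast; ring, ← h1, Rat.cast_natCast, hLhs, Nat.cast_le]
      exact hup m
  have h := key.const_mul 2
  norm_num at h
  refine h.congr fun m => ?_
  rw [← Ideal.map_pow, hlenA, mul_div_assoc]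
  rfl

end Groth.Agent.S19207
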