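import Groth.Statements.S19208
import Groth.Agent.FrobLCI.KEuler.Limit

set_option autoImplicit false
universe u
open Filter
open LocAlg

namespace Groth.Agent.S19208

/-- Let O be a Noetherian local ring of Krull dimension r containing a field, with maximal ideal m. The
zeroth flat multiplicity e_0(O), the supremum over m-primary ideals I of e(I)/(r!·length(O/I)) with
e(I) the Samuel multiplicity, is at least 1: for every ε > 0 there is an m-primary ideal I (I ⊆ m,
m^N ⊆ I for some N) whose multiplicity e(I), the limit of r!·length(O/I^n)/n^r, satisfies e(I) ≥ (1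
− ε)·r!·length(O/I). (The same statement for the power-series rings O[[t_1, …, t_k]] is the bound
e_k(O) ≥ 1 for the k-th flat multiplicity.) -/
theorem result (O : Type u) [CommRing O] [IsNoetherianRing O]
    [IsLocalRing O] (K : Type u) [Field K] [Algebra K O] (r : ℕ) (hr : ringKrullDim O = r)
    (ε : ℝ) (hε : 0 < ε) :
    ∃ (I : Ideal O) (e : ℝ), I ≤ IsLocalRing.maximalIdeal O ∧
      (∃ N : ℕ, IsLocalRing.maximalIdeal O ^ N ≤ I) ∧
      Tendsto (fun n : ℕ => (r.factorial : ℝ) * ((Module.length O (O ⧸ I ^ n)).toNat : ℝ) / (n : ℝ) ^ r)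
        atTop (nhds e) ∧
      (1 - ε) * ((r.factorial : ℝ) * ((Module.length O (O ⧸ I)).toNat : ℝ)) ≤ e := by
  classical
  set m := IsLocalRing.maximalIdeal O with hm
  have hmax : ∀ q : Ideal O, q.IsPrime → m ≤ q → q.IsMaximal := fun q hq hle =>
    (IsLocalRing.maximalIdeal.isMaximal O).eq_of_le hq.ne_top hle ▸ IsLocalRing.maximalIdeal.isMaximal O
  have := Groth.Ega41Dim.isArtinianRing_quotient_of_forall_isMaximal m hmax
  have hr' : m ≤ Ideal.jacobson ⊥ := (IsLocalRing.jacobson_eq_maximalIdeal ⊥ bot_ne_top).ge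
  obtain ⟨P, hP⟩ := Groth.Ega41Dim.exists_isHSPoly m O
  have hdeg : P.natDegree = r := by
    have h := Groth.Ega41Dim.natDegree_eq_supportDim hmax hr' hP
    rw [Module.supportDim_self_eq_ringKrullDim, hr] at h
    exact_mod_cast h
  have hlen : ∀ k, Groth.Ega41Dim.hs m O k = (Module.length O (O ⧸ m ^ k)).toNat := fun k =>
    congrArg ENat.toNat (Submodule.quotEquivOfEq _ _ (Ideal.mul_top _)).length_eq
  have hP0 : P ≠ 0 := fun h0 => by
    obtain ⟨k, hk, hk1⟩ := (hP.and (eventually_ge_atTop 1)).exists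
    rw [h0, Polynomial.eval_zero, Nat.cast_eq_zero] at hk
    obtain ⟨j, rfl⟩ : ∃ j, k = j + 1 := ⟨k - 1, by omega⟩
    exact (Groth.Ega41Dim.hs_pos (M := O) hr' j).ne' hk
  have hlim := Groth.KEuler.tendsto_eval_div hdeg.le
  have hL : Tendsto (fun k : ℕ => ((Module.length O (O ⧸ m ^ k)).toNat : ℝ) / (k : ℝ) ^ r) atTop
      (nhds (P.coeff r : ℝ)) := by
    refine hlim.congr' ?_
    filter_upwards [hP] with k hk
    rw [← hk, Rat.cast_natCast, hlen]
  have hc0 : (0 : ℝ) ≤ (P.coeff r : ℝ) := ge_of_tendsto' hL fun k => by positivity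
  have hc : (0 : ℝ) < (P.coeff r : ℝ) := by
    refine lt_of_le_of_ne hc0 fun h => ?_
    have h' : P.coeff r = 0 := by exact_mod_cast h.symm
    rw [← hdeg] at h'
    exact Polynomial.leadingCoeff_ne_zero.2 hP0 h'
  have hev := (hL.const_mul (1 - ε)).eventually_lt_const (show (1 - ε) * (P.coeff r : ℝ) < (P.coeff r : ℝ) by nlinarith)
  obtain ⟨N, hN, hN1⟩ := (hev.and (eventually_ge_atTop 1)).exists
  refine ⟨m ^ N, (r.factorial : ℝ) * ((P.coeff r : ℝ) * (N : ℝ) ^ r), Ideal.pow_le_self (by omega), ⟨N, le_rfl⟩, ?_, ?_⟩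
  · have h := ((hL.comp (tendsto_id.const_mul_atTop' (by omega : 0 < N))).mul_const ((N : ℝ) ^ r)).const_mul (r.factorial : ℝ)
    refine h.congr' ?_
    filter_upwards [eventually_ge_atTop 1] with k hk
    simp only [Function.comp_apply, id_eq]
    rw [← pow_mul]
    push_cast
    have h1 : (N : ℝ) ≠ 0 := by exact_mod_cast (by omega : N ≠ 0)
    have h2 : (k : ℝ) ≠ 0 := by exact_mod_cast (by omega : k ≠ 0)
    rw [mul_pow]
    field_simp
  · rw [← mul_div_assoc, div_lt_iff₀ (pow_pos (by exact_mod_cast hN1) r)] at hN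
    have := mul_le_mul_of_nonneg_left hN.le (Nat.cast_nonneg (α := ℝ) r.factorial)
    linarith

end Groth.Agent.S19208
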