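import Groth.Statements.S19210
import Mathlib.Tactic
import Mathlib.Algebra.Ring.GeomSum

set_option autoImplicit false
universe u
open LocAlg

namespace Groth.Agent.S19210

theorem base_bound (j : ℕ) : ∀ n : ℕ, 1 ≤ n →
    |(∑ i ∈ Finset.range n, (i : ℝ) ^ j) - (n : ℝ) ^ (j + 1) / ((j : ℝ) + 1)| ≤ (n : ℝ) ^ j := by
  intro n _
  have step : ∀ i : ℕ, (i : ℝ) ^ j ≤ (((i : ℝ) + 1) ^ (j + 1) - (i : ℝ) ^ (j + 1)) / ((j : ℝ) + 1) ∧
      (((i : ℝ) + 1) ^ (j + 1) - (i : ℝ) ^ (j + 1)) / ((j : ℝ) + 1) ≤ ((i : ℝ) + 1) ^ j := fun i => by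
    have hg := geom_sum₂_mul ((i : ℝ) + 1) (i : ℝ) (j + 1)
    rw [add_sub_cancel_left, mul_one] at hg
    rw [← hg, le_div_iff₀ (by positivity), div_le_iff₀ (by positivity)]
    have hi : (0 : ℝ) ≤ (i : ℝ) := by positivity
    constructor
    · have : ∀ m ∈ Finset.range (j + 1), (i : ℝ) ^ j ≤ ((i : ℝ) + 1) ^ m * (i : ℝ) ^ (j + 1 - 1 - m) := by
        intro m hm
        rw [Finset.mem_range] at hm
        calc (i : ℝ) ^ j = (i : ℝ) ^ m * (i : ℝ) ^ (j + 1 - 1 - m) := by rw [← pow_add]; congr 1; omega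
          _ ≤ _ := by gcongr; linarith
      simpa [mul_comm] using Finset.card_nsmul_le_sum _ _ _ this
    · have : ∀ m ∈ Finset.range (j + 1), ((i : ℝ) + 1) ^ m * (i : ℝ) ^ (j + 1 - 1 - m) ≤ ((i : ℝ) + 1) ^ j := by
        intro m hm
        rw [Finset.mem_range] at hm
        calc ((i : ℝ) + 1) ^ m * (i : ℝ) ^ (j + 1 - 1 - m)
            ≤ ((i : ℝ) + 1) ^ m * ((i : ℝ) + 1) ^ (j + 1 - 1 - m) := by gcongr; linarith
          _ = _ := by rw [← pow_add]; congr 1; omega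
      simpa [mul_comm] using Finset.sum_le_card_nsmul _ _ _ this
  have h1 : ∑ i ∈ Finset.range n, (i : ℝ) ^ j ≤ (n : ℝ) ^ (j + 1) / ((j : ℝ) + 1) ∧
      (n : ℝ) ^ (j + 1) / ((j : ℝ) + 1) ≤ (∑ i ∈ Finset.range n, (i : ℝ) ^ j) + (n : ℝ) ^ j := by
    clear *- step
    induction n with
    | zero => simp
    | succ n ih =>
      obtain ⟨a, b⟩ := step n
      rw [Finset.sum_range_succ, Nat.cast_succ]
      rw [sub_div] at a b
      constructor <;> linarith [ih.1, ih.2]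
  rw [abs_le]
  constructor <;> linarith [h1.1, h1.2, pow_nonneg (Nat.cast_nonneg n : (0 : ℝ) ≤ n) j]

theorem bound : ∀ a j : ℕ, ∃ C : ℝ, ∀ n : ℕ, 1 ≤ n →
    |(∑ i ∈ Finset.range n, ((n : ℝ) - (i : ℝ)) ^ a * (i : ℝ) ^ j) -
      (a.factorial : ℝ) * (j.factorial : ℝ) / ((a + j + 1).factorial : ℝ) * (n : ℝ) ^ (a + j + 1)| ≤
        C * (n : ℝ) ^ (a + j) := by
  intro a
  induction a with
  | zero =>
    intro j
    refine ⟨1, fun n hn => ?_⟩
    have hj : (j.factorial : ℝ) ≠ 0 := by positivity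
    have hc : ((0 : ℕ).factorial : ℝ) * (j.factorial : ℝ) / ((0 + j + 1).factorial : ℝ) = 1 / ((j : ℝ) + 1) := by
      rw [zero_add, Nat.factorial_succ]
      push_cast
      field_simp
      simp
    rw [hc, one_mul, zero_add, div_mul_eq_mul_div, one_mul]
    simpa using base_bound j n hn
  | succ a ih =>
    intro j
    obtain ⟨C₁, h₁⟩ := ih j
    obtain ⟨C₂, h₂⟩ := ih (j + 1)
    refine ⟨C₁ + C₂, fun n hn => ?_⟩
    have e : ∑ i ∈ Finset.range n, ((n : ℝ) - (i : ℝ)) ^ (a + 1) * (i : ℝ) ^ j =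
        (n : ℝ) * (∑ i ∈ Finset.range n, ((n : ℝ) - (i : ℝ)) ^ a * (i : ℝ) ^ j) -
          ∑ i ∈ Finset.range n, ((n : ℝ) - (i : ℝ)) ^ a * (i : ℝ) ^ (j + 1) := by
      rw [Finset.mul_sum, ← Finset.sum_sub_distrib]
      exact Finset.sum_congr rfl fun i _ => by ring
    have hc : ((a + 1).factorial : ℝ) * (j.factorial : ℝ) / ((a + 1 + j + 1).factorial : ℝ) =
        (a.factorial : ℝ) * (j.factorial : ℝ) / ((a + j + 1).factorial : ℝ) -
          (a.factorial : ℝ) * ((j + 1).factorial : ℝ) / ((a + (j + 1) + 1).factorial : ℝ) := by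
      rw [show a + 1 + j + 1 = (a + j + 1) + 1 by omega, show a + (j + 1) + 1 = (a + j + 1) + 1 by omega,
        Nat.factorial_succ (a + j + 1), Nat.factorial_succ a, Nat.factorial_succ j]
      have : ((a + j + 1).factorial : ℝ) ≠ 0 := by positivity
      push_cast
      field_simp
      ring
    obtain ⟨u₁, hu₁⟩ : ∃ u, u = ∑ i ∈ Finset.range n, ((n : ℝ) - (i : ℝ)) ^ a * (i : ℝ) ^ j := ⟨_, rfl⟩
    have b₁ := abs_le.1 (h₁ n hn)
    have b₂ := abs_le.1 (h₂ n hn)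
    rw [e, hc, abs_le]
    rw [show a + 1 + j + 1 = (a + j + 1) + 1 by omega, show a + 1 + j = (a + j) + 1 by omega]
    simp only [show a + (j + 1) + 1 = (a + j + 1) + 1 by omega, show a + (j + 1) = (a + j) + 1 by omega] at b₂ ⊢
    simp only [pow_succ] at b₁ b₂ ⊢
    have hn0 : (0 : ℝ) ≤ n := Nat.cast_nonneg n
    constructor <;> nlinarith [mul_le_mul_of_nonneg_left b₁.1 hn0, mul_le_mul_of_nonneg_left b₁.2 hn0]


/-- For natural numbers j ≤ r, the sums Σ_{i=0}^{n−1} (n − i)^{r−j} i^j equal n^{r+1}·(r − j)!·j!/(r +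
1)! up to O(n^r): there is a real constant C with |Σ_{i<n} (n − i)^{r−j} i^j − ((r − j)!·j!/(r +
1)!)·n^{r+1}| ≤ C·n^r for all n ≥ 1. -/
theorem result (r j : ℕ) (hj : j ≤ r) :
    ∃ C : ℝ, ∀ n : ℕ, 1 ≤ n →
      |(∑ i ∈ Finset.range n, ((n : ℝ) - (i : ℝ)) ^ (r - j) * (i : ℝ) ^ j) -
          ((r - j).factorial : ℝ) * (j.factorial : ℝ) / ((r + 1).factorial : ℝ) * (n : ℝ) ^ (r + 1)| ≤
        C * (n : ℝ) ^ r := by
  obtain ⟨C, hC⟩ := bound (r - j) j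
  rw [Nat.sub_add_cancel hj] at hC
  exact ⟨C, hC⟩

end Groth.Agent.S19210
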