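import Groth.Statements.S19212
import Groth.Agent.DiagIdealH.KaehlerLift

set_option autoImplicit false
universe u v
open TensorProduct
open DiagIdeal

namespace Groth.Agent.S19212

/-- Let k be an algebraically closed field of characteristic zero and A a smooth k-algebra which is a
domain. Let the symmetric group on three letters permute the factors of A ⊗ A ⊗ A (it is generated
by the swap of the first two factors and the swap of the last two), let r : A ⊗ (A ⊗ A) → A ⊗ A be
the k-linear map a ⊗ b ⊗ c ↦ ab ⊗ c, and let D : A ⊗ A → Ω_{A/k} be the k-linear map a ⊗ b ↦ 2a·db −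
b·da. Then an element y of A ⊗ A satisfies D y = 0 if and only if y = r x for some x fixed by both
swaps, and D is surjective. (This is exactness at the last two places of the four-term right
resolution of the invariants of the ideal of the big diagonal on the symmetric cube of X = Spec A,
namely invariant functions on X³, then functions on X × X through restriction to a diagonal, then
one-forms on X; exactness at the first two places is immediate. The published statement is the sheaf
version on the symmetric cube of a smooth complex variety of any dimension; an algebraically closed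
field of characteristic zero is used here.) -/
theorem result (k : Type u) [Field k] [IsAlgClosed k] [CharZero k]
    (A : Type v) [CommRing A] [Algebra k A] [Algebra.Smooth k A] [IsDomain A]
    (r : A ⊗[k] (A ⊗[k] A) →ₗ[k] A ⊗[k] A)
    (hr : ∀ a b c : A, r (a ⊗ₜ[k] (b ⊗ₜ[k] c)) = (a * b) ⊗ₜ[k] c)
    (D : A ⊗[k] A →ₗ[k] Ω[A⁄k])
    (hD : ∀ a b : A, D (a ⊗ₜ[k] b) = (2 : A) • (a • KaehlerDifferential.D k A b) - b • KaehlerDifferential.D k A a) :
    (∀ y : A ⊗[k] A, D y = 0 ↔ ∃ x : A ⊗[k] (A ⊗[k] A),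
        TensorProduct.leftComm k A A A x = x ∧
        LinearMap.lTensor A (TensorProduct.comm k A A).toLinearMap x = x ∧ r x = y) ∧
    Function.Surjective D := by
  classical
  have h2 : (2 : k) ≠ 0 := two_ne_zero
  have h3 : (3 : k) ≠ 0 := three_ne_zero
  let s₁ : A ⊗[k] (A ⊗[k] A) →ₗ[k] A ⊗[k] (A ⊗[k] A) := (TensorProduct.leftComm k A A A).toLinearMap
  let s₂ : A ⊗[k] (A ⊗[k] A) →ₗ[k] A ⊗[k] (A ⊗[k] A) := LinearMap.lTensor A (TensorProduct.comm k A A).toLinearMap
  let S : A ⊗[k] (A ⊗[k] A) →ₗ[k] A ⊗[k] (A ⊗[k] A) :=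
    LinearMap.id + s₁ + s₂ + s₁ ∘ₗ s₂ + s₂ ∘ₗ s₁ + s₁ ∘ₗ s₂ ∘ₗ s₁
  have hS₁ : s₁ ∘ₗ S = S := by ext a b c; simp [S, s₁, s₂]; abel
  have hS₂ : s₂ ∘ₗ S = S := by ext a b c; simp [S, s₁, s₂]; abel
  have hDS : D ∘ₗ r ∘ₗ S = 0 := by
    ext a b c
    simp only [S, s₁, s₂, TensorProduct.AlgebraTensorModule.curry_apply, LinearMap.restrictScalars_self,
      TensorProduct.curry_apply, LinearMap.coe_comp, Function.comp_apply, LinearMap.add_apply, LinearMap.id_coe,
      id_eq, LinearEquiv.coe_coe, TensorProduct.leftComm_tmul, LinearMap.lTensor_tmul, TensorProduct.comm_tmul,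
      map_add, hr, hD, LinearMap.zero_apply, Derivation.leibniz]
    module
  let N : Submodule k (A ⊗[k] A) := LinearMap.range (r ∘ₗ S)
  have hT : ∀ a b c : A, ((a * b) ⊗ₜ[k] c + (a * c) ⊗ₜ[k] b + (b * c) ⊗ₜ[k] a : A ⊗[k] A) ∈ N := by
    intro a b c
    refine ⟨(2 : k)⁻¹ • (a ⊗ₜ[k] (b ⊗ₜ[k] c)), ?_⟩
    simp [S, s₁, s₂, hr, mul_comm b a, mul_comm c a, mul_comm c b]
    match_scalars <;> field_simp <;> norm_num
  let φ : A →ₗ[k] A →ₗ[k] (A ⊗[k] A) ⧸ N :=
    (3 : k)⁻¹ • ((2 : k) • (TensorProduct.mk k A A).compr₂ N.mkQ + ((TensorProduct.mk k A A).compr₂ N.mkQ).flip)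
  have hφ : ∀ a b c, φ a (b * c) = φ (a * b) c + φ (a * c) b := by
    intro a b c
    have t0 : N.mkQ ((a * b) ⊗ₜ[k] c + (a * c) ⊗ₜ[k] b + (b * c) ⊗ₜ[k] a) = 0 :=
      (Submodule.Quotient.mk_eq_zero N).2 (hT a b c)
    have t1 : N.mkQ ((a * (b * c)) ⊗ₜ[k] 1 + (a * 1) ⊗ₜ[k] (b * c) + (b * c * 1) ⊗ₜ[k] a) = 0 :=
      (Submodule.Quotient.mk_eq_zero N).2 (hT a (b * c) 1)
    have t2 : N.mkQ ((a * b * c) ⊗ₜ[k] 1 + (a * b * 1) ⊗ₜ[k] c + (c * 1) ⊗ₜ[k] (a * b)) = 0 :=
      (Submodule.Quotient.mk_eq_zero N).2 (hT (a * b) c 1)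
    have t3 : N.mkQ ((a * c * b) ⊗ₜ[k] 1 + (a * c * 1) ⊗ₜ[k] b + (b * 1) ⊗ₜ[k] (a * c)) = 0 :=
      (Submodule.Quotient.mk_eq_zero N).2 (hT (a * c) b 1)
    simp only [mul_one, mul_assoc, mul_comm c b, map_add] at t0 t1 t2 t3
    simp only [φ, LinearMap.smul_apply, LinearMap.add_apply, LinearMap.flip_apply, LinearMap.compr₂_apply,
      TensorProduct.mk_apply, ← smul_add]
    congr 1
    linear_combination (norm := module) (-1 : ℤ) • t0 + (2 : ℤ) • t1 - t2 - t3
  obtain ⟨Φ, hΦ⟩ := Groth.DiagIdealH.exists_kaehlerLift φ hφ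
  have htwo : ∀ w : Ω[A⁄k], (2 : A) • w = (2 : k) • w := fun w => by
    rw [← algebraMap_smul A (2 : k) w, map_ofNat]
  have hΦD : Φ ∘ₗ D = N.mkQ := by
    ext a b
    simp only [TensorProduct.AlgebraTensorModule.curry_apply, LinearMap.restrictScalars_self,
      TensorProduct.curry_apply, LinearMap.coe_comp, Function.comp_apply, hD, htwo, map_sub, map_smul, hΦ,
      φ, LinearMap.smul_apply, LinearMap.add_apply, LinearMap.flip_apply, LinearMap.compr₂_apply,
      TensorProduct.mk_apply]
    match_scalars <;> field_simp <;> norm_num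
  refine ⟨fun y => ⟨fun hy => ?_, ?_⟩, ?_⟩
  · have : N.mkQ y = 0 := by rw [← hΦD, LinearMap.comp_apply, hy, map_zero]
    obtain ⟨z, hz⟩ := (Submodule.Quotient.mk_eq_zero N).1 this
    exact ⟨S z, LinearMap.congr_fun hS₁ z, LinearMap.congr_fun hS₂ z, hz⟩
  · rintro ⟨x, hx1, hx2, rfl⟩
    have hx1' : s₁ x = x := hx1
    have hx2' : s₂ x = x := hx2
    have hSx : S x = (6 : k) • x := by
      simp only [S, LinearMap.add_apply, LinearMap.coe_comp, Function.comp_apply, LinearMap.id_coe, id_eq, hx1', hx2']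
      module
    have h0 : D (r (S x)) = 0 := LinearMap.congr_fun hDS x
    rw [hSx, map_smul, map_smul, smul_eq_zero] at h0
    exact h0.resolve_left (by norm_num)
  · have hgen : ∀ a b : A, a • KaehlerDifferential.D k A b ∈ LinearMap.range D := by
      intro a b
      refine ⟨(3 : k)⁻¹ • ((2 : k) • a ⊗ₜ[k] b + b ⊗ₜ[k] a), ?_⟩
      simp only [map_smul, map_add, hD, htwo]
      have e : algebraMap k A (1/3) * 3 = 1 := by
        rw [← map_ofNat (algebraMap k A) 3, ← map_mul]; norm_num
      match_scalars <;> field_simp <;> norm_num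
      all_goals simp only [map_ofNat]
      all_goals linear_combination a * e
    intro w
    have hw : w ∈ Submodule.span A (Set.range (KaehlerDifferential.D k A)) := by
      rw [KaehlerDifferential.span_range_derivation]; trivial
    suffices ∀ a : A, a • w ∈ LinearMap.range D by simpa using this 1
    induction hw using Submodule.span_induction with
    | mem x hx => obtain ⟨b, rfl⟩ := hx; exact fun a => hgen a b
    | zero => intro a; rw [smul_zero]; exact zero_mem _
    | add x y _ _ hx hy => intro a; rw [smul_add]; exact add_mem (hx a) (hy a)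
    | smul c x _ hx => intro a; rw [smul_smul]; exact hx _

end Groth.Agent.S19212
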