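import Groth.Statements.S19213
import Groth.Agent.DiagIdealH.KaehlerLift

set_option autoImplicit false
universe u v
open TensorProduct
open DiagIdeal

namespace Groth.Agent.S19213

/-- Let k be an algebraically closed field of characteristic zero and A a smooth k-algebra which is a
domain. Let r₁₂, r₂₃ : A ⊗ (A ⊗ A) → A ⊗ A be the k-linear maps a ⊗ u ⊗ v ↦ au ⊗ v and a ⊗ u ⊗ v ↦
uv ⊗ a (restriction to the diagonal of factors 1, 2, resp. 2, 3, the repeated coordinate written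
first), let m : A ⊗ A → A be multiplication, and let ψ : (A ⊗ A) × (A ⊗ A) → Ω_{A/k} be the k-linear
map with ψ(a ⊗ u, b ⊗ v) = 2a·du − v·db. Then for p, q in A ⊗ A with m p = m q one has ψ(p, q) = 0
if and only if (p, q) = (r₁₂ x, r₂₃ x) for some x fixed by the swap of the last two tensor factors;
and every element of Ω_{A/k} is ψ(p, q) for some pair with m p = m q. (This is exactness at the last
two places of the right resolution, on the symmetric cube of X = Spec A, of the invariants of the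
ideal of the big diagonal under the transposition of the last two factors; exactness at the first
two places is immediate. The published statement is the sheaf version for a smooth complex variety
of any dimension; an algebraically closed field of characteristic zero is used here.) -/
theorem result (k : Type u) [Field k] [IsAlgClosed k] [CharZero k]
    (A : Type v) [CommRing A] [Algebra k A] [Algebra.Smooth k A] [IsDomain A]
    (r₁₂ r₂₃ : A ⊗[k] (A ⊗[k] A) →ₗ[k] A ⊗[k] A)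
    (h₁₂ : ∀ a u v : A, r₁₂ (a ⊗ₜ[k] (u ⊗ₜ[k] v)) = (a * u) ⊗ₜ[k] v)
    (h₂₃ : ∀ a u v : A, r₂₃ (a ⊗ₜ[k] (u ⊗ₜ[k] v)) = (u * v) ⊗ₜ[k] a)
    (ψ : (A ⊗[k] A) × (A ⊗[k] A) →ₗ[k] Ω[A⁄k])
    (hψ : ∀ a u b v : A, ψ (a ⊗ₜ[k] u, b ⊗ₜ[k] v) =
      (2 : A) • (a • KaehlerDifferential.D k A u) - v • KaehlerDifferential.D k A b) :
    (∀ p q : A ⊗[k] A, LinearMap.mul' k A p = LinearMap.mul' k A q →
      (ψ (p, q) = 0 ↔ ∃ x : A ⊗[k] (A ⊗[k] A),
        LinearMap.lTensor A (TensorProduct.comm k A A).toLinearMap x = x ∧ r₁₂ x = p ∧ r₂₃ x = q)) ∧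
    (∀ ω : Ω[A⁄k], ∃ p q : A ⊗[k] A, LinearMap.mul' k A p = LinearMap.mul' k A q ∧ ψ (p, q) = ω) := by
  classical
  have h2 : (2 : k) ≠ 0 := two_ne_zero
  let s : A ⊗[k] (A ⊗[k] A) →ₗ[k] A ⊗[k] (A ⊗[k] A) := LinearMap.lTensor A (TensorProduct.comm k A A).toLinearMap
  let S : A ⊗[k] (A ⊗[k] A) →ₗ[k] A ⊗[k] (A ⊗[k] A) := LinearMap.id + s
  have hS : s ∘ₗ S = S := by ext a b c; simp [S, s, add_comm]
  have htwo : ∀ w : Ω[A⁄k], (2 : A) • w = (2 : k) • w := fun w => by
    rw [← algebraMap_smul A (2 : k) w, map_ofNat]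
  have hψ1 : ∀ a u : A, ψ (a ⊗ₜ[k] u, 0) = (2 : k) • (a • KaehlerDifferential.D k A u) := fun a u => by
    simpa [htwo] using hψ a u 0 0
  have hψ2 : ∀ b v : A, ψ (0, b ⊗ₜ[k] v) = - (v • KaehlerDifferential.D k A b) := fun b v => by
    simpa using hψ 0 0 b v
  let G : A ⊗[k] (A ⊗[k] A) →ₗ[k] (A ⊗[k] A) × (A ⊗[k] A) := (r₁₂.prod r₂₃) ∘ₗ S
  let J : A →ₗ[k] (A ⊗[k] A) × (A ⊗[k] A) := LinearMap.inl k _ _ ∘ₗ (TensorProduct.mk k A A).flip 1
  have hG : ∀ a u v : A, G (a ⊗ₜ[k] (u ⊗ₜ[k] v)) =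
      ((a * u) ⊗ₜ[k] v + (a * v) ⊗ₜ[k] u, (u * v) ⊗ₜ[k] a + (v * u) ⊗ₜ[k] a) := fun a u v => by
    simp [G, S, s, h₁₂, h₂₃]
  have hψG : ψ ∘ₗ G = 0 := by
    ext a u v
    simp only [TensorProduct.AlgebraTensorModule.curry_apply, LinearMap.restrictScalars_self,
      TensorProduct.curry_apply, LinearMap.coe_comp, Function.comp_apply, hG, LinearMap.zero_apply]
    have e : ∀ x y z w : A ⊗[k] A, ((x + y, z + w) : (A ⊗[k] A) × (A ⊗[k] A)) = (x, 0) + (y, 0) + (0, z) + (0, w) := by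
      intros; simp
    rw [e, map_add, map_add, map_add, hψ1, hψ1, hψ2, hψ2, mul_comm v u, Derivation.leibniz]
    match_scalars <;> simp [map_ofNat] <;> ring
  let N := LinearMap.range G ⊔ LinearMap.range J
  let φ : A →ₗ[k] A →ₗ[k] ((A ⊗[k] A) × (A ⊗[k] A)) ⧸ N :=
    (2 : k)⁻¹ • (TensorProduct.mk k A A).compr₂ (N.mkQ ∘ₗ LinearMap.inl k _ _)
  have hφ : ∀ a b c, φ a (b * c) = φ (a * b) c + φ (a * c) b := by
    intro a b c
    simp only [φ, LinearMap.smul_apply, LinearMap.compr₂_apply, TensorProduct.mk_apply, ← smul_add]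
    congr 1
    simp only [LinearMap.coe_comp, Function.comp_apply]
    rw [← map_add, ← map_add, Submodule.mkQ_apply, Submodule.mkQ_apply, Submodule.Quotient.eq]
    have hm : G (a ⊗ₜ[k] ((b * c) ⊗ₜ[k] 1)) - G (a ⊗ₜ[k] (b ⊗ₜ[k] c)) - J (a * (b * c)) ∈ N :=
      sub_mem (sub_mem (Submodule.mem_sup_left ⟨_, rfl⟩) (Submodule.mem_sup_left ⟨_, rfl⟩)) (Submodule.mem_sup_right ⟨_, rfl⟩)
    convert hm using 1
    rw [hG, hG]
    ext <;> simp [J, mul_comm c b]
    all_goals abel
  obtain ⟨Φ, hΦ⟩ := Groth.DiagIdealH.exists_kaehlerLift φ hφ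
  have hΦψ : Φ ∘ₗ ψ = N.mkQ := by
    ext a u
    · simp only [TensorProduct.AlgebraTensorModule.curry_apply, LinearMap.restrictScalars_self,
        TensorProduct.curry_apply, LinearMap.coe_comp, Function.comp_apply, LinearMap.inl_apply, hψ1, map_smul, hΦ,
        φ, LinearMap.smul_apply, LinearMap.compr₂_apply, TensorProduct.mk_apply, smul_smul, mul_inv_cancel₀ h2, one_smul]
    · simp only [TensorProduct.AlgebraTensorModule.curry_apply, LinearMap.restrictScalars_self,
        TensorProduct.curry_apply, LinearMap.coe_comp, Function.comp_apply, LinearMap.inr_apply, hψ2, map_neg, hΦ,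
        φ, LinearMap.smul_apply, LinearMap.compr₂_apply, TensorProduct.mk_apply, LinearMap.inl_apply]
      rw [← neg_smul, ← map_smul, Submodule.mkQ_apply, Submodule.mkQ_apply, Submodule.Quotient.eq]
      have hm : -((2 : k)⁻¹ • (G (u ⊗ₜ[k] (a ⊗ₜ[k] 1)) - J (u * a))) ∈ N :=
        neg_mem (N.smul_mem _ (sub_mem (Submodule.mem_sup_left ⟨_, rfl⟩) (Submodule.mem_sup_right ⟨_, rfl⟩)))
      convert hm using 1
      rw [hG]
      ext <;> simp [J]
      all_goals (try module)
      all_goals (match_scalars <;> field_simp <;> norm_num)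
  refine ⟨fun p q hpq => ⟨fun h => ?_, ?_⟩, ?_⟩
  · have : N.mkQ (p, q) = 0 := by rw [← hΦψ, LinearMap.comp_apply, h, map_zero]
    obtain ⟨_, ⟨y, rfl⟩, _, ⟨z, rfl⟩, hyz⟩ := Submodule.mem_sup.1 ((Submodule.Quotient.mk_eq_zero N).1 this)
    have hm : (LinearMap.mul' k A) ∘ₗ r₁₂ = (LinearMap.mul' k A) ∘ₗ r₂₃ := by
      ext a u v; simp [h₁₂, h₂₃]; ring
    have h1 := congrArg Prod.fst hyz
    have h2' := congrArg Prod.snd hyz
    simp [G, J] at h1 h2'
    have hz : z = 0 := by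
      have e1 := congrArg (LinearMap.mul' k A) h1
      rw [map_add, LinearMap.mul'_apply, mul_one, hpq, ← h2', ← LinearMap.comp_apply, hm, LinearMap.comp_apply] at e1
      simpa using e1
    rw [hz, TensorProduct.zero_tmul, add_zero] at h1
    exact ⟨S y, LinearMap.congr_fun hS y, h1, h2'⟩
  · rintro ⟨x, hx, rfl, rfl⟩
    have hSx : S x = (2 : k) • x := by
      show x + s x = _
      rw [show s x = x from hx, two_smul]
    have h0 : ψ (G x) = 0 := LinearMap.congr_fun hψG x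
    rw [show G x = (2 : k) • (r₁₂ x, r₂₃ x) by simp [G, hSx], map_smul, smul_eq_zero] at h0
    exact h0.resolve_left h2
  · intro w
    have hw : w ∈ Submodule.span A (Set.range (KaehlerDifferential.D k A)) := by
      rw [KaehlerDifferential.span_range_derivation]; trivial
    let V : Submodule k (Ω[A⁄k]) := Submodule.map ψ (LinearMap.ker
      (LinearMap.mul' k A ∘ₗ LinearMap.fst k _ _ - LinearMap.mul' k A ∘ₗ LinearMap.snd k _ _))
    suffices ∀ a : A, a • w ∈ V by
      obtain ⟨⟨p, q⟩, hpq, h⟩ := this 1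
      exact ⟨p, q, sub_eq_zero.1 hpq, by rw [h, one_smul]⟩
    induction hw using Submodule.span_induction with
    | mem x hx =>
      obtain ⟨u, rfl⟩ := hx
      intro a
      refine ⟨(2 : k)⁻¹ • ((a ⊗ₜ[k] u, 0) - ((a * u) ⊗ₜ[k] 1, 0)), ?_, ?_⟩
      · show _ = _
        simp
      · rw [map_smul, map_sub, hψ1, hψ1, Derivation.map_one_eq_zero, smul_zero, smul_zero, sub_zero,
          smul_smul, inv_mul_cancel₀ h2, one_smul]
    | zero => intro a; rw [smul_zero]; exact zero_mem _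
    | add x y _ _ hx hy => intro a; rw [smul_add]; exact add_mem (hx a) (hy a)
    | smul c x _ hx => intro a; rw [smul_smul]; exact hx _

end Groth.Agent.S19213
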