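import Groth.Statements.S19216
import Mathlib

set_option autoImplicit false
universe u
open SymRep

namespace Groth.Agent.S19216

/-- Let k be a field of characteristic zero and r, s ≥ 1. Realise the standard representation of the
symmetric group on a finite set T as the hyperplane of functions T → k with sum zero, the group
acting by precomposition with the inverse. Then the standard representation of the symmetric group
of Fin r ⊕ Fin s, restricted to the subgroup S_r × S_s, is isomorphic to the direct sum of the
standard representations of S_r and of S_s and of a one-dimensional trivial representation: there is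
a k-linear map E from functions on Fin r ⊕ Fin s to triples (function on Fin r, function on Fin s,
scalar), compatible with the actions of S_r × S_s (trivial on the scalar), which maps the sum-zero
hyperplane bijectively onto the product of the two sum-zero hyperplanes and k. (The published
statement is over the complex numbers; a field of characteristic zero is used here. The published
statement also gives the analogous decomposition for any number of blocks, which follows by
induction; only the two-block case is stated here.) -/
theorem result (k : Type u) [Field k] [CharZero k]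
    (r s : ℕ) (hr : 1 ≤ r) (hs : 1 ≤ s) :
    ∃ E : (Fin r ⊕ Fin s → k) →ₗ[k] (Fin r → k) × (Fin s → k) × k,
      (∀ (σ : Equiv.Perm (Fin r)) (τ : Equiv.Perm (Fin s)) (f : Fin r ⊕ Fin s → k),
        E (f ∘ ⇑(Equiv.sumCongr σ τ).symm) = ((E f).1 ∘ ⇑σ.symm, (E f).2.1 ∘ ⇑τ.symm, (E f).2.2)) ∧
      Set.BijOn E {f | ∑ i, f i = 0}
        ({g : Fin r → k | ∑ i, g i = 0} ×ˢ ({h : Fin s → k | ∑ i, h i = 0} ×ˢ Set.univ)) := by
  have hr' : (r : k) ≠ 0 := by exact_mod_cast (by omega : r ≠ 0)
  have hs' : (s : k) ≠ 0 := by exact_mod_cast (by omega : s ≠ 0)
  refine ⟨{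
    toFun := fun f => (fun i => f (Sum.inl i) - (∑ j, f (Sum.inl j)) / r,
      fun i => f (Sum.inr i) - (∑ j, f (Sum.inr j)) / s, ∑ j, f (Sum.inl j))
    map_add' := fun f g => by
      simp only [Pi.add_apply, Finset.sum_add_distrib, Prod.mk_add_mk]
      refine Prod.ext (funext fun i => ?_) (Prod.ext (funext fun i => ?_) rfl) <;> simp <;> ring
    map_smul' := fun c f => by
      simp only [Pi.smul_apply, ← Finset.smul_sum, RingHom.id_apply, Prod.smul_mk]
      refine Prod.ext (funext fun i => ?_) (Prod.ext (funext fun i => ?_) rfl) <;> simp <;> ring }, ?_, ?_⟩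
  · intro σ τ f
    simp only [LinearMap.coe_mk, AddHom.coe_mk]
    refine Prod.ext (funext fun i => ?_) (Prod.ext (funext fun i => ?_) ?_) <;>
      simp [Equiv.sum_comp σ.symm (fun j => f (Sum.inl j)), Equiv.sum_comp τ.symm (fun j => f (Sum.inr j))]
  · refine ⟨?_, ?_, ?_⟩
    · intro f _
      simp [Finset.sum_sub_distrib, mul_div_cancel₀, hr', hs']
    · intro f hf g hg h
      simp only [Set.mem_ofPred_eq, Fintype.sum_sum_type] at hf hg
      simp only [LinearMap.coe_mk, AddHom.coe_mk, Prod.mk.injEq] at h
      obtain ⟨h1, h2, h3⟩ := h
      have h4 : (∑ j, f (Sum.inr j)) = ∑ j, g (Sum.inr j) := by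
        exact add_left_cancel (hf.trans (hg.symm.trans (by rw [h3])))
      funext i
      rcases i with i | i
      · have := congrFun h1 i; rw [h3] at this; linear_combination this
      · have := congrFun h2 i; rw [h4] at this; linear_combination this
    · rintro ⟨g, h, c⟩ ⟨hg, hh, -⟩
      simp only [Set.mem_ofPred_eq] at hg hh
      refine ⟨Sum.elim (fun i => g i + c / r) (fun i => h i - c / s), ?_, ?_⟩
      · simp [Fintype.sum_sum_type, Finset.sum_add_distrib, Finset.sum_sub_distrib, hg, hh, mul_div_cancel₀, hr', hs']
      · simp only [LinearMap.coe_mk, AddHom.coe_mk]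
        refine Prod.ext (funext fun i => ?_) (Prod.ext (funext fun i => ?_) ?_) <;>
          simp [Finset.sum_add_distrib, Finset.sum_sub_distrib, hg, hh, mul_div_cancel₀, hr', hs']
        ring

end Groth.Agent.S19216
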