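import Groth.Statements.S19217
import Groth.Agent.DiagIdealH.LocCohPow
-- import your own Groth.Agent.* helpers here

set_option autoImplicit false
universe u
open TensorProduct CategoryTheory CategoryTheory.Limits
open DiagIdeal

namespace Groth.Agent.S19217


/-- Let k be an algebraically closed field of characteristic zero and A a smooth k-algebra which is a
domain of Krull dimension 2 (an affine piece of a smooth surface). In the n-fold tensor power R of A
over k, indexed by Fin n, let I_p (p = (i, j), i < j) be the ideal generated by the a_i − a_j, a ∈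
A, the ideal of the diagonal of factors i and j; let M be the intersection of the powers I_p ^ ℓ(p)
over all p with i < j, for arbitrary exponents ℓ; and let 𝔞 be the intersection, over all pairs of
distinct index pairs p ≠ q, of I_p + I_q (an ideal cutting out the locus W where two distinct
pairwise diagonals meet, of codimension 4). Then the local cohomology modules of M with support in 𝔞
vanish in degrees 0 and 1; equivalently M, as a sheaf on Spec R, coincides with the direct image of
its restriction to the complement of W. (The source states this for the product of copies of a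
smooth quasi-projective complex surface, as the equality of the direct image from the complement of
W of the restricted product of the powers of the diagonal ideals with the intersection of those
powers; the two sheaves agree away from W, where the diagonals are pairwise disjoint.) -/
theorem result (k : Type u) [Field k] [IsAlgClosed k] [CharZero k]
    (A : Type u) [CommRing A] [Algebra k A] [Algebra.Smooth k A] [IsDomain A]
    (hdim : ringKrullDim A = 2) (n : ℕ) (ℓ : Fin n × Fin n → ℕ)
    (I : Fin n × Fin n → Ideal (⨂[k] _ : Fin n, A))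
    (hI : ∀ p, I p = Ideal.span (Set.range fun a : A =>
        PiTensorProduct.singleAlgHom (R := k) (A := fun _ : Fin n => A) p.1 a -
        PiTensorProduct.singleAlgHom (R := k) (A := fun _ : Fin n => A) p.2 a))
    (𝔞 : Ideal (⨂[k] _ : Fin n, A))
    (h𝔞 : 𝔞 = ⨅ pq ∈ Finset.univ.filter (fun pq : (Fin n × Fin n) × (Fin n × Fin n) =>
        pq.1.1 < pq.1.2 ∧ pq.2.1 < pq.2.2 ∧ pq.1 ≠ pq.2), I pq.1 ⊔ I pq.2)
    (M : Submodule (⨂[k] _ : Fin n, A) (⨂[k] _ : Fin n, A))
    (hM : M = ⨅ p ∈ Finset.univ.filter (fun p : Fin n × Fin n => p.1 < p.2), (I p) ^ (ℓ p)) :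
    IsZero ((localCohomology 𝔞 0).obj (ModuleCat.of (⨂[k] _ : Fin n, A) M)) ∧
    IsZero ((localCohomology 𝔞 1).obj (ModuleCat.of (⨂[k] _ : Fin n, A) M)) := by
  classical
  obtain rfl : I = fun p => Groth.DiagIdealH.diag (k := k) (A := A) p.1 p.2 := funext hI
  have := Groth.DiagIdealH.isDomain_piTensor (k := k) (A := A) n
  have := Groth.DiagIdealH.smooth_piTensor (k := k) (A := A) (n := n)
  have : IsNoetherianRing (⨂[k] _ : Fin n, A) := Algebra.FiniteType.isNoetherianRing k _
  obtain ⟨a₀, ha₀⟩ : ∃ a : A, a ∉ (algebraMap k A).range := by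
    by_contra! hall
    have hf : IsField A :=
      (RingEquiv.ofBijective (algebraMap k A) ⟨(algebraMap k A).injective, hall⟩).symm.toMulEquiv.isField
        (Field.toIsField k)
    letI := hf.toField
    rw [ringKrullDim_eq_zero_of_field A] at hdim
    norm_cast at hdim
  let S := Finset.univ.filter (fun pq : (Fin n × Fin n) × (Fin n × Fin n) =>
    pq.1.1 < pq.1.2 ∧ pq.2.1 < pq.2.2 ∧ pq.1 ≠ pq.2)
  let J := fun p : Fin n × Fin n => Groth.DiagIdealH.diag (k := k) (A := A) p.1 p.2
  have hexists : ∀ P : Ideal (⨂[k] _ : Fin n, A), P.IsPrime → 𝔞 ≤ P → ∃ pq ∈ S, J pq.1 ⊔ J pq.2 ≤ P := by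
    intro P hP hle
    rw [h𝔞, ← Finset.inf_eq_iInf] at hle
    exact hP.inf_le'.1 hle
  have hht : ∀ P : Ideal (⨂[k] _ : Fin n, A), P.IsPrime → P.height ≤ 1 → ¬ 𝔞 ≤ P := by
    intro P hP hh hle
    obtain ⟨⟨p, q⟩, hpq, h⟩ := hexists P hP hle
    obtain ⟨hp, hq, hne⟩ := (Finset.mem_filter.1 hpq).2
    haveI := Groth.DiagIdealH.diag_isPrime (k := k) (A := A) p
    have h1 : (⊥ : Ideal (⨂[k] _ : Fin n, A)) < J p := bot_lt_iff_ne_bot.2 fun h0 => by
      have hm : _ ∈ J p := Ideal.subset_span ⟨a₀, rfl⟩
      rw [h0, Submodule.mem_bot, sub_eq_zero] at hm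
      exact Groth.DiagIdealH.sgl_ne_sgl ha₀ hp.ne hm
    have h2 : J p < P := lt_of_le_of_ne (le_sup_left.trans h) fun e =>
      Groth.DiagIdealH.not_diag_le ha₀ hp hq hne ((le_sup_right.trans h).trans e.ge)
    haveI := hP
    haveI : (J p).FiniteHeight := Ideal.finiteHeight_of_isNoetherianRing _
    haveI : (⊥ : Ideal (⨂[k] _ : Fin n, A)).FiniteHeight := Ideal.finiteHeight_of_isNoetherianRing _
    haveI : P.FiniteHeight := Ideal.finiteHeight_of_isNoetherianRing _
    have h3 := Ideal.height_strict_mono_of_isPrime h1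
    have h4 := Ideal.height_strict_mono_of_isPrime h2
    exact absurd (Order.one_le_iff_pos.2 (zero_le.trans_lt h3) |>.trans_lt h4) hh.not_gt
  have hno : ∀ p : Fin n × Fin n, p.1 < p.2 → ¬ 𝔞 ≤ J p := by
    intro p hp hle
    obtain ⟨⟨q, q'⟩, hqq, h⟩ := hexists (J p) (Groth.DiagIdealH.diag_isPrime p) hle
    obtain ⟨hq, hq', hne⟩ := (Finset.mem_filter.1 hqq).2
    have e1 : p = q := by_contra fun hne' =>
      Groth.DiagIdealH.not_diag_le ha₀ hp hq hne' (le_sup_left.trans h)
    exact Groth.DiagIdealH.not_diag_le ha₀ hp hq' (e1 ▸ hne) (le_sup_right.trans h)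
  have key : (2 : ℕ∞) ≤ LocCoh.idealDepth 𝔞 M := by
    by_cases hS : 𝔞 = ⊤
    · unfold LocCoh.idealDepth
      rw [if_pos (by rw [hS, Submodule.top_smul])]
      exact le_top
    obtain ⟨a, haa, ha0⟩ : ∃ a ∈ 𝔞, a ≠ 0 := by
      by_contra! h0
      exact hht ⊥ Ideal.isPrime_bot (by rw [Ideal.height_bot]; exact zero_le_one) fun c hc =>
        Submodule.mem_bot _ |>.2 (h0 c hc)
    refine Groth.DiagIdealH.two_le_idealDepth 𝔞 M haa ?_ fun m hm => ?_
    · refine fun x y hxy => Subtype.ext (mul_left_cancel₀ ha0 ?_)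
      exact congrArg Subtype.val hxy
    · obtain ⟨r, hr⟩ : a ∣ (m : ⨂[k] _ : Fin n, A) := by
        refine Groth.Calg1.dvd_of_forall_height_le_one Groth.DiagIdealH.hasSk_two_piTensor
          (fun x y hxy => mul_left_cancel₀ ha0 hxy) fun P hP hh => ?_
        obtain ⟨c, hc, hcP⟩ := SetLike.not_le_iff_exists.1 (hht P hP hh)
        obtain ⟨w, hw⟩ := hm c hc
        exact ⟨c, hcP, (w : ⨂[k] _ : Fin n, A), congrArg Subtype.val hw⟩
      have hrM : r ∈ M := by
        rw [hM]
        simp only [Submodule.mem_iInf, Finset.mem_filter, Finset.mem_univ, true_and]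
        intro p hp
        obtain ⟨c, hc, hcp⟩ := SetLike.not_le_iff_exists.1 (hno p hp)
        obtain ⟨w, hw⟩ := hm c hc
        have hw' : c * r = (w : ⨂[k] _ : Fin n, A) := mul_left_cancel₀ ha0 (by
          rw [show a * (c * r) = c * (m : ⨂[k] _ : Fin n, A) by rw [hr]; ring]
          exact congrArg Subtype.val hw)
        have hwp : (w : ⨂[k] _ : Fin n, A) ∈ J p ^ ℓ p := by
          have h2 : M ≤ J p ^ ℓ p := by
            rw [hM]
            exact iInf₂_le p (Finset.mem_filter.2 ⟨Finset.mem_univ _, hp⟩)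
          exact h2 w.2
        haveI := Groth.DiagIdealH.diag_isPrime (k := k) (A := A) p
        obtain ⟨ι, hι, D, x, hx⟩ := Groth.DiagIdealH.exists_euler_pair (k := k) (A := A) hp.ne
        refine Groth.DiagIdealH.mem_pow_of_mul_mem D _ x hx (fun i => ?_) hcp (ℓ p) r (hw'.symm ▸ hwp)
        have hu := (isUnit_iff_ne_zero.2 (Nat.cast_ne_zero.2 (Nat.succ_ne_zero i) : ((i + 1 : ℕ) : k) ≠ 0)).map
          (algebraMap k (⨂[k] _ : Fin n, A))
        rwa [map_natCast] at hu
      exact ⟨⟨r, hrM⟩, Subtype.ext hr⟩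
  have h := (Groth.LocCohBase.le_idealDepth_iff_localCohomology 𝔞 2 M).1 key
  have := h 0 Nat.two_pos
  have := h 1 Nat.one_lt_two
  exact ⟨ModuleCat.isZero_of_subsingleton _, ModuleCat.isZero_of_subsingleton _⟩

end Groth.Agent.S19217
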