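import Groth.Statements.S19218
import Groth.Agent.DiagIdealH.PiAlg

set_option autoImplicit false
universe u v
open TensorProduct
open DiagIdeal

namespace Groth.Agent.S19218

/-- Let k be an algebraically closed field of characteristic zero and A a smooth k-algebra which is a
domain of Krull dimension 2. In the n-fold tensor power R of A over k, indexed by Fin n, let I_p (p
= (i, j), i < j) be the ideal generated by the a_i − a_j, a ∈ A, and let I be the intersection of
the I_p, the ideal of the big diagonal. Assume that for every s ≥ 0 the power I ^ s is the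
intersection of the powers I_p ^ s (a property of the big diagonal of a smooth surface that the
source takes from the literature). Then for m ≥ 1 every element of R fixed by all permutations of
the n factors and lying in I ^ (2m − 1) lies in I ^ (2m): on the symmetric product the invariants of
the odd power and of the next even power of the ideal of the big diagonal coincide. (The source
states the sheaf version for a smooth quasi-projective complex surface, using the displayed property
of the powers without restating it as a hypothesis.) -/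
theorem result (k : Type u) [Field k] [IsAlgClosed k] [CharZero k]
    (A : Type v) [CommRing A] [Algebra k A] [Algebra.Smooth k A] [IsDomain A]
    (hdim : ringKrullDim A = 2) (n : ℕ)
    (I : Fin n × Fin n → Ideal (⨂[k] _ : Fin n, A))
    (hI : ∀ p, I p = Ideal.span (Set.range fun a : A =>
        PiTensorProduct.singleAlgHom (R := k) (A := fun _ : Fin n => A) p.1 a -
        PiTensorProduct.singleAlgHom (R := k) (A := fun _ : Fin n => A) p.2 a))
    (IΔ : Ideal (⨂[k] _ : Fin n, A))
    (hIΔ : IΔ = ⨅ p ∈ Finset.univ.filter (fun p : Fin n × Fin n => p.1 < p.2), I p)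
    (hpow : ∀ s : ℕ, IΔ ^ s = ⨅ p ∈ Finset.univ.filter (fun p : Fin n × Fin n => p.1 < p.2), (I p) ^ s)
    (m : ℕ) (hm : 1 ≤ m) (x : ⨂[k] _ : Fin n, A)
    (hx : ∀ σ : Equiv.Perm (Fin n), PiTensorProduct.reindex k (fun _ : Fin n => A) σ x = x)
    (hmem : x ∈ IΔ ^ (2 * m - 1)) :
    x ∈ IΔ ^ (2 * m) := by

  classical
  rw [hpow, Submodule.mem_iInf] at hmem
  rw [hpow, Submodule.mem_iInf]
  intro p
  rw [Submodule.mem_iInf]
  intro hp
  have hxp := hmem p
  rw [Submodule.mem_iInf] at hxp
  specialize hxp hp
  rw [hI p] at hxp ⊢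
  obtain ⟨i, j⟩ := p
  set J : Ideal (⨂[k] _ : Fin n, A) := Groth.DiagIdealH.diag (k := k) (A := A) i j
  let σ := Groth.DiagIdealH.mapIdx (k := k) (A := A) (Equiv.swap i j : Fin n → Fin n)
  have h0 : ∀ y, y - σ y ∈ J := by
    refine Groth.DiagIdealH.sub_mapIdx_mem _ J fun l a => ?_
    by_cases hi : l = i
    · subst hi; rw [Equiv.swap_apply_left]; exact Ideal.subset_span ⟨a, rfl⟩
    by_cases hj : l = j
    · subst hj; rw [Equiv.swap_apply_right, ← Ideal.neg_mem_iff, neg_sub]; exact Ideal.subset_span ⟨a, rfl⟩
    rw [Equiv.swap_apply_of_ne_of_ne hi hj, sub_self]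
    exact zero_mem _
  have h1 : ∀ b ∈ J, σ b + b ∈ J ^ 2 := by
    intro b hb
    suffices b ∈ J ∧ σ b + b ∈ J ^ 2 from this.2
    induction hb using Submodule.span_induction with
    | mem b hb =>
      obtain ⟨a, rfl⟩ := hb
      refine ⟨Ideal.subset_span ⟨a, rfl⟩, ?_⟩
      simp only [σ, map_sub, Groth.DiagIdealH.mapIdx_single, Equiv.swap_apply_left, Equiv.swap_apply_right,
        sub_add_sub_cancel, sub_self, zero_mem]
    | zero => exact ⟨zero_mem _, by simp⟩
    | add a b _ _ ha hb =>
      refine ⟨add_mem ha.1 hb.1, ?_⟩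
      rw [map_add, add_add_add_comm]
      exact add_mem ha.2 hb.2
    | smul r b _ hb =>
      refine ⟨J.mul_mem_left _ hb.1, ?_⟩
      rw [smul_eq_mul, map_mul, show σ r * σ b + r * b = σ r * (σ b + b) + (r - σ r) * b by ring]
      refine add_mem (Ideal.mul_mem_left _ _ hb.2) ?_
      rw [pow_two]
      exact Ideal.mul_mem_mul (h0 r) hb.1
  have h2 : ∀ s : ℕ, ∀ y ∈ J ^ s, σ y - (-1) ^ s * y ∈ J ^ (s + 1) := by
    intro s
    induction s with
    | zero =>
      intro y _
      rw [pow_zero, one_mul, zero_add, pow_one, ← Ideal.neg_mem_iff, neg_sub]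
      exact h0 y
    | succ s ih =>
      intro y hy
      rw [pow_succ] at hy
      induction hy using Submodule.mul_induction_on' with
      | mem_mul_mem a ha b hb =>
        rw [map_mul, show σ a * σ b - (-1) ^ (s + 1) * (a * b) =
          (σ a - (-1) ^ s * a) * σ b + ((-1) ^ s * a) * (σ b + b) by ring]
        refine add_mem ?_ ?_
        · rw [pow_succ J (s + 1)]
          refine Ideal.mul_mem_mul (ih a ha) ?_
          rw [show σ b = b - (b - σ b) by ring]
          exact sub_mem hb (h0 b)
        · have := Ideal.mul_mem_mul (Ideal.mul_mem_left _ ((-1) ^ s) ha) (h1 b hb)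
          rwa [← pow_add] at this
      | add a _ b _ iha ihb =>
        convert add_mem iha ihb using 1
        rw [map_add]; ring
  have := h2 (2 * m - 1) x hxp
  rw [show σ x = x from (Groth.DiagIdealH.reindex_eq_mapIdx _ x).symm.trans (hx _),
    show 2 * m - 1 + 1 = 2 * m by omega, Odd.neg_one_pow ⟨m - 1, by omega⟩, neg_one_mul, sub_neg_eq_add, ← two_mul] at this
  have hu : IsUnit ((2 : ⨂[k] _ : Fin n, A)) := by
    have := (isUnit_iff_ne_zero.2 (two_ne_zero : (2 : k) ≠ 0)).map (algebraMap k (⨂[k] _ : Fin n, A))
    rwa [map_ofNat] at this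
  exact ((J ^ (2 * m)).unit_mul_mem_iff_mem hu).1 this

end Groth.Agent.S19218
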