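import Groth.Statements.S19221
import Mathlib

set_option autoImplicit false
universe u
open SymRep

namespace Groth.Agent.S19221

/-- Let k be a field of characteristic zero and F the k-space of functions Fin 2 → Fin 4 → Fin 4 → k,
with the symmetric group of Fin 4 acting through P σ f c a b = f c (σ⁻¹ a) (σ⁻¹ b). The signed edge
vectors of the complete graph on four vertices live in F as the functions antisymmetric in the two
vertex arguments, and for a colour c and an oriented 3-cycle i → j → l → i the cycle vector z c i j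
l is the function equal, in colour c, to +1 at (i,j), (j,l), (l,i), to −1 at (j,i), (l,j), (i,l) and
to 0 elsewhere (and 0 in the other colour); these cycle vectors span k² ⊗ (cycle space), the
representation written C² ⊗ q in the published text. Let Γ be the graph with edges 01, 02, 03, 12,
23 (a 4-cycle with one chord), whose cycle space is spanned by the cycles (0,1,2) and (0,2,3), and
let ω be the product in the exterior algebra of F of the four vectors z 0 0 1 2, z 1 0 1 2, z 0 0 2
3, z 1 0 2 3 (a generator of the top exterior power of k² ⊗ q_Γ). Then ω is fixed by the stabiliser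
of Γ in the symmetric group (generated by the transpositions (0 2) and (1 3)), and the sum over all
24 permutations σ of the images of ω under the maps induced by P σ is nonzero: the projection of ω
to the invariants of the fourth exterior power of k² ⊗ q_{K₄} does not vanish. (The published
statement is over the complex numbers; a field of characteristic zero is used here. The published
statement also asserts that this map is an isomorphism onto the one-dimensional space of
S₄-invariants of the fourth exterior power of k² ⊗ q_{K₄}; only its non-vanishing is stated here.) -/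
theorem result (k : Type u) [Field k] [CharZero k]
    (P : Equiv.Perm (Fin 4) → ((Fin 2 → Fin 4 → Fin 4 → k) →ₗ[k] (Fin 2 → Fin 4 → Fin 4 → k)))
    (hP : ∀ (σ : Equiv.Perm (Fin 4)) (f : Fin 2 → Fin 4 → Fin 4 → k) (c : Fin 2) (a b : Fin 4),
      P σ f c a b = f c (σ.symm a) (σ.symm b))
    (z : Fin 2 → Fin 4 → Fin 4 → Fin 4 → (Fin 2 → Fin 4 → Fin 4 → k))
    (hz : ∀ (c : Fin 2) (i j l : Fin 4) (c' : Fin 2) (a b : Fin 4), z c i j l c' a b =
      if c' = c then
        ((if a = i ∧ b = j then 1 else 0) + (if a = j ∧ b = l then 1 else 0) + (if a = l ∧ b = i then 1 else 0)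
          - (if a = j ∧ b = i then 1 else 0) - (if a = l ∧ b = j then 1 else 0) - (if a = i ∧ b = l then 1 else 0))
      else 0)
    (ω : ExteriorAlgebra k (Fin 2 → Fin 4 → Fin 4 → k))
    (hω : ω = ExteriorAlgebra.ι k (z 0 0 1 2) * ExteriorAlgebra.ι k (z 1 0 1 2) *
      ExteriorAlgebra.ι k (z 0 0 2 3) * ExteriorAlgebra.ι k (z 1 0 2 3)) :
    ExteriorAlgebra.map (P (Equiv.swap 0 2)) ω = ω ∧
    ExteriorAlgebra.map (P (Equiv.swap 1 3)) ω = ω ∧
    (∑ σ : Equiv.Perm (Fin 4), ExteriorAlgebra.map (P σ) ω) ≠ 0 := by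
  classical
  let t : Fin 4 → Fin 4 → Fin 4 → Fin 4 → Fin 4 → ℤ := fun i j l a b =>
    (if a = i ∧ b = j then 1 else 0) + (if a = j ∧ b = l then 1 else 0) + (if a = l ∧ b = i then 1 else 0)
      - (if a = j ∧ b = i then 1 else 0) - (if a = l ∧ b = j then 1 else 0) - (if a = i ∧ b = l then 1 else 0)
  have hz' : ∀ (c : Fin 2) (i j l : Fin 4) (c' : Fin 2) (a b : Fin 4),
      z c i j l c' a b = if c' = c then (t i j l a b : k) else 0 := by
    intro c i j l c' a b
    simp [hz, t]
  have hPz : ∀ σ c i j l, P σ (z c i j l) = z c (σ i) (σ j) (σ l) := by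
    intro σ c i j l
    funext c' a b
    simp [hP, hz, Equiv.symm_apply_eq]
  have hrev : ∀ c i j l, z c l j i = -z c i j l := by
    intro c i j l
    funext c' a b
    simp only [hz, Pi.neg_apply]
    split_ifs <;> norm_num
  have hrot : ∀ c i j l, z c j l i = z c i j l := by
    intro c i j l
    funext c' a b
    simp only [hz]
    split_ifs <;> norm_num
  have hmap : ∀ σ, ExteriorAlgebra.map (P σ) ω =
      ExteriorAlgebra.ι k (z 0 (σ 0) (σ 1) (σ 2)) * ExteriorAlgebra.ι k (z 1 (σ 0) (σ 1) (σ 2)) *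
      ExteriorAlgebra.ι k (z 0 (σ 0) (σ 2) (σ 3)) * ExteriorAlgebra.ι k (z 1 (σ 0) (σ 2) (σ 3)) := by
    intro σ
    simp only [hω, map_mul, ExteriorAlgebra.map_apply_ι, hPz]
  have hanti : ∀ x y : Fin 2 → Fin 4 → Fin 4 → k,
      ExteriorAlgebra.ι k x * ExteriorAlgebra.ι k y = -(ExteriorAlgebra.ι k y * ExteriorAlgebra.ι k x) :=
    fun x y => eq_neg_of_add_eq_zero_left (ExteriorAlgebra.ι_add_mul_swap x y)
  refine ⟨?_, ?_, ?_⟩
  · rw [hmap, hω]
    have e1 : ∀ c, z c 2 1 0 = -z c 0 1 2 := fun c => hrev c 0 1 2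
    have e2 : ∀ c, z c 2 0 3 = -z c 0 2 3 := fun c => by
      rw [hrot c 3 2 0, hrev c 0 2 3]
    simp [e1, e2, Equiv.swap_apply_of_ne_of_ne]
  · rw [hmap, hω]
    have e1 : ∀ c, z c 0 3 2 = -z c 0 2 3 := fun c => by
      rw [hrot c 2 0 3, hrot c 3 2 0, hrev c 0 2 3]
    have e2 : ∀ c, z c 0 2 1 = -z c 0 1 2 := fun c => by
      rw [hrot c 1 0 2, hrot c 2 1 0, hrev c 0 1 2]
    simp only [Equiv.swap_apply_of_ne_of_ne (show (0 : Fin 4) ≠ 1 by decide) (show (0 : Fin 4) ≠ 3 by decide),
      Equiv.swap_apply_of_ne_of_ne (show (2 : Fin 4) ≠ 1 by decide) (show (2 : Fin 4) ≠ 3 by decide),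
      Equiv.swap_apply_left, Equiv.swap_apply_right, e1, e2, map_neg, neg_mul, mul_neg, neg_neg]
    generalize z 0 0 1 2 = x₀, z 1 0 1 2 = x₁, z 0 0 2 3 = y₀, z 1 0 2 3 = y₁
    have h1 : ∀ u v w : Fin 2 → Fin 4 → Fin 4 → k, ExteriorAlgebra.ι k u * ExteriorAlgebra.ι k v * ExteriorAlgebra.ι k w =
        ExteriorAlgebra.ι k w * (ExteriorAlgebra.ι k u * ExteriorAlgebra.ι k v) := by
      intro u v w
      rw [mul_assoc, hanti v w, mul_neg, ← mul_assoc, hanti u w, neg_mul, neg_neg, mul_assoc]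
    rw [h1 y₀ y₁ x₀, mul_assoc, h1 y₀ y₁ x₁]
    simp only [mul_assoc]
  · intro h0
    let q : Fin 4 → Fin 2 × Fin 4 × Fin 4 := ![(0, 1, 2), (1, 1, 2), (0, 2, 3), (1, 2, 3)]
    let pr : (Fin 2 → Fin 4 → Fin 4 → k) →ₗ[k] (Fin 4 → k) :=
      LinearMap.pi fun s => LinearMap.proj (q s).2.2 ∘ₗ LinearMap.proj (q s).2.1 ∘ₗ LinearMap.proj (q s).1
    let Φ : ExteriorAlgebra k (Fin 2 → Fin 4 → Fin 4 → k) →ₗ[k] k :=
      ExteriorAlgebra.liftAlternating (fun n => if h : n = 4 then
        h ▸ (Matrix.detRowAlternating (n := Fin 4) (R := k)).compLinearMap pr else 0)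
    have hΦ : ∀ v : Fin 4 → (Fin 2 → Fin 4 → Fin 4 → k),
        Φ (ExteriorAlgebra.ι k (v 0) * ExteriorAlgebra.ι k (v 1) * ExteriorAlgebra.ι k (v 2) * ExteriorAlgebra.ι k (v 3)) =
          Matrix.det (Matrix.of fun r s => pr (v r) s) := by
      intro v
      have e : ExteriorAlgebra.ι k (v 0) * ExteriorAlgebra.ι k (v 1) * ExteriorAlgebra.ι k (v 2) *
          ExteriorAlgebra.ι k (v 3) = ExteriorAlgebra.ιMulti k 4 v := by
        simp [ExteriorAlgebra.ιMulti_apply, Matrix.vecTail, mul_assoc]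
      rw [e]
      show ExteriorAlgebra.liftAlternating _ (ExteriorAlgebra.ιMulti k 4 v) = _
      rw [ExteriorAlgebra.liftAlternating_apply_ιMulti, dif_pos rfl]
      rfl
    let w : Equiv.Perm (Fin 4) → ℤ := fun σ =>
      t (σ 0) (σ 1) (σ 2) 1 2 * t (σ 0) (σ 2) (σ 3) 2 3 - t (σ 0) (σ 1) (σ 2) 2 3 * t (σ 0) (σ 2) (σ 3) 1 2
    have hval : ∀ σ, Φ (ExteriorAlgebra.map (P σ) ω) = ((w σ ^ 2 : ℤ) : k) := by
      intro σ
      rw [hmap]
      have := hΦ ![z 0 (σ 0) (σ 1) (σ 2), z 1 (σ 0) (σ 1) (σ 2), z 0 (σ 0) (σ 2) (σ 3), z 1 (σ 0) (σ 2) (σ 3)]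
      simp only [Matrix.cons_val_zero, Matrix.cons_val_one, Matrix.cons_val] at this
      rw [this]
      simp [Matrix.det_succ_row_zero, Fin.sum_univ_succ, pr, q, hz', w, Fin.succAbove]
      ring
    have h1 := congrArg Φ h0
    rw [map_sum, map_zero, Finset.sum_congr rfl fun σ _ => hval σ, ← Int.cast_sum, Int.cast_eq_zero] at h1
    have h2 := Finset.single_le_sum (s := Finset.univ) (f := fun σ => w σ ^ 2) (fun σ _ => sq_nonneg _)
      (Finset.mem_univ (1 : Equiv.Perm (Fin 4)))
    rw [h1] at h2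
    exact absurd h2 (by simp [w, t])

end Groth.Agent.S19221
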