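import Groth.Statements.S19223
import Groth.Agent.S7725
import Mathlib
import Groth.Agent.GalCohUnits.RepExact

set_option autoImplicit false
attribute [local instance] Units.mulDistribMulActionRight
open GalCoh

namespace Groth.Agent.S19223

/-- For a strictly henselian local ring R whose residue field k has characteristic p ≥ 0, and a finite
group G of order prime to p acting on R by ring automorphisms (hence on the unit groups R^× and
k^×), consider the homomorphism H^n(G, R^×) → H^n(G, k^×) induced by the reduction map. It is
bijective for every n ≥ 2; it is also bijective for n = 1 provided that p = 0 or the only p-power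
root of unity in R is 1. (The reduction map on cohomology is pinned by its values on units; groups,
rings and modules are taken in the lowest universe, as integral coefficients in the group-cohomology
library require.) -/
theorem result (R : Type) [CommRing R]
    [HenselianLocalRing R] [IsSepClosed (IsLocalRing.ResidueField R)] (p : ℕ) [CharP (IsLocalRing.ResidueField R) p]
    (G : Type) [Group G] [Finite G] [MulSemiringAction G R] (hp : ¬ p ∣ Nat.card G)
    (φ : Rep.ofMulDistribMulAction G Rˣ ⟶ Rep.ofMulDistribMulAction G (IsLocalRing.ResidueField R)ˣ)
    (hφ : ∀ x : Rˣ, Additive.toMul (φ.hom (Additive.ofMul x)) = Units.map (IsLocalRing.residue R).toMonoidHom x)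
    (n : ℕ) (hn : 1 ≤ n) (h1 : n = 1 → p ≠ 0 → ∀ (ζ : Rˣ) (m : ℕ), ζ ^ p ^ m = 1 → ζ = 1) :
    Function.Bijective ((groupCohomology.functor ℤ G n).map φ).hom := by
    classical
    have hN : IsUnit ((Nat.card G : ℕ) : R) := by
      refine IsLocalRing.notMem_maximalIdeal.1 fun h => hp ?_
      rw [← IsLocalRing.residue_eq_zero_iff, map_natCast] at h
      exact (CharP.cast_eq_zero_iff (IsLocalRing.ResidueField R) p _).1 h
    let A := Rep.ofMulDistribMulAction G Rˣ
    let B := Rep.ofMulDistribMulAction G (IsLocalRing.ResidueField R)ˣ
    let W : Submodule ℤ A := LinearMap.ker φ.hom.toLinearMap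
    have hle : ∀ g, W ≤ W.comap (A.ρ g) := fun g a ha => by
      change φ.hom (A.ρ g a) = 0
      rw [Rep.hom_comm_apply]
      change B.ρ g (φ.hom a) = 0
      rw [show φ.hom a = 0 from ha, map_zero]
    let K := Rep.subrepresentation A W hle
    let ι : K ⟶ A := Rep.subtype A W hle
    let S : CategoryTheory.ShortComplex (Rep ℤ G) :=
      CategoryTheory.ShortComplex.mk ι φ (by ext a; exact (a : W).2)
    have hS : S.ShortExact := by
      have : CategoryTheory.Mono ι := (Rep.mono_iff_injective ι).2 Subtype.val_injective
      have : CategoryTheory.Epi φ := (Rep.epi_iff_surjective φ).2 fun b => by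
        obtain ⟨x, hx⟩ := IsLocalRing.surjective_units_map_of_local_ringHom (IsLocalRing.residue R)
          Ideal.Quotient.mk_surjective inferInstance (Additive.toMul b)
        refine ⟨Additive.ofMul x, ?_⟩
        apply Additive.toMul.injective
        exact (hφ x).trans hx
      exact { exact := Groth.GalCohUnits.repShortComplex_exact S fun a ha => ⟨(⟨a, ha⟩ : W), rfl⟩ }
    have hker : ∀ u : Rˣ, (Additive.ofMul u : A) ∈ W ↔
        IsLocalRing.residue R (u : R) = 1 := by
      intro u
      change φ.hom (Additive.ofMul u) = 0 ↔ _
      constructor
      · intro h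
        have := hφ u
        rw [h] at this
        exact (congrArg Units.val this).symm
      · intro h
        apply Additive.toMul.injective
        refine (hφ u).trans ?_
        exact Units.ext h
    have hdiv : Function.Bijective fun a : K => Nat.card G • a := by
      constructor
      · intro a b hab
        have hd : Nat.card G • (a - b) = 0 := by rw [nsmul_sub]; exact sub_eq_zero.2 hab
        let u : Rˣ := Additive.toMul ((a - b : K).1 : Additive Rˣ)
        have hu : (Additive.ofMul u : A) = (a - b : K).1 := rfl
        have hmem : IsLocalRing.residue R (u : R) = 1 := (hker u).1 (by rw [hu]; exact (a - b : K).2)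
        have hpow' : u ^ Nat.card G = 1 := by
          have h0 : Nat.card G • ((a - b : K).1 : A) = 0 := by
            exact congrArg Subtype.val hd
          exact congrArg Additive.toMul h0
        have hu1 : (u : R) = 1 := by
          have h2 : (∑ i ∈ Finset.range (Nat.card G), (u : R) ^ i) * ((u : R) - 1) = 0 := by
            rw [geom_sum_mul, ← Units.val_pow_eq_pow_val, hpow', Units.val_one, sub_self]
          have hunit : IsUnit (∑ i ∈ Finset.range (Nat.card G), (u : R) ^ i) := by
            refine IsLocalRing.notMem_maximalIdeal.1 fun h => hN.map (IsLocalRing.residue R) |>.ne_zero ?_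
            rw [← IsLocalRing.residue_eq_zero_iff, map_sum] at h
            simpa [hmem] using h
          exact sub_eq_zero.1 (hunit.mul_right_eq_zero.1 h2)
        refine sub_eq_zero.1 (Subtype.ext ?_)
        rw [← hu, show u = 1 from Units.ext hu1]
        rfl
      · intro a
        let v : Rˣ := Additive.toMul (a.1 : Additive Rˣ)
        have hv : (Additive.ofMul v : A) = a.1 := rfl
        have hmem : IsLocalRing.residue R (v : R) = 1 := (hker v).1 (by rw [hv]; exact a.2)
        obtain ⟨w, hw, hw1⟩ := HenselianLocalRing.is_henselian
          (Polynomial.X ^ Nat.card G - Polynomial.C (v : R)) (Polynomial.monic_X_pow_sub_C _ Nat.card_pos.ne') 1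
          (by
            rw [← IsLocalRing.residue_eq_zero_iff]
            simp [hmem])
          (by simpa [Polynomial.derivative_sub, Polynomial.derivative_X_pow] using hN)
        have hw' : w ^ Nat.card G = (v : R) := by simpa [sub_eq_zero] using hw
        have hwu : IsUnit w := (isUnit_pow_iff Nat.card_pos.ne').1 (hw' ▸ v.isUnit)
        have hres : IsLocalRing.residue R w = 1 := by
          rw [← IsLocalRing.residue_eq_zero_iff, map_sub, map_one, sub_eq_zero] at hw1
          exact hw1
        refine ⟨⟨Additive.ofMul hwu.unit, (hker _).2 hres⟩, Subtype.ext ?_⟩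
        rw [← hv]
        refine (Submodule.coe_smul_of_tower (Nat.card G) (⟨Additive.ofMul hwu.unit, (hker _).2 hres⟩ : W)).trans ?_
        exact congrArg Additive.ofMul (Units.ext (by simpa using hw') : hwu.unit ^ Nat.card G = v)
    have hz : ∀ i, 0 < i → Subsingleton (groupCohomology K i) := fun i hi =>
      Groth.Agent.S7725.result ℤ G K hdiv i hi
    constructor
    · have hex := groupCohomology.mapShortComplex₂_exact hS n
      rw [CategoryTheory.ShortComplex.moduleCat_exact_iff] at hex
      rw [injective_iff_map_eq_zero]
      intro x hx
      obtain ⟨y, hy⟩ := hex x hx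
      have := hz n hn
      rw [show y = 0 from Subsingleton.elim (α := groupCohomology K n) y 0] at hy
      exact hy.symm.trans (map_zero (groupCohomology.mapShortComplex₂ S n).f.hom)
    · have hex := groupCohomology.mapShortComplex₃_exact hS (i := n) (j := n + 1) rfl
      rw [CategoryTheory.ShortComplex.moduleCat_exact_iff] at hex
      intro y
      have := hz (n + 1) (by omega)
      obtain ⟨x, hx⟩ := hex y (Subsingleton.elim (α := groupCohomology K (n+1)) _ _)
      exact ⟨x, hx⟩

end Groth.Agent.S19223
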