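import Groth.Statements.S19224
import Groth.Agent.GalCohUnits.H2Trivial

set_option autoImplicit false
open GalCoh

namespace Groth.Agent.S19224

/-- Let Q be a finite group such that H^3(Q, ℤ) = 0 for the trivial action, and let k be a separably
closed field of characteristic p ≥ 0 with p not dividing the order of Q. Then H^2(Q, k^×) = 0, where
Q acts trivially on the units of k. (Groups and fields are taken in the lowest universe, as integral
coefficients in the group-cohomology library require.) -/
theorem result (Q : Type) [Group Q] [Finite Q]
    (hQ : Subsingleton (groupCohomology (Rep.trivial ℤ Q ℤ) 3)) (k : Type) [Field k] [IsSepClosed k]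
    (p : ℕ) [CharP k p] (hp : ¬ p ∣ Nat.card Q) :
    Subsingleton (groupCohomology (Rep.trivial ℤ Q (Additive kˣ)) 2) := by
  exact Groth.GalCohUnits.subsingleton_H2 hQ k fun h => hp ((CharP.cast_eq_zero_iff k p _).1 h)

end Groth.Agent.S19224
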