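import Groth.Statements.S19227
import Groth.Agent.VarietyBC.NormBaseChange
import Groth.Agent.EtaleBase.InjCoh
import Groth.Agent.EtaleBase.RpushExact
-- import your own Groth.Agent.* helpers here

set_option autoImplicit false
universe u
open CategoryTheory AlgebraicGeometry
open Dix

namespace Groth.Agent.S19227

open CategoryTheory CategoryTheory.Limits AlgebraicGeometry Opposite

section Norm

variable {X Y : Scheme.{u}} (f : X ⟶ Y) [IsFinite f] [Flat f] [LocallyOfFinitePresentation f]

/-- the norm on the functions of the base change of an étale scheme -/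
noncomputable def normFn (U : Y.Etale) : Γ(pullback U.hom f, ⊤) →* Γ(U.left, ⊤) :=
  (Groth.RefRank.flfPreNorm (pullback.fst U.hom f)).norm ⊤

theorem normFn_map {U U' : Y.Etale} (j : U' ⟶ U) (s : Γ(pullback U.hom f, ⊤)) :
    j.left.appTop (normFn f U s) = normFn f U' (((EtCoh.bc f).map j).left.appTop s) := by
  have e1 : ((EtCoh.bc f).map j).left ≫ pullback.snd U.hom f = pullback.snd U'.hom f :=
    pullback.lift_snd _ _ _
  have h : IsPullback ((EtCoh.bc f).map j).left (pullback.fst U'.hom f) (pullback.fst U.hom f) j.left := by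
    refine IsPullback.of_right (t := (IsPullback.of_hasPullback U.hom f).flip) ?_ ?_
    · erw [e1, MorphismProperty.Over.w j]
      exact (IsPullback.of_hasPullback U'.hom f).flip
    · exact pullback.lift_fst _ _ _
  have := Groth.VarietyBC.NormBaseChange.flfNm_pullback (pullback.fst U.hom f) (pullback.fst U'.hom f) h
    (U := ⊤) (V := ⊤) le_top le_top s
  simp [Scheme.Hom.appLE, Scheme.Hom.appTop] at this ⊢
  exact this

theorem normFn_appTop (d : ℕ) (hr : ∀ y, f.finrank y = d) (U : Y.Etale) (g : Γ(U.left, ⊤)) :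
    normFn f U ((pullback.fst U.hom f).appTop g) = g ^ d := by
  refine (Groth.RefRank.eq_flfNm _ fun V hV n b hb => ?_).symm
  rw [map_pow, show (pullback.fst U.hom f).appTop g = (pullback.fst U.hom f).app ⊤ g from rfl,
    ← Groth.Chow.app_resX (pullback.fst U.hom f) hV, Groth.Chow.nm_app hb]
  rcases (SetLike.coe V).eq_empty_or_nonempty with he | ⟨y, hy⟩
  · exact @Subsingleton.elim _
      (CommRingCat.subsingleton_of_isTerminal (U.left.sheaf.isTerminalOfEqEmpty (SetLike.ext' he))) _ _
  · rw [← Groth.RefRank.finrank_of_secBasis (pullback.fst U.hom f) hb hy,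
      Scheme.Hom.finrank_pullback_fst f U.hom y, hr]

/-- the norm `f_* G_m → G_m` on the small étale site -/
noncomputable def normSh : (EtCoh.push f).obj (EtCoh.Gm X) ⟶ EtCoh.Gm Y :=
  ⟨{ app := fun U => AddCommGrpCat.ofHom
      (X := ULift.{u + 1} (Additive Γ(pullback U.unop.hom f, ⊤)ˣ))
      (Y := ULift.{u + 1} (Additive Γ(U.unop.left, ⊤)ˣ))
      (AddMonoidHom.mk' (fun z => ULift.up (Additive.ofMul (Units.map (normFn f U.unop) z.down.toMul)))
        fun z w => by
          refine ULift.ext _ _ ?_
          exact congrArg Additive.ofMul (map_mul (Units.map (normFn f U.unop)) z.down.toMul w.down.toMul))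
     naturality := fun U U' j => by
      ext z
      refine ULift.ext _ _ ?_
      refine congrArg Additive.ofMul (Units.ext ?_)
      exact (normFn_map f j.unop (((show ULift.{u + 1} (Additive Γ(pullback U.unop.hom f, ⊤)ˣ) from z).down.toMul : Γ(pullback U.unop.hom f, ⊤)ˣ) : Γ(pullback U.unop.hom f, ⊤))).symm }⟩

/-- the unit `G_m → f_* G_m` on the small étale site -/
noncomputable def unitSh : EtCoh.Gm Y ⟶ (EtCoh.push f).obj (EtCoh.Gm X) :=
  ⟨{ app := fun U => EtCoh.ΓUnits.map (pullback.fst U.unop.hom f).op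
     naturality := fun U U' j => by
      have h : ((EtCoh.bc f).map j.unop).left ≫ pullback.fst U.unop.hom f =
          pullback.fst U'.unop.hom f ≫ j.unop.left := pullback.lift_fst _ _ _
      show EtCoh.ΓUnits.map j.unop.left.op ≫ EtCoh.ΓUnits.map (pullback.fst U'.unop.hom f).op =
        EtCoh.ΓUnits.map (pullback.fst U.unop.hom f).op ≫ EtCoh.ΓUnits.map ((EtCoh.bc f).map j.unop).left.op
      exact (EtCoh.ΓUnits.map_comp _ _).symm.trans ((congrArg (fun t : pullback U'.unop.hom f ⟶ U.unop.left => EtCoh.ΓUnits.map t.op) h.symm).trans (EtCoh.ΓUnits.map_comp _ _)) }⟩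

theorem unitSh_normSh (d : ℕ) (hr : ∀ y, f.finrank y = d) :
    unitSh f ≫ normSh f = d • 𝟙 (EtCoh.Gm Y) := by
  refine Sheaf.hom_ext (NatTrans.ext (funext fun U => ?_))
  have hs : ∀ m : ℕ, (m • 𝟙 (EtCoh.Gm Y) : EtCoh.Gm Y ⟶ EtCoh.Gm Y).hom.app U = m • 𝟙 _ := by
    intro m
    induction m with
    | zero => simp
    | succ n ih => simp only [succ_nsmul]; rw [← ih]; rfl
  rw [hs d]
  ext z
  refine ULift.ext _ _ ?_
  let w : Γ(U.unop.left, ⊤)ˣ := (show ULift.{u + 1} (Additive Γ(U.unop.left, ⊤)ˣ) from z).down.toMul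
  change Additive.ofMul (Units.map (normFn f U.unop) (Units.map (pullback.fst U.unop.hom f).appTop.hom.toMonoidHom w)) = _
  trans Additive.ofMul (w ^ d)
  · refine congrArg Additive.ofMul (Units.ext ?_)
    exact normFn_appTop f d hr U.unop _
  · rfl

end Norm


/-- Let f : X → Y be a finite locally free morphism of schemes of constant degree d ≥ 1, so that f is
finite, flat, of finite presentation and surjective. If H²(X_et, G_m) is a torsion group, then
H²(Y_et, G_m) is a torsion group. (The source states this for a finite, flat, finitely presented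
surjection of algebraic stacks and argues with multiplication by the degree of f; the case of
schemes with f of constant degree is what is stated here.) -/
theorem result (X Y : Scheme.{u}) (f : X ⟶ Y) (d : ℕ) (hd : 1 ≤ d)
    (hf : Mor2.IsFinLocFreeOfDeg d f) (hX : IsAddTorsion (Dix.BrCoh X)) :
    IsAddTorsion (Dix.BrCoh Y) := by
  obtain ⟨⟨_, _, _⟩, hr⟩ := hf
  intro x
  let y := Sheaf.H.map (unitSh f) 2 x
  haveI : Limits.PreservesFiniteLimits (EtCoh.pull f) := inferInstance
  have hb := Groth.EtaleBase.InjCoh.HofPush_bijective f (EtCoh.Gm X)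
    (fun q hq => Groth.EtaleBase.isZero_Rpush f _ q hq) 2
  obtain ⟨n, hn, hny⟩ := isOfFinAddOrder_iff_nsmul_eq_zero.1 (hX (EtLim.HofPush f (EtCoh.Gm X) 2 y))
  have hy : n • y = 0 := hb.1 (by rw [map_nsmul, hny, map_zero])
  refine isOfFinAddOrder_iff_nsmul_eq_zero.2 ⟨n * d, Nat.mul_pos hn hd, ?_⟩
  have h1 : (EtCoh.HF Y 2).map (unitSh f ≫ normSh f) = d • 𝟙 _ := by
    rw [unitSh_normSh f d hr]
    haveI : (EtCoh.HF Y 2).Additive := by unfold EtCoh.HF; infer_instance
    refine (EtCoh.HF Y 2).map_nsmul.trans ?_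
    exact congrArg (fun t => d • t) ((EtCoh.HF Y 2).map_id _)
  have h2 : Sheaf.H.map (normSh f) 2 (Sheaf.H.map (unitSh f) 2 x) = d • x := by
    have := congrArg (fun φ => φ.hom x) h1
    rw [Functor.map_comp] at this
    exact this
  rw [mul_nsmul', ← h2, ← map_nsmul, hy, map_zero]

end Groth.Agent.S19227
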