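import Groth.Statements.S19229
import Groth.Agent.SigmaLinH.Basic

set_option autoImplicit false
universe u v
open SigmaLin

namespace Groth.Agent.S19229

/-- Let k be a field with a ring endomorphism σ, V a finite-dimensional k-vector space and T : V → V an
additive map with T (c • v) = σ c • T v. If some iterate of T sends v to 0 and v lies in the
k-linear span of the image of every iterate of T, then v = 0. In other words the union of the
kernels of the iterates of T and the intersection of the spans of their images meet only in 0. -/
theorem result
    (k : Type u) [Field k] (σ : k →+* k)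
    (V : Type v) [AddCommGroup V] [Module k V] [FiniteDimensional k V] (T : V →ₛₗ[σ] V) (v : V)
    (hnil : ∃ n : ℕ, (⇑T)^[n] v = 0)
    (hss : ∀ n : ℕ, v ∈ Submodule.span k (Set.range ((⇑T)^[n]))) : v = 0 := by
  obtain ⟨n, hn⟩ := hnil
  exact Groth.SigmaLinH.eq_zero_of_iterate T n (Submodule.mem_iInf _ |>.2 hss) hn

end Groth.Agent.S19229
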