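import Groth.Statements.S1923
import Groth.Agent.CycInter.DivZero

set_option autoImplicit false
universe u
open CategoryTheory AlgebraicGeometry
open Cyc

namespace Groth.Agent.S1923

/-- Let X be integral with δ(η) = n, L an invertible O_X-module and s a global section of L whose germ
at η is nonzero. Then div_L(s) = [Z(s)]_{n−1} as (n − 1)-cycles, where s is viewed as a rational
section through its image in L(η). Here L(ξ) = L_ξ/𝔪_ξ L_ξ is the space of rational sections of L on
the closure of ξ, div_{L|W}(s) and c_1(L) ∩ α are computed as coefficient functions from chosen
nonzero rational sections (Cyc.secDivFun, Cyc.c1CapFun), and results are compared up to rational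
equivalence for any cycles with those coefficients. A pair (X, δ) with Cyc.IsSetup plays the role of
a scheme locally of finite type over a fixed base with a dimension function (X locally Noetherian
with universally catenary local rings, δ a dimension function), and Cyc.DeltaCompat records that the
dimension function upstairs is the induced one. -/
theorem result (X : Scheme.{u}) [IsIntegral X] (δ : X → ℤ) (hX : Cyc.IsSetup X δ) (n : ℤ) (hn : δ (genericPoint X) = n) (L : X.Modules) (hL : PicF.IsInvertible L) (s : L.presheaf.obj (Opposite.op ⊤)) (hs : (L.presheaf.germ ⊤ (genericPoint X) trivial) s ≠ 0) : Cyc.secDivFun δ L (genericPoint X) (Submodule.Quotient.mk ((L.presheaf.germ ⊤ (genericPoint X) trivial) s)) = Cyc.zeroSectionFun δ (n - 1) L s := by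
  exact Groth.CycInter.secDivFun_sbar hX hL hn s hs

end Groth.Agent.S1923
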