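import Groth.Statements.S19235
import Groth.Agent.SigmaLinH.Local

set_option autoImplicit false
universe u v
open SigmaLin

namespace Groth.Agent.S19235

/-- Let p be a prime number and R a local ring whose maximal ideal is generated by p and in which p^n =
0 for some n. Let σ be a ring endomorphism of R and σ̄ the induced endomorphism of the residue field
k = R/(p); assume σ̄ is surjective, that for every m and every tuple (b_0, …, b_m) in k, not all
zero, the equation x = Σ_{i=0}^{m} σ̄^{i+1}(x) σ̄^{i}(b_{m-i}) has a nonzero solution x in k, and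
that for every c in k there is y with σ̄(y) − y + c = 0. Let M be a finitely generated R-module and
T : M → M additive with T (r • m) = σ r • T m. Then the map m ↦ m − T m is surjective on M. -/
theorem result
    (p : ℕ) [Fact p.Prime] (R : Type u) [CommRing R] [IsLocalRing R]
    (hmax : IsLocalRing.maximalIdeal R = Ideal.span {(p : R)}) (n : ℕ) (hn : (p : R) ^ n = 0)
    (σ : R →+* R) (σbar : IsLocalRing.ResidueField R →+* IsLocalRing.ResidueField R)
    (hσbar : ∀ r : R, σbar (IsLocalRing.residue R r) = IsLocalRing.residue R (σ r))
    (hsurj : Function.Surjective σbar)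
    (h2 : ∀ (n : ℕ) (b : Fin (n + 1) → IsLocalRing.ResidueField R), b ≠ 0 →
      ∃ x : IsLocalRing.ResidueField R, x ≠ 0 ∧ x = ∑ i : Fin (n + 1), (⇑σbar)^[i.val + 1] x * (⇑σbar)^[i.val] (b (Fin.rev i)))
    (h3 : ∀ c : IsLocalRing.ResidueField R, ∃ y : IsLocalRing.ResidueField R, σbar y - y + c = 0)
    (M : Type v) [AddCommGroup M] [Module R M] [Module.Finite R M] (T : M →ₛₗ[σ] M) :
    Function.Surjective (fun m : M => m - T m) := by
  exact (Groth.SigmaLinH.devissage hmax σ σbar hσbar hsurj h2 h3 n M T fun m => by rw [hn, zero_smul]).1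

end Groth.Agent.S19235
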