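import Groth.Statements.S1924
import Groth.Agent.CycInter.ZeroSection

set_option autoImplicit false
universe u
open CategoryTheory AlgebraicGeometry
open Cyc

namespace Groth.Agent.S1924

/-- Let L be invertible on X, ι : Y → X a closed immersion with δ ≤ k + 1 on Y, and s a global section
of L|_Y = ι^*L such that the points of its zero locus have δ ≤ k and, at every such point ξ with
δ(ξ) = k, multiplication by the germ of s is injective on O_{Y,ξ}. Then c_1(L) ∩ [Y]_{k+1} ∼_rat
ι_*[Z(s)]_k as k-cycles on X (for any nonzero rational sections used to compute the left side and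
any cycle on Y with the coefficients of [Z(s)]_k). Here L(ξ) = L_ξ/𝔪_ξ L_ξ is the space of rational
sections of L on the closure of ξ, div_{L|W}(s) and c_1(L) ∩ α are computed as coefficient functions
from chosen nonzero rational sections (Cyc.secDivFun, Cyc.c1CapFun), and results are compared up to
rational equivalence for any cycles with those coefficients. A pair (X, δ) with Cyc.IsSetup plays
the role of a scheme locally of finite type over a fixed base with a dimension function (X locally
Noetherian with universally catenary local rings, δ a dimension function), and Cyc.DeltaCompat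
records that the dimension function upstairs is the induced one. -/
theorem result (X Y : Scheme.{u}) (δ : X → ℤ) (hX : Cyc.IsSetup X δ) (L : X.Modules) (hL : PicF.IsInvertible L) (ι : Y ⟶ X) [IsClosedImmersion ι] (k : ℤ) (hY : ∀ y : Y, δ (ι y) ≤ k + 1) (s : ((Scheme.Modules.pullback ι).obj L).presheaf.obj (Opposite.op ⊤)) (hZ : ∀ y : Y, (((Scheme.Modules.pullback ι).obj L).presheaf.germ ⊤ y trivial) s ∈ IsLocalRing.maximalIdeal (Y.presheaf.stalk y) • (⊤ : Submodule (Y.presheaf.stalk y) (((Scheme.Modules.pullback ι).obj L).presheaf.stalk y)) → δ (ι y) ≤ k) (hreg : ∀ y : Y, δ (ι y) = k → Function.Injective (fun a : Y.presheaf.stalk y => a • (((Scheme.Modules.pullback ι).obj L).presheaf.germ ⊤ y trivial) s)) (v : (ξ : X) → Cyc.secFibre L ξ) (hv : ∀ ξ, v ξ ≠ 0) (γ : AlgebraicCycle X ℤ) (hγ : ⇑γ = Cyc.c1CapFun δ L (Cyc.subschemeFun δ (k + 1) ι) v) (ζ : AlgebraicCycle Y ℤ) (hζ : ⇑ζ = Cyc.zeroSectionFun (fun y => δ (ι y)) k ((Scheme.Modules.pullback ι).obj L) s) : Cyc.RatEquiv δ k γ (AlgebraicCycle.map ι (fun y => δ (ι y)) δ ζ) := by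
  exact Groth.CycInter.c1_subscheme ι hX hL k hY s
    (fun y hy => hZ y ((Submodule.Quotient.mk_eq_zero _).mp hy)) hreg hv hγ hζ

end Groth.Agent.S1924
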