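import Groth.Statements.S19240
import Groth.Agent.S0415
import Groth.Agent.Misc6.FrobRoot.Glue

set_option autoImplicit false
universe u
open FrobSch

namespace Groth.Agent.S19240

open CategoryTheory CategoryTheory.Limits AlgebraicGeometry in
/-- Let k be a perfect field of characteristic p > 0 and let u : X ⟶ Y be a k-morphism between integral
k-schemes (separated, of finite type and quasi-projective over k) which is a universal
homeomorphism, and assume Y is normal. Then the degree of the function field of X over that of Y is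
p ^ n for some natural number n, and for this n there is a universal homeomorphism v : Y ⟶ X^{(n)},
where X^{(n)} is the base change of X along the n-th power of the Frobenius of Spec k, such that v
is a k-morphism, u followed by v is the n-th relative Frobenius of X over k (its composite with the
projection X^{(n)} ⟶ X is the n-th power of the absolute Frobenius of X) and v followed by the base
change of u is the n-th relative Frobenius of Y over k (the composite of v with the projection to X
and with u is the n-th power of the absolute Frobenius of Y). -/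
theorem result
    (p : ℕ) [Fact p.Prime] (k : Type u) [Field k] [CharP k p] [PerfectField k]
    {X Y : Scheme.{u}} (fX : X ⟶ Spec (CommRingCat.of k)) (fY : Y ⟶ Spec (CommRingCat.of k))
    [IsIntegral X] [IsIntegral Y] [FrobSch.IsCharP X p] [FrobSch.IsCharP Y p]
    [IsSeparated fX] [IsSeparated fY] [LocallyOfFiniteType fX] [LocallyOfFiniteType fY]
    (hqX : ∃ (N : ℕ) (i : X ⟶ CohB1.ProjSpace N k), IsImmersion i ∧ i ≫ CohB1.ProjSpace.toSpec N k = fX)
    (hqY : ∃ (N : ℕ) (i : Y ⟶ CohB1.ProjSpace N k), IsImmersion i ∧ i ≫ CohB1.ProjSpace.toSpec N k = fY)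
    (hY : Pi1.IsNormalScheme Y)
    (u : X ⟶ Y) (hu : u ≫ fY = fX) (huniv : FlatMor.IsUnivHomeo u)
    (e : u (genericPoint X) = genericPoint Y) :
    ∃ n : ℕ,
      @Module.finrank Y.functionField X.functionField _ _
          (Y.presheaf.stalkSpecializes (specializes_of_eq e) ≫ u.stalkMap (genericPoint X)).hom.toAlgebra.toModule = p ^ n ∧
      ∃ v : Y ⟶ pullback fX ((fun g : Spec (CommRingCat.of k) ⟶ Spec (CommRingCat.of k) => g ≫ FrobSch.frob (Spec (CommRingCat.of k)) p)^[n] (𝟙 (Spec (CommRingCat.of k)))),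
        FlatMor.IsUnivHomeo v ∧
        v ≫ pullback.snd fX ((fun g : Spec (CommRingCat.of k) ⟶ Spec (CommRingCat.of k) => g ≫ FrobSch.frob (Spec (CommRingCat.of k)) p)^[n] (𝟙 (Spec (CommRingCat.of k)))) = fY ∧
        u ≫ v ≫ pullback.fst fX ((fun g : Spec (CommRingCat.of k) ⟶ Spec (CommRingCat.of k) => g ≫ FrobSch.frob (Spec (CommRingCat.of k)) p)^[n] (𝟙 (Spec (CommRingCat.of k)))) =
          (fun g : X ⟶ X => g ≫ FrobSch.frob X p)^[n] (𝟙 X) ∧
        v ≫ pullback.fst fX ((fun g : Spec (CommRingCat.of k) ⟶ Spec (CommRingCat.of k) => g ≫ FrobSch.frob (Spec (CommRingCat.of k)) p)^[n] (𝟙 (Spec (CommRingCat.of k)))) ≫ u =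
          (fun g : Y ⟶ Y => g ≫ FrobSch.frob Y p)^[n] (𝟙 Y) := by
  obtain ⟨hint, hinj, hsurj⟩ := (Groth.Agent.S0415.result u).1 huniv
  haveI := hint
  haveI := hinj
  haveI := hsurj
  haveI : LocallyOfFiniteType u := by
    haveI : LocallyOfFiniteType (u ≫ fY) := by rw [hu]; infer_instance
    exact locallyOfFiniteType_of_comp u fY
  haveI : IsSchemeTheoreticallyDominant u := IsSchemeTheoreticallyDominant.of_isDominant u
  obtain ⟨n, hn, hrange⟩ := Misc6.FrobRoot.exists_pow_mem_range_app p u e hY
  obtain ⟨v₀, hv₀⟩ := Misc6.FrobRoot.exists_root p u n hrange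
  have hvu := Misc6.FrobRoot.root_comp p u n v₀ hv₀
  have hsq := Misc6.FrobRoot.root_over p u fX fY hu n v₀ hv₀
  refine ⟨n, hn, ?_⟩
  haveI := Misc6.FrobRoot.isIso_Fp_spec p k n
  rw [← Misc6.FrobRoot.iterate_eq_Fp p (Spec (CommRingCat.of k)) n] at hsq this
  let sq := (fun g : Spec (CommRingCat.of k) ⟶ Spec (CommRingCat.of k) =>
    g ≫ FrobSch.frob (Spec (CommRingCat.of k)) p)^[n] (𝟙 (Spec (CommRingCat.of k)))
  haveI : IsIso sq := this
  refine ⟨pullback.lift v₀ fY hsq, ?_, pullback.lift_snd _ _ _, ?_, ?_⟩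
  · have hv : pullback.lift v₀ fY hsq = v₀ ≫ inv (pullback.fst fX sq) := by
      rw [← cancel_mono (pullback.fst fX sq), pullback.lift_fst, Category.assoc, IsIso.inv_hom_id,
        Category.comp_id]
    rw [hv]
    exact (MorphismProperty.cancel_right_of_respectsIso FlatMor.IsUnivHomeo v₀ _).mpr
      (Misc6.FrobRoot.isUnivHomeo_root p u n v₀ hv₀ hvu)
  · rw [pullback.lift_fst, hv₀, Misc6.FrobRoot.iterate_eq_Fp]
  · rw [pullback.lift_fst_assoc, hvu, Misc6.FrobRoot.iterate_eq_Fp]

end Groth.Agent.S19240
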