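import Groth.Statements.S19244
import Mathlib.CategoryTheory.Abelian.SerreClass.Localization

set_option autoImplicit false
universe v v' u u'
open HomAlg3

namespace Groth.Agent.S19244

open CategoryTheory in
/-- Let A be an abelian category and let P be the class of bounded-torsion objects of A, those X with n
• 𝟙_X = 0 for some nonzero integer n; assume P is a Serre class. Let L : A ⥤ D be an additive
functor to a preadditive category exhibiting D as the localization of A at the morphisms whose
kernel and cokernel are in P (so D is the quotient category A_ℚ = A ⧸ A_{b-tor}; the source assumes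
A well-powered, which guarantees that this quotient exists). Then for all objects X, Y of A: (1) for
every nonzero integer n, multiplication by n is bijective on Hom_D(L X, L Y), so that this group is
naturally a ℚ-vector space; (2) a morphism f : X ⟶ Y satisfies L f = 0 if and only if n • f = 0 for
some nonzero integer n; (3) for every g : L X ⟶ L Y there are a nonzero integer n and f : X ⟶ Y with
n • g = L f. Equivalently, the natural map Hom_A(X, Y) ⊗_ℤ ℚ → Hom_D(L X, L Y) is an isomorphism. -/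
theorem result
    {A : Type u} [Category.{v} A] [Abelian A] {D : Type u'} [Category.{v'} D] [Preadditive D]
    (P : ObjectProperty A) (hP : ∀ X : A, P X ↔ ∃ n : ℤ, n ≠ 0 ∧ n • (𝟙 X) = 0) [P.IsSerreClass]
    (L : A ⥤ D) [L.Additive] [L.IsLocalization P.isoModSerre] (X Y : A) :
    (∀ n : ℤ, n ≠ 0 → Function.Bijective (fun g : L.obj X ⟶ L.obj Y => n • g)) ∧
    (∀ f : X ⟶ Y, L.map f = 0 ↔ ∃ n : ℤ, n ≠ 0 ∧ n • f = 0) ∧
    (∀ g : L.obj X ⟶ L.obj Y, ∃ (n : ℤ) (f : X ⟶ Y), n ≠ 0 ∧ n • g = L.map f) := by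
  have hinv : ∀ (Z : A) (n : ℤ), n ≠ 0 → IsIso (n • 𝟙 (L.obj Z)) := by
    intro Z n hn
    have hW : P.isoModSerre (n • 𝟙 Z) := by
      refine ⟨(hP _).2 ⟨n, hn, ?_⟩, (hP _).2 ⟨n, hn, ?_⟩⟩
      · rw [← cancel_mono (Limits.kernel.ι (n • 𝟙 Z)), Limits.zero_comp, Preadditive.zsmul_comp, Category.id_comp]
        calc n • Limits.kernel.ι (n • 𝟙 Z) = Limits.kernel.ι (n • 𝟙 Z) ≫ (n • 𝟙 Z) := by
              rw [Preadditive.comp_zsmul, Category.comp_id]
          _ = 0 := Limits.kernel.condition _
      · rw [← cancel_epi (Limits.cokernel.π (n • 𝟙 Z)), Limits.comp_zero, Preadditive.comp_zsmul, Category.comp_id]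
        calc n • Limits.cokernel.π (n • 𝟙 Z) = (n • 𝟙 Z) ≫ Limits.cokernel.π (n • 𝟙 Z) := by
              rw [Preadditive.zsmul_comp, Category.id_comp]
          _ = 0 := Limits.cokernel.condition _
    have := Localization.inverts L P.isoModSerre _ hW
    rwa [Functor.map_zsmul, CategoryTheory.Functor.map_id] at this
  have hsmul : ∀ (n : ℤ) (g : L.obj X ⟶ L.obj Y), n • g = g ≫ (n • 𝟙 (L.obj Y)) := fun n g => by
    rw [Preadditive.comp_zsmul, Category.comp_id]
  refine ⟨fun n hn => ?_, fun f => ?_, fun g => ?_⟩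
  · haveI := hinv Y n hn
    refine ⟨fun g g' (h : n • g = n • g') => ?_, fun g => ⟨g ≫ inv (n • 𝟙 (L.obj Y)), ?_⟩⟩
    · rw [hsmul, hsmul] at h
      exact (cancel_mono _).1 h
    · show n • (g ≫ inv (n • 𝟙 (L.obj Y))) = g
      rw [hsmul]
      simp only [Category.assoc, IsIso.inv_hom_id, Category.comp_id]
  · rw [ObjectProperty.SerreClassLocalization.map_eq_zero_iff L P, hP]
    refine exists_congr fun n => and_congr_right fun _ => ⟨fun h => ?_, fun h => ?_⟩
    · calc n • f = n • (Abelian.factorThruImage f ≫ 𝟙 _ ≫ Abelian.image.ι f) := by rw [Category.id_comp, Abelian.image.fac]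
        _ = Abelian.factorThruImage f ≫ (n • 𝟙 _) ≫ Abelian.image.ι f := by
          rw [Preadditive.zsmul_comp, Preadditive.comp_zsmul]
        _ = 0 := by rw [h, Limits.zero_comp, Limits.comp_zero]
    · rw [← cancel_epi (Abelian.factorThruImage f), ← cancel_mono (Abelian.image.ι f), Limits.comp_zero, Limits.zero_comp,
        Preadditive.comp_zsmul, Category.comp_id, Preadditive.zsmul_comp, Abelian.image.fac, h]
  · obtain ⟨φ, hφ⟩ := Localization.exists_leftFraction L P.isoModSerre g
    haveI : IsIso (L.map φ.s) := Localization.inverts L P.isoModSerre _ φ.hs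
    obtain ⟨n, hn, hker⟩ := (hP _).1 φ.hs.1
    obtain ⟨m, hm, hcok⟩ := (hP _).1 φ.hs.2
    let e := Abelian.factorThruImage φ.s
    let ι := Abelian.image.ι φ.s
    obtain ⟨l, hl⟩ : ∃ l : φ.Y' ⟶ Abelian.image φ.s, l ≫ ι = m • 𝟙 φ.Y' :=
      ⟨Limits.kernel.lift _ (m • 𝟙 φ.Y') (by
        rw [Preadditive.zsmul_comp, Category.id_comp,
          ← Category.comp_id (Limits.cokernel.π φ.s), ← Preadditive.comp_zsmul, hcok, Limits.comp_zero]),
        Limits.kernel.lift_ι _ _ _⟩
    have hke : Limits.kernel.ι e ≫ φ.s = 0 := by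
      calc Limits.kernel.ι e ≫ φ.s = Limits.kernel.ι e ≫ e ≫ ι := congrArg (_ ≫ ·) (Abelian.image.fac φ.s).symm
        _ = 0 := by rw [← Category.assoc, Limits.kernel.condition, Limits.zero_comp]
    obtain ⟨r, hr⟩ : ∃ r : Abelian.image φ.s ⟶ Y, e ≫ r = n • 𝟙 Y := by
      have : Limits.kernel.ι e ≫ (n • 𝟙 Y) = 0 := by
        rw [← Limits.kernel.lift_ι φ.s (Limits.kernel.ι e) hke, Category.assoc, Preadditive.comp_zsmul, Category.comp_id,
          ← Category.id_comp (Limits.kernel.ι φ.s), ← Preadditive.zsmul_comp, hker, Limits.zero_comp,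
          Limits.comp_zero]
      exact ⟨Abelian.epiDesc e _ this, Abelian.comp_epiDesc e _ this⟩
    have hre : r ≫ e = n • 𝟙 _ := by
      rw [← cancel_epi e, ← Category.assoc, hr, Preadditive.zsmul_comp, Preadditive.comp_zsmul,
        Category.id_comp, Category.comp_id]
    have ht : (l ≫ r) ≫ φ.s = (n * m) • 𝟙 φ.Y' := by
      calc (l ≫ r) ≫ φ.s = (l ≫ r) ≫ e ≫ ι := congrArg (_ ≫ ·) (Abelian.image.fac φ.s).symm
        _ = _ := by
          rw [Category.assoc, ← Category.assoc r, hre, Preadditive.zsmul_comp, Category.id_comp,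
            Preadditive.comp_zsmul, hl, mul_zsmul]
    refine ⟨n * m, φ.f ≫ l ≫ r, mul_ne_zero hn hm, ?_⟩
    rw [hφ, ← cancel_mono (L.map φ.s), Preadditive.zsmul_comp, MorphismProperty.LeftFraction.map_comp_map_s,
      ← L.map_comp, Category.assoc, ht, Preadditive.comp_zsmul, Category.comp_id, L.map_zsmul]

end Groth.Agent.S19244
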