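import Groth.Statements.S19255
import Groth.Agent.EtPbc.QDevissage
-- import your own Groth.Agent.* helpers here

set_option autoImplicit false
set_option backward.isDefEq.respectTransparency.types false
universe u
open CategoryTheory CategoryTheory.Limits AlgebraicGeometry Opposite
open EtCd

namespace Groth.Agent.S19255

/-- Let X be a Noetherian scheme of Krull dimension at most d and F an abelian sheaf on the small etale
site of X which is a sheaf of ℚ-vector spaces, i.e. multiplication by every positive integer is
bijective on the sections of F over every etale X-scheme. Then Hⁱ(X_et, F) = 0 for every i > d. -/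
theorem result (X : Scheme.{u}) [IsNoetherian X] (d : ℕ)
    (hd : topologicalKrullDim ↥X ≤ d) (F : EtCoh.Ab X)
    (hF : ∀ (U : X.Etale) (m : ℕ), 0 < m → Function.Bijective (fun s : EtCoh.sect F U => m • s))
    (i : ℕ) (hi : d < i) : Subsingleton (EtCoh.H X F i) := by
  refine Groth.FieldPush.subsingleton_H_of_isUD d X hd F (fun m hm => ?_) i hi
  haveI : ∀ U, IsIso ((m • 𝟙 F : F ⟶ F).hom.app U) := fun U => by
    rw [ConcreteCategory.isIso_iff_bijective]
    have h := hF U.unop m hm
    convert h using 1
    funext s
    rw [show (m • 𝟙 F : F ⟶ F).hom = m • 𝟙 F.obj from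
      (Functor.map_nsmul (F := sheafToPresheaf _ _) (X := F) (Y := F) (f := 𝟙 F) (n := m)).trans
        (by rw [(sheafToPresheaf _ _).map_id]; rfl), NatTrans.app_nsmul]
    change (m • 𝟙 (F.obj.obj U) : F.obj.obj U ⟶ F.obj.obj U).hom s = m • s
    rw [AddCommGrpCat.hom_nsmul]
    rfl
  haveI : IsIso ((sheafToPresheaf _ _).map (m • 𝟙 F : F ⟶ F)) := NatIso.isIso_of_isIso_app (m • 𝟙 F : F ⟶ F).hom
  exact isIso_of_reflects_iso (m • 𝟙 F : F ⟶ F) (sheafToPresheaf _ _)

end Groth.Agent.S19255
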