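import Groth.Statements.S19258
import Mathlib

set_option autoImplicit false
universe u
open PontDual

namespace Groth.Agent.S19258

/-- Let G and G' be abelian groups such that every element of G' has finite order, and let β : G' →
Hom(G, ℚ/ℤ) be an injective homomorphism (equivalently a pairing G' × G → ℚ/ℤ with no left kernel).
Endow G with the weak topology defined by G': the coarsest topology for which every character β(f),
f ∈ G', is continuous when ℚ/ℤ carries the discrete topology. Then every homomorphism χ : G → ℚ/ℤ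
that is continuous for this topology on G and the discrete topology on ℚ/ℤ equals β(f) for some f ∈
G', so that β is a bijection from G' onto the group of continuous characters of G. -/
theorem result
    (G : Type u) (G' : Type u) [AddCommGroup G] [AddCommGroup G'] (hG' : IsAddTorsion G')
    (β : G' →+ (G →+ AddCircle (1 : ℚ))) (hβ : Function.Injective β)
    (χ : G →+ AddCircle (1 : ℚ))
    (hχ : @Continuous G (AddCircle (1 : ℚ)) (⨅ f' : G', TopologicalSpace.induced (fun x : G => β f' x) ⊥) ⊥ χ) :
    ∃ f' : G', β f' = χ := by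
  classical
  have hle : ∀ (A : Type u) [AddCommGroup A] [Finite A],
      Finite (A →+ AddCircle (1 : ℚ)) ∧ Nat.card (A →+ AddCircle (1 : ℚ)) ≤ Nat.card A := by
    intro A _ _
    haveI := Fintype.ofFinite A
    let ι : AddCircle (1 : ℚ) →+ AddCircle (1 : ℝ) :=
      QuotientAddGroup.map _ _ (Rat.castHom ℝ).toAddMonoidHom (by
        intro x hx
        obtain ⟨m, rfl⟩ := AddSubgroup.mem_zmultiples_iff.1 hx
        exact AddSubgroup.mem_zmultiples_iff.2 ⟨m, by simp⟩)
    have hι : Function.Injective ι := by
      rw [injective_iff_map_eq_zero]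
      intro x hx
      induction x using QuotientAddGroup.induction_on with
      | _ q =>
        obtain ⟨m, hm⟩ := AddSubgroup.mem_zmultiples_iff.1 ((QuotientAddGroup.eq_zero_iff _).1 hx)
        exact (QuotientAddGroup.eq_zero_iff _).2 (AddSubgroup.mem_zmultiples_iff.2 ⟨m, by
          have hm' : ((m • (1 : ℚ) : ℚ) : ℝ) = (q : ℝ) := by simpa using hm
          exact_mod_cast hm'⟩)
    let F : (A →+ AddCircle (1 : ℚ)) → AddChar A ℂ := fun c =>
      { toFun := fun a => (AddCircle.toCircle (ι (c a)) : ℂ)
        map_zero_eq_one' := by simp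
        map_add_eq_mul' := fun a b => by rw [map_add, map_add, AddCircle.toCircle_add, Circle.coe_mul] }
    have hF : Function.Injective F := fun c c' h => AddMonoidHom.ext fun a => by
      have h1 : (AddCircle.toCircle (ι (c a)) : ℂ) = AddCircle.toCircle (ι (c' a)) := DFunLike.congr_fun h a
      exact hι (AddCircle.injective_toCircle one_ne_zero (Subtype.ext h1))
    refine ⟨Finite.of_injective F hF, ?_⟩
    rw [Nat.card_eq_fintype_card (α := A)]
    exact (Nat.card_le_card_of_injective F hF).trans
      (le_of_eq_of_le (Nat.card_eq_fintype_card) (le_of_eq AddChar.card_eq))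
  -- the continuous character is trivial on a finite intersection of kernels
  obtain ⟨S, hS⟩ : ∃ S : Finset G', ∀ x, (∀ f ∈ S, β f x = 0) → χ x = 0 := by
    letI : TopologicalSpace (AddCircle (1 : ℚ)) := ⊥
    haveI : DiscreteTopology (AddCircle (1 : ℚ)) := ⟨rfl⟩
    letI t : TopologicalSpace G := ⨅ f' : G', TopologicalSpace.induced (fun x : G => β f' x) ⊥
    have h0 : χ ⁻¹' {0} ∈ @nhds G t 0 := hχ.continuousAt.preimage_mem_nhds (by simp [nhds_discrete])
    rw [nhds_iInf] at h0
    simp only [nhds_induced, nhds_discrete, Filter.comap_pure, map_zero] at h0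
    obtain ⟨S, hSfin, hsub⟩ := (Filter.hasBasis_iInf_principal_finite _).mem_iff.1 h0
    exact ⟨hSfin.toFinset, fun x hx => hsub (Set.mem_iInter₂.2 fun f hf => hx f (hSfin.mem_toFinset.2 hf))⟩
  let H : AddSubgroup G' := AddSubgroup.closure (S : Set G')
  haveI : AddGroup.FG H := (AddGroup.fg_iff_addSubgroup_fg H).2 ⟨S, rfl⟩
  haveI : Finite H := AddCommGroup.finite_of_fg_torsion H fun x => by
    simpa [isOfFinAddOrder_iff_nsmul_eq_zero, Subtype.ext_iff] using hG' (x : G')
  let Φ : G →+ (H →+ AddCircle (1 : ℚ)) := (β.comp H.subtype).flip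
  haveI := (hle H).1
  let A : AddSubgroup (H →+ AddCircle (1 : ℚ)) := Φ.range
  let ev : H →+ (A →+ AddCircle (1 : ℚ)) := (AddMonoidHom.flip A.subtype)
  have hev : Function.Injective ev := by
    rw [injective_iff_map_eq_zero]
    intro h hh
    refine Subtype.ext (hβ ?_)
    rw [ZeroMemClass.coe_zero, map_zero]
    exact AddMonoidHom.ext fun x => DFunLike.congr_fun hh ⟨Φ x, x, rfl⟩
  haveI := (hle A).1
  have hcard : Nat.card (A →+ AddCircle (1 : ℚ)) ≤ Nat.card H :=
    ((hle A).2.trans (Nat.card_le_card_of_injective _ Subtype.val_injective)).trans (hle H).2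
  have hbij : Function.Bijective ev :=
    hev.bijective_of_nat_card_le hcard
  have hker : Φ.rangeRestrict.ker ≤ χ.ker := by
    intro x hx
    rw [AddMonoidHom.ker_rangeRestrict, AddMonoidHom.mem_ker] at hx
    exact hS x fun f hf => DFunLike.congr_fun hx ⟨f, AddSubgroup.subset_closure hf⟩
  obtain ⟨h, hh⟩ := hbij.2 (Φ.rangeRestrict.liftOfSurjective Φ.rangeRestrict_surjective ⟨χ, hker⟩)
  refine ⟨h, AddMonoidHom.ext fun x => ?_⟩
  have := DFunLike.congr_fun hh (Φ.rangeRestrict x)
  rw [AddMonoidHom.liftOfRightInverse_comp_apply] at this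
  exact this

end Groth.Agent.S19258
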