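import Groth.Statements.S19264
import Groth.Agent.WittFilH.Fil

set_option autoImplicit false
universe u
open WittFil

namespace Groth.Agent.S19264

/-- Let A be a unique factorisation domain of characteristic p, x_1, …, x_r pairwise non-associate prime
elements of A, B = A[1/(x_1⋯x_r)] with u_i the unit of B defined by x_i, n ∈ ℤ^r and m ≥ 0. The
restriction map from truncated p-typical Witt vectors of length m+1 to those of length m over B
(forgetting the last coordinate) maps the filtered piece cut out by ∏ u_i ^ n_i onto the filtered
piece cut out by ∏ u_i ^ ⌊n_i / p⌋; that is, the image is exactly that piece. (The other parts of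
the exact sequence, injectivity of the (m-fold) Verschiebung from the fractional ideal generated by
(∏ u_i ^ n_i)⁻¹ and exactness in the middle, are immediate from the definition and are not restated.
The published setting is a regular local ring; only unique factorisation is used.) -/
theorem result (p : ℕ) [Fact p.Prime] {A B : Type u} [CommRing A] [IsDomain A]
    [UniqueFactorizationMonoid A] [CharP A p] [CommRing B] [Algebra A B] {r : ℕ} (x : Fin r → A)
    (hx : ∀ i, Prime (x i)) (hxa : ∀ i j, Associated (x i) (x j) → i = j)
    [IsLocalization.Away (∏ i, x i) B] (u : Fin r → Bˣ)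
    (hu : ∀ i, (u i : B) = algebraMap A B (x i)) (n : Fin r → ℤ) (m : ℕ) :
    (TruncatedWittVector.truncate (Nat.le_succ m)) '' WittFil.fil p (m + 1) (A := A) (WittFil.zmon u n) =
      WittFil.fil p m (A := A) (WittFil.zmon u (fun i => n i / (p : ℤ))) := by
  haveI : CharP B p := charP_of_injective_algebraMap (Groth.WittFilH.algebraMap_injective' (B := B) hx) p
  have hfin : ∀ i (a : A), a ≠ 0 → FiniteMultiplicity (x i) a := fun i _ ha => FiniteMultiplicity.of_prime_left (hx i) ha
  have hr : Groth.WittFilH.RootClosed p A B := Groth.WittFilH.rootClosed hx hxa hfin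
  have hp : 0 < p := (Fact.out : p.Prime).pos
  ext a
  constructor
  · rintro ⟨b, hb, rfl⟩
    obtain ⟨X, rfl⟩ := WittVector.truncate_surjective p (m + 1) B b
    rw [Groth.WittFilH.mem_fil_truncate] at hb
    rw [TruncatedWittVector.truncate_wittVector_truncate, Groth.WittFilH.mem_fil_truncate]
    intro j hj
    refine Groth.WittFilH.mem_range_floor hx hxa hfin hu hp ?_
    rw [← pow_mul, ← pow_succ, show m - 1 - j + 1 = m + 1 - 1 - j by omega]
    exact hb j (by omega)
  · intro ha
    obtain ⟨X, rfl⟩ := WittVector.truncate_surjective p m B a
    rw [Groth.WittFilH.mem_fil_truncate] at ha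
    refine ⟨WittVector.truncate (m + 1) (WittVector.mk p fun j => if j < m then X.coeff j else 0), ?_, ?_⟩
    · rw [Groth.WittFilH.mem_fil_truncate]
      intro j hj
      rw [WittVector.coeff_mk]
      split_ifs with h
      · rw [show m + 1 - 1 - j = m - 1 - j + 1 by omega, pow_succ, pow_mul, Groth.WittFilH.pow_mul_zmon hu hp]
        exact mul_mem (pow_mem (ha j h) _) ⟨_, rfl⟩
      · rw [zero_pow (pow_pos hp _).ne', zero_mul]
        exact zero_mem _
    · rw [TruncatedWittVector.truncate_wittVector_truncate]
      exact TruncatedWittVector.ext fun i => by simp [WittVector.coeff_truncate, i.2]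

end Groth.Agent.S19264
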