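import Groth.Statements.S19267
import Groth.Agent.WittFilH.Fil

set_option autoImplicit false
universe u
open WittFil

namespace Groth.Agent.S19267

/-- Let A → B be a homomorphism of commutative rings, u a unit of B, m ≥ 0 and n, l integers. For an
element c of B call the filtered piece cut out by c the set of truncated p-typical Witt vectors of
length m over B whose j-th coordinate y_j satisfies: y_j ^ (p ^ (m-1-j)) · c lies in the image of A,
for every j < m. Then the piece cut out by u ^ (n − p^(m−1)·l) is exactly the image of the piece cut
out by u ^ n under multiplication by the truncated Teichmüller representative [u ^ l]. (The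
published case is B = S[[π]][1/π] over A = S[[π]] with u = π; the computation is the same in
general.) -/
theorem result (p : ℕ) [Fact p.Prime] {A B : Type u}
    [CommRing A] [CommRing B] [Algebra A B] (m : ℕ) (u : Bˣ) (n l : ℤ) :
    WittFil.fil p m (A := A) ((u ^ (n - (p : ℤ) ^ (m - 1) * l) : Bˣ) : B) =
      (fun a => WittVector.truncate m (WittVector.teichmuller p ((u ^ l : Bˣ) : B)) * a) ''
        WittFil.fil p m (A := A) ((u ^ n : Bˣ) : B) := by
  ext a
  obtain ⟨X, rfl⟩ := WittVector.truncate_surjective p m B a
  have hinv : ∀ v : Bˣ, WittVector.teichmuller p (v : B) * WittVector.teichmuller p ((v⁻¹ : Bˣ) : B) = 1 := by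
    intro v; rw [← map_mul, Units.mul_inv, map_one]
  constructor
  · intro h
    refine ⟨WittVector.truncate m (X * WittVector.teichmuller p (((u ^ l)⁻¹ : Bˣ) : B)), ?_, ?_⟩
    · rw [Groth.WittFilH.mul_teichmuller_mem_fil]
      convert h using 2
      rw [← Units.val_pow_eq_pow_val, ← Units.val_mul]
      congr 1
      rw [← zpow_neg, ← zpow_natCast, ← zpow_mul, ← zpow_add]
      congr 1
      push_cast
      ring
    · show WittVector.truncate m _ * _ = _
      rw [← map_mul]
      congr 1
      rw [mul_left_comm, hinv, mul_one]
  · rintro ⟨b, hb, hba⟩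
    obtain ⟨Y, rfl⟩ := WittVector.truncate_surjective p m B b
    dsimp only at hba
    rw [← map_mul, mul_comm] at hba
    rw [← hba, Groth.WittFilH.mul_teichmuller_mem_fil]
    convert hb using 2
    rw [← Units.val_pow_eq_pow_val, ← Units.val_mul]
    congr 1
    rw [← zpow_natCast, ← zpow_mul, ← zpow_add]
    congr 1
    push_cast
    ring

end Groth.Agent.S19267
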