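import Groth.Statements.S19268
import Groth.Agent.WittFilH.Fil

set_option autoImplicit false
universe u
open WittFil

namespace Groth.Agent.S19268

/-- Let S be an integral domain of characteristic p, A = S[[π]] the power series ring, B = A[1/π] with u
the unit of B given by π, and let m > s ≥ 0 and i be an integer with s = 0 or p ∤ i; put n = p ^
(m−1−s) · i. For e in B write fil(e) for the set of truncated p-typical Witt vectors of length m
over B whose j-th coordinate y_j satisfies y_j ^ (p ^ (m−1−j)) · e ∈ A for all j, and for a Witt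
vector c over S let Φ(c) ∈ W_m(B) be the length-m truncation of V^s(c · [u ^ i]) (V the
Verschiebung, [ ] the Teichmüller map, c mapped to B). Then Φ induces a bijection from the
length-(m−s) truncated Witt vectors of S onto the graded piece fil(u^(−n)) / fil(u^(−n−1)): (1) Φ(c)
lies in fil(u^(−n)) for every c; (2) Φ(c) lies in fil(u^(−n−1)) exactly when the length-(m−s)
truncation of c is zero; (3) every element of fil(u^(−n)) is congruent to some Φ(c) modulo
fil(u^(−n−1)). (Published for S a regular local Noetherian F-finite F_p-algebra; the argument uses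
only that S is a domain.) -/
theorem result (p : ℕ) [Fact p.Prime] {S B : Type u} [CommRing S]
    [IsDomain S] [CharP S p] [CommRing B] [Algebra (PowerSeries S) B] [Algebra S B]
    [IsScalarTower S (PowerSeries S) B] [IsLocalization.Away (PowerSeries.X : PowerSeries S) B]
    (u : Bˣ) (hu : (u : B) = algebraMap (PowerSeries S) B PowerSeries.X) (m s : ℕ) (hs : s < m)
    (i : ℤ) (hsi : s = 0 ∨ ¬ ((p : ℤ) ∣ i)) :
    (∀ c : WittVector p S,
        WittFil.vShiftTeich p m s ((u ^ i : Bˣ) : B) c ∈
          WittFil.fil p m (A := PowerSeries S) ((u ^ (-((p : ℤ) ^ (m - 1 - s) * i)) : Bˣ) : B)) ∧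
      (∀ c : WittVector p S,
        WittFil.vShiftTeich p m s ((u ^ i : Bˣ) : B) c ∈
            WittFil.fil p m (A := PowerSeries S) ((u ^ (-((p : ℤ) ^ (m - 1 - s) * i) - 1) : Bˣ) : B) ↔
          WittVector.truncate (m - s) c = 0) ∧
      (∀ y ∈ WittFil.fil p m (A := PowerSeries S) ((u ^ (-((p : ℤ) ^ (m - 1 - s) * i)) : Bˣ) : B),
        ∃ c : WittVector p S,
          y - WittFil.vShiftTeich p m s ((u ^ i : Bˣ) : B) c ∈
            WittFil.fil p m (A := PowerSeries S)
              ((u ^ (-((p : ℤ) ^ (m - 1 - s) * i) - 1) : Bˣ) : B)) := by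
  have hp : 0 < p := (Fact.out : p.Prime).pos
  have hP : ∀ e, p ^ e ≠ 0 := fun e => (pow_pos hp e).ne'
  haveI : IsLocalization.Away (∏ i : Fin 1, (fun _ => (PowerSeries.X : PowerSeries S)) i) B := by
    simpa using ‹IsLocalization.Away (PowerSeries.X : PowerSeries S) B›
  have hX : ∀ _i : Fin 1, Prime (PowerSeries.X : PowerSeries S) := fun _ => PowerSeries.X_prime
  have hxa : ∀ i j : Fin 1, Associated (PowerSeries.X : PowerSeries S) (PowerSeries.X : PowerSeries S) → i = j :=
    fun i j _ => Subsingleton.elim i j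
  have hfin : ∀ (_i : Fin 1) (a : PowerSeries S), a ≠ 0 → FiniteMultiplicity (PowerSeries.X : PowerSeries S) a := by
    intro _ a ha
    obtain ⟨l, hl⟩ := PowerSeries.exists_coeff_ne_zero_iff_ne_zero.2 ha
    exact ⟨l, fun h => hl ((PowerSeries.X_pow_dvd_iff.1 h) l (Nat.lt_succ_self l))⟩
  have hinj : Function.Injective (algebraMap (PowerSeries S) B) :=
    Groth.WittFilH.algebraMap_injective' (x := fun _ : Fin 1 => (PowerSeries.X : PowerSeries S)) hX
  have hr : Groth.WittFilH.RootClosed p (PowerSeries S) B := Groth.WittFilH.rootClosed hX hxa hfin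
  haveI : CharP (PowerSeries S) p :=
    charP_of_injective_algebraMap (R := S) PowerSeries.C_injective p
  haveI : CharP B p := charP_of_injective_algebraMap hinj p
  set N : ℤ := (p : ℤ) ^ (m - 1 - s) * i with hNdef
  set M₀ : B := ((u ^ (-N) : Bˣ) : B) with hM₀
  have hS : ∀ a : S, algebraMap S B a = algebraMap (PowerSeries S) B (PowerSeries.C a) := fun a => by
    rw [IsScalarTower.algebraMap_apply S (PowerSeries S) B]; rfl
  have hstep : ((u ^ (-N - 1) : Bˣ) : B) * algebraMap (PowerSeries S) B PowerSeries.X = M₀ := by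
    rw [hM₀, ← hu, ← Units.val_mul, ← zpow_add_one]; congr 2; ring
  have hpre : ∀ (c : WittVector p S) (j : ℕ), j < m →
      (((WittVector.verschiebung)^[s] (WittVector.map (algebraMap S B) c *
        WittVector.teichmuller p ((u ^ i : Bˣ) : B))).coeff j) ^ p ^ (m - 1 - j) * M₀ =
      algebraMap (PowerSeries S) B (PowerSeries.C (if j < s then 0 else c.coeff (j - s) ^ p ^ (m - 1 - j))) := by
    intro c j hj
    by_cases h : j < s
    · rw [WittVector.iterate_verschiebung_coeff_eq_zero _ h, zero_pow (hP _), zero_mul, if_pos h, map_zero, map_zero]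
    · obtain ⟨l, rfl⟩ := Nat.exists_eq_add_of_le' (not_lt.1 h)
      rw [WittVector.iterate_verschiebung_coeff, Groth.WittFilH.coeff_mul_teichmuller, WittVector.map_coeff,
        if_neg h, Nat.add_sub_cancel, map_pow, map_pow, ← hS, mul_pow, mul_assoc, hM₀, ← pow_mul, ← pow_add,
        show l + (m - 1 - (l + s)) = m - 1 - s by omega, ← Units.val_pow_eq_pow_val, ← Units.val_mul,
        ← zpow_natCast, ← zpow_mul, ← zpow_add, hNdef]
      rw [show i * ((p ^ (m - 1 - s) : ℕ) : ℤ) + -((p : ℤ) ^ (m - 1 - s) * i) = 0 by push_cast; ring,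
        zpow_zero, Units.val_one, mul_one]
  have h1 : ∀ c : WittVector p S, WittFil.vShiftTeich p m s ((u ^ i : Bˣ) : B) c ∈
      WittFil.fil p m (A := PowerSeries S) M₀ := by
    intro c
    rw [WittFil.vShiftTeich, Groth.WittFilH.mem_fil_truncate]
    exact fun j hj => ⟨_, (hpre c j hj).symm⟩
  have hstrict : ∀ (y : B) (g : PowerSeries S), algebraMap (PowerSeries S) B g = y * M₀ →
      (PowerSeries.constantCoeff g = 0 ↔ y * ((u ^ (-N - 1) : Bˣ) : B) ∈ (algebraMap (PowerSeries S) B).range) := by
    intro y g hg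
    constructor
    · intro h
      obtain ⟨g', rfl⟩ := PowerSeries.X_dvd_iff.2 h
      refine ⟨g', ((IsLocalization.Away.algebraMap_isUnit (S := B) (PowerSeries.X : PowerSeries S))).mul_left_cancel ?_⟩
      rw [← map_mul, hg, ← hstep]; ring
    · rintro ⟨g', hg'⟩
      have : g = g' * PowerSeries.X := hinj (by rw [map_mul, hg', hg, ← hstep]; ring)
      simp [this]
  refine ⟨h1, fun c => ?_, fun y hy => ?_⟩
  · rw [WittFil.vShiftTeich, Groth.WittFilH.mem_fil_truncate]
    constructor
    · intro h
      refine TruncatedWittVector.ext fun l => ?_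
      rw [WittVector.coeff_truncate, TruncatedWittVector.coeff_zero]
      have hj : l.val + s < m := by omega
      have := (hstrict _ _ (hpre c _ hj).symm).2 (h _ hj)
      rw [PowerSeries.constantCoeff_C, if_neg (by omega), Nat.add_sub_cancel] at this
      exact pow_eq_zero_iff (hP _) |>.1 this
    · intro h j hj
      refine (hstrict _ _ (hpre c j hj).symm).1 ?_
      rw [PowerSeries.constantCoeff_C]
      split_ifs with hjs
      · rfl
      · have := congrArg (TruncatedWittVector.coeff ⟨j - s, by omega⟩) h
        rw [WittVector.coeff_truncate, TruncatedWittVector.coeff_zero] at this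
        rw [this, zero_pow (hP _)]
  · obtain ⟨Y, rfl⟩ := WittVector.truncate_surjective p m B y
    have hy' := Groth.WittFilH.mem_fil_truncate.1 hy
    have hz : ∀ l, l + s < m → ∃ g : PowerSeries S,
        algebraMap (PowerSeries S) B g = Y.coeff (l + s) * ((u ^ (-(i * ((p : ℤ) ^ l))) : Bˣ) : B) := by
      intro l hl
      refine hr (m - 1 - (l + s)) _ ?_
      convert hy' (l + s) hl using 2
      rw [mul_pow, hM₀, ← Units.val_pow_eq_pow_val, ← zpow_natCast, ← zpow_mul]
      congr 3
      rw [hNdef, show m - 1 - s = l + (m - 1 - (l + s)) by omega, pow_add]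
      push_cast
      ring
    choose g hg using hz
    let c : WittVector p S := WittVector.mk p fun l => if hl : l + s < m then PowerSeries.constantCoeff (g l hl) else 0
    refine ⟨c, ?_⟩
    set W := (WittVector.verschiebung)^[s] (WittVector.map (algebraMap S B) c *
        WittVector.teichmuller p ((u ^ i : Bˣ) : B)) with hW
    obtain ⟨Y', hY'⟩ := Groth.WittFilH.exists_lift hy
    obtain ⟨W', hW'⟩ := Groth.WittFilH.exists_lift (X := W) (h1 c)
    have hlead : ∀ j < m, PowerSeries.constantCoeff (Y'.coeff j) = PowerSeries.constantCoeff (W'.coeff j) := by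
      intro j hj
      obtain ⟨gY, hgY⟩ := hy' j hj
      have e1 : Y'.coeff j = gY ^ p ^ j := hinj (by rw [hY' j hj, Groth.WittFilH.coeff_scaled _ _ hj, map_pow, hgY])
      have e2 : W'.coeff j = PowerSeries.C (if j < s then 0 else c.coeff (j - s) ^ p ^ (m - 1 - j)) ^ p ^ j :=
        hinj (by rw [hW' j hj, Groth.WittFilH.coeff_scaled _ _ hj, map_pow, hpre c j hj])
      rw [e1, e2, map_pow, map_pow, PowerSeries.constantCoeff_C]
      congr 1
      by_cases hjs : j < s
      · rw [if_pos hjs]
        have hz1 : M₀ = WittFil.zmon (fun _ : Fin 1 => u) (fun _ => -N) := by simp [WittFil.zmon, hM₀]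
        have hh : Y.coeff j ^ p ^ (m - 1 - j) * M₀ ∈ (algebraMap (PowerSeries S) B).range := ⟨_, hgY⟩
        rw [hz1] at hh hgY
        obtain ⟨z, hz⟩ := Groth.WittFilH.mem_range_floor (x := fun _ : Fin 1 => (PowerSeries.X : PowerSeries S))
          (u := fun _ => u) hX hxa hfin (fun _ => hu) (pow_pos hp _) hh
        rw [Groth.WittFilH.pow_mul_zmon (x := fun _ : Fin 1 => (PowerSeries.X : PowerSeries S)) (fun _ => hu) (pow_pos hp _),
          ← hz, ← map_pow, ← map_mul] at hgY
        rw [hinj hgY, map_mul, Fin.prod_univ_one, map_pow, map_pow, PowerSeries.constantCoeff_X, zero_pow, mul_zero]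
        intro h0
        have hmod := Int.emod_nonneg (-N) (show ((p ^ (m - 1 - j) : ℕ) : ℤ) ≠ 0 by exact_mod_cast hP _)
        have hd : ((p ^ (m - 1 - j) : ℕ) : ℤ) ∣ -N := Int.dvd_of_emod_eq_zero (by omega)
        rw [hNdef, dvd_neg, show m - 1 - j = (m - 1 - s) + (s - j - 1 + 1) by omega] at hd
        push_cast at hd
        rw [pow_add, mul_dvd_mul_iff_left (pow_ne_zero _ (by exact_mod_cast hp.ne'))] at hd
        rcases hsi with rfl | hpi
        · omega
        · exact hpi ((dvd_pow_self _ (by omega)).trans hd)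
      · rw [if_neg hjs]
        obtain ⟨l, rfl⟩ := Nat.exists_eq_add_of_le' (not_lt.1 hjs)
        have : gY = (g l hj) ^ p ^ (m - 1 - (l + s)) := hinj (by
          rw [hgY, map_pow, hg l hj, mul_pow]
          congr 1
          rw [hM₀, ← Units.val_pow_eq_pow_val, ← zpow_natCast, ← zpow_mul]
          congr 2
          rw [hNdef, show m - 1 - s = l + (m - 1 - (l + s)) by omega, pow_add]
          push_cast
          ring)
        rw [this, map_pow, Nat.add_sub_cancel]
        simp only [c, WittVector.coeff_mk, dif_pos hj]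
    rw [WittFil.vShiftTeich, ← hW, ← map_sub, Groth.WittFilH.mem_fil_truncate]
    intro j hj
    have hd0 : PowerSeries.constantCoeff ((Y' - W').coeff j) = 0 := by
      have h : WittVector.truncate m (WittVector.map PowerSeries.constantCoeff (Y' - W')) = 0 := by
        rw [map_sub, map_sub, sub_eq_zero]
        exact TruncatedWittVector.ext fun l => by
          simp only [WittVector.coeff_truncate, WittVector.map_coeff]; exact hlead l l.2
      have := congrArg (TruncatedWittVector.coeff ⟨j, hj⟩) h
      rwa [WittVector.coeff_truncate, TruncatedWittVector.coeff_zero, WittVector.map_coeff] at this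
    have hd1 : algebraMap (PowerSeries S) B ((Y' - W').coeff j) = ((Y - W).coeff j ^ p ^ (m - 1 - j) * M₀) ^ p ^ j := by
      rw [← Groth.WittFilH.coeff_scaled _ _ hj]
      have := congrArg (TruncatedWittVector.coeff ⟨j, hj⟩) (show
        WittVector.truncate m (WittVector.map (algebraMap (PowerSeries S) B) (Y' - W')) =
          WittVector.truncate m (Groth.WittFilH.scaled m M₀ (Y - W)) by
        rw [map_sub, map_sub, Groth.WittFilH.scaled_sub, map_sub, Groth.WittFilH.truncate_map_eq hY',
          Groth.WittFilH.truncate_map_eq hW'])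
      rwa [WittVector.coeff_truncate, WittVector.coeff_truncate, WittVector.map_coeff] at this
    obtain ⟨gj, hgj⟩ := hr j _ ⟨_, hd1⟩
    refine (hstrict _ gj hgj).1 ?_
    rw [← hgj, ← map_pow] at hd1
    rw [hinj hd1, map_pow] at hd0
    exact pow_eq_zero_iff (hP _) |>.1 hd0

end Groth.Agent.S19268
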