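import Groth.Statements.S19269
import Mathlib
import Groth.Agent.Calg8.Decaying

set_option autoImplicit false
universe u
open CAlg

namespace Groth.Agent.S19269

open IsLocalRing in
/-- Let R be a Noetherian local ring with maximal ideal 𝔪, M a finitely generated R-module and M^ its
𝔪-adic completion, a module over the 𝔪-adic completion R^ of R. Let N' be an R^-submodule of M^ and
N an R-submodule of M whose image in M^ is contained in N' and is dense in N' for the 𝔪-adic
topology, in the sense that for every y in N' and every k there is x in N with y ≡ x modulo the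
kernel of M^ → M/𝔪^k M. Then N' equals the image of the completion of N under the map induced by the
inclusion N → M (so N' is the completion of N), and N is the set of elements of M whose image in M^
lies in N'. -/
theorem result {R : Type u} [CommRing R]
    [IsNoetherianRing R] [IsLocalRing R] {M : Type u} [AddCommGroup M] [Module R M]
    [Module.Finite R M] (N : Submodule R M)
    (N' : Submodule (AdicCompletion (maximalIdeal R) R) (AdicCompletion (maximalIdeal R) M))
    (hle : ∀ x ∈ N, AdicCompletion.of (maximalIdeal R) M x ∈ N')
    (hdense : ∀ y ∈ N', ∀ k : ℕ, ∃ x ∈ N,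
      AdicCompletion.eval (maximalIdeal R) M k y = Submodule.Quotient.mk x) :
    (N'.restrictScalars R =
        (LinearMap.range (AdicCompletion.map (maximalIdeal R) N.subtype)).restrictScalars R) ∧
      (∀ x : M, x ∈ N ↔ AdicCompletion.of (maximalIdeal R) M x ∈ N') := by
  set m := maximalIdeal R
  constructor
  · refine le_antisymm ?_ ?_
    · intro y hy
      obtain ⟨c, hc⟩ := Groth.Calg8.exists_artin_rees m N
      choose x hx hxe using fun k => hdense y hy (k + c)
      let s : ℕ → N := fun k => ⟨x k, hx k⟩
      have hs : ∀ k, s k ≡ s (k + 1) [SMOD (m ^ k • ⊤ : Submodule R N)] := by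
        intro k
        rw [SModEq.sub_mem]
        refine hc k _ ?_
        show x k - x (k + 1) ∈ _
        rw [← Submodule.Quotient.eq, ← hxe k, AdicCompletion.eval_apply,
          ← y.property (show k + c ≤ k + 1 + c by omega), ← AdicCompletion.eval_apply, hxe (k + 1)]
        rfl
      refine ⟨AdicCompletion.mk m N (AdicCompletion.AdicCauchySequence.mk m N s hs), AdicCompletion.ext fun k => ?_⟩
      show Submodule.Quotient.mk (x k) = y.val k
      have h2 := hxe k
      rw [AdicCompletion.eval_apply] at h2
      rw [← y.property (show k ≤ k + c by omega), h2]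
      rfl
    · rintro _ ⟨z, rfl⟩
      obtain ⟨t, rfl⟩ := AdicCompletion.ofTensorProduct_surjective_of_finite m N z
      rw [Submodule.restrictScalars_mem]
      induction t using TensorProduct.induction_on with
      | zero => rw [map_zero, map_zero]; exact Submodule.zero_mem _
      | tmul r x =>
        rw [AdicCompletion.ofTensorProduct_tmul, map_smul, AdicCompletion.map_of]
        exact Submodule.smul_mem _ r (hle _ x.2)
      | add a b ha hb => rw [map_add, map_add]; exact Submodule.add_mem _ ha hb
  · refine fun x => ⟨hle x, fun hx => ?_⟩
    rw [← Submodule.Quotient.mk_eq_zero]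
    refine IsHausdorff.haus (I := m) inferInstance _ fun k => SModEq.zero.2 ?_
    obtain ⟨z, hz, hze⟩ := hdense _ hx k
    rw [AdicCompletion.eval_of, Submodule.mkQ_apply, Submodule.Quotient.eq] at hze
    have h1 := Groth.Calg8.map_mem_smul_top N.mkQ _ hze
    rwa [map_sub, Submodule.mkQ_apply, Submodule.mkQ_apply, (Submodule.Quotient.mk_eq_zero N).2 hz, sub_zero] at h1

end Groth.Agent.S19269
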