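import Groth.Statements.S1927
import Groth.Agent.Cycles.PullFib
import Groth.Agent.Cycles.PullComp
-- import your own Groth.Agent.* helpers here

set_option autoImplicit false
universe u
open CategoryTheory AlgebraicGeometry
open Cyc

namespace Groth.Agent.S1927

/-- Let f : X → Y be flat, locally of finite type, of relative dimension r, L an invertible O_Y-module
and α a k-cycle on Y. Then f^*(c_1(L) ∩ α) ∼_rat c_1(f^*L) ∩ f^*α as (k + r − 1)-cycles on X, with
flat pullbacks taken coefficientwise and the two caps computed with any nonzero rational sections.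
Here L(ξ) = L_ξ/𝔪_ξ L_ξ is the space of rational sections of L on the closure of ξ, div_{L|W}(s) and
c_1(L) ∩ α are computed as coefficient functions from chosen nonzero rational sections
(Cyc.secDivFun, Cyc.c1CapFun), and results are compared up to rational equivalence for any cycles
with those coefficients. A pair (X, δ) with Cyc.IsSetup plays the role of a scheme locally of finite
type over a fixed base with a dimension function (X locally Noetherian with universally catenary
local rings, δ a dimension function), and Cyc.DeltaCompat records that the dimension function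
upstairs is the induced one. -/
theorem result (X Y : Scheme.{u}) (δX : X → ℤ) (δY : Y → ℤ) (hX : Cyc.IsSetup X δX) (hY : Cyc.IsSetup Y δY) (f : X ⟶ Y) [Flat f] [LocallyOfFiniteType f] (r : ℕ) (hr : Cyc.HasRelDim f r) (hδ : Cyc.DeltaCompat f δX δY) (L : Y.Modules) (hL : PicF.IsInvertible L) (k : ℤ) (α : AlgebraicCycle Y ℤ) (hα : α ∈ Cyc.Zk Y δY k) (v : (η : Y) → Cyc.secFibre L η) (hv : ∀ η, v η ≠ 0) (u : (ξ : X) → Cyc.secFibre ((Scheme.Modules.pullback f).obj L) ξ) (hu : ∀ ξ, u ξ ≠ 0) (γ₁ γ₂ : AlgebraicCycle X ℤ) (h₁ : ⇑γ₁ = Cyc.pullFun f δX δY r (Cyc.c1CapFun δY L ⇑α v)) (h₂ : ⇑γ₂ = Cyc.c1CapFun δX ((Scheme.Modules.pullback f).obj L) (Cyc.pullFun f δX δY r ⇑α) u) : Cyc.RatEquiv δX (k + r - 1) γ₁ γ₂ := by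
  have := hX.1
  exact Groth.Cycles.pull_c1_ratEquiv δX δY hX hY f r
    (fun x hx => Groth.Cycles.delta_eq_add_of_isFibreGeneric f hr hδ hx) hL k α hα hv hu γ₁ γ₂ h₁ h₂

end Groth.Agent.S1927
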