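import Groth.Statements.S19270
import Groth.Agent.Ega41Sep.Separable
import Mathlib

set_option autoImplicit false
universe u
open CAlg

namespace Groth.Agent.S19270

open IsLocalRing in
/-- Let A be a regular local ring of prime characteristic p, of Krull dimension N, with maximal ideal
generated by x_1, …, x_N, and assume that the module Ω_A of absolute Kähler differentials of A
(differentials relative to ℤ, equivalently relative to the prime field) is a free A-module of finite
rank. Then dx_1, …, dx_N are part of a basis of Ω_A: there exist a basis b of Ω_A and an injection e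
of the indices 1, …, N into the index type of b with b (e i) = d(x_i) for all i. (In the published
statement A is a regular local F-finite algebra over the prime field and the freeness and finiteness
of Ω_A form the first assertion, taken there from the literature; here they are hypotheses.) -/
theorem result (p : ℕ) [Fact p.Prime]
    {A : Type u} [CommRing A] [IsRegularLocalRing A] [CharP A p]
    [Module.Free A (KaehlerDifferential ℤ A)] [Module.Finite A (KaehlerDifferential ℤ A)]
    {N : ℕ} (x : Fin N → A) (hx : Ideal.span (Set.range x) = maximalIdeal A)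
    (hN : ringKrullDim A = (N : WithBot ℕ∞)) :
    ∃ (ι : Type u) (b : Module.Basis ι A (KaehlerDifferential ℤ A)) (e : Fin N ↪ ι),
      ∀ i : Fin N, b (e i) = KaehlerDifferential.D ℤ A (x i) := by
  classical
  let _ : Algebra (Ega41Sep.ZModU.{u} p) A := Ega41Sep.zmodUAlgebra p A
  let m := maximalIdeal A
  let k := ResidueField A
  let Q := A ⧸ m ^ 2
  -- a section of `A / m² → k`
  let g : Q →ₐ[Ega41Sep.ZModU.{u} p] k := Ideal.Quotient.liftₐ (m ^ 2) (IsScalarTower.toAlgHom (Ega41Sep.ZModU.{u} p) A k) fun a ha =>
    Ideal.Quotient.eq_zero_iff_mem.2 (Ideal.pow_le_self two_ne_zero ha)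
  have : CharP k p := (CharP.charP_iff_prime_eq_zero Fact.out).2 (by
    rw [← map_natCast (residue A), CharP.cast_eq_zero, map_zero])
  have := Ega41Sep.formallySmooth_zmodU p k
  have hg : Function.Surjective g := fun c => by
    obtain ⟨a, rfl⟩ := residue_surjective c
    exact ⟨Ideal.Quotient.mk _ a, rfl⟩
  have hg' : IsNilpotent (RingHom.ker (g : Q →+* k)) := by
    refine ⟨2, le_bot_iff.1 ?_⟩
    have hle : RingHom.ker (g : Q →+* k) ≤ m.cotangentIdeal := fun z hz => by
      obtain ⟨a, rfl⟩ := Ideal.Quotient.mk_surjective z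
      exact Submodule.mem_map_of_mem (Ideal.Quotient.eq_zero_iff_mem.1 hz)
    exact (Ideal.pow_right_mono hle 2).trans (le_of_eq (Ideal.cotangentIdeal_square m))
  let σ : k →ₐ[Ega41Sep.ZModU.{u} p] Q := Algebra.FormallySmooth.liftOfSurjective (AlgHom.id _ k) g hg hg'
  have hσ : ∀ c, g (σ c) = c := fun c => Algebra.FormallySmooth.liftOfSurjective_apply _ g hg hg' c
  let δ₀ : A → m.cotangentIdeal := fun a => ⟨Ideal.Quotient.mk (m ^ 2) a - σ (residue A a), by
    obtain ⟨b, hb⟩ := Ideal.Quotient.mk_surjective (Ideal.Quotient.mk (m ^ 2) a - σ (residue A a))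
    rw [← hb]
    refine Submodule.mem_map_of_mem ?_
    rw [← residue_eq_zero_iff]
    show g (Ideal.Quotient.mk (m ^ 2) b) = 0
    rw [hb, map_sub, hσ]
    exact sub_self _⟩
  have hzero : ∀ u v : m.cotangentIdeal, (u : Q) * v = 0 := fun u v => by
    have := Ideal.mul_mem_mul u.2 v.2
    rwa [← pow_two, Ideal.cotangentIdeal_square, Submodule.mem_bot] at this
  let δadd : A →+ m.cotangentIdeal := AddMonoidHom.mk' δ₀ fun a b => Subtype.ext (by
    show Ideal.Quotient.mk _ (a + b) - σ (residue A (a + b)) =
      (Ideal.Quotient.mk _ a - σ (residue A a)) + (Ideal.Quotient.mk _ b - σ (residue A b))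
    simp only [map_add]; ring)
  let δ : Derivation ℤ A m.cotangentIdeal := Derivation.mk' δadd.toIntLinearMap fun a b => Subtype.ext (by
    show Ideal.Quotient.mk _ (a * b) - σ (residue A (a * b)) =
      a • (Ideal.Quotient.mk _ b - σ (residue A b)) + b • (Ideal.Quotient.mk _ a - σ (residue A a))
    rw [Algebra.smul_def, Algebra.smul_def, Ideal.Quotient.algebraMap_eq, map_mul, map_mul, map_mul σ]
    linear_combination -(hzero (δ₀ a) (δ₀ b)))
  let L : KaehlerDifferential ℤ A →ₗ[A] CotangentSpace A :=
    m.cotangentEquivIdeal.symm.toLinearMap ∘ₗ δ.liftKaehlerDifferential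
  have hL : ∀ i, L (KaehlerDifferential.D ℤ A (x i)) = m.toCotangent ⟨x i, hx.le (Ideal.subset_span ⟨i, rfl⟩)⟩ := by
    intro i
    have hxi : x i ∈ m := hx.le (Ideal.subset_span ⟨i, rfl⟩)
    show m.cotangentEquivIdeal.symm (δ.liftKaehlerDifferential _) = _
    rw [Derivation.liftKaehlerDifferential_comp_D, ← Ideal.cotangentEquivIdeal_symm_apply m (x i) hxi]
    congr 1
    refine Subtype.ext ?_
    show Ideal.Quotient.mk _ (x i) - σ (residue A (x i)) = _
    rw [(residue_eq_zero_iff _).2 hxi, map_zero, sub_zero]
    rfl
  let y : Fin N → CotangentSpace A := fun i => m.toCotangent ⟨x i, hx.le (Ideal.subset_span ⟨i, rfl⟩)⟩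
  have hy : LinearIndependent k y := by
    refine linearIndependent_of_top_le_span_of_card_eq_finrank (fun z _ => ?_) ?_
    · obtain ⟨⟨a, ha⟩, rfl⟩ := Ideal.toCotangent_surjective m z
      obtain ⟨c, hc⟩ := (Submodule.mem_span_range_iff_exists_fun A).1 (hx.ge ha)
      have : (⟨a, ha⟩ : m) = ∑ i, c i • ⟨x i, hx.le (Ideal.subset_span ⟨i, rfl⟩)⟩ := Subtype.ext (by
        rw [AddSubmonoidClass.coe_finsetSum]; exact hc.symm)
      rw [this, map_sum]
      refine sum_mem fun i _ => ?_
      rw [map_smul, ← algebraMap_smul k (c i)]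
      exact Submodule.smul_mem _ _ (Submodule.subset_span ⟨i, rfl⟩)
    · rw [Fintype.card_fin]
      have h := (IsRegularLocalRing.iff_finrank_cotangentSpace (R := A)).1 inferInstance
      rw [hN] at h
      exact_mod_cast h.symm
  let u : Fin N → TensorProduct A k (KaehlerDifferential ℤ A) := fun i => 1 ⊗ₜ KaehlerDifferential.D ℤ A (x i)
  have hu : LinearIndependent k u := by
    refine LinearIndependent.of_comp (LinearMap.liftBaseChange k L) ?_
    convert hy using 1
    funext i
    simp [u, y, hL]
  let b := hu.linearIndepOn_id.extend (Set.subset_univ (Set.range u))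
  let bk : Module.Basis b k (TensorProduct A k (KaehlerDifferential ℤ A)) := Module.Basis.extend hu.linearIndepOn_id
  let e : Fin N ↪ b := ⟨fun i => ⟨u i, hu.linearIndepOn_id.subset_extend _ ⟨i, rfl⟩⟩,
    fun i j h => hu.injective (congrArg Subtype.val h)⟩
  have hsurj : Function.Surjective (TensorProduct.mk A k (KaehlerDifferential ℤ A) 1) :=
    TensorProduct.mk_surjective A _ k Ideal.Quotient.mk_surjective
  choose pre hpre using hsurj
  let v : b → KaehlerDifferential ℤ A :=
    Function.extend e (fun i => KaehlerDifferential.D ℤ A (x i)) (fun z => pre z.1)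
  have hcomp : TensorProduct.mk A k (KaehlerDifferential ℤ A) 1 ∘ v = bk := by
    funext z
    rw [Module.Basis.extend_apply_self]
    by_cases hz : ∃ i, e i = z
    · obtain ⟨i, rfl⟩ := hz
      show TensorProduct.mk A k _ 1 (v (e i)) = _
      rw [show v (e i) = _ from e.injective.extend_apply _ _ i]
      rfl
    · show TensorProduct.mk A k _ 1 (v z) = _
      rw [show v z = pre z.1 from Function.extend_apply' _ _ _ hz, hpre]
  have : Module.FinitePresentation A (KaehlerDifferential ℤ A) := Module.finitePresentation_of_projective A _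
  obtain ⟨B, hB⟩ := Module.exists_basis_of_basis_baseChange v (by rw [hcomp]; exact bk.linearIndependent)
    (by rw [hcomp]; exact bk.span_eq)
    (Module.Flat.rTensor_preserves_injective_linearMap _ Subtype.val_injective)
  exact ⟨b, B, e, fun i => (hB _).trans (e.injective.extend_apply _ _ i)⟩

end Groth.Agent.S19270
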