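import Groth.Statements.S19272
import Groth.Agent.WittFilH.Fil

set_option autoImplicit false
universe u
open WittFil

namespace Groth.Agent.S19272

/-- Let A be a unique factorisation domain of characteristic p, x_1, …, x_r pairwise non-associate prime
elements of A, B = A[1/(x_1⋯x_r)] with u_i the unit of B defined by x_i, m ≥ 0, and n ∈ ℤ^r with n_i
< 0 for every i. Then every truncated p-typical Witt vector of length m over B lying in the filtered
piece cut out by ∏ u_i ^ n_i (every coordinate y_j has y_j ^ (p ^ (m−1−j)) · ∏ u_i ^ n_i in the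
image of A) has all its coordinates in the image of the ideal (x_1⋯x_r)·A. (The published item,
stated for the filtered de Rham–Witt pieces in all degrees over a regular local ring, says only that
such vectors have all coordinates in A; this row states the divisibility of every coordinate by
x_1⋯x_r that its proof establishes, in degree zero, for a unique factorisation domain in place of a
regular local ring.) -/
theorem result (p : ℕ) [Fact p.Prime] {A B : Type u} [CommRing A] [IsDomain A]
    [UniqueFactorizationMonoid A] [CharP A p] [CommRing B] [Algebra A B] {r : ℕ} (x : Fin r → A)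
    (hx : ∀ i, Prime (x i)) (hxa : ∀ i j, Associated (x i) (x j) → i = j)
    [IsLocalization.Away (∏ i, x i) B] (u : Fin r → Bˣ)
    (hu : ∀ i, (u i : B) = algebraMap A B (x i)) (m : ℕ) (n : Fin r → ℤ) (hn : ∀ i, n i < 0)
    (a : TruncatedWittVector p m B) (ha : a ∈ WittFil.fil p m (A := A) (WittFil.zmon u n))
    (j : Fin m) :
    ∃ b : A, TruncatedWittVector.coeff j a = algebraMap A B ((∏ i, x i) * b) := by
  haveI : CharP B p := charP_of_injective_algebraMap (Groth.WittFilH.algebraMap_injective' (B := B) hx) p
  have hfin : ∀ i (a : A), a ≠ 0 → FiniteMultiplicity (x i) a := fun i _ ha => FiniteMultiplicity.of_prime_left (hx i) ha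
  have hr : Groth.WittFilH.RootClosed p A B := Groth.WittFilH.rootClosed hx hxa hfin
  obtain ⟨X, rfl⟩ := WittVector.truncate_surjective p m B a
  rw [Groth.WittFilH.mem_fil_truncate] at ha
  rw [WittVector.coeff_truncate]
  obtain ⟨c, hc⟩ := ha j j.2
  set N := p ^ (m - 1 - (j : ℕ)) with hN
  have hNpos : 0 < N := pow_pos (Fact.out : p.Prime).pos _
  let t : Fin r → ℕ := fun i => (- n i).toNat
  have hcancel : (X.coeff j) ^ N = algebraMap A B (c * ∏ i, x i ^ t i) := by
    rw [map_mul, hc, ← Groth.WittFilH.zmon_nat u hu, mul_assoc, ← Groth.WittFilH.zmon_add]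
    have h0 : n + (fun i => (t i : ℤ)) = fun _ => 0 := funext fun i => by
      simp only [Pi.add_apply, t]; have := hn i; omega
    rw [h0]; simp [WittFil.zmon]
  obtain ⟨b0, hb0⟩ := Groth.WittFilH.mem_range_of_pow_mul (B := B) hx hxa hfin (N := N) (t := 0)
    (fun _ => hNpos) (y := X.coeff j) ⟨_, by rw [← hcancel]; simp⟩
  have hb : b0 ^ N = c * ∏ i, x i ^ t i := Groth.WittFilH.algebraMap_injective' (B := B) hx (by rw [map_pow, hb0, hcancel])
  have hd : ∀ i, x i ^ 1 ∣ b0 := fun i => by
    rw [pow_one]
    refine (hx i).dvd_of_dvd_pow (n := N) (hb ▸ Dvd.dvd.mul_left ?_ _)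
    exact (dvd_pow_self _ (by simp only [t]; have := hn i; omega)).trans (Finset.dvd_prod_of_mem (fun l => x l ^ t l) (Finset.mem_univ i))
  obtain ⟨b, hb'⟩ := Groth.WittFilH.prod_pow_dvd hx hxa 1 hd Finset.univ
  exact ⟨b, by rw [← hb0, hb']; simp⟩

end Groth.Agent.S19272
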