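import Groth.Statements.S19273
import Mathlib

set_option autoImplicit false
universe u
open CAlg

namespace Groth.Agent.S19273

open KaehlerDifferential in
/-- Let A be an integral domain of prime characteristic p, x_1, …, x_N elements of A, r ≤ N, B =
A[1/(x_1⋯x_r)] with u_i the unit of B defined by x_i for i ≤ r, and suppose that the module Ω_A of
absolute Kähler differentials of A is free with a basis b indexed by {1, …, N} ⊔ ι whose i-th vector
is d(x_i) for i ≤ N. Then the module of logarithmic 1-forms — the A-submodule of Ω_B spanned by the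
image of Ω_A and the forms u_i⁻¹ · d(x_i), i ≤ r — is a free A-module: it has a basis indexed by {1,
…, N} ⊔ ι whose vector at i ≤ r is u_i⁻¹ · d(x_i), at r < i ≤ N is d(x_i), and at k ∈ ι is the image
of b_k. (In the published statement A is a regular local F-finite algebra over the prime field with
maximal ideal (x_1, …, x_N), the basis of Ω_A comes from the preceding lemma, and the assertion
covers the logarithmic q-forms for all q together with their identification with the log de Rham
complex of the log ring; only the degree-one freeness is stated here, from the properties of A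
actually used.) -/
theorem result (p : ℕ) [Fact p.Prime]
    {A B : Type u} [CommRing A] [IsDomain A] [CharP A p] [CommRing B] [Algebra A B] {r N : ℕ}
    (hr : r ≤ N) (x : Fin N → A) [IsLocalization.Away (∏ i : Fin r, x (Fin.castLE hr i)) B]
    (u : Fin r → Bˣ) (hu : ∀ i, (u i : B) = algebraMap A B (x (Fin.castLE hr i)))
    {ι : Type u} (b : Module.Basis (Fin N ⊕ ι) A (Ω[A⁄ℤ])) (hb : ∀ i, b (Sum.inl i) = D ℤ A (x i)) :
    ∃ e : Module.Basis (Fin N ⊕ ι) A
        (W4c6katofilta.logForms1 (fun i : Fin r => x (Fin.castLE hr i)) u),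
      (∀ i : Fin r, (e (Sum.inl (Fin.castLE hr i)) : Ω[B⁄ℤ]) =
          ((u i)⁻¹ : Bˣ) • KaehlerDifferential.map ℤ ℤ A B (D ℤ A (x (Fin.castLE hr i)))) ∧
      (∀ i : Fin N, r ≤ (i : ℕ) →
          (e (Sum.inl i) : Ω[B⁄ℤ]) = KaehlerDifferential.map ℤ ℤ A B (D ℤ A (x i))) ∧
      (∀ k : ι, (e (Sum.inr k) : Ω[B⁄ℤ]) = KaehlerDifferential.map ℤ ℤ A B (b (Sum.inr k))) := by
  classical
  let xr : Fin r → A := fun i => x (Fin.castLE hr i)
  let M : Submonoid A := Submonoid.powers (∏ i : Fin r, xr i)
  have : IsLocalization M B := ‹IsLocalization.Away (∏ i : Fin r, x (Fin.castLE hr i)) B›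
  let mp := KaehlerDifferential.map ℤ ℤ A B
  let c : Module.Basis (Fin N ⊕ ι) B (Ω[B⁄ℤ]) := b.ofIsLocalizedModule B M mp
  have hc : ∀ j, c j = mp (b j) := fun j => b.ofIsLocalizedModule_apply B M mp j
  let w : Fin N ⊕ ι → Bˣ := Sum.elim (fun i => if h : (i : ℕ) < r then (u ⟨i, h⟩)⁻¹ else 1) (fun _ => 1)
  have hne : ∀ i, x i ≠ 0 := fun i h => b.ne_zero (Sum.inl i) (by rw [hb, h, map_zero])
  have hinj : Function.Injective (algebraMap A B) := IsLocalization.injective B (M := M)
    (powers_le_nonZeroDivisors_of_noZeroDivisors (Finset.prod_ne_zero_iff.2 fun i _ => hne _))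
  let v : Fin N ⊕ ι → Ω[B⁄ℤ] := fun j => w j • c j
  have hv : LinearIndependent A v :=
    (c.linearIndependent.units_smul w).restrict_scalars (by simpa [Algebra.smul_def] using hinj)
  have hv1 : ∀ i : Fin r, v (Sum.inl (Fin.castLE hr i)) = ((u i)⁻¹ : Bˣ) • mp (D ℤ A (xr i)) := fun i => by
    simp only [v, hc, hb, w, Sum.elim_inl, Fin.val_castLE, Fin.is_lt, dite_true, Fin.eta, xr]
  have hspan : Submodule.span A (Set.range v) = W4c6katofilta.logForms1 xr u := by
    rw [W4c6katofilta.logForms1]
    refine le_antisymm (Submodule.span_le.2 ?_) (Submodule.span_le.2 (Set.union_subset ?_ ?_))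
    · rintro _ ⟨j, rfl⟩
      rcases j with i | k
      · by_cases h : (i : ℕ) < r
        · refine Submodule.subset_span (Or.inr ⟨⟨i, h⟩, ?_⟩)
          exact (hv1 ⟨i, h⟩).symm
        · refine Submodule.subset_span (Or.inl ⟨b (Sum.inl i), ?_⟩)
          simp [v, w, h, hc, mp]
      · refine Submodule.subset_span (Or.inl ⟨b (Sum.inr k), ?_⟩)
        simp [v, w, hc, mp]
    · rintro _ ⟨ω, rfl⟩
      have hω : ω ∈ Submodule.span A (Set.range b) := by rw [b.span_eq]; trivial
      have := Submodule.apply_mem_span_image_of_mem_span mp hω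
      refine Submodule.span_le.2 ?_ this
      rintro _ ⟨_, ⟨j, rfl⟩, rfl⟩
      rcases j with i | k
      · by_cases h : (i : ℕ) < r
        · have hx : x i • v (Sum.inl i) = mp (b (Sum.inl i)) := by
            show x i • (w (Sum.inl i) • c (Sum.inl i)) = _
            rw [hc, ← algebraMap_smul B (x i), Units.smul_def, smul_smul]
            simp only [w, Sum.elim_inl, dif_pos h]
            rw [show algebraMap A B (x i) = (u ⟨i, h⟩ : B) from (hu ⟨i, h⟩).symm, Units.mul_inv, one_smul]
          rw [← hx]
          exact Submodule.smul_mem _ _ (Submodule.subset_span ⟨_, rfl⟩)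
        · exact Submodule.subset_span ⟨Sum.inl i, by simp [v, w, h, hc, mp]⟩
      · exact Submodule.subset_span ⟨Sum.inr k, by simp [v, w, hc, mp]⟩
    · rintro _ ⟨i, rfl⟩
      exact Submodule.subset_span ⟨_, hv1 i⟩
  refine ⟨(Module.Basis.span hv).map (LinearEquiv.ofEq _ _ hspan), fun i => ?_, fun i hi => ?_, fun k => ?_⟩
  · simpa [Module.Basis.span_apply, mp, xr] using hv1 i
  · simp [Module.Basis.span_apply, v, w, hc, hb, mp, Nat.not_lt.2 hi]
  · simp [Module.Basis.span_apply, v, w, hc, mp]

end Groth.Agent.S19273
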