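import Groth.Statements.S19274
import Groth.Agent.WittFilH.Fil

set_option autoImplicit false
universe u
open WittFil

namespace Groth.Agent.S19274

/-- Let A be a unique factorisation domain of characteristic p, x a prime element of A, B = A[1/x] with
u the unit of B defined by x, m ≥ 1, and n an integer NOT divisible by p^m. For e in B and k ≥ 0
write fil_k(e) for the set of truncated p-typical Witt vectors of length k over B whose j-th
coordinate y_j satisfies y_j ^ (p ^ (k−1−j)) · e ∈ A for all j < k (the filtered piece; fil_k(u^n)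
is the piece of index n). Then fil_{m+1}(u^n) is contained in fil_{m+1}(u^(n−1)) + V(fil_m(u^n))
(the reverse inclusion is immediate): every a in fil_{m+1}(u^n) can be written a = b + V(y) with b
in fil_{m+1}(u^(n−1)) and y a Witt vector over B whose length-m truncation lies in fil_m(u^n), V(y)
being truncated to length m+1. (In the source A is a henselian discrete valuation ring, n = p^r·l >
1 with p not dividing l, and the condition reads m ≥ r + 1.) -/
theorem result (p : ℕ) [Fact p.Prime]
    {A B : Type u} [CommRing A] [IsDomain A] [UniqueFactorizationMonoid A] [CharP A p]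
    [CommRing B] [Algebra A B] (x : A) (hx : Prime x) [IsLocalization.Away x B] (u : Bˣ)
    (hu : (u : B) = algebraMap A B x) (m : ℕ) (hm : 0 < m) (n : ℤ) (hn : ¬ ((p : ℤ) ^ m ∣ n)) :
    ∀ a ∈ WittFil.fil p (m + 1) (A := A) ((u ^ n : Bˣ) : B),
      ∃ b ∈ WittFil.fil p (m + 1) (A := A) ((u ^ (n - 1) : Bˣ) : B),
        ∃ y : WittVector p B,
          WittVector.truncate m y ∈ WittFil.fil p m (A := A) ((u ^ n : Bˣ) : B) ∧
            a = b + WittVector.truncate (m + 1) (WittVector.verschiebung y) := by
  haveI : IsLocalization.Away (∏ i : Fin 1, (fun _ => x) i) B := by simpa using ‹IsLocalization.Away x B›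
  have hx' : ∀ _i : Fin 1, Prime x := fun _ => hx
  haveI : CharP B p := charP_of_injective_algebraMap
    (Groth.WittFilH.algebraMap_injective' (B := B) (x := fun _ : Fin 1 => x) hx') p
  have hp : 0 < p := (Fact.out : p.Prime).pos
  intro a ha
  obtain ⟨X, rfl⟩ := WittVector.truncate_surjective p (m + 1) B a
  rw [Groth.WittFilH.mem_fil_truncate] at ha
  refine ⟨WittVector.truncate (m + 1) (WittVector.init 1 X), ?_, WittVector.mk p fun j => X.coeff (j + 1), ?_, ?_⟩
  · rw [Groth.WittFilH.mem_fil_truncate]
    intro j hj
    rcases j with - | j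
    · have h0 := ha 0 (by omega)
      have hc0 : (WittVector.init 1 X).coeff 0 = X.coeff 0 := by simp [WittVector.init, WittVector.tail, WittVector.select, WittVector.coeff_mk]
      rw [hc0]
      simp only [show m + 1 - 1 - 0 = m by omega] at h0 ⊢
      have hz1 : ∀ e : ℤ, WittFil.zmon (fun _ : Fin 1 => u) (fun _ => e) = ((u ^ e : Bˣ) : B) := fun e => by
        simp [WittFil.zmon]
      rw [← hz1] at h0 ⊢
      have hN : 0 < p ^ m := pow_pos hp _
      obtain ⟨z, hz⟩ := Groth.WittFilH.mem_range_floor (x := fun _ : Fin 1 => x) (u := fun _ => u) hx'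
        (fun i j _ => Subsingleton.elim i j) (fun _ _ ha => FiniteMultiplicity.of_prime_left hx ha) (fun _ => hu) hN h0
      have hq : (n - 1) / ((p ^ m : ℕ) : ℤ) = n / ((p ^ m : ℕ) : ℤ) := by
        have hd := Int.mul_ediv_add_emod n ((p ^ m : ℕ) : ℤ)
        have h1 := Int.emod_nonneg n (show ((p ^ m : ℕ) : ℤ) ≠ 0 by omega)
        have h2 : n % ((p ^ m : ℕ) : ℤ) ≠ 0 := fun h => hn (by
          have := Int.dvd_of_emod_eq_zero h; push_cast at this; exact this)
        have h3 := Int.emod_lt_of_pos n (show (0 : ℤ) < ((p ^ m : ℕ) : ℤ) by omega)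
        exact (Int.ediv_eq_iff_of_pos (by omega)).2 ⟨by linarith [show (1 : ℤ) ≤ n % ((p ^ m : ℕ) : ℤ) by omega], by linarith⟩
      rw [Groth.WittFilH.pow_mul_zmon (x := fun _ : Fin 1 => x) (fun _ => hu) hN, hq, ← hz, ← map_pow, ← map_mul]
      exact ⟨_, rfl⟩
    · rw [show (WittVector.init 1 X).coeff (j + 1) = 0 by simp [WittVector.init, WittVector.tail, WittVector.select, WittVector.coeff_mk],
        zero_pow (pow_pos hp _).ne', zero_mul]
      exact zero_mem _
  · rw [Groth.WittFilH.mem_fil_truncate]
    intro j hj
    rw [WittVector.coeff_mk, show m - 1 - j = m + 1 - 1 - (j + 1) by omega]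
    exact ha (j + 1) (by omega)
  · rw [← map_add]
    congr 1
    conv_lhs => rw [← WittVector.init_add_tail X 1]
    congr 1
    ext j
    rcases j with - | j
    · simp [WittVector.init, WittVector.tail, WittVector.select, WittVector.coeff_mk, WittVector.verschiebung_coeff_zero]
    · simp [WittVector.init, WittVector.tail, WittVector.select, WittVector.coeff_mk, WittVector.verschiebung_coeff_succ]

end Groth.Agent.S19274
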