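import Groth.Statements.S19275
import Groth.Agent.Hoch71.Flat

set_option autoImplicit false
universe u v w
open Hoch

namespace Groth.Agent.S19275

open TensorProduct

section
variable {K : Type u} [CommRing K] {R : Type w} [CommRing R] [Algebra K R]

theorem step_bijective {C : Type v} [AddCommGroup C] [Module K C] {A : Type v} [AddCommGroup A] [Module K A]
    {C' : Type*} [AddCommGroup C'] [Module R C'] (f : R ⊗[K] C →ₗ[R] C') (hf : Function.Bijective f)
    (g : R ⊗[K] (C ⊗[K] A) →ₗ[R] C' ⊗[R] (R ⊗[K] A))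
    (hg : ∀ (r : R) (c : C) (a : A), g (r ⊗ₜ (c ⊗ₜ a)) = f (r ⊗ₜ c) ⊗ₜ ((1 : R) ⊗ₜ a)) :
    Function.Bijective g := by
  let E := TensorProduct.AlgebraTensorModule.distribBaseChange K R C A ≪≫ₗ
    TensorProduct.congr (LinearEquiv.ofBijective f hf) (LinearEquiv.refl R (R ⊗[K] A))
  have : g = E.toLinearMap := by
    refine LinearMap.ext fun z => ?_
    induction z using TensorProduct.induction_on with
    | zero => simp
    | add x y hx hy => simp only [map_add, hx, hy]
    | tmul r x =>
      induction x using TensorProduct.induction_on with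
      | zero => simp
      | tmul c a => rw [hg]; simp [E]
      | add x y hx hy => simp only [tmul_add, map_add, hx, hy]
  rw [this]
  exact E.bijective

theorem comul_one_tmul {A : Type v} [CommRing A] [Bialgebra K A] (a : A)
    (e : A ⊗[K] A →ₗ[K] (R ⊗[K] A) ⊗[R] (R ⊗[K] A)) (he : ∀ x y, e (x ⊗ₜ y) = ((1 : R) ⊗ₜ x) ⊗ₜ ((1 : R) ⊗ₜ y)) :
    Coalgebra.comul (R := R) ((1 : R) ⊗ₜ[K] a) = e (Coalgebra.comul (R := K) a) := by
  rw [TensorProduct.comul_tmul]
  generalize Coalgebra.comul (R := K) a = w
  induction w using TensorProduct.induction_on with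
  | zero => simp
  | tmul x y => rw [he]; rfl
  | add x y hx hy => simp only [map_add, tmul_add, hx, hy]

/-- The map `A ⊗ A → (R ⊗ A) ⊗ (R ⊗ A)`. -/
noncomputable def pairMap (A : Type v) [AddCommGroup A] [Module K A] :
    A ⊗[K] A →ₗ[K] (R ⊗[K] A) ⊗[R] (R ⊗[K] A) :=
  TensorProduct.lift ((((TensorProduct.mk R (R ⊗[K] A) (R ⊗[K] A)).restrictScalars₁₂ K K).comp
    (TensorProduct.mk K R A 1)).compl₂ (TensorProduct.mk K R A 1))

theorem pairMap_tmul {A : Type v} [AddCommGroup A] [Module K A] (x y : A) :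
    pairMap (K := K) (R := R) A (x ⊗ₜ y) = ((1 : R) ⊗ₜ x) ⊗ₜ ((1 : R) ⊗ₜ y) := rfl

end

open TensorProduct in
/-- In the case of an affine group scheme over a field (a K-groupoid acting on Spec K itself),
cohomology commutes with arbitrary base change. Precisely: let K be a field, A a commutative Hopf
algebra over K (the coordinate ring of an affine K-group scheme G), V a right A-comodule (a linear
representation of G) and R any commutative K-algebra. Give R ⊗ V the base-changed comodule structure
over the R-bialgebra R ⊗ A, whose coaction sends r ⊗ v to the image of r ⊗ ρ(v) under the canonical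
identification of R ⊗ (V ⊗ A) with (R ⊗ V) ⊗_R (R ⊗ A), and let φ_n : R ⊗ C^n(A, V) → C^n(R ⊗ A, R ⊗
V) be the canonical R-linear maps between the Hochschild cochain modules, determined by φ_0 = id and
φ_{n+1}(r ⊗ (c ⊗ a)) = φ_n(r ⊗ c) ⊗ (1 ⊗ a). Then every φ_n is bijective, the φ_n commute with the
Hochschild differentials, and for every n there is an R-linear isomorphism R ⊗ H^n(A, V) ≅ H^n(R ⊗
A, R ⊗ V) sending r ⊗ [z] to [φ_n(r ⊗ z)] for every n-cocycle z. (The published statement is for an
affine K-groupoid acting on the spectrum of a finite extension L of K and its coherent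
representations, with K of characteristic 0; this is its case L = K, in which the cochain complex of
a representation is the Hochschild complex of the comodule; V is not assumed finite-dimensional and
K may be any field.) -/
theorem result
    (K : Type u) [Field K] (A : Type v) [CommRing A] [HopfAlgebra K A]
    (V : Type v) [AddCommGroup V] [Module K V] [HopfRep.Comod K A V]
    (R : Type w) [CommRing R] [Algebra K R]
    (φ : ∀ n : ℕ, R ⊗[K] (Hoch.cochain K A V n) →ₗ[R] (Hoch.cochain R (R ⊗[K] A) (R ⊗[K] V) n))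
    (hφ0 : ∀ x : R ⊗[K] V, φ 0 x = x)
    (hφs : ∀ (n : ℕ) (r : R) (c : Hoch.cochain K A V n) (a : A),
      φ (n + 1) (r ⊗ₜ[K] (c ⊗ₜ[K] a)) = (φ n (r ⊗ₜ[K] c)) ⊗ₜ[R] ((1 : R) ⊗ₜ[K] a)) :
    letI := CoactBr.Comod.baseChange K R A V
    (∀ n : ℕ, Function.Bijective (φ n)) ∧
    (∀ (n : ℕ) (x : R ⊗[K] (Hoch.cochain K A V n)),
        φ (n + 1) ((Hoch.d K A V n).baseChange R x) = Hoch.d R (R ⊗[K] A) (R ⊗[K] V) n (φ n x)) ∧
      ∀ n : ℕ, ∃ e : R ⊗[K] Hoch.H K A V n ≃ₗ[R] Hoch.H R (R ⊗[K] A) (R ⊗[K] V) n,
        ∀ (r : R) (z : Hoch.cocycles K A V n)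
          (hz : φ n (r ⊗ₜ[K] (z : Hoch.cochain K A V n)) ∈ Hoch.cocycles R (R ⊗[K] A) (R ⊗[K] V) n),
          e (r ⊗ₜ[K] Hoch.H.mk K A V n z) = Hoch.H.mk R (R ⊗[K] A) (R ⊗[K] V) n ⟨φ n (r ⊗ₜ[K] (z : Hoch.cochain K A V n)), hz⟩ := by
  letI := CoactBr.Comod.baseChange K R A V
  have hbij : ∀ n, Function.Bijective (φ n) := by
    intro n
    induction n with
    | zero =>
      have : (φ 0 : R ⊗[K] V → R ⊗[K] V) = id := funext hφ0
      exact this ▸ Function.bijective_id
    | succ n ih => exact step_bijective (φ n) ih (φ (n + 1)) (hφs n)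
  have hcomm : ∀ (n : ℕ) (x : R ⊗[K] (Hoch.cochain K A V n)),
      φ (n + 1) ((Hoch.d K A V n).baseChange R x) = Hoch.d R (R ⊗[K] A) (R ⊗[K] V) n (φ n x) := by
    intro n
    induction n with
    | zero =>
      intro x
      induction x using TensorProduct.induction_on with
      | zero => simp
      | add x y hx hy => simp only [map_add, hx, hy]
      | tmul r v =>
        rw [hφ0, LinearMap.baseChange_tmul, Hoch.d_zero_apply, Hoch.d_zero_apply, tmul_sub, map_sub, hφs]
        congr 1
        · rw [CoactBr.baseChange_coact_tmul]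
          generalize HopfRep.Comod.coact (k := K) (A := A) v = w
          induction w using TensorProduct.induction_on with
          | zero => simp
          | tmul x y =>
            rw [hφs, hφ0, AlgebraTensorModule.tensorTensorTensorComm_tmul]
            rw [show r ⊗ₜ[K] x = r • ((1 : R) ⊗ₜ[K] x) by rw [smul_tmul', smul_eq_mul, mul_one], smul_tmul,
              smul_tmul', smul_eq_mul, mul_one]
          | add x y hx hy => simp only [tmul_add, map_add, hx, hy]
        · rw [hφ0]; rfl
    | succ n ih =>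
      intro x
      induction x using TensorProduct.induction_on with
      | zero => simp
      | add x y hx hy => simp only [map_add, hx, hy]
      | tmul r x =>
        induction x using TensorProduct.induction_on with
        | zero => simp
        | add x y hx hy => simp only [tmul_add, map_add, hx, hy]
        | tmul c a =>
          rw [hφs, LinearMap.baseChange_tmul, Hoch.d_succ, Hoch.d_succ]
          simp only [LinearMap.add_apply, LinearMap.smul_apply, LinearMap.rTensor_tmul, tmul_add, map_add,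
            tmul_smul, hφs]
          rw [show φ (n + 1) (r ⊗ₜ[K] Hoch.d K A V n c) = Hoch.d R (R ⊗[K] A) (R ⊗[K] V) n (φ n (r ⊗ₜ c)) from
            ih (r ⊗ₜ c), ← algebraMap_smul R ((-1 : K) ^ (n + 1)), map_smul, map_pow, map_neg, map_one]
          congr 2
          simp only [Hoch.tail_tmul]
          rw [comul_one_tmul a (pairMap A) pairMap_tmul]
          have hsub : (pairMap A (Coalgebra.comul (R := K) a) : (R ⊗[K] A) ⊗[R] (R ⊗[K] A)) -
              ((1 : R) ⊗ₜ[K] a) ⊗ₜ[R] (1 : R ⊗[K] A) - (1 : R ⊗[K] A) ⊗ₜ[R] ((1 : R) ⊗ₜ[K] a) =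
              pairMap A (Coalgebra.comul (R := K) a - a ⊗ₜ 1 - 1 ⊗ₜ a) := by
            rw [map_sub, map_sub, pairMap_tmul, pairMap_tmul]; rfl
          rw [hsub]
          generalize Coalgebra.comul (R := K) a - a ⊗ₜ 1 - 1 ⊗ₜ a = w
          induction w using TensorProduct.induction_on with
          | zero => simp
          | tmul x y =>
            rw [pairMap_tmul, assoc_symm_tmul, assoc_symm_tmul, hφs, hφs]
          | add x y hx hy => simp only [tmul_add, map_add, hx, hy]
  refine ⟨hbij, hcomm, fun n => ?_⟩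
  refine Groth.Hoch71.exists_subquotient_equiv (LinearEquiv.ofBijective (φ n) (hbij n))
    (Hoch.cocycles K A V n) (Hoch.coboundaries K A V n)
    (Hoch.cocycles R (R ⊗[K] A) (R ⊗[K] V) n) (Hoch.coboundaries R (R ⊗[K] A) (R ⊗[K] V) n) (fun y => ?_) (fun y => ?_)
  · obtain ⟨x, rfl⟩ := (hbij n).2 y
    refine ⟨fun h => ?_, fun ⟨t, ht⟩ => ?_⟩
    · have h0 : (Hoch.d K A V n).lTensor R x = 0 := (hbij (n + 1)).1 ((hcomm n x).trans ((LinearMap.mem_ker.1 h).trans (map_zero _).symm))
      obtain ⟨t, ht⟩ := (Module.Flat.lTensor_exact R (LinearMap.exact_subtype_ker_map (Hoch.d K A V n)) x).1 h0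
      exact ⟨t, congrArg (φ n) ht⟩
    · rw [← (hbij n).1 ht]
      refine LinearMap.mem_ker.2 ((hcomm n _).symm.trans ?_)
      have : (Hoch.d K A V n).lTensor R ((Hoch.cocycles K A V n).subtype.lTensor R t) = 0 :=
        (Module.Flat.lTensor_exact R (LinearMap.exact_subtype_ker_map (Hoch.d K A V n)) _).2 ⟨t, rfl⟩
      exact (congrArg (φ (n + 1)) this).trans (map_zero _)
  · cases n with
    | zero =>
      refine ⟨fun h => ⟨0, by rw [(Submodule.mem_bot R).1 h, map_zero, map_zero]⟩, fun ⟨t, ht⟩ => ?_⟩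
      refine (Submodule.mem_bot R).2 (ht ▸ ?_)
      have : (Hoch.coboundaries K A V 0).subtype = 0 := LinearMap.ext fun z => (Submodule.mem_bot K).1 z.2
      rw [this, LinearMap.lTensor_zero, LinearMap.zero_apply, map_zero]
    | succ n =>
      refine ⟨fun ⟨y', hy⟩ => ?_, fun ⟨t, ht⟩ => ?_⟩
      · obtain ⟨x, rfl⟩ := (hbij n).2 y'
        refine ⟨(Hoch.d K A V n).rangeRestrict.lTensor R x, ?_⟩
        rw [← hy, ← hcomm]
        change φ (n + 1) ((LinearMap.range (Hoch.d K A V n)).subtype.lTensor R ((Hoch.d K A V n).rangeRestrict.lTensor R x)) = _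
        rw [← LinearMap.lTensor_comp_apply]
        rfl
      · obtain ⟨x, rfl⟩ := LinearMap.lTensor_surjective R (Hoch.d K A V n).surjective_rangeRestrict t
        refine ⟨φ n x, (hcomm n x).symm.trans ?_⟩
        rw [← ht]
        change _ = φ (n + 1) ((LinearMap.range (Hoch.d K A V n)).subtype.lTensor R ((Hoch.d K A V n).rangeRestrict.lTensor R x))
        rw [← LinearMap.lTensor_comp_apply]
        rfl

end Groth.Agent.S19275
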