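import Groth.Statements.S19276
import Mathlib
import Groth.Agent.Calg3.CycGroupAlg

set_option autoImplicit false
universe u v
open GrpAlg

namespace Groth.Agent.S19276

open W4c6equivkfinstab Groth.Calg3.CycGroupAlg


/-- Let `A` be a finite commutative group and `Λ` a commutative ring in which the order of `A` is
invertible. Then the ring homomorphism from the group ring `Λ[A]` to the product, over the subgroups
`B` of `A` with cyclic quotient, of the cyclotomic quotients `Λ[A ⧸ B]/(Φ_{|A/B|})`, each component
induced by `A → A/B`, is bijective. (In terms of group schemes: `Λ[A]` is the representation ring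
with coefficients in `Λ` of the finite diagonalizable group with character group `A`, the factors
are indexed by its dual cyclic subgroups, i.e. those isomorphic to some `μ_n`, and the components
are restriction followed by the cyclotomic quotient. The published statement takes `Λ = ℤ[1/|A|]`;
here `Λ` is any commutative ring in which `|A|` is invertible.) -/
theorem result (Λ : Type u) [CommRing Λ] (A : Type v)
    [AddCommGroup A] [Finite A] (hA : IsUnit ((Nat.card A : ℕ) : Λ)) :
    Function.Bijective (RingHom.pi fun B : {B : AddSubgroup A // IsAddCyclic (A ⧸ B)} =>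
      W4c6equivkfinstab.cycQuotMap Λ A B.1) := by
  have : (⊥ : AddSubgroup A).FiniteIndex := ⟨by rw [AddSubgroup.index_bot]; exact Nat.card_pos.ne'⟩
  have hu : IsUnit ((⊥ : AddSubgroup A).index : Λ) := by rwa [AddSubgroup.index_bot]
  have hker : ∀ x, x ∈ RingHom.ker (quotMap Λ A ⊥) → x = 0 := by
    intro x hx
    have hinj : Function.Injective (QuotientAddGroup.mk' (⊥ : AddSubgroup A)) := by
      rw [← AddMonoidHom.ker_eq_bot_iff, QuotientAddGroup.ker_mk']
    exact AddMonoidAlgebra.mapDomain_injective hinj (by rw [AddMonoidAlgebra.mapDomain_zero]; exact hx)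
  refine ⟨(injective_iff_map_eq_zero _).mpr fun x hx => hker x (mem_ker_quotMap_of_forall hu x fun B _ hc =>
    RingHom.mem_ker.mpr (congrFun hx ⟨B, hc⟩)), fun y => ?_⟩
  choose l hl using fun B : {B : AddSubgroup A // IsAddCyclic (A ⧸ B)} => cycQuotMap_surjective Λ B.1 (y B)
  obtain ⟨x, hx⟩ := exists_forall_cycQuotMap ⊥ hu fun B => l ⟨B.1, B.2.2⟩
  refine ⟨x, funext fun B => ?_⟩
  have h := hx ⟨B.1, bot_le, B.2⟩
  rw [RingHom.mem_ker, map_sub, sub_eq_zero] at h
  exact h.trans (hl B)
end Groth.Agent.S19276
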