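import Groth.Statements.S19277
import Mathlib
import Groth.Agent.Calg3.CycGroupAlg

set_option autoImplicit false
universe u v
open GrpAlg

namespace Groth.Agent.S19277

open W4c6equivkfinstab Groth.Calg3.CycGroupAlg


/-- Let `M` be a commutative group, `B ≠ B'` subgroups of finite index with `M ⧸ B` and `M ⧸ B'` cyclic,
and `Λ` a commutative ring in which both indices are invertible. Then the localization of the
`Λ[M]`-module `Λ[M ⧸ B]/(Φ_{|M/B|})` at the multiplicative subset of `Λ[M]` of elements with image
`1` in `Λ[M ⧸ B']/(Φ_{|M/B'|})` is zero. (In terms of group schemes: for two distinct dual cyclic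
subgroups σ, σ' of the diagonalizable group with character group `M`, the ring R̃(σ) with
coefficients in `Λ` vanishes after localization at σ'. The published statement has a split torus,
i.e. `M` free of finite rank, and `Λ = ℤ[1/N]` for `N` the order of the subgroup generated by σ and
σ'; here `M` is any commutative group and `Λ` any commutative ring in which the orders of σ and σ'
are invertible.) -/
theorem result (Λ : Type u) [CommRing Λ] (M : Type v)
    [AddCommGroup M] (B B' : AddSubgroup M) [B.FiniteIndex] [B'.FiniteIndex]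
    [IsAddCyclic (M ⧸ B)] [IsAddCyclic (M ⧸ B')] (hne : B ≠ B')
    (hu : IsUnit ((B.index * B'.index : ℕ) : Λ)) :
    Subsingleton (LocalizedModule (W4c6equivkfinstab.locSubmonoid Λ M B')
      (W4c6equivkfinstab.CycQuot Λ (M ⧸ B))) := by
  have hu' := IsUnit.mul_iff.mp (Nat.cast_mul (α := Λ) B.index B'.index ▸ hu)
  have hc := isCoprime_ker (Λ := Λ) hu'.1 hu'.2 hne
  obtain ⟨s, hs, t, ht, hst⟩ := Ideal.isCoprime_iff_exists.mp hc
  rw [LocalizedModule.subsingleton_iff]
  refine fun m => ⟨s, ?_, ?_⟩
  · show cycQuotMap Λ M B' s = 1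
    rw [← map_one (cycQuotMap Λ M B'), ← hst, map_add, RingHom.mem_ker.mp ht, add_zero]
  · obtain ⟨y, rfl⟩ := Ideal.Quotient.mk_surjective m
    show Ideal.Quotient.mk _ (quotMap Λ M B s * y) = 0
    rw [map_mul, show Ideal.Quotient.mk _ (quotMap Λ M B s) = cycQuotMap Λ M B s from rfl,
      RingHom.mem_ker.mp hs, zero_mul]

end Groth.Agent.S19277
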