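import Groth.Statements.S19279
import Mathlib
import Groth.Agent.Calg3.CycGroupAlg

set_option autoImplicit false
universe u v
open GrpAlg

namespace Groth.Agent.S19279

open W4c6equivkfinstab Groth.Calg3.CycGroupAlg


/-- Let `M` be a commutative group, `B₀` a subgroup of finite index and `Λ` a commutative ring in which
the index of `B₀` is invertible. Then the `Λ[M]`-linear map from `Λ[M ⧸ B₀]` to the product, over
the subgroups `B ⊇ B₀` with `M ⧸ B` cyclic, of the localizations of `Λ[M ⧸ B₀]` at the
multiplicative subsets of `Λ[M]` of elements with image `1` in `Λ[M ⧸ B]/(Φ_{|M/B|})`, with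
components the localization maps, is bijective. (In terms of group schemes: for a finite closed
subgroup T' = D(M/B₀) of the diagonalizable group with character group `M`, the representation ring
of T' with coefficients in `Λ` is the product of its localizations at the dual cyclic subgroups of
T'. The published statement has a split torus and `Λ = ℤ[1/|T'|]`; here `M` is any commutative group
and `Λ` any commutative ring in which the order of T' is invertible.) -/
theorem result (Λ : Type u) [CommRing Λ]
    (M : Type v) [AddCommGroup M] (B₀ : AddSubgroup M) [B₀.FiniteIndex]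
    (hu : IsUnit ((B₀.index : ℕ) : Λ)) :
    Function.Bijective (LinearMap.pi (R := AddMonoidAlgebra Λ M)
      fun B : {B : AddSubgroup M // B₀ ≤ B ∧ IsAddCyclic (M ⧸ B)} =>
        LocalizedModule.mkLinearMap (W4c6equivkfinstab.locSubmonoid Λ M B.1)
          (AddMonoidAlgebra Λ (M ⧸ B₀))) := by
  constructor
  · refine (injective_iff_map_eq_zero _).mpr fun z hz => ?_
    obtain ⟨y, rfl⟩ := quotMap_surjective Λ B₀ z
    refine RingHom.mem_ker.mp (mem_ker_quotMap_of_forall hu y fun B hB hc => ?_)
    have h := congrFun hz ⟨B, hB, hc⟩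
    simp only [LinearMap.pi_apply, LocalizedModule.mkLinearMap_apply, Pi.zero_apply] at h
    rw [← LocalizedModule.zero_mk 1, LocalizedModule.mk_eq] at h
    obtain ⟨⟨u, hu'⟩, h⟩ := h
    simp only [Submonoid.smul_def, one_smul, smul_zero] at h
    rw [Algebra.smul_def] at h
    have h' : u * y ∈ RingHom.ker (quotMap Λ M B₀) := by
      rw [RingHom.mem_ker, map_mul]; exact h
    have h'' := ker_quotMap_le_ker_cycQuotMap Λ hB h'
    rwa [RingHom.mem_ker, map_mul, show cycQuotMap Λ M B u = 1 from hu', one_mul] at h''
  · intro f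
    have key : ∀ B : {B : AddSubgroup M // B₀ ≤ B ∧ IsAddCyclic (M ⧸ B)}, ∃ l : AddMonoidAlgebra Λ M,
        ∀ x, x - l ∈ RingHom.ker (cycQuotMap Λ M B.1) →
          LocalizedModule.mkLinearMap (locSubmonoid Λ M B.1) (AddMonoidAlgebra Λ (M ⧸ B₀)) (quotMap Λ M B₀ x) = f B := by
      intro B
      haveI := B.2.2
      obtain ⟨⟨m, s⟩, hms⟩ : ∃ p : AddMonoidAlgebra Λ (M ⧸ B₀) × locSubmonoid Λ M B.1, LocalizedModule.mk p.1 p.2 = f B := by
        induction f B using LocalizedModule.induction_on with
        | h m s => exact ⟨(m, s), rfl⟩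
      obtain ⟨l, rfl⟩ := quotMap_surjective Λ B₀ m
      refine ⟨l, fun x hx => ?_⟩
      rw [LocalizedModule.mkLinearMap_apply, ← hms, LocalizedModule.mk_eq]
      obtain ⟨u, hu', huJ⟩ := exists_loc_mul_mem B.2.1 hu
      refine ⟨⟨u, hu'⟩, ?_⟩
      have hsx : (s : AddMonoidAlgebra Λ M) * x - l ∈ RingHom.ker (cycQuotMap Λ M B.1) := by
        rw [RingHom.mem_ker, map_sub, map_mul, show cycQuotMap Λ M B.1 s = 1 from s.2, one_mul, ← map_sub]
        exact RingHom.mem_ker.mp hx
      have h := huJ _ hsx
      rw [RingHom.mem_ker, map_mul, map_sub, map_mul, mul_sub, sub_eq_zero] at h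
      simp only [Submonoid.smul_def, one_smul]
      rw [Algebra.smul_def (s : AddMonoidAlgebra Λ M), Algebra.smul_def u, Algebra.smul_def u]
      exact h
    choose l hl using key
    obtain ⟨x, hx⟩ := exists_forall_cycQuotMap B₀ hu l
    exact ⟨quotMap Λ M B₀ x, funext fun B => hl B x (hx B)⟩
end Groth.Agent.S19279
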