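import Groth.Statements.S19280
import Groth.Agent.AlgGrp2.MuGL

set_option autoImplicit false
universe u
open CategoryTheory MonoidalCategory CartesianMonoidalCategory MonObj GrpObj AlgebraicGeometry
open AlgGrp

namespace Groth.Agent.S19280

/-- Let `k` be a field with an algebraic closure `K`, `m ≥ 0`, `n > 0`, and let `σ`, `τ` be closed
subgroup schemes of `GL_{m,k}`, each isomorphic as a `k`-group scheme to `μ_n = D(ℤ/n)`. If after
base change to `K` there are a `K`-point `g` of `GL_m` and an isomorphism `σ_K ≅ τ_K` through which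
conjugation by `g` carries the inclusion of `σ_K` to that of `τ_K`, then there are already a
`k`-rational point of `GL_{m,k}` and an isomorphism `σ ≅ τ` with the same property. (This is the
first of the two rationality conditions, stated for all dual cyclic subgroups rather than only for
those with a fixed point on a given algebraic space, which is what the printed argument establishes
and which gives the printed statement for every action of `GL_m`.) -/
theorem result (k : Type u) [Field k]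
    (K : Type u) [Field K] [Algebra k K] [IsAlgClosure k K] (m n : ℕ) (hn : 0 < n)
    (σ τ : Over (Spec (CommRingCat.of k))) [GrpObj σ] [GrpObj τ]
    (i : σ ⟶ CoactBr.sp k (CoordGrp.GLn m k)) (j : τ ⟶ CoactBr.sp k (CoordGrp.GLn m k))
    [IsMonHom i] [IsMonHom j] (hi : IsClosedImmersion i.left) (hj : IsClosedImmersion j.left)
    (hσ : Red.IsSplitTorusWith (ZMod n) σ) (hτ : Red.IsSplitTorusWith (ZMod n) τ)
    (h : ∃ (g : 𝟙_ (Over (Spec (CommRingCat.of K))) ⟶
        Red.bc (Spec.map (CommRingCat.ofHom (algebraMap k K))) (CoactBr.sp k (CoordGrp.GLn m k)))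
      (φ : Red.bc (Spec.map (CommRingCat.ofHom (algebraMap k K))) σ ≅
        Red.bc (Spec.map (CommRingCat.ofHom (algebraMap k K))) τ),
      AGF.conjBy g ((Over.pullback (Spec.map (CommRingCat.ofHom (algebraMap k K)))).map i) =
        φ.hom ≫ (Over.pullback (Spec.map (CommRingCat.ofHom (algebraMap k K)))).map j) :
    ∃ (g : 𝟙_ (Over (Spec (CommRingCat.of k))) ⟶ CoactBr.sp k (CoordGrp.GLn m k)) (φ : σ ≅ τ),
      AGF.conjBy g i = φ.hom ≫ j := by
  classical
  obtain ⟨g, φ, hg⟩ := h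
  have : NeZero n := ⟨hn.ne'⟩
  let eσ := AlgGrp2.diagIsoOfSplit k (ZMod n) hσ
  let eτ := AlgGrp2.diagIsoOfSplit k (ZMod n) hτ
  -- the representations over k
  obtain ⟨U, c, hU⟩ := AlgGrp2.exists_conj_dg (AlgGrp2.isRep_ptMat_self (eσ.hom ≫ i))
  obtain ⟨V, d, hV⟩ := AlgGrp2.exists_conj_dg (AlgGrp2.isRep_ptMat_self (eτ.hom ≫ j))
  set A := AlgGrp2.ptMat (eσ.hom ≫ i) with hAdef
  set B := AlgGrp2.ptMat (eτ.hom ≫ j) with hBdef
  -- over K
  let P := Over.pullback (AlgGrp2.str k K)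
  let e := AlgGrp2.diagBC k K (ZMod n)
  let qσ := e ≪≫ P.mapIso eσ
  let qτ := e ≪≫ P.mapIso eτ
  obtain ⟨ψ, hψ⟩ := AlgGrp2.pt_surjective (qσ ≪≫ φ ≪≫ qτ.symm).hom
  let res := AlgGrp2.mapAlgHomMon k K (ZMod n)
  have hi' : AlgGrp2.ptMat (AlgGrp2.affPt k (qσ.hom ≫ P.map i)) = res.mapMatrix A := by
    rw [hAdef, ← AlgGrp2.ptMat_comp, ← AlgGrp2.affPt_diagBC, ← AlgGrp2.affPt_comp_map]
    simp [qσ, e, P]
  have hj' : AlgGrp2.ptMat (AlgGrp2.affPt k (qτ.hom ≫ P.map j)) = res.mapMatrix B := by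
    rw [hBdef, ← AlgGrp2.ptMat_comp, ← AlgGrp2.affPt_diagBC, ← AlgGrp2.affPt_comp_map]
    simp [qτ, e, P]
  set C := AlgGrp2.ptMat (AlgGrp2.affPt k (toUnit (CoactBr.sp K K) ≫ g)) with hCdef
  have hg' : ∀ (a : Red.diag K (ZMod n) ⟶ 𝟙_ _), AlgGrp2.ptMat (AlgGrp2.affPt k (a ≫ g)) =
      AlgGrp2.cst K (ZMod n) C := by
    intro a
    rw [toUnit_unique a (CoactBr.pt (Algebra.ofId K _) ≫ toUnit (CoactBr.sp K K)), Category.assoc,
      AlgGrp2.affPt_comp, AlgGrp2.ptMat_comp]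
    rfl
  have key : AlgGrp2.cst K (ZMod n) C * res.mapMatrix A =
      (ψ.restrictScalars k).mapMatrix (res.mapMatrix B) * AlgGrp2.cst K (ZMod n) C := by
    have h1 := congrArg (fun t => qσ.hom ≫ t) hg
    simp only [AGF.conjBy, MonObj.comp_mul, GrpObj.comp_inv, ← Category.assoc] at h1
    have h2 : qσ.hom ≫ φ.hom = CoactBr.pt ψ ≫ qτ.hom := by rw [hψ]; simp
    rw [h2, mul_inv_eq_iff_eq_mul, Category.assoc] at h1
    have h3 := congrArg (fun t => AlgGrp2.ptMat (AlgGrp2.affPt k t)) h1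
    simp only [AlgGrp2.affPt_mul, AlgGrp2.ptMat_mul] at h3
    simp only [Category.assoc] at h3
    rw [AlgGrp2.affPt_comp, AlgGrp2.ptMat_comp, ← Category.assoc qσ.hom, hg'] at h3
    rw [← hi', ← hj']
    exact h3
  have hψbij : Function.Bijective ψ := by
    obtain ⟨χ, hχ⟩ := AlgGrp2.pt_surjective (qσ ≪≫ φ ≪≫ qτ.symm).inv
    have a1 : ψ.comp χ = AlgHom.id K _ := CoactBr.pt_injective (by
      rw [CoactBr.pt_comp, CoactBr.pt_id, hψ, hχ, Iso.hom_inv_id])
    have a2 : χ.comp ψ = AlgHom.id K _ := CoactBr.pt_injective (by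
      rw [CoactBr.pt_comp, CoactBr.pt_id, hψ, hχ, Iso.inv_hom_id])
    exact ⟨fun a b hab => by
      have := congrArg χ hab
      rwa [← AlgHom.comp_apply, ← AlgHom.comp_apply, a2] at this,
      fun a => ⟨χ a, by rw [← AlgHom.comp_apply, a1]; rfl⟩⟩
  -- diagonalise both sides over K
  let f := algebraMap k K
  let UK := Units.map f.mapMatrix.toMonoidHom U
  let VK := Units.map f.mapMatrix.toMonoidHom V
  have hres : ∀ X : Matrix (Fin m) (Fin m) k, res.mapMatrix (AlgGrp2.cst k (ZMod n) X) =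
      AlgGrp2.cst K (ZMod n) (f.mapMatrix X) := by
    intro X; ext1 a b; simp [res, AlgGrp2.cst, f]
  have hψc : ∀ X : Matrix (Fin m) (Fin m) K, (ψ.restrictScalars k).mapMatrix (AlgGrp2.cst K (ZMod n) X) =
      AlgGrp2.cst K (ZMod n) X := by
    intro X; ext1 a b; exact ψ.commutes _
  have hresd : ∀ e : Fin m → ZMod n, res.mapMatrix (AlgGrp2.dg k e) = AlgGrp2.dg K e := by
    intro e
    simp [res, AlgGrp2.dg, AlgGrp2.mon, Matrix.diagonal_map (map_zero _)]
  let E : Fin m → MonoidAlgebra K (Multiplicative (ZMod n)) := fun a => ψ (AlgGrp2.mon K (d a))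
  let W : (Matrix (Fin m) (Fin m) K)ˣ := VK * (Units.mkOfMulEqOne C
    (AlgGrp2.ptMat ((AlgGrp2.affPt k (toUnit (CoactBr.sp K K) ≫ g))⁻¹))
    (by rw [hCdef, ← AlgGrp2.ptMat_mul, mul_inv_cancel, AlgGrp2.ptMat_one])) * UK⁻¹
  have hW : AlgGrp2.cst K (ZMod n) (W : Matrix (Fin m) (Fin m) K) * AlgGrp2.dg K c =
      Matrix.diagonal E * AlgGrp2.cst K (ZMod n) (W : Matrix (Fin m) (Fin m) K) := by
    have h1 := congrArg res.mapMatrix hU
    rw [map_mul, map_mul, hres, hresd] at h1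
    replace h1 : AlgGrp2.cst K (ZMod n) (UK : Matrix (Fin m) (Fin m) K) * res.mapMatrix A =
        AlgGrp2.dg K c * AlgGrp2.cst K (ZMod n) (UK : Matrix (Fin m) (Fin m) K) := h1
    have h2 := congrArg (fun X => (ψ.restrictScalars k).mapMatrix (res.mapMatrix X)) hV
    simp only [map_mul, hres, hresd, hψc] at h2
    have h3 : (ψ.restrictScalars k).mapMatrix (AlgGrp2.dg K d) = Matrix.diagonal E := by
      simp [AlgGrp2.dg, E, Matrix.diagonal_map (map_zero _)]
    rw [h3] at h2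
    have hc : AlgGrp2.cst K (ZMod n) (↑UK⁻¹ : Matrix (Fin m) (Fin m) K) *
        AlgGrp2.cst K (ZMod n) (UK : Matrix (Fin m) (Fin m) K) = 1 := by
      rw [← map_mul, Units.inv_mul, map_one]
    have hc' : AlgGrp2.cst K (ZMod n) (UK : Matrix (Fin m) (Fin m) K) *
        AlgGrp2.cst K (ZMod n) (↑UK⁻¹ : Matrix (Fin m) (Fin m) K) = 1 := by
      rw [← map_mul, Units.mul_inv, map_one]
    have hu : AlgGrp2.cst K (ZMod n) (↑UK⁻¹ : Matrix (Fin m) (Fin m) K) * AlgGrp2.dg K c =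
        res.mapMatrix A * AlgGrp2.cst K (ZMod n) (↑UK⁻¹ : Matrix (Fin m) (Fin m) K) := by
      calc _ = AlgGrp2.cst K (ZMod n) (↑UK⁻¹ : Matrix (Fin m) (Fin m) K) *
            (AlgGrp2.dg K c * AlgGrp2.cst K (ZMod n) (UK : Matrix (Fin m) (Fin m) K)) *
            AlgGrp2.cst K (ZMod n) (↑UK⁻¹ : Matrix (Fin m) (Fin m) K) := by
              simp only [_root_.mul_assoc, hc', _root_.mul_one]
        _ = AlgGrp2.cst K (ZMod n) (↑UK⁻¹ : Matrix (Fin m) (Fin m) K) *
            (AlgGrp2.cst K (ZMod n) (UK : Matrix (Fin m) (Fin m) K) * res.mapMatrix A) *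
            AlgGrp2.cst K (ZMod n) (↑UK⁻¹ : Matrix (Fin m) (Fin m) K) := by rw [h1]
        _ = _ := by rw [← _root_.mul_assoc, hc, _root_.one_mul]
    simp only [W, Units.val_mul, map_mul, _root_.mul_assoc, hu]
    rw [← _root_.mul_assoc (AlgGrp2.cst K (ZMod n) _) (res.mapMatrix A)]
    erw [key]
    simp only [← _root_.mul_assoc]
    erw [h2]
    rfl
  have hmon : ∀ a l, (W : Matrix (Fin m) (Fin m) K) a l ≠ 0 → E a = AlgGrp2.mon K (c l) := by
    intro a l hal
    have := congrFun (congrFun hW a) l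
    simp only [AlgGrp2.cst, AlgGrp2.dg, Matrix.mul_diagonal, Matrix.diagonal_mul, RingHom.mapMatrix_apply,
      Matrix.map_apply] at this
    rw [mul_comm (E a)] at this
    exact ((((Ne.isUnit hal).map (algebraMap K (MonoidAlgebra K (Multiplicative (ZMod n))))).mul_left_cancel this)).symm
  have hrow : ∀ a, ∃ l, (W : Matrix (Fin m) (Fin m) K) a l ≠ 0 := by
    intro a
    by_contra hcon
    push_neg at hcon
    exact (W.isUnit.map Matrix.detMonoidHom).ne_zero (Matrix.det_eq_zero_of_row_eq_zero a hcon)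
  -- the weights of j generate
  have hgen : AddSubgroup.closure (Set.range d) = ⊤ := by
    have : Mono j.left := inferInstance
    have : Mono j := Over.mono_of_mono_left j
    have : Mono (qτ.hom ≫ P.map j) := inferInstance
    refine AlgGrp2.closure_weights_eq_top d VK (qτ.hom ≫ P.map j) ?_
    rw [hj']
    have h1 := congrArg res.mapMatrix hV
    rw [map_mul, map_mul, hres, hresd] at h1
    exact h1
  have hθ : ∀ x : ZMod n, ∃ y, ψ (AlgGrp2.mon K x) = AlgGrp2.mon K y := by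
    intro x
    induction (hgen ▸ AddSubgroup.mem_top x : x ∈ AddSubgroup.closure (Set.range d)) using
      AddSubgroup.closure_induction with
    | mem x hx =>
      obtain ⟨a, rfl⟩ := hx
      obtain ⟨l, hl⟩ := hrow a
      exact ⟨c l, hmon a l hl⟩
    | zero => exact ⟨0, by rw [AlgGrp2.mon_zero, map_one]⟩
    | add x y _ _ hx hy =>
      obtain ⟨a, ha⟩ := hx
      obtain ⟨b, hb⟩ := hy
      exact ⟨a + b, by rw [← AlgGrp2.mon_mul, map_mul, ha, hb, AlgGrp2.mon_mul]⟩
    | neg x _ hx =>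
      obtain ⟨a, ha⟩ := hx
      refine ⟨-a, left_inv_eq_right_inv (a := ψ (AlgGrp2.mon K x)) ?_ ?_⟩
      · rw [← map_mul, AlgGrp2.mon_mul, neg_add_cancel, AlgGrp2.mon_zero, map_one]
      · rw [ha, AlgGrp2.mon_mul, add_neg_cancel, AlgGrp2.mon_zero]
  choose θ0 hθ0 using hθ
  let θ : ZMod n →+ ZMod n := AddMonoidHom.mk' θ0 fun x y => AlgGrp2.mon_injective K (by
    rw [← AlgGrp2.mon_mul, ← hθ0, ← hθ0, ← hθ0, ← map_mul, AlgGrp2.mon_mul])
  have hθinj : Function.Injective θ := fun x y hxy =>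
    AlgGrp2.mon_injective K (hψbij.1 (by rw [hθ0, hθ0]; exact congrArg _ hxy))
  let θe : ZMod n ≃+ ZMod n := AddEquiv.ofBijective θ ⟨hθinj, Finite.surjective_of_injective hθinj⟩
  have hcard : ∀ x, Fintype.card {a // θ (d a) = x} = Fintype.card {a // c a = x} := fun x =>
    AlgGrp2.diagonal_conj_card W c (fun a => θ (d a)) (fun a l hal => AlgGrp2.mon_injective K (by
      rw [← hmon a l hal]; exact (hθ0 _).symm)) x
  let π : Fin m ≃ Fin m := Equiv.ofFiberEquiv (f := c) (g := fun a => θ (d a))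
    fun x => Fintype.equivOfCardEq (hcard x).symm
  have hπ : ∀ a, θ (d (π a)) = c a := fun a => Equiv.ofFiberEquiv_map (f := c) (g := fun a => θ (d a)) _ a
  -- build the answer over k
  let PM : (Matrix (Fin m) (Fin m) k)ˣ := Units.mkOfMulEqOne (π.symm.toPEquiv.toMatrix) (π.toPEquiv.toMatrix)
    (by rw [← PEquiv.toMatrix_trans, ← Equiv.toPEquiv_trans, Equiv.symm_trans_self, Equiv.toPEquiv_refl, PEquiv.toMatrix_refl])
  let C₀ : (Matrix (Fin m) (Fin m) k)ˣ := V⁻¹ * PM * U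
  let θs : MonoidAlgebra k (Multiplicative (ZMod n)) →ₐ[k] MonoidAlgebra k (Multiplicative (ZMod n)) :=
    MonoidAlgebra.mapDomainAlgHom k k (AddMonoidHom.toMultiplicative θ)
  let θs' : MonoidAlgebra k (Multiplicative (ZMod n)) →ₐ[k] MonoidAlgebra k (Multiplicative (ZMod n)) :=
    MonoidAlgebra.mapDomainAlgHom k k (AddMonoidHom.toMultiplicative θe.symm.toAddMonoidHom)
  have t1 : θs.comp θs' = AlgHom.id k _ := MonoidAlgebra.algHom_ext (fun x => by
    have : θ (θe.symm x.toAdd) = x.toAdd := θe.apply_symm_apply _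
    simp [θs, θs', this]) (by ext)
  have t2 : θs'.comp θs = AlgHom.id k _ := MonoidAlgebra.algHom_ext (fun x => by
    have : θe.symm (θ x.toAdd) = x.toAdd := θe.symm_apply_apply _
    simp [θs, θs', this]) (by ext)
  let φ₀ : Red.diag k (ZMod n) ≅ Red.diag k (ZMod n) :=
    { hom := CoactBr.pt θs
      inv := CoactBr.pt θs'
      hom_inv_id := by rw [← CoactBr.pt_comp, t1, CoactBr.pt_id]
      inv_hom_id := by rw [← CoactBr.pt_comp, t2, CoactBr.pt_id] }
  obtain ⟨x, hx⟩ := AlgGrp2.exists_ptMat_eq (R := k) (C₀ : Matrix (Fin m) (Fin m) k) C₀.isUnit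
  have hkk : Spec (CommRingCat.of k) ↘ Spec (CommRingCat.of k) = 𝟙 _ := Spec.map_id _
  let u : 𝟙_ (Over (Spec (CommRingCat.of k))) ⟶ CoactBr.sp k k :=
    Over.homMk (𝟙 _) ((Category.id_comp _).trans hkk)
  have hu : toUnit (CoactBr.sp k k) ≫ u = 𝟙 _ := by
    ext1
    exact (Category.comp_id _).trans hkk
  refine ⟨u ≫ x, eσ.symm ≪≫ φ₀ ≪≫ eτ, ?_⟩
  rw [← cancel_epi eσ.hom, AGF.conjBy, MonObj.comp_mul, MonObj.comp_mul, GrpObj.comp_inv,
    mul_inv_eq_iff_eq_mul]
  have hx' : ∀ a : Red.diag k (ZMod n) ⟶ 𝟙_ _, AlgGrp2.ptMat (a ≫ u ≫ x) =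
      AlgGrp2.cst k (ZMod n) (C₀ : Matrix (Fin m) (Fin m) k) := by
    intro a
    rw [toUnit_unique a (CoactBr.pt (Algebra.ofId k _) ≫ toUnit (CoactBr.sp k k)), Category.assoc,
      reassoc_of% hu, AlgGrp2.ptMat_comp, hx]
    rfl
  apply AlgGrp2.ptMat_injective
  simp only [AlgGrp2.ptMat_mul, Iso.trans_hom, Iso.symm_hom, Category.assoc, Iso.hom_inv_id_assoc]
  rw [← Category.assoc, hx', show φ₀.hom = CoactBr.pt θs from rfl, AlgGrp2.ptMat_comp, ← hAdef, ← hBdef]
  have hθc : ∀ X : Matrix (Fin m) (Fin m) k, θs.mapMatrix (AlgGrp2.cst k (ZMod n) X) = AlgGrp2.cst k (ZMod n) X := by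
    intro X; ext1 a b; exact θs.commutes _
  have hV' := congrArg θs.mapMatrix hV
  rw [map_mul, map_mul, hθc] at hV'
  have hperm : AlgGrp2.cst k (ZMod n) (PM : Matrix (Fin m) (Fin m) k) * AlgGrp2.dg k c =
      θs.mapMatrix (AlgGrp2.dg k d) * AlgGrp2.cst k (ZMod n) (PM : Matrix (Fin m) (Fin m) k) := by
    ext1 a l
    simp only [AlgGrp2.dg, AlgHom.mapMatrix_apply, Matrix.diagonal_map (map_zero θs), Matrix.mul_diagonal,
      Matrix.diagonal_mul, AlgGrp2.cst, RingHom.mapMatrix_apply, Matrix.map_apply, PM, Units.val_mkOfMulEqOne,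
      PEquiv.toMatrix_apply, Equiv.toPEquiv_apply, Option.mem_some_iff]
    split_ifs with hal
    · have : θ (d a) = c l := by rw [← hal, ← hπ]; simp
      simp [θs, AlgGrp2.mon, this]
    · simp
  have hVc : AlgGrp2.cst k (ZMod n) (↑V⁻¹ : Matrix (Fin m) (Fin m) k) *
      AlgGrp2.cst k (ZMod n) (V : Matrix (Fin m) (Fin m) k) = 1 := by
    rw [← map_mul, Units.inv_mul, map_one]
  simp only [C₀, Units.val_mul, map_mul, _root_.mul_assoc, hU]
  rw [← _root_.mul_assoc _ (AlgGrp2.dg k c), hperm]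
  calc _ = AlgGrp2.cst k (ZMod n) (↑V⁻¹ : Matrix (Fin m) (Fin m) k) *
        (θs.mapMatrix (AlgGrp2.dg k d) * AlgGrp2.cst k (ZMod n) (V : Matrix (Fin m) (Fin m) k)) *
        AlgGrp2.cst k (ZMod n) (↑V⁻¹ : Matrix (Fin m) (Fin m) k) *
        (AlgGrp2.cst k (ZMod n) (PM : Matrix (Fin m) (Fin m) k) *
          AlgGrp2.cst k (ZMod n) (U : Matrix (Fin m) (Fin m) k)) := by
        have hVc' : AlgGrp2.cst k (ZMod n) (V : Matrix (Fin m) (Fin m) k) *
            AlgGrp2.cst k (ZMod n) (↑V⁻¹ : Matrix (Fin m) (Fin m) k) = 1 := by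
          rw [← map_mul, Units.mul_inv, map_one]
        simp only [_root_.mul_assoc]
        rw [← _root_.mul_assoc (AlgGrp2.cst k (ZMod n) (V : Matrix (Fin m) (Fin m) k)), hVc', _root_.one_mul]
    _ = _ := by
        rw [← hV', ← _root_.mul_assoc _ _ (θs.mapMatrix B), hVc, _root_.one_mul]
        simp only [_root_.mul_assoc]

end Groth.Agent.S19280
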