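import Groth.Statements.S19281
import Groth.Agent.AlgGrp2.MuGL

set_option autoImplicit false
universe u
open CategoryTheory MonoidalCategory CartesianMonoidalCategory MonObj GrpObj AlgebraicGeometry
open AlgGrp

namespace Groth.Agent.S19281

/-- Let `k` be a field with an algebraic closure `K`, `m ≥ 0`, `n > 0`, and let `σ'` be a closed
subgroup scheme of the base change of `GL_{m,k}` to `K` which is isomorphic as a `K`-group scheme to
`μ_n = D(ℤ/n)`. Then there are a closed subgroup scheme `σ` of `GL_{m,k}` isomorphic to `μ_n` over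
`k`, a `K`-point `g` of `GL_m` and an isomorphism `σ' ≅ σ_K` through which conjugation by `g`
carries the inclusion of `σ'` to the base change of the inclusion of `σ`. (This is the second
rationality condition, stated for all dual cyclic subgroups rather than only for those with a fixed
point on a given algebraic space, which is what the printed argument establishes and which gives the
printed statement for every action of `GL_m`.) -/
theorem result (k : Type u) [Field k]
    (K : Type u) [Field K] [Algebra k K] [IsAlgClosure k K] (m n : ℕ) (hn : 0 < n)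
    (σ' : Over (Spec (CommRingCat.of K))) [GrpObj σ']
    (i' : σ' ⟶ Red.bc (Spec.map (CommRingCat.ofHom (algebraMap k K))) (CoactBr.sp k (CoordGrp.GLn m k)))
    [IsMonHom i'] (hi' : IsClosedImmersion i'.left) (hσ' : Red.IsSplitTorusWith (ZMod n) σ') :
    ∃ (σ : Over (Spec (CommRingCat.of k))) (_ : GrpObj σ) (i : σ ⟶ CoactBr.sp k (CoordGrp.GLn m k))
      (_ : IsMonHom i), IsClosedImmersion i.left ∧ Red.IsSplitTorusWith (ZMod n) σ ∧
      ∃ (g : 𝟙_ (Over (Spec (CommRingCat.of K))) ⟶
          Red.bc (Spec.map (CommRingCat.ofHom (algebraMap k K))) (CoactBr.sp k (CoordGrp.GLn m k)))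
        (φ : σ' ≅ Red.bc (Spec.map (CommRingCat.ofHom (algebraMap k K))) σ),
        AGF.conjBy g i' = φ.hom ≫ (Over.pullback (Spec.map (CommRingCat.ofHom (algebraMap k K)))).map i := by
  classical
  have : NeZero n := ⟨hn.ne'⟩
  let eσ := AlgGrp2.diagIsoOfSplit K (ZMod n) hσ'
  let P := Over.pullback (AlgGrp2.str k K)
  let e := AlgGrp2.diagBC k K (ZMod n)
  obtain ⟨U, c, hU⟩ := AlgGrp2.exists_conj_dg
    (AlgGrp2.isRep_ptMat (k := k) (K := K) (eσ.hom ≫ i'))
  have hgen : AddSubgroup.closure (Set.range c) = ⊤ := by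
    have : Mono i'.left := inferInstance
    have : Mono i' := Over.mono_of_mono_left i'
    exact AlgGrp2.closure_weights_eq_top c U (eσ.hom ≫ i') hU
  have hcl : IsClosedImmersion (AlgGrp2.dgHom (k := k) c).left := by
    obtain ⟨φ, hφ⟩ := AlgGrp2.pt_surjective (AlgGrp2.dgHom (k := k) c)
    rw [← hφ, CoactBr.pt_left]
    refine IsClosedImmersion.spec_of_surjective _ ?_
    show Function.Surjective φ
    rw [← AlgHom.range_eq_top, eq_top_iff]
    have hcX : ∀ a, AlgGrp2.mon k (c a) ∈ φ.range := fun a => by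
      refine ⟨CoordGrp.GLn.X a a, ?_⟩
      have h := congrFun (congrFun (AlgGrp2.ptMat_dgHom (k := k) c) a) a
      rw [← hφ, AlgGrp2.ptMat_pt] at h
      simpa [AlgGrp2.glMat, AlgGrp2.dg] using h
    have hmem : ∀ x : ZMod n, AlgGrp2.mon k x ∈ φ.range := by
      intro x
      have hxs : x ∈ AddSubmonoid.closure (Set.range c) := by
        rw [← AddSubgroup.closure_toAddSubmonoid_of_finite, hgen]
        exact AddSubgroup.mem_top x
      induction hxs using AddSubmonoid.closure_induction with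
      | mem y hy => obtain ⟨a, rfl⟩ := hy; exact hcX a
      | zero => rw [AlgGrp2.mon_zero]; exact one_mem _
      | add y z _ _ hy hz => rw [← AlgGrp2.mon_mul]; exact mul_mem hy hz
    intro a _
    rw [← AlgGrp2.sum_cf_mon a]
    exact sum_mem fun x _ => Subalgebra.smul_mem _ (hmem x) _
  refine ⟨Red.diag k (ZMod n), inferInstance, AlgGrp2.dgHom c, inferInstance, hcl,
    AlgGrp2.isSplitTorusWith_diag k (ZMod n), ?_⟩
  let u : 𝟙_ (Over (Spec (CommRingCat.of K))) ⟶ CoactBr.sp K K :=
    Over.homMk (𝟙 _) ((Category.id_comp _).trans (Spec.map_id _))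
  have hu : toUnit (CoactBr.sp K K) ≫ u = 𝟙 _ := by
    ext1
    exact (Category.comp_id _).trans (Spec.map_id _)
  obtain ⟨x₀, hx₀⟩ := AlgGrp2.exists_ptMat_eq (R := k) (U : Matrix (Fin m) (Fin m) K) U.isUnit
  obtain ⟨x, rfl⟩ := AlgGrp2.affPt_surjective (K := K) x₀
  refine ⟨u ≫ x, eσ.symm ≪≫ e, ?_⟩
  rw [← cancel_epi eσ.hom, AGF.conjBy, MonObj.comp_mul, MonObj.comp_mul, GrpObj.comp_inv,
    mul_inv_eq_iff_eq_mul]
  have hx' : ∀ a : Red.diag K (ZMod n) ⟶ 𝟙_ _, AlgGrp2.ptMat (AlgGrp2.affPt k (a ≫ u ≫ x)) =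
      AlgGrp2.cst K (ZMod n) (U : Matrix (Fin m) (Fin m) K) := by
    intro a
    rw [toUnit_unique a (CoactBr.pt (Algebra.ofId K _) ≫ toUnit (CoactBr.sp K K)), Category.assoc,
      reassoc_of% hu, AlgGrp2.affPt_comp, AlgGrp2.ptMat_comp, hx₀]
    rfl
  apply AlgGrp2.affPt_injective (R := k)
  apply AlgGrp2.ptMat_injective
  simp only [AlgGrp2.affPt_mul, AlgGrp2.ptMat_mul, Iso.trans_hom, Iso.symm_hom, Category.assoc,
    Iso.hom_inv_id_assoc]
  rw [← Category.assoc, hx', AlgGrp2.affPt_comp_map, AlgGrp2.affPt_diagBC, AlgGrp2.ptMat_comp,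
    AlgGrp2.ptMat_dgHom, hU]
  congr 1
  simp [AlgGrp2.dg, AlgGrp2.mon, Matrix.diagonal_map (map_zero _)]

end Groth.Agent.S19281
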