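import Groth.Statements.S19283
import Groth.Agent.StrongApx.NormValues

set_option autoImplicit false
universe u
open scoped TensorProduct
open NumberField

namespace Groth.Agent.S19283

/-- Take number fields k ⊆ L with L finite over k, and finite sets S_f (of finite places of k) and S_∞
(of infinite places of k); for each v in S_f ∪ S_∞ let t_v be a nonzero element of k_v which is a
norm from the k_v-algebra k_v ⊗_k L, with an open neighbourhood U_v of t_v in k_v, and let v_0 be a
finite place of k outside S_f such that L admits a k-algebra embedding into k_{v_0} (L has a place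
of degree 1 over v_0). Then there is a nonzero t ∈ k whose image lies in U_v for every v ∈ S_f ∪
S_∞, which is integral at every finite place of k outside S_f ∪ {v_0}, and such that for every
finite place v of k outside S_f either t is a unit at v or L admits a k-algebra embedding into k_v.
(The published statement allows v_0 to be any place of k outside S; this row takes v_0 finite.) -/
theorem result (k L : Type u) [Field k] [NumberField k]
    [Field L] [NumberField L] [Algebra k L]
    (Sf : Finset (IsDedekindDomain.HeightOneSpectrum (NumberField.RingOfIntegers k)))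
    (Si : Finset (NumberField.InfinitePlace k))
    (tf : (v : IsDedekindDomain.HeightOneSpectrum (NumberField.RingOfIntegers k)) → v.adicCompletion k)
    (ti : (w : NumberField.InfinitePlace k) → w.Completion)
    (htf : ∀ v ∈ Sf, tf v ≠ 0 ∧ ∃ x : (v.adicCompletion k) ⊗[k] L, Algebra.norm (v.adicCompletion k) x = tf v)
    (hti : ∀ w ∈ Si, ti w ≠ 0 ∧ ∃ x : w.Completion ⊗[k] L, Algebra.norm w.Completion x = ti w)
    (Uf : (v : IsDedekindDomain.HeightOneSpectrum (NumberField.RingOfIntegers k)) → Set (v.adicCompletion k))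
    (hUf : ∀ v ∈ Sf, IsOpen (Uf v) ∧ tf v ∈ Uf v)
    (Ui : (w : NumberField.InfinitePlace k) → Set w.Completion)
    (hUi : ∀ w ∈ Si, IsOpen (Ui w) ∧ ti w ∈ Ui w)
    (v₀ : IsDedekindDomain.HeightOneSpectrum (NumberField.RingOfIntegers k)) (hv₀ : v₀ ∉ Sf)
    (hLv₀ : Nonempty (L →ₐ[k] v₀.adicCompletion k)) :
    ∃ t : k, t ≠ 0 ∧ (∀ v ∈ Sf, algebraMap k (v.adicCompletion k) t ∈ Uf v) ∧
      (∀ w ∈ Si, algebraMap k w.Completion t ∈ Ui w) ∧
      (∀ v : IsDedekindDomain.HeightOneSpectrum (NumberField.RingOfIntegers k), v ∉ Sf → v ≠ v₀ →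
        v.valuation k t ≤ 1) ∧
      ∀ v : IsDedekindDomain.HeightOneSpectrum (NumberField.RingOfIntegers k), v ∉ Sf →
        v.valuation k t = 1 ∨ Nonempty (L →ₐ[k] v.adicCompletion k) := by

  classical
  obtain ⟨θ, hθ⟩ := Field.exists_primitive_element k L
  let n := Module.finrank k L
  let Bs : Module.Basis (Fin n) k L := Module.finBasis k L
  choose Nf hNfc hNfn hNfq using fun v : IsDedekindDomain.HeightOneSpectrum (NumberField.RingOfIntegers k) =>
    Groth.StrongApx.norm_coord k (L := L) (v.adicCompletion k) Bs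
  choose Nw hNwc hNwn hNwq using fun w : NumberField.InfinitePlace k =>
    Groth.StrongApx.norm_coord k (L := L) w.Completion Bs
  -- targets at all infinite places, away from zero
  let V : (w : NumberField.InfinitePlace k) → Set w.Completion := fun w =>
    (if w ∈ Si then Ui w else Set.univ) \ {0}
  have hV : ∀ w, IsOpen (V w) ∧ ∃ x : w.Completion ⊗[k] L, Algebra.norm w.Completion x ∈ V w := by
    intro w
    simp only [V]
    split_ifs with h
    · obtain ⟨h0, x, hx⟩ := hti w h
      exact ⟨(hUi w h).1.sdiff isClosed_singleton, x, by rw [hx]; exact ⟨(hUi w h).2, h0⟩⟩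
    · exact ⟨isOpen_univ.sdiff isClosed_singleton, 1, by rw [map_one]; exact ⟨trivial, one_ne_zero⟩⟩
  -- coordinates of a generic element with good norms
  obtain ⟨ξ, hξf, hξw, -⟩ := Groth.StrongApx.exists_mem_open_vec k v₀ Sf hv₀ (ι := Fin n)
    (fun v => Nf v ⁻¹' Uf v) (fun w => Nw w ⁻¹' V w)
    (fun v hv => ⟨(hUf v hv).1.preimage (hNfc v), by
      obtain ⟨x, hx⟩ := (htf v hv).2
      exact ⟨_, by rw [Set.mem_preimage, ← hNfn, hx]; exact (hUf v hv).2⟩⟩)
    (fun w => ⟨(hV w).1.preimage (hNwc w), by
      obtain ⟨x, hx⟩ := (hV w).2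
      exact ⟨_, by rw [Set.mem_preimage, ← hNwn]; exact hx⟩⟩)
  let el : k → L := fun lam => ∑ l, (ξ l + lam * Bs.repr θ l) • Bs l
  have hel : ∀ lam, el lam = el 0 + lam • θ := by
    intro lam
    simp only [el, add_smul, Finset.sum_add_distrib, mul_smul, ← Finset.smul_sum, Bs.sum_repr, zero_smul, add_zero]
  have hgen : ∃ F : Set k, F.Finite ∧ ∀ lam ∉ F, IntermediateField.adjoin k {el lam} = ⊤ := by
    have : Finite (IntermediateField k L) := Field.finite_intermediateField_of_exists_primitive_element k L ⟨θ, hθ⟩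
    refine ⟨⋃ F : {F : IntermediateField k L // F ≠ ⊤}, {lam | el lam ∈ F.1}, Set.finite_iUnion fun F => ?_,
      fun lam hlam => ?_⟩
    · refine Set.Subsingleton.finite fun p hp q hq => ?_
      by_contra hpq
      have : (p - q) • θ ∈ F.1 := by
        have := sub_mem (show el p ∈ F.1 from hp) (show el q ∈ F.1 from hq)
        rwa [hel p, hel q, add_sub_add_left_eq_sub, ← sub_smul] at this
      have := F.1.smul_mem this (x := (p - q)⁻¹)
      rw [inv_smul_smul₀ (sub_ne_zero.2 hpq)] at this
      refine F.2 (top_le_iff.1 ?_)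
      exact hθ.ge.trans (IntermediateField.adjoin_le_iff.2 (Set.singleton_subset_iff.2 this))
    · by_contra hne
      exact hlam (Set.mem_iUnion.2 ⟨⟨_, hne⟩, IntermediateField.mem_adjoin_simple_self k _⟩)
  obtain ⟨F, hF, hFgen⟩ := hgen
  let w₀ : NumberField.InfinitePlace k := Classical.arbitrary _
  let move : (R : Type u) → [Field R] → [Algebra k R] → R → Fin n → R := fun R _ _ lam l =>
    algebraMap k R (ξ l) + lam * algebraMap k R (Bs.repr θ l)
  obtain ⟨lam, hlf, hlw, -⟩ := Groth.StrongApx.exists_mem_open k v₀ Sf hv₀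
    (fun v => move (v.adicCompletion k) ⁻¹' (Nf v ⁻¹' Uf v))
    (fun v hv => ⟨((hUf v hv).1.preimage (hNfc v)).preimage
        (continuous_pi fun l => continuous_const.add (continuous_id.mul continuous_const)), 0, by
      simpa [move] using hξf v hv⟩)
    (fun w => if w = w₀ then (move w.Completion ⁻¹' (Nw w ⁻¹' V w)) \ (algebraMap k w.Completion '' F)
      else move w.Completion ⁻¹' (Nw w ⁻¹' V w))
    (fun w => by
      have hopen : IsOpen (move w.Completion ⁻¹' (Nw w ⁻¹' V w)) := ((hV w).1.preimage (hNwc w)).preimage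
        (continuous_pi fun l => continuous_const.add (continuous_id.mul continuous_const))
      have h0 : (0 : w.Completion) ∈ move w.Completion ⁻¹' (Nw w ⁻¹' V w) := by simpa [move] using hξw w
      split_ifs
      · exact ⟨hopen.sdiff (hF.image _).isClosed,
          ((Groth.StrongApx.infinite_of_isOpen k w _ hopen 0 h0).sdiff (hF.image _)).nonempty⟩
      · exact ⟨hopen, 0, h0⟩)
  have hlamF : lam ∉ F := by
    have h := hlw w₀
    rw [if_pos rfl] at h
    exact fun h' => h.2 ⟨lam, h', rfl⟩
  let x₀ : L := el lam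
  have hx₀ : IntermediateField.adjoin k {x₀} = ⊤ := hFgen lam hlamF
  have hi : IsIntegral k x₀ := IsIntegral.of_finite k x₀
  let f : Polynomial k := minpoly k x₀
  have hdeg : f.natDegree = n := (Field.primitive_element_iff_minpoly_natDegree_eq k x₀).1 hx₀
  have hmonic : f.Monic := minpoly.monic hi
  have hΦ10 : ∀ (R : Type u) [CommRing R] [Algebra k R], Groth.StrongApx.normForm k f R 1 0 = algebraMap k R (Algebra.norm k x₀) := by
    intro R _ _
    have hnorm : Algebra.norm k x₀ = (-1) ^ n * f.coeff 0 := by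
      let e : IntermediateField.adjoin k {x₀} ≃ₐ[k] L :=
        (IntermediateField.equivOfEq hx₀).trans IntermediateField.topEquiv
      let pb := (IntermediateField.adjoin.powerBasis hi).map e
      have hgen' : pb.gen = x₀ := rfl
      have := Algebra.PowerBasis.norm_gen_eq_coeff_zero_minpoly pb
      rw [hgen'] at this
      rw [this, show pb.dim = f.natDegree from rfl, hdeg]
    rw [hnorm, Groth.StrongApx.normForm_one_zero, hdeg]
  -- exceptional places
  obtain ⟨a, b, hab⟩ : IsCoprime f (Polynomial.derivative f) := ((minpoly.irreducible hi).separable :)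
  let Bad : Set (IsDedekindDomain.HeightOneSpectrum (NumberField.RingOfIntegers k)) :=
    ⋃ q ∈ ({f, a, b} : Finset (Polynomial k)), ⋃ i ∈ q.support, IsDedekindDomain.HeightOneSpectrum.Support _ (q.coeff i)
  have hBad : Bad.Finite := (Finset.finite_toSet _).biUnion fun q _ =>
    (Finset.finite_toSet _).biUnion fun i _ => IsDedekindDomain.HeightOneSpectrum.Support.finite _ _
  have hint : ∀ v ∉ Bad, ∀ q ∈ ({f, a, b} : Finset (Polynomial k)), ∀ i, v.valuation k (q.coeff i) ≤ 1 := by
    intro v hv q hq i
    by_cases hqi : i ∈ q.support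
    · exact not_lt.1 fun h => hv (Set.mem_biUnion hq (Set.mem_biUnion hqi h))
    · rw [Polynomial.notMem_support_iff.1 hqi, map_zero]; exact zero_le
  let Z : Finset (IsDedekindDomain.HeightOneSpectrum (NumberField.RingOfIntegers k)) := hBad.toFinset \ insert v₀ Sf
  have hZ : ∀ v ∈ Z, v ∉ Sf ∧ v ≠ v₀ := by
    intro v hv; simp only [Z, Finset.mem_sdiff, Finset.mem_insert, not_or] at hv; exact ⟨hv.2.2, hv.2.1⟩
  have valC : ∀ (v : IsDedekindDomain.HeightOneSpectrum (NumberField.RingOfIntegers k)) (z : k),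
      Valued.v (algebraMap k (v.adicCompletion k) z) = v.valuation k z :=
    fun v z => IsDedekindDomain.HeightOneSpectrum.valuedAdicCompletion_eq_valuation' v z
  have isOpen_one : ∀ v : IsDedekindDomain.HeightOneSpectrum (NumberField.RingOfIntegers k),
      IsOpen {x : v.adicCompletion k | Valued.v x = 1} := by
    intro v
    have h := Valued.isOpen_sphere (v.adicCompletion k) (one_ne_zero (α := MonoidWithZeroHom.ValueGroup₀
      (.ofClass (Valued.v : Valuation (v.adicCompletion k) (WithZero (Multiplicative ℤ))))))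
    simpa only [Valuation.restrict_eq_one_iff] using h
  -- boxes around the base point
  have hbox : ∀ v : IsDedekindDomain.HeightOneSpectrum (NumberField.RingOfIntegers k),
      ∃ A B : Set (v.adicCompletion k), v ∈ Sf ∪ Z → IsOpen A ∧ IsOpen B ∧ A.Nonempty ∧ B.Nonempty ∧
        ∀ s ∈ A, ∀ c ∈ B, if v ∈ Sf then Groth.StrongApx.normForm k f _ s c ∈ Uf v
          else Valued.v (Groth.StrongApx.normForm k f _ s c) = 1 ∧ Valued.v s ≤ 1 ∧ Valued.v c ≤ 1 := by
    intro v
    by_cases hv : v ∈ Sf ∪ Z
    · by_cases hvS : v ∈ Sf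
      · have hmem : ((1 : v.adicCompletion k), (0 : v.adicCompletion k)) ∈ (fun p : v.adicCompletion k × v.adicCompletion k => Groth.StrongApx.normForm k f _ p.1 p.2) ⁻¹' Uf v := by
          rw [Set.mem_preimage]
          show Groth.StrongApx.normForm k f (v.adicCompletion k) 1 0 ∈ Uf v
          rw [hΦ10, ← hNfq v (fun l => ξ l + lam * Bs.repr θ l)]
          have := hlf v hvS
          simpa [move] using this
        obtain ⟨A, B, hA, hB, h1, h2, hsub⟩ := isOpen_prod_iff.1 ((hUf v hvS).1.preimage (Groth.StrongApx.continuous_normForm k f _)) 1 0 hmem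
        exact ⟨A, B, fun _ => ⟨hA, hB, ⟨1, h1⟩, ⟨0, h2⟩, fun s hs c hc => by
          rw [if_pos hvS]; exact hsub (Set.mk_mem_prod hs hc)⟩⟩
      · have hmem : ((0 : v.adicCompletion k), (1 : v.adicCompletion k)) ∈ (fun p : v.adicCompletion k × v.adicCompletion k => Groth.StrongApx.normForm k f _ p.1 p.2) ⁻¹' {x | Valued.v x = 1} := by
          show Valued.v (Groth.StrongApx.normForm k f (v.adicCompletion k) 0 1) = 1
          rw [Groth.StrongApx.normForm_zero_one k hmonic, map_one]
        obtain ⟨A, B, hA, hB, h1, h2, hsub⟩ := isOpen_prod_iff.1 ((isOpen_one v).preimage (Groth.StrongApx.continuous_normForm k f _)) 0 1 hmem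
        have hI := Valued.isOpen_valuationSubring (v.adicCompletion k)
        refine ⟨A ∩ _, B ∩ _, fun _ => ⟨hA.inter hI, hB.inter hI, ⟨0, h1, ?_⟩, ⟨1, h2, ?_⟩, fun s hs c hc => ?_⟩⟩
        · show Valued.v (0 : v.adicCompletion k) ≤ 1
          simp
        · show Valued.v (1 : v.adicCompletion k) ≤ 1
          simp
        · rw [if_neg hvS]
          have h3 := hsub (Set.mk_mem_prod hs.1 hc.1)
          simp only [Set.mem_preimage, Set.mem_ofPred_eq] at h3
          refine ⟨h3, ?_, ?_⟩
          · exact (Valuation.mem_valuationSubring_iff _ _).1 hs.2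
          · exact (Valuation.mem_valuationSubring_iff _ _).1 hc.2
    · exact ⟨∅, ∅, fun h => absurd h hv⟩
  choose A B hAB using hbox
  have hboxw : ∀ w : NumberField.InfinitePlace k, ∃ A B : Set w.Completion, IsOpen A ∧ IsOpen B ∧ A.Nonempty ∧ B.Nonempty ∧
      (∀ s ∈ A, ∀ c ∈ B, Groth.StrongApx.normForm k f _ s c ∈ V w) ∧ (0 : w.Completion) ∉ A := by
    intro w
    have hmem : ((1 : w.Completion), (0 : w.Completion)) ∈ (fun p : w.Completion × w.Completion => Groth.StrongApx.normForm k f _ p.1 p.2) ⁻¹' V w := by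
      show Groth.StrongApx.normForm k f w.Completion 1 0 ∈ V w
      rw [hΦ10, ← hNwq w (fun l => ξ l + lam * Bs.repr θ l)]
      have := hlw w
      split_ifs at this
      · simp only [map_add, map_mul]; exact this.1
      · simp only [map_add, map_mul]; exact this
    obtain ⟨A, B, hA, hB, h1, h2, hsub⟩ := isOpen_prod_iff.1 ((hV w).1.preimage (Groth.StrongApx.continuous_normForm k f _)) 1 0 hmem
    exact ⟨A \ {0}, B, hA.sdiff isClosed_singleton, hB, ⟨1, h1, one_ne_zero⟩, ⟨0, h2⟩,
      fun s hs c hc => hsub (Set.mk_mem_prod hs.1 hc), fun h => h.2 rfl⟩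
  choose A' B' hA' hB' hA'n hB'n hAB' hA'0 using hboxw
  have hv₀SZ : v₀ ∉ Sf ∪ Z := by
    rw [Finset.mem_union, not_or]; exact ⟨hv₀, fun h => (hZ v₀ h).2 rfl⟩
  obtain ⟨s, hsA, hsA', hs⟩ := Groth.StrongApx.exists_mem_open k v₀ (Sf ∪ Z) hv₀SZ A
    (fun v hv => ⟨(hAB v hv).1, (hAB v hv).2.2.1⟩) A' (fun w => ⟨hA' w, hA'n w⟩)
  have hs0 : s ≠ 0 := by
    intro h
    have := hsA' w₀
    rw [h, map_zero] at this
    exact hA'0 w₀ this
  let Pset : Set (IsDedekindDomain.HeightOneSpectrum (NumberField.RingOfIntegers k)) :=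
    IsDedekindDomain.HeightOneSpectrum.Support _ s⁻¹
  have hPset : Pset.Finite := IsDedekindDomain.HeightOneSpectrum.Support.finite _ _
  let P : Finset (IsDedekindDomain.HeightOneSpectrum (NumberField.RingOfIntegers k)) := hPset.toFinset \ insert v₀ (Sf ∪ Z)
  let C : (v : IsDedekindDomain.HeightOneSpectrum (NumberField.RingOfIntegers k)) → Set (v.adicCompletion k) := fun v =>
    if v ∈ Sf ∪ Z then B v else {x | Valued.v x = 1}
  have hv₀SZP : v₀ ∉ Sf ∪ Z ∪ P := by
    rw [Finset.mem_union, not_or]; exact ⟨hv₀SZ, fun h => by simp [P] at h⟩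
  obtain ⟨c, hcB, hcB', hc⟩ := Groth.StrongApx.exists_mem_open k v₀ (Sf ∪ Z ∪ P) hv₀SZP C
    (fun v hv => by
      simp only [C]
      split_ifs with h
      · exact ⟨(hAB v h).2.1, (hAB v h).2.2.2.1⟩
      · exact ⟨isOpen_one v, 1, show Valued.v (1 : v.adicCompletion k) = 1 from map_one _⟩)
    B' (fun w => ⟨hB' w, hB'n w⟩)
  let t := Groth.StrongApx.normForm k f k s c
  have ht : ∀ w, algebraMap k (NumberField.InfinitePlace.Completion w) t ∈ V w := fun w => by
    rw [← Groth.StrongApx.normForm_map]; exact hAB' w _ (hsA' w) _ (hcB' w)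
  have hbox' : ∀ v ∈ Sf ∪ Z, if v ∈ Sf then algebraMap k (v.adicCompletion k) t ∈ Uf v
      else v.valuation k t = 1 ∧ v.valuation k s ≤ 1 ∧ v.valuation k c ≤ 1 := by
    intro v hv
    have h1 := hcB v (Finset.mem_union_left _ hv)
    simp only [C, if_pos hv] at h1
    have h := (hAB v hv).2.2.2.2 _ (hsA v hv) _ h1
    rw [Groth.StrongApx.normForm_map] at h
    split_ifs at h ⊢
    · exact h
    · rwa [valC, valC, valC] at h
  have houter : ∀ v, v ∉ Sf → v ≠ v₀ → v ∉ Z →
      v.valuation k t ≤ 1 ∧ (v.valuation k t = 1 ∨ Nonempty (L →ₐ[k] v.adicCompletion k)) := by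
    intro v hvS hv0 hvZ
    have hvB : v ∉ Bad := fun h => hvZ (by simp [Z, h, hvS, hv0])
    have hvSZ : v ∉ Sf ∪ Z := by simp [hvS, hvZ]
    have hsv : v.valuation k s ≤ 1 := hs v hvSZ hv0
    have hcv : v.valuation k c ≤ 1 := by
      by_cases hvP : v ∈ P
      · have h1 := hcB v (Finset.mem_union_right _ hvP)
        simp only [C, if_neg hvSZ] at h1
        rw [Set.mem_ofPred_eq, valC] at h1
        exact h1.le
      · exact hc v (by rw [Finset.mem_union, not_or]; exact ⟨hvSZ, hvP⟩) hv0
    have hfi : ∀ i, v.valuation k (f.coeff i) ≤ 1 := hint v hvB f (by simp)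
    have hle : v.valuation k t ≤ 1 := Groth.StrongApx.normForm_valuation_le k f v s c hfi hsv hcv
    refine ⟨hle, ?_⟩
    by_cases hvP : v ∈ P
    · left
      have hc1 : v.valuation k c = 1 := by
        have h1 := hcB v (Finset.mem_union_right _ hvP)
        simp only [C, if_neg hvSZ] at h1
        rwa [Set.mem_ofPred_eq, valC] at h1
      have hs1 : v.valuation k s < 1 := by
        simp only [P, Finset.mem_sdiff, Set.Finite.mem_toFinset, Pset, IsDedekindDomain.HeightOneSpectrum.Support,
          Set.mem_ofPred_eq, map_inv₀] at hvP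
        exact (one_lt_inv₀ (zero_lt_iff.2 ((Valuation.ne_zero_iff _).2 hs0))).1 hvP.1
      exact Groth.StrongApx.normForm_valuation_eq_one k hmonic v s c hfi hs1 hc1
    · rcases eq_or_ne (v.valuation k t) 1 with h | h
      · exact Or.inl h
      right
      have hlt : v.valuation k t < 1 := lt_of_le_of_ne hle h
      have hs1 : v.valuation k s = 1 := by
        refine le_antisymm hsv (not_lt.1 fun hlt' => hvP ?_)
        simp only [P, Finset.mem_sdiff, Set.Finite.mem_toFinset, Pset, IsDedekindDomain.HeightOneSpectrum.Support,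
          Set.mem_ofPred_eq, map_inv₀, Finset.mem_insert, not_or]
        exact ⟨(one_lt_inv₀ (zero_lt_iff.2 ((Valuation.ne_zero_iff _).2 hs0))).2 hlt', hv0, hvSZ⟩
      have hr : v.valuation k (-c / s) ≤ 1 := by
        rw [map_div₀, Valuation.map_neg, hs1, div_one]; exact hcv
      have hfr : v.valuation k (f.eval (-c / s)) < 1 := by
        have := hlt
        simp only [t, Groth.StrongApx.normForm_eq_eval k f s c hs0, map_mul, map_pow, Valuation.map_neg, map_one, one_pow, one_mul, hs1] at this
        exact this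
      obtain ⟨ρ, hρ⟩ := Groth.StrongApx.exists_root_completion k v f a b hab hfi (hint v hvB a (by simp))
        (hint v hvB b (by simp)) _ hr hfr
      exact Groth.StrongApx.nonempty_algHom_of_root k _ x₀ hx₀ ρ hρ
  refine ⟨t, ?_, fun v hv => ?_, fun w hw => ?_, fun v hv hv' => ?_, fun v hv => ?_⟩
  · intro h
    have := ht w₀
    rw [h, map_zero] at this
    exact this.2 rfl
  · have := hbox' v (Finset.mem_union_left _ hv)
    rwa [if_pos hv] at this
  · have := (ht w).1
    rwa [if_pos hw] at this
  · by_cases hvZ : v ∈ Z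
    · have := hbox' v (Finset.mem_union_right _ hvZ)
      rw [if_neg hv] at this
      exact this.1.le
    · exact (houter v hv hv' hvZ).1
  · rcases eq_or_ne v v₀ with rfl | hv0
    · exact Or.inr hLv₀
    by_cases hvZ : v ∈ Z
    · have := hbox' v (Finset.mem_union_right _ hvZ)
      rw [if_neg hv] at this
      exact Or.inl this.1
    · exact (houter v hv hv0 hvZ).2

end Groth.Agent.S19283
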