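import Groth.Statements.S19284
import Mathlib
import Groth.Agent.AffGal65.Main

set_option autoImplicit false
universe u
open NumberField

namespace Groth.Agent.S19284

/-- Let L/K be a finite extension of number fields and Ω an algebraic closure of K. Suppose that L/K is
almost abelian in the non-abelian way: for some prime number p there is a bijection between the set
of K-embeddings L → Ω and Z/p under which every K-automorphism of Ω acts by an affine transformation
x ↦ a x + b with a ≠ 0, and L/K is not an abelian extension (it is not Galois with commutative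
automorphism group). Then there is an intermediate extension K ⊂ E ⊂ Ω contained in the normal
closure of L, Galois over K with nontrivial cyclic group, such that for every finite place w of K
which is unramified in L (every prime of the integers of L above w has ramification index 1), either
E admits a K-algebra embedding into the completion K_w (since E/K is Galois: w splits completely in
E) or L admits a K-algebra embedding into K_w (L has a place of degree 1 over w). (Only finite
places are treated here.) -/
theorem result (K L Ω : Type u) [Field K] [NumberField K]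
    [Field L] [NumberField L] [Algebra K L] [Field Ω] [Algebra K Ω] [IsAlgClosure K Ω]
    (p : ℕ) (hp : p.Prime) (e : (L →ₐ[K] Ω) ≃ ZMod p)
    (haff : ∀ σ : Ω ≃ₐ[K] Ω, ∃ a b : ZMod p, a ≠ 0 ∧
      ∀ φ : L →ₐ[K] Ω, e (σ.toAlgHom.comp φ) = a * e φ + b)
    (hnab : IsGalois K L → ∃ σ τ : L ≃ₐ[K] L, σ * τ ≠ τ * σ) :
    ∃ E : IntermediateField K Ω, E ≤ IntermediateField.normalClosure K L Ω ∧
      FiniteDimensional K E ∧ IsGalois K E ∧ IsCyclic (E ≃ₐ[K] E) ∧ 1 < Module.finrank K E ∧
      ∀ w : IsDedekindDomain.HeightOneSpectrum (NumberField.RingOfIntegers K),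
        (∀ P : Ideal (NumberField.RingOfIntegers L), P.IsPrime → P.LiesOver w.asIdeal →
          P.ramificationIdx (NumberField.RingOfIntegers K) = 1) →
        Nonempty (E →ₐ[K] w.adicCompletion K) ∨ Nonempty (L →ₐ[K] w.adicCompletion K) := by
  classical
  haveI : Fact p.Prime := ⟨hp⟩
  haveI : IsAlgClosed Ω := IsAlgClosure.isAlgClosed K
  haveI : Normal K Ω := normal_iff.mpr fun x => ⟨(IsAlgClosure.isAlgebraic (R := K) (K := Ω)).isAlgebraic x |>.isIntegral,
    IsAlgClosed.splits _⟩
  let M := IntermediateField.normalClosure K L Ω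
  haveI : FiniteDimensional K M := normalClosure.is_finiteDimensional K L Ω
  haveI : Normal K M := normalClosure.normal K L Ω
  haveI : IsGalois K M := {}
  haveI : NumberField M := NumberField.of_module_finite K M
  let c : (L →ₐ[K] M) ≃ (L →ₐ[K] Ω) :=
    { toFun := fun φ => M.val.comp φ
      invFun := fun φ => φ.codRestrict M.toSubalgebra fun x => φ.fieldRange_le_normalClosure ⟨x, rfl⟩
      left_inv := fun φ => AlgHom.ext fun x => Subtype.ext rfl
      right_inv := fun φ => AlgHom.ext fun x => rfl }
  have hA : ∀ g : M ≃ₐ[K] M, ∃ a b : ZMod p, a ≠ 0 ∧ ∀ φ, (c.trans e) (g.toAlgHom.comp φ) = a * (c.trans e) φ + b := by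
    intro g
    obtain ⟨a, b, ha, hab⟩ := haff (g.liftNormal Ω)
    refine ⟨a, b, ha, fun φ => ?_⟩
    show e (c (g.toAlgHom.comp φ)) = a * e (c φ) + b
    rw [← hab (c φ)]
    congr 1
    exact AlgHom.ext fun x => (g.liftNormal_commutes Ω (φ x)).symm
  have hB : ∀ g : M ≃ₐ[K] M, (∀ φ : L →ₐ[K] M, g.toAlgHom.comp φ = φ) → g = 1 := by
    intro g hg
    let F : IntermediateField K M := IntermediateField.fixedField (Subgroup.zpowers g)
    have hF : ∀ φ : L →ₐ[K] M, φ.fieldRange ≤ F := by
      rintro φ _ ⟨x, rfl⟩ ⟨h, hh⟩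
      have : Subgroup.zpowers g ≤ MulAction.stabilizer (M ≃ₐ[K] M) (φ x) :=
        Subgroup.zpowers_le.mpr (DFunLike.congr_fun (hg φ) x)
      exact this hh
    have hM : M ≤ IntermediateField.lift F := by
      show IntermediateField.normalClosure K L Ω ≤ _
      rw [normalClosure_def]
      refine iSup_le ?_
      rintro φ _ ⟨x, rfl⟩
      exact ⟨(c.symm φ) x, hF _ ⟨x, rfl⟩, rfl⟩
    refine AlgEquiv.ext fun y => ?_
    obtain ⟨z, hz, hzy⟩ := hM y.2
    rw [← Subtype.ext hzy]
    exact hz ⟨g, Subgroup.mem_zpowers g⟩
  obtain ⟨E, hE1, hE2, hE3, hE4⟩ := Groth.AffGal65.exists_cyclic_subext (M := M) p (c.trans e) hA hB hnab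
  let ie : E ≃ₐ[K] IntermediateField.lift E := IntermediateField.liftAlgEquiv E
  refine ⟨IntermediateField.lift E, IntermediateField.lift_le E, ie.toLinearEquiv.finiteDimensional,
    IsGalois.of_algEquiv ie, isCyclic_of_surjective (AlgEquiv.autCongr ie).toMonoidHom (AlgEquiv.autCongr ie).surjective,
    ie.toLinearEquiv.finrank_eq ▸ hE3, fun w hw => ?_⟩
  rcases hE4 w hw with ⟨⟨f⟩⟩ | h
  · exact .inl ⟨f.comp ie.symm.toAlgHom⟩
  · exact .inr h

end Groth.Agent.S19284
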