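import Groth.Statements.S19285
import Mathlib
import Groth.Agent.UnramNorm.Targets

set_option autoImplicit false
universe u
open scoped TensorProduct
open NumberField

namespace Groth.Agent.S19285

/-- A conjectured statement on locally split values of the polynomials t − a_i holds unconditionally
when the degrees [k_i : k] sum to at most 2. Precisely: let k be a number field, n ≥ 1, and for each
i let k_i = k(a_i) be a finite extension generated by a_i, the minimal polynomials of the a_i over k
being pairwise distinct and the degrees [k_i : k] summing to at most 2; let L_i/k_i be finite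
extensions and b_i ∈ k_i nonzero. Let S_f, S_∞ be finite sets of finite and infinite places of k
such that S_∞ contains every real place and S_f contains every finite place of k below a finite
place of some k_i at which b_i is not a unit or below a prime of some L_i ramified over k_i. For v ∈
S_f ∪ S_∞ let t_v ∈ k_v, with an open neighbourhood U_v, be such that for every i the element b_i
(t_v − a_i) of k_v ⊗_k k_i is the norm of a unit of the (k_v ⊗_k k_i)-algebra k_v ⊗_k L_i. Then
there is t_0 ∈ k whose image lies in U_v for all v ∈ S_f ∪ S_∞ and such that for every i and every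
finite place w of k_i at which t_0 − a_i has positive valuation, either w lies above a place of S_f
or L_i admits a k_i-algebra embedding into the completion (k_i)_w (a place of L_i of degree 1 over
w). -/
theorem result (k : Type u) [Field k] [NumberField k]
    (n : ℕ) (hn : 1 ≤ n)
    (kf : Fin n → Type u) [∀ i, Field (kf i)] [∀ i, NumberField (kf i)] [∀ i, Algebra k (kf i)]
    (Lf : Fin n → Type u) [∀ i, Field (Lf i)] [∀ i, NumberField (Lf i)] [∀ i, Algebra (kf i) (Lf i)]
    [∀ i, Algebra k (Lf i)] [∀ i, IsScalarTower k (kf i) (Lf i)]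
    (a : (i : Fin n) → kf i) (ha : ∀ i, IntermediateField.adjoin k {a i} = ⊤)
    (hdist : ∀ i j, i ≠ j → minpoly k (a i) ≠ minpoly k (a j))
    (hdeg : ∑ i, Module.finrank k (kf i) ≤ 2)
    (b : (i : Fin n) → kf i) (hb : ∀ i, b i ≠ 0)
    (Sf : Finset (IsDedekindDomain.HeightOneSpectrum (NumberField.RingOfIntegers k)))
    (Si : Finset (NumberField.InfinitePlace k))
    (hSreal : ∀ w : NumberField.InfinitePlace k, w.IsReal → w ∈ Si)
    (hSb : ∀ i, ∀ W : IsDedekindDomain.HeightOneSpectrum (NumberField.RingOfIntegers (kf i)),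
      W.valuation (kf i) (b i) ≠ 1 → ∃ v ∈ Sf, W.asIdeal.LiesOver v.asIdeal)
    (hSram : ∀ i, ∀ Q : Ideal (NumberField.RingOfIntegers (Lf i)), Q.IsPrime → Q ≠ ⊥ →
      Q.ramificationIdx (NumberField.RingOfIntegers (kf i)) ≠ 1 → ∃ v ∈ Sf, Q.LiesOver v.asIdeal)
    (tf : (v : IsDedekindDomain.HeightOneSpectrum (NumberField.RingOfIntegers k)) → v.adicCompletion k)
    (ti : (w : NumberField.InfinitePlace k) → w.Completion)
    (htf : ∀ i, ∀ v ∈ Sf,
      letI := (Algebra.TensorProduct.map (AlgHom.id k (v.adicCompletion k))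
        (IsScalarTower.toAlgHom k (kf i) (Lf i))).toRingHom.toAlgebra
      ∃ x : (v.adicCompletion k) ⊗[k] Lf i, IsUnit x ∧
        Algebra.norm ((v.adicCompletion k) ⊗[k] kf i) x =
          (1 : v.adicCompletion k) ⊗ₜ[k] b i * (tf v ⊗ₜ[k] (1 : kf i) - (1 : v.adicCompletion k) ⊗ₜ[k] a i))
    (hti : ∀ i, ∀ w ∈ Si,
      letI := (Algebra.TensorProduct.map (AlgHom.id k w.Completion)
        (IsScalarTower.toAlgHom k (kf i) (Lf i))).toRingHom.toAlgebra
      ∃ x : w.Completion ⊗[k] Lf i, IsUnit x ∧
        Algebra.norm (w.Completion ⊗[k] kf i) x =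
          (1 : w.Completion) ⊗ₜ[k] b i * (ti w ⊗ₜ[k] (1 : kf i) - (1 : w.Completion) ⊗ₜ[k] a i))
    (Uf : (v : IsDedekindDomain.HeightOneSpectrum (NumberField.RingOfIntegers k)) → Set (v.adicCompletion k))
    (hUf : ∀ v ∈ Sf, IsOpen (Uf v) ∧ tf v ∈ Uf v)
    (Ui : (w : NumberField.InfinitePlace k) → Set w.Completion)
    (hUi : ∀ w ∈ Si, IsOpen (Ui w) ∧ ti w ∈ Ui w) :
    ∃ t₀ : k, (∀ v ∈ Sf, algebraMap k (v.adicCompletion k) t₀ ∈ Uf v) ∧
      (∀ w ∈ Si, algebraMap k w.Completion t₀ ∈ Ui w) ∧
      ∀ i, ∀ W : IsDedekindDomain.HeightOneSpectrum (NumberField.RingOfIntegers (kf i)),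
        W.valuation (kf i) (algebraMap k (kf i) t₀ - a i) < 1 →
          (∃ v ∈ Sf, W.asIdeal.LiesOver v.asIdeal) ∨ Nonempty (Lf i →ₐ[kf i] W.adicCompletion (kf i)) := by
  classical
  -- reconstruction of the coordinates from the values
  obtain ⟨e, e', s₁, c₁, hrec, hS1, hT1, hp1⟩ : ∃ (e e' : ∀ i, kf i) (s₁ c₁ : k),
      (∀ (u : ∀ i, kf i) (i : Fin n), algebraMap k (kf i) (∑ j, Algebra.trace k (kf j) (e' j * u j) + c₁) -
        algebraMap k (kf i) (∑ j, Algebra.trace k (kf j) (e j * u j) + s₁) * a i = u i) ∧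
      (∀ t : k, ∑ j, Algebra.trace k (kf j) (e j * (algebraMap k (kf j) t - a j)) + s₁ = 1 ∧
        ∑ j, Algebra.trace k (kf j) (e' j * (algebraMap k (kf j) t - a j)) + c₁ = t) ∧
      (∑ j, Algebra.trace k (kf j) (e j * 1) + s₁ = 0 ∨ ∑ j, Algebra.trace k (kf j) (e j * 1) + s₁ = 1) ∧
      (∀ p : k, ∑ j, Algebra.trace k (kf j) (e j * (1 - algebraMap k (kf j) p * a j)) + s₁ = p ∨
        ∑ j, Algebra.trace k (kf j) (e j * (1 - algebraMap k (kf j) p * a j)) + s₁ = 1) := by
    haveI : ∀ i, FiniteDimensional k (kf i) := fun i => Module.Finite.of_restrictScalars_finite ℚ k (kf i)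
    have hpos : ∀ i, 1 ≤ Module.finrank k (kf i) := fun i => Module.finrank_pos
    by_cases hsum : ∑ i, Module.finrank k (kf i) = 2
    · let Φ : k × k →ₗ[k] ((i : Fin n) → kf i) :=
        { toFun := fun p i => algebraMap k (kf i) p.2 - algebraMap k (kf i) p.1 * a i
          map_add' := fun p q => by
            funext i
            simp only [Prod.fst_add, Prod.snd_add, map_add, Pi.add_apply]
            ring
          map_smul' := fun c p => by
            funext i
            simp only [Prod.smul_fst, Prod.smul_snd, RingHom.id_apply, Pi.smul_apply]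
            simp only [smul_eq_mul, map_mul, Algebra.smul_def]
            ring }
      have hΦ : Function.Injective Φ := by
        rw [injective_iff_map_eq_zero]
        rintro ⟨s, c⟩ h
        have h' : ∀ i, algebraMap k (kf i) c - algebraMap k (kf i) s * a i = 0 := fun i => congrFun h i
        by_cases hs : s = 0
        · subst hs
          have := h' ⟨0, hn⟩
          rw [map_zero, zero_mul, sub_zero, _root_.map_eq_zero] at this
          rw [this]
          rfl
        · exfalso
          have ha0 : ∀ i, a i = algebraMap k (kf i) (c / s) := fun i => by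
            have h1 := h' i
            rw [sub_eq_zero] at h1
            rw [map_div₀, eq_div_iff ((_root_.map_ne_zero _).2 hs), h1, mul_comm]
          have h1 : ∀ i, Module.finrank k (kf i) = 1 := fun i => by
            have hbot : IntermediateField.adjoin k {a i} = ⊥ :=
              IntermediateField.adjoin_simple_eq_bot_iff.2 (IntermediateField.mem_bot.2 ⟨c / s, (ha0 i).symm⟩)
            rw [ha i] at hbot
            rw [← IntermediateField.finrank_top', hbot, IntermediateField.finrank_bot]
          have hn2 : n = 2 := by simpa [h1] using hsum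
          refine hdist ⟨0, by omega⟩ ⟨1, by omega⟩ (by simp) ?_
          rw [ha0, ha0, minpoly.eq_X_sub_C, minpoly.eq_X_sub_C]
      have hfr : Module.finrank k (k × k) = Module.finrank k ((i : Fin n) → kf i) := by
        rw [Module.finrank_prod, Module.finrank_self, Module.finrank_pi_fintype, hsum]
      have hsurj : Function.Surjective Φ := (LinearMap.injective_iff_surjective_of_finrank_eq_finrank hfr).1 hΦ
      let Ψ := (LinearEquiv.ofBijective Φ ⟨hΦ, hsurj⟩).symm
      have hfun : ∀ f : ((i : Fin n) → kf i) →ₗ[k] k, ∃ e : ∀ i, kf i, ∀ u : (i : Fin n) → kf i,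
          ∑ j, Algebra.trace k (kf j) (e j * u j) = f u := by
        intro f
        refine ⟨fun i => ((Algebra.traceForm k (kf i)).toDual (traceForm_nondegenerate k (kf i))).symm
          (f ∘ₗ LinearMap.single k kf i), fun u => ?_⟩
        conv_rhs => rw [← Finset.univ_sum_single u, map_sum]
        refine Finset.sum_congr rfl fun j _ => ?_
        rw [← Algebra.traceForm_apply, LinearMap.BilinForm.apply_toDual_symm_apply]
        rfl
      obtain ⟨e, he⟩ := hfun ((LinearMap.fst k k k) ∘ₗ Ψ.toLinearMap)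
      obtain ⟨e', he'⟩ := hfun ((LinearMap.snd k k k) ∘ₗ Ψ.toLinearMap)
      have hΨ : ∀ p : k × k, Ψ (Φ p) = p := fun p => (LinearEquiv.ofBijective Φ ⟨hΦ, hsurj⟩).symm_apply_apply p
      refine ⟨e, e', 0, 0, fun u i => ?_, fun t => ?_, Or.inl ?_, fun p => Or.inl ?_⟩
      · rw [he, he', add_zero, add_zero]
        exact congrFun ((LinearEquiv.ofBijective Φ ⟨hΦ, hsurj⟩).apply_symm_apply u) i
      · have hu : Φ (1, t) = fun j => algebraMap k (kf j) t - a j := by
          funext j; show algebraMap k (kf j) _ - algebraMap k (kf j) _ * a j = _; rw [map_one, one_mul]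
        rw [he, he', ← hu]
        simp [hΨ]
      · have hu : Φ (0, 1) = fun j => (1 : kf j) := by
          funext j; show algebraMap k (kf j) _ - algebraMap k (kf j) _ * a j = _; rw [map_zero, zero_mul, map_one, sub_zero]
        rw [he, ← hu]
        simp [hΨ]
      · have hu : Φ (p, 1) = fun j => 1 - algebraMap k (kf j) p * a j := by
          funext j; show algebraMap k (kf j) _ - algebraMap k (kf j) _ * a j = _; rw [map_one]
        rw [he, ← hu]
        simp [hΨ]
    · have hn1 : n = 1 := by
        have h1 : ∑ _i : Fin n, 1 ≤ ∑ i, Module.finrank k (kf i) := Finset.sum_le_sum fun i _ => hpos i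
        simp at h1
        omega
      subst hn1
      have h1 : ∀ i, Module.finrank k (kf i) = 1 := fun i => by
        have := hpos i
        rw [Fintype.sum_subsingleton _ i] at hsum hdeg
        omega
      have hbij : ∀ i, Function.Surjective (algebraMap k (kf i)) := fun i =>
        (LinearMap.injective_iff_surjective_of_finrank_eq_finrank (f := Algebra.linearMap k (kf i))
          (by rw [h1, Module.finrank_self])).1 (algebraMap k (kf i)).injective
      have htr : ∀ i (x : kf i), algebraMap k (kf i) (Algebra.trace k (kf i) x) = x := fun i x => by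
        obtain ⟨x, rfl⟩ := hbij i x
        rw [Algebra.trace_algebraMap, h1, one_smul]
      obtain ⟨a₀, ha₀⟩ := hbij 0 (a 0)
      have h0 : ∀ v : (i : Fin 1) → kf i, ∑ j, Algebra.trace k (kf j) (v j) = Algebra.trace k (kf 0) (v 0) := fun v =>
        Fintype.sum_subsingleton _ _
      refine ⟨fun _ => 0, fun _ => 1, 1, a₀, fun u i => ?_, fun t => ⟨by simp, ?_⟩, Or.inr (by simp), fun p => Or.inr (by simp)⟩
      · obtain rfl : i = 0 := Subsingleton.elim _ _
        simp only [zero_mul, map_zero, Finset.sum_const_zero, zero_add, map_one, one_mul]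
        rw [h0, map_add, htr, ha₀, add_sub_cancel_right]
      · apply (algebraMap k (kf 0)).injective
        simp only [one_mul]
        rw [h0, map_add, htr, ha₀, sub_add_cancel]
  let Sfun : (∀ i, kf i) → k := fun u => ∑ j, Algebra.trace k (kf j) (e j * u j) + s₁
  let Cfun : (∀ i, kf i) → k := fun u => ∑ j, Algebra.trace k (kf j) (e' j * u j) + c₁
  have hlin : ∀ (f : ∀ i, kf i) (d : k) (u u' : ∀ i, kf i),
      (∑ j, Algebra.trace k (kf j) (f j * u j) + d) - (∑ j, Algebra.trace k (kf j) (f j * u' j) + d) =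
        ∑ j, Algebra.trace k (kf j) (f j * (u j - u' j)) := fun f d u u' => by
    simp only [mul_sub, map_sub, Finset.sum_sub_distrib]
    ring
  -- auxiliary places
  choose pl hpl using fun (i : Fin n) (W : IsDedekindDomain.HeightOneSpectrum (RingOfIntegers (kf i))) =>
    Groth.UnramNorm.exists_place (k := k) W
  let Bad : Set (IsDedekindDomain.HeightOneSpectrum (RingOfIntegers k)) :=
    ⋃ i, pl i '' (IsDedekindDomain.HeightOneSpectrum.Support (RingOfIntegers (kf i)) (e i) ∪
      IsDedekindDomain.HeightOneSpectrum.Support (RingOfIntegers (kf i)) (a i))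
  have hBad : Bad.Finite := Set.finite_iUnion fun i =>
    ((IsDedekindDomain.HeightOneSpectrum.Support.finite _ _).union (IsDedekindDomain.HeightOneSpectrum.Support.finite _ _)).image _
  have hgood : ∀ v ∉ Bad, ∀ i (W : IsDedekindDomain.HeightOneSpectrum (RingOfIntegers (kf i))), W.asIdeal.LiesOver v.asIdeal →
      W.valuation (kf i) (e i) ≤ 1 ∧ W.valuation (kf i) (a i) ≤ 1 := fun v hv i W hW =>
    ⟨not_lt.1 fun h => hv (Set.mem_iUnion.2 ⟨i, W, Or.inl h, Groth.UnramNorm.place_unique (hpl i W) hW⟩),
      not_lt.1 fun h => hv (Set.mem_iUnion.2 ⟨i, W, Or.inr h, Groth.UnramNorm.place_unique (hpl i W) hW⟩)⟩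
  haveI : ∀ i, FiniteDimensional (kf i) (Lf i) := fun i => Module.Finite.of_restrictScalars_finite ℚ (kf i) (Lf i)
  haveI : ∀ i, FiniteDimensional k (Lf i) := fun i => Module.Finite.of_restrictScalars_finite ℚ k (Lf i)
  obtain ⟨v₁, hv₁, -⟩ := Groth.UnramNorm.exists_split_place (1 : Polynomial k) (Sf ∪ hBad.toFinset)
  rw [Finset.mem_union, not_or, hBad.mem_toFinset] at hv₁
  let S' := Sf ∪ hBad.toFinset ∪ {v₁}
  choose θ hθ using fun i => Field.exists_primitive_element (kf i) (Lf i)
  have hθ0 : ∀ i, minpoly k (θ i) ≠ 0 := fun i => minpoly.ne_zero (IsIntegral.of_finite k (θ i))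
  obtain ⟨v₀, hv₀, hv₀split⟩ := Groth.UnramNorm.exists_split_place (∏ i, minpoly k (θ i)) S'
  -- prescribed precision of the coordinates
  have hnbf : ∀ v : IsDedekindDomain.HeightOneSpectrum (RingOfIntegers k), ∃ δ : k, δ ≠ 0 ∧ (v ∈ Sf →
      ∀ s c : v.adicCompletion k, Valued.v (s - 1) ≤ v.valuation k δ → Valued.v (c - tf v) ≤ v.valuation k δ →
        s ≠ 0 ∧ c / s ∈ Uf v) := by
    intro v
    by_cases hv : v ∈ Sf
    · have ho : IsOpen ({p : v.adicCompletion k × v.adicCompletion k | p.1 ≠ 0} ∩ (fun p => p.2 / p.1) ⁻¹' Uf v) :=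
        (continuous_snd.continuousOn.div continuous_fst.continuousOn fun p hp => hp).isOpen_inter_preimage
          (isOpen_ne.preimage continuous_fst) (hUf v hv).1
      obtain ⟨A, B, hA, hB, h1, h2, hsub⟩ := isOpen_prod_iff.1 ho 1 (tf v) ⟨one_ne_zero, by simpa using (hUf v hv).2⟩
      obtain ⟨δ₁, hδ₁, hδA⟩ := Groth.UnramNorm.mem_nhds_valued v hA h1
      obtain ⟨δ₂, hδ₂, hδB⟩ := Groth.UnramNorm.mem_nhds_valued v hB h2
      rcases le_total (v.valuation k δ₁) (v.valuation k δ₂) with h | h
      · exact ⟨δ₁, hδ₁, fun _ s c hs hc => hsub (Set.mk_mem_prod (hδA s hs) (hδB c (hc.trans h)))⟩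
      · exact ⟨δ₂, hδ₂, fun _ s c hs hc => hsub (Set.mk_mem_prod (hδA s (hs.trans h)) (hδB c hc))⟩
    · exact ⟨1, one_ne_zero, fun h => absurd h hv⟩
  choose δS hδS0 hδS using hnbf
  obtain ⟨π, hπ⟩ := v₁.valuation_surjective k (WithZero.exp (-1 : ℤ))
  have hπ0 : π ≠ 0 := fun h => WithZero.exp_ne_zero (a := (-1 : ℤ)) (by rw [← hπ, h, map_zero])
  choose ϖ hϖ using fun v : IsDedekindDomain.HeightOneSpectrum (RingOfIntegers k) =>
    v.valuation_surjective k (WithZero.exp (-1 : ℤ))
  have hϖ0 : ∀ v, ϖ v ≠ 0 := fun v h => WithZero.exp_ne_zero (a := (-1 : ℤ)) (by rw [← hϖ v, h, map_zero])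
  let δ' : IsDedekindDomain.HeightOneSpectrum (RingOfIntegers k) → k := fun v =>
    if v ∈ Sf then δS v else if v = v₁ then π ^ 2 else ϖ v
  have hδ'0 : ∀ v, δ' v ≠ 0 := fun v => by
    simp only [δ']
    split_ifs
    exacts [hδS0 v, pow_ne_zero _ hπ0, hϖ0 v]
  choose D hD0 hD using fun (v : IsDedekindDomain.HeightOneSpectrum (RingOfIntegers k)) (i : Fin n) =>
    Groth.UnramNorm.exists_integralizer (K := kf i) v ![e i, e' i, (b i)⁻¹, 1]
  have hnear : ∀ v, ∃ t' : k, v ∈ Sf → Valued.v (algebraMap k (v.adicCompletion k) t' - tf v) ≤ v.valuation k (δ' v) ∧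
      ∀ i, ∃ y : Lf i, Algebra.norm (kf i) y ≠ 0 ∧
        ∀ W : IsDedekindDomain.HeightOneSpectrum (RingOfIntegers (kf i)), W.asIdeal.LiesOver v.asIdeal →
          W.valuation (kf i) (Algebra.norm (kf i) y / b i - (algebraMap k (kf i) t' - a i)) ≤
            W.valuation (kf i) (algebraMap k (kf i) (δ' v * D v i)) := by
    intro v
    by_cases hv : v ∈ Sf
    · choose x hxu hx using fun i => htf i v hv
      choose N hN htN hmain using fun i => Groth.UnramNorm.exists_norm_near_finite v (hb i) (hxu i) (hx i)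
        (mul_ne_zero (hδ'0 v) (hD0 v i))
      obtain ⟨t', ht'⟩ := (v.denseRange_algebraMap k).exists_mem_open
        ((Groth.UnramNorm.isOpen_valued_le v (hδ'0 v) (tf v)).inter (isOpen_iInter_of_finite hN))
        ⟨tf v, by simp, Set.mem_iInter.2 htN⟩
      exact ⟨t', fun _ => ⟨ht'.1, fun i => hmain i t' (Set.mem_iInter.1 ht'.2 i)⟩⟩
    · exact ⟨0, fun h => absurd h hv⟩
  choose tv htv using hnear
  have hnbi : ∀ w : InfinitePlace k, ∃ ε : ℝ, 0 < ε ∧ (w ∈ Si →
      ∀ s c : w.Completion, ‖s - 1‖ ≤ ε → ‖c - ti w‖ ≤ ε → s ≠ 0 ∧ c / s ∈ Ui w) := by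
    intro w
    by_cases hw : w ∈ Si
    · have ho : IsOpen ({p : w.Completion × w.Completion | p.1 ≠ 0} ∩ (fun p => p.2 / p.1) ⁻¹' Ui w) :=
        (continuous_snd.continuousOn.div continuous_fst.continuousOn fun p hp => hp).isOpen_inter_preimage
          (isOpen_ne.preimage continuous_fst) (hUi w hw).1
      obtain ⟨A, B, hA, hB, h1, h2, hsub⟩ := isOpen_prod_iff.1 ho 1 (ti w) ⟨one_ne_zero, by simpa using (hUi w hw).2⟩
      obtain ⟨ε₁, hε₁, hεA⟩ := Metric.isOpen_iff.1 hA _ h1
      obtain ⟨ε₂, hε₂, hεB⟩ := Metric.isOpen_iff.1 hB _ h2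
      refine ⟨min ε₁ ε₂ / 2, by positivity, fun _ s c hs hc => hsub (Set.mk_mem_prod (hεA ?_) (hεB ?_))⟩
      · rw [Metric.mem_ball, dist_eq_norm]
        exact lt_of_le_of_lt hs (by linarith [min_le_left ε₁ ε₂])
      · rw [Metric.mem_ball, dist_eq_norm]
        exact lt_of_le_of_lt hc (by linarith [min_le_right ε₁ ε₂])
    · exact ⟨1, one_pos, fun h => absurd h hw⟩
  choose ε hε hεU using hnbi
  let Cst : ℝ := 1 + ∑ i, (Module.finrank k (kf i) : ℝ) * ∑ W : InfinitePlace (kf i), (W (e i) + W (e' i))
  have hCnn : ∀ i, (0 : ℝ) ≤ (Module.finrank k (kf i) : ℝ) * ∑ W : InfinitePlace (kf i), (W (e i) + W (e' i)) := fun i =>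
    mul_nonneg (Nat.cast_nonneg _) (Finset.sum_nonneg fun W _ => add_nonneg (apply_nonneg W _) (apply_nonneg W _))
  have hCst : 0 < Cst := add_pos_of_pos_of_nonneg one_pos (Finset.sum_nonneg fun i _ => hCnn i)
  let η : InfinitePlace k → ℝ := fun w => ε w / (4 * Cst)
  have hη : ∀ w, 0 < η w := fun w => div_pos (hε w) (by positivity)
  have hneari : ∀ w : InfinitePlace k, ∃ t' : k, w ∈ Si → ‖algebraMap k w.Completion t' - ti w‖ ≤ ε w / 2 ∧
      ∀ i, ∃ y : Lf i, Algebra.norm (kf i) y ≠ 0 ∧ ∀ W : InfinitePlace (kf i), W.comap (algebraMap k (kf i)) = w →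
        W (Algebra.norm (kf i) y / b i - (algebraMap k (kf i) t' - a i)) < η w := by
    intro w
    by_cases hw : w ∈ Si
    · choose x hxu hx using fun i => hti i w hw
      choose N hN htN hmain using fun i => Groth.UnramNorm.exists_norm_near_infinite w (hb i) (hxu i) (hx i) (hη w)
      have hdense : DenseRange (algebraMap k w.Completion) := by
        exact DenseRange.comp (g := fun z : InfiniteAdeleRing k => z w)
          (Function.surjective_eval w).denseRange (InfiniteAdeleRing.denseRange_algebraMap k) (continuous_apply w)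
      obtain ⟨t', ht'⟩ := hdense.exists_mem_open (Metric.isOpen_ball.inter (isOpen_iInter_of_finite hN))
        ⟨ti w, Metric.mem_ball_self (half_pos (hε w)), Set.mem_iInter.2 htN⟩
      refine ⟨t', fun _ => ⟨?_, fun i => hmain i t' (Set.mem_iInter.1 ht'.2 i)⟩⟩
      rw [← dist_eq_norm]
      exact (Metric.mem_ball.1 ht'.1).le
    · exact ⟨0, fun h => absurd h hw⟩
  choose tw htw using hneari
  let B : ∀ i, ℝ := fun i => 1 + ∑ W : InfinitePlace (kf i), (W (b i))⁻¹
  have hB : ∀ i, 0 < B i := fun i => add_pos_of_pos_of_nonneg one_pos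
    (Finset.sum_nonneg fun W _ => inv_nonneg.2 (apply_nonneg W _))
  have hgoodT : ∀ v ∈ S', v ∉ Sf → ∀ i (W : IsDedekindDomain.HeightOneSpectrum (RingOfIntegers (kf i))),
      W.asIdeal.LiesOver v.asIdeal → W.valuation (kf i) (b i) = 1 := fun v _ hv i W hW =>
    by_contra fun h => by
      obtain ⟨v', hv', hW'⟩ := hSb i W h
      exact hv (Groth.UnramNorm.place_unique hW hW' ▸ hv')
  let g : ∀ i, IsDedekindDomain.HeightOneSpectrum (RingOfIntegers k) → kf i := fun i v =>
    if v = v₁ then 1 - algebraMap k (kf i) π * a i else 1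
  have hπW : ∀ i (W : IsDedekindDomain.HeightOneSpectrum (RingOfIntegers (kf i))), W.asIdeal.LiesOver v₁.asIdeal →
      W.valuation (kf i) (algebraMap k (kf i) π * a i) < 1 := by
    intro i W hW
    rw [map_mul]
    obtain ⟨ei, hei, he⟩ := Groth.UnramNorm.valuation_eq_pow hW
    rw [he]
    refine lt_of_le_of_lt (mul_le_of_le_one_right zero_le (hgood v₁ hv₁.2 i W hW).2) (pow_lt_one₀ zero_le ?_ hei)
    rw [hπ, ← WithZero.exp_zero, WithZero.exp_lt_exp]
    omega
  have hg : ∀ i v (W : IsDedekindDomain.HeightOneSpectrum (RingOfIntegers (kf i))), W.asIdeal.LiesOver v.asIdeal →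
      W.valuation (kf i) (g i v) = 1 := by
    intro i v W hW
    simp only [g]
    split_ifs with h
    · subst h
      rw [Valuation.map_sub_eq_of_lt_left _ (by rw [map_one]; exact hπW i W hW), map_one]
    · exact map_one _
  have hvals : ∀ i, ∃ t : kf i,
      (∀ v ∈ Sf, ∀ W : IsDedekindDomain.HeightOneSpectrum (RingOfIntegers (kf i)), W.asIdeal.LiesOver v.asIdeal →
        W.valuation (kf i) (t / b i - (algebraMap k (kf i) (tv v) - a i)) ≤ W.valuation (kf i) (algebraMap k (kf i) (δ' v * D v i))) ∧
      (∀ v ∈ S', v ∉ Sf → ∀ W : IsDedekindDomain.HeightOneSpectrum (RingOfIntegers (kf i)), W.asIdeal.LiesOver v.asIdeal →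
        W.valuation (kf i) (t / b i - g i v) ≤ W.valuation (kf i) (algebraMap k (kf i) (δ' v * D v i))) ∧
      (∀ w ∈ Si, ∀ W : InfinitePlace (kf i), W.comap (algebraMap k (kf i)) = w →
        W (t / b i - (algebraMap k (kf i) (tw w) - a i)) ≤ 2 * η w) ∧
      ∀ (v : IsDedekindDomain.HeightOneSpectrum (RingOfIntegers k))
        (W : IsDedekindDomain.HeightOneSpectrum (RingOfIntegers (kf i))), v ∉ Sf → W.asIdeal.LiesOver v.asIdeal →
        (v ∉ S' → v ≠ v₀ → W.valuation (kf i) t ≤ 1) ∧
        (W.valuation (kf i) t = 1 ∨ Nonempty (Lf i →ₐ[kf i] W.adicCompletion (kf i))) := by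
    intro i
    choose yv hyv0 hyv using fun v (hv : v ∈ Sf) => (htv v hv).2 i
    choose yw hyw0 hyw using fun w (hw : w ∈ Si) => (htw w hw).2 i
    let r : IsDedekindDomain.HeightOneSpectrum (RingOfIntegers k) → kf i := fun v =>
      if hv : v ∈ Sf then Algebra.norm (kf i) (yv v hv) else b i * g i v
    let ri : InfinitePlace k → kf i := fun w => if hw : w ∈ Si then Algebra.norm (kf i) (yw w hw) else 1
    have hsplit : ∀ W : IsDedekindDomain.HeightOneSpectrum (RingOfIntegers (kf i)), W.asIdeal.LiesOver v₀.asIdeal →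
        Nonempty (Lf i →ₐ[kf i] W.adicCompletion (kf i)) := fun W hW =>
      Groth.UnramNorm.nonempty_algHom_of_splits (θ i) (hθ i)
        (Finset.prod_ne_zero_iff.2 fun i _ => hθ0 i) (Finset.dvd_prod_of_mem _ (Finset.mem_univ i)) _
        (hv₀split (kf i) W hW)
    obtain ⟨t, ht1, ht2, ht3⟩ := Groth.UnramNorm.exists_value (Lf i) v₀ S' hv₀ hsplit r (fun v hv => by
        simp only [r]
        split_ifs with h
        · exact hyv0 v h
        · refine mul_ne_zero (hb i) fun h0 => ?_
          haveI := v.isPrime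
          obtain ⟨Q, hQ⟩ := Ideal.nonempty_primesOver (S := RingOfIntegers (kf i)) (P := v.asIdeal)
          have := hg i v ⟨Q, hQ.1, haveI := hQ.2; Ideal.ne_bot_of_liesOver_of_ne_bot v.ne_bot Q⟩ hQ.2
          rw [h0, map_zero] at this
          exact zero_ne_one this)
      (fun v hv W hW => by
        simp only [r]
        split_ifs with h
        · exact ⟨_, Groth.UnramNorm.norm_one_tmul_self (kf i) (Lf i) (W.adicCompletion (kf i)) (yv v h)⟩
        · obtain ⟨x, -, hx⟩ := Groth.UnramNorm.exists_norm_eq_of_valuation_eq_one W (kf i) (Lf i)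
            (fun Q hQ hQW => Groth.UnramNorm.unramified_of_notMem (hSram i) h Q hQ
              (haveI := hQW; haveI := hW; Ideal.LiesOver.trans Q W.asIdeal v.asIdeal))
            (b i * g i v) (fun W' hW' => by
              obtain rfl : W' = W := IsDedekindDomain.HeightOneSpectrum.ext (hW'.over.trans rfl).symm
              rw [map_mul, hgoodT v hv h i W' hW, hg i v W' hW, one_mul])
          exact ⟨x, Groth.UnramNorm.norm_eq_algebraMap (kf i) (Lf i) _ hx⟩)
      (fun v => if v ∈ S' then δ' v * D v i * D v i else 1) (fun v hv => by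
        rw [if_pos hv]; exact mul_ne_zero (mul_ne_zero (hδ'0 v) (hD0 v i)) (hD0 v i))
      Si ri (fun w hw => by simp only [ri, dif_pos hw]; exact hyw0 w hw)
      (fun w hw W hW => by
        simp only [ri, dif_pos hw]
        exact ⟨_, Groth.UnramNorm.norm_one_tmul_self (kf i) (Lf i) W.Completion (yw w hw)⟩)
      (fun w => η w / B i) (fun w _ => div_pos (hη w) (hB i))
    have hdiv : ∀ v ∈ S', ∀ W : IsDedekindDomain.HeightOneSpectrum (RingOfIntegers (kf i)), W.asIdeal.LiesOver v.asIdeal →
        W.valuation (kf i) ((t - r v) / b i) ≤ W.valuation (kf i) (algebraMap k (kf i) (δ' v * D v i)) := by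
      intro v hv W hW
      have h := ht1 v hv W hW
      rw [if_pos hv, map_mul (algebraMap k (kf i)) (δ' v * D v i), map_mul] at h
      have hDb := hD v i 2 W hW
      simp only [Matrix.cons_val] at hDb
      rw [map_mul] at hDb
      rw [div_eq_mul_inv, map_mul]
      refine (mul_le_mul_of_nonneg_right h zero_le).trans ?_
      rw [mul_assoc]
      exact mul_le_of_le_one_right zero_le hDb
    refine ⟨t, fun v hv W hW => ?_, fun v hv hvS W hW => ?_, fun w hw W hW => ?_, fun v W hv hW => ?_⟩
    · have h1 := hdiv v (Finset.mem_union_left _ (Finset.mem_union_left _ hv)) W hW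
      simp only [r, dif_pos hv] at h1
      have e1 : t / b i - (algebraMap k (kf i) (tv v) - a i) = (t - Algebra.norm (kf i) (yv v hv)) / b i +
          (Algebra.norm (kf i) (yv v hv) / b i - (algebraMap k (kf i) (tv v) - a i)) := by ring
      rw [e1]
      exact (Valuation.map_add _ _ _).trans (max_le h1 (hyv v hv W hW))
    · have h1 := hdiv v hv W hW
      simp only [r, dif_neg hvS] at h1
      rwa [sub_div, mul_div_cancel_left₀ _ (hb i)] at h1
    · have h1 := ht2 w hw W hW
      simp only [ri, dif_pos hw] at h1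
      have e1 : t / b i - (algebraMap k (kf i) (tw w) - a i) = (t - Algebra.norm (kf i) (yw w hw)) * (b i)⁻¹ +
          (Algebra.norm (kf i) (yw w hw) / b i - (algebraMap k (kf i) (tw w) - a i)) := by ring
      rw [e1]
      refine (W.1.add_le _ _).trans ?_
      show W _ + W _ ≤ _
      have hWb : (W (b i))⁻¹ ≤ B i := (Finset.single_le_sum (f := fun W : InfinitePlace (kf i) => (W (b i))⁻¹)
        (fun W _ => inv_nonneg.2 (apply_nonneg W _)) (Finset.mem_univ W)).trans (le_add_of_nonneg_left zero_le_one)
      have h3 : W ((t - Algebra.norm (kf i) (yw w hw)) * (b i)⁻¹) ≤ η w := by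
        rw [map_mul, map_inv₀]
        exact (mul_le_mul h1.le hWb (inv_nonneg.2 (apply_nonneg W _)) (div_nonneg (hη w).le (hB i).le)).trans_eq
          (div_mul_cancel₀ _ (hB i).ne')
      linarith [(hyw w hw W hW)]
    · by_cases hvS' : v ∈ S'
      · refine ⟨fun h => absurd hvS' h, Or.inl ?_⟩
        have h1 := hdiv v hvS' W hW
        simp only [r, dif_neg hv] at h1
        rw [sub_div, mul_div_cancel_left₀ _ (hb i)] at h1
        have hD1 := hD v i 3 W hW
        simp only [Matrix.cons_val, mul_one] at hD1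
        have hlt : W.valuation (kf i) (t / b i - g i v) < 1 := by
          refine lt_of_le_of_lt h1 ?_
          rw [map_mul, map_mul]
          refine lt_of_le_of_lt (mul_le_of_le_one_right zero_le hD1) ?_
          obtain ⟨ei, hei, he⟩ := Groth.UnramNorm.valuation_eq_pow hW
          rw [he]
          refine pow_lt_one₀ zero_le ?_ hei
          simp only [δ', if_neg hv]
          split_ifs with h
          · subst h
            rw [map_pow, hπ]
            exact pow_lt_one₀ zero_le (by rw [← WithZero.exp_zero, WithZero.exp_lt_exp]; omega) two_ne_zero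
          · rw [hϖ, ← WithZero.exp_zero, WithZero.exp_lt_exp]
            omega
        have h2 : W.valuation (kf i) (t / b i) = 1 := by
          rw [Valuation.map_eq_of_sub_lt _ (hg i v W hW |>.symm ▸ hlt), hg i v W hW]
        rwa [map_div₀, hgoodT v hvS' hv i W hW, div_one] at h2
      · exact ⟨fun _ hne => (ht3 v W hvS' hW).1 hne, (ht3 v W hvS' hW).2⟩
  choose t htS htT hti' htout using hvals
  let u : ∀ i, kf i := fun i => t i / b i
  set s := Sfun u with hs_def
  set c := Cfun u with hc_def
  -- traces of small elements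
  have htrace : ∀ (f : ∀ i, kf i) (v : IsDedekindDomain.HeightOneSpectrum (RingOfIntegers k)) (z : ∀ i, kf i),
      (∀ i (W : IsDedekindDomain.HeightOneSpectrum (RingOfIntegers (kf i))), W.asIdeal.LiesOver v.asIdeal →
        W.valuation (kf i) (algebraMap k (kf i) (D v i) * f i) ≤ 1) →
      (∀ i (W : IsDedekindDomain.HeightOneSpectrum (RingOfIntegers (kf i))), W.asIdeal.LiesOver v.asIdeal →
        W.valuation (kf i) (z i) ≤ W.valuation (kf i) (algebraMap k (kf i) (δ' v * D v i))) →
      v.valuation k (∑ j, Algebra.trace k (kf j) (f j * z j)) ≤ v.valuation k (δ' v) := by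
    intro f v z hf hz
    refine Valuation.map_sum_le _ fun j _ => Groth.UnramNorm.valuation_trace_le v _ (hδ'0 v) fun W hW => ?_
    rw [map_mul]
    refine (mul_le_mul_of_nonneg_left (hz j W hW) zero_le).trans ?_
    rw [map_mul (algebraMap k (kf j)), map_mul, mul_comm, mul_assoc, ← map_mul]
    exact mul_le_of_le_one_right zero_le (hf j W hW)
  have hDe : ∀ v i (W : IsDedekindDomain.HeightOneSpectrum (RingOfIntegers (kf i))), W.asIdeal.LiesOver v.asIdeal →
      W.valuation (kf i) (algebraMap k (kf i) (D v i) * e i) ≤ 1 := fun v i W hW => by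
    simpa using hD v i 0 W hW
  have hDe' : ∀ v i (W : IsDedekindDomain.HeightOneSpectrum (RingOfIntegers (kf i))), W.asIdeal.LiesOver v.asIdeal →
      W.valuation (kf i) (algebraMap k (kf i) (D v i) * e' i) ≤ 1 := fun v i W hW => by
    simpa using hD v i 1 W hW
  have hsv₁ : s ≠ 0 := by
    intro h0
    have hmem : v₁ ∈ S' := Finset.mem_union_right _ (Finset.mem_singleton_self _)
    have h1 := htrace e v₁ (fun j => u j - (1 - algebraMap k (kf j) π * a j)) (hDe v₁) (fun j W hW => by
      have := htT j v₁ hmem hv₁.1 W hW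
      rwa [show g j v₁ = 1 - algebraMap k (kf j) π * a j from if_pos rfl] at this)
    rw [← hlin e s₁, show ∑ j, Algebra.trace k (kf j) (e j * u j) + s₁ = s from rfl, h0, zero_sub, Valuation.map_neg] at h1
    have hδ1 : δ' v₁ = π ^ 2 := by simp only [δ', if_neg hv₁.1, if_pos]
    rw [hδ1, map_pow, hπ, ← WithZero.exp_nsmul] at h1
    rcases hp1 π with h | h <;> rw [h] at h1
    · rw [hπ, WithZero.exp_le_exp] at h1
      norm_num at h1
    · rw [map_one, ← WithZero.exp_zero, WithZero.exp_le_exp] at h1
      norm_num at h1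
  have hsint : ∀ v : IsDedekindDomain.HeightOneSpectrum (RingOfIntegers k), v ∉ Sf → v ≠ v₀ →
      v.valuation k s ≤ 1 := by
    intro v hv hne
    by_cases hvS' : v ∈ S'
    · have hδle : v.valuation k (δ' v) ≤ 1 := by
        simp only [δ', if_neg hv]
        split_ifs with h
        · subst h
          rw [map_pow, hπ]
          exact pow_le_one₀ zero_le (by rw [← WithZero.exp_zero, WithZero.exp_le_exp]; omega)
        · rw [hϖ, ← WithZero.exp_zero, WithZero.exp_le_exp]
          omega
      have h1 := htrace e v (fun j => u j - g j v) (hDe v) fun j W hW => htT j v hvS' hv W hW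
      rw [← hlin e s₁] at h1
      have hSg : v.valuation k (∑ j, Algebra.trace k (kf j) (e j * g j v) + s₁) ≤ 1 := by
        by_cases h : v = v₁
        · subst h
          simp only [g, if_pos]
          rcases hp1 π with h | h <;> rw [h]
          · rw [hπ, ← WithZero.exp_zero, WithZero.exp_le_exp]
            omega
          · rw [map_one]
        · simp only [g, if_neg h]
          rcases hT1 with h | h <;> rw [h] <;> simp
      have e1 : s = (∑ j, Algebra.trace k (kf j) (e j * u j) + s₁ - (∑ j, Algebra.trace k (kf j) (e j * g j v) + s₁)) +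
          (∑ j, Algebra.trace k (kf j) (e j * g j v) + s₁) := (sub_add_cancel _ _).symm
      rw [e1]
      exact (Valuation.map_add _ _ _).trans (max_le (h1.trans hδle) hSg)
    · have hvBad : v ∉ Bad := fun h => hvS' (Finset.mem_union_left _ (Finset.mem_union_right _ (hBad.mem_toFinset.2 h)))
      have hs₁ : v.valuation k s₁ ≤ 1 := by
        have hsum : v.valuation k (∑ j, Algebra.trace k (kf j) (e j * 1)) ≤ 1 := Valuation.map_sum_le _ fun j _ =>
          Groth.UnramNorm.valuation_trace_le_one v _ fun W hW => by rw [mul_one]; exact (hgood v hvBad j W hW).1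
        have hall : v.valuation k (∑ j, Algebra.trace k (kf j) (e j * 1) + s₁) ≤ 1 := by
          rcases hT1 with h | h <;> rw [h] <;> simp
        rw [show s₁ = (∑ j, Algebra.trace k (kf j) (e j * 1) + s₁) - ∑ j, Algebra.trace k (kf j) (e j * 1) by ring]
        exact (Valuation.map_sub _ _ _).trans (max_le hall hsum)
      refine (Valuation.map_add _ _ _).trans (max_le (Valuation.map_sum_le _ fun j _ =>
        Groth.UnramNorm.valuation_trace_le_one v _ fun W hW => ?_) hs₁)
      rw [map_mul]
      refine mul_le_one' (hgood v hvBad j W hW).1 ?_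
      show W.valuation (kf j) (t j / b j) ≤ 1
      rw [map_div₀, show W.valuation (kf j) (b j) = 1 from by_contra fun h => by
        obtain ⟨v', hv', hW'⟩ := hSb j W h
        exact hv (Groth.UnramNorm.place_unique hW hW' ▸ hv'), div_one]
      exact (htout j v W hv hW).1 hvS' hne
  refine ⟨c / s, fun v hv => ?_, fun w hw => ?_, fun i W hlt => ?_⟩
  · have h1 := htrace e v (fun j => u j - (algebraMap k (kf j) (tv v) - a j)) (hDe v) fun j W hW => htS j v hv W hW
    have h2 := htrace e' v (fun j => u j - (algebraMap k (kf j) (tv v) - a j)) (hDe' v) fun j W hW => htS j v hv W hW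
    rw [← hlin e s₁, (hS1 (tv v)).1] at h1
    rw [← hlin e' c₁, (hS1 (tv v)).2] at h2
    have hδ : δ' v = δS v := if_pos hv
    rw [map_div₀]
    refine (hδS v hv _ _ ?_ ?_).2
    · rw [← map_one (algebraMap k (v.adicCompletion k)), ← map_sub, Groth.UnramNorm.valued_algebraMap, ← hδ]
      exact h1
    · rw [show algebraMap k (v.adicCompletion k) c - tf v = algebraMap k (v.adicCompletion k) (c - tv v) +
          (algebraMap k (v.adicCompletion k) (tv v) - tf v) by rw [map_sub]; ring]
      refine (Valuation.map_add _ _ _).trans (max_le ?_ (hδ ▸ (htv v hv).1))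
      rw [Groth.UnramNorm.valued_algebraMap, ← hδ]
      exact h2
  · have hsmall : ∀ f : ∀ i, kf i, (∀ j (W : InfinitePlace (kf j)), W (f j) ≤ W (e j) + W (e' j)) →
        w (∑ j, Algebra.trace k (kf j) (f j * (u j - (algebraMap k (kf j) (tw w) - a j)))) ≤ ε w / 2 := by
      intro f hf
      refine (w.1.sum_le _ _).trans ?_
      calc ∑ j, w (Algebra.trace k (kf j) (f j * (u j - (algebraMap k (kf j) (tw w) - a j))))
          ≤ ∑ j, (Module.finrank k (kf j) : ℝ) * ((∑ W : InfinitePlace (kf j), (W (e j) + W (e' j))) * (2 * η w)) :=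
            Finset.sum_le_sum fun j _ => Groth.UnramNorm.infinitePlace_trace_le w _ _ fun W hW => by
              rw [map_mul]
              exact mul_le_mul ((hf j W).trans (Finset.single_le_sum (f := fun W : InfinitePlace (kf j) => W (e j) + W (e' j))
                  (fun W _ => add_nonneg (apply_nonneg W _) (apply_nonneg W _)) (Finset.mem_univ W)))
                (hti' j w hw W hW) (apply_nonneg W _)
                (Finset.sum_nonneg fun W _ => add_nonneg (apply_nonneg W _) (apply_nonneg W _))
        _ = (∑ j, (Module.finrank k (kf j) : ℝ) * ∑ W : InfinitePlace (kf j), (W (e j) + W (e' j))) * (2 * η w) := by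
            rw [Finset.sum_mul]
            exact Finset.sum_congr rfl fun j _ => (mul_assoc _ _ _).symm
        _ ≤ Cst * (2 * η w) := mul_le_mul_of_nonneg_right (le_add_of_nonneg_left zero_le_one)
            (mul_nonneg two_pos.le (hη w).le)
        _ = ε w / 2 := by simp only [η]; field_simp; ring
    have h1 := hsmall e fun j W => le_add_of_nonneg_right (apply_nonneg W _)
    have h2 := hsmall e' fun j W => le_add_of_nonneg_left (apply_nonneg W _)
    rw [← hlin e s₁, (hS1 (tw w)).1] at h1
    rw [← hlin e' c₁, (hS1 (tw w)).2] at h2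
    rw [map_div₀]
    refine (hεU w hw _ _ ?_ ?_).2
    · rw [← map_one (algebraMap k w.Completion), ← map_sub, Groth.UnramNorm.norm_algebraMap_completion]
      exact h1.trans (half_le_self (hε w).le)
    · rw [show algebraMap k w.Completion c - ti w = algebraMap k w.Completion (c - tw w) +
          (algebraMap k w.Completion (tw w) - ti w) by rw [map_sub]; ring]
      refine (norm_add_le _ _).trans ?_
      rw [Groth.UnramNorm.norm_algebraMap_completion]
      have h3 := (htw w hw).1
      have h4 : w (c - tw w) ≤ ε w / 2 := h2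
      linarith
  · by_cases hWS : ∃ v ∈ Sf, W.asIdeal.LiesOver v.asIdeal
    · exact Or.inl hWS
    right
    obtain ⟨v, hW⟩ := Groth.UnramNorm.exists_place (k := k) W
    have hv : v ∉ Sf := fun h => hWS ⟨v, h, hW⟩
    by_cases hv0 : v = v₀
    · subst hv0
      exact Groth.UnramNorm.nonempty_algHom_of_splits (θ i) (hθ i)
        (Finset.prod_ne_zero_iff.2 fun i _ => hθ0 i) (Finset.dvd_prod_of_mem _ (Finset.mem_univ i)) _
        (hv₀split (kf i) W hW)
    refine ((htout i v W hv hW).2).resolve_left fun ht1 => ?_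
    have hrec' := hrec u i
    have hsne : algebraMap k (kf i) s ≠ 0 := (_root_.map_ne_zero _).2 hsv₁
    have e1 : algebraMap k (kf i) (c / s) - a i = u i / algebraMap k (kf i) s := by
      rw [map_div₀, eq_div_iff hsne, sub_mul, div_mul_cancel₀ _ hsne, ← hrec', mul_comm (a i)]
    have hb1 : W.valuation (kf i) (b i) = 1 := by_contra fun h => hWS (hSb i W h)
    rw [e1, map_div₀, show W.valuation (kf i) (u i) = 1 by
      show W.valuation (kf i) (t i / b i) = 1
      rw [map_div₀, ht1, hb1, div_one]] at hlt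
    refine absurd hlt (not_lt.2 ((one_le_div₀ (zero_lt_iff.2 ((Valuation.ne_zero_iff _).2 hsne))).2 ?_))
    exact Groth.UnramNorm.valuation_le_one hW (hsint v hv hv0)

end Groth.Agent.S19285
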