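import Groth.Statements.S19286
import Mathlib
import Groth.Agent.UnramNorm.Data
import Groth.Agent.StrongApx.Basic

set_option autoImplicit false
universe u
open scoped TensorProduct
open NumberField

namespace Groth.Agent.S19286

/-- Invariance, under a linear change of coordinate on the projective line, of the hypotheses (the data
listed next) of a conjecture on locally split values. Data: k a number field, n ≥ 1, k_i = k(a_i)
with pairwise distinct minimal polynomials, L_i/k_i finite, b_i ∈ k_i nonzero, finite sets S_f ⊇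
(finite places below a non-unit place of some b_i or a ramified prime of some L_i/k_i), S_∞ ⊇ real
places, t_v ∈ k_v for v ∈ S_f ∪ S_∞ with b_i(t_v − a_i) the norm of a unit of k_v ⊗_k L_i over k_v
⊗_k k_i. Let α, β, γ, δ ∈ k with αδ − βγ ≠ 0 satisfy: (i) γa_i + δ ≠ 0 for all i and γt_v + δ ≠ 0
for v ∈ S_f ∪ S_∞; (ii) α is a unit at every finite place outside S_f and αa_i + β is a unit at
every finite place of k_i not above S_f; (iii) for every i and v ∈ S_f ∪ S_∞, (αδ − βγ)/(γt_v + δ)
is the norm of a unit of k_v ⊗_k L_i. Put a'_i = (αa_i + β)/(γa_i + δ), b'_i = b_i(γa_i + δ); let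
S'_f ⊇ S_f be a finite set of finite places containing those where α or γ is not integral and those
below a place of some k_i where a'_i is not integral or b'_i is not a unit; put t'_v = (αt_v +
β)/(γt_v + δ) for v ∈ S_f ∪ S_∞ and t'_v = 0 for v ∈ S'_f ∖ S_f; for t'_0 ∈ k with α ≠ γt'_0 write
t_0 = (δt'_0 − β)/(α − γt'_0). Then: (1) for every i and v ∈ S'_f ∪ S_∞, b'_i(t'_v − a'_i) is the
norm of a unit of k_v ⊗_k L_i over k_v ⊗_k k_i; (2) for v ∈ S_f ∪ S_∞ and every neighbourhood U of
t_v there is a neighbourhood U' of t'_v such that t'_0 ∈ U' forces t_0 ∈ U; (4) there are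
neighbourhoods U'_v of 0 in k_v for v ∈ S'_f ∖ S_f such that whenever t'_0 ∈ U'_v for all such v,
every finite place w of some k_i with w(t_0 − a_i) > 0 either lies above S_f, or does not lie above
S'_f and satisfies w(t'_0 − a'_i) > 0. (The published statement's S' may also contain further
infinite places, and it has a further conclusion on signs at real places; both are omitted here.) -/
theorem result (k : Type u) [Field k] [NumberField k]
    (n : ℕ) (hn : 1 ≤ n)
    (kf : Fin n → Type u) [∀ i, Field (kf i)] [∀ i, NumberField (kf i)] [∀ i, Algebra k (kf i)]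
    (Lf : Fin n → Type u) [∀ i, Field (Lf i)] [∀ i, NumberField (Lf i)] [∀ i, Algebra (kf i) (Lf i)]
    [∀ i, Algebra k (Lf i)] [∀ i, IsScalarTower k (kf i) (Lf i)]
    (a : (i : Fin n) → kf i) (ha : ∀ i, IntermediateField.adjoin k {a i} = ⊤)
    (hdist : ∀ i j, i ≠ j → minpoly k (a i) ≠ minpoly k (a j))
    (b : (i : Fin n) → kf i) (hb : ∀ i, b i ≠ 0)
    (Sf : Finset (IsDedekindDomain.HeightOneSpectrum (NumberField.RingOfIntegers k)))
    (Si : Finset (NumberField.InfinitePlace k))
    (hSreal : ∀ w : NumberField.InfinitePlace k, w.IsReal → w ∈ Si)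
    (hSb : ∀ i, ∀ W : IsDedekindDomain.HeightOneSpectrum (NumberField.RingOfIntegers (kf i)),
      W.valuation (kf i) (b i) ≠ 1 → ∃ v ∈ Sf, W.asIdeal.LiesOver v.asIdeal)
    (hSram : ∀ i, ∀ Q : Ideal (NumberField.RingOfIntegers (Lf i)), Q.IsPrime → Q ≠ ⊥ →
      Q.ramificationIdx (NumberField.RingOfIntegers (kf i)) ≠ 1 → ∃ v ∈ Sf, Q.LiesOver v.asIdeal)
    (tf : (v : IsDedekindDomain.HeightOneSpectrum (NumberField.RingOfIntegers k)) → v.adicCompletion k)
    (ti : (w : NumberField.InfinitePlace k) → w.Completion)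
    (htf : ∀ i, ∀ v ∈ Sf,
      letI := (Algebra.TensorProduct.map (AlgHom.id k (v.adicCompletion k))
        (IsScalarTower.toAlgHom k (kf i) (Lf i))).toRingHom.toAlgebra
      ∃ x : (v.adicCompletion k) ⊗[k] Lf i, IsUnit x ∧
        Algebra.norm ((v.adicCompletion k) ⊗[k] kf i) x =
          (1 : v.adicCompletion k) ⊗ₜ[k] b i * (tf v ⊗ₜ[k] (1 : kf i) - (1 : v.adicCompletion k) ⊗ₜ[k] a i))
    (hti : ∀ i, ∀ w ∈ Si,
      letI := (Algebra.TensorProduct.map (AlgHom.id k w.Completion)
        (IsScalarTower.toAlgHom k (kf i) (Lf i))).toRingHom.toAlgebra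
      ∃ x : w.Completion ⊗[k] Lf i, IsUnit x ∧
        Algebra.norm (w.Completion ⊗[k] kf i) x =
          (1 : w.Completion) ⊗ₜ[k] b i * (ti w ⊗ₜ[k] (1 : kf i) - (1 : w.Completion) ⊗ₜ[k] a i))
    (α β γ δ : k) (hdet : α * δ - β * γ ≠ 0)
    (hia : ∀ i, algebraMap k (kf i) γ * a i + algebraMap k (kf i) δ ≠ 0)
    (hitf : ∀ v ∈ Sf, algebraMap k (v.adicCompletion k) γ * tf v + algebraMap k (v.adicCompletion k) δ ≠ 0)
    (hiti : ∀ w ∈ Si, algebraMap k w.Completion γ * ti w + algebraMap k w.Completion δ ≠ 0)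
    (hiiα : ∀ v : IsDedekindDomain.HeightOneSpectrum (NumberField.RingOfIntegers k), v ∉ Sf → v.valuation k α = 1)
    (hiia : ∀ i, ∀ W : IsDedekindDomain.HeightOneSpectrum (NumberField.RingOfIntegers (kf i)),
      (¬ ∃ v ∈ Sf, W.asIdeal.LiesOver v.asIdeal) →
        W.valuation (kf i) (algebraMap k (kf i) α * a i + algebraMap k (kf i) β) = 1)
    (hiiif : ∀ i, ∀ v ∈ Sf,
      letI := (Algebra.TensorProduct.map (AlgHom.id k (v.adicCompletion k))
        (IsScalarTower.toAlgHom k (kf i) (Lf i))).toRingHom.toAlgebra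
      ∃ y : (v.adicCompletion k) ⊗[k] Lf i, IsUnit y ∧
        Algebra.norm ((v.adicCompletion k) ⊗[k] kf i) y =
          (algebraMap k (v.adicCompletion k) (α * δ - β * γ) /
            (algebraMap k (v.adicCompletion k) γ * tf v + algebraMap k (v.adicCompletion k) δ)) ⊗ₜ[k] (1 : kf i))
    (hiiii : ∀ i, ∀ w ∈ Si,
      letI := (Algebra.TensorProduct.map (AlgHom.id k w.Completion)
        (IsScalarTower.toAlgHom k (kf i) (Lf i))).toRingHom.toAlgebra
      ∃ y : w.Completion ⊗[k] Lf i, IsUnit y ∧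
        Algebra.norm (w.Completion ⊗[k] kf i) y =
          (algebraMap k w.Completion (α * δ - β * γ) /
            (algebraMap k w.Completion γ * ti w + algebraMap k w.Completion δ)) ⊗ₜ[k] (1 : kf i))
    (a' b' : (i : Fin n) → kf i)
    (ha' : ∀ i, a' i = (algebraMap k (kf i) α * a i + algebraMap k (kf i) β) /
      (algebraMap k (kf i) γ * a i + algebraMap k (kf i) δ))
    (hb' : ∀ i, b' i = b i * (algebraMap k (kf i) γ * a i + algebraMap k (kf i) δ))
    (Sf' : Finset (IsDedekindDomain.HeightOneSpectrum (NumberField.RingOfIntegers k))) (hSS' : Sf ⊆ Sf')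
    (hS'αγ : ∀ v : IsDedekindDomain.HeightOneSpectrum (NumberField.RingOfIntegers k), v ∉ Sf' →
      v.valuation k α ≤ 1 ∧ v.valuation k γ ≤ 1)
    (hS'ab : ∀ i, ∀ W : IsDedekindDomain.HeightOneSpectrum (NumberField.RingOfIntegers (kf i)),
      (¬ ∃ v ∈ Sf', W.asIdeal.LiesOver v.asIdeal) → W.valuation (kf i) (a' i) ≤ 1 ∧ W.valuation (kf i) (b' i) = 1)
    (tf' : (v : IsDedekindDomain.HeightOneSpectrum (NumberField.RingOfIntegers k)) → v.adicCompletion k)
    (htf'S : ∀ v ∈ Sf, tf' v = (algebraMap k (v.adicCompletion k) α * tf v + algebraMap k (v.adicCompletion k) β) /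
      (algebraMap k (v.adicCompletion k) γ * tf v + algebraMap k (v.adicCompletion k) δ))
    (htf'S' : ∀ v ∈ Sf', v ∉ Sf → tf' v = 0)
    (ti' : (w : NumberField.InfinitePlace k) → w.Completion)
    (hti' : ∀ w ∈ Si, ti' w = (algebraMap k w.Completion α * ti w + algebraMap k w.Completion β) /
      (algebraMap k w.Completion γ * ti w + algebraMap k w.Completion δ)) :
    (∀ i, ∀ v ∈ Sf',
      letI := (Algebra.TensorProduct.map (AlgHom.id k (v.adicCompletion k))
        (IsScalarTower.toAlgHom k (kf i) (Lf i))).toRingHom.toAlgebra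
      ∃ x : (v.adicCompletion k) ⊗[k] Lf i, IsUnit x ∧
        Algebra.norm ((v.adicCompletion k) ⊗[k] kf i) x =
          (1 : v.adicCompletion k) ⊗ₜ[k] b' i * (tf' v ⊗ₜ[k] (1 : kf i) - (1 : v.adicCompletion k) ⊗ₜ[k] a' i)) ∧
    (∀ i, ∀ w ∈ Si,
      letI := (Algebra.TensorProduct.map (AlgHom.id k w.Completion)
        (IsScalarTower.toAlgHom k (kf i) (Lf i))).toRingHom.toAlgebra
      ∃ x : w.Completion ⊗[k] Lf i, IsUnit x ∧
        Algebra.norm (w.Completion ⊗[k] kf i) x =
          (1 : w.Completion) ⊗ₜ[k] b' i * (ti' w ⊗ₜ[k] (1 : kf i) - (1 : w.Completion) ⊗ₜ[k] a' i)) ∧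
    (∀ v ∈ Sf, ∀ U : Set (v.adicCompletion k), IsOpen U → tf v ∈ U →
      ∃ U' : Set (v.adicCompletion k), IsOpen U' ∧ tf' v ∈ U' ∧
        ∀ t₀' : k, α ≠ γ * t₀' → algebraMap k (v.adicCompletion k) t₀' ∈ U' →
          algebraMap k (v.adicCompletion k) ((δ * t₀' - β) / (α - γ * t₀')) ∈ U) ∧
    (∀ w ∈ Si, ∀ U : Set w.Completion, IsOpen U → ti w ∈ U →
      ∃ U' : Set w.Completion, IsOpen U' ∧ ti' w ∈ U' ∧
        ∀ t₀' : k, α ≠ γ * t₀' → algebraMap k w.Completion t₀' ∈ U' →
          algebraMap k w.Completion ((δ * t₀' - β) / (α - γ * t₀')) ∈ U) ∧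
    (∃ U' : (v : IsDedekindDomain.HeightOneSpectrum (NumberField.RingOfIntegers k)) → Set (v.adicCompletion k),
      (∀ v ∈ Sf', v ∉ Sf → IsOpen (U' v) ∧ (0 : v.adicCompletion k) ∈ U' v) ∧
      ∀ t₀' : k, α ≠ γ * t₀' → (∀ v ∈ Sf', v ∉ Sf → algebraMap k (v.adicCompletion k) t₀' ∈ U' v) →
        ∀ i, ∀ W : IsDedekindDomain.HeightOneSpectrum (NumberField.RingOfIntegers (kf i)),
          W.valuation (kf i) (algebraMap k (kf i) ((δ * t₀' - β) / (α - γ * t₀')) - a i) < 1 →
            (∃ v ∈ Sf, W.asIdeal.LiesOver v.asIdeal) ∨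
            ((¬ ∃ v ∈ Sf', W.asIdeal.LiesOver v.asIdeal) ∧
              W.valuation (kf i) (algebraMap k (kf i) t₀' - a' i) < 1)) := by
  classical
  have hid : ∀ {R : Type u} [Field R] [Algebra k R] (i : Fin n) (t t' : R),
      algebraMap k R γ * t + algebraMap k R δ ≠ 0 →
      t' = (algebraMap k R α * t + algebraMap k R β) / (algebraMap k R γ * t + algebraMap k R δ) →
      (1 : R) ⊗ₜ[k] b' i * (t' ⊗ₜ[k] (1 : kf i) - (1 : R) ⊗ₜ[k] a' i) =
        (1 : R) ⊗ₜ[k] b i * (t ⊗ₜ[k] (1 : kf i) - (1 : R) ⊗ₜ[k] a i) *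
          ((algebraMap k R (α * δ - β * γ) / (algebraMap k R γ * t + algebraMap k R δ)) ⊗ₜ[k] (1 : kf i)) := by
    intro R _ _ i t t' hg ht'
    let φ : R →+* R ⊗[k] kf i := Algebra.TensorProduct.includeLeftRingHom
    let ψ : kf i →+* R ⊗[k] kf i := (Algebra.TensorProduct.includeRight : kf i →ₐ[k] R ⊗[k] kf i).toRingHom
    have hc : ∀ c : k, ψ (algebraMap k (kf i) c) = φ (algebraMap k R c) := fun c =>
      (Algebra.TensorProduct.tmul_one_eq_one_tmul c).symm
    show ψ (b' i) * (φ t' - ψ (a' i)) = ψ (b i) * (φ t - ψ (a i)) *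
      φ (algebraMap k R (α * δ - β * γ) / (algebraMap k R γ * t + algebraMap k R δ))
    refine ((Ne.isUnit hg).map φ).mul_left_inj.1 ?_
    have e1 := congrArg φ ((eq_div_iff hg).1 ht')
    have e2 := congrArg ψ ((eq_div_iff (hia i)).1 (ha' i))
    have e3 := congrArg φ (div_mul_cancel₀ (algebraMap k R (α * δ - β * γ)) hg)
    have e4 := congrArg ψ (hb' i)
    simp only [map_mul, map_add, map_sub, hc] at e1 e2 e3 e4 ⊢
    rw [mul_assoc (ψ (b i) * (φ t - ψ (a i))), e3, e4]
    linear_combination ψ (b i) * (φ (algebraMap k R γ) * ψ (a i) + φ (algebraMap k R δ)) * e1 -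
      ψ (b i) * (φ (algebraMap k R γ) * φ t + φ (algebraMap k R δ)) * e2
  have hne : ∀ {R : Type u} [Field R] [Algebra k R] (t : R),
      algebraMap k R γ * t + algebraMap k R δ ≠ 0 →
      algebraMap k R α - algebraMap k R γ * ((algebraMap k R α * t + algebraMap k R β) /
          (algebraMap k R γ * t + algebraMap k R δ)) =
        algebraMap k R (α * δ - β * γ) / (algebraMap k R γ * t + algebraMap k R δ) := by
    intro R _ _ t hg
    rw [map_sub, map_mul, map_mul]
    field_simp
    ring_nf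
  have hmob : ∀ {R : Type u} [Field R] [Algebra k R] [TopologicalSpace R] [IsTopologicalRing R] [T1Space R]
      [ContinuousInv₀ R] (t t' : R) (U : Set R),
      algebraMap k R γ * t + algebraMap k R δ ≠ 0 →
      t' = (algebraMap k R α * t + algebraMap k R β) / (algebraMap k R γ * t + algebraMap k R δ) →
      IsOpen U → t ∈ U →
      ∃ U' : Set R, IsOpen U' ∧ t' ∈ U' ∧ ∀ t₀' : k, α ≠ γ * t₀' → algebraMap k R t₀' ∈ U' →
        algebraMap k R ((δ * t₀' - β) / (α - γ * t₀')) ∈ U := by
    intro R _ _ _ _ _ _ t t' U hg ht' hU ht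
    let f : R → R := fun s => (algebraMap k R δ * s - algebraMap k R β) / (algebraMap k R α - algebraMap k R γ * s)
    let O : Set R := {s | algebraMap k R α - algebraMap k R γ * s ≠ 0}
    have hO : IsOpen O := isOpen_ne.preimage (by fun_prop)
    have hf : ContinuousOn f O := (by fun_prop : Continuous fun s => algebraMap k R δ * s - algebraMap k R β).continuousOn.div
      (by fun_prop : Continuous fun s => algebraMap k R α - algebraMap k R γ * s).continuousOn fun s hs => hs
    have hne' : algebraMap k R (α * δ - β * γ) ≠ 0 := (_root_.map_ne_zero (algebraMap k R)).2 hdet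
    have htO : algebraMap k R α - algebraMap k R γ * t' ≠ 0 := by
      rw [ht', hne t hg]
      exact div_ne_zero hne' hg
    refine ⟨O ∩ f ⁻¹' U, hf.isOpen_inter_preimage hO hU, ⟨htO, ?_⟩, fun t₀' _ h => ?_⟩
    · show f t' ∈ U
      convert ht using 1
      show _ / _ = t
      rw [div_eq_iff htO]
      linear_combination (eq_div_iff hg).1 ht'
    · rw [map_div₀, map_sub, map_sub, map_mul, map_mul]
      exact h.2
  refine ⟨fun i v hv => ?_, fun i w hw => ?_, fun v hv U hU ht => hmob _ _ U (hitf v hv) (htf'S v hv) hU ht,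
    fun w hw U hU ht => hmob _ _ U (hiti w hw) (hti' w hw) hU ht, ?_⟩
  · by_cases hvS : v ∈ Sf
    · obtain ⟨x, hx, hNx⟩ := htf i v hvS
      obtain ⟨y, hy, hNy⟩ := hiiif i v hvS
      exact ⟨x * y, hx.mul hy, by rw [map_mul, hNx, hNy, hid i _ _ (hitf v hvS) (htf'S v hvS)]⟩
    · obtain ⟨x, hx, hNx⟩ := Groth.UnramNorm.exists_norm_eq_of_valuation_eq_one v (kf i) (Lf i)
        (Groth.UnramNorm.unramified_of_notMem (hSram i) hvS)
        (-(b i * (algebraMap k (kf i) α * a i + algebraMap k (kf i) β))) (fun W hW => by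
          have hW' : ¬ ∃ v ∈ Sf, W.asIdeal.LiesOver v.asIdeal := fun ⟨v', hv', h⟩ =>
            hvS (Groth.UnramNorm.place_unique hW h ▸ hv')
          have hbW : W.valuation (kf i) (b i) = 1 := by_contra fun h => hW' (hSb i W h)
          rw [Valuation.map_neg, map_mul, hbW, hiia i W hW', one_mul])
      refine ⟨x, hx, hNx.trans ?_⟩
      rw [htf'S' v hv hvS, TensorProduct.zero_tmul, zero_sub, mul_neg, Algebra.TensorProduct.tmul_mul_tmul,
        one_mul, TensorProduct.tmul_neg, hb' i, ha' i]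
      rw [mul_assoc, mul_div_cancel₀ _ (hia i)]
  · obtain ⟨x, hx, hNx⟩ := hti i w hw
    obtain ⟨y, hy, hNy⟩ := hiiii i w hw
    exact ⟨x * y, hx.mul hy, by rw [map_mul, hNx, hNy, hid i _ _ (hiti w hw) (hti' w hw)]⟩
  have hN : ∀ v : IsDedekindDomain.HeightOneSpectrum (RingOfIntegers k), ∃ N : ℕ, ∀ i,
      ∀ W : IsDedekindDomain.HeightOneSpectrum (RingOfIntegers (kf i)), W.asIdeal.LiesOver v.asIdeal →
        WithZero.exp (-(N : ℤ)) * W.valuation (kf i) (algebraMap k (kf i) γ * a i + algebraMap k (kf i) δ) < 1 ∧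
        WithZero.exp (-(N : ℤ)) * W.valuation (kf i) (algebraMap k (kf i) γ) < 1 := by
    intro v
    let ι := Σ i, {W : IsDedekindDomain.HeightOneSpectrum (RingOfIntegers (kf i)) // W.asIdeal.LiesOver v.asIdeal}
    have : v.asIdeal.IsMaximal := v.isMaximal
    have hfin : ∀ i, Finite {W : IsDedekindDomain.HeightOneSpectrum (RingOfIntegers (kf i)) //
        W.asIdeal.LiesOver v.asIdeal} := fun i => by
      haveI := (IsDedekindDomain.primesOver_finite (p := v.asIdeal) (B := RingOfIntegers (kf i))).to_subtype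
      exact Finite.of_injective (fun W => (⟨W.1.asIdeal, ⟨W.1.isPrime, W.2⟩⟩ : v.asIdeal.primesOver (RingOfIntegers (kf i))))
        fun W W' h => Subtype.ext (IsDedekindDomain.HeightOneSpectrum.ext (congrArg Subtype.val h))
    haveI := Fintype.ofFinite ι
    have hz : ∀ p : ι, ∃ e : ℕ, WithZero.exp (-(e : ℤ)) <
        (max (p.2.1.valuation (kf p.1) (algebraMap k (kf p.1) γ * a p.1 + algebraMap k (kf p.1) δ))
          (max (p.2.1.valuation (kf p.1) (algebraMap k (kf p.1) γ)) 1))⁻¹ := fun p =>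
      Groth.StrongApx.exists_exp_neg_lt (inv_ne_zero (ne_of_gt
        (lt_of_lt_of_le zero_lt_one (le_max_of_le_right (le_max_right _ _)))))
    choose e he using hz
    refine ⟨∑ p, e p, fun i W hW => ?_⟩
    set M := max (W.valuation (kf i) (algebraMap k (kf i) γ * a i + algebraMap k (kf i) δ))
          (max (W.valuation (kf i) (algebraMap k (kf i) γ)) 1)
    have hM : 0 < M := lt_of_lt_of_le zero_lt_one (le_max_of_le_right (le_max_right _ _))
    have h1 : WithZero.exp (-((∑ p, e p : ℕ) : ℤ)) * M < 1 := by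
      have : WithZero.exp (-((∑ p, e p : ℕ) : ℤ)) < M⁻¹ :=
        lt_of_le_of_lt (WithZero.exp_le_exp.2 (by
          have := Finset.single_le_sum (f := e) (fun _ _ => Nat.zero_le _) (Finset.mem_univ (⟨i, W, hW⟩ : ι))
          omega)) (he ⟨i, W, hW⟩)
      exact (mul_lt_mul_of_pos_right this hM).trans_eq (inv_mul_cancel₀ hM.ne')
    exact ⟨lt_of_le_of_lt (mul_le_mul_of_nonneg_left (le_max_left _ _) zero_le) h1,
      lt_of_le_of_lt (mul_le_mul_of_nonneg_left (le_max_of_le_right (le_max_left _ _)) zero_le) h1⟩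
  choose N hN using hN
  refine ⟨fun v => {s | Valued.v s ≤ WithZero.exp (-(N v : ℤ))}, fun v _ _ => ⟨?_, by simp⟩,
    fun t₀' ht₀' hsmall i W hlt => ?_⟩
  · obtain ⟨x, hx⟩ := v.valuation_surjective k (WithZero.exp (-(N v : ℤ)))
    have hset : {s : v.adicCompletion k | Valued.v s ≤ WithZero.exp (-(N v : ℤ))} =
        {s | Valued.v.restrict s ≤ Valued.v.restrict (algebraMap k (v.adicCompletion k) x)} := by
      ext s
      rw [Set.mem_ofPred_eq, Set.mem_ofPred_eq, Valuation.restrict_le_iff, ← hx,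
        show algebraMap k (v.adicCompletion k) x = ((x : k) : v.adicCompletion k) from rfl,
        IsDedekindDomain.HeightOneSpectrum.valuedAdicCompletion_eq_valuation']
    beta_reduce
    rw [hset]
    refine Valued.isOpen_closedBall _ (fun h => ?_)
    rw [Valuation.restrict_eq_zero_iff,
      show algebraMap k (v.adicCompletion k) x = ((x : k) : v.adicCompletion k) from rfl,
      IsDedekindDomain.HeightOneSpectrum.valuedAdicCompletion_eq_valuation', hx] at h
    exact WithZero.exp_ne_zero h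
  by_cases hWS : ∃ v ∈ Sf, W.asIdeal.LiesOver v.asIdeal
  · exact Or.inl hWS
  right
  obtain ⟨v, hWv⟩ := Groth.UnramNorm.exists_place (k := k) W
  have hvS : v ∉ Sf := fun h => hWS ⟨v, h, hWv⟩
  set A : kf i := algebraMap k (kf i) α
  set G : kf i := algebraMap k (kf i) γ
  set T : kf i := algebraMap k (kf i) t₀'
  set Ga : kf i := G * a i + algebraMap k (kf i) δ with hGa
  have hden : A - G * T ≠ 0 := by
    rw [← map_mul, ← map_sub, _root_.map_ne_zero]
    exact sub_ne_zero.2 ht₀'
  have key : algebraMap k (kf i) ((δ * t₀' - β) / (α - γ * t₀')) - a i =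
      (T * Ga - (A * a i + algebraMap k (kf i) β)) / (A - G * T) := by
    rw [map_div₀, map_sub, map_sub, map_mul, map_mul, eq_div_iff hden, sub_mul, div_mul_cancel₀ _ hden, hGa]
    ring
  rw [key, map_div₀] at hlt
  have hA : W.valuation (kf i) A = 1 := Groth.UnramNorm.valuation_eq_one hWv (hiiα v hvS)
  by_cases hv' : v ∈ Sf'
  · exfalso
    have hT : W.valuation (kf i) T ≤ WithZero.exp (-(N v : ℤ)) := by
      refine Groth.UnramNorm.valuation_le_exp hWv ?_
      have := hsmall v hv' hvS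
      rwa [Set.mem_ofPred_eq, show algebraMap k (v.adicCompletion k) t₀' = ((t₀' : k) : v.adicCompletion k) from rfl,
        IsDedekindDomain.HeightOneSpectrum.valuedAdicCompletion_eq_valuation'] at this
    have hTG : W.valuation (kf i) (G * T) < 1 := by
      rw [map_mul, mul_comm]
      exact lt_of_le_of_lt (mul_le_mul_of_nonneg_right hT zero_le) (hN v i W hWv).2
    have hTGa : W.valuation (kf i) (T * Ga) < 1 := by
      rw [map_mul]
      exact lt_of_le_of_lt (mul_le_mul_of_nonneg_right hT zero_le) (hN v i W hWv).1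
    have hab := hiia i W hWS
    rw [Valuation.map_sub_eq_of_lt_right _ (hab.symm ▸ hTGa), hab,
      Valuation.map_sub_eq_of_lt_left _ (hA.symm ▸ hTG), hA, div_one] at hlt
    exact lt_irrefl _ hlt
  have hWS' : ¬ ∃ v ∈ Sf', W.asIdeal.LiesOver v.asIdeal := fun ⟨v₁, h₁, h⟩ =>
    hv' (Groth.UnramNorm.place_unique hWv h ▸ h₁)
  refine ⟨hWS', ?_⟩
  have hG : W.valuation (kf i) Ga = 1 := by
    have h1 := (hS'ab i W hWS').2
    rwa [hb' i, map_mul, show W.valuation (kf i) (b i) = 1 from by_contra fun h => hWS (hSb i W h), one_mul] at h1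
  have hγ1 : W.valuation (kf i) G ≤ 1 := Groth.UnramNorm.valuation_le_one hWv (hS'αγ v hv').2
  have key2 : T - a' i = (T * Ga - (A * a i + algebraMap k (kf i) β)) / Ga := by
    rw [ha' i, eq_div_iff (hia i), sub_mul, div_mul_cancel₀ _ (hia i)]
  have hTa : W.valuation (kf i) (T - a' i) = W.valuation (kf i) (T * Ga - (A * a i + algebraMap k (kf i) β)) := by
    rw [key2, map_div₀, hG, div_one]
  rw [← hTa, div_lt_one₀ (zero_lt_iff.2 ((Valuation.ne_zero_iff _).2 hden))] at hlt
  have hbound : W.valuation (kf i) (A - G * T) ≤ max 1 (W.valuation (kf i) T) := by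
    refine (Valuation.map_sub _ _ _).trans (max_le_max hA.le ?_)
    rw [map_mul]
    exact mul_le_of_le_one_left zero_le hγ1
  rcases le_or_gt (W.valuation (kf i) T) 1 with hT | hT
  · exact hlt.trans_le (hbound.trans (max_le le_rfl hT))
  · exfalso
    have h1 : W.valuation (kf i) (T - a' i) = W.valuation (kf i) T :=
      Valuation.map_sub_eq_of_lt_left _ (lt_of_le_of_lt (hS'ab i W hWS').1 hT)
    rw [h1] at hlt
    exact lt_irrefl _ (hlt.trans_le (hbound.trans (max_le hT.le le_rfl)))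

end Groth.Agent.S19286
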