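import Groth.Statements.S19288
import Groth.Agent.EtaleBase.Rigidity
import Mathlib

set_option autoImplicit false
universe u
open CategoryTheory CategoryTheory.Limits MonoidalCategory CartesianMonoidalCategory MonObj AlgebraicGeometry
open AbSch

open CartesianMonoidalCategory GrpObj
namespace Groth.Agent.S19288

/-- Let S be a scheme, X a commutative S-group scheme which is etale and separated over S (hence locally
of finite presentation), and P a commutative S-group scheme of finite presentation over S all of
whose fibres are connected. Then every homomorphism of S-group schemes from P to X is trivial (it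
factors through the unit section). -/
theorem result {S : Scheme.{u}} (P X : Over S)
    [GrpObj P] [IsCommMonObj P] [GrpObj X] [IsCommMonObj X]
    [Etale X.hom] [IsSeparated X.hom]
    [QuasiCompact P.hom] [QuasiSeparated P.hom] [LocallyOfFinitePresentation P.hom]
    (hP : ∀ s : S, ConnectedSpace ↥(P.hom.fiber s))
    (f : P ⟶ X) [IsMonHom f] : f = 1 := by
  have he : η[X].left ≫ X.hom = 𝟙 S := Over.w η[X]
  have : IsOpenImmersion η[X].left := Groth.EtaleBase.isOpenImmersion_section X.hom η[X].left he
  have hrange : Set.range f.left ⊆ Set.range η[X].left := by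
    rintro _ ⟨p, rfl⟩
    have hp : p ∈ P.hom ⁻¹' {P.hom p} := rfl
    have hconn : _root_.IsPreconnected (P.hom ⁻¹' {P.hom p}) := by
      rw [← Scheme.Hom.range_fiberι]
      have := hP (P.hom p)
      exact isPreconnected_range (P.hom.fiberι _).continuous
    have hsub : f.left '' (P.hom ⁻¹' {P.hom p}) ⊆ X.hom ⁻¹' {P.hom p} := by
      rintro _ ⟨x, hx, rfl⟩
      show X.hom (f.left x) = P.hom p
      rw [← Scheme.Hom.comp_apply, Over.w f]
      exact hx
    have : DiscreteTopology ↥(f.left '' (P.hom ⁻¹' {P.hom p})) :=
      ((X.hom.isDiscrete_preimage_singleton _).mono hsub).to_subtype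
    have : PreconnectedSpace ↥(f.left '' (P.hom ⁻¹' {P.hom p})) :=
      Subtype.preconnectedSpace (hconn.image _ f.left.continuous.continuousOn)
    have := Set.subsingleton_coe _ |>.mp (PreconnectedSpace.trivial_of_discrete (X := ↥(f.left '' (P.hom ⁻¹' {P.hom p}))))
    have hP1 : η[P].left ≫ P.hom = 𝟙 S := Over.w η[P]
    have hmem : η[P].left (P.hom p) ∈ P.hom ⁻¹' {P.hom p} := by
      show P.hom (η[P].left (P.hom p)) = P.hom p
      rw [← Scheme.Hom.comp_apply, hP1]
      rfl
    refine ⟨P.hom p, Eq.trans ?_ (this ⟨_, hmem, rfl⟩ ⟨_, hp, rfl⟩)⟩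
    rw [← Scheme.Hom.comp_apply η[P].left f.left, ← Over.comp_left, IsMonHom.one_hom f]
  let t := IsOpenImmersion.lift η[X].left f.left hrange
  have ht : t ≫ η[X].left = f.left := IsOpenImmersion.lift_fac _ _ _
  have : t = P.hom := by
    have h := congrArg (· ≫ X.hom) ht
    simp only [Category.assoc, he, Over.w f] at h
    exact (Category.comp_id t).symm.trans h
  refine Over.OverMorphism.ext ?_
  rw [← ht, this, Hom.one_def]
  rfl

end Groth.Agent.S19288
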