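import Groth.Statements.S19290
import Groth.Agent.GrpschAbsch.TorusToAbelianSheaf

set_option autoImplicit false
universe u
open CategoryTheory CategoryTheory.Limits MonoidalCategory CartesianMonoidalCategory MonObj AlgebraicGeometry
open AbSch

namespace Groth.Agent.S19290

/-- Let S be a scheme, T an S-torus and A an abelian S-scheme (smooth, proper, with connected fibres).
Then the S-sheaf of homomorphisms from T to A is trivial: the internal Hom sheaf, on the big fppf
site of S, from the abelian sheaf of points of T to that of A is the zero sheaf. -/
theorem result {S : Scheme.{u}} (T A : Over S)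
    [GrpObj T] [IsCommMonObj T] (hT : Red.IsTorus T)
    [GrpObj A] [IsCommMonObj A] [Smooth A.hom] [IsProper A.hom]
    (hA : ∀ s : S, ConnectedSpace ↥(A.hom.fiber s)) :
    IsZero (HomSh.homSh (QuotSh.J Scheme.fppfPrecoverage S) (CGrpSh.pts Scheme.fppfPrecoverage T) (CGrpSh.pts Scheme.fppfPrecoverage A)) := by
  exact Groth.GrpschAbsch.TorusToAbelian.isZero_homSh T A hT hA _

end Groth.Agent.S19290
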