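import Groth.Statements.S19292
import Groth.Agent.AbSchExt.LatticeLift

set_option autoImplicit false
universe u
open CategoryTheory CategoryTheory.Limits MonoidalCategory CartesianMonoidalCategory MonObj AlgebraicGeometry
open AbSch

namespace Groth.Agent.S19292

/-- Let S be a scheme, X an S-group scheme which locally for the etale topology on S is the constant
group scheme of a finitely generated free abelian group (the rank may vary), and P any commutative
S-group scheme. Then the S-sheaf of extensions of X by P is trivial: on the big fppf site of S the
first Ext sheaf from the sheaf of points of X, with values in the sheaf of points of P, is zero. -/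
theorem result {S : Scheme.{u}} (X P : Over S)
    [GrpObj X] [IsCommMonObj X]
    (hX : TwC.Locally S TwC.Topology.etale (fun S' f =>
      ∃ (r : ℕ) (e : Red.bc f X ≅ TwC.const S' (Multiplicative (Fin r → ℤ))),
        TwC.IsConstGrp (Multiplicative (Fin r → ℤ)) (Red.bc f X) e))
    [GrpObj P] [IsCommMonObj P] :
    IsZero ((HomSh.extSh (QuotSh.J Scheme.fppfPrecoverage S) (CGrpSh.pts Scheme.fppfPrecoverage X) 1).obj (CGrpSh.pts Scheme.fppfPrecoverage P)) := by
  exact Groth.AbSchExt.isZero_extSh_one_lattice X hX _

end Groth.Agent.S19292
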