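import Groth.Statements.S1930
import Groth.Agent.CycInter.DivZero

set_option autoImplicit false
universe u
open CategoryTheory AlgebraicGeometry
open Cyc

namespace Groth.Agent.S1930

/-- Let X be integral with generic point η and δ(η) = n, i : D → X an effective Cartier divisor given as
the zero scheme of a global section s of an invertible module L which is a nonzerodivisor at every
point, N an invertible O_X-module and t ∈ N(η) a nonzero rational section. Then i^*(div_N t) ∼_rat
c_1(N|_D) ∩ [D]_{n−1} as (n − 2)-cycles on D, the right side computed with any nonzero rational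
sections of i^*N on D. Here i : D → X is the zero scheme of a global section s of the invertible
module L (Cyc.IsZeroSchemeOf), the Gysin map i^* : Z_{k+1}(X) → CH_k(D) is computed on coefficient
functions as c_1(L) ∩ − with the rational sections taken to be s where it is nonzero
(Cyc.gysinChoice) and restricted to the points of D, and classes on D are compared up to rational
equivalence on D for the restricted dimension function. Here a pair (X, δ) satisfying Cyc.IsSetup (X
locally Noetherian with universally catenary local rings, δ a dimension function) plays the role of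
a scheme locally of finite type over a fixed base equipped with a dimension function. -/
theorem result (X D : Scheme.{u}) [IsIntegral X] (δ : X → ℤ) (hX : Cyc.IsSetup X δ) (n : ℤ) (hn : δ (genericPoint X) = n) (L : X.Modules) (hL : PicF.IsInvertible L) (s : L.presheaf.obj (Opposite.op ⊤)) (hreg : ∀ x : X, Function.Injective (fun a : X.presheaf.stalk x => a • (L.presheaf.germ ⊤ x trivial) s)) (i : D ⟶ X) [IsClosedImmersion i] (hD : Cyc.IsZeroSchemeOf i L s) (N : X.Modules) (hN : PicF.IsInvertible N) (t : Cyc.secFibre N (genericPoint X)) (ht : t ≠ 0) (w : (ξ : X) → Cyc.secFibre L ξ) (hw : ∀ ξ, w ξ ≠ 0) (u : (d : D) → Cyc.secFibre ((Scheme.Modules.pullback i).obj N) d) (hu : ∀ d, u d ≠ 0) (γ₁ γ₂ : AlgebraicCycle D ℤ) (h₁ : ∀ d : D, γ₁ d = Cyc.c1CapFun δ L (Cyc.secDivFun δ N (genericPoint X) t) (Cyc.gysinChoice L s w) (i d)) (h₂ : ⇑γ₂ = Cyc.c1CapFun (fun d => δ (i d)) ((Scheme.Modules.pullback i).obj N) (Cyc.subschemeFun (fun d => δ (i d)) (n - 1) (𝟙 D)) u) : Cyc.RatEquiv (fun d => δ (i d)) (n - 2) γ₁ γ₂ := by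
  exact Groth.CycInter.gysin_divSec hX hn hL hN i hD
    (fun h => one_ne_zero (hreg (genericPoint X) (a₁ := 1) (a₂ := 0) (by
      dsimp only; rw [h, smul_zero, smul_zero]))) ht hw hu h₁ h₂

end Groth.Agent.S1930
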