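import Groth.Statements.S19306
import Groth.Agent.Calg8.PowerSeriesLattice

set_option autoImplicit false
universe u
open PowerSeries
open CAlg

namespace Groth.Agent.S19306

/-- Let k be a field, R a commutative k-algebra, n, M natural numbers and Λ an R⟦X⟧-submodule of the
free module R⟦X⟧^n with X^M · R⟦X⟧^n ⊆ Λ. Then Λ is a finitely generated projective R⟦X⟧-module if
and only if the quotient R⟦X⟧^n / Λ is projective as an R-module. (The published statement
identifies, functorially in R, the families of lattices between t^N Λ₀ and t^{-N} Λ₀ in R((t))^n, Λ₀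
the standard lattice, with the R⟦t⟧-submodules in that range whose quotient t^{-N} Λ₀ / Λ is
R-projective; after multiplying by t^N this is the pointwise statement here, with 2N replaced by any
exponent M; a submodule containing X^M · R⟦X⟧^n automatically spans R((X))^n.) -/
theorem result
    (k : Type u) [Field k] (R : Type u) [CommRing R] [Algebra k R] (n M : ℕ)
    (Λ : Submodule R⟦X⟧ (Fin n → R⟦X⟧))
    (hΛ : ∀ v : Fin n → R⟦X⟧, ((PowerSeries.X : R⟦X⟧) ^ M) • v ∈ Λ) :
    (Module.Finite R⟦X⟧ Λ ∧ Module.Projective R⟦X⟧ Λ) ↔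
      Module.Projective R ((Fin n → R⟦X⟧) ⧸ Λ) := by
  exact ⟨fun ⟨h1, h2⟩ => Groth.Calg8.PSLattice.projective_quotient Λ hΛ,
    fun h => Groth.Calg8.PSLattice.finite_projective_lattice Λ hΛ⟩

end Groth.Agent.S19306
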