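import Groth.Statements.S19308
import Mathlib
import Groth.Agent.Calg7.UnitContent
-- import your own Groth.Agent.* helpers here

set_option autoImplicit false
universe u
open TensorProduct
open CAlg

namespace Groth.Agent.S19308

/-- Let k be an algebraically closed field, A a finitely generated k-algebra which is an integral domain
(an affine variety X = Spec A), Z a finite (possibly empty) set of k-points of A, R a commutative
k-algebra and U an open dense subset of Spec (R ⊗_k A) = X_R containing every point of Z_R and
meeting every fibre of X_R → Spec R. Then locally on Spec R there is a principal relative effective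
Cartier divisor missing Z_R whose complement lies in U: for every prime p of R there are r ∉ p and f
∈ R[1/r] ⊗_k A such that f is a non-zero-divisor, (R[1/r] ⊗_k A)/(f) is flat over R[1/r], f maps to
a unit under every point of Z, and the basic open set D(f) of X_{R[1/r]} maps into U. (The published
statement is for a quasi-projective variety X and asks for relative Cartier divisors D_i over an
open cover of Spec R; this row is the affine case, to which the published proof reduces, where the
divisors produced are principal.) -/
theorem result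
    (k : Type u) [Field k] [IsAlgClosed k]
    (A : Type u) [CommRing A] [Algebra k A] [IsDomain A] [Algebra.FiniteType k A]
    (Z : Finset (A →ₐ[k] k))
    (R : Type u) [CommRing R] [Algebra k R]
    (U : TopologicalSpace.Opens (PrimeSpectrum (TensorProduct k R A)))
    (hU : Dense (U : Set (PrimeSpectrum (TensorProduct k R A))))
    (hZ : ∀ z ∈ Z, ∀ q : PrimeSpectrum R,
      PrimeSpectrum.comap (Algebra.TensorProduct.lift (AlgHom.id k R) ((Algebra.ofId k R).comp z)
        (fun _ _ => Commute.all _ _)).toRingHom q ∈ U)
    (hsurj : ∀ q : PrimeSpectrum R, ∃ P ∈ U,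
      PrimeSpectrum.comap (Algebra.TensorProduct.includeLeftRingHom : R →+* TensorProduct k R A) P = q)
    (p : PrimeSpectrum R) :
    ∃ r : R, r ∉ p.asIdeal ∧
      ∃ f : TensorProduct k (Localization.Away r) A,
        f ∈ nonZeroDivisors (TensorProduct k (Localization.Away r) A) ∧
        Module.Flat (Localization.Away r)
          (TensorProduct k (Localization.Away r) A ⧸ Ideal.span {f}) ∧
        (∀ z ∈ Z, IsUnit (Algebra.TensorProduct.lift (AlgHom.id k (Localization.Away r))
          ((Algebra.ofId k (Localization.Away r)).comp z) (fun _ _ => Commute.all _ _) f)) ∧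
        (∀ P : PrimeSpectrum (TensorProduct k (Localization.Away r) A), f ∉ P.asIdeal →
          PrimeSpectrum.comap (Algebra.TensorProduct.map
            (IsScalarTower.toAlgHom k R (Localization.Away r)) (AlgHom.id k A)).toRingHom P ∈ U) := by
  classical
  let κ := p.asIdeal.ResidueField
  let π : TensorProduct k R A →ₐ[k] TensorProduct k κ A :=
    Algebra.TensorProduct.map (IsScalarTower.toAlgHom k R κ) (AlgHom.id k A)
  have : IsDomain (TensorProduct k κ A) := Groth.VarietyBC.isDomain_tensor
  let P0 : Ideal (TensorProduct k R A) := RingHom.ker π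
  have hP0 : P0.IsPrime := RingHom.ker_isPrime _
  let b := Module.Free.chooseBasis k A
  have hcoef : ∀ x ∈ P0, ∀ i, (b.baseChange R).repr x i ∈ p.asIdeal := by
    intro x hx i
    rw [← Ideal.algebraMap_residueField_eq_zero]
    have := Groth.Calg7.UnitContent.repr_map b (IsScalarTower.toAlgHom k R κ) x i
    change (b.baseChange κ).repr (π x) i = _ at this
    rw [show π x = 0 from hx, map_zero, Finsupp.zero_apply] at this
    exact this.symm
  obtain ⟨I, hI⟩ := (PrimeSpectrum.isClosed_iff_zeroLocus_ideal _).mp U.isOpen.isClosed_compl
  have hmem : ∀ P : PrimeSpectrum (TensorProduct k R A), P ∈ U ↔ ¬ I ≤ P.asIdeal := by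
    intro P
    have := Set.ext_iff.mp hI P
    rw [Set.mem_compl_iff, PrimeSpectrum.mem_zeroLocus] at this
    constructor
    · exact fun h h' => this.mpr h' h
    · exact fun h => by_contra fun h' => h (this.mp h')
  let zR : (A →ₐ[k] k) → (TensorProduct k R A →ₐ[k] R) := fun z =>
    Algebra.TensorProduct.lift (AlgHom.id k R) ((Algebra.ofId k R).comp z) (fun _ _ => Commute.all _ _)
  have hI0 : ¬ I ≤ P0 := by
    obtain ⟨P, hPU, hP⟩ := hsurj p
    refine fun hle => (hmem P).mp hPU (hle.trans fun x hx => ?_)
    rw [← (b.baseChange R).linearCombination_repr x, Finsupp.linearCombination_apply]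
    refine sum_mem fun i _ => ?_
    dsimp only
    rw [Algebra.smul_def]
    refine P.asIdeal.mul_mem_right _ ?_
    have hc := hcoef x hx i
    rw [← hP] at hc
    exact hc
  let J : Option Z → Ideal (TensorProduct k R A) := fun o =>
    o.elim P0 (fun z => Ideal.comap (zR z.1).toRingHom p.asIdeal)
  have hnot : ¬ (I : Set (TensorProduct k R A)) ⊆
      ⋃ o ∈ ((Finset.univ : Finset (Option Z)) : Set (Option Z)), (J o : Set (TensorProduct k R A)) := by
    rw [Ideal.subset_union_prime none none (fun o _ h _ => ?_)]
    · rintro ⟨o, -, ho⟩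
      cases o with
      | none => exact hI0 ho
      | some z => exact (hmem _).mp (hZ z.1 z.2 p) ho
    · cases o with
      | none => exact absurd rfl h
      | some z => exact Ideal.IsPrime.comap _
  obtain ⟨f₀, hf₀I, hf₀⟩ := Set.not_subset.mp hnot
  simp only [Set.mem_iUnion, not_exists, Finset.coe_univ, Set.mem_univ, forall_true_left] at hf₀
  have hf₀0 : f₀ ∉ P0 := hf₀ none
  have hf₀z : ∀ z ∈ Z, zR z f₀ ∉ p.asIdeal := fun z hz => hf₀ (some ⟨z, hz⟩)
  obtain ⟨j, hj⟩ : ∃ j, (b.baseChange R).repr f₀ j ∉ p.asIdeal := by
    by_contra! h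
    refine hf₀0 ((b.baseChange κ).repr.injective (Finsupp.ext fun i => ?_))
    rw [map_zero, Finsupp.zero_apply]
    change (b.baseChange κ).repr (π f₀) i = 0
    rw [Groth.Calg7.UnitContent.repr_map]
    exact Ideal.algebraMap_residueField_eq_zero.mpr (h i)
  let r : R := (b.baseChange R).repr f₀ j * ∏ z ∈ Z, zR z f₀
  refine ⟨r, fun hr => ?_, Algebra.TensorProduct.map
    (IsScalarTower.toAlgHom k R (Localization.Away r)) (AlgHom.id k A) f₀, ?_⟩
  · rcases p.2.mem_or_mem hr with h | h
    · exact hj h
    · obtain ⟨z, hz, h⟩ := p.2.prod_mem_iff.mp h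
      exact hf₀z z hz h
  let φ := IsScalarTower.toAlgHom k R (Localization.Away r)
  have hru : IsUnit (φ r) := IsLocalization.Away.algebraMap_isUnit r
  have hu : IsUnit ((b.baseChange (Localization.Away r)).repr
      (Algebra.TensorProduct.map φ (AlgHom.id k A) f₀) j) := by
    rw [Groth.Calg7.UnitContent.repr_map]
    exact isUnit_of_dvd_unit (map_dvd φ (dvd_mul_right _ _)) hru
  refine ⟨mem_nonZeroDivisors_iff.mpr ⟨fun x hx => ?_, fun x hx => ?_⟩,
    Groth.Calg7.UnitContent.flat_quotient_of_isUnit_repr b hu, fun z hz => ?_, fun P hP => ?_⟩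
  · exact Groth.Calg7.UnitContent.regular_of_isUnit_repr b hu x hx
  · rw [mul_comm] at hx
    exact Groth.Calg7.UnitContent.regular_of_isUnit_repr b hu x hx
  · have key : ∀ x : TensorProduct k R A,
        Algebra.TensorProduct.lift (AlgHom.id k (Localization.Away r))
          ((Algebra.ofId k (Localization.Away r)).comp z) (fun _ _ => Commute.all _ _)
          (Algebra.TensorProduct.map φ (AlgHom.id k A) x) = φ (zR z x) := by
      intro x
      induction x using TensorProduct.induction_on with
      | zero => simp
      | tmul a y =>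
        simp [zR, φ, Algebra.ofId_apply, ← IsScalarTower.algebraMap_apply]
      | add x y hx hy => simp [hx, hy]
    rw [key]
    exact isUnit_of_dvd_unit
      (map_dvd φ ((Finset.dvd_prod_of_mem (fun z => zR z f₀) hz).trans (dvd_mul_left _ _))) hru
  · exact (hmem _).mpr fun hle => hP (hle hf₀I)

end Groth.Agent.S19308
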