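import Groth.Statements.S19309
import Mathlib

set_option autoImplicit false
universe u
open PowerSeries LaurentSeries
open CAlg

namespace Groth.Agent.S19309

/-- Let k be a field, R a commutative k-algebra, B a finitely presented R⟦X⟧-algebra (an affine scheme V
= Spec B of finite presentation over the disc D_R = Spec R⟦X⟧) and s : B → R((X)) an R⟦X⟧-algebra
map (a section of V over the punctured disc). Then there is an ideal I of R such that for every ring
map φ : R → R', writing θ : R((X)) → R'((X)) for the ring map compatible with R⟦X⟧ → R'⟦X⟧, the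
section s extends to a section over D_{R'} — an R⟦X⟧-algebra map s' : B → R'⟦X⟧ whose composite with
R'⟦X⟧ → R'((X)) is θ ∘ s — if and only if φ kills I. In other words the sub-presheaf of Spec R where
s extends over the disc is the closed subscheme defined by I. -/
theorem result
    (k : Type u) [Field k] (R : Type u) [CommRing R] [Algebra k R]
    (B : Type u) [CommRing B] [Algebra R⟦X⟧ B] [Algebra.FinitePresentation R⟦X⟧ B]
    (s : B →ₐ[R⟦X⟧] R⸨X⸩) :
    ∃ I : Ideal R, ∀ (R' : Type u) [CommRing R'] (φ : R →+* R') (θ : R⸨X⸩ →+* R'⸨X⸩),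
      θ.comp (algebraMap R⟦X⟧ R⸨X⸩) = (algebraMap R'⟦X⟧ R'⸨X⸩).comp (PowerSeries.map φ) →
      ((∃ s' : B →+* R'⟦X⟧, s'.comp (algebraMap R⟦X⟧ B) = PowerSeries.map φ ∧
          (algebraMap R'⟦X⟧ R'⸨X⸩).comp s' = θ.comp s.toRingHom) ↔ I ≤ RingHom.ker φ) := by
  classical
  obtain ⟨G, hG⟩ := (inferInstance : Algebra.FiniteType R⟦X⟧ B).out
  have hsurj : ∀ b : B, ∃ (N : ℕ) (f : R⟦X⟧), s b * algebraMap R⟦X⟧ R⸨X⸩ (PowerSeries.X ^ N) =
      algebraMap R⟦X⟧ R⸨X⸩ f := fun b => by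
    obtain ⟨⟨f, ⟨_, N, rfl⟩⟩, h⟩ := IsLocalization.surj (Submonoid.powers (PowerSeries.X : R⟦X⟧)) (s b)
    exact ⟨N, f, h⟩
  choose N f hf using hsurj
  refine ⟨Ideal.span {c | ∃ b ∈ G, ∃ m < N b, PowerSeries.coeff m (f b) = c}, fun R' _ φ θ hθ => ?_⟩
  have hcomp : ∀ g : R⟦X⟧, θ (algebraMap R⟦X⟧ R⸨X⸩ g) = algebraMap R'⟦X⟧ R'⸨X⸩ (PowerSeries.map φ g) :=
    fun g => RingHom.congr_fun hθ g
  have hinj : Function.Injective (algebraMap R'⟦X⟧ R'⸨X⸩) := HahnSeries.ofPowerSeries_injective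
  have hXu : ∀ n : ℕ, IsUnit (algebraMap R'⟦X⟧ R'⸨X⸩ (PowerSeries.X ^ n)) := fun n =>
    IsLocalization.map_units R'⸨X⸩ (⟨PowerSeries.X ^ n, n, rfl⟩ : Submonoid.powers (PowerSeries.X : R'⟦X⟧))
  have hb : ∀ b, θ (s b) * algebraMap R'⟦X⟧ R'⸨X⸩ (PowerSeries.X ^ N b) =
      algebraMap R'⟦X⟧ R'⸨X⸩ (PowerSeries.map φ (f b)) := fun b => by
    rw [← hcomp, ← hf, map_mul, hcomp, map_pow (PowerSeries.map φ), PowerSeries.map_X]
  have hiff : ∀ b, θ (s b) ∈ (algebraMap R'⟦X⟧ R'⸨X⸩).range ↔ ∀ m < N b, φ (PowerSeries.coeff m (f b)) = 0 := by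
    intro b
    constructor
    · rintro ⟨g, hg⟩ m hm
      have h := hb b
      rw [← hg, ← map_mul] at h
      rw [← PowerSeries.coeff_map, ← hinj h, mul_comm]
      exact PowerSeries.X_pow_dvd_iff.1 (dvd_mul_right _ g) m hm
    · intro h
      obtain ⟨g, hg⟩ : PowerSeries.X ^ N b ∣ PowerSeries.map φ (f b) :=
        PowerSeries.X_pow_dvd_iff.2 fun m hm => by rw [PowerSeries.coeff_map, h m hm]
      refine ⟨g, (hXu (N b)).mul_left_injective ?_⟩
      show algebraMap _ _ g * _ = θ (s b) * _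
      rw [hb, hg, ← map_mul, mul_comm]
  constructor
  · rintro ⟨s', -, h2⟩
    rw [Ideal.span_le]
    rintro _ ⟨b, -, m, hm, rfl⟩
    exact (hiff b).1 ⟨s' b, RingHom.congr_fun h2 b⟩ m hm
  · intro hI
    let ρ : B →+* R'⸨X⸩ := θ.comp s.toRingHom
    let T : Subalgebra R⟦X⟧ B :=
      { ((algebraMap R'⟦X⟧ R'⸨X⸩).range.comap ρ) with
        algebraMap_mem' := fun g => ⟨PowerSeries.map φ g, by
          show _ = θ (s (algebraMap R⟦X⟧ B g))
          rw [AlgHom.commutes, hcomp]⟩ }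
    have hT : (⊤ : Subalgebra R⟦X⟧ B) ≤ T := by
      rw [← hG, Algebra.adjoin_le_iff]
      exact fun b hb' => (hiff b).2 fun m hm => hI (Ideal.subset_span ⟨b, hb', m, hm, rfl⟩)
    let e : R'⟦X⟧ ≃+* (algebraMap R'⟦X⟧ R'⸨X⸩).range :=
      RingEquiv.ofBijective (algebraMap R'⟦X⟧ R'⸨X⸩).rangeRestrict
        ⟨fun a b h => hinj (congrArg Subtype.val h), RingHom.rangeRestrict_surjective _⟩
    let s' : B →+* R'⟦X⟧ := e.symm.toRingHom.comp (ρ.codRestrict _ fun b => hT (Algebra.mem_top (x := b)))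
    have hs : ∀ b, algebraMap R'⟦X⟧ R'⸨X⸩ (s' b) = θ (s b) := fun b =>
      congrArg Subtype.val (e.apply_symm_apply (ρ.codRestrict _ (fun b => hT (Algebra.mem_top (x := b))) b))
    refine ⟨s', RingHom.ext fun g => hinj ?_, RingHom.ext hs⟩
    rw [RingHom.comp_apply, hs, AlgHom.commutes, hcomp]

end Groth.Agent.S19309
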