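import Groth.Statements.S19310
import Groth.Agent.VarietyBC.TensorAlgClosed
import Mathlib

set_option autoImplicit false
universe u
open TensorProduct
open CAlg

open scoped TensorProduct

namespace Groth.Agent.S19310

section Aux

open scoped TensorProduct
open IsLocalRing

variable {k : Type u} [Field k] [IsAlgClosed k] {A : Type u} [CommRing A] [Algebra k A] [IsDomain A]
  {ι : Type*} (b : Module.Basis ι k A)

/-- Over a Noetherian ring: an element with a unit coefficient at a prime cannot kill `f`. -/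
theorem ann_notLE {R : Type u} [CommRing R] [Algebra k R] [IsNoetherianRing R] (q : Ideal R) [q.IsPrime]
    (f g : R ⊗[k] A) (hgf : g * f = 0) (i : ι) (hg : (Algebra.TensorProduct.basis R b).repr g i ∉ q) :
    ¬ Ideal.torsionOf R (R ⊗[k] A) f ≤ q := by
  classical
  intro hq
  let bR := Algebra.TensorProduct.basis R b
  let P : Ideal R → Prop := fun J => J ≤ q ∧ ∃ r : R, J = Ideal.torsionOf R (R ⊗[k] A) (r • f)
  obtain ⟨Q, ⟨hQq, r, rfl⟩, hmax⟩ := set_has_maximal_iff_noetherian.2 inferInstance {J | P J}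
    ⟨_, hq, 1, by rw [one_smul]⟩
  set f' := r • f with hf'
  set Q := Ideal.torsionOf R (R ⊗[k] A) f'
  have hQp : Q.IsPrime := by
    refine ⟨fun h => ‹q.IsPrime›.ne_top (top_le_iff.1 (h ▸ hQq)), fun {x y} hxy => ?_⟩
    by_contra! hc
    obtain ⟨hx, hy⟩ := hc
    let Q' := Ideal.torsionOf R (R ⊗[k] A) ((x * r) • f)
    have hQQ' : Q ≤ Q' := fun z hz => by
      rw [Ideal.mem_torsionOf_iff] at hz ⊢
      rw [mul_smul, ← hf', smul_comm, hz, smul_zero]
    by_cases hle : Q' ≤ q
    · have hy' : y ∈ Q' := by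
        rw [Ideal.mem_torsionOf_iff] at hxy ⊢
        rw [mul_smul, ← hf', smul_smul, mul_comm, hxy]
      refine hy ?_
      by_contra hyQ
      exact hmax Q' ⟨hle, _, rfl⟩ (lt_of_le_of_ne hQQ' fun h => hyQ (by rw [h]; exact hy'))
    · obtain ⟨s, hs, hsq⟩ := Set.not_subset.1 hle
      let Q'' := Ideal.torsionOf R (R ⊗[k] A) ((s * r) • f)
      have hQQ'' : Q ≤ Q'' := fun z hz => by
        rw [Ideal.mem_torsionOf_iff] at hz ⊢
        rw [mul_smul, ← hf', smul_comm, hz, smul_zero]
      have hle'' : Q'' ≤ q := fun z hz => by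
        rw [Ideal.mem_torsionOf_iff, mul_smul, ← hf', smul_smul, ← Ideal.mem_torsionOf_iff] at hz
        exact (‹q.IsPrime›.mem_or_mem (hQq hz)).resolve_right hsq
      have hx' : x ∈ Q'' := by
        rw [SetLike.mem_coe, Ideal.mem_torsionOf_iff, mul_smul, ← hf'] at hs
        rw [Ideal.mem_torsionOf_iff, mul_smul, ← hf', smul_comm, hs]
      by_contra
      exact hmax Q'' ⟨hle'', _, rfl⟩ (lt_of_le_of_ne hQQ'' fun h => hx (by rw [h]; exact hx'))
  let RQ := Localization.AtPrime Q
  let _ : Module (ResidueField RQ) (Submodule.torsionBySet RQ RQ (maximalIdeal RQ : Set RQ)) :=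
    (inferInstance : Module (RQ ⧸ maximalIdeal RQ) (Submodule.torsionBySet RQ RQ (maximalIdeal RQ : Set RQ)))
  have : IsScalarTower RQ (ResidueField RQ) (Submodule.torsionBySet RQ RQ (maximalIdeal RQ : Set RQ)) :=
    (inferInstance : IsScalarTower RQ (RQ ⧸ maximalIdeal RQ) (Submodule.torsionBySet RQ RQ (maximalIdeal RQ : Set RQ)))
  have hmem : ∀ j, algebraMap R RQ (bR.repr f' j) ∈ (Submodule.torsionBySet RQ RQ (maximalIdeal RQ : Set RQ)) := fun j => by
    rw [Submodule.mem_torsionBySet_iff]
    rintro ⟨y, hy⟩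
    rw [SetLike.mem_coe, ← Localization.AtPrime.map_eq_maximalIdeal] at hy
    show y * _ = 0
    refine Submodule.span_induction ?_ (zero_mul _) (fun a c _ _ ha hc => by rw [add_mul, ha, hc, add_zero])
      (fun c a _ ha => by rw [smul_eq_mul, mul_assoc, ha, mul_zero]) hy
    rintro _ ⟨z, hz, rfl⟩
    have : z • f' = 0 := hz
    rw [← map_mul, show z * bR.repr f' j = bR.repr (z • f') j by rw [LinearEquiv.map_smul bR.repr z f']; rfl, this, map_zero,
      Finsupp.zero_apply, map_zero]
  obtain ⟨j₀, hj₀⟩ : ∃ j, algebraMap R RQ (bR.repr f' j) ≠ 0 := by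
    by_contra! hc
    choose s hs using fun j => (IsLocalization.map_eq_zero_iff Q.primeCompl RQ _).1 (hc j)
    have h1 : (∏ j ∈ (bR.repr f').support, (s j : R)) • f' = 0 := by
      refine bR.repr.injective (Finsupp.ext fun j => ?_)
      rw [map_smul, map_zero, Finsupp.smul_apply, smul_eq_mul, Finsupp.zero_apply]
      by_cases hj : j ∈ (bR.repr f').support
      · rw [← Finset.prod_erase_mul _ _ hj, mul_assoc, hs, mul_zero]
      · rw [Finsupp.notMem_support_iff.1 hj, mul_zero]
    obtain ⟨j, -, hj⟩ := hQp.prod_mem_iff.1 ((Ideal.mem_torsionOf_iff _ _).2 h1)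
    exact (s j).2 hj
  obtain ⟨lam, hlam⟩ := Module.Projective.exists_dual_ne_zero (ResidueField RQ)
    (x := (⟨_, hmem j₀⟩ : (Submodule.torsionBySet RQ RQ (maximalIdeal RQ : Set RQ)))) (fun h => hj₀ (congrArg Subtype.val h))
  let κ := ResidueField RQ
  have : IsDomain (κ ⊗[k] A) := VarietyBC.isDomain_tensor
  let ρ : R →ₐ[k] κ := IsScalarTower.toAlgHom k R κ
  let m : R ⊗[k] A →ₐ[k] κ ⊗[k] A := Algebra.TensorProduct.map ρ (AlgHom.id k A)
  let bκ := Algebra.TensorProduct.basis κ b
  have hm : ∀ (x : R ⊗[k] A) j, bκ.repr (m x) j = ρ (bR.repr x j) := by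
    intro x j
    induction x using TensorProduct.induction_on with
    | zero => simp
    | add x y hx hy => simp only [map_add, Finsupp.add_apply, hx, hy]
    | tmul r a =>
      simp only [m, bκ, bR, Algebra.TensorProduct.map_tmul, AlgHom.coe_id, id_eq,
        Algebra.TensorProduct.basis_repr_tmul, Finsupp.smul_apply, Finsupp.mapRange_apply, smul_eq_mul, map_mul]
      rw [AlgHom.commutes]
  have hmg : m g ≠ 0 := fun h => by
    have h1 := hm g i
    rw [h, map_zero, Finsupp.zero_apply] at h1
    have h2 : algebraMap R RQ (bR.repr g i) ∈ maximalIdeal RQ := (residue_eq_zero_iff _).1 h1.symm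
    rw [IsLocalization.AtPrime.to_map_mem_maximal_iff RQ Q] at h2
    exact hg (hQq h2)
  let v : κ ⊗[k] A := ∑ j ∈ (bR.repr f').support, lam ⟨_, hmem j⟩ ⊗ₜ[k] b j
  have hv : m g * v = 0 := by
    have hgf' : g * f' = 0 := by rw [hf', mul_smul_comm, hgf, smul_zero]
    refine bκ.repr.injective (Finsupp.ext fun l => ?_)
    rw [map_zero, Finsupp.zero_apply]
    have h0 : ∑ j ∈ (bR.repr f').support,
        bR.repr (g * ((1 : R) ⊗ₜ[k] b j)) l * bR.repr f' j = 0 := by
      have := congrArg (fun x => bR.repr x l) hgf'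
      rw [← bR.linearCombination_repr f', Finsupp.linearCombination_apply, Finsupp.sum, Finset.mul_sum] at this
      simp only [map_sum, Finsupp.coe_finsetSum, Finset.sum_apply, map_zero, Finsupp.zero_apply,
        mul_smul_comm, map_smul, Finsupp.smul_apply, smul_eq_mul] at this
      rw [← this]
      exact Finset.sum_congr rfl fun j _ => by rw [mul_comm, Algebra.TensorProduct.basis_apply]
    have h1 : (∑ j ∈ (bR.repr f').support,
        algebraMap R RQ (bR.repr (g * ((1 : R) ⊗ₜ[k] b j)) l) • (⟨_, hmem j⟩ : (Submodule.torsionBySet RQ RQ (maximalIdeal RQ : Set RQ)))) = 0 := Subtype.ext (by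
      simp only [Submodule.coe_sum, Submodule.coe_smul, smul_eq_mul, ← map_mul, ← map_sum, h0, map_zero,
        ZeroMemClass.coe_zero])
    have h2 := congrArg lam h1
    rw [map_sum, map_zero] at h2
    rw [Finset.mul_sum, map_sum, Finsupp.coe_finsetSum, Finset.sum_apply]
    refine Eq.trans (Finset.sum_congr rfl fun j _ => ?_) h2
    rw [← algebraMap_smul κ (algebraMap R RQ _), LinearMap.map_smul lam, smul_eq_mul,
      show algebraMap RQ κ (algebraMap R RQ (bR.repr (g * ((1 : R) ⊗ₜ[k] b j)) l)) =
        ρ (bR.repr (g * ((1 : R) ⊗ₜ[k] b j)) l) from rfl, ← hm, map_mul m,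
      show m ((1 : R) ⊗ₜ[k] b j) = (1 : κ) ⊗ₜ[k] b j from by simp [m]]
    generalize lam ⟨_, hmem j⟩ = t
    rw [show t ⊗ₜ[k] b j = t • ((1 : κ) ⊗ₜ[k] b j) by
        rw [TensorProduct.smul_tmul', smul_eq_mul, mul_one],
      mul_smul_comm, map_smul, Finsupp.smul_apply, smul_eq_mul, mul_comm]
  have hv0 : v ≠ 0 := fun h => by
    have := congrArg (fun x => bκ.repr x j₀) h
    simp only [v, map_sum, Finsupp.coe_finsetSum, Finset.sum_apply, bκ, Algebra.TensorProduct.basis_repr_tmul,
      Module.Basis.repr_self, Finsupp.smul_apply, Finsupp.mapRange_single, map_one, Finsupp.single_apply,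
      smul_eq_mul, mul_ite, mul_one, mul_zero, map_zero, Finsupp.zero_apply] at this
    rw [Finset.sum_ite_eq' , if_pos (Finsupp.mem_support_iff.2 fun h0 => hj₀ (by rw [h0, map_zero]))] at this
    exact hlam this
  exact hv0 ((mul_eq_zero.1 hv).resolve_left hmg)

end Aux

/-- Let k be an algebraically closed field, A a finitely generated k-algebra which is an integral domain
(X = Spec A an affine variety), R a commutative k-algebra, possibly non-reduced, and U an open
subset of X_R = Spec (R ⊗_k A) meeting every fibre of X_R → Spec R (a very dense open subset). Then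
a regular function on X_R whose restriction to U vanishes is zero: if f ∈ R ⊗_k A maps to 0 in the
localisation (R ⊗_k A)[1/g] for every g with D(g) ⊆ U, then f = 0. (The published statement is that
automorphisms of a torsor under a smooth affine group scheme over X_R which are the identity over a
very dense open subset are the identity, for X a smooth projective curve; its proof reduces this to
the present assertion about functions, for quasi-projective X; this row is the affine case.) -/
theorem result
    (k : Type u) [Field k] [IsAlgClosed k]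
    (A : Type u) [CommRing A] [Algebra k A] [IsDomain A] [Algebra.FiniteType k A]
    (R : Type u) [CommRing R] [Algebra k R]
    (U : TopologicalSpace.Opens (PrimeSpectrum (TensorProduct k R A)))
    (hsurj : ∀ q : PrimeSpectrum R, ∃ P ∈ U,
      PrimeSpectrum.comap (Algebra.TensorProduct.includeLeftRingHom : R →+* TensorProduct k R A) P = q)
    (f : TensorProduct k R A)
    (hf : ∀ g : TensorProduct k R A, (PrimeSpectrum.basicOpen g : Set (PrimeSpectrum (TensorProduct k R A))) ⊆ U →
      algebraMap (TensorProduct k R A) (Localization.Away g) f = 0) :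
    f = 0 := by
  classical
  by_contra hne
  let b := Module.Free.chooseBasis k A
  let bR := Algebra.TensorProduct.basis R b
  obtain ⟨qm, hqm, hle⟩ := Ideal.exists_le_maximal (Ideal.torsionOf R _ f) fun h => hne (by
    have : (1 : R) ∈ Ideal.torsionOf R _ f := by rw [h]; exact Submodule.mem_top
    simpa using this)
  obtain ⟨P, hPU, hPq⟩ := hsurj ⟨qm, hqm.isPrime⟩
  obtain ⟨_, ⟨g, rfl⟩, hgP, hgU⟩ := PrimeSpectrum.isTopologicalBasis_basic_opens.exists_subset_of_mem_open hPU U.2
  obtain ⟨⟨_, N, rfl⟩, hN⟩ := (IsLocalization.map_eq_zero_iff (Submonoid.powers g) (Localization.Away g) f).1 (hf g hgU)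
  have hgN : g ^ N ∉ P.asIdeal := fun h => hgP (P.isPrime.mem_of_pow_mem N h)
  obtain ⟨i, hi⟩ : ∃ i, bR.repr (g ^ N) i ∉ qm := by
    by_contra! hc
    refine hgN ?_
    rw [← bR.linearCombination_repr (g ^ N), Finsupp.linearCombination_apply]
    refine sum_mem fun i _ => ?_
    show bR.repr (g ^ N) i • bR i ∈ _
    rw [Algebra.smul_def]
    refine Ideal.mul_mem_right _ _ ?_
    have := congrArg PrimeSpectrum.asIdeal hPq
    exact this.ge (hc i)
  -- a finitely generated subalgebra containing all coefficients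
  let T : Finset R := (bR.repr f).support.image (bR.repr f) ∪ (bR.repr (g ^ N)).support.image (bR.repr (g ^ N))
  let R₀ := Algebra.adjoin k (T : Set R)
  have : Algebra.FiniteType k R₀ := ⟨(Subalgebra.fg_top R₀).2 (Subalgebra.fg_adjoin_finset T)⟩
  have : IsNoetherianRing R₀ := Algebra.FiniteType.isNoetherianRing k R₀
  let j : TensorProduct k R₀ A →ₐ[k] TensorProduct k R A := Algebra.TensorProduct.map R₀.val (AlgHom.id k A)
  have hj : Function.Injective j :=
    Module.Flat.rTensor_preserves_injective_linearMap R₀.val.toLinearMap Subtype.val_injective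
  let b₀ := Algebra.TensorProduct.basis R₀ b
  have hjr : ∀ (x : TensorProduct k R₀ A) l, bR.repr (j x) l = (b₀.repr x l : R) := by
    intro x l
    induction x using TensorProduct.induction_on with
    | zero => simp
    | add x y hx hy => simp only [map_add, Finsupp.add_apply, hx, hy, AddMemClass.coe_add]
    | tmul r a =>
      simp only [j, bR, b₀, Algebra.TensorProduct.map_tmul, AlgHom.coe_id, id_eq,
        Algebra.TensorProduct.basis_repr_tmul, Finsupp.smul_apply, Finsupp.mapRange_apply, smul_eq_mul,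
        MulMemClass.coe_mul]
      rfl
  have hlift : ∀ x : TensorProduct k R A, (∀ l, bR.repr x l ∈ R₀) → ∃ y, j y = x := fun x hx => by
    refine ⟨∑ l ∈ (bR.repr x).support, (⟨_, hx l⟩ : R₀) ⊗ₜ[k] b l, ?_⟩
    conv_rhs => rw [← bR.linearCombination_repr x, Finsupp.linearCombination_apply, Finsupp.sum]
    rw [map_sum]
    refine Finset.sum_congr rfl fun l _ => ?_
    simp [j, bR, TensorProduct.smul_tmul']
  have hcoef : ∀ x : TensorProduct k R A, (bR.repr x).support.image (bR.repr x) ⊆ T → ∀ l, bR.repr x l ∈ R₀ :=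
    fun x hsub l => by
      by_cases hl : l ∈ (bR.repr x).support
      · exact Algebra.subset_adjoin (hsub (Finset.mem_image_of_mem _ hl))
      · rw [Finsupp.notMem_support_iff.1 hl]; exact zero_mem _
  obtain ⟨f₀, hf₀⟩ := hlift f (hcoef f Finset.subset_union_left)
  obtain ⟨g₀, hg₀⟩ := hlift (g ^ N) (hcoef _ Finset.subset_union_right)
  let q₀ : Ideal R₀ := qm.comap R₀.val
  have : qm.IsPrime := hqm.isPrime
  have : q₀.IsPrime := Ideal.comap_isPrime _ _
  refine ann_notLE b q₀ f₀ g₀ (hj (by rw [map_mul, hf₀, hg₀, map_zero]; exact hN)) i ?_ ?_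
  · show (b₀.repr g₀ i : R) ∉ qm
    rw [← hjr, hg₀]
    exact hi
  · intro x hx
    refine hle ?_
    rw [Ideal.mem_torsionOf_iff] at hx ⊢
    rw [← hf₀]
    have : j (x • f₀) = (x : R) • j f₀ := by
      rw [show x • f₀ = (x ⊗ₜ[k] (1 : A)) * f₀ from Algebra.smul_def x f₀, map_mul,
        show j (x ⊗ₜ[k] (1 : A)) = (x : R) ⊗ₜ[k] (1 : A) by simp [j]]
      exact (Algebra.smul_def (x : R) (j f₀)).symm
    show (x : R) • j f₀ = 0
    rw [← this, hx, map_zero]

end Groth.Agent.S19310
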