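import Groth.Statements.S19312
import Groth.Agent.DecShCurve.Setup

set_option autoImplicit false
universe u
open CategoryTheory CategoryTheory.Limits AlgebraicGeometry
open DecSh

namespace Groth.Agent.S19312

/-- Let k be an algebraically closed field of characteristic zero, X a reduced proper k-scheme of
dimension one without isolated points, L an ample invertible O_X-module, E a coherent O_X-module
with torsion free stalks, α(M) = χ(M ⊗ L) − χ(M) the multiplicity, and T a tensor field on E of type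
(a, b) with values in a module D. Let (F•, m) be a weighted filtration of E by coherent subsheaves
and let (F•¹, m¹) be a sub-filtration of it: its pieces are F¹_j = F_{e(j)} and its weights m¹_j =
m_{e(j)} for a map e of index sets (necessarily a strictly increasing injection). Then μ(F•, m, φ) ≤
μ(F•¹, m¹, φ) + (Σ_i m_i − Σ_j m¹_j) · a · (α(E) − 1): dropping steps of total weight w raises μ by
at most w · a · (α(E) − 1). (The published lemma is for a nodal curve and a coherent module of
uniform multirank, not necessarily torsion free, with a locally free target D; this row assumes E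
torsion free and allows any target. The same inequality serves on a smooth possibly disconnected
curve, where the source uses the opposite sign convention for μ.) -/
theorem result
    (k : Type u) [Field k] [IsAlgClosed k] [CharZero k]
    (X : Scheme.{u}) [X.Over (Spec (CommRingCat.of k))] [IsProper (X ↘ Spec (CommRingCat.of k))]
    [AlgebraicGeometry.IsReduced X] (hdim : topologicalKrullDim X = 1)
    (hpure : ∀ x : X, ¬ IsOpen ({x} : Set X))
    (L : X.Modules) (hL : CohB1.IsAmple L)
    (E : X.Modules) (hE : Coh.IsCoh E) (htf : TorSh.IsTorsionFree E)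
    {D : X.Modules} {a b : ℕ} (T : DecSh.TF E a b D)
    (𝓕 𝓕₁ : DecSh.WFilt E) (e : Fin 𝓕₁.t → Fin 𝓕.t)
    (hpiece : ∀ j, 𝓕₁.piece j = 𝓕.piece (e j)) (hwt : ∀ j, 𝓕₁.wt j = 𝓕.wt (e j))
    (hcoh : ∀ i, Coh.IsCoh ((𝓕.piece i : Subobject E) : X.Modules)) :
    T.mu k L 𝓕 ≤ T.mu k L 𝓕₁ + ((∑ i, 𝓕.wt i) - ∑ j, 𝓕₁.wt j) * (a : ℚ) * ((DecSh.mult k X L E : ℚ) - 1) := by
  classical
  have hp := Groth.DecShCurve.isPure_of_hyp k inferInstance hdim.le hpure htf
  let αf : Subobject E → ℤ := fun P => DecSh.mult k X L (P : X.Modules)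
  let αE : ℤ := DecSh.mult k X L E
  obtain ⟨I₁, hadm, hI⟩ := 𝓕₁.exists_gam_eq_mu αE αf T.nv
  let lift : Fin (𝓕₁.t + 1) → Fin (𝓕.t + 1) := Fin.lastCases (Fin.last 𝓕.t) fun j => (e j).castSucc
  have hX : ∀ j, 𝓕.pieceX (lift j) = 𝓕₁.pieceX j := by
    intro j
    induction j using Fin.lastCases with
    | last => simp [lift]
    | cast l => simp [lift, hpiece]
  have hm : ∀ j, 𝓕.mulX αE αf (lift j) = 𝓕₁.mulX αE αf j := by
    intro j
    induction j using Fin.lastCases with
    | last => simp [lift]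
    | cast l => simp [lift, hpiece]
  have he : Function.Injective e := fun i j hij => 𝓕₁.piece_strictMono.injective (by rw [hpiece, hpiece, hij])
  let I : Fin a → Fin (𝓕.t + 1) := fun j => lift (I₁ j)
  have hI' : 𝓕.Adm T.nv I := by
    have : (fun j => 𝓕.pieceX (I j)) = fun j => 𝓕₁.pieceX (I₁ j) := funext fun j => hX _
    show T.nv.nz _
    rw [this]
    exact hadm
  refine le_trans (𝓕.mu_le_gam αE αf T.nv hI') ?_
  change 𝓕.gam αE αf I ≤ 𝓕₁.mu αE αf T.nv + _
  rw [← hI]
  set g : Fin 𝓕.t → ℚ := fun i => 𝓕.wt i * ((a : ℚ) * (αf (𝓕.piece i) : ℚ) - (𝓕.nu αE αf I i : ℚ) * (αE : ℚ))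
    with hg
  set B : ℚ := (a : ℚ) * ((αE : ℚ) - 1) with hB
  have h1 : 𝓕₁.gam αE αf I₁ = ∑ i ∈ Finset.univ.image e, g i := by
    rw [Finset.sum_image he.injOn, DecSh.WFilt.gam]
    refine Finset.sum_congr rfl fun j _ => ?_
    have hν : 𝓕.nu αE αf I (e j) = 𝓕₁.nu αE αf I₁ j := by
      simp only [DecSh.WFilt.nu, I, hm, hpiece]
    simp only [hg, hν, hwt, hpiece]
  have h2 : (∑ i, 𝓕.wt i) - ∑ j, 𝓕₁.wt j = ∑ i ∈ (Finset.univ.image e)ᶜ, 𝓕.wt i := by
    have h : ∑ j, 𝓕₁.wt j = ∑ i ∈ Finset.univ.image e, 𝓕.wt i := by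
      rw [Finset.sum_image he.injOn]; exact Finset.sum_congr rfl fun j _ => hwt j
    rw [h, ← Finset.sum_add_sum_compl (Finset.univ.image e) 𝓕.wt]; ring
  have h3 : 𝓕.gam αE αf I = (∑ i ∈ Finset.univ.image e, g i) + ∑ i ∈ (Finset.univ.image e)ᶜ, g i :=
    (Finset.sum_add_sum_compl _ _).symm
  rw [h3, h1, h2, mul_assoc, Finset.sum_mul]
  refine add_le_add le_rfl (Finset.sum_le_sum fun i _ => ?_)
  exact mul_le_mul_of_nonneg_left
    ((le_abs_self _).trans (Groth.DecShCurve.term_bound k hdim.le hL hE hp 𝓕 hcoh I i)) (𝓕.wt_pos i).le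

end Groth.Agent.S19312
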