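import Groth.Statements.S19316
import Groth.Agent.DecShCurve.Sectional
import Groth.Agent.DecShCurve.Parabolic
import Groth.Agent.EulerDeg.Tensor

set_option autoImplicit false
universe u
open CategoryTheory CategoryTheory.Limits AlgebraicGeometry
open DecSh

namespace Groth.Agent.S19316

/-- Let k be an algebraically closed field of characteristic zero, Y a smooth proper k-scheme of
dimension one without isolated points (possibly disconnected) and L an ample invertible O_Y-module.
Fix finitely many effective Cartier ideal sheaves I_1, …, I_ν on Y (the divisors D_i), rational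
weights κ_i with 0 < κ_i < 1, δ > 0, natural numbers r, a, b and an integer d. Consider the locally
free O_Y-modules E of rank r and degree d (χ(E) − r·χ(O_Y) = d) for which there exist k-subspaces
K_i ⊂ H⁰(E ⊗ O_{D_i}) with quotients of dimension r and a tensor field of type (a, b) on E with
values in some O_Y-module, (κ, δ)-semistable with respect to L. This family is bounded: there is n₀
such that for every such E and every n ≥ n₀, H¹(Y, E ⊗ L^{⊗n}) = 0 and E ⊗ L^{⊗n} is globally
generated. (The published statement fixes the target det(E)^{⊗c} ⊗ L' of the tensor field and takes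
the D_i to be the pairs of points over the nodes; allowing any target and any effective divisors
gives a larger family, bounded by the same argument.) -/
theorem result
    (k : Type u) [Field k] [IsAlgClosed k] [CharZero k]
    (Y : Scheme.{u}) [Y.Over (Spec (CommRingCat.of k))] [IsProper (Y ↘ Spec (CommRingCat.of k))]
    [Smooth (Y ↘ Spec (CommRingCat.of k))] (hdim : topologicalKrullDim Y = 1)
    (hpure : ∀ y : Y, ¬ IsOpen ({y} : Set Y))
    (L : Y.Modules) (hL : CohB1.IsAmple L)
    {ν : ℕ} (I : Fin ν → Y.IdealSheafData) (hI : ∀ i, FGA.IsEffCartier (I i))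
    (κ : Fin ν → ℚ) (hκ : ∀ i, 0 < κ i ∧ κ i < 1) (δ : ℚ) (hδ : 0 < δ)
    (r a b : ℕ) (d : ℤ) :
    ∃ n₀ : ℕ, ∀ n : ℕ, n₀ ≤ n → ∀ E : Y.Modules,
      (FlatMod.IsFinLocFreeOfRank r E ∧ Curv2.deg k Y E r = d ∧
        ∃ (K : ∀ i, Submodule k (ParSh.fibD Y (I i) E)),
          (∀ i, Module.finrank k (ParSh.fibD Y (I i) E ⧸ K i) = r) ∧
          ∃ (D : Y.Modules) (T : DecSh.TF E a b D), T.IsParSemistable k I K κ L δ) →
      Subsingleton (Coh.HH Y (CohB1.tensorMod E (CohB1.tensorPow L n)) 1) ∧
        Curv2.IsGloballyGenerated (CohB1.tensorMod E (CohB1.tensorPow L n)) := by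
  haveI : Infinite k := IsAlgClosed.instInfinite
  let e : ℤ := d + (r : ℤ) * Curv2.euler k Y (Coh.structureModule Y)
  let A : ℤ := (r : ℤ) * Curv2.deg k Y L 1
  let Cq : ℚ := |(e : ℚ)| + 2 * ((r : ℚ) * (ν : ℚ)) + δ * (a : ℚ) * (A : ℚ)
  obtain ⟨n₀, hn₀⟩ := Groth.DecShCurve.exists_regular_twist k hdim.le hL A e ⌈Cq⌉
  refine ⟨n₀, fun n hn E ⟨hE, hd, K, hK, D, T, hT⟩ => ?_⟩
  have hAE : DecSh.mult k Y L E = (r : ℤ) * Curv2.deg k Y L 1 := by
    have h := Groth.EulerDeg.deg_tensor k hdim.le hE (Groth.LocFree.isInvertible_iff_ofRank_one.mp hL.1)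
    simp only [Curv2.deg] at h ⊢
    rw [DecSh.mult]
    push_cast at h ⊢
    linarith
  have hχE : Curv2.euler k Y E = d + (r : ℤ) * Curv2.euler k Y (Coh.structureModule Y) := by
    rw [Groth.EulerDeg.euler_eq_deg_add k E r, hd]
  obtain ⟨hEc, hp⟩ := Groth.DecShCurve.coh_pure_of_rank k hdim.le hpure hE
  have hsub : ∀ (G : Y.Modules) (i : G ⟶ E), Mono i → Coh.IsCoh G → Curv2.euler k Y G ≤ ⌈Cq⌉ := fun G i hi hG => by
    haveI := hi
    have h := Groth.DecShCurve.euler_le_of_isParSemistable k I hEc K κ hκ hK hdim.le hL hp T hδ hT i hG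
    rw [hAE, hχE] at h
    exact_mod_cast h.trans (Int.le_ceil Cq)
  exact hn₀ n hn E hEc hp hAE.le hχE.ge hsub

end Groth.Agent.S19316
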