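import Groth.Statements.S19317
import Groth.Agent.DecShCurve.Sectional
import Groth.Agent.DecShCurve.Family

set_option autoImplicit false
universe u
open CategoryTheory CategoryTheory.Limits AlgebraicGeometry
open DecSh

namespace Groth.Agent.S19317

/-- Let k be an algebraically closed field of characteristic zero, X a reduced proper k-scheme of
dimension one without isolated points, and L an ample invertible O_X-module which is moreover very
ample relative to some projective space over k (the pull-back of O(1) along an immersion). Write χ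
for the Euler characteristic over k, M(m) = M ⊗ L^{⊗m}, h⁰(M) = dim_k H⁰(X, M) and α(M) = χ(M ⊗ L) −
χ(M). Fix δ > 0, integers α and e, natural numbers a, b and a finite locally free O_X-module D. Then
there is N₀ such that for every m ≥ N₀, every coherent O_X-module E with torsion free stalks, α(E) =
α and χ(E) = e, and every tensor field T of type (a, b) on E with values in D, the following hold,
all weighted filtrations (F•, m•) being by coherent subsheaves F_i with weights m_i and μ denoting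
μ(F•, m•, φ): (1) T is δ-semistable with respect to L if and only if Σ_i m_i (α · h⁰(F_i(m)) −
α(F_i) · χ(E(m))) + δ μ ≤ 0 for every weighted filtration; (2) T is δ-semistable if and only if Σ_i
m_i (α(E/F_i) · χ(E(m)) − α · h⁰((E/F_i)(m))) + δ μ ≤ 0 for every weighted filtration; (3) if T is
δ-semistable then H¹(X, E(m)) = 0. (Only the semistable version of the published equivalence is
stated; the published setting is a reduced projective curve with a very ample polarisation and a
locally free D, as here.) -/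
theorem result
    (k : Type u) [Field k] [IsAlgClosed k] [CharZero k]
    (X : Scheme.{u}) [X.Over (Spec (CommRingCat.of k))] [IsProper (X ↘ Spec (CommRingCat.of k))]
    [AlgebraicGeometry.IsReduced X] (hdim : topologicalKrullDim X = 1)
    (hpure : ∀ x : X, ¬ IsOpen ({x} : Set X))
    (L : X.Modules) (hL : CohB1.IsAmple L) (hva : RelAmple.IsRelVeryAmplePn (X ↘ Spec (CommRingCat.of k)) L)
    (δ : ℚ) (hδ : 0 < δ) (α e : ℤ) (a b : ℕ) (D : X.Modules) (hD : FlatMod.IsFinLocFree D) :
    ∃ N₀ : ℕ, ∀ m : ℕ, N₀ ≤ m → ∀ (E : X.Modules), Coh.IsCoh E → TorSh.IsTorsionFree E →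
      DecSh.mult k X L E = α → Curv2.euler k X E = e → ∀ T : DecSh.TF E a b D,
        (T.IsSemistable k L δ ↔
          ∀ 𝓕 : DecSh.WFilt E, (∀ i, Coh.IsCoh ((𝓕.piece i : Subobject E) : X.Modules)) →
            (∑ i, 𝓕.wt i * ((α : ℚ) *
                (Module.finrank k (Coh.HH X (ShStab.twist X L ((𝓕.piece i : Subobject E) : X.Modules) m) 0) : ℚ) -
              (DecSh.mult k X L ((𝓕.piece i : Subobject E) : X.Modules) : ℚ) *
                (Curv2.euler k X (ShStab.twist X L E m) : ℚ))) + δ * T.mu k L 𝓕 ≤ 0) ∧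
        (T.IsSemistable k L δ ↔
          ∀ 𝓕 : DecSh.WFilt E, (∀ i, Coh.IsCoh ((𝓕.piece i : Subobject E) : X.Modules)) →
            (∑ i, 𝓕.wt i * ((DecSh.mult k X L (cokernel (𝓕.piece i).arrow) : ℚ) *
                (Curv2.euler k X (ShStab.twist X L E m) : ℚ) -
              (α : ℚ) * (Module.finrank k (Coh.HH X (ShStab.twist X L (cokernel (𝓕.piece i).arrow) m) 0) : ℚ))) +
              δ * T.mu k L 𝓕 ≤ 0) ∧
        (T.IsSemistable k L δ → Subsingleton (Coh.HH X (ShStab.twist X L E m) 1)) := by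
  haveI : Infinite k := IsAlgClosed.instInfinite
  let Cq : ℚ := |(e : ℚ)| + δ * (a : ℚ) * (α : ℚ)
  let M : ℤ := ⌈|(e : ℚ)| + δ * (a : ℚ)⌉ + 1
  have hM : |(e : ℚ) - 0| + δ * (a : ℚ) < (M : ℚ) := by
    rw [sub_zero]
    have := Int.le_ceil (|(e : ℚ)| + δ * (a : ℚ))
    simp only [M]; push_cast; linarith
  obtain ⟨n₁, hn₁⟩ := Groth.DecShCurve.exists_dichotomy k hdim.le hL α ⌈Cq⌉ M
  obtain ⟨N₁, C₁, hC₁⟩ := Groth.DecShCurve.exists_sub_bound k hdim.le hL hva hδ α e a b D
  obtain ⟨n₂, hn₂⟩ := Groth.DecShCurve.exists_regular_twist k hdim.le hL α e C₁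

  have hsect : ∀ (m : ℕ), n₁ ≤ m → ∀ (E : X.Modules) (hE : Coh.IsCoh E), TorSh.IsTorsionFree E →
      DecSh.mult k X L E = α → Curv2.euler k X E = e → ∀ T : DecSh.TF E a b D, T.IsSemistable k L δ →
      ∀ 𝓕 : DecSh.WFilt E, (∀ i, Coh.IsCoh ((𝓕.piece i : Subobject E) : X.Modules)) →
        let S : ℚ := (∑ i, 𝓕.wt i * ((α : ℚ) *
            (Module.finrank k (Coh.HH X (ShStab.twist X L ((𝓕.piece i : Subobject E) : X.Modules) m) 0) : ℚ) -
          (DecSh.mult k X L ((𝓕.piece i : Subobject E) : X.Modules) : ℚ) *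
            (Curv2.euler k X (ShStab.twist X L E m) : ℚ))) + δ * T.mu k L 𝓕
        S ≤ 0 ∧ (S = 0 → ∀ i,
          Subsingleton (Coh.HH X (ShStab.twist X L ((𝓕.piece i : Subobject E) : X.Modules) m) 1)) := by
    intro m hm E hE htf hα he T hT 𝓕 hcoh
    have hp := Groth.DecShCurve.isPure_of_hyp k inferInstance hdim.le hpure htf
    have hsub : ∀ (G : X.Modules) (i : G ⟶ E), Mono i → Coh.IsCoh G → Curv2.euler k X G ≤ ⌈Cq⌉ := fun G i hi hG => by
      haveI := hi
      have h := Groth.DecShCurve.euler_le_of_isSemistable k hdim.le hL hE hp T hδ hT i hG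
      rw [hα, he] at h
      exact_mod_cast h.trans (Int.le_ceil Cq)
    have h := Groth.DecShCurve.sectional_of_dichotomy k hdim.le hL hE hp T hδ (fun _ => 0) (fun _ => le_rfl) 0
      (by simpa [DecSh.TF.IsSemistable] using hT) (n := m) (M := M) (by rw [he]; exact hM) 𝓕 hcoh fun i =>
        hn₁ m hm _ (hcoh i) (Groth.HilbStab.isPure_of_mono hp (𝓕.piece i).arrow) (𝓕.piece_nonzero i)
          (hα ▸ Groth.DecShCurve.mult_le_of_mono k hdim.le hL (𝓕.piece i).arrow (hcoh i) hE)
          (fun H v hv hH => by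
            haveI := hv
            exact hsub H (v ≫ (𝓕.piece i).arrow) (mono_comp _ _) hH)
    simp only [sub_zero, hα] at h
    exact h
  refine ⟨max n₁ (max n₂ N₁), fun m hm E hE htf hα he T => ?_⟩
  have hp := Groth.DecShCurve.isPure_of_hyp k inferInstance hdim.le hpure htf
  have hα0 : (0 : ℚ) ≤ (α : ℚ) := by
    exact_mod_cast hα ▸ Groth.DecShCurve.mult_nonneg k hdim.le hL hE
  have hEm : (Curv2.euler k X (ShStab.twist X L E m) : ℚ) = (e : ℚ) + (m : ℚ) * (α : ℚ) := by
    have := Groth.DecShCurve.euler_twist k hdim.le hL hE m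
    rw [hα, he] at this
    exact_mod_cast this
  -- the linear part computed from a piece or from its quotient
  have hbase : ∀ P : Subobject E, Coh.IsCoh (P : X.Modules) →
      (DecSh.mult k X L (cokernel P.arrow) : ℚ) * (Curv2.euler k X (ShStab.twist X L E m) : ℚ) -
        (α : ℚ) * (Curv2.euler k X (ShStab.twist X L (cokernel P.arrow) m) : ℚ) =
      (α : ℚ) * (Curv2.euler k X (P : X.Modules) : ℚ) - (DecSh.mult k X L (P : X.Modules) : ℚ) * (e : ℚ) := by
    intro P hP
    haveI := hP.1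
    have h1 : (α : ℚ) = (DecSh.mult k X L (P : X.Modules) : ℚ) + (DecSh.mult k X L (cokernel P.arrow) : ℚ) := by
      rw [← hα]; exact_mod_cast Groth.DecShCurve.mult_mono k hdim.le hL P.arrow hP hE
    have h2 : (e : ℚ) = (Curv2.euler k X (P : X.Modules) : ℚ) + (Curv2.euler k X (cokernel P.arrow) : ℚ) := by
      rw [← he]; exact_mod_cast Groth.DecShCurve.euler_mono k P.arrow hP hE
    have h3 : (Curv2.euler k X (ShStab.twist X L (cokernel P.arrow) m) : ℚ) =
        (Curv2.euler k X (cokernel P.arrow) : ℚ) + (m : ℚ) * (DecSh.mult k X L (cokernel P.arrow) : ℚ) := by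
      exact_mod_cast Groth.DecShCurve.euler_twist k hdim.le hL (Groth.QCohMod.isCoh_cokernel P.arrow hE) m
    rw [hEm, h3, h2, h1]; ring
  have hchi : ∀ 𝓕 : DecSh.WFilt E, T.IsSemistable k L δ →
      (∀ i, Coh.IsCoh ((𝓕.piece i : Subobject E) : X.Modules)) →
      (∑ i, 𝓕.wt i * ((α : ℚ) * (Curv2.euler k X ((𝓕.piece i : Subobject E) : X.Modules) : ℚ) -
        (DecSh.mult k X L ((𝓕.piece i : Subobject E) : X.Modules) : ℚ) * (e : ℚ))) + δ * T.mu k L 𝓕 ≤ 0 :=
    fun 𝓕 hT hcoh => by
      have h := hT 𝓕 hcoh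
      simp only [DecSh.WFilt.msum, hα, he] at h
      convert h using 3
      rw [DecSh.TF.mu, hα]
  have hss : (∀ 𝓕 : DecSh.WFilt E, (∀ i, Coh.IsCoh ((𝓕.piece i : Subobject E) : X.Modules)) →
      (∑ i, 𝓕.wt i * ((α : ℚ) * (Curv2.euler k X ((𝓕.piece i : Subobject E) : X.Modules) : ℚ) -
        (DecSh.mult k X L ((𝓕.piece i : Subobject E) : X.Modules) : ℚ) * (e : ℚ))) + δ * T.mu k L 𝓕 ≤ 0) →
      T.IsSemistable k L δ := fun h 𝓕 hcoh => by
    have h := h 𝓕 hcoh
    simp only [DecSh.WFilt.msum, hα, he]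
    convert h using 3
    rw [DecSh.TF.mu, hα]
  have hh1 : ∀ F : X.Modules, (Module.finrank k (Coh.HH X F 0) : ℚ) =
      (Curv2.euler k X F : ℚ) + (Module.finrank k (Coh.HH X F 1) : ℚ) := fun F => by
    rw [Groth.EulerDeg.euler_eq_h0_sub_h1 k X hdim.le F]; push_cast; ring
  refine ⟨⟨fun hT 𝓕 hcoh => (hsect m (by omega) E hE htf hα he T hT 𝓕 hcoh).1, fun h => hss fun 𝓕 hcoh => ?_⟩,
    ⟨fun hT 𝓕 hcoh => ?_, fun h => hss fun 𝓕 hcoh => ?_⟩, fun hT => ?_⟩
  · refine le_trans (add_le_add (Finset.sum_le_sum fun i _ => mul_le_mul_of_nonneg_left ?_ (𝓕.wt_pos i).le) le_rfl)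
      (h 𝓕 hcoh)
    have h3 : (Curv2.euler k X (ShStab.twist X L ((𝓕.piece i : Subobject E) : X.Modules) m) : ℚ) =
        (Curv2.euler k X ((𝓕.piece i : Subobject E) : X.Modules) : ℚ) +
          (m : ℚ) * (DecSh.mult k X L ((𝓕.piece i : Subobject E) : X.Modules) : ℚ) := by
      exact_mod_cast Groth.DecShCurve.euler_twist k hdim.le hL (hcoh i) m
    rw [hh1, h3, hEm]
    have := mul_nonneg hα0 (Nat.cast_nonneg (α := ℚ)
      (Module.finrank k (Coh.HH X (ShStab.twist X L ((𝓕.piece i : Subobject E) : X.Modules) m) 1)))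
    linarith
  · refine le_trans (add_le_add (Finset.sum_le_sum fun i _ => mul_le_mul_of_nonneg_left ?_ (𝓕.wt_pos i).le) le_rfl)
      (hchi 𝓕 hT hcoh)
    rw [← hbase _ (hcoh i), hh1]
    have := mul_nonneg hα0 (Nat.cast_nonneg (α := ℚ)
      (Module.finrank k (Coh.HH X (ShStab.twist X L (cokernel (𝓕.piece i).arrow) m) 1)))
    linarith
  · have hsub := hC₁ E hE hp hα he ⟨T, Or.inr ⟨m, by omega, h⟩⟩
    have h1 := (hn₂ m (by omega) E hE hp hα.le he.ge hsub).1
    refine le_trans (le_of_eq ?_) (h 𝓕 hcoh)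
    refine congrArg (· + δ * T.mu k L 𝓕) (Finset.sum_congr rfl fun i _ => ?_)
    haveI := (hcoh i).1
    have hEm' : Coh.IsCoh (ShStab.twist X L E m) :=
      Groth.RefRank.isCoh_tensorMod hE (Groth.Inter.isCoh_of_isInvertible (Groth.PicAux.isInvertible_tensorPow hL.1 m))
    haveI : PreservesColimitsOfSize.{0, 0} (DCoh.tensorRightMod (CohB1.tensorPow L m)) := by
      haveI := Groth.PicAux.isEquivalence_tensorRightMod_of_isInvertible (L := CohB1.tensorPow L m)
        (Groth.PicAux.isInvertible_tensorPow hL.1 m)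
      infer_instance
    haveI : Epi ((DCoh.tensorRightMod (CohB1.tensorPow L m)).map (cokernel.π (𝓕.piece i).arrow)) :=
      (DCoh.tensorRightMod (CohB1.tensorPow L m)).map_epi _
    have h2 : Module.finrank k (Coh.HH X (ShStab.twist X L (cokernel (𝓕.piece i).arrow) m) 1) = 0 := by
      have h0 : Module.finrank k (Coh.HH X (ShStab.twist X L E m) 1) = 0 := Module.finrank_zero_of_subsingleton
      have := Groth.DecShCurve.h1_le_of_epi k hdim.le
        ((DCoh.tensorRightMod (CohB1.tensorPow L m)).map (cokernel.π (𝓕.piece i).arrow)) hEm'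
      change _ ≤ Module.finrank k (Coh.HH X (ShStab.twist X L E m) 1) at this
      exact Nat.le_zero.1 (h0 ▸ this)
    rw [← hbase _ (hcoh i), hh1, h2]
    simp
  · have hsub := hC₁ E hE hp hα he ⟨T, Or.inl hT⟩
    exact (hn₂ m (by omega) E hE hp hα.le he.ge hsub).1

end Groth.Agent.S19317
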