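import Groth.Statements.S19318
import Groth.Agent.DecShCurve.Sectional
import Groth.Agent.DecShCurve.Parabolic
import Groth.Agent.EulerDeg.Tensor

set_option autoImplicit false
universe u
open CategoryTheory CategoryTheory.Limits AlgebraicGeometry
open DecSh

namespace Groth.Agent.S19318

/-- Let k be an algebraically closed field of characteristic zero, Y a smooth proper k-scheme of
dimension one without isolated points (possibly disconnected) and L an ample invertible O_Y-module;
write χ for the Euler characteristic over k, M(n) = M ⊗ L^{⊗n}, h⁰(M) = dim_k H⁰(Y, M), α(M) = χ(M ⊗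
L) − χ(M). Fix effective Cartier ideal sheaves I_1, …, I_ν (divisors D_j), rational weights 0 < κ_j
< 1, δ > 0, natural numbers r, a, b and an integer d. Then there is n₁ such that for every n > n₁
the following holds. Let E be locally free of rank r and degree d (χ(E) − r χ(O_Y) = d) with
k-subspaces K_j ⊂ H⁰(E ⊗ O_{D_j}) whose quotients q_j have dimension r, let T be a tensor field of
type (a, b) on E with values in an O_Y-module D such that (E, K, T) is (κ, δ)-semistable with
respect to L, and let (E•, m•) be a weighted filtration of E by coherent subsheaves E_i with weights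
m_i. For a subsheaf P ⊆ E put c(P) = Σ_j κ_j · dim q_j(image of H⁰(P ⊗ O_{D_j})), so that the
κ-parabolic Euler characteristic is parχ(P) = χ(P) − c(P); put parh⁰(E_i(n)) = h⁰(E_i(n)) − c(E_i)
and parχ(E(n)) = χ(E(n)) − c(E). Then Σ_i m_i (α(E) · parh⁰(E_i(n)) − α(E_i) · parχ(E(n))) + δ ·
μ(E•, m•, φ) ≤ 0, with μ taken in the sign convention where δ-semistability reads 'linear part + δ μ
≤ 0' (the source writes this chapter with the opposite signs). (Only the semistable version is
stated; the published target of the tensor field is det(E)^{⊗c} ⊗ L' and the D_j are the pairs of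
points over the nodes of the curve being normalised — the argument uses neither.) -/
theorem result
    (k : Type u) [Field k] [IsAlgClosed k] [CharZero k]
    (Y : Scheme.{u}) [Y.Over (Spec (CommRingCat.of k))] [IsProper (Y ↘ Spec (CommRingCat.of k))]
    [Smooth (Y ↘ Spec (CommRingCat.of k))] (hdim : topologicalKrullDim Y = 1)
    (hpure : ∀ y : Y, ¬ IsOpen ({y} : Set Y))
    (L : Y.Modules) (hL : CohB1.IsAmple L)
    {ν : ℕ} (I : Fin ν → Y.IdealSheafData) (hI : ∀ i, FGA.IsEffCartier (I i))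
    (κ : Fin ν → ℚ) (hκ : ∀ i, 0 < κ i ∧ κ i < 1) (δ : ℚ) (hδ : 0 < δ)
    (r a b : ℕ) (d : ℤ) :
    ∃ n₁ : ℕ, ∀ n : ℕ, n₁ < n → ∀ (E : Y.Modules), FlatMod.IsFinLocFreeOfRank r E → Curv2.deg k Y E r = d →
      ∀ (K : ∀ i, Submodule k (ParSh.fibD Y (I i) E)),
        (∀ i, Module.finrank k (ParSh.fibD Y (I i) E ⧸ K i) = r) →
        ∀ (D : Y.Modules) (T : DecSh.TF E a b D), T.IsParSemistable k I K κ L δ →
          ∀ 𝓕 : DecSh.WFilt E, (∀ i, Coh.IsCoh ((𝓕.piece i : Subobject E) : Y.Modules)) →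
            (∑ i, 𝓕.wt i *
              ((DecSh.mult k Y L E : ℚ) *
                  ((Module.finrank k (Coh.HH Y (ShStab.twist Y L ((𝓕.piece i : Subobject E) : Y.Modules) n) 0) : ℚ) -
                    ((Curv2.euler k Y ((𝓕.piece i : Subobject E) : Y.Modules) : ℚ) -
                      DecSh.parChi k I K κ (𝓕.piece i).arrow)) -
                (DecSh.mult k Y L ((𝓕.piece i : Subobject E) : Y.Modules) : ℚ) *
                  ((Curv2.euler k Y (ShStab.twist Y L E n) : ℚ) -
                    ((Curv2.euler k Y E : ℚ) - DecSh.parChi k I K κ (𝟙 E))))) +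
              δ * T.mu k L 𝓕 ≤ 0 := by
  haveI : Infinite k := IsAlgClosed.instInfinite
  let e : ℤ := d + (r : ℤ) * Curv2.euler k Y (Coh.structureModule Y)
  let A : ℤ := (r : ℤ) * Curv2.deg k Y L 1
  let Cq : ℚ := |(e : ℚ)| + 2 * ((r : ℚ) * (ν : ℚ)) + δ * (a : ℚ) * (A : ℚ)
  let M : ℤ := ⌈|(e : ℚ)| + (r : ℚ) * (ν : ℚ) + δ * (a : ℚ)⌉ + 1
  obtain ⟨n₁, hn₁⟩ := Groth.DecShCurve.exists_dichotomy k hdim.le hL A ⌈Cq⌉ M
  refine ⟨n₁, fun n hn E hE hd K hK D T hT 𝓕 hcoh => ?_⟩
  have hAE : DecSh.mult k Y L E = (r : ℤ) * Curv2.deg k Y L 1 := by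
    have h := Groth.EulerDeg.deg_tensor k hdim.le hE (Groth.LocFree.isInvertible_iff_ofRank_one.mp hL.1)
    simp only [Curv2.deg] at h ⊢
    rw [DecSh.mult]
    push_cast at h ⊢
    linarith
  have hχE : Curv2.euler k Y E = d + (r : ℤ) * Curv2.euler k Y (Coh.structureModule Y) := by
    rw [Groth.EulerDeg.euler_eq_deg_add k E r, hd]
  obtain ⟨hEc, hp⟩ := Groth.DecShCurve.coh_pure_of_rank k hdim.le hpure hE
  have hsub : ∀ (G : Y.Modules) (i : G ⟶ E), Mono i → Coh.IsCoh G → Curv2.euler k Y G ≤ ⌈Cq⌉ := fun G i hi hG => by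
    haveI := hi
    have h := Groth.DecShCurve.euler_le_of_isParSemistable k I hEc K κ hκ hK hdim.le hL hp T hδ hT i hG
    rw [hAE, hχE] at h
    exact_mod_cast h.trans (Int.le_ceil Cq)
  obtain ⟨c0, c1⟩ := Groth.DecShCurve.parC_bounds k I hEc K κ hκ hK (𝟙 E)
  have h := Groth.DecShCurve.sectional_of_dichotomy k hdim.le hL hEc hp T hδ
    (fun P => Groth.DecShCurve.parC k I K κ P.arrow)
    (fun P => (Groth.DecShCurve.parC_bounds k I hEc K κ hκ hK P.arrow).1) (Groth.DecShCurve.parC k I K κ (𝟙 E))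
    (by
      simp only [Groth.DecShCurve.parC, sub_sub_cancel]
      exact hT)
    (n := n) (M := M) (by
      have h1 := Int.le_ceil (|(e : ℚ)| + (r : ℚ) * (ν : ℚ) + δ * (a : ℚ))
      have h2 := abs_sub (Curv2.euler k Y E : ℚ) (Groth.DecShCurve.parC k I K κ (𝟙 E))
      rw [abs_of_nonneg c0, hχE] at h2
      rw [hχE]
      simp only [M, e] at h1 ⊢
      push_cast at h1 h2 ⊢
      linarith) 𝓕 hcoh fun i =>
      hn₁ n (by omega) _ (hcoh i) (Groth.HilbStab.isPure_of_mono hp (𝓕.piece i).arrow) (𝓕.piece_nonzero i)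
        ((Groth.DecShCurve.mult_le_of_mono k hdim.le hL (𝓕.piece i).arrow (hcoh i) hEc).trans hAE.le)
        (fun H v hv hH => by
          haveI := hv
          exact hsub H (v ≫ (𝓕.piece i).arrow) (mono_comp _ _) hH)
  exact h.1

end Groth.Agent.S19318
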