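import Groth.Statements.S19320
import Groth.Agent.DecShCurve.Family

set_option autoImplicit false
universe u
open CategoryTheory CategoryTheory.Limits AlgebraicGeometry
open DecSh

namespace Groth.Agent.S19320

/-- Let k be an algebraically closed field of characteristic zero, X a reduced proper k-scheme of
dimension one without isolated points, and L an ample invertible O_X-module which is very ample
relative to some projective space over k; write χ for the Euler characteristic over k, M(m) = M ⊗
L^{⊗m}, h⁰(M) = dim_k H⁰(X, M), α(M) = χ(M ⊗ L) − χ(M). Fix δ > 0, integers α and e, natural numbers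
a, b and a finite locally free O_X-module D. Then there is N₁ such that the following family of
coherent O_X-modules F is bounded (all members occur up to isomorphism among the fibres at k-points
of one coherent module on X × T, T of finite type): F has torsion free stalks, α(F) = α and χ(F) =
e, and F carries a tensor field T of type (a, b) with values in D which is either δ-semistable with
respect to L, or satisfies for some m ≥ N₁ the quotient sectional condition: Σ_i m_i (α(F/F_i) ·
χ(F(m)) − α · h⁰((F/F_i)(m))) + δ μ(F•, m•, φ) ≤ 0 for every weighted filtration (F•, m•) of F by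
coherent subsheaves. (This family is the union over m ≥ N₁ of the sets of tensor fields satisfying
the quotient sectional condition at m, together with the δ-semistable ones; the published setting is
a reduced projective curve with a very ample polarisation and a locally free D, as here.) -/
theorem result
    (k : Type u) [Field k] [IsAlgClosed k] [CharZero k]
    (X : Scheme.{u}) [X.Over (Spec (CommRingCat.of k))] [IsProper (X ↘ Spec (CommRingCat.of k))]
    [AlgebraicGeometry.IsReduced X] (hdim : topologicalKrullDim X = 1)
    (hpure : ∀ x : X, ¬ IsOpen ({x} : Set X))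
    (L : X.Modules) (hL : CohB1.IsAmple L) (hva : RelAmple.IsRelVeryAmplePn (X ↘ Spec (CommRingCat.of k)) L)
    (δ : ℚ) (hδ : 0 < δ) (α e : ℤ) (a b : ℕ) (D : X.Modules) (hD : FlatMod.IsFinLocFree D) :
    ∃ N₁ : ℕ, Pic13.IsBounded k X (fun F => Coh.IsCoh F ∧ TorSh.IsTorsionFree F ∧ DecSh.mult k X L F = α ∧ Curv2.euler k X F = e ∧
          ∃ T : DecSh.TF F a b D, (T.IsSemistable k L δ ∨ ∃ m : ℕ, N₁ ≤ m ∧
            ∀ 𝓕 : DecSh.WFilt F, (∀ i, Coh.IsCoh ((𝓕.piece i : Subobject F) : X.Modules)) →
              (∑ i, 𝓕.wt i * ((DecSh.mult k X L (cokernel (𝓕.piece i).arrow) : ℚ) *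
                  (Curv2.euler k X (ShStab.twist X L F m) : ℚ) -
                (α : ℚ) * (Module.finrank k (Coh.HH X (ShStab.twist X L (cokernel (𝓕.piece i).arrow) m) 0) : ℚ))) +
                δ * T.mu k L 𝓕 ≤ 0)) := by
  haveI : Infinite k := IsAlgClosed.instInfinite
  obtain ⟨N₁, C, hC⟩ := Groth.DecShCurve.exists_sub_bound k hdim.le hL hva hδ α e a b D
  refine ⟨N₁, Groth.Pic13Aux.isBounded_mono (Groth.DecShCurve.isBounded_family k hdim.le hL α e e C)
    fun F ⟨hF, htf, hα, he, T, hT⟩ => ?_⟩
  have hp := Groth.DecShCurve.isPure_of_hyp k inferInstance hdim.le hpure htf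
  exact ⟨hF, hp, hα.le, he.ge, he.le, hC F hF hp hα he ⟨T, hT⟩⟩

end Groth.Agent.S19320
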