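import Groth.Statements.S19321
import Groth.Agent.DecShCurve.Family

set_option autoImplicit false
universe u
open CategoryTheory CategoryTheory.Limits AlgebraicGeometry
open DecSh

namespace Groth.Agent.S19321

/-- Let k be an algebraically closed field of characteristic zero, X a reduced proper k-scheme of
dimension one without isolated points, and L an ample invertible O_X-module which is very ample
relative to some projective space over k; write χ for the Euler characteristic over k, M(m) = M ⊗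
L^{⊗m}, h⁰(M) = dim_k H⁰(X, M), α(M) = χ(M ⊗ L) − χ(M). Fix δ > 0, integers α and e, natural numbers
a, b and a finite locally free O_X-module D. Then there is N₁ such that for every rational number C
the following family of coherent O_X-modules F′ is bounded: F′ admits a monomorphism with torsion
free cokernel (a saturated subsheaf) into some coherent F with torsion free stalks, α(F) = α, χ(F) =
e, which carries a tensor field T of type (a, b) with values in D that is δ-semistable with respect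
to L or satisfies for some m ≥ N₁ the quotient sectional condition Σ_i m_i (α(F/F_i) · χ(F(m)) − α ·
h⁰((F/F_i)(m))) + δ μ ≤ 0 for all weighted filtrations of F by coherent subsheaves; and |χ(F′) −
α(F′) · (e − aδ)/α| ≤ C. (The last condition is the source's |deg F′ − α(F′) μ_s| ≤ C with μ_s =
(deg F − aδ)/α, rewritten through χ: the correction terms by the rational rank cancel. The published
setting is a reduced projective curve with a very ample polarisation and a locally free D, as here.) -/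
theorem result
    (k : Type u) [Field k] [IsAlgClosed k] [CharZero k]
    (X : Scheme.{u}) [X.Over (Spec (CommRingCat.of k))] [IsProper (X ↘ Spec (CommRingCat.of k))]
    [AlgebraicGeometry.IsReduced X] (hdim : topologicalKrullDim X = 1)
    (hpure : ∀ x : X, ¬ IsOpen ({x} : Set X))
    (L : X.Modules) (hL : CohB1.IsAmple L) (hva : RelAmple.IsRelVeryAmplePn (X ↘ Spec (CommRingCat.of k)) L)
    (δ : ℚ) (hδ : 0 < δ) (α e : ℤ) (a b : ℕ) (D : X.Modules) (hD : FlatMod.IsFinLocFree D) :
    ∃ N₁ : ℕ, ∀ C : ℚ, Pic13.IsBounded k X (fun F' => Coh.IsCoh F' ∧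
      (∃ (F : X.Modules) (ι : F' ⟶ F), Mono ι ∧ TorSh.IsTorsionFree (cokernel ι) ∧
        Coh.IsCoh F ∧ TorSh.IsTorsionFree F ∧ DecSh.mult k X L F = α ∧ Curv2.euler k X F = e ∧
          ∃ T : DecSh.TF F a b D, (T.IsSemistable k L δ ∨ ∃ m : ℕ, N₁ ≤ m ∧
            ∀ 𝓕 : DecSh.WFilt F, (∀ i, Coh.IsCoh ((𝓕.piece i : Subobject F) : X.Modules)) →
              (∑ i, 𝓕.wt i * ((DecSh.mult k X L (cokernel (𝓕.piece i).arrow) : ℚ) *
                  (Curv2.euler k X (ShStab.twist X L F m) : ℚ) -
                (α : ℚ) * (Module.finrank k (Coh.HH X (ShStab.twist X L (cokernel (𝓕.piece i).arrow) m) 0) : ℚ))) +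
                δ * T.mu k L 𝓕 ≤ 0)) ∧
      |(Curv2.euler k X F' : ℚ) - (DecSh.mult k X L F' : ℚ) * (((e : ℚ) - (a : ℚ) * δ) / (α : ℚ))| ≤ C) := by
  haveI : Infinite k := IsAlgClosed.instInfinite
  obtain ⟨N₁, C₀, hC₀⟩ := Groth.DecShCurve.exists_sub_bound k hdim.le hL hva hδ α e a b D
  refine ⟨N₁, fun C => ?_⟩
  let μs : ℚ := ((e : ℚ) - (a : ℚ) * δ) / (α : ℚ)
  refine Groth.Pic13Aux.isBounded_mono
    (Groth.DecShCurve.isBounded_family k hdim.le hL α (-⌈C + |μs| * |(α : ℚ)|⌉) ⌈C + |μs| * |(α : ℚ)|⌉ C₀)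
    fun F' ⟨hF', ⟨F, ι, hι, _, hF, htf, hα, he, T, hT⟩, hd⟩ => ?_
  haveI := hι
  have hp := Groth.DecShCurve.isPure_of_hyp k inferInstance hdim.le hpure htf
  have h1 : DecSh.mult k X L F' ≤ α := hα ▸ Groth.DecShCurve.mult_le_of_mono k hdim.le hL ι hF' hF
  have h2 : |(DecSh.mult k X L F' : ℚ) * μs| ≤ |μs| * |(α : ℚ)| := by
    have h0 : (0 : ℚ) ≤ DecSh.mult k X L F' := by
      exact_mod_cast Groth.DecShCurve.mult_nonneg k hdim.le hL hF'
    have h1' : (DecSh.mult k X L F' : ℚ) ≤ (α : ℚ) := by exact_mod_cast h1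
    rw [abs_mul, abs_of_nonneg h0, mul_comm]
    exact mul_le_mul_of_nonneg_left (h1'.trans (le_abs_self _)) (abs_nonneg _)
  have h3 : |(Curv2.euler k X F' : ℚ)| ≤ (⌈C + |μs| * |(α : ℚ)|⌉ : ℚ) := by
    refine le_trans ?_ (Int.le_ceil _)
    have h := abs_add_le ((Curv2.euler k X F' : ℚ) - (DecSh.mult k X L F' : ℚ) * μs)
      ((DecSh.mult k X L F' : ℚ) * μs)
    rw [sub_add_cancel] at h
    have hd' : |(Curv2.euler k X F' : ℚ) - (DecSh.mult k X L F' : ℚ) * μs| ≤ C := hd
    linarith
  have h4 := abs_le.1 h3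
  refine ⟨hF', Groth.HilbStab.isPure_of_mono hp ι, h1, ?_, ?_, fun G i hi hG => ?_⟩
  · exact_mod_cast h4.1
  · exact_mod_cast h4.2
  · haveI := hi
    exact hC₀ F hF hp hα he ⟨T, hT⟩ G (i ≫ ι) (mono_comp i ι) hG

end Groth.Agent.S19321
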