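import Groth.Statements.S19322
import Groth.Agent.CategoryFibred.SpSeqPages
import Mathlib.Algebra.Category.ModuleCat.Kernels
import Mathlib.Algebra.Homology.ShortComplex.ModuleCat
import Mathlib.LinearAlgebra.FiniteDimensional.Basic
import Mathlib.LinearAlgebra.Dimension.RankNullity
import Mathlib.LinearAlgebra.Dimension.DivisionRing
import Mathlib.Algebra.Order.BigOperators.Group.Finset

set_option autoImplicit false
universe v u
open CategoryTheory CategoryTheory.Limits
open SpSeq

namespace Groth.Agent.S19322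
open Groth.CatFib SpSeq

lemma sc_rank {K : Type u} [Field K] (S : ShortComplex (ModuleCat.{v} K)) [Module.Finite K S.X₂] :
    Module.Finite K S.homology ∧ Module.finrank K S.homology ≤ Module.finrank K S.X₂ ∧
      (Module.finrank K S.homology = Module.finrank K S.X₂ → S.f = 0 ∧ S.g = 0) := by
  let e : S.homology ≃ₗ[K] (LinearMap.ker S.g.hom ⧸ LinearMap.range S.moduleCatToCycles) := S.moduleCatHomologyIso.toLinearEquiv
  have h₁ := Submodule.finrank_quotient_add_finrank (LinearMap.range S.moduleCatToCycles)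
  have h₂ := Submodule.finrank_le (LinearMap.ker S.g.hom)
  have hf : Module.Finite K (LinearMap.ker S.g.hom ⧸ LinearMap.range S.moduleCatToCycles) := inferInstance
  have he : Module.finrank K S.homology = Module.finrank K (LinearMap.ker S.g.hom ⧸ LinearMap.range S.moduleCatToCycles) :=
    e.finrank_eq
  refine ⟨haveI := hf; Module.Finite.equiv e.symm, by omega, fun h => ?_⟩
  have hr : LinearMap.range S.moduleCatToCycles = ⊥ := Submodule.finrank_eq_zero.1 (by omega)
  have hk : LinearMap.ker S.g.hom = ⊤ := Submodule.eq_top_of_finrank_eq (by omega)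
  exact ⟨ModuleCat.hom_ext (LinearMap.ext fun x => congrArg Subtype.val (LinearMap.congr_fun (LinearMap.range_eq_bot.1 hr) x)),
    ModuleCat.hom_ext (LinearMap.ker_eq_top.1 hk)⟩

lemma gr_rank {K : Type u} [Field K] {X : ModuleCat.{v} K} (hX : Module.Finite K X) (F : ℤ → Subobject X)
    (hF : Antitone F) (p : ℤ) :
    Module.finrank K (SpSeq.grPiece F hF p : ModuleCat.{v} K) + Module.finrank K (F (p + 1) : ModuleCat.{v} K) =
      Module.finrank K (F p : ModuleCat.{v} K) := by
  have : Module.Finite K (F p : ModuleCat.{v} K) :=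
    Module.Finite.of_injective (F p).arrow.hom ((ModuleCat.mono_iff_injective _).1 inferInstance)
  let i := (F (p + 1)).ofLE (F p) (hF (Int.le_add_one le_rfl))
  have e : Module.finrank K (SpSeq.grPiece F hF p : ModuleCat.{v} K) = Module.finrank K ((F p : ModuleCat.{v} K) ⧸ LinearMap.range i.hom) :=
    (ModuleCat.cokernelIsoRangeQuotient i).toLinearEquiv.finrank_eq
  rw [e, ← LinearMap.finrank_range_of_inj ((ModuleCat.mono_iff_injective i).1 inferInstance)]
  exact Submodule.finrank_quotient_add_finrank (LinearMap.range i.hom)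


/-- Let K be a field and E a cohomological spectral sequence of K-vector spaces, pages from r₀,
concentrated in the first quadrant on page r₀ and with all terms of page r₀ finite-dimensional, and
let H be abutment data for E whose filtration in degree n is finite, H n finite-dimensional. If the
dimensions of the page-r₀ terms E^{s, n-s}, 0 ≤ s ≤ n, add up to the dimension of H n, then every
position of total degree n is stationary from page r₀ on: all differentials into and out of it
vanish on every page. (The printed statement takes r₀ a positive integer and n ≥ 0; neither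
restriction is needed.) -/
theorem result
    {K : Type u} [Field K] {r₀ : ℤ}
    (E : CohomologicalSpectralSequence (ModuleCat.{v} K) r₀) (H : ℤ → ModuleCat.{v} K)
    (a : SpSeq.Abutment E H) (n : ℤ) (hfin : a.IsFinite n)
    (hquad : ∀ pq : ℤ × ℤ, pq.1 < 0 ∨ pq.2 < 0 → IsZero ((E.page r₀ le_rfl).X pq))
    (hfd : ∀ pq : ℤ × ℤ, Module.Finite K ((E.page r₀ le_rfl).X pq))
    (hH : Module.Finite K (H n))
    (hsum : ∑ s ∈ Finset.Icc (0 : ℤ) n, Module.finrank K ((E.page r₀ le_rfl).X (s, n - s)) =
      Module.finrank K (H n)) :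
    ∀ s : ℤ, SpSeq.StationaryAt E (s, n - s) r₀ := by
  have step : ∀ (k : ℤ) (hk : r₀ ≤ k) (pq : ℤ × ℤ), Module.Finite K ((E.page k hk).X pq) →
      Module.Finite K ((E.page (k + 1) (by omega)).X pq) ∧
      Module.finrank K ((E.page (k + 1) (by omega)).X pq) ≤ Module.finrank K ((E.page k hk).X pq) ∧
      (Module.finrank K ((E.page (k + 1) (by omega)).X pq) = Module.finrank K ((E.page k hk).X pq) →
        (E.page k hk).d (pq - (k, 1 - k)) pq = 0 ∧ (E.page k hk).d pq (pq + (k, 1 - k)) = 0) := by
    intro k hk pq hf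
    have : Module.Finite K ((E.page k hk).sc pq).X₂ := hf
    obtain ⟨a₁, a₂, a₃⟩ := sc_rank ((E.page k hk).sc pq)
    let e : ((E.page k hk).sc pq).homology ≃ₗ[K] (E.page (k + 1) (by omega)).X pq := (E.iso k (k + 1) pq).toLinearEquiv
    refine ⟨Module.Finite.equiv e, e.finrank_eq.symm.le.trans a₂, fun h => ?_⟩
    obtain ⟨z₁, z₂⟩ := a₃ (e.finrank_eq.trans h)
    have u₁ : ∀ i, i = (ComplexShape.up' ((k, 1 - k) : ℤ × ℤ)).prev pq → (E.page k hk).d i pq = 0 := fun i hi => hi ▸ z₁
    have u₂ : ∀ i, i = (ComplexShape.up' ((k, 1 - k) : ℤ × ℤ)).next pq → (E.page k hk).d pq i = 0 := fun i hi => hi ▸ z₂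
    exact ⟨u₁ _ (SpSeqPages.prev_eq k pq).symm, u₂ _ (SpSeqPages.next_eq k pq).symm⟩
  have dec : ∀ (pq : ℤ × ℤ) (j k : ℤ) (hj : r₀ ≤ j) (hjk : j ≤ k),
      Module.Finite K ((E.page k (hj.trans hjk)).X pq) ∧
        (Module.Finite K ((E.page j hj).X pq) →
          Module.finrank K ((E.page k (hj.trans hjk)).X pq) ≤ Module.finrank K ((E.page j hj).X pq)) := by
    intro pq j k hj hjk
    have fin : ∀ (m : ℤ) (hm : r₀ ≤ m), Module.Finite K ((E.page m hm).X pq) := by
      intro m hm
      induction m, hm using Int.le_induction with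
      | base => exact hfd pq
      | succ m hm ih => exact (step m hm pq ih).1
    refine ⟨fin _ _, fun _ => ?_⟩
    induction k, hjk using Int.le_induction with
    | base => exact le_rfl
    | succ m hm ih => exact (step m (hj.trans hm) pq (fin _ _)).2.1.trans ih
  have zero : ∀ p : ℤ, p < 0 ∨ n < p → IsZero (SpSeq.grPiece (a.fil n) (a.anti n) p) := fun p hp =>
    SpSeqPages.isZero_grPiece a r₀ le_rfl n p (hquad _ (by simp; omega))
  have top : a.fil n 0 = ⊤ :=
    SpSeqPages.eq_top_of_isZero_grPiece (a.anti n) _ hfin.1 fun p hp => zero p (Or.inl hp)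
  intro s
  refine ⟨le_rfl, fun k hk _ => ?_⟩
  by_cases hs : s < 0 ∨ n < s
  · have hz := SpSeqPages.isZero_up E r₀ le_rfl (s, n - s) (hquad _ (by simp; omega)) k hk hk
    exact ⟨hz.eq_of_tgt _ _, hz.eq_of_src _ _⟩
  obtain ⟨n', rfl⟩ : ∃ m : ℕ, n = m := ⟨n.toNat, by omega⟩
  have bot : a.fil n' ((n' : ℤ) + 1) = ⊥ :=
    SpSeqPages.eq_bot_of_isZero_grPiece (a.anti n') _ hfin.2 fun p hp => zero p (Or.inr (by omega))
  have tele : ∀ m : ℕ, ∑ p ∈ Finset.range m, Module.finrank K (SpSeq.grPiece (a.fil n') (a.anti n') p : ModuleCat.{v} K) +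
      Module.finrank K (a.fil n' (m : ℤ) : ModuleCat.{v} K) = Module.finrank K (a.fil n' 0 : ModuleCat.{v} K) := by
    intro m
    induction m with
    | zero => simp
    | succ m ih =>
      rw [Finset.sum_range_succ, ← ih, add_assoc, Nat.cast_succ, gr_rank hH (a.fil n') (a.anti n') m]
  have h0 : Module.finrank K (a.fil n' (((n' + 1 : ℕ) : ℤ)) : ModuleCat.{v} K) = 0 := by
    have hz := SpSeqPages.isZero_of_eq_bot _ (show a.fil n' (((n' + 1 : ℕ) : ℤ)) = ⊥ by push_cast; exact bot)
    have := ModuleCat.subsingleton_of_isZero hz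
    exact Module.finrank_zero_of_subsingleton
  have hT : Module.finrank K (a.fil n' 0 : ModuleCat.{v} K) = Module.finrank K (H n') := by
    rw [top]
    exact (asIso (⊤ : Subobject (H n')).arrow).toLinearEquiv.finrank_eq
  have lim : ∀ p : ℤ, Module.finrank K (SpSeq.grPiece (a.fil n') (a.anti n') p : ModuleCat.{v} K) =
      Module.finrank K ((E.page (a.rk (p, n' - p)) (a.stat _).1).X (p, n' - p)) := by
    intro p
    have key : ∀ t : ℤ, p + (n' - p) = t → Module.finrank K (SpSeq.grPiece (a.fil t) (a.anti t) p : ModuleCat.{v} K) =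
        Module.finrank K ((E.page (a.rk (p, n' - p)) (a.stat _).1).X (p, n' - p)) := by
      rintro t rfl
      exact (a.β (p, n' - p)).toLinearEquiv.finrank_eq.symm
    exact key n' (by omega)
  have sum' : ∑ p ∈ Finset.range (n' + 1), Module.finrank K ((E.page r₀ le_rfl).X ((p : ℤ), (n' : ℤ) - p)) =
      ∑ p ∈ Finset.range (n' + 1), Module.finrank K (SpSeq.grPiece (a.fil n') (a.anti n') p : ModuleCat.{v} K) := by
    have t := tele (n' + 1)
    rw [h0, add_zero, hT, ← hsum] at t
    rw [t]
    refine Finset.sum_bij (fun p _ => (p : ℤ)) (fun p hp => by simp at hp ⊢; omega) (fun _ _ _ _ h => by simpa using h)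
      (fun q hq => ⟨q.toNat, by simp at hq ⊢; omega, by simp at hq ⊢; omega⟩) (fun p _ => rfl)
  have each : ∀ p ∈ Finset.range (n' + 1), Module.finrank K (SpSeq.grPiece (a.fil n') (a.anti n') p : ModuleCat.{v} K) =
      Module.finrank K ((E.page r₀ le_rfl).X ((p : ℤ), (n' : ℤ) - p)) :=
    (Finset.sum_eq_sum_iff_of_le (fun (p : ℕ) (_ : p ∈ Finset.range (n' + 1)) => (lim p).le.trans ((dec _ r₀ _ le_rfl (a.stat _).1).2 (hfd _)))).1 sum'.symm
  have hs' := each s.toNat (by simp; omega)
  rw [Int.toNat_of_nonneg (by omega), lim] at hs'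
  have hM : StationaryAt E (s, n' - s) (max (k + 1) (a.rk (s, n' - s))) :=
    ⟨by omega, fun r' h₀ h => (a.stat _).2 r' h₀ (by omega)⟩
  have eM := (SpSeqPages.statIso E _ _ _ hM (a.stat _)).toLinearEquiv.finrank_eq
  have l1 := (dec (s, n' - s) (k + 1) (max (k + 1) (a.rk (s, n' - s))) (by omega) (le_max_left _ _)).2
    (dec (s, n' - s) r₀ (k + 1) le_rfl (by omega)).1
  have l2 := (dec (s, n' - s) r₀ k le_rfl hk).2 (hfd _)
  have st := step k hk (s, n' - s) (dec (s, n' - s) r₀ k le_rfl hk).1
  exact st.2.2 (by omega)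

end Groth.Agent.S19322
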