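import Groth.Statements.S19323
import Groth.Agent.CategoryFibred.SpSeqPages

set_option autoImplicit false
universe v u
open CategoryTheory CategoryTheory.Limits
open SpSeq

namespace Groth.Agent.S19323
open Groth.CatFib SpSeq

/-- In an abelian category let E and E' be first-quadrant E₂ cohomological spectral sequences and φ : E
⟶ E' a morphism of spectral sequences such that (i) every differential of E' leaving a position
whose first coordinate is nonzero vanishes, (ii) on every page the map φ at each position followed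
by the outgoing differential of E' is zero, and (iii) φ is a monomorphism at every position of page
2. Then E degenerates at page 2. -/
theorem result
    {C : Type u} [Category.{v} C] [Abelian C]
    (E E' : E₂CohomologicalSpectralSequence C) (φ : E ⟶ E')
    (hE : ∀ pq : ℤ × ℤ, pq.1 < 0 ∨ pq.2 < 0 → IsZero ((E.page 2 le_rfl).X pq))
    (hE' : ∀ pq : ℤ × ℤ, pq.1 < 0 ∨ pq.2 < 0 → IsZero ((E'.page 2 le_rfl).X pq))
    (hd' : ∀ (r : ℤ) (hr : 2 ≤ r) (pq : ℤ × ℤ), pq.1 ≠ 0 →
      (E'.page r hr).d pq (pq + (r, 1 - r)) = 0)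
    (hφd : ∀ (r : ℤ) (hr : 2 ≤ r) (pq : ℤ × ℤ),
      (φ.hom r hr).f pq ≫ (E'.page r hr).d pq (pq + (r, 1 - r)) = 0)
    (hmono : ∀ pq : ℤ × ℤ, Mono ((φ.hom 2 le_rfl).f pq)) :
    SpSeq.Degenerates E 2 := by
  have quad : ∀ (F : E₂CohomologicalSpectralSequence C), (∀ pq : ℤ × ℤ, pq.1 < 0 ∨ pq.2 < 0 → IsZero ((F.page 2 le_rfl).X pq)) →
      ∀ (r : ℤ) (hr : 2 ≤ r) (pq : ℤ × ℤ), pq.1 < 0 ∨ pq.2 < 0 → IsZero ((F.page r hr).X pq) :=
    fun F hF r hr pq h => SpSeqPages.isZero_up F 2 le_rfl pq (hF pq h) r hr hr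
  have dz : ∀ (r : ℤ) (hr : 2 ≤ r), (∀ pq : ℤ × ℤ, r ≤ pq.1 → Mono ((φ.hom r hr).f pq)) →
      ∀ pq pq' : ℤ × ℤ, (E.page r hr).d pq pq' = 0 := by
    intro r hr hm pq pq'
    by_cases h : pq + (r, 1 - r) = pq'
    swap; exact SpSeqPages.d_eq_zero E r hr _ _ h
    subst h
    by_cases h0 : pq.1 < 0
    · exact (quad E hE r hr pq (Or.inl h0)).eq_of_src _ _
    have := hm (pq + (r, 1 - r)) (by simp; omega)
    apply zero_of_comp_mono ((φ.hom r hr).f (pq + (r, 1 - r)))
    rw [← (φ.hom r hr).comm, hφd r hr pq]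
  refine ⟨le_rfl, fun r hr _ pq pq' => dz r hr ?_ pq pq'⟩
  induction r, hr using Int.le_induction with
  | base => exact fun pq _ => hmono pq
  | succ r hr ih =>
    intro pq hpq
    refine SpSeqPages.mono_succ φ r hr pq (dz r hr (ih hr) _ _) (dz r hr (ih hr) _ _) ?_ (hd' r hr pq (by omega)) (ih hr pq (by omega))
    have := hd' r hr (pq - (r, 1 - r)) (by simp; omega)
    rwa [sub_add_cancel] at this

end Groth.Agent.S19323
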