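import Groth.Statements.S19326
import Groth.Agent.Hopf.Comod
import Mathlib.RingTheory.Coalgebra.MonoidAlgebra

set_option autoImplicit false
universe u
open TensorProduct
open GLin

namespace Groth.Agent.S19326

/-- Let k be a field, M a finite abelian group and D = Spec k[M] the finite diagonalizable group scheme
it defines, acting on an affine k-scheme U = Spec R through a multiplicative coaction R → R ⊗ k[M];
write R_a for the weight space of a ∈ M (elements with coaction f ⊗ a). For an ideal J of R the
induced action of D on the closed subscheme V(J) is trivial, meaning that the coaction followed by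
reduction modulo J equals f ↦ (f mod J) ⊗ 1, exactly when J contains the ideal generated by the
weight spaces R_a for a ≠ 0; in other words that ideal defines the largest closed subscheme of U on
which D acts trivially. (The printed setting has U smooth, which plays no role here and is not
assumed; the further assertion that the construction commutes with flat base change on U/D is not
part of this statement.) -/
theorem result
    {k : Type u} [Field k] {M : Type u} [AddCommGroup M] [Finite M]
    {R : Type u} [CommRing R] [Algebra k R] [HopfRep.Comod k (AddMonoidAlgebra k M) R]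
    [GLin.IsCoactAlg k (AddMonoidAlgebra k M) R] (J : Ideal R) :
    (∀ f : R, LinearMap.rTensor (AddMonoidAlgebra k M) (Ideal.Quotient.mkₐ k J).toLinearMap
        (HopfRep.Comod.coact (k := k) (A := AddMonoidAlgebra k M) f) =
        (Ideal.Quotient.mk J f) ⊗ₜ[k] (1 : AddMonoidAlgebra k M)) ↔
      Ideal.span (⋃ (a : M) (_ : a ≠ 0),
        (HopfRep.eigenspace k (AddMonoidAlgebra k M) R (AddMonoidAlgebra.single a 1) : Set R)) ≤ J := by
  classical
  open Groth.ComodLib WithConv in
  cases nonempty_fintype M
  let A := AddMonoidAlgebra k M
  let co : M → A →ₗ[k] k := fun a => Finsupp.lapply a ∘ₗ (AddMonoidAlgebra.coeffLinearEquiv k).toLinearMap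
  have hco : ∀ (a b : M) (r : k), co a (AddMonoidAlgebra.single b r) = if b = a then r else 0 := fun a b r => by
    change (Finsupp.single b r) a = _
    rw [Finsupp.single_apply]
  have hdec : ∀ (f : R) , HopfRep.Comod.coact (k := k) (A := A) f =
      ∑ a, op (co a) f ⊗ₜ[k] AddMonoidAlgebra.single a (1 : k) := by
    intro f
    simp only [op_apply]
    generalize HopfRep.Comod.coact (k := k) (A := A) f = z
    induction z using TensorProduct.induction_on with
    | zero => simp
    | tmul p q =>
      induction q using AddMonoidAlgebra.induction_linear with
      | zero => simp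
      | add q q' hq hq' =>
        simp only [TensorProduct.tmul_add, map_add, TensorProduct.add_tmul, Finset.sum_add_distrib]
        exact congrArg₂ (· + ·) hq hq'
      | single b r =>
        simp only [slice_tmul, hco, ite_smul, zero_smul]
        rw [Finset.sum_eq_single b (fun a _ ha => by simp [ha.symm]) (fun h => (h (Finset.mem_univ b)).elim)]
        rw [if_pos rfl, TensorProduct.smul_tmul, AddMonoidAlgebra.smul_single', mul_one]
    | add p q hp hq =>
      simp only [map_add, TensorProduct.add_tmul, Finset.sum_add_distrib]
      exact congrArg₂ (· + ·) hp hq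
  have heig : ∀ (f : R) (a : M),
      op (co a) f ∈ HopfRep.eigenspace k A R (AddMonoidAlgebra.single a 1) := by
    intro f a
    change HopfRep.Comod.coact (k := k) (A := A) (op (co a) f) = op (co a) f ⊗ₜ[k] AddMonoidAlgebra.single a (1 : k)
    refine ext_slice fun φ => ?_
    rw [slice_tmul, ← op_apply]
    change op (toConv φ).ofConv (op (toConv (co a)).ofConv f) = _
    rw [← op_mul, show (toConv φ * toConv (co a)).ofConv = φ (AddMonoidAlgebra.single a 1) • co a from ?_]
    · rw [op_apply, slice_smul, ← op_apply]
    refine LinearMap.ext fun x => ?_
    induction x using AddMonoidAlgebra.induction_linear with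
    | zero => simp
    | add p q hp hq => simp only [map_add, hp, hq]
    | single b r =>
      rw [LinearMap.convMul_apply, show AddMonoidAlgebra.single b r = r • AddMonoidAlgebra.single b (1 : k) by simp,
        map_smul]
      rw [AddMonoidAlgebra.comul_single]
      simp only [CommSemiring.comul_apply, TensorProduct.map_tmul]
      by_cases h : b = a
      · subst h; simp [hco, mul_comm]
      · simp [hco, h]
  constructor
  · intro h
    rw [Ideal.span_le]
    refine Set.iUnion₂_subset fun a ha f hf => ?_
    have h1 := congrArg (slice (co a)) (h f)
    rw [show HopfRep.Comod.coact (k := k) (A := A) f = f ⊗ₜ[k] AddMonoidAlgebra.single a (1 : k) from hf,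
      LinearMap.rTensor_tmul, slice_tmul, slice_tmul, AddMonoidAlgebra.one_def, hco, hco, if_pos rfl,
      if_neg (Ne.symm ha), one_smul, zero_smul] at h1
    exact Ideal.Quotient.eq_zero_iff_mem.1 h1
  · intro h f
    have hz : ∀ a : M, a ≠ 0 → Ideal.Quotient.mk J (op (co a) f) = 0 := fun a ha =>
      Ideal.Quotient.eq_zero_iff_mem.2 (h (Ideal.subset_span (Set.mem_biUnion ha (heig f a))))
    have h0 : f = ∑ a, op (co a) f := by
      conv_lhs => rw [← op_counit (k := k) (A := A) f, op_apply, hdec f, map_sum]
      refine Finset.sum_congr rfl fun a _ => ?_
      rw [slice_tmul, AddMonoidAlgebra.counit_single]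
      simp
    rw [hdec f, map_sum]
    simp only [LinearMap.rTensor_tmul, AlgHom.toLinearMap_apply, Ideal.Quotient.mkₐ_eq_mk]
    rw [Finset.sum_eq_single 0 (fun a _ ha => by rw [hz a ha, TensorProduct.zero_tmul])
      (fun h => (h (Finset.mem_univ 0)).elim), AddMonoidAlgebra.one_def]
    congr 1
    conv_rhs => rw [h0, map_sum, Finset.sum_eq_single 0 (fun a _ ha => hz a ha)
      (fun h => (h (Finset.mem_univ 0)).elim)]

end Groth.Agent.S19326
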