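import Groth.Statements.S19328
import Mathlib
-- import your own Groth.Agent.* helpers here

set_option autoImplicit false
universe u
open CategoryTheory CategoryTheory.Limits AlgebraicGeometry
open ModPair

namespace Groth.Agent.S19328

/-- Let A be a commutative ring such that Spec A is local for fppf coverings, in the sense that for
every scheme X, every jointly surjective family of morphisms to X each of which is flat and of
finite presentation (locally of finite presentation, quasi-compact and quasi-separated), and every
morphism Spec A ⟶ X, the morphism factors through a member of the family. Then the residue field of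
A at every prime ideal is algebraically closed. -/
theorem result (A : Type u) [CommRing A]
    (hloc : ∀ (X : Scheme.{u}) (R : Presieve X),
      R ∈ Scheme.precoverage (@Flat ⊓ @LocallyOfFinitePresentation ⊓ @QuasiCompact ⊓ @QuasiSeparated) X →
      ∀ g : Spec (CommRingCat.of A) ⟶ X,
        ∃ (Y : Scheme.{u}) (v : Y ⟶ X) (h : Spec (CommRingCat.of A) ⟶ Y), R v ∧ h ≫ v = g)
    (p : Ideal A) [p.IsPrime] : IsAlgClosed p.ResidueField := by
  refine IsAlgClosed.of_exists_root _ fun f hfm hfi => ?_
  let K := p.ResidueField
  let d : K := algebraMap (A ⧸ p) K (IsLocalization.commonDenom (nonZeroDivisors (A ⧸ p)) f.support f.coeff)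
  have hd : d ≠ 0 := IsLocalization.to_map_ne_zero_of_mem_nonZeroDivisors K le_rfl
    (IsLocalization.commonDenom (nonZeroDivisors (A ⧸ p)) f.support f.coeff).2
  obtain ⟨g1, hg1, hdeg1, hm1⟩ := Polynomial.lifts_and_natDegree_eq_and_monic
    (IsLocalization.scaleRoots_commonDenom_mem_lifts (nonZeroDivisors (A ⧸ p)) f
      (by rw [hfm.leadingCoeff]; exact one_mem _))
    ((Polynomial.monic_scaleRoots_iff d).2 hfm)
  obtain ⟨g, hg, hdeg, hm⟩ := Polynomial.lifts_and_natDegree_eq_and_monic
    (f := Ideal.Quotient.mk p) ((Polynomial.lifts_iff_coeff_lifts g1).2 fun n => Ideal.Quotient.mk_surjective _) hm1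
  have hpos : g.natDegree ≠ 0 := by
    rw [hdeg, hdeg1, Polynomial.natDegree_scaleRoots]
    exact (Irreducible.natDegree_pos hfi).ne'
  let B := AdjoinRoot g
  haveI : Module.Free A B := hm.free_adjoinRoot
  haveI : Module.Finite A B := hm.finite_adjoinRoot
  let v : Spec (CommRingCat.of B) ⟶ Spec (CommRingCat.of A) := Spec.map (CommRingCat.ofHom (algebraMap A B))
  haveI : Flat v := by
    rw [HasRingHomProperty.Spec_iff (P := @Flat)]
    exact RingHom.flat_algebraMap_iff.2 inferInstance
  haveI : Algebra.FinitePresentation A B := Algebra.FinitePresentation.quotient (Submodule.fg_span_singleton g)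
  haveI : LocallyOfFinitePresentation v := by
    rw [HasRingHomProperty.Spec_iff (P := @LocallyOfFinitePresentation)]
    exact RingHom.finitePresentation_algebraMap.2 inferInstance
  have hsurj : Function.Surjective v.base := by
    intro x
    haveI : Nontrivial A := ⟨0, 1, fun h => x.2.ne_top (Ideal.eq_top_iff_one _ |>.2 (h ▸ x.asIdeal.zero_mem))⟩
    haveI : Nontrivial B := by
      by_contra hB
      rw [not_nontrivial_iff_subsingleton] at hB
      exact (AdjoinRoot.powerBasis' hm).basis.ne_zero ⟨0, Nat.pos_of_ne_zero hpos⟩ (Subsingleton.elim _ _)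
    haveI : Module.FaithfullyFlat A B := inferInstance
    exact PrimeSpectrum.comap_surjective_of_faithfullyFlat x
  obtain ⟨Y, w, h, hw, hh⟩ := hloc (Spec (CommRingCat.of A)) (Presieve.singleton v)
    ((Scheme.singleton_mem_precoverage_iff (P := @Flat ⊓ @LocallyOfFinitePresentation ⊓ @QuasiCompact ⊓ @QuasiSeparated) v).2 ⟨hsurj, ⟨⟨⟨inferInstance, inferInstance⟩, inferInstance⟩, inferInstance⟩⟩)
    (𝟙 _)
  cases hw
  obtain ⟨φ, rfl⟩ := Spec.map_surjective h
  rw [← Spec.map_comp] at hh
  have hφ : CommRingCat.ofHom (algebraMap A B) ≫ φ = 𝟙 _ := Spec.map_injective (hh.trans (Spec.map_id _).symm)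
  let r : A := φ.hom (AdjoinRoot.root g)
  have hr : g.eval r = 0 := by
    have h1 := congrArg φ.hom (AdjoinRoot.eval₂_root g)
    rw [map_zero, Polynomial.hom_eval₂] at h1
    rw [show φ.hom.comp (AdjoinRoot.of g) = RingHom.id A from congrArg CommRingCat.Hom.hom hφ] at h1
    exact h1
  refine ⟨algebraMap A K r / d, ?_⟩
  have h2 : (f.scaleRoots d).eval (algebraMap A K r) = 0 := by
    rw [← hg1, ← hg, Polynomial.map_map, ← Ideal.Quotient.algebraMap_eq, ← IsScalarTower.algebraMap_eq,
      Polynomial.eval_map, Polynomial.eval₂_at_apply, hr, map_zero]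
  rw [show algebraMap A K r = d * (algebraMap A K r / d) from (mul_div_cancel₀ _ hd).symm, Polynomial.scaleRoots_eval_mul] at h2
  exact (mul_eq_zero.1 h2).resolve_left (pow_ne_zero _ hd)

end Groth.Agent.S19328
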