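import Groth.Statements.S19329
import Groth.Agent.ModPairs.Divisor
-- import your own Groth.Agent.* helpers here

set_option autoImplicit false
universe u
open CategoryTheory CategoryTheory.Limits AlgebraicGeometry TopologicalSpace
open ModPair

namespace Groth.Agent.S19329

/-- Let (X, I), (Y, J), (Z, K) be modulus pairs, i.e. schemes with quasi-coherent ideal sheaves of
effective Cartier divisors, and let f : X ⟶ Y and g : Y ⟶ Z satisfy the modulus conditions I ≤
J.comap f and J ≤ K.comap g. Suppose the composite X ⟶ Z is minimal, I = K.comap (f ≫ g). Then f is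
minimal, and there is an open subset U of Y whose inclusion is quasi-compact, which contains the
image of f, and such that U ⟶ Z is minimal for the modulus of Y restricted to U. -/
theorem result {X Y Z : Scheme.{u}}
    (I : X.IdealSheafData) (J : Y.IdealSheafData) (K : Z.IdealSheafData)
    (hI : BlowUp.IsEffCartierIdeal I) (hJ : BlowUp.IsEffCartierIdeal J)
    (hK : BlowUp.IsEffCartierIdeal K) (f : X ⟶ Y) (g : Y ⟶ Z)
    (hf : ModPair.IsAmbient I J f) (hg : ModPair.IsAmbient J K g)
    (hfg : ModPair.IsMinimal I K (f ≫ g)) :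
    ModPair.IsMinimal I J f ∧
      ∃ U : Y.Opens, QuasiCompact U.ι ∧ Set.range f.base ⊆ (U : Set Y) ∧
        ModPair.IsMinimal (J.comap U.ι) K (U.ι ≫ g) := by
  have hfI : I = J.comap f := le_antisymm hf (by
    rw [show I = (K.comap g).comap f from hfg.trans (Scheme.IdealSheafData.comap_comp _ _ _)]
    exact Scheme.IdealSheafData.comap_mono f hg)
  refine ⟨hfI, ?_⟩
  have hE : BlowUp.IsEffCartierIdeal (K.comap g) := Groth.ModPairs.isEffCartierIdeal_comap_of_ambient hJ hK hg
  obtain ⟨L, hL⟩ := Groth.BlowUpBasics.exists_eq_mul_of_le hE hg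
  have hLc : BlowUp.IsEffCartierIdeal L := (Groth.Divisors.isEffCartierIdeal_factors (hL ▸ hJ)).1
  haveI := Groth.ModPairs.isAffineHom_interior hLc
  refine ⟨ModPair.interior L, inferInstance, ?_, ?_⟩
  · have h1 : L.comap f * I = ⊤ * I := by
      rw [Groth.ModPairs.top_mul]
      conv_rhs => rw [hfI, hL, Groth.Divisors.comap_mul]
      rw [show I = (K.comap g).comap f from hfg.trans (Scheme.IdealSheafData.comap_comp _ _ _)]
    have h2 : ModPair.interior (L.comap f) = ⊤ := by
      rw [Groth.ModPairs.mul_cancel hI h1]
      ext x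
      simp [ModPair.interior]
    rw [Groth.ModPairs.interior_comap] at h2
    rintro _ ⟨x, rfl⟩
    exact (h2.ge trivial : x ∈ f ⁻¹ᵁ ModPair.interior L)
  · have h2 : L.comap (ModPair.interior L).ι = ⊤ := by
      rw [← Scheme.IdealSheafData.support_eq_bot_iff]
      refine SetLike.coe_injective (Set.eq_empty_iff_forall_notMem.2 fun x hx => ?_)
      rw [Scheme.IdealSheafData.support_comap] at hx
      exact x.2 hx
    show _ = _
    rw [Scheme.IdealSheafData.comap_comp, hL, Groth.Divisors.comap_mul, h2, Groth.ModPairs.top_mul]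

end Groth.Agent.S19329
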