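import Groth.Statements.S19330
import Groth.Agent.ModPairs.Mprod
-- import your own Groth.Agent.* helpers here

set_option autoImplicit false
universe u
open CategoryTheory CategoryTheory.Limits AlgebraicGeometry TopologicalSpace
open ModPair

namespace Groth.Agent.S19330

/-- Let (S, I) be a modulus pair, i.e. a scheme with the quasi-coherent ideal sheaf of an effective
Cartier divisor, with interior U, and let g_i : V_i ⟶ U be a jointly surjective family of closed
immersions into the interior. Let V̄_i be the scheme-theoretic image of V_i ⟶ U ⟶ S. Then the closed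
immersions V̄_i ⟶ S are jointly surjective, the modulus restricted to each V̄_i is again the ideal
sheaf of an effective Cartier divisor (so that V̄_i ⟶ S is a minimal morphism of modulus pairs), and
the interior of V̄_i is V_i: the canonical morphism V_i ⟶ V̄_i is an open immersion whose image is
the preimage of U. -/
theorem result {S : Scheme.{u}} (I : S.IdealSheafData)
    (hI : BlowUp.IsEffCartierIdeal I) {ι : Type u} (V : ι → Scheme.{u})
    (g : ∀ i, V i ⟶ (ModPair.interior I : Scheme.{u})) [∀ i, IsClosedImmersion (g i)]
    (hsurj : ∀ u : (ModPair.interior I : Scheme.{u}), ∃ (i : ι) (v : V i), (g i).base v = u) :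
    (∀ s : S, ∃ (i : ι) (v : (g i ≫ (ModPair.interior I).ι).image),
        (g i ≫ (ModPair.interior I).ι).imageι.base v = s) ∧
      (∀ i, BlowUp.IsEffCartierIdeal (I.comap (g i ≫ (ModPair.interior I).ι).imageι)) ∧
      ∀ i, IsOpenImmersion (g i ≫ (ModPair.interior I).ι).toImage ∧
        Set.range (g i ≫ (ModPair.interior I).ι).toImage.base =
          (g i ≫ (ModPair.interior I).ι).imageι.base ⁻¹' (ModPair.interior I : Set S) := by
  haveI := Groth.ModPairs.isAffineHom_interior hI
  let h : ∀ i, V i ⟶ S := fun i => g i ≫ (ModPair.interior I).ι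
  haveI : ∀ i, QuasiCompact (h i) := fun i => inferInstanceAs (QuasiCompact (g i ≫ (ModPair.interior I).ι))
  let U' : ∀ i, (h i).image.Opens := fun i => (h i).imageι ⁻¹ᵁ ModPair.interior I
  have hfac : ∀ i, Set.range (h i).toImage.base ⊆ Set.range (U' i).ι.base := fun i => by
    rintro _ ⟨v, rfl⟩
    rw [Scheme.Opens.range_ι]
    show ((h i).toImage ≫ (h i).imageι).base v ∈ ModPair.interior I
    rw [Scheme.Hom.toImage_imageι]
    exact ((g i).base v).2
  let k : ∀ i, V i ⟶ (U' i : Scheme.{u}) := fun i => IsOpenImmersion.lift (U' i).ι (h i).toImage (hfac i)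
  have hk : ∀ i, k i ≫ (U' i).ι = (h i).toImage := fun i => IsOpenImmersion.lift_fac _ _ _
  have hdom : ∀ i, IsSchemeTheoreticallyDominant (U' i).ι := fun i => ⟨eq_bot_iff.mpr (by
    have := Scheme.Hom.le_ker_comp (k i) (U' i).ι
    rwa [hk, (Groth.Flatmor4.isSchemeTheoreticallyDominant_toImage (h i)).ker_eq_bot] at this)⟩
  refine ⟨fun s => ?_, fun i => ?_, fun i => ?_⟩
  · let C := irreducibleComponent s
    have hC : IsIrreducible C := isIrreducible_irreducibleComponent
    let ξ := hC.genericPoint
    have hcl : closure ({ξ} : Set S) = C := hC.genericPoint_closure_eq.trans isClosed_irreducibleComponent.closure_eq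
    have hξ : ξ ∈ ModPair.interior I := Groth.Divisors.not_mem_support_of_maximal hI fun y hy => by
      have h1 : C ≤ closure ({y} : Set S) := hcl ▸ closure_minimal
        (Set.singleton_subset_iff.2 (specializes_iff_mem_closure.1 hy)) isClosed_closure
      have h2 := (irreducibleComponent_mem_irreducibleComponents s).2 isIrreducible_singleton.closure h1
      exact (specializes_iff_mem_closure.2 (by rw [hcl]; exact h2 (subset_closure rfl))).antisymm hy |>.eq |>.symm
    obtain ⟨i, v, hv⟩ := hsurj ⟨ξ, hξ⟩
    have hξv : ξ ∈ Set.range (h i).base := ⟨v, congrArg Subtype.val hv⟩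
    have hs : s ∈ closure ({ξ} : Set S) := by rw [hcl]; exact mem_irreducibleComponent
    have hmem : s ∈ closure (Set.range (h i).base) := closure_mono (Set.singleton_subset_iff.2 hξv) hs
    rw [← (h i).support_ker, ← Scheme.IdealSheafData.range_subschemeι] at hmem
    exact ⟨i, hmem⟩
  · haveI := hdom i
    exact Groth.ModPairs.isEffCartierIdeal_comap_of_dominant hI (h i).imageι
  · have hkr : k i ≫ ((h i).imageι ∣_ ModPair.interior I) = g i := by
      rw [← cancel_mono (ModPair.interior I).ι, Category.assoc, morphismRestrict_ι, ← Category.assoc]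
      exact (congrArg (· ≫ (h i).imageι) (hk i)).trans (Scheme.Hom.toImage_imageι _)
    haveI : IsClosedImmersion (k i ≫ ((h i).imageι ∣_ ModPair.interior I)) := hkr.symm ▸ inferInstance
    haveI : IsClosedImmersion (k i) := IsClosedImmersion.of_comp (k i) ((h i).imageι ∣_ ModPair.interior I)
    have hpb : IsPullback (𝟙 (V i)) (k i) (h i).toImage (U' i).ι := by
      refine ⟨⟨by simp [hk]⟩, ⟨PullbackCone.IsLimit.mk _ (fun s => s.fst) (fun s => by simp) (fun s => ?_)
        (fun s m h₁ _ => by simpa using h₁)⟩⟩
      rw [← cancel_mono (U' i).ι, Category.assoc, hk]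
      exact s.condition
    haveI := Groth.Flatmor4.isSchemeTheoreticallyDominant_toImage (h i)
    haveI := IsSchemeTheoreticallyDominant.of_isPullback hpb
    haveI : IsIso (k i) := IsClosedImmersion.isIso_iff_ker_eq_bot.2 (k i).ker_eq_bot
    refine ⟨?_, ?_⟩
    · show IsOpenImmersion (h i).toImage
      rw [← hk]
      infer_instance
    · show Set.range (h i).toImage.base = _
      rw [← hk, Scheme.Hom.comp_base, TopCat.coe_comp, Set.range_comp, Set.range_eq_univ.2
        (show Function.Surjective (k i).base from (k i).surjective), Set.image_univ, Scheme.Opens.range_ι]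
      rfl

end Groth.Agent.S19330
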