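import Groth.Statements.S19331
import Groth.Agent.ModPairs.Basic
import Groth.Agent.S0385

set_option autoImplicit false
universe u
open CategoryTheory CategoryTheory.Limits AlgebraicGeometry TopologicalSpace
open ModPair

namespace Groth.Agent.S19331

/-- Let (S, I) be a modulus pair, i.e. a scheme with the quasi-coherent ideal sheaf of an effective
Cartier divisor, with S quasi-compact and quasi-separated and with interior U, and let t₀ : T₀ ⟶ U
be a finite surjective morphism. Then there are a finite surjective morphism t : T ⟶ S such that the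
pulled-back modulus I.comap t is again the ideal sheaf of an effective Cartier divisor, making T ⟶ S
a minimal morphism of modulus pairs, and an open immersion j : T₀ ⟶ T with image t⁻¹(U) and j ≫ t =
t₀ ≫ (U ⟶ S), so that t₀ is the interior of t. -/
theorem result {S : Scheme.{u}}
    [CompactSpace S] [QuasiSeparatedSpace S] (I : S.IdealSheafData)
    (hI : BlowUp.IsEffCartierIdeal I) {T₀ : Scheme.{u}}
    (t₀ : T₀ ⟶ (ModPair.interior I : Scheme.{u})) [IsFinite t₀] [Surjective t₀] :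
    ∃ (T : Scheme.{u}) (t : T ⟶ S) (j : T₀ ⟶ T), IsFinite t ∧ Surjective t ∧
      BlowUp.IsEffCartierIdeal (I.comap t) ∧ IsOpenImmersion j ∧
      Set.range j.base = t.base ⁻¹' (ModPair.interior I : Set S) ∧
      j ≫ t = t₀ ≫ (ModPair.interior I).ι := by
  let U := ModPair.interior I
  have : IsAffineHom U.ι := Groth.ModPairs.isAffineHom_interior hI
  have := Groth.ModPairs.dominant_interior hI
  obtain ⟨T₁, j₁, p, hj₁, hqc, hp, hjp⟩ := Groth.Agent.S0385.result (t₀ ≫ U.ι)
  let j := j₁.toImage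
  let t := j₁.imageι ≫ p
  have : IsOpenImmersion j :=
    MorphismProperty.of_isPullback (P := @IsOpenImmersion)
      (IsPullback.of_vert_isIso_mono (fst := j) (snd := 𝟙 T₀) (f := j₁.imageι) (g := j₁)
        ⟨by simp [j]⟩).flip ‹_›
  have hjt : j ≫ t = t₀ ≫ U.ι := by simp [j, t, hjp]
  have : IsFinite t := inferInstanceAs (IsFinite (_ ≫ _))
  have hsub : Set.range j.base ⊆ (t ⁻¹ᵁ U : Set _) := by
    rintro _ ⟨a, rfl⟩
    show t.base (j.base a) ∈ U
    rw [← Scheme.Hom.comp_apply, hjt, Scheme.Hom.comp_apply]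
    exact (t₀.base a).2
  let j₂ : T₀ ⟶ (t ⁻¹ᵁ U : j₁.image.Opens) :=
    IsOpenImmersion.lift (t ⁻¹ᵁ U).ι j (by rwa [Scheme.Opens.range_ι])
  have hj₂ : j₂ ≫ (t ⁻¹ᵁ U).ι = j := IsOpenImmersion.lift_fac _ _ _
  have hj₂' : j₂ ≫ (t ∣_ U) = t₀ := by
    rw [← cancel_mono U.ι, Category.assoc, morphismRestrict_ι, reassoc_of% hj₂, hjt]
  have : IsFinite (j₂ ≫ (t ∣_ U)) := by rw [hj₂']; infer_instance
  have : IsProper j₂ := IsProper.of_comp j₂ (t ∣_ U)
  have hdom : DenseRange j.base := j.denseRange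
  have hrange : Set.range j.base = (t ⁻¹ᵁ U : Set _) := by
    refine subset_antisymm hsub fun a ha => ?_
    by_contra haj
    obtain ⟨V, hV, hV'⟩ := isOpen_induced_iff.1 j₂.isClosedMap.isClosed_range.isOpen_compl
    obtain ⟨_, ⟨hbV, hbU⟩, b, rfl⟩ := hdom.inter_open_nonempty
      (V ∩ (t ⁻¹ᵁ U : Set _)) (hV.inter (t ⁻¹ᵁ U).2)
      ⟨a, (Set.ext_iff.1 hV' ⟨a, ha⟩).2 (fun ⟨b, hb⟩ => haj ⟨b, by rw [← hj₂]; exact congrArg Subtype.val hb⟩), ha⟩
    refine (Set.ext_iff.1 hV' ⟨j.base b, hbU⟩).1 hbV ⟨b, Subtype.ext ?_⟩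
    exact congrArg (fun f : T₀ ⟶ j₁.image => f.base b) hj₂
  have := Groth.Flatmor4.isSchemeTheoreticallyDominant_toImage j₁
  have : IsSchemeTheoreticallyDominant (t ⁻¹ᵁ U).ι := by
    refine ⟨eq_bot_iff.mpr ?_⟩
    have := Scheme.Hom.le_ker_comp j₂ (t ⁻¹ᵁ U).ι
    rw [hj₂] at this
    exact this.trans_eq (j₁.toImage.ker_eq_bot)
  refine ⟨j₁.image, t, j, inferInstance, ⟨fun s => ?_⟩,
    Groth.ModPairs.isEffCartierIdeal_comap_of_dominant hI t, inferInstance, hrange, hjt⟩
  have hU : (U : Set S) ⊆ Set.range t.base := fun s hs => by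
    obtain ⟨a, ha⟩ := t₀.surjective ⟨s, hs⟩
    refine ⟨j.base a, ?_⟩
    rw [← Scheme.Hom.comp_apply, hjt, Scheme.Hom.comp_apply, ha]
    rfl
  exact closure_minimal hU t.isClosedMap.isClosed_range (by
    rw [← Scheme.Opens.range_ι U]; exact U.ι.denseRange s)

end Groth.Agent.S19331
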