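import Groth.Statements.S19333
import Mathlib.RingTheory.Valuation.LocalSubring
import Mathlib.RingTheory.Localization.FractionRing

set_option autoImplicit false
universe u
open ModPair

namespace Groth.Agent.S19333

/-- Let A → B be any homomorphism of commutative rings. An element x of B is integral over A if and only
if for every field K, every valuation subring R of K and every ring homomorphism φ : B → K which
sends the image of A into R, the element φ(x) lies in R. In other words the integral closure of A in
B is the intersection of the subrings R ×_K B taken over all commutative squares A → R ⊆ K ← B with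
R a valuation ring of the field K. -/
theorem result {A B : Type u} [CommRing A]
    [CommRing B] [Algebra A B] (x : B) :
    x ∈ integralClosure A B ↔
      ∀ (K : Type u) [Field K] (R : ValuationSubring K) (φ : B →+* K),
        (∀ a : A, φ (algebraMap A B a) ∈ R) → φ x ∈ R := by
  classical
  constructor
  · intro hx K _ R φ hA
    obtain ⟨p, hp, hpx⟩ := hx
    let g : A →+* R := (φ.comp (algebraMap A B)).codRestrict R.toSubring hA
    haveI : IsIntegrallyClosedIn R K := inferInstance
    have hint : IsIntegral R (φ x) := by
      refine ⟨p.map g, hp.map g, ?_⟩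
      rw [Polynomial.eval₂_map]
      show Polynomial.eval₂ (φ.comp (algebraMap A B)) (φ x) p = 0
      rw [← Polynomial.hom_eval₂, hpx, map_zero]
    obtain ⟨y, hy⟩ := IsIntegrallyClosed.isIntegral_iff.1 hint
    rw [← hy]
    exact y.2
  · intro h
    by_contra hx
    let S : Submonoid B :=
      { carrier := {b | ∃ p : Polynomial A, p.Monic ∧ Polynomial.aeval x p = b}
        one_mem' := ⟨1, Polynomial.monic_one, map_one _⟩
        mul_mem' := by
          rintro _ _ ⟨p, hp, rfl⟩ ⟨q, hq, rfl⟩
          exact ⟨p * q, hp.mul hq, map_mul _ _ _⟩ }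
    have hdisj : Disjoint ((⊥ : Ideal B) : Set B) (S : Set B) := by
      rw [Set.disjoint_left]
      rintro b hb ⟨p, hp, hpb⟩
      exact hx ⟨p, hp, hpb.trans (Ideal.mem_bot.1 hb)⟩
    obtain ⟨Q, hQ, -, hQS⟩ := Ideal.exists_le_prime_disjoint ⊥ S hdisj
    let K := FractionRing (B ⧸ Q)
    let φ : B →+* K := (algebraMap (B ⧸ Q) K).comp (Ideal.Quotient.mk Q)
    let R₀ : Subring K := (φ.comp (algebraMap A B)).range
    let R₁ : Subring K := (integralClosure R₀ K).toSubring
    have hx1 : φ x ∉ R₁ := by
      rintro ⟨p, hp, hpx⟩
      obtain ⟨q, hq, -, hqm⟩ := Polynomial.lifts_and_degree_eq_and_monic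
        (f := (φ.comp (algebraMap A B)).rangeRestrict)
        ((Polynomial.lifts_iff_coeff_lifts p).2 fun n => RingHom.rangeRestrict_surjective _ _) hp
      have hmem : Polynomial.aeval x q ∈ Q := by
        refine Ideal.Quotient.eq_zero_iff_mem.1 (IsFractionRing.injective (B ⧸ Q) K ?_)
        rw [map_zero]
        show φ (Polynomial.aeval x q) = 0
        rw [Polynomial.aeval_def, Polynomial.hom_eval₂]
        rw [← hq, Polynomial.eval₂_map] at hpx
        exact hpx
      exact Set.disjoint_left.1 hQS hmem ⟨q, hqm, rfl⟩
    haveI : IsIntegrallyClosedIn R₁ K := inferInstanceAs (IsIntegrallyClosedIn (integralClosure R₀ K) K)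
    obtain ⟨V, hV, hxV⟩ := Subring.exists_le_valuationSubring_of_isIntegrallyClosedIn hx1
    refine hxV (h K V φ fun a => hV ?_)
    exact (integralClosure R₀ K).algebraMap_mem ⟨_, a, rfl⟩

end Groth.Agent.S19333
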