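import Groth.Statements.S19334
import Groth.Agent.Divisors.EffCartierMore
import Mathlib.AlgebraicGeometry.ValuativeCriterion
-- import your own Groth.Agent.* helpers here

set_option autoImplicit false
universe u
open CategoryTheory CategoryTheory.Limits AlgebraicGeometry TopologicalSpace
open ModPair

namespace Groth.Agent.S19334

/-- Let (X, I) be a modulus pair, i.e. a scheme X with the quasi-coherent ideal sheaf I of an effective
Cartier divisor. Suppose that for every valuation ring R and every morphism p : Spec R ⟶ X along
which the divisor of I pulls back to an effective Cartier divisor on Spec R (so that p is a minimal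
morphism of modulus pairs for the pulled-back modulus), the pulled-back divisor is empty, I.comap p
= ⊤. Then the divisor of I is empty: I = ⊤. -/
theorem result {X : Scheme.{u}}
    (I : X.IdealSheafData) (hI : BlowUp.IsEffCartierIdeal I)
    (h : ∀ (R : Type u) [CommRing R] [IsDomain R] [ValuationRing R]
      (p : Spec (CommRingCat.of R) ⟶ X), BlowUp.IsEffCartierIdeal (I.comap p) → I.comap p = ⊤) :
    I = ⊤ := by
  rw [← Scheme.IdealSheafData.support_eq_bot_iff]
  refine SetLike.coe_injective (Set.eq_empty_iff_forall_notMem.2 fun x hx => ?_)
  let C := irreducibleComponent x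
  have hC : IsIrreducible C := isIrreducible_irreducibleComponent
  let ξ := hC.genericPoint
  have hcl : closure ({ξ} : Set X) = C := hC.genericPoint_closure_eq.trans isClosed_irreducibleComponent.closure_eq
  have hξx : ξ ⤳ x := specializes_iff_mem_closure.2 (hcl ▸ mem_irreducibleComponent)
  have hξI : ξ ∉ I.support := Groth.Divisors.not_mem_support_of_maximal hI fun y hy => by
    have h1 : C ≤ closure ({y} : Set X) := hcl ▸ closure_minimal
      (Set.singleton_subset_iff.2 (specializes_iff_mem_closure.1 hy)) isClosed_closure
    have h2 := (irreducibleComponent_mem_irreducibleComponents x).2 isIrreducible_singleton.closure h1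
    exact (specializes_iff_mem_closure.2 (by rw [hcl]; exact h2 (subset_closure rfl))).antisymm hy |>.eq |>.symm
  let σ : X.presheaf.stalk x ⟶ X.residueField ξ := X.presheaf.stalkSpecializes hξx ≫ X.residue ξ
  obtain ⟨A, hA, hA_local⟩ := IsLocalRing.exists_factor_valuationRing σ.hom
  let σA : X.presheaf.stalk x ⟶ CommRingCat.of A := CommRingCat.ofHom (σ.hom.codRestrict A.toSubring hA)
  let p : Spec (CommRingCat.of A) ⟶ X := Spec.map σA ≫ X.fromSpecStalk x
  have hgen : Spec.map (CommRingCat.ofHom (algebraMap A (X.residueField ξ))) ≫ p = X.fromSpecResidueField ξ := by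
    rw [Scheme.fromSpecResidueField, ← Scheme.SpecMap_stalkSpecializes_fromSpecStalk hξx]
    simp only [p, ← Spec.map_comp_assoc]
    rfl
  have hclosed : p.base (IsLocalRing.closedPoint A) = x := by
    show X.fromSpecStalk x (Spec.map σA (IsLocalRing.closedPoint A)) = x
    have : Spec.map σA (IsLocalRing.closedPoint A) = IsLocalRing.closedPoint (X.presheaf.stalk x) :=
      IsLocalRing.comap_closedPoint (S := A) (σ.hom.codRestrict A.toSubring hA)
    rw [this, X.fromSpecStalk_closedPoint]
  have hE : BlowUp.IsEffCartierIdeal (I.comap p) := by
    refine Groth.Divisors.isEffCartierIdeal_comap_reduced p hI fun η hη => ?_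
    have hη' : η = Spec.map (CommRingCat.ofHom (algebraMap A (X.residueField ξ)))
        (IsLocalRing.closedPoint (X.residueField ξ)) := by
      refine (hη _ ?_).symm
      refine (PrimeSpectrum.le_iff_specializes _ _).1 ?_
      intro a ha
      have : algebraMap A (X.residueField ξ) a ∈ IsLocalRing.maximalIdeal (X.residueField ξ) := ha
      rw [IsLocalRing.maximalIdeal_eq_bot, Ideal.mem_bot] at this
      rw [(IsFractionRing.injective A (X.residueField ξ)) (this.trans (map_zero _).symm)]
      exact Ideal.zero_mem _
    rw [hη', ← Scheme.Hom.comp_apply, hgen, X.fromSpecResidueField_apply]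
    exact hξI
  have h0 := h A p hE
  have h1 : IsLocalRing.closedPoint A ∈ ((I.comap p).support : Set (Spec (CommRingCat.of A))) := by
    rw [Scheme.IdealSheafData.support_comap]
    show p.base (IsLocalRing.closedPoint A) ∈ I.support
    rw [hclosed]
    exact hx
  rw [h0] at h1
  simp at h1
  exact h1.elim

end Groth.Agent.S19334
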