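import Groth.Statements.S19335
import Groth.Agent.ModPairs.Divisor
import Mathlib.RingTheory.Valuation.LocalSubring
-- import your own Groth.Agent.* helpers here

set_option autoImplicit false
universe u
open CategoryTheory CategoryTheory.Limits AlgebraicGeometry TopologicalSpace
open ModPair

namespace Groth.Agent.S19335

section Helpers

/-- In a valuation ring, the biggest prime avoiding a nonzero element. -/
theorem exists_largest_prime {R : Type u} [CommRing R] [IsDomain R] [ValuationRing R] {γ : R}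
    (hγ : γ ≠ 0) : ∃ p : Ideal R, p.IsPrime ∧ γ ∉ p ∧ ∀ q : Ideal R, q.IsPrime → γ ∉ q → q ≤ p := by
  let S : Set (Ideal R) := {q | q.IsPrime ∧ γ ∉ q}
  have hne : S.Nonempty := ⟨⊥, Ideal.isPrime_bot, by simpa using hγ⟩
  have hdir : DirectedOn (· ≤ ·) S := fun a ha b hb => by
    rcases (ValuationRing.iff_ideal_total.mp ‹_›).total a b with h | h
    · exact ⟨b, hb, h, le_rfl⟩
    · exact ⟨a, ha, le_rfl, h⟩
  have hmem : ∀ x, x ∈ sSup S ↔ ∃ q ∈ S, x ∈ q := fun x => Submodule.mem_sSup_of_directed hne hdir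
  have hγn : γ ∉ sSup S := fun h => by obtain ⟨q, hq, hx⟩ := (hmem γ).mp h; exact hq.2 hx
  refine ⟨sSup S, ⟨fun h => hγn (h ▸ Submodule.mem_top), fun {a b} h => ?_⟩, hγn,
    fun q hq hγq => le_sSup ⟨hq, hγq⟩⟩
  obtain ⟨q, hq, hx⟩ := (hmem _).mp h
  exact (hq.1.mem_or_mem hx).imp (fun ha => (hmem a).mpr ⟨q, hq, ha⟩) (fun hb => (hmem b).mpr ⟨q, hq, hb⟩)

/-- Valuation rings testing whether `c` is a unit at `P`. -/
theorem exists_test {A : Type u} [CommRing A] (P : Ideal A) [P.IsPrime] (g c : A)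
    (hgc : g * c ∈ nonZeroDivisors A) (hc : c ∈ P) :
    ∃ (R : Type u) (_ : CommRing R) (_ : IsDomain R) (_ : ValuationRing R) (φ : A →+* R),
      φ g ≠ 0 ∧ ¬ IsUnit (φ c) ∧ ∀ q : Ideal R, q.IsPrime → φ g ∉ q → q = ⊥ := by
  obtain ⟨η, hη, hle⟩ := Ideal.exists_minimalPrimes_le (I := (⊥ : Ideal A)) (J := P) bot_le
  have := hη.1.1
  have hnot : g * c ∉ η := fun h =>
    Set.disjoint_left.mp (Ideal.disjoint_nonZeroDivisors_of_mem_minimalPrimes hη) h hgc
  let K := η.ResidueField
  have hinv : ∀ s : P.primeCompl, IsUnit (algebraMap A K s) := fun s => isUnit_iff_ne_zero.mpr <| by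
    rw [ne_eq, Ideal.algebraMap_residueField_eq_zero]
    exact fun h => s.2 (hle h)
  let ψ : Localization.AtPrime P →+* K := IsLocalization.lift hinv
  have hψ : ∀ a, ψ (algebraMap A _ a) = algebraMap A K a := fun a => IsLocalization.lift_eq hinv a
  obtain ⟨V, hV, hloc⟩ := IsLocalRing.exists_factor_valuationRing ψ
  let φ₁ : A →+* V.toSubring := (ψ.codRestrict V.toSubring hV).comp (algebraMap A _)
  let φ₀ : A →+* V := φ₁
  have hval : ∀ a, (φ₀ a : K) = algebraMap A K a := fun a => hψ a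
  have hcu : ¬ IsUnit (φ₀ c) := fun h => by
    have h1 : IsUnit (algebraMap A (Localization.AtPrime P) c) := IsUnit.of_map (ψ.codRestrict V.toSubring hV) _ h
    rw [IsLocalization.AtPrime.isUnit_to_map_iff _ P] at h1
    exact h1 hc
  have hg0 : φ₀ g ≠ 0 := fun h => by
    have : algebraMap A K g = 0 := by rw [← hval g, h]; rfl
    rw [Ideal.algebraMap_residueField_eq_zero] at this
    exact hnot (Ideal.mul_mem_right _ _ this)
  obtain ⟨p, hp, hgp, hmax⟩ := exists_largest_prime hg0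
  have := hp
  refine ⟨V ⧸ p, inferInstance, inferInstance,
    Function.Surjective.valuationRing (Ideal.Quotient.mk p) Ideal.Quotient.mk_surjective,
    (Ideal.Quotient.mk p).comp φ₀, ?_, ?_, fun q hq hgq => ?_⟩
  · exact fun h => hgp (Ideal.Quotient.eq_zero_iff_mem.mp h)
  · intro h
    have hpm : p ≤ IsLocalRing.maximalIdeal V := IsLocalRing.le_maximalIdeal hp.ne_top
    have : IsLocalHom (Ideal.Quotient.mk p) := .of_surjective _ Ideal.Quotient.mk_surjective
    exact hcu (IsUnit.of_map (Ideal.Quotient.mk p) _ h)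
  · have h1 := hmax (q.comap (Ideal.Quotient.mk p)) inferInstance hgq
    refine eq_bot_iff.mpr fun x hx => ?_
    obtain ⟨y, rfl⟩ := Ideal.Quotient.mk_surjective x
    exact Ideal.Quotient.eq_zero_iff_mem.mpr (h1 hx)

theorem ideal_comap_fromSpec {X : Scheme.{u}} {I : X.IdealSheafData} (W : X.affineOpens) {R : CommRingCat.{u}}
    (φ : Γ(X, W.1) ⟶ R) {g : Γ(X, W.1)} (hI : I.ideal W = Ideal.span {g}) :
    (I.comap (Spec.map φ ≫ W.2.fromSpec)).ideal ⟨⊤, isAffineOpen_top _⟩ =
      Ideal.span {(Scheme.ΓSpecIso R).inv (φ g)} := by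
  have e : (⊤ : (Spec R).Opens) ≤ (Spec.map φ ≫ W.2.fromSpec) ⁻¹ᵁ W.1 := by
    rw [Scheme.Hom.comp_preimage, W.2.fromSpec_preimage_self]; exact le_rfl
  rw [Groth.Divisors.ideal_comap_affine I _ W ⟨⊤, isAffineOpen_top _⟩ e, hI, Ideal.map_span,
    Set.image_singleton]
  congr 2
  have : (Spec.map φ ≫ W.2.fromSpec).appLE W.1 ⊤ e = φ ≫ (Scheme.ΓSpecIso R).inv := by
    simp [Scheme.Hom.appLE, W.2.fromSpec_app_self, Scheme.ΓSpecIso_inv_naturality,
      Scheme.Hom.appTop, ← Functor.map_comp]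
    exact (congrArg _ ((congrArg _ (Subsingleton.elim _ (𝟙 _))).trans ((Spec R).presheaf.map_id _))).trans (Category.comp_id _)
  exact congrArg (fun ψ => ψ.hom g) this

theorem span_le_of_stalk {A : Type u} [CommRing A] (g c : A)
    (h : ∀ P : Ideal A, P.IsPrime → c ∉ P) : Ideal.span {g} ≤ Ideal.span {g * c} := by
  have hc : IsUnit c := by
    by_contra hc
    obtain ⟨M, hM, hle⟩ := Ideal.exists_le_maximal _ (Ideal.span_singleton_eq_top.not.mpr hc)
    exact h M hM.isPrime (hle (Ideal.mem_span_singleton_self c))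
  rw [Ideal.span_singleton_mul_right_unit hc]

end Helpers

/-- Let X be a scheme and I, J quasi-coherent ideal sheaves of effective Cartier divisors D_I ≤ D_J on
X, i.e. J ≤ I. Suppose that for every valuation ring R and every morphism p : Spec R ⟶ X such that
I.comap p is the ideal sheaf of an effective Cartier divisor on Spec R (so p is a minimal morphism
of modulus pairs for (X, I)) whose open complement consists of the generic point of Spec R only, the
two divisors agree after pull-back, I.comap p = J.comap p. Then I = J. -/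
theorem result {X : Scheme.{u}} (I J : X.IdealSheafData)
    (hI : BlowUp.IsEffCartierIdeal I) (hJ : BlowUp.IsEffCartierIdeal J) (hJI : J ≤ I)
    (h : ∀ (R : Type u) [CommRing R] [IsDomain R] [ValuationRing R]
      (p : Spec (CommRingCat.of R) ⟶ X), BlowUp.IsEffCartierIdeal (I.comap p) →
        (∀ x : Spec (CommRingCat.of R),
          x ∈ (ModPair.interior (I.comap p) : Set (Spec (CommRingCat.of R))) ↔ x.asIdeal = ⊥) →
        I.comap p = J.comap p) :
    I = J := by

  refine le_antisymm (Groth.ModPairs.le_of_cover fun x => ?_) hJI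
  obtain ⟨W₁, hx₁, -, g₁, -, hgI⟩ := Groth.Divisors.exists_generator hI x ⊤ trivial
  obtain ⟨W, hxW, hle, gJ, hgJnzd, hgJ⟩ := Groth.Divisors.exists_generator hJ x W₁.1 hx₁
  let g : Γ(X, W.1) := X.presheaf.map (homOfLE hle).op g₁
  have hgI' : I.ideal W = Ideal.span {g} := by
    rw [← I.map_ideal (U := W) (V := W₁) hle, hgI, Ideal.map_span, Set.image_singleton]
    rfl
  refine ⟨W, hxW, ?_⟩
  rw [hgI', hgJ]
  have hmem : gJ ∈ Ideal.span {g} := hgI' ▸ hJI W (hgJ ▸ Ideal.mem_span_singleton_self gJ)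
  obtain ⟨c, rfl⟩ := Ideal.mem_span_singleton.mp hmem
  refine span_le_of_stalk g c fun P hP hc => ?_
  obtain ⟨R, _, _, _, φ, hg0, hcu, hq⟩ := exists_test P g c (hgJnzd.mem_nonZeroDivisors) hc
  let φ' : Γ(X, W.1) ⟶ CommRingCat.of R := CommRingCat.ofHom φ
  let p := Spec.map φ' ≫ W.2.fromSpec
  have hIp := ideal_comap_fromSpec W φ' hgI'
  have hJp := ideal_comap_fromSpec W φ' hgJ
  let ε := (Scheme.ΓSpecIso (CommRingCat.of R)).commRingCatIsoToRingEquiv.symm
  have heff : BlowUp.IsEffCartierIdeal (I.comap p) := fun y =>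
    ⟨⟨⊤, isAffineOpen_top _⟩, trivial, ε (φ g), by
      refine mem_nonZeroDivisors_iff_right.mpr fun z hz => ?_
      obtain ⟨z, rfl⟩ := ε.surjective z
      rw [← map_mul, EmbeddingLike.map_eq_zero_iff, mul_eq_zero, or_iff_left hg0] at hz
      rw [hz, map_zero], hIp⟩
  have hint : ∀ y : Spec (CommRingCat.of R),
      y ∈ (ModPair.interior (I.comap p) : Set (Spec (CommRingCat.of R))) ↔ y.asIdeal = ⊥ := fun y => by
    show y ∉ (I.comap p).support ↔ _
    rw [Groth.Divisors.not_mem_support_iff hIp (show y ∈ (⊤ : (Spec (CommRingCat.of R)).Opens) from trivial),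
      ← Scheme.mem_basicOpen, basicOpen_eq_of_affine]
    show φ g ∉ y.asIdeal ↔ _
    exact ⟨fun h => hq _ y.2 h, fun h => by rw [h]; simpa using hg0⟩
  have heq := congrArg (fun K : Scheme.IdealSheafData _ => K.ideal ⟨⊤, isAffineOpen_top _⟩) (h R p heff hint)
  simp only [p] at heq
  rw [hIp, hJp] at heq
  have h2 : Ideal.span {ε (φ g)} = Ideal.span {ε (φ (g * c))} := heq
  have h3 : ε (φ g) ∈ Ideal.span {ε (φ g * φ c)} := by
    rw [← map_mul, ← h2]; exact Ideal.mem_span_singleton_self _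
  obtain ⟨z, hz⟩ := Ideal.mem_span_singleton.mp h3
  obtain ⟨z, rfl⟩ := ε.surjective z
  rw [← map_mul] at hz
  have hz' : φ g * 1 = φ g * (φ c * z) := by rw [mul_one, ← mul_assoc]; exact ε.injective hz
  exact hcu (IsUnit.of_mul_eq_one _ (mul_left_cancel₀ hg0 hz').symm)

end Groth.Agent.S19335
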