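import Groth.Statements.S19336
import Groth.Agent.NagComp.Dense
import Groth.Agent.NagComp.BlowUp
import Groth.Agent.Divisors.EffCartierMore
import Groth.Agent.FlatMorOne.MultiSep
import Groth.Agent.BlowUpBasics.CartierDiv
-- import your own Groth.Agent.* helpers here

set_option autoImplicit false
universe u
open CategoryTheory CategoryTheory.Limits AlgebraicGeometry TopologicalSpace
open ModPair

namespace Groth.Agent.S19336

open AlgebraicGeometry CategoryTheory in
theorem sup_ideal {Y : Scheme.{u}} {α : Type*} (s : Finset α) (A : α → Y.IdealSheafData) (W : Y.affineOpens) :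
    (s.sup A).ideal W = s.sup fun i => (A i).ideal W := by
  classical
  induction s using Finset.induction with
  | empty => simp [Scheme.IdealSheafData.ideal_bot]
  | insert a t _ ih =>
    rw [Finset.sup_insert, Finset.sup_insert, Scheme.IdealSheafData.ideal_sup, Pi.sup_apply, ih]

open AlgebraicGeometry CategoryTheory in
theorem comap_finset_sup {X Y : Scheme.{u}} {α : Type*} (s : Finset α) (A : α → Y.IdealSheafData)
    (b : X ⟶ Y) : (s.sup A).comap b = s.sup fun i => (A i).comap b := by
  classical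
  induction s using Finset.induction with
  | empty => simp [(Scheme.IdealSheafData.map_gc b).l_bot]
  | insert a t _ ih => rw [Finset.sup_insert, Finset.sup_insert, Scheme.IdealSheafData.comap_sup, ih]

/-- Let (S, I) be a modulus pair, i.e. a scheme S with the quasi-coherent ideal sheaf I of an effective
Cartier divisor, with S quasi-compact and quasi-separated and with interior U, and let (V_i) be a
covering of U by quasi-compact open subsets. Then there are a quasi-coherent ideal sheaf F of finite
type on S whose support is disjoint from U, a blow-up b : Y ⟶ S of S in F (an admissible blow-up)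
such that I.comap b is again the ideal sheaf of an effective Cartier divisor, and a covering of Y by
quasi-compact open subsets W_j such that each W_j ∩ b⁻¹(U) is contained in b⁻¹(V_i) for some i: the
Zariski covering of the interior extends, after an admissible blow-up, to a Zariski covering of the
total space. -/
theorem result {S : Scheme.{u}}
    [CompactSpace S] [QuasiSeparatedSpace S] (I : S.IdealSheafData)
    (hI : BlowUp.IsEffCartierIdeal I) {ι : Type u} (V : ι → S.Opens)
    (hVU : ∀ i, V i ≤ ModPair.interior I) (hVqc : ∀ i, IsCompact (V i : Set S))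
    (hcov : ModPair.interior I ≤ ⨆ i, V i) :
    ∃ (F : S.IdealSheafData) (Y : Scheme.{u}) (b : Y ⟶ S) (κ : Type u) (W : κ → Y.Opens),
      BlowUp.IsAdmissibleFor (ModPair.interior I) F ∧ BlowUp.IsBlowUp b F ∧
        BlowUp.IsEffCartierIdeal (I.comap b) ∧ (∀ k, IsCompact (W k : Set Y)) ∧
        (⨆ k, W k) = ⊤ ∧ ∀ k, ∃ i, W k ⊓ b ⁻¹ᵁ ModPair.interior I ≤ b ⁻¹ᵁ V i := by
  classical
  have hIft : BlowUp.IsFiniteTypeIdeal I := fun W => Groth.BlowUpBasics.fg_of_isEffCartierIdeal hI W
  have hUc : IsCompact (ModPair.interior I : Set S) := Groth.FlatMorOne.isCompact_compl_support I hIft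
  obtain ⟨s, hs⟩ := hUc.elim_finite_subcover (fun i => (V i : Set S)) (fun i => (V i).2)
    (fun x hx => by
      obtain ⟨i, hi⟩ := TopologicalSpace.Opens.mem_iSup.mp (hcov hx)
      exact Set.mem_iUnion.mpr ⟨i, hi⟩)
  have hJ : ∀ i, ∃ J : S.IdealSheafData, BlowUp.IsFiniteTypeIdeal J ∧ (J.support : Set S) = (V i : Set S)ᶜ :=
    fun i => by
      obtain ⟨J, h1, h2⟩ := Groth.FlatMorOne.exists_ftIdeal_support_eq ⟨(V i : Set S)ᶜ, (V i).2.isClosed_compl⟩
        (by simpa using hVqc i)
      exact ⟨J, h1, h2⟩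
  choose J hJft hJs using hJ
  have hSupp : Disjoint ((s.sup J).support : Set S) (ModPair.interior I : Set S) :=
    Set.disjoint_left.mpr fun x hx hxU => by
      obtain ⟨i, hi, hxi⟩ := Set.mem_iUnion₂.mp (hs hxU)
      have h : x ∈ ((J i).support : Set S) := Scheme.IdealSheafData.support_antitone (Finset.le_sup hi) hx
      rw [hJs i] at h
      exact h hxi
  have hJJ : BlowUp.IsAdmissibleFor (ModPair.interior I) (s.sup J) := ⟨fun W => by
    rw [sup_ideal]
    exact Finset.sup_induction Submodule.fg_bot (fun _ h₁ _ h₂ => Submodule.FG.sup h₁ h₂) (fun i _ => hJft i W), hSupp⟩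
  have hF : BlowUp.IsAdmissibleFor (ModPair.interior I) (I * s.sup J) :=
    Groth.RefRank.isAdmissibleFor_mul
      ⟨hIft, (disjoint_compl_right : Disjoint (I.support : Set S) _)⟩ hJJ
  obtain ⟨Y, b, hb⟩ := Groth.BlowUpBasics.exists_isBlowUp S (I * s.sup J)
  have hIJ : BlowUp.IsEffCartierIdeal (I.comap b * (s.sup J).comap b) :=
    Groth.Divisors.comap_mul I (s.sup J) b ▸ hb.1
  have hloc : ∀ y : Y, ∃ W : Y.Opens, y ∈ W ∧ IsCompact (W : Set Y) ∧
      ∃ i, W ⊓ b ⁻¹ᵁ ModPair.interior I ≤ b ⁻¹ᵁ V i := by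
    intro y
    have hC : BlowUp.IsEffCartierIdeal ((s.sup J).comap b) :=
      (Groth.Divisors.isEffCartierIdeal_factors hIJ).2
    obtain ⟨W, hyW, e, he, hW⟩ := hC y
    rw [comap_finset_sup, sup_ideal] at hW
    let p : Ideal Γ(Y, W.1) := (W.2.primeIdealOf ⟨y, hyW⟩).asIdeal
    have hnle : ∃ i ∈ s, ¬ ((J i).comap b).ideal W ≤ Ideal.span {e} * p := by
      by_contra! hle
      obtain ⟨q, hq, hqe⟩ := Ideal.mem_span_singleton_mul.mp
        (Finset.sup_le hle (hW ▸ Ideal.mem_span_singleton_self e))
      have h1 : q - 1 = 0 := (mem_nonZeroDivisors_iff.mp he).1 _ (by rw [mul_sub, mul_one, hqe, sub_self])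
      exact Ideal.IsPrime.ne_top' ((Ideal.eq_top_iff_one p).mpr (sub_eq_zero.mp h1 ▸ hq))
    obtain ⟨i, hi, hnot⟩ := hnle
    obtain ⟨a, ha, hap⟩ := SetLike.not_le_iff_exists.mp hnot
    obtain ⟨c, rfl⟩ := Ideal.mem_span_singleton.mp
      (hW ▸ (Finset.le_sup (f := fun i => ((J i).comap b).ideal W) hi ha))
    have hc : y ∈ Y.basicOpen c := by
      have hcp : c ∉ p := fun h => hap (Ideal.mul_mem_mul (Ideal.mem_span_singleton_self e) h)
      rw [Y.mem_basicOpen c y hyW]
      let _ := TopCat.Presheaf.algebra_section_stalk Y.presheaf ⟨y, hyW⟩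
      have := W.2.isLocalization_stalk ⟨y, hyW⟩
      exact IsLocalization.map_units (Y.presheaf.stalk y) (⟨c, hcp⟩ : p.primeCompl)
    refine ⟨Y.basicOpen c, hc, (W.2.basicOpen c).isCompact, i, ?_⟩
    rintro z ⟨hzc, hzU⟩
    have hzW : z ∈ W.1 := Y.basicOpen_le c hzc
    by_contra hzi
    have hzI : z ∈ ((J i).comap b).support := by
      rw [Scheme.IdealSheafData.support_comap]
      show b z ∈ ((J i).support : Set S)
      rw [hJs i]
      exact hzi
    have hzS : z ∈ ((s.sup J).comap b).support := by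
      rw [comap_finset_sup, Scheme.IdealSheafData.mem_support_iff_of_mem hzW, sup_ideal, hW,
        Scheme.mem_zeroLocus_iff]
      rintro f hf hzf
      obtain ⟨k, rfl⟩ := Ideal.mem_span_singleton.mp hf
      rw [Scheme.basicOpen_mul] at hzf
      rw [Scheme.IdealSheafData.mem_support_iff_of_mem hzW, Scheme.mem_zeroLocus_iff] at hzI
      exact hzI _ ha (by rw [Scheme.basicOpen_mul]; exact ⟨hzf.1, hzc⟩)
    rw [Scheme.IdealSheafData.support_comap] at hzS
    exact Set.disjoint_left.mp hSupp hzS hzU
  choose W hyW hWc i hi using hloc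
  exact ⟨I * s.sup J, Y, b, Y, W, hF, hb, Groth.Divisors.isEffCartierIdeal_left_of_mul hIJ, hWc,
    eq_top_iff.mpr fun y _ => TopologicalSpace.Opens.mem_iSup.mpr ⟨y, hyW y⟩, fun y => ⟨i y, hi y⟩⟩

end Groth.Agent.S19336
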