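import Groth.Statements.S19338


set_option autoImplicit false
universe w v u
open CategoryTheory
open ModPair

namespace Groth.Agent.S19338

/-- Let C be a category and S a class of morphisms which contains the identities, is closed under
composition, admits a right calculus of fractions, and consists of monomorphisms. Then the sieves
containing a morphism of S are the covering sieves of a Grothendieck topology on C, and for every
such topology J a presheaf of types F on C is a J-sheaf if and only if it is S-local, i.e. F sends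
every morphism of S to a bijection. -/
theorem result {C : Type u} [Category.{v} C]
    (S : MorphismProperty C) [S.HasRightCalculusOfFractions]
    (hmono : ∀ ⦃X Y : C⦄ (s : X ⟶ Y), S s → Mono s) :
    (∃ J : GrothendieckTopology C, ∀ (X : C) (T : Sieve X),
        T ∈ J X ↔ ∃ (Y : C) (s : Y ⟶ X), S s ∧ T s) ∧
      ∀ J : GrothendieckTopology C, (∀ (X : C) (T : Sieve X),
          T ∈ J X ↔ ∃ (Y : C) (s : Y ⟶ X), S s ∧ T s) →
        ∀ F : Cᵒᵖ ⥤ Type w,
          Presheaf.IsSheaf J F ↔ ∀ ⦃X Y : C⦄ (s : X ⟶ Y), S s → IsIso (F.map s.op) := by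
  refine ⟨⟨{ sieves := fun X => {T | ∃ (Y : C) (s : Y ⟶ X), S s ∧ T s}
             top_mem' := fun X => ⟨X, 𝟙 X, MorphismProperty.id_mem S X, trivial⟩
             pullback_stable' := ?_
             transitive' := ?_ }, fun X T => Iff.rfl⟩, fun J hJ F => ?_⟩
  · rintro X Y T f ⟨Z, s, hs, hT⟩
    obtain ⟨ψ, hψ⟩ := (MorphismProperty.LeftFraction.mk f s hs).exists_rightFraction
    exact ⟨ψ.X', ψ.s, ψ.hs, show T (ψ.s ≫ f) by rw [hψ]; exact T.downward_closed hT ψ.f⟩
  · rintro X T ⟨Z, s, hs, hT⟩ R h
    obtain ⟨W, t, ht, hR⟩ := h hT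
    exact ⟨W, t ≫ s, S.comp_mem t s ht hs, hR⟩
  · rw [isSheaf_iff_isSheaf_of_type]
    constructor
    · intro hF Y X s hs
      haveI := hmono s hs
      have hcov : Sieve.generate (Presieve.singleton s) ∈ J X :=
        (hJ X _).2 ⟨Y, s, hs, Sieve.le_generate _ _ _ (Presieve.singleton_self s)⟩
      have h := (Presieve.isSheafFor_iff_generate (P := F) (Presieve.singleton s)).2 (hF _ hcov)
      rw [isIso_iff_bijective]
      refine ⟨fun a b hab => ?_, fun y => ?_⟩
      · refine h.isSeparatedFor.ext ?_
        rintro Z g ⟨⟩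
        exact hab
      · let x : Presieve.FamilyOfElements F (Presieve.singleton s) := fun Z g hg => by
          cases hg
          exact y
        have hx : x.Compatible := by
          rintro Y₁ Y₂ Z g₁ g₂ f₁ f₂ ⟨⟩ ⟨⟩ w
          rw [(cancel_mono s).1 w]
        exact ⟨h.amalgamate x hx, h.valid_glue hx s (Presieve.singleton_self s)⟩
    · intro hiso X T hT x hx
      obtain ⟨Y, s, hs, hTs⟩ := (hJ X T).1 hT
      have hbij : ∀ {Y X : C} (s : Y ⟶ X), S s → Function.Bijective (F.map s.op) := fun s hs =>
        (isIso_iff_bijective _).1 (hiso s hs)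
      obtain ⟨a, ha⟩ := (hbij s hs).2 (x s hTs)
      refine ⟨a, fun Z f hf => ?_, fun b hb => (hbij s hs).1 ((hb s hTs).trans ha.symm)⟩
      obtain ⟨ψ, hψ⟩ := (MorphismProperty.LeftFraction.mk f s hs).exists_rightFraction
      simp only at hψ
      apply (hbij ψ.s ψ.hs).1
      have h1 := hx ψ.f ψ.s hTs hf hψ.symm
      rw [← h1, ← ha, ← Functor.map_comp_apply, ← Functor.map_comp_apply, ← op_comp, ← op_comp, hψ]

end Groth.Agent.S19338
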