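import Groth.Statements.S19339
import Groth.Agent.LocImm.FppfRefine
-- import your own Groth.Agent.* helpers here

set_option autoImplicit false
universe u
open CategoryTheory CategoryTheory.Limits AlgebraicGeometry TopologicalSpace
open ModPair

namespace Groth.Agent.S19339


/-- Let X be a scheme and (w_j : W_j ⟶ X) an fppf covering, i.e. a jointly surjective family of
morphisms each of which is flat and of finite presentation (locally of finite presentation,
quasi-compact and quasi-separated). Then it is refined by a family of composites V_k ⟶ U_k ⟶ X in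
which the u_k : U_k ⟶ X are étale morphisms such that every point of X is the image of a point of
some U_k with trivial residue field extension, and the v_k : V_k ⟶ U_k are finite, flat and
surjective: each composite v_k ≫ u_k factors through some w_j. (The covering condition on the family
(u_k) is stated here pointwise, every point lifting to some U_k with the same residue field; a
Nisnevich covering in the stronger sense with members of finite presentation and a finite splitting
stratification is not asserted.) -/
theorem result {X : Scheme.{u}}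
    {ι : Type u} (W : ι → Scheme.{u}) (w : ∀ j, W j ⟶ X)
    (hw : Presieve.ofArrows W w ∈
      Scheme.precoverage (@Flat ⊓ @LocallyOfFinitePresentation ⊓ @QuasiCompact ⊓ @QuasiSeparated) X) :
    ∃ (κ : Type u) (U V : κ → Scheme.{u}) (u : ∀ k, U k ⟶ X) (v : ∀ k, V k ⟶ U k),
      (∀ k, Etale (u k)) ∧
        (∀ x : X, ∃ (k : κ) (y : U k), (u k).base y = x ∧ IsIso ((u k).residueFieldMap y)) ∧
        (∀ k, IsFinite (v k) ∧ Flat (v k) ∧ Surjective (v k)) ∧
        ∀ k, ∃ (j : ι) (r : V k ⟶ W j), r ≫ w j = v k ≫ u k := by
  rw [Scheme.ofArrows_mem_precoverage_iff] at hw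
  obtain ⟨hcov, hP⟩ := hw
  have : ∀ j, Flat (w j) := fun j => (hP j).1.1.1
  have : ∀ j, LocallyOfFinitePresentation (w j) := fun j => (hP j).1.1.2
  let g : (∐ W) ⟶ X := Sigma.desc w
  have : Flat g := IsZariskiLocalAtSource.sigmaDesc (P := @Flat) fun j => inferInstance
  have : LocallyOfFinitePresentation g :=
    IsZariskiLocalAtSource.sigmaDesc (P := @LocallyOfFinitePresentation) fun j => inferInstance
  have : Surjective g := ⟨fun x => by
    obtain ⟨j, y, hy⟩ := hcov x
    exact ⟨Sigma.ι W j y, by rw [← Scheme.Hom.comp_apply, Sigma.ι_desc]; exact hy⟩⟩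
  choose S' V e π r v he hev hres hπ1 hπ2 hπ3 hr using fun x : X =>
    Groth.LocImmersion.FppfRefine.exists_finite_flat_nbhd g x
  choose O T ρ a j k hO hρ1 hρ2 hρ3 hρ4 ha hk using fun x : X =>
    Groth.LocImmersion.FppfRefine.exists_part (π x) W (r x) (v x)
  refine ⟨X, fun x => (O x : Scheme.{u}), T, fun x => (O x).ι ≫ e x, ρ, fun x => inferInstance,
    fun x => ⟨x, ⟨π x (v x), hO x⟩, hev x, ?_⟩, fun x => ⟨hρ1 x, hρ2 x, hρ4 x⟩,
    fun x => ⟨j x, k x, ?_⟩⟩
  · rw [Scheme.residueFieldMap_comp]
    exact IsIso.comp_isIso' (hres x) inferInstance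
  · rw [← Sigma.ι_desc (f := W) w (j x), reassoc_of% (hk x), hr x, reassoc_of% (ha x)]

end Groth.Agent.S19339
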