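import Groth.Statements.S19340


set_option autoImplicit false
universe v v' u u'
open CategoryTheory
open ModPair

namespace Groth.Agent.S19340

/-- Let C be a category, S a class of morphisms of C containing the identities, closed under composition
and admitting a right calculus of fractions, and L : C ⥤ D a localization functor for S. Then for
every object X of C the comma category of L under X, whose objects are pairs (Y, L(X) ⟶ L(Y)) and
whose morphisms are morphisms Y ⟶ Y' of C compatible with the structure maps, is cofiltered. The
published statement calls this category filtered; its proof verifies, and this row states,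
cofilteredness. -/
theorem result {C : Type u}
    [Category.{v} C] {D : Type u'} [Category.{v'} D] (S : MorphismProperty C)
    [S.HasRightCalculusOfFractions] (L : C ⥤ D) [L.IsLocalization S] (X : C) :
    IsCofiltered (StructuredArrow (L.obj X) L) := by
  haveI : Nonempty (StructuredArrow (L.obj X) L) := ⟨StructuredArrow.mk (𝟙 (L.obj X))⟩
  haveI : IsCofilteredOrEmpty (StructuredArrow (L.obj X) L) := by
    constructor
    · intro A B
      obtain ⟨φ₁, h₁⟩ := Localization.exists_rightFraction L S A.hom
      obtain ⟨φ₂, h₂⟩ := Localization.exists_rightFraction L S B.hom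
      obtain ⟨ψ, hψ⟩ := (MorphismProperty.LeftFraction.mk φ₁.s φ₂.s φ₂.hs).exists_rightFraction
      simp only at hψ
      let s : ψ.X' ⟶ X := ψ.s ≫ φ₁.s
      have hs : S s := S.comp_mem _ _ ψ.hs φ₁.hs
      haveI := Localization.inverts L S _ hs
      haveI := Localization.inverts L S _ φ₁.hs
      haveI := Localization.inverts L S _ φ₂.hs
      haveI := Localization.inverts L S _ ψ.hs
      let W : StructuredArrow (L.obj X) L := StructuredArrow.mk (inv (L.map s))
      refine ⟨W, StructuredArrow.homMk (ψ.s ≫ φ₁.f) ?_, StructuredArrow.homMk (ψ.f ≫ φ₂.f) ?_, trivial⟩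
      · show inv (L.map s) ≫ L.map (ψ.s ≫ φ₁.f) = A.hom
        rw [IsIso.inv_comp_eq, h₁, L.map_comp, L.map_comp, Category.assoc,
          MorphismProperty.RightFraction.map_s_comp_map]
      · show inv (L.map s) ≫ L.map (ψ.f ≫ φ₂.f) = B.hom
        rw [IsIso.inv_comp_eq, h₂, show s = ψ.f ≫ φ₂.s from hψ, L.map_comp, L.map_comp, Category.assoc,
          MorphismProperty.RightFraction.map_s_comp_map]
    · intro A B u v
      obtain ⟨φ, h⟩ := Localization.exists_rightFraction L S A.hom
      haveI := Localization.inverts L S _ φ.hs
      have e : L.map (φ.f ≫ u.right) = L.map (φ.f ≫ v.right) := by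
        have h1 := StructuredArrow.w u
        rw [← StructuredArrow.w v, h] at h1
        have h2 := congrArg (fun z => L.map φ.s ≫ z) h1
        simp only [MorphismProperty.RightFraction.map_s_comp_map_assoc] at h2
        rw [L.map_comp, L.map_comp]
        exact h2
      obtain ⟨W', t, ht, hte⟩ := (MorphismProperty.map_eq_iff_precomp L S _ _).1 e
      have hs : S (t ≫ φ.s) := S.comp_mem _ _ ht φ.hs
      haveI := Localization.inverts L S _ hs
      let W : StructuredArrow (L.obj X) L := StructuredArrow.mk (inv (L.map (t ≫ φ.s)))
      refine ⟨W, StructuredArrow.homMk (t ≫ φ.f) ?_, ?_⟩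
      · show inv (L.map (t ≫ φ.s)) ≫ L.map (t ≫ φ.f) = A.hom
        rw [IsIso.inv_comp_eq, h, L.map_comp, L.map_comp, Category.assoc,
          MorphismProperty.RightFraction.map_s_comp_map]
      · refine StructuredArrow.hom_ext _ _ ?_
        show (t ≫ φ.f) ≫ u.right = (t ≫ φ.f) ≫ v.right
        rw [Category.assoc, Category.assoc, hte]
  exact IsCofiltered.mk

end Groth.Agent.S19340
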