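import Groth.Statements.S19343
import Groth.Agent.ModPairs.LocalObjects
import Groth.Agent.EtaleDeep.IndEt.StrictHens
import Groth.Agent.EtaleDeep.IndEt.Over
import Groth.Agent.EtaleBase.StrictSection
import Groth.Agent.S14620
-- import your own Groth.Agent.* helpers here

set_option autoImplicit false
universe u
open CategoryTheory CategoryTheory.Limits AlgebraicGeometry TopologicalSpace
open ModPair

namespace Groth.Agent.S19343

/-- A local ring glued from a henselian local ring along a prime with all fractions inside is henselian. -/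
theorem henselianLocalRing_atPrime {A : Type u} [CommRing A] [HenselianLocalRing A] (𝔮 : Ideal A) [𝔮.IsPrime]
    (hB : Set.BijOn (algebraMap A (Localization.AtPrime 𝔮)) (𝔮 : Set A)
      (IsLocalRing.maximalIdeal (Localization.AtPrime 𝔮) : Set (Localization.AtPrime 𝔮))) :
    HenselianLocalRing (Localization.AtPrime 𝔮) := by
  classical
  let L := Localization.AtPrime 𝔮
  let mL := IsLocalRing.maximalIdeal L
  refine { is_henselian := fun f hf a₀ h1 h2 => ?_ }
  let g : Polynomial L := f.comp (Polynomial.X + Polynomial.C a₀)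
  have hg0 : g.coeff 0 = f.eval a₀ := by
    rw [Polynomial.coeff_zero_eq_eval_zero, Polynomial.eval_comp]; simp
  have hg1 : g.coeff 1 = (Polynomial.derivative f).eval a₀ := by
    have h : g.coeff 1 = (Polynomial.derivative g).eval 0 := by
      rw [← Polynomial.coeff_zero_eq_eval_zero, Polynomial.coeff_derivative]; simp
    rw [h, Polynomial.derivative_comp]; simp [Polynomial.eval_comp]
  obtain ⟨u, hu⟩ := h2
  let c := g.coeff 0
  have hc : c ∈ mL := by show g.coeff 0 ∈ mL; rw [hg0]; exact h1
  let n := g.natDegree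
  have hn : 1 ≤ n := Polynomial.le_natDegree_of_ne_zero (by rw [hg1, ← hu]; exact u.ne_zero)
  let t : L := -(↑u⁻¹ : L)
  -- coefficients of degree at least two
  let e : ℕ → L := fun j => g.coeff (j + 2) * c ^ (j + 1) * t ^ (j + 2)
  have he : ∀ j, ∃ d ∈ 𝔮, algebraMap A L d = e j := fun j => by
    obtain ⟨d, hd, hd'⟩ := hB.surjOn (show e j ∈ mL from
      Ideal.mul_mem_right _ _ (Ideal.mul_mem_left _ _ (Ideal.pow_mem_of_mem _ hc _ (Nat.succ_pos j))))
    exact ⟨d, hd, hd'⟩
  choose d hdq hd using he
  have hdm : ∀ j, d j ∈ IsLocalRing.maximalIdeal A := fun j =>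
    IsLocalRing.le_maximalIdeal (Ideal.IsPrime.ne_top ‹_›) (hdq j)
  let h : Polynomial A := Polynomial.X ^ n - Polynomial.X ^ (n - 1) +
    ∑ j ∈ Finset.range (n - 1), Polynomial.C (d j) * Polynomial.X ^ (n - (j + 2))
  have hdeg : (∑ j ∈ Finset.range (n - 1), Polynomial.C (d j) * Polynomial.X ^ (n - (j + 2))).degree < ((n : ℕ) : WithBot ℕ) := by
    refine lt_of_le_of_lt (Polynomial.degree_sum_le _ _) ((Finset.sup_lt_iff (WithBot.bot_lt_coe n)).mpr fun j _ => ?_)
    exact lt_of_le_of_lt (Polynomial.degree_C_mul_X_pow_le _ _) (WithBot.coe_lt_coe.mpr (Nat.sub_lt hn (by omega)))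
  have hmon : h.Monic := by
    rw [show h = Polynomial.X ^ n + (-(Polynomial.X ^ (n - 1)) +
      ∑ j ∈ Finset.range (n - 1), Polynomial.C (d j) * Polynomial.X ^ (n - (j + 2))) by ring]
    refine Polynomial.monic_X_pow_add (lt_of_le_of_lt (Polynomial.degree_add_le _ _) (max_lt ?_ hdeg))
    rw [Polynomial.degree_neg]
    exact lt_of_le_of_lt (Polynomial.degree_X_pow_le _) (WithBot.coe_lt_coe.mpr (Nat.sub_lt hn (by omega)))
  have hev : h.eval 1 ∈ IsLocalRing.maximalIdeal A := by
    simp only [h, Polynomial.eval_add, Polynomial.eval_sub, Polynomial.eval_pow, Polynomial.eval_X,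
      Polynomial.eval_finset_sum, Polynomial.eval_mul, Polynomial.eval_C, one_pow, sub_self, zero_add, mul_one]
    exact sum_mem fun j _ => hdm j
  have hder : IsUnit (Polynomial.eval 1 (Polynomial.derivative h)) := by
    have h1' : Polynomial.eval 1 (Polynomial.derivative h) =
        1 + ∑ j ∈ Finset.range (n - 1), d j * ((n - (j + 2) : ℕ) : A) := by
      simp only [h, map_add, map_sub, Polynomial.derivative_X_pow, map_sum, Polynomial.derivative_C_mul_X_pow,
        Polynomial.eval_add, Polynomial.eval_sub, Polynomial.eval_finset_sum, Polynomial.eval_mul,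
        Polynomial.eval_C, Polynomial.eval_pow, Polynomial.eval_X, one_pow, mul_one]
      rw [show (n : A) - ((n - 1 : ℕ) : A) = 1 by rw [Nat.cast_sub hn]; ring]
    rw [h1']
    by_contra hnu
    exact (IsLocalRing.maximalIdeal.isMaximal A).ne_top ((Ideal.eq_top_iff_one _).mpr
      ((add_sub_cancel_right (1 : A) _) ▸ sub_mem ((IsLocalRing.mem_maximalIdeal _).mpr hnu)
        (sum_mem fun j _ => Ideal.mul_mem_right _ _ (hdm j))))
  obtain ⟨W, hW, hW1⟩ := HenselianLocalRing.is_henselian h hmon 1 hev hder
  have hWu : IsUnit W := by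
    by_contra hnu
    exact (IsLocalRing.maximalIdeal.isMaximal A).ne_top ((Ideal.eq_top_iff_one _).mpr
      ((sub_sub_cancel W 1) ▸ sub_mem ((IsLocalRing.mem_maximalIdeal _).mpr hnu) hW1))
  obtain ⟨w, hw⟩ := hWu.map (algebraMap A L)
  let Y : L := c * t * ↑w⁻¹
  refine ⟨a₀ + Y, ?_, by
    rw [add_sub_cancel_left]
    exact Ideal.mul_mem_right _ _ (Ideal.mul_mem_right _ _ hc)⟩
  have hroot : (w : L) ^ n - (w : L) ^ (n - 1) + ∑ j ∈ Finset.range (n - 1), e j * (w : L) ^ (n - (j + 2)) = 0 := by
    have h3 := congrArg (algebraMap A L) hW.eq_zero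
    simp only [h, Polynomial.eval_add, Polynomial.eval_sub, Polynomial.eval_pow, Polynomial.eval_X,
      Polynomial.eval_finset_sum, Polynomial.eval_mul, Polynomial.eval_C, map_add, map_sub, map_sum, map_mul,
      map_pow, map_zero, hd, ← hw] at h3
    exact h3
  have hgY : g.eval Y = 0 := by
    refine (IsUnit.mul_left_eq_zero ((Units.isUnit w).pow n)).mp ?_
    have hsum : g.eval Y = g.coeff 0 + g.coeff 1 * Y + ∑ j ∈ Finset.range (n - 1), g.coeff (j + 2) * Y ^ (j + 2) := by
      rw [Polynomial.eval_eq_sum_range' (n := n - 1 + 2) (by omega), Finset.sum_range_succ', Finset.sum_range_succ']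
      simp only [zero_add, pow_one, pow_zero, mul_one]
      ring
    have hut : (g.coeff 1) * t = -1 := by rw [hg1, ← hu]; show (u : L) * -(↑u⁻¹ : L) = -1; rw [mul_neg, Units.mul_inv]
    have key : ∀ j ∈ Finset.range (n - 1), g.coeff (j + 2) * Y ^ (j + 2) * (w : L) ^ n =
        c * (e j * (w : L) ^ (n - (j + 2))) := by
      intro j hj
      have hjn : j + 2 ≤ n := by rw [Finset.mem_range] at hj; omega
      conv_lhs => rw [show (w : L) ^ n = (w : L) ^ (j + 2) * (w : L) ^ (n - (j + 2)) by
        rw [← pow_add]; congr 1; omega]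
      have hY : Y ^ (j + 2) * (w : L) ^ (j + 2) = (c * t) ^ (j + 2) := by
        rw [← mul_pow]; simp [Y, mul_assoc]
      linear_combination (g.coeff (j + 2) * (w : L) ^ (n - (j + 2))) * hY
    have h1w : Y * (w : L) ^ n = c * t * (w : L) ^ (n - 1) := by
      conv_lhs => rw [show n = (n - 1) + 1 by omega, pow_succ']
      simp [Y, mul_assoc]
    rw [hsum, add_mul, add_mul, Finset.sum_mul, Finset.sum_congr rfl key, ← Finset.mul_sum]
    show c * (w : L) ^ n + g.coeff 1 * Y * (w : L) ^ n + _ = 0
    linear_combination c * hroot + (g.coeff 1) * h1w + (c * (w : L) ^ (n - 1)) * hut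
  rw [Polynomial.IsRoot]
  simpa [g, Polynomial.eval_comp, add_comm] using hgY

/-- Henselianity is invariant under ring isomorphisms. -/
theorem henselianLocalRing_of_ringEquiv {R S : Type u} [CommRing R] [CommRing S] [HenselianLocalRing R]
    (e : R ≃+* S) : HenselianLocalRing S := by
  haveI : IsLocalRing S := e.isLocalRing
  have hev : ∀ (g : Polynomial S) (a : S),
      (g.map e.symm.toRingHom).eval (e.symm a) = e.symm (g.eval a) := fun g a => by
    rw [Polynomial.eval_map]
    exact Polynomial.eval₂_at_apply e.symm.toRingHom a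
  refine { is_henselian := fun f hf a₀ h1 h2 => ?_ }
  obtain ⟨a, ha, ha'⟩ := HenselianLocalRing.is_henselian (f.map e.symm.toRingHom) (hf.map _) (e.symm a₀)
    (by rw [hev, IsLocalRing.mem_maximalIdeal]; exact fun hu => h1 (by simpa using hu.map e))
    (by rw [Polynomial.derivative_map, hev]; exact h2.map e.symm)
  refine ⟨e a, ?_, ?_⟩
  · have h3 := hev f (e a)
    rw [e.symm_apply_apply, ha.eq_zero] at h3
    exact e.symm.injective (by rw [map_zero]; exact h3.symm)
  · rw [IsLocalRing.mem_maximalIdeal] at ha' ⊢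
    exact fun hu => ha' (by simpa [map_sub] using hu.map e.symm)

/-- Locality for étale coverings of pairs gives retractions of étale algebras. -/
theorem hasEtaleRetractions (P : ModPair.Pair.{u}) [IsAffine P.total]
    (he : ∀ (X : ModPair.Pair.{u}) (ι : Type u) (U : ι → ModPair.Pair.{u}) (v : ∀ i, U i ⟶ X),
        (∀ i, ModPair.IsMinimal (U i).mod X.mod (v i).hom ∧ Etale (v i).hom ∧
          QuasiCompact (v i).hom ∧ QuasiSeparated (v i).hom) →
        (∀ x : X.total, ∃ (i : ι) (y : (U i).total), (v i).hom.base y = x) →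
        ∀ g : P ⟶ X, ∃ (i : ι) (h : P ⟶ U i), h ≫ v i = g) :
    ProEtW.HasEtaleRetractions Γ(P.total, ⊤) := by
  intro B _ _ hff het
  let φ : Γ(P.total, ⊤) ⟶ CommRingCat.of B := CommRingCat.ofHom (algebraMap Γ(P.total, ⊤) B)
  let w : Spec (CommRingCat.of B) ⟶ Spec Γ(P.total, ⊤) := Spec.map φ
  haveI hw : Etale w := by
    rw [HasRingHomProperty.Spec_iff (P := @Etale)]
    exact RingHom.etale_algebraMap.mpr het
  let X : ModPair.Pair.{u} := ⟨Spec Γ(P.total, ⊤), P.mod.comap P.total.isoSpec.inv,
    Groth.Divisors.isEffCartierIdeal_comap_flat P.isEffCartier _⟩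
  let g : P ⟶ X := ⟨P.total.isoSpec.hom, by
    show P.mod ≤ (P.mod.comap P.total.isoSpec.inv).comap P.total.isoSpec.hom
    rw [← Scheme.IdealSheafData.comap_comp, Iso.hom_inv_id, Scheme.IdealSheafData.comap_id]⟩
  obtain ⟨i, h, hh⟩ := he X PUnit.{u+1}
    (fun _ => ⟨Spec (CommRingCat.of B), X.mod.comap w, Groth.Divisors.isEffCartierIdeal_comap_flat X.isEffCartier w⟩)
    (fun _ => ⟨w, le_refl _⟩) (fun _ => ⟨rfl, hw, inferInstanceAs (QuasiCompact w), inferInstanceAs (QuasiSeparated w)⟩)
    (fun x => by
      obtain ⟨y, hy⟩ := PrimeSpectrum.comap_surjective_of_faithfullyFlat (A := Γ(P.total, ⊤)) (B := B) x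
      exact ⟨⟨⟩, y, hy⟩) g
  have hh' : h.hom ≫ w = P.total.isoSpec.hom := congrArg ModPair.Pair.Hom.hom hh
  let ψ := Spec.preimage (P.total.isoSpec.inv ≫ h.hom)
  have hψ : φ ≫ ψ = 𝟙 _ := Spec.map_injective (by
    rw [Spec.map_comp, Spec.map_preimage, Category.assoc, hh', Iso.inv_hom_id, Spec.map_id])
  exact ⟨{ ψ.hom with commutes' := fun a => DFunLike.congr_fun (congrArg CommRingCat.Hom.hom hψ) a }⟩

/-- Let P be a modulus pair (a scheme P̄ with the quasi-coherent ideal sheaf of an effective Cartier
divisor) whose total space P̄ is quasi-compact and quasi-separated. Then P is local both for étale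
coverings of modulus pairs (for every pair X, every jointly surjective family of minimal morphisms
U_i ⟶ X whose underlying morphisms are étale, quasi-compact and quasi-separated, and every morphism
of pairs P ⟶ X, the latter factors through some U_i) and for abstract admissible blow-ups (every P ⟶
X lifts along every abstract admissible blow-up Q ⟶ X) if and only if (1) P̄ is affine and A = Γ(P̄)
is a strictly henselian local ring, (2) the interior P° is affine and its ring of global sections is
a henselian local ring, and, writing p for the closed point of P° and 𝔮 ⊂ A for its prime ideal, (3)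
A/𝔮 is a valuation ring which is strictly henselian and (4) the localisation map sends 𝔮 bijectively
onto the maximal ideal of A_𝔮, i.e. A = A/𝔮 ×_{k(𝔮)} A_𝔮 and P̄ is the gluing of the closure of p to
P° along p. The published statement allows any modulus pair P; this row assumes the total space P̄
quasi-compact and quasi-separated. -/
theorem result (P : ModPair.Pair.{u})
    [CompactSpace P.total] [QuasiSeparatedSpace P.total] :
    ((∀ (X : ModPair.Pair.{u}) (ι : Type u) (U : ι → ModPair.Pair.{u}) (v : ∀ i, U i ⟶ X),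
        (∀ i, ModPair.IsMinimal (U i).mod X.mod (v i).hom ∧ Etale (v i).hom ∧
          QuasiCompact (v i).hom ∧ QuasiSeparated (v i).hom) →
        (∀ x : X.total, ∃ (i : ι) (y : (U i).total), (v i).hom.base y = x) →
        ∀ g : P ⟶ X, ∃ (i : ι) (h : P ⟶ U i), h ≫ v i = g) ∧
      (∀ (Q X : ModPair.Pair.{u}) (q : Q ⟶ X), ModPair.Pair.admBlowup q →
        ∀ g : P ⟶ X, ∃ h : P ⟶ Q, h ≫ q = g)) ↔
    (IsAffine P.total ∧ EtCoh.IsStrictlyHenselianLocalRing Γ(P.total, ⊤) ∧
      IsAffine (ModPair.interior P.mod : Scheme.{u}) ∧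
      HenselianLocalRing Γ((ModPair.interior P.mod : Scheme.{u}), ⊤) ∧
      ∀ p : (ModPair.interior P.mod : Scheme.{u}),
        IsClosed ({p} : Set (ModPair.interior P.mod : Scheme.{u})) →
          ValuationRing (Γ(P.total, ⊤) ⧸ (P.total.toSpecΓ.base ((ModPair.interior P.mod).ι.base p)).asIdeal) ∧
          EtCoh.IsStrictlyHenselianLocalRing (Γ(P.total, ⊤) ⧸ (P.total.toSpecΓ.base ((ModPair.interior P.mod).ι.base p)).asIdeal) ∧
          Set.BijOn (algebraMap Γ(P.total, ⊤) (Localization.AtPrime (P.total.toSpecΓ.base ((ModPair.interior P.mod).ι.base p)).asIdeal))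
            ((P.total.toSpecΓ.base ((ModPair.interior P.mod).ι.base p)).asIdeal : Set Γ(P.total, ⊤))
            (IsLocalRing.maximalIdeal (Localization.AtPrime (P.total.toSpecΓ.base ((ModPair.interior P.mod).ι.base p)).asIdeal) :
              Set (Localization.AtPrime (P.total.toSpecΓ.base ((ModPair.interior P.mod).ι.base p)).asIdeal))) := by
  constructor
  · rintro ⟨he, hlift⟩
    obtain ⟨hA, hL⟩ := Groth.ModPairs.isAffine_isLocalRing_of_zariski P fun X ι U v hv hcov g =>
      he X ι U v (fun i => by
        haveI := (hv i).2.1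
        exact ⟨(hv i).1, inferInstance, (hv i).2.2, inferInstance⟩) hcov g
    obtain ⟨h1, h2, h3⟩ := Groth.ModPairs.gluing_of_lift P hlift
    let A : Type u := Γ(P.total, ⊤)
    have hsh : EtCoh.IsStrictlyHenselianLocalRing A := by
      have h := Groth.EtaleDeep.IndEt.isStrictlyHenselianLocalRing (IsLocalRing.maximalIdeal A)
        (hasEtaleRetractions P he)
      refine Groth.EtaleDeep.IndEt.isStrictlyHenselianLocalRing_of_ringEquiv
        (IsLocalization.atUnits A (IsLocalRing.maximalIdeal A).primeCompl (fun x hx => ?_)).toRingEquiv.symm h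
      exact IsLocalRing.notMem_maximalIdeal.mp hx
    refine ⟨hA, hsh, h1, ?_, fun p hp => ?_⟩
    swap
    · obtain ⟨hV, hB⟩ := h3 p hp
      refine ⟨hV, ?_, hB⟩
      haveI := (P.total.toSpecΓ.base ((ModPair.interior P.mod).ι.base p)).2
      haveI : IsLocalRing (A ⧸ (P.total.toSpecΓ.base ((ModPair.interior P.mod).ι.base p)).asIdeal) :=
        IsLocalRing.of_surjective' (Ideal.Quotient.mk _) Ideal.Quotient.mk_surjective
      haveI : IsLocalHom (Ideal.Quotient.mk (P.total.toSpecΓ.base ((ModPair.interior P.mod).ι.base p)).asIdeal) :=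
        IsLocalHom.of_surjective _ Ideal.Quotient.mk_surjective
      exact Groth.Agent.S14620.result _ (RingHom.Finite.of_surjective _ Ideal.Quotient.mk_surjective) hsh
    obtain ⟨z, hz⟩ := Groth.ModPairs.exists_forall_specializes (Z := (ModPair.interior P.mod : Scheme.{u}))
    have hcl : IsClosed ({z} : Set (ModPair.interior P.mod : Scheme.{u})) := by
      rw [← closure_subset_iff_isClosed]
      intro w hw
      exact Set.mem_singleton_iff.mpr ((hz w).antisymm (specializes_iff_mem_closure.mpr hw)).eq
    obtain ⟨-, hB⟩ := h3 z hcl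
    obtain ⟨hAh, -⟩ := hsh
    haveI := (P.total.toSpecΓ.base ((ModPair.interior P.mod).ι.base z)).2
    haveI := henselianLocalRing_atPrime _ hB
    -- the sections of the interior are the stalk at its closed point
    let U : Scheme.{u} := ModPair.interior P.mod
    haveI : IsAffine U := h1
    haveI := h2
    have hcp : U.toSpecΓ z = IsLocalRing.closedPoint Γ(U, ⊤) := by
      have hs : IsLocalRing.closedPoint Γ(U, ⊤) ⤳ U.toSpecΓ z := by
        have h := (hz (U.isoSpec.inv (IsLocalRing.closedPoint Γ(U, ⊤)))).map U.toSpecΓ.continuous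
        rwa [Groth.ModPairs.toSpecΓ_isoSpec_inv_apply] at h
      exact ((IsLocalRing.specializes_closedPoint _).antisymm hs).eq
    let e₁ : U.presheaf.stalk z ≅ Γ(U, ⊤) := by
      letI := TopCat.Presheaf.algebra_section_stalk U.presheaf (⟨z, trivial⟩ : (⊤ : U.Opens))
      haveI := (isAffineOpen_top U).isLocalization_stalk ⟨z, trivial⟩
      exact (IsLocalization.atUnits Γ(U, ⊤) ((isAffineOpen_top U).primeIdealOf ⟨z, trivial⟩).asIdeal.primeCompl
        (S := U.presheaf.stalk z) (fun x hx => by
          by_contra hnu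
          refine hx ?_
          have hmax : ((isAffineOpen_top U).primeIdealOf ⟨z, trivial⟩).asIdeal = IsLocalRing.maximalIdeal Γ(U, ⊤) := by
            refine le_antisymm (IsLocalRing.le_maximalIdeal (Ideal.IsPrime.ne_top inferInstance)) ?_
            have hzz : U.isoSpec.inv ((isAffineOpen_top U).primeIdealOf ⟨z, trivial⟩) = z := by
              rw [← IsAffineOpen.fromSpec_top]
              exact (isAffineOpen_top U).fromSpec_primeIdealOf ⟨z, trivial⟩
            have := congrArg U.toSpecΓ hzz
            rw [Groth.ModPairs.toSpecΓ_isoSpec_inv_apply, hcp] at this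
            rw [this]
            rfl
          rw [hmax]
          exact (IsLocalRing.mem_maximalIdeal _).mpr hnu)).toRingEquiv.symm.toCommRingCatIso
    let e₂ : U.presheaf.stalk z ≅ P.total.presheaf.stalk ((ModPair.interior P.mod).ι z) :=
      (ModPair.interior P.mod).stalkIso z
    let e₃ : P.total.presheaf.stalk ((ModPair.interior P.mod).ι z) ≅
        CommRingCat.of (Localization.AtPrime (P.total.toSpecΓ.base ((ModPair.interior P.mod).ι.base z)).asIdeal) := by
      letI := TopCat.Presheaf.algebra_section_stalk P.total.presheaf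
        (⟨(ModPair.interior P.mod).ι z, trivial⟩ : (⊤ : P.total.Opens))
      haveI := (isAffineOpen_top P.total).isLocalization_stalk ⟨(ModPair.interior P.mod).ι z, trivial⟩
      have hpi : ((isAffineOpen_top P.total).primeIdealOf ⟨(ModPair.interior P.mod).ι z, trivial⟩) =
          P.total.toSpecΓ ((ModPair.interior P.mod).ι z) := by
        have h := congrArg P.total.toSpecΓ
          ((isAffineOpen_top P.total).fromSpec_primeIdealOf ⟨(ModPair.interior P.mod).ι z, trivial⟩)
        rw [IsAffineOpen.fromSpec_top, Groth.ModPairs.toSpecΓ_isoSpec_inv_apply] at h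
        exact h
      haveI : IsLocalization (P.total.toSpecΓ.base ((ModPair.interior P.mod).ι.base z)).asIdeal.primeCompl
          (P.total.presheaf.stalk ((ModPair.interior P.mod).ι z)) := by
        have h := (isAffineOpen_top P.total).isLocalization_stalk ⟨(ModPair.interior P.mod).ι z, trivial⟩
        rw [IsLocalization.AtPrime] at h
        convert h using 2
        exact congrArg PrimeSpectrum.asIdeal hpi.symm
      exact (IsLocalization.algEquiv (P.total.toSpecΓ.base ((ModPair.interior P.mod).ι.base z)).asIdeal.primeCompl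
        (P.total.presheaf.stalk ((ModPair.interior P.mod).ι z))
        (Localization.AtPrime (P.total.toSpecΓ.base ((ModPair.interior P.mod).ι.base z)).asIdeal)).toRingEquiv.toCommRingCatIso
    exact henselianLocalRing_of_ringEquiv (e₃.symm ≪≫ e₂.symm ≪≫ e₁).commRingCatIsoToRingEquiv
  · rintro ⟨hA, hsh, hIA, hIh, hp⟩
    obtain ⟨hAh, hsep⟩ := hsh
    refine ⟨fun X ι U v hv hcov g => ?_, fun Q X q hq g => ?_⟩
    · let g' : Spec Γ(P.total, ⊤) ⟶ X.total := P.total.isoSpec.inv ≫ g.hom
      obtain ⟨i, y, hy⟩ := hcov (g' (IsLocalRing.closedPoint Γ(P.total, ⊤)))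
      haveI := (hv i).2.1
      obtain ⟨q, hq, -⟩ := Scheme.Pullback.exists_preimage_pullback (f := g') (g := (v i).hom)
        (IsLocalRing.closedPoint Γ(P.total, ⊤)) y hy.symm
      obtain ⟨s, hs, -⟩ := Groth.EtaleBase.exists_section_of_etale Γ(P.total, ⊤) (pullback.fst g' (v i).hom) q hq
      let h := P.total.isoSpec.hom ≫ s ≫ pullback.snd g' (v i).hom
      have hh : h ≫ (v i).hom = g.hom := by
        simp only [h, Category.assoc, ← pullback.condition]
        rw [reassoc_of% hs, Iso.hom_inv_id_assoc]
      refine ⟨i, ⟨h, ?_⟩, ModPair.Pair.Hom.ext hh⟩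
      show P.mod ≤ (U i).mod.comap h
      rw [show (U i).mod = X.mod.comap (v i).hom from (hv i).1, ← Scheme.IdealSheafData.comap_comp, hh]
      exact g.cond
    · obtain ⟨z, hz⟩ := Groth.ModPairs.exists_forall_specializes (Z := (ModPair.interior P.mod : Scheme.{u}))
      have hcl : IsClosed ({z} : Set (ModPair.interior P.mod : Scheme.{u})) := by
        rw [← closure_subset_iff_isClosed]
        intro w hw
        exact Set.mem_singleton_iff.mpr ((hz w).antisymm (specializes_iff_mem_closure.mpr hw)).eq
      obtain ⟨hV, -, hB⟩ := hp z hcl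
      exact Groth.ModPairs.exists_lift_admBlowup P _ z.2 hV hB q hq g

end Groth.Agent.S19343
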