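import Groth.Statements.S19345
import Mathlib

set_option autoImplicit false
universe u
open CategoryTheory CategoryTheory.Limits AlgebraicGeometry TopologicalSpace
open ModPair

namespace Groth.Agent.S19345

/-- If a morphism out of `P` into an affine scheme factors through `Spec φ`, with `P` affine, then `φ` has a
retraction when the morphism is the canonical isomorphism. -/
lemma exists_retraction {P : Scheme.{u}} [IsAffine P] {B : CommRingCat.{u}} (φ : Γ(P, ⊤) ⟶ B)
    (h : P ⟶ Spec B) (hh : h ≫ Spec.map φ = P.isoSpec.hom) : ∃ ψ : B ⟶ Γ(P, ⊤), φ ≫ ψ = 𝟙 _ := by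
  refine ⟨Spec.preimage (P.isoSpec.inv ≫ h), Spec.map_injective ?_⟩
  rw [Spec.map_comp, Spec.map_preimage, Category.assoc, hh, Iso.inv_hom_id, Spec.map_id]

/-- Let P be a quasi-separated scheme. Then P is local for Zariski coverings (for every scheme X, every
jointly surjective family of quasi-compact open immersions into X and every morphism P ⟶ X, the
morphism factors through a member) and for finite coverings (the same for jointly surjective
families of finite morphisms) — which together is locality for the rqfh coverings, the finite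
composites of coverings of these two kinds — if and only if P is affine and Γ(P) is a local integral
domain in which every monic polynomial of positive degree has a root, i.e. the spectrum of an
absolutely integrally closed local domain. The published statement allows any scheme P; this row
assumes P quasi-separated. -/
theorem result (P : Scheme.{u}) [QuasiSeparatedSpace P] :
    ((∀ (X : Scheme.{u}) (R : Presieve X), R ∈ Scheme.precoverage (@IsOpenImmersion ⊓ @QuasiCompact) X →
        ∀ g : P ⟶ X, ∃ (Y : Scheme.{u}) (w : Y ⟶ X) (h : P ⟶ Y), R w ∧ h ≫ w = g) ∧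
      (∀ (X : Scheme.{u}) (R : Presieve X), R ∈ Scheme.precoverage @IsFinite X →
        ∀ g : P ⟶ X, ∃ (Y : Scheme.{u}) (w : Y ⟶ X) (h : P ⟶ Y), R w ∧ h ≫ w = g)) ↔
    (IsAffine P ∧ IsLocalRing Γ(P, ⊤) ∧ IsDomain Γ(P, ⊤) ∧ Curves.IsAIC Γ(P, ⊤)) := by
  constructor
  · rintro ⟨hz, hf⟩
    have hne : Nonempty P := by
      by_contra hc
      haveI : IsEmpty P := not_nonempty_iff.mp hc
      obtain ⟨Y, w, h, hw, -⟩ := hz P ⊥ (Scheme.bot_mem_precoverage _ P) (𝟙 P)
      exact hw
    haveI haff : IsAffine P := by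
      have hmem : Presieve.ofArrows _ (fun U : P.affineOpens => U.1.ι) ∈
          Scheme.precoverage (@IsOpenImmersion ⊓ @QuasiCompact) P := by
        refine (Scheme.ofArrows_mem_precoverage_iff _).mpr ⟨fun x => ?_, fun U => ⟨inferInstance, ⟨fun V hVo hVc => ?_⟩⟩⟩
        · obtain ⟨U, hU, hx, -⟩ := exists_isAffineOpen_mem_and_subset (X := P) (x := x) (U := ⊤) trivial
          exact ⟨⟨U, hU⟩, ⟨⟨x, hx⟩, rfl⟩⟩
        · rw [U.1.ι.isOpenEmbedding.isInducing.isCompact_iff, Set.image_preimage_eq_inter_range,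
            Scheme.Opens.range_ι]
          exact QuasiSeparatedSpace.inter_isCompact V U.1 hVo hVc U.1.2 U.2.isCompact
      obtain ⟨Y, w, h, hw, hh⟩ := hz P _ hmem (𝟙 P)
      obtain ⟨U⟩ := hw
      haveI : IsAffine (U.1 : Scheme.{u}) := U.2
      haveI : Surjective U.1.ι := ⟨fun x => ⟨h.base x, by
        rw [← Scheme.Hom.comp_apply, hh]; rfl⟩⟩
      haveI : IsIso U.1.ι := (isIso_iff_isOpenImmersion_and_surjective _).mpr ⟨inferInstance, inferInstance⟩
      exact IsAffine.of_isIso (inv U.1.ι)
    haveI : Nontrivial Γ(P, ⊤) := by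
      haveI : Nonempty (Spec Γ(P, ⊤)) := hne.map P.isoSpec.hom.base
      exact PrimeSpectrum.nonempty_iff_nontrivial.mp this
    have hloc : IsLocalRing Γ(P, ⊤) := by
      refine IsLocalRing.of_isUnit_or_isUnit_one_sub_self fun a => ?_
      let b : Bool → Γ(P, ⊤) := fun i => if i then a else 1 - a
      let φ : ∀ i, Γ(P, ⊤) ⟶ CommRingCat.of (Localization.Away (b i)) := fun i =>
        CommRingCat.ofHom (algebraMap _ _)
      have hmem : Presieve.ofArrows _ (fun i : Bool => Spec.map (φ i)) ∈
          Scheme.precoverage (@IsOpenImmersion ⊓ @QuasiCompact) (Spec Γ(P, ⊤)) := by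
        refine (Scheme.ofArrows_mem_precoverage_iff _).mpr ⟨fun x => ?_, fun i =>
          ⟨IsOpenImmersion.of_isLocalization (b i), inferInstance⟩⟩
        by_cases hx : a ∈ x.asIdeal
        · refine ⟨false, ?_⟩
          change x ∈ Set.range (PrimeSpectrum.comap (algebraMap _ (Localization.Away (b false))))
          rw [PrimeSpectrum.localization_away_comap_range _ (b false)]
          intro hx'
          exact x.2.ne_top ((Ideal.eq_top_iff_one _).mpr (by simpa [b] using x.asIdeal.add_mem hx' hx))
        · refine ⟨true, ?_⟩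
          change x ∈ Set.range (PrimeSpectrum.comap (algebraMap _ (Localization.Away (b true))))
          rw [PrimeSpectrum.localization_away_comap_range _ (b true)]
          exact hx
      obtain ⟨Y, w, h, hw, hh⟩ := hz _ _ hmem P.isoSpec.hom
      obtain ⟨i⟩ := hw
      obtain ⟨ψ, hψ⟩ := exists_retraction (φ i) h hh
      have hu : IsUnit (b i) := by
        have : IsUnit (φ i (b i)) := IsLocalization.Away.algebraMap_isUnit (b i)
        have h2 := this.map ψ.hom
        change IsUnit ((φ i ≫ ψ) (b i)) at h2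
        rwa [hψ] at h2
      cases i
      · exact Or.inr hu
      · exact Or.inl hu
    have hdom : IsDomain Γ(P, ⊤) := by
      let φ : ∀ p : PrimeSpectrum Γ(P, ⊤), Γ(P, ⊤) ⟶ CommRingCat.of (Γ(P, ⊤) ⧸ p.asIdeal) := fun p =>
        CommRingCat.ofHom (Ideal.Quotient.mk _)
      have hmem : Presieve.ofArrows _ (fun p => Spec.map (φ p)) ∈
          Scheme.precoverage @IsFinite (Spec Γ(P, ⊤)) := by
        refine (Scheme.ofArrows_mem_precoverage_iff _).mpr ⟨fun x => ⟨x, ?_⟩, fun p =>
          (IsFinite.SpecMap_iff _).mpr (RingHom.Finite.of_surjective _ Ideal.Quotient.mk_surjective)⟩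
        exact ⟨⟨⊥, Ideal.isPrime_bot⟩, PrimeSpectrum.ext (by
          change Ideal.comap (Ideal.Quotient.mk _) ⊥ = _
          rw [← RingHom.ker_eq_comap_bot, Ideal.mk_ker])⟩
      obtain ⟨Y, w, h, hw, hh⟩ := hf _ _ hmem P.isoSpec.hom
      obtain ⟨p⟩ := hw
      obtain ⟨ψ, hψ⟩ := exists_retraction (φ p) h hh
      have hinj : Function.Injective (Ideal.Quotient.mk p.asIdeal) :=
        Function.LeftInverse.injective (g := ψ.hom) fun a => by
          change (φ p ≫ ψ) a = a
          rw [hψ]; rfl
      exact hinj.isDomain (Ideal.Quotient.mk p.asIdeal)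
    refine ⟨haff, hloc, hdom, fun f hm hd => ?_⟩
    let φ : Γ(P, ⊤) ⟶ CommRingCat.of (AdjoinRoot f) := CommRingCat.ofHom (AdjoinRoot.of f)
    have hfin : Module.Finite Γ(P, ⊤) (AdjoinRoot f) := hm.finite_adjoinRoot
    have hinj : Function.Injective (algebraMap Γ(P, ⊤) (AdjoinRoot f)) := by
      rw [AdjoinRoot.algebraMap_eq]
      refine AdjoinRoot.of.injective_of_degree_ne_zero ?_
      rw [Polynomial.degree_eq_natDegree hm.ne_zero]
      exact_mod_cast hd.ne'
    have hmem : Presieve.singleton (Spec.map φ) ∈ Scheme.precoverage @IsFinite (Spec Γ(P, ⊤)) := by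
      refine (Scheme.singleton_mem_precoverage_iff _ _).mpr ⟨fun x => ?_, (IsFinite.SpecMap_iff _).mpr ?_⟩
      · obtain ⟨Q, -, hQ, hQx⟩ := Ideal.exists_ideal_over_prime_of_isIntegral x.asIdeal
          (⊥ : Ideal (AdjoinRoot f)) (by
            rw [← RingHom.ker_eq_comap_bot, (RingHom.injective_iff_ker_eq_bot _).mp hinj]; exact bot_le)
        exact ⟨⟨Q, hQ⟩, PrimeSpectrum.ext hQx⟩
      · exact RingHom.finite_algebraMap.mpr hfin
    obtain ⟨Y, w, h, hw, hh⟩ := hf _ _ hmem P.isoSpec.hom
    cases hw
    obtain ⟨ψ, hψ⟩ := exists_retraction φ h hh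
    refine ⟨ψ (AdjoinRoot.root f), ?_⟩
    have hc : ψ.hom.comp (AdjoinRoot.of f) = RingHom.id _ := congrArg CommRingCat.Hom.hom hψ
    have h0 : ψ.hom (Polynomial.eval₂ (AdjoinRoot.of f) (AdjoinRoot.root f) f) = 0 := by
      rw [AdjoinRoot.eval₂_root, map_zero]
    rwa [Polynomial.hom_eval₂, hc] at h0
  · rintro ⟨haff, hloc, hdom, haic⟩
    constructor
    · intro X R hR g
      obtain ⟨ι, Y, w, rfl⟩ := Presieve.exists_eq_ofArrows R
      obtain ⟨hcov, hP⟩ := (Scheme.ofArrows_mem_precoverage_iff _).mp hR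
      let c : P := P.isoSpec.inv.base (IsLocalRing.closedPoint Γ(P, ⊤))
      obtain ⟨i, hi⟩ := hcov (g.base c)
      haveI := (hP i).1
      have hr : Set.range g.base ⊆ Set.range (w i).base := by
        rintro _ ⟨x, rfl⟩
        have hx : x ⤳ c := by
          have : P.isoSpec.hom.base x ⤳ IsLocalRing.closedPoint Γ(P, ⊤) :=
            (PrimeSpectrum.le_iff_specializes _ _).mp
              (IsLocalRing.le_maximalIdeal (Ideal.IsPrime.ne_top (P.isoSpec.hom.base x).2))
          have h2 := this.map P.isoSpec.inv.continuous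
          rwa [← Scheme.Hom.comp_apply, Iso.hom_inv_id] at h2
        exact ((hx.map g.continuous).mem_open (w i).isOpenEmbedding.isOpen_range hi)
      exact ⟨Y i, w i, IsOpenImmersion.lift (w i) g hr, ⟨i⟩, IsOpenImmersion.lift_fac _ _ _⟩
    · intro X R hR g
      obtain ⟨ι, Y, w, rfl⟩ := Presieve.exists_eq_ofArrows R
      obtain ⟨hcov, hP⟩ := (Scheme.ofArrows_mem_precoverage_iff _).mp hR
      let η : Spec Γ(P, ⊤) := ⟨⊥, Ideal.isPrime_bot⟩
      let g' : Spec Γ(P, ⊤) ⟶ X := P.isoSpec.inv ≫ g
      obtain ⟨i, y, hy⟩ := hcov (g'.base η)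
      haveI : IsFinite (w i) := hP i
      obtain ⟨q, hq, -⟩ := Scheme.Pullback.exists_preimage_pullback (f := g') (g := w i) η y hy.symm
      let Q : Scheme.{u} := pullback g' (w i)
      haveI : IsAffine Q := isAffine_of_isAffineHom (pullback.fst g' (w i))
      let φ : Γ(P, ⊤) ⟶ Γ(Q, ⊤) := Spec.preimage (Q.isoSpec.inv ≫ pullback.fst g' (w i))
      have hφ : Spec.map φ = Q.isoSpec.inv ≫ pullback.fst g' (w i) := Spec.map_preimage _
      have hfin : φ.hom.Finite := (IsFinite.SpecMap_iff _).mp (by rw [hφ]; infer_instance)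
      let q' : Spec Γ(Q, ⊤) := Q.isoSpec.hom.base q
      have hq' : (Spec.map φ).base q' = η := by
        rw [hφ, ← Scheme.Hom.comp_apply, Iso.hom_inv_id_assoc]; exact hq
      let B := Γ(Q, ⊤) ⧸ q'.asIdeal
      let χ : Γ(P, ⊤) →+* B := (Ideal.Quotient.mk q'.asIdeal).comp φ.hom
      have hχi : Function.Injective χ := by
        rw [RingHom.injective_iff_ker_eq_bot, ← RingHom.comap_ker, Ideal.mk_ker]
        exact congrArg PrimeSpectrum.asIdeal hq'
      have hχf : χ.Finite := (RingHom.Finite.of_surjective _ Ideal.Quotient.mk_surjective).comp hfin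
      have hχs : Function.Surjective χ := by
        intro b
        obtain ⟨f, hm, hb⟩ := hχf.to_isIntegral b
        -- a monic polynomial killing `b` has a root `r`; induct on the degree
        suffices H : ∀ (n : ℕ) (f : Polynomial Γ(P, ⊤)), f.natDegree = n → f.Monic →
            Polynomial.eval₂ χ b f = 0 → ∃ a, χ a = b from H _ f rfl hm hb
        intro n
        induction n with
        | zero =>
          intro f hf hm hb
          rw [Polynomial.eq_one_of_monic_natDegree_zero hm hf] at hb
          simp at hb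
        | succ n ih =>
          intro f hf hm hb
          obtain ⟨r, hr⟩ := haic f hm (by omega)
          obtain ⟨f', rfl⟩ := Polynomial.dvd_iff_isRoot.mpr hr
          rw [Polynomial.eval₂_mul, mul_eq_zero] at hb
          rcases hb with hb | hb
          · exact ⟨r, (sub_eq_zero.mp (by simpa using hb)).symm⟩
          · have hm' : f'.Monic := Polynomial.Monic.of_mul_monic_left (Polynomial.monic_X_sub_C r) hm
            refine ih f' ?_ hm' hb
            rw [Polynomial.Monic.natDegree_mul (Polynomial.monic_X_sub_C r) hm',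
              Polynomial.natDegree_X_sub_C] at hf
            omega
      let e : Γ(P, ⊤) ≃+* B := RingEquiv.ofBijective χ ⟨hχi, hχs⟩
      let ψ : Γ(Q, ⊤) ⟶ Γ(P, ⊤) := CommRingCat.ofHom (e.symm.toRingHom.comp (Ideal.Quotient.mk q'.asIdeal))
      have hψ : φ ≫ ψ = 𝟙 _ := by
        ext a
        exact e.symm_apply_apply a
      refine ⟨Y i, w i, P.isoSpec.hom ≫ Spec.map ψ ≫ Q.isoSpec.inv ≫ pullback.snd g' (w i), ⟨i⟩, ?_⟩
      have e1 : Spec.map ψ ≫ Q.isoSpec.inv ≫ pullback.fst g' (w i) = 𝟙 _ := by
        rw [← hφ, ← Spec.map_comp, hψ, Spec.map_id]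
      simp only [Category.assoc, ← pullback.condition]
      rw [reassoc_of% e1, Iso.hom_inv_id_assoc]

end Groth.Agent.S19345
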