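import Groth.Statements.S19346
import Groth.Agent.ModPairs.LocalObjects
import Groth.Agent.S19345
import Groth.Agent.Divisors.EffCartierMore
-- import your own Groth.Agent.* helpers here

set_option autoImplicit false
universe u
open CategoryTheory CategoryTheory.Limits AlgebraicGeometry TopologicalSpace
open ModPair

namespace Groth.Agent.S19346

open Polynomial in
/-- Absolute integral closedness passes to localisations. -/
theorem isAIC_of_isLocalization {A S : Type u} [CommRing A] [CommRing S] [Algebra A S] (M : Submonoid A)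
    [IsLocalization M S] (h : Curves.IsAIC A) : Curves.IsAIC S := by
  intro f hf hd
  rcases subsingleton_or_nontrivial S with hs | hs
  · exact ⟨0, Subsingleton.elim _ _⟩
  let c : S := algebraMap A S (IsLocalization.commonDenom M f.support f.coeff)
  have hlift : f.scaleRoots c ∈ Polynomial.lifts (algebraMap A S) :=
    IsLocalization.scaleRoots_commonDenom_mem_lifts M f (by rw [hf.leadingCoeff]; exact ⟨1, map_one _⟩)
  obtain ⟨g, hg, hgd, hgm⟩ := lifts_and_degree_eq_and_monic hlift ((monic_scaleRoots_iff c).mpr hf)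
  obtain ⟨r, hr⟩ := h g hgm (by
    rw [Polynomial.natDegree_eq_natDegree hgd, natDegree_scaleRoots]; exact hd)
  obtain ⟨u, hu⟩ : IsUnit c := IsLocalization.map_units S _
  refine ⟨↑u⁻¹ * algebraMap A S r, ?_⟩
  have h1 : (f.scaleRoots c).eval (algebraMap A S r) = 0 := by
    rw [← hg, Polynomial.eval_map, ← Polynomial.coe_eval₂RingHom, Polynomial.coe_eval₂RingHom,
      Polynomial.eval₂_at_apply, hr, map_zero]
  have h2 := Polynomial.scaleRoots_eval_mul f (↑u⁻¹ * algebraMap A S r) c
  rw [← mul_assoc, ← hu, Units.mul_inv, one_mul] at h2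
  rw [← hu] at h1
  rw [h1] at h2
  exact (IsUnit.pow _ (Units.isUnit u)).mul_right_eq_zero.mp h2.symm

open Polynomial in
/-- Absolute integral closedness passes to quotients. -/
theorem isAIC_quotient {A : Type u} [CommRing A] (I : Ideal A) (h : Curves.IsAIC A) : Curves.IsAIC (A ⧸ I) := by
  intro f hf hd
  rcases subsingleton_or_nontrivial (A ⧸ I) with hs | hs
  · exact ⟨0, Subsingleton.elim _ _⟩
  obtain ⟨g, hg, hgd, hgm⟩ := lifts_and_degree_eq_and_monic
    (map_surjective (Ideal.Quotient.mk I) Ideal.Quotient.mk_surjective f) hf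
  obtain ⟨r, hr⟩ := h g hgm (by rw [Polynomial.natDegree_eq_natDegree hgd]; exact hd)
  exact ⟨Ideal.Quotient.mk I r, by
    rw [← hg, Polynomial.eval_map, Polynomial.eval₂_at_apply, hr, map_zero]⟩

/-- The fraction field of an absolutely integrally closed quotient is algebraically closed. -/
theorem isAlgClosed_fractionRing {A : Type u} [CommRing A] [IsDomain A] (h : Curves.IsAIC A) :
    IsAlgClosed (FractionRing A) :=
  IsAlgClosed.of_exists_root _ fun p hp hirr =>
    isAIC_of_isLocalization (nonZeroDivisors A) h p hp hirr.natDegree_pos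

/-- Locality for finite coverings of pairs gives retractions of finite extensions. -/
theorem exists_retraction_of_finite (P : ModPair.Pair.{u}) [IsAffine P.total]
    (hf : ∀ (X : ModPair.Pair.{u}) (ι : Type u) (U : ι → ModPair.Pair.{u}) (v : ∀ i, U i ⟶ X),
        (∀ i, ModPair.IsMinimal (U i).mod X.mod (v i).hom ∧ IsFinite (v i).hom) →
        (∀ x : X.total, ∃ (i : ι) (y : (U i).total), (v i).hom.base y = x) →
        ∀ g : P ⟶ X, ∃ (i : ι) (h : P ⟶ U i), h ≫ v i = g)
    {ι : Type u} (B : ι → CommRingCat.{u}) (φ : ∀ i, Γ(P.total, ⊤) ⟶ B i) (hfin : ∀ i, (φ i).hom.Finite)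
    (hB : ∀ i, BlowUp.IsEffCartierIdeal ((P.mod.comap P.total.isoSpec.inv).comap (Spec.map (φ i))))
    (hcov : ∀ x : Spec Γ(P.total, ⊤), ∃ (i : ι) (y : Spec (B i)), (Spec.map (φ i)) y = x) :
    ∃ i, ∃ ψ : B i ⟶ Γ(P.total, ⊤), φ i ≫ ψ = 𝟙 _ := by
  let X : ModPair.Pair.{u} := ⟨Spec Γ(P.total, ⊤), P.mod.comap P.total.isoSpec.inv,
    Groth.Divisors.isEffCartierIdeal_comap_flat P.isEffCartier _⟩
  let g : P ⟶ X := ⟨P.total.isoSpec.hom, by
    show P.mod ≤ (P.mod.comap P.total.isoSpec.inv).comap P.total.isoSpec.hom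
    rw [← Scheme.IdealSheafData.comap_comp, Iso.hom_inv_id, Scheme.IdealSheafData.comap_id]⟩
  obtain ⟨i, h, hh⟩ := hf X ι
    (fun i => ⟨Spec (B i), (P.mod.comap P.total.isoSpec.inv).comap (Spec.map (φ i)), hB i⟩)
    (fun i => ⟨Spec.map (φ i), le_refl _⟩)
    (fun i => ⟨rfl, (IsFinite.SpecMap_iff _).mpr (hfin i)⟩) hcov g
  exact ⟨i, Groth.Agent.S19345.exists_retraction (φ i) h.hom (congrArg ModPair.Pair.Hom.hom hh)⟩

/-- Let P be a modulus pair (a scheme P̄ with the quasi-coherent ideal sheaf of an effective Cartier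
divisor) whose total space P̄ is quasi-compact and quasi-separated. Then P is local for Zariski
coverings of modulus pairs (jointly surjective families of minimal morphisms U_i ⟶ X whose
underlying morphisms are quasi-compact open immersions: every morphism of pairs P ⟶ X factors
through some U_i), for finite coverings of modulus pairs (the same with finite underlying morphisms)
— locality for both kinds being locality for the rqfh coverings, their finite composites — and for
abstract admissible blow-ups (every P ⟶ X lifts along every abstract admissible blow-up Q ⟶ X) if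
and only if (1) P̄ is affine and A = Γ(P̄) is a local integral domain in which every monic
polynomial of positive degree has a root, (2) the interior P° is affine and Γ(P°) is likewise a
local integral domain in which every monic polynomial of positive degree has a root, and, writing p
for the closed point of P° and 𝔮 ⊂ A for its prime ideal, (3) A/𝔮 is a valuation ring with
algebraically closed fraction field and (4) the localisation map sends 𝔮 bijectively onto the
maximal ideal of A_𝔮, i.e. A = A/𝔮 ×_{k(𝔮)} A_𝔮 and P̄ is the gluing of the closure of p to P° along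
p. The published statement allows any modulus pair P; this row assumes the total space P̄
quasi-compact and quasi-separated. -/
theorem result (P : ModPair.Pair.{u})
    [CompactSpace P.total] [QuasiSeparatedSpace P.total] :
    ((∀ (X : ModPair.Pair.{u}) (ι : Type u) (U : ι → ModPair.Pair.{u}) (v : ∀ i, U i ⟶ X),
        (∀ i, ModPair.IsMinimal (U i).mod X.mod (v i).hom ∧ IsOpenImmersion (v i).hom ∧ QuasiCompact (v i).hom) →
        (∀ x : X.total, ∃ (i : ι) (y : (U i).total), (v i).hom.base y = x) →
        ∀ g : P ⟶ X, ∃ (i : ι) (h : P ⟶ U i), h ≫ v i = g) ∧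
      (∀ (X : ModPair.Pair.{u}) (ι : Type u) (U : ι → ModPair.Pair.{u}) (v : ∀ i, U i ⟶ X),
        (∀ i, ModPair.IsMinimal (U i).mod X.mod (v i).hom ∧ IsFinite (v i).hom) →
        (∀ x : X.total, ∃ (i : ι) (y : (U i).total), (v i).hom.base y = x) →
        ∀ g : P ⟶ X, ∃ (i : ι) (h : P ⟶ U i), h ≫ v i = g) ∧
      (∀ (Q : ModPair.Pair.{u}) (X : ModPair.Pair.{u}) (q : Q ⟶ X), ModPair.Pair.admBlowup q →
        ∀ g : P ⟶ X, ∃ h : P ⟶ Q, h ≫ q = g)) ↔
    (IsAffine P.total ∧ IsLocalRing Γ(P.total, ⊤) ∧ IsDomain Γ(P.total, ⊤) ∧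
      Curves.IsAIC Γ(P.total, ⊤) ∧
      IsAffine (ModPair.interior P.mod : Scheme.{u}) ∧
      IsLocalRing Γ((ModPair.interior P.mod : Scheme.{u}), ⊤) ∧
      IsDomain Γ((ModPair.interior P.mod : Scheme.{u}), ⊤) ∧
      Curves.IsAIC Γ((ModPair.interior P.mod : Scheme.{u}), ⊤) ∧
      ∀ p : (ModPair.interior P.mod : Scheme.{u}),
        IsClosed ({p} : Set (ModPair.interior P.mod : Scheme.{u})) →
          ValuationRing (Γ(P.total, ⊤) ⧸ (P.total.toSpecΓ.base ((ModPair.interior P.mod).ι.base p)).asIdeal) ∧
          IsAlgClosed (FractionRing (Γ(P.total, ⊤) ⧸ (P.total.toSpecΓ.base ((ModPair.interior P.mod).ι.base p)).asIdeal)) ∧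
          Set.BijOn (algebraMap Γ(P.total, ⊤) (Localization.AtPrime (P.total.toSpecΓ.base ((ModPair.interior P.mod).ι.base p)).asIdeal))
            ((P.total.toSpecΓ.base ((ModPair.interior P.mod).ι.base p)).asIdeal : Set Γ(P.total, ⊤))
            (IsLocalRing.maximalIdeal (Localization.AtPrime (P.total.toSpecΓ.base ((ModPair.interior P.mod).ι.base p)).asIdeal) :
              Set (Localization.AtPrime (P.total.toSpecΓ.base ((ModPair.interior P.mod).ι.base p)).asIdeal))) := by
  constructor
  · rintro ⟨hz, hf, hlift⟩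
    obtain ⟨hA, hL⟩ := Groth.ModPairs.isAffine_isLocalRing_of_zariski P hz
    obtain ⟨h1, h2, h3⟩ := Groth.ModPairs.gluing_of_lift P hlift
    have hdom : IsDomain Γ(P.total, ⊤) := by
      let ι := {p : PrimeSpectrum Γ(P.total, ⊤) // p.asIdeal ∈ minimalPrimes Γ(P.total, ⊤)}
      obtain ⟨p, ψ, hψ⟩ := exists_retraction_of_finite P hf
        (ι := ι) (fun p => CommRingCat.of (Γ(P.total, ⊤) ⧸ p.1.asIdeal))
        (fun p => CommRingCat.ofHom (Ideal.Quotient.mk _))
        (fun p => RingHom.Finite.of_surjective _ Ideal.Quotient.mk_surjective)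
        (fun p => by
          refine Groth.Divisors.isEffCartierIdeal_comap_reduced _
            (Groth.Divisors.isEffCartierIdeal_comap_flat P.isEffCartier _) fun η hη => ?_
          refine Groth.Divisors.not_mem_support_of_maximal
            (Groth.Divisors.isEffCartierIdeal_comap_flat P.isEffCartier _) fun y hy => ?_
          haveI := p.1.2
          have hbot : η = (⟨⊥, Ideal.isPrime_bot⟩ : PrimeSpectrum (Γ(P.total, ⊤) ⧸ p.1.asIdeal)) :=
            (hη _ ((PrimeSpectrum.le_iff_specializes _ _).mp bot_le)).symm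
          have himg : (Spec.map (CommRingCat.ofHom (Ideal.Quotient.mk p.1.asIdeal))) η = p.1 := by
            rw [hbot]
            exact PrimeSpectrum.ext (by
              change Ideal.comap (Ideal.Quotient.mk _) ⊥ = _
              rw [← RingHom.ker_eq_comap_bot, Ideal.mk_ker])
          rw [himg] at hy ⊢
          have hle : (y : PrimeSpectrum Γ(P.total, ⊤)).asIdeal ≤ p.1.asIdeal :=
            (PrimeSpectrum.le_iff_specializes (y : PrimeSpectrum Γ(P.total, ⊤)) p.1).mpr hy
          exact PrimeSpectrum.ext (le_antisymm hle (p.2.2 ⟨(y : PrimeSpectrum Γ(P.total, ⊤)).2, bot_le⟩ hle)))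
        (fun x => by
          obtain ⟨q, hq, hqx⟩ := Ideal.exists_minimalPrimes_le (I := (⊥ : Ideal Γ(P.total, ⊤)))
            (J := (x : PrimeSpectrum Γ(P.total, ⊤)).asIdeal) bot_le
          refine ⟨⟨⟨q, hq.1.1⟩, hq⟩, ⟨(x : PrimeSpectrum Γ(P.total, ⊤)).asIdeal.map (Ideal.Quotient.mk q),
            Ideal.map_isPrime_of_surjective Ideal.Quotient.mk_surjective (by rw [Ideal.mk_ker]; exact hqx)⟩, ?_⟩
          exact PrimeSpectrum.ext (by
            change Ideal.comap (Ideal.Quotient.mk _) _ = _
            rw [Ideal.comap_map_of_surjective _ Ideal.Quotient.mk_surjective, ← RingHom.ker_eq_comap_bot,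
              Ideal.mk_ker, sup_eq_left.mpr hqx]))
      haveI := p.1.2
      exact (Function.LeftInverse.injective (g := ψ.hom) fun a => DFunLike.congr_fun
        (congrArg CommRingCat.Hom.hom hψ) a).isDomain (Ideal.Quotient.mk p.1.asIdeal)
    have haic : Curves.IsAIC Γ(P.total, ⊤) := by
      intro f hm hd
      haveI hfree : Module.Free Γ(P.total, ⊤) (AdjoinRoot f) := hm.free_adjoinRoot
      haveI hfinite : Module.Finite Γ(P.total, ⊤) (AdjoinRoot f) := hm.finite_adjoinRoot
      have hflat : Flat (Spec.map (CommRingCat.ofHom (AdjoinRoot.of f))) := by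
        rw [HasRingHomProperty.Spec_iff (P := @Flat)]
        show RingHom.Flat (AdjoinRoot.of f)
        rw [← AdjoinRoot.algebraMap_eq, RingHom.flat_algebraMap_iff]
        infer_instance
      have hinj : Function.Injective (algebraMap Γ(P.total, ⊤) (AdjoinRoot f)) := by
        rw [AdjoinRoot.algebraMap_eq]
        refine AdjoinRoot.of.injective_of_degree_ne_zero ?_
        rw [Polynomial.degree_eq_natDegree hm.ne_zero]
        exact_mod_cast hd.ne'
      obtain ⟨_, ψ, hψ⟩ := exists_retraction_of_finite P hf (ι := PUnit.{u+1})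
        (fun _ => CommRingCat.of (AdjoinRoot f)) (fun _ => CommRingCat.ofHom (AdjoinRoot.of f))
        (fun _ => by
          show (AdjoinRoot.of f).Finite
          rw [← AdjoinRoot.algebraMap_eq, RingHom.finite_algebraMap]
          exact hfinite)
        (fun _ => Groth.Divisors.isEffCartierIdeal_comap_flat
          (Groth.Divisors.isEffCartierIdeal_comap_flat P.isEffCartier _) _)
        (fun x => by
          obtain ⟨Q, -, hQ, hQx⟩ := Ideal.exists_ideal_over_prime_of_isIntegral
            (x : PrimeSpectrum Γ(P.total, ⊤)).asIdeal (⊥ : Ideal (AdjoinRoot f)) (by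
              rw [← RingHom.ker_eq_comap_bot, (RingHom.injective_iff_ker_eq_bot _).mp hinj]; exact bot_le)
          exact ⟨⟨⟩, ⟨Q, hQ⟩, PrimeSpectrum.ext hQx⟩)
      refine ⟨ψ (AdjoinRoot.root f), ?_⟩
      have hc : ψ.hom.comp (AdjoinRoot.of f) = RingHom.id _ := congrArg CommRingCat.Hom.hom hψ
      have h0 : ψ.hom (Polynomial.eval₂ (AdjoinRoot.of f) (AdjoinRoot.root f) f) = 0 := by
        rw [AdjoinRoot.eval₂_root, map_zero]
      rwa [Polynomial.hom_eval₂, hc] at h0
    obtain ⟨c, hc⟩ := Groth.ModPairs.exists_forall_specializes (Z := P.total)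
    obtain ⟨W, hcW, τ, hτ, hI⟩ := P.isEffCartier c
    obtain rfl : W = ⟨⊤, isAffineOpen_top P.total⟩ := Subtype.ext (Groth.ModPairs.eq_top_of_mem hc hcW)
    have hU : ModPair.interior P.mod = P.total.basicOpen τ := by
      ext z
      show z ∉ P.mod.support ↔ z ∈ P.total.basicOpen τ
      rw [Scheme.IdealSheafData.mem_support_iff_of_mem (U := ⟨⊤, isAffineOpen_top P.total⟩) (Set.mem_univ z),
        Scheme.mem_zeroLocus_iff]
      refine ⟨fun h => ?_, fun h h' => h' τ (hI.ge (Ideal.mem_span_singleton_self τ)) h⟩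
      by_contra hz
      refine h fun t ht htz => hz ?_
      rw [SetLike.mem_coe, hI] at ht
      obtain ⟨d, rfl⟩ := Ideal.mem_span_singleton'.mp ht
      rw [Scheme.basicOpen_mul] at htz
      exact htz.2
    have hint : IsDomain Γ((ModPair.interior P.mod : Scheme.{u}), ⊤) ∧
        Curves.IsAIC Γ((ModPair.interior P.mod : Scheme.{u}), ⊤) := by
      rw [hU]
      haveI := (isAffineOpen_top P.total).isLocalization_basicOpen τ
      let e : Γ((P.total.basicOpen τ : Scheme.{u}), ⊤) ≃+* Γ(P.total, P.total.basicOpen τ) :=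
        (P.total.basicOpen τ).topIso.commRingCatIsoToRingEquiv
      haveI : IsDomain Γ(P.total, P.total.basicOpen τ) :=
        IsLocalization.isDomain_of_le_nonZeroDivisors (R := Γ(P.total, ⊤)) (M := Submonoid.powers τ)
          Γ(P.total, P.total.basicOpen τ) (Submonoid.powers_le.mpr hτ)
      refine ⟨e.toMulEquiv.isDomain, fun f hf hd => ?_⟩
      obtain ⟨r, hr⟩ := isAIC_of_isLocalization (Submonoid.powers τ) haic
        (f.map e.toRingHom) (hf.map _) (by rw [hf.natDegree_map]; exact hd)
      refine ⟨e.symm r, e.injective ?_⟩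
      rw [map_zero, ← hr, Polynomial.eval_map, ← e.apply_symm_apply r]
      rw [e.apply_symm_apply]
      exact ((Polynomial.eval₂_at_apply e.toRingHom (e.symm r)).symm.trans (by simp))
    refine ⟨hA, hL, hdom, haic, h1, h2, hint.1, hint.2, fun p hp => ?_⟩
    obtain ⟨hV, hB⟩ := h3 p hp
    haveI := (P.total.toSpecΓ.base ((ModPair.interior P.mod).ι.base p)).2
    exact ⟨hV, isAlgClosed_fractionRing (isAIC_quotient _ haic), hB⟩
  · rintro ⟨hA, hL, hD, haic, hIA, hIL, -, -, hp⟩
    refine ⟨fun X ι U v hv hcov g => Groth.ModPairs.exists_factor_of_local P X ι U v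
      (fun i => ⟨(hv i).1, (hv i).2.1⟩) hcov g, fun X ι U v hv hcov g => ?_, fun Q X q hq g => ?_⟩
    · have hS := (Groth.Agent.S19345.result P.total).mpr ⟨hA, hL, hD, haic⟩
      obtain ⟨Y, w, h, hw, hh⟩ := hS.2 X.total (Presieve.ofArrows _ fun i => (v i).hom)
        ((Scheme.ofArrows_mem_precoverage_iff _).mpr ⟨fun x => by
          obtain ⟨i, y, hy⟩ := hcov x
          exact ⟨i, y, hy⟩, fun i => (hv i).2⟩) g.hom
      obtain ⟨i⟩ := hw
      refine ⟨i, ⟨h, ?_⟩, ModPair.Pair.Hom.ext hh⟩
      show P.mod ≤ (U i).mod.comap h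
      rw [show (U i).mod = X.mod.comap (v i).hom from (hv i).1, ← Scheme.IdealSheafData.comap_comp, hh]
      exact g.cond
    · obtain ⟨z, hz⟩ := Groth.ModPairs.exists_forall_specializes (Z := (ModPair.interior P.mod : Scheme.{u}))
      have hcl : IsClosed ({z} : Set (ModPair.interior P.mod : Scheme.{u})) := by
        rw [← closure_subset_iff_isClosed]
        intro w hw
        exact Set.mem_singleton_iff.mpr ((hz w).antisymm (specializes_iff_mem_closure.mpr hw)).eq
      obtain ⟨hV, -, hB⟩ := hp z hcl
      exact Groth.ModPairs.exists_lift_admBlowup P _ z.2 hV hB q hq g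

end Groth.Agent.S19346
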