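import Groth.Statements.S19344
import Groth.Agent.ModPairs.LocalObjects
import Groth.Agent.S19339
import Groth.Agent.S19343
import Groth.Agent.S19346

set_option autoImplicit false
universe u
open CategoryTheory CategoryTheory.Limits AlgebraicGeometry TopologicalSpace
open ModPair

namespace Groth.Agent.S19344

section Algebra

variable {A : Type u} [CommRing A] (𝔮 : Ideal A) [𝔮.IsPrime]

/-- In a ring glued from a valuation ring and a local ring, an element outside the prime of the closed
point divides or is divided by any other element. -/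
theorem dvd_or_dvd (hV : ValuationRing (A ⧸ 𝔮))
    (hB : Set.BijOn (algebraMap A (Localization.AtPrime 𝔮)) (𝔮 : Set A)
      (IsLocalRing.maximalIdeal (Localization.AtPrime 𝔮) : Set (Localization.AtPrime 𝔮)))
    {x : A} (hx : x ∉ 𝔮) (y : A) : x ∣ y ∨ (y ∉ 𝔮 ∧ y ∣ x) := by
  have hsmall : ∀ s ∉ 𝔮, ∀ q ∈ 𝔮, s ∣ q := by
    intro s hs q hq
    obtain ⟨v, hv⟩ := IsLocalization.map_units (Localization.AtPrime 𝔮) (⟨s, hs⟩ : 𝔮.primeCompl)
    obtain ⟨z, hz, hz'⟩ := hB.surjOn (show algebraMap A (Localization.AtPrime 𝔮) q * ↑v⁻¹ ∈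
      IsLocalRing.maximalIdeal (Localization.AtPrime 𝔮) from Ideal.mul_mem_right _ _ (hB.mapsTo hq))
    refine ⟨z, (hB.injOn (Ideal.mul_mem_left _ s hz) hq ?_).symm⟩
    have hv' : (v : Localization.AtPrime 𝔮) = algebraMap A (Localization.AtPrime 𝔮) s := hv
    rw [map_mul, hz', ← hv', mul_comm, mul_assoc, Units.inv_mul, mul_one]
  by_cases hy : y ∈ 𝔮
  · exact Or.inl (hsmall x hx y hy)
  have key : ∀ s ∉ 𝔮, ∀ t, Ideal.Quotient.mk 𝔮 s ∣ Ideal.Quotient.mk 𝔮 t → s ∣ t := by
    rintro s hs t ⟨d, hd⟩
    obtain ⟨d, rfl⟩ := Ideal.Quotient.mk_surjective d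
    rw [← map_mul, Ideal.Quotient.mk_eq_mk_iff_sub_mem] at hd
    obtain ⟨z, hz⟩ := hsmall s hs _ hd
    exact ⟨d + z, by linear_combination hz⟩
  rcases (ValuationRing.iff_dvd_total.mp hV).total (Ideal.Quotient.mk 𝔮 x) (Ideal.Quotient.mk 𝔮 y) with h | h
  · exact Or.inl (key x hx y h)
  · exact Or.inr ⟨hy, key y hy x h⟩

/-- Retractions of finite free algebras pass to the local ring of the interior. -/
theorem exists_retraction_atPrime (hV : ValuationRing (A ⧸ 𝔮))
    (hB : Set.BijOn (algebraMap A (Localization.AtPrime 𝔮)) (𝔮 : Set A)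
      (IsLocalRing.maximalIdeal (Localization.AtPrime 𝔮) : Set (Localization.AtPrime 𝔮)))
    (hR : ∀ (B : Type u) [CommRing B] [Algebra A B], Nontrivial B → Module.Finite A B → Module.Free A B →
      Nonempty (B →ₐ[A] A))
    (C : Type u) [CommRing C] [Nontrivial C] [Algebra (Localization.AtPrime 𝔮) C] [Algebra A C]
    [IsScalarTower A (Localization.AtPrime 𝔮) C] [Module.Finite (Localization.AtPrime 𝔮) C]
    [Module.Free (Localization.AtPrime 𝔮) C] :
    Nonempty (C →ₐ[Localization.AtPrime 𝔮] Localization.AtPrime 𝔮) := by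
  classical
  let L := Localization.AtPrime 𝔮
  -- a subalgebra which is a finite module and spans
  obtain ⟨S, hS⟩ := Module.Finite.fg_top (R := L) (M := C)
  choose c hc using fun x : C =>
    (Algebra.IsIntegral.isIntegral (R := L) x).exists_multiple_integral_of_isLocalization 𝔮.primeCompl
  let T : Subalgebra A C := Algebra.adjoin A ((fun x => c x • x) '' (S : Set C))
  have hTfg : T.toSubmodule.FG := fg_adjoin_of_finite (S.finite_toSet.image _) (by
    rintro _ ⟨x, -, rfl⟩
    exact hc x)
  have hTspan : Submodule.span L (T : Set C) = ⊤ := by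
    refine top_le_iff.mp (hS ▸ Submodule.span_le.mpr fun x hx => ?_)
    obtain ⟨v, hv⟩ := IsLocalization.map_units L (c x)
    have hx' : x = (↑v⁻¹ : L) • (c x • x) := by
      rw [Submonoid.smul_def, ← IsScalarTower.algebraMap_smul L ((c x : A)) x, smul_smul,
        ← hv, Units.inv_mul, one_smul]
    rw [hx']
    exact Submodule.smul_mem _ _ (Submodule.subset_span (Algebra.subset_adjoin ⟨x, hx, rfl⟩))
  -- a minimal system of generators
  have hex : ∃ (n : ℕ) (m : Fin n → C), Submodule.span A (Set.range m) = T.toSubmodule := by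
    obtain ⟨n, m, hm⟩ := Submodule.fg_iff_exists_fin_generating_family.mp hTfg
    exact ⟨n, m, hm⟩
  let n := Nat.find hex
  obtain ⟨m, hm⟩ : ∃ m : Fin n → C, Submodule.span A (Set.range m) = T.toSubmodule := Nat.find_spec hex
  have hrel : ∀ a : Fin n → A, ∑ i, a i • m i = 0 → ∀ i, a i ∈ 𝔮 := by
    intro a ha
    by_contra hcon
    push Not at hcon
    obtain ⟨i₀, hi₀⟩ := hcon
    have hmin : ∀ s : Finset (Fin n), ∃ j, a j ∉ 𝔮 ∧ ∀ i ∈ s, a j ∣ a i := by
      intro s
      induction s using Finset.induction_on with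
      | empty => exact ⟨i₀, hi₀, fun i hi => absurd hi (Finset.notMem_empty i)⟩
      | insert b s _ ih =>
        obtain ⟨j, hj, hjs⟩ := ih
        rcases dvd_or_dvd 𝔮 hV hB hj (a b) with h | ⟨hb, h⟩
        · exact ⟨j, hj, fun i hi => (Finset.mem_insert.mp hi).elim (fun e => e ▸ h) (hjs i)⟩
        · exact ⟨b, hb, fun i hi => (Finset.mem_insert.mp hi).elim (fun e => e ▸ dvd_refl _)
            fun hi => h.trans (hjs i hi)⟩
    obtain ⟨j, hj, hjd⟩ := hmin Finset.univ
    choose d hd using fun i => hjd i (Finset.mem_univ i)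
    have hz : ∑ i, d i • m i = 0 := by
      obtain ⟨v, hv⟩ := IsLocalization.map_units L (⟨a j, hj⟩ : 𝔮.primeCompl)
      have h1 : algebraMap A L (a j) • ∑ i, d i • m i = 0 := by
        rw [IsScalarTower.algebraMap_smul, Finset.smul_sum, ← ha]
        exact Finset.sum_congr rfl fun i _ => by rw [smul_smul, ← hd i]
      have hv' : (v : L) = algebraMap A L (a j) := hv
      rw [← hv'] at h1
      exact (Units.isUnit v).smul_eq_zero.mp h1
    have hdj : algebraMap A L (d j) = 1 := by
      obtain ⟨v, hv⟩ := IsLocalization.map_units L (⟨a j, hj⟩ : 𝔮.primeCompl)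
      have hv' : (v : L) = algebraMap A L (a j) := hv
      refine (Units.isUnit v).mul_left_cancel ?_
      rw [mul_one, hv', ← map_mul, ← hd j]
    rw [← Finset.add_sum_erase Finset.univ _ (Finset.mem_univ j), ← IsScalarTower.algebraMap_smul L (d j),
      hdj, one_smul] at hz
    obtain ⟨k, hk⟩ : ∃ k, n = k + 1 := ⟨n - 1, by have := j.2; omega⟩
    refine Nat.find_min hex (show k < n by omega) ⟨fun l => m (Fin.cast hk.symm ((Fin.cast hk j).succAbove l)), ?_⟩
    refine le_antisymm (Submodule.span_le.mpr ?_) (hm ▸ Submodule.span_le.mpr ?_)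
    · rintro _ ⟨l, rfl⟩
      rw [← hm]
      exact Submodule.subset_span ⟨_, rfl⟩
    · have hne : ∀ i, i ≠ j → m i ∈ Submodule.span A
          (Set.range fun l => m (Fin.cast hk.symm ((Fin.cast hk j).succAbove l))) := by
        intro i hi
        obtain ⟨l, hl⟩ := Fin.exists_succAbove_eq (x := Fin.cast hk i) (y := Fin.cast hk j)
          (fun e => hi (Fin.cast_injective hk e))
        exact Submodule.subset_span ⟨l, by show m (Fin.cast hk.symm _) = m i; rw [hl]; simp⟩
      rintro _ ⟨i, rfl⟩
      by_cases hi : i = j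
      · subst hi
        rw [eq_neg_of_add_eq_zero_left hz]
        refine neg_mem (sum_mem fun l hl => Submodule.smul_mem _ _ (hne l ?_))
        exact Finset.ne_of_mem_erase hl
      · exact hne i hi
  -- the generators are a basis over the localisation
  let π : (Fin n → L) →ₗ[L] C := Fintype.linearCombination L m
  have hspan : ⊤ ≤ Submodule.span L (Set.range m) := by
    rw [← hTspan]
    refine Submodule.span_le.mpr fun x hx => ?_
    have h1 : x ∈ Submodule.span A (Set.range m) := hm.ge hx
    exact Submodule.span_le_restrictScalars A L _ h1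
  have hπ : Function.Surjective π := by
    rw [← LinearMap.range_eq_top, Fintype.range_linearCombination, ← top_le_iff]
    exact hspan
  have hker : ∀ v, π v = 0 → ∀ i, v i ∈ IsLocalRing.maximalIdeal L := by
    intro v hv i
    obtain ⟨s, hs⟩ := IsLocalization.exist_integer_multiples_of_finite 𝔮.primeCompl v
    choose a ha using hs
    have ha' : ∀ i, algebraMap A L (a i) = algebraMap A L (s : A) * v i := fun i => by
      rw [ha i, Algebra.smul_def]
    have h1 : ∑ i, a i • m i = 0 := by
      have h2 : algebraMap A L (s : A) • π v = 0 := by rw [hv, smul_zero]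
      rw [Fintype.linearCombination_apply, Finset.smul_sum] at h2
      refine (Finset.sum_congr rfl fun i _ => ?_).trans h2
      rw [smul_smul, ← ha' i, IsScalarTower.algebraMap_smul]
    obtain ⟨w, hw⟩ := IsLocalization.map_units L s
    have h3 : algebraMap A L (a i) ∈ IsLocalRing.maximalIdeal L := hB.mapsTo (hrel a h1 i)
    rw [ha' i, ← hw] at h3
    exact ((IsLocalRing.maximalIdeal.isMaximal L).isPrime.mem_or_mem h3).resolve_left
      fun h => ((IsLocalRing.mem_maximalIdeal _).mp h) (Units.isUnit w)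
  obtain ⟨ι', hι'⟩ := Module.projective_lifting_property π LinearMap.id hπ
  let p : (Fin n → L) →ₗ[L] (Fin n → L) := LinearMap.id - ι' ∘ₗ π
  have hπι : ∀ y, π (ι' y) = y := fun y => LinearMap.congr_fun hι' y
  have hrange : LinearMap.range p ≤ LinearMap.ker π := by
    rintro _ ⟨x, rfl⟩
    rw [LinearMap.mem_ker]
    show π (x - ι' (π x)) = 0
    rw [map_sub, hπι, sub_self]
  have hfix : ∀ v ∈ LinearMap.ker π, p v = v := fun v hv => by
    show v - ι' (π v) = v
    rw [LinearMap.mem_ker.mp hv, map_zero, sub_zero]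
  have hbot : LinearMap.range p = ⊥ := by
    refine Submodule.eq_bot_of_le_smul_of_le_jacobson_bot (IsLocalRing.maximalIdeal L) _
      (Module.Finite.fg_top.map p |> fun h => by rwa [Submodule.map_top] at h) (fun v hv => ?_)
      (IsLocalRing.maximalIdeal_le_jacobson _)
    have hv' := hker v (LinearMap.mem_ker.mp (hrange hv))
    rw [← hfix v (hrange hv), ← Finset.univ_sum_single v, map_sum]
    refine sum_mem fun i _ => ?_
    rw [show Pi.single i (v i) = v i • (Pi.single i (1 : L) : Fin n → L) by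
      rw [← Pi.single_smul, smul_eq_mul, mul_one], map_smul]
    exact Submodule.smul_mem_smul (hv' i) ⟨_, rfl⟩
  have hliL : LinearIndependent L m := by
    rw [Fintype.linearIndependent_iff]
    intro v hv
    have h1 : π v = 0 := by rwa [Fintype.linearCombination_apply]
    have h2 : v ∈ LinearMap.range p := ⟨v, hfix v h1⟩
    rw [hbot, Submodule.mem_bot] at h2
    exact fun i => congrFun h2 i
  have hinj : Function.Injective (algebraMap A L) := by
    rw [injective_iff_map_eq_zero]
    intro a ha
    have haq : a ∈ 𝔮 := by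
      by_contra h
      exact (IsLocalization.map_units L (⟨a, h⟩ : 𝔮.primeCompl)).ne_zero ha
    exact hB.injOn haq 𝔮.zero_mem (ha.trans (map_zero _).symm)
  let bL : Module.Basis (Fin n) L C := Module.Basis.mk hliL hspan
  let mT : Fin n → T := fun i => ⟨m i, hm.le (Submodule.subset_span ⟨i, rfl⟩)⟩
  have hliA : LinearIndependent A mT := by
    rw [Fintype.linearIndependent_iff]
    intro a ha i
    have h1 := congrArg Subtype.val ha
    simp only [AddSubmonoidClass.coe_finset_sum, SetLike.val_smul, ZeroMemClass.coe_zero, mT] at h1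
    refine hinj ((Fintype.linearIndependent_iff.mp hliL (fun i => algebraMap A L (a i)) ?_ i).trans (map_zero _).symm)
    simpa [IsScalarTower.algebraMap_smul] using h1
  have hspT : ⊤ ≤ Submodule.span A (Set.range mT) := by
    intro x _
    refine (Submodule.mem_map.mp (show (x : C) ∈ (Submodule.span A (Set.range mT)).map T.val.toLinearMap from ?_)).elim
      fun y hy => (Subtype.ext hy.2 : y = x) ▸ hy.1
    rw [Submodule.map_span, ← Set.range_comp]
    exact hm.ge x.2
  let bA : Module.Basis (Fin n) A T := Module.Basis.mk hliA hspT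
  obtain ⟨σ⟩ := hR T inferInstance (Module.Finite.of_basis bA) (Module.Free.of_basis bA)
  let Φ : C →ₗ[L] L := bL.constr L fun i => algebraMap A L (σ (mT i))
  have hΦ : ∀ x : T, Φ (x : C) = algebraMap A L (σ x) := by
    refine fun x => LinearMap.congr_fun (bA.ext (f₁ := Φ.restrictScalars A ∘ₗ T.val.toLinearMap)
      (f₂ := Algebra.linearMap A L ∘ₗ σ.toLinearMap) fun i => ?_) x
    show Φ ((bA i : T) : C) = algebraMap A L (σ (bA i))
    rw [show bA i = mT i from Module.Basis.mk_apply _ _ i]
    show Φ (m i) = _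
    rw [show m i = bL i from (Module.Basis.mk_apply hliL hspan i).symm]
    exact bL.constr_basis L _ i
  refine ⟨AlgHom.ofLinearMap Φ (by simpa using hΦ 1) ?_⟩
  refine (LinearMap.map_mul_iff Φ).mpr (bL.ext fun i => bL.ext fun j => ?_)
  show Φ (bL i * bL j) = Φ (bL i) * Φ (bL j)
  rw [show bL i = (mT i : C) from Module.Basis.mk_apply _ _ i, show bL j = (mT j : C) from Module.Basis.mk_apply _ _ j,
    ← MulMemClass.coe_mul, hΦ, hΦ, hΦ, map_mul, map_mul]

end Algebra

/-- The fppf covering property of a presieve of schemes. -/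
abbrev fppf : MorphismProperty Scheme.{u} :=
  @Flat ⊓ @LocallyOfFinitePresentation ⊓ @QuasiCompact ⊓ @QuasiSeparated

/-- Coverings of a presieve can be indexed by the points of a scheme over the base. -/
theorem exists_member {X S : Scheme.{u}} {R : Presieve X} (hR : R ∈ Scheme.precoverage fppf X) (g : S ⟶ X)
    (s : S) : ∃ (Y : Scheme.{u}) (w : Y ⟶ X) (y : Y), R w ∧ fppf w ∧ w y = g s := by
  obtain ⟨κ, Y, w, rfl⟩ := R.exists_eq_ofArrows
  rw [Scheme.ofArrows_mem_precoverage_iff] at hR
  obtain ⟨i, y, hy⟩ := hR.1 (g s)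
  exact ⟨_, w i, y, ⟨i⟩, hR.2 i, hy⟩

/-- Locality for fppf coverings of pairs gives locality of the total space. -/
theorem total_fppfLocal (P : ModPair.Pair.{u})
    (hf : ∀ (X : ModPair.Pair.{u}) (ι : Type u) (U : ι → ModPair.Pair.{u}) (v : ∀ i, U i ⟶ X),
        (∀ i, ModPair.IsMinimal (U i).mod X.mod (v i).hom ∧ Flat (v i).hom ∧
          LocallyOfFinitePresentation (v i).hom ∧ QuasiCompact (v i).hom ∧
          QuasiSeparated (v i).hom) →
        (∀ x : X.total, ∃ (i : ι) (y : (U i).total), (v i).hom.base y = x) →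
        ∀ g : P ⟶ X, ∃ (i : ι) (h : P ⟶ U i), h ≫ v i = g)
    (X : Scheme.{u}) (R : Presieve X) (hR : R ∈ Scheme.precoverage fppf X) (g : P.total ⟶ X) :
    ∃ (Y : Scheme.{u}) (w : Y ⟶ X) (h : P.total ⟶ Y), R w ∧ h ≫ w = g := by
  choose Y w y hRw hw hy using exists_member hR g
  haveI : ∀ x, Flat (w x) := fun x => (hw x).1.1.1
  haveI : ∀ x, LocallyOfFinitePresentation (w x) := fun x => (hw x).1.1.2
  haveI : ∀ x, QuasiCompact (w x) := fun x => (hw x).1.2
  haveI : ∀ x, QuasiSeparated (w x) := fun x => (hw x).2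
  obtain ⟨x, h, hh⟩ := hf P P.total
    (fun x => ⟨pullback g (w x), P.mod.comap (pullback.fst g (w x)),
      Groth.Divisors.isEffCartierIdeal_comap_flat P.isEffCartier _⟩)
    (fun x => ⟨pullback.fst g (w x), le_refl _⟩)
    (fun x => ⟨rfl, inferInstance, inferInstance, inferInstance, inferInstance⟩)
    (fun x => by
      obtain ⟨z, hz, -⟩ := Scheme.Pullback.exists_preimage_pullback (f := g) (g := w x) x (y x) (hy x).symm
      exact ⟨x, z, hz⟩) (𝟙 P)
  have hh' : h.hom ≫ pullback.fst g (w x) = 𝟙 P.total := congrArg ModPair.Pair.Hom.hom hh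
  exact ⟨Y x, w x, h.hom ≫ pullback.snd g (w x), hRw x, by
    rw [Category.assoc, ← pullback.condition, reassoc_of% hh']⟩

/-- Locality for fppf coverings of pairs gives retractions of finite free algebras. -/
theorem exists_retraction_free (P : ModPair.Pair.{u}) [IsAffine P.total]
    (hf : ∀ (X : Scheme.{u}) (R : Presieve X), R ∈ Scheme.precoverage fppf X →
      ∀ g : P.total ⟶ X, ∃ (Y : Scheme.{u}) (w : Y ⟶ X) (h : P.total ⟶ Y), R w ∧ h ≫ w = g)
    (B : Type u) [CommRing B] [Algebra Γ(P.total, ⊤) B] (_ : Nontrivial B)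
    (_ : Module.Finite Γ(P.total, ⊤) B) (_ : Module.Free Γ(P.total, ⊤) B) :
    Nonempty (B →ₐ[Γ(P.total, ⊤)] Γ(P.total, ⊤)) := by
  let φ : Γ(P.total, ⊤) ⟶ CommRingCat.of B := CommRingCat.ofHom (algebraMap Γ(P.total, ⊤) B)
  haveI : Flat (Spec.map φ) := by
    rw [HasRingHomProperty.Spec_iff (P := @Flat)]
    exact RingHom.flat_algebraMap_iff.mpr inferInstance
  haveI : LocallyOfFinitePresentation (Spec.map φ) := by
    rw [HasRingHomProperty.Spec_iff (P := @LocallyOfFinitePresentation)]
    haveI : Module.FinitePresentation Γ(P.total, ⊤) B := Module.finitePresentation_of_projective _ _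
    exact RingHom.finitePresentation_algebraMap.mpr inferInstance
  obtain ⟨Y, w, h, hw, hh⟩ := hf _ (Presieve.singleton (Spec.map φ)) (by
    rw [Scheme.singleton_mem_precoverage_iff]
    exact ⟨PrimeSpectrum.comap_surjective_of_faithfullyFlat (A := Γ(P.total, ⊤)) (B := B),
      ⟨⟨⟨inferInstance, inferInstance⟩, inferInstance⟩, inferInstance⟩⟩) P.total.isoSpec.hom
  cases hw
  let ψ := Spec.preimage (P.total.isoSpec.inv ≫ h)
  have hψ : φ ≫ ψ = 𝟙 _ := Spec.map_injective (by
    rw [Spec.map_comp, Spec.map_preimage, Category.assoc, hh, Iso.inv_hom_id, Spec.map_id])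
  exact ⟨{ ψ.hom with commutes' := fun a => DFunLike.congr_fun (congrArg CommRingCat.Hom.hom hψ) a }⟩

open Polynomial in
/-- Retractions of finite free algebras give roots of monic polynomials. -/
theorem isAIC_of_retractions (A : Type u) [CommRing A]
    (hR : ∀ (B : Type u) [CommRing B] [Algebra A B], Nontrivial B → Module.Finite A B → Module.Free A B →
      Nonempty (B →ₐ[A] A)) : Curves.IsAIC A := by
  intro f hf hd
  rcases subsingleton_or_nontrivial A with hA | hA
  · exact ⟨0, Subsingleton.elim _ _⟩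
  obtain ⟨σ⟩ := hR (AdjoinRoot f) (Ideal.Quotient.nontrivial_iff.mpr fun h => hd.ne' (by rw [hf.isUnit_iff.mp (Ideal.span_singleton_eq_top.mp h), natDegree_one]))
    hf.finite_adjoinRoot hf.free_adjoinRoot
  refine ⟨σ (AdjoinRoot.root f), ?_⟩
  have h := Polynomial.aeval_algHom_apply σ (AdjoinRoot.root f) f
  rw [AdjoinRoot.aeval_eq, AdjoinRoot.mk_self, map_zero, Polynomial.coe_aeval_eq_eval] at h
  exact h

/-- A strictly henselian local ring with retractions of finite free algebras is fppf-local. -/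
theorem spec_fppfLocal (L : CommRingCat.{u}) [HenselianLocalRing L]
    [IsSepClosed (IsLocalRing.ResidueField L)]
    (hR : ∀ (C : Type u) [CommRing C] [Algebra L C], Nontrivial C → Module.Finite L C → Module.Free L C →
      Nonempty (C →ₐ[L] L))
    (X : Scheme.{u}) (R : Presieve X) (hRX : R ∈ Scheme.precoverage fppf X) (g : Spec L ⟶ X) :
    ∃ (Y : Scheme.{u}) (w : Y ⟶ X) (h : Spec L ⟶ Y), R w ∧ h ≫ w = g := by
  choose Y w y hRw hw hy using exists_member hRX g
  obtain ⟨κ, U, V, u, v, hu, hUc, hv, hfac⟩ := Groth.Agent.S19339.result (X := Spec L)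
    (fun x : Spec L => pullback g (w x)) (fun x => pullback.fst g (w x)) (by
      rw [Scheme.ofArrows_mem_precoverage_iff]
      refine ⟨fun x => ?_, fun x => MorphismProperty.pullback_fst _ _ (hw x)⟩
      obtain ⟨z, hz, -⟩ := Scheme.Pullback.exists_preimage_pullback (f := g) (g := w x) x (y x) (hy x).symm
      exact ⟨x, z, hz⟩)
  obtain ⟨k, z, hz, -⟩ := hUc (IsLocalRing.closedPoint L)
  haveI := hu k
  obtain ⟨hv1, hv2, hv3⟩ := hv k
  obtain ⟨s, hs, -⟩ := Groth.EtaleBase.exists_section_of_etale L (u k) z hz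
  let T := pullback (v k) s
  let f : T ⟶ Spec L := pullback.snd (v k) s
  haveI : IsFinite f := inferInstance
  haveI : IsAffine T := isAffine_of_isAffineHom f
  let φ := Spec.preimage (T.isoSpec.inv ≫ f)
  have hφ : Spec.map φ = T.isoSpec.inv ≫ f := Spec.map_preimage _
  algebraize [φ.hom]
  haveI : Module.Finite L Γ(T, ⊤) := (IsFinite.SpecMap_iff φ).mp (by rw [hφ]; infer_instance)
  haveI : Module.Flat L Γ(T, ⊤) := (HasRingHomProperty.Spec_iff (P := @Flat)).mp (by rw [hφ]; infer_instance)
  haveI : Module.Free L Γ(T, ⊤) := Module.free_of_flat_of_isLocalRing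
  haveI hnt : Nontrivial Γ(T, ⊤) := by
    obtain ⟨t, -⟩ := f.surjective (IsLocalRing.closedPoint L)
    exact PrimeSpectrum.nontrivial (T.toSpecΓ t)
  obtain ⟨σ⟩ := hR Γ(T, ⊤) hnt inferInstance inferInstance
  let t : Spec L ⟶ T := Spec.map (CommRingCat.ofHom σ.toRingHom) ≫ T.isoSpec.inv
  have ht : t ≫ f = 𝟙 _ := by
    rw [Category.assoc, ← hφ, ← Spec.map_comp]
    refine (congrArg Spec.map (?_ : φ ≫ CommRingCat.ofHom σ.toRingHom = 𝟙 L)).trans (Spec.map_id _)
    exact CommRingCat.hom_ext (RingHom.ext fun a => σ.commutes a)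
  obtain ⟨x, r, hr⟩ := hfac k
  refine ⟨Y x, w x, t ≫ pullback.fst (v k) s ≫ r ≫ pullback.snd g (w x), hRw x, ?_⟩
  simp only [Category.assoc]
  rw [← pullback.condition, reassoc_of% hr, pullback.condition_assoc, reassoc_of% hs, reassoc_of% ht]

/-- A scheme isomorphic to an fppf-local one is fppf-local. -/
theorem fppfLocal_of_iso {S T : Scheme.{u}} (e : S ≅ T)
    (h : ∀ (X : Scheme.{u}) (R : Presieve X), R ∈ Scheme.precoverage fppf X →
      ∀ g : S ⟶ X, ∃ (Y : Scheme.{u}) (w : Y ⟶ X) (h : S ⟶ Y), R w ∧ h ≫ w = g)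
    (X : Scheme.{u}) (R : Presieve X) (hR : R ∈ Scheme.precoverage fppf X) (g : T ⟶ X) :
    ∃ (Y : Scheme.{u}) (w : Y ⟶ X) (h : T ⟶ Y), R w ∧ h ≫ w = g := by
  obtain ⟨Y, w, k, hw, hk⟩ := h X R hR (e.hom ≫ g)
  exact ⟨Y, w, e.inv ≫ k, hw, by rw [Category.assoc, hk, Iso.inv_hom_id_assoc]⟩

/-- The interior of a local pair is the spectrum of the local ring at its closed point. -/
theorem nonempty_interior_iso (P : ModPair.Pair.{u}) [IsAffine P.total]
    [IsAffine (ModPair.interior P.mod : Scheme.{u})]
    (z : (ModPair.interior P.mod : Scheme.{u})) (hz : ∀ w, w ⤳ z) :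
    Nonempty (Spec (CommRingCat.of (Localization.AtPrime
      (P.total.toSpecΓ.base ((ModPair.interior P.mod).ι.base z)).asIdeal)) ≅
        (ModPair.interior P.mod : Scheme.{u})) := by
  let U : Scheme.{u} := ModPair.interior P.mod
  haveI : IsLocalRing Γ(U, ⊤) := Groth.ModPairs.isLocalRing_of_forall_specializes z hz
  have hcp : U.toSpecΓ z = IsLocalRing.closedPoint Γ(U, ⊤) := by
    have hs : IsLocalRing.closedPoint Γ(U, ⊤) ⤳ U.toSpecΓ z := by
      have h := (hz (U.isoSpec.inv (IsLocalRing.closedPoint Γ(U, ⊤)))).map U.toSpecΓ.continuous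
      rwa [Groth.ModPairs.toSpecΓ_isoSpec_inv_apply] at h
    exact ((IsLocalRing.specializes_closedPoint _).antisymm hs).eq
  let e₁ : U.presheaf.stalk z ≅ Γ(U, ⊤) := by
    letI := TopCat.Presheaf.algebra_section_stalk U.presheaf (⟨z, trivial⟩ : (⊤ : U.Opens))
    haveI := (isAffineOpen_top U).isLocalization_stalk ⟨z, trivial⟩
    exact (IsLocalization.atUnits Γ(U, ⊤) ((isAffineOpen_top U).primeIdealOf ⟨z, trivial⟩).asIdeal.primeCompl
      (S := U.presheaf.stalk z) (fun x hx => by
        by_contra hnu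
        refine hx ?_
        have hmax : ((isAffineOpen_top U).primeIdealOf ⟨z, trivial⟩).asIdeal = IsLocalRing.maximalIdeal Γ(U, ⊤) := by
          have hzz : U.isoSpec.inv ((isAffineOpen_top U).primeIdealOf ⟨z, trivial⟩) = z := by
            rw [← IsAffineOpen.fromSpec_top]
            exact (isAffineOpen_top U).fromSpec_primeIdealOf ⟨z, trivial⟩
          have := congrArg U.toSpecΓ hzz
          rw [Groth.ModPairs.toSpecΓ_isoSpec_inv_apply, hcp] at this
          rw [this]
          rfl
        rw [hmax]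
        exact (IsLocalRing.mem_maximalIdeal _).mpr hnu)).toRingEquiv.symm.toCommRingCatIso
  let e₂ : U.presheaf.stalk z ≅ P.total.presheaf.stalk ((ModPair.interior P.mod).ι z) :=
    (ModPair.interior P.mod).stalkIso z
  let e₃ : P.total.presheaf.stalk ((ModPair.interior P.mod).ι z) ≅
      CommRingCat.of (Localization.AtPrime (P.total.toSpecΓ.base ((ModPair.interior P.mod).ι.base z)).asIdeal) := by
    letI := TopCat.Presheaf.algebra_section_stalk P.total.presheaf
      (⟨(ModPair.interior P.mod).ι z, trivial⟩ : (⊤ : P.total.Opens))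
    have hpi : ((isAffineOpen_top P.total).primeIdealOf ⟨(ModPair.interior P.mod).ι z, trivial⟩) =
        P.total.toSpecΓ ((ModPair.interior P.mod).ι z) := by
      have h := congrArg P.total.toSpecΓ
        ((isAffineOpen_top P.total).fromSpec_primeIdealOf ⟨(ModPair.interior P.mod).ι z, trivial⟩)
      rw [IsAffineOpen.fromSpec_top, Groth.ModPairs.toSpecΓ_isoSpec_inv_apply] at h
      exact h
    haveI : IsLocalization (P.total.toSpecΓ.base ((ModPair.interior P.mod).ι.base z)).asIdeal.primeCompl
        (P.total.presheaf.stalk ((ModPair.interior P.mod).ι z)) := by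
      have h := (isAffineOpen_top P.total).isLocalization_stalk ⟨(ModPair.interior P.mod).ι z, trivial⟩
      rw [IsLocalization.AtPrime] at h
      convert h using 2
      exact congrArg PrimeSpectrum.asIdeal hpi.symm
    exact (IsLocalization.algEquiv (P.total.toSpecΓ.base ((ModPair.interior P.mod).ι.base z)).asIdeal.primeCompl
      (P.total.presheaf.stalk ((ModPair.interior P.mod).ι z))
      (Localization.AtPrime (P.total.toSpecΓ.base ((ModPair.interior P.mod).ι.base z)).asIdeal)).toRingEquiv.toCommRingCatIso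
  exact ⟨Scheme.Spec.mapIso (e₁.symm ≪≫ e₂ ≪≫ e₃).op ≪≫ U.isoSpec.symm⟩

theorem closed_of_forall_specializes {Z : Scheme.{u}} {z : Z} (hz : ∀ w, w ⤳ z) : IsClosed ({z} : Set Z) := by
  rw [← closure_subset_iff_isClosed]
  intro w hw
  exact Set.mem_singleton_iff.mpr ((hz w).antisymm (specializes_iff_mem_closure.mpr hw)).eq

/-- Let P be a modulus pair (a scheme P̄ with the quasi-coherent ideal sheaf of an effective Cartier
divisor) whose total space P̄ is quasi-compact and quasi-separated. Call a scheme T fppf-local when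
for every scheme X, every jointly surjective family of morphisms to X that are flat and of finite
presentation (locally of finite presentation, quasi-compact, quasi-separated) and every T ⟶ X, the
latter factors through a member of the family. Then P is local both for fppf coverings of modulus
pairs (families of minimal morphisms U_i ⟶ X whose underlying morphisms form such a family, with the
same factorisation property for morphisms of pairs P ⟶ X) and for abstract admissible blow-ups
(every P ⟶ X lifts along every abstract admissible blow-up Q ⟶ X) if and only if (1) P̄ is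
fppf-local, (2) the interior P° is fppf-local, (3) P° is affine with local ring of global sections
and, writing p for its closed point and 𝔮 ⊂ A = Γ(P̄) for the prime ideal of p, the ring A/𝔮 is a
valuation ring with algebraically closed fraction field, and (4) the localisation map sends 𝔮
bijectively onto the maximal ideal of A_𝔮, i.e. A = A/𝔮 ×_{k(𝔮)} A_𝔮 and P̄ is the gluing of the
closure of p to P° along p. (The affine-local clause in (3) is a consequence of (2) and only serves
to name p.) The published statement allows any modulus pair P; this row assumes the total space P̄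
quasi-compact and quasi-separated. -/
theorem result (P : ModPair.Pair.{u})
    [CompactSpace P.total] [QuasiSeparatedSpace P.total] :
    ((∀ (X : ModPair.Pair.{u}) (ι : Type u) (U : ι → ModPair.Pair.{u}) (v : ∀ i, U i ⟶ X),
        (∀ i, ModPair.IsMinimal (U i).mod X.mod (v i).hom ∧ Flat (v i).hom ∧
          LocallyOfFinitePresentation (v i).hom ∧ QuasiCompact (v i).hom ∧
          QuasiSeparated (v i).hom) →
        (∀ x : X.total, ∃ (i : ι) (y : (U i).total), (v i).hom.base y = x) →
        ∀ g : P ⟶ X, ∃ (i : ι) (h : P ⟶ U i), h ≫ v i = g) ∧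
      (∀ (Q X : ModPair.Pair.{u}) (q : Q ⟶ X), ModPair.Pair.admBlowup q →
        ∀ g : P ⟶ X, ∃ h : P ⟶ Q, h ≫ q = g)) ↔
    ((∀ (X : Scheme.{u}) (R : Presieve X), R ∈ Scheme.precoverage (@Flat ⊓ @LocallyOfFinitePresentation ⊓ @QuasiCompact ⊓ @QuasiSeparated) X →
        ∀ g : P.total ⟶ X, ∃ (Y : Scheme.{u}) (w : Y ⟶ X) (h : P.total ⟶ Y), R w ∧ h ≫ w = g) ∧
      (∀ (X : Scheme.{u}) (R : Presieve X), R ∈ Scheme.precoverage (@Flat ⊓ @LocallyOfFinitePresentation ⊓ @QuasiCompact ⊓ @QuasiSeparated) X →
        ∀ g : (ModPair.interior P.mod : Scheme.{u}) ⟶ X, ∃ (Y : Scheme.{u}) (w : Y ⟶ X) (h : (ModPair.interior P.mod : Scheme.{u}) ⟶ Y), R w ∧ h ≫ w = g) ∧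
      IsAffine (ModPair.interior P.mod : Scheme.{u}) ∧
      IsLocalRing Γ((ModPair.interior P.mod : Scheme.{u}), ⊤) ∧
      ∀ p : (ModPair.interior P.mod : Scheme.{u}),
        IsClosed ({p} : Set (ModPair.interior P.mod : Scheme.{u})) →
          ValuationRing (Γ(P.total, ⊤) ⧸ (P.total.toSpecΓ.base ((ModPair.interior P.mod).ι.base p)).asIdeal) ∧
          IsAlgClosed (FractionRing (Γ(P.total, ⊤) ⧸ (P.total.toSpecΓ.base ((ModPair.interior P.mod).ι.base p)).asIdeal)) ∧
          Set.BijOn (algebraMap Γ(P.total, ⊤) (Localization.AtPrime (P.total.toSpecΓ.base ((ModPair.interior P.mod).ι.base p)).asIdeal))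
            ((P.total.toSpecΓ.base ((ModPair.interior P.mod).ι.base p)).asIdeal : Set Γ(P.total, ⊤))
            (IsLocalRing.maximalIdeal (Localization.AtPrime (P.total.toSpecΓ.base ((ModPair.interior P.mod).ι.base p)).asIdeal) :
              Set (Localization.AtPrime (P.total.toSpecΓ.base ((ModPair.interior P.mod).ι.base p)).asIdeal))) := by
  constructor
  · rintro ⟨hf, hlift⟩
    obtain ⟨hA, hL⟩ := Groth.ModPairs.isAffine_isLocalRing_of_zariski P fun X ι U v hv hcov g =>
      hf X ι U v (fun i => by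
        haveI := (hv i).2.1
        exact ⟨(hv i).1, inferInstance, inferInstance, (hv i).2.2, inferInstance⟩) hcov g
    obtain ⟨h1, h2, h3⟩ := Groth.ModPairs.gluing_of_lift P hlift
    have htot := total_fppfLocal P hf
    have hret := exists_retraction_free P htot
    have hAIC := isAIC_of_retractions Γ(P.total, ⊤) hret
    obtain ⟨z, hz⟩ := Groth.ModPairs.exists_forall_specializes (Z := (ModPair.interior P.mod : Scheme.{u}))
    obtain ⟨hV, hB⟩ := h3 z (closed_of_forall_specializes hz)
    refine ⟨htot, ?_, h1, h2, fun p hp => ?_⟩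
    swap
    · haveI := (P.total.toSpecΓ.base ((ModPair.interior P.mod).ι.base p)).2
      exact ⟨(h3 p hp).1, Groth.Agent.S19346.isAlgClosed_fractionRing (Groth.Agent.S19346.isAIC_quotient _ hAIC),
        (h3 p hp).2⟩
    let 𝔮 : Ideal Γ(P.total, ⊤) := (P.total.toSpecΓ.base ((ModPair.interior P.mod).ι.base z)).asIdeal
    haveI : 𝔮.IsPrime := (P.total.toSpecΓ.base ((ModPair.interior P.mod).ι.base z)).2
    let L : Type u := Localization.AtPrime 𝔮
    haveI : HenselianLocalRing L := by
      have hsh : EtCoh.IsStrictlyHenselianLocalRing Γ(P.total, ⊤) := by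
        have h := Groth.EtaleDeep.IndEt.isStrictlyHenselianLocalRing (IsLocalRing.maximalIdeal Γ(P.total, ⊤))
          (Groth.Agent.S19343.hasEtaleRetractions P fun X ι U v hv hcov g =>
            hf X ι U v (fun i => by
              haveI := (hv i).2.1
              exact ⟨(hv i).1, inferInstance, inferInstance, (hv i).2.2⟩) hcov g)
        refine Groth.EtaleDeep.IndEt.isStrictlyHenselianLocalRing_of_ringEquiv
          (IsLocalization.atUnits Γ(P.total, ⊤) (IsLocalRing.maximalIdeal Γ(P.total, ⊤)).primeCompl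
            (fun x hx => ?_)).toRingEquiv.symm h
        exact IsLocalRing.notMem_maximalIdeal.mp hx
      obtain ⟨hAh, -⟩ := hsh
      exact Groth.Agent.S19343.henselianLocalRing_atPrime 𝔮 hB
    haveI : IsAlgClosed (IsLocalRing.ResidueField L) :=
      IsAlgClosed.of_exists_root _ fun p hp hirr =>
        Groth.Agent.S19346.isAIC_quotient _ (Groth.Agent.S19346.isAIC_of_isLocalization 𝔮.primeCompl hAIC)
          p hp hirr.natDegree_pos
    obtain ⟨e⟩ := nonempty_interior_iso P z hz
    refine fppfLocal_of_iso e (spec_fppfLocal (CommRingCat.of L) fun C _ _ hnt hfin hfree => ?_)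
    letI : Algebra Γ(P.total, ⊤) C := ((algebraMap L C).comp (algebraMap Γ(P.total, ⊤) L)).toAlgebra
    haveI : IsScalarTower Γ(P.total, ⊤) L C := IsScalarTower.of_algebraMap_eq' rfl
    exact exists_retraction_atPrime 𝔮 hV hB hret C
  · rintro ⟨htot, -, hIA, hIL, hp⟩
    have hfac : ∀ (X : ModPair.Pair.{u}) (ι : Type u) (U : ι → ModPair.Pair.{u}) (v : ∀ i, U i ⟶ X),
        (∀ i, ModPair.IsMinimal (U i).mod X.mod (v i).hom ∧ fppf (v i).hom) →
        (∀ x : X.total, ∃ (i : ι) (y : (U i).total), (v i).hom.base y = x) →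
        ∀ g : P ⟶ X, ∃ (i : ι) (h : P ⟶ U i), h ≫ v i = g := by
      intro X ι U v hv hcov g
      obtain ⟨Y, w, h, hw, hh⟩ := htot X.total (Presieve.ofArrows (fun i => (U i).total) fun i => (v i).hom)
        (by rw [Scheme.ofArrows_mem_precoverage_iff]; exact ⟨hcov, fun i => (hv i).2⟩) g.hom
      obtain ⟨i⟩ := hw
      refine ⟨i, ⟨h, ?_⟩, ModPair.Pair.Hom.ext hh⟩
      show P.mod ≤ (U i).mod.comap h
      rw [show (U i).mod = X.mod.comap (v i).hom from (hv i).1, ← Scheme.IdealSheafData.comap_comp, hh]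
      exact g.cond
    obtain ⟨hA, hL⟩ := Groth.ModPairs.isAffine_isLocalRing_of_zariski P fun X ι U v hv hcov g =>
      hfac X ι U v (fun i => by
        haveI := (hv i).2.1
        exact ⟨(hv i).1, ⟨⟨⟨inferInstance, inferInstance⟩, (hv i).2.2⟩, inferInstance⟩⟩) hcov g
    refine ⟨fun X ι U v hv hcov g => hfac X ι U v
      (fun i => ⟨(hv i).1, ⟨⟨⟨(hv i).2.1, (hv i).2.2.1⟩, (hv i).2.2.2.1⟩, (hv i).2.2.2.2⟩⟩) hcov g,
      fun Q X q hq g => ?_⟩
    obtain ⟨z, hz⟩ := Groth.ModPairs.exists_forall_specializes (Z := (ModPair.interior P.mod : Scheme.{u}))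
    obtain ⟨hV, -, hB⟩ := hp z (closed_of_forall_specializes hz)
    exact Groth.ModPairs.exists_lift_admBlowup P _ z.2 hV hB q hq g

end Groth.Agent.S19344
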