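import Groth.Statements.S19347
import Groth.Agent.NagComp.LocFreeCompactify
import Groth.Agent.KTheory.LocFree
-- import your own Groth.Agent.* helpers here

set_option autoImplicit false
universe u
open RigCh

namespace Groth.Agent.S19347

open AlgebraicGeometry CategoryTheory in
/-- Let k be a field, X a separated k-scheme of finite type and 0 → F₁ → F₂ → F₃ → 0 a short exact
sequence of finite locally free O_X-modules. Then there are an open immersion j of X, over k, into a
scheme proper over k, such that the complement of the image of j is the support of an effective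
Cartier divisor (a quasi-coherent ideal sheaf which near every point is generated on some affine
open by a single nonzerodivisor), and a short exact sequence 0 → G₁ → G₂ → G₃ → 0 of finite locally
free modules on that scheme whose pullback along j is isomorphic to the given sequence (isomorphisms
on the three terms commuting with the maps). (In the source, compactifications have divisor boundary
by a standing convention, so the divisor clause is part of the published statement, although the
published proof does not re-verify it for the compactification it constructs. The source assumes k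
of positive characteristic; this plays no role in the statement or its proof.) -/
theorem result (k : Type u) [Field k]
    (X : Scheme.{u}) (f : X ⟶ Spec (CommRingCat.of k)) [IsSeparated f] [QuasiCompact f] [LocallyOfFiniteType f]
    (S : ShortComplex X.Modules) (hS : S.ShortExact)
    (h₁ : FlatMod.IsFinLocFree S.X₁) (h₂ : FlatMod.IsFinLocFree S.X₂) (h₃ : FlatMod.IsFinLocFree S.X₃) :
    ∃ (Xb : Scheme.{u}) (j : X ⟶ Xb) (g : Xb ⟶ Spec (CommRingCat.of k)) (E : Xb.IdealSheafData),
      IsOpenImmersion j ∧ IsProper g ∧ j ≫ g = f ∧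
      BlowUp.IsEffCartierIdeal E ∧ (E.support : Set Xb) = (Set.range j.base)ᶜ ∧
      ∃ (T : ShortComplex Xb.Modules), T.ShortExact ∧
        FlatMod.IsFinLocFree T.X₁ ∧ FlatMod.IsFinLocFree T.X₂ ∧ FlatMod.IsFinLocFree T.X₃ ∧
        ∃ (e₁ : (Scheme.Modules.pullback j).obj T.X₁ ≅ S.X₁) (e₂ : (Scheme.Modules.pullback j).obj T.X₂ ≅ S.X₂)
          (e₃ : (Scheme.Modules.pullback j).obj T.X₃ ≅ S.X₃),
          (Scheme.Modules.pullback j).map T.f ≫ e₂.hom = e₁.hom ≫ S.f ∧
          (Scheme.Modules.pullback j).map T.g ≫ e₃.hom = e₂.hom ≫ S.g := by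
  haveI : IsNoetherian (Spec (CommRingCat.of k)) := {}
  obtain ⟨P, j₀, g₀, -, hj₀, -, -, -, hg₀, hjg₀, -, -⟩ :=
    Groth.NagComp.exists_compactification_over f (𝟙 _) f (Category.comp_id f)
  haveI : IsLocallyNoetherian P := LocallyOfFiniteType.isLocallyNoetherian g₀
  haveI : CompactSpace P := QuasiCompact.compactSpace_of_compactSpace g₀
  haveI : AlgebraicGeometry.IsNoetherian P := ⟨⟩
  obtain ⟨M₂, hM₂, ⟨θ₂⟩⟩ := Groth.NagComp.LocFreeExt.exists_coh_extension j₀ S.X₂ h₂
  haveI := hM₂.1
  haveI := Groth.KTheory.LocFree.isQCoh h₃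
  haveI := hS.epi_g
  haveI := Groth.NagComp.LocFreeExt.preservesFiniteLimits_pullback j₀
  haveI : QuasiCompact j₀.opensRange.ι := inferInstance
  haveI : QuasiCompact j₀ := by rw [← j₀.isoOpensRange_hom_ι]; infer_instance
  haveI : ((Scheme.Modules.pushforward j₀).obj S.X₃).IsQuasicoherent :=
    Groth.QCohMod.isQCoh_pushforward _ j₀
  let adj := Scheme.Modules.pullbackPushforwardAdjunction j₀
  let v : M₂ ⟶ (Scheme.Modules.pushforward j₀).obj S.X₃ := adj.homEquiv _ _ (θ₂.hom ≫ S.g)
  have hv : (Scheme.Modules.pullback j₀).map v ≫ adj.counit.app S.X₃ = θ₂.hom ≫ S.g := by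
    exact ((adj.homEquiv_counit M₂ S.X₃ v).symm.trans ((adj.homEquiv M₂ S.X₃).symm_apply_apply _))
  haveI := Groth.QCohMod.isQCoh_kernel v
  let M₃ := Abelian.coimage v
  let p : M₂ ⟶ M₃ := Abelian.coimage.π v
  have hM₃ : Coh.IsCoh M₃ := Groth.QCohMod.isCoh_cokernel (Limits.kernel.ι v) hM₂
  let χ : (Scheme.Modules.pullback j₀).obj M₃ ⟶ S.X₃ :=
    (Scheme.Modules.pullback j₀).map (Abelian.factorThruCoimage v) ≫ adj.counit.app S.X₃
  have hχ : (Scheme.Modules.pullback j₀).map p ≫ χ = θ₂.hom ≫ S.g := by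
    rw [← Category.assoc, ← Functor.map_comp, Abelian.coimage.fac, hv]
  haveI : Epi χ := epi_of_epi_fac hχ
  haveI : IsIso adj.counit := inferInstance
  haveI : Mono χ := inferInstance
  haveI : IsIso χ := isIso_of_mono_of_epi χ
  have hfree : ∀ i : Bool, FlatMod.IsFinLocFree ((Scheme.Modules.pullback j₀).obj (cond i M₂ M₃)) :=
    fun i => by
      cases i
      · exact Groth.KTheory.LocFree.isFinLocFree_of_iso (asIso χ).symm h₃
      · exact Groth.KTheory.LocFree.isFinLocFree_of_iso θ₂.symm h₂
  obtain ⟨P', b, j, D, hb, hP', hj, hjb, hD, hDs, -, -, -, hG⟩ :=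
    Groth.NagComp.LocFreeExt.exists_blowUp_locFree j₀ (fun i : Bool => cond i M₂ M₃)
      (fun i => by cases i <;> assumption) hfree
  obtain ⟨G₂, π₂', hG₂, hπ₂, hi₂⟩ := hG true
  obtain ⟨G₃, π₃', hG₃, hπ₃, hi₃⟩ := hG false
  let π₂ : (Scheme.Modules.pullback b).obj M₂ ⟶ G₂ := π₂'
  let π₃ : (Scheme.Modules.pullback b).obj M₃ ⟶ G₃ := π₃'
  haveI : Epi π₂ := hπ₂
  haveI : Epi π₃ := hπ₃
  haveI : IsIso ((Scheme.Modules.pullback j).map π₂) := hi₂
  haveI : IsIso ((Scheme.Modules.pullback j).map π₃) := hi₃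
  haveI := Groth.NagComp.LocFreeExt.preservesFiniteLimits_pullback j
  let q : (Scheme.Modules.pullback b).obj M₂ ⟶ G₃ := (Scheme.Modules.pullback b).map p ≫ π₃
  have hker : Limits.kernel.ι π₂ ≫ q = 0 := by
    refine Groth.NagComp.LocFreeExt.eq_zero_of_pullback_eq_zero j hD hDs hG₃ _ ?_
    rw [Functor.map_comp]
    have : (Scheme.Modules.pullback j).map (Limits.kernel.ι π₂) = 0 := by
      rw [← cancel_mono ((Scheme.Modules.pullback j).map π₂), ← Functor.map_comp, Limits.kernel.condition,
        Functor.map_zero, Limits.zero_comp]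
    rw [this, Limits.zero_comp]
  let g' : G₂ ⟶ G₃ := Abelian.epiDesc π₂ q hker
  have hg' : π₂ ≫ g' = q := Abelian.comp_epiDesc π₂ q hker
  haveI : Epi ((Scheme.Modules.pullback b).map p) := inferInstance
  haveI : Epi g' := epi_of_epi_fac hg'
  let T : ShortComplex P'.Modules := ShortComplex.mk (Limits.kernel.ι g') g' (Limits.kernel.condition g')
  have hT : T.ShortExact :=
    { exact := ShortComplex.exact_of_f_is_kernel _ (Limits.kernelIsKernel g')
      mono_f := show Mono (Limits.kernel.ι g') from inferInstance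
      epi_g := show Epi g' from inferInstance }
  have hG₁ : FlatMod.IsFinLocFree T.X₁ :=
    Groth.KTheory.LocFree.isFinLocFree_of_shortExact_right hT hG₂ hG₃
  let Φ : Scheme.Modules.pullback b ⋙ Scheme.Modules.pullback j ≅ Scheme.Modules.pullback j₀ :=
    Scheme.Modules.pullbackComp j b ≪≫ Scheme.Modules.pullbackCongr hjb
  let e₂ : (Scheme.Modules.pullback j).obj T.X₂ ≅ S.X₂ :=
    (asIso ((Scheme.Modules.pullback j).map π₂)).symm ≪≫ Φ.app M₂ ≪≫ θ₂
  let e₃ : (Scheme.Modules.pullback j).obj T.X₃ ≅ S.X₃ :=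
    (asIso ((Scheme.Modules.pullback j).map π₃)).symm ≪≫ Φ.app M₃ ≪≫ asIso χ
  have hcomm : (Scheme.Modules.pullback j).map T.g ≫ e₃.hom = e₂.hom ≫ S.g := by
    rw [← cancel_epi ((Scheme.Modules.pullback j).map π₂)]
    simp only [e₂, e₃, Iso.trans_hom, Iso.symm_hom, asIso_inv, asIso_hom, Iso.app_hom,
      Category.assoc, IsIso.hom_inv_id_assoc]
    rw [← Functor.map_comp_assoc, show π₂ ≫ T.g = q from hg', Functor.map_comp_assoc,
      IsIso.hom_inv_id_assoc, ← hχ]
    exact Φ.hom.naturality_assoc p χ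
  have hTj := hT.map_of_exact (Scheme.Modules.pullback j)
  let e₁ : (Scheme.Modules.pullback j).obj T.X₁ ≅ S.X₁ :=
    Limits.IsLimit.conePointsIsoOfNatIso hTj.fIsKernel hS.fIsKernel
      (Limits.parallelPair.ext e₂ e₃ hcomm (by simp))
  exact ⟨P', j, b ≫ g₀, D, hj, inferInstance, by rw [← Category.assoc, hjb, hjg₀], hD, hDs, T, hT,
    hG₁, hG₂, hG₃, e₁, e₂, e₃,
    (Limits.IsLimit.conePointsIsoOfNatIso_hom_comp hTj.fIsKernel hS.fIsKernel
      (Limits.parallelPair.ext e₂ e₃ hcomm (by simp)) Limits.WalkingParallelPair.zero).symm, hcomm⟩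

end Groth.Agent.S19347
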