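import Groth.Statements.S19348
-- import your own Groth.Agent.* helpers here

set_option autoImplicit false
universe u
open RigCh

namespace Groth.Agent.S19348

/-- Let p be a prime and m a natural number, P a commutative ring complete and separated for the p-adic
topology, and I an ideal of P with a divided power structure of level m, that is a sub-ideal J of I
endowed with divided powers such that x ^ (p ^ m) and p * x lie in J for all x in I. Then an element
of P whose class in P / I is invertible is invertible in P. (The source states this for a lift of a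
unit to the p-adically completed level-m divided power envelope of a closed immersion; the statement
here keeps exactly what its argument uses: completeness for p and the level-m divided powers on the
kernel.) -/
theorem result (p : ℕ) [Fact p.Prime] (m : ℕ)
    (P : Type u) [CommRing P] [IsAdicComplete (Ideal.span {(p : P)}) P]
    (I J : Ideal P) (hJ : DividedPowers J) (hJI : J ≤ I)
    (hpow : ∀ x ∈ I, x ^ (p ^ m) ∈ J) (hmul : ∀ x ∈ I, (p : P) * x ∈ J)
    (u : P) (hu : IsUnit (Ideal.Quotient.mk I u)) : IsUnit u := by
  have hp0 : (p : P) ∈ (⊥ : Ideal P).jacobson :=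
    IsAdicComplete.le_jacobson_bot _ (Ideal.mem_span_singleton_self (p : P))
  have hIjac : I ≤ (⊥ : Ideal P).jacobson := by
    intro x hx
    have hy := hpow x hx
    have h := hJ.factorial_mul_dpow_eq_pow (n := p) hy
    have hmem : x ^ (p ^ m * p) ∈ (⊥ : Ideal P).jacobson := by
      rw [pow_mul, ← h]
      obtain ⟨q, hq⟩ := Nat.dvd_factorial (Fact.out : p.Prime).pos (le_refl p)
      rw [hq, Nat.cast_mul, mul_assoc]
      exact Ideal.mul_mem_right _ _ hp0
    exact Ideal.mem_sInf.2 fun {Q} hQ => hQ.2.isPrime.mem_of_pow_mem _ (Ideal.mem_sInf.1 hmem hQ)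
  obtain ⟨v, hv⟩ := hu.exists_right_inv
  obtain ⟨v, rfl⟩ := Ideal.Quotient.mk_surjective v
  rw [← map_mul, ← map_one (Ideal.Quotient.mk I), Ideal.Quotient.mk_eq_mk_iff_sub_mem] at hv
  have h1 := Ideal.mem_jacobson_bot.1 (hIjac hv) 1
  rw [mul_one, sub_add_cancel] at h1
  exact isUnit_of_mul_isUnit_left h1

end Groth.Agent.S19348
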