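import Groth.Statements.S19350
import Groth.Agent.RefRank.StrictSheaf
import Groth.Agent.LocFree.AffineHom
import Groth.Agent.LocFree.Basic
import Groth.Agent.PropsBasic.LocFree
-- import your own Groth.Agent.* helpers here

set_option autoImplicit false
universe u
open RigCh

namespace Groth.Agent.S19350

open AlgebraicGeometry CategoryTheory in
/-- Let X be a separated scheme of finite type over a field k, I a quasi-coherent ideal sheaf on X, b :
X' → X a blowing up of X in I and F a finite locally free O_X-module. Then for any strict transform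
G of F along b (an epimorphism π from the pullback of F onto G whose kernel consists,
affine-locally, of the sections annihilated by a power of the exceptional ideal), π is an
isomorphism and G is finite locally free. (The published statement asserts only that the strict
transform is locally free. The source assumes k of positive characteristic, which plays no role
here.) -/
theorem result (k : Type u) [Field k]
    (X : Scheme.{u}) (f : X ⟶ Spec (CommRingCat.of k)) [IsSeparated f] [QuasiCompact f] [LocallyOfFiniteType f]
    (I : X.IdealSheafData) {X' : Scheme.{u}} (b : X' ⟶ X) (hb : BlowUp.IsBlowUp b I)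
    (F : X.Modules) (hF : FlatMod.IsFinLocFree F) (G : X'.Modules) (π : (Scheme.Modules.pullback b).obj F ⟶ G)
    (hG : BlowUp.IsStrictTransform b I F G π) : IsIso π ∧ FlatMod.IsFinLocFree G := by
  have hP : FlatMod.IsFinLocFree ((Scheme.Modules.pullback b).obj F) :=
    Groth.LocFree.isFinLocFree_pullback b hF
  haveI : F.IsQuasicoherent := Groth.PropsBasic.LocFree.isQuasicoherent_of_isFinLocFree F hF
  haveI : ((Scheme.Modules.pullback b).obj F).IsQuasicoherent :=
    Groth.PropsBasic.LocFree.isQuasicoherent_of_isFinLocFree _ hP
  haveI := hG.1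
  haveI := Groth.RefRank.StrictSheaf.isQCoh_of_isStrictTransform hb.1 hG
  have hiso : IsIso π := by
    refine Groth.LocFree.isIso_of_small_affine π fun x W hxW => ?_
    obtain ⟨U, n, hxU, ⟨e⟩⟩ := hP x
    obtain ⟨V, hxV, hVW, t, ht, hI⟩ := Groth.Divisors.exists_generator hb.1 x (W ⊓ U) ⟨hxW, hxU⟩
    obtain ⟨B⟩ := Groth.RefRank.FittSheaf.exists_basis_sections _ e V.2 (hVW.trans inf_le_right)
    refine ⟨V.1, V.2, hxV, hVW.trans inf_le_left, (injective_iff_map_eq_zero _).2 fun m hm => ?_,
      Groth.QCohMod.app_surjective_of_epi π V.2⟩
    obtain ⟨N, hN⟩ := (Groth.RefRank.StrictSheaf.killedByPowerNear_iff hI m).1 ((hG.2 V m).1 hm)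
    refine B.repr.injective (Finsupp.ext fun i => ?_)
    have h := congrArg (fun y => B.repr y i) hN
    simp only [map_smul, map_zero, Finsupp.smul_apply, Finsupp.zero_apply, smul_eq_mul] at h ⊢
    exact (pow_mem ht.mem_nonZeroDivisors N).1 _ h
  exact ⟨hiso, Groth.KTheory.LocFree.isFinLocFree_of_iso (asIso π) hP⟩

end Groth.Agent.S19350
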