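import Groth.Statements.S19351
import Groth.Agent.NagComp.DivisorBoundary
-- import your own Groth.Agent.* helpers here

set_option autoImplicit false
universe u
open RigCh

namespace Groth.Agent.S19351

open AlgebraicGeometry CategoryTheory in
/-- Let φ : X' → X be a morphism of separated schemes of finite type over a field k. Then there are open
immersions j : X → X̄ and j' : X' → X̄' over k into schemes proper over k, whose complements are
supports of effective Cartier divisors (ideal sheaves locally generated on an affine open by one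
nonzerodivisor), together with a proper k-morphism X̄' → X̄ restricting to φ. (Compactifications in
the source are taken with divisor boundary by a standing convention; the second assertion, about
extending a pseudo-divisor, is not included. The source assumes k of positive characteristic; this
plays no role here.) -/
theorem result (k : Type u) [Field k]
    {X X' : Scheme.{u}} (f : X ⟶ Spec (CommRingCat.of k)) [IsSeparated f] [QuasiCompact f] [LocallyOfFiniteType f]
    (f' : X' ⟶ Spec (CommRingCat.of k)) [IsSeparated f'] [QuasiCompact f'] [LocallyOfFiniteType f']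
    (φ : X' ⟶ X) (hφ : φ ≫ f = f') :
    ∃ (Xb Xb' : Scheme.{u}) (j : X ⟶ Xb) (j' : X' ⟶ Xb') (g : Xb ⟶ Spec (CommRingCat.of k))
      (g' : Xb' ⟶ Spec (CommRingCat.of k)) (ψ : Xb' ⟶ Xb) (E : Xb.IdealSheafData) (E' : Xb'.IdealSheafData),
      IsOpenImmersion j ∧ IsOpenImmersion j' ∧ IsProper g ∧ IsProper g' ∧ j ≫ g = f ∧ j' ≫ g' = f' ∧
      IsProper ψ ∧ ψ ≫ g = g' ∧ j' ≫ ψ = φ ≫ j ∧
      BlowUp.IsEffCartierIdeal E ∧ (E.support : Set Xb) = (Set.range j.base)ᶜ ∧
      BlowUp.IsEffCartierIdeal E' ∧ (E'.support : Set Xb') = (Set.range j'.base)ᶜ := by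
  haveI : CompactSpace X := QuasiCompact.compactSpace_of_compactSpace f
  haveI : CompactSpace X' := QuasiCompact.compactSpace_of_compactSpace f'
  obtain ⟨P₀, j₀, g₀, hj₀, hg₀, hf⟩ := Groth.NagComp.hasCompactification f
  haveI : CompactSpace P₀ := QuasiCompact.compactSpace_of_compactSpace g₀
  haveI : QuasiSeparatedSpace P₀ := quasiSeparatedSpace_of_quasiSeparated g₀
  obtain ⟨Xb, b, j, E, hb, hj, hjb, hE, hEs⟩ := Groth.NagComp.exists_divisorBoundary j₀
  obtain ⟨P₁, j₁, g₁, ψ₁, hj₁, -, -, -, hg₁, hf', hψ, hjψ⟩ :=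
    Groth.NagComp.exists_compactification_over f' (b ≫ g₀) (φ ≫ j)
      (by rw [Category.assoc, reassoc_of% hjb, hf, hφ])
  haveI : CompactSpace P₁ := QuasiCompact.compactSpace_of_compactSpace g₁
  haveI : QuasiSeparatedSpace P₁ := quasiSeparatedSpace_of_quasiSeparated g₁
  obtain ⟨Xb', b', j', E', hb', hj', hjb', hE', hEs'⟩ := Groth.NagComp.exists_divisorBoundary j₁
  haveI : IsProper (ψ₁ ≫ b ≫ g₀) := hψ.symm ▸ hg₁
  haveI : IsProper ψ₁ := IsProper.of_comp ψ₁ (b ≫ g₀)
  exact ⟨Xb, Xb', j, j', b ≫ g₀, b' ≫ g₁, b' ≫ ψ₁, E, E', hj, hj', inferInstance, inferInstance,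
    by rw [reassoc_of% hjb, hf], by rw [reassoc_of% hjb', hf'], inferInstance,
    by rw [Category.assoc, hψ], by rw [reassoc_of% hjb', hjψ], hE, hEs, hE', hEs'⟩

end Groth.Agent.S19351
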