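import Groth.Statements.S19352
import Groth.Agent.Inter.SectionDivisor
import Groth.Agent.Chow.VeryAmplePn
import Groth.Agent.Ega2Proj.RelAmple

set_option autoImplicit false
universe u
open CategoryTheory CategoryTheory.Limits AlgebraicGeometry
open Surf

namespace Groth.Agent.S19352

/-- Let k be an algebraically closed field and X a nonsingular projective surface over k, namely an
integral scheme, smooth over k, of dimension two, given with a closed immersion ι into a projective
space P^n_k over k, and let H = ι^* O(1) be the invertible module of a hyperplane section. If L is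
an invertible O_X-module (the module of a divisor D) with dim_k H^0(X, L) > 1, then (L·H) > 0. Here
(A·B) denotes the intersection number of two invertible modules, the alternating sum χ(O_X) − χ(A) −
χ(B) + χ(A ⊗ B) of Euler characteristics (cohomology in degrees at most two); for two invertible
modules this agrees with the same sum formed from their inverses. -/
theorem result (k : Type u) [Field k] [IsAlgClosed k]
    (X : Scheme.{u}) [X.Over (Spec (CommRingCat.of k))] [AlgebraicGeometry.IsIntegral X]
    [Smooth (X ↘ Spec (CommRingCat.of k))] (hdim : topologicalKrullDim X = 2)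
    (n : ℕ) (ι : X ⟶ CohB1.ProjSpace n k) [IsClosedImmersion ι]
    (hι : ι ≫ CohB1.ProjSpace.toSpec n k = X ↘ Spec (CommRingCat.of k))
    (L : X.Modules) (hL : PicF.IsInvertible L)
    (hsec : 1 < Module.finrank k (Coh.HH X L 0)) :
    0 < FGA.intNum k X 2 ![L, (Scheme.Modules.pullback ι).obj (Twist.twistProjSpace n k 1)] (Coh.structureModule X) := by
  have : IsProper (X ↘ Spec (CommRingCat.of k)) := by
    rw [← hι]
    have : IsProper (CohB1.ProjSpace.toSpec n k) := inferInstance
    infer_instance
  have hN : IsNoetherian X := Inter.isNoetherian k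
  let H := (Scheme.Modules.pullback ι).obj (Twist.twistProjSpace n k 1)
  have hA : CohB1.IsAmple H :=
    Ega2Proj.isAmple_pullback ι ι.isClosedEmbedding.isInducing (Chow.isAmple_O1 n k)
  have hd2 : topologicalKrullDim X ≤ ((2 : ℕ) : WithBot ℕ∞) := hdim.le.trans (by rfl)
  rw [Inter.intNum_eq_pair k hd2]
  obtain ⟨A', hA'i, hAA'⟩ := PicAux.exists_isInverseOf hA.1
  have hA' : Inter.IsAmpleInv A' := ⟨H, hA, hAA'⟩
  have hne : Nontrivial (Coh.HH X L 0) := by
    by_contra hn
    rw [Inter.finrank_h0_eq_zero k hn] at hsec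
    omega
  obtain ⟨φ, hφ⟩ := (Inter.nontrivial_h0_iff k L).1 hne
  have hOi := EulerDeg.isInvertible_structureModule X
  have := EulerDeg.mono_of_ne_zero hOi hL hφ
  have hQ : Coh.IsCoh (cokernel φ) := QCohMod.isCoh_cokernel φ (Inter.isCoh_of_isInvertible hL)
  have hsX : topologicalKrullDim (Set.univ : Set X) = 2 := by
    rw [IsHomeomorph.topologicalKrullDim_eq _ (Homeomorph.Set.univ X).isHomeomorph, hdim]
  have hlt : topologicalKrullDim (CohB1.support (cokernel φ)) ≤ ((1 : ℕ) : WithBot ℕ∞) := by
    refine Inter.lt_natCast_succ_iff.1 (lt_of_lt_of_eq (LocCohTransform.topologicalKrullDim_lt_of_ssubset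
      (Set.subset_univ _) (fun h => ?_) (CohTwo.isClosed_support _ hQ) isClosed_univ
      (IrreducibleSpace.isIrreducible_univ X) ?_) ?_)
    · exact CohTwo.notMem_support_cokernel φ (genericPoint X)
        (EulerDeg.surjective_stalk_genericPoint hOi hL hφ) (h trivial)
    · rw [hsX]
      exact WithBot.coe_lt_coe.2 (ENat.natCast_lt_top 2)
    · rw [hsX]; rfl
  obtain ⟨x, hx⟩ : (CohB1.support (cokernel φ)).Nonempty := by
    by_contra hempty
    rw [Set.not_nonempty_iff_eq_empty] at hempty
    have : Epi φ := Abelian.epi_of_cokernel_π_eq_zero _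
      (((QCohMod.isZero_iff_support_eq_empty _).2 hempty).eq_of_tgt _ _)
    have : IsIso φ := isIso_of_mono_of_epi φ
    rw [← EulerDeg.finrank_congr (k := k) (asIso φ) 0] at hsec
    have := Inter.finrank_h0_structure_le k (X := X)
    omega
  obtain ⟨y, hy, hy1⟩ := Inter.exists_height_of_cokernel k hOi hL hφ hx
  have hdimQ : topologicalKrullDim (CohB1.support (cokernel φ)) = ((1 : ℕ) : WithBot ℕ∞) := by
    refine le_antisymm hlt ?_
    rw [Variety2.Dim.dim_closed (CohTwo.isClosed_support _ hQ)]
    refine le_trans ?_ (le_iSup₂ (f := fun z (_ : z ∈ CohB1.support (cokernel φ)) =>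
      ((Order.height z : ℕ∞) : WithBot ℕ∞)) y hy)
    rw [hdim] at hy1
    have h2 : ((2 : ℕ∞) : WithBot ℕ∞) ≤ ((Order.height y + 1 : ℕ∞) : WithBot ℕ∞) := hy1
    rw [WithBot.coe_le_coe] at h2
    exact WithBot.coe_le_coe.2 ((ENat.add_le_add_iff_right ENat.one_ne_top).1
      (show (1 : ℕ∞) + 1 ≤ Order.height y + 1 by rw [one_add_one_eq_two]; exact h2))
  have hpos := Inter.delta_pos k [A'] (by simpa using hA') _ hQ hdimQ
  have hadd := Inter.delta_add k (l := [A']) (by simpa using hA'.isInvertible)
    (CohTwo.cokerSeq_shortExact φ) QCohMod.isCoh_unit hQ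
  have e : Inter.pair k L A' = Inter.delta k [A'] (Coh.structureModule X) - Inter.delta k [A'] L := by
    rw [Inter.pair, Inter.delta_cons,
      Inter.delta_congr k _ (G := L) ⟨(Inter.tensor_comm _ _).some ≪≫ (Inter.tensor_one _).some⟩]
  rw [Inter.pair_comm, Inter.pair_inverse k hd2 hA.1 hAA' hL, Inter.pair_comm] at e
  change Inter.delta k [A'] L = Inter.delta k [A'] _ + Inter.delta k [A'] _ at hadd
  linarith

end Groth.Agent.S19352
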