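import Groth.Statements.S19355
import Groth.Agent.ZetaAn.ProdCurves

set_option autoImplicit false
set_option linter.style.haveILetI false
universe u
open CategoryTheory AlgebraicGeometry Limits
open Zeta

attribute [-instance] CategoryTheory.catToReflQuiver CategoryTheory.ReflQuiver.toQuiver

namespace Groth.Agent.S19355

/-- Let C₁ and C₂ be smooth proper integral curves over an algebraically closed field k and S = C₁ × C₂,
with the curves C₁ × pt and pt × C₂ realised as sections i₁ : C₁ → S and i₂ : C₂ → S through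
k-rational points, pinned by their composites with the two projections. For divisors D, D' on S,
given as invertible modules L, L' with inverses M, M', write d₁, d₂ for the degrees of L along i₁,
i₂ (and d₁', d₂' for L'), (D·D') for the intersection number of M, M' with O_S (alternating sum of
Euler characteristics, cohomology up to degree two) and def(D) = 2 d₁ d₂ − (D·D) for the equivalence
defect. Then ((D·D') − d₁ d₂' − d₂ d₁')² ≤ def(D)·def(D'), i.e. the absolute value of (D·D') − d₁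
d₂' − d₂ d₁' is at most the square root of def(D) def(D') (both defects being non-negative by the
Castelnuovo–Severi inequality). -/
theorem result (k : Type u) [Field k]
    [IsAlgClosed k] (C₁ C₂ : Scheme.{u}) [C₁.Over (Spec (CommRingCat.of k))]
    [C₂.Over (Spec (CommRingCat.of k))]
    (h₁ : Curve.IsSmoothProperCurve k C₁ (C₁ ↘ Spec (CommRingCat.of k)))
    (h₂ : Curve.IsSmoothProperCurve k C₂ (C₂ ↘ Spec (CommRingCat.of k)))
    (x : Spec (CommRingCat.of k) ⟶ C₁) (hx : x ≫ (C₁ ↘ Spec (CommRingCat.of k)) = 𝟙 _)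
    (y : Spec (CommRingCat.of k) ⟶ C₂) (hy : y ≫ (C₂ ↘ Spec (CommRingCat.of k)) = 𝟙 _)
    (i₁ : C₁ ⟶ pullback (C₁ ↘ Spec (CommRingCat.of k)) (C₂ ↘ Spec (CommRingCat.of k)))
    (hi₁ : i₁ ≫ pullback.fst _ _ = 𝟙 C₁ ∧ i₁ ≫ pullback.snd _ _ = (C₁ ↘ Spec (CommRingCat.of k)) ≫ y)
    (i₂ : C₂ ⟶ pullback (C₁ ↘ Spec (CommRingCat.of k)) (C₂ ↘ Spec (CommRingCat.of k)))
    (hi₂ : i₂ ≫ pullback.snd _ _ = 𝟙 C₂ ∧ i₂ ≫ pullback.fst _ _ = (C₂ ↘ Spec (CommRingCat.of k)) ≫ x)
    (L M L' M' : (pullback (C₁ ↘ Spec (CommRingCat.of k)) (C₂ ↘ Spec (CommRingCat.of k))).Modules)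
    (hL : PicF.IsInvertible L) (hM : Nonempty (CohB1.tensorMod L M ≅ Coh.structureModule _))
    (hL' : PicF.IsInvertible L') (hM' : Nonempty (CohB1.tensorMod L' M' ≅ Coh.structureModule _)) :
    letI : (pullback (C₁ ↘ Spec (CommRingCat.of k)) (C₂ ↘ Spec (CommRingCat.of k))).Over
        (Spec (CommRingCat.of k)) := ⟨pullback.fst _ _ ≫ (C₁ ↘ Spec (CommRingCat.of k))⟩
    (FGA.intNum k (pullback (C₁ ↘ Spec (CommRingCat.of k)) (C₂ ↘ Spec (CommRingCat.of k))) 2 ![M, M'] (Coh.structureModule _)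
        - Curv2.deg k C₁ ((Scheme.Modules.pullback i₁).obj L) 1
            * Curv2.deg k C₂ ((Scheme.Modules.pullback i₂).obj L') 1
        - Curv2.deg k C₂ ((Scheme.Modules.pullback i₂).obj L) 1
            * Curv2.deg k C₁ ((Scheme.Modules.pullback i₁).obj L') 1) ^ 2 ≤
      (2 * Curv2.deg k C₁ ((Scheme.Modules.pullback i₁).obj L) 1
            * Curv2.deg k C₂ ((Scheme.Modules.pullback i₂).obj L) 1
          - FGA.intNum k (pullback (C₁ ↘ Spec (CommRingCat.of k)) (C₂ ↘ Spec (CommRingCat.of k))) 2 ![M, M] (Coh.structureModule _))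
        * (2 * Curv2.deg k C₁ ((Scheme.Modules.pullback i₁).obj L') 1
            * Curv2.deg k C₂ ((Scheme.Modules.pullback i₂).obj L') 1
          - FGA.intNum k (pullback (C₁ ↘ Spec (CommRingCat.of k)) (C₂ ↘ Spec (CommRingCat.of k))) 2 ![M', M'] (Coh.structureModule _)) := by
  letI : (pullback (C₁ ↘ Spec (CommRingCat.of k)) (C₂ ↘ Spec (CommRingCat.of k))).Over
      (Spec (CommRingCat.of k)) := ⟨pullback.fst _ _ ≫ (C₁ ↘ Spec (CommRingCat.of k))⟩
  have h := Groth.ZetaAn.ProdCurves.severi_quadratic k C₁ C₂ h₁ h₂ x hx y hy i₁ hi₁ i₂ hi₂ L M L' M'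
    hL hM hL' hM'
  dsimp only at h
  generalize FGA.intNum k _ 2 ![M, M] _ = a, FGA.intNum k _ 2 ![M, M'] _ = b,
    FGA.intNum k _ 2 ![M', M'] _ = c, Curv2.deg k C₁ ((Scheme.Modules.pullback i₁).obj L) 1 = d₁,
    Curv2.deg k C₂ ((Scheme.Modules.pullback i₂).obj L) 1 = d₂,
    Curv2.deg k C₁ ((Scheme.Modules.pullback i₁).obj L') 1 = e₁,
    Curv2.deg k C₂ ((Scheme.Modules.pullback i₂).obj L') 1 = e₂ at h ⊢
  have hA := h 1 0
  have hC := h 0 1
  rcases lt_or_eq_of_le (show a - 2 * d₁ * d₂ ≤ 0 by linarith) with ha | ha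
  · have := h (b - d₁ * e₂ - d₂ * e₁) (-(a - 2 * d₁ * d₂))
    nlinarith
  · by_contra hlt
    rw [show 2 * d₁ * d₂ - a = 0 by linarith, zero_mul, not_le] at hlt
    have h1 := h ((b - d₁ * e₂ - d₂ * e₁) * (1 + |c - 2 * e₁ * e₂|)) 1
    nlinarith [abs_nonneg (c - 2 * e₁ * e₂), neg_abs_le (c - 2 * e₁ * e₂),
      mul_le_mul_of_nonneg_right (show 1 ≤ (b - d₁ * e₂ - d₂ * e₁) ^ 2 by omega)
        (add_nonneg zero_le_one (abs_nonneg (c - 2 * e₁ * e₂)))]

end Groth.Agent.S19355
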