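import Groth.Statements.S19356
import Groth.Agent.Abvar.PosInv

set_option autoImplicit false
universe u
open AbVar

namespace Groth.Agent.S19356

/-- Let R be a finite-dimensional ℚ-algebra with a ℚ-linear involution x ↦ x† (an anti-automorphism of
order two) and a ℚ-linear functional σ with σ(x x†) > 0 for every x ≠ 0; this is the positivity of
the involution, σ being the trace of R over ℚ in the case of the endomorphism algebra of an abelian
variety with a Rosati involution, and the trace on a cohomology group in the case of an algebra of
correspondences with the adjoint for a Weil form. Let α ∈ R with α α† = q for a rational number q.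
Then α† lies in the subalgebra ℚ[α], and for every ℚ-algebra homomorphism ρ : ℚ[α] → ℂ one has ρ(α†)
= the complex conjugate of ρ(α) and |ρ(α)|² = q. (The published statement is for the endomorphism
algebra of an abelian variety with a Rosati involution, with σ its trace over ℚ and q an integer;
the form given here, for an arbitrary ℚ-linear functional σ positive on every x x† with x ≠ 0 and
rational q, is what its proof establishes.) -/
theorem result (R : Type u) [Ring R] [Algebra ℚ R]
    [Module.Finite ℚ R] [StarRing R] [StarModule ℚ R]
    (σ : R →ₗ[ℚ] ℚ) (hpos : ∀ x : R, x ≠ 0 → 0 < σ (x * star x))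
    (α : R) (q : ℚ) (hα : α * star α = algebraMap ℚ R q) :
    ∃ hmem : star α ∈ Algebra.adjoin ℚ ({α} : Set R),
      ∀ ρ : Algebra.adjoin ℚ ({α} : Set R) →ₐ[ℚ] ℂ,
        ρ ⟨star α, hmem⟩ = starRingEnd ℂ (ρ ⟨α, Algebra.self_mem_adjoin_singleton ℚ α⟩) ∧
          ‖ρ ⟨α, Algebra.self_mem_adjoin_singleton ℚ α⟩‖ ^ 2 = (q : ℝ) := by
  exact Groth.Abvar.PosInv.star_eq_conj σ hpos α q hα

end Groth.Agent.S19356
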