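import Groth.Statements.S19358
import Groth.Agent.Misc15.Fan.Pull

set_option autoImplicit false
universe u
open CategoryTheory Opposite Instab
open Instab Instab.Fan

namespace Groth.Agent.S19358

/-- Let f : F ⟶ G be a map of formal fans. If f is injective on n-cones for every n, then the induced
continuous map of projective realizations P F → P G is injective; if f is surjective on n-cones for
every n, then P F → P G is surjective. -/
theorem result {F G : Fan.{u}} (f : F ⟶ G) :
    ((∀ n : ICone, Function.Injective (f.app (op n))) → Function.Injective (Fan.P.map f)) ∧
    ((∀ n : ICone, Function.Surjective (f.app (op n))) → Function.Surjective (Fan.P.map f)) := by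
  exact ⟨Groth.Misc15.Fan.p_map_injective f, Groth.Misc15.Fan.p_map_surjective f⟩

end Groth.Agent.S19358
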