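import Groth.Statements.S19362
import Groth.Agent.Misc15.Fan.Pull

set_option autoImplicit false
universe u
open CategoryTheory Opposite Instab
open Instab Instab.Fan

namespace Groth.Agent.S19362

/-- Let f : F ⟶ G be a map of formal fans. (1) The image of the induced map P F → P G is the image of
the projective realization of the image sub-fan of f. (2) For a map g : G' ⟶ G, the image of the
projective realization of the base change F ×_G G' ⟶ G' is the preimage, under P G' → P G, of the
image of P F → P G. -/
theorem result {F G G' : Fan.{u}} (f : F ⟶ G) (g : G' ⟶ G) :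
    Set.range (Fan.P.map f) = Set.range (Fan.P.map (Subfunctor.range f).ι) ∧
    Set.range (Fan.P.map (Limits.pullback.snd f g)) = Fan.P.map g ⁻¹' Set.range (Fan.P.map f) := by
  refine ⟨?_, Set.Subset.antisymm ?_ ?_⟩
  · conv_lhs => rw [← Subfunctor.toRange_ι f]
    rw [show Fan.P.map (Subfunctor.toRange f ≫ (Subfunctor.range f).ι) =
        Fan.P.map (Subfunctor.range f).ι ∘ Fan.P.map (Subfunctor.toRange f) from
          funext fun z => Groth.Misc15.Fan.map_comp_apply _ _ z]
    rw [Function.Surjective.range_comp]
    refine Groth.Misc15.Fan.p_map_surjective _ fun n => ?_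
    rintro ⟨_, a, rfl⟩
    exact ⟨a, rfl⟩
  · rintro _ ⟨y, rfl⟩
    refine ⟨Fan.P.map (Limits.pullback.fst f g) y, ?_⟩
    rw [← Groth.Misc15.Fan.map_comp_apply, ← Groth.Misc15.Fan.map_comp_apply, Limits.pullback.condition]
  · rintro x' ⟨x, hx⟩
    obtain ⟨y, -, hy⟩ := Groth.Misc15.Fan.pullback_lift f g x x' hx
    exact ⟨y, hy⟩

end Groth.Agent.S19362
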