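import Groth.Statements.S19363
import Groth.Agent.Misc15.Fan.Topo

set_option autoImplicit false
universe u
open CategoryTheory Opposite Instab
open Instab Instab.Fan

namespace Groth.Agent.S19363

/-- Let ψ : F ⟶ G be a bounded map of formal fans. Then the induced map P F → P G is a closed map whose
fibres are finite, and its image meets each rational simplex of P G in a finite union of closed
rational sub-simplices: for every n-cone ξ of G there are finitely many cone morphisms φ into [n]
such that a nonzero nonnegative vector v of ℝ^n gives a point of the image exactly when v is a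
positive multiple of φ y for one of these φ and some nonzero nonnegative y. -/
theorem result {F G : Fan.{u}} (ψ : F ⟶ G)
    (hψ : Fan.IsBoundedMap ψ) :
    IsClosedMap (Fan.P.map ψ) ∧ (∀ y : Fan.P G, (Fan.P.map ψ ⁻¹' {y}).Finite) ∧
    ∀ (n : ICone) (ξ : G.obj (op n)), ∃ s : Finset (Σ k : ICone, k ⟶ n),
      {v : Fan.Orth n | Fan.P.mk ξ v ∈ Set.range (Fan.P.map ψ)} =
        ⋃ e ∈ s, {v : Fan.Orth n | ∃ (y : Fan.Orth e.1) (c : ℝ), 0 < c ∧ v.1 = c • e.2.realMap y.1} := by
  classical
  refine ⟨Groth.Misc15.Fan.isClosedMap_map hψ, Groth.Misc15.Fan.finite_fiber hψ, fun n ξ => ?_⟩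
  obtain ⟨s, hs₁, hs₂⟩ := Groth.Misc15.Fan.bounded_cover hψ ξ
  refine ⟨s.image fun e => ⟨e.1, e.2.2⟩, ?_⟩
  have h := Groth.Misc15.Fan.preimage_image_eq hs₁ hs₂ Set.univ
  rw [Set.image_univ] at h
  refine h.trans ?_
  ext v
  simp only [Set.mem_iUnion, Finset.mem_image]
  constructor
  · rintro ⟨e, he, y, -, c, hc, hv⟩
    exact ⟨⟨e.1, e.2.2⟩, ⟨e, he, rfl⟩, y, c, hc, hv⟩
  · rintro ⟨_, ⟨e, he, rfl⟩, y, c, hc, hv⟩
    exact ⟨e, he, y, Set.mem_univ _, c, hc, hv⟩

end Groth.Agent.S19363
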