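import Groth.Statements.S19366
import Groth.Agent.Misc15.Fan.Topo

set_option autoImplicit false
universe u
open CategoryTheory Opposite Instab
open Instab Instab.Fan

namespace Groth.Agent.S19366

/-- Let F be a quasi-separated formal fan (the fibre product of any two cones over F is a fan covered by
finitely many rational simplices). Then (1) each rational simplex is a closed map into P F: for
every n-cone ξ and every closed set S of nonzero nonnegative vectors of ℝ^n that is closed under
positive rescaling, the image of S in P F is closed; and (2) the topology of P F is compactly
generated by the images of the rational simplices: a subset is closed exactly when it meets the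
image of each rational simplex in a closed set. (The published proposition also asserts that P F is
a Hausdorff space; that fails for suitable quasi-separated fans with uncountably many cones, the
colimit topology on a product of realizations being finer than the product topology, and it is not
stated here.) -/
theorem result (F : Fan.{u}) (hF : F.IsQuasiSeparated) :
    (∀ (n : ICone) (ξ : F.obj (op n)) (S : Set (Fan.Orth n)), IsClosed S →
      (∀ v w : Fan.Orth n, v ∈ S → ∀ c : ℝ, 0 < c → w.1 = c • v.1 → w ∈ S) →
        IsClosed (Fan.P.mk ξ '' S)) ∧
    ∀ S : Set (Fan.P F), IsClosed S ↔ ∀ (n : ICone) (ξ : F.obj (op n)), IsClosed (S ∩ Fan.P.cell ξ) := by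
  exact ⟨fun n ξ S hS hinv => Groth.Misc15.Fan.isClosed_cone_image hF ξ hS hinv,
    fun S => Groth.Misc15.Fan.isClosed_iff_cell hF⟩

end Groth.Agent.S19366
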