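import Groth.Statements.S19367
import Groth.Agent.Misc15.Fan.Topo

set_option autoImplicit false
universe u
open CategoryTheory Opposite Instab
open Instab Instab.Fan

namespace Groth.Agent.S19367

open Groth.Misc15.Fan Filter in
/-- the agreement locus of two cones is closed -/
lemma isClosed_agree {F : Fan.{u}} (hF : F.IsQuasiSeparated) {k : ICone} (b b' : F.obj (op k)) :
    IsClosed {y : Fan.Orth k | Fan.P.mk b y = Fan.P.mk b' y} := by
  obtain ⟨s, hs₁, hs₂⟩ := bounded_cover (isBoundedMap_coneMap hF b) b'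
  let D : ∀ e : (Σ m : ICone, (yo.{u} k).obj (op m) × (m ⟶ k)), Set (Fan.Orth e.1) := fun e =>
    {y | (∑ j, e.2.2.realMap y.1 j) • e.2.1.down.realMap y.1 =
      (∑ j, e.2.1.down.realMap y.1 j) • e.2.2.realMap y.1}
  have hD : ∀ e, IsClosed (D e) := fun e => by
    have h1 : Continuous fun y : Fan.Orth e.1 => e.2.1.down.realMap y.1 :=
      (continuous_realMap _).comp (continuous_val _)
    have h2 : Continuous fun y : Fan.Orth e.1 => e.2.2.realMap y.1 :=
      (continuous_realMap _).comp (continuous_val _)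
    exact isClosed_eq ((continuous_finsetSum _ fun j _ => (continuous_apply j).comp h2).smul h1)
      ((continuous_finsetSum _ fun j _ => (continuous_apply j).comp h1).smul h2)
  have hDi : ∀ e, Invariant (D e) := fun e v w hv c hc h => by
    simp only [D, Set.mem_ofPred_eq, h, realMap_smul, Pi.smul_apply, smul_eq_mul, ← Finset.mul_sum] at hv ⊢
    rw [smul_smul, smul_smul, show c * (∑ j, e.2.2.realMap v.1 j) * c = (c * c) * ∑ j, e.2.2.realMap v.1 j by ring,
      show c * (∑ j, e.2.1.down.realMap v.1 j) * c = (c * c) * ∑ j, e.2.1.down.realMap v.1 j by ring,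
      ← smul_smul (c * c), ← smul_smul (c * c), hv]
  suffices hh : {y : Fan.Orth k | Fan.P.mk b y = Fan.P.mk b' y} = ⋃ e ∈ (s : Set _), imageCone e.2.2 (D e) by
    rw [hh]
    exact s.finite_toSet.isClosed_biUnion fun e _ => isClosed_imageCone _ (hD e) (hDi e)
  ext y
  simp only [Set.mem_ofPred_eq, Set.mem_iUnion, Finset.mem_coe]
  constructor
  · intro h
    obtain ⟨e, he, y0, c, hc, h1, h2⟩ := hs₂ (Fan.P.mk (up (𝟙 k)) y) y (by rw [coneMap_mk_id, h])
    obtain ⟨c', hc', h3⟩ := (mk_up_eq e.2.1.down y0 y).mp h1.symm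
    refine ⟨e, he, y0, ?_, c, hc, h2⟩
    have h4 : e.2.1.down.realMap y0.1 = (c'⁻¹ * c) • e.2.2.realMap y0.1 := by
      rw [← smul_smul, ← h2, h3, smul_smul, inv_mul_cancel₀ hc'.ne', one_smul]
    simp only [D, Set.mem_ofPred_eq, h4, Pi.smul_apply, smul_eq_mul, ← Finset.mul_sum, smul_smul]
    rw [mul_comm]
  · rintro ⟨e, he, y0, hy0, c, hc, h2⟩
    have he1 : F.map e.2.1.down.op b = F.map e.2.2.op b' := hs₁ e he
    have hA : 0 < ∑ j, e.2.1.down.realMap y0.1 j := sum_pos' (push e.2.1.down y0)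
    have hB : 0 < ∑ j, e.2.2.realMap y0.1 j := sum_pos' (push e.2.2 y0)
    have h3 : y.1 = (c * ((∑ j, e.2.2.realMap y0.1 j) / ∑ j, e.2.1.down.realMap y0.1 j)) • e.2.1.down.realMap y0.1 := by
      rw [← smul_smul, div_eq_inv_mul, ← smul_smul, (hy0 : _ = _), smul_smul _⁻¹, inv_mul_cancel₀ hA.ne', one_smul, h2]
    rw [← mk_glue _ b y0 y _ (mul_pos hc (div_pos hB hA)) h3, he1]
    exact mk_glue _ b' y0 y c hc h2


/-- Let ψ : F ⟶ G be a map of formal fans with F quasi-separated. Then injectivity of the induced map P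
F → P G is equivalent to its injectivity on the rational points of P F. -/
theorem result {F G : Fan.{u}} (ψ : F ⟶ G)
    (hF : F.IsQuasiSeparated) :
    Function.Injective (Fan.P.map ψ) ↔
      ∀ x y : Fan.P F, x.IsRational → y.IsRational → Fan.P.map ψ x = Fan.P.map ψ y → x = y := by
  open Groth.Misc15.Fan in
  refine ⟨fun h x y _ _ e => h e, fun h x x' hxx => ?_⟩
  obtain ⟨n, σ, v, rfl⟩ := Groth.Misc15.Fan.P.exists_rep x
  obtain ⟨n', σ', v', rfl⟩ := Groth.Misc15.Fan.P.exists_rep x'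
  obtain ⟨k, φ₁, φ₂, y, c₁, c₂, he, hc₁, hc₂, e₁, e₂⟩ := Groth.Misc15.Fan.exists_common hxx
  rw [← Groth.Misc15.Fan.mk_glue φ₁ σ y v c₁ hc₁ e₁, ← Groth.Misc15.Fan.mk_glue φ₂ σ' y v' c₂ hc₂ e₂]
  refine Groth.Misc15.Fan.invariant_dense (isClosed_agree hF _ _) ?_ ?_ y
  · intro a b ha c hc e
    show Fan.P.mk _ b = Fan.P.mk _ b
    rw [Groth.Misc15.Fan.mk_scale _ hc e, Groth.Misc15.Fan.mk_scale _ hc e]
    exact ha
  · intro w hw hw0
    refine h _ _ (Groth.Misc15.Fan.isRational_intPt _ w hw hw0) (Groth.Misc15.Fan.isRational_intPt _ w hw hw0) ?_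
    rw [Groth.Misc15.Fan.map_mk, Groth.Misc15.Fan.map_mk, Groth.Misc15.Fan.app_map, Groth.Misc15.Fan.app_map, he]

end Groth.Agent.S19367
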