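import Groth.Statements.S19368
import Groth.Agent.Misc15.Fan.Pull

set_option autoImplicit false
universe u
open CategoryTheory Opposite Instab
open Instab Instab.Fan

namespace Groth.Agent.S19368

/-- Let F be a formal fan; a subset of P F is realizable when it is the image of the projective
realization of some sub-fan of F. The intersection of two realizable subsets is realizable, and the
union of an arbitrary family of realizable subsets is realizable. -/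
theorem result (F : Fan.{u}) :
    (∀ U V : Set (Fan.P F), Fan.IsRealizable U → Fan.IsRealizable V → Fan.IsRealizable (U ∩ V)) ∧
    ∀ (ι : Type u) (U : ι → Set (Fan.P F)), (∀ i, Fan.IsRealizable (U i)) →
      Fan.IsRealizable (Set.iUnion U) := by
  have key : ∀ (S : Subfunctor F) (z : Fan.P F), z ∈ Set.range (Fan.P.map S.ι) ↔
      ∃ (n : ICone) (σ : F.obj (op n)) (v : Fan.Orth n), σ ∈ S.obj (op n) ∧ z = Fan.P.mk σ v := by
    intro S z
    constructor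
    · rintro ⟨w, rfl⟩
      obtain ⟨n, σ, v, rfl⟩ := Groth.Misc15.Fan.P.exists_rep w
      exact ⟨n, σ.1, v, σ.2, rfl⟩
    · rintro ⟨n, σ, v, hσ, rfl⟩
      exact ⟨Fan.P.mk (F := S.toFunctor) ⟨σ, hσ⟩ v, rfl⟩
  constructor
  · rintro U V ⟨S, rfl⟩ ⟨T, rfl⟩
    refine ⟨S ⊓ T, Set.ext fun z => ?_⟩
    rw [Set.mem_inter_iff, key, key, key]
    constructor
    · rintro ⟨⟨n, σ, v, hσ, rfl⟩, ⟨n', σ', v', hσ', h⟩⟩
      obtain ⟨k, φ₁, φ₂, y, c₁, c₂, he, hc₁, hc₂, e₁, e₂⟩ := Groth.Misc15.Fan.exists_common h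
      exact ⟨k, F.map φ₁.op σ, y, ⟨S.map φ₁.op hσ, he ▸ T.map φ₂.op hσ'⟩,
        (Groth.Misc15.Fan.mk_glue _ _ _ _ c₁ hc₁ e₁).symm⟩
    · rintro ⟨n, σ, v, ⟨h₁, h₂⟩, rfl⟩
      exact ⟨⟨n, σ, v, h₁, rfl⟩, ⟨n, σ, v, h₂, rfl⟩⟩
  · intro ι U hU
    choose S hS using hU
    refine ⟨⨆ i, S i, Set.ext fun z => ?_⟩
    simp only [hS, Set.mem_iUnion, key, Subfunctor.iSup_obj]
    exact ⟨fun ⟨i, n, σ, v, h, e⟩ => ⟨n, σ, v, ⟨i, h⟩, e⟩, fun ⟨n, σ, v, ⟨i, h⟩, e⟩ => ⟨i, n, σ, v, h, e⟩⟩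

end Groth.Agent.S19368
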