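import Groth.Statements.S19369
import Groth.Agent.Misc15.Fan.Topo

set_option autoImplicit false
universe u
open CategoryTheory Opposite Instab
open Instab Instab.Fan

namespace Groth.Agent.S19369

/-- Let F be a quasi-separated formal fan and let (x i) be a sequence in P F converging to a point x.
Then there are an n-cone σ of F and a subsequence of (x i) whose terms lift to nonzero nonnegative
vectors of ℝ^n, mapping to them under the rational simplex of σ, such that the lifts converge to a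
vector that lifts x. -/
theorem result (F : Fan.{u}) (hF : F.IsQuasiSeparated)
    (x : ℕ → Fan.P F) (x₀ : Fan.P F) (hx : Filter.Tendsto x Filter.atTop (nhds x₀)) :
    ∃ (n : ICone) (σ : F.obj (op n)) (r : ℕ → ℕ) (v : ℕ → Fan.Orth n) (v₀ : Fan.Orth n),
      StrictMono r ∧ (∀ j, Fan.P.mk σ (v j) = x (r j)) ∧ Fan.P.mk σ v₀ = x₀ ∧
        Filter.Tendsto v Filter.atTop (nhds v₀) := by
  classical
  open Groth.Misc15.Fan Filter in
  have := t1Space hF
  have hcell : ∃ (n : ICone) (σ : F.obj (op n)), ∃ᶠ i in Filter.atTop, x i ∈ Fan.P.cell σ := by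
    by_contra hno
    simp only [not_exists, Filter.not_frequently] at hno
    obtain ⟨n₀, ξ₀, w₀, hw₀⟩ := P.exists_rep x₀
    obtain ⟨N, hN⟩ := Filter.eventually_atTop.mp (hno n₀ ξ₀)
    have hT : IsClosed (x '' Set.Ici N) := by
      refine (isClosed_iff_cell hF).mpr fun m τ => Set.Finite.isClosed ?_
      obtain ⟨M, hM⟩ := Filter.eventually_atTop.mp (hno m τ)
      refine ((Set.finite_Iio M).image x).subset ?_
      rintro _ ⟨⟨i, -, rfl⟩, hi⟩
      exact ⟨i, lt_of_not_ge fun hle => hM i hle hi, rfl⟩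
    obtain ⟨i, hi, hix⟩ := hT.mem_of_tendsto hx (Filter.eventually_atTop.mpr ⟨N, fun i hi => ⟨i, hi, rfl⟩⟩)
    exact hN i hi ⟨w₀, by rw [hix, hw₀]⟩
  obtain ⟨n, σ, hfr⟩ := hcell
  obtain ⟨r₀, hr₀, hr₀x⟩ := Filter.extraction_of_frequently_atTop hfr
  choose v hv using hr₀x
  obtain ⟨p, hp, r₁, hr₁, hlim⟩ := (isCompact_sum_one n).tendsto_subseq (x := fun j => nrm (v j)) (fun j => sum_nrm (v j))
  refine ⟨n, σ, r₀ ∘ r₁, fun j => nrm (v (r₁ j)), p, hr₀.comp hr₁,
    fun j => by rw [mk_nrm, hv]; rfl, ?_, hlim⟩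
  by_contra hne
  have hy : Filter.Tendsto (fun j => x (r₀ (r₁ j))) Filter.atTop (nhds x₀) :=
    hx.comp (hr₀.comp hr₁).tendsto_atTop
  have hfr' : ∃ᶠ j in Filter.atTop, x (r₀ (r₁ j)) = x₀ := by
    refine Filter.frequently_atTop.mpr fun J => ?_
    let u : ℕ → Fan.Orth n := fun t => nrm (v (r₁ (t + J)))
    have hK : IsCompact (insert p (Set.range u)) :=
      Filter.Tendsto.isCompact_insert_range (hlim.comp (Filter.tendsto_add_atTop_nat J))
    have hS := isClosed_cone_image hF σ (S := nrm ⁻¹' insert p (Set.range u))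
      (hK.isClosed.preimage continuous_nrm)
      (fun a b ha c hc e => show nrm b ∈ insert p (Set.range u) by rw [nrm_eq_of_smul hc e]; exact ha)
    obtain ⟨w, hw, hwx⟩ := hS.mem_of_tendsto hy (Filter.eventually_atTop.mpr ⟨J, fun j hj =>
      ⟨nrm (v (r₁ j)), Set.mem_insert_of_mem _ ⟨j - J, by
        show nrm (v (r₁ (j - J + J))) = _
        rw [Nat.sub_add_cancel hj, nrm_of_sum_eq_one (sum_nrm _)]⟩,
       by rw [mk_nrm, hv]⟩⟩)
    rcases hw with hw | ⟨t, ht⟩
    · exact absurd (by rw [← hwx, ← mk_nrm σ w, hw]) hne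
    · refine ⟨t + J, by omega, ?_⟩
      rw [← hwx, ← mk_nrm σ w, ← ht, mk_nrm, hv]
  refine hne (show p ∈ Fan.P.mk σ ⁻¹' {x₀} from ?_)
  exact (isClosed_singleton.preimage (continuous_mk σ)).mem_of_frequently_of_tendsto
    (hfr'.mono fun j hj => show Fan.P.mk σ (nrm (v (r₁ j))) = x₀ by rw [mk_nrm, hv, hj]) hlim

end Groth.Agent.S19369
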