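import Groth.Statements.S19373
import Groth.Agent.Misc15.Fan.Pull

set_option autoImplicit false
universe u
open CategoryTheory Opposite Instab
open Instab Instab.Fan

namespace Groth.Agent.S19373

/-- Let G be a quasi-separated formal fan, ξ an n-cone and ξ' an n'-cone of G. The pairs of points of
the rational simplices of ξ and ξ' with the same image in P G form a finite union of diagonally
embedded common rational sub-simplices: there is a finite set of pairs of cone morphisms φ : [k] ⟶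
[n], φ' : [k] ⟶ [n'] with G(φ) ξ = G(φ') ξ' such that nonzero nonnegative vectors v of ℝ^n and w of
ℝ^n' give the same point of P G if and only if, for one of these pairs and some nonzero nonnegative
y in ℝ^k, v is a positive multiple of φ y and w is a positive multiple of φ' y. (The assertion that
the image of finitely many rational simplices carries the quotient topology is not stated.) -/
theorem result (G : Fan.{u}) (hG : G.IsQuasiSeparated)
    {n n' : ICone} (ξ : G.obj (op n)) (ξ' : G.obj (op n')) :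
    ∃ s : Finset (Σ k : ICone, (k ⟶ n) × (k ⟶ n')),
      (∀ e ∈ s, G.map e.2.1.op ξ = G.map e.2.2.op ξ') ∧
      ∀ (v : Fan.Orth n) (w : Fan.Orth n'), Fan.P.mk ξ v = Fan.P.mk ξ' w ↔
        ∃ e ∈ s, ∃ (y : Fan.Orth e.1) (c c' : ℝ), 0 < c ∧ 0 < c' ∧
          v.1 = c • e.2.1.realMap y.1 ∧ w.1 = c' • e.2.2.realMap y.1 := by
  classical
  obtain ⟨s, hs⟩ := hG n n' ξ ξ'
  let g : (Σ k : ICone, (Limits.pullback (coneMap ξ) (coneMap ξ')).obj (op k)) →
      Σ k : ICone, (k ⟶ n) × (k ⟶ n') := fun e =>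
    ⟨e.1, ((Limits.pullback.fst (coneMap ξ) (coneMap ξ')).app (op e.1) e.2).down,
      ((Limits.pullback.snd (coneMap ξ) (coneMap ξ')).app (op e.1) e.2).down⟩
  refine ⟨s.image g, ?_, fun v w => ⟨fun h => ?_, ?_⟩⟩
  · intro e he
    obtain ⟨e', -, rfl⟩ := Finset.mem_image.1 he
    exact Groth.Misc15.Fan.pullback_cond (coneMap ξ) (coneMap ξ') e'.2
  · obtain ⟨k, φ₁, φ₂, y, c₁, c₂, he, hc₁, hc₂, e₁, e₂⟩ := Groth.Misc15.Fan.exists_common h
    obtain ⟨t, ht₁, ht₂⟩ := Groth.Misc15.Fan.pullback_exists (coneMap ξ) (coneMap ξ') (n := k)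
      (ULift.up φ₁) (ULift.up φ₂) he
    obtain ⟨e, hmem, z, hz⟩ := hs (P.mk t y)
    refine ⟨g e, Finset.mem_image_of_mem g hmem, z, ?_⟩
    obtain ⟨m, χ, χ', u, a, b, hχ, ha, hb, ez, ey⟩ := Groth.Misc15.Fan.exists_common hz
    have key : ∀ (N : ICone) (f : Limits.pullback (coneMap ξ) (coneMap ξ') ⟶ uliftYoneda.{u}.obj N)
        (φ : k ⟶ N), f.app (op k) t = ULift.up φ →
        φ.realMap y.1 = (b / a) • ((f.app (op e.1) e.2).down).realMap z.1 := by
      intro N f φ hφ
      have := congrArg (f.app (op m)) hχ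
      rw [Groth.Misc15.Fan.app_map, Groth.Misc15.Fan.app_map, hφ] at this
      have h' : χ ≫ (f.app (op e.1) e.2).down = χ' ≫ φ := congrArg ULift.down this
      rw [ey, ez, Groth.Misc15.Fan.realMap_smul, Groth.Misc15.Fan.realMap_smul,
        ← Groth.Misc15.Fan.realMap_comp, ← Groth.Misc15.Fan.realMap_comp, h', smul_smul,
        div_mul_cancel₀ _ ha.ne']
    refine ⟨c₁ * (b / a), c₂ * (b / a), mul_pos hc₁ (div_pos hb ha), mul_pos hc₂ (div_pos hb ha), ?_, ?_⟩
    · rw [e₁, key n _ φ₁ ht₁, smul_smul]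
    · rw [e₂, key n' _ φ₂ ht₂, smul_smul]
  · rintro ⟨e, he, y, c, c', hc, hc', e₁, e₂⟩
    obtain ⟨e', -, rfl⟩ := Finset.mem_image.1 he
    have hcond := Groth.Misc15.Fan.pullback_cond (coneMap ξ) (coneMap ξ') e'.2
    rw [← Groth.Misc15.Fan.mk_glue (g e').2.1 ξ y v c hc e₁, ← Groth.Misc15.Fan.mk_glue (g e').2.2 ξ' y w c' hc' e₂]
    exact congrArg (fun σ => P.mk σ y) hcond

end Groth.Agent.S19373
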