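import Groth.Statements.S19374
import Mathlib

set_option autoImplicit false
universe u
open CategoryTheory Opposite Instab
open Instab Instab.Fan

namespace Groth.Agent.S19374

/-- Let F be a formal fan and U ⊆ P F. Then U is locally convex in the simplex-wise sense — for every
rational simplex, a ray lying strictly between two rays that map into U also maps into U — if and
only if, for every n-cone ξ of F, the set of nonzero nonnegative vectors v of ℝ^n whose point of the
rational simplex of ξ lies in U is a convex subset of ℝ^n (convexity of the preimage of U in each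
punctured cone of the affine realization). -/
theorem result (F : Fan.{u}) (U : Set (Fan.P F)) :
    Fan.IsLocallyConvex U ↔
      ∀ (n : ICone) (ξ : F.obj (op n)),
        Convex ℝ {v : Fin n.dim → ℝ | ∃ h : (∀ i, 0 ≤ v i) ∧ v ≠ 0, Fan.P.mk ξ (⟨v, h⟩ : Fan.Orth n) ∈ U} := by
  have hscale : ∀ (n : ICone) (ξ : F.obj (op n)) (v w : Fan.Orth n) (c : ℝ), 0 < c → w.1 = c • v.1 →
      Fan.P.mk ξ v = Fan.P.mk ξ w := by
    intro n ξ v w c hc h
    have e : w.1 = c • (𝟙 n : n ⟶ n).realMap v.1 := by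
      rw [h]
      funext j
      simp only [Pi.smul_apply, ICone.Hom.realMap]
      congr 1
      show v.1 j = ∑ i, (((LinearMap.id : (Fin n.dim → ℤ) →ₗ[ℤ] _) (Pi.single i 1)) j : ℝ) * v.1 i
      simp [Pi.single_apply]
    have := Quot.sound (Fan.Rel.glue (F := F) (𝟙 n) ξ v w c hc e)
    rw [op_id, F.map_id] at this; exact this
  constructor
  · intro hU n ξ x hx y hy a b ha hb hab
    obtain ⟨hx', hxU⟩ := hx
    obtain ⟨hy', hyU⟩ := hy
    rcases ha.eq_or_lt with rfl | ha'
    · rw [zero_add] at hab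
      subst hab
      simpa using (⟨hy', hyU⟩ : ∃ h, Fan.P.mk ξ (⟨y, h⟩ : Fan.Orth n) ∈ U)
    rcases hb.eq_or_lt with rfl | hb'
    · rw [add_zero] at hab
      subst hab
      simpa using (⟨hx', hxU⟩ : ∃ h, Fan.P.mk ξ (⟨x, h⟩ : Fan.Orth n) ∈ U)
    have hne : a • x + b • y ≠ 0 := by
      intro h
      refine hx'.2 (funext fun i => ?_)
      have hi := congrFun h i
      simp only [Pi.add_apply, Pi.smul_apply, Pi.zero_apply, smul_eq_mul] at hi
      have h0 := mul_nonneg ha'.le (hx'.1 i)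
      have h1 := mul_nonneg hb'.le (hy'.1 i)
      exact (mul_eq_zero.1 (le_antisymm (by linarith) h0)).resolve_left ha'.ne'
    exact ⟨⟨fun i => add_nonneg (mul_nonneg ha (hx'.1 i)) (mul_nonneg hb (hy'.1 i)), hne⟩,
      hU n ξ ⟨x, hx'⟩ ⟨_, _⟩ ⟨y, hy'⟩ hxU hyU ⟨a, b, ha', hb', rfl⟩⟩
  · intro hC n ξ v₀ v₁ v₂ h₀ h₂ ⟨a, b, ha, hb, e⟩
    have hab : 0 < a + b := add_pos ha hb
    have hm := hC n ξ (x := v₀.1) ⟨v₀.2, h₀⟩ (y := v₂.1) ⟨v₂.2, h₂⟩
      (a := a / (a + b)) (b := b / (a + b)) (by positivity) (by positivity) (by field_simp)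
    obtain ⟨h', hU⟩ := hm
    rw [← hscale n ξ ⟨_, h'⟩ v₁ (a + b) hab (by
      rw [e, smul_add, smul_smul, smul_smul, mul_div_cancel₀ _ hab.ne', mul_div_cancel₀ _ hab.ne'])]
    exact hU

end Groth.Agent.S19374
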