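import Groth.Statements.S19375
import Groth.Agent.Ega4Algebra2.OnePlus
-- import your own Groth.Agent.* helpers here

set_option autoImplicit false
universe u
open EGA4

namespace Groth.Agent.S19375

/-- Let A be a Noetherian ring, J a proper ideal of A, Â the J-adic completion of A and A_T the
localization of A at the multiplicative set T = 1 + J (the elements congruent to 1 modulo J). Assume
that the canonical map A → Â is a normal homomorphism (flat, with geometrically normal fibres), as
happens when A is excellent. Then Â is an integrally closed domain if and only if A_T is an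
integrally closed domain and the spectrum of A/J is connected. (The published statement asserts the
equivalence of the first two conditions alone; for A = ℤ and J = 6ℤ the localization A_T is an
integrally closed domain while Â ≅ ℤ_2 × ℤ_3 is not a domain, and the published proof tacitly uses
that Spec Â, whose connected components correspond to those of Spec(A/J), is connected. The case of
the henselization of the pair and of the weak completion is not stated here.) -/
theorem result
    (A : Type u) [CommRing A] [IsNoetherianRing A] (J : Ideal A) (hJ : J ≠ ⊤)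
    (hf : EGA4.IsNormalHom A (AdicCompletion J A))
    (T : Submonoid A) (hT : T = MonoidHom.mker (Ideal.Quotient.mk J)) :
    (IsDomain (AdicCompletion J A) ∧ IsIntegrallyClosed (AdicCompletion J A)) ↔
      ((IsDomain (Localization T) ∧ IsIntegrallyClosed (Localization T)) ∧
        ConnectedSpace (PrimeSpectrum (A ⧸ J))) := by
  let C := AdicCompletion J A
  haveI : IsNoetherianRing C := Groth.Calg1.isNoetherianRing_adicCompletion J (IsNoetherian.noetherian J)
  obtain ⟨hiff, alg, hff⟩ := Groth.Ega4b.onePlus_normal_iff A J hf T hT
  letI := alg
  haveI : Module.FaithfullyFlat (Localization T) C := hff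
  haveI : Nontrivial (A ⧸ J) := Ideal.Quotient.nontrivial_iff.2 hJ
  let π : C →+* A ⧸ J := (AdicCompletion.evalOneₐ J).toRingHom
  have hπ : Function.Surjective π := fun x => by
    obtain ⟨a, rfl⟩ := Ideal.Quotient.mk_surjective x
    exact ⟨algebraMap A C a, Groth.AdicLinTop.CompletionMap.evalOneₐ_algebraMap J a⟩
  haveI : Nontrivial C := π.domain_nontrivial
  haveI : IsAdicComplete (J.map (algebraMap A C)) C :=
    AdicCompletion.isAdicComplete_self _ (IsNoetherian.noetherian J)
  have hlift : ∀ e₀ : A ⧸ J, IsIdempotentElem e₀ → ∃ e : C, IsIdempotentElem e ∧ π e = e₀ := by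
    intro e₀ he₀
    obtain ⟨c, rfl⟩ := hπ e₀
    have hker : RingHom.ker π = J.map (algebraMap A C) :=
      AdicCompletion.ker_evalOneₐ_eq_map J (IsNoetherian.noetherian J)
    obtain ⟨e, he, hec⟩ := HenselianRing.is_henselian (I := J.map (algebraMap A C))
      (Polynomial.X ^ 2 - Polynomial.X : Polynomial C)
      ((Polynomial.monic_X_pow 2).sub_of_left (by
        rw [Polynomial.degree_X, Polynomial.degree_X_pow]; exact_mod_cast one_lt_two)) c
      (by
        rw [← hker, RingHom.mem_ker, Polynomial.eval_sub, Polynomial.eval_pow, Polynomial.eval_X, map_sub, map_pow,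
          sq, he₀.eq, sub_self])
      (by
        refine IsUnit.of_mul_eq_one (Ideal.Quotient.mk _ (2 * c - 1)) ?_
        rw [← map_mul, ← map_one (Ideal.Quotient.mk (J.map (algebraMap A C))), Ideal.Quotient.eq, ← hker,
          RingHom.mem_ker]
        simp only [Polynomial.derivative_sub, Polynomial.derivative_X_pow, Polynomial.derivative_X,
          Polynomial.eval_sub, Polynomial.eval_mul, Polynomial.eval_one, map_sub, map_mul, map_one,
          Polynomial.eval_pow, Polynomial.eval_X, map_pow, map_natCast, Polynomial.eval_natCast]
        norm_num [map_ofNat π]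
        linear_combination (4 : A ⧸ J) * he₀.eq)
    refine ⟨e, ?_, ?_⟩
    · have h1 : e ^ 2 - e = 0 := by simpa [Polynomial.IsRoot] using he
      rw [sub_eq_zero, sq] at h1
      exact h1
    · rw [← sub_eq_zero, ← map_sub, ← RingHom.mem_ker, hker]; exact hec
  constructor
  · rintro ⟨h1, h2⟩
    haveI := h1
    haveI := h2
    have hn : EGA4.IsNormalRing (Localization T) := hiff.2 (Groth.Ega4b.isNormalRing_of_isDomain C)
    refine ⟨?_, (Groth.Ega4b.connectedSpace_primeSpectrum_iff _).2 fun e₀ he₀ => ?_⟩
    · have hinj : Function.Injective (algebraMap (Localization T) C) := FaithfulSMul.algebraMap_injective _ _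
      haveI : IsDomain (Localization T) := hinj.isDomain _
      exact ⟨inferInstance, IsIntegrallyClosed.of_localization_maximal fun Q _ _ => (hn Q).2⟩
    · obtain ⟨e, he, rfl⟩ := hlift e₀ he₀
      rcases IsIdempotentElem.iff_eq_zero_or_one.1 he with rfl | rfl
      · exact Or.inl (map_zero π)
      · exact Or.inr (map_one π)
  · rintro ⟨⟨h1, h2⟩, hc⟩
    haveI := h1
    haveI := h2
    refine Groth.Ega4b.isDomain_of_isNormalRing_of_connected C
      (hiff.1 (Groth.Ega4b.isNormalRing_of_isDomain (Localization T))) ?_
    refine (Groth.Ega4b.connectedSpace_primeSpectrum_iff _).2 fun e he => ?_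
    have hunit : ∀ x : C, IsUnit (π x) → IsUnit x := fun x hx =>
      (Groth.AdicLinTop.CompletionMap.isUnit_iff J x).2 hx
    rcases (Groth.Ega4b.connectedSpace_primeSpectrum_iff _).1 hc (π e) (he.map π) with h0 | h0
    · left
      have h3 := hunit (1 - e) (by rw [map_sub, map_one, h0, sub_zero]; exact isUnit_one)
      exact h3.mul_right_eq_zero.1 he.one_sub_mul_self
    · right
      have h3 := hunit e (by rw [h0]; exact isUnit_one)
      exact (IsIdempotentElem.iff_eq_one_of_isUnit h3).1 he

end Groth.Agent.S19375
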