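import Groth.Statements.S19376
import Groth.Agent.S0544

set_option autoImplicit false
universe u
open EGA4

namespace Groth.Agent.S19376

variable {V A C : Type u} [CommRing V] [CommRing A] [Algebra V A] [CommRing C] [Algebra V C]
  (I : Ideal V)

private lemma exists_compatible_lifts [Algebra.FormallySmooth V A]
    (K : Ideal C) (f₀ : A →ₐ[V] C ⧸ K) :
    ∃ f : (n : ℕ) → A →ₐ[V] C ⧸ K ^ n,
      (∀ {m n : ℕ} (hle : m ≤ n),
        (Ideal.Quotient.factorₐ V (Ideal.pow_le_pow_right hle)).comp (f n) = f m) ∧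
      ∀ a, Ideal.Quotient.factor (show K ^ 1 ≤ K by simp) (f 1 a) = f₀ a := by
  have hlift : ∀ (n : ℕ) (g : A →ₐ[V] C ⧸ K ^ (n + 1)), ∃ g' : A →ₐ[V] C ⧸ K ^ (n + 2),
      (Ideal.Quotient.factorₐ V (Ideal.pow_le_pow_right (Nat.le_succ (n + 1)))).comp g' = g := by
    intro n g
    have hle : K ^ (n + 2) ≤ K ^ (n + 1) := Ideal.pow_le_pow_right (Nat.le_succ (n + 1))
    let q : (C ⧸ K ^ (n + 2)) →ₐ[V] C ⧸ K ^ (n + 1) := Ideal.Quotient.factorₐ V hle
    have hq : Function.Surjective q := Ideal.Quotient.factor_surjective hle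
    have hnil : IsNilpotent (RingHom.ker (q : (C ⧸ K ^ (n + 2)) →+* C ⧸ K ^ (n + 1))) := by
      refine ⟨2, ?_⟩
      have : RingHom.ker (q : (C ⧸ K ^ (n + 2)) →+* C ⧸ K ^ (n + 1)) =
          (K ^ (n + 1)).map (Ideal.Quotient.mk (K ^ (n + 2))) :=
        Ideal.Quotient.factor_ker hle
      rw [this, ← Ideal.map_pow, Ideal.zero_eq_bot]
      exact Ideal.map_mk_eq_bot_of_le (by rw [← pow_mul]; exact Ideal.pow_le_pow_right (by omega))
    exact ⟨Algebra.FormallySmooth.liftOfSurjective g q hq hnil,
      Algebra.FormallySmooth.comp_liftOfSurjective g q hq hnil⟩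
  choose next hnext using hlift
  let F₀ : A →ₐ[V] C ⧸ K ^ (0 + 1) :=
    (Ideal.Quotient.factorₐ V (show K ≤ K ^ (0 + 1) by simp)).comp f₀
  let F : (n : ℕ) → A →ₐ[V] C ⧸ K ^ (n + 1) := fun n => Nat.rec F₀ next n
  let f : (n : ℕ) → A →ₐ[V] C ⧸ K ^ n := fun n =>
    (Ideal.Quotient.factorₐ V (Ideal.pow_le_pow_right (Nat.le_succ n))).comp (F n)
  have hF : ∀ m n (hle : m ≤ n),
      (Ideal.Quotient.factorₐ V (Ideal.pow_le_pow_right (Nat.succ_le_succ hle))).comp (F n) = F m := by
    intro m n hle
    induction n, hle using Nat.le_induction with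
    | base => ext a; simp
    | succ n hle ih =>
      ext a
      have h1 := AlgHom.congr_fun (hnext n (F n)) a
      have h2 := AlgHom.congr_fun ih a
      rw [← h2]
      simp only [AlgHom.comp_apply] at h1 ⊢
      conv_rhs => rw [← h1]
      exact (Ideal.Quotient.factor_comp_apply (Ideal.pow_le_pow_right (Nat.le_succ (n + 1)))
        (Ideal.pow_le_pow_right (Nat.succ_le_succ hle)) _).symm
  refine ⟨f, ?_, ?_⟩
  · intro m n hle
    ext a
    have h1 := AlgHom.congr_fun (hF m n hle) a
    obtain ⟨c, hc⟩ := Ideal.Quotient.mk_surjective (F n a)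
    simp only [f, AlgHom.comp_apply] at h1 ⊢
    rw [← h1, ← hc]
    rfl
  · intro a
    obtain ⟨c, hc⟩ := Ideal.Quotient.mk_surjective (f₀ a)
    simp only [f, AlgHom.comp_apply]
    have h1 := AlgHom.congr_fun (hF 0 1 (Nat.zero_le 1)) a
    have h2 : F 0 a = Ideal.Quotient.mk (K ^ (0 + 1)) c := by
      simp only [F, Nat.rec_zero, F₀, AlgHom.comp_apply]
      rw [← hc]
      rfl
    obtain ⟨d, hd⟩ := Ideal.Quotient.mk_surjective (F 1 a)
    rw [← hd, ← hc]
    change Ideal.Quotient.mk K d = Ideal.Quotient.mk K c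
    rw [Ideal.Quotient.eq]
    rw [AlgHom.comp_apply, ← hd, h2] at h1
    have h3 : d - c ∈ K ^ (0 + 1) := Ideal.Quotient.eq.mp h1
    simpa using h3

private lemma pow_map_le_ker (n : ℕ) (f : A →ₐ[V] C ⧸ (I.map (algebraMap V C)) ^ n) :
    (I.map (algebraMap V A)) ^ n ≤ RingHom.ker f.toRingHom := by
  intro a ha
  rw [RingHom.mem_ker]
  have h1 : f.toRingHom a ∈ ((I.map (algebraMap V A)) ^ n).map f.toRingHom :=
    Ideal.mem_map_of_mem _ ha
  have h2 : (I.map (algebraMap V A)).map f.toRingHom =
      (I.map (algebraMap V C)).map (Ideal.Quotient.mk ((I.map (algebraMap V C)) ^ n)) := by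
    rw [Ideal.map_map, Ideal.map_map]
    congr 1
    ext v
    exact f.commutes v
  rw [Ideal.map_pow, h2, ← Ideal.map_pow (Ideal.Quotient.mk ((I.map (algebraMap V C)) ^ n)), Ideal.map_quotient_self] at h1
  exact (Submodule.mem_bot _).mp h1

/-- Let V be an excellent normal ring with no additive torsion, I an ideal of V such that (V, I) is a
henselian pair, A and C smooth V-algebras, and φ₀ a V-algebra homomorphism from A/IA to C/IC which
is finite. Then φ₀ lifts to a finite V-algebra homomorphism φ from the IA-adic completion of A to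
the IC-adic completion of C: composing φ with the projection onto C/IC equals the projection onto
A/IA followed by φ₀. (The published statement also treats finite flat, finite faithfully flat and
finite étale maps, whose proofs are referred elsewhere; only the finite case is stated.) -/
theorem result
    (V : Type u) [CommRing V] [IsAddTorsionFree V]
    (hexc : EGA4.IsExcellent V) (hV : EGA4.IsNormalRing V)
    (I : Ideal V) [HenselianRing V I]
    (A C : Type u) [CommRing A] [Algebra V A] [Algebra.Smooth V A]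
    [CommRing C] [Algebra V C] [Algebra.Smooth V C]
    (φ₀ : (A ⧸ I.map (algebraMap V A)) →ₐ[V] (C ⧸ I.map (algebraMap V C)))
    (hφ₀ : φ₀.toRingHom.Finite) :
    ∃ φ : AdicCompletion (I.map (algebraMap V A)) A →ₐ[V]
        AdicCompletion (I.map (algebraMap V C)) C,
      φ.toRingHom.Finite ∧
      (AdicCompletion.evalOneₐ (I.map (algebraMap V C))).toRingHom.comp φ.toRingHom =
        φ₀.toRingHom.comp (AdicCompletion.evalOneₐ (I.map (algebraMap V A))).toRingHom := by
  classical
  haveI : IsNoetherianRing V := hexc.1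
  let J := I.map (algebraMap V A)
  let K := I.map (algebraMap V C)
  have hIfg : I.FG := IsNoetherian.noetherian I
  have hJfg : J.FG := hIfg.map _
  have hKfg : K.FG := hIfg.map _
  obtain ⟨f, hf, hf1⟩ := exists_compatible_lifts K (φ₀.comp (Ideal.Quotient.mkₐ V J))
  let g : (n : ℕ) → AdicCompletion J A →ₐ[V] C ⧸ K ^ n := fun n =>
    (Ideal.Quotient.liftₐ (J ^ n) (f n) (fun a ha => pow_map_le_ker I n (f n) ha)).comp
      ((AdicCompletion.evalₐ J n).restrictScalars V)
  have hgmk : ∀ n x a, AdicCompletion.evalₐ J n x = Ideal.Quotient.mk (J ^ n) a →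
      g n x = f n a := by
    intro n x a h
    simp only [g, AlgHom.comp_apply, AlgHom.restrictScalars_apply, h]
    rfl
  have hg : ∀ {m n : ℕ} (hle : m ≤ n),
      (Ideal.Quotient.factorₐ V (Ideal.pow_le_pow_right hle)).comp (g n) = g m := by
    intro m n hle
    ext x
    obtain ⟨c, rfl⟩ := AdicCompletion.mk_surjective J A x
    have hm : AdicCompletion.evalₐ J m (AdicCompletion.mk J A c) = Ideal.Quotient.mk (J ^ m) (c n) := by
      rw [AdicCompletion.evalₐ_mk, Ideal.Quotient.eq]
      have h := SModEq.sub_mem.mp (c.property hle)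
      rwa [smul_eq_mul, Ideal.mul_top] at h
    rw [AlgHom.comp_apply, hgmk n _ (c n) (AdicCompletion.evalₐ_mk J n c), hgmk m _ (c n) hm]
    exact AlgHom.congr_fun (hf hle) (c n)
  let φ : AdicCompletion J A →ₐ[V] AdicCompletion K C := AdicCompletion.liftAlgHom K g hg
  have hφ : ∀ n x, AdicCompletion.evalₐ K n (φ x) = g n x := fun n x =>
    AdicCompletion.evalₐ_liftAlgHom K g hg n x
  have hone : ∀ x, AdicCompletion.evalOneₐ K (φ x) = φ₀ (AdicCompletion.evalOneₐ J x) := by
    intro x
    obtain ⟨a, ha⟩ := Ideal.Quotient.mk_surjective (AdicCompletion.evalₐ J 1 x)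
    rw [← AdicCompletion.factorₐ_evalₐ_one, ← AdicCompletion.factorₐ_evalₐ_one, hφ,
      hgmk 1 x a ha.symm, ← ha, Ideal.Quotient.factor_mk, hf1]
    rfl
  refine ⟨φ, ?_, RingHom.ext fun x => hone x⟩
  let J' : Ideal (AdicCompletion J A) := J.map (algebraMap A (AdicCompletion J A))
  haveI : IsAdicComplete J' (AdicCompletion J A) := by
    haveI := AdicCompletion.isAdicComplete (M := A) hJfg
    exact (IsAdicComplete.map_algebraMap_iff _ _).mpr this
  letI : Algebra (AdicCompletion J A) (AdicCompletion K C) := φ.toRingHom.toAlgebra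
  change Module.Finite (AdicCompletion J A) (AdicCompletion K C)
  have hmap : J'.map φ.toRingHom = RingHom.ker (AdicCompletion.evalOneₐ K).toRingHom := by
    rw [AdicCompletion.ker_evalOneₐ_eq_map K hKfg]
    simp only [J', J, K, Ideal.map_map]
    congr 1
    refine RingHom.ext fun v => ?_
    have := φ.commutes v
    rw [IsScalarTower.algebraMap_apply V A (AdicCompletion J A),
      IsScalarTower.algebraMap_apply V C (AdicCompletion K C)] at this
    exact this
  haveI : IsHausdorff J' (AdicCompletion K C) := by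
    refine ⟨fun y hy => AdicCompletion.ext_evalₐ fun n => ?_⟩
    rw [map_zero]
    have hle : (J' ^ n • ⊤ : Submodule (AdicCompletion J A) (AdicCompletion K C)) ≤
        Submodule.restrictScalars (AdicCompletion J A)
          (RingHom.ker (AdicCompletion.evalₐ K n).toRingHom) := by
      rw [Submodule.smul_le]
      intro r hr z _
      show AdicCompletion.evalₐ K n (φ r * z) = 0
      have hr0 : r ∈ RingHom.ker (AdicCompletion.evalₐ J n).toRingHom := by
        have : J' ^ n ≤ RingHom.ker (AdicCompletion.evalₐ J n).toRingHom := by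
          rw [RingHom.ker, ← Ideal.map_le_iff_le_comap]
          simp only [J', ← Ideal.map_pow, Ideal.map_map]
          have : (AdicCompletion.evalₐ J n).toRingHom.comp (algebraMap A (AdicCompletion J A)) =
              Ideal.Quotient.mk (J ^ n) := RingHom.ext fun a => (AdicCompletion.evalₐ J n).commutes a
          rw [this, Ideal.map_quotient_self]
        exact this hr
      rw [map_mul, hφ, hgmk n r 0 (hr0.trans (map_zero _).symm), map_zero, zero_mul]
    exact hle (SModEq.zero.mp (hy n))
  refine Groth.Agent.S0544.result _ J' _ ?_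
  let p : AdicCompletion K C →+* C ⧸ K := (AdicCompletion.evalOneₐ K).toRingHom
  have hp : Function.Surjective p := AdicCompletion.evalOneₐ_surjective K
  letI : Algebra (A ⧸ J) (C ⧸ K) := φ₀.toRingHom.toAlgebra
  haveI : Module.Finite (A ⧸ J) (C ⧸ K) := hφ₀
  obtain ⟨s, hs⟩ := (Module.Finite.fg_top : (⊤ : Submodule (A ⧸ J) (C ⧸ K)).FG)
  choose l hl using hp
  let L : Submodule (AdicCompletion J A) (AdicCompletion K C) :=
    Submodule.span (AdicCompletion J A) (l '' (s : Set (C ⧸ K)))
  have hkey : ∀ c : C ⧸ K, ∃ y ∈ L, p y = c := by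
    intro c
    have hc : c ∈ Submodule.span (A ⧸ J) (s : Set (C ⧸ K)) := hs ▸ Submodule.mem_top
    induction hc using Submodule.span_induction with
    | mem c hc => exact ⟨l c, Submodule.subset_span ⟨c, hc, rfl⟩, hl c⟩
    | zero => exact ⟨0, zero_mem _, map_zero p⟩
    | add a b _ _ ha hb =>
      obtain ⟨y, hy, rfl⟩ := ha
      obtain ⟨z, hz, rfl⟩ := hb
      exact ⟨y + z, add_mem hy hz, map_add p y z⟩
    | smul r a _ ha =>
      obtain ⟨y, hy, rfl⟩ := ha
      obtain ⟨x, rfl⟩ := AdicCompletion.evalOneₐ_surjective J r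
      refine ⟨x • y, L.smul_mem x hy, ?_⟩
      show p (φ x * y) = φ₀ (AdicCompletion.evalOneₐ J x) * p y
      rw [map_mul]
      exact congrArg (· * p y) (hone x)
  haveI : Module.Finite (AdicCompletion J A) L :=
    Module.Finite.iff_fg.mpr (Submodule.fg_span (s.finite_toSet.image l))
  refine Module.Finite.of_surjective ((Submodule.mkQ _).comp L.subtype) ?_
  · intro q
    obtain ⟨z, rfl⟩ := Submodule.mkQ_surjective _ q
    obtain ⟨y, hy, hyz⟩ := hkey (p z)
    refine ⟨⟨y, hy⟩, (Submodule.Quotient.eq _).mpr ?_⟩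
    have : y - z ∈ J'.map φ.toRingHom := by
      rw [hmap, RingHom.mem_ker]
      show p (y - z) = 0
      rw [map_sub, hyz, sub_self]
    rwa [Ideal.smul_top_eq_map, Submodule.restrictScalars_mem]

end Groth.Agent.S19376
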