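import Groth.Statements.S2337
import Groth.Agent.Ega2Proj.QuasiAffineAmple

set_option autoImplicit false
universe u
open CategoryTheory CategoryTheory.Limits AlgebraicGeometry
open EGA2

namespace Groth.Agent.S2337

/-- Let f : X → Y be quasi-compact. Then f is quasi-affine (preimages of affine opens are quasi-affine)
if and only if O_X is ample relative to f. -/
theorem result {X Y : Scheme.{u}} (f : X ⟶ Y) [QuasiCompact f] :
    Mor2.IsQuasiAffine f ↔ RelAmple.IsRelAmple f (Coh.structureModule X) := by
  refine and_congr_right fun _ => ⟨fun h V => ?_, fun h V hV => ?_⟩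
  · have := h V.1 V.2
    exact Groth.Ega2Proj.isAmple_of_isQuasiAffine
      (Groth.Ega2Proj.isInvertible_restrict _ (Groth.Ega2Proj.isInvertible_structure X))
  · exact Groth.Ega2Proj.isQuasiAffine_of_isAmple_structure
      (Groth.Ega2Proj.isAmple_of_iso
        (Groth.Ega2Proj.restrictIsoPullback _ _ ≪≫ (Groth.PicAux.pullback_structure_iso _).some)
        (h ⟨V, hV⟩))

end Groth.Agent.S2337
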