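import Groth.Statements.S19377
import Groth.Agent.Misc13.GaloisSplit
import Groth.Agent.GrpschAbsch.IdComp
import Groth.Agent.Ega2Proj.QProjProper
import Groth.Agent.Ega2Proj.RelAmpleComp
import Groth.Agent.ConsAmple.QProj
import Groth.Agent.S2331
import Groth.Agent.S2337
import Groth.Agent.S2332
import Groth.Agent.Chow.QuasiProjective
-- import your own Groth.Agent.* helpers here

set_option autoImplicit false
universe u
open CategoryTheory AlgebraicGeometry
open RelProj

set_option linter.style.haveILetI false

namespace Groth.Agent.S19377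

/-- Let k be a field, S a smooth, separated and quasi-compact k-scheme and f : X → S a proper smooth
morphism. The following two conditions are equivalent. (P): there is a dense open subscheme U of X,
quasi-projective over S, such that every connected component of S has a point not lying in the image
f(X ∖ U). Generic projectivity: there is a dense open subscheme V of S such that the restriction
f⁻¹(V) → V of f is projective. (The source works over the residue field of a complete discrete
valuation ring of mixed characteristic and adds that the restriction over V is smooth, which is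
automatic; the base field plays no role and is arbitrary here.) -/
theorem result
    {k : Type u} [Field k] {X S : Scheme.{u}} (f : X ⟶ S) (g : S ⟶ Spec (.of k))
    [Smooth g] [IsSeparated g] [QuasiCompact g] [IsProper f] [Smooth f] :
    (∃ U : X.Opens, Dense (U : Set X) ∧ RelProj.IsQuasiProjective (U.ι ≫ f) ∧
        ∀ s : S, ∃ s' : S, s' ∈ connectedComponent s ∧ s' ∉ ⇑f.base '' (U : Set X)ᶜ) ↔
      ∃ V : S.Opens, Dense (V : Set S) ∧ RelProj.IsProjective (f ∣_ V) := by
  have hgsm : Smooth g := inferInstance
  letI : S.Over (Spec (.of k)) := ⟨g⟩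
  have : Smooth (S ↘ Spec (CommRingCat.of k)) := hgsm
  have : IsLocallyNoetherian S := LocallyOfFiniteType.isLocallyNoetherian g
  have : CompactSpace S := QuasiCompact.compactSpace_of_compactSpace g
  have : AlgebraicGeometry.IsNoetherian S := {}
  have hdom : ∀ x : S, IsDomain (S.presheaf.stalk x) := fun x => by
    have : IsRegularLocalRing (S.presheaf.stalk x) :=
      Groth.VarietyBC.isRegularLocalRing_of_mem_smoothLocus (k := k) (X := S)
        (by
          change x ∈ g.smoothLocus
          rw [Scheme.Hom.smoothLocus_eq_top]; trivial)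
    exact Groth.Ega4Algebra1.isDomain_of_isRegularLocalRing _
  have hop : ∀ x : S, IsOpen (irreducibleComponent x) := fun x =>
    Groth.Variety2.isOpen_irreducibleComponents hdom (irreducibleComponent_mem_irreducibleComponents x)
  have hcc : ∀ x : S, connectedComponent x = irreducibleComponent x := fun x =>
    Groth.GrpschAbsch.connectedComponent_eq_of_isOpen
      (irreducibleComponent_mem_irreducibleComponents x) (hop x) mem_irreducibleComponent
  constructor
  · rintro ⟨U, hUd, ⟨hlft, hqc, L, hL⟩, hU⟩
    let V : S.Opens := ⟨(⇑f.base '' (U : Set X)ᶜ)ᶜ, (f.isClosedMap _ U.2.isClosed_compl).isOpen_compl⟩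
    have hVd : Dense (V : Set S) := by
      intro s
      obtain ⟨s', hs's, hs'⟩ := hU s
      rw [hcc s] at hs's
      exact (subset_closure_inter_of_isPreirreducible_of_isOpen
        isIrreducible_irreducibleComponent.isPreirreducible V.2 ⟨s', hs's, hs'⟩).trans
        (closure_mono Set.inter_subset_right) mem_irreducibleComponent
    refine ⟨V, hVd, ?_⟩
    have hle : f ⁻¹ᵁ V ≤ U := fun x hx => by
      by_contra h
      exact hx ⟨x, h, rfl⟩
    haveI : QuasiCompact (U.ι ≫ f) := hqc
    haveI : CompactSpace U.toScheme := QuasiCompact.compactSpace_of_compactSpace (U.ι ≫ f)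
    let j : (f ⁻¹ᵁ V).toScheme ⟶ U.toScheme := X.homOfLE hle
    have sq : IsPullback j (f ∣_ V) (U.ι ≫ f) V.ι := by
      have hw : j ≫ U.ι = (f ⁻¹ᵁ V).ι := X.homOfLE_ι hle
      have h1 : IsPullback j (𝟙 _) U.ι (f ⁻¹ᵁ V).ι :=
        IsPullback.mk' (by rw [Category.id_comp, hw]) (fun T a b _ h => by simpa using h)
          (fun T a b w => ⟨b, by rw [← cancel_mono U.ι, Category.assoc, hw, w], Category.comp_id b⟩)
      have h2 := h1.paste_vert (isPullback_morphismRestrict f V).flip
      rwa [Category.id_comp] at h2
    have hA := Groth.ConsAmple.isRelAmple_of_isPullback sq hL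
    have : QuasiCompact (f ∣_ V) := hA.1
    have : LocallyOfFiniteType (f ∣_ V) := MorphismProperty.of_isPullback (isPullback_morphismRestrict f V).flip inferInstance
    have : IsProper (f ∣_ V) := MorphismProperty.of_isPullback (isPullback_morphismRestrict f V).flip inferInstance
    have : CompactSpace V.toScheme := by
      have := TopologicalSpace.NoetherianSpace.isCompact (V : Set S)
      exact isCompact_iff_compactSpace.mp this
    exact Groth.Ega2Proj.isProjective_of_isQuasiProjective ⟨inferInstance, inferInstance, _, hA⟩
  · rintro ⟨V, hVd, hV⟩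
    obtain ⟨hlft, hqc, L, hL⟩ := Groth.Ega2Proj.isQuasiProjective_of_isProjective hV
    have : TopologicalSpace.NoetherianSpace V.toScheme :=
      inferInstanceAs (TopologicalSpace.NoetherianSpace (V : Set S))
    have : QuasiCompact V.ι := quasiCompact_of_noetherianSpace_source V.ι
    have hqa : Mor2.IsQuasiAffine V.ι := ⟨inferInstance, fun W hW => by
      haveI : IsAffine W.toScheme := hW
      haveI : CompactSpace (V.ι ⁻¹ᵁ W : Scheme.{u}) :=
        isCompact_iff_compactSpace.mp (V.ι.isCompact_preimage hW.isCompact)
      exact Scheme.IsQuasiAffine.of_isImmersion (V.ι ∣_ W)⟩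
    have hK := (Groth.Agent.S2337.result V.ι).1 hqa
    obtain ⟨n₀, -, hn₀⟩ := Groth.Agent.S2331.result (f ∣_ V) V.ι L (Coh.structureModule _) hL hK
    have hA := hn₀ n₀ le_rfl
    rw [morphismRestrict_ι] at hA
    refine ⟨f ⁻¹ᵁ V, hVd.preimage f.isOpenMap, ⟨?_, hA.1, _, hA⟩, fun s => ?_⟩
    · haveI := hlft
      exact inferInstance
    · obtain ⟨s', hs'1, hs'2⟩ := hVd.inter_open_nonempty _ (hop s) ⟨s, mem_irreducibleComponent⟩
      refine ⟨s', (hcc s).ge hs'1, ?_⟩
      rintro ⟨x, hx, rfl⟩
      exact hx hs'2

end Groth.Agent.S19377
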