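import Groth.Statements.S19379
import Groth.Agent.Calg4.RegularHom
import Groth.Agent.Ega41Flat.Smooth
import Groth.Agent.Ega41Adic.RegularOfSmooth

set_option autoImplicit false
universe u
open CAlg

namespace Groth.Agent.S19379

open TensorProduct

/-- A formally smooth algebra is formally smooth for every adic topology. -/
theorem adic_of_formallySmooth {A B : Type u} [CommRing A] [CommRing B] [Algebra A B]
    [Algebra.FormallySmooth A B] (n : Ideal B) : CAlgX.IsAdicFormallySmooth A B n :=
  fun _ _ _ J hJ ψ _ => Algebra.FormallySmooth.exists_lift J ⟨2, hJ⟩ ψ

/-- Let A and B be Noetherian rings and let B be an A-algebra which is formally smooth for the discrete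
topologies. Then A → B is a regular homomorphism, that is, flat with (Noetherian) geometrically
regular fibres. -/
theorem result
    (A B : Type u) [CommRing A] [CommRing B] [Algebra A B]
    [IsNoetherianRing A] [IsNoetherianRing B] [Algebra.FormallySmooth A B] :
    CAlg.IsRegularHom A B := by
  refine Groth.Calg4.isRegularHom_of_isRegularRing_tensor ?_ fun L _ _ _ => ?_
  · refine Module.flat_of_isLocalized_maximal B B (fun q _ => Localization.AtPrime q)
      (fun q _ => Algebra.linearMap B (Localization.AtPrime q)) fun q _ => ?_
    let p := q.comap (algebraMap A B)
    let f := Localization.localRingHom p q (algebraMap A B) rfl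
    let : Algebra (Localization.AtPrime p) (Localization.AtPrime q) := f.toAlgebra
    have : IsScalarTower A (Localization.AtPrime p) (Localization.AtPrime q) :=
      IsScalarTower.of_algebraMap_eq fun a => (by
        simp [RingHom.algebraMap_toAlgebra, f, Localization.localRingHom_to_map,
          IsScalarTower.algebraMap_apply A B (Localization.AtPrime q)])
    have : IsLocalHom (algebraMap (Localization.AtPrime p) (Localization.AtPrime q)) :=
      Localization.isLocalHom_localRingHom p q (algebraMap A B) rfl
    have : Algebra.FormallySmooth B (Localization.AtPrime q) :=
      Algebra.FormallySmooth.of_isLocalization q.primeCompl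
    have : Algebra.FormallySmooth A (Localization.AtPrime q) := Algebra.FormallySmooth.comp A B _
    have : Algebra.FormallySmooth (Localization.AtPrime p) (Localization.AtPrime q) :=
      Algebra.FormallySmooth.localization_base p.primeCompl
    have := Groth.Ega41Flat.flat_of_formallySmooth
      ((Groth.Ega41Flat.isAdicFormallySmooth_iff_local).mp
        (adic_of_formallySmooth (A := Localization.AtPrime p) (B := Localization.AtPrime q) _))
    have : Module.Flat A (Localization.AtPrime q) :=
      Module.Flat.trans A (Localization.AtPrime p) (Localization.AtPrime q)
    infer_instance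
  · have : IsNoetherianRing (B ⊗[A] L) := Algebra.EssFiniteType.isNoetherianRing B (B ⊗[A] L)
    have : IsNoetherianRing (L ⊗[A] B) :=
      isNoetherianRing_of_ringEquiv (B ⊗[A] L) (Algebra.TensorProduct.comm A B L).toRingEquiv
    refine isRegularRing_iff.mpr fun P _ => ?_
    have : Algebra.FormallySmooth (L ⊗[A] B) (Localization.AtPrime P) :=
      Algebra.FormallySmooth.of_isLocalization P.primeCompl
    have : Algebra.FormallySmooth L (Localization.AtPrime P) := Algebra.FormallySmooth.comp L (L ⊗[A] B) _
    exact Groth.Ega41Adic.isRegularLocalRing_of_isAdicFormallySmooth (adic_of_formallySmooth (A := L) _)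

end Groth.Agent.S19379
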