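import Groth.Statements.S1938
import Groth.Agent.GitQuot.GrpdShear
import Groth.Agent.S9372

set_option autoImplicit false
universe u
open CategoryTheory CategoryTheory.Limits AlgebraicGeometry
open Grpd

namespace Groth.Agent.S1938

/-- Let (U, R, s, t, c) be a groupoid scheme over S, e : U → R its identity and C_{U/R} the conormal
sheaf of the immersion e. View R as a scheme over U via t. Then there is an epimorphism of
O_R-modules s^*C_{U/R} → Ω_{R/U}, and if s is flat there is an isomorphism s^*C_{U/R} ≅ Ω_{R/U}.
(The published statement has t^*C_{U/R} here; with R over U via t that version is false — for the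
pair groupoid of the disjoint union of a point and the affine line over ℚ the two sheaves have
different supports — and the statement given here has s^*C_{U/R} instead.) Stated for t
quasi-separated, where the shared prelude's Ω_{R/U} (conormal sheaf of the diagonal of t through
Mathlib's kernel ideal sheaf) and conormal sheaf of the section e are the usual ones. (A groupoid
scheme carries U, R, s, t, c, e, i over S with the groupoid axioms on T-points.) -/
theorem result (S : Scheme.{u}) (G : Grpd.GroupoidScheme S) [QuasiSeparated G.t] : (∃ φ : (Scheme.Modules.pullback G.s).obj (Omega.conormal G.e) ⟶ Omega.sheaf G.t, Epi φ) ∧ (Flat G.s → Nonempty ((Scheme.Modules.pullback G.s).obj (Omega.conormal G.e) ≅ Omega.sheaf G.t)) := by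
  have hi : IsImmersion (G.e ≫ G.t) := by rw [G.e_t]; infer_instance
  have hq : QuasiCompact (G.e ≫ G.t) := by rw [G.e_t]; infer_instance
  have : IsImmersion G.e := IsImmersion.of_comp G.e G.t
  have : QuasiCompact G.e := QuasiCompact.of_comp G.e G.t
  have h : (pullback.fst G.t G.t ≫ G.i) ≫ G.s = pullback.snd G.t G.t ≫ G.t := by
    rw [Category.assoc, G.i_s]; exact pullback.condition
  let m : pullback G.t G.t ⟶ G.R :=
    Groth.GrpdBasic.comp G (pullback.fst G.t G.t ≫ G.i) (pullback.snd G.t G.t) h
  have hw : pullback.diagonal G.t ≫ m = G.s ≫ G.e := by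
    refine (Groth.GrpdBasic.precomp_comp G _ _ _ _).trans ?_
    refine (Groth.GrpdBasic.comp_congr G _ (α' := 𝟙 G.R ≫ G.i) (β' := 𝟙 G.R) ?_ ?_).trans ?_
    · rw [pullback.diagonal_fst_assoc, Category.id_comp]
    · rw [pullback.diagonal_snd]
    · rw [Groth.GrpdBasic.inv_comp G (𝟙 G.R), Category.id_comp]
  have key : ∀ c : PullbackCone m G.e, c.fst ≫ pullback.fst G.t G.t = c.fst ≫ pullback.snd G.t G.t ∧
      (c.fst ≫ pullback.fst G.t G.t) ≫ G.s = c.snd := by
    intro c
    let α := c.fst ≫ pullback.fst G.t G.t
    let β := c.fst ≫ pullback.snd G.t G.t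
    have h' : (α ≫ G.i) ≫ G.s = β ≫ G.t := by
      simp only [α, β, Category.assoc, G.i_s, pullback.condition]
    have hm : Groth.GrpdBasic.comp G (α ≫ G.i) β h' = c.snd ≫ G.e := by
      rw [← c.condition]
      refine Eq.trans ?_ (Groth.GrpdBasic.precomp_comp G _ _ _ _).symm
      exact Groth.GrpdBasic.comp_congr G _ (by simp [α]) rfl
    have hs : α ≫ G.s = c.snd := by
      have := congr($hm ≫ G.t)
      simpa [Groth.GrpdBasic.comp_t, G.i_t, G.e_t, α] using this
    refine ⟨?_, hs⟩
    have := Groth.GrpdBasic.comp_inv_comp_cancel G α β h'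
    rw [Groth.GrpdBasic.comp_congr G _ rfl hm, Groth.GrpdBasic.comp_unit G α hs] at this
    exact this
  have hsq : IsPullback (pullback.diagonal G.t) G.s m G.e := by
    refine IsPullback.of_isLimit' ⟨hw⟩ (PullbackCone.IsLimit.mk hw
      (fun c ↦ c.fst ≫ pullback.fst G.t G.t) (fun c ↦ ?_) (fun c ↦ (key c).2) fun c l hl _ ↦ ?_)
    · apply pullback.hom_ext
      · simp
      · simpa using (key c).1
    · rw [← hl, Category.assoc, pullback.diagonal_fst, Category.comp_id]
  obtain ⟨φ, hφ, -⟩ := Groth.OmegaSheaf.existsUnique_isConormalMap (pullback.diagonal G.t) G.e m G.s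
    hsq.w.symm
  obtain ⟨hep, hiso⟩ := Groth.Agent.S9372.result _ _ m G.s hsq φ hφ
  refine ⟨⟨φ, hep⟩, fun hfl ↦ ?_⟩
  have : Flat (𝟙 G.R ≫ G.s) := by rw [Category.id_comp]; exact hfl
  have hm : Flat m := by
    let E := pullback.congrHom (Category.id_comp G.t).symm (rfl : G.t = G.t)
    have : m = E.hom ≫ (Groth.GrpdBasic.shearA G (𝟙 G.R)).inv ≫ pullback.snd _ _ := by
      rw [Groth.GrpdBasic.shearA_inv_snd, Groth.GrpdBasic.precomp_comp]
      exact Groth.GrpdBasic.comp_congr G _ (by simp [E, pullback.lift_fst_assoc, pullback.map]) (by simp only [E, pullback.congrHom_hom, pullback.map, Category.comp_id]; exact (pullback.lift_snd _ _ _).symm)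
    rw [this]
    infer_instance
  exact ⟨@asIso _ _ _ _ φ (hiso hm)⟩

end Groth.Agent.S1938
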