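import Groth.Statements.S19380
import Mathlib

set_option autoImplicit false
universe u
open CAlg

namespace Groth.Agent.S19380

/-- Let L be a commutative ring, σ a ring automorphism of L of finite order dividing d (σ^d = 1), and C
an r × r matrix over L. The reverse characteristic polynomial det(1 − T·N) of the twisted product N
= C·σ(C)·σ²(C)⋯σ^(d−1)(C), with σ applied to the entries, is fixed by σ acting on coefficients. (In
the source this is phrased for the fibre at a closed point x of degree d of a convergent F-module
with Frobenius matrix C: the d-th iterate of the semilinear Frobenius of the fibre is the linear map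
with matrix N, so its characteristic polynomial has coefficients in the subfield fixed by the
Frobenius of K(x), namely K, and likewise with the valuation ring in place of K for an integral
F-module; only this linear-algebra statement, over any commutative ring, is given here.) -/
theorem result
    (L : Type u) [CommRing L] (σ : L ≃+* L) (d : ℕ) (hσ : σ ^ d = 1)
    (r : ℕ) (C : Matrix (Fin r) (Fin r) L) :
    (Matrix.charpolyRev (((List.range d).map fun i => C.map ⇑(σ ^ i)).prod)).map (σ : L →+* L) =
      Matrix.charpolyRev (((List.range d).map fun i => C.map ⇑(σ ^ i)).prod) := by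
  rcases d with _ | m
  · simp only [List.range_zero, List.map_nil, List.prod_nil, Matrix.charpolyRev]
    rw [← Polynomial.coe_mapRingHom, RingHom.map_det]
    congr 1
    ext i j
    by_cases hij : i = j
    · subst hij; simp [Matrix.sub_apply, Matrix.one_apply_eq]
    · simp [Matrix.sub_apply, Matrix.one_apply_ne hij]
  let T : ℕ → Matrix (Fin r) (Fin r) L := fun i => C.map ⇑(σ ^ i)
  have hT : ∀ i, (T i).map σ = T (i + 1) := fun i => by
    ext a b
    show σ ((σ ^ i) (C a b)) = (σ ^ (i + 1)) (C a b)
    rw [pow_succ', RingAut.mul_apply]
  have h0 : T (m + 1) = T 0 := by simp only [T, hσ, pow_zero]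
  have hmap : ∀ M : Matrix (Fin r) (Fin r) L, M.charpolyRev.map (σ : L →+* L) = (M.map σ).charpolyRev := by
    intro M
    rw [Matrix.charpolyRev, Matrix.charpolyRev, ← Polynomial.coe_mapRingHom, RingHom.map_det]
    congr 1
    ext a b
    by_cases hab : a = b
    · subst hab; simp [Matrix.sub_apply, Matrix.one_apply_eq]
    · simp [Matrix.sub_apply, Matrix.one_apply_ne hab]
  have hcomm : ∀ M N : Matrix (Fin r) (Fin r) L, (M * N).charpolyRev = (N * M).charpolyRev := fun M N => by
    rw [Matrix.charpolyRev, Matrix.charpolyRev, Matrix.map_mul, Matrix.map_mul, ← Matrix.smul_mul,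
      Matrix.det_one_sub_mul_comm, Matrix.mul_smul]
  let P : Matrix (Fin r) (Fin r) L := ((List.range m).map fun i => T (i + 1)).prod
  have hN : ((List.range (m + 1)).map T).prod = T 0 * P := by
    rw [List.range_succ_eq_map, List.map_cons, List.prod_cons, List.map_map]; rfl
  have hσN : ((List.range (m + 1)).map T).prod.map σ = P * T 0 := by
    show (σ : L →+* L).mapMatrix _ = _
    rw [map_list_prod, List.map_map]
    have : (⇑((σ : L →+* L).mapMatrix (m := Fin r)) ∘ T) = fun i => T (i + 1) := funext hT
    rw [this, List.range_succ, List.map_append, List.map_singleton, List.prod_append, List.prod_singleton, h0]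
  show (((List.range (m + 1)).map T).prod.charpolyRev).map (σ : L →+* L) = _
  rw [hmap, hσN, hN, hcomm]

end Groth.Agent.S19380
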