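import Groth.Statements.S19382
import Groth.Agent.Flatmor4.CompletionFibre

set_option autoImplicit false
universe u
open CategoryTheory CategoryTheory.Limits AlgebraicGeometry
open FlatMor

namespace Groth.Agent.S19382

/-- Over a discrete valuation ring, let V be a henselian discrete valuation ring with maximal ideal 𝔪, A
a smooth V-algebra, Â the 𝔪A-adic completion of A, and h : X → Spec A a proper morphism with
reduction h₀ over Spec(A/𝔪A). Then X is flat over V and h₀ is smooth if and only if the base change
of h to Spec Â is smooth. (As for the flat case, the published statement concerns an excellent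
normal base ring with a henselian pair and the projective lift built from lifted equations, together
with the weak completion and the henselization; it is given here over a discrete valuation ring and
for an arbitrary proper h.) -/
theorem result
    (V : Type u) [CommRing V] [IsDomain V] [IsDiscreteValuationRing V] [HenselianLocalRing V]
    (A : Type u) [CommRing A] [Algebra V A] [Algebra.Smooth V A]
    (X : Scheme.{u}) (h : X ⟶ Spec (.of A)) [IsProper h] :
    (Flat (h ≫ Spec.map (CommRingCat.ofHom (algebraMap V A))) ∧
        Smooth (pullback.snd h (Spec.map (CommRingCat.ofHom
          (Ideal.Quotient.mk ((IsLocalRing.maximalIdeal V).map (algebraMap V A))))))) ↔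
      Smooth (pullback.snd h (Spec.map (CommRingCat.ofHom
          (algebraMap A (AdicCompletion ((IsLocalRing.maximalIdeal V).map (algebraMap V A)) A))))) := by
  haveI : IsNoetherianRing A := Algebra.FiniteType.isNoetherianRing V A
  constructor
  · rintro ⟨h1, h2⟩
    haveI := h2
    exact (Groth.Flatmor4.flat_completion_of_flat_fibre h).2 h2
  · intro h1
    haveI := h1
    refine ⟨(Groth.Flatmor4.flat_and_flat_fibre_of_flat_completion h).1, ?_⟩
    change Smooth (pullback.snd h (Groth.Flatmor4.fibreIncl V A))
    rw [← Groth.Flatmor4.complSection_comp, ← MorphismProperty.cancel_left_of_respectsIso @Smooth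
      (pullbackLeftPullbackSndIso h (Groth.Flatmor4.complMap V A) (Groth.Flatmor4.complSection V A)).hom,
      pullbackLeftPullbackSndIso_hom_snd]
    exact MorphismProperty.pullback_snd _ _ h1

end Groth.Agent.S19382
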