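import Groth.Statements.S19383
import Mathlib

set_option autoImplicit false
universe u
open CAlg

namespace Groth.Agent.S19383

/-- Over a discrete valuation ring, let V be a henselian discrete valuation ring with maximal ideal 𝔪
and B a Noetherian V-algebra, B̂ its 𝔪B-adic completion. Then B is flat over V if and only if B̂ is
flat over V. (The published lemma takes V an excellent normal ring with an ideal I such that (V,
V/I) is a henselian pair and B of finite type; in that generality it fails: for V = ℤ_p[[x]], I =
(p) and B = V[y]/(x, py − 1) ≅ ℚ_p one has IB = B, so B̂ = 0 is flat while B is not flat over V.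
Over a discrete valuation ring flatness is torsion-freeness and the statement holds for every
Noetherian B.) -/
theorem result
    (V : Type u) [CommRing V] [IsDomain V] [IsDiscreteValuationRing V] [HenselianLocalRing V]
    (B : Type u) [CommRing B] [Algebra V B] [IsNoetherianRing B] :
    Module.Flat V B ↔
      Module.Flat V (AdicCompletion ((IsLocalRing.maximalIdeal V).map (algebraMap V B)) B) := by
  have hflat : Module.Flat B (AdicCompletion ((IsLocalRing.maximalIdeal V).map (algebraMap V B)) B) := inferInstance
  refine ⟨fun h => Module.Flat.trans V B _, fun h => ?_⟩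
  obtain ⟨π, hπ⟩ := IsDiscreteValuationRing.exists_irreducible V
  have hπ0 : π ≠ 0 := hπ.ne_zero
  let I := (IsLocalRing.maximalIdeal V).map (algebraMap V B)
  let P : B := algebraMap V B π
  have hI : I = Ideal.span {P} := by simp only [I, hπ.maximalIdeal_eq, Ideal.map_span, Set.image_singleton, P]
  obtain ⟨N, hN⟩ : ∃ N, ∀ s : B, P ^ (N + 1) * s = 0 → P ^ N * s = 0 := by
    let K : ℕ →o Submodule B B := ⟨fun n => LinearMap.ker (LinearMap.mulLeft B (P ^ n)), fun a b hab x hx => by
      rw [LinearMap.mem_ker, LinearMap.mulLeft_apply] at hx ⊢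
      rw [← Nat.sub_add_cancel hab, pow_add, mul_assoc, hx, mul_zero]⟩
    obtain ⟨N, hN⟩ := monotone_stabilizes_iff_noetherian.2 inferInstance K
    exact ⟨N, fun s hs => (hN (N + 1) (Nat.le_succ N) ▸ (show s ∈ K (N + 1) from hs) : s ∈ K N)⟩
  have key : ∀ t : B, P * t = 0 → t = 0 := by
    intro t ht
    have h1 : π • algebraMap B (AdicCompletion I B) t = 0 := by
      rw [Algebra.smul_def, IsScalarTower.algebraMap_apply V B (AdicCompletion I B), ← map_mul, show algebraMap V B π * t = 0 from ht, map_zero]
    have h2 : algebraMap B (AdicCompletion I B) t = 0 :=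
      (smul_eq_zero.1 h1).resolve_left hπ0
    have h3 : (Submodule.Quotient.mk t : B ⧸ (I ^ N • ⊤ : Ideal B)) = 0 := congrArg (fun x : AdicCompletion I B => x.val N) h2
    rw [Submodule.Quotient.mk_eq_zero, smul_eq_mul, Ideal.mul_top, hI, Ideal.span_singleton_pow] at h3
    obtain ⟨s, rfl⟩ := Ideal.mem_span_singleton.1 h3
    exact hN s (by rwa [pow_succ', mul_assoc])
  rw [IsDedekindDomain.flat_iff_torsion_eq_bot, eq_bot_iff]
  intro t ht
  obtain ⟨⟨a, ha⟩, hat⟩ := ht
  obtain ⟨n, hn⟩ := IsDiscreteValuationRing.associated_pow_irreducible (mem_nonZeroDivisors_iff_ne_zero.1 ha) hπ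
  obtain ⟨w, hw⟩ := hn
  rw [Submodule.mem_bot]
  replace hat : algebraMap V B a * t = 0 := by rw [← Algebra.smul_def]; exact hat
  have h4 : P ^ n * t = 0 := by
    rw [show P ^ n = algebraMap V B a * algebraMap V B (w : V) by rw [← map_mul, hw, map_pow], mul_right_comm, hat, zero_mul]
  clear hw hat
  induction n with
  | zero => simpa using h4
  | succ n ih => exact ih (key _ (by rwa [pow_succ', mul_assoc] at h4))

end Groth.Agent.S19383
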