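import Groth.Statements.S19384
import Groth.Agent.VerschLib.Basic
import Groth.Agent.OortTate.Eigen

set_option autoImplicit false
universe u
open Versch

namespace Groth.Agent.S19384

/-- Over a field and for one finite level, let k be a field of characteristic p > 0 and G = Spec A a
finite commutative k-group scheme (A a finite-dimensional commutative cocommutative Hopf algebra)
killed by p^n, i.e. the p^n-th power map of G is the trivial homomorphism, and suppose the
Verschiebung of G is an isomorphism (the ring map v : A → A ⊗_k k^(p) characterised as the
Verschiebung is bijective). Then G is infinitesimal, more precisely the n-th iterate of its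
Frobenius is trivial: a^(p^n) = 0 for every a in the augmentation ideal. (The source states this for
the p^n-torsion levels of a p-divisible group of multiplicative type over any scheme of
characteristic p and reduces to a field fibre by fibre; it also records that the Cartier dual has
unipotent fibres, which is not stated here.) -/
theorem result
    (p : ℕ) [Fact p.Prime] (k : Type u) [Field k] [CharP k p]
    (A : Type u) [CommRing A] [HopfAlgebra k A] [Coalgebra.IsCocomm k A] [Module.Finite k A]
    (n : ℕ)
    (hn : SGA3b.powConv k A (p ^ n) = (Algebra.ofId k A).comp (Bialgebra.counitAlgHom k A))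
    (v : A →+* FrobAlg.BaseChange p k A) (hv : Versch.IsVerschiebung p k A v)
    (hbij : Function.Bijective v)
    (a : A) (ha : Coalgebra.counit (R := k) a = 0) : a ^ (p ^ n) = 0 := by
  haveI : Nontrivial A := (Bialgebra.counitAlgHom k A).toRingHom.domain_nontrivial
  haveI : CharP A p := charP_of_injective_algebraMap (algebraMap k A).injective p
  have hpp : ∀ (m : ℕ) (c : A),
      SGA3b.powConv k A p (SGA3b.powConv k A m c) = SGA3b.powConv k A (p * m) c :=
    fun m c => Groth.Agent.OortTate.powConv_powConv p m c
  have key : ∀ (m : ℕ) (a : A), Coalgebra.counit (R := k) a = 0 →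
      ∃ c, Coalgebra.counit (R := k) c = 0 ∧ SGA3b.powConv k A (p ^ m) c = a ^ p ^ m := by
    intro m
    induction m with
    | zero =>
      intro a ha
      exact ⟨a, ha, by rw [pow_zero, pow_one, Groth.Agent.OortTate.powConv_one]; rfl⟩
    | succ m ih =>
      intro a ha
      obtain ⟨b, hb⟩ := hbij.2 (a ⊗ₜ[k] (1 : FrobAlg.Twist p k))
      have hb' : SGA3b.powConv k A p b = a ^ p := by
        rw [← Groth.VerschLib.relFrob_verschiebung p hv, hb, Groth.VerschLib.relFrob_tmul]
        simp
      have hεb : Coalgebra.counit (R := k) b = 0 := by
        rw [← Groth.VerschLib.powConv_counit p b, hb', ← Bialgebra.counitAlgHom_apply, map_pow,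
          Bialgebra.counitAlgHom_apply, ha, zero_pow (Fact.out : p.Prime).ne_zero]
      obtain ⟨c, hc, hc'⟩ := ih b hεb
      refine ⟨c, hc, ?_⟩
      rw [pow_succ' p m, ← hpp, hc', map_pow, hb', ← pow_mul]
  obtain ⟨c, hc, hc'⟩ := key n a ha
  rw [← hc', hn]
  simp [hc]

end Groth.Agent.S19384
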