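import Groth.Statements.S19389
import Groth.Agent.PicAux.PPowTower
import Groth.Agent.PicAux.LiftSmallDimHensel
import Groth.Agent.FibreDim.Smooth
import Groth.Agent.FibreDim.Semicontinuity
import Mathlib.RingTheory.WittVector.Complete
import Mathlib.RingTheory.WittVector.DiscreteValuationRing

set_option autoImplicit false
set_option linter.style.haveILetI false
set_option backward.isDefEq.respectTransparency.types false
universe u
open CategoryTheory CategoryTheory.Limits AlgebraicGeometry
open PicThk

namespace Groth.Agent.S19389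

open scoped Groth.Abvar.PicCalc
open IsLocalRing Groth.Abvar.PicCalc Groth.ModelsGraphs.InvAlg Groth.ModelsGraphs.PicKernel

theorem localDim_fiber {X Y : Scheme.{u}} (f : X ⟶ Y) (s : Y) (z : ↥(f.fiber s)) :
    FlatMor.localDim ↥(f.fiber s) z = FlatMor.fibreDimAt f ((f.fiberι s).base z) := by
  obtain ⟨x, hx⟩ : ∃ x, x = (f.fiberι s).base z := ⟨_, rfl⟩
  obtain rfl : f.base x = s := by
    have h : x ∈ Set.range (f.fiberι s).base := ⟨z, hx.symm⟩
    rwa [f.range_fiberι] at h
  rw [← hx]
  unfold FlatMor.fibreDimAt
  congr 1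
  exact (f.fiberι (f.base x)).isEmbedding.injective (hx.symm.trans (f.fiberι_asFiber x).symm)

theorem dim_fib_le_one {R : Type u} [CommRing R] [IsLocalRing R] (X : Scheme.{u})
    (f : X ⟶ Spec (CommRingCat.of R)) [SmoothOfRelativeDimension 1 f] :
    letI : X.Over (Spec (CommRingCat.of R)) := ⟨f⟩
    topologicalKrullDim (fib R X) ≤ 1 := by
  letI : X.Over (Spec (CommRingCat.of R)) := ⟨f⟩
  haveI := isClosedImmersion_fibι R X
  haveI : Smooth f := SmoothOfRelativeDimension.smooth 1 f
  refine Groth.PicLift.dim_closedFibre_le f (fibι R X) ?_ ?_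
  · change Set.range (pullback.fst f _) = _
    rw [Scheme.Pullback.range_fst]
    congr 1
    change Set.range (PrimeSpectrum.comap (residue R)) = _
    rw [range_comap_of_surjective _ _ residue_surjective, ker_residue]
    exact Set.ext fun q => ⟨fun h => PrimeSpectrum.ext ((le_maximalIdeal q.isPrime.ne_top).antisymm h),
      fun h => by rw [Set.mem_singleton_iff.1 h]; exact fun a ha => ha⟩
  · change topologicalKrullDim ↥(f.fiber (closedPoint R)) ≤ 1
    haveI : LocallyOfFiniteType (f.fiberToSpecResidueField (closedPoint R)) :=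
      MorphismProperty.pullback_snd (P := @LocallyOfFiniteType) _ _ inferInstance
    rw [Groth.FibreDim.dim_eq_iSup_localDim (k := (Spec (CommRingCat.of R)).residueField (closedPoint R))
      (f.fiberToSpecResidueField (closedPoint R))]
    refine iSup_le fun z => le_of_eq ?_
    exact (localDim_fiber f _ z).trans (Groth.FibreDim.fibreDimAt_eq_of_smoothOfRelativeDimension 1 f _)

theorem main (p : ℕ) [Fact p.Prime] (hp : 2 < p) (R : Type u) [CommRing R] [IsLocalRing R] [IsNoetherianRing R]
    (I : Ideal R) [IsAdicComplete I R] (hI : I = maximalIdeal R) (hp0 : maximalIdeal R = Ideal.span {(p : R)})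
    (X : Scheme.{u}) (f : X ⟶ Spec (CommRingCat.of R)) [IsProper f] [SmoothOfRelativeDimension 1 f]
    [PicGrp.Law X] [∀ n : ℕ, PicGrp.Law (CohB1.thick f I n)]
    (hι : ∀ n : ℕ, PicGrp.PullMul (CohB1.thickι f I n)) (i : ℕ) :
    (∀ n : ℕ, Function.Surjective (PicGrp.pullHom (CohB1.thickι f I n) (hι n))) ∧
    ∃ t : ℕ, ∀ a : PicLoc.PicSet X,
      (∃ b : PicLoc.PicSet (CohB1.thick f I t), b ^ (p ^ i) = PicGrp.pullHom (CohB1.thickι f I t) (hι t) a) →
      ∃ a' : PicLoc.PicSet X, a' ^ (p ^ i) = a := by
  subst hI
  obtain rfl : (inferInstance : PicGrp.Law X) = law X := Subsingleton.elim _ _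
  obtain rfl : ‹∀ n : ℕ, PicGrp.Law (CohB1.thick f (maximalIdeal R) n)› = fun n => law _ :=
    funext fun n => Subsingleton.elim _ _
  letI : X.Over (Spec (CommRingCat.of R)) := ⟨f⟩
  haveI : IsProper (X ↘ Spec (CommRingCat.of R)) := ‹IsProper f›
  have hdim := dim_fib_le_one X f
  have hs := fun n => Groth.PicAux.PPowTower.surjective_inc R X hdim n
  refine ⟨hs, i, fun a ⟨b, hb⟩ => ?_⟩
  obtain ⟨β, rfl⟩ := hs i b
  obtain ⟨c, hc⟩ := Groth.PicAux.PPowTower.exists_pow_root R X hp0 hdim Fact.out hp i
    (a := a / β ^ p ^ i) (by rw [map_div, map_pow]; exact div_eq_one.2 hb.symm)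
  exact ⟨β * c, by rw [mul_pow, hc, mul_div_cancel]⟩

/-- Let p > 2 be a prime, k a finite field of characteristic p and W = W(k) its ring of Witt vectors;
let f : X → Spec W be proper and smooth of relative dimension 1 with an ample invertible O_X-module
(a smooth projective relative curve), and X_n = X ×_W Spec W/(p^{n+1}) the infinitesimal thickenings
of the special fibre, with inclusions ι_n : X_n → X. Granting the group laws of the Picard groups
involved and the multiplicativity of pull-back of invertible classes along each ι_n, the restriction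
maps Pic(X) → Pic(X_n) are all surjective, and for every i there is a level t such that a class on X
whose restriction to X_t is a p^i-th power is already a p^i-th power in Pic(X). (The published proof
identifies CH^1(X) with Pic(X) and H^1(X_1, K^M_1 of X_n) with Pic(X_n) and states that CH^1(X) ⊗
Z/p^i → (Pic(X_n) ⊗ Z/p^i)_n is an isomorphism of pro-abelian groups; the two assertions here are
what its proof establishes and imply that pro-isomorphism, the first giving levelwise surjectivity
and the second the vanishing of the kernel pro-system.) -/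
theorem result
    (p : ℕ) [Fact p.Prime] (hp : 2 < p) (k : Type u) [Field k] [Finite k] [CharP k p]
    (X : Scheme.{u}) (f : X ⟶ Spec (CommRingCat.of (WittVector p k))) [IsProper f] [SmoothOfRelativeDimension 1 f]
    (L : X.Modules) (hL : CohB1.IsAmple L)
    [PicGrp.Law X] [∀ n : ℕ, PicGrp.Law (CohB1.thick f (Ideal.span (singleton (p : (WittVector p k)))) n)]
    (hι : ∀ n : ℕ, PicGrp.PullMul (CohB1.thickι f (Ideal.span (singleton (p : (WittVector p k)))) n)) (i : ℕ) :
    (∀ n : ℕ, Function.Surjective (PicGrp.pullHom (CohB1.thickι f (Ideal.span (singleton (p : (WittVector p k)))) n) (hι n))) ∧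
    ∃ t : ℕ, ∀ a : PicLoc.PicSet X,
      (∃ b : PicLoc.PicSet (CohB1.thick f (Ideal.span (singleton (p : (WittVector p k)))) t), b ^ (p ^ i) = PicGrp.pullHom (CohB1.thickι f (Ideal.span (singleton (p : (WittVector p k)))) t) (hι t) a) →
      ∃ a' : PicLoc.PicSet X, a' ^ (p ^ i) = a := by
  have hm : IsLocalRing.maximalIdeal (WittVector p k) = Ideal.span {(p : WittVector p k)} :=
    (WittVector.irreducible p).maximalIdeal_eq
  exact main p hp (WittVector p k) _ hm.symm hm X f hι i

end Groth.Agent.S19389
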