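import Groth.Statements.S19390
import Mathlib.Data.Fin.Tuple.Sort
import Mathlib.Algebra.Order.BigOperators.Group.Finset
import Mathlib.Tactic
-- import your own Groth.Agent.* helpers here

set_option autoImplicit false
universe u
open GIT

namespace Groth.Agent.S19390

/-- Let e ≥ 1, n = 2e + 1, and let x_1, …, x_n be points such that no point occurs more than e times
among them (the stability condition for n ordered points on a line, n odd). Then there are index
sequences i_1, …, i_n and j_1, …, j_n in which every index between 1 and n occurs exactly twice in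
total, such that x_{i_k} ≠ x_{j_k} for every k and (i_1, i_2, i_3) = (j_3, j_1, j_2). Indices are
written 0, …, n − 1 here. -/
theorem result {α : Type u} [DecidableEq α] (e : ℕ) (he : 1 ≤ e)
    (x : Fin (2 * e + 1) → α)
    (hx : ∀ a : α, (Finset.univ.filter fun k => x k = a).card ≤ e) :
    ∃ i j : Fin (2 * e + 1) → Fin (2 * e + 1),
      (∀ m : Fin (2 * e + 1),
        (Finset.univ.filter fun k => i k = m).card + (Finset.univ.filter fun k => j k = m).card = 2) ∧
      (∀ k, x (i k) ≠ x (j k)) ∧
      i 0 = j 2 ∧ i 1 = j 0 ∧ i 2 = j 1 := by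
  classical
  obtain ⟨m, rfl⟩ : ∃ m, e = m + 1 := ⟨e - 1, by omega⟩
  let n := 2 * (m + 1) + 1
  let cnt : α → ℕ := fun a => (Finset.univ.filter fun k => x k = a).card
  let S : Finset α := Finset.univ.image x
  have hsum : ∑ a ∈ S, cnt a = 2 * (m + 1) + 1 := by
    rw [← Finset.card_eq_sum_card_image x Finset.univ, Finset.card_univ, Fintype.card_fin]
  have h3 : 3 ≤ S.card := by
    by_contra hlt
    have : ∑ a ∈ S, cnt a ≤ S.card • (m + 1) := Finset.sum_le_card_nsmul _ _ _ fun a _ => hx a
    rw [hsum, smul_eq_mul] at this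
    have : S.card * (m + 1) ≤ 2 * (m + 1) := Nat.mul_le_mul_right (m + 1) (by omega)
    omega
  have hM : (S.filter fun a => cnt a = m + 1).card ≤ 3 := by
    by_contra hlt
    have h1 : ∑ a ∈ S.filter (fun a => cnt a = m + 1), cnt a ≤ ∑ a ∈ S, cnt a :=
      Finset.sum_le_sum_of_subset (Finset.filter_subset _ _)
    rw [Finset.sum_congr rfl (fun a ha => (Finset.mem_filter.mp ha).2), Finset.sum_const, smul_eq_mul, hsum] at h1
    have : 4 * (m + 1) ≤ (S.filter fun a => cnt a = m + 1).card * (m + 1) := Nat.mul_le_mul_right (m + 1) (by omega)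
    omega
  obtain ⟨T, hMT, hTS, hT⟩ := Finset.exists_subsuperset_card_eq (Finset.filter_subset _ S) hM h3
  let c : Fin 3 ≃ T := (T.equivFinOfCardEq hT).symm
  have hpre : ∀ q : Fin 3, ∃ k, x k = (c q : α) := fun q => by
    simpa [S] using hTS (c q).2
  choose r hr using hpre
  have hrinj : Function.Injective r := fun a b h =>
    c.injective (Subtype.ext (by rw [← hr a, ← hr b, h]))
  let P : Finset (Fin n) := (Finset.univ.image r)ᶜ
  have hP : P.card = m + m := by
    rw [Finset.card_compl, Finset.card_image_of_injective _ hrinj, Fintype.card_fin]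
    simp only [Finset.card_univ, Fintype.card_fin, n]
    omega
  have hPle : ∀ a, (P.filter fun k => x k = a).card ≤ m := by
    intro a
    rcases Nat.eq_zero_or_pos (cnt a) with h0 | h0
    · have hle : (P.filter fun k => x k = a).card ≤ cnt a := Finset.card_le_card (Finset.filter_subset_filter _ (Finset.subset_univ _))
      omega
    by_cases ha : cnt a = m + 1
    · have haS : a ∈ S := by
        obtain ⟨k, hk⟩ := Finset.card_pos.mp h0
        exact Finset.mem_image.mpr ⟨k, Finset.mem_univ k, (Finset.mem_filter.mp hk).2⟩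
      obtain ⟨q, hq⟩ := c.surjective ⟨a, hMT (Finset.mem_filter.mpr ⟨haS, ha⟩)⟩
      have hlt : (P.filter fun k => x k = a).card < cnt a := Finset.card_lt_card (by
        rw [Finset.ssubset_iff_of_subset (Finset.filter_subset_filter _ (Finset.subset_univ _))]
        exact ⟨r q, by simp [hr q, hq], by simp [P]⟩)
      omega
    · have hle : (P.filter fun k => x k = a).card ≤ cnt a := Finset.card_le_card (Finset.filter_subset_filter _ (Finset.subset_univ _))
      have : cnt a ≤ m + 1 := hx a
      omega
  let idx : α → ℕ := fun a => if h : a ∈ S then (S.equivFin ⟨a, h⟩ : ℕ) else 0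
  have hidx : ∀ k k', idx (x k) = idx (x k') → x k = x k' := by
    intro k k' h
    have h1 : ∀ i, x i ∈ S := fun i => Finset.mem_image_of_mem x (Finset.mem_univ i)
    simp only [idx, dif_pos (h1 _), Fin.val_inj, S.equivFin.apply_eq_iff_eq] at h
    exact congrArg Subtype.val h
  let s₀ : Fin (m + m) ≃ P := (P.equivFinOfCardEq hP).symm
  let f : Fin (m + m) → ℕ := fun t => idx (x (s₀ t))
  let s : Fin (m + m) ≃ P := (Tuple.sort f).trans s₀
  have hmono : Monotone fun t => idx (x (s t)) := Tuple.monotone_sort f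
  have hne : ∀ t : Fin m, x (s (Fin.castAdd m t)) ≠ x (s (Fin.natAdd m t)) := by
    intro t ht
    have hsub : (Finset.Icc (Fin.castAdd m t) (Fin.natAdd m t)).map (s.toEmbedding.trans ⟨Subtype.val, Subtype.val_injective⟩) ⊆
        P.filter fun k => x k = x (s (Fin.castAdd m t)) := by
      intro k hk
      obtain ⟨u, hu, rfl⟩ := Finset.mem_map.mp hk
      rw [Finset.mem_Icc] at hu
      refine Finset.mem_filter.mpr ⟨(s u).2, hidx _ _ (le_antisymm ?_ (hmono hu.1))⟩
      exact (hmono hu.2).trans (le_of_eq (by simp only [ht]))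
    have := (Finset.card_le_card hsub).trans (hPle _)
    simp only [Finset.card_map, Fin.card_Icc, Fin.val_castAdd, Fin.val_natAdd] at this
    omega
  let v : Fin 3 ⊕ (Fin m ⊕ Fin m) → Fin n := Sum.elim r fun t => (s (finSumFinEquiv t) : Fin n)
  have hv : Function.Injective v := by
    refine Function.Injective.sumElim hrinj (Subtype.val_injective.comp (s.injective.comp finSumFinEquiv.injective)) ?_
    intro q t h
    have hmem : (s (finSumFinEquiv t) : Fin n) ∈ P := (s (finSumFinEquiv t)).2
    rw [← h] at hmem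
    simp [P] at hmem
  have hvbij : Function.Bijective v := by
    rw [Fintype.bijective_iff_injective_and_card]
    exact ⟨hv, by simp [n]; omega⟩
  let E : Fin n ≃ Fin 3 ⊕ (Fin m ⊕ Fin m) :=
    ((finCongr (by simp [n]; omega)).trans finSumFinEquiv.symm).trans (Equiv.sumCongr (Equiv.refl _) finSumFinEquiv.symm)
  have hE : ∀ (a : ℕ) (ha : a < 3) (ha' : a < n), E ⟨a, ha'⟩ = Sum.inl ⟨a, ha⟩ := by
    intro a ha ha'
    rw [← Equiv.eq_symm_apply]
    ext
    simp [E]
  let src : Fin 3 ⊕ (Fin m ⊕ Fin m) → Fin 3 ⊕ (Fin m ⊕ Fin m) :=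
    Sum.elim Sum.inl (fun t => Sum.inr (Sum.inl (t.elim id id)))
  let tgt : Fin 3 ⊕ (Fin m ⊕ Fin m) → Fin 3 ⊕ (Fin m ⊕ Fin m) :=
    Sum.elim (fun q => Sum.inl (q + 1)) (fun t => Sum.inr (Sum.inr (t.elim id id)))
  refine ⟨fun k => v (src (E k)), fun k => v (tgt (E k)), ?_, ?_, ?_, ?_, ?_⟩
  · intro y
    obtain ⟨y, rfl⟩ := hvbij.surjective y
    simp only [hv.eq_iff]
    rw [Finset.card_filter, Finset.card_filter, Equiv.sum_comp E (fun z => if src z = y then 1 else 0),
      Equiv.sum_comp E (fun z => if tgt z = y then 1 else 0)]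
    simp only [Fintype.sum_sum_type, src, tgt, Sum.elim_inl, Sum.elim_inr, id_eq, Sum.inl.injEq, Sum.inr.injEq]
    rcases y with q | t | t
    · simp only [Sum.inl.injEq, reduceCtorEq, if_false, Finset.sum_const_zero, add_zero]
      rw [Fintype.sum_equiv (Equiv.addRight (1 : Fin 3)) (fun z => if z + 1 = q then 1 else 0)
        (fun z => if z = q then 1 else 0) (fun _ => rfl)]
      simp
    · simp
    · simp
  · intro k
    rcases hk : E k with q | t
    · simp only [hk, src, tgt, Sum.elim_inl, v, hr]
      intro h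
      have hq1 : ∀ u : Fin 3, u ≠ u + 1 := by decide
      exact hq1 q (c.injective (Subtype.ext h))
    · rcases t with t | t <;> simpa [hk, src, tgt, v] using hne t
  all_goals
    change v (src (E ⟨_ % _, _⟩)) = v (tgt (E ⟨_ % _, _⟩))
    simp only [Nat.zero_mod, Nat.mod_eq_of_lt (show (1 : ℕ) < 2 * (m + 1) + 1 by omega),
      Nat.mod_eq_of_lt (show (2 : ℕ) < 2 * (m + 1) + 1 by omega)]
  · rw [hE 0 (by omega), hE 2 (by omega)]; rfl
  · rw [hE 1 (by omega), hE 0 (by omega)]; rfl
  · rw [hE 2 (by omega), hE 1 (by omega)]; rfl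

end Groth.Agent.S19390
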