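import Groth.Statements.S19392
import Groth.Agent.GitQuot.Quartic
-- import your own Groth.Agent.* helpers here

set_option autoImplicit false
universe u
open InvQ

namespace Groth.Agent.S19392

/-- Over a field of characteristic different from 2 and 3, a nonzero binary quartic f has P(f) = Q(f) =
0 for the two basic invariants P, Q if and only if f has a triple zero. Stated for f = ∏_i (μ_i X₀ −
λ_i X₁) given by four root points (λ_i, μ_i) ≠ (0, 0) (over an algebraically closed field every
nonzero quartic form is of this shape), with the integral invariants I = 6P and J = 72Q of the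
coefficients of f; a triple zero means that three of the four root points are pairwise proportional. -/
theorem result (k : Type u) [Field k]
    (h2 : (2 : k) ≠ 0) (h3 : (3 : k) ≠ 0) (la mu : Fin 4 → k) (hne : ∀ i, la i ≠ 0 ∨ mu i ≠ 0) :
    (W4c6intromoduli.invI (W4c6intromoduli.coef la mu) = 0 ∧
        W4c6intromoduli.invJ (W4c6intromoduli.coef la mu) = 0) ↔
      ∃ i j l : Fin 4, i ≠ j ∧ j ≠ l ∧ i ≠ l ∧
        la i * mu j = la j * mu i ∧ la j * mu l = la l * mu j := by
  exact Groth.Quartic.invI_invJ_iff h2 h3 hne

end Groth.Agent.S19392
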