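import Groth.Statements.S19393
import Groth.Agent.GitQuot.Quartic
-- import your own Groth.Agent.* helpers here

set_option autoImplicit false
universe u
open InvQ

namespace Groth.Agent.S19393

/-- Over a field of characteristic different from 2 and 3, two binary quartics without double zeros
lying in the same fibre of the map to the projective line given by the invariants, i.e. with
proportional (P³, Q²), are equivalent under a linear substitution of the variables up to a nonzero
constant factor. Stated for split quartics f = ∏_i (μ_i X₀ − λ_i X₁) given by root points (λ_i, μ_i)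
≠ (0, 0), with the integral invariants I = 6P, J = 72Q and the discriminant ∏_{i<j} (λ_j μ_i − λ_i
μ_j)²; only the assertion that such a fibre is a single orbit is stated (not its closedness). -/
theorem result (k : Type u) [Field k]
    (h2 : (2 : k) ≠ 0) (h3 : (3 : k) ≠ 0) (la mu la' mu' : Fin 4 → k)
    (hne : ∀ i, la i ≠ 0 ∨ mu i ≠ 0) (hne' : ∀ i, la' i ≠ 0 ∨ mu' i ≠ 0)
    (hd : W4c6intromoduli.disc la mu ≠ 0) (hd' : W4c6intromoduli.disc la' mu' ≠ 0)
    (h : W4c6intromoduli.invI (W4c6intromoduli.coef la mu) ^ 3
          * W4c6intromoduli.invJ (W4c6intromoduli.coef la' mu') ^ 2 =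
        W4c6intromoduli.invI (W4c6intromoduli.coef la' mu') ^ 3
          * W4c6intromoduli.invJ (W4c6intromoduli.coef la mu) ^ 2) :
    ∃ (M : Matrix (Fin 2) (Fin 2) k) (c : k), IsUnit M.det ∧ c ≠ 0 ∧
      W4c6intromoduli.binForm la' mu' =
        MvPolynomial.C c * W4c6intromoduli.subst M (W4c6intromoduli.binForm la mu) := by
  exact Groth.Quartic.exists_sim hd hd' h (by
    rw [show (27 : k) = 3 ^ 3 by norm_num]; exact pow_ne_zero _ h3)

end Groth.Agent.S19393
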