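import Groth.Statements.S19395
import Groth.Agent.GitQuot.SemisimpleConj
-- import your own Groth.Agent.* helpers here

set_option autoImplicit false
universe u
open InvQ

namespace Groth.Agent.S19395

/-- Over an algebraically closed field, the Zariski closures of the conjugation orbits of two square
matrices B₁, B₂ meet if and only if their semisimple parts lie in one orbit. The semisimple parts
are given as S_i with B_i = S_i + N_i, S_i semisimple, N_i nilpotent, S_i N_i = N_i S_i; a common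
point of the two closures is a matrix C at which every polynomial in the matrix entries vanishing on
the whole orbit of B₁, and every one vanishing on the whole orbit of B₂, vanishes. -/
theorem result (k : Type u) [Field k] [IsAlgClosed k]
    (n : ℕ) (B₁ S₁ N₁ B₂ S₂ N₂ : Matrix (Fin n) (Fin n) k)
    (hS₁ : Module.End.IsSemisimple (Matrix.toLin' S₁)) (hN₁ : IsNilpotent N₁) (hc₁ : Commute S₁ N₁)
    (hB₁ : B₁ = S₁ + N₁)
    (hS₂ : Module.End.IsSemisimple (Matrix.toLin' S₂)) (hN₂ : IsNilpotent N₂) (hc₂ : Commute S₂ N₂)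
    (hB₂ : B₂ = S₂ + N₂) :
    (∃ C : Matrix (Fin n) (Fin n) k,
        (∀ F : MvPolynomial (Fin n × Fin n) k,
          (∀ A : Matrix (Fin n) (Fin n) k, IsUnit A.det →
            MvPolynomial.eval (fun p => (A * B₁ * A⁻¹) p.1 p.2) F = 0) →
          MvPolynomial.eval (fun p => C p.1 p.2) F = 0) ∧
        (∀ F : MvPolynomial (Fin n × Fin n) k,
          (∀ A : Matrix (Fin n) (Fin n) k, IsUnit A.det →
            MvPolynomial.eval (fun p => (A * B₂ * A⁻¹) p.1 p.2) F = 0) →
          MvPolynomial.eval (fun p => C p.1 p.2) F = 0)) ↔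
      ∃ A : Matrix (Fin n) (Fin n) k, IsUnit A.det ∧ A * S₁ * A⁻¹ = S₂ := by
  obtain ⟨m₁, hm₁⟩ := hN₁
  obtain ⟨m₂, hm₂⟩ := hN₂
  have k₁ : ∀ F : MvPolynomial (Fin n × Fin n) k, (∀ A : Matrix (Fin n) (Fin n) k, IsUnit A.det →
      MvPolynomial.eval (fun p => (A * B₁ * A⁻¹) p.1 p.2) F = 0) →
      MvPolynomial.eval (fun p => S₁ p.1 p.2) F = 0 := fun F hF =>
    Groth.SemisimpleLimit.eval_eq_zero S₁ hS₁ m₁ N₁ hm₁ hc₁ F fun A hA => by rw [← hB₁]; exact hF A hA
  have k₂ : ∀ F : MvPolynomial (Fin n × Fin n) k, (∀ A : Matrix (Fin n) (Fin n) k, IsUnit A.det →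
      MvPolynomial.eval (fun p => (A * B₂ * A⁻¹) p.1 p.2) F = 0) →
      MvPolynomial.eval (fun p => S₂ p.1 p.2) F = 0 := fun F hF =>
    Groth.SemisimpleLimit.eval_eq_zero S₂ hS₂ m₂ N₂ hm₂ hc₂ F fun A hA => by rw [← hB₂]; exact hF A hA
  constructor
  · rintro ⟨C, h₁, h₂⟩
    refine Groth.SemisimpleLimit.exists_conj S₁ S₂ hS₁ hS₂ ?_
    rw [Groth.SemisimpleLimit.charpoly_eq_of_eval_eq_zero B₁ S₁ k₁,
      ← Groth.SemisimpleLimit.charpoly_eq_of_eval_eq_zero B₁ C h₁,
      Groth.SemisimpleLimit.charpoly_eq_of_eval_eq_zero B₂ C h₂,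
      Groth.SemisimpleLimit.charpoly_eq_of_eval_eq_zero B₂ S₂ k₂]
  · rintro ⟨A₀, hA₀, rfl⟩
    refine ⟨_, fun F hF => ?_, k₂⟩
    -- transport `F` by conjugation
    let G : MvPolynomial (Fin n × Fin n) k := MvPolynomial.bind₁
      (fun p => ∑ i, ∑ j, MvPolynomial.C (A₀ p.1 i * A₀⁻¹ j p.2) * MvPolynomial.X (i, j)) F
    have hG : ∀ M : Matrix (Fin n) (Fin n) k, MvPolynomial.eval (fun p => M p.1 p.2) G =
        MvPolynomial.eval (fun p => (A₀ * M * A₀⁻¹) p.1 p.2) F := fun M => by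
      show MvPolynomial.eval₂Hom (RingHom.id k) (fun p : Fin n × Fin n => M p.1 p.2) G =
        MvPolynomial.eval₂Hom (RingHom.id k) (fun p : Fin n × Fin n => (A₀ * M * A₀⁻¹) p.1 p.2) F
      rw [MvPolynomial.eval₂Hom_bind₁]
      refine congrFun (congrArg _ (congrArg _ (funext fun p => ?_))) F
      simp only [map_sum, map_mul, MvPolynomial.eval₂Hom_C, MvPolynomial.eval₂Hom_X', RingHom.id_apply,
        Matrix.mul_apply, Finset.sum_mul]
      rw [Finset.sum_comm]
      exact Finset.sum_congr rfl fun i _ => Finset.sum_congr rfl fun j _ => by ring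
    rw [← hG]
    refine k₁ G fun A hA => ?_
    rw [hG]
    have := hF (A₀ * A) (by rw [Matrix.det_mul]; exact hA₀.mul hA)
    rw [Matrix.mul_inv_rev] at this
    simpa only [Matrix.mul_assoc] using this

end Groth.Agent.S19395
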