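import Groth.Statements.S19396
import Groth.Agent.FunFld1.RiemannRoch

set_option autoImplicit false
universe u v
open FunFld Groth.FunFld1

namespace Groth.Agent.S19396

/-- On an elliptic curve with base point 0, if f has a double pole at 0 and no other pole and g a triple
pole at 0 and no other pole, then for n ≥ 2 the functions 1, f, …, f^[n/2], g, fg, …, f^[(n−3)/2] g
form a basis of the space of functions with at most an n-fold pole at 0. Stated for a function field
K/k of one variable of genus 1 with a place P of degree 1 in the role of the curve and its base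
point: the family indexed by Fin (n/2 + 1) ⊕ Fin ((n − 1)/2), sending i on the left to f^i and i on
the right to f^i g, is linearly independent over k and spans L(nP). -/
theorem result (k : Type u) (K : Type v) [Field k] [Field K]
    [Algebra k K] (hK : FunFld.IsFunctionField k K) (hgen : FunFld.genus k K = 1)
    (P : FunFld.Place k K) (hP : P.deg = 1) (f g : K)
    (hf : f ∈ FunFld.L (Finsupp.single P 2)) (hf2 : P.ord f = -2)
    (hg : g ∈ FunFld.L (Finsupp.single P 3)) (hg3 : P.ord g = -3) (n : ℕ) (hn : 2 ≤ n) :
    LinearIndependent k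
        (Sum.elim (fun i : Fin (n / 2 + 1) => f ^ (i : ℕ)) (fun i : Fin ((n - 1) / 2) => f ^ (i : ℕ) * g)) ∧
      Submodule.span k (Set.range
        (Sum.elim (fun i : Fin (n / 2 + 1) => f ^ (i : ℕ)) (fun i : Fin ((n - 1) / 2) => f ^ (i : ℕ) * g))) =
        FunFld.L (Finsupp.single P (n : ℤ)) := by
  classical
  have hF := IsFF.of_isFunctionField hK
  have hf0 : f ≠ 0 := fun e => by rw [e, ord_zero] at hf2; omega
  have hg0 : g ≠ 0 := fun e => by rw [e, ord_zero] at hg3; omega
  set φ := Sum.elim (fun i : Fin (n / 2 + 1) => f ^ (i : ℕ))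
    (fun i : Fin ((n - 1) / 2) => f ^ (i : ℕ) * g) with hφ
  set pd : Fin (n / 2 + 1) ⊕ Fin ((n - 1) / 2) → ℕ :=
    Sum.elim (fun i => 2 * (i : ℕ)) (fun i => 2 * (i : ℕ) + 3) with hpd
  have hfv : P.1 f = WithZero.exp (2 : ℤ) := by rw [val_eq_exp_neg_ord P hf0, hf2]; rfl
  have hgv : P.1 g = WithZero.exp (3 : ℤ) := by rw [val_eq_exp_neg_ord P hg0, hg3]; rfl
  have hval : ∀ i, P.1 (φ i) = WithZero.exp (pd i : ℤ) := by
    rintro (i | i) <;> simp only [hφ, hpd, Sum.elim_inl, Sum.elim_inr, map_pow, map_mul, hfv, hgv]
    · rw [← WithZero.exp_nsmul]; congr 1; simp [mul_comm]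
    · rw [← WithZero.exp_nsmul, ← WithZero.exp_add]; congr 1; simp [mul_comm]
  have hinj : Function.Injective pd := by
    rintro (i | i) (j | j) h <;> simp only [hpd, Sum.elim_inl, Sum.elim_inr] at h
    · exact congrArg Sum.inl (Fin.ext (by omega))
    · omega
    · omega
    · exact congrArg Sum.inr (Fin.ext (by omega))
  have hli : LinearIndependent k φ := by
    rw [Fintype.linearIndependent_iff]
    intro a ha
    by_contra! hne
    obtain ⟨i₀, hi₀⟩ := hne
    obtain ⟨i, hi, hmax⟩ := (Finset.univ.filter fun j => a j ≠ 0).exists_max_image pd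
      ⟨i₀, by simp [hi₀]⟩
    rw [Finset.mem_filter] at hi
    have h1 := Valuation.map_sum_eq_of_lt (v := P.1) (f := fun j => a j • φ j) (Finset.mem_univ i)
      (fun j hj => by
        simp only [Finset.mem_sdiff, Finset.mem_univ, Finset.mem_singleton, true_and] at hj
        simp only [Algebra.smul_def, map_mul]
        rw [val_algebraMap P hi.2, one_mul, hval i]
        rcases eq_or_ne (a j) 0 with e | e
        · rw [e, map_zero, map_zero, zero_mul]; exact WithZero.exp_pos
        · rw [val_algebraMap P e, one_mul, hval j, WithZero.exp_lt_exp]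
          have h2 := hmax j (by simp [e])
          have h3 : pd j ≠ pd i := fun e => hj (hinj e)
          omega)
    rw [ha, map_zero, Algebra.smul_def, map_mul, val_algebraMap P hi.2, one_mul, hval] at h1
    exact WithZero.exp_ne_zero h1.symm
  refine ⟨hli, ?_⟩
  have hmem : Submodule.span k (Set.range φ) ≤ L (Finsupp.single P (n : ℤ)) := by
    rw [Submodule.span_le]
    rintro _ ⟨i, rfl⟩ Q
    rcases eq_or_ne Q P with e | hQ
    · rw [e, hval, Finsupp.single_eq_same, WithZero.exp_le_exp]
      rcases i with i | i <;> simp only [hpd, Sum.elim_inl, Sum.elim_inr] <;>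
        have := i.isLt <;> omega
    · have h1 := hf Q
      have h2 := hg Q
      rw [Finsupp.single_eq_of_ne hQ, WithZero.exp_zero] at h1 h2 ⊢
      rcases i with i | i <;> simp only [hφ, Sum.elim_inl, Sum.elim_inr, map_pow, map_mul]
      · exact pow_le_one₀ zero_le h1
      · exact mul_le_one' (pow_le_one₀ zero_le h1) h2
  have := hF.finiteDimensional_L (Finsupp.single P (n : ℤ))
  refine Submodule.eq_of_le_of_finrank_le hmem ?_
  have h := ell_eq_of_deg_ge hK (D := Finsupp.single P (n : ℤ))
    (by rw [Groth.FunFld1.deg_single, hP, hgen]; push_cast; omega)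
  rw [Groth.FunFld1.deg_single, hP, hgen] at h
  rw [finrank_span_eq_card hli, Fintype.card_sum, Fintype.card_fin, Fintype.card_fin]
  change ell _ ≤ _
  push_cast at h
  omega

end Groth.Agent.S19396
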