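import Groth.Statements.S19397
import Groth.Agent.Funfld2.Small.EllAut

set_option autoImplicit false
universe u v
open FunFld

namespace Groth.Agent.S19397

open Classical in
/-- Over an algebraically closed field of characteristic different from 2 and 3, the automorphism group
of an elliptic curve (automorphisms fixing the base point) with invariant j has order 2 if j ≠ 0,
12³, order 4 if j = 12³ and order 6 if j = 0. Stated for the function field K/k of the curve: K of
genus 1 generated by x, y with y² = x³ + a x + b and 4a³ + 27b² ≠ 0, P the place where x has its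
double and y its triple pole (and no other poles), so that j = 12³ · 4a³/(4a³ + 27b²) and the three
cases are a, b ≠ 0; b = 0; a = 0; the automorphisms are the k-algebra automorphisms of K preserving
the valuation of P. -/
theorem result (k : Type u) (K : Type v) [Field k]
    [IsAlgClosed k] [Field K] [Algebra k K] (h2 : (2 : k) ≠ 0) (h3 : (3 : k) ≠ 0)
    (hK : FunFld.IsFunctionField k K) (hgen : FunFld.genus k K = 1) (P : FunFld.Place k K)
    (a b : k) (hdisc : 4 * a ^ 3 + 27 * b ^ 2 ≠ 0) (x y : K)
    (heq : y ^ 2 = x ^ 3 + algebraMap k K a * x + algebraMap k K b)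
    (hxy : IntermediateField.adjoin k ({x, y} : Set K) = ⊤)
    (hx : x ∈ FunFld.L (Finsupp.single P 2)) (hx2 : P.ord x = -2)
    (hy : y ∈ FunFld.L (Finsupp.single P 3)) (hy3 : P.ord y = -3) :
    Nat.card {σ : K ≃ₐ[k] K // ∀ z : K, P.1 (σ z) = P.1 z} =
      if a = 0 then 6 else if b = 0 then 4 else 2 := by
  exact Groth.Funfld2.Small.EllAut.card_aut hK hgen heq hxy hx hx2 hy hy3 h2 h3 hdisc

end Groth.Agent.S19397
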