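import Groth.Statements.S19398
import Groth.Agent.GitQuot.Hilbert
-- import your own Groth.Agent.* helpers here

set_option autoImplicit false
universe u
open GIT

namespace Groth.Agent.S19398

/-- For a reductive group G (here: every finite-dimensional representation completely reducible, i.e.
linearly reductive) acting linearly on vector spaces V and V′ of any dimension, with Reynolds
operators E and E′ (the projections onto the invariants along the unique invariant complement),
every G-linear map u : V → V′ satisfies E′ ∘ u = u ∘ E. Stated for comodules over a commutative Hopf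
algebra A whose finite-dimensional comodules are semisimple; a Reynolds operator is a comodule
endomorphism that is idempotent and fixes exactly the invariant vectors (such an operator is the
projection onto the invariants along an invariant complement, which is unique). -/
theorem result (k : Type u) [Field k] (A : Type u) [CommRing A] [HopfAlgebra k A]
    (hG : HopfRep.IsLinearlyReductive k A)
    (V W : Type u) [AddCommGroup V] [Module k V] [HopfRep.Comod k A V]
    [AddCommGroup W] [Module k W] [HopfRep.Comod k A W]
    (E : V →ₗ[k] V) (hE₁ : Hoch.IsComodHom A E) (hE₂ : E ∘ₗ E = E)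
    (hE₃ : ∀ x : V, E x = x ↔ x ∈ HopfRep.fixedPts k A V)
    (E' : W →ₗ[k] W) (hE'₁ : Hoch.IsComodHom A E') (hE'₂ : E' ∘ₗ E' = E')
    (hE'₃ : ∀ y : W, E' y = y ↔ y ∈ HopfRep.fixedPts k A W)
    (u : V →ₗ[k] W) (hu : Hoch.IsComodHom A u) :
    E' ∘ₗ u = u ∘ₗ E := by
  exact Groth.GitQuot.IsReynolds.natural hG ⟨hE₁, hE₂, hE₃⟩ ⟨hE'₁, hE'₂, hE'₃⟩ hu

end Groth.Agent.S19398
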