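import Groth.Statements.S19400
import Groth.Agent.GitQuot.Linear
-- import your own Groth.Agent.* helpers here

set_option autoImplicit false
universe u
open GIT

namespace Groth.Agent.S19400

/-- For a reductive group G (here: every finite-dimensional representation completely reducible, i.e.
linearly reductive; any characteristic) acting on an affine variety X = Spec R over an algebraically
closed field with all orbits of closed points closed, the morphism X → Y = Spec R^G is a geometric
quotient; in particular it is surjective on closed points and its fibre over every closed point of Y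
is a single orbit. This row states those two point-set assertions in coaction form: G = Spec A with
A a finitely generated commutative Hopf algebra whose finite-dimensional comodules are semisimple, R
of finite type with a multiplicative unital coaction, points as k-algebra maps. The published
statement takes X to be a variety (reduced and irreducible); this row does not assume R reduced or a
domain. -/
theorem result (k : Type u) [Field k] [IsAlgClosed k]
    (A : Type u) [CommRing A] [HopfAlgebra k A] [Algebra.FiniteType k A]
    (hG : HopfRep.IsLinearlyReductive k A)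
    (R : Type u) [CommRing R] [Algebra k R] [Algebra.FiniteType k R]
    [HopfRep.Comod k A R] [GLin.IsCoactAlg k A R]
    (hcl : ∀ x : R →ₐ[k] k, GLin.IsClosedOrbit k A x)
    (y : GLin.invariants k A R →ₐ[k] k) :
    (∃ x : R →ₐ[k] k, x.comp (GLin.invariants k A R).val = y) ∧
      ∀ x x' : R →ₐ[k] k, x.comp (GLin.invariants k A R).val = y →
        x'.comp (GLin.invariants k A R).val = y →
          ∃ g : A →ₐ[k] k, x' = GLin.actPt k g x := by
  refine ⟨?_, fun x x' hx hx' => ?_⟩
  · obtain ⟨x, -, hx⟩ := Groth.GitQuot.exists_point_over hG (I := (⊥ : Ideal R))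
      (by rw [Submodule.restrictScalars_bot]; exact Groth.ComodLib.isSubcomod_bot)
      (GLin.invariants k A R) (fun _ => Iff.rfl) y
      (fun f hf => by rw [show f = 0 from Subtype.ext ((Submodule.mem_bot R).1 hf), map_zero])
    exact ⟨x, AlgHom.ext hx⟩
  · have key : ∀ w z : R →ₐ[k] k, RingHom.ker (GLin.orbitHom k A w) ≤ RingHom.ker z →
        ∃ g : A →ₐ[k] k, z = GLin.actPt k g w := by
      intro w z hz
      have hp : (RingHom.ker z).IsPrime := RingHom.ker_isPrime z
      have hmem : (⟨RingHom.ker z, hp⟩ : PrimeSpectrum R) ∈
          closure (Set.range (PrimeSpectrum.comap (GLin.orbitHom k A w).toRingHom)) := by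
        rw [PrimeSpectrum.closure_range_comap]
        exact hz
      rw [(hcl w).closure_eq] at hmem
      obtain ⟨⟨Q, hQp⟩, hQ⟩ := hmem
      obtain ⟨g, hg⟩ := Groth.GitQuot.exists_point (k := k) Q hQp.ne_top
      refine ⟨g, AlgHom.ext fun f => ?_⟩
      have hm : f - algebraMap k R (z f) ∈ RingHom.ker z := by simp [RingHom.mem_ker]
      have hm' : f - algebraMap k R (z f) ∈
          (PrimeSpectrum.comap (GLin.orbitHom k A w).toRingHom ⟨Q, hQp⟩).asIdeal := by
        rw [hQ]; exact hm
      have h3 := RingHom.mem_ker.1 (hg hm')
      change g (GLin.orbitHom k A w (f - algebraMap k R (z f))) = 0 at h3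
      rw [map_sub, map_sub, AlgHom.commutes, AlgHom.commutes, sub_eq_zero] at h3
      exact h3.symm
    obtain ⟨z, h1, h2⟩ := Groth.GitQuot.exists_common_point hG x x' fun f hf =>
      (AlgHom.congr_fun hx ⟨f, hf⟩).trans (AlgHom.congr_fun hx' ⟨f, hf⟩).symm
    obtain ⟨g, rfl⟩ := key x z h1
    obtain ⟨g', hg'⟩ := key x' _ h2
    refine ⟨Groth.GitQuot.pointMul g (Groth.GitQuot.pointInv g'), AlgHom.ext fun f => ?_⟩
    rw [Groth.GitQuot.apply_actPt, ← Groth.GitQuot.act_act, ← Groth.GitQuot.apply_actPt, hg',
      Groth.GitQuot.apply_actPt, Groth.GitQuot.act_pointInv]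

end Groth.Agent.S19400
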