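import Groth.Statements.S19402
import Groth.Agent.GitQuot.Orbits
import Groth.Agent.InvTheory.EtaleInvariants

set_option autoImplicit false
universe u v w
open scoped Pointwise
open GLin

namespace Groth.Agent.S19402

open scoped Pointwise

namespace Aux

/-- functions on the group -/
def Ind (G R : Type u) : Type u := G → R

/-- a copy of the ring -/
def Copy (R : Type u) : Type u := R

variable (G R : Type u) [Group G] [CommRing R] [MulSemiringAction G R]

instance : CommRing (Ind G R) := inferInstanceAs (CommRing (G → R))
instance : CommRing (Copy R) := inferInstanceAs (CommRing R)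

instance : MulSemiringAction G (Ind G R) where
  smul g f := fun h => (f : G → R) (h * g)
  one_smul f := funext fun h => congrArg (f : G → R) (mul_one h)
  mul_smul a b f := funext fun h => congrArg (f : G → R) (mul_assoc h a b).symm
  smul_zero _ := rfl
  smul_add _ _ _ := rfl
  smul_one _ := rfl
  smul_mul _ _ _ := rfl

theorem smul_apply (g : G) (f : Ind G R) (h : G) : (g • f : Ind G R) h = (f : G → R) (h * g) := rfl

/-- the orbit map -/
def orb : R →+* Ind G R where
  toFun r := fun h => h • r
  map_one' := funext fun h => smul_one h
  map_mul' a b := funext fun h => smul_mul' h a b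
  map_zero' := funext fun h => smul_zero h
  map_add' a b := funext fun h => smul_add h a b

/-- the constants -/
def const : Copy R →+* Ind G R where
  toFun r := fun _ => r
  map_one' := rfl
  map_mul' _ _ := rfl
  map_zero' := rfl
  map_add' _ _ := rfl

theorem isEtaleAt_of_trivial (k : Type*) (B : Type u) [Field k] [Algebra k R] [Algebra.FiniteType k R]
    [CommRing B] [Algebra k B] [Algebra B R] [IsScalarTower k B R] [FaithfulSMul B R] [Finite G]
    [SMulCommClass G B R] [Algebra.IsInvariant B R G] [SMulCommClass G k R]
    (m : Ideal R) [m.IsMaximal] (hst : ∀ g : G, g • m = m → g = 1) : Algebra.IsEtaleAt B m := by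
  classical
  have : Algebra.FiniteType B R := Algebra.FiniteType.of_restrictScalars_finiteType k B R
  have : Algebra.IsIntegral B R := Algebra.IsInvariant.isIntegral B R G
  have hfin : Module.Finite B R := Algebra.IsIntegral.finite
  have hinj : Function.Injective (algebraMap B R) := FaithfulSMul.algebraMap_injective B R
  have : IsNoetherianRing B := by
    have h : (⊤ : Subalgebra k B).FG := fg_of_fg_of_fg k B R Algebra.FiniteType.out hfin.fg_top hinj
    have : Algebra.FiniteType k B := ⟨h⟩
    exact Algebra.FiniteType.isNoetherianRing k B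
  let : Algebra B (Copy R) := inferInstanceAs (Algebra B R)
  have : Algebra.FiniteType B (Copy R) := ‹Algebra.FiniteType B R›
  have : IsNoetherianRing (Copy R) := Algebra.FiniteType.isNoetherianRing k R
  let : Algebra R (Ind G R) := (orb G R).toAlgebra
  let : Algebra (Copy R) (Ind G R) := (const G R).toAlgebra
  let : Algebra B (Ind G R) := ((orb G R).comp (algebraMap B R)).toAlgebra
  have : IsScalarTower B R (Ind G R) := .of_algebraMap_eq fun _ => rfl
  have : IsScalarTower B (Copy R) (Ind G R) := .of_algebraMap_eq fun b => funext fun h => smul_algebraMap h b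
  let e : (G → R) ≃ₐ[R] Ind G R :=
    { toFun := fun f => fun h => h • f h
      invFun := fun f => fun h => h⁻¹ • (f : G → R) h
      left_inv := fun f => funext fun h => inv_smul_smul h (f h)
      right_inv := fun f => funext fun h => smul_inv_smul h ((f : G → R) h)
      map_mul' := fun a b => funext fun h => smul_mul' h (a h) (b h)
      map_add' := fun a b => funext fun h => smul_add h (a h) (b h)
      commutes' := fun r => rfl }
  have : Algebra.Etale R (Ind G R) := Algebra.Etale.of_equiv e
  have : Algebra.FiniteType R (Ind G R) := inferInstance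
  have : Module.Finite (Copy R) (Ind G R) := inferInstanceAs (Module.Finite R (G → R))
  have : SMulCommClass G (Copy R) (Ind G R) := ⟨fun g c f => by
    rw [Algebra.smul_def, Algebra.smul_def]
    rfl⟩
  have : Algebra.IsInvariant (Copy R) (Ind G R) G := ⟨fun f hf => ⟨(f : G → R) 1, funext fun h => by
    have := congrFun (hf h) 1
    rw [smul_apply, one_mul] at this
    exact this.symm⟩⟩
  let ev : Ind G R →+* R := Pi.evalRingHom (fun _ : G => R) 1
  let x : Ideal (Ind G R) := Ideal.comap ev m
  have hx' : x.IsPrime := Ideal.IsPrime.comap _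
  have hG : ∀ (g : G) (r : R), algebraMap R (Ind G R) (g • r) = g • algebraMap R (Ind G R) r :=
    fun g r => funext fun h => (mul_smul h g r).symm
  have hxm : x.comap (algebraMap R (Ind G R)) = m := by
    ext r
    change (1 : G) • r ∈ m ↔ r ∈ m
    rw [one_smul]
  have hin : x.inertia G = (x.comap (algebraMap R (Ind G R))).inertia G := by
    rw [hxm]
    have h1 : x.inertia G = ⊥ := (Subgroup.eq_bot_iff_forall _).2 fun g hg => by
      by_contra hne
      have h : (1 : R) ∈ m := by
        have h' : (if (1 : G) * g = g then (1 : R) else 0) - (if (1 : G) = g then 1 else 0) ∈ m :=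
          AddSubgroup.mem_inertia.1 hg (show Ind G R from fun h => if h = g then 1 else 0)
        rwa [if_pos (one_mul g), if_neg (Ne.symm hne), sub_zero] at h'
      exact (inferInstance : m.IsMaximal).ne_top ((Ideal.eq_top_iff_one _).2 h)
    have h2 : m.inertia G = ⊥ := (Subgroup.eq_bot_iff_forall _).2 fun g hg => hst g (Ideal.ext fun r => by
      have h := AddSubgroup.mem_inertia.1 hg (g⁻¹ • r)
      rw [smul_inv_smul] at h
      rw [Ideal.mem_pointwise_smul_iff_inv_smul_mem]
      refine ⟨fun hr => ?_, fun hr => ?_⟩
      · simpa using m.add_mem h hr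
      · simpa using m.sub_mem hr h)
    rw [h1, h2]
  have key := Groth.InvTheory.EtInv.isEtaleAt_invariants (T := B) (S := Copy R) (B := R) (A := Ind G R) (G := G)
    hG hinj (fun a b h => congrFun h 1) x inferInstance hin
  have e1 : x.comap (algebraMap (Copy R) (Ind G R)) = m := rfl
  simp only [e1] at key
  exact key

theorem trivial_of_isEtaleAt (B : Type u) [CommRing B] [Algebra B R] [Algebra.EssFiniteType B R]
    [IsNoetherianRing R] [IsDomain R] [SMulCommClass G B R] [FaithfulSMul G R]
    (k : Type*) [Field k] [Algebra k R] [SMulCommClass G k R]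
    (m : Ideal R) [m.IsMaximal] (hres : ∀ r : R, ∃ c : k, r - algebraMap k R c ∈ m)
    [Algebra.IsUnramifiedAt B m] {g : G} (hg : g • m = m) : g = 1 := by
  let n := m.under B
  have hov : m.LiesOver n := ⟨rfl⟩
  let := Localization.AtPrime.algebraOfLiesOver n m
  have hmap := ((Algebra.isUnramifiedAt_iff_map_eq B n m).1 inferInstance).2
  rw [IsScalarTower.algebraMap_eq B R (Localization.AtPrime m), ← Ideal.map_map] at hmap
  have hgm : ∀ r, r ∈ m → g • r ∈ m := fun r hr => hg ▸ Ideal.smul_mem_pointwise_smul g r m hr
  have key : ∀ j : ℕ, ∀ r : R, g • r - r ∈ m ^ j := by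
    intro j
    induction j with
    | zero => intro r; simp
    | succ j ih =>
      have hsm : ∀ a ∈ m, g • a - a ∈ m ^ (j + 1) := by
        intro a ha
        have ha' : algebraMap R (Localization.AtPrime m) a ∈ (n.map (algebraMap B R)).map (algebraMap R _) := by
          rw [hmap]
          exact (IsLocalization.AtPrime.to_map_mem_maximal_iff (Localization.AtPrime m) m a).2 ha
        obtain ⟨s, hs, hsa⟩ := (IsLocalization.algebraMap_mem_map_algebraMap_iff m.primeCompl _ _ _).1 ha'
        have h1 : ∀ z ∈ n.map (algebraMap B R), g • z - z ∈ m ^ (j + 1) := by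
          intro z hz
          induction hz using Submodule.span_induction with
          | mem z hz =>
            obtain ⟨b, -, rfl⟩ := hz
            rw [smul_algebraMap, sub_self]; exact zero_mem _
          | zero => simp
          | add u v _ _ hu hv => rw [smul_add, add_sub_add_comm]; exact add_mem hu hv
          | smul c z hz' hz =>
            rw [smul_eq_mul, smul_mul', show g • c * g • z - c * z = g • c * (g • z - z) + (g • c - c) * z by ring]
            refine add_mem (Ideal.mul_mem_left _ _ hz) ?_
            rw [pow_succ]
            exact Ideal.mul_mem_mul (ih c) ((Ideal.map_le_iff_le_comap.2 le_rfl) hz')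
        have h2 := h1 _ hsa
        rw [smul_mul', show g • s * g • a - s * a = g • s * (g • a - a) + (g • s - s) * a by ring] at h2
        have h3 : (g • s - s) * a ∈ m ^ (j + 1) := by rw [pow_succ]; exact Ideal.mul_mem_mul (ih s) ha
        have h4 := (Submodule.add_mem_iff_left _ h3).1 h2
        have hgs : g • s ∉ m := fun h => hs (by
          have h' := Ideal.smul_mem_pointwise_smul g⁻¹ (g • s) m h
          rwa [inv_smul_smul, (inv_smul_eq_iff.2 hg.symm : g⁻¹ • m = m)] at h')
        have hrad : (m ^ (j + 1)).radical = m := by
          rw [Ideal.radical_pow _ (Nat.succ_ne_zero j), Ideal.IsPrime.radical inferInstance]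
        have hprim := (Ideal.isPrimary_iff.1 (Ideal.isPrimary_of_isMaximal_radical
          (show (m ^ (j + 1)).radical.IsMaximal from hrad.symm ▸ inferInstance))).2
          (show (g • a - a) * g • s ∈ m ^ (j + 1) by rw [mul_comm]; exact h4)
        exact hprim.resolve_right fun h => hgs (hrad ▸ h)
      intro r
      obtain ⟨c, hc⟩ := hres r
      have := hsm _ hc
      rwa [smul_sub, smul_algebraMap, sub_sub_sub_cancel_right] at this
  refine eq_of_smul_eq_smul (α := R) fun r => ?_
  rw [one_smul, ← sub_eq_zero]
  have : g • r - r ∈ ⨅ j : ℕ, m ^ j := Submodule.mem_iInf _ |>.2 fun j => key j r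
  rwa [Ideal.iInf_pow_eq_bot_of_isDomain m (inferInstance : m.IsMaximal).ne_top, Submodule.mem_bot] at this

end Aux


/-- Let k be an algebraically closed field of characteristic zero, R a finitely generated commutative
k-algebra which is an integrally closed domain (a normal irreducible affine variety X), and G a
finite group acting faithfully on R by k-algebra automorphisms. Let B be a commutative k-algebra
with an injective algebra map B → R, compatible with the k-structures and G-invariant, whose image
is exactly the subring of G-invariants (so Spec R → Spec B is the quotient morphism X → X/G). Then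
for a maximal ideal m of R (a closed point x of X), R is étale over B at m (the local ring R_m is
formally étale over B) if and only if the stabilizer of m in G is trivial. -/
theorem result (k : Type u) [Field k] [IsAlgClosed k] [CharZero k]
    (R : Type v) [CommRing R] [IsDomain R] [IsIntegrallyClosed R] [Algebra k R] [Algebra.FiniteType k R]
    (G : Type w) [Group G] [Finite G] [MulSemiringAction G R] [FaithfulSMul G R] [SMulCommClass G k R]
    (B : Type v) [CommRing B] [Algebra k B] [Algebra B R] [IsScalarTower k B R] [FaithfulSMul B R]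
    [SMulCommClass G B R] [Algebra.IsInvariant B R G]
    (m : Ideal R) [m.IsMaximal] :
    Algebra.IsEtaleAt B m ↔ MulAction.stabilizer G m = ⊥ := by
  classical
  let φ := MulSemiringAction.toRingAut G R
  have hφ : ∀ (g : G) (r : R), φ g r = g • r := fun _ _ => rfl
  let H : Subgroup (R ≃+* R) := φ.range
  have : Finite H := Finite.of_surjective (φ.rangeRestrict) φ.rangeRestrict_surjective
  have hH : ∀ σ : H, ∃ g : G, ∀ r : R, σ • r = g • r := by
    rintro ⟨_, g, rfl⟩
    exact ⟨g, fun r => rfl⟩
  have : SMulCommClass H k R := ⟨fun σ c r => by obtain ⟨g, hg⟩ := hH σ; rw [hg, hg]; exact smul_comm g c r⟩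
  have : SMulCommClass H B R := ⟨fun σ c r => by obtain ⟨g, hg⟩ := hH σ; rw [hg, hg]; exact smul_comm g c r⟩
  have : Algebra.IsInvariant B R H := ⟨fun r hr => Algebra.IsInvariant.isInvariant (G := G) r fun g =>
    hr ⟨φ g, g, rfl⟩⟩
  have hsm : ∀ (σ : H) (g : G), (∀ r : R, σ • r = g • r) → σ • m = g • m := fun σ g h => Ideal.ext fun r => by
    refine Iff.trans (Ideal.mem_pointwise_smul_iff_inv_smul_mem (M := H) (a := σ)) ?_
    refine Iff.trans ?_ (Ideal.mem_pointwise_smul_iff_inv_smul_mem (M := G) (a := g)).symm
    suffices σ⁻¹ • r = g⁻¹ • r by rw [this]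
    rw [inv_smul_eq_iff, h, smul_inv_smul]
  constructor
  · intro het
    refine (Subgroup.eq_bot_iff_forall _).2 fun g hg => ?_
    have hfin : Algebra.FiniteType B R := Algebra.FiniteType.of_restrictScalars_finiteType k B R
    have : IsNoetherianRing R := Algebra.FiniteType.isNoetherianRing k R
    have : FaithfulSMul H R := ⟨fun {a b} h => Subtype.ext (RingEquiv.ext h)⟩
    have hres : ∀ r : R, ∃ c : k, r - algebraMap k R c ∈ m := by
      intro r
      obtain ⟨x, hx⟩ := GitQuot.exists_point (k := k) m (inferInstance : m.IsMaximal).ne_top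
      refine ⟨x r, ?_⟩
      rw [(inferInstance : m.IsMaximal).eq_of_le (RingHom.ker_ne_top x) hx]
      simp [RingHom.mem_ker]
    have hgm : (⟨φ g, g, rfl⟩ : H) • m = m :=
      (hsm _ g fun r => rfl).trans (MulAction.mem_stabilizer_iff.1 hg)
    have h1 := Aux.trivial_of_isEtaleAt H R B k m hres hgm
    refine eq_of_smul_eq_smul (α := R) fun r => ?_
    rw [one_smul]
    exact congrArg (fun σ : H => σ • r) h1
  · intro hst
    refine Aux.isEtaleAt_of_trivial H R k B m fun σ hσ => ?_
    obtain ⟨g, hg⟩ := hH σ
    have hgm : g • m = m := (hsm σ g hg).symm.trans hσ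
    have : g = 1 := (Subgroup.eq_bot_iff_forall _).1 hst g (MulAction.mem_stabilizer_iff.2 hgm)
    refine eq_of_smul_eq_smul (α := R) fun r => ?_
    rw [hg, this, one_smul, one_smul]

end Groth.Agent.S19402
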