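import Groth.Statements.S19403
import Groth.Agent.Hopf.Luna.Orbit
import Groth.Agent.Hopf.SmoothHopf
import Groth.Agent.Calg4.SmoothReduced
import Mathlib.RingTheory.ZariskisMainTheorem
import Mathlib.AlgebraicGeometry.Morphisms.OpenImmersion

set_option autoImplicit false
universe u
open TensorProduct
open GLin
open CategoryTheory

namespace Groth.Agent.S19403

open Groth.ComodLib

theorem slice_mem_of_points {k A V : Type u} [Field k] [IsAlgClosed k] [CommRing A] [Algebra k A]
    [Algebra.FiniteType k A] [IsReduced A] [AddCommGroup V] [Module k V] (U : Submodule k V) (z : V ⊗[k] A)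
    (h : ∀ g : A →ₐ[k] k, slice g.toLinearMap z ∈ U) (φ : A →ₗ[k] k) : slice φ z ∈ U := by
  have hz : U.mkQ.rTensor A z = 0 := by
    refine Groth.ComodLib.eq_zero_of_lslice fun ψ => ?_
    refine IsReduced.eq_zero _ (GitQuot.isNilpotent_of_forall_point (k := k) _ fun g => ?_)
    have h1 := apply_lslice g.toLinearMap ψ (U.mkQ.rTensor A z)
    rw [AlgHom.toLinearMap_apply, slice_rTensor, Submodule.mkQ_apply, (Submodule.Quotient.mk_eq_zero U).2 (h g),
      map_zero] at h1
    exact h1
  rw [← Submodule.Quotient.mk_eq_zero U, ← Submodule.mkQ_apply, ← slice_rTensor, hz, map_zero]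


/-- The equivariant form of Zariski's Main Theorem. Let k be an algebraically closed field of
characteristic zero, A a finitely generated commutative Hopf algebra over k all of whose
finite-dimensional comodules are semisimple (a reductive group G), R and S finitely generated
commutative k-algebras with multiplicative A-coactions (G acting on the affine schemes X = Spec R, Y
= Spec S), and S → R an algebra map compatible with the coactions (a G-morphism φ : X → Y) which is
quasi-finite. Then there exist a finitely generated commutative k-algebra B with a multiplicative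
A-coaction (an affine G-scheme Z), an algebra map ψ : S → B compatible with the coactions and
finite, and an algebra map i : B → R compatible with the coactions such that Spec R → Spec B is an
open immersion, with i ∘ ψ the given map S → R (φ factors as an equivariant open immersion followed
by a finite G-morphism). -/
theorem result (k : Type u) [Field k] [IsAlgClosed k] [CharZero k]
    (A : Type u) [CommRing A] [HopfAlgebra k A] [Algebra.FiniteType k A] (hG : HopfRep.IsLinearlyReductive k A)
    (S : Type u) [CommRing S] [Algebra k S] [Algebra.FiniteType k S] [HopfRep.Comod k A S] [GLin.IsCoactAlg k A S]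
    (R : Type u) [CommRing R] [Algebra k R] [Algebra.FiniteType k R] [HopfRep.Comod k A R] [GLin.IsCoactAlg k A R]
    [Algebra S R] [IsScalarTower k S R] [Algebra.QuasiFinite S R]
    (hequiv : (∀ s : S, HopfRep.Comod.coact (k := k) (A := A) (algebraMap S R s) =
      Algebra.TensorProduct.map (IsScalarTower.toAlgHom k S R) (AlgHom.id k A) (HopfRep.Comod.coact (k := k) (A := A) s))) :
    ∃ (B : Type u) (_ : CommRing B) (_ : Algebra k B) (_ : HopfRep.Comod k A B) (_ : GLin.IsCoactAlg k A B),
      Algebra.FiniteType k B ∧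
      ∃ (ψ : S →ₐ[k] B) (i : B →ₐ[k] R),
        (∀ s : S, HopfRep.Comod.coact (k := k) (A := A) (ψ s) =
        Algebra.TensorProduct.map ψ (AlgHom.id k A) (HopfRep.Comod.coact (k := k) (A := A) s)) ∧
        (∀ s : B, HopfRep.Comod.coact (k := k) (A := A) (i s) =
        Algebra.TensorProduct.map i (AlgHom.id k A) (HopfRep.Comod.coact (k := k) (A := A) s)) ∧
        i.comp ψ = IsScalarTower.toAlgHom k S R ∧ ψ.toRingHom.Finite ∧
        AlgebraicGeometry.IsOpenImmersion (AlgebraicGeometry.Spec.map (CommRingCat.ofHom i.toRingHom)) := by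
  classical
  have hred : IsReduced A := by
    have := Groth.ComodLib.smooth_of_hopfAlgebra_charZero k A
    exact Calg4.isReduced_of_smooth_field k A
  let θ := IsScalarTower.toAlgHom k S R
  have hθ : Hoch.IsComodHom A θ.toLinearMap := Luna.isComodHom_of_equiv θ hequiv
  have hact : ∀ (g : A →ₐ[k] k) (s : S), Luna.actAlg g (algebraMap S R s) = algebraMap S R (Luna.actAlg g s) :=
    fun g s => ((isComodHom_op hθ g.toLinearMap s)).symm
  have : Algebra.FiniteType S R := Algebra.FiniteType.of_restrictScalars_finiteType k S R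
  -- the integral elements form a subcomodule
  let C : Submodule k R := ((integralClosure S R).restrictScalars k).toSubmodule
  have hC : HopfRep.IsSubcomod (k := k) (A := A) C := by
    refine (isSubcomod_iff C).2 fun φ a ha => ?_
    rw [op_apply]
    refine slice_mem_of_points C _ (fun g => ?_) φ
    obtain ⟨p, hp, hpa⟩ := (ha : IsIntegral S a)
    refine ⟨p.map (Luna.actAlg g).toRingHom, hp.map _, ?_⟩
    have e : (Luna.actAlg (R := R) g).toRingHom.comp (algebraMap S R) =
        (algebraMap S R).comp (Luna.actAlg g).toRingHom := RingHom.ext fun s => hact g s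
    rw [Polynomial.eval₂_map, ← e]
    change Polynomial.eval₂ _ ((Luna.actAlg (R := R) g).toRingHom a) p = 0
    rw [← Polynomial.hom_eval₂, hpa, map_zero]
  -- Zariski's main theorem
  obtain ⟨s, hs⟩ := Algebra.FiniteType.out (R := S) (A := R)
  have hz : ∀ p : PrimeSpectrum R, ∃ r : R, r ∉ p.asIdeal ∧ IsIntegral S r ∧ ∀ x, ∃ n, IsIntegral S (r ^ n * x) := by
    intro p
    exact Algebra.zariskisMainProperty_iff.1 (Algebra.ZariskisMainProperty.of_finiteType p.asIdeal)
  choose r hr hri hrm using hz
  choose nn hnn using hrm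
  have hspan : Ideal.span (Set.range r) = ⊤ := by
    by_contra hne
    obtain ⟨M, hM, hle⟩ := Ideal.exists_le_maximal _ hne
    exact hr ⟨M, hM.isPrime⟩ (hle (Ideal.subset_span ⟨_, rfl⟩))
  obtain ⟨t, ht, ht1⟩ := Submodule.mem_span_finite_of_mem_span ((Ideal.eq_top_iff_one _).1 hspan)
  choose idx hidx using fun i : t => ht i.2
  let F : Set R := (t : Set R) ∪ ⋃ i : t, (fun x => i.1 ^ nn (idx i) x * x) '' (s : Set R)
  have hFfin : F.Finite := t.finite_toSet.union (Set.finite_iUnion fun i => s.finite_toSet.image _)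
  have hFC : F ⊆ C := by
    rintro a (ha | ha)
    · have h1 := hri (idx ⟨a, ha⟩)
      rwa [hidx ⟨a, ha⟩] at h1
    · obtain ⟨i, x, -, rfl⟩ := Set.mem_iUnion.1 ha
      have h1 := hnn (idx i) x
      rwa [hidx i] at h1
  let W : Submodule k R := ⨆ a ∈ F, gen (k := k) A a
  have hWC : W ≤ C := iSup₂_le fun a ha => gen_le hC (hFC ha)
  have hWsub : HopfRep.IsSubcomod (k := k) (A := A) W := isSubcomod_iSup _ fun a => isSubcomod_iSup _ fun _ => isSubcomod_gen a
  have hWfg : W.FG := by
    have : Finite F := hFfin.to_subtype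
    rw [show W = ⨆ a : F, gen (k := k) A a.1 from (iSup_subtype' (f := fun a (_ : a ∈ F) => gen (k := k) A a))]
    exact Submodule.fg_iSup _ fun a => (Module.Finite.iff_fg).1 (finite_gen (a.1 : R))
  obtain ⟨w, hw⟩ := hWfg
  let B : Subalgebra S R := Algebra.adjoin S (W : Set R)
  have hB : B = Algebra.adjoin S (w : Set R) := by
    refine le_antisymm (Algebra.adjoin_le fun a ha => ?_) (Algebra.adjoin_mono (by rw [← hw]; exact Submodule.subset_span))
    have hsub : W ≤ ((Algebra.adjoin S (w : Set R)).restrictScalars k).toSubmodule := by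
      rw [← hw]; exact Submodule.span_le.2 Algebra.subset_adjoin
    exact hsub ha
  have hBfin : Module.Finite S B := by
    rw [hB]
    exact ⟨(Submodule.fg_top _).2 (fg_adjoin_of_finite w.finite_toSet fun a ha => hWC (hw ▸ Submodule.subset_span ha))⟩
  -- stability
  let B₀ : Subalgebra k R := B.restrictScalars k
  have hB₀ : HopfRep.IsSubcomod (k := k) (A := A) B₀.toSubmodule := by
    refine (isSubcomod_iff _).2 fun φ a ha => ?_
    rw [op_apply]
    refine slice_mem_of_points _ _ (fun g => ?_) φ
    change Luna.actAlg g a ∈ B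
    replace ha : a ∈ B := ha
    induction ha using Algebra.adjoin_induction with
    | mem x hx => exact Algebra.subset_adjoin ((isSubcomod_iff _).1 hWsub _ x hx)
    | algebraMap c => rw [hact]; exact B.algebraMap_mem _
    | add x y _ _ hx hy => rw [map_add]; exact add_mem hx hy
    | mul x y _ _ hx hy => rw [map_mul]; exact mul_mem hx hy
  have hFB : F ⊆ B := fun a ha => Algebra.subset_adjoin (Submodule.mem_iSup_of_mem a (Submodule.mem_iSup_of_mem ha (mem_gen_self a)))
  -- the comodule algebra
  let cB : HopfRep.Comod k A B₀ := ComodSub.Comod.restr inferInstance B₀.toSubmodule hB₀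
  have hcB : ∀ a : B₀, Algebra.TensorProduct.map B₀.val (AlgHom.id k A) (cB.coact a) =
      HopfRep.Comod.coact (k := k) (A := A) (a : R) := fun a =>
    ComodSub.restr_coact_coe _ B₀.toSubmodule hB₀ a
  have hinjB : Function.Injective (Algebra.TensorProduct.map B₀.val (AlgHom.id k A)) :=
    ComodSub.rTensor_subtype_injective (A := A) B₀.toSubmodule
  have hcoB : @GLin.IsCoactAlg k _ A _ _ B₀ _ _ cB := by
    refine @GLin.IsCoactAlg.mk k _ A _ _ B₀ _ _ cB (hinjB ?_) (fun f g => hinjB ?_)
    · rw [hcB, map_one, Subalgebra.coe_one, GLin.IsCoactAlg.coact_one (k := k) (A := A) (R := R)]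
    · rw [hcB, map_mul, hcB, hcB, Subalgebra.coe_mul, GLin.IsCoactAlg.coact_mul]
  let ψ : S →ₐ[k] B₀ := θ.codRestrict B₀ fun s => B.algebraMap_mem s
  have hψfin : ψ.toRingHom.Finite := (RingHom.finite_algebraMap.2 hBfin : (algebraMap S B).Finite)
  have hft : Algebra.FiniteType k B₀ :=
    (Algebra.FiniteType.trans (R := k) (S := S) (A := B) inferInstance inferInstance :)
  refine ⟨B₀, inferInstance, inferInstance, cB, hcoB, hft, ψ, B₀.val, fun s => hinjB ?_, fun a => (hcB a).symm,
    AlgHom.ext fun _ => rfl, hψfin, ?_⟩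
  · refine (hcB (ψ s)).trans ?_
    change HopfRep.Comod.coact (k := k) (A := A) (algebraMap S R s) = _
    rw [hequiv]
    induction HopfRep.Comod.coact (k := k) (A := A) s using TensorProduct.induction_on with
    | zero => simp
    | tmul p q => rfl
    | add p q hp hq => simp only [map_add, hp, hq]
  -- the open immersion
  have hmul : ∀ (i : t) (x : R), ∃ n, i.1 ^ n * x ∈ B := by
    intro i x
    have hx : x ∈ Algebra.adjoin S (s : Set R) := hs ▸ Algebra.mem_top
    induction hx using Algebra.adjoin_induction with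
    | mem y hy => exact ⟨_, hFB (Or.inr (Set.mem_iUnion.2 ⟨i, y, hy, rfl⟩))⟩
    | algebraMap c => exact ⟨0, by simpa using B.algebraMap_mem c⟩
    | add y z _ _ hy hz =>
      obtain ⟨a, ha⟩ := hy
      obtain ⟨b, hb⟩ := hz
      refine ⟨a + b, ?_⟩
      rw [show i.1 ^ (a + b) * (y + z) = i.1 ^ b * (i.1 ^ a * y) + i.1 ^ a * (i.1 ^ b * z) by ring]
      exact add_mem (mul_mem (pow_mem (hFB (Or.inl i.2)) _) ha) (mul_mem (pow_mem (hFB (Or.inl i.2)) _) hb)
    | mul y z _ _ hy hz =>
      obtain ⟨a, ha⟩ := hy
      obtain ⟨b, hb⟩ := hz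
      refine ⟨a + b, ?_⟩
      rw [show i.1 ^ (a + b) * (y * z) = (i.1 ^ a * y) * (i.1 ^ b * z) by ring]
      exact mul_mem ha hb
  have ht' : Ideal.span (Set.range (fun i : t => (i.1 : R))) = ⊤ := by
    rw [Ideal.eq_top_iff_one, Subtype.range_coe_subtype]
    exact ht1
  have hnot : ∀ p : PrimeSpectrum R, ∃ i : t, i.1 ∉ p.asIdeal := by
    intro p
    by_contra hno
    push Not at hno
    exact p.isPrime.ne_top (top_unique (ht' ▸ Ideal.span_le.2 (by rintro _ ⟨i, rfl⟩; exact hno i)))
  have hinj : Function.Injective (PrimeSpectrum.comap B₀.val.toRingHom) := by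
    have key : ∀ p q : PrimeSpectrum R, PrimeSpectrum.comap B₀.val.toRingHom p = PrimeSpectrum.comap B₀.val.toRingHom q →
        p.asIdeal ≤ q.asIdeal := by
      intro p q hpq a ha
      obtain ⟨i, hi⟩ := hnot q
      obtain ⟨n, hn⟩ := hmul i a
      have h1 : (⟨i.1 ^ n * a, hn⟩ : B₀) ∈ (PrimeSpectrum.comap B₀.val.toRingHom q).asIdeal := by
        rw [← hpq]; exact Ideal.mul_mem_left _ _ ha
      exact (q.isPrime.mem_or_mem h1).resolve_left fun h => hi (q.isPrime.mem_of_pow_mem n h)
    exact fun p q hpq => PrimeSpectrum.ext (le_antisymm (key p q hpq) (key q p hpq.symm))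
  let 𝒰 := (AlgebraicGeometry.Scheme.affineOpenCoverOfSpanRangeEqTop (R := CommRingCat.of R) (fun i : t => (i.1 : R)) ht').openCover
  refine AlgebraicGeometry.IsOpenImmersion.of_openCover_source _ 𝒰 hinj fun i => ?_
  let L := Localization.Away ((i : t).1 : R)
  let : Algebra B₀ L := ((algebraMap R L).comp B₀.val.toRingHom).toAlgebra
  have : IsLocalization.Away (⟨(i : t).1, hFB (Or.inl (i : t).2)⟩ : B₀) L := by
    refine { map_units := ?_, surj := ?_, exists_of_eq := ?_ }
    · rintro ⟨_, n, rfl⟩
      exact IsLocalization.map_units L (⟨(i : t).1 ^ n, n, rfl⟩ : Submonoid.powers ((i : t).1 : R))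
    · intro z
      obtain ⟨a, ⟨_, m, rfl⟩, rfl⟩ := IsLocalization.exists_mk'_eq (Submonoid.powers ((i : t).1 : R)) z
      obtain ⟨n, hn⟩ := hmul i a
      refine ⟨(⟨_, hn⟩, ⟨_, n + m, rfl⟩), ?_⟩
      change IsLocalization.mk' L a _ * algebraMap R L ((i : t).1 ^ (n + m)) = algebraMap R L ((i : t).1 ^ n * a)
      rw [pow_add, map_mul, map_mul, mul_left_comm, IsLocalization.mk'_spec]
    · intro a b h
      obtain ⟨⟨_, n, rfl⟩, hc⟩ := IsLocalization.exists_of_eq (M := Submonoid.powers ((i : t).1 : R)) (S := L) h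
      exact ⟨⟨_, n, rfl⟩, Subtype.ext hc⟩
  change AlgebraicGeometry.IsOpenImmersion (AlgebraicGeometry.Spec.map (CommRingCat.ofHom (algebraMap R L)) ≫
    AlgebraicGeometry.Spec.map (CommRingCat.ofHom B₀.val.toRingHom))
  rw [← AlgebraicGeometry.Spec.map_comp, ← CommRingCat.ofHom_comp]
  exact AlgebraicGeometry.IsOpenImmersion.of_isLocalization (R := B₀) (S := L) ⟨(i : t).1, hFB (Or.inl (i : t).2)⟩

end Groth.Agent.S19403
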