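import Groth.Statements.S19404
import Groth.Agent.Hopf.Luna.PolyModel
import Groth.Agent.Hopf.Luna.AlgComod
import Groth.Agent.Hopf.Luna.Splitting
import Groth.Agent.Hopf.Luna.FibAction
import Groth.Agent.Hopf.Luna.StabNbhd
import Groth.Agent.Hopf.Luna.OrbitSmooth

set_option autoImplicit false
universe u
open TensorProduct
open GLin

namespace Groth.Agent.S19404

open Groth Groth.ComodLib

theorem aux {k : Type u} [Field k] [IsAlgClosed k] [CharZero k]
    {A : Type u} [CommRing A] [IsDomain A] [HopfAlgebra k A] [Algebra.FiniteType k A] (hG : HopfRep.IsLinearlyReductive k A)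
    {R : Type u} [CommRing R] [Algebra k R] [Algebra.FiniteType k R] [HopfRep.Comod k A R] [GLin.IsCoactAlg k A R]
    (x : R →ₐ[k] k) (hx : GLin.IsClosedOrbit k A x)
    {ι : Type u} [Fintype ι] [DecidableEq ι] (M : Matrix ι ι A) (hM : IsComultMat k M) (y : ι → R)
    (hy : ∀ i, HopfRep.Comod.coact (k := k) (A := A) (y i) = ∑ j, y j ⊗ₜ[k] M j i)
    {B : Type u} [CommRing B] [Algebra k B] [Algebra.FiniteType k B] [Algebra.Smooth k B]
    [HopfRep.Comod k A B] [GLin.IsCoactAlg k A B]
    (mkB : R →ₐ[k] B) (hs : Function.Surjective mkB) (hmkB : Hoch.IsComodHom A mkB.toLinearMap)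
    (hkill : ∀ r ∈ RingHom.ker (GLin.orbitHom k A x), mkB r = 0)
    (xB : B →ₐ[k] k) (hxB : ∀ r, xB (mkB r) = x r) (hgen : Algebra.adjoin k (Set.range y) = ⊤) :
    ∃ f ∈ HopfRep.fixedPts k A R, x f ≠ 0 ∧ ∀ w : R →ₐ[k] k, w f ≠ 0 →
      ∃ g : A →ₐ[k] k, GLin.stabIdeal k A x ≤ GLin.stabIdeal k A (GLin.actPt k g w) := by
  classical
  let xb : ι → B := fun i => mkB (y i)
  have hgenB : Algebra.adjoin k (Set.range xb) = ⊤ := by
    rw [show Set.range xb = mkB '' Set.range y from Set.range_comp mkB y, ← AlgHom.map_adjoin, hgen,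
      Algebra.map_top, AlgHom.range_eq_top]
    exact hs
  have hxb : ∀ i, HopfRep.Comod.coact (k := k) (A := A) (xb i) = ∑ j, xb j ⊗ₜ[k] M j i := fun i => by
    rw [show HopfRep.Comod.coact (k := k) (A := A) (xb i) =
      mkB.toLinearMap.rTensor A (HopfRep.Comod.coact (k := k) (A := A) (y i)) from LinearMap.congr_fun hmkB (y i), hy,
      map_sum]
    rfl
  obtain ⟨τ, hτD, hτeq⟩ := Luna.exists_equivariant_splitting hG xb hgenB M hM hxb
  let := Luna.comodTensor k A R B
  have : GLin.IsCoactAlg k A (R ⊗[k] B) := Luna.isCoactAlg_comodTensor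
  have : Algebra.FiniteType k (R ⊗[k] B) := Algebra.FiniteType.trans (S := R) inferInstance inferInstance
  have hI := Luna.isSubcomod_fibIdeal M xb τ y hy hxb hτeq
  let := Luna.comodQuot (Luna.fibIdeal xb τ y) hI
  have : GLin.IsCoactAlg k A (Luna.FibAlg xb τ y) := Luna.isCoactAlg_comodQuot _ hI
  have : Algebra.FiniteType k (Luna.FibAlg xb τ y) :=
    Algebra.FiniteType.of_surjective (Ideal.Quotient.mkₐ k _) (Ideal.Quotient.mkₐ_surjective k _)
  let mkZ := Ideal.Quotient.mkₐ k (Luna.fibIdeal xb τ y)
  have hmkZ : Hoch.IsComodHom A mkZ.toLinearMap := Luna.isComodHom_mk _ hI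
  let iR : B →ₐ[k] R ⊗[k] B := Algebra.TensorProduct.includeRight
  let p : R →ₐ[k] Luna.FibAlg xb τ y := (mkZ.comp iR).comp mkB
  have hθ : Hoch.IsComodHom A (IsScalarTower.toAlgHom k R (Luna.FibAlg xb τ y)).toLinearMap :=
    (ComodLib.isComodHom_iff _).2 fun φ r => by
      change mkZ ((Algebra.TensorProduct.includeLeft : R →ₐ[k] R ⊗[k] B) (ComodLib.op φ r)) =
        ComodLib.op φ (mkZ ((Algebra.TensorProduct.includeLeft : R →ₐ[k] R ⊗[k] B) r))
      exact (congrArg mkZ (ComodLib.isComodHom_op Luna.isComodHom_includeLeft φ r)).trans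
        (ComodLib.isComodHom_op hmkZ φ _)
  have hp : Hoch.IsComodHom A p.toLinearMap := (ComodLib.isComodHom_iff _).2 fun φ r => by
    change mkZ (iR (mkB (ComodLib.op φ r))) = ComodLib.op φ (mkZ (iR (mkB r)))
    rw [show mkB (ComodLib.op φ r) = ComodLib.op φ (mkB r) from ComodLib.isComodHom_op hmkB φ r]
    exact (congrArg mkZ (ComodLib.isComodHom_op Luna.isComodHom_includeRight φ _)).trans
      (ComodLib.isComodHom_op hmkZ φ _)
  -- the diagonal point
  let z₀T : R ⊗[k] B →ₐ[k] k := Algebra.TensorProduct.lift x xB fun _ _ => .all ..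
  have hdisp : ∀ i, z₀T (Luna.dispVec (k := k) xb y i) = 0 := fun i => by
    simp [z₀T, Luna.dispVec, xb, hxB]
  let z₀ : Luna.FibAlg xb τ y →ₐ[k] k := Ideal.Quotient.liftₐ _ z₀T fun t ht => by
    have hle : Luna.fibIdeal xb τ y ≤ RingHom.ker z₀T := Ideal.span_le.2 (by
      rintro _ ⟨l, rfl⟩
      simp [Luna.fibEq, hdisp])
    exact hle ht
  have hz₀θ : z₀.comp (IsScalarTower.toAlgHom k R (Luna.FibAlg xb τ y)) = x := AlgHom.ext fun r => by
    change z₀T (r ⊗ₜ[k] 1) = x r
    simp [z₀T]
  have hinj : ∀ g : A →ₐ[k] k, GLin.actPt k g x = x → GLin.actPt k g z₀ = z₀ := fun g hg => by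
    refine Ideal.Quotient.algHom_ext k (Algebra.TensorProduct.ext ?_ (AlgHom.ext fun b => ?_))
    · refine AlgHom.ext fun r => ?_
      have h := DFunLike.congr_fun (Luna.actPt_comp hθ g z₀) r
      rw [hz₀θ, hg, ← hz₀θ] at h
      exact h.symm
    · obtain ⟨r, rfl⟩ := hs b
      have h := DFunLike.congr_fun (Luna.actPt_comp hp g z₀) r
      have hz₀p : z₀.comp p = x := AlgHom.ext fun r => by
        change z₀T (1 ⊗ₜ[k] mkB r) = x r
        simp [z₀T, hxB]
      rw [hz₀p, hg, ← hz₀p] at h
      exact h.symm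
  let d : Luna.FibAlg xb τ y := Ideal.Quotient.mk _ (Luna.detElt xb τ y)
  have hd : z₀ d = 1 := by
    change z₀T (Luna.detElt xb τ y) = 1
    have he : (Luna.errMat xb τ y).map z₀T = 0 := by
      ext l m; simp [Luna.errMat, hdisp]
    rw [Luna.detElt, AlgHom.map_det, map_sub, map_one]
    change (1 - (Luna.errMat xb τ y).map z₀T).det = 1
    rw [he, sub_zero, Matrix.det_one]
  have : Algebra.FinitePresentation R (Luna.FibAlg xb τ y) :=
    Algebra.FinitePresentation.quotient (Submodule.fg_span (Set.finite_range _))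
  have : Algebra.FinitePresentation R (Localization.Away d) :=
    Algebra.FinitePresentation.trans R (Luna.FibAlg xb τ y) _
  have : Algebra.FormallyEtale R (Localization.Away d) :=
    Luna.formallyEtale_fib y hgenB hτD (Localization.Away d)
  have : Algebra.Etale R (Localization.Away d) := ⟨‹_›, ‹_›⟩
  exact Luna.exists_invariant_stab hG hθ p hp x hx (fun r hr => by
      change mkZ (iR (mkB r)) = 0
      rw [hkill r hr, map_zero, map_zero])
    z₀ hz₀θ hinj d (by rw [hd]; exact one_ne_zero)


/-- Let k be an algebraically closed field of characteristic zero, A a finitely generated commutative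
Hopf algebra over k which is an integral domain and all of whose finite-dimensional comodules are
semisimple (a connected reductive group G), R a reduced finitely generated commutative k-algebra
with a multiplicative A-coaction (G acting on the affine variety X = Spec R), and x a k-point of X
whose orbit is closed. Then there is a G-invariant function f on X with f(x) ≠ 0 (so the
non-vanishing locus X_f is a saturated open neighbourhood of x) such that for every k-point x' of X
with f(x') ≠ 0 whose orbit is closed there is a k-point g of G with the stabilizer ideal of x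
contained in the stabilizer ideal of the translate of x' by g: the stabilizer of x' is conjugate to
a subgroup of the stabilizer of x. (The published statement allows any reductive G; the argument in
the source is complete for connected G, which is assumed here.) -/
theorem result (k : Type u) [Field k] [IsAlgClosed k] [CharZero k]
    (A : Type u) [CommRing A] [IsDomain A] [HopfAlgebra k A] [Algebra.FiniteType k A] (hG : HopfRep.IsLinearlyReductive k A)
    (R : Type u) [CommRing R] [IsReduced R] [Algebra k R] [Algebra.FiniteType k R] [HopfRep.Comod k A R] [GLin.IsCoactAlg k A R]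
    (x : R →ₐ[k] k) (hx : GLin.IsClosedOrbit k A x) :
    ∃ f ∈ GLin.invariants k A R, x f ≠ 0 ∧
      ∀ x' : R →ₐ[k] k, x' f ≠ 0 → GLin.IsClosedOrbit k A x' →
        ∃ g : A →ₐ[k] k, GLin.stabIdeal k A x ≤ GLin.stabIdeal k A (GLin.actPt k g x') := by
  classical
  obtain ⟨ι, _, _, M, hM, π, hπs, hπ⟩ := Luna.exists_poly_cover k A R
  let y : ι → R := fun i => π (MvPolynomial.X i)
  have hy : ∀ i, HopfRep.Comod.coact (k := k) (A := A) (y i) = ∑ j, y j ⊗ₜ[k] M j i := fun i => by
    refine (LinearMap.congr_fun hπ (MvPolynomial.X i)).trans ?_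
    change π.toLinearMap.rTensor A (CST.matCoact (k := k) M (MvPolynomial.X i)) = _
    rw [CST.matCoact_X, map_sum]
    rfl
  have hgen : Algebra.adjoin k (Set.range y) = ⊤ := by
    rw [show Set.range y = π '' Set.range MvPolynomial.X from Set.range_comp π MvPolynomial.X,
      ← AlgHom.map_adjoin, MvPolynomial.adjoin_range_X, Algebra.map_top, AlgHom.range_eq_top]
    exact hπs
  let P : Ideal R := RingHom.ker (GLin.orbitHom k A x)
  have hP : HopfRep.IsSubcomod (k := k) (A := A) (P.restrictScalars k) := GitQuot.isSubcomod_ker_orbitHom x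
  have : Algebra.Smooth k (R ⧸ P) := Luna.smooth_orbitQuot x hx
  let := Luna.comodQuot P hP
  have : GLin.IsCoactAlg k A (R ⧸ P) := Luna.isCoactAlg_comodQuot P hP
  obtain ⟨f, hf, hxf, h⟩ := aux hG x hx M hM y hy (Ideal.Quotient.mkₐ k P) (Ideal.Quotient.mkₐ_surjective k P)
    (Luna.isComodHom_mk P hP) (fun r hr => Ideal.Quotient.eq_zero_iff_mem.2 hr)
    (Ideal.Quotient.liftₐ P x fun r hr => GitQuot.ker_orbitHom_le (A := A) x hr) (fun r => rfl) hgen
  exact ⟨f, hf, hxf, fun x' hx' _ => h x' hx'⟩

end Groth.Agent.S19404
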