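import Groth.Statements.S19405
import Groth.Agent.Hopf.Luna.Fundamental
import Groth.Agent.Hopf.OrbitFlat
import Groth.Agent.EtaleBaseTwo.UnramifiedAtLocal
import Groth.Agent.S9812
import Groth.Agent.Purity.GaloisCover

set_option autoImplicit false
universe u
open TensorProduct
open GLin

namespace Groth.Agent.S19405

open TensorProduct Groth.ComodLib



/-- Let k be an algebraically closed field of characteristic zero, A a finitely generated commutative
Hopf algebra over k which is an integral domain and all of whose finite-dimensional comodules are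
semisimple (a connected reductive group G), S and R finitely generated commutative k-algebras which
are integrally closed domains, with multiplicative A-coactions (G acting on the normal irreducible
affine varieties Y = Spec S and X = Spec R), and S → R an algebra map compatible with the coactions
(a G-morphism θ : X → Y) which is finite. Let S₀ → S and R₀ → R be injective k-algebra maps whose
images are exactly the subrings of invariants, and S₀ → R₀ an algebra map with S₀ → R₀ → R equal to
S₀ → S → R (the induced morphism θ/G : X//G → Y//G). Let x be a k-point of X whose orbit is closed,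
m its kernel (a maximal ideal of R), suppose R is étale over S at m (θ étale at x), and suppose
every k-point of G fixing the image point θ(x) fixes x (θ is injective on the orbit of x). Then R₀
is étale over S₀ at the prime of R₀ under the kernel of x (θ/G is étale at the image of x in X//G).
(The published statement allows any reductive G and normal X, Y; the argument given is for connected
G and irreducible X, Y, assumed here.) -/
theorem result (k : Type u) [Field k] [IsAlgClosed k] [CharZero k]
    (A : Type u) [CommRing A] [IsDomain A] [HopfAlgebra k A] [Algebra.FiniteType k A] (hG : HopfRep.IsLinearlyReductive k A)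
    (S : Type u) [CommRing S] [IsDomain S] [IsIntegrallyClosed S] [Algebra k S] [Algebra.FiniteType k S]
    [HopfRep.Comod k A S] [GLin.IsCoactAlg k A S]
    (R : Type u) [CommRing R] [IsDomain R] [IsIntegrallyClosed R] [Algebra k R] [Algebra.FiniteType k R]
    [HopfRep.Comod k A R] [GLin.IsCoactAlg k A R]
    [Algebra S R] [IsScalarTower k S R] [Module.Finite S R]
    (hequiv : (∀ s : S, HopfRep.Comod.coact (k := k) (A := A) (algebraMap S R s) =
      Algebra.TensorProduct.map (IsScalarTower.toAlgHom k S R) (AlgHom.id k A) (HopfRep.Comod.coact (k := k) (A := A) s)))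
    (S₀ : Type u) [CommRing S₀] [Algebra k S₀] [Algebra S₀ S] [IsScalarTower k S₀ S]
    (hS₀i : Function.Injective (algebraMap S₀ S)) (hS₀ : (IsScalarTower.toAlgHom k S₀ S).range = GLin.invariants k A S)
    (R₀ : Type u) [CommRing R₀] [Algebra k R₀] [Algebra R₀ R] [IsScalarTower k R₀ R]
    (hR₀i : Function.Injective (algebraMap R₀ R)) (hR₀ : (IsScalarTower.toAlgHom k R₀ R).range = GLin.invariants k A R)
    [Algebra S₀ R₀] [Algebra S₀ R] [IsScalarTower S₀ S R] [IsScalarTower S₀ R₀ R]
    (x : R →ₐ[k] k) (hx : GLin.IsClosedOrbit k A x) (m : Ideal R) [m.IsMaximal] (hm : m = RingHom.ker x.toRingHom)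
    (het : Algebra.IsEtaleAt S m)
    (hinj : ∀ g : A →ₐ[k] k, GLin.actPt k g (x.comp (IsScalarTower.toAlgHom k S R)) = x.comp (IsScalarTower.toAlgHom k S R) →
      GLin.actPt k g x = x) :
    Algebra.IsEtaleAt S₀ (Ideal.comap (algebraMap R₀ R) m) := by
  classical
  subst hm
  let θ := IsScalarTower.toAlgHom k S R
  let y := x.comp θ
  have hθ : Hoch.IsComodHom A θ.toLinearMap := Luna.isComodHom_of_equiv θ hequiv
  have : IsNoetherianRing S := Algebra.FiniteType.isNoetherianRing k S
  set m := RingHom.ker x.toRingHom with hm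
  -- `S → R` is injective
  have : Algebra.FinitePresentation S R := Algebra.FinitePresentation.of_finiteType.1 inferInstance
  obtain ⟨g, hgm, hgE⟩ := Algebra.exists_etale_of_isEtaleAt (R := S) m
  have hSR : Function.Injective (algebraMap S R) := by
    rw [injective_iff_map_eq_zero]
    intro s hs
    by_contra hne
    have hreg : IsSMulRegular (Localization.Away g) s :=
      Module.Flat.isSMulRegular_of_isRegular (IsRegular.of_ne_zero hne)
    have h0 : (1 : Localization.Away g) = 0 := hreg (by
      simp only [Algebra.smul_def, mul_one, mul_zero]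
      rw [IsScalarTower.algebraMap_apply S R (Localization.Away g), hs, map_zero])
    have : Subsingleton (Localization.Away g) := subsingleton_of_zero_eq_one h0.symm
    obtain ⟨n, hn⟩ := (IsLocalization.subsingleton_iff (S := Localization.Away g) (M := Submonoid.powers g)).1 this
    exact hgm (Ideal.IsMaximal.isPrime inferInstance |>.mem_of_pow_mem n (by
      rw [show g ^ n = 0 from hn]; exact zero_mem _))
  -- identifications
  have hS₀mem : ∀ s, algebraMap S₀ S s ∈ HopfRep.fixedPts k A S := fun s => hS₀.le ⟨s, rfl⟩
  have hR₀mem : ∀ s, algebraMap R₀ R s ∈ HopfRep.fixedPts k A R := fun s => hR₀.le ⟨s, rfl⟩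
  have hS₀surj : ∀ f ∈ HopfRep.fixedPts k A S, ∃ s, algebraMap S₀ S s = f := fun f hf => hS₀.ge hf
  have hR₀surj : ∀ f ∈ HopfRep.fixedPts k A R, ∃ s, algebraMap R₀ R s = f := fun f hf => hR₀.ge hf
  have hcompat : ∀ s, algebraMap R₀ R (algebraMap S₀ R₀ s) = algebraMap S R (algebraMap S₀ S s) := fun s => by
    rw [← IsScalarTower.algebraMap_apply, ← IsScalarTower.algebraMap_apply]
  have : IsScalarTower k S₀ R₀ := IsScalarTower.of_algebraMap_eq fun c => hR₀i (by
    rw [hcompat, ← IsScalarTower.algebraMap_apply k S₀ S, ← IsScalarTower.algebraMap_apply k S R,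
      ← IsScalarTower.algebraMap_apply k R₀ R])
  have hinj₀ : Function.Injective (algebraMap S₀ R₀) := fun a b e => hS₀i (hSR (by rw [← hcompat, ← hcompat, e]))
  have : IsDomain S₀ := Function.Injective.isDomain (algebraMap S₀ S) hS₀i
  have : IsDomain R₀ := Function.Injective.isDomain (algebraMap R₀ R) hR₀i
  have hftS : Algebra.FiniteType k S₀ := by
    obtain ⟨s, hs, hgen⟩ := GitQuot.exists_finset_invariants_adjoin (A := A) (R := S) hG
      (fun f g => GLin.IsCoactAlg.coact_mul f g) (GLin.IsCoactAlg.coact_one (k := k) (A := A) (R := S))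
    have : (IsScalarTower.toAlgHom k S₀ S).range.FG := ⟨s, le_antisymm (Algebra.adjoin_le fun f hf => hS₀.ge (hs f hf))
      fun f hf => hgen f (hS₀.le hf)⟩
    exact ((Subalgebra.fg_iff_finiteType _).1 this).equiv (AlgEquiv.ofInjective _ hS₀i).symm
  have hftR : Algebra.FiniteType k R₀ := by
    obtain ⟨s, hs, hgen⟩ := GitQuot.exists_finset_invariants_adjoin (A := A) (R := R) hG
      (fun f g => GLin.IsCoactAlg.coact_mul f g) (GLin.IsCoactAlg.coact_one (k := k) (A := A) (R := R))
    have : (IsScalarTower.toAlgHom k R₀ R).range.FG := ⟨s, le_antisymm (Algebra.adjoin_le fun f hf => hR₀.ge (hs f hf))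
      fun f hf => hgen f (hR₀.le hf)⟩
    exact ((Subalgebra.fg_iff_finiteType _).1 this).equiv (AlgEquiv.ofInjective _ hR₀i).symm
  have : IsNoetherianRing S₀ := Algebra.FiniteType.isNoetherianRing k S₀
  have : Algebra.FiniteType S₀ R₀ := Algebra.FiniteType.of_restrictScalars_finiteType k S₀ R₀
  have : Algebra.FinitePresentation S₀ R₀ := Algebra.FinitePresentation.of_finiteType.1 inferInstance
  -- the invariants of a normal domain are normal
  have : IsIntegrallyClosed S₀ := by
    refine (isIntegrallyClosed_iff (FractionRing S₀)).2 fun {z} hz => ?_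
    let j : FractionRing S₀ →+* FractionRing S := IsFractionRing.map hS₀i
    have hj : ∀ a, j (algebraMap S₀ _ a) = algebraMap S _ (algebraMap S₀ S a) := fun a => IsLocalization.map_eq _ a
    have hz' : IsIntegral S (j z) := by
      obtain ⟨p, hp, hpz⟩ := hz
      refine ⟨p.map (algebraMap S₀ S), hp.map _, ?_⟩
      rw [Polynomial.eval₂_map, show (algebraMap S (FractionRing S)).comp (algebraMap S₀ S) =
        j.comp (algebraMap S₀ (FractionRing S₀)) from RingHom.ext fun a => (hj a).symm, ← Polynomial.hom_eval₂, hpz,
        map_zero]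
    obtain ⟨c, hc⟩ := IsIntegrallyClosed.isIntegral_iff.1 hz'
    obtain ⟨a, b, hb, rfl⟩ := IsFractionRing.div_surjective S₀ z
    have hb0 : algebraMap S₀ S b ≠ 0 := (map_ne_zero_iff _ hS₀i).2 (nonZeroDivisors.ne_zero hb)
    have hcb : c * algebraMap S₀ S b = algebraMap S₀ S a := by
      apply IsFractionRing.injective S (FractionRing S)
      rw [map_mul, hc, map_div₀, hj, hj, div_mul_cancel₀]
      exact (map_ne_zero_iff _ (IsFractionRing.injective S (FractionRing S))).2 hb0
    have hcfix : c ∈ HopfRep.fixedPts k A S := by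
      refine ext_slice fun φ => ?_
      rw [slice_tmul, ← op_apply]
      have h1 := Luna.op_mul_fixed (k := k) (A := A) (hS₀mem b) φ c
      rw [mul_comm _ c, hcb, GitQuot.op_of_fixed (hS₀mem a), ← hcb, mul_comm c, ← mul_smul_comm] at h1
      exact (mul_left_cancel₀ hb0 h1).symm
    obtain ⟨d, rfl⟩ := hS₀surj c hcfix
    refine ⟨d, ?_⟩
    have e : d * b = a := hS₀i (by rw [map_mul]; exact hcb)
    rw [← e, map_mul, mul_div_assoc, div_self, mul_one]
    exact (map_ne_zero_iff _ (IsFractionRing.injective S₀ (FractionRing S₀))).2 (nonZeroDivisors.ne_zero hb)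
  -- the prime
  let q : Ideal R₀ := Ideal.comap (algebraMap R₀ R) m
  let x₀ : R₀ →ₐ[k] k := x.comp (IsScalarTower.toAlgHom k R₀ R)
  have hqk : q = RingHom.ker x₀ := rfl
  let p : Ideal S₀ := q.under S₀
  have : q.LiesOver p := ⟨rfl⟩
  let := Localization.AtPrime.algebraOfLiesOver p q
  have hp : ∀ s, s ∈ p ↔ y (algebraMap S₀ S s) = 0 := fun s => by
    change x (algebraMap R₀ R (algebraMap S₀ R₀ s)) = 0 ↔ _
    rw [hcompat]
    rfl
  have hnum : ∀ a : R₀, a ∈ q → ∃ e : R₀, e ∉ q ∧ e * a ∈ p.map (algebraMap S₀ R₀) := by
    intro a ha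
    obtain ⟨e, he, hxe, hea⟩ := Luna.exists_mul_mem_invImage hG hθ x hx m hm inferInstance hinj (hR₀mem a) ha
    obtain ⟨e, rfl⟩ := hR₀surj e he
    refine ⟨e, fun h => hxe h, ?_⟩
    obtain ⟨n, c, g, hcg⟩ := Submodule.mem_span_set'.1 hea
    obtain ⟨E, hE⟩ := GitQuot.exists_reynolds (V := R) (A := A) hG
    choose s hs hgs using fun i => (g i).2
    choose s₀ hs₀ using fun i => hS₀surj (s i) (hs i).1
    choose c₀ hc₀ using fun i => hR₀surj (E (c i)) (hE.apply_mem _)
    have h : e * a = ∑ i, c₀ i * algebraMap S₀ R₀ (s₀ i) := by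
      apply hR₀i
      have h1 := congrArg E hcg
      rw [map_sum, (hE.fixed _).2 ((GLin.invariants k A R).mul_mem (hR₀mem e) (hR₀mem a))] at h1
      rw [map_mul, ← h1, map_sum]
      refine Finset.sum_congr rfl fun i _ => ?_
      have hfix : algebraMap S R (s i) ∈ HopfRep.fixedPts k A R := GitQuot.map_mem_fixedPts hθ (hs i).1
      rw [smul_eq_mul, ← hgs, hE.map_mul (fun f g => GLin.IsCoactAlg.coact_mul f g) hG _
        hfix, map_mul, hc₀, hcompat, hs₀]
    rw [h]
    refine sum_mem fun i _ => Ideal.mul_mem_left _ _ (Ideal.mem_map_of_mem _ ((hp _).2 ?_))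
    rw [hs₀]
    exact (hs i).2
  have : Algebra.IsUnramifiedAt S₀ q := by
    rw [Algebra.isUnramifiedAt_iff_map_eq S₀ p q]
    refine ⟨?_, le_antisymm ?_ ?_⟩
    · have hsurj : Function.Surjective (algebraMap k q.ResidueField) := by
        intro z
        have : q.IsMaximal := hqk ▸ RingHom.ker_isMaximal_of_surjective x₀ fun c => ⟨algebraMap k R₀ c, x₀.commutes c⟩
        obtain ⟨b, rfl⟩ := (Ideal.bijective_algebraMap_quotient_residueField q).2 z
        obtain ⟨b, rfl⟩ := Ideal.Quotient.mk_surjective b
        refine ⟨x₀ b, ?_⟩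
        have hb : algebraMap R₀ q.ResidueField (b - algebraMap k R₀ (x₀ b)) = 0 := by
          rw [Ideal.algebraMap_residueField_eq_zero]
          change x₀ (b - algebraMap k R₀ (x₀ b)) = 0
          simp
        rw [map_sub, sub_eq_zero, ← IsScalarTower.algebraMap_apply] at hb
        rw [← hb]
        rfl
      have hfin : Module.Finite p.ResidueField q.ResidueField := by
        refine Module.Finite.of_surjective (Algebra.linearMap p.ResidueField q.ResidueField) fun z => ?_
        obtain ⟨c, rfl⟩ := hsurj z
        exact ⟨algebraMap S₀ p.ResidueField (algebraMap k S₀ c), by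
          rw [Algebra.linearMap_apply, ← IsScalarTower.algebraMap_apply S₀ p.ResidueField q.ResidueField,
            IsScalarTower.algebraMap_apply S₀ R₀ q.ResidueField, ← IsScalarTower.algebraMap_apply k S₀ R₀,
            ← IsScalarTower.algebraMap_apply]⟩
      have : CharZero p.ResidueField := charZero_of_injective_algebraMap
        ((algebraMap S₀ p.ResidueField).comp (algebraMap k S₀)).injective
      infer_instance
    · rw [Ideal.map_le_iff_le_comap]
      intro s hs
      rw [Ideal.mem_comap, IsScalarTower.algebraMap_apply S₀ R₀ (Localization.AtPrime q)]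
      exact (IsLocalization.AtPrime.to_map_mem_maximal_iff (Localization.AtPrime q) q _).2 hs
    · rw [← Localization.AtPrime.map_eq_maximalIdeal, IsScalarTower.algebraMap_eq S₀ R₀ (Localization.AtPrime q),
        ← Ideal.map_map]
      refine Ideal.map_le_iff_le_comap.2 fun a ha => ?_
      obtain ⟨e, he, hea⟩ := hnum a ha
      exact (IsLocalization.algebraMap_mem_map_algebraMap_iff q.primeCompl _ _ _).2 ⟨e, he, hea⟩
  have : IsIntegrallyClosed (Localization.AtPrime p) :=
    isIntegrallyClosed_of_isLocalization (Localization.AtPrime p) p.primeCompl p.primeCompl_le_nonZeroDivisors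
  obtain ⟨g₀, hg₀, hgE₀⟩ := Groth.EtaleBaseTwo.exists_etale_away_of_injective q (Localization.AtPrime p)
    (Groth.Agent.S9812.result (Localization.AtPrime p)) (Localization.AtPrime q)
    (Localization.localRingHom p q (algebraMap S₀ R₀) rfl)
    (RingHom.ext fun a => Localization.localRingHom_to_map p q (algebraMap S₀ R₀) rfl a)
    (by
      refine IsLocalization.map_injective_of_injective' (M := p.primeCompl) (N := q.primeCompl) _ _ _ ?_ hinj₀
      exact fun h => h (zero_mem q))
  exact Groth.Purity.isEtaleAt_of_away hg₀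

end Groth.Agent.S19405
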