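import Groth.Statements.S19406
import Groth.Agent.Hopf.OrbitFlat

set_option autoImplicit false
universe u
open TensorProduct
open GLin

namespace Groth.Agent.S19406

open TensorProduct Groth.ComodLib

section
variable {k : Type u} [Field k] [IsAlgClosed k] {A : Type u} [CommRing A] [IsDomain A] [HopfAlgebra k A]
  [Algebra.FiniteType k A] {R : Type u} [CommRing R] [Algebra k R] [HopfRep.Comod k A R] [GLin.IsCoactAlg k A R]

/-- a semi-invariant function not vanishing on a closed orbit -/
theorem exists_semiinvariant (hG : HopfRep.IsLinearlyReductive k A) (x : R →ₐ[k] k)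
    (hx : GLin.IsClosedOrbit k A x) {χ : A} (hχ : IsGroupLikeElem k χ)
    (hst : χ - 1 ∈ GLin.stabIdeal k A x) :
    ∃ f : R, HopfRep.Comod.coact (k := k) (A := A) f = f ⊗ₜ[k] χ ∧ x f = 1 := by
  obtain ⟨f₀, hf₀⟩ : χ ∈ (GLin.orbitHom k A x).range := by
    refine mem_range_orbitHom x hx ?_
    rw [hχ.comul_eq_tmul_self, Algebra.TensorProduct.map_tmul]
    congr 1
    rw [← map_one (Ideal.Quotient.mkₐ k (GLin.stabIdeal k A x))]
    exact (Ideal.Quotient.mk_eq_mk_iff_sub_mem χ 1).2 hst
  let o := (GLin.orbitHom k A x).toLinearMap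
  have hhom : Hoch.IsComodHom A o := isComodHom_orbitHom x
  obtain ⟨C, hC, hKC⟩ := GitQuot.isSemisimpleComod hG (LinearMap.ker o) (isSubcomod_ker hhom)
  obtain ⟨κ, hκ, c, hc, hv⟩ := Submodule.mem_sup.1 (hKC.sup_eq_top ▸ Submodule.mem_top (x := f₀))
  have hoc : o c = χ := by
    have h := congrArg o hv
    rw [map_add, LinearMap.mem_ker.1 hκ, zero_add] at h
    exact h.trans hf₀
  refine ⟨c, ext_slice fun φ => ?_, ?_⟩
  · rw [slice_tmul, ← op_apply]
    have h1 : op φ c - φ χ • c ∈ LinearMap.ker o := by
      rw [LinearMap.mem_ker, map_sub, map_smul, isComodHom_op hhom, hoc, op_apply]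
      change slice φ (Coalgebra.comul (R := k) χ) - φ χ • χ = 0
      rw [hχ.comul_eq_tmul_self, slice_tmul, sub_self]
    have h2 : op φ c - φ χ • c ∈ C := C.sub_mem ((isSubcomod_iff C).1 hC φ c hc) (C.smul_mem _ hc)
    exact sub_eq_zero.1 (Submodule.disjoint_def.1 hKC.disjoint _ h1 h2)
  · rw [GitQuot.apply_eq_orbitHom_counit (A := A)]
    change Coalgebra.counit (R := k) (o c) = 1
    rw [hoc, hχ.counit_eq_one]

/-- a semi-invariant nonvanishing at a point forces the character to be trivial on the stabiliser -/
theorem sub_one_mem_stabIdeal (x : R →ₐ[k] k) {χ : A} {f : R}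
    (hf : HopfRep.Comod.coact (k := k) (A := A) f = f ⊗ₜ[k] χ) (h : x f ≠ 0) :
    χ - 1 ∈ GLin.stabIdeal k A x := by
  have ho : GLin.orbitHom k A x f = x f • χ := by
    change Algebra.TensorProduct.lid k A (Algebra.TensorProduct.map x (AlgHom.id k A)
      (HopfRep.Comod.coact (k := k) (A := A) f)) = _
    rw [hf]; simp
  have h1 : GLin.orbitHom k A x (f - algebraMap k R (x f)) ∈ GLin.stabIdeal k A x :=
    Ideal.mem_map_of_mem _ (by simp [RingHom.mem_ker])
  rw [map_sub, AlgHom.commutes, ho, Algebra.algebraMap_eq_smul_one, ← smul_sub] at h1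
  simpa [smul_smul, inv_mul_cancel₀ h] using Submodule.smul_of_tower_mem _ (x f)⁻¹ h1

end


/-- Let k be an algebraically closed field of characteristic zero, A a finitely generated commutative
Hopf algebra over k which is an integral domain and all of whose finite-dimensional comodules are
semisimple (a connected reductive group G), R a reduced finitely generated commutative k-algebra
with a multiplicative A-coaction (G acting on the affine variety X = Spec R), and χ a group-like
element of A (a character of G). Then there is a set E of G-invariant functions on X such that, for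
every k-point x of X whose orbit is closed, χ − 1 lies in the stabilizer ideal of x (χ is trivial on
the stabilizer of x) if and only if some member of E does not vanish at x: the set of points of X//G
over which the closed orbit has stabilizer on which χ is trivial is open. (The published statement
allows any reductive G; this row assumes G connected, the case the source's argument covers.) -/
theorem result (k : Type u) [Field k] [IsAlgClosed k] [CharZero k]
    (A : Type u) [CommRing A] [IsDomain A] [HopfAlgebra k A] [Algebra.FiniteType k A] (hG : HopfRep.IsLinearlyReductive k A)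
    (R : Type u) [CommRing R] [IsReduced R] [Algebra k R] [Algebra.FiniteType k R] [HopfRep.Comod k A R] [GLin.IsCoactAlg k A R]
    (χ : A) (hχ : IsGroupLikeElem k χ) :
    ∃ E : Set R, E ⊆ GLin.invariants k A R ∧
      ∀ x : R →ₐ[k] k, GLin.IsClosedOrbit k A x →
        (χ - 1 ∈ GLin.stabIdeal k A x ↔ ∃ f ∈ E, x f ≠ 0) := by
  let χ' : A := HopfAlgebraStruct.antipode k χ
  have hinv : χ' * χ = 1 := hχ.antipode_mul_cancel
  have hχ' : IsGroupLikeElem k χ' := hχ.antipode
  refine ⟨{g | ∃ f f' : R, HopfRep.Comod.coact (k := k) (A := A) f = f ⊗ₜ[k] χ ∧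
      HopfRep.Comod.coact (k := k) (A := A) f' = f' ⊗ₜ[k] χ' ∧ g = f * f'}, ?_, fun x hx => ⟨fun h => ?_, ?_⟩⟩
  · rintro _ ⟨f, f', hf, hf', rfl⟩
    rw [SetLike.mem_coe, GLin.mem_invariants_iff, GLin.IsCoactAlg.coact_mul, hf, hf',
      Algebra.TensorProduct.tmul_mul_tmul, mul_comm χ, hinv]
  · have h' : χ' - 1 ∈ GLin.stabIdeal k A x := by
      rw [show χ' - 1 = -χ' * (χ - 1) by linear_combination hinv]
      exact Ideal.mul_mem_left _ _ h
    obtain ⟨f, hf, hxf⟩ := exists_semiinvariant hG x hx hχ h
    obtain ⟨f', hf', hxf'⟩ := exists_semiinvariant hG x hx hχ' h'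
    exact ⟨f * f', ⟨f, f', hf, hf', rfl⟩, by rw [map_mul, hxf, hxf']; simp⟩
  · rintro ⟨_, ⟨f, f', hf, -, rfl⟩, h⟩
    exact sub_one_mem_stabIdeal x hf fun e => h (by rw [map_mul, e, zero_mul])

end Groth.Agent.S19406
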