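import Groth.Statements.S19407
import Groth.Agent.Hopf.Luna.ClosedOrbit
import Groth.Agent.Hopf.Luna.EquivariantZMT
import Groth.Agent.Hopf.Luna.FiniteSlice
import Groth.Agent.Hopf.Luna.SplitDescent
import Groth.Agent.Hopf.Luna.Idempotent
import Groth.Agent.S19401
import Mathlib.RingTheory.Spectrum.Prime.Chevalley
import Mathlib.RingTheory.Smooth.Flat
import Mathlib.RingTheory.Smooth.Fiber
import Mathlib.RingTheory.Ideal.IdempotentFG
import Mathlib.RingTheory.Unramified.LocalStructure

set_option autoImplicit false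
universe u
open TensorProduct
open GLin

namespace Groth.Agent.S19407

open Groth.ComodLib

theorem equiv_of_isComodHom {k A V W : Type u} [Field k] [CommRing A] [HopfAlgebra k A] [CommRing V] [Algebra k V]
    [CommRing W] [Algebra k W] [HopfRep.Comod k A V] [HopfRep.Comod k A W] (θ : V →ₐ[k] W)
    (hθ : Hoch.IsComodHom A θ.toLinearMap) (v : V) :
    HopfRep.Comod.coact (k := k) (A := A) (θ v) =
      Algebra.TensorProduct.map θ (AlgHom.id k A) (HopfRep.Comod.coact (k := k) (A := A) v) := by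
  refine (LinearMap.congr_fun hθ v).trans ?_
  simp only [LinearMap.comp_apply]
  induction HopfRep.Comod.coact (k := k) (A := A) v using TensorProduct.induction_on with
  | zero => simp
  | tmul p q => simp
  | add p q hp hq => simp only [map_add, hp, hq]


/-- With explicit neighbourhoods: let k be an algebraically closed field of characteristic zero, A a
finitely generated commutative Hopf algebra over k which is an integral domain and all of whose
finite-dimensional comodules are semisimple (a connected reductive group G), S and R reduced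
finitely generated commutative k-algebras with multiplicative A-coactions (G acting on the affine
varieties Y = Spec S and X = Spec R), S → R an algebra map compatible with the coactions (a
G-morphism θ : X → Y), S₀ → S and R₀ → R injective k-algebra maps whose images are exactly the
subrings of invariants, and S₀ → R₀ an algebra map with S₀ → R₀ → R equal to S₀ → S → R (the
morphism θ/G : X//G → Y//G). Let x be a k-point of X with kernel m such that the local ring of R at
m is an integrally closed domain (X normal at x), R is étale over S at m (θ étale at x), the orbit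
of the image point θ(x) is closed, and every k-point of G fixing θ(x) fixes x (θ injective on the
orbit of x). Then there are f ∈ R₀ and g ∈ S₀ with f and g non-vanishing at x such that, writing h
for the image of f·g in R (so that U = X_h is a saturated affine open neighbourhood of x and V = Y_g
a saturated affine open of Y): every prime of S not containing g is the contraction of a prime of R
not containing h (θ maps U onto V); R is étale over S at every prime not containing h; every k-point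
of U with closed orbit maps to a point with closed orbit; R₀ is étale over S₀ at every prime not
containing f·g (θ/G étale on U//G); and the canonical map S ⊗_{S₀} R₀ → R has every element of its
kernel killed by a power of f·g and every element of R multiplied into its image by a power of h (it
becomes an isomorphism over U//G, i.e. U ≅ V ×_{V//G} U//G): the restriction of θ to U is a strongly
étale G-morphism onto V. (The published statement allows any reductive G; the argument in the source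
is complete for connected G, assumed here.) -/
theorem result (k : Type u) [Field k] [IsAlgClosed k] [CharZero k]
    (A : Type u) [CommRing A] [IsDomain A] [HopfAlgebra k A] [Algebra.FiniteType k A] (hG : HopfRep.IsLinearlyReductive k A)
    (S : Type u) [CommRing S] [IsReduced S] [Algebra k S] [Algebra.FiniteType k S] [HopfRep.Comod k A S] [GLin.IsCoactAlg k A S]
    (R : Type u) [CommRing R] [IsReduced R] [Algebra k R] [Algebra.FiniteType k R] [HopfRep.Comod k A R] [GLin.IsCoactAlg k A R]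
    [Algebra S R] [IsScalarTower k S R]
    (hequiv : (∀ s : S, HopfRep.Comod.coact (k := k) (A := A) (algebraMap S R s) =
      Algebra.TensorProduct.map (IsScalarTower.toAlgHom k S R) (AlgHom.id k A) (HopfRep.Comod.coact (k := k) (A := A) s)))
    (S₀ : Type u) [CommRing S₀] [Algebra k S₀] [Algebra S₀ S] [IsScalarTower k S₀ S]
    (hS₀i : Function.Injective (algebraMap S₀ S)) (hS₀ : (IsScalarTower.toAlgHom k S₀ S).range = GLin.invariants k A S)
    (R₀ : Type u) [CommRing R₀] [Algebra k R₀] [Algebra R₀ R] [IsScalarTower k R₀ R]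
    (hR₀i : Function.Injective (algebraMap R₀ R)) (hR₀ : (IsScalarTower.toAlgHom k R₀ R).range = GLin.invariants k A R)
    [Algebra S₀ R₀] [Algebra S₀ R] [IsScalarTower S₀ S R] [IsScalarTower S₀ R₀ R]
    (x : R →ₐ[k] k) (m : Ideal R) [m.IsMaximal] (hm : m = RingHom.ker x.toRingHom)
    [IsDomain (Localization.AtPrime m)] [IsIntegrallyClosed (Localization.AtPrime m)]
    (het : Algebra.IsEtaleAt S m)
    (hy : GLin.IsClosedOrbit k A (x.comp (IsScalarTower.toAlgHom k S R)))
    (hinj : ∀ g : A →ₐ[k] k, GLin.actPt k g (x.comp (IsScalarTower.toAlgHom k S R)) = x.comp (IsScalarTower.toAlgHom k S R) →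
      GLin.actPt k g x = x) :
    ∃ (f : R₀) (g : S₀), x (algebraMap R₀ R (f * algebraMap S₀ R₀ g)) ≠ 0 ∧
      (∀ P : Ideal S, P.IsPrime → algebraMap S₀ S g ∉ P →
        ∃ Q : Ideal R, Q.IsPrime ∧ algebraMap R₀ R (f * algebraMap S₀ R₀ g) ∉ Q ∧ Q.comap (algebraMap S R) = P) ∧
      (∀ (Q : Ideal R) [Q.IsPrime], algebraMap R₀ R (f * algebraMap S₀ R₀ g) ∉ Q → Algebra.IsEtaleAt S Q) ∧
      (∀ x' : R →ₐ[k] k, x' (algebraMap R₀ R (f * algebraMap S₀ R₀ g)) ≠ 0 → GLin.IsClosedOrbit k A x' →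
        GLin.IsClosedOrbit k A (x'.comp (IsScalarTower.toAlgHom k S R))) ∧
      (∀ (q : Ideal R₀) [q.IsPrime], f * algebraMap S₀ R₀ g ∉ q → Algebra.IsEtaleAt S₀ q) ∧
      (∀ z : S ⊗[S₀] R₀, Algebra.TensorProduct.productMap (IsScalarTower.toAlgHom S₀ S R) (IsScalarTower.toAlgHom S₀ R₀ R) z = 0 →
        ∃ n : ℕ, ((1 : S) ⊗ₜ[S₀] (f * algebraMap S₀ R₀ g)) ^ n * z = 0) ∧
      (∀ r : R, ∃ (n : ℕ) (z : S ⊗[S₀] R₀),
        Algebra.TensorProduct.productMap (IsScalarTower.toAlgHom S₀ S R) (IsScalarTower.toAlgHom S₀ R₀ R) z =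
          algebraMap R₀ R (f * algebraMap S₀ R₀ g) ^ n * r) := by
  classical
  subst hm
  let θ := IsScalarTower.toAlgHom k S R
  let y := x.comp θ
  have hθ : Hoch.IsComodHom A θ.toLinearMap := Luna.isComodHom_of_equiv θ hequiv
  set m := RingHom.ker x.toRingHom with hm
  have hxm : m = RingHom.ker x := rfl
  have : IsNoetherianRing S := Algebra.FiniteType.isNoetherianRing k S
  have : Algebra.FiniteType S R := Algebra.FiniteType.of_restrictScalars_finiteType k S R
  have : Algebra.FinitePresentation S R := Algebra.FinitePresentation.of_finiteType.1 inferInstance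
  have : Algebra.EssFiniteType S (Localization.AtPrime m) := Algebra.EssFiniteType.comp S R _
  have : Algebra.QuasiFiniteAt S m := inferInstance
  -- the finite model
  obtain ⟨B, hB, hBfin, r, hrB, hrm, hrpow⟩ := Luna.exists_stable_finite (A := A) hθ m
  let cB : HopfRep.Comod k A B := Luna.comodSub B hB
  have : GLin.IsCoactAlg k A B := Luna.isCoactAlg_comodSub B hB
  have : Algebra.FiniteType k B := Algebra.FiniteType.trans (S := S) inferInstance inferInstance
  let val := IsScalarTower.toAlgHom k B R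
  have hval : Hoch.IsComodHom A val.toLinearMap := Luna.isComodHom_val B hB
  have hθB : Hoch.IsComodHom A (IsScalarTower.toAlgHom k S B).toLinearMap := Luna.isComodHom_sub hθ B hB
  let xB := x.comp val
  have hxBy : xB.comp (IsScalarTower.toAlgHom k S B) = y := AlgHom.ext fun _ => rfl
  have hxB : GLin.IsClosedOrbit k A xB :=
    (Groth.Agent.S19401.result k A S B (equiv_of_isComodHom _ hθB) xB).2 (hxBy ▸ hy)
  have hxr : x r ≠ 0 := hrm
  have hx : GLin.IsClosedOrbit k A x := by
    refine Luna.isClosedOrbit_of_minimal x fun w hw => ?_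
    obtain ⟨g, hg⟩ := Luna.exists_actPt_eq hxB (z := w.comp val) fun b hb => by
      refine RingHom.mem_ker.2 (RingHom.mem_ker.1 (hw ?_))
      exact (Luna.orbitHom_comp hval x b).symm.trans hb
    let g' := GitQuot.pointInv g
    let w' := GLin.actPt k g' w
    have hactB : ∀ (h : A →ₐ[k] k) (b : B), ((Luna.actAlg h b : B) : R) = Luna.actAlg h (b : R) :=
      fun h b => (isComodHom_op hval h.toLinearMap b).symm.symm
    have hB' : ∀ b : R, b ∈ B → w' b = x b := by
      intro b hb
      have e := congrArg (fun F : B →ₐ[k] k => F (Luna.actAlg g' ⟨b, hb⟩)) hg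
      simp only [AlgHom.comp_apply] at e
      rw [Luna.actPt_apply, Luna.actAlg_actAlg_inv] at e
      change GLin.actPt k g' w b = x b
      rw [Luna.actPt_apply, ← hactB g' ⟨b, hb⟩]
      exact e.symm
    have hw' : w' = x := AlgHom.ext fun f => by
      obtain ⟨n, hn⟩ := hrpow f
      have h := hB' _ hn
      rw [map_mul, map_mul, map_pow, map_pow, hB' r hrB] at h
      exact mul_left_cancel₀ (pow_ne_zero n hxr) h
    have hwg : GLin.actPt k g x = w := AlgHom.ext fun f => by
      rw [Luna.actPt_apply, ← hw']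
      change GLin.actPt k g' w (Luna.actAlg g f) = w f
      rw [Luna.actPt_apply]
      congr 1
      exact (Luna.actAlg_bijective g).1 (Luna.actAlg_actAlg_inv g _)
    rw [← hwg, Luna.ker_orbitHom_actPt]
  -- an invariant where the model is open
  let c : Ideal B :=
    { carrier := {b | ∀ f : R, ∃ n : ℕ, (b : R) ^ n * f ∈ B}
      zero_mem' := fun f => ⟨1, by simp⟩
      add_mem' := by
        intro a b ha hb f
        obtain ⟨i, hi⟩ := ha f
        obtain ⟨j, hj⟩ := hb f
        refine ⟨i + j, ?_⟩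
        rw [Subalgebra.coe_add, add_pow, Finset.sum_mul]
        refine sum_mem fun l _ => ?_
        rcases le_or_gt i l with h | h
        · rw [show (a : R) ^ l * (b : R) ^ (i + j - l) * ((i + j).choose l : ℕ) * f =
            ((a : R) ^ (l - i) * (b : R) ^ (i + j - l) * ((i + j).choose l : ℕ)) * ((a : R) ^ i * f) by
              rw [← Nat.add_sub_cancel' h, pow_add]; simp only [add_tsub_cancel_left]; ring]
          exact mul_mem (mul_mem (mul_mem (pow_mem a.2 _) (pow_mem b.2 _)) (natCast_mem B _)) hi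
        · obtain ⟨d, hd⟩ : ∃ d, i + j - l = j + d := ⟨i - l, by omega⟩
          rw [show (a : R) ^ l * (b : R) ^ (i + j - l) * ((i + j).choose l : ℕ) * f =
            ((a : R) ^ l * (b : R) ^ d * ((i + j).choose l : ℕ)) * ((b : R) ^ j * f) by rw [hd, pow_add]; ring]
          exact mul_mem (mul_mem (mul_mem (pow_mem a.2 _) (pow_mem b.2 _)) (natCast_mem B _)) hj
      smul_mem' := by
        intro a b hb f
        obtain ⟨i, hi⟩ := hb f
        refine ⟨i, ?_⟩
        rw [smul_eq_mul, Subalgebra.coe_mul, mul_pow, mul_assoc]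
        exact mul_mem (pow_mem a.2 _) hi }
  have hc : HopfRep.IsSubcomod (k := k) (A := A) (c.restrictScalars k) := Luna.isSubcomod_of_actAlg _ fun g b hb f => by
    obtain ⟨n, hn⟩ := hb (Luna.actAlg (GitQuot.pointInv g) f)
    refine ⟨n, ?_⟩
    have h := hB.actAlg_mem g hn
    rw [map_mul, map_pow, Luna.actAlg_actAlg_inv] at h
    rw [show ((Luna.actAlg g b : B) : R) = Luna.actAlg g (b : R) from isComodHom_op hval g.toLinearMap b]
    exact h
  obtain ⟨e₁, he₁fix, he₁c, hxe₁⟩ := Luna.exists_invariant_mem hG xB hxB c hc ⟨⟨r, hrB⟩, fun f => hrpow f, hxr⟩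
  have he₁R : (e₁ : R) ∈ HopfRep.fixedPts k A R := (Luna.mem_fixedPts_sub_iff B hB e₁).1 he₁fix
  -- the model is unramified at the point
  let mB : Ideal B := RingHom.ker xB.toRingHom
  have : mB.IsMaximal := RingHom.ker_isMaximal_of_surjective xB.toRingHom fun t => ⟨algebraMap k B t, xB.commutes t⟩
  have hloc : IsLocalization mB.primeCompl (Localization.AtPrime m) := by
    refine { map_units := ?_, surj := ?_, exists_of_eq := ?_ }
    · rintro ⟨b, hb⟩
      rw [IsScalarTower.algebraMap_apply B R (Localization.AtPrime m)]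
      exact IsLocalization.map_units (M := m.primeCompl) (Localization.AtPrime m) ⟨(b : R), hb⟩
    · intro z
      obtain ⟨a, ⟨s, hs⟩, rfl⟩ := IsLocalization.exists_mk'_eq m.primeCompl z
      obtain ⟨i, hi⟩ := hrpow a
      obtain ⟨j, hj⟩ := hrpow s
      refine ⟨(⟨r ^ j * (r ^ i * a), mul_mem (pow_mem hrB _) hi⟩, ⟨⟨r ^ i * (r ^ j * s), mul_mem (pow_mem hrB _) hj⟩, ?_⟩), ?_⟩
      · intro h
        have h' : x (r ^ i * (r ^ j * s)) = 0 := h
        rw [map_mul, map_mul, map_pow, map_pow] at h'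
        exact mul_ne_zero (pow_ne_zero i hxr) (mul_ne_zero (pow_ne_zero j hxr) hs) h'
      · rw [IsScalarTower.algebraMap_apply B R (Localization.AtPrime m), IsScalarTower.algebraMap_apply B R (Localization.AtPrime m)]
        change IsLocalization.mk' _ a _ * algebraMap R _ (r ^ i * (r ^ j * s)) = algebraMap R _ (r ^ j * (r ^ i * a))
        rw [show r ^ i * (r ^ j * s) = r ^ (i + j) * s by ring, show r ^ j * (r ^ i * a) = r ^ (i + j) * a by ring,
          map_mul, map_mul, mul_left_comm, IsLocalization.mk'_spec]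
    · intro a b h
      rw [IsScalarTower.algebraMap_apply B R (Localization.AtPrime m), IsScalarTower.algebraMap_apply B R (Localization.AtPrime m)] at h
      obtain ⟨⟨u, hu⟩, hc⟩ := IsLocalization.exists_of_eq (M := m.primeCompl) (S := Localization.AtPrime m) h
      obtain ⟨i, hi⟩ := hrpow u
      refine ⟨⟨⟨r ^ i * u, hi⟩, fun h0 => ?_⟩, Subtype.ext ?_⟩
      · have h' : x (r ^ i * u) = 0 := h0
        rw [map_mul, map_pow] at h'
        exact mul_ne_zero (pow_ne_zero i hxr) hu h'
      · change r ^ i * u * (a : R) = r ^ i * u * (b : R)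
        rw [mul_assoc, mul_assoc, show u * (a : R) = u * (b : R) from hc]
  have hunB : Algebra.IsUnramifiedAt S mB := Algebra.FormallyUnramified.of_equiv
    ((IsLocalization.algEquiv mB.primeCompl (Localization.AtPrime m) (Localization.AtPrime mB)).restrictScalars S)
  have hinjB : ∀ g : A →ₐ[k] k, GLin.actPt k g (xB.comp (IsScalarTower.toAlgHom k S B)) = xB.comp (IsScalarTower.toAlgHom k S B) →
      GLin.actPt k g xB = xB := fun g hg => by
    rw [hxBy] at hg
    rw [Luna.actPt_comp hval, hinj g hg]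
  -- generation by the base and the invariants
  obtain ⟨e₂, he₂fix, hxe₂, he₂⟩ := Luna.exists_mul_mem_adjoin hG hθB xB hxB mB rfl hunB hinjB
  have he₂R : (e₂ : R) ∈ HopfRep.fixedPts k A R := (Luna.mem_fixedPts_sub_iff B hB e₂).1 he₂fix
  let T := Algebra.adjoin S (HopfRep.fixedPts k A R : Set R)
  let a₁₂ : R := (e₁ : R) * (e₂ : R)
  have ha₁₂ : a₁₂ ∈ HopfRep.fixedPts k A R := (GLin.invariants k A R).mul_mem he₁R he₂R
  have hgen : ∀ f : R, ∃ n, a₁₂ ^ n * f ∈ T := by
    intro f
    obtain ⟨n, hn⟩ := he₁c f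
    have hle : Algebra.adjoin S (HopfRep.fixedPts k A B : Set B) ≤ T.comap B.val :=
      Algebra.adjoin_le fun b hb => Algebra.subset_adjoin ((Luna.mem_fixedPts_sub_iff B hB b).1 hb)
    have h1 : (e₂ : R) * ((e₁ : R) ^ n * f) ∈ T := hle (he₂ ⟨_, hn⟩)
    refine ⟨n + 1, ?_⟩
    rw [show a₁₂ ^ (n + 1) * f = ((e₁ : R) * (e₂ : R) ^ n) * ((e₂ : R) * ((e₁ : R) ^ n * f)) by
      simp only [a₁₂, mul_pow, pow_succ]; ring]
    exact mul_mem (mul_mem (Algebra.subset_adjoin he₁R) (pow_mem (Algebra.subset_adjoin he₂R) _)) h1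
  -- identifications
  have hS₀mem : ∀ s, algebraMap S₀ S s ∈ HopfRep.fixedPts k A S := fun s => hS₀.le ⟨s, rfl⟩
  have hR₀mem : ∀ s, algebraMap R₀ R s ∈ HopfRep.fixedPts k A R := fun s => hR₀.le ⟨s, rfl⟩
  have hS₀surj : ∀ f ∈ HopfRep.fixedPts k A S, ∃ s, algebraMap S₀ S s = f := fun f hf => hS₀.ge hf
  have hR₀surj : ∀ f ∈ HopfRep.fixedPts k A R, ∃ s, algebraMap R₀ R s = f := fun f hf => hR₀.ge hf
  have hcompat : ∀ s, algebraMap R₀ R (algebraMap S₀ R₀ s) = algebraMap S R (algebraMap S₀ S s) := fun s => by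
    rw [← IsScalarTower.algebraMap_apply, ← IsScalarTower.algebraMap_apply]
  have : IsScalarTower k S₀ R₀ := IsScalarTower.of_algebraMap_eq fun t => hR₀i (by
    rw [hcompat, ← IsScalarTower.algebraMap_apply k S₀ S, ← IsScalarTower.algebraMap_apply k S R,
      ← IsScalarTower.algebraMap_apply k R₀ R])
  have hftS : Algebra.FiniteType k S₀ := by
    obtain ⟨s, hs, hgen⟩ := GitQuot.exists_finset_invariants_adjoin (A := A) (R := S) hG
      (fun f g => GLin.IsCoactAlg.coact_mul f g) (GLin.IsCoactAlg.coact_one (k := k) (A := A) (R := S))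
    have : (IsScalarTower.toAlgHom k S₀ S).range.FG := ⟨s, le_antisymm (Algebra.adjoin_le fun f hf => hS₀.ge (hs f hf))
      fun f hf => hgen f (hS₀.le hf)⟩
    exact ((Subalgebra.fg_iff_finiteType _).1 this).equiv (AlgEquiv.ofInjective _ hS₀i).symm
  have hftR : Algebra.FiniteType k R₀ := by
    obtain ⟨s, hs, hgen⟩ := GitQuot.exists_finset_invariants_adjoin (A := A) (R := R) hG
      (fun f g => GLin.IsCoactAlg.coact_mul f g) (GLin.IsCoactAlg.coact_one (k := k) (A := A) (R := R))
    have : (IsScalarTower.toAlgHom k R₀ R).range.FG := ⟨s, le_antisymm (Algebra.adjoin_le fun f hf => hR₀.ge (hs f hf))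
      fun f hf => hgen f (hR₀.le hf)⟩
    exact ((Subalgebra.fg_iff_finiteType _).1 this).equiv (AlgEquiv.ofInjective _ hR₀i).symm
  have : IsNoetherianRing S₀ := Algebra.FiniteType.isNoetherianRing k S₀
  have : Algebra.FiniteType S₀ R₀ := Algebra.FiniteType.of_restrictScalars_finiteType k S₀ R₀
  have : Algebra.FinitePresentation S₀ R₀ := Algebra.FinitePresentation.of_finiteType.1 inferInstance
  let φ : R₀ →ₐ[S₀] R := IsScalarTower.toAlgHom S₀ R₀ R
  let x₀ : R₀ →ₐ[k] k := x.comp (IsScalarTower.toAlgHom k R₀ R)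
  -- the invariants are unramified
  let q : Ideal R₀ := RingHom.ker x₀
  have : q.IsPrime := RingHom.ker_isPrime _
  let p : Ideal S₀ := q.under S₀
  have : p.IsPrime := Ideal.IsPrime.comap _
  have : q.LiesOver p := ⟨rfl⟩
  let := Localization.AtPrime.algebraOfLiesOver p q
  have hp : ∀ s, s ∈ p ↔ y (algebraMap S₀ S s) = 0 := fun s => by
    change x (algebraMap R₀ R (algebraMap S₀ R₀ s)) = 0 ↔ _
    rw [hcompat]
    rfl
  have hnum : ∀ a : R₀, a ∈ q → ∃ e : R₀, e ∉ q ∧ e * a ∈ p.map (algebraMap S₀ R₀) := by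
    intro a ha
    obtain ⟨n, hn⟩ := he₁c (algebraMap R₀ R a)
    have hbfix : (⟨_, hn⟩ : B) ∈ HopfRep.fixedPts k A B :=
      (Luna.mem_fixedPts_sub_iff B hB _).2 ((GLin.invariants k A R).mul_mem ((GLin.invariants k A R).pow_mem he₁R n) (hR₀mem a))
    have hxb : xB ⟨_, hn⟩ = 0 := by
      change x ((e₁ : R) ^ n * algebraMap R₀ R a) = 0
      rw [map_mul, show x (algebraMap R₀ R a) = 0 from ha, mul_zero]
    obtain ⟨eB, heB, hxeB, hea⟩ := Luna.exists_mul_mem_invImage hG hθB xB hxB mB rfl hunB hinjB hbfix hxb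
    obtain ⟨e, he⟩ := hR₀.ge (show (eB : R) * (e₁ : R) ^ n ∈ GLin.invariants k A R from
      (GLin.invariants k A R).mul_mem ((Luna.mem_fixedPts_sub_iff B hB eB).1 heB) ((GLin.invariants k A R).pow_mem he₁R n))
    change algebraMap R₀ R e = _ at he
    refine ⟨e, fun h => ?_, ?_⟩
    · have h' : x (algebraMap R₀ R e) = 0 := h
      rw [he, map_mul, map_pow, show x (e₁ : R) = 1 from hxe₁, one_pow, mul_one] at h'
      exact hxeB h'
    have hea' : algebraMap R₀ R e * algebraMap R₀ R a ∈ Luna.invImage k A S R y := by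
      have h := Ideal.mem_map_of_mem (algebraMap B R) hea
      rw [Luna.invImage, Ideal.map_span, ← Set.image_comp] at h
      rw [he, mul_assoc]
      rw [hxBy] at h
      exact h
    obtain ⟨n', c', g, hcg⟩ := Submodule.mem_span_set'.1 hea'
    obtain ⟨E, hE⟩ := GitQuot.exists_reynolds (V := R) (A := A) hG
    choose s hs hgs using fun i => (g i).2
    choose s₀ hs₀ using fun i => (hS₀surj _ (hs i).1)
    choose c₀ hc₀ using fun i => (hR₀surj _ (hE.apply_mem (c' i)))
    have h : e * a = ∑ i, c₀ i * algebraMap S₀ R₀ (s₀ i) := by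
      apply hR₀i
      have h1 := congrArg E hcg
      rw [map_sum, (hE.fixed _).2 ((GLin.invariants k A R).mul_mem (hR₀mem e) (hR₀mem a))] at h1
      rw [map_mul, ← h1, map_sum]
      refine Finset.sum_congr rfl fun i _ => ?_
      have hfix : algebraMap S R (s i) ∈ HopfRep.fixedPts k A R := GitQuot.map_mem_fixedPts hθ (hs i).1
      rw [smul_eq_mul, ← hgs, hE.map_mul (fun f g => GLin.IsCoactAlg.coact_mul f g) hG _
        hfix, map_mul, hc₀, hcompat, hs₀]
    rw [h]
    refine sum_mem fun i _ => Ideal.mul_mem_left _ _ (Ideal.mem_map_of_mem _ ((hp _).2 ?_))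
    rw [hs₀]
    exact (hs i).2
  have hqmax : q.IsMaximal := RingHom.ker_isMaximal_of_surjective x₀ fun t => ⟨algebraMap k R₀ t, x₀.commutes t⟩
  have : Algebra.IsUnramifiedAt S₀ q := by
    rw [Algebra.isUnramifiedAt_iff_map_eq S₀ p q]
    refine ⟨?_, le_antisymm ?_ ?_⟩
    · have hsurj : Function.Surjective (algebraMap k q.ResidueField) := by
        intro z
        obtain ⟨b, rfl⟩ := (Ideal.bijective_algebraMap_quotient_residueField q).2 z
        obtain ⟨b, rfl⟩ := Ideal.Quotient.mk_surjective b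
        refine ⟨x₀ b, ?_⟩
        have hb : algebraMap R₀ q.ResidueField (b - algebraMap k R₀ (x₀ b)) = 0 := by
          rw [Ideal.algebraMap_residueField_eq_zero]
          change x₀ (b - algebraMap k R₀ (x₀ b)) = 0
          simp
        rw [map_sub, sub_eq_zero, ← IsScalarTower.algebraMap_apply] at hb
        rw [← hb]
        rfl
      have hfin : Module.Finite p.ResidueField q.ResidueField := by
        refine Module.Finite.of_surjective (Algebra.linearMap p.ResidueField q.ResidueField) fun z => ?_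
        obtain ⟨t, rfl⟩ := hsurj z
        exact ⟨algebraMap S₀ p.ResidueField (algebraMap k S₀ t), by
          rw [Algebra.linearMap_apply, ← IsScalarTower.algebraMap_apply S₀ p.ResidueField q.ResidueField,
            IsScalarTower.algebraMap_apply S₀ R₀ q.ResidueField, ← IsScalarTower.algebraMap_apply k S₀ R₀,
            ← IsScalarTower.algebraMap_apply]⟩
      have : CharZero p.ResidueField := charZero_of_injective_algebraMap
        ((algebraMap S₀ p.ResidueField).comp (algebraMap k S₀)).injective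
      infer_instance
    · rw [Ideal.map_le_iff_le_comap]
      intro s hs
      rw [Ideal.mem_comap, IsScalarTower.algebraMap_apply S₀ R₀ (Localization.AtPrime q)]
      exact (IsLocalization.AtPrime.to_map_mem_maximal_iff (Localization.AtPrime q) q _).2 hs
    · rw [← Localization.AtPrime.map_eq_maximalIdeal, IsScalarTower.algebraMap_eq S₀ R₀ (Localization.AtPrime q),
        ← Ideal.map_map]
      refine Ideal.map_le_iff_le_comap.2 fun a ha => ?_
      obtain ⟨e, he, hea⟩ := hnum a ha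
      exact (IsLocalization.algebraMap_mem_map_algebraMap_iff q.primeCompl _ _ _).2 ⟨e, he, hea⟩
  obtain ⟨e₃, he₃, he₃U⟩ := Algebra.exists_unramified_of_isUnramifiedAt (R := S₀) q
  obtain ⟨e₄R, he₄fix, hxe₄, he₄⟩ := Luna.exists_invariant_etale hG hθ x hx m rfl het
  obtain ⟨e₄, rfl⟩ := hR₀surj _ he₄fix
  obtain ⟨e₁₂, he₁₂⟩ := hR₀surj _ ha₁₂
  -- the first neighbourhood
  let F₀ := e₁₂ * (e₃ * e₄)
  have hF₀ : x₀ F₀ ≠ 0 := by
    rw [map_mul, map_mul]
    refine mul_ne_zero ?_ (mul_ne_zero he₃ ?_)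
    · change x (algebraMap R₀ R e₁₂) ≠ 0
      rw [he₁₂, map_mul, show x (e₁ : R) = 1 from hxe₁, show x (e₂ : R) = 1 from hxe₂, one_mul]
      exact one_ne_zero
    · change x (algebraMap R₀ R e₄) ≠ 0
      rw [hxe₄]; exact one_ne_zero
  let L₀ := Localization.Away F₀
  have hU₃ : ↑(PrimeSpectrum.basicOpen e₃) ⊆ Algebra.unramifiedLocus S₀ R₀ :=
    Algebra.basicOpen_subset_unramifiedLocus_iff.2 inferInstance
  have hunLoc : ∀ f : R₀, e₃ ∣ f → Algebra.FormallyUnramified S₀ (Localization.Away f) := fun f hf =>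
    Algebra.basicOpen_subset_unramifiedLocus_iff.1 fun P hP => hU₃ fun h => hP (Ideal.mem_of_dvd _ hf h)
  have hetLoc : ∀ f : R₀, e₄ ∣ f → Algebra.Etale S (Localization.Away (algebraMap R₀ R f)) := fun f hf =>
    Algebra.basicOpen_subset_etaleLocus_iff_etale.1 fun P hP =>
      he₄ P.asIdeal fun h => hP (Ideal.mem_of_dvd _ (map_dvd _ hf) h)
  have : Algebra.FormallyUnramified S₀ L₀ := hunLoc F₀ ⟨e₁₂ * e₄, by ring⟩
  let EA : R₀ → Type u := fun f => Localization.Away (algebraMap R₀ R f)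
  -- comparison maps
  let τ : ∀ f : R₀, Localization.Away f →ₐ[S₀] EA f := fun f => IsLocalization.liftAlgHom (M := Submonoid.powers f)
    (f := (IsScalarTower.toAlgHom S₀ R (EA f)).comp φ) (by
      rintro ⟨_, n, rfl⟩
      exact IsLocalization.map_units (EA f) (⟨algebraMap R₀ R f ^ n, n, rfl⟩ : Submonoid.powers (algebraMap R₀ R f)) |> fun h => by
        simpa [φ] using h)
  have hτ : ∀ (f a : R₀), τ f (algebraMap R₀ (Localization.Away f) a) = algebraMap R (EA f) (algebraMap R₀ R a) := fun f a =>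
    IsLocalization.lift_eq (g := ((IsScalarTower.toAlgHom S₀ R (EA f)).comp φ).toRingHom) _ a
  let π : ∀ f : R₀, S ⊗[S₀] Localization.Away f →ₐ[S] EA f := fun f =>
    Algebra.TensorProduct.lift (Algebra.ofId S (EA f)) (τ f) fun _ _ => Commute.all _ _
  let Φ := Algebra.TensorProduct.productMap (IsScalarTower.toAlgHom S₀ S R) φ
  let ι : ∀ f : R₀, S ⊗[S₀] R₀ →ₐ[S] S ⊗[S₀] Localization.Away f := fun f =>
    Algebra.TensorProduct.map (AlgHom.id S S) (IsScalarTower.toAlgHom S₀ R₀ (Localization.Away f))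
  have hπι : ∀ (f : R₀) (z : S ⊗[S₀] R₀), π f (ι f z) = algebraMap R (EA f) (Φ z) := by
    intro f z
    induction z using TensorProduct.induction_on with
    | zero => simp
    | tmul s a =>
      simp only [π, ι, Φ, Algebra.TensorProduct.map_tmul, AlgHom.coe_id, id_eq, IsScalarTower.coe_toAlgHom',
        Algebra.TensorProduct.lift_tmul, Algebra.ofId_apply, hτ, Algebra.TensorProduct.productMap_apply_tmul, φ, map_mul]
      rw [← IsScalarTower.algebraMap_apply S R (EA f)]
    | add a b ha hb => simp only [map_add, ha, hb]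
  have hTrange : ∀ r ∈ T, ∃ z, Φ z = r := by
    intro r hr
    induction hr using Algebra.adjoin_induction with
    | mem a ha =>
      obtain ⟨t, rfl⟩ := hR₀surj _ ha
      exact ⟨(1 : S) ⊗ₜ t, by simp [Φ, φ]⟩
    | algebraMap t => exact ⟨t ⊗ₜ (1 : R₀), by simp [Φ, φ]⟩
    | add a b _ _ ha hb =>
      obtain ⟨z, rfl⟩ := ha
      obtain ⟨w, rfl⟩ := hb
      exact ⟨z + w, map_add _ _ _⟩
    | mul a b _ _ ha hb =>
      obtain ⟨z, rfl⟩ := ha
      obtain ⟨w, rfl⟩ := hb
      exact ⟨z * w, map_mul _ _ _⟩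
  have hsurjΦ : ∀ f : R₀, e₁₂ ∣ f → ∀ r : R, ∃ (n : ℕ) (z : S ⊗[S₀] R₀), Φ z = algebraMap R₀ R f ^ n * r := by
    rintro _ ⟨d, rfl⟩ r
    obtain ⟨n, hn⟩ := hgen r
    obtain ⟨z, hz⟩ := hTrange (algebraMap R₀ R d ^ n * (a₁₂ ^ n * r))
      (mul_mem (pow_mem (Algebra.subset_adjoin (hR₀mem d)) _) hn)
    exact ⟨n, z, by rw [hz, map_mul, he₁₂, mul_pow]; ring⟩
  have hsurjπ : ∀ f : R₀, e₁₂ ∣ f → Function.Surjective (π f) := by
    intro f hf w
    obtain ⟨r, ⟨_, i, rfl⟩, rfl⟩ := IsLocalization.exists_mk'_eq (Submonoid.powers (algebraMap R₀ R f)) w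
    obtain ⟨n, z, hz⟩ := hsurjΦ f hf r
    obtain ⟨u, hu⟩ := (IsLocalization.map_units (Localization.Away f) (⟨f ^ (n + i), n + i, rfl⟩ : Submonoid.powers f))
    refine ⟨ι f z * ((1 : S) ⊗ₜ[S₀] (↑u⁻¹ : Localization.Away f)), ?_⟩
    rw [IsLocalization.eq_mk'_iff_mul_eq, map_mul, hπι, hz]
    have h1 : π f ((1 : S) ⊗ₜ[S₀] (↑u⁻¹ : Localization.Away f)) = τ f ↑u⁻¹ := by simp [π]
    have h2 : τ f ↑u⁻¹ * algebraMap R (EA f) (algebraMap R₀ R f ^ (n + i)) = 1 := by
      rw [← map_pow, ← hτ, ← map_mul, ← hu, Units.inv_mul, map_one]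
    rw [h1, map_mul]
    change algebraMap R (EA f) (algebraMap R₀ R f ^ n) * algebraMap R (EA f) r * τ f ↑u⁻¹ *
      algebraMap R (EA f) (algebraMap R₀ R f ^ i) = algebraMap R (EA f) r
    calc _ = algebraMap R (EA f) r * (τ f ↑u⁻¹ * algebraMap R (EA f) (algebraMap R₀ R f ^ (n + i))) := by
          rw [pow_add, map_mul]; ring
      _ = _ := by rw [h2, mul_one]
  -- injectivity near the point
  have hkerZ : ∀ (f : R₀) (z : S ⊗[S₀] R₀), ι f z = 0 → ∃ n, ((1 : S) ⊗ₜ[S₀] f) ^ n * z = 0 := by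
    intro f z hz
    let L := Localization.Away ((1 : S) ⊗ₜ[S₀] f)
    let j : Localization.Away f →ₐ[S₀] L := IsLocalization.liftAlgHom (M := Submonoid.powers f)
      (f := (IsScalarTower.toAlgHom S₀ (S ⊗[S₀] R₀) L).comp Algebra.TensorProduct.includeRight) (by
        rintro ⟨_, n, rfl⟩
        have h := IsLocalization.map_units L (⟨((1 : S) ⊗ₜ[S₀] f) ^ n, n, rfl⟩ : Submonoid.powers ((1 : S) ⊗ₜ[S₀] f))
        simpa using h)
    let back : S ⊗[S₀] Localization.Away f →ₐ[S] L :=
      Algebra.TensorProduct.lift (Algebra.ofId S L) j fun _ _ => Commute.all _ _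
    have hb : ∀ w, back (ι f w) = algebraMap (S ⊗[S₀] R₀) L w := by
      intro w
      induction w using TensorProduct.induction_on with
      | zero => simp
      | tmul s a =>
        simp only [back, ι, Algebra.TensorProduct.map_tmul, AlgHom.coe_id, id_eq, IsScalarTower.coe_toAlgHom',
          Algebra.TensorProduct.lift_tmul, Algebra.ofId_apply]
        rw [show j (algebraMap R₀ (Localization.Away f) a) = algebraMap (S ⊗[S₀] R₀) L ((1 : S) ⊗ₜ[S₀] a) from
          IsLocalization.lift_eq _ a, IsScalarTower.algebraMap_apply S (S ⊗[S₀] R₀) L, ← map_mul,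
          Algebra.TensorProduct.algebraMap_apply, Algebra.TensorProduct.tmul_mul_tmul, mul_one, one_mul]
        rfl
      | add a b ha hb => simp only [map_add, ha, hb]
    have h := hb z
    rw [hz, map_zero, eq_comm, IsLocalization.map_eq_zero_iff (Submonoid.powers ((1 : S) ⊗ₜ[S₀] f))] at h
    obtain ⟨⟨_, n, rfl⟩, hn⟩ := h
    exact ⟨n, hn⟩
  obtain ⟨ε₀, i₀, hε0, hkill⟩ : ∃ (b₀ : R₀) (i₀ : ℕ), x₀ b₀ = 0 ∧
      ∀ z, π F₀ z = 0 → ((1 : S) ⊗ₜ[S₀] algebraMap R₀ L₀ (F₀ ^ i₀ - b₀)) * z = 0 := by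
    have : Algebra.Etale S (EA F₀) := hetLoc F₀ ⟨e₁₂ * e₃, by ring⟩
    let : Algebra (S ⊗[S₀] L₀) (EA F₀) := (π F₀).toRingHom.toAlgebra
    have : IsScalarTower S (S ⊗[S₀] L₀) (EA F₀) := .of_algebraMap_eq fun s => ((π F₀).commutes s).symm
    have hfe : Algebra.FormallyEtale (S ⊗[S₀] L₀) (EA F₀) := Algebra.FormallyEtale.of_restrictScalars (R := S)
    have : Algebra.FiniteType k L₀ := Algebra.FiniteType.trans (S := R₀) inferInstance inferInstance
    have : Algebra.FiniteType S₀ L₀ := Algebra.FiniteType.of_restrictScalars_finiteType k S₀ L₀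
    have : IsNoetherianRing (S ⊗[S₀] L₀) := Algebra.FiniteType.isNoetherianRing S _
    obtain ⟨ε, hε, hker⟩ := (Ideal.isIdempotentElem_iff_of_fg _ (IsNoetherian.noetherian _)).1
      ((Algebra.FormallyEtale.iff_of_surjective (R := S ⊗[S₀] L₀) (S := EA F₀) (hsurjπ F₀ ⟨e₃ * e₄, rfl⟩)).1 hfe)
    obtain ⟨b, hb⟩ := Luna.exists_eq_one_tmul_of_idempotent (A := A) hG hS₀ hε
    obtain ⟨b₀, ⟨_, i, rfl⟩, rfl⟩ := IsLocalization.exists_mk'_eq (Submonoid.powers F₀) b
    have hε' : π F₀ ε = 0 := (hker.ge (Submodule.mem_span_singleton_self ε) :)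
    refine ⟨b₀, i, ?_, fun z hz => ?_⟩
    · rw [hb] at hε'
      have h := congrArg (· * algebraMap R (EA F₀) (algebraMap R₀ R (F₀ ^ i))) hε'
      simp only [π, Algebra.TensorProduct.lift_tmul, map_one, one_mul, zero_mul] at h
      rw [← hτ, ← map_mul, IsLocalization.mk'_spec, hτ,
        IsLocalization.map_eq_zero_iff (Submonoid.powers (algebraMap R₀ R F₀))] at h
      obtain ⟨⟨_, n, rfl⟩, hn⟩ := h
      have h' := congrArg x hn
      rw [map_mul, map_pow, map_zero] at h'
      exact (mul_eq_zero.1 h').resolve_left (pow_ne_zero n hF₀)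
    · obtain ⟨w, rfl⟩ := Ideal.mem_span_singleton'.1 (hker.le (show z ∈ RingHom.ker (algebraMap (S ⊗[S₀] L₀) (EA F₀)) from hz))
      rw [show ((1 : S) ⊗ₜ[S₀] algebraMap R₀ L₀ (F₀ ^ i - b₀)) * (w * ε) =
        w * (((1 : S) ⊗ₜ[S₀] algebraMap R₀ L₀ (F₀ ^ i - b₀)) * ε) by ring]
      suffices hz0 : ((1 : S) ⊗ₜ[S₀] algebraMap R₀ L₀ (F₀ ^ i - b₀)) * ε = 0 by rw [hz0, mul_zero]
      set b := IsLocalization.mk' L₀ b₀ (⟨F₀ ^ i, i, rfl⟩ : Submonoid.powers F₀) with hbdef
      have e1 : algebraMap R₀ L₀ (F₀ ^ i - b₀) = algebraMap R₀ L₀ (F₀ ^ i) * (1 - b) := by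
        rw [mul_sub, mul_one, map_sub, hbdef]
        exact congrArg _ (IsLocalization.mk'_spec' L₀ b₀ (⟨F₀ ^ i, i, rfl⟩ : Submonoid.powers F₀)).symm
      have hbb : (1 : S) ⊗ₜ[S₀] b * ((1 : S) ⊗ₜ[S₀] b) = (1 : S) ⊗ₜ[S₀] b := by rw [← hb]; exact hε
      rw [hb, e1, Algebra.TensorProduct.tmul_mul_tmul, mul_one, mul_assoc, sub_mul, one_mul,
        show (1 : S) ⊗ₜ[S₀] (algebraMap R₀ L₀ (F₀ ^ i) * (b - b * b)) =
          ((1 : S) ⊗ₜ[S₀] algebraMap R₀ L₀ (F₀ ^ i)) * (((1 : S) ⊗ₜ[S₀] b) - (1 : S) ⊗ₜ[S₀] b * ((1 : S) ⊗ₜ[S₀] b)) by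
          rw [Algebra.TensorProduct.tmul_mul_tmul, mul_one, ← TensorProduct.tmul_sub, Algebra.TensorProduct.tmul_mul_tmul, mul_one],
        hbb, sub_self, mul_zero]
  let f := F₀ * (F₀ ^ i₀ - ε₀)
  have hf : x₀ f ≠ 0 := by
    rw [map_mul, map_sub, hε0, sub_zero, map_pow]
    exact mul_ne_zero hF₀ (pow_ne_zero _ hF₀)
  have hf₁₂ : e₁₂ ∣ f := ⟨e₃ * e₄ * (F₀ ^ i₀ - ε₀), by simp only [f, F₀]; ring⟩
  have hf₃ : e₃ ∣ f := ⟨e₁₂ * e₄ * (F₀ ^ i₀ - ε₀), by simp only [f, F₀]; ring⟩
  have hf₄ : e₄ ∣ f := ⟨e₁₂ * e₃ * (F₀ ^ i₀ - ε₀), by simp only [f, F₀]; ring⟩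
  -- the kernel is torsion
  have hkerΦ : ∀ (z : S ⊗[S₀] R₀) (j : ℕ), algebraMap R₀ R f ^ j * Φ z = 0 →
      ∃ n, ((1 : S) ⊗ₜ[S₀] f) ^ n * z = 0 := by
    intro z j hz
    have hz' : Φ (((1 : S) ⊗ₜ[S₀] f) ^ j * z) = 0 := by
      rw [map_mul, map_pow]; simpa [Φ, φ] using hz
    have h1 := hkill (ι F₀ (((1 : S) ⊗ₜ[S₀] f) ^ j * z)) (by rw [hπι, hz', map_zero])
    rw [show ((1 : S) ⊗ₜ[S₀] algebraMap R₀ L₀ (F₀ ^ i₀ - ε₀)) = ι F₀ ((1 : S) ⊗ₜ[S₀] (F₀ ^ i₀ - ε₀)) by simp [ι, L₀],
      ← map_mul] at h1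
    obtain ⟨N, hN⟩ := hkerZ F₀ _ h1
    refine ⟨N + 1 + j, ?_⟩
    have e : ((1 : S) ⊗ₜ[S₀] f) = ((1 : S) ⊗ₜ[S₀] F₀) * ((1 : S) ⊗ₜ[S₀] (F₀ ^ i₀ - ε₀)) := by
      rw [Algebra.TensorProduct.tmul_mul_tmul, mul_one]
    rw [pow_add, pow_add, pow_one]
    nth_rewrite 1 2 [e]
    rw [mul_pow]
    linear_combination (((1 : S) ⊗ₜ[S₀] (F₀ ^ i₀ - ε₀)) ^ N * ((1 : S) ⊗ₜ[S₀] F₀)) * hN
  let L := Localization.Away f
  have hπbij : Function.Bijective (π f) := by
    refine ⟨(injective_iff_map_eq_zero _).2 fun w hw => ?_, hsurjπ f hf₁₂⟩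
    obtain ⟨z, n, hzn⟩ : ∃ (z : S ⊗[S₀] R₀) (n : ℕ), w * ((1 : S) ⊗ₜ[S₀] algebraMap R₀ L (f ^ n)) = ι f z := by
      clear hw
      induction w using TensorProduct.induction_on with
      | zero => exact ⟨0, 0, by simp⟩
      | tmul s l =>
        obtain ⟨a, ⟨_, n, rfl⟩, rfl⟩ := IsLocalization.exists_mk'_eq (Submonoid.powers f) l
        refine ⟨s ⊗ₜ a, n, ?_⟩
        rw [Algebra.TensorProduct.tmul_mul_tmul, mul_one, IsLocalization.mk'_spec]
        simp [ι, L]
      | add a b ha hb =>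
        obtain ⟨z, n, hz⟩ := ha
        obtain ⟨z', n', hz'⟩ := hb
        refine ⟨z * ((1 : S) ⊗ₜ (f ^ n')) + z' * ((1 : S) ⊗ₜ (f ^ n)), n + n', ?_⟩
        rw [map_add, map_mul (ι f) z, map_mul (ι f) z', ← hz, ← hz']
        simp only [ι, Algebra.TensorProduct.map_tmul, AlgHom.coe_id, id_eq, IsScalarTower.coe_toAlgHom', L]
        rw [mul_assoc, mul_assoc, Algebra.TensorProduct.tmul_mul_tmul, Algebra.TensorProduct.tmul_mul_tmul, mul_one,
          ← map_mul, ← map_mul, ← pow_add, ← pow_add, Nat.add_comm n' n, add_mul]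
    have h0 : algebraMap R (EA f) (Φ z) = 0 := by rw [← hπι, ← hzn, map_mul, hw, zero_mul]
    obtain ⟨⟨_, j, rfl⟩, hj⟩ := (IsLocalization.map_eq_zero_iff (Submonoid.powers (algebraMap R₀ R f)) (EA f) _).1 h0
    obtain ⟨N, hN⟩ := hkerΦ z j hj
    have hu : IsUnit ((1 : S) ⊗ₜ[S₀] algebraMap R₀ L f) :=
      (IsLocalization.map_units L (⟨f, 1, pow_one f⟩ : Submonoid.powers f)).map
        (Algebra.TensorProduct.includeRight : L →ₐ[S₀] S ⊗[S₀] L)
    have h1 : ι f ((1 : S) ⊗ₜ[S₀] f) = (1 : S) ⊗ₜ[S₀] algebraMap R₀ L f := by simp [ι, L]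
    have h2 := congrArg (ι f) hN
    rw [map_mul, map_pow, h1, map_zero, (hu.pow N).mul_right_eq_zero] at h2
    rw [h2] at hzn
    have hu' : IsUnit ((1 : S) ⊗ₜ[S₀] algebraMap R₀ L (f ^ n)) :=
      (IsLocalization.map_units L (⟨f ^ n, n, rfl⟩ : Submonoid.powers f)).map
        (Algebra.TensorProduct.includeRight : L →ₐ[S₀] S ⊗[S₀] L)
    exact hu'.mul_left_eq_zero.1 hzn
  let e := AlgEquiv.ofBijective (π f) hπbij
  have hEet : Algebra.Etale S (EA f) := hetLoc f hf₄
  -- the invariants are étale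
  have : Algebra.FormallyUnramified S₀ L := hunLoc f hf₃
  obtain ⟨ES, hES⟩ := GitQuot.exists_reynolds (V := S) (A := A) hG
  choose rf hrf using fun s => hS₀surj (ES s) (hES.apply_mem s)
  let ret : S →ₗ[S₀] S₀ :=
    { toFun := rf
      map_add' := fun a b => hS₀i (by rw [map_add (algebraMap S₀ S), hrf, hrf, hrf, map_add])
      map_smul' := fun c a => hS₀i (by
        rw [RingHom.id_apply, smul_eq_mul, map_mul, hrf, hrf, Algebra.smul_def, mul_comm,
          hES.map_mul (fun f g => GLin.IsCoactAlg.coact_mul f g) hG a (hS₀mem c), mul_comm]) }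
  have hret : ret 1 = 1 := hS₀i ((hrf 1).trans
    (((hES.fixed 1).2 (GLin.invariants k A S).one_mem).trans (map_one _).symm))
  have : Module.Flat S (S ⊗[S₀] L) := Module.Flat.of_linearEquiv e.toLinearEquiv
  have : Module.Flat S₀ L := Luna.flat_of_split ret hret L
  have : Algebra.FinitePresentation S₀ L := Algebra.FinitePresentation.trans S₀ R₀ L
  have hLet : Algebra.Etale S₀ L := Algebra.Etale.of_formallyUnramified_of_flat
  -- the open image
  have hopen₀ : IsOpen (Set.range (PrimeSpectrum.comap (algebraMap S₀ L))) :=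
    PrimeSpectrum.isOpenMap_comap_of_hasGoingDown_of_finitePresentation.isOpen_range
  let x₀L : L →ₐ[k] k := IsLocalization.liftAlgHom (M := Submonoid.powers f) (f := x₀) (by
    rintro ⟨_, n, rfl⟩
    exact (pow_ne_zero n hf).isUnit |> fun h => by simpa using h)
  let y₀ : S₀ →ₐ[k] k := y.comp (IsScalarTower.toAlgHom k S₀ S)
  have hx₀L : ∀ s, x₀L (algebraMap S₀ L s) = y₀ s := fun s => by
    rw [IsScalarTower.algebraMap_apply S₀ R₀ L]
    exact (IsLocalization.lift_eq _ _).trans (congrArg x (hcompat s))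
  obtain ⟨_, ⟨_, ⟨g, rfl⟩, rfl⟩, hgy, hgU⟩ := PrimeSpectrum.isBasis_basic_opens.exists_subset_of_mem_open
    (show (⟨RingHom.ker y₀, RingHom.ker_isPrime y₀⟩ : PrimeSpectrum S₀) ∈
        Set.range (PrimeSpectrum.comap (algebraMap S₀ L)) from
      ⟨⟨RingHom.ker x₀L, RingHom.ker_isPrime x₀L⟩, PrimeSpectrum.ext (Ideal.ext fun s => by
        change x₀L (algebraMap S₀ L s) = 0 ↔ y₀ s = 0
        rw [hx₀L])⟩) hopen₀
  have hgh : ∀ Q : Ideal R, Q.IsPrime → algebraMap R₀ R (f * algebraMap S₀ R₀ g) ∉ Q →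
      algebraMap R₀ R f ∉ Q := fun Q hQ h hf => h (by rw [map_mul]; exact Ideal.mul_mem_right _ _ hf)
  refine ⟨f, g, ?_, ?_, ?_, ?_, ?_, ?_, ?_⟩
  · rw [map_mul, map_mul, hcompat]
    exact mul_ne_zero hf hgy
  · -- surjectivity
    intro P hP hgP
    have hopen : IsOpen (Set.range (PrimeSpectrum.comap (algebraMap S (EA f)))) :=
      PrimeSpectrum.isOpenMap_comap_of_hasGoingDown_of_finitePresentation.isOpen_range
    obtain ⟨z, hz, hzg⟩ : ∃ z : S →ₐ[k] k, P ≤ RingHom.ker z ∧ z (algebraMap S₀ S g) ≠ 0 := by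
      by_contra hno
      push Not at hno
      obtain ⟨n, hn⟩ := GitQuot.isNilpotent_of_forall_point (k := k) (Ideal.Quotient.mk P (algebraMap S₀ S g)) fun w =>
        hno (w.comp (Ideal.Quotient.mkₐ k P)) fun a ha => by
          simp [RingHom.mem_ker, Ideal.Quotient.eq_zero_iff_mem.2 ha]
      rw [← map_pow, Ideal.Quotient.eq_zero_iff_mem] at hn
      exact hgP (hP.mem_of_pow_mem n hn)
    let z₀ : S₀ →ₐ[k] k := z.comp (IsScalarTower.toAlgHom k S₀ S)
    obtain ⟨⟨qL, hqL⟩, hqLz⟩ := hgU (show (⟨RingHom.ker z₀, RingHom.ker_isPrime z₀⟩ : PrimeSpectrum S₀) ∈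
      PrimeSpectrum.basicOpen g from hzg)
    have : Algebra.FiniteType k L := Algebra.FiniteType.trans (S := R₀) inferInstance inferInstance
    obtain ⟨w, hw⟩ := GitQuot.exists_point (k := k) qL hqL.ne_top
    have hwz : ∀ s, w (algebraMap S₀ L s) = z₀ s := by
      intro s
      have h1 : algebraMap S₀ L (s - algebraMap k S₀ (z₀ s)) ∈ qL := by
        have := congrArg PrimeSpectrum.asIdeal hqLz
        exact this.ge (by simp [RingHom.mem_ker])
      have h2 := RingHom.mem_ker.1 (hw h1)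
      rw [map_sub, map_sub, ← IsScalarTower.algebraMap_apply, AlgHom.commutes, sub_eq_zero] at h2
      exact h2
    let : Algebra S₀ k := z₀.toRingHom.toAlgebra
    let zS : S →ₐ[S₀] k := { z.toRingHom with commutes' := fun s => rfl }
    let wL : L →ₐ[S₀] k := { w.toRingHom with commutes' := fun s => hwz s }
    let pt : EA f →+* k := (Algebra.TensorProduct.productMap zS wL).toRingHom.comp e.symm.toRingEquiv.toRingHom
    have hpt : ∀ s, pt (algebraMap S (EA f) s) = z s := fun s => by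
      change Algebra.TensorProduct.productMap zS wL (e.symm (algebraMap S (EA f) s)) = z s
      rw [e.symm.commutes, Algebra.TensorProduct.algebraMap_apply, Algebra.TensorProduct.productMap_apply_tmul, map_one, mul_one]
      rfl
    have hzmem : (⟨RingHom.ker z, RingHom.ker_isPrime z⟩ : PrimeSpectrum S) ∈
        Set.range (PrimeSpectrum.comap (algebraMap S (EA f))) :=
      ⟨⟨RingHom.ker pt, RingHom.ker_isPrime pt⟩, PrimeSpectrum.ext (Ideal.ext fun s => by
        change pt (algebraMap S (EA f) s) = 0 ↔ z s = 0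
        rw [hpt])⟩
    obtain ⟨⟨Q', hQ'⟩, hQ'P⟩ := hopen.stableUnderGeneralization
      ((PrimeSpectrum.le_iff_specializes (⟨P, hP⟩ : PrimeSpectrum S) _).1 hz) hzmem
    refine ⟨Q'.comap (algebraMap R (EA f)), Ideal.IsPrime.comap _, ?_, ?_⟩
    · intro h
      have hmul : algebraMap R₀ R (f * algebraMap S₀ R₀ g) = algebraMap R₀ R f * algebraMap R₀ R (algebraMap S₀ R₀ g) :=
        map_mul _ _ _
      rcases (Ideal.IsPrime.comap (algebraMap R (EA f))).mem_or_mem (hmul ▸ h) with h1 | h1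
      · exact hQ'.ne_top (Ideal.eq_top_of_isUnit_mem _ h1
          (IsLocalization.map_units (EA f) (⟨algebraMap R₀ R f, 1, pow_one _⟩ : Submonoid.powers (algebraMap R₀ R f))))
      · rw [hcompat, Ideal.mem_comap, ← IsScalarTower.algebraMap_apply] at h1
        exact hgP ((congrArg PrimeSpectrum.asIdeal hQ'P).le h1)
    · rw [Ideal.comap_comap, ← IsScalarTower.algebraMap_eq]
      exact congrArg PrimeSpectrum.asIdeal hQ'P
  · exact fun Q _ hQ => he₄ Q fun h => hgh Q inferInstance hQ (Ideal.mem_of_dvd _ (map_dvd _ hf₄) h)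
  · -- closed orbits
    intro x' hx'h hx'
    have hx'f : x' (algebraMap R₀ R f) ≠ 0 := fun h => hx'h (by rw [map_mul, map_mul, h, zero_mul])
    obtain ⟨v, hv, hvle, hvinv⟩ := GitQuot.exists_closed_orbit_in_fibre (A := A) hG (x'.comp θ)
    let x'L : L →ₐ[k] k := IsLocalization.liftAlgHom (M := Submonoid.powers f)
      (f := x'.comp (IsScalarTower.toAlgHom k R₀ R)) (by
        rintro ⟨_, n, rfl⟩
        exact (pow_ne_zero n hx'f).isUnit |> fun h => by simpa using h)
    let z₀ : S₀ →ₐ[k] k := v.comp (IsScalarTower.toAlgHom k S₀ S)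
    let : Algebra S₀ k := z₀.toRingHom.toAlgebra
    let vS : S →ₐ[S₀] k := { v.toRingHom with commutes' := fun s => rfl }
    have hx'L : ∀ a, x'L (algebraMap R₀ L a) = x' (algebraMap R₀ R a) := fun a => IsLocalization.lift_eq _ a
    have hx'Lc : ∀ s, x'L (algebraMap S₀ L s) = v (algebraMap S₀ S s) := fun s => by
      rw [IsScalarTower.algebraMap_apply S₀ R₀ L, hx'L, hvinv _ (hS₀mem s), hcompat]
      rfl
    let wL : L →ₐ[S₀] k := { x'L.toRingHom with commutes' := fun s => hx'Lc s }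
    let pt : EA f →+* k := (Algebra.TensorProduct.productMap vS wL).toRingHom.comp e.symm.toRingEquiv.toRingHom
    have hptS : ∀ s, pt (algebraMap S (EA f) s) = v s := fun s => by
      change Algebra.TensorProduct.productMap vS wL (e.symm (algebraMap S (EA f) s)) = v s
      rw [e.symm.commutes, Algebra.TensorProduct.algebraMap_apply, Algebra.TensorProduct.productMap_apply_tmul, map_one, mul_one]
      rfl
    have hptR : ∀ a, pt (algebraMap R (EA f) (algebraMap R₀ R a)) = x' (algebraMap R₀ R a) := fun a => by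
      change Algebra.TensorProduct.productMap vS wL (e.symm (algebraMap R (EA f) (algebraMap R₀ R a))) = _
      have h : e ((1 : S) ⊗ₜ[S₀] algebraMap R₀ L a) = algebraMap R (EA f) (algebraMap R₀ R a) := by
        refine (show e _ = π f _ from rfl).trans ?_
        simp [π, L, hτ]
      rw [← h, e.symm_apply_apply, Algebra.TensorProduct.productMap_apply_tmul, map_one, one_mul]
      exact hx'L a
    let z : R →ₐ[k] k :=
      { pt.comp (algebraMap R (EA f)) with
        commutes' := fun t => by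
          change pt (algebraMap R (EA f) (algebraMap k R t)) = t
          rw [IsScalarTower.algebraMap_apply k S R, ← IsScalarTower.algebraMap_apply S R (EA f), hptS, AlgHom.commutes]
          rfl }
    have hzθ : z.comp θ = v := AlgHom.ext fun s => by
      change pt (algebraMap R (EA f) (algebraMap S R s)) = v s
      rw [← IsScalarTower.algebraMap_apply S R (EA f), hptS]
    have hzle := Luna.ker_orbitHom_le_of_closed hG hx' (y' := z) fun a ha => by
      obtain ⟨t, rfl⟩ := hR₀surj _ ha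
      exact hptR t
    refine Luna.isClosedOrbit_of_minimal _ fun w hw => ?_
    have hle : RingHom.ker (GLin.orbitHom k A v) ≤ RingHom.ker (GLin.orbitHom k A (x'.comp θ)) := by
      intro s hs
      rw [← hzθ, RingHom.mem_ker, Luna.orbitHom_comp hθ] at hs
      rw [RingHom.mem_ker, Luna.orbitHom_comp hθ]
      exact hzle hs
    obtain ⟨g', hg'⟩ := hv w (hle.trans hw)
    have : GLin.actPt k g' v = w := AlgHom.ext fun s => by rw [GitQuot.apply_actPt, hg']
    rw [← this, Luna.ker_orbitHom_actPt]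
    exact hle
  · intro q' _ hq'
    have hfq : f ∉ q' := fun h => hq' (Ideal.mul_mem_right _ _ h)
    exact Algebra.basicOpen_subset_etaleLocus_iff_etale.2 hLet (show (⟨q', inferInstance⟩ : PrimeSpectrum R₀) ∈
      PrimeSpectrum.basicOpen f from hfq)
  · intro z hz
    obtain ⟨n, hn⟩ := hkerΦ z 0 (by rw [show Φ z = 0 from hz, mul_zero])
    refine ⟨n, ?_⟩
    rw [show (1 : S) ⊗ₜ[S₀] (f * algebraMap S₀ R₀ g) = ((1 : S) ⊗ₜ[S₀] f) * ((1 : S) ⊗ₜ[S₀] algebraMap S₀ R₀ g) by
      rw [Algebra.TensorProduct.tmul_mul_tmul, mul_one], mul_pow, mul_right_comm, hn, zero_mul]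
  · intro r
    obtain ⟨n, z, hz⟩ := hsurjΦ (f * algebraMap S₀ R₀ g) (hf₁₂.mul_right _) r
    exact ⟨n, z, hz⟩

end Groth.Agent.S19407
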