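import Groth.Statements.S19408
import Groth.Agent.Hopf.Luna.Orbit
import Groth.Agent.GitQuot.Reynolds
import Groth.Agent.GitQuot.Hilbert

set_option autoImplicit false
universe u
open TensorProduct
open GLin

namespace Groth.Agent.S19408

theorem etale_of_surjective {S S' R R' : Type u} [CommRing S] [CommRing S'] [CommRing R] [CommRing R']
    [Algebra S S'] [Algebra S R] [Algebra S R'] [Algebra S' R'] [IsScalarTower S S' R']
    (p : R →ₐ[S] R') (hq : Function.Surjective (algebraMap S S')) (hp : Function.Surjective p)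
    (hker : ∀ r, p r = 0 → r ∈ (RingHom.ker (algebraMap S S')).map (algebraMap S R))
    [Algebra.Etale S R] : Algebra.Etale S' R' := by
  let Φ : S' ⊗[S] R →ₐ[S'] R' := Algebra.TensorProduct.lift (Algebra.ofId S' R') p fun _ _ => Commute.all _ _
  have hone : ∀ z : S' ⊗[S] R, ∃ r, z = (1 : S') ⊗ₜ[S] r := by
    intro z
    induction z using TensorProduct.induction_on with
    | zero => exact ⟨0, by rw [TensorProduct.tmul_zero]⟩
    | tmul a r =>
      obtain ⟨s, rfl⟩ := hq a
      exact ⟨s • r, by rw [Algebra.algebraMap_eq_smul_one, TensorProduct.smul_tmul]⟩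
    | add a b ha hb =>
      obtain ⟨r, rfl⟩ := ha
      obtain ⟨r', rfl⟩ := hb
      exact ⟨r + r', (TensorProduct.tmul_add _ _ _).symm⟩
  have hΦ : Function.Bijective Φ := by
    refine ⟨(injective_iff_map_eq_zero Φ).2 fun z hz => ?_, fun r' => ?_⟩
    · obtain ⟨r, rfl⟩ := hone z
      have h : p r = 0 := by simpa [Φ] using hz
      have hle : (RingHom.ker (algebraMap S S')).map (algebraMap S R) ≤
          RingHom.ker (Algebra.TensorProduct.includeRight : R →ₐ[S] S' ⊗[S] R) :=
        Ideal.map_le_iff_le_comap.2 fun s hs => by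
          rw [Ideal.mem_comap, RingHom.mem_ker, AlgHom.commutes, Algebra.TensorProduct.algebraMap_apply,
            RingHom.mem_ker.1 hs, TensorProduct.zero_tmul]
      exact hle (hker r h)
    · obtain ⟨r, rfl⟩ := hp r'
      exact ⟨1 ⊗ₜ r, by simp [Φ]⟩
  exact Algebra.Etale.of_equiv (AlgEquiv.ofBijective Φ hΦ)

open Groth.ComodLib


/-- Let k be an algebraically closed field of characteristic zero, A a finitely generated commutative
Hopf algebra over k all of whose finite-dimensional comodules are semisimple (a reductive group G),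
S and R finitely generated commutative k-algebras with multiplicative A-coactions (G acting on
affine Y = Spec S and X = Spec R), S → R an algebra map compatible with the coactions (a G-morphism
θ : X → Y), S₀ → S and R₀ → R injective k-algebra maps whose images are the subrings of invariants,
and S₀ → R₀ an algebra map with S₀ → R₀ → R equal to S₀ → S → R (θ/G). Suppose R is étale over S, R₀
is étale over S₀, and the canonical map S ⊗_{S₀} R₀ → R is bijective (θ and θ/G étale and X ≅ Y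
×_{Y//G} X//G). Let J be an ideal of S which is a subcomodule (Y' = V(J) a closed G-invariant
subscheme), let S/J and R/JR carry A-coactions for which the quotient maps are compatible with the
coactions (the induced actions on Y' and X' = Y' ×_Y X), and let S₁ → S/J and R₁ → R/JR be injective
k-algebra maps whose images are the subrings of invariants, with S₁ → R₁ an algebra map such that S₁
→ R₁ → R/JR equals S₁ → S/J → R/JR. Then R/JR is étale over S/J, R₁ is étale over S₁, and the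
canonical map (S/J) ⊗_{S₁} R₁ → R/JR is bijective (θ' : X' → Y' and θ'/G are étale and X' ≅ Y'
×_{Y'//G} X'//G). -/
theorem result (k : Type u) [Field k] [IsAlgClosed k] [CharZero k]
    (A : Type u) [CommRing A] [HopfAlgebra k A] [Algebra.FiniteType k A] (hG : HopfRep.IsLinearlyReductive k A)
    (S : Type u) [CommRing S] [Algebra k S] [Algebra.FiniteType k S] [HopfRep.Comod k A S] [GLin.IsCoactAlg k A S]
    (R : Type u) [CommRing R] [Algebra k R] [Algebra.FiniteType k R] [HopfRep.Comod k A R] [GLin.IsCoactAlg k A R]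
    [Algebra S R] [IsScalarTower k S R]
    (hequiv : (∀ s : S, HopfRep.Comod.coact (k := k) (A := A) (algebraMap S R s) =
      Algebra.TensorProduct.map (IsScalarTower.toAlgHom k S R) (AlgHom.id k A) (HopfRep.Comod.coact (k := k) (A := A) s)))
    (S₀ : Type u) [CommRing S₀] [Algebra k S₀] [Algebra S₀ S] [IsScalarTower k S₀ S]
    (hS₀i : Function.Injective (algebraMap S₀ S)) (hS₀ : (IsScalarTower.toAlgHom k S₀ S).range = GLin.invariants k A S)
    (R₀ : Type u) [CommRing R₀] [Algebra k R₀] [Algebra R₀ R] [IsScalarTower k R₀ R]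
    (hR₀i : Function.Injective (algebraMap R₀ R)) (hR₀ : (IsScalarTower.toAlgHom k R₀ R).range = GLin.invariants k A R)
    [Algebra S₀ R₀] [Algebra S₀ R] [IsScalarTower S₀ S R] [IsScalarTower S₀ R₀ R]
    (het : Algebra.Etale S R) (het₀ : Algebra.Etale S₀ R₀)
    (hcart : Function.Bijective (Algebra.TensorProduct.productMap (IsScalarTower.toAlgHom S₀ S R) (IsScalarTower.toAlgHom S₀ R₀ R)))
    (J : Ideal S) (hJ : HopfRep.IsSubcomod (k := k) (A := A) (J.restrictScalars k))
    [HopfRep.Comod k A (S ⧸ J)] [GLin.IsCoactAlg k A (S ⧸ J)]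
    (hqS : (∀ s : S, HopfRep.Comod.coact (k := k) (A := A) ((Ideal.Quotient.mkₐ k J) s) =
        Algebra.TensorProduct.map (Ideal.Quotient.mkₐ k J) (AlgHom.id k A) (HopfRep.Comod.coact (k := k) (A := A) s)))
    [HopfRep.Comod k A (R ⧸ J.map (algebraMap S R))] [GLin.IsCoactAlg k A (R ⧸ J.map (algebraMap S R))]
    (hqR : (∀ s : R, HopfRep.Comod.coact (k := k) (A := A) ((Ideal.Quotient.mkₐ k (J.map (algebraMap S R))) s) =
        Algebra.TensorProduct.map (Ideal.Quotient.mkₐ k (J.map (algebraMap S R))) (AlgHom.id k A) (HopfRep.Comod.coact (k := k) (A := A) s)))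
    (S₁ : Type u) [CommRing S₁] [Algebra k S₁] [Algebra S₁ (S ⧸ J)] [IsScalarTower k S₁ (S ⧸ J)]
    (hS₁i : Function.Injective (algebraMap S₁ (S ⧸ J)))
    (hS₁ : (IsScalarTower.toAlgHom k S₁ (S ⧸ J)).range = GLin.invariants k A (S ⧸ J))
    (R₁ : Type u) [CommRing R₁] [Algebra k R₁] [Algebra R₁ (R ⧸ J.map (algebraMap S R))] [IsScalarTower k R₁ (R ⧸ J.map (algebraMap S R))]
    (hR₁i : Function.Injective (algebraMap R₁ (R ⧸ J.map (algebraMap S R))))
    (hR₁ : (IsScalarTower.toAlgHom k R₁ (R ⧸ J.map (algebraMap S R))).range = GLin.invariants k A (R ⧸ J.map (algebraMap S R)))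
    [Algebra S₁ R₁] [Algebra S₁ (R ⧸ J.map (algebraMap S R))]
    [IsScalarTower S₁ (S ⧸ J) (R ⧸ J.map (algebraMap S R))] [IsScalarTower S₁ R₁ (R ⧸ J.map (algebraMap S R))] :
    Algebra.Etale (S ⧸ J) (R ⧸ J.map (algebraMap S R)) ∧ Algebra.Etale S₁ R₁ ∧
      Function.Bijective (Algebra.TensorProduct.productMap
        (IsScalarTower.toAlgHom S₁ (S ⧸ J) (R ⧸ J.map (algebraMap S R)))
        (IsScalarTower.toAlgHom S₁ R₁ (R ⧸ J.map (algebraMap S R)))) := by
  classical
  let θ := IsScalarTower.toAlgHom k S R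
  have hθ : Hoch.IsComodHom A θ.toLinearMap := Luna.isComodHom_of_equiv θ hequiv
  let pS := Ideal.Quotient.mkₐ k J
  let pR := Ideal.Quotient.mkₐ k (J.map (algebraMap S R))
  have hpS : Hoch.IsComodHom A pS.toLinearMap := Luna.isComodHom_of_equiv pS hqS
  have hpR : Hoch.IsComodHom A pR.toLinearMap := Luna.isComodHom_of_equiv pR hqR
  have hS₀mem : ∀ s, algebraMap S₀ S s ∈ HopfRep.fixedPts k A S := fun s => hS₀.le ⟨s, rfl⟩
  have hR₀mem : ∀ s, algebraMap R₀ R s ∈ HopfRep.fixedPts k A R := fun s => hR₀.le ⟨s, rfl⟩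
  have hcompat : ∀ s, algebraMap R₀ R (algebraMap S₀ R₀ s) = algebraMap S R (algebraMap S₀ S s) := fun s => by
    rw [← IsScalarTower.algebraMap_apply, ← IsScalarTower.algebraMap_apply]
  -- the maps on invariants
  let σ : S₀ →+* S₁ := (AlgEquiv.ofInjective (IsScalarTower.toAlgHom k S₁ (S ⧸ J)) hS₁i).symm.toAlgHom.toRingHom.comp
    (((pS.comp (IsScalarTower.toAlgHom k S₀ S)).codRestrict (IsScalarTower.toAlgHom k S₁ (S ⧸ J)).range fun s =>
      hS₁.ge (GitQuot.map_mem_fixedPts hpS (hS₀mem s))).toRingHom)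
  have hσ : ∀ s, algebraMap S₁ (S ⧸ J) (σ s) = pS (algebraMap S₀ S s) := fun s =>
    congrArg Subtype.val ((AlgEquiv.ofInjective (IsScalarTower.toAlgHom k S₁ (S ⧸ J)) hS₁i).apply_symm_apply
      (((pS.comp (IsScalarTower.toAlgHom k S₀ S)).codRestrict _ fun s =>
        hS₁.ge (GitQuot.map_mem_fixedPts hpS (hS₀mem s))) s))
  let ρ : R₀ →+* R₁ := (AlgEquiv.ofInjective (IsScalarTower.toAlgHom k R₁ (R ⧸ J.map (algebraMap S R))) hR₁i).symm.toAlgHom.toRingHom.comp
    (((pR.comp (IsScalarTower.toAlgHom k R₀ R)).codRestrict (IsScalarTower.toAlgHom k R₁ (R ⧸ J.map (algebraMap S R))).range fun s =>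
      hR₁.ge (GitQuot.map_mem_fixedPts hpR (hR₀mem s))).toRingHom)
  have hρ : ∀ s, algebraMap R₁ (R ⧸ J.map (algebraMap S R)) (ρ s) = pR (algebraMap R₀ R s) := fun s =>
    congrArg Subtype.val ((AlgEquiv.ofInjective (IsScalarTower.toAlgHom k R₁ (R ⧸ J.map (algebraMap S R))) hR₁i).apply_symm_apply
      (((pR.comp (IsScalarTower.toAlgHom k R₀ R)).codRestrict _ fun s =>
        hR₁.ge (GitQuot.map_mem_fixedPts hpR (hR₀mem s))) s))
  have hσs : Function.Surjective σ := fun b => by
    obtain ⟨v, hv, hvb⟩ := GitQuot.exists_fixedPts_map_eq hG hpS (Ideal.Quotient.mkₐ_surjective k J)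
      (show algebraMap S₁ (S ⧸ J) b ∈ HopfRep.fixedPts k A (S ⧸ J) from hS₁.le ⟨b, rfl⟩)
    obtain ⟨s, rfl⟩ := hS₀.ge hv
    exact ⟨s, hS₁i ((hσ s).trans hvb)⟩
  have hρs : Function.Surjective ρ := fun b => by
    obtain ⟨v, hv, hvb⟩ := GitQuot.exists_fixedPts_map_eq hG hpR (Ideal.Quotient.mkₐ_surjective k _)
      (show algebraMap R₁ (R ⧸ J.map (algebraMap S R)) b ∈ HopfRep.fixedPts k A _ from hR₁.le ⟨b, rfl⟩)
    obtain ⟨s, rfl⟩ := hR₀.ge hv
    exact ⟨s, hR₁i ((hρ s).trans hvb)⟩
  let : Algebra S₀ S₁ := σ.toAlgebra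
  let : Algebra S₀ R₁ := ((algebraMap S₁ R₁).comp σ).toAlgebra
  have : IsScalarTower S₀ S₁ R₁ := .of_algebraMap_eq fun _ => rfl
  have hsq : ∀ a, algebraMap S₁ R₁ (σ a) = ρ (algebraMap S₀ R₀ a) := fun a => hR₁i (by
    rw [hρ, hcompat, ← IsScalarTower.algebraMap_apply S₁ R₁ (R ⧸ J.map (algebraMap S R)),
      IsScalarTower.algebraMap_apply S₁ (S ⧸ J) (R ⧸ J.map (algebraMap S R)), hσ]
    rfl)
  -- the comparison
  let Φ := Algebra.TensorProduct.productMap (IsScalarTower.toAlgHom S₀ S R) (IsScalarTower.toAlgHom S₀ R₀ R)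
  let JT : Ideal (S ⊗[S₀] R₀) := J.map (Algebra.TensorProduct.includeLeft : S →ₐ[S₀] S ⊗[S₀] R₀)
  have hJT : ∀ w, Φ w ∈ J.map (algebraMap S R) → w ∈ JT := by
    intro w hw
    have e : J.map (algebraMap S R) = JT.map Φ.toRingHom := by
      rw [show JT = J.map (Algebra.TensorProduct.includeLeft : S →ₐ[S₀] S ⊗[S₀] R₀).toRingHom from rfl, Ideal.map_map]
      congr 1
      ext s
      simp [Φ, IsScalarTower.coe_toAlgHom']
    rw [e] at hw
    obtain ⟨w', hw', he⟩ := (Ideal.mem_map_iff_of_surjective Φ.toRingHom hcart.2).1 hw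
    rwa [← hcart.1 he]
  obtain ⟨ES, hES⟩ := GitQuot.exists_reynolds (V := S) (A := A) hG
  obtain ⟨ER, hER⟩ := GitQuot.exists_reynolds (V := R) (A := A) hG
  have hkerρ : ∀ a, ρ a = 0 → a ∈ (RingHom.ker (algebraMap S₀ S₁)).map (algebraMap S₀ R₀) := by
    intro a ha
    have h1 : algebraMap R₀ R a ∈ J.map (algebraMap S R) :=
      Ideal.Quotient.eq_zero_iff_mem.1 (by rw [← Ideal.Quotient.mkₐ_eq_mk k, ← hρ, ha, map_zero])
    let K := (RingHom.ker (algebraMap S₀ S₁)).map (algebraMap S₀ R₀)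
    have key : ∀ r ∈ J.map (algebraMap S R), ∀ c : R, ∃ b ∈ K, algebraMap R₀ R b = ER (c * r) := by
      intro r hr
      induction hr using Submodule.span_induction with
      | mem r hr =>
        obtain ⟨j, hj, rfl⟩ := hr
        intro c
        obtain ⟨w, rfl⟩ := hcart.2 c
        induction w using TensorProduct.induction_on with
        | zero => exact ⟨0, zero_mem _, by simp⟩
        | add u v hu hv =>
          obtain ⟨b, hb, e⟩ := hu
          obtain ⟨b', hb', e'⟩ := hv
          exact ⟨b + b', add_mem hb hb', by rw [map_add, e, e', map_add, add_mul, map_add]⟩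
        | tmul s b =>
          obtain ⟨t, ht⟩ := hS₀.ge (show ES (s * j) ∈ GLin.invariants k A S from hES.apply_mem _)
          refine ⟨algebraMap S₀ R₀ t * b, Ideal.mul_mem_right _ _ (Ideal.mem_map_of_mem _ ?_), ?_⟩
          · refine RingHom.mem_ker.2 (hS₁i ?_)
            change algebraMap S₁ (S ⧸ J) (σ t) = _
            rw [hσ, map_zero, Ideal.Quotient.mkₐ_eq_mk, Ideal.Quotient.eq_zero_iff_mem]
            rw [show algebraMap S₀ S t = ES (s * j) from ht]
            exact hES.apply_mem_of_mem hG hJ (Ideal.mul_mem_left _ _ hj)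
          · rw [map_mul, hcompat, show algebraMap S₀ S t = ES (s * j) from ht]
            have h2 : ER (algebraMap S R (s * j)) = algebraMap S R (ES (s * j)) :=
              LinearMap.congr_fun (hES.natural hG hER hθ) (s * j)
            rw [← h2, ← hER.map_mul (fun f g => GLin.IsCoactAlg.coact_mul f g) hG _ (hR₀mem b)]
            congr 1
            rw [Algebra.TensorProduct.productMap_apply_tmul, map_mul]
            simp only [IsScalarTower.coe_toAlgHom']
            ring
      | zero => intro c; exact ⟨0, zero_mem _, by simp⟩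
      | add u v _ _ hu hv =>
        intro c
        obtain ⟨b, hb, e⟩ := hu c
        obtain ⟨b', hb', e'⟩ := hv c
        exact ⟨b + b', add_mem hb hb', by rw [map_add, e, e', mul_add, map_add]⟩
      | smul d r _ hr =>
        intro c
        obtain ⟨b, hb, e⟩ := hr (c * d)
        exact ⟨b, hb, by rw [e, smul_eq_mul, mul_assoc]⟩
    obtain ⟨b, hb, e⟩ := key _ h1 1
    rw [one_mul, (hER.fixed _).2 (hR₀mem a)] at e
    rwa [← hR₀i e]
  have hEt₁ : Algebra.Etale S₁ R₁ :=
    etale_of_surjective (S' := S₁) ({ ρ with commutes' := fun a => (hsq a).symm } : R₀ →ₐ[S₀] R₁) hσs hρs hkerρ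
  have hEtq : Algebra.Etale (S ⧸ J) (R ⧸ J.map (algebraMap S R)) :=
    etale_of_surjective (S' := S ⧸ J) (Ideal.Quotient.mkₐ S (J.map (algebraMap S R))) Ideal.Quotient.mk_surjective
      (Ideal.Quotient.mkₐ_surjective S _) (fun r hr => by
        rw [Ideal.Quotient.algebraMap_eq, Ideal.mk_ker]
        exact Ideal.Quotient.eq_zero_iff_mem.1 hr)
  refine ⟨hEtq, hEt₁, ?_⟩
  let : Algebra S₀ ((S ⧸ J) ⊗[S₁] R₁) := ((algebraMap S₁ ((S ⧸ J) ⊗[S₁] R₁)).comp σ).toAlgebra
  let fS : S →ₐ[S₀] (S ⧸ J) ⊗[S₁] R₁ :=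
    { (Algebra.TensorProduct.includeLeftRingHom).comp (Ideal.Quotient.mk J) with
      commutes' := fun a => by
        change (Ideal.Quotient.mk J (algebraMap S₀ S a)) ⊗ₜ[S₁] (1 : R₁) = algebraMap S₁ ((S ⧸ J) ⊗[S₁] R₁) (σ a)
        rw [Algebra.TensorProduct.algebraMap_apply, hσ]
        rfl }
  let fR : R₀ →ₐ[S₀] (S ⧸ J) ⊗[S₁] R₁ :=
    { (Algebra.TensorProduct.includeRight : R₁ →ₐ[S₁] (S ⧸ J) ⊗[S₁] R₁).toRingHom.comp ρ with
      commutes' := fun a => by
        change (Algebra.TensorProduct.includeRight : R₁ →ₐ[S₁] (S ⧸ J) ⊗[S₁] R₁) (ρ (algebraMap S₀ R₀ a)) =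
          algebraMap S₁ ((S ⧸ J) ⊗[S₁] R₁) (σ a)
        rw [← hsq, AlgHom.commutes] }
  let ψ := Algebra.TensorProduct.productMap fS fR
  have hψ : Function.Surjective ψ := by
    intro z
    induction z using TensorProduct.induction_on with
    | zero => exact ⟨0, map_zero _⟩
    | tmul a b =>
      obtain ⟨s, rfl⟩ := Ideal.Quotient.mk_surjective a
      obtain ⟨r, rfl⟩ := hρs b
      exact ⟨s ⊗ₜ r, by simp [ψ, fS, fR]⟩
    | add u v hu hv =>
      obtain ⟨u, rfl⟩ := hu
      obtain ⟨v, rfl⟩ := hv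
      exact ⟨u + v, map_add _ _ _⟩
  let Φ₁ := Algebra.TensorProduct.productMap
    (IsScalarTower.toAlgHom S₁ (S ⧸ J) (R ⧸ J.map (algebraMap S R))) (IsScalarTower.toAlgHom S₁ R₁ (R ⧸ J.map (algebraMap S R)))
  have hΦψ : ∀ w, Φ₁ (ψ w) = pR (Φ w) := by
    intro w
    induction w using TensorProduct.induction_on with
    | zero => simp
    | tmul s r =>
      simp only [ψ, Φ₁, Φ, Algebra.TensorProduct.productMap_apply_tmul, fS, fR, AlgHom.coe_mk, RingHom.coe_comp,
        Function.comp_apply, Algebra.TensorProduct.includeLeftRingHom_apply, AlgHom.coe_toRingHom,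
        Algebra.TensorProduct.includeRight_apply, AlgHom.toRingHom_eq_coe, RingHom.coe_coe, Algebra.TensorProduct.tmul_mul_tmul, mul_one, one_mul,
        IsScalarTower.coe_toAlgHom', map_mul, hρ]
      rfl
    | add u v hu hv => simp only [map_add, hu, hv]
  refine ⟨(injective_iff_map_eq_zero Φ₁).2 fun z hz => ?_, fun r => ?_⟩
  · obtain ⟨w, rfl⟩ := hψ z
    rw [hΦψ, Ideal.Quotient.mkₐ_eq_mk, Ideal.Quotient.eq_zero_iff_mem] at hz
    have hle : JT ≤ RingHom.ker ψ := Ideal.map_le_iff_le_comap.2 fun j hj => by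
      rw [Ideal.mem_comap, RingHom.mem_ker]
      change ψ (j ⊗ₜ 1) = 0
      simp [ψ, fS, Ideal.Quotient.eq_zero_iff_mem.2 hj]
    exact hle (hJT w hz)
  · obtain ⟨r, rfl⟩ := Ideal.Quotient.mkₐ_surjective k _ r
    obtain ⟨w, rfl⟩ := hcart.2 r
    exact ⟨ψ w, hΦψ w⟩

end Groth.Agent.S19408
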