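import Groth.Statements.S19410
import Groth.Agent.Hopf.Luna.PolyModel
import Groth.Agent.Hopf.Luna.Stable
import Mathlib.RingTheory.QuasiFinite.Basic
import Mathlib.RingTheory.Polynomial.UniqueFactorization
import Mathlib.LinearAlgebra.TensorProduct.RightExactness

set_option autoImplicit false
universe u
open TensorProduct
open GLin

namespace Groth.Agent.S19410

open Groth.ComodLib
theorem equiv_of_isComodHom {k A V W : Type u} [Field k] [CommRing A] [HopfAlgebra k A] [CommRing V] [Algebra k V]
    [CommRing W] [Algebra k W] [HopfRep.Comod k A V] [HopfRep.Comod k A W] (θ : V →ₐ[k] W)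
    (hθ : Hoch.IsComodHom A θ.toLinearMap) (v : V) :
    HopfRep.Comod.coact (k := k) (A := A) (θ v) =
      Algebra.TensorProduct.map θ (AlgHom.id k A) (HopfRep.Comod.coact (k := k) (A := A) v) := by
  refine (LinearMap.congr_fun hθ v).trans ?_
  simp only [LinearMap.comp_apply]
  induction HopfRep.Comod.coact (k := k) (A := A) v using TensorProduct.induction_on with
  | zero => simp
  | tmul p q => simp
  | add p q hp hq => simp only [map_add, hp, hq]




/-- Work over a field k that is algebraically closed and of characteristic zero. Suppose A is a finitely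
generated commutative Hopf algebra over k whose finite-dimensional comodules are all semisimple (a
reductive group G). Take finitely generated commutative k-algebras S and R, each carrying a
multiplicative A-coaction (G acting on the affine schemes Y = Spec S and X = Spec R), together with
an injective, quasi-finite algebra map S → R that respects the coactions (a dominant quasi-finite
G-morphism φ : X → Y). Then one can find finitely generated commutative k-algebras R' and S', both
integral domains with R' integrally closed, each equipped with a multiplicative A-coaction, along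
with coaction-compatible surjective algebra maps R' → R and S' → S (so X and Y sit as closed
G-stable subschemes inside the integral affine G-varieties X' = Spec R' and Y' = Spec S', where X'
is normal), and a coaction-compatible algebra map S' → R' that is injective and quasi-finite (a
dominant quasi-finite G-morphism X' → Y'), such that following S' → R' by R' → R gives the same map
as following S' → S by S → R. -/
theorem result (k : Type u) [Field k] [IsAlgClosed k] [CharZero k]
    (A : Type u) [CommRing A] [HopfAlgebra k A] [Algebra.FiniteType k A] (hG : HopfRep.IsLinearlyReductive k A)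
    (S : Type u) [CommRing S] [Algebra k S] [Algebra.FiniteType k S] [HopfRep.Comod k A S] [GLin.IsCoactAlg k A S]
    (R : Type u) [CommRing R] [Algebra k R] [Algebra.FiniteType k R] [HopfRep.Comod k A R] [GLin.IsCoactAlg k A R]
    [Algebra S R] [IsScalarTower k S R] [Algebra.QuasiFinite S R] (hinj : Function.Injective (algebraMap S R))
    (hequiv : (∀ s : S, HopfRep.Comod.coact (k := k) (A := A) (algebraMap S R s) =
      Algebra.TensorProduct.map (IsScalarTower.toAlgHom k S R) (AlgHom.id k A) (HopfRep.Comod.coact (k := k) (A := A) s))) :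
    ∃ (R' : Type u) (_ : CommRing R') (_ : IsDomain R') (_ : IsIntegrallyClosed R') (_ : Algebra k R')
      (_ : HopfRep.Comod k A R') (_ : GLin.IsCoactAlg k A R')
      (S' : Type u) (_ : CommRing S') (_ : IsDomain S') (_ : Algebra k S')
      (_ : HopfRep.Comod k A S') (_ : GLin.IsCoactAlg k A S'),
      Algebra.FiniteType k R' ∧ Algebra.FiniteType k S' ∧
      ∃ (pR : R' →ₐ[k] R) (pS : S' →ₐ[k] S) (φ' : S' →ₐ[k] R'),
        Function.Surjective pR ∧ Function.Surjective pS ∧ Function.Injective φ' ∧ φ'.toRingHom.QuasiFinite ∧
        (∀ s : R', HopfRep.Comod.coact (k := k) (A := A) (pR s) =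
        Algebra.TensorProduct.map pR (AlgHom.id k A) (HopfRep.Comod.coact (k := k) (A := A) s)) ∧
        (∀ s : S', HopfRep.Comod.coact (k := k) (A := A) (pS s) =
        Algebra.TensorProduct.map pS (AlgHom.id k A) (HopfRep.Comod.coact (k := k) (A := A) s)) ∧
        (∀ s : S', HopfRep.Comod.coact (k := k) (A := A) (φ' s) =
        Algebra.TensorProduct.map φ' (AlgHom.id k A) (HopfRep.Comod.coact (k := k) (A := A) s)) ∧
        pR.comp φ' = (IsScalarTower.toAlgHom k S R).comp pS := by
  classical
  obtain ⟨ι, _, _, M, hM, π, hπs, hπ⟩ := Luna.exists_poly_cover k A R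
  let cP : HopfRep.Comod k A (MvPolynomial ι k) := CST.matComod M hM
  have hcP : GLin.IsCoactAlg k A (MvPolynomial ι k) := CST.isCoactAlg_matComod M hM
  let P := MvPolynomial ι k
  let θ := IsScalarTower.toAlgHom k S R
  have hθ : Hoch.IsComodHom A θ.toLinearMap := Luna.isComodHom_of_equiv θ hequiv
  -- the ideal of the image
  let J : Ideal P := RingHom.ker π
  obtain ⟨j, hj⟩ := IsNoetherian.noetherian J
  obtain ⟨s, hs⟩ := (Algebra.FiniteType.out : (⊤ : Subalgebra k S).FG)
  choose l hl using fun a : S => hπs (θ a)
  let F : Finset P := s.image l ∪ j ∪ (j ×ˢ Finset.univ).image (fun p : P × ι => MvPolynomial.X p.2 * p.1)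
  let C : Submodule k P := ⨆ a : (F : Set P), gen (k := k) A (a.1 : P)
  have hC : HopfRep.IsSubcomod (k := k) (A := A) C := isSubcomod_iSup _ fun a => isSubcomod_gen _
  obtain ⟨c, hc⟩ : C.FG := Submodule.fg_iSup _ fun a => Module.Finite.iff_fg.1 (finite_gen (a.1 : P))
  have hFC : ∀ a ∈ F, a ∈ C := fun a ha => Submodule.mem_iSup_of_mem (⟨a, ha⟩ : (F : Set P)) (mem_gen_self a)
  -- values land in the image of `S`
  have hπC : C ≤ (θ.range.comap π).toSubmodule := by
    have hsub : HopfRep.IsSubcomod (k := k) (A := A) (θ.range.comap π).toSubmodule :=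
      isSubcomod_comap hπ (isSubcomod_range hθ)
    refine iSup_le fun a => gen_le hsub ?_
    rcases Finset.mem_union.1 a.2 with h | h
    · rcases Finset.mem_union.1 h with h | h
      · obtain ⟨b, -, hb⟩ := Finset.mem_image.1 h
        exact ⟨b, by rw [← hb]; exact (hl b).symm⟩
      · exact ⟨0, by rw [map_zero]; exact (RingHom.mem_ker.1 (hj.le (Submodule.subset_span h) : (a : P) ∈ J)).symm⟩
    · obtain ⟨p, hp, hpa⟩ := Finset.mem_image.1 h
      refine ⟨0, ?_⟩
      rw [map_zero, ← hpa]
      refine Eq.symm ?_
      change π (MvPolynomial.X p.2 * p.1) = 0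
      rw [map_mul, show π p.1 = 0 from hj.le (Submodule.subset_span (Finset.mem_product.1 hp).1), mul_zero]
  let B : Subalgebra k P := Algebra.adjoin k (C : Set P)
  have hCB : ∀ a ∈ F, a ∈ B := fun a ha => Algebra.subset_adjoin (hFC a ha)
  have hBsub : HopfRep.IsSubcomod (k := k) (A := A) B.toSubmodule := Luna.isSubcomod_of_actAlg _ fun g a ha => by
    change Luna.actAlg g a ∈ B
    replace ha : a ∈ B := ha
    induction ha using Algebra.adjoin_induction with
    | mem x hx => exact Algebra.subset_adjoin ((isSubcomod_iff _).1 hC _ x hx)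
    | algebraMap t => rw [AlgHom.commutes]; exact B.algebraMap_mem _
    | add x y _ _ hx hy => rw [map_add]; exact add_mem hx hy
    | mul x y _ _ hx hy => rw [map_mul]; exact mul_mem hx hy
  let cB : HopfRep.Comod k A B := ComodSub.Comod.restr inferInstance B.toSubmodule hBsub
  have hcB : ∀ a : B, Algebra.TensorProduct.map B.val (AlgHom.id k A) (cB.coact a) =
      HopfRep.Comod.coact (k := k) (A := A) (a : P) := fun a =>
    ComodSub.restr_coact_coe _ B.toSubmodule hBsub a
  have hinjB : Function.Injective (Algebra.TensorProduct.map B.val (AlgHom.id k A)) :=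
    ComodSub.rTensor_subtype_injective (A := A) B.toSubmodule
  have hcoB : GLin.IsCoactAlg k A B := by
    refine @GLin.IsCoactAlg.mk k _ A _ _ B _ _ cB (hinjB ?_) (fun f g => hinjB ?_)
    · rw [hcB, map_one, Subalgebra.coe_one, GLin.IsCoactAlg.coact_one (k := k) (A := A) (R := P)]
    · rw [hcB, map_mul, hcB, hcB, Subalgebra.coe_mul, GLin.IsCoactAlg.coact_mul]
  have hBval : Hoch.IsComodHom A B.val.toLinearMap := ComodSub.isComodHom_subtype _ B.toSubmodule hBsub
  have hBθ : ∀ b : B, π (b : P) ∈ θ.range := by
    have : B ≤ θ.range.comap π := Algebra.adjoin_le fun a ha => hπC ha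
    exact fun b => this b.2
  let pS : B →ₐ[k] S := (AlgEquiv.ofInjective θ hinj).symm.toAlgHom.comp ((π.comp B.val).codRestrict θ.range hBθ)
  have hpS : ∀ b : B, θ (pS b) = π (b : P) := fun b =>
    congrArg Subtype.val ((AlgEquiv.ofInjective θ hinj).apply_symm_apply ((π.comp B.val).codRestrict θ.range hBθ b))
  have hpSs : Function.Surjective pS := by
    intro a
    have h : a ∈ Algebra.adjoin k (s : Set S) := hs ▸ Algebra.mem_top
    induction h using Algebra.adjoin_induction with
    | mem b hb =>
      refine ⟨⟨l b, hCB _ (Finset.mem_union_left _ (Finset.mem_union_left _ (Finset.mem_image_of_mem _ hb)))⟩, hinj ?_⟩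
      exact (hpS _).trans (hl b)
    | algebraMap t => exact ⟨algebraMap k B t, pS.commutes t⟩
    | add a b _ _ ha hb =>
      obtain ⟨a, rfl⟩ := ha
      obtain ⟨b, rfl⟩ := hb
      exact ⟨a + b, map_add _ _ _⟩
    | mul a b _ _ ha hb =>
      obtain ⟨a, rfl⟩ := ha
      obtain ⟨b, rfl⟩ := hb
      exact ⟨a * b, map_mul _ _ _⟩
  have hBfg : Algebra.FiniteType k B := by
    refine ⟨(Subalgebra.fg_top _).2 ⟨c, le_antisymm (Algebra.adjoin_mono ?_) (Algebra.adjoin_le fun a ha => ?_)⟩⟩
    · rw [← hc]; exact Submodule.subset_span
    · have hsub : C ≤ (Algebra.adjoin k (c : Set P)).toSubmodule := by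
        rw [← hc]; exact Submodule.span_le.2 Algebra.subset_adjoin
      exact hsub ha
  -- quasi-finiteness
  let : Algebra B S := pS.toRingHom.toAlgebra
  let : Algebra B R := (π.toRingHom.comp B.val.toRingHom).toAlgebra
  have : IsScalarTower B S R := .of_algebraMap_eq fun b => (hpS b).symm
  have : Module.Finite B S := Module.Finite.of_surjective (Algebra.linearMap B S) hpSs
  have : Algebra.QuasiFinite B R := Algebra.QuasiFinite.trans B S R
  let πB : P →ₐ[B] R := { π.toRingHom with commutes' := fun _ => rfl }
  have hjB : ∀ a ∈ j, a ∈ B := fun a ha => hCB a (Finset.mem_union_left _ (Finset.mem_union_right _ ha))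
  have hXB : ∀ a ∈ j, ∀ i, MvPolynomial.X i * a ∈ B := fun a ha i =>
    hCB _ (Finset.mem_union_right _ (Finset.mem_image.2 ⟨(a, i), Finset.mem_product.2 ⟨ha, Finset.mem_univ _⟩, rfl⟩))
  have hQF : Algebra.QuasiFinite B P := by
    refine ⟨fun p hp => ?_⟩
    have hone : ∀ (b : B) (e : P), (1 : p.ResidueField) ⊗ₜ[B] ((b : P) * e) = (algebraMap B p.ResidueField b) ⊗ₜ[B] e := by
      intro b e
      rw [show (b : P) * e = b • e from rfl, ← TensorProduct.smul_tmul, Algebra.algebraMap_eq_smul_one]
    by_cases hall : ∀ (a : P) (ha : a ∈ j), (⟨a, hjB a ha⟩ : B) ∈ p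
    · -- over the closed set
      have hJ0 : ∀ e ∈ J, (1 : p.ResidueField) ⊗ₜ[B] e = 0 := by
        intro e he
        rw [← hj] at he
        obtain ⟨w, -, rfl⟩ := Submodule.mem_span_finset.1 he
        rw [TensorProduct.tmul_sum]
        refine Finset.sum_eq_zero fun a ha => ?_
        rw [smul_eq_mul, mul_comm, hone ⟨a, hjB a ha⟩, Ideal.algebraMap_residueField_eq_zero.2 (hall a ha),
          TensorProduct.zero_tmul]
      let G : p.ResidueField ⊗[B] P →ₗ[p.ResidueField] p.ResidueField ⊗[B] R :=
        (Algebra.TensorProduct.map (AlgHom.id p.ResidueField p.ResidueField) πB).toLinearMap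
      have : Module.Finite p.ResidueField (p.ResidueField ⊗[B] R) := Algebra.QuasiFinite.finite_fiber p
      refine Module.Finite.of_injective G ((injective_iff_map_eq_zero G).2 fun z hz => ?_)
      have hz' : z ∈ RingHom.ker (Algebra.TensorProduct.map (AlgHom.id B p.ResidueField) πB) := by
        rw [RingHom.mem_ker, ← hz]
        clear hz
        induction z using TensorProduct.induction_on with
        | zero => simp [G]
        | tmul a b => simp [G]
        | add a b ha hb => simp only [map_add, ha, hb]
      rw [Algebra.TensorProduct.lTensor_ker πB hπs] at hz'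
      have hle : (RingHom.ker πB).map (Algebra.TensorProduct.includeRight : P →ₐ[B] p.ResidueField ⊗[B] P) ≤ ⊥ :=
        Ideal.map_le_iff_le_comap.2 fun e he => by
          rw [Ideal.mem_comap, Ideal.mem_bot]
          exact hJ0 e he
      exact (Submodule.mem_bot _).1 (hle hz')
    · -- off the closed set
      push Not at hall
      obtain ⟨a, ha, hap⟩ := hall
      let u := algebraMap B p.ResidueField ⟨a, hjB a ha⟩
      have hu : u ≠ 0 := fun h => hap (Ideal.algebraMap_residueField_eq_zero.1 h)
      refine Module.Finite.of_surjective (Algebra.linearMap p.ResidueField (p.ResidueField ⊗[B] P)) fun z => ?_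
      induction z using TensorProduct.induction_on with
      | zero => exact ⟨0, map_zero _⟩
      | add x y hx hy =>
        obtain ⟨x, rfl⟩ := hx
        obtain ⟨y, rfl⟩ := hy
        exact ⟨x + y, map_add _ _ _⟩
      | tmul t e =>
        suffices h : ∃ v, (1 : p.ResidueField) ⊗ₜ[B] e = v ⊗ₜ[B] (1 : P) by
          obtain ⟨v, hv⟩ := h
          refine ⟨t * v, ?_⟩
          rw [Algebra.linearMap_apply, Algebra.TensorProduct.algebraMap_apply]
          have h1 := congrArg (t • ·) hv
          simp only [TensorProduct.smul_tmul', smul_eq_mul, mul_one] at h1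
          exact h1.symm
        induction e using MvPolynomial.induction_on with
        | C r =>
          refine ⟨algebraMap B p.ResidueField (algebraMap k B r), ?_⟩
          rw [← hone]
          simp [P, MvPolynomial.algebraMap_eq]
        | add e e' he he' =>
          obtain ⟨v, hv⟩ := he
          obtain ⟨v', hv'⟩ := he'
          exact ⟨v + v', by rw [TensorProduct.tmul_add, hv, hv', TensorProduct.add_tmul]⟩
        | mul_X e i he =>
          obtain ⟨v, hv⟩ := he
          let w := algebraMap B p.ResidueField ⟨MvPolynomial.X i * a, hXB a ha i⟩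
          refine ⟨w * v / u, ?_⟩
          have h1 : u • ((1 : p.ResidueField) ⊗ₜ[B] (e * MvPolynomial.X i)) = w • ((1 : p.ResidueField) ⊗ₜ[B] e) := by
            rw [TensorProduct.smul_tmul', TensorProduct.smul_tmul', smul_eq_mul, smul_eq_mul, mul_one, mul_one, ← hone, ← hone]
            congr 1
            change a * (e * MvPolynomial.X i) = MvPolynomial.X i * a * e
            ring
          have h2 := congrArg (u⁻¹ • ·) h1
          simp only [smul_smul, inv_mul_cancel₀ hu, one_smul] at h2
          rw [h2, hv, TensorProduct.smul_tmul', smul_eq_mul, div_eq_inv_mul, mul_assoc]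
  refine ⟨P, inferInstance, inferInstance, inferInstance, inferInstance, cP, hcP, B, inferInstance, inferInstance,
    inferInstance, cB, hcoB, inferInstance, hBfg, π, pS, B.val, hπs, hpSs, Subtype.val_injective, hQF,
    equiv_of_isComodHom π hπ, fun b => ?_, fun b => (hcB b).symm, AlgHom.ext fun b => (hpS b).symm⟩
  have hθinj : Function.Injective (Algebra.TensorProduct.map θ (AlgHom.id k A)) :=
    Module.Flat.rTensor_preserves_injective_linearMap θ.toLinearMap hinj
  refine hθinj ((equiv_of_isComodHom θ hθ (pS b)).symm.trans ?_)
  rw [hpS, equiv_of_isComodHom π hπ, ← hcB b]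
  induction cB.coact b using TensorProduct.induction_on with
  | zero => simp
  | tmul p q => simp only [Algebra.TensorProduct.map_tmul, Subalgebra.coe_val, hpS]
  | add p q hp hq => simp only [map_add, hp, hq]

end Groth.Agent.S19410
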