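import Groth.Statements.S19411
import Groth.Agent.GitQuot.Orbits
import Groth.Agent.Hopf.Coeff
import Groth.Agent.Hopf.SmoothHopf
import Groth.Agent.Calg4.SmoothReduced

set_option autoImplicit false
universe u
open TensorProduct
open GLin

namespace Groth.Agent.S19411

open Groth.ComodLib WithConv

theorem eq_zero_or_one_of_connected {R : Type u} [CommRing R] [ConnectedSpace (PrimeSpectrum R)] {e : R}
    (he : IsIdempotentElem e) : e = 0 ∨ e = 1 := by
  have hc : IsClopen (PrimeSpectrum.basicOpen e : Set (PrimeSpectrum R)) :=
    PrimeSpectrum.isClopen_iff.2 ⟨e, he, rfl⟩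
  rcases isClopen_iff.1 hc with h | h
  · exact Or.inl (he.eq_zero_of_isNilpotent
      ((PrimeSpectrum.basicOpen_eq_bot_iff e).1 (SetLike.coe_injective h)))
  · refine Or.inr (sub_eq_zero.1 ?_).symm
    refine he.one_sub.eq_zero_of_isNilpotent ((PrimeSpectrum.basicOpen_eq_bot_iff _).1 ?_)
    refine SetLike.coe_injective (Set.eq_empty_iff_forall_notMem.2 fun p hp => ?_)
    have hpe : p ∈ (PrimeSpectrum.basicOpen e : Set (PrimeSpectrum R)) := h ▸ Set.mem_univ p
    have : e * (1 - e) ∈ p.asIdeal := by rw [mul_sub, mul_one, he.eq, sub_self]; exact zero_mem _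
    exact (p.isPrime.mem_or_mem this).elim hpe hp

theorem slice_mul {k : Type u} [Field k] {A : Type u} [CommRing A] [Algebra k A] {R : Type u} [CommRing R]
    [Algebra k R] (g : A →ₐ[k] k) (z w : R ⊗[k] A) :
    slice g.toLinearMap (z * w) = slice g.toLinearMap z * slice g.toLinearMap w := by
  induction z using TensorProduct.induction_on with
  | zero => simp
  | add p q hp hq => simp only [add_mul, map_add, hp, hq]
  | tmul p a =>
    induction w using TensorProduct.induction_on with
    | zero => simp
    | add p' q' hp hq => simp only [mul_add, map_add, hp, hq]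
    | tmul p' a' => simp [smul_smul, mul_comm]

theorem finite_lslice_range {k : Type u} [Field k] {A : Type u} [CommRing A] [Algebra k A] {R : Type u}
    [CommRing R] [Algebra k R] (θ : R ⊗[k] A) :
    ∃ W : Submodule k A, FiniteDimensional k W ∧ ∀ ψ : R →ₗ[k] k, lslice ψ θ ∈ W := by
  induction θ using TensorProduct.induction_on with
  | zero => exact ⟨⊥, inferInstance, fun ψ => by simp⟩
  | tmul r a =>
    exact ⟨k ∙ a, inferInstance, fun ψ => by rw [lslice_tmul]; exact Submodule.smul_mem _ _ (Submodule.mem_span_singleton_self a)⟩
  | add x y hx hy =>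
    obtain ⟨W, hW, hxW⟩ := hx
    obtain ⟨W', hW', hyW⟩ := hy
    exact ⟨W ⊔ W', inferInstance, fun ψ => by rw [map_add]; exact add_mem (Submodule.mem_sup_left (hxW ψ)) (Submodule.mem_sup_right (hyW ψ))⟩


/-- Let k be an uncountable algebraically closed field of characteristic zero, A a finitely generated
commutative Hopf algebra over k all of whose finite-dimensional comodules are semisimple (a
reductive group G), and R a reduced finitely generated commutative k-algebra whose prime spectrum is
connected, with a multiplicative A-coaction ρ (G acting on the connected affine scheme X = Spec R).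
Let θ ∈ R ⊗ A be such that the map r ↦ ρ(r)·θ from R to R ⊗ A is coassociative and counital (a
structure of G-line bundle on the trivial line bundle of X, θ being the corresponding invertible
function on X × G). Suppose that either every unit of A is a scalar multiple of a group-like element
(every invertible function on G is a constant times a character), or every unit of R is a scalar
(every invertible function on X is constant). Then θ = 1 ⊗ χ for some group-like element χ of A: the
G-line bundle is the one attached to the character χ. (Stated for G-line bundle structures on the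
trivial bundle, the case to which the hypothesis of a trivial Picard group reduces the source's
statement; uncountability of k is what the argument uses in the first case.) -/
theorem result (k : Type u) [Field k] [IsAlgClosed k] [CharZero k] [Uncountable k]
    (A : Type u) [CommRing A] [HopfAlgebra k A] [Algebra.FiniteType k A] (hG : HopfRep.IsLinearlyReductive k A)
    (R : Type u) [CommRing R] [IsReduced R] [Algebra k R] [Algebra.FiniteType k R] [HopfRep.Comod k A R] [GLin.IsCoactAlg k A R]
    [ConnectedSpace (PrimeSpectrum R)]
    (θ : R ⊗[k] A)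
    (hassoc : (TensorProduct.assoc k R A A).toLinearMap ∘ₗ
        ((LinearMap.mulRight k θ) ∘ₗ HopfRep.Comod.coact (k := k) (A := A) (V := R)).rTensor A ∘ₗ
          ((LinearMap.mulRight k θ) ∘ₗ HopfRep.Comod.coact (k := k) (A := A) (V := R)) =
      (CoalgebraStruct.comul (R := k) (A := A)).lTensor R ∘ₗ
        ((LinearMap.mulRight k θ) ∘ₗ HopfRep.Comod.coact (k := k) (A := A) (V := R)))
    (hcounit : (CoalgebraStruct.counit (R := k) (A := A)).lTensor R ∘ₗ
        ((LinearMap.mulRight k θ) ∘ₗ HopfRep.Comod.coact (k := k) (A := A) (V := R)) =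
      (TensorProduct.mk k R k).flip 1)
    (h : (∀ u : Aˣ, ∃ (c : k) (χ : A), IsGroupLikeElem k χ ∧ (u : A) = c • χ) ∨
      (∀ u : Rˣ, (u : R) ∈ Set.range (algebraMap k R))) :
    ∃ χ : A, IsGroupLikeElem k χ ∧ θ = (1 : R) ⊗ₜ[k] χ := by
  classical
  have : Nonempty (PrimeSpectrum R) := inferInstance
  have : Nontrivial R := PrimeSpectrum.nonempty_iff_nontrivial.1 inferInstance
  obtain ⟨x0, -⟩ := GitQuot.exists_point (k := k) (⊥ : Ideal R) bot_ne_top
  let ρ := HopfRep.Comod.coact (k := k) (A := A) (V := R)
  have hL1 : (LinearMap.mulRight k θ) (HopfRep.Comod.coact (k := k) (A := A) (1 : R)) = θ := by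
    rw [GLin.IsCoactAlg.coact_one (k := k) (A := A) (R := R)]; simp
  -- the cocycle
  have hcoc : ∀ g h : A →ₐ[k] k, slice (GitQuot.pointMul g h).toLinearMap θ =
      slice g.toLinearMap (HopfRep.Comod.coact (k := k) (A := A) (slice h.toLinearMap θ)) * slice g.toLinearMap θ := by
    intro g h
    let C' : HopfRep.Comod k A R :=
      { coact := (LinearMap.mulRight k θ) ∘ₗ ρ
        coassoc := hassoc
        counit_comp := hcounit }
    have := @op_mul k _ A _ _ _ R _ _ C' (toConv g.toLinearMap) (toConv h.toLinearMap) (1 : R)
    have hconv : (toConv g.toLinearMap * toConv h.toLinearMap).ofConv = (GitQuot.pointMul g h).toLinearMap := by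
      ext a
      change LinearMap.mul' k k (TensorProduct.map g.toLinearMap h.toLinearMap (Coalgebra.comul a)) = _
      simp only [GitQuot.pointMul, AlgHom.toLinearMap_apply, AlgHom.comp_apply, Bialgebra.comulAlgHom_apply]
      induction Coalgebra.comul (R := k) a using TensorProduct.induction_on with
      | zero => simp
      | add p q hp hq => simp [map_add, hp, hq]
      | tmul p q => simp
    rw [hconv] at this
    change slice (GitQuot.pointMul g h).toLinearMap ((LinearMap.mulRight k θ) (ρ (1 : R))) =
      slice g.toLinearMap ((LinearMap.mulRight k θ) (ρ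
        (slice h.toLinearMap ((LinearMap.mulRight k θ) (ρ (1 : R)))))) at this
    rw [hL1, LinearMap.mulRight_apply, slice_mul] at this
    exact this
  have hε : slice (Bialgebra.counitAlgHom k A).toLinearMap θ = 1 := by
    let C' : HopfRep.Comod k A R :=
      { coact := (LinearMap.mulRight k θ) ∘ₗ ρ
        coassoc := hassoc
        counit_comp := hcounit }
    have := @op_counit k _ A _ _ _ R _ _ C' (1 : R)
    change slice (Coalgebra.counit (R := k) (A := A))
      ((LinearMap.mulRight k θ) (ρ (1 : R))) = 1 at this
    rw [hL1] at this
    exact this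
  have hunit : ∀ g : A →ₐ[k] k, IsUnit (slice g.toLinearMap θ) := by
    intro g
    have := hcoc g (GitQuot.pointInv g)
    rw [GitQuot.pointMul_pointInv, hε] at this
    exact IsUnit.of_mul_eq_one_right _ this.symm
  have hred : IsReduced A := by
    have := Groth.ComodLib.smooth_of_hopfAlgebra_charZero k A
    exact Calg4.isReduced_of_smooth_field k A
  obtain ⟨χ, hgl, hχ⟩ : ∃ χ : A, IsGroupLikeElem k χ ∧ ∀ x : R →ₐ[k] k, lslice x.toLinearMap θ = χ := by
    rcases h with h | h
    · -- units of `A`
      have hgl : ∀ x : R →ₐ[k] k, IsGroupLikeElem k (lslice x.toLinearMap θ) := by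
        intro x
        have hu : IsUnit (lslice x.toLinearMap θ) := by
          by_contra hcon
          obtain ⟨g, hg⟩ := GitQuot.exists_point (k := k) (Ideal.span {lslice x.toLinearMap θ})
            (by rwa [Ne, Ideal.span_singleton_eq_top])
          have h0 : g (lslice x.toLinearMap θ) = 0 := hg (Ideal.mem_span_singleton_self _)
          have h1 := apply_lslice g.toLinearMap x.toLinearMap θ
          rw [AlgHom.toLinearMap_apply, AlgHom.toLinearMap_apply, h0] at h1
          exact ((hunit g).map x).ne_zero h1.symm
        obtain ⟨c, χ, hχ, hcχ⟩ := h hu.unit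
        rw [IsUnit.unit_spec] at hcχ
        have h1 := apply_lslice (Bialgebra.counitAlgHom k A).toLinearMap x.toLinearMap θ
        rw [hε, AlgHom.toLinearMap_apply, AlgHom.toLinearMap_apply, map_one, hcχ, map_smul,
          Bialgebra.counitAlgHom_apply, hχ.counit_eq_one, smul_eq_mul, mul_one] at h1
        rw [hcχ, h1, one_smul]
        exact hχ
      refine ⟨lslice x0.toLinearMap θ, hgl x0, fun x => ?_⟩
      obtain ⟨W, hW, hθW⟩ := finite_lslice_range θ
      let s : Set A := {a | IsGroupLikeElem k a}
      have hli : LinearIndependent k ((↑) : s → A) := linearIndepOn_isGroupLikeElem (R := k)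
      -- a form which is the indicator of the group-like element at `x0`
      let φ0 : Submodule.span k (Set.range ((↑) : s → A)) →ₗ[k] k :=
        (Finsupp.lapply (⟨_, hgl x0⟩ : s)) ∘ₗ hli.repr
      obtain ⟨φ, hφ⟩ := φ0.exists_extend
      have hφ' : ∀ a : s, φ a.1 = if a = ⟨_, hgl x0⟩ then 1 else 0 := by
        intro a
        have ha : (a.1 : A) ∈ Submodule.span k (Set.range ((↑) : s → A)) := Submodule.subset_span ⟨a, rfl⟩
        have := LinearMap.congr_fun hφ ⟨a.1, ha⟩
        rw [LinearMap.comp_apply, Submodule.subtype_apply] at this
        rw [this]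
        change (hli.repr ⟨a.1, ha⟩) _ = _
        rw [hli.repr_eq_single a ⟨a.1, ha⟩ rfl, Finsupp.single_apply]
      let e : R := slice φ θ
      have hxe : ∀ y : R →ₐ[k] k, y e = if lslice y.toLinearMap θ = lslice x0.toLinearMap θ then 1 else 0 := by
        intro y
        have h2 : φ (lslice y.toLinearMap θ) = y e := apply_lslice φ y.toLinearMap θ
        rw [← h2]
        refine (hφ' ⟨_, hgl y⟩).trans ?_
        simp only [Subtype.mk.injEq]
      have he : IsIdempotentElem e := by
        refine sub_eq_zero.1 (IsReduced.eq_zero _ (GitQuot.isNilpotent_of_forall_point (k := k) _ fun y => ?_))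
        rw [map_sub, map_mul, hxe]
        split <;> simp
      rcases eq_zero_or_one_of_connected he with he | he
      · have := hxe x0
        rw [he, map_zero, if_pos rfl] at this
        exact absurd this.symm one_ne_zero
      · have := hxe x
        rw [he, map_one] at this
        by_contra hcon
        rw [if_neg hcon] at this
        exact one_ne_zero this
    · -- units of `R`
      have hconst : ∀ x : R →ₐ[k] k, lslice x.toLinearMap θ = lslice x0.toLinearMap θ := by
        intro x
        refine sub_eq_zero.1 (IsReduced.eq_zero _ (GitQuot.isNilpotent_of_forall_point (k := k) _ fun g => ?_))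
        obtain ⟨c, hc⟩ := h (hunit g).unit
        rw [IsUnit.unit_spec] at hc
        have h1 := apply_lslice g.toLinearMap x.toLinearMap θ
        have h2 := apply_lslice g.toLinearMap x0.toLinearMap θ
        simp only [AlgHom.toLinearMap_apply] at h1 h2
        rw [map_sub, h1, h2, ← hc, AlgHom.commutes, AlgHom.commutes, sub_self]
      refine ⟨lslice x0.toLinearMap θ, ⟨?_, ?_⟩, hconst⟩
      · have h1 := apply_lslice (Bialgebra.counitAlgHom k A).toLinearMap x0.toLinearMap θ
        rw [hε, AlgHom.toLinearMap_apply, AlgHom.toLinearMap_apply, map_one] at h1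
        exact h1
      · set χ := lslice x0.toLinearMap θ with hχdef
        have hθ : θ = (1 : R) ⊗ₜ[k] χ := by
          refine sub_eq_zero.1 (eq_zero_of_slice fun φ => ?_)
          refine IsReduced.eq_zero _ (GitQuot.isNilpotent_of_forall_point (k := k) _ fun y => ?_)
          rw [map_sub, slice_tmul, map_sub, map_smul, map_one, smul_eq_mul, mul_one]
          exact sub_eq_zero.2 ((apply_lslice φ y.toLinearMap θ).symm.trans (by rw [hconst y]))
        have key := LinearMap.congr_fun hassoc (1 : R)
        simp only [LinearMap.comp_apply, LinearEquiv.coe_coe] at key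
        simp only [hL1] at key
        rw [hθ] at key
        simp only [LinearMap.rTensor_tmul, LinearMap.comp_apply] at key
        rw [← hθ, hL1, hθ] at key
        simp only [TensorProduct.assoc_tmul, LinearMap.lTensor_tmul] at key
        have := congrArg (lslice (V := R) (A := A ⊗[k] A) x0.toLinearMap) key
        simp only [lslice_tmul, AlgHom.toLinearMap_apply, map_one, one_smul] at this
        exact this.symm
  refine ⟨χ, hgl, sub_eq_zero.1 (eq_zero_of_slice fun φ => ?_)⟩
  refine IsReduced.eq_zero _ (GitQuot.isNilpotent_of_forall_point (k := k) _ fun y => ?_)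
  rw [map_sub, slice_tmul, map_sub, map_smul, map_one, smul_eq_mul, mul_one]
  exact sub_eq_zero.2 ((apply_lslice φ y.toLinearMap θ).symm.trans (by rw [hχ y]))

end Groth.Agent.S19411
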