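import Groth.Statements.S19412
-- import your own Groth.Agent.* helpers here

set_option autoImplicit false
universe u
open TensorProduct
open GLin

namespace Groth.Agent.S19412

open TensorProduct in
theorem closedRange_comp_iff {S R A : Type*} [CommRing S] [CommRing R] [CommRing A]
    (φ : S →+* R) (ψ : R →+* A) (I : Ideal R) (hI : I ≤ RingHom.ker ψ)
    (hφ : Function.Surjective ((Ideal.Quotient.mk I).comp φ)) :
    IsClosed (Set.range (PrimeSpectrum.comap ψ)) ↔
      IsClosed (Set.range (PrimeSpectrum.comap (ψ.comp φ))) := by
  let ψ' : R ⧸ I →+* A := Ideal.Quotient.lift I ψ fun a ha => hI ha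
  have h1 : ψ = ψ'.comp (Ideal.Quotient.mk I) := RingHom.ext fun a => rfl
  have e1 : Topology.IsClosedEmbedding (PrimeSpectrum.comap (Ideal.Quotient.mk I)) :=
    PrimeSpectrum.isClosedEmbedding_comap_of_surjective _ _ Ideal.Quotient.mk_surjective
  have e2 : Topology.IsClosedEmbedding (PrimeSpectrum.comap ((Ideal.Quotient.mk I).comp φ)) :=
    PrimeSpectrum.isClosedEmbedding_comap_of_surjective _ _ hφ
  have r1 : Set.range (PrimeSpectrum.comap ψ) =
      PrimeSpectrum.comap (Ideal.Quotient.mk I) '' Set.range (PrimeSpectrum.comap ψ') := by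
    rw [h1, PrimeSpectrum.comap_comp, Set.range_comp]
  have r2 : Set.range (PrimeSpectrum.comap (ψ.comp φ)) =
      PrimeSpectrum.comap ((Ideal.Quotient.mk I).comp φ) '' Set.range (PrimeSpectrum.comap ψ') := by
    rw [h1, RingHom.comp_assoc, PrimeSpectrum.comap_comp, Set.range_comp]
  rw [r1, r2, e1.isClosed_iff_image_isClosed.symm, e2.isClosed_iff_image_isClosed.symm]


/-- Let k be an algebraically closed field of characteristic zero, A a finitely generated commutative
Hopf algebra over k (an algebraic group G), S and R finitely generated commutative k-algebras with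
multiplicative A-coactions (G acting on affine Y = Spec S, X = Spec R), S → R an algebra map
compatible with the coactions (a G-morphism φ : X → Y), S₀ → S and R₀ → R injective k-algebra maps
whose images are the subrings of invariants, and S₀ → R₀ an algebra map with S₀ → R₀ → R equal to S₀
→ S → R (φ/G). Suppose R₀ is étale over S₀ and the canonical map S ⊗_{S₀} R₀ → R is bijective (φ is
strongly étale: φ/G étale and X ≅ Y ×_{Y//G} X//G). Then R is étale over S (φ étale), and for every
k-point x of X: every k-point of G fixing the image point φ(x) fixes x (φ restricted to the orbit of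
x is injective), and the orbit of x is closed if and only if the orbit of φ(x) is closed. (The
published item also asserts that φ is surjective; that fails when φ is the inclusion of a proper
saturated open subset, which is strongly étale, so surjectivity is not asserted here.) -/
theorem result (k : Type u) [Field k] [IsAlgClosed k] [CharZero k]
    (A : Type u) [CommRing A] [HopfAlgebra k A] [Algebra.FiniteType k A]
    (S : Type u) [CommRing S] [Algebra k S] [Algebra.FiniteType k S] [HopfRep.Comod k A S] [GLin.IsCoactAlg k A S]
    (R : Type u) [CommRing R] [Algebra k R] [Algebra.FiniteType k R] [HopfRep.Comod k A R] [GLin.IsCoactAlg k A R]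
    [Algebra S R] [IsScalarTower k S R]
    (hequiv : (∀ s : S, HopfRep.Comod.coact (k := k) (A := A) (algebraMap S R s) =
      Algebra.TensorProduct.map (IsScalarTower.toAlgHom k S R) (AlgHom.id k A) (HopfRep.Comod.coact (k := k) (A := A) s)))
    (S₀ : Type u) [CommRing S₀] [Algebra k S₀] [Algebra S₀ S] [IsScalarTower k S₀ S]
    (hS₀i : Function.Injective (algebraMap S₀ S)) (hS₀ : (IsScalarTower.toAlgHom k S₀ S).range = GLin.invariants k A S)
    (R₀ : Type u) [CommRing R₀] [Algebra k R₀] [Algebra R₀ R] [IsScalarTower k R₀ R]
    (hR₀i : Function.Injective (algebraMap R₀ R)) (hR₀ : (IsScalarTower.toAlgHom k R₀ R).range = GLin.invariants k A R)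
    [Algebra S₀ R₀] [Algebra S₀ R] [IsScalarTower S₀ S R] [IsScalarTower S₀ R₀ R]
    (het₀ : Algebra.Etale S₀ R₀)
    (hcart : Function.Bijective (Algebra.TensorProduct.productMap (IsScalarTower.toAlgHom S₀ S R) (IsScalarTower.toAlgHom S₀ R₀ R))) :
    Algebra.Etale S R ∧
      ∀ x : R →ₐ[k] k,
        (∀ g : A →ₐ[k] k, GLin.actPt k g (x.comp (IsScalarTower.toAlgHom k S R)) = x.comp (IsScalarTower.toAlgHom k S R) →
          GLin.actPt k g x = x) ∧
        (GLin.IsClosedOrbit k A x ↔ GLin.IsClosedOrbit k A (x.comp (IsScalarTower.toAlgHom k S R))) := by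
  classical
  let μ : S ⊗[S₀] R₀ →ₐ[S] R := Algebra.TensorProduct.lift (Algebra.ofId S R)
    (IsScalarTower.toAlgHom S₀ R₀ R) (fun _ _ => Commute.all _ _)
  have hμ : ∀ z, μ z = Algebra.TensorProduct.productMap (IsScalarTower.toAlgHom S₀ S R)
      (IsScalarTower.toAlgHom S₀ R₀ R) z := by
    intro z
    induction z using TensorProduct.induction_on with
    | zero => simp
    | tmul a b => simp [μ, Algebra.ofId_apply]
    | add a b ha hb => simp [map_add, ha, hb]
  have hμb : Function.Bijective μ := by
    have : ⇑μ = ⇑(Algebra.TensorProduct.productMap (IsScalarTower.toAlgHom S₀ S R)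
      (IsScalarTower.toAlgHom S₀ R₀ R)) := funext hμ
    rw [this]; exact hcart
  haveI := het₀
  refine ⟨Algebra.Etale.of_equiv (AlgEquiv.ofBijective μ hμb), fun x => ?_⟩
  have hoy : GLin.orbitHom k A (x.comp (IsScalarTower.toAlgHom k S R)) =
      (GLin.orbitHom k A x).comp (IsScalarTower.toAlgHom k S R) := by
    ext s
    simp only [GLin.orbitHom, AlgHom.comp_apply, GLin.coactAlgHom_apply]
    congr 1
    rw [show (IsScalarTower.toAlgHom k S R) s = algebraMap S R s from rfl, hequiv]
    induction HopfRep.Comod.coact (k := k) (A := A) s using TensorProduct.induction_on with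
    | zero => simp
    | tmul a b => simp
    | add a b ha hb => simp [map_add, ha, hb]
  have hinv : ∀ r₀ : R₀, GLin.orbitHom k A x (algebraMap R₀ R r₀) =
      algebraMap k A (x (algebraMap R₀ R r₀)) := by
    intro r₀
    have hm : algebraMap R₀ R r₀ ∈ GLin.invariants k A R := by
      rw [← hR₀]; exact ⟨r₀, rfl⟩
    rw [GLin.mem_invariants_iff] at hm
    simp only [GLin.orbitHom, AlgHom.comp_apply, GLin.coactAlgHom_apply, hm]
    simp [Algebra.smul_def]
  constructor
  · intro g hg
    let φ₁ : R →ₐ[k] k := GLin.actPt k g x
    have key : ∀ z : S ⊗[S₀] R₀, φ₁ (μ z) = x (μ z) := by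
      intro z
      induction z using TensorProduct.induction_on with
      | zero => simp
      | tmul a b =>
        have h1 : φ₁ (algebraMap S R a) = x (algebraMap S R a) := by
          have := DFunLike.congr_fun hg a
          simpa [φ₁, GLin.actPt, hoy] using this
        have h2 : φ₁ (algebraMap R₀ R b) = x (algebraMap R₀ R b) := by
          simp only [φ₁, GLin.actPt, AlgHom.comp_apply, hinv]
          simp
        simp [μ, Algebra.ofId_apply, map_mul, h1, h2]
      | add a b ha hb => simp [map_add, ha, hb]
    ext r
    obtain ⟨z, rfl⟩ := hμb.2 r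
    exact key z
  · let I : Ideal R := Ideal.span (Set.range fun r₀ : R₀ =>
      algebraMap R₀ R r₀ - algebraMap k R (x (algebraMap R₀ R r₀)))
    have hI : I ≤ RingHom.ker (GLin.orbitHom k A x).toRingHom := by
      refine Ideal.span_le.2 ?_
      rintro _ ⟨r₀, rfl⟩
      show GLin.orbitHom k A x _ = 0
      rw [map_sub, hinv, AlgHom.commutes, sub_self]
    have hsurj : Function.Surjective ((Ideal.Quotient.mk I).comp (algebraMap S R)) := by
      intro q
      obtain ⟨r, rfl⟩ := Ideal.Quotient.mk_surjective q
      obtain ⟨z, rfl⟩ := hμb.2 r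
      induction z using TensorProduct.induction_on with
      | zero => exact ⟨0, by simp⟩
      | tmul a b =>
        refine ⟨a * algebraMap k S (x (algebraMap R₀ R b)), ?_⟩
        rw [RingHom.comp_apply, map_mul, Ideal.Quotient.eq]
        have e : algebraMap S R a * algebraMap S R (algebraMap k S (x (algebraMap R₀ R b))) - μ (a ⊗ₜ b) =
            (- algebraMap S R a) * (algebraMap R₀ R b - algebraMap k R (x (algebraMap R₀ R b))) := by
          simp [μ, Algebra.ofId_apply, ← IsScalarTower.algebraMap_apply]
          ring
        rw [e]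
        exact I.mul_mem_left _ (Ideal.subset_span ⟨b, rfl⟩)
      | add a b ha hb =>
        obtain ⟨u, hu⟩ := ha
        obtain ⟨v, hv⟩ := hb
        exact ⟨u + v, by rw [map_add, hu, hv, map_add, map_add]⟩
    unfold GLin.IsClosedOrbit
    rw [hoy]
    exact closedRange_comp_iff (algebraMap S R) (GLin.orbitHom k A x).toRingHom I hI hsurj

end Groth.Agent.S19412
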