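import Groth.Statements.S19416
import Groth.Agent.VarietyBC.ProjInter
import Groth.Agent.EtaleAlgebra.EtaleCriterion
import Groth.Agent.Variety2.DimScheme
-- import your own Groth.Agent.* helpers here

set_option autoImplicit false
universe u
open CategoryTheory AlgebraicGeometry
open IntMult

namespace Groth.Agent.S19416

open scoped TensorProduct

/-- Two maps out of an unramified algebra agreeing on the base and somewhere are equal. -/
theorem eq_of_unramified {R B D E : Type u} [CommRing R] [CommRing B] [Algebra R B] [Algebra.FiniteType R B]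
    [Algebra.FormallyUnramified R B] [CommRing D] [IsDomain D] [Algebra R D] [CommRing E] [Nontrivial E]
    (a b : B →ₐ[R] D) (ω : D →+* E) (h : ∀ x, ω (a x) = ω (b x)) : a = b := by
  obtain ⟨t, ht, ht1⟩ := Algebra.FormallyUnramified.iff_exists_tensorProduct.1
    (show Algebra.FormallyUnramified R B from inferInstance)
  let Φ : B ⊗[R] B →ₐ[R] D := Algebra.TensorProduct.lift a b fun _ _ => Commute.all _ _
  have hω : ∀ z, ω (Φ z) = ω (a (Algebra.TensorProduct.lmul' R z)) := fun z => by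
    induction z using TensorProduct.induction_on with
    | zero => simp
    | tmul x y =>
      rw [Algebra.TensorProduct.lift_tmul, Algebra.TensorProduct.lmul'_apply_tmul, map_mul, map_mul, map_mul, h y]
    | add x y hx hy => simp only [map_add, hx, hy]
  have hne : Φ t ≠ 0 := fun h0 => by
    have := hω t
    rw [h0, ht1, map_zero, map_one, map_one] at this
    exact zero_ne_one this
  ext x
  have h1 := congrArg Φ (ht x)
  rw [map_mul, map_sub, map_zero, Algebra.TensorProduct.lift_tmul, Algebra.TensorProduct.lift_tmul, map_one,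
    map_one, one_mul, mul_one, mul_eq_zero] at h1
  exact (sub_eq_zero.1 (h1.resolve_right hne)).symm

set_option backward.isDefEq.respectTransparency false in
/-- The intersection theorem in an algebra unramified over a polynomial ring. -/
theorem dim_add_le {k : Type u} [Field k] {n : ℕ} {B : Type u} [CommRing B] [Algebra k B]
    [Algebra.FiniteType k B] [Algebra (MvPolynomial (Fin n) k) B]
    [IsScalarTower k (MvPolynomial (Fin n) k) B] [Algebra.FormallyUnramified (MvPolynomial (Fin n) k) B]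
    (P Q m : Ideal B) [P.IsPrime] [Q.IsPrime] (hm : m ∈ (P ⊔ Q).minimalPrimes) :
    ringKrullDim (B ⧸ P) + ringKrullDim (B ⧸ Q) ≤ ringKrullDim (B ⧸ m) + (n : WithBot ℕ∞) := by
  classical
  haveI : m.IsPrime := hm.1.1
  haveI : Algebra.FiniteType (MvPolynomial (Fin n) k) B :=
    Algebra.FiniteType.of_restrictScalars_finiteType k (MvPolynomial (Fin n) k) B
  have hP : P ≤ m := le_sup_left.trans hm.1.2
  have hQ : Q ≤ m := le_sup_right.trans hm.1.2
  let ψ : (B ⧸ P) ⊗[k] (B ⧸ Q) →ₐ[k] B ⧸ m :=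
    Algebra.TensorProduct.lift (Ideal.Quotient.factorₐ k hP) (Ideal.Quotient.factorₐ k hQ)
      fun _ _ => Commute.all _ _
  obtain ⟨p, hpq, hdim⟩ := Groth.VarietyBC.ProjInter.exists_prime_dim_tensor k (B ⧸ P) (B ⧸ Q)
    ⟨RingHom.ker ψ, RingHom.ker_isPrime _⟩
  let T := ((B ⧸ P) ⊗[k] (B ⧸ Q)) ⧸ p.asIdeal
  let π : (B ⧸ P) ⊗[k] (B ⧸ Q) →ₐ[k] T := Ideal.Quotient.mkₐ k p.asIdeal
  haveI hft := Groth.VarietyBC.ProjInter.finiteType_tensor k (B ⧸ P) (B ⧸ Q)
  haveI : Algebra.FiniteType k T := hft.of_surjective π (Ideal.Quotient.mkₐ_surjective _ _)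
  haveI : IsDomain T := Ideal.Quotient.isDomain p.asIdeal
  let l : B →ₐ[k] T :=
    π.comp (Algebra.TensorProduct.includeLeft.comp (Ideal.Quotient.mkₐ k P))
  let r : B →ₐ[k] T :=
    π.comp (Algebra.TensorProduct.includeRight.comp (Ideal.Quotient.mkₐ k Q))
  let ω : T →ₐ[k] B ⧸ m := Ideal.Quotient.liftₐ p.asIdeal ψ fun x hx => hpq hx
  have hωl : ∀ x, ω (l x) = Ideal.Quotient.mk m x := fun x => by simp [ω, l, π, ψ, T]
  have hωr : ∀ x, ω (r x) = Ideal.Quotient.mk m x := fun x => by simp [ω, r, π, ψ, T]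
  let g : MvPolynomial (Fin n) k →ₐ[k] B := IsScalarTower.toAlgHom k _ B
  let D : Finset T := Finset.univ.image fun i : Fin n => l (g (MvPolynomial.X i)) - r (g (MvPolynomial.X i))
  have hD : ∀ d ∈ D, d ∈ RingHom.ker ω := by
    intro d hd
    obtain ⟨i, -, rfl⟩ := Finset.mem_image.1 hd
    rw [RingHom.mem_ker, map_sub, hωl, hωr, sub_self]
  haveI : (RingHom.ker ω).IsPrime := RingHom.ker_isPrime _
  obtain ⟨M', hM', hM'q, hM'dim⟩ := Groth.VarietyBC.ProjInter.exists_minimal_dim_le k T D (RingHom.ker ω) hD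
  let τ : T →ₐ[k] T ⧸ M'.asIdeal := Ideal.Quotient.mkₐ k _
  haveI : IsDomain (T ⧸ M'.asIdeal) := Ideal.Quotient.isDomain M'.asIdeal
  let ω' : T ⧸ M'.asIdeal →ₐ[k] B ⧸ m := Ideal.Quotient.liftₐ M'.asIdeal ω fun x hx => hM'q hx
  have hgen : (τ.comp l).comp g = (τ.comp r).comp g := MvPolynomial.algHom_ext fun i =>
    Ideal.Quotient.eq.2 (hM'.1.2 (Ideal.subset_span (Finset.mem_image_of_mem _ (Finset.mem_univ i))))
  letI : Algebra (MvPolynomial (Fin n) k) (T ⧸ M'.asIdeal) := ((τ.comp l).comp g).toRingHom.toAlgebra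
  let a' : B →ₐ[MvPolynomial (Fin n) k] T ⧸ M'.asIdeal :=
    { (τ.comp l).toRingHom with commutes' := fun _ => rfl }
  let b' : B →ₐ[MvPolynomial (Fin n) k] T ⧸ M'.asIdeal :=
    { (τ.comp r).toRingHom with commutes' := fun x => (congrArg (fun φ => φ x) hgen).symm }
  have hab := eq_of_unramified a' b' ω'.toRingHom fun x =>
    show ω (l x) = ω (r x) by rw [hωl, hωr]
  have hlr : ∀ x, τ (l x) = τ (r x) := fun x => congrArg (fun φ => φ x) hab
  have hsurj : Function.Surjective (τ.comp l) := fun z => by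
    obtain ⟨w, rfl⟩ := Ideal.Quotient.mkₐ_surjective k M'.asIdeal z
    obtain ⟨w, rfl⟩ := Ideal.Quotient.mkₐ_surjective k p.asIdeal w
    induction w using TensorProduct.induction_on with
    | zero => exact ⟨0, by simp⟩
    | add a b ha hb =>
      obtain ⟨x, hx⟩ := ha
      obtain ⟨y, hy⟩ := hb
      exact ⟨x + y, by simp [map_add, hx, hy, T, τ, π]⟩
    | tmul a b =>
      obtain ⟨x, rfl⟩ := Ideal.Quotient.mk_surjective a
      obtain ⟨y, rfl⟩ := Ideal.Quotient.mk_surjective b
      refine ⟨x * y, ?_⟩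
      rw [map_mul]
      change τ (l x) * τ (l y) = _
      rw [hlr y, ← map_mul]
      simp [τ, l, r, π, T, ← map_mul]
  let M0 : Ideal B := RingHom.ker (τ.comp l)
  haveI : M0.IsPrime := RingHom.ker_isPrime _
  have hPM : P ⊔ Q ≤ M0 := sup_le (fun x hx => by
      show τ (l x) = 0
      simp [l, Ideal.Quotient.eq_zero_iff_mem.2 hx])
    (fun x hx => by
      show τ (l x) = 0
      rw [hlr x]
      simp [r, Ideal.Quotient.eq_zero_iff_mem.2 hx])
  have hM0m : M0 ≤ m := fun x hx =>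
    Ideal.Quotient.eq_zero_iff_mem.1 ((hωl x).symm.trans
      ((congrArg ω' (show τ (l x) = 0 from hx)).trans (map_zero ω')))
  have hM0 : M0 = m := le_antisymm hM0m (hm.2 ⟨inferInstance, hPM⟩ hM0m)
  refine hdim.trans (hM'dim.trans (add_le_add ?_ ?_))
  · rw [← ringKrullDim_eq_of_ringEquiv (RingHom.quotientKerEquivOfSurjective (f := (τ.comp l).toRingHom) hsurj)]
    exact le_of_eq (ringKrullDim_eq_of_ringEquiv (Ideal.quotEquivOfEq hM0))
  · have hc : D.card ≤ n := Finset.card_image_le.trans (by simp)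
    exact_mod_cast hc

/-- Let k be a field and X a smooth variety over k (the structure morphism X → Spec k smooth, separated
and quasi-compact, X integral) of dimension n, and let V, W ⊆ X be closed irreducible subsets of
dimensions r and s. Then every irreducible component Z of V ∩ W has dimension at least r + s − n,
stated as r + s ≤ dim Z + n with Krull dimensions of the subspaces; equivalently the codimension of
Z is at most the sum of the codimensions of V and W. The base field is arbitrary here; the same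
statement over an algebraically closed field is the classical dimension count for intersections on a
nonsingular variety. -/
theorem result (k : Type u) [Field k] (X : Scheme.{u})
    (f : X ⟶ Spec (CommRingCat.of k)) [Smooth f] [IsSeparated f] [QuasiCompact f] [IsIntegral X]
    (n r s : ℕ) (hn : topologicalKrullDim X = n) (V W : Set X) (hVc : IsClosed V)
    (hVi : IsIrreducible V) (hWc : IsClosed W) (hWi : IsIrreducible W)
    (hr : topologicalKrullDim ↥V = r) (hs : topologicalKrullDim ↥W = s) (Z : Set ↥(V ∩ W))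
    (hZ : Z ∈ irreducibleComponents ↥(V ∩ W)) :
    ((r + s : ℕ) : WithBot ℕ∞) ≤ topologicalKrullDim ↥Z + n := by
  -- the generic points
  obtain ⟨hZi, hZmax⟩ : IsIrreducible Z ∧ ∀ Z' : Set ↥(V ∩ W), IsIrreducible Z' → Z ⊆ Z' → Z' ⊆ Z :=
    ⟨hZ.1, fun Z' h1 h2 => hZ.2 h1 h2⟩
  have hcl : IsClosed (Subtype.val '' Z) :=
    (hVc.inter hWc).isClosedEmbedding_subtypeVal.isClosedMap _ (isClosed_of_mem_irreducibleComponents _ hZ)
  have hirr : IsIrreducible (Subtype.val '' Z) := hZi.image _ continuous_subtype_val.continuousOn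
  obtain ⟨ζ, hζ⟩ := QuasiSober.sober hirr hcl
  obtain ⟨ηV, hηV⟩ := QuasiSober.sober hVi hVc
  obtain ⟨ηW, hηW⟩ := QuasiSober.sober hWi hWc
  obtain ⟨⟨ζ', hζVW⟩, -, rfl⟩ : ζ ∈ Subtype.val '' Z := hζ.mem
  have hcomp : ∀ y : X, y ∈ V → y ∈ W → y ⤳ ζ' → ζ' ⤳ y := fun y hyV hyW hy => by
    have h1 : Z ⊆ closure {(⟨y, hyV, hyW⟩ : ↥(V ∩ W))} := fun z hz => by
      rw [← specializes_iff_mem_closure, subtype_specializes_iff]
      exact hy.trans (specializes_iff_mem_closure.2 (hζ.def.ge ⟨z, hz, rfl⟩))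
    have h2 := hZmax _ isIrreducible_singleton.closure h1 (subset_closure rfl)
    exact specializes_iff_mem_closure.2 (hζ.def.ge ⟨_, h2, rfl⟩)
  have hηVζ : ηV ⤳ ζ' := hηV.specializes hζVW.1
  have hηWζ : ηW ⤳ ζ' := hηW.specializes hζVW.2
  have hdimV : topologicalKrullDim ↥V = (Order.height ηV : ℕ∞) := by
    rw [← Groth.Variety2.Dim.dim_closure_singleton ηV, hηV.def]
  have hdimW : topologicalKrullDim ↥W = (Order.height ηW : ℕ∞) := by
    rw [← Groth.Variety2.Dim.dim_closure_singleton ηW, hηW.def]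
  have hdimZ : topologicalKrullDim ↥Z = (Order.height ζ' : ℕ∞) := by
    rw [← Groth.Variety2.Dim.dim_closure_singleton ζ', hζ.def]
    exact IsHomeomorph.topologicalKrullDim_eq _
      ((Topology.IsEmbedding.subtypeVal (p := (· ∈ V ∩ W))).homeomorphImage Z).isHomeomorph
  -- a chart
  obtain ⟨U₀, hU₀, U, hU, hxU, hle, hstd⟩ := Smooth.exists_isStandardSmooth f ζ'
  obtain rfl : U₀ = ⊤ := top_le_iff.1 fun z _ => (Subsingleton.elim (f ζ') z) ▸ hle hxU
  let φ : k →+* Γ(X, U) := (f.appLE ⊤ U hle).hom.comp (Scheme.ΓSpecIso (CommRingCat.of k)).inv.hom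
  have hφ : φ.IsStandardSmooth := RingHom.isStandardSmooth_respectsIso.2 _
    (Scheme.ΓSpecIso (CommRingCat.of k)).commRingCatIsoToRingEquiv.symm hstd
  obtain ⟨n', g, hg, hget⟩ := hφ.exists_etale_mvPolynomial
  letI : Algebra k Γ(X, U) := φ.toAlgebra
  letI : Algebra (MvPolynomial (Fin n') k) Γ(X, U) := g.toAlgebra
  haveI : IsScalarTower k (MvPolynomial (Fin n') k) Γ(X, U) := IsScalarTower.of_algebraMap_eq' hg.symm
  haveI : Algebra.Etale (MvPolynomial (Fin n') k) Γ(X, U) := hget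
  haveI : Algebra.FiniteType k Γ(X, U) := Algebra.FiniteType.trans (S := MvPolynomial (Fin n') k) inferInstance inferInstance
  haveI : Nonempty U := ⟨⟨ζ', hxU⟩⟩
  haveI : IsOpenImmersion hU.fromSpec := hU.isOpenImmersion_fromSpec
  have hht : ∀ (x : X) (hx : x ∈ U), ringKrullDim (Γ(X, U) ⧸ (hU.primeIdealOf ⟨x, hx⟩).asIdeal) =
      ((Order.height x : ℕ∞) : WithBot ℕ∞) := fun x hx => by
    rw [← Groth.FibreDim.height_spec_eq (S := Γ(X, U)) (hU.primeIdealOf ⟨x, hx⟩),
      ← Groth.Variety2.Dim.height_eq_of_isPreimmersion (hU.fromSpec ≫ f) f hU.fromSpec rfl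
        (hU.primeIdealOf ⟨x, hx⟩), hU.fromSpec_primeIdealOf]
  have hspec : ∀ (x y : X) (hx : x ∈ U) (hy : y ∈ U), x ⤳ y →
      (hU.primeIdealOf ⟨x, hx⟩).asIdeal ≤ (hU.primeIdealOf ⟨y, hy⟩).asIdeal := fun x y hx hy hxy => by
    refine (PrimeSpectrum.le_iff_specializes _ _).2 (hU.fromSpec.isOpenEmbedding.isInducing.specializes_iff.1 ?_)
    rw [hU.fromSpec_primeIdealOf, hU.fromSpec_primeIdealOf]
    exact hxy
  have hV' := hηVζ.mem_open U.2 hxU
  have hW' := hηWζ.mem_open U.2 hxU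
  have hmin : (hU.primeIdealOf ⟨ζ', hxU⟩).asIdeal ∈
      ((hU.primeIdealOf ⟨ηV, hV'⟩).asIdeal ⊔ (hU.primeIdealOf ⟨ηW, hW'⟩).asIdeal).minimalPrimes := by
    refine ⟨⟨inferInstance, sup_le (hspec _ _ _ _ hηVζ) (hspec _ _ _ _ hηWζ)⟩, fun q hq hqle => ?_⟩
    let Q : Spec Γ(X, U) := ⟨q, hq.1⟩
    have hm : ∀ (x : X) (hx : x ∈ U), (hU.primeIdealOf ⟨x, hx⟩).asIdeal ≤ q → x ⤳ hU.fromSpec Q :=
      fun x hx h => by
      have := ((PrimeSpectrum.le_iff_specializes (hU.primeIdealOf ⟨x, hx⟩) Q).1 h).map hU.fromSpec.continuous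
      rwa [hU.fromSpec_primeIdealOf] at this
    have hQV : hU.fromSpec Q ∈ V := (hm _ hV' (le_sup_left.trans hq.2)).mem_closed hVc hηV.mem
    have hQW : hU.fromSpec Q ∈ W := (hm _ hW' (le_sup_right.trans hq.2)).mem_closed hWc hηW.mem
    have hQle : hU.fromSpec Q ⤳ ζ' := by
      have := ((PrimeSpectrum.le_iff_specializes Q (hU.primeIdealOf ⟨ζ', hxU⟩)).1 hqle).map hU.fromSpec.continuous
      rwa [hU.fromSpec_primeIdealOf] at this
    have h := hcomp _ hQV hQW hQle
    have hz : hU.fromSpec (hU.primeIdealOf ⟨ζ', hxU⟩) = ζ' := hU.fromSpec_primeIdealOf _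
    rw [← hz] at h
    exact (PrimeSpectrum.le_iff_specializes (hU.primeIdealOf ⟨ζ', hxU⟩) Q).2
      (hU.fromSpec.isOpenEmbedding.isInducing.specializes_iff.1 h)
  have key := dim_add_le (k := k) (n := n') _ _ _ hmin
  rw [hht, hht, hht, ← hdimV, ← hdimW, ← hdimZ, hr, hs] at key
  have hn' : (n' : WithBot ℕ∞) ≤ n := by
    haveI : Nontrivial Γ(X, U) := inferInstance
    obtain ⟨M, hM⟩ := Ideal.exists_maximal Γ(X, U)
    rw [← Groth.Agent.EtaleAlgebra.EtaleCriterion.ringKrullDim_atPrime_of_etale (k := k) (n := n') M,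
      ← hn, ← Groth.Variety2.Dim.dim_opens f U ⟨ζ', hxU⟩,
      IsLocalization.AtPrime.ringKrullDim_eq_height M]
    refine (Ideal.height_le_ringKrullDim_of_ne_top hM.ne_top).trans (le_of_eq ?_)
    have := IsHomeomorph.topologicalKrullDim_eq _ hU.isoSpec.schemeIsoToHomeo.isHomeomorph
    rw [this]
    exact (PrimeSpectrum.topologicalKrullDim_eq_ringKrullDim _).symm
  rw [Nat.cast_add]
  exact key.trans (add_le_add le_rfl hn')

end Groth.Agent.S19416
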