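import Groth.Statements.S19418
import Groth.Agent.Misc10.Weil.Swap
-- import your own Groth.Agent.* helpers here

set_option autoImplicit false
universe u v
open CategoryTheory AlgebraicGeometry
open WeilCoh

namespace Groth.Agent.S19418

open Groth.Misc10.Weil

/-- Key step, cohomological form: let H be a Weil cohomology theory with coefficients in a field K of
characteristic zero on nonsingular connected projective varieties over an algebraically closed field
k, X such a variety of dimension n, P = X × X with projections p, q and the swap automorphism σ (σ p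
= q, σ q = p); the identity dim P = 2n is carried as the arithmetic hypothesis hdim. A class u ∈
H^{2n}(P) acts as a degree-0 correspondence on each H^j(X), 0 ≤ j ≤ 2n, by β ↦ q_*(p^*(β) · u); call
u algebraic when it lies in the K-linear span of the classes of closed irreducible subsets of P, and
let A be the K-subalgebra of ∏_j End_K(H^j(X)) generated by the actions of the algebraic classes in
H^{2n}(P). If u is algebraic and ψ ∘ (action of u) is nilpotent for every ψ ∈ A — that is, the
action of u lies in the Jacobson radical of the finite-dimensional algebra A — then u is numerically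
trivial against algebraic classes: Tr_P(u · v) = 0 for every algebraic v ∈ H^{2n}(P). In the
published argument this is the step showing that the algebra of degree-0 algebraic correspondences
modulo numerical equivalence has zero Jacobson radical, hence is semisimple; it is stated here on
the cohomological side, with the algebra generated by the correspondence actions in place of the
algebra of cycle classes. -/
theorem result (k : Type u) [Field k] [IsAlgClosed k]
    (K : Type v) [Field K] [CharZero K] (T : WeilCoh.Theory k K) (X P : WeilCoh.Var k)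
    (p q : P ⟶ X) (hP : WeilCoh.IsProd p q) (σ : P ⟶ P) (hσp : σ ≫ p = q) (hσq : σ ≫ q = p)
    (hdim : ∀ j : ℤ, j + 2 * (WeilCoh.dim X.obj.left : ℤ) + 2 * (WeilCoh.dim X.obj.left : ℤ) - 2 * (WeilCoh.dim P.obj.left : ℤ) = j)
    (u : ↥(T.gr P (2 * (WeilCoh.dim X.obj.left : ℤ)))) (hu : (u : T.H P) ∈ Submodule.span K (Set.range (T.cl P)))
    (hJ : ∀ ψ ∈ Algebra.adjoin K
          (Set.range (fun w : {w : ↥(T.gr P (2 * (WeilCoh.dim X.obj.left : ℤ))) // (w : T.H P) ∈ Submodule.span K (Set.range (T.cl P))} =>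
            fun j : Fin (2 * WeilCoh.dim X.obj.left + 1) =>
              ((LinearEquiv.ofEq (T.gr X (((j : ℕ) : ℤ) + 2 * (WeilCoh.dim X.obj.left : ℤ) + 2 * (WeilCoh.dim X.obj.left : ℤ) - 2 * (WeilCoh.dim P.obj.left : ℤ))) (T.gr X ((j : ℕ) : ℤ)) (congrArg (T.gr X) (hdim ((j : ℕ) : ℤ)))).toLinearMap ∘ₗ
              ((T.push q (((j : ℕ) : ℤ) + 2 * (WeilCoh.dim X.obj.left : ℤ))) ∘ₗ
                (((LinearMap.mulRight K (w.1 : T.H P)).restrict (p := T.gr P ((j : ℕ) : ℤ))
                    (q := T.gr P (((j : ℕ) : ℤ) + 2 * (WeilCoh.dim X.obj.left : ℤ))) (fun x hx => SetLike.mul_mem_graded hx w.1.2)) ∘ₗ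
                  T.pullDeg p ((j : ℕ) : ℤ)))))),
        IsNilpotent (ψ * fun j : Fin (2 * WeilCoh.dim X.obj.left + 1) =>
          ((LinearEquiv.ofEq (T.gr X (((j : ℕ) : ℤ) + 2 * (WeilCoh.dim X.obj.left : ℤ) + 2 * (WeilCoh.dim X.obj.left : ℤ) - 2 * (WeilCoh.dim P.obj.left : ℤ))) (T.gr X ((j : ℕ) : ℤ)) (congrArg (T.gr X) (hdim ((j : ℕ) : ℤ)))).toLinearMap ∘ₗ
              ((T.push q (((j : ℕ) : ℤ) + 2 * (WeilCoh.dim X.obj.left : ℤ))) ∘ₗ
                (((LinearMap.mulRight K (u : T.H P)).restrict (p := T.gr P ((j : ℕ) : ℤ))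
                    (q := T.gr P (((j : ℕ) : ℤ) + 2 * (WeilCoh.dim X.obj.left : ℤ))) (fun x hx => SetLike.mul_mem_graded hx u.2)) ∘ₗ
                  T.pullDeg p ((j : ℕ) : ℤ))))))
    (v : ↥(T.gr P (2 * (WeilCoh.dim X.obj.left : ℤ)))) (hv : (v : T.H P) ∈ Submodule.span K (Set.range (T.cl P))) :
    T.tr P ((u : T.H P) * (v : T.H P)) = 0 := by
  have hσ2 : σ ≫ σ = 𝟙 P := by
    refine ObjectProperty.hom_ext _ (Over.OverMorphism.ext ?_)
    refine hP.hom_ext ?_ ?_
    · show (sm σ ≫ sm σ) ≫ sm p = 𝟙 _ ≫ sm p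
      rw [Category.assoc, Category.id_comp, show sm σ ≫ sm p = sm q from congrArg (fun f : P ⟶ X => sm f) hσp,
        show sm σ ≫ sm q = sm p from congrArg (fun f : P ⟶ X => sm f) hσq]
    · show (sm σ ≫ sm σ) ≫ sm q = 𝟙 _ ≫ sm q
      rw [Category.assoc, Category.id_comp, show sm σ ≫ sm q = sm p from congrArg (fun f : P ⟶ X => sm f) hσq,
        show sm σ ≫ sm p = sm q from congrArg (fun f : P ⟶ X => sm f) hσp]
  have hv' : T.pull σ (v : T.H P) ∈ Submodule.span K (Set.range (T.cl P)) := by
    have hle : Submodule.span K (Set.range (T.cl P)) ≤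
        (Submodule.span K (Set.range (T.cl P))).comap (T.pull σ).toLinearMap := by
      rw [Submodule.span_le]
      rintro _ ⟨ξ, rfl⟩
      exact pull_cl_mem_span_of_iso T σ σ hσ2 hσ2 ξ
    exact hle hv
  let w : ↥(T.gr P (2 * (WeilCoh.dim X.obj.left : ℤ))) := ⟨T.pull σ v, T.pull_mem σ _ _ v.2⟩
  have hnil := hJ _ (Algebra.subset_adjoin ⟨⟨w, hv'⟩, rfl⟩)
  let φ : T.gr P (2 * (WeilCoh.dim X.obj.left : ℤ) + 0) := ⟨u, by rw [add_zero]; exact u.2⟩
  let ψ : T.gr P (2 * (WeilCoh.dim X.obj.left : ℤ) - 0) := ⟨w, by rw [sub_zero]; exact w.2⟩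
  have key := pair_trace_formula T p q hP p q hP σ hσp hσq 0 φ ψ (fun _ => 0) fun i A hA => by
    by_cases hi : i < 2 * WeilCoh.dim X.obj.left + 1
    · refine (IsNilpotent.eq_zero (LinearMap.isNilpotent_trace_of_isNilpotent ?_)).symm
      obtain ⟨N, hN⟩ := hnil
      refine ⟨N, ?_⟩
      have hN' := congrFun hN (⟨i, hi⟩ : Fin (2 * WeilCoh.dim X.obj.left + 1))
      rw [Pi.pow_apply] at hN'
      refine Eq.trans (congrArg (· ^ N) ?_) hN'
      refine LinearMap.ext fun x => Subtype.ext ?_
      rw [hA x]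
      exact corr_congr T p q (φ := ψ) (φ' := w) (sub_zero _) rfl (by rw [add_zero]; exact hdim i)
        (corr_congr T p q (φ := φ) (φ' := u) (add_zero _) rfl rfl rfl)
    · have hbot : ∀ x : T.gr X (i : ℤ), x = 0 := fun x => Subtype.ext (eq_zero_of_lt T x.2 (by omega))
      rw [show A = 0 from LinearMap.ext fun x => by rw [hbot x, map_zero]; rfl, map_zero]
  simp only [mul_zero, Finset.sum_const_zero] at key
  rw [← key]
  show _ = T.tr P ((u : T.H P) * T.pull σ (T.pull σ (v : T.H P)))
  rw [pull_comp_apply T hσ2, pull_id_apply]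

end Groth.Agent.S19418
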