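import Groth.Statements.S19419
import Groth.Agent.CycInter.PullDiagonal

set_option autoImplicit false
universe u
open CategoryTheory CategoryTheory.Limits AlgebraicGeometry
open Cyc

namespace Groth.Agent.S19419

/-- Let X be a smooth proper integral curve over an algebraically closed field k, with generic point η,
and ψ : X → X a flat endomorphism over k. Let Y = X ×_k X with its two projections, m = ψ × id : Y →
Y (first projection intertwines ψ, second projection unchanged), d : X → Y the diagonal and g = (id,
ψ) : X → Y the graph of ψ. For the dimension function δ on Y induced from weight 0 on Spec k, the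
flat pull-back of cycles along m in relative dimension 0 takes the diagonal divisor [Δ], the cycle
equal to 1 at d(η) and 0 elsewhere, to the graph divisor [Γ_ψ], the cycle equal to 1 at g(η) and 0
elsewhere: (ψ × id)^*[Δ] = [Γ_ψ]. The published statement allows any endomorphism ψ and reads the
pull-back on divisors; flatness of ψ is what the flat pull-back of cycles requires (the intended
case is the Frobenius endomorphism), and iterating gives [Γ_{ψ^n}] = ((ψ × id)^*)^n [Δ]. -/
theorem result (k : Type u) [Field k]
    [IsAlgClosed k] (X : Scheme.{u}) (f : X ⟶ Spec (CommRingCat.of k)) [Smooth f] [IsProper f]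
    [IsIntegral X] (hdim : topologicalKrullDim ↥X = 1) (ψ : X ⟶ X) (hψ : ψ ≫ f = f) [Flat ψ]
    (m : pullback f f ⟶ pullback f f) (hm₁ : m ≫ pullback.fst f f = pullback.fst f f ≫ ψ)
    (hm₂ : m ≫ pullback.snd f f = pullback.snd f f) (g : X ⟶ pullback f f)
    (hg₁ : g ≫ pullback.fst f f = 𝟙 X) (hg₂ : g ≫ pullback.snd f f = ψ)
    (δ : ↥(pullback f f) → ℤ) (hδ : Cyc.DeltaCompat (pullback.fst f f ≫ f) δ (fun _ => 0)) :
    Cyc.pullFun m δ δ 0
        (Set.indicator ({pullback.diagonal f (genericPoint ↥X)} : Set ↥(pullback f f)) (fun _ => (1 : ℤ))) =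
      Set.indicator ({g (genericPoint ↥X)} : Set ↥(pullback f f)) (fun _ => (1 : ℤ)) := by
  exact Groth.CycInter.pullFun_diagonal f hdim ψ hψ m hm₁ hm₂ g hg₁ hg₂ δ hδ

end Groth.Agent.S19419
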