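import Groth.Statements.S19420
import Groth.Agent.Misc6.FormCoords
import Groth.Agent.Misc6.BinaryForms

set_option autoImplicit false
universe u
open TensorProduct LaurentPolynomial
open GIT

namespace Groth.Agent.S19420

open Groth.Misc6.FormCriterion Groth.Misc6.FormCoords Matrix

/-- Let k be an algebraically closed field of characteristic zero and let SL_3 act by substitution on
ternary cubic forms, the point a having the form F = Σ_m (3; m) a_m x^m. Then a is semistable (some
invariant homogeneous polynomial of positive degree in the coefficients is non-zero at a) if and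
only if at every non-zero vector w where all first partial derivatives of F vanish, the matrix of
second partial derivatives of F at w has rank 2: every singular point of the plane cubic F = 0 is a
double point with two distinct tangent lines. (The published statement assumes only that the
characteristic of k is neither 2 nor 3; it is stated here in characteristic zero.) -/
theorem result (k : Type u) [Field k] [IsAlgClosed k] [CharZero k]
    (a : CoordGrp.FormIdx 3 3 → k) :
    @GLin.IsSemistableVec k _ (CoordGrp.SLn 3 k) _ _ (CoordGrp.FormIdx 3 3) (GLin.comodAlong ((CoordGrp.SLn.mkHom 3 k).comp (CoordGrp.Mat.toGLn 3 k)) (CoordGrp.formsCoact k 3 3))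
      (GLin.isCoactAlg_comodAlong ((CoordGrp.SLn.mkHom 3 k).comp (CoordGrp.Mat.toGLn 3 k)) (CoordGrp.formsCoact k 3 3)
        (CoordGrp.formsCoact_isCoactAlg k 3 3))
      a ↔
      ∀ w : Fin 3 → k, w ≠ 0 →
        (∀ i : Fin 3, MvPolynomial.eval w (MvPolynomial.pderiv i (CoordGrp.formPoly a)) = 0) →
          (Matrix.of fun i j : Fin 3 =>
            MvPolynomial.eval w (MvPolynomial.pderiv i (MvPolynomial.pderiv j (CoordGrp.formPoly a)))).rank = 2 := by
  constructor
  · intro hss w hw hsing
    by_contra hr
    have hF := isHomogeneous_formPoly a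
    obtain ⟨u, hu, huw⟩ := exists_kernel_of_rank_ne (n := 2) hw
      (hess_mulVec_eq_zero (d := 2) hF (funext hsing)) hr
    obtain ⟨M, hM, hMw, hMu⟩ := exists_two_cols (n := 0) w u hw huw
    have hG := sub_isHomogeneous hF M
    refine (not_isSemistableVec_iff a).2 ⟨M, hM, ![-3, 1, 2], by simp [Fin.sum_univ_three],
      fun e he => ?_⟩ hss
    by_contra hlt
    have hd : e.degree = 3 := by rw [Finsupp.degree_eq_weight_one]; exact hG he
    rw [Finsupp.degree_eq_sum, Fin.sum_univ_three] at hd
    simp [wt, Fin.sum_univ_three] at hlt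
    have hker : ∀ j : Fin 3, (hess (CoordGrp.formPoly a) w) *ᵥ (M *ᵥ Pi.single j 1) = 0 →
        ∀ i, (sub M (CoordGrp.formPoly a)).coeff
          (Finsupp.single 0 1 + Finsupp.single i 1 + Finsupp.single j 1) = 0 := by
      intro j hj i
      refine (hess_single_eq_zero_iff hG 0 i j).1 ?_
      have h : hess (sub M (CoordGrp.formPoly a)) (Pi.single 0 1) *ᵥ Pi.single j 1 = 0 := by
        rw [hess_sub, hMw, ← Matrix.mulVec_mulVec, ← Matrix.mulVec_mulVec, hj, Matrix.mulVec_zero]
      simpa [Matrix.mulVec_single_one] using congrFun h i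
    have h0 := hker 0 (by rw [hMw]; exact hess_mulVec_eq_zero (d := 2) hF (funext hsing))
    have h1 := hker 1 (by rw [hMu]; exact hu)
    rcases (by omega : (e 0 = 3 ∧ e 1 = 0 ∧ e 2 = 0) ∨ (e 0 = 2 ∧ e 1 = 1 ∧ e 2 = 0) ∨
        (e 0 = 2 ∧ e 1 = 0 ∧ e 2 = 1) ∨ (e 0 = 1 ∧ e 1 = 2 ∧ e 2 = 0) ∨ (e 0 = 1 ∧ e 1 = 1 ∧ e 2 = 1)) with
      ⟨a0, a1, a2⟩ | ⟨a0, a1, a2⟩ | ⟨a0, a1, a2⟩ | ⟨a0, a1, a2⟩ | ⟨a0, a1, a2⟩
    · refine he ?_; rw [show e = Finsupp.single 0 1 + Finsupp.single 0 1 + Finsupp.single 0 1 from Finsupp.ext fun i => by fin_cases i <;> simp [a0, a1, a2]]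
      exact h0 0
    · refine he ?_; rw [show e = Finsupp.single 0 1 + Finsupp.single 1 1 + Finsupp.single 0 1 from Finsupp.ext fun i => by fin_cases i <;> simp [a0, a1, a2]]
      exact h0 1
    · refine he ?_; rw [show e = Finsupp.single 0 1 + Finsupp.single 2 1 + Finsupp.single 0 1 from Finsupp.ext fun i => by fin_cases i <;> simp [a0, a1, a2]]
      exact h0 2
    · refine he ?_; rw [show e = Finsupp.single 0 1 + Finsupp.single 1 1 + Finsupp.single 1 1 from Finsupp.ext fun i => by fin_cases i <;> simp [a0, a1, a2]]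
      exact h1 1
    · refine he ?_; rw [show e = Finsupp.single 0 1 + Finsupp.single 2 1 + Finsupp.single 1 1 from Finsupp.ext fun i => by fin_cases i <;> simp [a0, a1, a2]]
      exact h1 2
  · intro hR
    by_contra hns
    obtain ⟨M₀, hM₀, w₀, hw₀, hP₀⟩ := (not_isSemistableVec_iff a).1 hns
    obtain ⟨M, w, hM, hmono, hsum, -, hP⟩ := exists_sorted hM₀ (fun x => 0 < x) hP₀
    rw [hw₀, Fin.sum_univ_three] at hsum
    have h01 : w 0 ≤ w 1 := hmono (by decide)
    have h12 : w 1 ≤ w 2 := hmono (by decide)
    have hle : ∀ i, w i ≤ w 2 := fun i => hmono (Fin.le_last i)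
    have hG := sub_isHomogeneous (isHomogeneous_formPoly a) M
    have hwt : ∀ i j l : Fin 3,
        wt w (Finsupp.single i 1 + Finsupp.single j 1 + Finsupp.single l 1) = w i + w j + w l := by
      intro i j l
      simp [wt, Finsupp.single_apply, add_mul, Finset.sum_add_distrib]
    have hsing : grad (sub M (CoordGrp.formPoly a)) (Pi.single 0 1) = 0 := by
      funext i
      refine (grad_single_eq_zero_iff hG 0 i).2 (by_contra fun hne => ?_)
      rw [show Finsupp.single (0 : Fin 3) 2 = Finsupp.single 0 1 + Finsupp.single 0 1 by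
        rw [← Finsupp.single_add]] at hne
      have h := hP _ hne
      rw [hwt] at h
      have := hle i
      omega
    have hH : ∀ i j, i ≠ 2 ∨ j ≠ 2 → hess (sub M (CoordGrp.formPoly a)) (Pi.single 0 1) i j = 0 := by
      intro i j hij
      refine (hess_single_eq_zero_iff hG 0 i j).2 (by_contra fun hne => ?_)
      have h := hP _ hne
      rw [hwt] at h
      have := hle i
      have := hle j
      rcases hij with hi | hi
      · have : w i ≤ w 1 := hmono (Fin.le_def.2 (by simp [Fin.ext_iff] at hi ⊢; omega))
        omega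
      · have : w j ≤ w 1 := hmono (Fin.le_def.2 (by simp [Fin.ext_iff] at hi ⊢; omega))
        omega
    have hr := hR _ (mulVec_ne_zero hM (Pi.single_ne_zero_iff.2 one_ne_zero))
      (congrFun ((grad_sub_eq_zero_iff hM _ _).1 hsing))
    change (hess (CoordGrp.formPoly a) _).rank = 2 at hr
    rw [← rank_hess_sub hM] at hr
    have h1 : (hess (sub M (CoordGrp.formPoly a)) (Pi.single 0 1)).rank ≤ 1 := by
      rw [show hess (sub M (CoordGrp.formPoly a)) (Pi.single 0 1) = Matrix.vecMulVec
          (Pi.single 2 (hess (sub M (CoordGrp.formPoly a)) (Pi.single 0 1) 2 2)) (Pi.single 2 1) by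
        ext i j
        rcases eq_or_ne i 2 with rfl | hi <;> rcases eq_or_ne j 2 with rfl | hj
        · simp [Matrix.vecMulVec_apply]
        all_goals simp [Matrix.vecMulVec_apply, *]]
      exact Matrix.rank_vecMulVec_le _ _
    omega

end Groth.Agent.S19420
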