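import Groth.Statements.S19421
import Groth.Agent.Misc6.FormCoords
import Groth.Agent.Misc6.BinaryForms

set_option autoImplicit false
universe u
open TensorProduct LaurentPolynomial
open GIT

namespace Groth.Agent.S19421

open Groth.Misc6.FormCriterion Groth.Misc6.FormCoords Matrix

/-- Let k be an algebraically closed field of characteristic zero and let SL_3 act by substitution on
ternary cubic forms, the point a having the form F = Σ_m (3; m) a_m x^m. Then a is stable (its orbit
is closed and its stabiliser finite) if and only if the plane cubic curve F = 0 is smooth: at every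
non-zero vector some first partial derivative of F is non-zero. (The published statement assumes
only that the characteristic of k is neither 2 nor 3; it is stated here in characteristic zero.) -/
theorem result (k : Type u) [Field k] [IsAlgClosed k] [CharZero k]
    (a : CoordGrp.FormIdx 3 3 → k) :
    @GLin.IsStableVec k _ (CoordGrp.SLn 3 k) _ _ (CoordGrp.FormIdx 3 3) (GLin.comodAlong ((CoordGrp.SLn.mkHom 3 k).comp (CoordGrp.Mat.toGLn 3 k)) (CoordGrp.formsCoact k 3 3))
      (GLin.isCoactAlg_comodAlong ((CoordGrp.SLn.mkHom 3 k).comp (CoordGrp.Mat.toGLn 3 k)) (CoordGrp.formsCoact k 3 3)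
        (CoordGrp.formsCoact_isCoactAlg k 3 3))
      a ↔
      ∀ w : Fin 3 → k, w ≠ 0 →
        ∃ i : Fin 3, MvPolynomial.eval w (MvPolynomial.pderiv i (CoordGrp.formPoly a)) ≠ 0 := by
  constructor
  · intro hst w hw
    by_contra hno
    push Not at hno
    obtain ⟨M, hM, hMw⟩ := exists_first_col (n := 1) w hw
    refine (not_isStableVec_iff a).2 ⟨M, hM, ![-2, 1, 1], fun h => by simpa using congrFun h 1,
      by simp [Fin.sum_univ_three], fun e he => ?_⟩ hst
    by_contra hlt
    have hG := sub_isHomogeneous (isHomogeneous_formPoly a) M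
    have hd : e.degree = 3 := by rw [Finsupp.degree_eq_weight_one]; exact hG he
    rw [Finsupp.degree_eq_sum, Fin.sum_univ_three] at hd
    simp [wt, Fin.sum_univ_three] at hlt
    have hgrad : ∀ i, (sub M (CoordGrp.formPoly a)).coeff (Finsupp.single 0 2 + Finsupp.single i 1) = 0 :=
      fun i => (grad_single_eq_zero_iff hG 0 i).1 <| congrFun
        ((grad_sub_eq_zero_iff hM _ _).2 (by rw [hMw]; funext j; exact hno j)) i
    obtain ⟨i, rfl⟩ : ∃ i : Fin 3, e = Finsupp.single 0 2 + Finsupp.single i 1 := by
      rcases (by omega : (e 0 = 3 ∧ e 1 = 0 ∧ e 2 = 0) ∨ (e 0 = 2 ∧ e 1 = 1 ∧ e 2 = 0) ∨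
        (e 0 = 2 ∧ e 1 = 0 ∧ e 2 = 1)) with ⟨h0, h1, h2⟩ | ⟨h0, h1, h2⟩ | ⟨h0, h1, h2⟩
      · exact ⟨0, Finsupp.ext fun i => by fin_cases i <;> simp [h0, h1, h2]⟩
      · exact ⟨1, Finsupp.ext fun i => by fin_cases i <;> simp [h0, h1, h2]⟩
      · exact ⟨2, Finsupp.ext fun i => by fin_cases i <;> simp [h0, h1, h2]⟩
    exact he (hgrad i)
  · intro hs
    refine Groth.Misc6.SmoothHypersurface.isStableVec le_rfl a fun w hw => ?_
    by_contra hne
    obtain ⟨i, hi⟩ := hs w hne
    exact hi (hw i)

end Groth.Agent.S19421
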