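import Groth.Statements.S19422
import Groth.Agent.GitQuot.Linear
-- import your own Groth.Agent.* helpers here

set_option autoImplicit false
universe u
open TensorProduct LaurentPolynomial
open GIT

namespace Groth.Agent.S19422

/-- Over an algebraically closed field k, let the multiplicative group, whose coordinate Hopf algebra is
the Laurent polynomial ring, act diagonally on affine ι-space, ι finite: the coaction on the
polynomial ring is multiplicative and sends the coordinate function X_i to X_i ⊗ T^(r_i) for
integers r_i. Then a vector v is semistable (some invariant homogeneous polynomial of positive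
degree does not vanish at v) if and only if there are indices i and j, possibly equal, with v_i ≠ 0,
v_j ≠ 0 and r_i ≤ 0 ≤ r_j, i.e. the origin lies in the convex hull of the weights of v. (Stated for
the ambient projective space on its affine cone; the published statement is for a point of a closed
invariant subvariety, whose semistability is that of the point in the ambient space.) -/
theorem result (k : Type u) [Field k] [IsAlgClosed k]
    (ι : Type u) [Fintype ι] [HopfRep.Comod k k[T;T⁻¹] (MvPolynomial ι k)] [GLin.IsCoactAlg k k[T;T⁻¹] (MvPolynomial ι k)]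
    (r : ι → ℤ)
    (hr : ∀ i : ι, HopfRep.Comod.coact (k := k) (A := k[T;T⁻¹]) (MvPolynomial.X i : MvPolynomial ι k) =
      (MvPolynomial.X i : MvPolynomial ι k) ⊗ₜ[k] (T (r i) : k[T;T⁻¹]))
    (v : ι → k) :
    GLin.IsSemistableVec k k[T;T⁻¹] v ↔ ∃ i j : ι, v i ≠ 0 ∧ v j ≠ 0 ∧ r i ≤ 0 ∧ 0 ≤ r j := by
  classical
  let wt : (ι →₀ ℕ) → ℤ := fun m => ∑ i, (m i : ℤ) * r i
  have hmono : ∀ m : ι →₀ ℕ, HopfRep.Comod.coact (k := k) (A := k[T;T⁻¹]) (MvPolynomial.monomial m (1 : k)) =
      MvPolynomial.monomial m (1 : k) ⊗ₜ[k] (T (wt m) : k[T;T⁻¹]) := by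
    intro m
    induction m using Finsupp.induction_linear with
    | zero =>
      have h0 : wt 0 = 0 := by simp [wt]
      rw [show MvPolynomial.monomial 0 (1 : k) = (1 : MvPolynomial ι k) from rfl, h0, T_zero,
        GLin.IsCoactAlg.coact_one, Algebra.TensorProduct.one_def]
    | add a b ha hb =>
      have hw : wt (a + b) = wt a + wt b := by simp [wt, add_mul, Finset.sum_add_distrib]
      rw [hw, T_add, show MvPolynomial.monomial (a + b) (1 : k) =
        MvPolynomial.monomial a 1 * MvPolynomial.monomial b 1 by simp, GLin.IsCoactAlg.coact_mul, ha, hb,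
        Algebra.TensorProduct.tmul_mul_tmul]
    | single i n =>
      have hw : wt (Finsupp.single i n) = n * r i := by
        simp only [wt]
        rw [Finset.sum_eq_single i (fun j _ hj => by simp [hj.symm]) (by simp)]
        simp
      rw [← MvPolynomial.X_pow_eq_monomial, ← GLin.coactAlgHom_apply, map_pow, GLin.coactAlgHom_apply, hr,
        Algebra.TensorProduct.tmul_pow, T_pow, hw]
  constructor
  · intro hss
    unfold GLin.IsSemistableVec GLin.IsNullform at hss
    push Not at hss
    obtain ⟨F, hF, d, hd, hFd, hFv⟩ := hss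
    let φ : k[T;T⁻¹] →ₗ[k] k :=
      { toFun := fun q => q.coeff 0
        map_add' := fun a b => by simp
        map_smul' := fun c a => by simp }
    have h1 := Groth.GitQuot.op_of_fixed (A := k[T;T⁻¹]) (x := F) hF φ
    rw [Groth.ComodLib.op_apply] at h1
    conv at h1 => lhs; rw [MvPolynomial.as_sum F]
    have hterm : ∀ m ∈ F.support, Groth.ComodLib.slice φ
        (HopfRep.Comod.coact (k := k) (A := k[T;T⁻¹]) (MvPolynomial.monomial m (MvPolynomial.coeff m F))) =
          if wt m = 0 then MvPolynomial.monomial m (MvPolynomial.coeff m F) else 0 := by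
      intro m _
      rw [show MvPolynomial.monomial m (MvPolynomial.coeff m F) =
        MvPolynomial.coeff m F • MvPolynomial.monomial m (1 : k) by simp [MvPolynomial.smul_monomial],
        map_smul, map_smul, hmono, Groth.ComodLib.slice_tmul]
      by_cases h : wt m = 0
      · simp [φ, h, T_apply]
      · simp [φ, h, T_apply]
    have hφ1 : φ 1 = 1 := by
      change (1 : k[T;T⁻¹]).coeff 0 = 1
      rw [← T_zero, T_apply, if_pos rfl]
    rw [map_sum, map_sum, Finset.sum_congr rfl hterm, hφ1, one_smul] at h1
    have h2 := congrArg (MvPolynomial.eval v) h1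
    rw [map_sum] at h2
    obtain ⟨m, hm, hmv⟩ := Finset.exists_ne_zero_of_sum_ne_zero (h2.trans_ne hFv)
    have hw0 : wt m = 0 := by
      by_contra h
      rw [if_neg h, map_zero] at hmv
      exact hmv rfl
    rw [if_pos hw0, MvPolynomial.eval_monomial, Finsupp.prod_fintype _ _ (by simp)] at hmv
    have hvi : ∀ i, m i ≠ 0 → v i ≠ 0 := fun i hi h => hmv (by
      rw [Finset.prod_eq_zero (Finset.mem_univ i) (by rw [h, zero_pow hi]), mul_zero])
    have hdeg : ∑ i, m i = d := by
      have h := hFd.degree_eq_sum_deg_support hm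
      rw [h]
      exact (Finset.sum_subset (Finset.subset_univ _) fun i _ hi => Finsupp.notMem_support_iff.1 hi).symm
    obtain ⟨i₀, hi₀⟩ : ∃ i, m i ≠ 0 := by
      by_contra h
      push Not at h
      rw [Finset.sum_eq_zero fun i _ => h i] at hdeg
      omega
    have hex : (∃ i, m i ≠ 0 ∧ r i ≤ 0) ∧ ∃ j, m j ≠ 0 ∧ 0 ≤ r j := by
      constructor <;>
      · by_contra hno
        push Not at hno
        have hlt := hno i₀ hi₀
        have : wt m ≠ 0 := by
          first
          | exact (Finset.sum_pos' (fun i _ => by
              by_cases h : m i = 0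
              · simp [h]
              · exact le_of_lt (mul_pos (by omega) (hno i h))) ⟨i₀, Finset.mem_univ _, mul_pos (by omega) hlt⟩).ne'
          | exact (Finset.sum_neg' (fun i _ => by
              by_cases h : m i = 0
              · simp [h]
              · exact le_of_lt (mul_neg_of_pos_of_neg (by omega) (hno i h)))
              ⟨i₀, Finset.mem_univ _, mul_neg_of_pos_of_neg (by omega) hlt⟩).ne
        exact this hw0
    obtain ⟨⟨i, hi, hri⟩, ⟨j, hj, hrj⟩⟩ := hex
    exact ⟨i, j, hvi i hi, hvi j hj, hri, hrj⟩
  · rintro ⟨i, j, hi, hj, hri, hrj⟩ hnull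
    obtain ⟨a, b, hab, habr⟩ : ∃ a b : ℕ, 0 < a + b ∧ (a : ℤ) * r i + (b : ℤ) * r j = 0 := by
      by_cases h : r i = 0
      · exact ⟨1, 0, by omega, by simp [h]⟩
      · refine ⟨(r j).toNat, (-r i).toNat, by omega, ?_⟩
        rw [Int.toNat_of_nonneg hrj, Int.toNat_of_nonneg (by omega)]
        ring
    let m : ι →₀ ℕ := Finsupp.single i a + Finsupp.single j b
    have hw : wt m = 0 := by
      rw [← habr]
      simp [wt, m, add_mul, Finset.sum_add_distrib, Finsupp.single_apply]
    have hdeg : MvPolynomial.IsHomogeneous (MvPolynomial.monomial m (1 : k)) (a + b) :=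
      MvPolynomial.isHomogeneous_monomial _ (by simp [m, map_add, Finsupp.degree_single])
    have hinv : MvPolynomial.monomial m (1 : k) ∈ GLin.invariants k k[T;T⁻¹] (MvPolynomial ι k) := by
      change _ = _
      rw [hmono, hw, T_zero]
    have := hnull _ hinv _ hab hdeg
    rw [MvPolynomial.eval_monomial, one_mul, Finsupp.prod_fintype _ _ (by simp)] at this
    obtain ⟨l, -, hl⟩ := Finset.prod_eq_zero_iff.1 this
    have hvl : v l = 0 := eq_zero_of_pow_eq_zero hl
    have hml : m l ≠ 0 := fun h => by simp [h] at hl
    simp [m, Finsupp.single_apply] at hml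
    rcases eq_or_ne i l with rfl | hil
    · exact hi hvl
    · rcases eq_or_ne j l with rfl | hjl
      · exact hj hvl
      · simp [hil, hjl] at hml

end Groth.Agent.S19422
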