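import Groth.Statements.S19423
import Groth.Agent.GitQuot.Linear

set_option autoImplicit false
universe u
open TensorProduct LaurentPolynomial
open GIT

namespace Groth.Agent.S19423

open Polynomial in
private theorem closure_not_closed {k : Type u} [Field k] {R : Type u} [CommRing R] [Algebra k R]
    (g : R →ₐ[k] Polynomial k) (ψ : Polynomial k →ₐ[k] k[T;T⁻¹]) (hψ : Function.Injective ψ)
    (a : R) (ha : IsUnit (ψ (g a))) (ha0 : (g a).eval 0 = 0)
    (hc : IsClosed (Set.range (PrimeSpectrum.comap (ψ.comp g).toRingHom))) : False := by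
  haveI : (RingHom.ker ((Polynomial.aeval (0 : k)).comp g).toRingHom).IsPrime := RingHom.ker_isPrime _
  let y : PrimeSpectrum R := ⟨RingHom.ker ((Polynomial.aeval (0 : k)).comp g).toRingHom, ‹_›⟩
  have hy : y ∈ closure (Set.range (PrimeSpectrum.comap (ψ.comp g).toRingHom)) := by
    rw [PrimeSpectrum.closure_range_comap, PrimeSpectrum.mem_zeroLocus]
    intro b hb
    have h1 : ψ (g b) = 0 := hb
    have h2 : g b = 0 := hψ (h1.trans (map_zero ψ).symm)
    show Polynomial.aeval (0 : k) (g b) = 0
    rw [h2, map_zero]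
  rw [hc.closure_eq] at hy
  obtain ⟨Q, hQ⟩ := hy
  have hmem : a ∈ y.asIdeal := by
    show Polynomial.aeval (0 : k) (g a) = 0
    rw [Polynomial.coe_aeval_eq_eval]
    exact ha0
  rw [← hQ] at hmem
  exact Q.2.ne_top (Ideal.eq_top_of_isUnit_mem _ hmem ha)

/-- Over an algebraically closed field k, let the multiplicative group, whose coordinate Hopf algebra is
the Laurent polynomial ring, act diagonally on affine ι-space, ι finite: the coaction on the
polynomial ring is multiplicative and sends the coordinate function X_i to X_i ⊗ T^(r_i) for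
integers r_i. Then a vector v is stable (the orbit of the point v of affine space is closed and its
stabiliser is a finite group scheme) if and only if there are indices i and j with v_i ≠ 0, v_j ≠ 0
and r_i < 0 < r_j, i.e. the origin is an interior point of the convex hull of the weights of v.
(Stated for the ambient projective space on its affine cone, where stability means a closed orbit
with finite stabiliser in the cone.) -/
theorem result (k : Type u) [Field k] [IsAlgClosed k]
    (ι : Type u) [Fintype ι] [HopfRep.Comod k k[T;T⁻¹] (MvPolynomial ι k)] [GLin.IsCoactAlg k k[T;T⁻¹] (MvPolynomial ι k)]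
    (r : ι → ℤ)
    (hr : ∀ i : ι, HopfRep.Comod.coact (k := k) (A := k[T;T⁻¹]) (MvPolynomial.X i : MvPolynomial ι k) =
      (MvPolynomial.X i : MvPolynomial ι k) ⊗ₜ[k] (T (r i) : k[T;T⁻¹]))
    (v : ι → k) :
    GLin.IsStableVec k k[T;T⁻¹] v ↔ ∃ i j : ι, v i ≠ 0 ∧ v j ≠ 0 ∧ r i < 0 ∧ 0 < r j := by
  classical
  set f := GLin.orbitHom k k[T;T⁻¹] (GLin.vecPt k ι v) with hf
  have hfX : ∀ i, f (MvPolynomial.X i) = LaurentPolynomial.C (v i) * T (r i) := by
    intro i
    simp only [f, GLin.orbitHom, AlgHom.comp_apply, GLin.coactAlgHom_apply, hr,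
      Algebra.TensorProduct.map_tmul, AlgHom.id_apply]
    simp [GLin.vecPt, Algebra.smul_def]
  constructor
  · rintro ⟨hclosed, hfin⟩
    obtain ⟨i0, hi0, hr0⟩ : ∃ i, v i ≠ 0 ∧ r i ≠ 0 := by
      by_contra hno
      push Not at hno
      have hconst : f = (Algebra.ofId k k[T;T⁻¹]).comp (GLin.vecPt k ι v) := by
        refine MvPolynomial.algHom_ext fun i => ?_
        rw [hfX]
        by_cases h : v i = 0
        · simp [h, GLin.vecPt]
        · simp [hno i h, GLin.vecPt]
      have hbot : GLin.stabIdeal k k[T;T⁻¹] (GLin.vecPt k ι v) = ⊥ := by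
        rw [GLin.stabIdeal, ← hf, eq_bot_iff, Ideal.map_le_iff_le_comap]
        intro p hp
        rw [Ideal.mem_comap, Ideal.mem_bot, hconst, AlgHom.comp_apply, RingHom.mem_ker.1 hp, map_zero]
      unfold GLin.HasFiniteStab at hfin
      rw [hbot] at hfin
      haveI : Module.Finite k k[T;T⁻¹] :=
        Module.Finite.equiv (AlgEquiv.quotientBot k k[T;T⁻¹]).toLinearEquiv
      haveI : Module.Finite k (Polynomial k) :=
        FiniteDimensional.of_injective (Polynomial.toLaurentAlg (R := k)).toLinearMap
          Polynomial.toLaurent_injective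
      exact Polynomial.not_finite (R := k) inferInstance
    by_contra hno
    push Not at hno
    have hinjU : Function.Injective (Polynomial.toLaurentAlg (R := k)) := Polynomial.toLaurent_injective
    rcases lt_or_gt_of_ne hr0 with hneg | hpos
    · have hall : ∀ i, v i ≠ 0 → r i ≤ 0 := fun i hi => hno i0 i hi0 hi hneg
      let g : MvPolynomial ι k →ₐ[k] Polynomial k :=
        MvPolynomial.aeval fun i => Polynomial.C (v i) * Polynomial.X ^ (-r i).toNat
      let ψ : Polynomial k →ₐ[k] k[T;T⁻¹] :=
        (LaurentPolynomial.invert (R := k)).toAlgHom.comp Polynomial.toLaurentAlg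
      have hfg : f = ψ.comp g := by
        refine MvPolynomial.algHom_ext fun i => ?_
        rw [hfX]
        by_cases h : v i = 0
        · simp [h, g, ψ]
        · simp [g, ψ, Int.toNat_of_nonneg (show 0 ≤ -r i by have := hall i h; omega)]
      refine closure_not_closed g ψ ((LaurentPolynomial.invert (R := k)).injective.comp hinjU)
        (MvPolynomial.X i0) ?_ ?_ (hfg ▸ hclosed)
      · rw [← AlgHom.comp_apply, ← hfg, hfX]
        exact ((isUnit_iff_ne_zero.2 hi0).map LaurentPolynomial.C).mul (LaurentPolynomial.isUnit_T _)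
      · simp [g, zero_pow (show (-r i0).toNat ≠ 0 by omega)]
    · have hall : ∀ i, v i ≠ 0 → 0 ≤ r i := fun i hi => by
        by_contra h
        exact absurd (hno i i0 hi hi0 (by omega)) (by omega)
      let g : MvPolynomial ι k →ₐ[k] Polynomial k :=
        MvPolynomial.aeval fun i => Polynomial.C (v i) * Polynomial.X ^ (r i).toNat
      have hfg : f = Polynomial.toLaurentAlg.comp g := by
        refine MvPolynomial.algHom_ext fun i => ?_
        rw [hfX]
        by_cases h : v i = 0
        · simp [h, g]
        · simp [g, Int.toNat_of_nonneg (hall i h)]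
      refine closure_not_closed g Polynomial.toLaurentAlg hinjU
        (MvPolynomial.X i0) ?_ ?_ (hfg ▸ hclosed)
      · rw [← AlgHom.comp_apply, ← hfg, hfX]
        exact ((isUnit_iff_ne_zero.2 hi0).map LaurentPolynomial.C).mul (LaurentPolynomial.isUnit_T _)
      · simp [g, zero_pow (show (r i0).toNat ≠ 0 by omega)]
  · rintro ⟨i, j, hi, hj, hri, hrj⟩
    -- the orbit morphism is integral
    have hmem : ∀ l, v l ≠ 0 → (T (r l) : k[T;T⁻¹]) ∈ f.range := by
      intro l hl
      refine ⟨MvPolynomial.C (v l)⁻¹ * MvPolynomial.X l, ?_⟩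
      show f _ = _
      rw [map_mul, hfX, ← MvPolynomial.algebraMap_eq, AlgHom.commutes]
      rw [show algebraMap k k[T;T⁻¹] (v l)⁻¹ = LaurentPolynomial.C (v l)⁻¹ from rfl, ← mul_assoc,
        ← map_mul, inv_mul_cancel₀ hl, map_one, one_mul]
    obtain ⟨a, b, ha, hb, hra, hrb⟩ : ∃ a b : ℕ, 0 < a ∧ 0 < b ∧ (a : ℤ) = r j ∧ -(b : ℤ) = r i :=
      ⟨(r j).toNat, (-r i).toNat, by omega, by omega, by omega, by omega⟩
    have hpos : (T 1 : k[T;T⁻¹]) ^ a ∈ f.range := by
      rw [T_pow, mul_one, hra]; exact hmem j hj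
    have hneg : (T (-1) : k[T;T⁻¹]) ^ b ∈ f.range := by
      rw [T_pow, show (b : ℤ) * -1 = r i by omega]; exact hmem i hi
    have hpow : ∀ (q : k[T;T⁻¹]) (e : ℕ), 0 < e → q ^ e ∈ f.range → f.toRingHom.IsIntegralElem q := by
      intro q e he hq
      obtain ⟨p, hp⟩ := hq
      refine ⟨Polynomial.X ^ e - Polynomial.C p, Polynomial.monic_X_pow_sub_C _ he.ne', ?_⟩
      rw [Polynomial.eval₂_sub, Polynomial.eval₂_X_pow, Polynomial.eval₂_C]
      exact sub_eq_zero.2 hp.symm
    have hint : ∀ q, f.toRingHom.IsIntegralElem q := by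
      intro q
      induction q using LaurentPolynomial.induction_on' with
      | add p q hp hq => exact RingHom.IsIntegralElem.add f.toRingHom hp hq
      | C_mul_T n c =>
        refine RingHom.IsIntegralElem.mul f.toRingHom ?_ ?_
        · rw [show LaurentPolynomial.C c = f.toRingHom (MvPolynomial.C c) from
            (f.commutes c).symm]
          exact RingHom.isIntegralElem_map _
        · rcases Int.eq_nat_or_neg n with ⟨m, rfl | rfl⟩
          · refine hpow _ a ha ?_
            rw [show (T (m : ℤ) : k[T;T⁻¹]) = T 1 ^ m by rw [T_pow, mul_one], ← pow_mul,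
              mul_comm m a, pow_mul]
            exact pow_mem hpos m
          · refine hpow _ b hb ?_
            rw [show (T (-(m : ℤ)) : k[T;T⁻¹]) = T (-1) ^ m by rw [T_pow]; simp, ← pow_mul,
              mul_comm m b, pow_mul]
            exact pow_mem hneg m
    refine ⟨(PrimeSpectrum.isClosedMap_comap_of_isIntegral f.toRingHom hint).isClosed_range, ?_⟩
    -- finite stabiliser
    show Module.Finite k (k[T;T⁻¹] ⧸ GLin.stabIdeal k k[T;T⁻¹] (GLin.vecPt k ι v))
    let π : k[T;T⁻¹] →ₐ[k] k[T;T⁻¹] ⧸ GLin.stabIdeal k k[T;T⁻¹] (GLin.vecPt k ι v) :=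
      Ideal.Quotient.mkₐ k _
    let S : Submodule k (k[T;T⁻¹] ⧸ GLin.stabIdeal k k[T;T⁻¹] (GLin.vecPt k ι v)) :=
      Submodule.span k (Set.range fun m : Fin a => π (T (m.1 : ℤ)))
    have h1 : π (T (a : ℤ)) = 1 := by
      rw [← map_one π, ← sub_eq_zero, ← map_sub]
      refine Ideal.Quotient.eq_zero_iff_mem.2 ?_
      have hk : MvPolynomial.C (v j)⁻¹ * MvPolynomial.X j - 1 ∈ RingHom.ker (GLin.vecPt k ι v) := by
        simp [RingHom.mem_ker, GLin.vecPt, hj]
      have := Ideal.mem_map_of_mem f hk
      rw [map_sub, map_one, map_mul, hfX, ← MvPolynomial.algebraMap_eq, AlgHom.commutes,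
        show algebraMap k k[T;T⁻¹] (v j)⁻¹ = LaurentPolynomial.C (v j)⁻¹ from rfl, ← mul_assoc,
        ← map_mul, inv_mul_cancel₀ hj, map_one, one_mul, ← hra] at this
      exact this
    have hTmem : ∀ n : ℤ, π (T n) ∈ S := by
      intro n
      have hper : ∀ q : ℤ, π (T ((a : ℤ) * q)) = 1 := by
        intro q
        induction q using Int.induction_on with
        | zero => simp
        | succ m ih => rw [mul_add, mul_one, T_add, map_mul, ih, h1, one_mul]
        | pred m ih =>
          have e : π (T ((a : ℤ) * (-(m : ℤ) - 1))) * π (T (a : ℤ)) = 1 := by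
            rw [← map_mul, ← T_add, show (a : ℤ) * (-(m : ℤ) - 1) + a = a * -(m : ℤ) by ring, ih]
          rwa [h1, mul_one] at e
      rw [← Int.emod_add_mul_ediv n a, T_add, map_mul, hper, mul_one]
      have h2 := Int.emod_nonneg n (show (a : ℤ) ≠ 0 by omega)
      have h3 := Int.emod_lt_of_pos n (show (0 : ℤ) < a by omega)
      refine Submodule.subset_span ⟨⟨(n % a).toNat, by omega⟩, ?_⟩
      simp [Int.toNat_of_nonneg h2]
    refine ⟨⟨Finset.univ.image fun m : Fin a => π (T (m.1 : ℤ)), ?_⟩⟩
    rw [Finset.coe_image, Finset.coe_univ, Set.image_univ, eq_top_iff]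
    intro x _
    obtain ⟨q, rfl⟩ := Ideal.Quotient.mk_surjective x
    show π q ∈ S
    induction q using LaurentPolynomial.induction_on' with
    | add p q hp hq => rw [map_add]; exact S.add_mem (hp trivial) (hq trivial)
    | C_mul_T n c =>
      rw [show LaurentPolynomial.C c * T n = c • (T n : k[T;T⁻¹]) from (Algebra.smul_def c _).symm,
        map_smul]
      exact S.smul_mem c (hTmem n)

end Groth.Agent.S19423
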