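import Groth.Statements.S19427
import Groth.Agent.MilnorKLambda.Basic

set_option autoImplicit false
universe u
open MilnorK

namespace Groth.Agent.S19427

/-- For a field F and nonzero b, c with b + c ≠ 0, in the Milnor K-group K_2(F) one has {b, c} + {b + c,
-b/c} = 0, that is {b, c} = -{b + c, -b/c} = {b + c, -c/b}. (The identity as displayed in the source
is {b, c} = {b + c, -b/c}, which differs from this by a sign and fails in general: for b = 3, c = 5
over the rationals the tame symbol at 5 takes the values 3 and 1/3 on the two sides; the
accompanying derivation from the Steinberg relation b/(b+c) + c/(b+c) = 1 gives exactly the identity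
stated here.) -/
theorem result (F : Type u) [Field F] (b c : Fˣ)
    (h : (b : F) + (c : F) ≠ 0) :
    (MilK.symbol ![b, c] : MilK.K F 2) + MilK.symbol ![Units.mk0 ((b : F) + (c : F)) h, -(b / c)] = 0 := by
  open Groth.MilnorKLambda in
  set e := Units.mk0 ((b : F) + (c : F)) h with he
  have hs := cns_cns_eq_zero_of_add_eq_one (n := 0) (b / e) (c / e) (by
    simp only [Units.val_div_eq_div_val, he, Units.val_mk0]
    field_simp) (MilK.symbol ![])
  have key : cns b (cns c (MilK.symbol ![] : MilK.K F 0)) + cns e (cns (-(b / c)) (MilK.symbol ![])) = 0 := by
    rw [cns_div, cns_div, map_sub, map_sub, cns_cns_self e] at hs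
    rw [show -(b / c) = (-1) * (b / c) by simp, cns_mul, cns_div, map_add, map_sub,
      cns_comm e b]
    rw [← hs]; abel
  simp only [cns_symbol] at key
  exact key

end Groth.Agent.S19427
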