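import Groth.Statements.S19428
import Groth.Agent.KTheory.RegKoszul

set_option autoImplicit false
universe u
open KRR

namespace Groth.Agent.S19428

open CategoryTheory CategoryTheory.Limits AlgebraicGeometry in
/-- Let T be any scheme, p : P^n_T ⟶ T the projection, and F a quasi-coherent O-module on P^n_T which is
regular in the sense of Castelnuovo and Mumford relative to p, i.e. R^i p_*(F(-i)) = 0 for every i ≥
1 (higher direct images of the underlying abelian sheaves). Then F(m) = O(m) ⊗ F is again regular
for every m ≥ 0. Stated for the trivial bundle, i.e. for P^n_T rather than for the projective bundle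
of an arbitrary vector bundle; no Noetherian, separatedness or finiteness hypothesis on T or F. -/
theorem result (n : ℕ) (T : Scheme.{u}) (F : (KRR.PY n T).Modules)
    (hF : Coh.IsQCoh F) (hreg : KRR.IsRegSheaf n T F) (m : ℕ) :
    KRR.IsRegSheaf n T (KRR.twF n T (m : ℤ) F) := by
  exact Groth.KTheory.RegKoszul.isRegSheaf_twF hF hreg m

end Groth.Agent.S19428
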