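import Groth.Statements.S19429
import Groth.Agent.KTheory.RegKoszulGen

set_option autoImplicit false
universe u
open KRR

namespace Groth.Agent.S19429

open CategoryTheory CategoryTheory.Limits AlgebraicGeometry in
/-- Let T be any scheme, p : P^n_T ⟶ T the projection, and F a quasi-coherent O-module on P^n_T which is
regular relative to p (R^i p_*(F(-i)) = 0 for every i ≥ 1, higher direct images of the underlying
abelian sheaves). Then the canonical homomorphism p^* p_* F ⟶ F, the counit of the adjunction
between pullback and pushforward of O-modules, is an epimorphism. Stated for the trivial bundle,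
i.e. for P^n_T; no Noetherian, separatedness or finiteness hypothesis on T or F. -/
theorem result (n : ℕ) (T : Scheme.{u}) (F : (KRR.PY n T).Modules)
    (hF : Coh.IsQCoh F) (hreg : KRR.IsRegSheaf n T F) :
    Epi ((Scheme.Modules.pullbackPushforwardAdjunction (KRR.pr n T)).counit.app F) := by
  exact Groth.KTheory.RegKoszul.epi_counit F hF hreg

end Groth.Agent.S19429
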