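import Groth.Statements.S1943
import Groth.Agent.FrobLCI.KEuler.Limit
-- import your own Groth.Agent.* helpers here

set_option autoImplicit false
universe u
open CategoryTheory
open IntMult

namespace Groth.Agent.S1943

/-- Let A be a Noetherian local ring, f₁, …, f_r elements generating an ideal of definition I (𝔪^n ⊆ I ⊆
𝔪 for some n) and M a finite A-module. Then r! · length_A(M/I^t M)/t^r tends, as t → ∞, to Σ_i
(−1)^i length_A H^i(K(f₁, …, f_r) ⊗_A M), the Euler characteristic of the Koszul complex tensored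
with M (cohomological indexing, degrees −r, …, 0); that is, e_I(M, r) equals that alternating sum.
The Koszul complex is the shared prelude's mapping-cone model. -/
theorem result (A : Type u) [CommRing A] [IsNoetherianRing A] [IsLocalRing A] (r : ℕ) (f : Fin r → A) (hI : Ideal.span (Set.range f) ≤ IsLocalRing.maximalIdeal A ∧ ∃ n : ℕ, IsLocalRing.maximalIdeal A ^ n ≤ Ideal.span (Set.range f)) (M : Type u) [AddCommGroup M] [Module A M] [Module.Finite A M] : Filter.Tendsto (fun t : ℕ => (r.factorial : ℝ) * ((Module.length A (M ⧸ (Ideal.span (Set.range f) ^ t • (⊤ : Submodule A M)))).toNat : ℝ) / (t : ℝ) ^ r) Filter.atTop (nhds ((∑ᶠ i : ℤ, ((i.negOnePow : ℤˣ) : ℤ) * ((Module.length A ((DRing.tensorCx (Koszul.koszul A (List.ofFn f)) (ModuleCat.of A M)).homology i)).toNat : ℤ) : ℤ) : ℝ)) := by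
  obtain ⟨hle, N, hN⟩ := hI
  have hofList : Ideal.ofList (List.ofFn f) = Ideal.span (Set.range f) := by
    unfold Ideal.ofList
    congr 1
    ext a
    simp [List.mem_ofFn]
  have hgood : Groth.KEuler.Good (List.ofFn f) M := fun p hp hp' => by
    have h1 : IsLocalRing.maximalIdeal A ≤ p := hp.le_of_pow_le ((hN.trans (hofList ▸ le_sup_right.trans hp')))
    rw [← (IsLocalRing.maximalIdeal.isMaximal A).eq_of_le hp.ne_top h1]
    exact IsLocalRing.maximalIdeal.isMaximal A
  rw [Groth.KEuler.finsum_eq_chi]
  have h := (Groth.KEuler.tendsto_hs f (fun j => hle (Ideal.subset_span ⟨j, rfl⟩)) hgood).const_mul (r.factorial : ℝ)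
  rw [mul_div_cancel₀ _ (Nat.cast_ne_zero.2 r.factorial_ne_zero)] at h
  refine h.congr fun t => ?_
  rw [mul_div_assoc]
  rfl

end Groth.Agent.S1943
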