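import Groth.Statements.S19432
import Groth.Agent.KTheory.RegSheaf

set_option autoImplicit false
universe u
open KRR

namespace Groth.Agent.S19432

open CategoryTheory CategoryTheory.Limits AlgebraicGeometry in
/-- Let T be any scheme, p : P^n_T ⟶ T the projection, and 0 ⟶ F' ⟶ F ⟶ F'' ⟶ 0 a short exact sequence
of quasi-coherent O-modules on P^n_T; 'regular' means regular relative to p in the sense of
Castelnuovo and Mumford, R^i p_*(G(-i)) = 0 for all i ≥ 1 (higher direct images of the underlying
abelian sheaves), and G(d) = O(d) ⊗ G. If F and F'(1) are regular then F'' is regular. The source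
states this for m-regularity of the twists F(n), F'(n+1), F''(n) over the projective bundle of any
vector bundle; stated here for m = 0, n = 0 and P^n_T. -/
theorem result (n : ℕ) (T : Scheme.{u}) (S : ShortComplex (KRR.PY n T).Modules)
    (hS : S.ShortExact) (h₁ : Coh.IsQCoh S.X₁) (h₂ : Coh.IsQCoh S.X₂) (h₃ : Coh.IsQCoh S.X₃)
    (hreg₂ : KRR.IsRegSheaf n T S.X₂) (hreg₁ : KRR.IsRegSheaf n T (KRR.twF n T 1 S.X₁)) :
    KRR.IsRegSheaf n T S.X₃ :=
  Groth.KTheory.RegSheaf.isRegSheaf_right hS h₁ h₂ h₃ hreg₂ hreg₁

end Groth.Agent.S19432
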