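import Groth.Statements.S19435
import Groth.Agent.PnCI.HypTwist

set_option autoImplicit false
universe u
open Coherent

namespace Groth.Agent.S19435

open CategoryTheory CategoryTheory.Limits AlgebraicGeometry in
/-- The case d = 0. Let F be a field, k ≥ 1, P = P^1_F and X ⊆ P a hypersurface of degree k: a closed
subscheme (ideal sheaf I) whose ideal sheaf is isomorphic as an O_P-module to O_P(-k), with
coordinate ring A = F[x_0, x_1]/(q) whose degree-m piece has dimension a(m) = C(m+1, 1) - C(m-k+1,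
1) (negative upper entries read as 0); O_X(n) = O_X ⊗ O_P(n) as an O_P-module. Then H^0(P, O_X(n))
is finite-dimensional of dimension a(n) + a(k-2-n), that of an extension of the dual of the
degree-(k-2-n) piece of A by the degree-n piece (the exact sequence itself is not stated here); and
H^p(P, O_X(n)) vanishes for every p ≥ 1. -/
theorem result (F : Type u) [Field F] (k : ℕ)
    (hk : 1 ≤ k) (I : (CohB1.ProjSpace 1 F).IdealSheafData)
    (hI : Nonempty (ClSub.idealMod I ≅ Twist.twistProjSpace 1 F (-(k : ℤ)))) (n : ℤ) :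
    (Module.Finite F (Coh.HH (CohB1.ProjSpace 1 F)
        (CohB1.tensorMod (ClSub.quotMod I) (Twist.twistProjSpace 1 F n)) 0) ∧
      Module.finrank F (Coh.HH (CohB1.ProjSpace 1 F)
        (CohB1.tensorMod (ClSub.quotMod I) (Twist.twistProjSpace 1 F n)) 0) =
        (Nat.choose (n + 1).toNat 1 - Nat.choose (n - (k : ℤ) + 1).toNat 1) +
        (Nat.choose ((k : ℤ) - 2 - n + 1).toNat 1 - Nat.choose ((k : ℤ) - 2 - n - (k : ℤ) + 1).toNat 1)) ∧
    (∀ p : ℕ, 1 ≤ p →
      Subsingleton (Coh.HH (CohB1.ProjSpace 1 F)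
        (CohB1.tensorMod (ClSub.quotMod I) (Twist.twistProjSpace 1 F n)) p)) := by
  refine ⟨⟨Groth.PnCI.HypTwist.finite_right I hI n 0, ?_⟩, fun p hp =>
    Groth.PnCI.HypTwist.subsingleton_twisted I hI n (by omega) (by omega)⟩
  obtain ⟨S, hS, ⟨e1⟩, ⟨e2⟩, ⟨e3⟩⟩ := Groth.PnCI.HypTwist.exists_seq I hI n
  haveI := Groth.Variety2.isProper_projSpace_toSpec 1 F
  have hf1 : Groth.EulerDeg.FinCoh F (Twist.twistProjSpace 1 F (n - (k : ℤ))) :=
    ⟨Groth.PnHodge.finite_twist 1 F _, 2, fun q hq =>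
      Groth.PnCoh.subsingleton_HH_twist _ q (by omega) (by omega)⟩
  have h3 : ∀ q, 1 ≤ q → Subsingleton (Coh.HH (CohB1.ProjSpace 1 F) S.X₃ q) := fun q hq =>
    Groth.PnCI.subsingleton_congr e3 q
      (Groth.PnCI.HypTwist.subsingleton_twisted I hI n (by omega) (by omega))
  have hf3 : Groth.EulerDeg.FinCoh F S.X₃ :=
    ⟨fun q => by
      haveI := Groth.PnCI.HypTwist.finite_right I hI n q
      exact Module.Finite.equiv (Groth.EulerDeg.hEquiv F e3.symm q), 1, h3⟩
  have h := Groth.EulerDeg.euler_add hS (hf1.of_iso e1.symm) hf3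
  rw [Groth.EulerDeg.euler_congr F e1, Groth.EulerDeg.euler_congr F e2,
    Groth.EulerDeg.euler_eq_sub (fun q hq => h3 q (by omega)),
    Groth.EulerDeg.euler_eq_sub (fun q hq => Groth.PnCoh.subsingleton_HH_twist _ q (by omega) (by omega)),
    Groth.EulerDeg.euler_eq_sub (fun q hq => Groth.PnCoh.subsingleton_HH_twist _ q (by omega) (by omega)),
    Groth.EulerDeg.finrank_eq_zero_of_subsingleton (h3 1 le_rfl),
    Groth.EulerDeg.finrank_congr e3 0] at h
  rw [Groth.PnCI.HypTwist.finrank_h0 le_rfl, Groth.PnCI.HypTwist.finrank_top le_rfl,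
    Groth.PnCI.HypTwist.finrank_h0 le_rfl, Groth.PnCI.HypTwist.finrank_top le_rfl] at h
  simp only [Nat.choose_one_right, Nat.cast_one] at h ⊢
  omega

end Groth.Agent.S19435
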