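import Groth.Statements.S19436
import Mathlib
-- import your own Groth.Agent.* helpers here

set_option autoImplicit false
universe u
open CAlg

namespace Groth.Agent.S19436

/-- For a Noetherian local commutative algebra R over a field k, with maximal ideal M, and an ideal I of
R whose quotient R/I is finite-dimensional over k of dimension n, the power M^n lies in I. -/
theorem result (k : Type u) [Field k] (R : Type u) [CommRing R]
    [Algebra k R] [IsNoetherianRing R] [IsLocalRing R] (I : Ideal R) [Module.Finite k (R ⧸ I)] (n : ℕ)
    (hn : Module.finrank k (R ⧸ I) = n) : IsLocalRing.maximalIdeal R ^ n ≤ I := by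
  rcases eq_or_ne I ⊤ with rfl | hI
  · exact le_top
  have : Nontrivial (R ⧸ I) := Ideal.Quotient.nontrivial_iff.2 hI
  have : IsLocalRing (R ⧸ I) :=
    IsLocalRing.of_surjective' (Ideal.Quotient.mk I) Ideal.Quotient.mk_surjective
  let J := IsLocalRing.maximalIdeal (R ⧸ I)
  have key : ∀ i : ℕ, J ^ i = ⊥ ∨ Module.finrank k ((J ^ i).restrictScalars k) + i ≤ n := by
    intro i
    induction i with
    | zero => exact Or.inr (by simpa [hn] using Submodule.finrank_le _ |>.trans_eq hn)
    | succ i ih =>
      rcases ih with h | h
      · left; rw [pow_succ, h]; exact Submodule.bot_mul _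
      · by_cases he : J ^ (i + 1) = J ^ i
        · left
          rw [he]
          refine Submodule.eq_bot_of_le_smul_of_le_jacobson_bot J _ (IsNoetherian.noetherian _) ?_
            (IsLocalRing.maximalIdeal_le_jacobson _)
          rw [smul_eq_mul, ← pow_succ', he]
        · right
          have hlt : (J ^ (i + 1)).restrictScalars k < (J ^ i).restrictScalars k :=
            lt_of_le_of_ne (Ideal.pow_le_pow_right (Nat.le_succ i))
              (fun hh => he (Submodule.restrictScalars_injective k (R ⧸ I) (R ⧸ I) hh))
          have := Submodule.finrank_lt_finrank_of_lt hlt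
          omega
  have hz : J ^ n = ⊥ := by
    rcases key n with h | h
    · exact h
    · have : Module.finrank k ((J ^ n).restrictScalars k) = 0 := by omega
      exact (Submodule.restrictScalars_eq_bot_iff k (R ⧸ I) (R ⧸ I)).1 (Submodule.finrank_eq_zero.1 this)
  rw [← Ideal.mk_ker (I := I), RingHom.ker_eq_comap_bot, ← Ideal.map_le_iff_le_comap, Ideal.map_pow]
  refine le_trans (Ideal.pow_right_mono ?_ n) hz.le
  rw [Ideal.map_le_iff_le_comap]
  intro x hx hu
  obtain ⟨y, hy⟩ := hu.exists_left_inv
  obtain ⟨y, rfl⟩ := Ideal.Quotient.mk_surjective y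
  rw [← map_mul, ← map_one (Ideal.Quotient.mk I), Ideal.Quotient.eq] at hy
  have h1 : y * x - 1 ∈ IsLocalRing.maximalIdeal R := IsLocalRing.le_maximalIdeal hI hy
  exact (IsLocalRing.maximalIdeal.isMaximal R).ne_top ((Ideal.eq_top_iff_one _).2
    (by simpa using Ideal.sub_mem _ (Ideal.mul_mem_left _ y hx) h1))

end Groth.Agent.S19436
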