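import Groth.Statements.S19437
import Mathlib
-- import your own Groth.Agent.* helpers here

set_option autoImplicit false
universe u
open CAlg

namespace Groth.Agent.S19437

open MvPowerSeries

theorem decomp {k : Type u} [CommRing k] (a b : ℕ) (ha : 1 ≤ a) (hb : 1 ≤ b) (f : MvPowerSeries (Fin 2) k)
    (hfa : ∀ i < a, coeff (Finsupp.single (0 : Fin 2) i) f = 0)
    (hfb : ∀ j < b, coeff (Finsupp.single (1 : Fin 2) j) f = 0) :
    ∃ h p q : MvPowerSeries (Fin 2) k, constantCoeff p = coeff (Finsupp.single (0 : Fin 2) a) f ∧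
      f = X 0 * X 1 * h + X 0 ^ a * p + X 1 ^ b * q := by
  classical
  let h : MvPowerSeries (Fin 2) k := fun m => coeff (m + (Finsupp.single (0 : Fin 2) 1 + Finsupp.single 1 1)) f
  let p : MvPowerSeries (Fin 2) k := fun m => if m 1 = 0 then coeff (m + Finsupp.single (0 : Fin 2) a) f else 0
  let q : MvPowerSeries (Fin 2) k := fun m => if m 0 = 0 then coeff (m + Finsupp.single (1 : Fin 2) b) f else 0
  refine ⟨h, p, q, ?_, ?_⟩
  · show (if (0 : Fin 2 →₀ ℕ) 1 = 0 then coeff (0 + Finsupp.single (0 : Fin 2) a) f else 0) = _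
    simp
  ext m
  rw [map_add, map_add, X_pow_eq, X_pow_eq, X, X, monomial_mul_monomial, one_mul, coeff_monomial_mul,
    coeff_monomial_mul, coeff_monomial_mul]
  simp only [one_mul]
  by_cases h0 : m 0 = 0
  · have e1 : ¬ Finsupp.single (0 : Fin 2) 1 + Finsupp.single 1 1 ≤ m := fun hl => by
      have := hl 0; simp [h0] at this
    have e2 : ¬ Finsupp.single (0 : Fin 2) a ≤ m := fun hl => by
      have := hl 0; simp [h0] at this; omega
    rw [if_neg e1, if_neg e2, zero_add, zero_add]
    have em : m = Finsupp.single 1 (m 1) := by ext i; fin_cases i <;> simp [h0]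
    by_cases h1 : b ≤ m 1
    · rw [if_pos (Finsupp.single_le_iff.2 h1)]
      show _ = (if (m - Finsupp.single (1 : Fin 2) b) 0 = 0 then
        coeff (m - Finsupp.single (1 : Fin 2) b + Finsupp.single (1 : Fin 2) b) f else 0)
      rw [if_pos (by simp [h0]), tsub_add_cancel_of_le (Finsupp.single_le_iff.2 h1)]
    · rw [if_neg (fun hl => h1 (by simpa using hl 1)), em]
      exact hfb _ (by omega)
  · by_cases h1 : m 1 = 0
    · have e1 : ¬ Finsupp.single (0 : Fin 2) 1 + Finsupp.single 1 1 ≤ m := fun hl => by
        have := hl 1; simp [h1] at this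
      have e3 : ¬ Finsupp.single (1 : Fin 2) b ≤ m := fun hl => by
        have := hl 1; simp [h1] at this; omega
      rw [if_neg e1, if_neg e3, zero_add, add_zero]
      have em : m = Finsupp.single 0 (m 0) := by ext i; fin_cases i <;> simp [h1]
      by_cases h2 : a ≤ m 0
      · rw [if_pos (Finsupp.single_le_iff.2 h2)]
        show _ = (if (m - Finsupp.single (0 : Fin 2) a) 1 = 0 then
          coeff (m - Finsupp.single (0 : Fin 2) a + Finsupp.single (0 : Fin 2) a) f else 0)
        rw [if_pos (by simp [h1]), tsub_add_cancel_of_le (Finsupp.single_le_iff.2 h2)]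
      · rw [if_neg (fun hl => h2 (by simpa using hl 0)), em]
        exact hfa _ (by omega)
    · have e1 : Finsupp.single (0 : Fin 2) 1 + Finsupp.single 1 1 ≤ m := fun i => by
        fin_cases i <;> simp <;> omega
      rw [if_pos e1]
      have hp : (if Finsupp.single (0 : Fin 2) a ≤ m then coeff (m - Finsupp.single (0 : Fin 2) a) p else 0) = 0 := by
        split_ifs
        · show (if (m - Finsupp.single (0 : Fin 2) a) 1 = 0 then _ else (0 : k)) = 0
          rw [if_neg (by simpa using h1)]
        · rfl
      have hq : (if Finsupp.single (1 : Fin 2) b ≤ m then coeff (m - Finsupp.single (1 : Fin 2) b) q else 0) = 0 := by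
        split_ifs
        · show (if (m - Finsupp.single (1 : Fin 2) b) 0 = 0 then _ else (0 : k)) = 0
          rw [if_neg (by simpa using h0)]
        · rfl
      rw [hp, hq, add_zero, add_zero]
      show _ = coeff (m - (Finsupp.single (0 : Fin 2) 1 + Finsupp.single 1 1) +
        (Finsupp.single (0 : Fin 2) 1 + Finsupp.single 1 1)) f
      rw [tsub_add_cancel_of_le e1]

/-- The ideal `(xy)` is invisible on the axes. -/
theorem coeff_axis_mul_xy {k : Type u} [CommRing k] (i : Fin 2) (n : ℕ) (h : MvPowerSeries (Fin 2) k) :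
    coeff (Finsupp.single i n) (X 0 * X 1 * h) = 0 := by
  classical
  rw [X, X, monomial_mul_monomial, coeff_monomial_mul, if_neg]
  intro hl
  have h0 := hl 0
  have h1 := hl 1
  fin_cases i <;> simp at h0 h1

theorem coeff_axis_pow_mul {k : Type u} [CommRing k] (i j : Fin 2) (n e : ℕ) (hij : i ≠ j) (he : 1 ≤ e)
    (h : MvPowerSeries (Fin 2) k) : coeff (Finsupp.single i n) (X j ^ e * h) = 0 := by
  classical
  rw [X_pow_eq, coeff_monomial_mul, if_neg]
  intro hl
  have := hl j
  rw [Finsupp.single_eq_same, Finsupp.single_eq_of_ne hij.symm] at this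
  omega

theorem coeff_axis_pow_mul_lt {k : Type u} [CommRing k] (i : Fin 2) (n e : ℕ) (hne : n < e)
    (h : MvPowerSeries (Fin 2) k) : coeff (Finsupp.single i n) (X i ^ e * h) = 0 := by
  classical
  rw [X_pow_eq, coeff_monomial_mul, if_neg]
  intro hl
  have := hl i
  simp at this
  omega

/-- Ideals of colength n of the complete local ring of a node. Let k be a field and J an ideal of the
power series ring k[[x,y]] in two variables x, y which contains xy and whose quotient is
finite-dimensional over k of dimension n ≥ 2. Then there are integers a, b ≥ 1 such that either a +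
b = n + 1 and J is generated by xy, x^a, y^b, or a + b = n and J is generated by xy and x^a + α y^b
for some nonzero scalar α. -/
theorem result (k : Type u) [Field k]
    (J : Ideal (MvPowerSeries (Fin 2) k))
    (hxy : (MvPowerSeries.X 0 * MvPowerSeries.X 1 : MvPowerSeries (Fin 2) k) ∈ J)
    [Module.Finite k (MvPowerSeries (Fin 2) k ⧸ J)] (n : ℕ) (hn : Module.finrank k (MvPowerSeries (Fin 2) k ⧸ J) = n)
    (h2 : 2 ≤ n) :
    ∃ a b : ℕ, 1 ≤ a ∧ 1 ≤ b ∧
      ((a + b = n + 1 ∧
        J = Ideal.span {MvPowerSeries.X 0 * MvPowerSeries.X 1, MvPowerSeries.X 0 ^ a, MvPowerSeries.X 1 ^ b}) ∨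
       (a + b = n ∧ ∃ α : k, α ≠ 0 ∧
        J = Ideal.span {MvPowerSeries.X 0 * MvPowerSeries.X 1,
          MvPowerSeries.X 0 ^ a + MvPowerSeries.C α * MvPowerSeries.X 1 ^ b})) := by
  classical
  have hC0 : ∀ f ∈ J, constantCoeff f = 0 := by
    intro f hf
    by_contra h
    have htop : J = ⊤ := Ideal.eq_top_of_isUnit_mem _ hf (isUnit_iff_constantCoeff.2 (isUnit_iff_ne_zero.2 h))
    subst htop
    have : Subsingleton (MvPowerSeries (Fin 2) k ⧸ (⊤ : Ideal (MvPowerSeries (Fin 2) k))) := inferInstance
    rw [Module.finrank_zero_of_subsingleton] at hn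
    omega
  have hex : ∀ i : Fin 2, ∃ e, ∃ f ∈ J, coeff (Finsupp.single i e) f ≠ 0 := by
    intro i
    by_contra hc
    push Not at hc
    let v : Fin (n + 1) → MvPowerSeries (Fin 2) k ⧸ J := fun e => Ideal.Quotient.mk J (X i ^ (e : ℕ))
    have hli : LinearIndependent k v := by
      rw [Fintype.linearIndependent_iff]
      intro c hc0 e
      have hmem : ∑ e : Fin (n + 1), C (c e) * X i ^ (e : ℕ) ∈ J := by
        rw [← Ideal.Quotient.eq_zero_iff_mem, map_sum, ← hc0]
        refine Finset.sum_congr rfl fun e _ => ?_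
        rw [← smul_eq_C_mul]
        rfl
      have := hc e _ hmem
      rw [map_sum, Finset.sum_eq_single e] at this
      · rwa [X_pow_eq, coeff_C_mul, coeff_monomial_same, mul_one] at this
      · intro e' _ he'
        rw [X_pow_eq, coeff_C_mul, coeff_monomial, if_neg, mul_zero]
        exact fun h => he' (Fin.ext (Finsupp.single_injective _ h).symm)
      · simp
    have := hli.fintype_card_le_finrank
    rw [Fintype.card_fin, hn] at this
    omega
  set a := Nat.find (hex 0) with hadef
  set b := Nat.find (hex 1) with hbdef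
  have hlow0 : ∀ f ∈ J, ∀ e < a, coeff (Finsupp.single (0 : Fin 2) e) f = 0 := fun f hf e he => by
    by_contra h; exact Nat.find_min (hex 0) he ⟨f, hf, h⟩
  have hlow1 : ∀ f ∈ J, ∀ e < b, coeff (Finsupp.single (1 : Fin 2) e) f = 0 := fun f hf e he => by
    by_contra h; exact Nat.find_min (hex 1) he ⟨f, hf, h⟩
  obtain ⟨F, hF, hFa⟩ := Nat.find_spec (hex 0)
  obtain ⟨G, hG, hGb⟩ := Nat.find_spec (hex 1)
  rw [← hadef] at hFa
  rw [← hbdef] at hGb
  have ha : 1 ≤ a := by
    by_contra h
    have h0 : a = 0 := by omega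
    rw [h0, Finsupp.single_zero, coeff_zero_eq_constantCoeff_apply] at hFa
    exact hFa (hC0 F hF)
  have hb : 1 ≤ b := by
    by_contra h
    have h0 : b = 0 := by omega
    rw [h0, Finsupp.single_zero, coeff_zero_eq_constantCoeff_apply] at hGb
    exact hGb (hC0 G hG)
  have hxa1 : X 0 ^ (a + 1) ∈ J := by
    obtain ⟨h, p, q, hp, he⟩ := decomp a b ha hb F (hlow0 F hF) (hlow1 F hF)
    have hu : IsUnit p := isUnit_iff_constantCoeff.2 (isUnit_iff_ne_zero.2 (hp ▸ hFa))
    obtain ⟨u, rfl⟩ := hu
    have h1 : X 0 * F - (X 0 * X 1) * (X 0 * h + X 1 ^ (b - 1) * q) ∈ J :=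
      sub_mem (J.mul_mem_left _ hF) (J.mul_mem_right _ hxy)
    have h2 : X 0 * F - (X 0 * X 1) * (X 0 * h + X 1 ^ (b - 1) * q) = X 0 ^ (a + 1) * (u : MvPowerSeries (Fin 2) k) := by
      have hb' : (X 1 : MvPowerSeries (Fin 2) k) ^ b = X 1 * X 1 ^ (b - 1) := by
        rw [← pow_succ']; congr 1; omega
      rw [he, hb']; ring
    rw [h2] at h1
    simpa [mul_assoc] using J.mul_mem_right ((u⁻¹ : (MvPowerSeries (Fin 2) k)ˣ) : MvPowerSeries (Fin 2) k) h1
  have hyb1 : X 1 ^ (b + 1) ∈ J := by
    obtain ⟨h, p, q, -, he⟩ := decomp a b ha hb G (hlow0 G hG) (hlow1 G hG)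
    have hq : constantCoeff q ≠ 0 := by
      intro hq0
      apply hGb
      rw [he, map_add, map_add, coeff_axis_mul_xy, coeff_axis_pow_mul _ _ _ _ (by decide) ha, zero_add, zero_add,
        X_pow_eq, coeff_monomial_mul, if_pos le_rfl, one_mul, tsub_self, coeff_zero_eq_constantCoeff_apply, hq0]
    obtain ⟨u, rfl⟩ : IsUnit q := isUnit_iff_constantCoeff.2 (isUnit_iff_ne_zero.2 hq)
    have h1 : X 1 * G - (X 0 * X 1) * (X 1 * h + X 0 ^ (a - 1) * p) ∈ J :=
      sub_mem (J.mul_mem_left _ hG) (J.mul_mem_right _ hxy)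
    have h2 : X 1 * G - (X 0 * X 1) * (X 1 * h + X 0 ^ (a - 1) * p) = X 1 ^ (b + 1) * (u : MvPowerSeries (Fin 2) k) := by
      have ha' : (X 0 : MvPowerSeries (Fin 2) k) ^ a = X 0 * X 0 ^ (a - 1) := by
        rw [← pow_succ']; congr 1; omega
      rw [he, ha']; ring
    rw [h2] at h1
    simpa [mul_assoc] using J.mul_mem_right ((u⁻¹ : (MvPowerSeries (Fin 2) k)ˣ) : MvPowerSeries (Fin 2) k) h1
  set ca : MvPowerSeries (Fin 2) k → k := fun f => coeff (Finsupp.single (0 : Fin 2) a) f with hca
  set cb : MvPowerSeries (Fin 2) k → k := fun f => coeff (Finsupp.single (1 : Fin 2) b) f with hcb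
  -- the leading part determines membership
  have hlead : ∀ f : MvPowerSeries (Fin 2) k, (∀ e < a, coeff (Finsupp.single (0 : Fin 2) e) f = 0) →
      (∀ e < b, coeff (Finsupp.single (1 : Fin 2) e) f = 0) →
      f - (C (ca f) * X 0 ^ a + C (cb f) * X 1 ^ b) ∈ J := by
    intro f h0 h1
    obtain ⟨h, p, q, -, he⟩ := decomp (a + 1) (b + 1) (by omega) (by omega)
      (f - (C (ca f) * X 0 ^ a + C (cb f) * X 1 ^ b)) (fun e he => by
        rw [map_sub, map_add, coeff_C_mul, coeff_C_mul, X_pow_eq, X_pow_eq, coeff_monomial, coeff_monomial]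
        rcases Nat.lt_or_ge e a with hlt | hge
        · rw [if_neg (fun hh => hlt.ne (Finsupp.single_injective _ hh)), if_neg, h0 e hlt]
          · simp
          · intro hh; have := DFunLike.congr_fun hh 1; simp at this; omega
        · obtain rfl : e = a := by omega
          rw [if_pos rfl, if_neg]
          · simp [hca]
          · intro hh; have := DFunLike.congr_fun hh 1; simp at this; omega)
      (fun e he => by
        rw [map_sub, map_add, coeff_C_mul, coeff_C_mul, X_pow_eq, X_pow_eq, coeff_monomial, coeff_monomial]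
        rcases Nat.lt_or_ge e b with hlt | hge
        · rw [if_neg, if_neg (fun hh => hlt.ne (Finsupp.single_injective _ hh)), h1 e hlt]
          · simp
          · intro hh; have := DFunLike.congr_fun hh 0; simp at this; omega
        · obtain rfl : e = b := by omega
          rw [if_neg, if_pos rfl]
          · simp [hcb]
          · intro hh; have := DFunLike.congr_fun hh 0; simp at this; omega)
    rw [he]
    exact add_mem (add_mem (J.mul_mem_right _ hxy) (J.mul_mem_right _ hxa1)) (J.mul_mem_right _ hyb1)
  -- coordinates of the quotient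
  let low : MvPowerSeries (Fin 2) k →ₗ[k] (Fin a ⊕ Fin (b - 1) → k) :=
    LinearMap.pi fun s => coeff (R := k) (Sum.elim (fun i : Fin a => Finsupp.single (0 : Fin 2) (i : ℕ))
      (fun j : Fin (b - 1) => Finsupp.single (1 : Fin 2) ((j : ℕ) + 1)) s)
  have hlow : ∀ f, low f = 0 ↔ (∀ e < a, coeff (Finsupp.single (0 : Fin 2) e) f = 0) ∧
      (∀ e < b, coeff (Finsupp.single (1 : Fin 2) e) f = 0) := by
    intro f
    constructor
    · intro h
      refine ⟨fun e he => congrFun h (Sum.inl ⟨e, he⟩), fun e he => ?_⟩
      rcases e with _ | e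
      · have := congrFun h (Sum.inl ⟨0, by omega⟩)
        simpa [low] using this
      · exact congrFun h (Sum.inr ⟨e, by omega⟩)
    · rintro ⟨h0, h1⟩
      funext s
      rcases s with ⟨e, he⟩ | ⟨e, he⟩
      exacts [h0 e he, h1 (e + 1) (by omega)]
  let idx : Fin a ⊕ Fin (b - 1) → (Fin 2 →₀ ℕ) := Sum.elim (fun i : Fin a => Finsupp.single (0 : Fin 2) (i : ℕ))
      (fun j : Fin (b - 1) => Finsupp.single (1 : Fin 2) ((j : ℕ) + 1))
  have hidx : Function.Injective idx := by
    rintro (⟨i, hi⟩ | ⟨i, hi⟩) (⟨j, hj⟩ | ⟨j, hj⟩) h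
    · simp only [idx, Sum.elim_inl] at h; simpa using Finsupp.single_injective _ h
    · exfalso; have := DFunLike.congr_fun h 1; simp [idx] at this
    · exfalso; have := DFunLike.congr_fun h 1; simp [idx] at this
    · simp only [idx, Sum.elim_inr] at h; simpa using Finsupp.single_injective _ h
  refine ⟨a, b, ha, hb, ?_⟩
  by_cases hyb : X 1 ^ b ∈ J
  · left
    have hxa : X 0 ^ a ∈ J := by
      have h1 := hlead F (hlow0 F hF) (hlow1 F hF)
      have h2 : C (ca F) * X 0 ^ a ∈ J := by
        have h3 := sub_mem (sub_mem hF h1) (J.mul_mem_left (C (cb F)) hyb)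
        convert h3 using 1; ring
      have h4 := J.mul_mem_left (C (ca F)⁻¹) h2
      rwa [← mul_assoc, ← map_mul, inv_mul_cancel₀ hFa, map_one, one_mul] at h4
    have hJ : ∀ f, f ∈ J ↔ low f = 0 := by
      refine fun f => ⟨fun hf => (hlow f).2 ⟨hlow0 f hf, hlow1 f hf⟩, fun h => ?_⟩
      obtain ⟨h', p, q, -, he⟩ := decomp a b ha hb f ((hlow f).1 h).1 ((hlow f).1 h).2
      rw [he]
      exact add_mem (add_mem (J.mul_mem_right _ hxy) (J.mul_mem_right _ hxa)) (J.mul_mem_right _ hyb)
    constructor
    · have hsurj : Function.Surjective low := fun c => by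
        refine ⟨(fun m => if h : ∃ s, idx s = m then c h.choose else 0 : MvPowerSeries (Fin 2) k), funext fun s => ?_⟩
        show (if h : ∃ s', idx s' = idx s then c h.choose else 0) = c s
        rw [dif_pos ⟨s, rfl⟩]
        congr 1
        exact hidx (Exists.choose_spec (⟨s, rfl⟩ : ∃ s', idx s' = idx s))
      have hker : LinearMap.ker low = J.restrictScalars k := by
        ext f; rw [LinearMap.mem_ker, Submodule.restrictScalars_mem, hJ]
      have hcard : Module.finrank k (MvPowerSeries (Fin 2) k ⧸ J) = a + (b - 1) := by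
        rw [(((Submodule.Quotient.restrictScalarsEquiv k J).symm.trans
          (Submodule.quotEquivOfEq _ _ hker.symm)).trans (low.quotKerEquivOfSurjective hsurj)).finrank_eq,
          Module.finrank_fintype_fun_eq_card, Fintype.card_sum, Fintype.card_fin, Fintype.card_fin]
      omega
    · refine le_antisymm (fun f hf => ?_) ?_
      · obtain ⟨h', p, q, -, he⟩ := decomp a b ha hb f (hlow0 f hf) (hlow1 f hf)
        rw [he]
        exact add_mem (add_mem (Ideal.mul_mem_right _ _ (Ideal.subset_span (by simp)))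
          (Ideal.mul_mem_right _ _ (Ideal.subset_span (by simp)))) (Ideal.mul_mem_right _ _ (Ideal.subset_span (by simp)))
      · rw [Ideal.span_le, Set.insert_subset_iff, Set.insert_subset_iff, Set.singleton_subset_iff]
        exact ⟨hxy, hxa, hyb⟩
  · right
    set α : k := cb F * (ca F)⁻¹ with hα
    have hfab : X 0 ^ a + C α * X 1 ^ b ∈ J := by
      have h1 := J.mul_mem_left (C (ca F)⁻¹) (sub_mem hF (hlead F (hlow0 F hF) (hlow1 F hF)))
      convert h1 using 1
      rw [sub_sub_cancel, mul_add, ← mul_assoc, ← map_mul, inv_mul_cancel₀ hFa, map_one, one_mul, ← mul_assoc,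
        ← map_mul, mul_comm (ca F)⁻¹ (cb F)]
    have hJ : ∀ f, f ∈ J ↔ low f = 0 ∧ cb f = α * ca f := by
      intro f
      constructor
      · intro hf
        refine ⟨(hlow f).2 ⟨hlow0 f hf, hlow1 f hf⟩, ?_⟩
        by_contra hne
        apply hyb
        have h1 : C (cb f - α * ca f) * X 1 ^ b ∈ J := by
          have h2 := sub_mem (sub_mem hf (hlead f (hlow0 f hf) (hlow1 f hf))) (J.mul_mem_left (C (ca f)) hfab)
          convert h2 using 1
          rw [map_sub, map_mul]; ring
        have h4 := J.mul_mem_left (C (cb f - α * ca f)⁻¹) h1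
        rwa [← mul_assoc, ← map_mul, inv_mul_cancel₀ (sub_ne_zero.2 hne), map_one, one_mul] at h4
      · rintro ⟨h, hc⟩
        have h1 := add_mem (hlead f ((hlow f).1 h).1 ((hlow f).1 h).2) (J.mul_mem_left (C (ca f)) hfab)
        convert h1 using 1
        rw [hc, map_mul]; ring
    have hα0 : α ≠ 0 := by
      intro h0
      exact hGb (by have := ((hJ G).1 hG).2; rwa [h0, zero_mul] at this)
    constructor
    · let full : MvPowerSeries (Fin 2) k →ₗ[k] ((Fin a ⊕ Fin (b - 1) → k) × k) :=
        low.prod (coeff (Finsupp.single (1 : Fin 2) b) - α • coeff (Finsupp.single (0 : Fin 2) a))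
      have hsurj : Function.Surjective full := fun c => by
        refine ⟨(fun m => if h : ∃ s, idx s = m then c.1 h.choose
          else if m = Finsupp.single (1 : Fin 2) b then c.2 else 0 : MvPowerSeries (Fin 2) k), Prod.ext (funext fun s => ?_) ?_⟩
        · show (if h : ∃ s', idx s' = idx s then c.1 h.choose else _) = c.1 s
          rw [dif_pos ⟨s, rfl⟩]
          exact congrArg c.1 (hidx (Exists.choose_spec (⟨s, rfl⟩ : ∃ s', idx s' = idx s)))
        · have e1 : ¬ ∃ s, idx s = Finsupp.single (1 : Fin 2) b := by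
            rintro ⟨⟨i, hi⟩ | ⟨i, hi⟩, h⟩
            · have := DFunLike.congr_fun h 1; simp [idx] at this; omega
            · have := Finsupp.single_injective _ (show Finsupp.single (1 : Fin 2) (i + 1) = Finsupp.single 1 b from h); omega
          have e0 : ¬ ∃ s, idx s = Finsupp.single (0 : Fin 2) a := by
            rintro ⟨⟨i, hi⟩ | ⟨i, hi⟩, h⟩
            · have := Finsupp.single_injective _ (show Finsupp.single (0 : Fin 2) i = Finsupp.single 0 a from h); omega
            · have := DFunLike.congr_fun h 1; simp [idx] at this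
          have e2 : ¬ (Finsupp.single (0 : Fin 2) a = Finsupp.single (1 : Fin 2) b) := fun h => by
            have := DFunLike.congr_fun h 1; simp at this; omega
          show (if h : _ then _ else _) - α * (if h : _ then _ else _) = _
          rw [dif_neg e1, if_pos rfl, dif_neg e0, if_neg e2, mul_zero, sub_zero]
      have hker : LinearMap.ker full = J.restrictScalars k := by
        ext f
        rw [LinearMap.mem_ker, Submodule.restrictScalars_mem, hJ]
        show (low f, _ - α * _) = (0, 0) ↔ _
        rw [Prod.mk.injEq, sub_eq_zero]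
      have hcard : Module.finrank k (MvPowerSeries (Fin 2) k ⧸ J) = a + (b - 1) + 1 := by
        rw [(((Submodule.Quotient.restrictScalarsEquiv k J).symm.trans
          (Submodule.quotEquivOfEq _ _ hker.symm)).trans (full.quotKerEquivOfSurjective hsurj)).finrank_eq,
          Module.finrank_prod, Module.finrank_self, Module.finrank_fintype_fun_eq_card, Fintype.card_sum, Fintype.card_fin, Fintype.card_fin]
      omega
    · refine ⟨α, hα0, le_antisymm (fun f hf => ?_) ?_⟩
      · set K : Ideal (MvPowerSeries (Fin 2) k) := Ideal.span {X 0 * X 1, X 0 ^ a + C α * X 1 ^ b} with hK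
        have hKxy : X 0 * X 1 ∈ K := Ideal.subset_span (by simp)
        have hKf : X 0 ^ a + C α * X 1 ^ b ∈ K := Ideal.subset_span (by simp)
        obtain ⟨b', hb'⟩ : ∃ b', b = b' + 1 := ⟨b - 1, by omega⟩
        obtain ⟨a', ha'⟩ : ∃ a', a = a' + 1 := ⟨a - 1, by omega⟩
        have hKa : X 0 ^ (a + 1) ∈ K := by
          have h := sub_mem (K.mul_mem_left (X 0) hKf) (K.mul_mem_right (C α * X 1 ^ b') hKxy)
          convert h using 1
          rw [hb', pow_succ' (X 1 : MvPowerSeries (Fin 2) k), pow_succ']; ring
        have hKb : X 1 ^ (b + 1) ∈ K := by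
          have h := K.mul_mem_left (C α⁻¹) (sub_mem (K.mul_mem_left (X 1) hKf) (K.mul_mem_right (X 0 ^ a') hKxy))
          convert h using 1
          have e : (X 1 * (X 0 ^ a + C α * X 1 ^ b) - X 0 * X 1 * X 0 ^ a' : MvPowerSeries (Fin 2) k) =
              C α * X 1 ^ (b + 1) := by rw [ha']; ring
          rw [e,
            ← mul_assoc, ← map_mul, inv_mul_cancel₀ hα0, map_one, one_mul]
        obtain ⟨hl, hc⟩ := (hJ f).1 hf
        obtain ⟨h', p, q, -, he⟩ := decomp (a + 1) (b + 1) (by omega) (by omega)
          (f - C (ca f) * (X 0 ^ a + C α * X 1 ^ b)) (fun e he => by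
            rw [map_sub, coeff_C_mul, map_add, X_pow_eq, X_pow_eq, coeff_C_mul, coeff_monomial, coeff_monomial]
            rcases Nat.lt_or_ge e a with hlt | hge
            · rw [if_neg (fun hh => hlt.ne (Finsupp.single_injective _ hh)), if_neg, ((hlow f).1 hl).1 e hlt]
              · simp
              · intro hh; have := DFunLike.congr_fun hh 1; simp at this; omega
            · obtain rfl : e = a := by omega
              rw [if_pos rfl, if_neg]
              · simp [hca]
              · intro hh; have := DFunLike.congr_fun hh 1; simp at this; omega)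
          (fun e he => by
            rw [map_sub, coeff_C_mul, map_add, X_pow_eq, X_pow_eq, coeff_C_mul, coeff_monomial, coeff_monomial]
            rcases Nat.lt_or_ge e b with hlt | hge
            · rw [if_neg, if_neg (fun hh => hlt.ne (Finsupp.single_injective _ hh)), ((hlow f).1 hl).2 e hlt]
              · simp
              · intro hh; have := DFunLike.congr_fun hh 0; simp at this; omega
            · obtain rfl : e = b := by omega
              rw [if_neg, if_pos rfl]
              · simp only [zero_add, mul_one]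
                simp only [hcb] at hc
                rw [hc]; ring
              · intro hh; have := DFunLike.congr_fun hh 0; simp at this; omega)
        rw [sub_eq_iff_eq_add] at he
        rw [he]
        exact add_mem (add_mem (add_mem (K.mul_mem_right _ hKxy) (K.mul_mem_right _ hKa)) (K.mul_mem_right _ hKb))
          (K.mul_mem_left _ hKf)
      · rw [Ideal.span_le, Set.insert_subset_iff, Set.singleton_subset_iff]
        exact ⟨hxy, hfab⟩

end Groth.Agent.S19437
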