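import Groth.Statements.S19438
import Mathlib

set_option autoImplicit false
universe u
open CAlg

namespace Groth.Agent.S19438

/-- First assertion: let A be a Noetherian local commutative algebra over a field k with maximal ideal
M, residue field k (the map from k to A/M is onto) and embedding dimension dim M/M^2 at least 2, and
let I be a proper ideal with A/I finite-dimensional over k. If A/I is generated as a k-algebra by
one element, then some element of I does not lie in M^2; that is, the finite closed subscheme
defined by I lies on a smooth hypersurface germ (it is curvilinear). (The published statement is for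
the local ring of a smooth surface at a closed point; only a Noetherian local algebra with residue
field k and embedding dimension at least 2 is assumed here, which is what the published argument
uses.) -/
theorem result (k : Type u) [Field k]
    (A : Type u) [CommRing A] [Algebra k A] [IsNoetherianRing A] [IsLocalRing A]
    (hres : Function.Surjective (algebraMap k (IsLocalRing.ResidueField A)))
    (hemb : 2 ≤ Module.finrank (IsLocalRing.ResidueField A) (IsLocalRing.CotangentSpace A))
    (I : Ideal A) (hI : I ≠ ⊤) [Module.Finite k (A ⧸ I)]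
    (f : A ⧸ I) (hf : Algebra.adjoin k {f} = ⊤) :
    ∃ g ∈ I, g ∉ IsLocalRing.maximalIdeal A ^ 2 := by
  by_contra! hcon
  have hIm : I ≤ IsLocalRing.maximalIdeal A := IsLocalRing.le_maximalIdeal hI
  obtain ⟨f₀, rfl⟩ := Ideal.Quotient.mk_surjective f
  obtain ⟨c, hc⟩ := hres (IsLocalRing.residue A f₀)
  let t : A := f₀ - algebraMap k A c
  have ht : t ∈ IsLocalRing.maximalIdeal A := by
    rw [← IsLocalRing.residue_eq_zero_iff, map_sub, sub_eq_zero, ← hc]
    exact IsScalarTower.algebraMap_apply k A (IsLocalRing.ResidueField A) c
  let m := IsLocalRing.maximalIdeal A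
  have hgen : ∀ a ∈ m, ∃ (b : k), a - algebraMap k A b * t ∈ m ^ 2 := by
    intro a ha
    have ha' : Ideal.Quotient.mk I a ∈ Algebra.adjoin k {Ideal.Quotient.mk I f₀} := hf ▸ Algebra.mem_top
    obtain ⟨P, hP⟩ : ∃ P : Polynomial k, Polynomial.aeval (Ideal.Quotient.mk I f₀) P = Ideal.Quotient.mk I a := by
      rw [Algebra.adjoin_singleton_eq_range_aeval] at ha'
      exact ha'
    let Q := P.comp (Polynomial.X + Polynomial.C c)
    have hQ : a - Polynomial.aeval t Q ∈ I := by
      rw [← Ideal.Quotient.eq_zero_iff_mem, map_sub, sub_eq_zero, ← hP, Polynomial.aeval_comp]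
      rw [← Ideal.Quotient.mkₐ_eq_mk k, ← Polynomial.aeval_algHom_apply]
      congr 1
      simp [t]
    have hQ2 : Polynomial.aeval t Q - (algebraMap k A (Q.coeff 0) + algebraMap k A (Q.coeff 1) * t) ∈ m ^ 2 := by
      conv in Polynomial.aeval t Q => rw [← Polynomial.X_mul_divX_add Q, map_add, map_mul, Polynomial.aeval_X, Polynomial.aeval_C,
        ← Polynomial.X_mul_divX_add Q.divX, map_add, map_mul, Polynomial.aeval_X, Polynomial.aeval_C, Polynomial.coeff_divX]
      rw [show t * (t * Polynomial.aeval t Q.divX.divX + algebraMap k A (Q.coeff 1)) + algebraMap k A (Q.coeff 0) -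
        (algebraMap k A (Q.coeff 0) + algebraMap k A (Q.coeff 1) * t) = t * t * Polynomial.aeval t Q.divX.divX by ring]
      rw [sq]
      exact Ideal.mul_mem_right _ _ (Ideal.mul_mem_mul ht ht)
    have hall : a - (algebraMap k A (Q.coeff 0) + algebraMap k A (Q.coeff 1) * t) ∈ m ^ 2 := by
      have := add_mem (hcon _ hQ) hQ2
      rwa [sub_add_sub_cancel] at this
    have h0 : algebraMap k A (Q.coeff 0) ∈ m := by
      have := sub_mem (sub_mem ha (Ideal.pow_le_self two_ne_zero hall)) (Ideal.mul_mem_left m (algebraMap k A (Q.coeff 1)) ht)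
      simpa using this
    have h0' : Q.coeff 0 = 0 := by
      by_contra h
      exact IsLocalRing.notMem_maximalIdeal.2 ((IsUnit.mk0 _ h).map (algebraMap k A)) h0
    rw [h0', map_zero, zero_add] at hall
    exact ⟨_, hall⟩
  have hle : Module.finrank (IsLocalRing.ResidueField A) (IsLocalRing.CotangentSpace A) ≤ 1 := by
    refine finrank_le_one ((IsLocalRing.maximalIdeal A).toCotangent ⟨t, ht⟩) fun w => ?_
    obtain ⟨⟨a, ha⟩, rfl⟩ := (IsLocalRing.maximalIdeal A).toCotangent_surjective w
    obtain ⟨b, hb⟩ := hgen a ha
    refine ⟨IsLocalRing.residue A (algebraMap k A b), ?_⟩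
    show (algebraMap k A b) • (IsLocalRing.maximalIdeal A).toCotangent ⟨t, ht⟩ = _
    rw [← map_smul]
    refine ((IsLocalRing.maximalIdeal A).toCotangent_eq.2 ?_).symm
    exact hb
  omega

end Groth.Agent.S19438
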