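import Groth.Statements.S19439
import Mathlib

set_option autoImplicit false
universe u
open CAlg

namespace Groth.Agent.S19439

/-- Affine form: for all n and N there is an integer d, that depends only on n and N, such that for
every algebraically closed field k and every ideal I of the polynomial ring in N variables over k
whose quotient has finite dimension n over k, the polynomials of total degree at most d map onto the
quotient. -/
theorem result (n N : ℕ) :
    ∃ d : ℕ, ∀ (k : Type u) [Field k] [IsAlgClosed k] (I : Ideal (MvPolynomial (Fin N) k))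
      [Module.Finite k (MvPolynomial (Fin N) k ⧸ I)],
      Module.finrank k (MvPolynomial (Fin N) k ⧸ I) = n →
      Submodule.map (Ideal.Quotient.mkₐ k I).toLinearMap (MvPolynomial.restrictTotalDegree (Fin N) k d) = ⊤ := by
  refine ⟨n, fun k _ _ I _ hn => ?_⟩
  let q := (Ideal.Quotient.mkₐ k I).toLinearMap
  let V : ℕ → Submodule k (MvPolynomial (Fin N) k ⧸ I) := fun d => Submodule.map q (MvPolynomial.restrictTotalDegree (Fin N) k d)
  have hmono : Monotone V := fun a b hab => Submodule.map_mono fun p hp => by
    rw [MvPolynomial.mem_restrictTotalDegree] at hp ⊢; exact hp.trans hab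
  have hsur : ∀ y, ∃ d, y ∈ V d := fun y => by
    obtain ⟨p, rfl⟩ := Ideal.Quotient.mk_surjective y
    exact ⟨p.totalDegree, p, (MvPolynomial.mem_restrictTotalDegree (Fin N) _ p).2 le_rfl, rfl⟩
  have hstep : ∀ d, V (d + 1) ≤ V d → ∀ e, V (d + e) ≤ V d := by
    intro d hd e
    induction e with
    | zero => exact le_rfl
    | succ e ih =>
      rintro _ ⟨p, hp, rfl⟩
      rw [SetLike.mem_coe, MvPolynomial.mem_restrictTotalDegree] at hp
      conv => arg 2; rw [p.as_sum, map_sum]
      refine Submodule.sum_mem _ fun m hm => ?_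
      have hmdeg : (m.sum fun _ e => e) ≤ d + (e + 1) := (MvPolynomial.le_totalDegree hm).trans hp
      by_cases hle : (m.sum fun _ e => e) ≤ d + e
      · exact ih ⟨_, (MvPolynomial.mem_restrictTotalDegree (Fin N) _ _).2 ((MvPolynomial.totalDegree_monomial_le _ _).trans hle), rfl⟩
      · obtain ⟨i, hi⟩ : ∃ i, m i ≠ 0 := by
          by_contra! h
          obtain rfl : m = 0 := Finsupp.ext h
          simp at hle
        have hm' : Finsupp.single i 1 + (m - Finsupp.single i 1) = m :=
          add_tsub_cancel_of_le (Finsupp.single_le_iff.2 (Nat.one_le_iff_ne_zero.2 hi))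
        rw [← hm', Finsupp.sum_add_index' (fun _ => rfl) (fun _ _ _ => rfl), Finsupp.sum_single_index rfl] at hmdeg
        rw [← hm', ← one_mul (p.coeff _), ← MvPolynomial.monomial_mul]
        obtain ⟨s, hs, hs'⟩ := ih ⟨MvPolynomial.monomial (m - Finsupp.single i 1) (p.coeff (Finsupp.single i 1 + (m - Finsupp.single i 1))),
          (MvPolynomial.mem_restrictTotalDegree (Fin N) _ _).2 ((MvPolynomial.totalDegree_monomial_le _ _).trans (show ((m - Finsupp.single i 1).sum fun _ e => e) ≤ d + e by omega)), rfl⟩
        refine hd ⟨MvPolynomial.X i * s, (MvPolynomial.mem_restrictTotalDegree (Fin N) _ _).2 ?_, ?_⟩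
        · rw [SetLike.mem_coe, MvPolynomial.mem_restrictTotalDegree] at hs
          exact (MvPolynomial.totalDegree_mul _ _).trans (by rw [MvPolynomial.totalDegree_X]; omega)
        · show Ideal.Quotient.mk I _ = Ideal.Quotient.mk I _
          rw [map_mul, map_mul, show Ideal.Quotient.mk I s = _ from hs']
          rfl
  have main : ∀ d, V d = ⊤ ∨ d + 1 ≤ Module.finrank k (V d) + 0 := by
    intro d
    induction d with
    | zero =>
      by_cases hnt : Subsingleton (MvPolynomial (Fin N) k ⧸ I)
      · exact Or.inl (Subsingleton.elim _ _)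
      refine Or.inr ?_
      rw [not_subsingleton_iff_nontrivial] at hnt
      have : V 0 ≠ ⊥ := fun h => one_ne_zero (α := MvPolynomial (Fin N) k ⧸ I)
        ((Submodule.eq_bot_iff _).1 h 1 ⟨1, (MvPolynomial.mem_restrictTotalDegree (Fin N) _ _).2 (by simp), map_one (Ideal.Quotient.mk I)⟩)
      exact Nat.one_le_iff_ne_zero.2 fun h => this (Submodule.finrank_eq_zero.1 h)
    | succ d ih =>
      rcases ih with h | h
      · exact Or.inl (eq_top_iff.2 (h ▸ hmono (Nat.le_succ d)))
      by_cases hle : V (d + 1) ≤ V d
      · refine Or.inl (eq_top_iff.2 fun y _ => ?_)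
        obtain ⟨e, he⟩ := hsur y
        exact hmono (Nat.le_succ d) (hstep d hle e (hmono (Nat.le_add_left e d) he))
      · refine Or.inr ?_
        show d + 1 + 1 ≤ Module.finrank k (V (d + 1)) + 0
        have : Module.finrank k (V d) < Module.finrank k (V (d + 1)) := Submodule.finrank_lt_finrank_of_lt (lt_of_le_of_ne (hmono (Nat.le_succ d)) fun h => hle h.ge)
        omega
  rcases main n with h | h
  · exact h
  · have := Submodule.finrank_le (V n)
    omega

end Groth.Agent.S19439
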