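import Groth.Statements.S19444
import Groth.Agent.Misc8.TopWedge
import Groth.Agent.Misc8.Polarisation

set_option autoImplicit false
universe u
open SymTen

namespace Groth.Agent.S19444

/-- Linearised norm: let A be a commutative ring in which n! is invertible and R a commutative
A-algebra, free of rank n as an A-module. There is a unique A-algebra homomorphism from the
symmetric tensors TS^n_A(R) to A taking r ⊗ ⋯ ⊗ r to the norm of r for every r in R. (The published
corollary is stated for any free algebra of rank n; the construction printed for it divides by n!,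
and n! invertible is assumed here.) -/
theorem result (A : Type u) [CommRing A] (R : Type u) [CommRing R]
    [Algebra A R] [Module.Free A R] [Module.Finite A R] (n : ℕ) (hn : Module.finrank A R = n)
    (hfact : IsUnit ((Nat.factorial n : ℕ) : A)) :
    ∃! φ : SymTen.TS A R n →ₐ[A] A, ∀ r : R, φ (SymTen.tpow A R n r) = Algebra.norm A r := by
  classical
  rcases subsingleton_or_nontrivial A with hA | hA
  · refine ⟨AlgHom.ofLinearMap 0 (Subsingleton.elim _ _) (fun _ _ => Subsingleton.elim _ _),
      fun _ => Subsingleton.elim _ _, fun φ _ => AlgHom.ext fun _ => Subsingleton.elim _ _⟩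
  let b := Module.finBasisOfFinrankEq A R hn
  refine ⟨Groth.Misc8.TopWedge.χ b, Groth.Misc8.TopWedge.χ_tpow b, fun φ hφ => ?_⟩
  refine Groth.Misc8.Polarisation.ext_of_tpow hfact φ (Groth.Misc8.TopWedge.χ b) fun r => ?_
  rw [hφ, Groth.Misc8.TopWedge.χ_tpow]

end Groth.Agent.S19444
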