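import Groth.Statements.S19445
import Groth.Agent.Calg8.FixedLocus
import Groth.Agent.Calg4.RegularFlat

set_option autoImplicit false
universe u
open CAlg

namespace Groth.Agent.S19445

/-- Local form: let k be a field and A a regular local k-algebra with maximal ideal M and residue field
k (k maps onto A/M); let a finite group G whose order is invertible in k act on A by k-algebra
automorphisms. Then A/J is a regular local ring, where J is the ideal generated by the elements g·a
− a (J defines the fixed-point subscheme, so the fixed locus of G is smooth at the point). The
accompanying identification of its tangent space with the G-invariants of the tangent space of A is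
not restated here. -/
theorem result (k : Type u) [Field k] (A : Type u) [CommRing A]
    [Algebra k A] [IsRegularLocalRing A]
    (hres : Function.Surjective (algebraMap k (IsLocalRing.ResidueField A)))
    (G : Type u) [Group G] [Finite G] [MulSemiringAction G A] [SMulCommClass G k A]
    (hG : (Nat.card G : k) ≠ 0) :
    IsRegularLocalRing (A ⧸ Ideal.span {x : A | ∃ (g : G) (a : A), x = g • a - a}) := by
  classical
  have := Fintype.ofFinite G
  obtain ⟨m, f, hspan, -, hind⟩ := Groth.Calg8.FixedLocus.exists_generators
    (MulSemiringAction.toAlgAut G k A) hres (by rwa [← Nat.card_eq_fintype_card])
  have h := (Groth.Calg4.isRegularLocalRing_quotient_of_indep m A (fun i => (f i : A)) (fun i => (f i).2) hind).1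
  exact IsRegularLocalRing.of_ringEquiv (Ideal.quotEquivOfEq hspan)

end Groth.Agent.S19445
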