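import Groth.Statements.S19446
import Groth.Agent.ResolveSurf.ExceptionalCurves

set_option backward.isDefEq.respectTransparency.types false

set_option autoImplicit false
universe u
open CategoryTheory CategoryTheory.Limits AlgebraicGeometry
open Resolve

namespace Groth.Agent.S19446

/-- A symmetric matrix with nonnegative off-diagonal entries and a positive vector sent to a negative
one is negative definite. -/
theorem negDef_of_row_neg {ι : Type*} [Fintype ι] (G : ι → ι → ℤ) (hsym : ∀ i j, G i j = G j i)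
    (hoff : ∀ i j, i ≠ j → 0 ≤ G i j) (d : ι → ℤ) (hd : ∀ i, 0 < d i)
    (hlt : ∀ j, ∑ i, d i * G i j < 0) (a : ι → ℤ) (ha : a ≠ 0) :
    ∑ i, ∑ j, a i * a j * G i j < 0 := by
  let b : ι → ℚ := fun i => (a i : ℚ) / d i
  have hd' : ∀ i, (0 : ℚ) < d i := fun i => by exact_mod_cast hd i
  have hab : ∀ i, (a i : ℚ) = b i * d i := fun i => (div_mul_cancel₀ _ (hd' i).ne').symm
  let g : ι → ι → ℚ := fun i j => (d i : ℚ) * d j * G i j
  have hgs : ∀ i j, g i j = g j i := fun i j => by simp only [g, hsym i j]; ring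
  have hrow : ∀ j, ∑ i, g i j < 0 := fun j => by
    have h : ((∑ i, d i * G i j : ℤ) : ℚ) < 0 := by exact_mod_cast hlt j
    push_cast at h
    have h' := mul_neg_of_neg_of_pos h (hd' j)
    rw [Finset.sum_mul] at h'
    refine lt_of_eq_of_lt (Finset.sum_congr rfl fun i _ => ?_) h'
    simp only [g]; ring
  have hQ : ((∑ i, ∑ j, a i * a j * G i j : ℤ) : ℚ) =
      ∑ j, b j ^ 2 * ∑ i, g i j - (1 / 2) * ∑ i, ∑ j, g i j * (b i - b j) ^ 2 := by
    have e1 : ∑ j, b j ^ 2 * ∑ i, g i j = ∑ i, ∑ j, g i j * b i ^ 2 := by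
      refine Finset.sum_congr rfl fun j _ => ?_
      rw [Finset.mul_sum]
      exact Finset.sum_congr rfl fun i _ => by rw [hgs i j]; ring
    have e2 : ∑ i, ∑ j, g i j * b j ^ 2 = ∑ i, ∑ j, g i j * b i ^ 2 := by
      rw [Finset.sum_comm]
      exact Finset.sum_congr rfl fun j _ => Finset.sum_congr rfl fun i _ => by rw [hgs i j]
    have e3 : ∑ i, ∑ j, g i j * (b i - b j) ^ 2 = ∑ i, ∑ j, g i j * b i ^ 2 +
        ∑ i, ∑ j, g i j * b j ^ 2 - 2 * ∑ i, ∑ j, g i j * (b i * b j) := by
      simp only [Finset.mul_sum, ← Finset.sum_add_distrib, ← Finset.sum_sub_distrib]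
      exact Finset.sum_congr rfl fun i _ => Finset.sum_congr rfl fun j _ => by ring
    have e4 : ((∑ i, ∑ j, a i * a j * G i j : ℤ) : ℚ) = ∑ i, ∑ j, g i j * (b i * b j) := by
      push_cast
      exact Finset.sum_congr rfl fun i _ => Finset.sum_congr rfl fun j _ => by
        simp only [hab, g]; ring
    rw [e1, e3, e2, e4]
    ring
  have hnn : ∀ i j, 0 ≤ g i j * (b i - b j) ^ 2 := fun i j => by
    rcases eq_or_ne i j with rfl | h
    · simp
    · have : (0 : ℚ) ≤ G i j := by exact_mod_cast hoff i j h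
      have := hd' i
      have := hd' j
      positivity
  obtain ⟨j₀, hj₀⟩ := Function.ne_iff.1 ha
  have hb0 : b j₀ ≠ 0 := div_ne_zero (by exact_mod_cast hj₀) (hd' j₀).ne'
  have h1 : ∑ j, b j ^ 2 * ∑ i, g i j < 0 :=
    Finset.sum_neg' (fun j _ => mul_nonpos_of_nonneg_of_nonpos (sq_nonneg _) (hrow j).le)
      ⟨j₀, Finset.mem_univ _, mul_neg_of_pos_of_neg (by positivity) (hrow j₀)⟩
  have h2 : 0 ≤ ∑ i, ∑ j, g i j * (b i - b j) ^ 2 :=
    Finset.sum_nonneg fun i _ => Finset.sum_nonneg fun j _ => hnn i j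
  have h3 : ((∑ i, ∑ j, a i * a j * G i j : ℤ) : ℚ) < 0 := by rw [hQ]; linarith
  exact_mod_cast h3

open Groth.ResolveSurf

/-- Let R be a Noetherian normal local domain of dimension 2 with residue field κ and π : Y → Spec R a
proper morphism from an integral scheme with regular local rings which is an isomorphism over the
complement of the closed point (a resolution of the surface singularity). Let E_1, …, E_r be
pairwise distinct integral closed subschemes of Y of dimension one, each mapping to the closed point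
(given with its structure morphism to Spec κ), which together cover the fibre over the closed point,
and for each j let L_j be an O_Y-module with L_j ⊗ I_{E_j} ≅ O_Y, i.e. L_j = O_Y(E_j). With a_ij the
degree over κ of the restriction of L_j to E_i (the intersection number E_i·E_j), the quadratic form
Σ x_i x_j a_ij is negative for every nonzero integer vector x: the intersection matrix of the
exceptional curves is negative definite. -/
theorem result (R : Type u) [CommRing R] [IsDomain R]
    [IsNoetherianRing R] [IsLocalRing R] [IsIntegrallyClosed R] (hdimR : ringKrullDim R = 2)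
    (Y : Scheme.{u}) (π : Y ⟶ Spec (CommRingCat.of R)) [IsProper π] [IsIntegral Y]
    (hreg : ∀ y : Y, IsRegularLocalRing (Y.presheaf.stalk y))
    (U : (Spec (CommRingCat.of R)).Opens)
    (hU : ∀ p : Spec (CommRingCat.of R), p ∈ U ↔ p ≠ IsLocalRing.closedPoint R) (hbir : IsIso (π ∣_ U))
    (r : ℕ) (E : Fin r → Scheme.{u}) (e : ∀ i, E i ⟶ Y) [∀ i, IsClosedImmersion (e i)]
    [∀ i, IsIntegral (E i)] (hE : ∀ i, topologicalKrullDim (E i) = 1)
    (s : ∀ i, E i ⟶ Spec (CommRingCat.of (IsLocalRing.ResidueField R)))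
    (hs : ∀ i, e i ≫ π = s i ≫ Spec.map (CommRingCat.ofHom (IsLocalRing.residue R)))
    (hdist : ∀ i j, i ≠ j → Set.range (e i).base ≠ Set.range (e j).base)
    (hcov : ∀ y : Y, π.base y ∉ U → ∃ i, y ∈ Set.range (e i).base)
    (L : Fin r → Y.Modules) (hL : ∀ j, ClSub.IsInverseOf (L j) (ClSub.idealMod (e j).ker))
    (x : Fin r → ℤ) (hx : x ≠ 0) :
    ∑ i, ∑ j, x i * x j *
      @Curv2.deg (IsLocalRing.ResidueField R) _ (E i) ⟨s i⟩ ((Scheme.Modules.pullback (e i)).obj (L j)) 1 < 0 := by
  let C : Fin r → Over0.Curve π := fun i => { E := E i, ι := e i, s := s i, w := hs i, dim_eq := hE i }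
  have hUne : (U : Set (Spec (CommRingCat.of R))).Nonempty := by
    refine ⟨(⟨⊥, Ideal.isPrime_bot⟩ : PrimeSpectrum R), (hU _).2 fun h => ?_⟩
    have h0 : IsLocalRing.maximalIdeal R = ⊥ := (congrArg PrimeSpectrum.asIdeal h).symm
    rw [ringKrullDim_eq_zero_of_isField (IsLocalRing.isField_iff_maximalIdeal_eq.2 h0)] at hdimR
    exact absurd hdimR (by decide)
  have : IsIso (π ∣_ U) := hbir
  have : IsLocallyNoetherian Y := LocallyOfFiniteType.isLocallyNoetherian π
  have hsp := ExcCurves.eq_of_eta_specializes C hdist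
  have hD : ∀ i, BlowUp.IsEffCartierIdeal (e i).ker := fun i =>
    ExcCurves.isEffCartier hreg hdimR hUne (C i)
  obtain ⟨n, hn, hpos⟩ := ExcCurves.exists_cycle hreg hdimR hUne C hdist
    fun y hy => hcov y fun h => (hU _).1 h hy
  change ∑ i, ∑ j, x i * x j * Over0.δ (C i) (L j) < 0
  have hG : ∀ i j, Over0.δ (C i) (L j) = -Over0.δ (C i) (ClSub.idealMod (e j).ker) :=
    fun i j => Over0.δ_inverse (C i) (hL j)
  have hsym : ∀ i j, Over0.δ (C i) (L j) = Over0.δ (C j) (L i) := by
    intro i j
    rcases eq_or_ne i j with rfl | hij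
    · rfl
    rw [hG, hG, Over0.δ_idealMod_eq (C i) (hD j) (ExcCurves.eta_notMem_of_ne hsp hij),
      Over0.δ_idealMod_eq (C j) (hD i) (ExcCurves.eta_notMem_of_ne hsp hij.symm)]
    exact congrArg (fun m : ℕ => - - (m : ℤ)) (Over0.finrank_inter_comm (C i) (C j))
  refine negDef_of_row_neg _ hsym (fun i j hij => ?_) (fun i => (n i : ℤ))
    (fun i => by exact_mod_cast hn i) (fun j => ?_) x hx
  · rw [hG]
    have := (Over0.δ_idealMod_nonpos (C i) (hD j) (ExcCurves.eta_notMem_of_ne hsp hij)).1
    omega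
  · have h := hpos j
    simp only [hsym _ j, hG, mul_neg, Finset.sum_neg_distrib]
    exact neg_lt_zero.2 h

end Groth.Agent.S19446
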