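import Groth.Statements.S19447
import Mathlib
import Groth.Agent.S0565
import Groth.Agent.Calg6.PowerSeries
import Groth.Agent.SGA7.PowerSeries
-- import your own Groth.Agent.* helpers here

set_option autoImplicit false
universe u
open ConstAct

namespace Groth.Agent.S19447

section Helpers

open IsLocalRing

section Gen

variable {A : Type u} [CommRing A] [IsLocalRing A] [IsNoetherianRing A]

private theorem mem_of_forall_mem_sup_pow (L : Ideal A) (hL : L ≠ ⊤) (x : A)
    (hx : ∀ i, x ∈ L ⊔ maximalIdeal A ^ i) : x ∈ L := by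
  haveI : Nontrivial (A ⧸ L) := Ideal.Quotient.nontrivial_iff.2 hL
  haveI : IsLocalRing (A ⧸ L) := IsLocalRing.of_surjective' _ Ideal.Quotient.mk_surjective
  have hne : (maximalIdeal A).map (Ideal.Quotient.mk L) ≠ ⊤ := by
    intro h
    have h1 := congrArg (Ideal.comap (Ideal.Quotient.mk L)) h
    rw [Ideal.comap_top, Ideal.comap_map_of_surjective' _ Ideal.Quotient.mk_surjective, Ideal.mk_ker,
      sup_eq_left.2 (le_maximalIdeal hL)] at h1
    exact (maximalIdeal.isMaximal A).ne_top h1
  rw [← Ideal.Quotient.eq_zero_iff_mem, ← Ideal.mem_bot, ← Ideal.iInf_pow_eq_bot_of_isLocalRing _ hne,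
    Ideal.mem_iInf]
  intro i
  obtain ⟨l, hl, y, hy, rfl⟩ := Submodule.mem_sup.1 (hx i)
  rw [map_add, Ideal.Quotient.eq_zero_iff_mem.2 hl, zero_add, ← Ideal.map_pow]
  exact Ideal.mem_map_of_mem _ hy

private theorem sup_mul_mem {L P Q S : Ideal A} {a b : A} (h : P * Q ≤ S) (ha : a ∈ L ⊔ P)
    (hb : b ∈ Q) : a * b ∈ L ⊔ S := by
  obtain ⟨l, hl, y, hy, rfl⟩ := Submodule.mem_sup.1 ha
  rw [add_mul]
  exact Submodule.add_mem_sup (Ideal.mul_mem_right b L hl) (h (Ideal.mul_mem_mul hy hb))

/-- A tame automorphism of finite order which is trivial modulo `L + 𝔪²` is trivial modulo `L`. -/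
private theorem sub_mem_of_forall_sub_mem (σ : A →+* A) (e : ℕ) (he : σ^[e] = id)
    (heu : IsUnit (e : A)) (L : Ideal A) (hL : L ≤ maximalIdeal A) (hσL : ∀ x ∈ L, σ x ∈ L)
    (h : ∀ a, σ a - a ∈ L ⊔ maximalIdeal A ^ 2) (a : A) : σ a - a ∈ L := by
  have hδL : ∀ x ∈ L, σ x - x ∈ L := fun x hx => sub_mem (hσL x hx) hx
  have hσm : ∀ b ∈ maximalIdeal A, σ b ∈ maximalIdeal A := fun b hb => by
    rw [← sub_add_cancel (σ b) b]
    exact add_mem (sup_le hL (Ideal.pow_le_self two_ne_zero) (h b)) hb
  have hδpow : ∀ i, ∀ x ∈ maximalIdeal A ^ i, σ x - x ∈ L ⊔ maximalIdeal A ^ (i + 1) := by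
    intro i
    induction i with
    | zero => intro x _; exact sup_le_sup_left (Ideal.pow_le_pow_right (by omega)) L (h x)
    | succ i ih =>
      intro x hx
      rw [pow_succ] at hx
      refine Submodule.mul_induction_on hx (fun a ha b hb => ?_) (fun a b ha hb => ?_)
      · rw [map_mul, show σ a * σ b - a * b = (σ a - a) * σ b + (σ b - b) * a by ring]
        exact add_mem (sup_mul_mem (pow_succ (maximalIdeal A) (i + 1)).ge (ih a ha) (hσm b hb))
          (sup_mul_mem (le_of_eq (by rw [← pow_add]; ring_nf)) (h b) ha)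
      · rw [map_add, add_sub_add_comm]; exact add_mem ha hb
  refine mem_of_forall_mem_sup_pow L (fun hc => (maximalIdeal.isMaximal A).ne_top (top_le_iff.1 (hc ▸ hL))) _ ?_
  suffices H : ∀ i, ∀ a, σ a - a ∈ L ⊔ maximalIdeal A ^ i from fun i => H i a
  intro i
  induction i with
  | zero => intro a; simp
  | succ i ih =>
    intro a
    obtain ⟨l, hl, y, hy, hd⟩ := Submodule.mem_sup.1 (ih a)
    have h2 : σ (σ a - a) - (σ a - a) ∈ L ⊔ maximalIdeal A ^ (i + 1) := by
      rw [← hd, map_add, add_sub_add_comm]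
      exact add_mem (Ideal.mem_sup_left (hδL l hl)) (hδpow i y hy)
    have hstab : ∀ r ∈ L ⊔ maximalIdeal A ^ (i + 1), σ r ∈ L ⊔ maximalIdeal A ^ (i + 1) := by
      intro r hr
      have : L ⊔ maximalIdeal A ^ (i + 1) ≤ (L ⊔ maximalIdeal A ^ (i + 1)).comap σ := by
        refine sup_le (fun x hx => Ideal.mem_sup_left (hσL x hx)) fun x hx => ?_
        rw [Ideal.mem_comap, ← sub_add_cancel (σ x) x]
        exact add_mem (sup_le_sup_left (Ideal.pow_le_pow_right (by omega)) L (hδpow (i + 1) x hx))
          (Ideal.mem_sup_right hx)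
      exact this hr
    have hj : ∀ j : ℕ, σ^[j] a - a - (j : A) * (σ a - a) ∈ L ⊔ maximalIdeal A ^ (i + 1) := by
      intro j
      induction j with
      | zero => simp
      | succ j ihj =>
        rw [Function.iterate_succ_apply',
          show σ (σ^[j] a) - a - ((j + 1 : ℕ) : A) * (σ a - a) =
            σ (σ^[j] a - a - (j : A) * (σ a - a)) + (j : A) * (σ (σ a - a) - (σ a - a)) by
            simp only [map_sub, map_mul, map_natCast, Nat.cast_succ]; ring]
        exact add_mem (hstab _ ihj) (Ideal.mul_mem_left _ _ h2)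
    have h3 := hj e
    rw [he, id, sub_self, zero_sub, neg_mem_iff] at h3
    exact (Ideal.unit_mul_mem_iff_mem _ heu).1 h3

end Gen

variable {k : Type u} [Field k] {n : ℕ}

local notation "𝐀" => MvPowerSeries (Fin n) k

private theorem maximalIdeal_eq :
    maximalIdeal 𝐀 = Groth.SGA7.PS.varIdeal (Fin n) k := by
  ext f
  rw [Groth.SGA7.PS.mem_varIdeal_iff, mem_maximalIdeal, mem_nonunits_iff,
    MvPowerSeries.isUnit_iff_constantCoeff, isUnit_iff_ne_zero, not_not]

private theorem sub_C_mem (a : 𝐀) :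
    a - algebraMap k 𝐀 (MvPowerSeries.constantCoeff a) ∈ maximalIdeal 𝐀 := by
  rw [maximalIdeal_eq, Groth.SGA7.PS.mem_varIdeal_iff]
  simp [MvPowerSeries.algebraMap_apply]

private theorem finrank_sq_le :
    Module.Finite k (𝐀 ⧸ maximalIdeal 𝐀 ^ 2) ∧ Module.finrank k (𝐀 ⧸ maximalIdeal 𝐀 ^ 2) ≤ n + 1 := by
  classical
  let v : Option (Fin n) → 𝐀 ⧸ maximalIdeal 𝐀 ^ 2 := fun o =>
    o.elim 1 fun i => Ideal.Quotient.mk _ (MvPowerSeries.X i)
  have hv : Submodule.span k (Set.range v) = ⊤ := by
    refine top_unique fun q _ => ?_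
    obtain ⟨a, rfl⟩ := Ideal.Quotient.mk_surjective q
    have hd : a - (algebraMap k 𝐀 (MvPowerSeries.constantCoeff a) +
        ∑ i, MvPowerSeries.coeff (Finsupp.single i 1) a • MvPowerSeries.X i) ∈ maximalIdeal 𝐀 ^ 2 := by
      rw [maximalIdeal_eq]
      refine Groth.SGA7.PS.mem_varIdeal_sq _ ?_ fun j => ?_
      · simp [MvPowerSeries.algebraMap_apply, map_sum, Algebra.smul_def]
      · simp [MvPowerSeries.algebraMap_apply, map_sum, MvPowerSeries.coeff_X, MvPowerSeries.coeff_C,
          Finsupp.single_left_inj, Finset.sum_ite_eq]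
    rw [Ideal.Quotient.eq.2 hd, ← Ideal.Quotient.mkₐ_eq_mk k, map_add, map_sum, AlgHom.commutes,
      Algebra.algebraMap_eq_smul_one]
    refine add_mem (Submodule.smul_mem _ _ (Submodule.subset_span ⟨none, rfl⟩))
      (Submodule.sum_mem _ fun i _ => ?_)
    rw [map_smul]
    exact Submodule.smul_mem _ _ (Submodule.subset_span ⟨some i, rfl⟩)
  have hfin : Module.Finite k (𝐀 ⧸ maximalIdeal 𝐀 ^ 2) :=
    ⟨⟨(Set.range v).toFinite.toFinset, by rw [Set.Finite.coe_toFinset, hv]⟩⟩
  refine ⟨hfin, ?_⟩
  have h := finrank_range_le_card (R := k) v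
  rw [Set.finrank, hv, finrank_top, Fintype.card_option, Fintype.card_fin] at h
  exact h

variable {G : Type u} [Group G] [Finite G] [MulSemiringAction G (MvPowerSeries (Fin n) k)]
  [SMulCommClass G k (MvPowerSeries (Fin n) k)]

private theorem smul_algebraMap' (g : G) (c : k) : g • algebraMap k 𝐀 c = algebraMap k 𝐀 c := by
  rw [Algebra.algebraMap_eq_smul_one, smul_comm, smul_one]

private theorem smul_mem_max (g : G) {a : 𝐀} (ha : a ∈ maximalIdeal 𝐀) : g • a ∈ maximalIdeal 𝐀 := by
  rw [mem_maximalIdeal, mem_nonunits_iff] at ha ⊢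
  intro hu
  refine ha ?_
  have := hu.map (MulSemiringAction.toRingHom G 𝐀 g⁻¹)
  rwa [MulSemiringAction.toRingHom_apply, inv_smul_smul] at this

private theorem smul_sub_mem_max (g : G) (a : 𝐀) : g • a - a ∈ maximalIdeal 𝐀 := by
  have h := sub_C_mem a
  have h' := smul_mem_max g h
  rw [smul_sub, smul_algebraMap'] at h'
  simpa using sub_mem h' h

private theorem smul_mem_sq (g : G) {a : 𝐀} (ha : a ∈ maximalIdeal 𝐀 ^ 2) : g • a ∈ maximalIdeal 𝐀 ^ 2 := by
  have hle : (maximalIdeal 𝐀).map (MulSemiringAction.toRingHom G 𝐀 g) ≤ maximalIdeal 𝐀 :=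
    Ideal.map_le_iff_le_comap.2 fun a ha => smul_mem_max g ha
  have := Ideal.mem_map_of_mem (MulSemiringAction.toRingHom G 𝐀 g) ha
  rw [Ideal.map_pow] at this
  exact Ideal.pow_right_mono hle 2 this

private theorem iterate_eq (g : G) (j : ℕ) (a : 𝐀) :
    (MulSemiringAction.toRingHom G 𝐀 g)^[j] a = g ^ j • a := by
  induction j with
  | zero => simp
  | succ j ih => rw [Function.iterate_succ_apply', ih, MulSemiringAction.toRingHom_apply, ← mul_smul, pow_succ']

/-- A pseudo-reflection moves everything into a principal ideal. -/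
private theorem exists_divisor' (hG : (Nat.card G : k) ≠ 0) (g : G)
    (hg : n ≤ Module.finrank k (𝐀 ⧸ (Ideal.span {x : 𝐀 | ∃ a, x = g • a - a} ⊔ maximalIdeal 𝐀 ^ 2))) :
    (∀ a : 𝐀, g • a = a) ∨ ∃ l : 𝐀, l ≠ 0 ∧ l ∈ maximalIdeal 𝐀 ∧ ∀ a : 𝐀, l ∣ g • a - a := by
  classical
  haveI : IsNoetherianRing 𝐀 := inferInstance
  set σ := MulSemiringAction.toRingHom G 𝐀 g
  set e := orderOf g
  have hσe : σ^[e] = id := funext fun a => by
    rw [iterate_eq, pow_orderOf_eq_one, one_smul, id]
  have hek : (e : k) ≠ 0 := fun h => hG (by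
    obtain ⟨c, hc⟩ := orderOf_dvd_natCard g
    rw [hc, Nat.cast_mul, h, zero_mul])
  have heA : IsUnit (e : 𝐀) := by
    rw [← map_natCast (algebraMap k 𝐀)]
    exact (Ne.isUnit hek).map _
  by_cases htriv : ∀ a : 𝐀, g • a - a ∈ maximalIdeal 𝐀 ^ 2
  · refine Or.inl fun a => sub_eq_zero.1 ((Submodule.mem_bot 𝐀).1 ?_)
    exact sub_mem_of_forall_sub_mem σ e hσe heA ⊥ bot_le (fun x hx => by
      rw [(Submodule.mem_bot 𝐀).1 hx, map_zero]; exact zero_mem _)
      (fun a => Ideal.mem_sup_right (htriv a)) a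
  refine Or.inr ?_
  push Not at htriv
  obtain ⟨a₀, ha₀⟩ := htriv
  set w := g • a₀ - a₀ with hw
  set J := Ideal.span {x : 𝐀 | ∃ a, x = g • a - a}
  obtain ⟨hfin, hdim⟩ := finrank_sq_le (k := k) (n := n)
  haveI := hfin
  let π : (𝐀 ⧸ maximalIdeal 𝐀 ^ 2) →ₗ[k] 𝐀 ⧸ (J ⊔ maximalIdeal 𝐀 ^ 2) :=
    (Ideal.Quotient.factorₐ k le_sup_right).toLinearMap
  have hπ : Function.Surjective π := Ideal.Quotient.factor_surjective le_sup_right
  have hker : Module.finrank k (LinearMap.ker π) ≤ 1 := by
    have h1 := π.finrank_range_add_finrank_ker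
    rw [LinearMap.range_eq_top.2 hπ, finrank_top] at h1
    omega
  obtain ⟨v, hv⟩ := finrank_le_one_iff.1 hker
  have hmem : ∀ a : 𝐀, Ideal.Quotient.mk (maximalIdeal 𝐀 ^ 2) (g • a - a) ∈ LinearMap.ker π := fun a => by
    rw [LinearMap.mem_ker]
    exact Ideal.Quotient.eq_zero_iff_mem.2 (Ideal.mem_sup_left (Ideal.subset_span ⟨a, rfl⟩))
  have hline : ∀ a : 𝐀, ∃ c : k, g • a - a - algebraMap k 𝐀 c * w ∈ maximalIdeal 𝐀 ^ 2 := by
    intro a
    obtain ⟨c₀, hc₀⟩ := hv ⟨_, hmem a₀⟩
    obtain ⟨c, hc⟩ := hv ⟨_, hmem a⟩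
    have hc₀0 : c₀ ≠ 0 := fun h => ha₀ (by
      rw [h, zero_smul] at hc₀
      exact Ideal.Quotient.eq_zero_iff_mem.1 (congrArg Subtype.val hc₀).symm)
    refine ⟨c / c₀, ?_⟩
    rw [← Ideal.Quotient.eq_zero_iff_mem, map_sub, sub_eq_zero, ← Ideal.Quotient.mkₐ_eq_mk k, map_mul,
      AlgHom.commutes, ← Algebra.smul_def]
    show Ideal.Quotient.mk _ (g • a - a) = (c / c₀) • Ideal.Quotient.mk _ (g • a₀ - a₀)
    have e1 : Ideal.Quotient.mk (maximalIdeal 𝐀 ^ 2) (g • a - a) = c • (v : 𝐀 ⧸ maximalIdeal 𝐀 ^ 2) :=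
      (congrArg Subtype.val hc).symm
    have e0 : Ideal.Quotient.mk (maximalIdeal 𝐀 ^ 2) (g • a₀ - a₀) = c₀ • (v : 𝐀 ⧸ maximalIdeal 𝐀 ^ 2) :=
      (congrArg Subtype.val hc₀).symm
    rw [e1, e0, smul_smul, div_mul_cancel₀ c hc₀0]
  obtain ⟨c, hc⟩ := hline w
  set μ := algebraMap k 𝐀 (1 + c) with hμ
  have hwμ : ∀ j : ℕ, g ^ j • w - μ ^ j * w ∈ maximalIdeal 𝐀 ^ 2 := by
    intro j
    induction j with
    | zero => simp
    | succ j ih =>
      have h1 := smul_mem_sq g ih
      rw [smul_sub, smul_mul', smul_pow', hμ, smul_algebraMap', ← mul_smul, ← pow_succ', ← hμ] at h1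
      have h2 : μ ^ j * (g • w - μ * w) ∈ maximalIdeal 𝐀 ^ 2 := by
        refine Ideal.mul_mem_left _ _ ?_
        rw [hμ, map_add, map_one, add_mul, one_mul, ← sub_sub]
        exact hc
      have := add_mem h1 h2
      rwa [show g ^ (j + 1) • w - μ ^ j * g • w + μ ^ j * (g • w - μ * w) =
        g ^ (j + 1) • w - μ ^ (j + 1) * w by ring] at this
  have hlam : (1 + c) ^ e = 1 := by
    by_contra hne
    refine ha₀ ((Ideal.unit_mul_mem_iff_mem _ ((Ne.isUnit (sub_ne_zero.2 hne)).map (algebraMap k 𝐀))).1 ?_)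
    have h1 := hwμ e
    rw [pow_orderOf_eq_one, one_smul, hμ, ← map_pow] at h1
    rw [map_sub, map_one, sub_mul, one_mul, ← neg_sub]
    exact neg_mem h1
  have hlam0 : (1 + c) ≠ 0 := fun h => by
    rw [h, zero_pow (orderOf_pos g).ne'] at hlam
    exact zero_ne_one hlam
  let F : ℕ → 𝐀 := fun j => algebraMap k 𝐀 ((1 + c)⁻¹ ^ j) * g ^ j • w
  set l := algebraMap k 𝐀 (e : k)⁻¹ * ∑ j ∈ Finset.range e, F j with hl
  have hshift : ∑ j ∈ Finset.range e, F (j + 1) = ∑ j ∈ Finset.range e, F j := by
    have h1 := Finset.sum_range_succ' F e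
    rw [Finset.sum_range_succ F e] at h1
    have hFe : F e = F 0 := by simp [F, inv_pow, hlam, e, pow_orderOf_eq_one]
    rw [hFe] at h1
    exact (add_right_cancel h1).symm
  have hgl : g • l = μ * l := by
    have hstep : ∀ j, g • F j = μ * F (j + 1) := fun j => by
      simp only [F, smul_mul', smul_algebraMap', hμ]
      rw [← mul_assoc, ← map_mul, ← mul_smul, ← pow_succ', pow_succ' (1 + c)⁻¹ j, ← mul_assoc,
        mul_inv_cancel₀ hlam0, one_mul]
    rw [hl, smul_mul', smul_algebraMap', Finset.smul_sum, Finset.sum_congr rfl fun j _ => hstep j,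
      ← Finset.mul_sum, hshift, mul_left_comm]
  have hlw : l - w ∈ maximalIdeal 𝐀 ^ 2 := by
    have h1 : l - w = algebraMap k 𝐀 (e : k)⁻¹ * ∑ j ∈ Finset.range e, (F j - w) := by
      rw [Finset.sum_sub_distrib, mul_sub, ← hl, Finset.sum_const, Finset.card_range, nsmul_eq_mul,
        ← mul_assoc, ← map_natCast (algebraMap k 𝐀), ← map_mul, inv_mul_cancel₀ hek, map_one, one_mul]
    rw [h1]
    refine Ideal.mul_mem_left _ _ (Ideal.sum_mem _ fun j _ => ?_)
    have h2 : F j - w = algebraMap k 𝐀 ((1 + c)⁻¹ ^ j) * (g ^ j • w - μ ^ j * w) := by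
      simp only [F, hμ, mul_sub, ← map_pow, ← mul_assoc, ← map_mul, ← mul_pow]
      rw [inv_mul_cancel₀ hlam0, one_pow, map_one, one_mul]
    rw [h2]
    exact Ideal.mul_mem_left _ _ (hwμ j)
  have hlm : l ∈ maximalIdeal 𝐀 := by
    rw [← sub_add_cancel l w]
    exact add_mem (Ideal.pow_le_self two_ne_zero hlw) (smul_sub_mem_max g a₀)
  refine ⟨l, fun h => ha₀ ?_, hlm, fun a => Ideal.mem_span_singleton.1 ?_⟩
  · rw [h, zero_sub, neg_mem_iff] at hlw
    exact hlw
  · refine sub_mem_of_forall_sub_mem σ e hσe heA (Ideal.span {l})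
      ((Ideal.span_singleton_le_iff_mem _).2 hlm) (fun x hx => ?_) (fun a => ?_) a
    · obtain ⟨y, rfl⟩ := Ideal.mem_span_singleton'.1 hx
      rw [map_mul, show σ l = μ * l from hgl, ← mul_assoc]
      exact Ideal.mul_mem_left _ _ (Ideal.mem_span_singleton_self l)
    · obtain ⟨c', hc'⟩ := hline a
      show g • a - a ∈ _
      rw [show g • a - a = algebraMap k 𝐀 c' * l +
        ((g • a - a - algebraMap k 𝐀 c' * w) - algebraMap k 𝐀 c' * (l - w)) by ring]
      exact Submodule.add_mem_sup (Ideal.mul_mem_left _ _ (Ideal.mem_span_singleton_self l))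
        (sub_mem hc' (Ideal.mul_mem_left _ _ hlw))

section Chevalley

variable [Fintype G] (hG : (Nat.card G : k) ≠ 0)
  (hgen : Subgroup.closure {g : G | n ≤ Module.finrank k (MvPowerSeries (Fin n) k ⧸
        (Ideal.span {x : MvPowerSeries (Fin n) k | ∃ a, x = g • a - a} ⊔
          IsLocalRing.maximalIdeal (MvPowerSeries (Fin n) k) ^ 2))} = ⊤)

private noncomputable def rey (a : 𝐀) : 𝐀 :=
  algebraMap k 𝐀 (Nat.card G : k)⁻¹ * ∑ g : G, g • a

private theorem smul_rey (h : G) (a : 𝐀) : h • rey (G := G) a = rey (G := G) a := by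
  rw [rey, smul_mul', smul_algebraMap', Finset.smul_sum]
  congr 1
  exact Fintype.sum_equiv (Equiv.mulLeft h) _ _ fun τ => by rw [Equiv.coe_mulLeft, mul_smul]

include hG in
private theorem rey_sub (a : 𝐀) :
    rey (G := G) a - a = algebraMap k 𝐀 (Nat.card G : k)⁻¹ * ∑ g : G, (g • a - a) := by
  rw [Finset.sum_sub_distrib, mul_sub, ← rey, Finset.sum_const, Finset.card_univ, nsmul_eq_mul,
    ← mul_assoc, ← map_natCast (algebraMap k 𝐀), ← map_mul, ← Nat.card_eq_fintype_card,
    inv_mul_cancel₀ hG, map_one, one_mul]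

private theorem rey_mul_fixed (a r : 𝐀) (hr : ∀ g : G, g • r = r) :
    rey (G := G) (a * r) = rey (G := G) a * r := by
  simp only [rey, smul_mul', hr, ← Finset.sum_mul, mul_assoc]

/-- The ideal generated by invariants in the maximal ideal. -/
private noncomputable def invP : Ideal 𝐀 :=
  Ideal.span {r : 𝐀 | r ∈ maximalIdeal 𝐀 ∧ ∀ g : G, g • r = r}

private theorem smul_invP (g : G) {a : 𝐀} (ha : a ∈ invP (G := G)) : g • a ∈ invP (G := G) := by
  have : invP (G := G) ≤ (invP (G := G) : Ideal 𝐀).comap (MulSemiringAction.toRingHom G 𝐀 g) :=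
    Ideal.span_le.2 fun r hr => by
      show g • r ∈ invP (G := G)
      rw [hr.2 g]
      exact Ideal.subset_span hr
  exact this ha

include hG hgen in
private theorem chevalley' {m : ℕ} (x y : Fin m → 𝐀) (hy : ∀ i, ∀ g : G, g • y i = y i) (i₀ : Fin m)
    (hy₀ : ¬ ∃ v : Fin m → 𝐀, (∀ i, ∀ g : G, g • v i = v i) ∧ v i₀ = 0 ∧ y i₀ = ∑ i, v i * y i)
    (hsum : ∑ i, x i * y i = 0) : x i₀ ∈ invP (G := G) := by
  classical
  have hP : (invP (G := G) : Ideal 𝐀) ≤ maximalIdeal 𝐀 := Ideal.span_le.2 fun r hr => hr.1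
  refine mem_of_forall_mem_sup_pow _ (fun h => (maximalIdeal.isMaximal 𝐀).ne_top (top_le_iff.1 (h ▸ hP))) _
    fun N => ?_
  suffices H : ∀ N, ∀ x : Fin m → 𝐀, ∑ i, x i * y i = 0 → x i₀ ∈ invP (G := G) ⊔ maximalIdeal 𝐀 ^ N from
    H N x hsum
  intro N
  induction N with
  | zero => intro x _; simp
  | succ N ih =>
    intro x hsum
    have hxm : x i₀ ∈ maximalIdeal 𝐀 := by
      by_contra hu
      have hru : IsUnit (rey (G := G) (x i₀)) := by
        by_contra h
        refine hu ?_
        rw [← sub_sub_cancel (rey (G := G) (x i₀)) (x i₀)]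
        refine sub_mem ((mem_maximalIdeal _).2 h) ?_
        rw [rey_sub hG]
        exact Ideal.mul_mem_left _ _ (Ideal.sum_mem _ fun g _ => smul_sub_mem_max g _)
      obtain ⟨b, hb⟩ := hru.exists_left_inv
      have hbfix : ∀ g : G, g • b = b := fun g => hru.mul_right_cancel (by
        conv_rhs => rw [hb]
        conv_lhs => rw [← smul_rey g (x i₀), ← smul_mul', hb, smul_one])
      have hsum' : ∑ i, rey (G := G) (x i) * y i = 0 := by
        have : rey (G := G) (∑ i, x i * y i) = ∑ i, rey (G := G) (x i) * y i := by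
          simp only [rey, Finset.smul_sum]
          rw [Finset.sum_comm, Finset.mul_sum]
          exact Finset.sum_congr rfl fun i _ => rey_mul_fixed (x i) (y i) (hy i)
        rw [← this, hsum, rey]
        simp
      refine hy₀ ⟨fun i => if i = i₀ then 0 else -(b * rey (G := G) (x i)), fun i g => ?_, if_pos rfl, ?_⟩
      · dsimp only
        split_ifs
        · exact smul_zero g
        · rw [smul_neg, smul_mul', hbfix, smul_rey]
      · rw [← Finset.sum_erase_add _ _ (Finset.mem_univ i₀)] at hsum'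
        dsimp only
        rw [← Finset.sum_erase_add _ _ (Finset.mem_univ i₀), if_pos rfl, zero_mul, add_zero,
          Finset.sum_congr rfl fun i hi => by rw [if_neg (Finset.ne_of_mem_erase hi)]]
        simp only [neg_mul, mul_assoc, Finset.sum_neg_distrib, ← Finset.mul_sum]
        linear_combination b * hsum' - y i₀ * hb
    rcases Nat.eq_zero_or_pos N with rfl | hN
    · exact Ideal.mem_sup_right (by rwa [zero_add, pow_one])
    have hall : ∀ g : G, g • x i₀ - x i₀ ∈ invP (G := G) ⊔ maximalIdeal 𝐀 ^ (N + 1) := by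
      have hstab : ∀ (g : G) (r : 𝐀), r ∈ invP (G := G) ⊔ maximalIdeal 𝐀 ^ (N + 1) →
          g • r ∈ invP (G := G) ⊔ maximalIdeal 𝐀 ^ (N + 1) := fun g r hr => by
        obtain ⟨p, hp, q, hq, rfl⟩ := Submodule.mem_sup.1 hr
        rw [smul_add]
        refine Submodule.add_mem_sup (smul_invP g hp) ?_
        have hle : (maximalIdeal 𝐀).map (MulSemiringAction.toRingHom G 𝐀 g) ≤ maximalIdeal 𝐀 :=
          Ideal.map_le_iff_le_comap.2 fun a ha => smul_mem_max g ha
        have := Ideal.mem_map_of_mem (MulSemiringAction.toRingHom G 𝐀 g) hq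
        rw [Ideal.map_pow] at this
        exact Ideal.pow_right_mono hle (N + 1) this
      intro g
      have hg : g ∈ Subgroup.closure _ := hgen ▸ Subgroup.mem_top g
      induction hg using Subgroup.closure_induction with
      | mem g hg =>
        rcases exists_divisor' hG g hg with h | ⟨l, hl0, hlm, hdvd⟩
        · rw [h, sub_self]; exact zero_mem _
        choose z hz using hdvd
        have hzsum : ∑ i, z (x i) * y i = 0 := by
          refine mul_left_cancel₀ hl0 ?_
          rw [mul_zero, Finset.mul_sum]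
          calc ∑ i, l * (z (x i) * y i) = ∑ i, (g • x i * y i - x i * y i) :=
                Finset.sum_congr rfl fun i _ => by rw [← mul_assoc, ← hz, sub_mul]
            _ = g • (∑ i, x i * y i) - ∑ i, x i * y i := by
                rw [Finset.sum_sub_distrib, Finset.smul_sum]
                simp only [smul_mul', hy]
            _ = 0 := by rw [hsum, smul_zero, sub_zero]
        rw [hz (x i₀), mul_comm]
        exact sup_mul_mem (pow_succ (maximalIdeal 𝐀) N).ge (ih _ hzsum) hlm
      | one => rw [one_smul, sub_self]; exact zero_mem _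
      | mul g h _ _ hg hh =>
        rw [mul_smul, show g • h • x i₀ - x i₀ = g • (h • x i₀ - x i₀) + (g • x i₀ - x i₀) by
          rw [smul_sub]; ring]
        exact add_mem (hstab g _ hh) hg
      | inv g _ hg =>
        have := hstab g⁻¹ _ (neg_mem hg)
        rwa [neg_sub, smul_sub, inv_smul_smul] at this
    rw [← sub_sub_cancel (rey (G := G) (x i₀)) (x i₀)]
    refine sub_mem (Ideal.mem_sup_left (Ideal.subset_span ⟨?_, fun g => smul_rey g _⟩)) ?_
    · rw [← sub_add_cancel (rey (G := G) (x i₀)) (x i₀)]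
      refine add_mem ?_ hxm
      rw [rey_sub hG]
      exact Ideal.mul_mem_left _ _ (Ideal.sum_mem _ fun g _ => smul_sub_mem_max g _)
    · rw [rey_sub hG]
      exact Ideal.mul_mem_left _ _ (Ideal.sum_mem _ fun g _ => hall g)

end Chevalley

end Helpers


/-- Let k be an algebraically closed field, A the power series ring in n variables over k with maximal
ideal M, and G a finite group of order invertible in k acting faithfully on A by k-algebra
automorphisms, A being finite over the ring of invariants A^G. Say g is a pseudo-reflection or acts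
trivially on the cotangent space when A modulo M^2 and the elements g·a − a has dimension at least n
over k. If G is generated by such elements, then A is flat over A^G and A^G is a regular local ring:
generation by pseudo-reflections implies the other two conditions of the published criterion (only
this sufficiency half is stated; the converse implication is not part of this statement). -/
theorem result (k : Type u) [Field k]
    [IsAlgClosed k] (n : ℕ) (G : Type u) [Group G] [Finite G] [MulSemiringAction G (MvPowerSeries (Fin n) k)]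
    [SMulCommClass G k (MvPowerSeries (Fin n) k)] [FaithfulSMul G (MvPowerSeries (Fin n) k)]
    (hG : (Nat.card G : k) ≠ 0)
    [Module.Finite (ConstAct.inv k (MvPowerSeries (Fin n) k) G) (MvPowerSeries (Fin n) k)]
    (hgen : Subgroup.closure {g : G | n ≤ Module.finrank k (MvPowerSeries (Fin n) k ⧸
        (Ideal.span {x : MvPowerSeries (Fin n) k | ∃ a, x = g • a - a} ⊔
          IsLocalRing.maximalIdeal (MvPowerSeries (Fin n) k) ^ 2))} = ⊤) :
    Module.Flat (ConstAct.inv k (MvPowerSeries (Fin n) k) G) (MvPowerSeries (Fin n) k) ∧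
      IsRegularLocalRing (ConstAct.inv k (MvPowerSeries (Fin n) k) G) := by
  classical
  haveI := Fintype.ofFinite G
  set R := ConstAct.inv k (MvPowerSeries (Fin n) k) G
  have hfix : ∀ (r : R) (g : G), g • (r : MvPowerSeries (Fin n) k) = r := fun r g => r.2 g
  have hmk : ∀ a : MvPowerSeries (Fin n) k, (∀ g : G, g • a = a) → a ∈ R := fun a h g => h g
  have hunit : ∀ r : R, IsUnit (r : MvPowerSeries (Fin n) k) → IsUnit r := fun r hr => by
    obtain ⟨b, hb⟩ := hr.exists_right_inv
    refine IsUnit.of_mul_eq_one (⟨b, hmk b fun g => hr.mul_left_cancel ?_⟩ : R) (Subtype.ext hb)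
    conv_lhs => rw [← hfix r g, ← smul_mul', hb, smul_one]
    rw [hb]
  haveI : IsLocalHom (algebraMap R (MvPowerSeries (Fin n) k)) := ⟨hunit⟩
  haveI : IsLocalRing R := IsLocalRing.of_nonunits_add fun a b ha hb => by
    rw [mem_nonunits_iff] at ha hb ⊢
    intro h
    have h1 : ((a : MvPowerSeries (Fin n) k) + b) ∈ IsLocalRing.maximalIdeal _ :=
      add_mem ((IsLocalRing.mem_maximalIdeal _).2 fun h => ha (hunit a h))
        ((IsLocalRing.mem_maximalIdeal _).2 fun h => hb (hunit b h))
    exact (IsLocalRing.mem_maximalIdeal _).1 h1 (h.map R.val)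
  have hback : ∀ (I : Ideal R) (r : R),
      algebraMap R (MvPowerSeries (Fin n) k) r ∈ I.map (algebraMap R (MvPowerSeries (Fin n) k)) → r ∈ I := by
    intro I r hr
    let E : MvPowerSeries (Fin n) k →+ R :=
      { toFun := fun a => ⟨rey (G := G) a, hmk _ fun g => smul_rey g a⟩
        map_zero' := Subtype.ext (by simp [rey])
        map_add' := fun a b => Subtype.ext (by simp [rey, Finset.sum_add_distrib, mul_add]) }
    have hEmul : ∀ (a : MvPowerSeries (Fin n) k) (s : R), E (a * algebraMap R _ s) = E a * s :=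
      fun a s => Subtype.ext (rey_mul_fixed a _ (hfix s))
    have key : ∀ a ∈ I.map (algebraMap R (MvPowerSeries (Fin n) k)), ∀ b, E (b * a) ∈ I := by
      intro a ha
      induction ha using Submodule.span_induction with
      | mem a h => obtain ⟨s, hs, rfl⟩ := h; exact fun b => by rw [hEmul]; exact I.mul_mem_left _ hs
      | zero => intro b; rw [mul_zero, map_zero]; exact zero_mem _
      | add a a' _ _ h h' => intro b; rw [mul_add, map_add]; exact add_mem (h b) (h' b)
      | smul c a _ h => intro b; rw [smul_eq_mul, ← mul_assoc]; exact h _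
    have h1 := key _ hr 1
    rwa [hEmul, show E 1 = 1 from Subtype.ext (by
      show rey (G := G) (1 : MvPowerSeries (Fin n) k) = 1
      refine sub_eq_zero.1 ?_
      rw [rey_sub hG]; simp), one_mul] at h1
  haveI : IsNoetherianRing R := by
    have hmono : StrictMono fun I : Ideal R => I.map (algebraMap R (MvPowerSeries (Fin n) k)) :=
      fun I J h => lt_of_le_of_ne (Ideal.map_mono h.le) fun e => h.not_ge fun r hr =>
        hback I r (e.symm.le (Ideal.mem_map_of_mem _ hr))
    exact isNoetherian_iff'.2 hmono.wellFoundedGT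
  have hflat : Module.Flat R (MvPowerSeries (Fin n) k) := by
    have hex : ∃ m, ∃ a : Fin m → MvPowerSeries (Fin n) k, Submodule.span R (Set.range a) = ⊤ :=
      Module.Finite.exists_fin
    obtain ⟨a, ha⟩ := Nat.find_spec hex
    have hli : LinearIndependent R a := by
      rw [Fintype.linearIndependent_iff]
      intro r hr
      by_contra hne
      push Not at hne
      let Sg : Finset (Fin (Nat.find hex)) → Prop := fun T =>
        ∀ i, r i ∈ Ideal.span (r '' (T : Set (Fin (Nat.find hex))))
      obtain ⟨T, hT, hTmin⟩ := (Finset.univ.filter Sg).exists_minimal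
        ⟨Finset.univ, Finset.mem_filter.2 ⟨Finset.mem_univ _, fun i => Ideal.subset_span ⟨i, by simp, rfl⟩⟩⟩
      have hT' := (Finset.mem_filter.1 hT).2
      obtain ⟨i₀, hi₀⟩ : T.Nonempty := by
        rw [Finset.nonempty_iff_ne_empty]
        rintro rfl
        obtain ⟨i, hi⟩ := hne
        exact hi (by simpa using hT' i)
      have hnot : r i₀ ∉ Ideal.span (r '' ((T.erase i₀ : Finset _) : Set (Fin (Nat.find hex)))) := by
        intro h
        have h2 : Sg (T.erase i₀) := fun i => by
          refine Ideal.span_le.2 ?_ (hT' i)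
          rintro _ ⟨j, hj, rfl⟩
          rcases eq_or_ne j i₀ with rfl | hji
          · exact h
          · exact Ideal.subset_span ⟨j, Finset.mem_coe.2 (Finset.mem_erase.2 ⟨hji, hj⟩), rfl⟩
        exact Finset.notMem_erase i₀ T (hTmin (Finset.mem_filter.2 ⟨Finset.mem_univ _, h2⟩)
          (Finset.erase_subset _ _) hi₀)
      have hcoef : ∀ i, ∃ d : Fin (Nat.find hex) → R, (∀ j ∉ T, d j = 0) ∧ r i = ∑ j, d j * r j := fun i => by
        obtain ⟨d, hdT, hd⟩ := Submodule.mem_span_image_iff_exists_fun R |>.1 (hT' i) |> fun ⟨t, ht, d, hd⟩ =>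
          (⟨fun j => if h : j ∈ t then d ⟨j, h⟩ else 0, fun j hj => dif_neg fun h => hj (ht h), by
            rw [← hd, ← Finset.sum_subset (Finset.subset_univ t) fun j _ hj => by simp [hj],
              ← Finset.sum_coe_sort t]
            exact Finset.sum_congr rfl fun j _ => by simp [j.2]⟩ :
            ∃ d : Fin (Nat.find hex) → R, (∀ j ∉ T, d j = 0) ∧ r i = ∑ j, d j * r j)
        exact ⟨d, hdT, hd⟩
      choose d₀ hd₀T hd₀ using hcoef
      let d : Fin (Nat.find hex) → Fin (Nat.find hex) → R := fun i => if i ∈ T then Pi.single i 1 else d₀ i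
      have hdT : ∀ i, ∀ j ∉ T, d i j = 0 := fun i j hj => by
        simp only [d]
        split_ifs with h
        · exact Pi.single_eq_of_ne (fun e : j = i => hj (e ▸ h)) _
        · exact hd₀T i j hj
      have hd : ∀ i, r i = ∑ j, d i j * r j := fun i => by
        simp only [d]
        split_ifs with h
        · simp [Pi.single_apply]
        · exact hd₀ i
      let x : Fin (Nat.find hex) → MvPowerSeries (Fin n) k := fun j => ∑ i, (d i j) • a i
      have hxy : ∑ j, x j * (r j : MvPowerSeries (Fin n) k) = 0 := by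
        rw [← hr]
        simp only [x, Finset.sum_mul]
        rw [Finset.sum_comm]
        refine Finset.sum_congr rfl fun i _ => ?_
        conv_rhs => rw [hd i, Finset.sum_smul]
        exact Finset.sum_congr rfl fun j _ => by
          simp only [Algebra.smul_def, map_mul]
          show _ * _ * algebraMap R (MvPowerSeries (Fin n) k) (r j) = _
          ring
      let y : Fin (Nat.find hex) → MvPowerSeries (Fin n) k := fun j => if j ∈ T then (r j : MvPowerSeries (Fin n) k) else 0
      have hy : ∀ j, ∀ g : G, g • y j = y j := fun j g => by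
        simp only [y]
        split_ifs
        · exact hfix (r j) g
        · exact smul_zero g
      have hxy' : ∑ j, x j * y j = 0 := by
        rw [← hxy]
        refine Finset.sum_congr rfl fun j _ => ?_
        simp only [y]
        split_ifs with hj
        · rfl
        · have h0 : x j = 0 := Finset.sum_eq_zero fun i _ => by rw [hdT i j hj, zero_smul]
          rw [h0, zero_mul, zero_mul]
      have hxP := chevalley' hG hgen x y hy i₀ (by
        rintro ⟨v, hv, hv₀, hv'⟩
        refine hnot ?_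
        have h1 : r i₀ = ∑ j ∈ T.erase i₀, (⟨v j, hmk _ (hv j)⟩ : R) * r j := Subtype.ext (by
          rw [AddSubmonoidClass.coe_finsetSum]
          have h0 : y i₀ = r i₀ := if_pos hi₀
          rw [← h0, hv', ← Finset.sum_subset (Finset.subset_univ (T.erase i₀)) fun j _ hj => ?_]
          · refine Finset.sum_congr rfl fun j hj => ?_
            rw [show y j = r j from if_pos (Finset.mem_of_mem_erase hj)]
            rfl
          · rcases eq_or_ne j i₀ with rfl | hji
            · rw [hv₀, zero_mul]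
            · rw [show y j = 0 from if_neg fun h => hj (Finset.mem_erase.2 ⟨hji, h⟩), mul_zero])
        rw [h1]
        exact Ideal.sum_mem _ fun j hj => Ideal.mul_mem_left _ _ (Ideal.subset_span ⟨j, Finset.mem_coe.2 hj, rfl⟩)) hxy'
      set others : Submodule R (MvPowerSeries (Fin n) k) := Submodule.span R (a '' {i | i ≠ i₀})
      have hP : ∀ z ∈ invP (G := G) (k := k) (n := n),
          z ∈ IsLocalRing.maximalIdeal R • (⊤ : Submodule R (MvPowerSeries (Fin n) k)) := by
        intro z hz
        obtain ⟨p, c, g, rfl⟩ := Submodule.mem_span_set'.1 hz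
        refine Submodule.sum_mem _ fun j _ => ?_
        obtain ⟨hgm, hgf⟩ := (g j).2
        have : c j • (g j : MvPowerSeries (Fin n) k) = (⟨_, hmk _ hgf⟩ : R) • c j := by
          rw [smul_eq_mul, Algebra.smul_def, mul_comm]; rfl
        rw [this]
        refine Submodule.smul_mem_smul ((IsLocalRing.mem_maximalIdeal _).2 fun hu => ?_) Submodule.mem_top
        exact (IsLocalRing.mem_maximalIdeal _).1 hgm (hu.map R.val)
      have hgen' : (⊤ : Submodule R (MvPowerSeries (Fin n) k)) ≤ others ⊔ IsLocalRing.maximalIdeal R • ⊤ := by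
        refine ha.ge.trans (Submodule.span_le.2 ?_)
        rintro _ ⟨i, rfl⟩
        rcases eq_or_ne i i₀ with rfl | hii
        · have h1 : x i = a i + ∑ j ∈ Finset.univ.erase i, d j i • a j := by
            simp only [x]
            rw [← Finset.add_sum_erase _ _ (Finset.mem_univ i), show d i i = 1 by simp [d, hi₀], one_smul]
          rw [show a i = x i - ∑ j ∈ Finset.univ.erase i, d j i • a j from eq_sub_of_add_eq h1.symm]
          exact sub_mem (Submodule.mem_sup_right (hP _ hxP)) (Submodule.mem_sup_left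
            (Submodule.sum_mem _ fun j hj => Submodule.smul_mem _ _
              (Submodule.subset_span ⟨j, Finset.ne_of_mem_erase hj, rfl⟩)))
        · exact Submodule.mem_sup_left (Submodule.subset_span ⟨i, hii, rfl⟩)
      have htop : others = ⊤ := top_le_iff.1 (Submodule.le_of_le_smul_of_le_jacobson_bot
        Module.Finite.fg_top (IsLocalRing.maximalIdeal_le_jacobson _) hgen')
      obtain ⟨q, hq⟩ : ∃ q, Nat.find hex = q + 1 := ⟨Nat.find hex - 1, by have := i₀.2; omega⟩
      refine Nat.find_min hex (m := q) (by omega) ?_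
      refine ⟨fun j => a (Fin.cast hq.symm ((Fin.cast hq i₀).succAbove j)), top_le_iff.1 (htop.ge.trans ?_)⟩
      rw [Submodule.span_le]
      rintro _ ⟨i, hi, rfl⟩
      obtain ⟨j, hj⟩ := Fin.exists_succAbove_eq (x := Fin.cast hq i) (y := Fin.cast hq i₀)
        (fun e => hi (Fin.cast_injective _ e))
      exact Submodule.subset_span ⟨j, by simp [hj]⟩
    haveI : Module.Free R (MvPowerSeries (Fin n) k) := Module.Free.of_basis (Module.Basis.mk hli ha.ge)
    infer_instance
  haveI := hflat
  haveI := Groth.Calg6.isRegularLocalRing_mvPowerSeries k n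
  exact ⟨hflat, Groth.Agent.S0565.result R (MvPowerSeries (Fin n) k)⟩

end Groth.Agent.S19447
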