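import Groth.Statements.S19448
import Groth.Agent.Calg8.FixedLocus

set_option autoImplicit false
universe u
open CAlg

namespace Groth.Agent.S19448

/-- Let k be a field, A a Noetherian local k-algebra with maximal ideal M and residue field k, and G a
finite group with |G| ≠ 0 in k acting on A by k-algebra automorphisms. An element of G which acts
trivially on M/M^2 acts trivially on A; in other words the stabilizer acts faithfully on the
cotangent space whenever it acts faithfully on the local ring. -/
theorem result (k : Type u) [Field k] (A : Type u) [CommRing A]
    [Algebra k A] [IsLocalRing A] [IsNoetherianRing A]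
    (hres : Function.Surjective (algebraMap k (IsLocalRing.ResidueField A)))
    (G : Type u) [Group G] [Finite G] [MulSemiringAction G A] [SMulCommClass G k A]
    (hG : (Nat.card G : k) ≠ 0) (g : G)
    (hg : ∀ a ∈ IsLocalRing.maximalIdeal A, g • a - a ∈ IsLocalRing.maximalIdeal A ^ 2) (a : A) :
    g • a = a := by
  refine Groth.Calg8.FixedLocus.eq_self_of_trivial_on_cotangent hres (MulSemiringAction.toAlgAut G k A g)
    (Nat.card G) hG ?_ hg a
  rw [← map_pow, pow_card_eq_one', map_one]

end Groth.Agent.S19448
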