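import Groth.Statements.S19449

set_option autoImplicit false
universe u
open SymRep

namespace Groth.Agent.S19449

noncomputable def mexp {n : ℕ} (p : Fin n → ℕ × ℕ) : (Fin n × Fin 2) →₀ ℕ :=
  Finsupp.equivFunOnFinite.symm fun v => if v.2 = 0 then (p v.1).1 else (p v.1).2

lemma mexp_zero {n : ℕ} (p : Fin n → ℕ × ℕ) (i : Fin n) : mexp p (i, 0) = (p i).1 := by
  simp [mexp]

lemma mexp_one {n : ℕ} (p : Fin n → ℕ × ℕ) (i : Fin n) : mexp p (i, 1) = (p i).2 := by
  simp [mexp]

lemma mexp_injective {n : ℕ} : Function.Injective (mexp (n := n)) := by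
  intro a b hab
  funext i
  exact Prod.ext (by rw [← mexp_zero a i, hab, mexp_zero]) (by rw [← mexp_one a i, hab, mexp_one])

section
variable (k : Type u) [Field k] {n : ℕ}

noncomputable abbrev altM (p : Fin n → ℕ × ℕ) :
    Matrix (Fin n) (Fin n) (MvPolynomial (Fin n × Fin 2) k) :=
  Matrix.of fun i j : Fin n =>
    (MvPolynomial.X (i, 0) : MvPolynomial (Fin n × Fin 2) k) ^ (p j).1 * MvPolynomial.X (i, 1) ^ (p j).2

lemma monomial_mexp (p : Fin n → ℕ × ℕ) : MvPolynomial.monomial (mexp p) (1 : k) =
    ∏ i, (MvPolynomial.X (i, 0) : MvPolynomial (Fin n × Fin 2) k) ^ (p i).1 *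
      MvPolynomial.X (i, 1) ^ (p i).2 := by
  rw [MvPolynomial.monomial_eq, map_one, one_mul, Finsupp.prod_fintype _ _ (fun i => pow_zero _),
    Fintype.prod_prod_type]
  refine Finset.prod_congr rfl fun i _ => ?_
  rw [Fin.prod_univ_two, mexp_zero, mexp_one]

lemma rename_monomial_mexp (σ : Equiv.Perm (Fin n)) (p : Fin n → ℕ × ℕ) :
    MvPolynomial.rename (fun v : Fin n × Fin 2 => (σ v.1, v.2))
      (MvPolynomial.monomial (mexp p) (1 : k)) = ∏ i, altM k p (σ i) i := by
  rw [monomial_mexp, map_prod]
  exact Finset.prod_congr rfl fun i _ => by simp [altM]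

lemma rename_monomial_mexp' (σ : Equiv.Perm (Fin n)) (p : Fin n → ℕ × ℕ) :
    MvPolynomial.rename (fun v : Fin n × Fin 2 => (σ v.1, v.2))
      (MvPolynomial.monomial (mexp p) (1 : k)) =
    MvPolynomial.monomial (mexp fun i => p (σ.symm i)) (1 : k) := by
  rw [rename_monomial_mexp, monomial_mexp]
  exact Fintype.prod_equiv σ _ _ fun i => by simp [altM]

lemma det_altM (p : Fin n → ℕ × ℕ) : (altM k p).det =
    ∑ σ : Equiv.Perm (Fin n), ((Equiv.Perm.sign σ : ℤˣ) : ℤ) •
      MvPolynomial.rename (fun v : Fin n × Fin 2 => (σ v.1, v.2))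
        (MvPolynomial.monomial (mexp p) (1 : k)) := by
  rw [Matrix.det_apply]
  exact Finset.sum_congr rfl fun σ _ => by rw [rename_monomial_mexp, Units.smul_def]

lemma rename_det_altM (p : Fin n → ℕ × ℕ) (σ : Equiv.Perm (Fin n)) :
    MvPolynomial.rename (fun v : Fin n × Fin 2 => (σ v.1, v.2)) (altM k p).det =
      ((Equiv.Perm.sign σ : ℤˣ) : ℤ) • (altM k p).det := by
  rw [AlgHom.map_det, zsmul_eq_mul, ← Matrix.det_permute σ (altM k p)]
  congr 1
  ext i j
  simp [altM]

lemma coeff_det_altM (p q : {p : Fin n → ℕ ×ₗ ℕ // StrictMono p}) :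
    MvPolynomial.coeff (mexp fun i => ofLex (p.1 i)) (altM k fun i => ofLex (q.1 i)).det =
      if q = p then 1 else 0 := by
  classical
  have hval : ∀ σ : Equiv.Perm (Fin n),
      (mexp fun i => ofLex (q.1 (σ.symm i))) = (mexp fun i => ofLex (p.1 i)) →
        q = p ∧ σ = 1 := by
    intro σ h
    have h' : ∀ i, q.1 (σ.symm i) = p.1 i := fun i => ofLex.injective (congrFun (mexp_injective h) i)
    have hqp : q = p := by
      apply Subtype.ext
      refine (StrictMono.range_inj q.2 p.2).mp ?_
      ext x
      constructor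
      · rintro ⟨i, rfl⟩
        exact ⟨σ i, by rw [← h', Equiv.symm_apply_apply]⟩
      · rintro ⟨i, rfl⟩
        exact ⟨σ.symm i, h' i⟩
    refine ⟨hqp, Equiv.ext fun i => ?_⟩
    subst hqp
    have := q.2.injective (h' (σ i))
    rw [Equiv.symm_apply_apply] at this
    exact this.symm
  rw [det_altM, MvPolynomial.coeff_sum]
  simp only [rename_monomial_mexp', ← map_zsmul, MvPolynomial.coeff_monomial]
  by_cases hqp : q = p
  · subst hqp
    rw [if_pos rfl, Finset.sum_eq_single (1 : Equiv.Perm (Fin n))]
    · rw [if_pos]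
      · simp
      · rfl
    · intro σ _ hσ
      exact if_neg fun h => hσ (hval σ h).2
    · simp
  · rw [if_neg hqp]
    exact Finset.sum_eq_zero fun σ _ => if_neg fun h => hqp (hval σ h).1

end

/-- Over a field k of characteristic zero, let the symmetric group S_n act on the polynomial ring in the
2n variables x_i, y_i (i < n; the variable (i, 0) is x_i and (i, 1) is y_i) by permuting the index
i, and for an n-tuple p of pairs (p_j, q_j) of exponents let Δ_p be the determinant det(x_i^{p_j}
y_i^{q_j}). A polynomial is alternating — each permutation acts on it by its sign — exactly when it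
is a k-linear combination of the Δ_p; and the Δ_p for p strictly increasing in the lexicographic
order on pairs (one for each n-element set of exponent pairs) are linearly independent. Hence these
Δ_p form a basis of the space of alternating polynomials. -/
theorem result (k : Type u) [Field k] [CharZero k] (n : ℕ) :
    (∀ f : MvPolynomial (Fin n × Fin 2) k,
      (∀ σ : Equiv.Perm (Fin n),
          MvPolynomial.rename (fun v : Fin n × Fin 2 => (σ v.1, v.2)) f = ((Equiv.Perm.sign σ : ℤˣ) : ℤ) • f) ↔
        f ∈ Submodule.span k (Set.range fun p : Fin n → ℕ × ℕ =>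
          (Matrix.of fun i j : Fin n =>
            (MvPolynomial.X (i, 0) : MvPolynomial (Fin n × Fin 2) k) ^ (p j).1 * MvPolynomial.X (i, 1) ^ (p j).2).det)) ∧
    LinearIndependent k (fun p : {p : Fin n → ℕ ×ₗ ℕ // StrictMono p} =>
      (Matrix.of fun i j : Fin n =>
        (MvPolynomial.X (i, 0) : MvPolynomial (Fin n × Fin 2) k) ^ (ofLex (p.1 j)).1 *
          MvPolynomial.X (i, 1) ^ (ofLex (p.1 j)).2).det) := by
  classical
  refine ⟨fun f => ⟨fun hf => ?_, fun hf => ?_⟩, ?_⟩
  · change f ∈ Submodule.span k (Set.range fun p : Fin n → ℕ × ℕ => (altM k p).det)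
    let S := Submodule.span k (Set.range fun p : Fin n → ℕ × ℕ => (altM k p).det)
    have key : ∀ g : MvPolynomial (Fin n × Fin 2) k,
        (∑ σ : Equiv.Perm (Fin n), ((Equiv.Perm.sign σ : ℤˣ) : ℤ) •
          MvPolynomial.rename (fun v : Fin n × Fin 2 => (σ v.1, v.2)) g) ∈ S := by
      intro g
      induction g using MvPolynomial.induction_on' with
      | monomial d c =>
        have hd : d = mexp fun i => (d (i, 0), d (i, 1)) := by
          ext ⟨i, j⟩
          fin_cases j <;> simp [mexp]
        have hc : MvPolynomial.monomial d c = c • MvPolynomial.monomial d (1 : k) := by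
          rw [MvPolynomial.smul_monomial, smul_eq_mul, mul_one]
        rw [hc]
        simp only [map_smul, smul_comm _ c]
        rw [← Finset.smul_sum, hd]
        exact S.smul_mem _ (Submodule.subset_span ⟨fun i => (d (i, 0), d (i, 1)), det_altM k _⟩)
      | add p q hp hq =>
        simp only [map_add, smul_add, Finset.sum_add_distrib]
        exact S.add_mem hp hq
    have h2 := key f
    have h3 : ∀ σ : Equiv.Perm (Fin n), ((Equiv.Perm.sign σ : ℤˣ) : ℤ) •
        MvPolynomial.rename (fun v : Fin n × Fin 2 => (σ v.1, v.2)) f = f := by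
      intro σ
      rw [hf σ, smul_smul, ← Units.val_mul, Int.units_mul_self, Units.val_one, one_smul]
    rw [Finset.sum_congr rfl (fun σ _ => h3 σ), Finset.sum_const, ← Nat.cast_smul_eq_nsmul k] at h2
    exact (Submodule.smul_mem_iff S (by
      rw [Nat.cast_ne_zero]
      exact Finset.card_ne_zero.mpr Finset.univ_nonempty)).mp h2
  · intro σ
    induction hf using Submodule.span_induction with
    | mem x hx =>
      obtain ⟨p, rfl⟩ := hx
      exact rename_det_altM k p σ
    | zero => simp
    | add x y _ _ hx hy => rw [map_add, hx, hy, smul_add]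
    | smul a x _ hx => rw [map_smul, hx, smul_comm]
  · rw [linearIndependent_iff']
    intro s g hg q hq
    have := congrArg (MvPolynomial.coeff (mexp fun i => ofLex (q.1 i))) hg
    simp only [MvPolynomial.coeff_sum, MvPolynomial.coeff_zero, MvPolynomial.coeff_smul,
      smul_eq_mul] at this
    rw [Finset.sum_congr rfl (fun x _ => congrArg (g x * ·) (coeff_det_altM k q x))] at this
    simpa [hq] using this

end Groth.Agent.S19449
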