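import Groth.Statements.S1945
import Groth.Agent.CycInter.GysinFlat
import Groth.Agent.Cycles.PullPush
import Groth.Agent.S1927

set_option autoImplicit false
universe u
open CategoryTheory AlgebraicGeometry
open CategoryTheory.Limits
open Cyc

namespace Groth.Agent.S1945

/-- Let p : X → Y be flat, locally of finite type, of relative dimension r + 1, and i : D → X the zero
scheme of a global section s of an invertible module L which is a nonzerodivisor at every stalk,
with D → Y flat of relative dimension r (a relative effective Cartier divisor). Then for a (k +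
1)-cycle α on Y, i^*(p^*α) ∼_rat (p|_D)^*α as (k + r + 1)-cycles on D, flat pullbacks taken
coefficientwise. (The companion formula c_1(L) ∩ p^*α = i_*((p|_D)^*α) is not stated here.) Here i :
D → X is the zero scheme of a global section s of the invertible module L (Cyc.IsZeroSchemeOf), the
Gysin map i^* : Z_{k+1}(X) → CH_k(D) is computed on coefficient functions as c_1(L) ∩ − with the
rational sections taken to be s where it is nonzero (Cyc.gysinChoice) and restricted to the points
of D, and classes on D are compared up to rational equivalence on D for the restricted dimension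
function. A pair (X, δ) with Cyc.IsSetup plays the role of a scheme locally of finite type over a
base with a dimension function (X locally Noetherian with universally catenary local rings, δ a
dimension function), and Cyc.DeltaCompat records that the dimension function upstairs is the induced
one. -/
theorem result (X Y D : Scheme.{u}) (δX : X → ℤ) (δY : Y → ℤ) (hX : Cyc.IsSetup X δX) (hY : Cyc.IsSetup Y δY) (p : X ⟶ Y) [Flat p] [LocallyOfFiniteType p] (r : ℕ) (hr : Cyc.HasRelDim p (r + 1)) (hδ : Cyc.DeltaCompat p δX δY) (L : X.Modules) (hL : PicF.IsInvertible L) (s : L.presheaf.obj (Opposite.op ⊤)) (hreg : ∀ x : X, Function.Injective (fun a : X.presheaf.stalk x => a • (L.presheaf.germ ⊤ x trivial) s)) (i : D ⟶ X) [IsClosedImmersion i] (hD : Cyc.IsZeroSchemeOf i L s) [Flat (i ≫ p)] (hrD : Cyc.HasRelDim (i ≫ p) r) (k : ℤ) (α : AlgebraicCycle Y ℤ) (hα : α ∈ Cyc.Zk Y δY (k + 1)) (w : (ξ : X) → Cyc.secFibre L ξ) (hw : ∀ ξ, w ξ ≠ 0) (γ ζ : AlgebraicCycle D ℤ) (hγ : ∀ d, γ d = Cyc.c1CapFun δX L (Cyc.pullFun p δX δY (r + 1) ⇑α) (Cyc.gysinChoice L s w) (i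 d)) (hζ : ⇑ζ = Cyc.pullFun (i ≫ p) (fun d => δX (i d)) δY r ⇑α) : Cyc.RatEquiv (fun d => δX (i d)) (k + r + 1) γ ζ := by
  have := hX.1
  have := (Groth.CycInter.isSetup_sub i hX).1
  refine Groth.CycInter.ratEquiv_of_eq (Groth.CycInter.isSetup_sub i hX) fun d => ?_
  rw [hγ, hζ]
  have h := Groth.CycInter.gysin_pullFun p hX hY ((r : ℤ) + 1)
    (fun x hx => (Groth.Cycles.delta_eq_add_of_isFibreGeneric p hr hδ hx).trans (by push_cast; ring))
    hL hreg i hD
    (fun d hd => (Groth.Cycles.delta_eq_add_of_isFibreGeneric (i ≫ p) hrD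
      (δX := fun d => δX (i d)) ?_ hd).trans (by ring)) k α hα hw d
  · simpa only [add_sub_cancel_right] using h
  · intro z
    obtain ⟨n, hn, hn'⟩ := hδ (i z)
    refine ⟨n, ?_, hn'⟩
    show Groth.Variety2.Dim.relTrdeg (i ≫ p) z = n
    rw [Groth.Cycles.relTrdeg_comp_add,
      Groth.Variety2.Dim.relTrdeg_eq_zero_of_surjective i z (Groth.Variety2.Dim.residueFieldMap_surjective i z), add_zero]
    exact hn

end Groth.Agent.S1945
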