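import Groth.Statements.S19453
import Mathlib

set_option autoImplicit false
universe u
open CAlg

namespace Groth.Agent.S19453

/-- Converse direction: let k be a field, A a regular local k-algebra of Krull dimension 2 with maximal
ideal M and residue field k, and I an ideal with A/I of finite dimension n ≥ 1 over k. If some
element of I does not lie in M^2, then A/I is isomorphic as a k-algebra to k[x]/(x^n): a cluster
lying on a smooth curve germ of a smooth surface is curvilinear, with coordinate ring generated by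
one element. -/
theorem result (k : Type u) [Field k]
    (A : Type u) [CommRing A] [Algebra k A] [IsRegularLocalRing A] (hdim : ringKrullDim A = 2)
    (hres : Function.Surjective (algebraMap k (IsLocalRing.ResidueField A)))
    (I : Ideal A) [Module.Finite k (A ⧸ I)] (n : ℕ) (hn : Module.finrank k (A ⧸ I) = n) (h1 : 1 ≤ n)
    (g : A) (hgI : g ∈ I) (hg : g ∉ IsLocalRing.maximalIdeal A ^ 2) :
    Nonempty ((A ⧸ I) ≃ₐ[k] (Polynomial k ⧸ Ideal.span {(Polynomial.X : Polynomial k) ^ n})) := by
  have hfr : Module.finrank (IsLocalRing.ResidueField A) (IsLocalRing.CotangentSpace A) = 2 := by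
    have h := (IsRegularLocalRing.iff_finrank_cotangentSpace (R := A)).1 inferInstance
    rw [hdim] at h
    exact_mod_cast h
  have hIne : I ≠ ⊤ := by
    intro h
    have : Subsingleton (A ⧸ I) := Ideal.Quotient.subsingleton_iff.2 h
    rw [Module.finrank_zero_of_subsingleton] at hn
    omega
  have hIM : I ≤ IsLocalRing.maximalIdeal A := IsLocalRing.le_maximalIdeal hIne
  let M := IsLocalRing.maximalIdeal A
  let v : IsLocalRing.CotangentSpace A := M.toCotangent ⟨g, hIM hgI⟩
  have hv : v ≠ 0 := fun h => hg (Ideal.toCotangent_eq_zero _ _ |>.1 h)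
  obtain ⟨w, hw⟩ : ∃ w : IsLocalRing.CotangentSpace A, w ∉ Submodule.span (IsLocalRing.ResidueField A) {v} := by
    by_contra h
    push Not at h
    have htop : Submodule.span (IsLocalRing.ResidueField A) {v} = ⊤ := eq_top_iff.2 fun x _ => h x
    have h2 := finrank_span_singleton (K := IsLocalRing.ResidueField A) hv
    rw [htop, finrank_top, hfr] at h2
    exact absurd h2 (by norm_num)
  obtain ⟨⟨t, htM⟩, rfl⟩ := M.toCotangent_surjective w
  have hspan : Submodule.span (IsLocalRing.ResidueField A) {v, M.toCotangent ⟨t, htM⟩} = ⊤ := by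
    have hli : LinearIndependent (IsLocalRing.ResidueField A) ![v, M.toCotangent ⟨t, htM⟩] := by
      rw [LinearIndependent.pair_iff' hv]
      intro a ha
      exact hw (Submodule.mem_span_singleton.2 ⟨a, ha⟩)
    have := hli.span_eq_top_of_card_eq_finrank (by rw [hfr]; rfl)
    rw [Matrix.range_cons_cons_empty] at this
    exact this
  have hMgt : M = Ideal.span {g, t} := by
    refine le_antisymm ?_ (Ideal.span_le.2 (by rintro x (rfl | rfl); exacts [hIM hgI, htM]))
    refine Submodule.le_of_le_smul_of_le_jacobson_bot (IsNoetherian.noetherian M)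
      (IsLocalRing.maximalIdeal_le_jacobson ⊥) ?_
    intro x hx
    have hx' : M.toCotangent ⟨x, hx⟩ ∈ Submodule.span (IsLocalRing.ResidueField A) {v, M.toCotangent ⟨t, htM⟩} :=
      hspan ▸ Submodule.mem_top
    obtain ⟨a, b, hab⟩ := Submodule.mem_span_pair.1 hx'
    obtain ⟨a, rfl⟩ := Ideal.Quotient.mk_surjective a
    obtain ⟨b, rfl⟩ := Ideal.Quotient.mk_surjective b
    have hab' : M.toCotangent (a • (⟨g, hIM hgI⟩ : M) + b • ⟨t, htM⟩) = M.toCotangent ⟨x, hx⟩ := by
      rw [map_add, map_smul, map_smul, ← hab]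
      rfl
    have hmem := M.toCotangent_eq.1 hab'
    refine Submodule.mem_sup.2 ⟨a * g + b * t, add_mem (Ideal.mul_mem_left _ _ (Ideal.subset_span (by simp)))
      (Ideal.mul_mem_left _ _ (Ideal.subset_span (by simp))), x - (a * g + b * t), ?_, by ring⟩
    rw [smul_eq_mul, ← sq]
    simpa using neg_mem hmem
  let ρ : A ⧸ I := Ideal.Quotient.mk I t
  have hmaxB : ∀ c : A, c ∈ M → ∃ d : A ⧸ I, Ideal.Quotient.mk I c = ρ * d := by
    intro c hc
    rw [hMgt] at hc
    obtain ⟨a, b, rfl⟩ := Ideal.mem_span_pair.1 hc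
    refine ⟨Ideal.Quotient.mk I b, ?_⟩
    rw [map_add, Ideal.Quotient.eq_zero_iff_mem.2 (I.mul_mem_left a hgI), zero_add, map_mul, mul_comm]
  have : IsArtinianRing (A ⧸ I) := IsArtinianRing.of_finite k (A ⧸ I)
  obtain ⟨N, hρN⟩ : IsNilpotent ρ := by
    have : Nontrivial (A ⧸ I) := Ideal.Quotient.nontrivial_iff.2 hIne
    have hloc : IsLocalRing (A ⧸ I) := IsLocalRing.of_surjective' _ Ideal.Quotient.mk_surjective
    obtain ⟨N, hN⟩ : IsNilpotent (IsLocalRing.maximalIdeal (A ⧸ I)) := by
      rw [← IsLocalRing.jacobson_eq_maximalIdeal ⊥ bot_ne_top]; exact IsArtinianRing.isNilpotent_jacobson_bot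
    have hρm : ρ ∈ IsLocalRing.maximalIdeal (A ⧸ I) := by
      rw [IsLocalRing.mem_maximalIdeal]
      intro hu
      haveI := IsLocalHom.of_surjective (Ideal.Quotient.mk I) Ideal.Quotient.mk_surjective
      exact (IsLocalRing.mem_maximalIdeal t).1 htM (isUnit_of_map_unit _ t hu)
    refine ⟨N, ?_⟩
    have := Ideal.pow_mem_pow hρm N
    rwa [hN, Submodule.zero_eq_bot, Ideal.mem_bot] at this
  let ev : Polynomial k →ₐ[k] A ⧸ I := Polynomial.aeval ρ
  have step : ∀ (j : ℕ) (b : A ⧸ I), ∃ f : Polynomial k, ρ ^ j ∣ b - ev f := by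
    intro j
    induction j with
    | zero => exact fun b => ⟨0, by simp⟩
    | succ j ih =>
      intro b
      obtain ⟨f, c, hc⟩ := ih b
      obtain ⟨c', rfl⟩ := Ideal.Quotient.mk_surjective c
      obtain ⟨a, ha⟩ := hres (IsLocalRing.residue A c')
      obtain ⟨d, hd⟩ := hmaxB (c' - algebraMap k A a) (by
        rw [← IsLocalRing.residue_eq_zero_iff, map_sub, ← ha]; exact sub_self _)
      have hd' : Ideal.Quotient.mk I c' - algebraMap k (A ⧸ I) a = ρ * d := by rw [← hd, map_sub]; rfl
      refine ⟨f + Polynomial.C a * Polynomial.X ^ j, d, ?_⟩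
      simp [ev, pow_succ] at hc ⊢
      linear_combination hc + ρ ^ j * hd'
  have hsurj : Function.Surjective ev := fun b => by
    obtain ⟨f, hf⟩ := step N b
    rw [hρN, zero_dvd_iff, sub_eq_zero] at hf
    exact ⟨f, hf.symm⟩
  have hmem : (Polynomial.X : Polynomial k) ^ N ∈ RingHom.ker ev := by
    show Polynomial.aeval ρ ((Polynomial.X : Polynomial k) ^ N) = 0
    simp [hρN]
  obtain ⟨p, hgen⟩ := (IsPrincipalIdealRing.principal (RingHom.ker ev)).principal
  have hgen' : RingHom.ker ev = Ideal.span {p} := hgen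
  rw [hgen', Ideal.mem_span_singleton] at hmem
  obtain ⟨j, -, hj⟩ := (dvd_prime_pow Polynomial.prime_X N).1 hmem
  have hk : RingHom.ker ev = Ideal.span {(Polynomial.X : Polynomial k) ^ j} :=
    hgen'.trans (Ideal.span_singleton_eq_span_singleton.2 hj)
  let E : (Polynomial k ⧸ Ideal.span {(Polynomial.X : Polynomial k) ^ j}) ≃ₐ[k] A ⧸ I :=
    (Ideal.quotientEquivAlgOfEq k hk.symm).trans (Ideal.quotientKerAlgEquivOfSurjective hsurj)
  have hj' : n = j := by
    rw [← hn, ← E.toLinearEquiv.finrank_eq, finrank_quotient_span_eq_natDegree, Polynomial.natDegree_X_pow]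
  rw [hj']
  exact ⟨E.symm⟩

end Groth.Agent.S19453
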