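import Groth.Statements.S19454
import Groth.Agent.ResolveSurf.StrictTransformReflexive
import Groth.Agent.Calg2.CompleteNagata
import Groth.Agent.VectorBundles.ReflexiveRegular
import Groth.Agent.Ega4Algebra1.RegularNormal
import Groth.Agent.Ega4Algebra1.RegularLocal

set_option autoImplicit false
set_option backward.isDefEq.respectTransparency.types false
set_option linter.style.haveILetI false
universe u
open CategoryTheory CategoryTheory.Limits AlgebraicGeometry
open Resolve

namespace Groth.Agent.S19454

/-- Let (A, m) be a complete normal Noetherian local domain of dimension two with a rational singularity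
(every proper birational modification X → Spec A with X integral and normal has H^1(X, O_X) = 0), f
: X' → Spec A a resolution of singularities (proper, X' integral with regular local rings, an
isomorphism over a nonempty open subset), L a coherent reflexive module on Spec A, and M the strict
transform of L: a coherent torsion-free module on X' with an epimorphism q : f^*L → M injective on
stalks at the generic point. Then M is finite locally free and generated by global sections, and
moreover H^1(X', M) = 0 (the vanishing of the first higher direct image of M, proved alongside).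
(The published statement takes the resolution to be the minimal one; its proof does not use
minimality, and any resolution is allowed here.) -/
theorem result (A : Type u) [CommRing A]
    [IsDomain A] [IsLocalRing A] [IsNoetherianRing A] [IsIntegrallyClosed A]
    [IsAdicComplete (IsLocalRing.maximalIdeal A) A] (hdim : ringKrullDim A = 2) (hA : Curv2.IsRationalSing A)
    (X' : Scheme.{u}) (f : X' ⟶ Spec (CommRingCat.of A)) [IsProper f] [IsIntegral X']
    (hreg : ∀ x : X', IsRegularLocalRing (X'.presheaf.stalk x))
    (hbir : ∃ U : (Spec (CommRingCat.of A)).Opens, (U : Set (Spec (CommRingCat.of A))).Nonempty ∧ IsIso (f ∣_ U))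
    (L : (Spec (CommRingCat.of A)).Modules) (hLc : Coh.IsCoh L) (hLr : RefHull.IsReflexive L)
    (M : X'.Modules) (hMc : Coh.IsCoh M) (hMt : TorSh.IsTorsionFree M)
    (q : (Scheme.Modules.pullback f).obj L ⟶ M) [Epi q]
    (hq : Function.Injective (RefHull.stalkMapₗ q (genericPoint X'))) :
    FlatMod.IsFinLocFree M ∧ Curv2.IsGloballyGenerated M ∧ Subsingleton (Coh.HH X' M 1) := by
  have hXn : Pi1.IsNormalScheme X' := fun x => by
    haveI := hreg x
    exact ⟨Groth.Ega4Algebra1.isDomain_of_isRegularLocalRing _,
      Groth.Ega4Algebra1.isIntegrallyClosed_of_isRegularLocalRing _⟩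
  have hN : CAlg.IsNagata A := Groth.Calg2.CompleteNagata.isNagata_of_isAdicComplete A
  haveI : IsLocallyNoetherian X' := LocallyOfFiniteType.isLocallyNoetherian f
  have hr := Groth.ResolveSurf.StrictReflexive.isReflexive f q hN hdim hA hXn hbir hLc hLr hMc hMt hq
  haveI := hLc.1
  have hgg := (Groth.ResolveSurf.StrictReflexive.spansStalks q).isGloballyGenerated
  refine ⟨Groth.KTheory.LocFree.isFinLocFree_of_free_stalks hMc fun x => ?_, hgg,
    Groth.Agent.S7298.result A hN hdim hA X' f hXn hbir M hMc.1 hgg⟩
  obtain ⟨U, hU, hUi⟩ := hbir
  haveI := hUi
  haveI := hreg x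
  haveI := Groth.RefRank.finite_stalkModule hMc x
  haveI : Module.IsReflexive (X'.presheaf.stalk x) (M.presheaf.stalk x) :=
    (Groth.RefRank.isReflexive_iff_forall hMc).1 hr x
  exact Groth.VectorBundles.free_of_isReflexive_of_dim_le_two
    (Groth.ResolveSurf.StrictReflexive.ringKrullDim_stalk_le_two f hdim.le U hU x) _

end Groth.Agent.S19454
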