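import Groth.Statements.S19460
import Groth.Agent.Variety2.SmoothCriterion
import Groth.Agent.FibreDim.RelDim
import Groth.Agent.FibreDim.Smooth

set_option autoImplicit false
universe u
open CategoryTheory CategoryTheory.Limits AlgebraicGeometry
open Variety

namespace Groth.Agent.S19460

/-- Let k be an algebraically closed field, X and Y smooth irreducible varieties over k (integral,
separated, of finite type and smooth over k) of dimensions dX and dY, and f : X → Y a k-morphism
which is smooth in the sense that at every closed point x of X the tangent map T_x X → T_{f(x)} Y is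
surjective, equivalently the cotangent map m_{f(x)}/m_{f(x)}² → m_x/m_x² of the local rings is
injective. Then f is dominant, dY ≤ dX, and for every closed point y of Y in the image of f the
scheme-theoretic fibre X_y is smooth over the residue field κ(y) (which is k) and each of its
irreducible components has dimension dX − dY. (The published statement is for varieties in the
classical sense, with the fibre carrying its reduced structure, and it also identifies the tangent
space of the fibre at each point with the kernel of the tangent map; that identification is not part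
of this row.) -/
theorem result (k : Type u) [Field k] [IsAlgClosed k]
    {X Y : Scheme.{u}} (qX : X ⟶ Spec (CommRingCat.of k)) (qY : Y ⟶ Spec (CommRingCat.of k))
    [AlgebraicGeometry.IsIntegral X] [IsSeparated qX] [LocallyOfFiniteType qX] [QuasiCompact qX] [Smooth qX]
    [AlgebraicGeometry.IsIntegral Y] [IsSeparated qY] [LocallyOfFiniteType qY] [QuasiCompact qY] [Smooth qY]
    (f : X ⟶ Y) (hf : f ≫ qY = qX) (dX dY : ℕ) (hX : topologicalKrullDim ↥X = dX)
    (hY : topologicalKrullDim ↥Y = dY)
    (hT : ∀ x : X, IsClosed ({x} : Set ↥X) → Function.Injective (FixPt.cotangentMapAt f x (f.base x) rfl)) :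
    DenseRange f.base ∧ dY ≤ dX ∧
      ∀ y : Y, IsClosed ({y} : Set ↥Y) → y ∈ Set.range f.base →
        Smooth (f.fiberToSpecResidueField y) ∧
          ∀ Z ∈ irreducibleComponents ↥(f.fiber y),
            topologicalKrullDim ↥Z = ((dX - dY : ℕ) : WithBot ℕ∞) := by
  have hXne : Nonempty X := inferInstance
  have : JacobsonSpace X := Groth.Variety2.Dim.jacobsonSpace qX
  obtain ⟨x₀, -, hx₀⟩ := Groth.Variety2.Dim.exists_isClosed_singleton_mem qX
    (isClosed_univ (X := X)).isLocallyClosed Set.univ_nonempty
  have hle : dY ≤ dX := by
    let : X.Over (Spec (CommRingCat.of k)) := ⟨qX⟩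
    let : Y.Over (Spec (CommRingCat.of k)) := ⟨qY⟩
    have : LocallyOfFiniteType (X ↘ Spec (CommRingCat.of k)) := ‹LocallyOfFiniteType qX›
    have : LocallyOfFiniteType (Y ↘ Spec (CommRingCat.of k)) := ‹LocallyOfFiniteType qY›
    have : Smooth (X ↘ Spec (CommRingCat.of k)) := ‹Smooth qX›
    have : Smooth (Y ↘ Spec (CommRingCat.of k)) := ‹Smooth qY›
    have hcX := Groth.Variety2.CotSmooth.finrank_cotangentSpace (k := k) hx₀ dX hX
    have hcY := Groth.Variety2.CotSmooth.finrank_cotangentSpace (k := k)
      (Groth.Variety2.Dim.isClosed_image_singleton qX qY f hf hx₀) dY hY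
    have h1 := (Groth.Variety2.CotSmooth.relRank_iff (k := k) f hf hx₀).2 (hT x₀ hx₀)
    rw [hcX, hcY] at h1
    exact le_of_add_le_right h1.le
  have hsm : SmoothOfRelativeDimension (dX - dY) f :=
    Groth.Variety2.CotSmooth.smoothOfRelativeDimension_of_injective qX qY f hf (dX - dY) dY hY
      (by rw [hX, Nat.add_sub_cancel' hle]) hT
  have : Smooth f := SmoothOfRelativeDimension.smooth (dX - dY) f
  refine ⟨?_, hle, fun y _ _ => ⟨?_, ?_⟩⟩
  · have hopen : IsOpen (Set.range f.base) := f.isOpenMap.isOpen_range
    exact hopen.dense (Set.range_nonempty _)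
  · exact inferInstanceAs (Smooth (pullback.snd f (Y.fromSpecResidueField y)))
  · exact (Groth.FibreDim.hasRelDim_iff f (dX - dY)).2
      (fun x => Groth.FibreDim.fibreDimAt_eq_of_smoothOfRelativeDimension _ f x) y

end Groth.Agent.S19460
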