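import Groth.Statements.S19462
import Mathlib

set_option autoImplicit false
universe u
open GrNak

namespace Groth.Agent.S19462

/-- Let k be a field and R a commutative ℤ-graded k-algebra whose pieces of negative degree vanish and
whose degree-zero piece is the image of k, and let M be a finitely generated ℤ-graded R-module,
graded compatibly with R. Then M is a projective R-module if and only if M has an R-basis consisting
of homogeneous elements, i.e. M is a free graded module. (The published statement takes R a graded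
quotient of a polynomial ring k[x_0, …, x_n] with its standard grading; stated here for any
commutative graded k-algebra concentrated in non-negative degrees with degree-zero part k, to which
the same graded-Nakayama argument applies.) -/
theorem result {k : Type u} [Field k] {R : Type u} [CommRing R] [Algebra k R]
    {σ : Type u} [SetLike σ R] [AddSubmonoidClass σ R] (𝒜 : ℤ → σ) [GradedRing 𝒜]
    (hneg : ∀ i : ℤ, i < 0 → ∀ x ∈ 𝒜 i, x = 0)
    (hk : ∀ c : k, algebraMap k R c ∈ 𝒜 0) (h0 : ∀ x ∈ 𝒜 0, ∃ c : k, algebraMap k R c = x)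
    {M : Type u} [AddCommGroup M] [Module R M] [Module.Finite R M]
    {τ : Type u} [SetLike τ M] [AddSubmonoidClass τ M] (ℳ : ℤ → τ) [DirectSum.Decomposition ℳ]
    [SetLike.GradedSMul 𝒜 ℳ] :
    Module.Projective R M ↔
      ∃ (ι : Type u) (b : Module.Basis ι R M), ∀ i : ι, SetLike.IsHomogeneousElem ℳ (b i) := by
  classical
  constructor
  swap
  · rintro ⟨ι, b, -⟩
    exact Module.Projective.of_basis b
  intro hproj
  let pr : ℤ → R → R := fun i x => (DirectSum.decompose 𝒜 x i : R)
  have hpr : ∀ {i j : ℤ} {x : R}, x ∈ 𝒜 i → pr j x = if i = j then x else 0 := fun {i j x} hx => by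
    split_ifs with h
    · subst h
      exact DirectSum.decompose_of_mem_same 𝒜 hx
    · exact DirectSum.decompose_of_mem_ne 𝒜 hx h
  have hpr_add : ∀ (i : ℤ) (x y : R), pr i (x + y) = pr i x + pr i y := fun i x y => by
    simp [pr, DirectSum.decompose_add]
  have hpr0 : ∀ i : ℤ, pr i 0 = 0 := fun i => by simp [pr]
  let Q : ℕ → Ideal R := fun n => Ideal.span {x | ∃ i : ℤ, (n : ℤ) ≤ i ∧ x ∈ 𝒜 i}
  have hQ : ∀ (n : ℕ) (i : ℤ), i < n → ∀ x ∈ Q n, pr i x = 0 := by
    intro n i hi x hx
    suffices ∀ r : R, pr i (r * x) = 0 by simpa using this 1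
    induction hx using Submodule.span_induction with
    | zero => intro r; simp [hpr0]
    | add a b _ _ ha hb => intro r; rw [mul_add, hpr_add, ha, hb, add_zero]
    | smul c a _ ha => intro r; rw [smul_eq_mul, ← mul_assoc]; exact ha _
    | mem a ha =>
      obtain ⟨j, hj, haj⟩ := ha
      intro r
      induction r using DirectSum.Decomposition.inductionOn 𝒜 with
      | zero => simp [hpr0]
      | add r r' hr hr' => rw [add_mul, hpr_add, hr, hr', add_zero]
      | homogeneous m =>
        rename_i l
        rw [hpr (SetLike.mul_mem_graded m.2 haj)]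
        split_ifs with h
        · rw [hneg l (by omega) m m.2, zero_mul]
        · rfl
  have hQmem : ∀ x : R, x ∈ Q 0 ∧ x - pr 0 x ∈ Q 1 := fun x => by
    induction x using DirectSum.Decomposition.inductionOn 𝒜 with
    | zero => simp [hpr0]
    | add a b ha hb =>
      rw [hpr_add, add_sub_add_comm]
      exact ⟨add_mem ha.1 hb.1, add_mem ha.2 hb.2⟩
    | homogeneous m =>
      rename_i l
      rcases lt_trichotomy l 0 with h | h | h
      · simp [hneg l h m m.2, hpr0]
      · subst h
        rw [hpr m.2, if_pos rfl, sub_self]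
        exact ⟨Ideal.subset_span ⟨0, le_rfl, m.2⟩, zero_mem _⟩
      · rw [hpr m.2, if_neg h.ne', sub_zero]
        exact ⟨Ideal.subset_span ⟨l, h.le, m.2⟩, Ideal.subset_span ⟨l, h, m.2⟩⟩
  have hQmul : ∀ n, Q 1 * Q n ≤ Q (n + 1) := fun n => by
    rw [Ideal.span_mul_span', Ideal.span_le]
    rintro _ ⟨a, ⟨i, hi, ha⟩, b, ⟨j, hj, hb⟩, rfl⟩
    exact Ideal.subset_span ⟨i + j, by push_cast; omega, SetLike.mul_mem_graded ha hb⟩
  have hQinf : ∀ x : R, (∀ n, x ∈ Q n) → x = 0 := fun x hx => by
    rw [← DirectSum.sum_support_decompose 𝒜 x]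
    refine Finset.sum_eq_zero fun i _ => ?_
    exact hQ (i.toNat + 1) i (by omega) x (hx _)
  -- a minimal homogeneous generating set
  let good : Finset M → Prop := fun t =>
    (∀ g ∈ t, SetLike.IsHomogeneousElem ℳ g) ∧ Submodule.span R (t : Set M) = ⊤
  have hex : ∃ m, ∃ t, good t ∧ t.card = m := by
    obtain ⟨S₀, hS₀⟩ := Module.Finite.fg_top (R := R) (M := M)
    let t := S₀.biUnion fun x => ((DirectSum.decompose ℳ x).support).image fun i => (DirectSum.decompose ℳ x i : M)
    refine ⟨_, t, ⟨fun g hg => ?_, ?_⟩, rfl⟩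
    · simp only [t, Finset.mem_biUnion, Finset.mem_image] at hg
      obtain ⟨x, -, i, -, rfl⟩ := hg
      exact ⟨i, SetLike.coe_mem _⟩
    · rw [eq_top_iff, ← hS₀, Submodule.span_le]
      intro x hx
      rw [SetLike.mem_coe, ← DirectSum.sum_support_decompose ℳ x]
      exact Submodule.sum_mem _ fun i hi => Submodule.subset_span
        (Finset.mem_biUnion.2 ⟨x, hx, Finset.mem_image.2 ⟨i, hi, rfl⟩⟩)
  obtain ⟨t, ⟨ht, hspan⟩, hcard⟩ := Nat.find_spec hex
  choose d hd using ht
  let π : (↥t → R) →ₗ[R] M := Fintype.linearCombination R (fun g : ↥t => (g : M))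
  have hπ : Function.Surjective π := by
    rw [← LinearMap.range_eq_top, Fintype.range_linearCombination, ← hspan]
    simp
  have hcomp : ∀ (r : R) (g : M) (e n : ℤ), g ∈ ℳ e →
      (DirectSum.decompose ℳ (r • g) n : M) = pr (n - e) r • g := fun r g e n hg => by
    induction r using DirectSum.Decomposition.inductionOn 𝒜 with
    | zero => simp [hpr0]
    | add a b ha hb => simp [add_smul, DirectSum.decompose_add, hpr_add, ha, hb]
    | homogeneous m =>
      rename_i l
      have hm : (m : R) • g ∈ ℳ (l + e) := by simpa using SetLike.GradedSMul.smul_mem m.2 hg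
      rw [hpr m.2]
      by_cases h : l + e = n
      · subst h
        rw [DirectSum.decompose_of_mem_same ℳ hm, if_pos (by ring)]
      · rw [DirectSum.decompose_of_mem_ne ℳ hm h, if_neg (by omega), zero_smul]
  have hker : ∀ v, π v = 0 → ∀ i, v i ∈ Q 1 := fun v hv i => by
    suffices pr 0 (v i) = 0 by simpa [this] using (hQmem (v i)).2
    obtain ⟨c, hc⟩ := h0 (pr 0 (v i)) (SetLike.coe_mem _)
    by_contra hne
    have hc0 : c ≠ 0 := fun e => hne (by rw [← hc, e, map_zero])
    let D : M →+ M := AddMonoidHom.mk' (fun m => (DirectSum.decompose ℳ m (d i i.2) : M))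
      fun a b => by simp [DirectSum.decompose_add]
    have h1 := congrArg D hv
    simp only [π, Fintype.linearCombination_apply, map_sum, map_zero] at h1
    simp only [D, AddMonoidHom.mk'_apply] at h1
    rw [Finset.sum_congr rfl (fun g _ => hcomp (v g) g (d g g.2) _ (hd g g.2)),
      ← Finset.add_sum_erase _ _ (Finset.mem_univ i), sub_self, ← hc] at h1
    have hi : (i : M) ∈ Submodule.span R ((t.erase i : Finset M) : Set M) := by
      have h2 : algebraMap k R c • (i : M) ∈ Submodule.span R ((t.erase i : Finset M) : Set M) := by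
        rw [eq_neg_of_add_eq_zero_left h1]
        exact neg_mem (Submodule.sum_mem _ fun g hg => Submodule.smul_mem _ _ (Submodule.subset_span
          (Finset.mem_erase.2 ⟨fun e => (Finset.mem_erase.1 hg).1 (Subtype.ext e), g.2⟩)))
      have h3 := Submodule.smul_mem _ (algebraMap k R c⁻¹) h2
      rwa [smul_smul, ← map_mul, inv_mul_cancel₀ hc0, map_one, one_smul] at h3
    refine Nat.find_min hex (m := (t.erase i).card) ?_
      ⟨t.erase i, ⟨fun g hg => ⟨_, hd g (Finset.mem_of_mem_erase hg)⟩, ?_⟩, rfl⟩
    · rw [← hcard, Finset.card_erase_of_mem i.2]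
      exact Nat.sub_lt (Finset.card_pos.2 ⟨i, i.2⟩) one_pos
    · rw [eq_top_iff, ← hspan, Submodule.span_le]
      intro g hg
      by_cases e : g = i
      · exact e ▸ hi
      · exact Submodule.subset_span (Finset.mem_erase.2 ⟨e, hg⟩)
  obtain ⟨σ, hσ⟩ := Module.projective_lifting_property π LinearMap.id hπ
  have hσ' : ∀ m, π (σ m) = m := fun m => LinearMap.congr_fun hσ m
  have hinj : Function.Injective π := by
    refine (injective_iff_map_eq_zero _).2 fun v hv => ?_
    have he : ∀ n, ∀ i, v i ∈ Q n := by
      intro n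
      induction n with
      | zero => exact fun i => (hQmem _).1
      | succ n ih =>
        intro i
        let e : (↥t → R) →ₗ[R] (↥t → R) := LinearMap.id - σ.comp π
        have hev : e v = v := by simp [e, hv]
        rw [← hev, pi_eq_sum_univ v, map_sum, Finset.sum_apply]
        refine Ideal.sum_mem _ fun j _ => ?_
        rw [map_smul, Pi.smul_apply, smul_eq_mul, mul_comm]
        refine hQmul n (Ideal.mul_mem_mul (hker _ ?_ i) (ih j))
        simp [e, hσ']
    exact funext fun i => hQinf _ fun n => he n i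
  refine ⟨↥t, (Pi.basisFun R ↥t).map (LinearEquiv.ofBijective π ⟨hinj, hπ⟩), fun i => ⟨d i i.2, ?_⟩⟩
  have : π (Pi.single i 1) = (i : M) := by simp [π, Fintype.linearCombination_apply_single]
  show (Pi.basisFun R ↥t).map _ i ∈ ℳ _
  rw [Module.Basis.map_apply, Pi.basisFun_apply]
  show π (Pi.single i 1) ∈ ℳ _
  rw [this]
  exact hd i i.2

end Groth.Agent.S19462
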