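import Groth.Statements.S19463
import Groth.Agent.Ega2Proj.CurveCompletion
import Groth.Agent.VarietyBC.CurveProj
import Groth.Agent.Curves1.CurveMor.Smooth
import Groth.Agent.NeronArea.SmoothLocusNMP
import Groth.Agent.NeronArea.FiniteEtaleClosure
import Groth.Agent.Cycles.CurveDegree
import Groth.Agent.FibreDim.DimStalk
-- import your own Groth.Agent.* helpers here

set_option autoImplicit false
universe u
open CategoryTheory CategoryTheory.Limits AlgebraicGeometry
open Curves

namespace Groth.Agent.S19463

/-- Let k be an algebraically closed field and X a smooth curve over k (integral, separated, of finite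
type and smooth over k, of dimension one). Then there are a smooth projective curve Y over k
(integral, smooth over k, of dimension one, admitting a closed immersion over k into some P^n_k) and
an open immersion X → Y over k. -/
theorem result (k : Type u) [Field k] [IsAlgClosed k]
    (X : Scheme.{u}) [X.Over (Spec (CommRingCat.of k))] [IsIntegral X] [IsSeparated (X ↘ (Spec (CommRingCat.of k)))]
    [LocallyOfFiniteType (X ↘ (Spec (CommRingCat.of k)))] [QuasiCompact (X ↘ (Spec (CommRingCat.of k)))] [Smooth (X ↘ (Spec (CommRingCat.of k)))]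
    (hdimX : topologicalKrullDim X = 1) :
    ∃ (Y : Scheme.{u}) (_ : Y.Over (Spec (CommRingCat.of k))) (j : X ⟶ Y), IsOpenImmersion j ∧
      j ≫ (Y ↘ (Spec (CommRingCat.of k))) = X ↘ (Spec (CommRingCat.of k)) ∧ IsIntegral Y ∧ Smooth (Y ↘ (Spec (CommRingCat.of k))) ∧ topologicalKrullDim Y = 1 ∧
      ∃ (n : ℕ) (i : Y ⟶ CohB1.ProjSpace n k), IsClosedImmersion i ∧ i ≫ CohB1.ProjSpace.toSpec n k = Y ↘ (Spec (CommRingCat.of k)) := by
  open Groth in
  let str := X ↘ Spec (CommRingCat.of k)
  haveI : Smooth str := ‹_›
  have hS : Pi1.IsNormalScheme (Spec (CommRingCat.of k)) :=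
    NeronArea.isNormalScheme_Spec (NeronArea.isNormalRing_of_isIntegrallyClosed k)
  obtain ⟨Xc, sc, j, hj, hd, hjs, hp, hn, hcurve⟩ := Ega2Proj.CurveCompl.exists_completion k X
    (fun x hx => Cycles.ringKrullDim_stalk_closed str hdimX x hx)
    (NeronArea.isNormalScheme_of_smooth str hS)
  letI : Xc.Over (Spec (CommRingCat.of k)) := ⟨sc⟩
  haveI := Ega2Proj.isReduced_of_isNormalScheme hn
  haveI : IrreducibleSpace Xc := by
    rw [irreducibleSpace_def]
    have h := ((IrreducibleSpace.isIrreducible_univ X).image j.base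
      j.continuous.continuousOn).closure
    rwa [Set.image_univ, hd.closure_eq] at h
  haveI : IsIntegral Xc := isIntegral_of_irreducibleSpace_of_isReduced Xc
  haveI : LocallyOfFiniteType (Xc ↘ Spec (CommRingCat.of k)) := inferInstanceAs (LocallyOfFiniteType sc)
  haveI : LocallyOfFinitePresentation (Xc ↘ Spec (CommRingCat.of k)) :=
    inferInstanceAs (LocallyOfFinitePresentation sc)
  haveI : IsLocallyNoetherian Xc := LocallyOfFiniteType.isLocallyNoetherian sc
  haveI : JacobsonSpace Xc := LocallyOfFiniteType.jacobsonSpace sc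
  have hdim : topologicalKrullDim Xc ≤ 1 := by
    rw [Groth.FibreDim.dim_eq_iSup_stalk Xc]
    refine iSup_le fun x => ?_
    by_cases hx : IsClosed ({x} : Set Xc)
    · exact (hcurve x hx).le
    · rw [ringKrullDim_stalk_eq_coheight,
        Order.coheight_eq_zero.2 (Ega2Proj.CurveCompl.isMax_of_not_isClosed hcurve hx)]
      exact_mod_cast zero_le_one
  have hsm : Smooth sc := Curves1.CurveMor.smooth_of_forall_closed (k := k) fun x hx => by
    have := (hn x).2
    have := Curves1.CurveMor.finite_residueField_of_isClosed (k := k) hx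
    exact Curves1.CurveMor.mem_smoothLocus_of_normal hdim x inferInstance
  refine ⟨Xc, ⟨sc⟩, j, hj, hjs, inferInstance, hsm,
    le_antisymm hdim (hdimX ▸ j.isEmbedding.isInducing.topologicalKrullDim_le), ?_⟩
  obtain ⟨n, i, hi, -, hif⟩ := VarietyBC.CurveProj.exists_immersion k sc hdim
  refine ⟨n, i, ?_, hif⟩
  haveI : IsProper (i ≫ CohB1.ProjSpace.toSpec n k) := hif.symm ▸ hp
  haveI : IsProper (CohB1.ProjSpace.toSpec n k) := Variety2.isProper_projSpace_toSpec n k
  haveI : IsProper i := IsProper.of_comp i (CohB1.ProjSpace.toSpec n k)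
  exact IsClosedImmersion.of_isPreimmersion i i.isClosedMap.isClosed_range

end Groth.Agent.S19463
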