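import Groth.Statements.S19464
import Groth.Agent.ArSurfBasics.Factorization
import Groth.Agent.S15848

set_option autoImplicit false
universe u
open CategoryTheory CategoryTheory.Limits AlgebraicGeometry
open Surf

namespace Groth.Agent.S19464

/-- Let k be an algebraically closed field, X and Y smooth surfaces over k (integral, separated, of
finite type and smooth over k, of dimension two), f : X → Y a proper k-morphism which is an
isomorphism over some nonempty open subset of Y (birational), and y a closed point of Y over no open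
neighbourhood of which f is an isomorphism (y is not in the domain of the inverse rational map).
Then f factors through the blow-up of Y at y: for every π : Y' → Y having the universal property of
the blowing up of Y in the ideal of the reduced closed point y, there is g : X → Y' with g ≫ π = f. -/
theorem result (k : Type u) [Field k] [IsAlgClosed k]
    (X Y : Scheme.{u}) [X.Over (Spec (CommRingCat.of k))] [Y.Over (Spec (CommRingCat.of k))]
    [IsIntegral X] [IsSeparated (X ↘ (Spec (CommRingCat.of k)))] [LocallyOfFiniteType (X ↘ (Spec (CommRingCat.of k)))]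
    [QuasiCompact (X ↘ (Spec (CommRingCat.of k)))] [Smooth (X ↘ (Spec (CommRingCat.of k)))] (hdimX : topologicalKrullDim X = 2)
    [IsIntegral Y] [IsSeparated (Y ↘ (Spec (CommRingCat.of k)))] [LocallyOfFiniteType (Y ↘ (Spec (CommRingCat.of k)))]
    [QuasiCompact (Y ↘ (Spec (CommRingCat.of k)))] [Smooth (Y ↘ (Spec (CommRingCat.of k)))] (hdimY : topologicalKrullDim Y = 2)
    (f : X ⟶ Y) (hf : f ≫ (Y ↘ (Spec (CommRingCat.of k))) = X ↘ (Spec (CommRingCat.of k))) [IsProper f]
    (hbir : ∃ U : Y.Opens, (U : Set Y).Nonempty ∧ IsIso (f ∣_ U))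
    (y : Y) (hy : IsClosed ({y} : Set Y)) (hP : ∀ V : Y.Opens, y ∈ V → ¬ IsIso (f ∣_ V))
    (Y' : Scheme.{u}) (π : Y' ⟶ Y) (hπ : BlowUp.IsBlowUp π (Scheme.IdealSheafData.vanishingIdeal ⟨{y}, hy⟩)) :
    ∃ g : X ⟶ Y', g ≫ π = f := by
  let p := X ↘ Spec (CommRingCat.of k)
  let q := Y ↘ Spec (CommRingCat.of k)
  haveI : IsLocallyNoetherian X := LocallyOfFiniteType.isLocallyNoetherian p
  haveI : IsLocallyNoetherian Y := LocallyOfFiniteType.isLocallyNoetherian q
  haveI : CompactSpace X := QuasiCompact.compactSpace_of_compactSpace p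
  haveI : CompactSpace Y := QuasiCompact.compactSpace_of_compactSpace q
  haveI : AlgebraicGeometry.IsNoetherian Y := {}
  obtain ⟨U, hUne, hU⟩ := hbir
  have hX : ∀ x : X, IsRegularLocalRing (X.presheaf.stalk x) := fun x =>
    Groth.Agent.S15848.isRegularLocalRing_of_smooth_field p x
  have hY : ∀ z : Y, IsRegularLocalRing (Y.presheaf.stalk z) := fun z =>
    Groth.Agent.S15848.isRegularLocalRing_of_smooth_field q z
  have hgen : y ≠ genericPoint Y := fun e =>
    Groth.ArSurfBasics.Factorization.genericPoint_not_isClosed hdimY (e ▸ hy)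
  obtain ⟨g, hg, -⟩ := hπ.2 _ f (Groth.ArSurfBasics.FactorBlowUp.isEffCartierIdeal_comap f hX hY hdimX.le hdimY.le
    hU hUne hy hgen (Groth.ArSurfBasics.Factorization.exists_pair_of_not_iso_near f hdimX hdimY hU hUne hY hP))
  exact ⟨g, hg⟩

end Groth.Agent.S19464
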