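import Groth.Statements.S19465
import Groth.Agent.Reductive.UnramFibre
-- import your own Groth.Agent.* helpers here

set_option autoImplicit false
universe u
open CategoryTheory CategoryTheory.Limits MonoidalCategory CartesianMonoidalCategory MonObj GrpObj AlgebraicGeometry
open AlgGrp

namespace Groth.Agent.S19465

/-- Let S be a scheme and G an S-group scheme whose structure morphism G → S is locally of finite type.
Then G → S is an isomorphism (G is the trivial group scheme over S) if and only if every fibre G_s →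
Spec κ(s), s ∈ S, is an isomorphism. -/
theorem result (S : Scheme.{u}) (G : Over S)
    [GrpObj G] [LocallyOfFiniteType G.hom] :
    IsIso G.hom ↔ ∀ s : S, IsIso (G.hom.fiberToSpecResidueField s) := by
  refine ⟨fun h s => ?_, fun h => ?_⟩
  · exact MorphismProperty.pullback_snd (P := .isomorphisms Scheme) G.hom _ h
  have : FormallyUnramified G.hom :=
    Groth.Reductive.formallyUnramified_of_fibres G.hom fun s => by
      have := h s
      infer_instance
  have he : (η[G] : 𝟙_ (Over S) ⟶ G).left ≫ G.hom = 𝟙 S := Over.w η[G]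
  have : IsOpenImmersion (η[G] : 𝟙_ (Over S) ⟶ G).left := by
    let Q : MorphismProperty Scheme.{u} := @FormallyUnramified ⊓ @LocallyOfFiniteType
    have : MorphismProperty.HasOfPostcompProperty @IsOpenImmersion Q :=
      MorphismProperty.hasOfPostcompProperty_iff_le_diagonal.mpr fun _ _ f ⟨_, _⟩ =>
        inferInstanceAs (IsOpenImmersion (pullback.diagonal f))
    refine MorphismProperty.of_postcomp (W := @IsOpenImmersion) (W' := Q) _ G.hom
      ⟨inferInstance, inferInstance⟩ ?_
    rw [he]
    exact (inferInstance : IsOpenImmersion (𝟙 S))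
  have : Surjective (η[G] : 𝟙_ (Over S) ⟶ G).left := ⟨fun x => by
    refine ⟨G.hom x, ?_⟩
    have : IsIso (G.hom.fiberToSpecResidueField (G.hom x)) := h _
    have : Subsingleton ↥(G.hom.fiber (G.hom x)) :=
      (G.hom.fiberToSpecResidueField (G.hom x)).homeomorph.injective.subsingleton
    have hx : x ∈ G.hom ⁻¹' {G.hom x} := rfl
    have hy : (η[G] : 𝟙_ (Over S) ⟶ G).left (G.hom x) ∈ G.hom ⁻¹' {G.hom x} := by
      show G.hom ((η[G] : 𝟙_ (Over S) ⟶ G).left (G.hom x)) = G.hom x
      rw [← Scheme.Hom.comp_apply, he]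
      rfl
    exact congrArg Subtype.val ((G.hom.fiberHomeo (G.hom x)).symm.injective
      (Subsingleton.elim ((G.hom.fiberHomeo (G.hom x)).symm ⟨_, hy⟩)
        ((G.hom.fiberHomeo (G.hom x)).symm ⟨x, hx⟩)))⟩
  have : IsIso (η[G] : 𝟙_ (Over S) ⟶ G).left :=
    (isIso_iff_isOpenImmersion_and_surjective _).mpr ⟨inferInstance, inferInstance⟩
  rw [← IsIso.inv_hom_id_assoc (η[G] : 𝟙_ (Over S) ⟶ G).left G.hom, he]
  exact IsIso.comp_isIso' inferInstance (inferInstance : IsIso (𝟙 S))

end Groth.Agent.S19465
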