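import Groth.Statements.S19474
import Mathlib
import Groth.Agent.Calg1.Completion
import Groth.Agent.Ega4Algebra1.RegularLocal

set_option autoImplicit false
universe u
open CAlg

namespace Groth.Agent.S19474

/-- Let A be a Noetherian local ring and I an ideal of A different from A. Then the I-adic completion of
A has the same Krull dimension as A, and A is a regular local ring if and only if the I-adic
completion of A is a regular local ring (in particular the completion is then local and Noetherian).
The case where I is the maximal ideal is the classical one; here I is any proper ideal. -/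
theorem result (A : Type u) [CommRing A]
    [IsLocalRing A] [IsNoetherianRing A] (I : Ideal A) (hI : I ≠ ⊤) :
    ringKrullDim (AdicCompletion I A) = ringKrullDim A ∧
      (IsRegularLocalRing A ↔ IsRegularLocalRing (AdicCompletion I A)) := by
  let C := AdicCompletion I A
  have hfg : I.FG := IsNoetherian.noetherian I
  have hIm : I ≤ IsLocalRing.maximalIdeal A := IsLocalRing.le_maximalIdeal hI
  have : IsAdicComplete (I.map (algebraMap A C)) C := AdicCompletion.isAdicComplete_self I hfg
  have : Nontrivial (A ⧸ I) := Ideal.Quotient.nontrivial_iff.mpr hI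
  have : IsLocalRing (A ⧸ I) := IsLocalRing.of_surjective' (Ideal.Quotient.mk I) Ideal.Quotient.mk_surjective
  let e := (AdicCompletion.evalOneₐ I).toRingHom
  have he : Function.Surjective e := AdicCompletion.evalOneₐ_surjective I
  have hmax := AdicCompletion.isMaximal_map_of_le I (IsLocalRing.maximalIdeal A) hIm hfg
  have hker : RingHom.ker e ≤ (⊥ : Ideal C).jacobson :=
    (AdicCompletion.ker_evalOneₐ_eq_map I hfg).le.trans (IsAdicComplete.le_jacobson_bot _)
  have huniq : ∀ J : Ideal C, J.IsMaximal → J = (IsLocalRing.maximalIdeal (A ⧸ I)).comap e := fun J hJ => by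
    have hle : RingHom.ker e ≤ J := hker.trans (sInf_le ⟨bot_le, hJ⟩)
    rw [← IsLocalRing.eq_maximalIdeal (Ideal.IsMaximal.map_of_surjective_of_ker_le he hle),
      Ideal.comap_map_of_surjective e he, eq_comm, sup_eq_left]
    exact hle
  have : IsLocalRing C := IsLocalRing.of_unique_max_ideal
    ⟨_, hmax, fun J hJ => (huniq J hJ).trans (huniq _ hmax).symm⟩
  have hmaxeq : IsLocalRing.maximalIdeal C = (IsLocalRing.maximalIdeal A).map (algebraMap A C) :=
    (IsLocalRing.eq_maximalIdeal hmax).symm
  have : IsLocalHom (algebraMap A C) := ((IsLocalRing.local_hom_TFAE _).out 0 2).mpr hmaxeq.ge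
  have : IsNoetherianRing C := Groth.Calg1.isNoetherianRing_adicCompletion I hfg
  have hdim : ringKrullDim C = ringKrullDim A := by
    have : (IsLocalRing.maximalIdeal C).LiesOver (IsLocalRing.maximalIdeal A) :=
      ⟨(IsLocalRing.maximalIdeal_comap (algebraMap A C)).symm⟩
    have h := Ideal.height_eq_height_add_of_liesOver_of_hasGoingDown (IsLocalRing.maximalIdeal A)
      (IsLocalRing.maximalIdeal C)
    have h0 : (IsLocalRing.maximalIdeal C).map
        (Ideal.Quotient.mk <| (IsLocalRing.maximalIdeal A).map (algebraMap A C)) = ⊥ := by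
      rw [← hmaxeq]; exact Ideal.map_quotient_self _
    rw [h0] at h
    have : Nontrivial (C ⧸ (IsLocalRing.maximalIdeal A).map (algebraMap A C)) := by
      rw [Ideal.Quotient.nontrivial_iff, ← hmaxeq]
      exact (IsLocalRing.maximalIdeal.isMaximal C).ne_top
    rw [Ideal.height_bot, add_zero] at h
    rw [← IsLocalRing.maximalIdeal_height_eq_ringKrullDim, ← IsLocalRing.maximalIdeal_height_eq_ringKrullDim, h]
  refine ⟨hdim, fun hA => ?_, fun hC => Groth.Ega4Algebra1.isRegularLocalRing_of_flat A C⟩
  refine IsRegularLocalRing.of_spanFinrank_maximalIdeal_le C ?_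
  rw [hdim, ← hA.spanFinrank_maximalIdeal]
  have hg := Submodule.FG.finite_generators (IsNoetherian.noetherian (IsLocalRing.maximalIdeal A))
  have : IsLocalRing.maximalIdeal C = Ideal.span (algebraMap A C '' (IsLocalRing.maximalIdeal A).generators) := by
    rw [hmaxeq]
    conv_lhs => rw [← Submodule.span_generators (IsLocalRing.maximalIdeal A)]
    exact Ideal.map_span _ _
  rw [this]
  have h1 := (Submodule.spanFinrank_span_le_ncard_of_finite (R := C) (hg.image (algebraMap A C))).trans
    (Set.ncard_image_le hg)
  rw [Submodule.FG.generators_ncard (IsNoetherian.noetherian _)] at h1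
  exact_mod_cast h1

end Groth.Agent.S19474
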