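import Groth.Statements.S19475
import Mathlib

set_option autoImplicit false
universe u
open CAlg
open scoped TensorProduct

namespace Groth.Agent.S19475

open IsLocalRing in
/-- Let A be a Noetherian ring, B an A-algebra, q a prime ideal of B and p its preimage in A; let A_p
and B_q be the local rings at p and q and Â_p the completion of A_p at its maximal ideal pA_p. Then
the ideal generated by qB_q in B_q ⊗ Â_p is maximal. (The tensor product is formed over A; since A_p
is a localization of A it agrees with the tensor product over A_p used in the published statement.) -/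
theorem result (A B : Type u) [CommRing A] [CommRing B]
    [Algebra A B] [IsNoetherianRing A] (q : Ideal B) [q.IsPrime] :
    ((maximalIdeal (Localization.AtPrime q)).map
      (Algebra.TensorProduct.includeLeftRingHom :
        Localization.AtPrime q →+* TensorProduct A (Localization.AtPrime q)
          (AdicCompletion (maximalIdeal (Localization.AtPrime (q.under A)))
            (Localization.AtPrime (q.under A))))).IsMaximal := by
  let p := q.under A
  let Ap := Localization.AtPrime p
  let Bq := Localization.AtPrime q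
  let mp := maximalIdeal Ap
  let Ah := AdicCompletion mp Ap
  let φ : Ap →+* Bq := Localization.localRingHom p q (algebraMap A B) rfl
  let φA : Ap →ₐ[A] Bq := ⟨φ, fun a => by
    show φ (algebraMap A Ap a) = algebraMap A Bq a
    rw [Localization.localRingHom_to_map, ← IsScalarTower.algebraMap_apply]⟩
  have : IsScalarTower A Ap Ah := IsScalarTower.of_algebraMap_eq fun a => rfl
  let K := IsLocalRing.ResidueField Bq
  let resA : Bq →ₐ[A] K := IsScalarTower.toAlgHom A Bq K
  have hmp : ∀ x ∈ mp, resA (φA x) = 0 := fun x hx => (IsLocalRing.residue_eq_zero_iff _).2 (by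
    have := (Localization.isLocalHom_localRingHom p q (algebraMap A B) rfl)
    exact map_nonunit φ x hx)
  let ev : Ah →ₐ[A] K := (Ideal.Quotient.liftₐ mp (resA.comp φA) hmp).comp ((AdicCompletion.evalOneₐ mp).restrictScalars A)
  let I := (maximalIdeal Bq).map (Algebra.TensorProduct.includeLeftRingHom : Bq →+* TensorProduct A Bq Ah)
  let ψ : TensorProduct A Bq Ah →ₐ[A] K := Algebra.TensorProduct.lift resA ev fun _ _ => Commute.all _ _
  have hψ : ∀ b : Bq, ψ (b ⊗ₜ 1) = IsLocalRing.residue Bq b := fun b => by simp [ψ, resA]; rfl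
  have hsc : ∀ x : Ap, (1 : Bq) ⊗ₜ[A] (algebraMap Ap Ah x) = φA x ⊗ₜ[A] (1 : Ah) := by
    intro x
    exact AlgHom.congr_fun (@Subsingleton.elim _ (IsLocalization.algHom_subsingleton p.primeCompl) _ _ :
      ((Algebra.TensorProduct.includeRight : Ah →ₐ[A] TensorProduct A Bq Ah).comp (IsScalarTower.toAlgHom A Ap Ah)) =
        (Algebra.TensorProduct.includeLeft : Bq →ₐ[A] TensorProduct A Bq Ah).comp φA) x
  have hclose : ∀ z : TensorProduct A Bq Ah, ∃ b : Bq, z - b ⊗ₜ 1 ∈ I := by
    intro z
    induction z using TensorProduct.induction_on with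
    | zero => exact ⟨0, by simp⟩
    | tmul y a =>
      obtain ⟨r, hr⟩ : ∃ r : Ap, a - algebraMap Ap Ah r ∈ mp.map (algebraMap Ap Ah) := by
        obtain ⟨r, hr⟩ := Ideal.Quotient.mk_surjective (AdicCompletion.evalOneₐ mp a)
        refine ⟨r, ?_⟩
        rw [← AdicCompletion.ker_evalOneₐ_eq_map mp (IsNoetherian.noetherian mp), RingHom.mem_ker]
        show AdicCompletion.evalOneₐ mp (a - algebraMap Ap Ah r) = 0
        rw [map_sub, AlgHom.commutes, ← hr, Ideal.Quotient.algebraMap_eq, sub_self]
      have hle : mp.map (algebraMap Ap Ah) ≤ I.comap (Algebra.TensorProduct.includeRight : Ah →ₐ[A] TensorProduct A Bq Ah) := by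
        rw [Ideal.map_le_iff_le_comap]
        intro x hx
        show (1 : Bq) ⊗ₜ[A] algebraMap Ap Ah x ∈ I
        rw [hsc]
        exact Ideal.mem_map_of_mem _ ((IsLocalRing.residue_eq_zero_iff _).1 (hmp x hx))
      refine ⟨y * φA r, ?_⟩
      have h1 := Ideal.mul_mem_left I (y ⊗ₜ 1) (hle hr)
      have h2 : y ⊗ₜ[A] a - (y * φA r) ⊗ₜ[A] (1 : Ah) = (y ⊗ₜ 1) * ((1 : Bq) ⊗ₜ[A] (a - algebraMap Ap Ah r)) := by
        rw [TensorProduct.tmul_sub, hsc, mul_sub, Algebra.TensorProduct.tmul_mul_tmul, Algebra.TensorProduct.tmul_mul_tmul, mul_one, one_mul, one_mul]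
      rw [h2]
      exact h1
    | add x y hx hy =>
      obtain ⟨b, hb⟩ := hx
      obtain ⟨c, hc⟩ := hy
      exact ⟨b + c, by rw [TensorProduct.add_tmul, add_sub_add_comm]; exact add_mem hb hc⟩
  have hIle : I ≤ RingHom.ker ψ := Ideal.map_le_iff_le_comap.2 fun b hb => by
    show ψ (b ⊗ₜ 1) = 0
    rw [hψ]; exact (IsLocalRing.residue_eq_zero_iff b).2 hb
  have hker : RingHom.ker ψ = I := by
    refine le_antisymm (fun z hz => ?_) hIle
    obtain ⟨b, hb⟩ := hclose z
    have h0 : ψ (b ⊗ₜ 1) = 0 := by
      have := RingHom.mem_ker.1 (hIle hb)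
      rwa [map_sub, RingHom.mem_ker.1 hz, zero_sub, neg_eq_zero] at this
    rw [hψ, IsLocalRing.residue_eq_zero_iff] at h0
    simpa using add_mem hb (Ideal.mem_map_of_mem (Algebra.TensorProduct.includeLeftRingHom : Bq →+* TensorProduct A Bq Ah) h0)
  show I.IsMaximal
  rw [← hker]
  exact RingHom.ker_isMaximal_of_surjective ψ fun c => by
    obtain ⟨b, rfl⟩ := IsLocalRing.residue_surjective c
    exact ⟨b ⊗ₜ 1, hψ b⟩

end Groth.Agent.S19475
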