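import Groth.Statements.S19476
import Groth.Agent.Abvar.Seesaw.Subscheme
import Groth.Agent.LocFree.Basic

set_option autoImplicit false
universe u
open CategoryTheory CategoryTheory.Limits AlgebraicGeometry
open PicF

namespace Groth.Agent.S19476

open Groth.Abvar.PicCalc

/-- Let S be a locally Noetherian scheme, f : X → S flat and proper with integral geometric fibres, and
L a line bundle on X (a locally free module of rank 1). Then there is a closed subscheme Z ⊆ S with
the following universal property among locally Noetherian S-schemes: a morphism u : T → S with T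
locally Noetherian factors through Z if and only if the pullback of L to X ×_S T is isomorphic to
the pullback along the projection X ×_S T → T of some line bundle on T, i.e. is trivial relative to
T. (Only the existence of such a closed subscheme is asserted.) -/
theorem result {X S : Scheme.{u}} (f : X ⟶ S)
    [IsProper f] [Flat f] [GeometricallyIntegral f] [IsLocallyNoetherian S]
    (L : X.Modules) (hL : FlatMod.IsFinLocFreeOfRank 1 L) :
    ∃ (Z : Scheme.{u}) (ι : Z ⟶ S), IsClosedImmersion ι ∧
      ∀ (T : Scheme.{u}) (u : T ⟶ S), IsLocallyNoetherian T →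
        ((∃ u' : T ⟶ Z, u' ≫ ι = u) ↔
          ∃ M : T.Modules, FlatMod.IsFinLocFreeOfRank 1 M ∧
            Nonempty ((Scheme.Modules.pullback (pullback.fst f u)).obj L ≅
              (Scheme.Modules.pullback (pullback.snd f u)).obj M)) := by
  have hL' : PicF.IsInvertible L := LocFree.isInvertible_iff_ofRank_one.2 hL
  obtain ⟨Z, ι, hι, hZ⟩ := Groth.Abvar.Seesaw.exists_seesaw_subscheme (f := f) (c := cls hL')
  refine ⟨Z, ι, hι, fun T u _ => (hZ u).trans ⟨?_, ?_⟩⟩
  · rintro ⟨d, hd⟩
    obtain ⟨M, hM, rfl⟩ := PicGrp.exists_eq_cls d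
    rw [pull_cls _ hL', pull_cls _ hM] at hd
    exact ⟨M, LocFree.isInvertible_iff_ofRank_one.1 hM, (nonempty_iso_iff _ _).2 hd⟩
  · rintro ⟨M, hM, hiso⟩
    have hM' : PicF.IsInvertible M := LocFree.isInvertible_iff_ofRank_one.2 hM
    refine ⟨cls hM', ?_⟩
    rw [pull_cls _ hL', pull_cls _ hM']
    exact (nonempty_iso_iff _ _).1 hiso

end Groth.Agent.S19476
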