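import Groth.Statements.S19477
import Mathlib

set_option autoImplicit false
universe u
open Variety
open scoped TensorProduct

namespace Groth.Agent.S19477

theorem torsionFree_aux (F M : Type u) [Field F] [AddCommGroup M] [Module F M] :
    Module.IsTorsionFree F M := inferInstance

/-- Let K be a field, B an integral K-algebra of finite type with fraction field F, and L a Galois
extension of K with group Γ = Aut_K(L). Then F ⊗_K L has only finitely many prime ideals and Γ,
acting through the second factor, permutes them transitively: for prime ideals P, Q there is γ ∈ Γ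
with Q the preimage of P under id ⊗ γ. (The published statement is the geometric one, that the
points of an algebraic K-scheme X correspond to the Γ-orbits of points of X_L and that these orbits
are finite; it reduces to this algebraic statement by passing to the fibre over a point, and the
algebraic statement is what is proved.) -/
theorem result (K B L : Type u) [Field K]
    [CommRing B] [IsDomain B] [Algebra K B] [Algebra.FiniteType K B] [Field L] [Algebra K L] [IsGalois K L] :
    Finite (PrimeSpectrum (TensorProduct K (FractionRing B) L)) ∧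
      ∀ P Q : PrimeSpectrum (TensorProduct K (FractionRing B) L), ∃ γ : L ≃ₐ[K] L,
        Q.asIdeal = P.asIdeal.comap
          (Algebra.TensorProduct.map (AlgHom.id K (FractionRing B)) (γ : L →ₐ[K] L)) := by
  classical
  set F := FractionRing B
  set T := TensorProduct K F L
  have : Algebra.EssFiniteType B F := .of_isLocalization F (nonZeroDivisors B)
  have : Algebra.EssFiniteType K F := Algebra.EssFiniteType.comp K B F
  have : IsNoetherianRing (TensorProduct K L F) := Algebra.EssFiniteType.isNoetherianRing L _
  have hN : IsNoetherianRing T :=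
    isNoetherianRing_of_ringEquiv _ (Algebra.TensorProduct.comm K L F).toRingEquiv
  have : Algebra.IsIntegral K L := inferInstance
  have hint : Algebra.IsIntegral F T := inferInstance
  have hmax : ∀ P : Ideal T, P.IsPrime → P.IsMaximal := fun P hP =>
    Ideal.Quotient.maximal_of_isField P (isField_of_isIntegral_of_isField' (R := F) (S := T ⧸ P) (Field.toIsField F))
  have : Ring.KrullDimLE 0 T := Ring.KrullDimLE.mk₀ hmax
  have : IsArtinianRing T := IsNoetherianRing.isArtinianRing_of_krullDimLE_zero
  refine ⟨inferInstance, fun P Q => ?_⟩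
  let Ω := AlgebraicClosure F
  have emb : ∀ P : PrimeSpectrum T, ∃ ψ : T →ₐ[F] Ω, RingHom.ker ψ.toRingHom = P.asIdeal := by
    intro P
    have := hmax P.asIdeal P.2
    let : Field (T ⧸ P.asIdeal) := Ideal.Quotient.field _
    have : Algebra.IsAlgebraic F (T ⧸ P.asIdeal) := Algebra.IsIntegral.isAlgebraic
    have : Module.IsTorsionFree F (T ⧸ P.asIdeal) := torsionFree_aux F _
    let e : (T ⧸ P.asIdeal) →ₐ[F] Ω := IsAlgClosed.lift
    refine ⟨e.comp (Ideal.Quotient.mkₐ F P.asIdeal), ?_⟩
    ext a
    simp only [AlgHom.toRingHom_eq_coe, RingHom.mem_ker, AlgHom.coe_toRingHom, AlgHom.comp_apply,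
      Ideal.Quotient.mkₐ_eq_mk]
    rw [map_eq_zero_iff e e.toRingHom.injective, Ideal.Quotient.eq_zero_iff_mem]
  obtain ⟨ψP, hP⟩ := emb P
  obtain ⟨ψQ, hQ⟩ := emb Q
  let σ : (T →ₐ[F] Ω) → (L →ₐ[K] Ω) := fun ψ =>
    (ψ.restrictScalars K).comp Algebra.TensorProduct.includeRight
  let : Algebra L Ω := (σ ψP).toRingHom.toAlgebra
  have : IsScalarTower K L Ω := IsScalarTower.of_algebraMap_eq fun c => ((σ ψP).commutes c).symm
  obtain ⟨γ, hγ⟩ : ∃ γ : L ≃ₐ[K] L, ∀ l, σ ψP (γ l) = σ ψQ l := by
    refine ⟨Normal.algHomEquivAut K Ω L (σ ψQ), fun l => ?_⟩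
    have h := (Normal.algHomEquivAut K Ω L).symm_apply_apply (σ ψQ)
    exact congrFun (congrArg DFunLike.coe h) l
  refine ⟨γ, ?_⟩
  have hcomp : ∀ a : T, ψP (Algebra.TensorProduct.map (AlgHom.id K F) (γ : L →ₐ[K] L) a) = ψQ a := by
    intro a
    induction a using TensorProduct.induction_on with
    | zero => simp
    | add a b ha hb => simp only [map_add, ha, hb]
    | tmul c l =>
      have hs : (c ⊗ₜ[K] l : T) = c • ((1 : F) ⊗ₜ[K] l) := by
        rw [TensorProduct.smul_tmul', smul_eq_mul, mul_one]
      have hs' : (c ⊗ₜ[K] γ l : T) = c • ((1 : F) ⊗ₜ[K] γ l) := by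
        rw [TensorProduct.smul_tmul', smul_eq_mul, mul_one]
      rw [Algebra.TensorProduct.map_tmul]
      show ψP (c ⊗ₜ[K] γ l) = _
      rw [hs, hs', map_smul, map_smul]
      exact congrArg (c • ·) (hγ l)
  ext a
  rw [Ideal.mem_comap, ← hP, ← hQ, RingHom.mem_ker, RingHom.mem_ker]
  exact iff_of_eq (congrArg (· = 0) (hcomp a).symm)

end Groth.Agent.S19477
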