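import Groth.Statements.S19479
import Groth.Agent.Hopf.Semisimple

set_option autoImplicit false
universe u v w
open HopfRep

namespace Groth.Agent.S19479

open TensorProduct in
/-- Let K be a field, C a K-coalgebra and V a right C-comodule. The following are equivalent: (i) V is
the internal direct sum of a family of simple subcomodules, i.e. there is an independent family of
subcomodules W_i with sum V, each W_i nonzero and having no subcomodules inside it other than 0 and
W_i; (ii) every subcomodule of V has a complementary subcomodule. A subcomodule is a subspace W
whose coaction lands in the image of W ⊗ C. (The source states this for left comodules; a left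
comodule over C is a right comodule over the co-opposite coalgebra, so the statement is the same.) -/
theorem result {K : Type u} {C : Type v} [Field K]
    [AddCommGroup C] [Module K C] [Coalgebra K C] (V : Type w) [AddCommGroup V] [Module K V] [HopfRep.Comod K C V] :
    (∃ (ι : Type w) (W : ι → Submodule K V), iSupIndep W ∧ iSup W = ⊤ ∧ ∀ i,
        HopfRep.IsSubcomod (k := K) (A := C) (W i) ∧ W i ≠ ⊥ ∧
          ∀ W' : Submodule K V, HopfRep.IsSubcomod (k := K) (A := C) W' → W' ≤ W i → W' = ⊥ ∨ W' = W i) ↔
      HopfRep.IsSemisimpleComod K C V := by
  constructor
  · rintro ⟨ι, W, -, hsum, h⟩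
    exact ComodLib.isSemisimpleComod_of_sum_simple W (fun i => (h i).1) (fun i => (h i).2) hsum
  · intro h
    obtain ⟨ι, S, hi, hs, h⟩ := ComodLib.exists_decomposition C h
    exact ⟨ι, S, hi, hs, h⟩

end Groth.Agent.S19479
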