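import Groth.Statements.S5776
import Groth.Agent.Ega4Algebra2.RegSeq

set_option autoImplicit false
universe u
open EGA41

namespace Groth.Agent.S5776

open scoped Pointwise

theorem mem_smul_top {A : Type u} [CommRing A] {M : Type u} [AddCommGroup M] [Module A M] (a : A) (y : M) :
    a • y ∈ a • (⊤ : Submodule A M) :=
  Submodule.smul_mem_pointwise_smul y a ⊤ Submodule.mem_top

open RingTheory.Sequence in
theorem pow_head (A : Type u) [CommRing A] (M : Type u) [AddCommGroup M] [Module A M] (x : A) (rs : List A)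
    (hx : IsSMulRegular M x) (h : IsWeaklyRegular (QuotSMulTop x M) rs) :
    ∀ m : ℕ, IsWeaklyRegular (QuotSMulTop (x ^ (m + 1)) M) rs := by
  intro m
  induction m with
  | zero => rw [zero_add, pow_one]; exact h
  | succ m ih =>
    have hle1 : x • (⊤ : Submodule A M) ≤
        (x ^ (m + 1 + 1) • (⊤ : Submodule A M)).comap (LinearMap.lsmul A M (x ^ (m + 1))) := by
      intro y hy
      obtain ⟨z, -, rfl⟩ := (Submodule.mem_smul_pointwise_iff_exists _ _ _).mp hy
      rw [Submodule.mem_comap, LinearMap.lsmul_apply, smul_smul, ← pow_succ]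
      exact mem_smul_top _ _
    have hle2 : x ^ (m + 1 + 1) • (⊤ : Submodule A M) ≤ x ^ (m + 1) • (⊤ : Submodule A M) := by
      intro y hy
      obtain ⟨z, -, rfl⟩ := (Submodule.mem_smul_pointwise_iff_exists _ _ _).mp hy
      rw [show x ^ (m + 1 + 1) • z = x ^ (m + 1) • (x • z) by rw [← mul_smul, ← pow_succ]]
      exact mem_smul_top _ _
    refine Groth.Ega4b.isWeaklyRegular_middle (Submodule.mapQ _ _ (LinearMap.lsmul A M (x ^ (m + 1))) hle1)
      (Submodule.factor hle2) ?_ ?_ ?_ h ih
    · refine (injective_iff_map_eq_zero _).mpr fun y hy => ?_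
      obtain ⟨y, rfl⟩ := Submodule.Quotient.mk_surjective _ y
      rw [Submodule.mapQ_apply, Submodule.Quotient.mk_eq_zero] at hy
      obtain ⟨z, -, hz⟩ := (Submodule.mem_smul_pointwise_iff_exists _ _ _).mp hy
      rw [Submodule.Quotient.mk_eq_zero]
      have : y = x • z := ((hx.pow (m + 1)) (show x ^ (m + 1) • (x • z) = x ^ (m + 1) • y by
        rw [← mul_smul, ← pow_succ]; exact hz)).symm
      exact this ▸ mem_smul_top _ _
    · intro y
      obtain ⟨y, rfl⟩ := Submodule.Quotient.mk_surjective _ y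
      exact ⟨Submodule.Quotient.mk y, rfl⟩
    · intro y
      obtain ⟨y, rfl⟩ := Submodule.Quotient.mk_surjective _ y
      constructor
      · intro hy
        rw [show Submodule.factor hle2 (Submodule.Quotient.mk y) = Submodule.Quotient.mk y from rfl,
          Submodule.Quotient.mk_eq_zero] at hy
        obtain ⟨z, -, rfl⟩ := (Submodule.mem_smul_pointwise_iff_exists _ _ _).mp hy
        exact ⟨Submodule.Quotient.mk z, rfl⟩
      · rintro ⟨z, hz⟩
        obtain ⟨z, rfl⟩ := Submodule.Quotient.mk_surjective _ z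
        rw [← hz]
        show (Submodule.Quotient.mk (x ^ (m + 1) • z) : M ⧸ x ^ (m + 1) • (⊤ : Submodule A M)) = 0
        rw [Submodule.Quotient.mk_eq_zero]
        exact mem_smul_top _ _

open RingTheory.Sequence in
theorem aux (A : Type u) [CommRing A] : ∀ (n : ℕ) (M : Type u) [AddCommGroup M] [Module A M] (f : Fin n → A)
    (v : Fin n → ℕ), (∀ i, 1 ≤ v i) → IsWeaklyRegular M (List.ofFn f) →
      IsWeaklyRegular M (List.ofFn fun i => f i ^ v i) := by
  intro n
  induction n with
  | zero => intro M _ _ f v _ _; simp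
  | succ n ih =>
    intro M _ _ f v hv hf
    rw [List.ofFn_succ, isWeaklyRegular_cons_iff] at hf ⊢
    obtain ⟨m, hm⟩ : ∃ m, v 0 = m + 1 := ⟨v 0 - 1, by have := hv 0; omega⟩
    refine ⟨hf.1.pow _, ?_⟩
    refine ih (QuotSMulTop (f 0 ^ v 0) M) (fun i => f i.succ) (fun i => v i.succ) (fun i => hv _) ?_
    rw [hm]
    exact pow_head A M (f 0) _ hf.1 hf.2 m


/-- Let A be a ring, M an A-module and (f_i)_{1 ≤ i ≤ n} an M-regular sequence of elements of A. Then
for any exponents v_i ≥ 1 the sequence (f_i ^ v_i) is again M-regular. -/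
theorem result (A : Type u) [CommRing A] (M : Type u) [AddCommGroup M]
    [Module A M] (n : ℕ) (f : Fin n → A) (v : Fin n → ℕ) (hv : ∀ i, 1 ≤ v i)
    (hf : RingTheory.Sequence.IsWeaklyRegular M (List.ofFn f)) :
    RingTheory.Sequence.IsWeaklyRegular M (List.ofFn fun i => f i ^ v i) := by
  exact aux A n M f v hv hf

end Groth.Agent.S5776
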