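import Groth.Statements.S19480
import Groth.Agent.Misc8.FrobRoot
import Groth.Agent.S5776
import Mathlib.RingTheory.Regular.Flat
import Mathlib.RingTheory.Smooth.Basic
import Mathlib.RingTheory.Flat.Basic

set_option autoImplicit false
set_option linter.style.haveILetI false
open CategoryTheory AlgebraicGeometry MvPolynomial
universe u
open Quiet

namespace Groth.Agent.S19480

theorem isPushout_quotientMap {P Q : Type u} [CommRing P] [CommRing Q] (f : P →+* Q) (J : Ideal P) :
    IsPushout (CommRingCat.ofHom f) (CommRingCat.ofHom (Ideal.Quotient.mk J))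
      (CommRingCat.ofHom (Ideal.Quotient.mk (J.map f)))
      (CommRingCat.ofHom (Ideal.quotientMap (J.map f) f Ideal.le_comap_map)) := by
  have w : CommRingCat.ofHom f ≫ CommRingCat.ofHom (Ideal.Quotient.mk (J.map f)) =
      CommRingCat.ofHom (Ideal.Quotient.mk J) ≫
        CommRingCat.ofHom (Ideal.quotientMap (J.map f) f Ideal.le_comap_map) := by
    ext x; simp
  refine ⟨⟨w⟩, ⟨Limits.PushoutCocone.IsColimit.mk w (fun s => CommRingCat.ofHom
    (Ideal.Quotient.lift (J.map f) s.inl.hom ?_)) ?_ ?_ ?_⟩⟩
  · have hle : J.map f ≤ RingHom.ker s.inl.hom := Ideal.map_le_iff_le_comap.mpr fun j hj => by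
      have h1 := congr($(s.condition).hom j)
      simp only [CommRingCat.hom_comp, RingHom.comp_apply, CommRingCat.hom_ofHom] at h1
      rw [Ideal.mem_comap, RingHom.mem_ker]
      exact h1.trans (by rw [Ideal.Quotient.eq_zero_iff_mem.mpr hj, map_zero])
    exact fun a ha => hle ha
  · intro s
    ext x; simp
  · intro s
    apply CommRingCat.hom_ext
    refine Ideal.Quotient.ringHom_ext (RingHom.ext fun x => ?_)
    have h1 := congr($(s.condition).hom x)
    simp only [CommRingCat.hom_comp, RingHom.comp_apply, CommRingCat.hom_ofHom] at h1 ⊢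
    simpa using h1
  · intro s m h1 h2
    apply CommRingCat.hom_ext
    refine Ideal.Quotient.ringHom_ext (RingHom.ext fun x => ?_)
    have h := congr($(h1).hom x)
    simpa using h

theorem regular_map {P Q : Type u} [CommRing P] [CommRing Q] (f : P →+* Q) (hf : f.FaithfullyFlat) {rs : List P}
    (h : RingTheory.Sequence.IsRegular P rs) : RingTheory.Sequence.IsRegular Q (rs.map f) := by
  algebraize [f]
  exact RingTheory.Sequence.IsRegular.of_faithfullyFlat (S := Q) h

open RingTheory.Sequence in
theorem regular_pow {P : Type u} [CommRing P] (p : ℕ) [Fact p.Prime] [CharP P p]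
    (hF : (frobenius P p).FaithfullyFlat) (n m : ℕ) (t : Fin n → P) (v : Fin m → P)
    (ht : IsWeaklyRegular P (List.ofFn t))
    (hv : IsRegular (P ⧸ Ideal.span (Set.range fun i => t i ^ p))
      (List.ofFn fun j => Ideal.Quotient.mk (Ideal.span (Set.range fun i => t i ^ p)) (v j))) :
    IsRegular P (List.ofFn (fun i => t i ^ (p ^ 2)) ++ List.ofFn (fun j => v j ^ p)) := by
  let J : Ideal P := Ideal.span (Set.range fun i => t i ^ p)
  have hJ : Ideal.ofList (List.ofFn fun i => t i ^ p) = J := by
    refine congrArg Ideal.span (Set.ext fun a => ?_)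
    simp [List.mem_ofFn]
  let e : (P ⧸ J) ≃ₗ[P] P ⧸ (Ideal.ofList (List.ofFn fun i => t i ^ p) • (⊤ : Submodule P P)) :=
    Submodule.quotEquivOfEq _ _ (by simp [hJ])
  have hv' : IsWeaklyRegular (P ⧸ J) (List.ofFn v) := by
    have h := hv.toIsWeaklyRegular
    rw [show (List.ofFn fun j => Ideal.Quotient.mk J (v j)) = (List.ofFn v).map (algebraMap P (P ⧸ J)) by
      rw [List.map_ofFn]; rfl] at h
    exact (isWeaklyRegular_map_algebraMap_iff (P ⧸ J) (P ⧸ J) _).mp h
  have hw : IsWeaklyRegular P (List.ofFn (fun i => t i ^ p) ++ List.ofFn v) := by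
    refine (isWeaklyRegular_append_iff _ _ _).mpr
      ⟨Groth.Agent.S5776.result P P n t _ (fun _ => (Fact.out : p.Prime).one_le) ht, ?_⟩
    exact (e.isWeaklyRegular_congr _).mp hv'
  have hr : IsRegular P (List.ofFn (fun i => t i ^ p) ++ List.ofFn v) := by
    refine ⟨hw, fun h => hv.top_ne_smul ?_⟩
    rw [Ideal.smul_top_eq_map, Algebra.algebraMap_self, Ideal.map_id] at h ⊢
    have h' := congrArg (Ideal.map (Ideal.Quotient.mk J)) h
    rw [Submodule.restrictScalars_self] at h'
    rw [Submodule.restrictScalars_self]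
    rw [Ideal.ofList_append, Ideal.map_sup, Ideal.map_top, hJ, Ideal.map_quotient_self, bot_sup_eq, Ideal.map_ofList,
      List.map_ofFn] at h'
    exact h'
  have h := regular_map _ hF hr
  simpa [List.map_ofFn, Function.comp_def, RingHom.algebraMap_toAlgebra, frobenius_def, ← pow_mul, sq] using h


/-- Let k be a perfect field of prime characteristic p, A a smooth k-algebra of characteristic p and
t_1, …, t_n a regular sequence in A, so that A₀ = A/(t_1^p, …, t_n^p) is a p-good algebra when A has
a system of parameters; let v_1, …, v_m ∈ A[Y_1, …, Y_r] have images forming a regular sequence in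
A₀[Y_1, …, Y_r], and put B_0 = A[Y]/(t_1^p, …, t_n^p, v_1, …, v_m). Identify A^{1/p} with A as a
ring, so that u_i = t_i^p and the Frobenius x ↦ x^p of A[Y] carries the ideal (t_i^p, v_j) into
(u_i^p, v_j^p) = (t_i^{p²}, v_j^p). Then: (ii) (t_1^{p²}, …, t_n^{p²}, v_1^p, …, v_m^p) is a regular
sequence in A[Y]; (iii) the induced ring map β : B_0 → B = A[Y]/(t_i^{p²}, v_j^p) is faithfully flat
and Spec β is an extraction of p-th roots, i.e. every point of Spec B_0 has an affine open
neighbourhood with affine preimage over which the ring map is a tower of finitely many elementary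
extractions R → R[x]/(x^p − a). (The published statement also assumes B_0 faithfully flat and
syntomic over A₀ and A good; these are not used for (ii) and (iii) and are not assumed here. The v_j
are taken in A[Y] rather than in A₀[Y], which is how their p-th powers in A^{1/p}[Y] are meant.) -/
theorem result (p : ℕ) [Fact p.Prime]
    (k : Type u) [Field k] [CharP k p] [PerfectRing k p] (A : Type u) [CommRing A] [Algebra k A]
    [CharP A p] [Algebra.Smooth k A] (n : ℕ) (t : Fin n → A) (ht : RingTheory.Sequence.IsRegular A (List.ofFn t))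
    (r m : ℕ) (v : Fin m → MvPolynomial (Fin r) A)
    (hv : RingTheory.Sequence.IsRegular
      (MvPolynomial (Fin r) A ⧸ Ideal.span (Set.range fun i => C (t i) ^ p))
      (List.ofFn fun j => Ideal.Quotient.mk (Ideal.span (Set.range fun i => C (t i) ^ p)) (v j))) :
    RingTheory.Sequence.IsRegular (MvPolynomial (Fin r) A)
        (List.ofFn (fun i => C (t i) ^ (p ^ 2)) ++ List.ofFn (fun j => v j ^ p)) ∧
      (Ideal.quotientMap ((Ideal.span (Set.range (fun i => C (t i) ^ p) ∪ Set.range v)).map (frobenius (MvPolynomial (Fin r) A) p)) (frobenius (MvPolynomial (Fin r) A) p) Ideal.le_comap_map).FaithfullyFlat ∧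
      Quiet.IsPthRoot p (Spec.map (CommRingCat.ofHom (Ideal.quotientMap ((Ideal.span (Set.range (fun i => C (t i) ^ p) ∪ Set.range v)).map (frobenius (MvPolynomial (Fin r) A) p)) (frobenius (MvPolynomial (Fin r) A) p) Ideal.le_comap_map))) := by
  haveI : Nontrivial A := CharP.nontrivial_of_char_ne_one (Fact.out : p.Prime).ne_one
  haveI : Algebra.Smooth A (MvPolynomial (Fin r) A) := ⟨inferInstance, inferInstance⟩
  haveI : Algebra.Smooth k (MvPolynomial (Fin r) A) := Algebra.Smooth.comp k A _
  obtain ⟨hF, hroot⟩ := Groth.Misc8.FrobRoot.frobenius_smooth (p := p) k (MvPolynomial (Fin r) A)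
  refine ⟨regular_pow p hF n m (fun i => C (t i)) v ?_ hv, ?_, ?_⟩
  · have h := ht.toIsWeaklyRegular.of_flat (S := MvPolynomial (Fin r) A)
    rw [List.map_ofFn] at h
    exact h
  all_goals
    have H := isPushout_quotientMap (frobenius (MvPolynomial (Fin r) A) p)
      (Ideal.span (Set.range (fun i => C (t i) ^ p) ∪ Set.range v))
    have H' := isPullback_SpecMap_of_isPushout _ _ _ _ H
  · have hfs := (flat_and_surjective_SpecMap_iff (CommRingCat.ofHom (frobenius (MvPolynomial (Fin r) A) p))).mpr hF
    refine (flat_and_surjective_SpecMap_iff (CommRingCat.ofHom (Ideal.quotientMap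
      ((Ideal.span (Set.range (fun i => C (t i) ^ p) ∪ Set.range v)).map (frobenius (MvPolynomial (Fin r) A) p))
      (frobenius (MvPolynomial (Fin r) A) p) Ideal.le_comap_map))).mp ?_
    exact ⟨MorphismProperty.of_isPullback (P := @Flat) H' hfs.1,
      MorphismProperty.of_isPullback (P := @Surjective) H' hfs.2⟩
  · exact Groth.Misc8.RootTower.isPthRoot_of_isPullback H' hroot

end Groth.Agent.S19480
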