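import Groth.Statements.S19485
import Mathlib
import Groth.Agent.Misc6.QuadOrder
-- import your own Groth.Agent.* helpers here

set_option autoImplicit false
universe u
open Crimp

namespace Groth.Agent.S19485

/-- The criterion for closedness under multiplication on which the description of the stratum rests.
Over R = k⟦t⟧ with k an algebraically closed field of characteristic zero, let S̃ = k⟦x⟧ regarded as
an R-algebra through t ↦ x ^ 3, that is S̃ = R[x] / (x ^ 3 - t). Let m, n be natural numbers with m
not divisible by 3, and let g be a power series with nonzero constant term. Then the R-submodule of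
S̃ spanned by 1 and x ^ m g together with the ideal x ^ n S̃ is closed under multiplication if and
only if n ≤ 2m. (The published proposition goes on to describe the stratum of crimps with these
invariants as irreducible of dimension ⌊(n - m)/3⌋ with a normal form for g; only the closedness
criterion is stated here.) -/
theorem result {k : Type u} [Field k] [IsAlgClosed k] [CharZero k]
    (m n : ℕ) (hm : ¬ 3 ∣ m) (x g : W4c1hurwitzcpt.RootDisk 3 k)
    (hx : W4c1hurwitzcpt.RootDisk.val x = PowerSeries.X) (hg : PowerSeries.order (W4c1hurwitzcpt.RootDisk.val g) = 0)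
    (M : Submodule (PowerSeries k) (W4c1hurwitzcpt.RootDisk 3 k))
    (hM : M = Submodule.span (PowerSeries k) {1, x ^ m * g} ⊔
      (Ideal.span {x ^ n} : Ideal (W4c1hurwitzcpt.RootDisk 3 k)).restrictScalars (PowerSeries k)) :
    (∀ a ∈ M, ∀ b ∈ M, a * b ∈ M) ↔ n ≤ 2 * m := by
  subst hM
  constructor
  · intro h
    by_contra hlt
    have ha : x ^ m * g ∈ Submodule.span (PowerSeries k) {1, x ^ m * g} ⊔
        (Ideal.span {x ^ n} : Ideal (W4c1hurwitzcpt.RootDisk 3 k)).restrictScalars (PowerSeries k) :=
      Submodule.mem_sup_left (Submodule.subset_span (by simp))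
    obtain ⟨u, hu, v, hv, he⟩ := Submodule.mem_sup.1 (h _ ha _ ha)
    obtain ⟨c1, c2, rfl⟩ := Submodule.mem_span_pair.1 hu
    obtain ⟨z, rfl⟩ := Ideal.mem_span_singleton'.1 hv
    have h' := congrArg (fun w => (W4c1hurwitzcpt.RootDisk.val w).order) he
    simp only [map_add, map_mul, map_pow, hx] at h'
    rw [Groth.Misc6.rootDisk_val_smul, Groth.Misc6.rootDisk_val_smul, map_one, mul_one, map_mul, map_pow, hx] at h'
    have oR : ((PowerSeries.X : PowerSeries k) ^ m * W4c1hurwitzcpt.RootDisk.val g *
        ((PowerSeries.X : PowerSeries k) ^ m * W4c1hurwitzcpt.RootDisk.val g)).order = ((2 * m : ℕ) : ℕ∞) := by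
      simp [PowerSeries.order_mul, hg, two_mul]
    rw [oR] at h'
    set A := PowerSeries.expand 3 (NeZero.ne 3) c1 with hA
    set B := PowerSeries.expand 3 (NeZero.ne 3) c2 * ((PowerSeries.X : PowerSeries k) ^ m * W4c1hurwitzcpt.RootDisk.val g) with hB
    set C := W4c1hurwitzcpt.RootDisk.val z * (PowerSeries.X : PowerSeries k) ^ n with hC
    have oA : A.order = 3 • c1.order := PowerSeries.order_expand ..
    have oB : B.order = 3 • c2.order + (m : ℕ∞) := by simp [hB, PowerSeries.order_mul, hg, PowerSeries.order_expand]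
    have oC : ((2 * m : ℕ) : ℕ∞) < C.order := by
      refine lt_of_lt_of_le (Nat.cast_lt.2 (by omega : 2 * m < n)) ?_
      simp [hC, PowerSeries.order_mul]
    have hcases : ∀ c : ℕ∞, 3 • c = ⊤ ∨ ∃ j : ℕ, 3 • c = ((3 * j : ℕ) : ℕ∞) := by
      intro c
      cases c with
      | top => left; rw [nsmul_eq_mul, ENat.mul_top (by norm_num)]
      | coe j => right; exact ⟨j, by simp [nsmul_eq_mul]⟩
    have hne1 : A.order ≠ ((2 * m : ℕ) : ℕ∞) := by
      rw [oA]; rcases hcases c1.order with e | ⟨j, e⟩ <;> rw [e]
      · exact ENat.top_ne_natCast _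
      · rw [Ne, Nat.cast_inj]; omega
    have hne2 : B.order ≠ ((2 * m : ℕ) : ℕ∞) := by
      rw [oB]; rcases hcases c2.order with e | ⟨j, e⟩ <;> rw [e]
      · rw [top_add]; exact ENat.top_ne_natCast _
      · rw [← Nat.cast_add, Ne, Nat.cast_inj]; omega
    have hAB : (A + B).order ≠ ((2 * m : ℕ) : ℕ∞) := by
      rcases eq_or_ne A.order B.order with e | e
      · rcases hcases c1.order with e1 | ⟨j, e1⟩
        · rw [oA, e1] at e
          have := PowerSeries.min_order_le_order_add A B
          rw [oA, e1, ← e, min_self] at this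
          rw [top_le_iff.1 this]; exact ENat.top_ne_natCast _
        · rw [oA, oB, e1] at e
          rcases hcases c2.order with e2 | ⟨i, e2⟩ <;> rw [e2] at e
          · rw [top_add] at e; exact absurd e (ENat.natCast_ne_top _)
          · rw [← Nat.cast_add, Nat.cast_inj] at e; omega
      · rw [PowerSeries.order_add_of_order_ne _ _ e]
        rcases min_choice A.order B.order with h'' | h'' <;> rw [h'']
        exacts [hne1, hne2]
    rcases lt_trichotomy (A + B).order ((2 * m : ℕ) : ℕ∞) with hl | he' | hgt
    · rw [PowerSeries.order_add_of_order_ne _ _ (hl.trans oC).ne] at h'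
      exact hAB (le_antisymm hl.le (h'.ge.trans inf_le_left))
    · exact hAB he'
    · have := PowerSeries.min_order_le_order_add (A + B) C
      rw [h'] at this
      exact absurd this (not_le.2 (lt_min hgt oC))
  · intro hle a ha b hb
    obtain ⟨u, hu, v, hv, rfl⟩ := Submodule.mem_sup.1 ha
    obtain ⟨u', hu', v', hv', rfl⟩ := Submodule.mem_sup.1 hb
    obtain ⟨a1, a2, rfl⟩ := Submodule.mem_span_pair.1 hu
    obtain ⟨b1, b2, rfl⟩ := Submodule.mem_span_pair.1 hu'
    rw [Submodule.restrictScalars_mem] at hv hv'
    rw [show (a1 • 1 + a2 • (x ^ m * g) + v) * (b1 • 1 + b2 • (x ^ m * g) + v') =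
        ((a1 * b1) • (1 : W4c1hurwitzcpt.RootDisk 3 k) + (a1 * b2 + a2 * b1) • (x ^ m * g)) +
        ((a2 * b2) • (x ^ (2 * m) * (g * g)) + (v * (b1 • 1 + b2 • (x ^ m * g) + v') + (a1 • 1 + a2 • (x ^ m * g)) * v')) by
      simp only [Algebra.smul_def, map_mul, map_add, two_mul, pow_add]; ring]
    refine add_mem (Submodule.mem_sup_left (Submodule.mem_span_pair.2 ⟨_, _, rfl⟩)) (Submodule.mem_sup_right (Submodule.add_mem _ (Submodule.smul_mem _ _ ?_) ?_))
    · rw [Submodule.restrictScalars_mem, Ideal.mem_span_singleton]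
      exact (pow_dvd_pow x hle).mul_right _
    · rw [Submodule.restrictScalars_mem]
      exact add_mem (Ideal.mul_mem_right _ _ hv) (Ideal.mul_mem_left _ _ hv')

end Groth.Agent.S19485
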