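import Groth.Statements.S19486
import Mathlib
-- import your own Groth.Agent.* helpers here

set_option autoImplicit false
universe u
open Crimp

namespace Groth.Agent.S19486

/-- The emptiness of the stratum rests on the following computation. Over R = k⟦t⟧ with k an
algebraically closed field of characteristic zero, let S̃ = S̃₁ × R where S̃₁ = k⟦x⟧ is regarded as
an R-algebra through t ↦ x ^ 2, that is S̃₁ = R[x] / (x ^ 2 - t), with R embedded diagonally in the
product. Let m be odd, n > 2m, and let g be a power series with nonzero constant term. Then the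
R-submodule of S̃ spanned by 1 = (1, 1) and (x ^ m g, 0) together with the ideal x ^ n S̃₁ × 0 is
not closed under multiplication. (The published item concludes that the corresponding stratum of
crimps is empty; only this computation is stated here, with the ideal read as x ^ n S̃₁ × 0.) -/
theorem result {k : Type u} [Field k] [IsAlgClosed k] [CharZero k]
    (m n : ℕ) (hm : Odd m) (hmn : 2 * m < n) (x g : W4c1hurwitzcpt.RootDisk 2 k)
    (hx : W4c1hurwitzcpt.RootDisk.val x = PowerSeries.X) (hg : PowerSeries.order (W4c1hurwitzcpt.RootDisk.val g) = 0)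
    (M : Submodule (PowerSeries k) (W4c1hurwitzcpt.RootDisk 2 k × PowerSeries k))
    (hM : M = Submodule.span (PowerSeries k) {(1 : W4c1hurwitzcpt.RootDisk 2 k × PowerSeries k), (x ^ m * g, 0)} ⊔
      ((Ideal.span {x ^ n} : Ideal (W4c1hurwitzcpt.RootDisk 2 k)).restrictScalars (PowerSeries k)).prod ⊥) :
    ∃ a ∈ M, ∃ b ∈ M, a * b ∉ M := by
  subst hM
  set y : W4c1hurwitzcpt.RootDisk 2 k := x ^ m * g
  have ha : ((y, 0) : W4c1hurwitzcpt.RootDisk 2 k × PowerSeries k) ∈ Submodule.span (PowerSeries k) {(1 : W4c1hurwitzcpt.RootDisk 2 k × PowerSeries k), (y, 0)} ⊔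
      ((Ideal.span {x ^ n} : Ideal (W4c1hurwitzcpt.RootDisk 2 k)).restrictScalars (PowerSeries k)).prod ⊥ :=
    Submodule.mem_sup_left (Submodule.subset_span (by simp))
  refine ⟨_, ha, _, ha, fun h => ?_⟩
  obtain ⟨u, hu, ⟨v, w⟩, ⟨hv, hw⟩, he⟩ := Submodule.mem_sup.1 h
  obtain ⟨c1, c2, rfl⟩ := Submodule.mem_span_pair.1 hu
  obtain ⟨z, rfl⟩ := Ideal.mem_span_singleton'.1 hv
  simp only [SetLike.mem_coe, Submodule.mem_bot] at hw
  subst hw
  have h2 := congrArg Prod.snd he
  have h1 := congrArg Prod.fst he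
  simp at h2 h1
  subst h2
  rw [zero_smul, zero_add, Algebra.smul_def] at h1
  apply_fun W4c1hurwitzcpt.RootDisk.val at h1
  simp only [map_add, map_mul, map_pow, hx, y] at h1
  have h1' := congrArg PowerSeries.order h1
  have hE : W4c1hurwitzcpt.RootDisk.val (algebraMap (PowerSeries k) (W4c1hurwitzcpt.RootDisk 2 k) c2) =
      PowerSeries.expand 2 (by norm_num) c2 := rfl
  rw [hE] at h1'
  have oR : ((PowerSeries.X : PowerSeries k) ^ m * W4c1hurwitzcpt.RootDisk.val g *
      ((PowerSeries.X : PowerSeries k) ^ m * W4c1hurwitzcpt.RootDisk.val g)).order = ((2 * m : ℕ) : ℕ∞) := by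
    simp [PowerSeries.order_mul, hg, two_mul]
  have o1 : (PowerSeries.expand 2 (by norm_num) c2 * ((PowerSeries.X : PowerSeries k) ^ m * W4c1hurwitzcpt.RootDisk.val g)).order =
      2 • c2.order + (m : ℕ∞) := by
    simp [PowerSeries.order_mul, hg, PowerSeries.order_expand]
  have o2 : ((2 * m : ℕ) : ℕ∞) < (W4c1hurwitzcpt.RootDisk.val z * (PowerSeries.X : PowerSeries k) ^ n).order := by
    refine lt_of_lt_of_le (Nat.cast_lt.2 hmn) ?_
    simp [PowerSeries.order_mul]
  rw [oR] at h1'
  have hne : 2 • c2.order + (m : ℕ∞) ≠ ((2 * m : ℕ) : ℕ∞) := by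
    intro e
    cases hc : c2.order with
    | top =>
      rw [hc, nsmul_eq_mul, ENat.mul_top (by norm_num), top_add] at e
      exact ENat.top_ne_natCast _ e
    | coe j =>
      rw [hc] at e
      have e' : 2 * j + m = 2 * m := by
        rw [nsmul_eq_mul] at e; exact_mod_cast e
      obtain ⟨i, rfl⟩ := hm; omega
  rcases lt_trichotomy (2 • c2.order + (m : ℕ∞)) ((2 * m : ℕ) : ℕ∞) with hlt | heq | hgt
  · have e := PowerSeries.order_add_of_order_ne _ _ (o1.trans_lt (hlt.trans o2)).ne
    exact hne (le_antisymm hlt.le ((h1'.symm.trans e).le.trans (inf_le_left.trans o1.le)))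
  · exact hne heq
  · have := PowerSeries.min_order_le_order_add (PowerSeries.expand 2 (by norm_num) c2 * ((PowerSeries.X : PowerSeries k) ^ m * W4c1hurwitzcpt.RootDisk.val g)) (W4c1hurwitzcpt.RootDisk.val z * (PowerSeries.X : PowerSeries k) ^ n)
    rw [h1', o1] at this
    exact absurd this (not_le.2 (lt_min hgt o2))

end Groth.Agent.S19486
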