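import Groth.Statements.S19487
import Mathlib
-- import your own Groth.Agent.* helpers here

set_option autoImplicit false
open W4c1frobunstiva

namespace Groth.Agent.S19487

theorem sigmaExt {α A B : Type*} {pA : α → A → Prop} {pB : α → B → Prop} :
    ∀ (x y : Σ a, {f // pA a f} × {g // pB a g}), x.1 = y.1 → x.2.1.1 = y.2.1.1 → x.2.2.1 = y.2.2.1 → x = y := by
  rintro ⟨a, ⟨f, hf⟩, g, hg⟩ ⟨a', ⟨f', hf'⟩, g', hg'⟩ h1 h2 h3
  dsimp only at h1 h2 h3
  subst h1 h2 h3
  rfl

/-- The second formula. For p odd and natural numbers n, s, write N_p(n, s) for the number of monomials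
of degree s in n variables in which every variable occurs with a positive exponent strictly less
than p, that is of exponent vectors (e_1, …, e_n) with sum s and 1 ≤ e_i ≤ p − 1, and N_p^D(n, s)
for the number of those in which exactly D variables occur with exponent less than p/2. Then
N_p^D(n, s) = C(n, D) · Σ_j N_{(p+1)/2}(D, j) · N_{(p+1)/2}(n − D, s − j − (n − D)(p − 1)/2), the
sum running over 0 ≤ j ≤ s. (Natural-number subtraction is used in the last argument; when it
truncates and n > D the factor vanishes, as it should. The published setting has p an odd prime;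
only p odd is used. The companion inclusion–exclusion expression for N_p(n, s) itself is a separate
statement.) -/
theorem result (p n s D : ℕ) (hp : Odd p) :
    Fintype.card {e : Fin n → Fin p // (∀ i, 1 ≤ (e i : ℕ)) ∧ ∑ i, (e i : ℕ) = s ∧
        (Finset.univ.filter fun i => 2 * (e i : ℕ) < p).card = D} =
      n.choose D * ∑ j ∈ Finset.range (s + 1),
        Fintype.card {e : Fin D → Fin ((p + 1) / 2) // (∀ i, 1 ≤ (e i : ℕ)) ∧ ∑ i, (e i : ℕ) = j} *
          Fintype.card {e : Fin (n - D) → Fin ((p + 1) / 2) // (∀ i, 1 ≤ (e i : ℕ)) ∧ ∑ i, (e i : ℕ) = (s - j - (n - D) * ((p - 1) / 2))} := by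
  classical
  obtain ⟨c, hc⟩ := hp
  have e1 : (p + 1) / 2 = c + 1 := by omega
  have e2 : (p - 1) / 2 = c := by omega
  rw [e1, e2]
  subst hc
  by_cases hD : n < D
  · rw [Nat.choose_eq_zero_of_lt hD, zero_mul, Fintype.card_eq_zero_iff]
    exact ⟨fun e => by
      have h := e.2.2.2
      have h' : (Finset.univ.filter fun i => 2 * ((e.1 i : ℕ)) < 2 * c + 1).card ≤ n := by
        simpa using Finset.card_le_univ (Finset.univ.filter fun i => 2 * ((e.1 i : ℕ)) < 2 * c + 1)
      omega⟩
  push_neg at hD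
  let N : (ι : Type) → [Fintype ι] → [DecidableEq ι] → ℕ → ℕ := fun ι _ _ j => Fintype.card {e : ι → Fin (c + 1) // (∀ i, 1 ≤ (e i : ℕ)) ∧ ∑ i, (e i : ℕ) = j}
  have hN : ∀ (ι κ : Type) [Fintype ι] [DecidableEq ι] [Fintype κ] [DecidableEq κ] (E : ι ≃ κ) (j : ℕ), N ι j = N κ j := by
    intro ι κ _ _ _ _ E j
    refine Fintype.card_congr (Equiv.subtypeEquiv (Equiv.arrowCongr E (Equiv.refl _)) fun e => ?_)
    simp only [Equiv.arrowCongr_apply, Equiv.coe_refl, Function.comp_apply, id]
    rw [E.symm.forall_congr_left (p := fun i => 1 ≤ (e (E.symm i) : ℕ)), Equiv.sum_comp E.symm (fun i => (e i : ℕ))]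
    simp
  have fib : ∀ S : Finset (Fin n), S.card = D →
      Fintype.card {e : Fin n → Fin (2 * c + 1) // (∀ i, 1 ≤ (e i : ℕ)) ∧ ∑ i, (e i : ℕ) = s ∧
        (Finset.univ.filter fun i => 2 * (e i : ℕ) < 2 * c + 1) = S} =
      ∑ j ∈ Finset.range (s + 1), N (Fin D) j * N (Fin (n - D)) (s - j - (n - D) * c) := by
    intro S hS
    have hS' : (Sᶜ).card = n - D := by rw [Finset.card_compl, Fintype.card_fin, hS]
    simp_rw [← hN _ _ (S.equivFinOfCardEq hS), ← hN _ _ (Sᶜ.equivFinOfCardEq hS')]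
    rw [← Fin.sum_univ_eq_sum_range (fun j => N S j * N (Sᶜ : Finset (Fin n)) (s - j - (n - D) * c))]
    simp only [N]
    simp_rw [← Fintype.card_prod]
    rw [← Fintype.card_sigma]
    have hlo : ∀ (e : Fin n → Fin (2 * c + 1)), (Finset.univ.filter fun i => 2 * (e i : ℕ) < 2 * c + 1) = S →
        ∀ i, i ∈ S ↔ (e i : ℕ) ≤ c := by
      intro e he i; rw [← he]; simp <;> omega
    have hsplit : ∀ (g : Fin n → ℕ), ∑ i, g i = ∑ i : S, g i + ∑ i : (Sᶜ : Finset (Fin n)), g i := by
      intro g; rw [Finset.sum_coe_sort, Finset.sum_coe_sort, Finset.sum_add_sum_compl]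
    refine (Fintype.card_congr ?_).trans rfl
    refine
      { toFun := fun e => ⟨⟨∑ i : S, (e.1 i : ℕ), ?qa⟩,
          ⟨fun i => ⟨(e.1 i : ℕ), ?qb⟩, ⟨?qd, rfl⟩⟩, ⟨fun i => ⟨(e.1 i : ℕ) - c, ?qf⟩, ⟨?qg, ?qh⟩⟩⟩
        invFun := fun w => ⟨fun i => if h : i ∈ S then ⟨(w.2.1.1 ⟨i, h⟩ : ℕ), ?qi⟩
            else ⟨(w.2.2.1 ⟨i, Finset.mem_compl.2 h⟩ : ℕ) + c, ?qj⟩, ?ql⟩
        left_inv := ?qm, right_inv := ?qo }
    case qa => have := hsplit (fun i => (e.1 i : ℕ)); have := e.2.2.1; omega
    case qb => have := (hlo _ e.2.2.2 i).1 i.2; omega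
    case qd => exact fun i => e.2.1 i
    case qf => have := (e.1 i).isLt; omega
    case qg =>
      intro i
      have : ¬ (e.1 i : ℕ) ≤ c := fun h => Finset.mem_compl.1 i.2 ((hlo _ e.2.2.2 i).2 h)
      simp only; omega
    case qh =>
      have h1 := hsplit (fun i => (e.1 i : ℕ))
      have h2 := e.2.2.1
      have h3 : ∑ i : (Sᶜ : Finset (Fin n)), ((e.1 i : ℕ) - c) + ∑ _i : (Sᶜ : Finset (Fin n)), c = ∑ i : (Sᶜ : Finset (Fin n)), (e.1 i : ℕ) := by
        rw [← Finset.sum_add_distrib]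
        refine Finset.sum_congr rfl fun i _ => ?_
        have : ¬ (e.1 i : ℕ) ≤ c := fun h => Finset.mem_compl.1 i.2 ((hlo _ e.2.2.2 i).2 h)
        omega
      rw [Finset.sum_const, Finset.card_univ, Fintype.card_coe, hS', smul_eq_mul] at h3
      simp only at h1 ⊢
      omega
    case qi => have := (w.2.1.1 ⟨i, h⟩).isLt; omega
    case qj => have := (w.2.2.1 ⟨i, Finset.mem_compl.2 h⟩).isLt; omega
    case ql =>
      refine ⟨fun i => ?_, ?_, ?_⟩
      · simp only
        split_ifs with h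
        · exact w.2.1.2.1 _
        · simp; have := w.2.2.2.1 ⟨i, Finset.mem_compl.2 h⟩; omega
      · rw [hsplit]
        have a1 := w.2.1.2.2
        have a2 := w.2.2.2.2
        have b1 : ∀ i : S, (i : Fin n) ∈ S := fun i => i.2
        have b2 : ∀ i : (Sᶜ : Finset (Fin n)), (i : Fin n) ∉ S := fun i => Finset.mem_compl.1 i.2
        simp only [b1, b2, dite_true, dite_false, Subtype.coe_eta, Finset.sum_add_distrib, a1, a2]
        rw [Finset.sum_const, Finset.card_univ, Fintype.card_coe, hS', smul_eq_mul]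
        have := w.1.isLt
        rcases Nat.eq_zero_or_pos (n - D) with h0 | h0
        · have : (n - D) * c = 0 := by simp [h0]
          omega
        · obtain ⟨i0, hi0⟩ : (Sᶜ).Nonempty := Finset.card_pos.1 (hS' ▸ h0)
          have := Finset.single_le_sum (f := fun i => (w.2.2.1 i : ℕ)) (fun i _ => Nat.zero_le _) (Finset.mem_univ ⟨i0, hi0⟩)
          have := w.2.2.2.1 ⟨i0, hi0⟩
          omega
      · ext i
        by_cases h : i ∈ S
        · have := (w.2.1.1 ⟨i, h⟩).isLt
          simp [h]; omega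
        · have := w.2.2.2.1 ⟨i, Finset.mem_compl.2 h⟩
          simp only [h, dite_false, Finset.mem_filter, Finset.mem_univ, true_and, iff_false, not_lt] at this ⊢; omega
    case qm =>
      intro e
      apply Subtype.ext
      funext i
      by_cases h : i ∈ S
      · simp [h]
      · have : ¬ (e.1 i : ℕ) ≤ c := fun h' => h ((hlo _ e.2.2.2 i).2 h')
        simp [h, Fin.ext_iff]; omega
    case qo =>
      rintro ⟨⟨j, hj⟩, ⟨f, hf⟩, ⟨g, hg⟩⟩
      have b1 : ∀ i : S, (i : Fin n) ∈ S := fun i => i.2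
      have b2 : ∀ i : (Sᶜ : Finset (Fin n)), (i : Fin n) ∉ S := fun i => Finset.mem_compl.1 i.2
      refine sigmaExt _ _ (Fin.ext ?_) ?_ ?_
      · simp [b1]; exact hf.2
      · funext i; simp [b1]
      · funext i; simp [b2]
  have hset : (Finset.univ.filter fun S : Finset (Fin n) => S.card = D) = Finset.powersetCard D Finset.univ := by
    ext S; simp
  calc _ = Fintype.card (Σ S : {S : Finset (Fin n) // S.card = D}, {e : Fin n → Fin (2 * c + 1) // (∀ i, 1 ≤ (e i : ℕ)) ∧ ∑ i, (e i : ℕ) = s ∧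
        (Finset.univ.filter fun i => 2 * (e i : ℕ) < 2 * c + 1) = S.1}) := Fintype.card_congr
          { toFun := fun e => ⟨⟨Finset.univ.filter (fun i => 2 * ((e.1 i : ℕ)) < 2 * c + 1), e.2.2.2⟩, ⟨e.1, e.2.1, e.2.2.1, rfl⟩⟩
            invFun := fun w => ⟨w.2.1, w.2.2.1, w.2.2.2.1, (congrArg Finset.card w.2.2.2.2).trans w.1.2⟩
            left_inv := fun e => rfl
            right_inv := by rintro ⟨⟨S, hS⟩, ⟨e, h1, h2, h3⟩⟩; change _ = S at h3; subst h3; rfl }
    _ = _ := by
      rw [Fintype.card_sigma, Finset.sum_congr rfl (fun S _ => fib S.1 S.2), Finset.sum_const, smul_eq_mul,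
        Finset.card_univ, Fintype.card_subtype, hset, Finset.card_powersetCard, Finset.card_univ, Fintype.card_fin]
      simp only [N]
      congr! 4

end Groth.Agent.S19487
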