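import Groth.Statements.S19488
import Groth.Agent.Misc7.ClosedImm.Modules

set_option autoImplicit false
universe u
open CategoryTheory CategoryTheory.Limits AlgebraicGeometry
open W4c1frobunstiva

namespace Groth.Agent.S19488

/-- Fix a closed immersion of schemes f : S → T, an O_T-module G, an O_S-module E and an epimorphism ψ :
G → f_*E. Then the morphism ψ′ : f^*G → E that corresponds to ψ under the adjunction between
pullback and pushforward (it is the pullback f^*ψ followed by the counit f^*f_*E → E, an isomorphism
for a closed immersion) is an epimorphism, and the canonical map f^*(ker ψ) → ker(f^*ψ) is an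
epimorphism. (The published statement takes G and E locally free, which these two assertions do not
use.) -/
theorem result
    {S T : Scheme.{u}} (f : S ⟶ T) [IsClosedImmersion f] (G : T.Modules) (E : S.Modules)
    (ψ : G ⟶ (Scheme.Modules.pushforward f).obj E) [Epi ψ] :
    Epi (((Scheme.Modules.pullbackPushforwardAdjunction f).homEquiv G E).symm ψ) ∧
      Epi (kernelComparison ψ (Scheme.Modules.pullback f)) := by
  let adj := Scheme.Modules.pullbackPushforwardAdjunction f
  haveI : (Scheme.Modules.pullback f).IsLeftAdjoint := adj.isLeftAdjoint
  haveI := Groth.Misc7.ClosedImm.isIso_counit (i := f)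
  constructor
  · rw [Adjunction.homEquiv_counit]
    infer_instance
  · haveI : (Scheme.Modules.pullback f).Additive := Functor.additive_of_preserves_binary_products _
    have w : kernel.ι ψ ≫ ψ = 0 := kernel.condition ψ
    have hE : (ShortComplex.mk (kernel.ι ψ) ψ w).Exact := ShortComplex.exact_of_f_is_kernel _ (kernelIsKernel ψ)
    let S := (ShortComplex.mk (kernel.ι ψ) ψ w).map (Scheme.Modules.pullback f)
    haveI : Epi (ShortComplex.mk (kernel.ι ψ) ψ w).g := ‹Epi ψ›
    have hS : S.Exact :=
      ShortComplex.exact_of_g_is_cokernel _ (CokernelCofork.mapIsColimit _ hE.gIsCokernel (Scheme.Modules.pullback f))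
    have h1 : Epi (kernel.lift S.g S.f S.zero) := hS.epi_kernelLift
    exact h1

end Groth.Agent.S19488
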