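import Groth.Statements.S1952
import Groth.Agent.CycInter.SectProd
import Groth.Agent.Calg6.CycleLinear

set_option autoImplicit false
universe u
open CategoryTheory CategoryTheory.Limits AlgebraicGeometry
attribute [local instance] HasDerivedCategory.standard
open IntMult
open Groth.CycInter Groth.CycInter.P1C Groth.CycInter.SectProd

namespace Groth.Agent.S1952

/-- Let α be a (k + 1)-cycle on P^1_X (X a nonsingular variety, P^1_X of dimension n + 1 with dimension
function δP) intersecting the divisors X × 0 and X × ∞ (the images of the two sections, as prime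
cycles) properly. Then pr_{X,*}(α · [X × 0] − α · [X × ∞]) ∼_rat 0 as a k-cycle on X (the source's
two distinct closed points a, b of P^1 are taken to be 0 and ∞), for any cycle on P^1_X with the
coefficients of α · [X × 0] − α · [X × ∞]. Here X is a nonsingular variety over the algebraically
closed field K (smooth, separated, quasi-compact, integral) with dimension function δ (transcendence
degree) and n = dim X; cycles are Mathlib AlgebraicCycles with Cyc.Zk membership, proper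
intersection is IntMult.IntersectProperly and α · β is the Tor-formula intersection product on
coefficient functions (IntMult.interProd), bundled where needed as 'any cycle with these
coefficients'. -/
theorem result (K : Type u) [Field K] [IsAlgClosed K] (X : Scheme.{u}) (f : X ⟶ Spec (CommRingCat.of K)) [Smooth f] [IsSeparated f] [QuasiCompact f] [IsIntegral X] (δ : X → ℤ) (hX : Cyc.IsSetup X δ) (hδ : Cyc.DeltaCompat f δ (fun _ => 0)) (n : ℤ) (hn : δ (genericPoint X) = n) (δP : ↥(CohB1.ProjSpaceOver 1 X) → ℤ) (hPX : Cyc.IsSetup (CohB1.ProjSpaceOver 1 X) δP) (hP : Cyc.DeltaCompat (CohB1.ProjSpaceOver.toBase 1 X) δP δ) [QuasiCompact (CohB1.ProjSpaceOver.toBase 1 X)] (k : ℤ) (α : AlgebraicCycle (CohB1.ProjSpaceOver 1 X) ℤ) (hα : α ∈ Cyc.Zk _ δP (k + 1)) (h0 : IntMult.IntersectProperly δP (n + 1) ⇑α (Set.indicator {P1.sect X 0 (genericPoint X)} 1)) (h1 : IntMult.IntersectProperly δP (n + 1) ⇑α (Set.indicator {P1.sect X 1 (genericPoint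 X)} 1)) (γ : AlgebraicCycle (CohB1.ProjSpaceOver 1 X) ℤ) (hγ : ⇑γ = IntMult.interProd δP (n + 1) ⇑α (Set.indicator {P1.sect X 0 (genericPoint X)} 1) - IntMult.interProd δP (n + 1) ⇑α (Set.indicator {P1.sect X 1 (genericPoint X)} 1)) : Cyc.RatEquivZero δ k (AlgebraicCycle.map (CohB1.ProjSpaceOver.toBase 1 X) δP δ γ) := by
  classical
  haveI : IsProper (CohB1.ProjSpaceOver.toBase 1 X) := Groth.Variety2.isProper_projSpaceOver_toBase _ _
  haveI := hPX.1
  let T (j : Fin (1 + 1)) (p : (CohB1.ProjSpaceOver 1 X)) (hp : p ∈ C X j) : (CohB1.ProjSpaceOver 1 X).residueField p :=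
    (CohB1.ProjSpaceOver 1 X).residue p (((CohB1.ProjSpaceOver 1 X).presheaf.germ (C X j) p hp).hom (t X j))
  let g : (ξ : (CohB1.ProjSpaceOver 1 X)) → (CohB1.ProjSpaceOver 1 X).residueField ξ := fun ξ => if h : ξ ∈ C X 0 ∧ ξ ∈ C X 1 then T 0 ξ h.1 else 1
  let m (j : Fin (1 + 1)) (ξ ζ : (CohB1.ProjSpaceOver 1 X)) : ℤ :=
    if ξ ⤳ ζ ∧ P1.sect X j (genericPoint X) ⤳ ζ ∧
        δP ξ + δP (P1.sect X j (genericPoint X)) - (n + 1) = δP ζ then
      IntMult.mult (IntMult.ptIdeal ξ) (IntMult.ptIdeal (P1.sect X j (genericPoint X))) ζ else 0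
  have hη : ∀ j, δP (P1.sect X j (genericPoint X)) = n := fun j => by rw [delta_sect hP, hn]
  have hmul : ∀ (p : (CohB1.ProjSpaceOver 1 X)) (hp : p ∈ C X 0) (hp' : p ∈ C X 1), T 0 p hp * T 1 p hp' = 1 := fun p hp hp' => by
    show (CohB1.ProjSpaceOver 1 X).residue p _ * (CohB1.ProjSpaceOver 1 X).residue p _ = 1
    rw [← map_mul]
    exact (congrArg _ (germ_t_mul X 0 p hp hp')).trans (map_one _)
  have hg : ∀ ξ, g ξ ≠ 0 := fun ξ => by
    by_cases h : ξ ∈ C X 0 ∧ ξ ∈ C X 1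
    · simp only [g, dif_pos h]
      exact left_ne_zero_of_mul_eq_one (hmul ξ h.1 h.2)
    · simp only [g, dif_neg h]
      exact one_ne_zero
  have hsupp : ∀ ξ, α ξ ≠ 0 → δP ξ = k + 1 := fun ξ h => by_contra fun hh => h (hα _ hh)
  have hgen : ∀ ξ, α ξ ≠ 0 → ∀ j : Fin (1 + 1),
      IntMult.IntersectProperly δP (n + 1) ⇑α (Set.indicator {P1.sect X j (genericPoint X)} 1) →
      ξ ∈ C X (oth j) := fun ξ hξ j hj => by_contra fun hc => by
    have h2 := hj ξ (P1.sect X j (genericPoint X)) ξ hξ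
      (by rw [Set.indicator_of_mem (Set.mem_singleton _)]; exact one_ne_zero) (specializes_refl ξ)
      ((sect_specializes_iff j ξ).mpr hc)
    rw [hη j] at h2
    omega
  have key : ∀ ξ ζ, α ξ ≠ 0 → m 0 ξ ζ - m 1 ξ ζ = Cyc.divFun δP ξ (g ξ) ζ := by
    intro ξ ζ hξ
    have hC : ξ ∈ C X 0 ∧ ξ ∈ C X 1 := ⟨hgen ξ hξ 1 h1, hgen ξ hξ 0 h0⟩
    by_cases hd : ξ ⤳ ζ ∧ δP ζ + 1 = δP ξ
    swap
    · have hz : ∀ j, m j ξ ζ = 0 := fun j => if_neg fun hh => hd ⟨hh.1, by
        have := hh.2.2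
        rw [hη j] at this
        omega⟩
      rw [hz, hz, Cyc.divFun, dif_neg hd, sub_zero]
    obtain ⟨hs, hd'⟩ := hd
    rw [Cyc.divFun, dif_pos (show ξ ⤳ ζ ∧ δP ζ + 1 = δP ξ from ⟨hs, hd'⟩)]
    have hspec : ∀ j (hj : ζ ∈ C X j) (hj' : ξ ∈ C X j),
        Cyc.specMap ζ ξ hs (((CohB1.ProjSpaceOver 1 X).presheaf.germ (C X j) ζ hj).hom (t X j)) = T j ξ hj' := fun j hj hj' => by
      show (CohB1.ProjSpaceOver 1 X).residue ξ (((CohB1.ProjSpaceOver 1 X).presheaf.stalkSpecializes hs).hom _) = _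
      rw [TopCat.Presheaf.germ_stalkSpecializes_apply]
    have hnot : ∀ j (hj : ζ ∈ C X j) (hj' : ξ ∈ C X j) (hT : T j ξ hj' ≠ 0),
        ((CohB1.ProjSpaceOver 1 X).presheaf.germ (C X j) ζ hj).hom (t X j) ∉ (Groth.Cycles.genPrime hs).asIdeal :=
      fun j hj hj' hT hh => hT (by
        rw [Groth.Cycles.genPrime_asIdeal, RingHom.mem_ker, hspec j hj hj'] at hh
        exact hh)
    have hT0 : T 0 ξ hC.1 ≠ 0 := left_ne_zero_of_mul_eq_one (hmul ξ hC.1 hC.2)
    have hT1 : T 1 ξ hC.2 ≠ 0 := right_ne_zero_of_mul_eq_one (hmul ξ hC.1 hC.2)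
    have hmc : ∀ j : Fin (1 + 1), ζ ∈ C X (oth j) → m j ξ ζ = 0 := fun j hj =>
      if_neg fun hh => (sect_specializes_iff j ζ).mp hh.2.1 hj
    have hord : ∀ j (hj : ζ ∈ C X j) (hj' : ξ ∈ C X j) (hT : T j ξ hj' ≠ 0),
        Cyc.ordAt ζ ξ hs (T j ξ hj') = m j ξ ζ := fun j hj hj' hT => by
      rw [← hspec j hj hj', ordAt_specMap hPX.2.2 hs hd' _ (hnot j hj hj' hT)]
      by_cases hjo : ζ ∈ C X (oth j)
      · rw [hmc j hjo, Ideal.span_singleton_eq_top.mpr ((isUnit_germ_t_iff X j ζ hj).mpr hjo), sup_top_eq]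
        haveI : Subsingleton ((CohB1.ProjSpaceOver 1 X).presheaf.stalk ζ ⧸ (⊤ : Ideal ((CohB1.ProjSpaceOver 1 X).presheaf.stalk ζ))) :=
          Ideal.Quotient.subsingleton_iff.mpr rfl
        rw [Module.length_eq_zero]
        rfl
      · simp only [m]
        rw [if_pos ⟨hs, (sect_specializes_iff j ζ).mpr hjo, by rw [hη j]; omega⟩,
          mult_sect hs j hjo hj (hnot j hj hj' hT)]
    simp only [g, dif_pos hC]
    rcases mem_C_or X ζ 0 with hζ | hζ
    · rw [hord 0 hζ hC.1 hT0, hmc 1 hζ, sub_zero]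
    · have hsum := Groth.Cycles.ordAt_mul hPX (x := ζ) (ξ := ξ) ⟨hs, hd'⟩ hT0 hT1
      rw [hmul ξ hC.1 hC.2, Groth.Cycles.ordAt_one hPX ⟨hs, hd'⟩, hord 1 hζ hC.2 hT1] at hsum
      rw [hmc 0 hζ, zero_sub]
      omega
  refine Groth.Cycles.ratEquivZero_map δP δ hPX hX _ hP k γ ?_
  refine Groth.CycInter.ratEquivZero_of_ratZeroOn (Z := Set.univ) hPX
    ((Groth.CycInter.ratZeroOn_of_points hPX ⇑α
      (fun V hV => α.locallyFiniteSupport.finite_inter_support_of_isCompact hV.isCompact)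
      hsupp g hg fun ξ _ _ => Set.mem_univ ξ).congr fun ζ => ?_)
  have hfin : ∀ j, (Function.support fun ξ => α ξ * m j ξ ζ).Finite := fun j =>
    (Groth.Calg6.CycleLinear.finite_cycle_gen α ζ).subset fun ξ hξ =>
      ⟨by_contra fun hh => hξ (by simp [m, hh]), left_ne_zero_of_mul hξ⟩
  rw [hγ, Pi.sub_apply, interProd_indicator, interProd_indicator]
  refine (finsum_sub_distrib (hfin 0) (hfin 1)).symm.trans (finsum_congr fun ξ => ?_)
  by_cases hξ : α ξ = 0
  · simp [hξ]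
  · rw [← key ξ ζ hξ, mul_sub]

end Groth.Agent.S1952
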