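import Groth.Statements.S1949
import Groth.Agent.CycInter.FibreProd
import Groth.Agent.CycInter.ProdGen
import Groth.Agent.CohTwo.PushClosed
import Groth.Agent.Cycles.PushDiv
import Groth.Agent.S1952

set_option autoImplicit false
universe u
open CategoryTheory CategoryTheory.Limits AlgebraicGeometry
attribute [local instance] HasDerivedCategory.standard
open IntMult
open Groth.CycInter Groth.CycInter.P1C Groth.CycInter.SectProd Groth.Misc15.ProjPts

namespace Groth.Agent.S1949

theorem finite_maxPts {T : Type u} [TopologicalSpace T] [T0Space T] [QuasiSober T] [TopologicalSpace.NoetherianSpace T]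
    {S : Set T} (hS : IsClosed S) : {ξ : T | ξ ∈ S ∧ ∀ z ∈ S, z ⤳ ξ → z = ξ}.Finite := by
  have hfin := TopologicalSpace.NoetherianSpace.finite_irreducibleComponents (α := S)
  refine (hfin.preimage (f := fun ξ : S => closure {ξ}) (s := irreducibleComponents S) ?_).image Subtype.val |>.subset ?_
  · intro a _ b _ h
    exact (inseparable_iff_closure_eq.mpr h).eq
  · rintro ξ ⟨hξS, hmax⟩
    refine ⟨⟨ξ, hξS⟩, ⟨isIrreducible_singleton.closure, fun Z hZ hsub => ?_⟩, rfl⟩
    intro t ht
    have hZ' := (hZ.image Subtype.val continuous_subtype_val.continuousOn).closure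
    have hg := hZ'.isGenericPoint_genericPoint isClosed_closure
    have hξZ : ξ ∈ closure (Subtype.val '' Z) :=
      subset_closure ⟨⟨ξ, hξS⟩, hsub (subset_closure rfl), rfl⟩
    have hgS : hZ'.genericPoint ∈ S := by
      have h1 : hZ'.genericPoint ∈ closure (Subtype.val '' Z) := hg.mem
      exact (closure_minimal (by rintro _ ⟨z, -, rfl⟩; exact z.2) hS) h1
    have hgξ := hmax _ hgS (hg.specializes hξZ)
    rw [closure_subtype]
    simp only [Set.image_singleton]
    rw [← hgξ, hg.def]
    exact subset_closure ⟨t, ht, rfl⟩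

/-- Let W → P^1_X be a closed immersion with W integral of dimension s + 1 (for the dimension function
δP on P^1_X induced from δ) dominating P^1_K (dense image under P^1_X → P^1_K), W_0, W_∞ → X its
pullbacks along the sections at 0 and ∞, and V ⊆ X the closure of a point v with δ(v) = r, such that
[V] intersects [W_0]_s and [W_∞]_s properly. Then [V]·[W_0]_s ∼_rat [V]·[W_∞]_s as (r + s −
n)-cycles on X. (The source allows any two closed points a, b of P^1; they are taken to be 0 and ∞,
to which any two distinct closed points are carried by an automorphism of P^1 over the algebraically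
closed K.) Here X is a nonsingular variety over the algebraically closed field K (smooth, separated,
quasi-compact, integral) with dimension function δ (transcendence degree) and n = dim X; cycles are
Mathlib AlgebraicCycles with Cyc.Zk membership, proper intersection is IntMult.IntersectProperly and
α · β is the Tor-formula intersection product on coefficient functions (IntMult.interProd), bundled
where needed as 'any cycle with these coefficients'. -/
theorem result (K : Type u) [Field K] [IsAlgClosed K] (X : Scheme.{u}) (f : X ⟶ Spec (CommRingCat.of K)) [Smooth f] [IsSeparated f] [QuasiCompact f] [IsIntegral X] (δ : X → ℤ) (hX : Cyc.IsSetup X δ) (hδ : Cyc.DeltaCompat f δ (fun _ => 0)) (n : ℤ) (hn : δ (genericPoint X) = n) (δP : ↥(CohB1.ProjSpaceOver 1 X) → ℤ) (hP : Cyc.DeltaCompat (CohB1.ProjSpaceOver.toBase 1 X) δP δ) (r s : ℤ) (W : Scheme.{u}) [IsIntegral W] (ιW : W ⟶ CohB1.ProjSpaceOver 1 X) [IsClosedImmersion ιW] (hW : δP (ιW (genericPoint W)) = s + 1) (hdom : ∀ U : (CohB1.ProjSpaceOver 1 (Spec (CommRingCat.of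 K))).Opens, (U : Set ↥(CohB1.ProjSpaceOver 1 (Spec (CommRingCat.of K)))).Nonempty → ∃ w : W, (ιW ≫ P1.toP1 f) w ∈ U) (v : X) (hv : δ v = r) (h0 : IntMult.IntersectProperly δ n (Set.indicator {v} 1) (Cyc.subschemeFun δ s (pullback.snd ιW (P1.sect X 0)))) (h1 : IntMult.IntersectProperly δ n (Set.indicator {v} 1) (Cyc.subschemeFun δ s (pullback.snd ιW (P1.sect X 1)))) (γ₀ γ₁ : AlgebraicCycle X ℤ) (hγ₀ : ⇑γ₀ = IntMult.interProd δ n (Set.indicator {v} 1) (Cyc.subschemeFun δ s (pullback.snd ιW (P1.sect X 0)))) (hγ₁ : ⇑γ₁ = IntMult.interProd δ n (Set.indicator {v} 1) (Cyc.subschemeFun δ s (pullback.snd ιW (P1.sect X 1)))) : Cyc.RatEquiv δ (r + s - n) γ₀ γ₁ := by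
  classical
  let π := CohB1.ProjSpaceOver.toBase 1 X
  haveI : IsProper π := Groth.Variety2.isProper_projSpaceOver_toBase 1 X
  haveI : Smooth π := Groth.Misc13.ProjFactor.smooth_projSpaceOver_toBase 1 X
  let fQ := π ≫ f
  have hPX : Cyc.IsSetup (CohB1.ProjSpaceOver 1 X) δP := FibreProd.isSetup_P1 hX hP
  haveI := hPX.1
  haveI := hX.1
  haveI : CompactSpace X := QuasiCompact.compactSpace_of_compactSpace f
  haveI : CompactSpace (CohB1.ProjSpaceOver 1 X) := QuasiCompact.compactSpace_of_compactSpace π
  haveI : IsNoetherian (CohB1.ProjSpaceOver 1 X) := {}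
  haveI : IsIntegral (CohB1.ProjSpaceOver 1 X) := FibreProd.isIntegral_P1
  have hδQ : Cyc.DeltaCompat fQ δP (fun _ => 0) := Ext.deltaCompat_comp _ _ hP hδ
  have hgQ : δP (genericPoint (CohB1.ProjSpaceOver 1 X)) = n + 1 := by
    rw [FibreProd.delta_genericPoint hX hP, hn]
  let J := IntMult.ptIdeal v
  haveI hJint : IsIntegral J.subscheme := Groth.CohTwo.isIntegral_closure_subscheme rfl
  let j := J.subschemeι
  have hjv : j (genericPoint J.subscheme) = v :=
    Groth.CohTwo.apply_genericPoint_eq j (Groth.PropsBasic2.range_vanishingIdeal_subschemeι _)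
  haveI : IsIntegral (CohB1.ProjSpaceOver 1 J.subscheme) := FibreProd.isIntegral_P1
  set v' := P1.toP1 j (genericPoint (CohB1.ProjSpaceOver 1 J.subscheme)) with hv'def
  set c := ιW (genericPoint W) with hcdef
  have hv'd : δP v' = r + 1 := by
    have := FibreProd.delta_genericPoint (δP := fun q => δP (P1.toP1 j q)) (δ := fun w => δ (j w))
      (Groth.Cycles.isSetup_closedImmersion j hX)
      (Groth.Cycles.deltaCompat_restrict _ hP (P1.toP1 j) j (CohB1.ProjSpaceOver.toBase 1 J.subscheme)
        (toP1_toBase j).symm)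
    rw [hjv, hv] at this
    exact this
  have hcC : ∀ i, c ∈ C X (oth i) := fun i => by
    let T := Spec (CommRingCat.of K)
    obtain ⟨t⟩ : Nonempty T := inferInstance
    obtain ⟨w, hw⟩ := hdom (C T (oth i))
      ⟨P1.sect T (oth i) t, (mem_C_or T _ i).resolve_left fun h =>
        (range_sect T (oth i)).le ⟨t, rfl⟩ (by rwa [oth_oth])⟩
    refine ((genericPoint_specializes w).map ιW.continuous).mem_open (C X (oth i)).2 ?_
    have h2 : pr T ((ιW ≫ P1.toP1 f) w) ∈ D (oth i) := hw
    rw [Scheme.Hom.comp_apply, ← Scheme.Hom.comp_apply (P1.toP1 f) (pr T), toP1_pr] at h2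
    exact h2
  have hone : ∀ {Y : Type u} {a b : Y}, Set.indicator ({a} : Set Y) (1 : Y → ℤ) b ≠ 0 → b = a := fun {Y a b} h =>
    Set.mem_singleton_iff.1 (Set.mem_of_indicator_ne_zero h)
  have hprop : ∀ i : Fin (1 + 1),
      IntMult.IntersectProperly δ n (Set.indicator {v} 1) (Cyc.subschemeFun δ s (pullback.snd ιW (P1.sect X i))) :=
    Fin.forall_fin_two.2 ⟨h0, h1⟩
  -- bounds
  have hsect : ∀ {i : Fin (1 + 1)} {z : CohB1.ProjSpaceOver 1 X}, P1.sect X i (genericPoint X) ⤳ z →
      ∃ y, P1.sect X i y = z := fun {i z} h => (range_sect X i).ge ((sect_specializes_iff i z).1 h)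
  have hvy : ∀ (i : Fin (1 + 1)) (y : X), v' ⤳ P1.sect X i y → v ⤳ y := fun i y h => by
    have := h.map π.continuous
    rw [FibreProd.sect_apply_toBase, hv'def, ← Scheme.Hom.comp_apply, toP1_toBase, Scheme.Hom.comp_apply] at this
    rw [← hjv]
    exact ((genericPoint_specializes _).map j.continuous).trans this
  have bnd1 : ∀ (i : Fin (1 + 1)) (y : X), c ⤳ P1.sect X i y → δ y ≤ s := fun i y h => by
    have := (hPX.2.2 _ _ h fun e => (range_sect X i).le ⟨_, rfl⟩ (e ▸ hcC i)).1
    rw [delta_sect hP, hW] at this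
    omega
  have bnd : ∀ (i : Fin (1 + 1)) (y : X), v' ⤳ P1.sect X i y → c ⤳ P1.sect X i y → δ y ≤ r + s - n := by
    intro i y h2 h3
    obtain ⟨x, hxy, -, -, hne⟩ := FibreProd.exists_component hX hPX hP ιW i (hcC i) y h3 s hW
    have := hprop i v x y (by rw [Set.indicator_of_mem (Set.mem_singleton _)]; exact one_ne_zero) hne
      (hvy i y h2) hxy
    obtain ⟨hxd, -⟩ := Groth.Calg6.ClosedImmStalk.exists_of_subschemeFun_ne_zero δ s _ x hne
    omega
  have bnd' : ∀ (i : Fin (1 + 1)) (p z : CohB1.ProjSpaceOver 1 X), v' ⤳ p → c ⤳ p → p ⤳ z →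
      z ∉ C X (oth i) → δP p ≤ r + s - n + 1 := by
    intro i p z h2 h3 h4 hz
    by_cases hp : p ∈ C X (oth i)
    · obtain ⟨w, hpw, -, hwC, hwd⟩ := FibreProd.exists_fibre_pt hPX i h4 hz hp
      obtain ⟨x, rfl⟩ := (range_sect X i).ge hwC
      have := bnd i x (h2.trans hpw) (h3.trans hpw)
      rw [delta_sect hP] at hwd
      omega
    · obtain ⟨x, rfl⟩ := (range_sect X i).ge hp
      have := bnd i x h2 h3
      rw [delta_sect hP]
      omega
  -- the cycle on the line
  set I := IntMult.interProd δP (n + 1) (Set.indicator {v'} 1) (Set.indicator {c} 1) with hIdef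
  set S : Set (CohB1.ProjSpaceOver 1 X) := closure {v'} ∩ closure {c} with hSdef
  set M : Set (CohB1.ProjSpaceOver 1 X) := {ξ | ξ ∈ S ∧ ∀ z ∈ S, z ⤳ ξ → z = ξ} with hMdef
  have hMfin : M.Finite := finite_maxPts (isClosed_closure.inter isClosed_closure)
  let α : AlgebraicCycle (CohB1.ProjSpaceOver 1 X) ℤ :=
    ⟨M.indicator I, Set.subset_univ _, fun z _ => ⟨Set.univ, Filter.univ_mem,
      hMfin.subset fun x hx => Set.mem_of_indicator_ne_zero hx.2⟩⟩
  have hα : ⇑α = M.indicator I := rfl
  have hIne : ∀ η, I η ≠ 0 → v' ⤳ η ∧ c ⤳ η ∧ δP η = r + s - n + 1 := fun η hη => by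
    rw [hIdef, Assoc.interProd_single_single] at hη
    split_ifs at hη with h
    · exact ⟨h.1, h.2.1, by have := h.2.2; omega⟩
    · exact absurd rfl hη
  have hαne : ∀ η, α η ≠ 0 → v' ⤳ η ∧ c ⤳ η ∧ δP η = r + s - n + 1 := fun η hη => by
    rw [hα] at hη
    exact hIne η fun h0 => hη (by rw [Set.indicator_apply, h0, ite_self])
  have hηd : ∀ i, δP (P1.sect X i (genericPoint X)) = n := fun i => by rw [delta_sect hP, hn]
  have hαZk : α ∈ Cyc.Zk _ δP (r + s - n + 1) := fun x hx => by_contra fun h => hx (hαne x h).2.2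
  have hαprop : ∀ i, IntMult.IntersectProperly δP (n + 1) ⇑α (Set.indicator {P1.sect X i (genericPoint X)} 1) := by
    intro i ξ η z hξ hη h2 h3
    rw [hone hη] at h3 ⊢
    obtain ⟨y, rfl⟩ := hsect h3
    obtain ⟨h4, h5, h6⟩ := hαne ξ hξ
    have := bnd i y (h4.trans h2) (h5.trans h2)
    rw [delta_sect hP, h6, hηd i]
    omega
  have key : ∀ (i : Fin (1 + 1)) (y : X),
      IntMult.interProd δP (n + 1) ⇑α (Set.indicator {P1.sect X i (genericPoint X)} 1) (P1.sect X i y) =
        IntMult.interProd δ n (Set.indicator {v} 1) (Cyc.subschemeFun δ s (pullback.snd ιW (P1.sect X i))) y := by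
    intro i y
    have hz : P1.sect X i y ∉ C X (oth i) := (range_sect X i).le ⟨y, rfl⟩
    set η₀ := P1.sect X i (genericPoint X) with hη₀
    have e1 : IntMult.interProd δP (n + 1) ⇑α (Set.indicator {η₀} 1) (P1.sect X i y) =
        IntMult.interProd δP (n + 1) (Set.indicator {η₀} 1)
          (IntMult.interProd δP (n + 1) (Set.indicator {c} 1) (Set.indicator {v'} 1)) (P1.sect X i y) := by
      rw [Assoc.interProd_comm δP (n + 1) ⇑α, Assoc.interProd_comm δP (n + 1) (Set.indicator {c} 1),
        Assoc.interProd_single, Assoc.interProd_single]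
      refine finsum_congr fun η => ?_
      split_ifs with hh
      · congr 1
        show M.indicator I η = I η
        refine Set.indicator_apply_eq_self.2 fun hM => ?_
        by_contra hne
        obtain ⟨h4, h5, h6⟩ := hIne η hne
        refine hM ⟨⟨specializes_iff_mem_closure.1 h4, specializes_iff_mem_closure.1 h5⟩, fun p hp hpη => ?_⟩
        have := bnd' i p _ (specializes_iff_mem_closure.2 hp.1) (specializes_iff_mem_closure.2 hp.2)
          (hpη.trans hh.2.1) hz
        exact Groth.Cycles.eq_of_specializes_of_delta_le hPX.2.2 hpη (by omega)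
      · rw [mul_zero, mul_zero]
    have e2 := Assoc.assoc_at fQ hPX hδQ hgQ η₀ c v' (P1.sect X i y)
      (fun p h2 h3 h4 => by
        have := bnd' i p _ h3 h2 h4 hz
        rw [hW, hv'd]
        omega)
      (fun p h2 h3 h4 => by
        obtain ⟨x, rfl⟩ := hsect h3
        have := bnd1 i x h2
        rw [delta_sect hP, hW, hηd i]
        omega)
      (fun p h2 h3 h4 h5 => by
        obtain ⟨x, rfl⟩ := hsect h2
        have := bnd i x h4 h3
        rw [delta_sect hP, hW, hv'd, hηd i]
        omega)
    rw [e1, e2]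
    set β := IntMult.interProd δP (n + 1) (Set.indicator {c} 1) (Set.indicator {η₀} 1) with hβdef
    have hβ : ∀ p, p ∈ C X (oth i) → β p = 0 := fun p hp => by
      rw [hβdef, Assoc.interProd_single_single, if_neg]
      exact fun hh => (sect_specializes_iff i p).1 hh.2.1 hp
    have hβs : (fun x => β (P1.sect X i x)) = Cyc.subschemeFun δ s (pullback.snd ιW (P1.sect X i)) := by
      funext x
      rw [hβdef, Assoc.interProd_single_single]
      split_ifs with hh
      · have hk := hh.2.2
        rw [hW, hηd i, delta_sect hP] at hk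
        exact FibreProd.mult_fibre hPX hP ιW i (hcC i) x hh.1 s (by omega)
      · by_contra hne
        obtain ⟨hk, q, rfl⟩ := Groth.Calg6.ClosedImmStalk.exists_of_subschemeFun_ne_zero δ s _ x (Ne.symm hne)
        refine hh ⟨?_, (sect_specializes_iff i _).2 ((range_sect X i).le ⟨_, rfl⟩), ?_⟩
        · rw [← Scheme.Hom.comp_apply, ← pullback.condition, Scheme.Hom.comp_apply]
          exact (genericPoint_specializes _).map ιW.continuous
        · rw [hW, hηd i, delta_sect hP, hk]
          omega
    rw [hv'def, (FibreProd.interProd_lift j hX hP i n β hβ).1 y, hjv, hβs]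
  have hzero : ∀ (i : Fin (1 + 1)) (p : CohB1.ProjSpaceOver 1 X), p ∈ C X (oth i) →
      IntMult.interProd δP (n + 1) ⇑α (Set.indicator {P1.sect X i (genericPoint X)} 1) p = 0 := fun i p hp => by
    rw [Assoc.interProd_comm, Assoc.interProd_single]
    refine finsum_eq_zero_of_forall_eq_zero fun η => ?_
    rw [if_neg fun hh => (sect_specializes_iff i p).1 hh.1 hp, mul_zero]
  let γf : Fin (1 + 1) → AlgebraicCycle X ℤ := ![γ₀, γ₁]
  have hγf : ∀ i, ⇑(γf i) =
      IntMult.interProd δ n (Set.indicator {v} 1) (Cyc.subschemeFun δ s (pullback.snd ιW (P1.sect X i))) :=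
    Fin.forall_fin_two.2 ⟨hγ₀, hγ₁⟩
  let G : Fin (1 + 1) → AlgebraicCycle (CohB1.ProjSpaceOver 1 X) ℤ := fun i =>
    ⟨IntMult.interProd δP (n + 1) ⇑α (Set.indicator {P1.sect X i (genericPoint X)} 1), Set.subset_univ _,
      fun z _ => ⟨Set.univ, Filter.univ_mem, (((γf i).locallyFiniteSupport.finite_inter_support_of_isCompact
        isCompact_univ).image (P1.sect X i)).subset fun p hp => by
          obtain ⟨y, rfl⟩ := (range_sect X i).ge (show p ∉ C X (oth i) from fun h => hp.2 (hzero i p h))
          refine ⟨y, ⟨Set.mem_univ y, fun h => hp.2 ?_⟩, rfl⟩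
          rw [key i y, ← hγf i]
          exact h⟩⟩
  have hmap : ∀ i, AlgebraicCycle.map π δP δ (G i) = γf i := fun i => by
    refine DFunLike.coe_injective (funext fun y => ?_)
    rw [FibreProd.map_sect_supported hP i (G i) (fun p hp => hzero i p hp) y, hγf i]
    exact key i y
  have := Groth.Agent.S1952.result K X f δ hX hδ n hn δP hPX hP (r + s - n) α hαZk (hαprop 0) (hαprop 1)
    (G 0 - G 1) rfl
  rw [Groth.Cycles.map_sub', hmap, hmap] at this
  exact this


end Groth.Agent.S1949
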