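import Groth.Statements.S7616
import Groth.Agent.S9675
import Groth.Agent.Agf.CurveNormalization

set_option autoImplicit false
universe u
open CategoryTheory CategoryTheory.Limits AlgebraicGeometry
open Variety

namespace Groth.Agent.S7616

/-- Let f : Y → X be a quasi-compact morphism of schemes locally of finite type over a field k, with Y
reduced; f is automatically quasi-separated. Then the normalization of X in Y is finite over X. -/
theorem result (k : Type u) [Field k] (X : Scheme.{u}) [X.Over (Spec (CommRingCat.of k))] [LocallyOfFiniteType (X ↘ (Spec (CommRingCat.of k)))]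
    (Y : Scheme.{u}) [Y.Over (Spec (CommRingCat.of k))] [LocallyOfFiniteType (Y ↘ (Spec (CommRingCat.of k)))] [IsReduced Y]
    (f : Y ⟶ X) [f.IsOver (Spec (CommRingCat.of k))] [QuasiCompact f] [QuasiSeparated f] :
    IsFinite f.fromNormalization := by
  have : LocallyOfFiniteType (f ≫ (X ↘ Spec (CommRingCat.of k))) := by
    rw [comp_over]; infer_instance
  have : LocallyOfFiniteType f := locallyOfFiniteType_of_comp f (X ↘ Spec (CommRingCat.of k))
  refine Groth.Agent.S9675.result f fun U => ?_
  let φ := (Scheme.ΓSpecIso (CommRingCat.of k)).inv ≫ (X ↘ Spec (CommRingCat.of k)).appLE ⊤ U le_top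
  let := φ.hom.toAlgebra
  have : Algebra.FiniteType k Γ(X, U) := by
    have h := (X ↘ Spec (CommRingCat.of k)).finiteType_appLE (isAffineOpen_top _) U.2 le_top
    exact RingHom.finiteType_algebraMap.mp (h.comp
      (RingHom.FiniteType.of_surjective _ (ConcreteCategory.bijective_of_isIso
        (Scheme.ΓSpecIso (CommRingCat.of k)).inv).2))
  exact Groth.Calg1.isNagata_of_finiteType (R := k) (Groth.Agf.CurveNormalization.isNagata_field k)

end Groth.Agent.S7616
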