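import Groth.Statements.S19492
import Groth.Agent.S7616
import Groth.Agent.Chow.QuasiProjective
import Groth.Agent.Chow.VeryAmplePn
import Groth.Agent.Ega2Proj.QuasiAffineAmple
import Groth.Agent.LocImm.NormalizationBirational
import Groth.Agent.PnCoh.OverAffine

set_option autoImplicit false
universe u
open CategoryTheory AlgebraicGeometry
open Variety

namespace Groth.Agent.S19492

/-- Over an algebraically closed field k, let X be an irreducible affine variety (an integral affine
k-scheme of finite type). Then X is an open subvariety of an irreducible projective variety: there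
are an integral k-scheme Y admitting a closed immersion over k into a projective space Pⁿ_k and an
open immersion j : X → Y over k. If X is normal (every local ring an integrally closed domain), then
Y can be chosen normal as well. -/
theorem result (k : Type u) [Field k]
    [IsAlgClosed k] (X : Scheme.{u}) (f : X ⟶ Spec (CommRingCat.of k)) [IsAffine X]
    [AlgebraicGeometry.IsIntegral X] [LocallyOfFiniteType f] :
    ∃ (Y : Scheme.{u}) (g : Y ⟶ Spec (CommRingCat.of k)) (n : ℕ) (c : Y ⟶ CohB1.ProjSpace n k)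
      (j : X ⟶ Y), AlgebraicGeometry.IsIntegral Y ∧ IsClosedImmersion c ∧
      c ≫ CohB1.ProjSpace.toSpec n k = g ∧ IsOpenImmersion j ∧ j ≫ g = f ∧
      (Pi1.IsNormalScheme X → Pi1.IsNormalScheme Y) := by
  classical
  let P : ∀ n, CohB1.ProjSpace n k ⟶ Spec (CommRingCat.of k) := fun n => CohB1.ProjSpace.toSpec n k
  haveI hP : ∀ n, IsProper (P n) := fun n => Groth.Variety2.isProper_projSpace_toSpec n k
  haveI hPL : ∀ n, LocallyOfFiniteType (P n) := fun n => inferInstance
  haveI hPq : ∀ n, QuasiCompact (P n) := fun n => inferInstance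
  haveI : QuasiCompact f := QuasiCompact.of_comp f (Limits.terminal.from _)
  obtain ⟨m, i, hi, hiqc, hif⟩ := Groth.Chow.isHQuasiProjective_of_isAmple f
    (Groth.Ega2Proj.isAmple_of_isQuasiAffine (Groth.Ega2Proj.isInvertible_structure X))
  let e : X ⟶ CohB1.ProjSpace m k := i ≫ (Groth.PnCoh.overIso m k).inv
  have hef : e ≫ P m = f := by
    show (i ≫ (Groth.PnCoh.overIso m k).inv) ≫ CohB1.ProjSpace.toSpec m k = f
    rw [← Groth.PnCoh.overIso_hom_toBase, Category.assoc, Iso.inv_hom_id_assoc, hif]
  haveI : IsImmersion e := inferInstanceAs (IsImmersion (i ≫ (Groth.PnCoh.overIso m k).inv))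
  haveI : QuasiCompact e := inferInstanceAs (QuasiCompact (i ≫ (Groth.PnCoh.overIso m k).inv))
  let Y₀ := e.image
  let j : X ⟶ Y₀ := e.toImage
  let g₀ : Y₀ ⟶ Spec (CommRingCat.of k) := e.imageι ≫ P m
  haveI : IsOpenImmersion j := inferInstanceAs (IsOpenImmersion e.toImage)
  haveI : IsProper g₀ := inferInstanceAs (IsProper (e.imageι ≫ P m))
  haveI : CompactSpace Y₀ := QuasiCompact.compactSpace_of_compactSpace g₀
  have hjg : j ≫ g₀ = f := by
    show e.toImage ≫ e.imageι ≫ P m = f
    rw [Scheme.Hom.toImage_imageι_assoc]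
    exact hef
  letI : Y₀.Over (Spec (CommRingCat.of k)) := ⟨g₀⟩
  letI : X.Over (Spec (CommRingCat.of k)) := ⟨f⟩
  haveI : LocallyOfFiniteType (Y₀ ↘ Spec (CommRingCat.of k)) := inferInstanceAs (LocallyOfFiniteType g₀)
  haveI : LocallyOfFiniteType (X ↘ Spec (CommRingCat.of k)) := ‹LocallyOfFiniteType f›
  haveI : j.IsOver (Spec (CommRingCat.of k)) := ⟨hjg⟩
  haveI : IsFinite j.fromNormalization := Groth.Agent.S7616.result k Y₀ X j
  let Y := j.normalization
  let g : Y ⟶ Spec (CommRingCat.of k) := j.fromNormalization ≫ g₀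
  haveI : IsProper g := inferInstanceAs (IsProper (j.fromNormalization ≫ g₀))
  haveI : AlgebraicGeometry.IsIntegral Y := inferInstanceAs (AlgebraicGeometry.IsIntegral j.normalization)
  have hA : CohB1.IsAmple ((Scheme.Modules.pullback (j.fromNormalization ≫ e.imageι)).obj
      (Groth.Chow.ToPn.O1 m k)) :=
    Groth.Chow.isAmple_pullback_of_isAffineHom _ (Groth.Chow.isAmple_O1 m k)
  obtain ⟨N, c₀, hc₀, -, hcg⟩ := Groth.Chow.isHQuasiProjective_of_isAmple g hA
  let c : Y ⟶ CohB1.ProjSpace N k := c₀ ≫ (Groth.PnCoh.overIso N k).inv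
  have hc : c ≫ P N = g := by
    show (c₀ ≫ (Groth.PnCoh.overIso N k).inv) ≫ CohB1.ProjSpace.toSpec N k = g
    rw [← Groth.PnCoh.overIso_hom_toBase, Category.assoc, Iso.inv_hom_id_assoc, hcg]
  haveI : IsImmersion c := inferInstanceAs (IsImmersion (c₀ ≫ (Groth.PnCoh.overIso N k).inv))
  haveI : IsProper (c ≫ P N) := by rw [hc]; infer_instance
  haveI : IsProper c := IsProper.of_comp c (P N)
  haveI : IsClosedImmersion c := .of_isPreimmersion c c.isClosedMap.isClosed_range
  refine ⟨Y, g, N, c, j.toNormalization, inferInstance, inferInstance, hc, inferInstance, ?_, fun hX y => ?_⟩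
  · show j.toNormalization ≫ j.fromNormalization ≫ g₀ = f
    rw [Scheme.Hom.toNormalization_fromNormalization_assoc, hjg]
  · exact ⟨inferInstance, Groth.LocImmersion.NormalizationBirational.isIntegrallyClosed_stalk j (fun x => (hX x).2) y⟩

end Groth.Agent.S19492
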