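import Groth.Statements.S19493
import Groth.Agent.FBaseGeom.AssBC
import Groth.Agent.RefRank.AffineCompl
import Groth.Agent.EtaleBase.Rigidity
import Groth.Agent.Divisors.AssocMore
import Mathlib.AlgebraicGeometry.Morphisms.SchemeTheoreticallyDominant

set_option autoImplicit false
universe u
open CategoryTheory AlgebraicGeometry CategoryTheory.Limits
open EtHull

namespace Groth.Agent.S19493

/-- The embedded associated points of a locally Noetherian scheme are the non-maximal associated ones. -/
theorem mem_ass_iff {Z : Scheme.{u}} [IsLocallyNoetherian Z] (z : Z) :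
    z ∈ AssSch.Ass (Coh.structureModule Z) ↔
      ∃ m : Z.presheaf.stalk z, m ≠ 0 ∧ ∀ a ∈ IsLocalRing.maximalIdeal (Z.presheaf.stalk z), a * m = 0 := by
  have : z ∈ AssSch.Ass (Coh.structureModule Z) ↔
      IsLocalRing.maximalIdeal (Z.presheaf.stalk z) ∈
        associatedPrimes (Z.presheaf.stalk z) (Z.presheaf.stalk z) := by
    rw [← Groth.Agent.S5752.result]
    exact Groth.FBaseGeom.isAssPoint_structure_iff_depth z
  rw [this, AssociatedPrimes.mem_iff, isAssociatedPrime_iff]
  constructor
  · rintro ⟨-, m, hm⟩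
    refine ⟨m, fun h0 => (IsLocalRing.maximalIdeal.isMaximal _).ne_top
      (hm.trans (eq_top_iff.mpr fun r _ => by simp [Submodule.mem_colon_singleton, h0])),
      fun a ha => ?_⟩
    rw [hm, Submodule.mem_colon_singleton] at ha
    simpa using ha
  · rintro ⟨m, hm, ha⟩
    refine ⟨inferInstance, m, (IsLocalRing.maximalIdeal.isMaximal _).eq_of_le ?_ fun a h => ?_⟩
    · intro h
      have : (1 : Z.presheaf.stalk z) ∈ (⊥ : Submodule _ _).colon {m} := h ▸ Submodule.mem_top
      exact hm (by simpa [Submodule.mem_colon_singleton] using this)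
    · simpa [Submodule.mem_colon_singleton] using ha a h

/-- Associated points of an étale scheme lie exactly over those of the base. -/
theorem mem_ass_etale_iff {P S : Scheme.{u}} (g : P ⟶ S) [Etale g] [IsLocallyNoetherian S]
    [IsLocallyNoetherian P] (z : P) :
    z ∈ AssSch.Ass (Coh.structureModule P) ↔ g z ∈ AssSch.Ass (Coh.structureModule S) := by
  let R := S.presheaf.stalk (g z)
  let O := P.presheaf.stalk z
  let _ : Algebra R O := (g.stalkMap z).hom.toAlgebra
  have : Module.Flat R O := Flat.stalkMap g z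
  have : IsLocalHom (algebraMap R O) := inferInstanceAs (IsLocalHom (g.stalkMap z).hom)
  rw [mem_ass_iff, mem_ass_iff]
  constructor
  · rintro ⟨m, hm, hann⟩
    have hR : ∀ a ∈ IsLocalRing.maximalIdeal R, a ∉ nonZeroDivisors R := by
      intro a ha hreg
      refine hm ((Module.Flat.isSMulRegular_of_nonZeroDivisors (R := R) (M := O) hreg) ?_)
      show a • m = a • (0 : O)
      rw [smul_zero, Algebra.smul_def]
      exact hann _ ((IsLocalRing.mem_maximalIdeal _).mpr fun hu =>
        (IsLocalRing.mem_maximalIdeal a).mp ha (isUnit_of_map_unit (algebraMap R O) a hu))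
    have hsub : (IsLocalRing.maximalIdeal R : Set R) ⊆ ⋃ p ∈ associatedPrimes R R, (p : Set R) :=
      fun a ha => (biUnion_associatedPrimes_eq_compl_nonZeroDivisors R).ge (hR a ha)
    rw [Ideal.subset_union_prime_finite (associatedPrimes.finite R R) ⊥ ⊥
      (fun p hp _ _ => IsAssociatedPrime.isPrime hp)] at hsub
    obtain ⟨p, hp, hle⟩ := hsub
    rw [AssociatedPrimes.mem_iff, isAssociatedPrime_iff] at hp
    obtain ⟨hp, n, rfl⟩ := hp
    refine ⟨n, fun h0 => hp.ne_top (eq_top_iff.mpr fun r _ => by simp [Submodule.mem_colon_singleton, h0]),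
      fun a ha => by simpa [Submodule.mem_colon_singleton] using hle ha⟩
  · rintro ⟨m, hm, hann⟩
    have : Module.FaithfullyFlat R O := Module.FaithfullyFlat.of_flat_of_isLocalHom
    have hmax : (IsLocalRing.maximalIdeal R).map (algebraMap R O) = IsLocalRing.maximalIdeal O := by
      have : Algebra.EssFiniteType R O := by
        rw [← RingHom.essFiniteType_algebraMap, RingHom.algebraMap_toAlgebra]
        exact LocallyOfFiniteType.stalkMap g z
      have : Algebra.FormallyUnramified R O := by
        rw [← RingHom.formallyUnramified_algebraMap, RingHom.algebraMap_toAlgebra]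
        exact FormallyUnramified.stalkMap g z
      exact Algebra.FormallyUnramified.map_maximalIdeal
    refine ⟨algebraMap R O m, fun h0 => hm
      (FaithfulSMul.algebraMap_injective R O (by rw [h0, map_zero])), fun a ha => ?_⟩
    rw [← hmax] at ha
    refine Submodule.span_induction ?_ ?_ ?_ ?_ ha
    · rintro _ ⟨r, hr, rfl⟩
      rw [← map_mul, hann r hr, map_zero]
    · rw [zero_mul]
    · intro x y _ _ hx hy; rw [add_mul, hx, hy, add_zero]
    · intro c x _ hx; rw [smul_eq_mul, mul_assoc, hx, mul_zero]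

/-- A section vanishing at all associated points is zero. -/
theorem section_eq_zero {P : Scheme.{u}} [IsLocallyNoetherian P] {A : P.Opens} (hA : IsAffineOpen A)
    (s : Γ(P, A)) (hs : ∀ z (hz : z ∈ A), z ∈ AssSch.Ass (Coh.structureModule P) →
      P.presheaf.germ A z hz s = 0) : s = 0 := by
  have : IsNoetherianRing Γ(P, A) := IsLocallyNoetherian.component_noetherian ⟨A, hA⟩
  by_contra hne
  obtain ⟨p, hp, hann⟩ := exists_le_isAssociatedPrime_of_isNoetherianRing Γ(P, A) s hne
  rw [isAssociatedPrime_iff] at hp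
  obtain ⟨hp, m, hm⟩ := hp
  let z' : PrimeSpectrum Γ(P, A) := ⟨p, hp⟩
  let z := hA.fromSpec z'
  have hzA : z ∈ A := hA.range_fromSpec.le ⟨z', rfl⟩
  have hzp : (hA.primeIdealOf ⟨z, hzA⟩) = z' :=
    hA.fromSpec.isOpenEmbedding.injective (hA.fromSpec_primeIdealOf _)
  let _ : Algebra Γ(P, A) (P.presheaf.stalk z) := (P.presheaf.germ A z hzA).hom.toAlgebra
  have : IsLocalization.AtPrime (P.presheaf.stalk z) p := by
    have := hA.isLocalization_stalk ⟨z, hzA⟩
    rw [hzp] at this
    exact this
  have hmp : ∀ e, e * m = 0 → e ∈ p := fun e he => hm.ge (by simpa [Submodule.mem_colon_singleton] using he)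
  have hass : z ∈ AssSch.Ass (Coh.structureModule P) := by
    rw [mem_ass_iff]
    refine ⟨algebraMap Γ(P, A) _ m, fun h0 => ?_, fun a ha => ?_⟩
    · obtain ⟨e, he⟩ := (IsLocalization.map_eq_zero_iff p.primeCompl (P.presheaf.stalk z) m).mp h0
      exact e.2 (hmp _ he)
    · obtain ⟨⟨r, c⟩, hrc⟩ := IsLocalization.surj p.primeCompl a
      have hr : r ∈ p := by
        rw [← IsLocalization.AtPrime.to_map_mem_maximal_iff (P.presheaf.stalk z) p r, ← hrc]
        exact Ideal.mul_mem_right _ _ ha
      have hrm : r * m = 0 := by simpa [Submodule.mem_colon_singleton] using hm.le hr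
      refine (IsLocalization.map_units (P.presheaf.stalk z) c).mul_left_cancel ?_
      rw [mul_zero, ← mul_assoc, mul_comm _ a, hrc, ← map_mul, hrm, map_zero]
  obtain ⟨e, he⟩ := (IsLocalization.map_eq_zero_iff p.primeCompl (P.presheaf.stalk z) s).mp
    (hs z hzA hass)
  exact e.2 (hann (by simpa [Submodule.mem_colon_singleton] using he))

/-- At an associated point there is a nonzero section supported in the closure of the point. -/
theorem exists_section {P : Scheme.{u}} [IsLocallyNoetherian P] {ξ : P}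
    (hξ : ξ ∈ AssSch.Ass (Coh.structureModule P)) :
    ∃ (A : P.affineOpens) (s : Γ(P, A.1)), s ≠ 0 ∧
      ∀ y (hy : y ∈ A.1), ¬ ξ ⤳ y → P.presheaf.germ A.1 y hy s = 0 := by
  classical
  obtain ⟨_, ⟨A₀, hA, rfl⟩, hξA, -⟩ :=
    P.isBasis_affineOpens.exists_subset_of_mem_open (Set.mem_univ ξ) isOpen_univ
  let A : P.Opens := A₀
  replace hA : IsAffineOpen A := hA
  have : IsNoetherianRing Γ(P, A) := IsLocallyNoetherian.component_noetherian ⟨A, hA⟩
  let p := (hA.primeIdealOf ⟨ξ, hξA⟩).asIdeal
  let _ : Algebra Γ(P, A) (P.presheaf.stalk ξ) := (P.presheaf.germ A ξ hξA).hom.toAlgebra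
  have : IsLocalization.AtPrime (P.presheaf.stalk ξ) p := hA.isLocalization_stalk ⟨ξ, hξA⟩
  obtain ⟨m, hm, hann⟩ := (mem_ass_iff ξ).mp hξ
  obtain ⟨⟨a, c⟩, hac⟩ := IsLocalization.surj p.primeCompl m
  have hkill : ∀ r ∈ p, ∃ e : p.primeCompl, (e : Γ(P, A)) * (r * a) = 0 := fun r hr => by
    refine (IsLocalization.map_eq_zero_iff p.primeCompl (P.presheaf.stalk ξ) _).mp ?_
    rw [map_mul, ← hac, ← mul_assoc, hann _ ((IsLocalization.AtPrime.to_map_mem_maximal_iff _ p r).mpr hr),
      zero_mul]
  choose e he using hkill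
  obtain ⟨G, hG⟩ := (IsNoetherian.noetherian p : p.FG)
  have hGp : ∀ r ∈ G, r ∈ p := fun r hr => hG ▸ Ideal.subset_span hr
  let E : p.primeCompl := ∏ r ∈ G.attach, e r.1 (hGp r.1 r.2)
  refine ⟨⟨A, hA⟩, (E : Γ(P, A)) * a, fun h0 => ?_, fun y hy hny => ?_⟩
  · have h1 := congrArg (algebraMap Γ(P, A) (P.presheaf.stalk ξ)) h0
    rw [map_mul, ← hac, map_zero] at h1
    rw [(IsLocalization.map_units (P.presheaf.stalk ξ) E).mul_right_eq_zero,
      (IsLocalization.map_units (P.presheaf.stalk ξ) c).mul_left_eq_zero] at h1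
    exact hm h1
  · have hall : ∀ r ∈ p, r * ((E : Γ(P, A)) * a) = 0 := by
      intro r hr
      rw [← hG] at hr
      induction hr using Submodule.span_induction with
      | mem r hr =>
        have : e r (hGp r hr) ∣ E := Finset.dvd_prod_of_mem (fun r : G => e r.1 (hGp r.1 r.2))
          (Finset.mem_attach G ⟨r, hr⟩)
        obtain ⟨E', hE'⟩ := this
        rw [hE', Submonoid.coe_mul]
        linear_combination (E' : Γ(P, A)) * he r (hGp r hr)
      | zero => rw [zero_mul]
      | add x y _ _ hx hy => rw [add_mul, hx, hy, add_zero]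
      | smul t x _ hx => rw [smul_eq_mul, mul_assoc, hx, mul_zero]
    obtain ⟨r, hr, hry⟩ : ∃ r ∈ p, r ∉ (hA.primeIdealOf ⟨y, hy⟩).asIdeal := by
      by_contra! hle
      refine hny ?_
      have := Groth.RefRank.AffineCompl.fromSpec_specializes hA (q := hA.primeIdealOf ⟨ξ, hξA⟩) hle
      rwa [hA.fromSpec_primeIdealOf, hA.fromSpec_primeIdealOf] at this
    let _ : Algebra Γ(P, A) (P.presheaf.stalk y) := (P.presheaf.germ A y hy).hom.toAlgebra
    have : IsLocalization.AtPrime (P.presheaf.stalk y) (hA.primeIdealOf ⟨y, hy⟩).asIdeal :=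
      hA.isLocalization_stalk ⟨y, hy⟩
    exact (IsLocalization.map_eq_zero_iff (hA.primeIdealOf ⟨y, hy⟩).asIdeal.primeCompl
      (P.presheaf.stalk y) _).mpr ⟨⟨r, hry⟩, hall r hr⟩

/-- A flat morphism is scheme-theoretically dominant iff it hits all associated points. -/
theorem isSchemeTheoreticallyDominant_iff_ass {X P : Scheme.{u}} [IsLocallyNoetherian P] (u : X ⟶ P)
    [Flat u] : IsSchemeTheoreticallyDominant u ↔
      AssSch.Ass (Coh.structureModule P) ⊆ Set.range u := by
  refine ⟨fun hdom ξ hξ => ?_, fun h => ⟨Scheme.IdealSheafData.ext (funext fun A => ?_)⟩⟩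
  · by_contra hnot
    let O : P.Opens := ⟨(closure {ξ})ᶜ, isClosed_closure.isOpen_compl⟩
    have hle : Set.range u ⊆ Set.range O.ι := by
      rw [Scheme.Opens.range_ι]
      rintro _ ⟨x, rfl⟩ hx
      obtain ⟨y, -, hy⟩ := Flat.generalizingMap u (specializes_iff_mem_closure.mpr hx)
      exact hnot ⟨y, hy⟩
    obtain ⟨A, s, hs, hs0⟩ := exists_section hξ
    refine hs ?_
    have hker : O.ι.ker ≤ u.ker := by
      rw [← IsOpenImmersion.lift_fac O.ι u hle]
      exact Scheme.Hom.le_ker_comp _ _
    rw [hdom.ker_eq_bot] at hker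
    have hmem : s ∈ O.ι.ker.ideal A := by
      rw [Scheme.Hom.ker_apply, RingHom.mem_ker]
      show (O.ι.app A.1) s = 0
      rw [Scheme.Opens.ι_app]
      refine TopCat.Presheaf.section_ext P.sheaf _ _ 0 fun y hy => ?_
      erw [TopCat.Presheaf.germ_res_apply, map_zero]
      obtain ⟨z, hz, rfl⟩ := hy
      exact hs0 _ _ fun hsp => z.2 (specializes_iff_mem_closure.mp hsp)
    simpa using hker A hmem
  · rw [Scheme.IdealSheafData.ideal_bot, Pi.bot_apply, eq_bot_iff]
    intro s hs
    rw [Ideal.mem_bot]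
    replace hs : u.app A.1 s = 0 := RingHom.mem_ker.mp (u.ideal_ker_le A hs)
    refine section_eq_zero A.2 s fun z hz hass => ?_
    obtain ⟨x, rfl⟩ := h hass
    let _ := (u.stalkMap x).hom.toAlgebra
    have : Module.Flat (P.presheaf.stalk (u x)) (X.presheaf.stalk x) := Flat.stalkMap u x
    have : IsLocalHom (algebraMap (P.presheaf.stalk (u x)) (X.presheaf.stalk x)) :=
      inferInstanceAs (IsLocalHom (u.stalkMap x).hom)
    have : Module.FaithfullyFlat (P.presheaf.stalk (u x)) (X.presheaf.stalk x) :=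
      Module.FaithfullyFlat.of_flat_of_isLocalHom
    apply FaithfulSMul.algebraMap_injective (P.presheaf.stalk (u x)) (X.presheaf.stalk x)
    rw [map_zero]
    show (P.presheaf.germ A.1 (u x) hz ≫ u.stalkMap x).hom s = 0
    rw [Scheme.Hom.germ_stalkMap]
    show (X.presheaf.germ _ x hz).hom ((u.app A.1).hom s) = 0
    rw [hs]
    exact map_zero _

/-- Maximal points are associated. -/
theorem mem_ass_of_maximal {Z : Scheme.{u}} [IsLocallyNoetherian Z] {z : Z} (hz : ∀ w, w ⤳ z → w = z) :
    z ∈ AssSch.Ass (Coh.structureModule Z) :=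
  Groth.Divisors.isAssPoint_iff_weak.2 (Groth.Divisors.weakAss_structure_of_maximal hz)

/-- An associated point is embedded or maximal. -/
theorem mem_ass_cases {Z : Scheme.{u}} [IsLocallyNoetherian Z] (z : Z) :
    z ∈ AssSch.Ass (Coh.structureModule Z) ↔ (∀ w, w ⤳ z → w = z) ∨
      (z ∈ AssSch.Ass (Coh.structureModule Z) ∧ ∃ t ∈ AssSch.Ass (Coh.structureModule Z), t ⤳ z ∧ t ≠ z) := by
  refine ⟨fun hz => ?_, fun h => h.elim mem_ass_of_maximal And.left⟩
  by_cases hmax : ∀ w, w ⤳ z → w = z
  · exact Or.inl hmax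
  · obtain ⟨ζ, hζ, hζmax⟩ :=
      Groth.RefRank.MeroExist.exists_divisor_of_weakAss_maximal.exists_maximal_generization z
    exact Or.inr ⟨hz, ζ, mem_ass_of_maximal hζmax, hζ, fun e => hmax (e ▸ hζmax)⟩

/-- Let f : S' → S be a morphism of locally Noetherian schemes which is integral, radicial (universally
injective) and surjective, and which matches embedded points: a point s' of S' is an embedded
associated point of O_{S'} (an associated point that is a proper specialization of another
associated point) if and only if f(s') is an embedded associated point of O_S. Let a : X → S be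
faithfully flat, g : E → S étale and u : X → E a morphism with u ≫ g = a, so that X → E → S is a
factorization of a through an étale S-scheme. Let E' → S' be the base change of g along f, with
projection φ : E' → E, and u' : X' → E' the base change of u along φ (so X' = X ×_S S'). Then u is
scheme-theoretically dominant if and only if u' is. (The source allows algebraic spaces; schemes
here.) -/
theorem result {X E S S' E' X' : Scheme.{u}}
    [IsLocallyNoetherian S] [IsLocallyNoetherian S'] (f : S' ⟶ S) [IsIntegralHom f]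
    [UniversallyInjective f] [Surjective f]
    (hemb : ∀ s' : S', (s' ∈ AssSch.Ass (Coh.structureModule S') ∧ ∃ t ∈ AssSch.Ass (Coh.structureModule S'), t ⤳ s' ∧ t ≠ s') ↔
      (f.base s' ∈ AssSch.Ass (Coh.structureModule S) ∧ ∃ t ∈ AssSch.Ass (Coh.structureModule S), t ⤳ f.base s' ∧ t ≠ f.base s'))
    (a : X ⟶ S) [Flat a] [Surjective a] (g : E ⟶ S) [Etale g] (u : X ⟶ E) (hu : u ≫ g = a)
    (g' : E' ⟶ S') (φ : E' ⟶ E) (hE : IsPullback φ g' g f)
    (u' : X' ⟶ E') (ψ : X' ⟶ X) (hX : IsPullback ψ u' u φ) :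
    IsSchemeTheoreticallyDominant u ↔ IsSchemeTheoreticallyDominant u' := by
  have : IsLocallyNoetherian E := LocallyOfFiniteType.isLocallyNoetherian g
  have : Etale g' := MorphismProperty.of_isPullback hE inferInstance
  have : IsLocallyNoetherian E' := LocallyOfFiniteType.isLocallyNoetherian g'
  have : Flat u := by
    let t : X ⟶ pullback a g := pullback.lift (𝟙 X) u (by rw [Category.id_comp, hu])
    have : IsOpenImmersion t :=
      Groth.EtaleBase.isOpenImmersion_section (pullback.fst a g) t (pullback.lift_fst _ _ _)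
    have hpt : t ≫ pullback.snd a g = u := pullback.lift_snd _ _ _
    exact hpt ▸ inferInstance
  have : Flat u' := MorphismProperty.of_isPullback hX inferInstance
  have : Surjective φ := MorphismProperty.of_isPullback hE.flip inferInstance
  have hmax : ∀ s' : S', (∀ w, w ⤳ s' → w = s') ↔ (∀ w, w ⤳ f s' → w = f s') := by
    intro s'
    refine ⟨fun h t ht => ?_, fun h w hw => f.injective (h _ (hw.map f.continuous))⟩
    obtain ⟨w, rfl⟩ := f.surjective t
    have hmem : f s' ∈ f '' closure {w} :=
      ht.mem_closed (f.isClosedMap _ isClosed_closure) ⟨w, subset_closure rfl, rfl⟩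
    obtain ⟨s'', hs'', he⟩ := hmem
    obtain rfl := f.injective he
    rw [h w (specializes_iff_mem_closure.mpr hs'')]
  have hass : ∀ s' : S', s' ∈ AssSch.Ass (Coh.structureModule S') ↔
      f s' ∈ AssSch.Ass (Coh.structureModule S) := fun s' => by
    rw [mem_ass_cases s', mem_ass_cases (f s'), hmax s', hemb s']
  rw [isSchemeTheoreticallyDominant_iff_ass, isSchemeTheoreticallyDominant_iff_ass]
  have hgφ : ∀ e' : E', g (φ e') = f (g' e') := fun e' => by
    rw [← Scheme.Hom.comp_apply, ← Scheme.Hom.comp_apply, hE.w]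
  have hkey : ∀ e' : E', φ e' ∈ AssSch.Ass (Coh.structureModule E) ↔
      e' ∈ AssSch.Ass (Coh.structureModule E') := fun e' => by
    rw [mem_ass_etale_iff g, mem_ass_etale_iff g', hgφ, hass]
  refine ⟨fun h e' he' => ?_, fun h e he => ?_⟩
  · obtain ⟨x, hx⟩ := h ((hkey e').mpr he')
    obtain ⟨p, -, hp⟩ := Scheme.Pullback.exists_preimage_pullback (f := u) (g := φ) x e' hx
    refine ⟨hX.isoPullback.inv p, ?_⟩
    rw [← hp, ← Scheme.Hom.comp_apply, hX.isoPullback_inv_snd]
  · obtain ⟨e', rfl⟩ := φ.surjective e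
    obtain ⟨x', rfl⟩ := h ((hkey e').mp he)
    refine ⟨ψ x', ?_⟩
    rw [← Scheme.Hom.comp_apply, ← Scheme.Hom.comp_apply, hX.w]

end Groth.Agent.S19493
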