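import Groth.Statements.S19494
import Groth.Agent.Misc11EtHull.Hull
import Groth.Agent.S15997

set_option autoImplicit false
open CategoryTheory AlgebraicGeometry
universe u
open EtHull

namespace Groth.Agent.S19494

/-- Let S be a Noetherian scheme all of whose local rings are geometrically unibranch and whose
structure sheaf has no embedded associated points, and let f : X → S be flat, surjective and of
finite presentation. Call an admissible factorization a factorization X → E → S of f with E → S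
étale and affine and X → E scheme-theoretically dominant. Then any two admissible factorizations X →
E₁ → S and X → E₂ → S have an infimum: an admissible factorization X → E → S together with
compatible S-morphisms E₁ → E and E₂ → E, such that every admissible factorization X → E' → S
receiving compatible S-morphisms E₁ → E' and E₂ → E' admits a compatible morphism E → E'. (The
source allows X to be an algebraic space; X is a scheme here.) -/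
theorem result {X S : Scheme.{u}} [IsNoetherian S]
    (hS : ∀ s : S, CAlg2.IsGeomUnibranch (S.presheaf.stalk s))
    (hemb : AssSch.NoEmbedded (Coh.structureModule S))
    (f : X ⟶ S) [Flat f] [Surjective f] [LocallyOfFinitePresentation f] [QuasiCompact f]
    [QuasiSeparated f]
    (E₁ E₂ : Scheme.{u}) (g₁ : E₁ ⟶ S) (g₂ : E₂ ⟶ S) (u₁ : X ⟶ E₁) (u₂ : X ⟶ E₂)
    [Etale g₁] [Etale g₂] [IsAffineHom g₁] [IsAffineHom g₂]
    [IsSchemeTheoreticallyDominant u₁] [IsSchemeTheoreticallyDominant u₂]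
    (h₁ : u₁ ≫ g₁ = f) (h₂ : u₂ ≫ g₂ = f) :
    ∃ (E : Scheme.{u}) (g : E ⟶ S) (u : X ⟶ E) (v₁ : E₁ ⟶ E) (v₂ : E₂ ⟶ E),
      Etale g ∧ IsAffineHom g ∧ IsSchemeTheoreticallyDominant u ∧ u ≫ g = f ∧
      u₁ ≫ v₁ = u ∧ u₂ ≫ v₂ = u ∧ v₁ ≫ g = g₁ ∧ v₂ ≫ g = g₂ ∧
      ∀ (E' : Scheme.{u}) (g' : E' ⟶ S) (u' : X ⟶ E') (w₁ : E₁ ⟶ E') (w₂ : E₂ ⟶ E'),
        Etale g' → IsAffineHom g' → IsSchemeTheoreticallyDominant u' → u' ≫ g' = f →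
        u₁ ≫ w₁ = u' → u₂ ≫ w₂ = u' → w₁ ≫ g' = g₁ → w₂ ≫ g' = g₂ →
        ∃ w : E ⟶ E', u ≫ w = u' ∧ v₁ ≫ w = w₁ ∧ v₂ ≫ w = w₂ := by
  let P : Groth.EtHull.Adm f → Prop := fun A => (⟨E₁, g₁, u₁, ‹_›, ‹_›, ‹_›, h₁⟩ : Groth.EtHull.Adm f).Map A ∧
    (⟨E₂, g₂, u₂, ‹_›, ‹_›, ‹_›, h₂⟩ : Groth.EtHull.Adm f).Map A
  obtain ⟨A₀, ⟨⟨v₁, hv₁, hv₁g⟩, ⟨v₂, hv₂, hv₂g⟩⟩, hA₀⟩ := Groth.EtHull.exists_initial (f := f) P
    (by
      have : IsSchemeTheoreticallyDominant f := by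
        have : LocallyQuasiFinite (𝟙 S) := inferInstance
        exact Groth.EtHull.isSchemeTheoreticallyDominant_of_flat (𝟙 S) hemb f
          fun z _ => f.surjective z
      exact ⟨⟨S, 𝟙 S, f, inferInstance, inferInstance, inferInstance, Category.comp_id f⟩,
        ⟨g₁, h₁, Category.comp_id g₁⟩, ⟨g₂, h₂, Category.comp_id g₂⟩⟩)
    (fun A B ⟨⟨a₁, ha₁, ha₁g⟩, ⟨a₂, ha₂, ha₂g⟩⟩ ⟨⟨b₁, hb₁, hb₁g⟩, ⟨b₂, hb₂, hb₂g⟩⟩ => by
      obtain ⟨E, g, p, q₁, q₂, h1, h2, h3, hp, hq₁, hq₂, hg₁, hg₂, huniv⟩ :=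
        Groth.Agent.S15997.result hS hemb f A.E B.E A.g B.g A.u B.u A.fac B.fac
      obtain ⟨c₁, hc₁, hc₁', -⟩ := huniv E₁ g₁ u₁ a₁ b₁ ‹_› ‹_› ‹_› h₁ ha₁ hb₁ ha₁g hb₁g
      obtain ⟨c₂, hc₂, hc₂', -⟩ := huniv E₂ g₂ u₂ a₂ b₂ ‹_› ‹_› ‹_› h₂ ha₂ hb₂ ha₂g hb₂g
      refine ⟨⟨E, g, p, h1, h2, h3, hp⟩, ⟨⟨c₁, hc₁, ?_⟩, ⟨c₂, hc₂, ?_⟩⟩, ⟨q₁, hq₁, hg₁⟩, ⟨q₂, hq₂, hg₂⟩⟩
      · show c₁ ≫ g = g₁
        rw [← hg₁, reassoc_of% hc₁']; exact ha₁g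
      · show c₂ ≫ g = g₂
        rw [← hg₁, reassoc_of% hc₂']; exact ha₂g)
  refine ⟨A₀.E, A₀.g, A₀.u, v₁, v₂, A₀.etale, A₀.affine, A₀.dom, A₀.fac, hv₁, hv₂, hv₁g, hv₂g,
    fun E' g' u' w₁ w₂ he ha hd hf hw₁ hw₂ hw₁g hw₂g => ?_⟩
  obtain ⟨w, hw, hwg⟩ := hA₀ ⟨E', g', u', he, ha, hd, hf⟩ ⟨⟨w₁, hw₁, hw₁g⟩, ⟨w₂, hw₂, hw₂g⟩⟩
  replace hw : A₀.u ≫ w = u' := hw
  replace hwg : w ≫ g' = A₀.g := hwg
  replace hv₁ : u₁ ≫ v₁ = A₀.u := hv₁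
  replace hv₂ : u₂ ≫ v₂ = A₀.u := hv₂
  replace hv₁g : v₁ ≫ A₀.g = g₁ := hv₁g
  replace hv₂g : v₂ ≫ A₀.g = g₂ := hv₂g
  refine ⟨w, hw, ?_, ?_⟩
  · exact Groth.GrpschAbsch.ext_of_isSchemeTheoreticallyDominant g'
      (by rw [Category.assoc, hwg, hv₁g, hw₁g]) u₁ (by rw [reassoc_of% hv₁, hw, hw₁])
  · exact Groth.GrpschAbsch.ext_of_isSchemeTheoreticallyDominant g'
      (by rw [Category.assoc, hwg, hv₂g, hw₂g]) u₂ (by rw [reassoc_of% hv₂, hw, hw₂])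

end Groth.Agent.S19494
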