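import Groth.Statements.S19497
import Groth.Agent.PicAux.SeesawReduced
import Groth.Agent.PicAux.Tensor
import Groth.Agent.Abvar.Seesaw.Core
import Groth.Agent.LocFree.ExtPow
import Groth.Agent.OmegaSheaf.Smooth
import Groth.Agent.Chow.Segre
import Groth.Agent.AlgGrp1.SmoothReduced
-- import your own Groth.Agent.* helpers here

set_option autoImplicit false
universe u
open CategoryTheory CategoryTheory.Limits AlgebraicGeometry
open Canon

namespace Groth.Agent.S19497


/-- Let S be a locally Noetherian scheme and f : X ⟶ S a locally projective morphism, smooth of relative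
dimension n, whose fibres are non-empty and geometrically connected; let ω be an n-th exterior power
of the sheaf of relative differentials of f (the relative canonical sheaf K_{X/S}) and m ≥ 1 an
integer such that K^{⊗m} is trivial on fibres: for every point s of S the restriction of K^{⊗m} to
the fibre X_s is isomorphic to O_{X_s}. Assume S is reduced. Then the evaluation map f^* f_* K^{⊗m}
⟶ K^{⊗m}, the counit of the adjunction between pullback and pushforward of modules, is an
isomorphism. (The published statement has f projective and smooth of possibly varying relative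
dimension; here f is taken locally projective of constant relative dimension n.) -/
theorem result
    {X S : Scheme.{u}} [IsLocallyNoetherian S] (f : X ⟶ S)
    (hproj : RedSub.IsLocallyProjective (Over.mk f))
    (n : ℕ) [SmoothOfRelativeDimension n f] [GeometricallyConnected f]
    (ω : X.Modules) (hω : Canon.IsTopDiff f n ω) (m : ℕ) (hm : 1 ≤ m)
    (htriv : ∀ s : ↥S, Nonempty ((Scheme.Modules.pullback (f.fiberι s)).obj (CohB1.tensorPow ω m) ≅
      Coh.structureModule (f.fiber s))) [AlgebraicGeometry.IsReduced S] :
    IsIso ((Scheme.Modules.pullbackPushforwardAdjunction f).counit.app (CohB1.tensorPow ω m)) := by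
  have hp : IsProper f := by
    choose V hV n' e he hcomp using hproj
    refine IsZariskiLocalAtTarget.of_iSup_eq_top V (eq_top_iff.2 fun s _ => TopologicalSpace.Opens.mem_iSup.2 ⟨s, hV s⟩) fun s => ?_
    haveI := he s
    haveI := Groth.Variety2.isProper_projSpaceOver_toBase (n' s) (V s : Scheme.{u})
    haveI : IsProper (pullback.snd f (V s).ι) := by
      have h2 : IsProper (e s ≫ CohB1.ProjSpaceOver.toBase (n' s) (V s : Scheme.{u})) := inferInstance
      rw [hcomp s] at h2
      exact h2
    have h3 := (MorphismProperty.arrow_mk_iso_iff @IsProper (morphismRestrictOpensRange f (V s).ι)).2 ‹_›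
    rwa [Scheme.Opens.opensRange_ι] at h3
  haveI : Smooth f := SmoothOfRelativeDimension.smooth (n := n) f
  haveI : Flat f := inferInstance
  haveI : GeometricallyReduced f := by
    constructor
    intro K _ y Z fst snd h
    have : Smooth snd := MorphismProperty.of_isPullback h ‹Smooth f›
    exact Groth.AlgGrp1.isReduced_of_smooth snd
  haveI : LocallyOfFinitePresentation f := inferInstance
  have h0 : Groth.PicAux.Seesaw.H0One f := fun s => by
    have h := Groth.Abvar.Seesaw.h0Const_of_geometrically f s
    exact ⟨h.1.nontrivial, h.2⟩
  have hΩ := Groth.OmegaSheaf.isFinLocFreeOfRank_sheaf f n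
  exact (Groth.PicAux.Seesaw.pushforward_counit_of_fibre_trivial f h0
    (Groth.PicAux.isInvertible_tensorPow (Groth.LocFree.isInvertible_det hΩ hω) m) htriv).2

end Groth.Agent.S19497
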