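import Groth.Statements.S1950
import Groth.Agent.Calg6.ProjFormula.Pair
import Groth.Agent.CycleLimits.Generic

set_option autoImplicit false
universe u
open CategoryTheory CategoryTheory.Limits AlgebraicGeometry
attribute [local instance] HasDerivedCategory.standard
open IntMult

namespace Groth.Agent.S1950

/-- Let f : X → Y be proper and flat, where X and Y are nonsingular varieties over K of dimensions n and
m, e = n − m, α an r-cycle on X and β an s-cycle on Y such that α and f^*β intersect properly. The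
pushforward f_*α then meets β properly, and on Y the cycle f_*α · β equals f_*(α · f^*β) (flat
pullback and products taken coefficientwise; f_* is Mathlib's pushforward, applied to any cycle with
the coefficients of α · f^*β). Here X is a nonsingular variety over the algebraically closed field K
(smooth, separated, quasi-compact, integral) with dimension function δ (transcendence degree) and n
= dim X; cycles are Mathlib AlgebraicCycles with Cyc.Zk membership, proper intersection is
IntMult.IntersectProperly and α · β is the Tor-formula intersection product on coefficient functions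
(IntMult.interProd), bundled where needed as 'any cycle with these coefficients'. -/
theorem result (K : Type u) [Field K] [IsAlgClosed K] (X Y : Scheme.{u}) (f : X ⟶ Y) (gX : X ⟶ Spec (CommRingCat.of K)) (gY : Y ⟶ Spec (CommRingCat.of K)) (hf : f ≫ gY = gX) [Smooth gX] [IsSeparated gX] [QuasiCompact gX] [IsIntegral X] [Smooth gY] [IsSeparated gY] [QuasiCompact gY] [IsIntegral Y] [Flat f] [IsProper f] (δX : X → ℤ) (δY : Y → ℤ) (hX : Cyc.IsSetup X δX) (hY : Cyc.IsSetup Y δY) (hδX : Cyc.DeltaCompat gX δX (fun _ => 0)) (hδY : Cyc.DeltaCompat gY δY (fun _ => 0)) (hδ : Cyc.DeltaCompat f δX δY) (n m : ℤ) (hn : δX (genericPoint X) = n) (hm : δY (genericPoint Y) = m) (e : ℕ) (he : (e : ℤ) = n - m) (hrel : Cyc.HasRelDim f e) (r s : ℤ) (α : AlgebraicCycle X ℤ) (β : AlgebraicCycle Y ℤ) (hα : α ∈ Cyc.Zk X δX r) (hβ : β ∈ Cyc.Zk Y δY s) (hprop : IntMult.IntersectProperly δX n ⇑α (Cyc.pullFun f δX δY e ⇑β)) (γ : AlgebraicCycle X ℤ) (hγ : ⇑γ = IntMult.interProd δX n ⇑α (Cyc.pullFun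 f δX δY e ⇑β)) : IntMult.IntersectProperly δY m ⇑(AlgebraicCycle.map f δX δY α) ⇑β ∧ IntMult.interProd δY m ⇑(AlgebraicCycle.map f δX δY α) ⇑β = ⇑(AlgebraicCycle.map f δX δY γ) := by
  classical
  haveI := hX.1
  haveI := hY.1
  haveI : LocallyOfFiniteType f := inferInstance
  have hc : ∀ x : X, Groth.CycleLimits.IsFibreGeneric f x → δX x = δY (f x) + (e : ℤ) := fun x hx =>
    Groth.Cycles.delta_eq_add_of_isFibreGeneric f hrel hδ hx
  have hle : ∀ x : X, δX x ≤ δY (f x) + e := fun x => by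
    obtain ⟨w, hw, hwp, hgen⟩ := Groth.CycleLimits.exists_isFibreGeneric f x
    have h1 := hc w hgen
    rw [hwp] at h1
    have h2 := Groth.Cycles.delta_le_of_specializes hX.2.2 hw
    omega
  have hαr : ∀ a, α a ≠ 0 → δX a = r := fun a ha => by_contra fun h => ha (hα a h)
  have hβs : ∀ b, β b ≠ 0 → δY b = s := fun b hb => by_contra fun h => hb (hβ b h)
  -- meeting of the components
  have hmeet : ∀ a, α a ≠ 0 → ∀ b, β b ≠ 0 → ∀ x : X, a ⤳ x → b ⤳ f x → δX x ≤ r + s - m := by
    intro a ha b hb x h1 h2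
    obtain ⟨w, hw, rfl⟩ := (AlgebraicGeometry.Flat.generalizingMap f) h2
    obtain ⟨w', hw', hwp, hgen⟩ := Groth.CycleLimits.exists_isFibreGeneric f w
    have hd : δX w' = δY (f w) + e := by rw [hc w' hgen, hwp]
    have hne : Cyc.pullFun f δX δY e (⇑β) w' ≠ 0 := by
      rw [Cyc.pullFun, if_pos (hc w' hgen)]
      exact mul_ne_zero (by rw [hwp]; exact hb) (Nat.cast_ne_zero.2 (Groth.CycleLimits.length_toNat_ne_zero f w' hgen))
    have h3 := hprop a w' x ha hne h1 (hw'.trans hw)
    rw [hαr a ha, hd, hβs _ hb] at h3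
    omega
  have hmap : ∀ y, AlgebraicCycle.map f δX δY α y ≠ 0 → δY y = r ∧ ∃ a, α a ≠ 0 ∧ f a = y := by
    intro y hy
    have hfin := Groth.Cycles.finite_preimage_inter_support f α y
    rw [Groth.Cycles.map_apply_eq_sum f δX δY α y hfin.toFinset fun x hx h => hfin.mem_toFinset.2 ⟨hx, h⟩] at hy
    obtain ⟨a, -, hne⟩ := Finset.exists_ne_zero_of_sum_ne_zero hy
    obtain ⟨hay, hne'⟩ := ite_ne_right_iff.mp hne
    have h1 := left_ne_zero_of_mul hne'
    have h2 : δX a = δY (f a) := by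
      by_contra h
      exact right_ne_zero_of_mul hne' (by simp [AlgebraicCycle.mapCoeff, h])
    exact ⟨by rw [← hay, ← h2, hαr a h1], a, h1, hay⟩
  have hlift : ∀ (a : X) (y : Y), f a ⤳ y → ∃ x, a ⤳ x ∧ f x = y := fun a y h => by
    obtain ⟨x, hx, hfx⟩ := (f.isClosedMap _ (isClosed_closure (s := {a}))).closure_subset
      (closure_mono (Set.singleton_subset_iff.mpr (Set.mem_image_of_mem f (subset_closure (Set.mem_singleton a))))
        (specializes_iff_mem_closure.1 h))
    exact ⟨x, specializes_iff_mem_closure.2 hx, hfx⟩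
  refine ⟨fun ξ η ζ hξ hη h1 h2 => ?_, funext fun ζ => ?_⟩
  · obtain ⟨hr', a, ha, rfl⟩ := hmap ξ hξ
    obtain ⟨x, hax, rfl⟩ := hlift a ζ h1
    have := hmeet a ha η hη x hax h2
    have := Groth.Cycles.delta_le_of_deltaCompat hδ x
    have := hβs η hη
    omega
  -- away from the expected dimension
  have hsuppγ := Groth.Cycles.finite_preimage_inter_support f γ ζ
  by_cases hζ : δY ζ = r + s - m
  swap
  · rw [Groth.Cycles.map_apply_eq_sum f δX δY γ ζ hsuppγ.toFinset fun x hx h => hsuppγ.mem_toFinset.2 ⟨hx, h⟩]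
    trans (0 : ℤ)
    · refine finsum_eq_zero_of_forall_eq_zero fun p => ?_
      by_contra hne
      obtain ⟨hr', -⟩ := hmap _ (left_ne_zero_of_mul (left_ne_zero_of_mul hne))
      have := hβs _ (right_ne_zero_of_mul (left_ne_zero_of_mul hne))
      have := p.2.2.2
      omega
    symm
    refine Finset.sum_eq_zero fun z _ => ?_
    split_ifs with hz
    · by_cases hd : δX z = δY (f z)
      · have h0 : γ z = 0 := by
          rw [hγ]
          refine finsum_eq_zero_of_forall_eq_zero fun p => ?_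
          by_contra hne
          have h1 := hαr _ (left_ne_zero_of_mul (left_ne_zero_of_mul hne))
          have h2 := right_ne_zero_of_mul (left_ne_zero_of_mul hne)
          rw [Cyc.pullFun] at h2
          obtain ⟨h3, h4⟩ := ite_ne_right_iff.mp h2
          have := hβs _ (left_ne_zero_of_mul h4)
          have := p.2.2.2
          rw [hz] at hd
          omega
        rw [h0, zero_mul]
      · simp [AlgebraicCycle.mapCoeff, hd]
    · rfl
  -- the components near the point
  have hfinA : {a : X | α a ≠ 0 ∧ f a ⤳ ζ}.Finite := by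
    obtain ⟨_, ⟨V, hV, rfl⟩, hyV, -⟩ :=
      Y.isBasis_affineOpens.exists_subset_of_mem_open (Set.mem_univ ζ) isOpen_univ
    exact (α.locallyFiniteSupport.finite_inter_support_of_isCompact
      (f.isCompact_preimage hV.isCompact)).subset fun a ha => ⟨ha.2.mem_open V.2 hyV, ha.1⟩
  set SA := hfinA.toFinset with hSA
  set SB := (Groth.Calg6.CycleLinear.finite_cycle_gen β ζ).toFinset with hSB
  have hmA : ∀ a ∈ SA, α a ≠ 0 ∧ f a ⤳ ζ := fun a ha => hfinA.mem_toFinset.1 ha
  have hmB : ∀ b ∈ SB, b ⤳ ζ ∧ β b ≠ 0 := fun b hb =>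
    (Groth.Calg6.CycleLinear.finite_cycle_gen β ζ).mem_toFinset.1 hb
  have hpairs : ∀ p ∈ SA ×ˢ SB, δY (f p.1) = δX p.1 ∧ ∃ T : Finset X, (∀ z, z ∈ T ↔ (p.1 ⤳ z ∧ f z = ζ)) ∧
      ∑ z ∈ T, (f.residueDegree z : ℤ) * IntMult.chi (X.presheaf.stalk z)
          ((Cyc.closureStructureSheaf p.1).presheaf.stalk z)
          (((Scheme.Modules.pullback f).obj (Cyc.closureStructureSheaf p.2)).presheaf.stalk z) =
        (f.residueDegree p.1 : ℤ) * IntMult.chi (Y.presheaf.stalk ζ)
          ((Cyc.closureStructureSheaf (f p.1)).presheaf.stalk ζ)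
          ((Cyc.closureStructureSheaf p.2).presheaf.stalk ζ) := fun p hp => by
    obtain ⟨h1, h2⟩ := Finset.mem_product.1 hp
    obtain ⟨ha, hfa⟩ := hmA _ h1
    obtain ⟨hbζ, hb⟩ := hmB _ h2
    exact Groth.Calg6.ProjFormula.pair f gX gY hX hY hδX hδY hδ hn hm he hle
      (fun x hx hx' => by rw [hαr _ ha, hβs _ hb]; exact hmeet _ ha _ hb x hx hx')
      (by rw [hαr _ ha, hβs _ hb]; exact hζ) hbζ hfa
  choose hdeq T hT hTsum using hpairs
  let Tall : Finset X := hsuppγ.toFinset ∪ (SA ×ˢ SB).attach.biUnion fun p => T p.1 p.2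
  -- sheaves
  let F : X → X.Modules := fun a => Cyc.closureStructureSheaf a
  let G : Y → Y.Modules := fun b => Cyc.closureStructureSheaf b
  let G' : Y → X.Modules := fun b => (Scheme.Modules.pullback f).obj (G b)
  have hcohF : ∀ a, Coh.IsCoh (F a) := fun a => Groth.KTheory.Devissage.isCoh_closureStructureSheaf a
  have hcohG : ∀ b, Coh.IsCoh (G b) := fun b => Groth.KTheory.Devissage.isCoh_closureStructureSheaf b
  have hcohG' : ∀ b, Coh.IsCoh (G' b) := fun b =>
    haveI := (hcohG b).1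
    ⟨Groth.QCohMod.isQCoh_pullback_obj f (G b), Groth.QCohMod.isFT_pullback f (G b) (hcohG b).2⟩
  have hGsupp : ∀ b, β b ≠ 0 → ∀ y, Nontrivial ((G b).presheaf.stalk y) → b ⤳ y ∧ δY y ≤ s := fun b hb y hy => by
    have := Groth.Calg6.CycleLinear.delta_le_of_nontrivial_closure hY.2.2 b y hy
    exact ⟨this.1, hβs b hb ▸ this.2⟩
  have hFsupp : ∀ a, α a ≠ 0 → ∀ x, Nontrivial ((F a).presheaf.stalk x) → a ⤳ x ∧ δX x ≤ r := fun a ha x hx => by
    have := Groth.Calg6.CycleLinear.delta_le_of_nontrivial_closure hX.2.2 a x hx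
    exact ⟨this.1, hαr a ha ▸ this.2⟩
  have hP : ∀ b, β b ≠ 0 →
      (∀ x' : X, Nontrivial ((G' b).presheaf.stalk x') → δX x' ≤ s + e) ∧
        Cyc.pullFun f δX δY e (Cyc.sheafFun δY s (G b)) = Cyc.sheafFun δX (s + e) (G' b) := fun b hb =>
    Groth.Cycles.pullFun_sheafFun_eq f hX.2.2 (e : ℤ) hc s (G b) fun y hy => (hGsupp b hb y hy).2
  have hG'supp : ∀ b, β b ≠ 0 → ∀ x, Nontrivial ((G' b).presheaf.stalk x) → b ⤳ f x := fun b hb x hx => by
    refine (hGsupp b hb (f x) ?_).1
    by_contra hcon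
    have := not_nontrivial_iff_subsingleton.mp hcon
    have h0 := Groth.Cycles.length_stalk_pullback f (G b) x
    rw [(Module.length_eq_zero (R := Y.presheaf.stalk (f x))), zero_mul, Module.length_eq_zero_iff] at h0
    exact not_nontrivial_iff_subsingleton.mpr h0 hx
  -- downstairs
  have hL : IntMult.interProd δY m (⇑(AlgebraicCycle.map f δX δY α)) (⇑β) ζ = ∑ p ∈ (SA ×ˢ SB).attach,
      α p.1.1 * β p.1.2 * ((f.residueDegree p.1.1 : ℤ) * IntMult.chi (Y.presheaf.stalk ζ)
        ((G (f p.1.1)).presheaf.stalk ζ) ((G p.1.2).presheaf.stalk ζ)) := by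
    have hfr : ∀ a, α a ≠ 0 → ∀ y, Nontrivial ((G (f a)).presheaf.stalk y) → f a ⤳ y ∧ δY y ≤ r := fun a ha y hy => by
      have := Groth.Calg6.CycleLinear.delta_le_of_nontrivial_closure hY.2.2 (f a) y hy
      exact ⟨this.1, this.2.trans (by have := Groth.Cycles.delta_le_of_deltaCompat hδ a; have := hαr a ha; omega)⟩
    rw [Groth.Calg6.CycleLinear.interProd_sum δY m ζ SA SB _ _
      (fun a => α a * (AlgebraicCycle.mapCoeff f δX δY a : ℤ)) (fun b => β b)
      (fun a => Cyc.sheafFun δY r (G (f a))) (fun b => Cyc.sheafFun δY s (G b))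
      (fun ξ hξ => ?_) (fun η hη => Groth.Calg6.CycleLinear.cycle_eq_sum hY.2.2 β hβ ζ η hη)
      (fun a ha => Groth.Calg6.CycleLinear.finite_sheafFun_gen hY.2.2 _ (hcohG _) r
        (fun y hy => (hfr a (hmA a ha).1 y hy).2) ζ)
      (fun b hb => Groth.Calg6.CycleLinear.finite_sheafFun_gen hY.2.2 _ (hcohG _) s
        (fun y hy => (hGsupp b (hmB b hb).2 y hy).2) ζ), ← Finset.sum_product',
      ← Finset.sum_attach]
    · refine Finset.sum_congr rfl fun p _ => ?_
      obtain ⟨h1, h2⟩ := Finset.mem_product.1 p.2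
      obtain ⟨ha, hfa⟩ := hmA _ h1
      obtain ⟨hbζ, hb⟩ := hmB _ h2
      rw [(Groth.Agent.S6470.result K Y gY δY hY hδY m hm (G (f p.1.1)) (G p.1.2) (hcohG _) (hcohG _) r s
          (fun y hy => (hfr _ ha y hy).2) (fun y hy => (hGsupp _ hb y hy).2) fun y hy hy' => ?_).2 ζ,
        if_pos hζ, AlgebraicCycle.mapCoeff, if_pos (hdeq p.1 p.2).symm]
      · ring
      · obtain ⟨x, hx, rfl⟩ := hlift _ y (hfr _ ha y hy).1
        have := hmeet _ ha _ hb x hx (hGsupp _ hb _ hy').1
        have := Groth.Cycles.delta_le_of_deltaCompat hδ x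
        omega
    · rw [Groth.Cycles.map_apply_eq_sum f δX δY α ξ SA fun x hx h => hfinA.mem_toFinset.2 ⟨h, hx ▸ hξ⟩]
      refine Finset.sum_congr rfl fun a ha => ?_
      by_cases hd : δX a = δY (f a)
      · have hr' : δY (f a) = r := hd ▸ hαr a (hmA a ha).1
        rw [← hr', Groth.Calg6.CycleLinear.sheafFun_closure hY.2.2]
        simp only [eq_comm (a := ξ), mul_ite, mul_one, mul_zero]
      · simp [AlgebraicCycle.mapCoeff, hd]
  -- upstairs
  have hR : ∀ z, f z = ζ → δX z = δY ζ → γ z = ∑ p ∈ (SA ×ˢ SB).attach, α p.1.1 * β p.1.2 *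
      IntMult.chi (X.presheaf.stalk z) ((F p.1.1).presheaf.stalk z) ((G' p.1.2).presheaf.stalk z) := by
    intro z hz hdz
    subst hz
    rw [hγ, Groth.Calg6.CycleLinear.interProd_sum δX n z SA SB _ _ (fun a => α a) (fun b => β b)
      (fun a => Cyc.sheafFun δX r (F a)) (fun b => Cyc.sheafFun δX (s + e) (G' b))
      (fun ξ hξ => ?_) (fun η hη => ?_)
      (fun a ha => Groth.Calg6.CycleLinear.finite_sheafFun_gen hX.2.2 _ (hcohF _) r
        (fun x hx => (hFsupp a (hmA a ha).1 x hx).2) z)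
      (fun b hb => Groth.Calg6.CycleLinear.finite_sheafFun_gen hX.2.2 _ (hcohG' _) (s + e)
        (hP b (hmB b hb).2).1 z), ← Finset.sum_product', ← Finset.sum_attach]
    · refine Finset.sum_congr rfl fun p _ => ?_
      obtain ⟨h1, h2⟩ := Finset.mem_product.1 p.2
      obtain ⟨ha, -⟩ := hmA _ h1
      obtain ⟨-, hb⟩ := hmB _ h2
      rw [(Groth.Agent.S6470.result K X gX δX hX hδX n hn (F p.1.1) (G' p.1.2) (hcohF _) (hcohG' _) r (s + e)
          (fun x hx => (hFsupp _ ha x hx).2) (hP _ hb).1 fun x hx hx' => ?_).2 z, if_pos (by omega)]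
      have := hmeet _ ha _ hb x (hFsupp _ ha x hx).1 (hG'supp _ hb x hx')
      omega
    · have h : ∀ a ∈ SA, α a * Cyc.sheafFun δX r (F a) ξ = if ξ = a then α a else 0 := fun a ha => by
        rw [← hαr a (hmA a ha).1, Groth.Calg6.CycleLinear.sheafFun_closure hX.2.2, mul_ite, mul_one, mul_zero]
      rw [Finset.sum_congr rfl h, Finset.sum_ite_eq]
      split_ifs with hmem
      · rfl
      · by_contra hne
        exact hmem (hfinA.mem_toFinset.2 ⟨hne, hξ.map f.continuous⟩)
    · rw [Cyc.pullFun, Groth.Calg6.CycleLinear.cycle_eq_sum hY.2.2 β hβ (f z) (f η) (hη.map f.continuous)]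
      split_ifs with hd
      · rw [Finset.sum_mul]
        refine Finset.sum_congr rfl fun b hb => ?_
        rw [← (hP b (hmB b hb).2).2, Cyc.pullFun, if_pos hd, mul_assoc]
      · refine (Finset.sum_eq_zero fun b hb => ?_).symm
        rw [← (hP b (hmB b hb).2).2, Cyc.pullFun, if_neg hd, mul_zero]
  rw [hL, Groth.Cycles.map_apply_eq_sum f δX δY γ ζ Tall fun x hx h =>
    Finset.mem_union_left _ (hsuppγ.mem_toFinset.2 ⟨hx, h⟩)]
  let g : X → {p // p ∈ SA ×ˢ SB} → ℤ := fun z p => α p.1.1 * β p.1.2 * ((f.residueDegree z : ℤ) *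
    IntMult.chi (X.presheaf.stalk z) ((F p.1.1).presheaf.stalk z) ((G' p.1.2).presheaf.stalk z))
  have hz : ∀ z, (if f z = ζ then γ z * (AlgebraicCycle.mapCoeff f δX δY z : ℤ) else 0) =
      ∑ p ∈ (SA ×ˢ SB).attach, if f z = ζ ∧ δX z = δY ζ then g z p else 0 := fun z => by
    by_cases hz : f z = ζ
    · rw [if_pos hz, AlgebraicCycle.mapCoeff]
      by_cases hd : δX z = δY ζ
      · rw [hR z hz hd, if_pos (hz.symm ▸ hd), Finset.sum_mul]
        refine Finset.sum_congr rfl fun p _ => ?_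
        rw [if_pos ⟨hz, hd⟩]
        simp only [g]
        ring
      · rw [if_neg (hz.symm ▸ hd), Nat.cast_zero, mul_zero]
        exact (Finset.sum_eq_zero fun p _ => if_neg fun h => hd h.2).symm
    · rw [if_neg hz]
      exact (Finset.sum_eq_zero fun p _ => if_neg fun h => hz h.1).symm
  rw [Finset.sum_congr rfl fun z _ => hz z, Finset.sum_comm]
  refine Finset.sum_congr rfl fun p hp => ?_
  obtain ⟨h1, h2⟩ := Finset.mem_product.1 p.2
  obtain ⟨ha, hfa⟩ := hmA _ h1
  obtain ⟨hbζ, hb⟩ := hmB _ h2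
  have hsub : T p.1 p.2 ⊆ Tall :=
    (Finset.subset_biUnion_of_mem (fun p : {p // p ∈ SA ×ˢ SB} => T p.1 p.2) hp).trans Finset.subset_union_right
  rw [← Finset.sum_subset hsub fun z _ hz' => ?_, ← hTsum p.1 p.2, Finset.mul_sum]
  · refine Finset.sum_congr rfl fun z hz' => ?_
    obtain ⟨haz, hfz⟩ := (hT p.1 p.2 z).1 hz'
    have h1' := hmeet _ ha _ hb z haz (hfz.symm ▸ hbζ)
    have h2' := Groth.Cycles.delta_le_of_deltaCompat hδ z
    rw [hfz] at h2'
    rw [if_pos ⟨hfz, by omega⟩]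
  · split_ifs with hz''
    · haveI : Subsingleton ((F p.1.1).presheaf.stalk z) := not_nontrivial_iff_subsingleton.1 fun hn' =>
        hz' ((hT p.1 p.2 z).2 ⟨(hFsupp _ ha z hn').1, hz''.1⟩)
      simp only [g, Groth.Agent.S6470.chi_of_subsingleton, mul_zero]
    · rfl

end Groth.Agent.S1950
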