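import Groth.Statements.S19500
import Groth.Agent.CubicGeom.TPoints

set_option autoImplicit false
universe u
open Cubic

namespace Groth.Agent.S19500

/-- Let K be an algebraically closed field of characteristic zero and S = V(F) ⊂ P^3_K a cubic surface
(F homogeneous of degree 3) which is irreducible and not a cone (no nonzero vector v has Σ_i v_i
∂F/∂x_i = 0). For a nonzero vector b with F(b) = 0 write ℓ_b = Σ_i ∂F/∂x_i(b) · x_i for the linear
form of the tangent plane at b; call b a T-point when b is a smooth point of S (some ∂F/∂x_i(b) ≠ 0)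
and F is congruent modulo ℓ_b to a product of three linear forms (the plane cubic T_b S ∩ S is
set-theoretically a union of lines). Let a be a smooth point of S which is not a T-point and H ⊂ K^4
the hyperplane ℓ_a = 0 (the tangent plane T_a S). Then T_a S contains only finitely many T-points of
S: the set of one-dimensional subspaces U ≤ H all of whose nonzero vectors are T-points is finite. -/
theorem result (K : Type u) [Field K] [IsAlgClosed K]
    [CharZero K] (F : MvPolynomial (Fin 4) K) (hF : F.IsHomogeneous 3) (hirr : Irreducible F)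
    (hcone : ¬ ∃ v : Fin 4 → K, v ≠ 0 ∧ ∑ i : Fin 4, v i • MvPolynomial.pderiv i F = 0)
    (tp : (Fin 4 → K) → Prop)
    (htp : ∀ b : Fin 4 → K, tp b ↔ (b ≠ 0 ∧ MvPolynomial.eval b F = 0 ∧
      (∃ i : Fin 4, MvPolynomial.eval b (MvPolynomial.pderiv i F) ≠ 0) ∧
      ∃ L₁ L₂ L₃ : MvPolynomial (Fin 4) K, L₁.IsHomogeneous 1 ∧ L₂.IsHomogeneous 1 ∧ L₃.IsHomogeneous 1 ∧
        F - L₁ * L₂ * L₃ ∈ Ideal.span {∑ i : Fin 4,
          MvPolynomial.C (MvPolynomial.eval b (MvPolynomial.pderiv i F)) * MvPolynomial.X i}))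
    (a : Fin 4 → K) (haF : MvPolynomial.eval a F = 0)
    (hsm : ∃ i : Fin 4, MvPolynomial.eval a (MvPolynomial.pderiv i F) ≠ 0) (ha : ¬ tp a)
    (H : Submodule K (Fin 4 → K))
    (hH : ∀ x : Fin 4 → K, x ∈ H ↔ MvPolynomial.eval x (∑ i : Fin 4,
      MvPolynomial.C (MvPolynomial.eval a (MvPolynomial.pderiv i F)) * MvPolynomial.X i) = 0) :
    Set.Finite {U : Submodule K (Fin 4 → K) | Module.finrank K ↥U = 1 ∧ U ≤ H ∧
      ∀ b ∈ U, b ≠ 0 → tp b} := by
  classical
  have hev : ∀ b x : Fin 4 → K, MvPolynomial.eval x (∑ i : Fin 4,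
      MvPolynomial.C (MvPolynomial.eval b (MvPolynomial.pderiv i F)) * MvPolynomial.X i) =
        (Groth.CubicGeom.ofPoly F).tri b b x / 2 := fun b x => by
    rw [Groth.CubicGeom.ofPoly_self_self hF]; simp
  have ha0 : a ≠ 0 := by
    rintro rfl
    obtain ⟨i, hi⟩ := hsm
    exact hi (by rw [MvPolynomial.eval_zero, MvPolynomial.constantCoeff_eq,
      (hF.pderiv (i := i)).coeff_eq_zero (d := 0) (by simp)])
  obtain ⟨i, hi⟩ := hsm
  have hr : (Groth.CubicGeom.ofPoly F).tri a a (Pi.single i 1) ≠ 0 := fun h =>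
    hi (by rw [Groth.CubicGeom.pderiv_eq_ofPoly hF, h, zero_div])
  have hH' : H = LinearMap.ker ((Groth.CubicGeom.ofPoly F).tri a a) := by
    ext x; rw [hH, hev]; simp
  refine hH' ▸ Groth.CubicGeom.finite_tpoints hF ha0 haF hr ?_ tp fun b hb => ?_
  · rintro ⟨M₁, M₂, M₃, hM⟩
    refine ha ((htp a).2 ⟨ha0, haF, ⟨i, hi⟩, Groth.CubicGeom.linPoly ((1 / 6 : K) • M₁),
      Groth.CubicGeom.linPoly M₂, Groth.CubicGeom.linPoly M₃, Groth.CubicGeom.isHomogeneous_linPoly _,
      Groth.CubicGeom.isHomogeneous_linPoly _, Groth.CubicGeom.isHomogeneous_linPoly _, ?_⟩)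
    refine Ideal.mem_span_singleton.2 (dvd_trans ?_ (Groth.CubicGeom.linPoly_dvd_of_forall'
      ((Groth.CubicGeom.ofPoly F).tri a a) (fun h => hr (by simp [h])) _ fun x hx => ?_))
    · refine ⟨MvPolynomial.C 2, MvPolynomial.funext fun x => ?_⟩
      rw [map_mul, hev, Groth.CubicGeom.eval_linPoly, MvPolynomial.eval_C]
      ring
    · have := hM x hx
      rw [Groth.CubicGeom.ofPoly_self hF] at this
      simp [Groth.CubicGeom.eval_linPoly]
      linear_combination (1 / 6 : K) * this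
  · obtain ⟨hb0, hbF, -, L₁, L₂, L₃, h₁, h₂, h₃, hmem⟩ := (htp b).1 hb
    obtain ⟨M₁, hM₁⟩ := Groth.CubicGeom.exists_linearMap_of_homogeneous_one h₁
    obtain ⟨M₂, hM₂⟩ := Groth.CubicGeom.exists_linearMap_of_homogeneous_one h₂
    obtain ⟨M₃, hM₃⟩ := Groth.CubicGeom.exists_linearMap_of_homogeneous_one h₃
    refine ⟨hbF, (6 : K) • M₁, M₂, M₃, fun x hx => ?_⟩
    obtain ⟨c, hc⟩ := Ideal.mem_span_singleton.1 hmem
    have := congrArg (MvPolynomial.eval x) hc
    rw [map_sub, map_mul, map_mul, map_mul, hev, hx] at this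
    rw [Groth.CubicGeom.ofPoly_self hF]
    simp [hM₁, hM₂, hM₃]
    linear_combination (6 : K) * this

end Groth.Agent.S19500
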