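import Groth.Statements.S19502
-- import your own Groth.Agent.* helpers here

set_option autoImplicit false
universe u
open W4c3ghconstell

namespace Groth.Agent.S19502

/-- Let ι index the irreducible representations, θ : ι → ℚ a weight which is negative exactly on the
finite set D₋, h h' : ι → ℕ with h' ≤ h pointwise (the isotypic dimensions of an object and of a
sub-object) and Σ_i θ_i h_i summable. For a finite set D of indices put S_D = Σ_{i ∉ D} θ_i h_i, d =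
#(D ∖ D₋) and θ̃_D = Σ_{i ∈ D} θ_i h'_i + (S_D / d) · Σ_{i ∈ D ∖ D₋} h'_i / h_i, the modified weight
attached to the parameters chosen for D (a quotient by zero is read as zero). Then for finite sets
D₋ ⊆ D ⊆ D̃ contained in the locus θ ≠ 0: (first error term) θ̃_{D̃} − θ̃_D = Σ_{τ ∈ D̃ ∖ D} (θ_τ
h_τ + S_{D̃}/d̃) · (h'_τ/h_τ − (1/d) Σ_{σ ∈ D ∖ D₋} h'_σ/h_σ); (second error term) Σ_i θ_i h'_i −
θ̃_D = Σ_{τ ∉ D} θ_τ h_τ · (h'_τ/h_τ − (1/d) Σ_{σ ∈ D ∖ D₋} h'_σ/h_σ). -/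
theorem result {ι : Type u} [DecidableEq ι]
    (θ : ι → ℚ) (h h' : ι → ℕ) (hle : ∀ i, h' i ≤ h i) (hfin : {i | θ i < 0}.Finite)
    (hsum : Summable (fun i => (θ i : ℝ) * (h i : ℝ))) (D D' : Finset ι)
    (hDm : hfin.toFinset ⊆ D) (hDD' : D ⊆ D') (hsupp : ∀ i ∈ D', θ i ≠ 0) :
    (((∑ i ∈ D', (θ i : ℝ) * (h' i : ℝ)) + ((∑' i, if i ∈ D' then (0 : ℝ) else (θ i : ℝ) * (h i : ℝ)) / ((D' \ hfin.toFinset).card : ℝ)) * (∑ σ ∈ D' \ hfin.toFinset, ((h' σ : ℝ) / (h σ : ℝ)))) - ((∑ i ∈ D, (θ i : ℝ) * (h' i : ℝ)) + ((∑' i, if i ∈ D then (0 : ℝ) else (θ i : ℝ) * (h i : ℝ)) / ((D \ hfin.toFinset).card : ℝ)) * (∑ σ ∈ D \ hfin.toFinset, ((h' σ : ℝ) / (h σ : ℝ)))) =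
      ∑ τ ∈ D' \ D, ((θ τ : ℝ) * (h τ : ℝ) + (∑' i, if i ∈ D' then (0 : ℝ) else (θ i : ℝ) * (h i : ℝ)) / ((D' \ hfin.toFinset).card : ℝ)) *
        (((h' τ : ℝ) / (h τ : ℝ)) - (1 / ((D \ hfin.toFinset).card : ℝ)) * (∑ σ ∈ D \ hfin.toFinset, ((h' σ : ℝ) / (h σ : ℝ))))) ∧
    ((∑' i, (θ i : ℝ) * (h' i : ℝ)) - ((∑ i ∈ D, (θ i : ℝ) * (h' i : ℝ)) + ((∑' i, if i ∈ D then (0 : ℝ) else (θ i : ℝ) * (h i : ℝ)) / ((D \ hfin.toFinset).card : ℝ)) * (∑ σ ∈ D \ hfin.toFinset, ((h' σ : ℝ) / (h σ : ℝ)))) =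
      ∑' τ, if τ ∈ D then (0 : ℝ) else (θ τ : ℝ) * (h τ : ℝ) *
        (((h' τ : ℝ) / (h τ : ℝ)) - (1 / ((D \ hfin.toFinset).card : ℝ)) * (∑ σ ∈ D \ hfin.toFinset, ((h' σ : ℝ) / (h σ : ℝ))))) := by
  have hz : ∀ i, (θ i : ℝ) * h i * ((h' i : ℝ) / h i) = θ i * h' i := by
    intro i
    rcases Nat.eq_zero_or_pos (h i) with h0 | h0
    · have : h' i = 0 := Nat.le_zero.1 (h0 ▸ hle i)
      simp [h0, this]
    · have : (h i : ℝ) ≠ 0 := by positivity
      field_simp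
  have hsum' : Summable (fun i => (θ i : ℝ) * (h' i : ℝ)) :=
    Summable.of_abs (hsum.abs.of_nonneg_of_le (fun i => abs_nonneg _) fun i => by
      rw [abs_mul, abs_mul, Nat.abs_cast, Nat.abs_cast]
      exact mul_le_mul_of_nonneg_left (by exact_mod_cast hle i) (abs_nonneg _))
  have hite : ∀ (g : ι → ℝ) (E : Finset ι), Summable g → Summable (fun i => if i ∈ E then 0 else g i) ∧
      (∑' i, g i) = (∑ i ∈ E, g i) + ∑' i, if i ∈ E then 0 else g i := by
    intro g E hg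
    have hfin' : HasSum (fun i => if i ∈ E then g i else 0) (∑ i ∈ E, g i) := by
      rw [← Finset.sum_congr rfl (fun i (hi : i ∈ E) => if_pos hi)]
      exact hasSum_sum_of_ne_finset_zero fun i hi => if_neg hi
    have := hg.hasSum.sub hfin'
    rw [show (fun i => g i - if i ∈ E then g i else 0) = fun i => if i ∈ E then 0 else g i from
      funext fun i => by split_ifs <;> simp] at this
    exact ⟨this.summable, by rw [this.tsum_eq]; ring⟩
  constructor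
  · have hsplit : D' \ hfin.toFinset = (D \ hfin.toFinset) ∪ (D' \ D) := by
      ext x; have := @hDm x; have := @hDD' x; simp only [Finset.mem_union, Finset.mem_sdiff]; tauto
    have hdisj : Disjoint (D \ hfin.toFinset) (D' \ D) := by
      rw [Finset.disjoint_left]; intro x hx; simp only [Finset.mem_sdiff] at hx ⊢; tauto
    have hS : (∑' i, if i ∈ D then (0 : ℝ) else (θ i : ℝ) * (h i : ℝ)) = (∑ i ∈ D' \ D, (θ i : ℝ) * (h i : ℝ)) + ∑' i, if i ∈ D' then (0 : ℝ) else (θ i : ℝ) * (h i : ℝ) := by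
      have a := (hite _ D hsum).2
      have b := (hite _ D' hsum).2
      rw [← Finset.sum_sdiff hDD' (f := fun i => (θ i : ℝ) * (h i : ℝ))] at b
      linarith
    rw [hS, hsplit, Finset.sum_union hdisj, Finset.card_union_of_disjoint hdisj,
      ← Finset.sum_sdiff hDD' (f := fun i => (θ i : ℝ) * (h' i : ℝ))]
    generalize (∑' i, if i ∈ D' then (0 : ℝ) else (θ i : ℝ) * (h i : ℝ)) = S'
    generalize (D' \ D) = E
    by_cases hd : (D \ hfin.toFinset).card = 0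
    · rw [Finset.card_eq_zero.1 hd]
      simp only [Finset.sum_empty, Finset.card_empty, add_mul, hz, Finset.sum_add_distrib, Finset.mul_sum, mul_zero, zero_add, sub_zero, add_zero, Nat.cast_zero]
      ring
    · generalize (∑ i ∈ D \ hfin.toFinset, ((h' i : ℝ) / (h i : ℝ))) = P
      have hd' : ((D \ hfin.toFinset).card : ℝ) ≠ 0 := by exact_mod_cast hd
      have hd'' : ((D \ hfin.toFinset).card : ℝ) + (E.card : ℝ) ≠ 0 := by positivity
      generalize ((D \ hfin.toFinset).card) = dn at hd' hd'' ⊢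
      simp only [mul_sub, add_mul, hz, Finset.sum_sub_distrib, Finset.sum_add_distrib, ← Finset.sum_mul,
        ← Finset.mul_sum, Finset.sum_const, nsmul_eq_mul, Nat.cast_add]
      field_simp
      ring
  · generalize hc : (1 / ((D \ hfin.toFinset).card : ℝ)) * (∑ σ ∈ D \ hfin.toFinset, ((h' σ : ℝ) / (h σ : ℝ))) = c
    have h1 : (fun τ => if τ ∈ D then (0 : ℝ) else (θ τ : ℝ) * (h τ : ℝ) * (((h' τ : ℝ) / (h τ : ℝ)) - c)) =
        fun τ => (if τ ∈ D then (0 : ℝ) else (θ τ : ℝ) * (h' τ : ℝ)) - (if τ ∈ D then (0 : ℝ) else (θ τ : ℝ) * (h τ : ℝ)) * c := by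
      funext τ; split_ifs
      · simp
      · rw [mul_sub, hz]
    rw [h1, (hite _ D hsum').1.tsum_sub ((hite _ D hsum).1.mul_right c), tsum_mul_right, (hite _ D hsum').2, ← hc]
    ring

end Groth.Agent.S19502
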