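import Groth.Statements.S19503
import Groth.Agent.Curves1.Lipman.VeryAmple

set_option autoImplicit false
universe u
open CategoryTheory CategoryTheory.Limits AlgebraicGeometry
open Curves

namespace Groth.Agent.S19503

/-- Let A be a Noetherian ring and f : X → Spec A a proper morphism such that H^1(X, O_X) = 0 and every
fibre of f has dimension at most one. If an O_X-module L is f-ample (f quasi-compact and L an ample
invertible module on the preimage of every affine open of Spec A), then L is f-very ample: for some
n there is an immersion i : X → Pⁿ over Spec A, compatible with f, such that L is isomorphic to the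
pullback of O(1) along i. -/
theorem result (A : Type u) [CommRing A]
    [IsNoetherianRing A] (X : Scheme.{u}) (f : X ⟶ Spec (CommRingCat.of A)) [IsProper f]
    (h1 : Subsingleton (Coh.HH X (Coh.structureModule X) 1))
    (hfib : ∀ y : ↥(Spec (CommRingCat.of A)), topologicalKrullDim ↥(f.fiber y) ≤ 1)
    (L : X.Modules) (hL : RelAmple.IsRelAmple f L) :
    RelAmple.IsRelVeryAmplePn f L := by
  exact Groth.Curves1.Lipman.isRelVeryAmplePn_of_ample A X f h1 hfib L hL

end Groth.Agent.S19503
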