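import Groth.Statements.S1951
import Groth.Agent.CycInter.ExtPoint

set_option autoImplicit false
universe u
open CategoryTheory CategoryTheory.Limits AlgebraicGeometry
attribute [local instance] HasDerivedCategory.standard
open IntMult
open Groth.CycleLimits

namespace Groth.Agent.S1951

/-- Let X, Y be nonsingular varieties over K of dimensions n, m, α an r-cycle on X and β an s-cycle on
Y. Then pr_X^*α and pr_Y^*β (flat pullbacks to X ×_K Y, of relative dimensions m and n) intersect
properly on X ×_K Y and pr_X^*α · pr_Y^*β = α × β as (r + s)-cycles, coefficientwise. Here X is a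
nonsingular variety over the algebraically closed field K (smooth, separated, quasi-compact,
integral) with dimension function δ (transcendence degree) and n = dim X; cycles are Mathlib
AlgebraicCycles with Cyc.Zk membership, proper intersection is IntMult.IntersectProperly and α · β
is the Tor-formula intersection product on coefficient functions (IntMult.interProd), bundled where
needed as 'any cycle with these coefficients'. -/
theorem result (K : Type u) [Field K] [IsAlgClosed K] (X Y : Scheme.{u}) (f : X ⟶ Spec (CommRingCat.of K)) (g : Y ⟶ Spec (CommRingCat.of K)) [Smooth f] [IsSeparated f] [QuasiCompact f] [IsIntegral X] [Smooth g] [IsSeparated g] [QuasiCompact g] [IsIntegral Y] (δX : X → ℤ) (δY : Y → ℤ) (δ : ↥(pullback f g) → ℤ) (hX : Cyc.DeltaCompat f δX (fun _ => 0)) (hY : Cyc.DeltaCompat g δY (fun _ => 0)) (hXY : Cyc.DeltaCompat (pullback.fst f g ≫ f) δ (fun _ => 0)) (n m : ℕ) (hn : δX (genericPoint X) = n) (hm : δY (genericPoint Y) = m) (r s : ℤ) (α : AlgebraicCycle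 X ℤ) (β : AlgebraicCycle Y ℤ) (hα : α ∈ Cyc.Zk X δX r) (hβ : β ∈ Cyc.Zk Y δY s) : IntMult.IntersectProperly δ (n + m) (Cyc.pullFun (pullback.fst f g) δ δX m ⇑α) (Cyc.pullFun (pullback.snd f g) δ δY n ⇑β) ∧ IntMult.interProd δ (n + m) (Cyc.pullFun (pullback.fst f g) δ δX m ⇑α) (Cyc.pullFun (pullback.snd f g) δ δY n ⇑β) = IntMult.extProd f g δX δY δ ⇑α ⇑β := by
  classical
  have := Groth.CycInter.Ext.geometricallyIntegral_of_isAlgClosed f
  have := Groth.CycInter.Ext.geometricallyIntegral_of_isAlgClosed g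
  set px := pullback.fst f g with hpxdef
  set py := pullback.snd f g with hpydef
  have sq : IsPullback px py f g := IsPullback.of_hasPullback f g
  have hP' : Cyc.DeltaCompat (py ≫ g) δ fun _ => 0 := by
    rw [← pullback.condition]; exact hXY
  have hPs := Groth.CycInter.Ext.isSetup_field (px ≫ f) hXY
  have hXs := Groth.CycInter.Ext.isSetup_field f hX
  have hYs := Groth.CycInter.Ext.isSetup_field g hY
  have : IsLocallyNoetherian (pullback f g) := hPs.1
  have hle := Groth.CycInter.Ext.delta_le f g px py sq hX hY hXY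
  have hxne : ∀ ξ, Cyc.pullFun px δ δX m (⇑α) ξ ≠ 0 →
      IsFibreGeneric px ξ ∧ α (px ξ) ≠ 0 ∧ δX (px ξ) = r ∧ δ ξ = r + m := by
    intro ξ h
    simp only [Cyc.pullFun] at h
    split_ifs at h with hd
    · have h1 := left_ne_zero_of_mul h
      have h2 : δX (px ξ) = r := by_contra fun hh => h1 (hα _ hh)
      exact ⟨by_contra fun hg => right_ne_zero_of_mul h (Nat.cast_eq_zero.mpr (length_toNat_eq_zero_of_not px ξ hg)),
        h1, h2, by rw [hd, h2]⟩
    · exact absurd rfl h
  have hyne : ∀ η, Cyc.pullFun py δ δY n (⇑β) η ≠ 0 →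
      IsFibreGeneric py η ∧ β (py η) ≠ 0 ∧ δY (py η) = s ∧ δ η = s + n := by
    intro η h
    simp only [Cyc.pullFun] at h
    split_ifs at h with hd
    · have h1 := left_ne_zero_of_mul h
      have h2 : δY (py η) = s := by_contra fun hh => h1 (hβ _ hh)
      exact ⟨by_contra fun hg => right_ne_zero_of_mul h (Nat.cast_eq_zero.mpr (length_toNat_eq_zero_of_not py η hg)),
        h1, h2, by rw [hd, h2]⟩
    · exact absurd rfl h
  refine ⟨fun ξ η ζ hξ hη h1 h2 => ?_, funext fun ζ => ?_⟩
  · obtain ⟨-, -, a2, a3⟩ := hxne ξ hξ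
    obtain ⟨-, -, b2, b3⟩ := hyne η hη
    have := hle ζ
    have := Groth.Cycles.delta_le_of_specializes hXs.2.2 (h1.map px.continuous)
    have := Groth.Cycles.delta_le_of_specializes hYs.2.2 (h2.map py.continuous)
    omega
  obtain ⟨ξ₀, hξ₀, hpξ, hgξ, hδξ, hlξ, huξ⟩ := Groth.CycInter.Ext.exists_gen f g px py sq hX hY hXY ζ
  obtain ⟨η₀, hη₀, hpη, hgη, hδη, hlη, huη⟩ := Groth.CycInter.Ext.exists_gen g f py px sq.flip hY hX hP' ζ
  rw [hm] at hδξ
  rw [hn] at hδη
  have hpair : ∀ p : {p : ↥(pullback f g) × ↥(pullback f g) // p.1 ⤳ ζ ∧ p.2 ⤳ ζ ∧ δ p.1 + δ p.2 - ((n : ℤ) + m) = δ ζ},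
      Cyc.pullFun px δ δX m (⇑α) p.1.1 * Cyc.pullFun py δ δY n (⇑β) p.1.2 *
        IntMult.mult (IntMult.ptIdeal p.1.1) (IntMult.ptIdeal p.1.2) ζ ≠ 0 →
      p.1.1 = ξ₀ ∧ p.1.2 = η₀ ∧ δ ζ = δX (px ζ) + δY (py ζ) := by
    rintro ⟨⟨ξ, η⟩, h1, h2, h3⟩ h
    obtain ⟨a0, a1, a2, a3⟩ := hxne ξ (left_ne_zero_of_mul (left_ne_zero_of_mul h))
    obtain ⟨b0, b1, b2, b3⟩ := hyne η (right_ne_zero_of_mul (left_ne_zero_of_mul h))
    have := hle ζ
    dsimp only at h3 h1 h2
    have := Groth.Cycles.delta_le_of_specializes hXs.2.2 (h1.map px.continuous)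
    have := Groth.Cycles.delta_le_of_specializes hYs.2.2 (h2.map py.continuous)
    have e1 : px ζ = px ξ := Groth.Cycles.eq_of_specializes_of_delta_le hXs.2.2 (h1.map px.continuous) (by omega) |>.symm
    have e2 : py ζ = py η := Groth.Cycles.eq_of_specializes_of_delta_le hYs.2.2 (h2.map py.continuous) (by omega) |>.symm
    exact ⟨huξ ξ h1 e1.symm a0, huη η h2 e2.symm b0, by rw [e1, e2]; omega⟩
  by_cases hd : δ ζ = δX (px ζ) + δY (py ζ)
  · rw [IntMult.interProd, finsum_eq_single _ (⟨(ξ₀, η₀), hξ₀, hη₀, by dsimp only; omega⟩ :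
      {p : ↥(pullback f g) × ↥(pullback f g) // p.1 ⤳ ζ ∧ p.2 ⤳ ζ ∧ δ p.1 + δ p.2 - ((n : ℤ) + m) = δ ζ})]
    · simp only [IntMult.extProd]
      rw [if_pos hd]
      have v1 : Cyc.pullFun px δ δX m (⇑α) ξ₀ = α (px ζ) := by
        unfold Cyc.pullFun
        rw [if_pos (show δ ξ₀ = δX (px ξ₀) + m by rw [hpξ]; exact hδξ)]
        rw [show Module.length _ _ = 1 from hlξ, hpξ]
        simp
      have v2 : Cyc.pullFun py δ δY n (⇑β) η₀ = β (py ζ) := by
        unfold Cyc.pullFun
        rw [if_pos (show δ η₀ = δY (py η₀) + n by rw [hpη]; exact hδη)]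
        rw [show Module.length _ _ = 1 from hlη, hpη]
        simp
      rw [v1, v2]
      congr 1
      rw [IntMult.mult, Groth.Agent.S6470.stalkIdeal_ptIdeal hξ₀, Groth.Agent.S6470.stalkIdeal_ptIdeal hη₀,
        hgξ, hgη]
      letI := (py.stalkMap ζ).hom.toAlgebra
      have : Module.Flat (Y.presheaf.stalk (py ζ)) ((pullback f g).presheaf.stalk ζ) := Flat.stalkMap py ζ
      have := Groth.CycInter.Ext.flat_quotient_fibreIdeal f g px py sq ζ
      refine (Groth.CycInter.ExtTor.chi_eq (Y.presheaf.stalk (py ζ))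
        (IsLocalRing.maximalIdeal (Y.presheaf.stalk (py ζ))) (fibreIdeal px ζ)).trans ?_
      rw [RingHom.algebraMap_toAlgebra, sup_comm]
    · intro p hp
      by_contra h
      obtain ⟨e1, e2, -⟩ := hpair p h
      exact hp (Subtype.ext (Prod.ext e1 e2))
  · simp only [IntMult.extProd]
    rw [if_neg hd, IntMult.interProd]
    exact finsum_eq_zero_of_forall_eq_zero fun p => by_contra fun h => hd (hpair p h).2.2

end Groth.Agent.S1951
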