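import Groth.Statements.S19510
import Groth.Agent.NeronArea.SmallRamificationSections


set_option autoImplicit false
universe u
open CategoryTheory MonoidalCategory CartesianMonoidalCategory MonObj GrpObj AlgebraicGeometry
open Neron

namespace Groth.Agent.S19510

/-- Let R be a complete discrete valuation ring whose fraction field K has characteristic zero and whose
residue field has characteristic p > 0, with absolute ramification small in the sense that v(p) < p
− 1 for the normalised valuation, i.e. p does not lie in the (p − 1)-st power of the maximal ideal.
Let N be a commutative R-group scheme which is a Néron model of its generic fibre, an abelian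
variety over K. Then all torsion of N(R) = A(K) injects into the special fibre under reduction: a
section x with x^n = 1 for some n ≥ 1 whose value at the closed point is the identity point is the
unit section. -/
theorem result (R : Type u) [CommRing R] [IsDomain R]
    [IsDiscreteValuationRing R] [IsAdicComplete (IsLocalRing.maximalIdeal R) R] (K : Type u) [Field K] [Algebra R K]
    [IsFractionRing R K] [CharZero K] (p : ℕ) [Fact p.Prime] [CharP (IsLocalRing.ResidueField R) p]
    (N : Over (Spec (CommRingCat.of R))) [GrpObj N] [IsCommMonObj N] (hN : SGA7.IsNeron R K N)
    [IsProper ((SGA7.genFib R K).obj N).hom] [GeometricallyIntegral ((SGA7.genFib R K).obj N).hom]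
    (x : 𝟙_ (Over (Spec (CommRingCat.of R))) ⟶ N) (n : ℕ) (hn : 0 < n) (hx : x ^ n = 1)
    (hred : x.left.base (IsLocalRing.closedPoint R) = (η[N]).left.base (IsLocalRing.closedPoint R))
    (hv : (p : R) ∉ IsLocalRing.maximalIdeal R ^ (p - 1)) : x = 1 := by
  haveI : Smooth N.hom := hN.1
  refine Groth.NeronArea.SmallRamification.eq_one_of_torsion N p hv n hn x hx ?_
  rw [Groth.NeronArea.TorsionSections.resMap_comp_eq x 1 ?_, MonObj.comp_one]
  rw [hred]
  congr 2

end Groth.Agent.S19510
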