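import Groth.Statements.S19513
import Mathlib
import Groth.Agent.Variety2.Normal
import Groth.Agent.S19511

set_option autoImplicit false
universe u
open CategoryTheory CategoryTheory.Limits AlgebraicGeometry
open Variety

namespace Groth.Agent.S19513

/-- Let k be a field and f : X → Y a k-morphism between proper k-schemes which is a fibration, i.e. O_Y
→ f_*O_X is an isomorphism (Γ(V, O_Y) → Γ(f⁻¹V, O_X) bijective for every open V ⊆ Y). If X is normal
(every local ring an integrally closed domain), then so is Y. -/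
theorem result (k : Type u) [Field k] (X Y : Scheme.{u})
    [X.Over (Spec (CommRingCat.of k))] [Y.Over (Spec (CommRingCat.of k))] [IsProper (X ↘ Spec (CommRingCat.of k))] [IsProper (Y ↘ Spec (CommRingCat.of k))]
    (f : X ⟶ Y) (hf : f ≫ (Y ↘ Spec (CommRingCat.of k)) = X ↘ Spec (CommRingCat.of k)) (hfib : ∀ V : Y.Opens, IsIso (f.app V))
    (hX : Pi1.IsNormalScheme X) : Pi1.IsNormalScheme Y := by
  intro y
  have : Surjective f := Groth.Agent.S19511.result k X Y f hf hfib
  obtain ⟨x, rfl⟩ := f.surjective y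
  have : IsLocallyNoetherian X := LocallyOfFiniteType.isLocallyNoetherian (X ↘ Spec (CommRingCat.of k))
  have : CompactSpace X := QuasiCompact.compactSpace_of_compactSpace (X ↘ Spec (CommRingCat.of k))
  have : IsNoetherian X := ⟨⟩
  let C : X.Opens := ⟨irreducibleComponent x, Groth.Variety2.isOpen_irreducibleComponents
    (fun z => (hX z).1) (irreducibleComponent_mem_irreducibleComponents x)⟩
  obtain ⟨e, he⟩ := Groth.Variety2.exists_basicOpen_eq_of_isClopen C isClosed_irreducibleComponent
  have := hfib ⊤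
  let e' : Γ(Y, ⊤) := (inv (f.app ⊤)) e
  have hfe : f.app ⊤ e' = e := by
    change (inv (f.app ⊤) ≫ f.app ⊤) e = e
    rw [IsIso.inv_hom_id]; rfl
  have hpre : f ⁻¹ᵁ Y.basicOpen e' = C := by
    rw [Scheme.preimage_basicOpen, hfe]
    exact he
  have hy : f x ∈ Y.basicOpen e' := by
    change x ∈ f ⁻¹ᵁ Y.basicOpen e'
    rw [hpre]
    exact mem_irreducibleComponent
  obtain ⟨V, hV, hyV, hVW⟩ := exists_isAffineOpen_mem_and_subset hy
  let U : X.Opens := f ⁻¹ᵁ V
  have hxU : x ∈ U := hyV
  have hUC : (U : Set X) ⊆ C := fun z hz => hpre.le (hVW hz)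
  have : Nonempty U := ⟨⟨x, hxU⟩⟩
  have hUirr : IsIrreducible (U : Set X) :=
    ⟨⟨x, hxU⟩, (isIrreducible_irreducibleComponent (x := x)).2.open_subset U.2 hUC⟩
  have : IrreducibleSpace U.toScheme := (isIrreducible_iff_irreducibleSpace).1 hUirr
  have : AlgebraicGeometry.IsReduced X :=
    @isReduced_of_isReduced_stalk X fun z => have := (hX z).1; inferInstance
  have : AlgebraicGeometry.IsIntegral U.toScheme := isIntegral_of_irreducibleSpace_of_isReduced _
  have hUn : ∀ z : U.toScheme, IsIntegrallyClosed (U.toScheme.presheaf.stalk z) := fun z => by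
    have := (hX z.1).2
    exact IsIntegrallyClosed.of_equiv (U.stalkIso z).symm.commRingCatIsoToRingEquiv
  have : Nonempty (⊤ : U.toScheme.Opens) := ⟨⟨⟨x, hxU⟩, trivial⟩⟩
  have hTn := Groth.Variety2.isIntegrallyClosed_Γ hUn ⊤
  have := hfib V
  let E : Γ(U.toScheme, ⊤) ≃+* Γ(Y, V) :=
    (U.topIso ≪≫ (asIso (f.app V)).symm).commRingCatIsoToRingEquiv
  have : IsDomain Γ(Y, V) := E.symm.toMulEquiv.isDomain _
  have : IsIntegrallyClosed Γ(Y, V) := IsIntegrallyClosed.of_equiv E
  let := (Y.presheaf.germ V (f x) hyV).hom.toAlgebra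
  have : IsLocalization.AtPrime (Y.presheaf.stalk (f x)) (hV.primeIdealOf ⟨f x, hyV⟩).asIdeal :=
    hV.isLocalization_stalk ⟨f x, hyV⟩
  have hle := (hV.primeIdealOf ⟨f x, hyV⟩).asIdeal.primeCompl_le_nonZeroDivisors
  exact ⟨IsLocalization.isDomain_of_le_nonZeroDivisors _ hle,
    isIntegrallyClosed_of_isLocalization _ _ hle⟩

end Groth.Agent.S19513
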