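import Groth.Statements.S19514
import Groth.Agent.Agf.GeomRed
import Mathlib

set_option autoImplicit false
universe u
open CategoryTheory CategoryTheory.Limits AlgebraicGeometry
open Variety

namespace Groth.Agent.S19514

/-- Let k be a field and f : X → Y a k-morphism between proper k-schemes which is a fibration, i.e. O_Y
→ f_*O_X is an isomorphism (Γ(V, O_Y) → Γ(f⁻¹V, O_X) bijective for every open V ⊆ Y). If X is
geometrically integral over k, then so is Y. (The assertion of (iii) for geometric normality is not
stated here.) -/
theorem result (k : Type u) [Field k] (X Y : Scheme.{u})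
    [X.Over (Spec (CommRingCat.of k))] [Y.Over (Spec (CommRingCat.of k))] [IsProper (X ↘ Spec (CommRingCat.of k))] [IsProper (Y ↘ Spec (CommRingCat.of k))]
    (f : X ⟶ Y) (hf : f ≫ (Y ↘ Spec (CommRingCat.of k)) = X ↘ Spec (CommRingCat.of k)) (hfib : ∀ V : Y.Opens, IsIso (f.app V))
    [GeometricallyIntegral (X ↘ Spec (CommRingCat.of k))] : GeometricallyIntegral (Y ↘ Spec (CommRingCat.of k)) := by
  haveI : IsProper (f ≫ (Y ↘ Spec (CommRingCat.of k))) := by rw [hf]; infer_instance
  haveI : IsProper f := IsProper.of_comp f (Y ↘ Spec (CommRingCat.of k))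
  haveI hst : IsSchemeTheoreticallyDominant f := ⟨by
    ext U
    rw [Scheme.Hom.ker_apply]
    haveI := hfib U.1
    simp only [Scheme.IdealSheafData.ideal_bot, Pi.bot_apply]
    exact ⟨fun h => (ConcreteCategory.bijective_of_isIso (f.app U.1)).1 (h.trans (map_zero _).symm),
      fun h => by rw [Ideal.mem_bot] at h; subst h; simp⟩⟩
  haveI : GeometricallyIntegral (f ≫ (Y ↘ Spec (CommRingCat.of k))) := by rw [hf]; infer_instance
  haveI : GeometricallyReduced (Y ↘ Spec (CommRingCat.of k)) := Groth.Agf.geometricallyReduced_of_dominant f _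
  haveI : Surjective f := ⟨fun y => by
    have := f.isClosedMap.isClosed_range.closure_eq.symm.trans f.denseRange.closure_eq
    exact this.ge trivial⟩
  haveI : GeometricallyIrreducible (Y ↘ Spec (CommRingCat.of k)) := by
    constructor
    intro L _ y Z a b hZ
    have sq := (IsPullback.of_hasPullback f a).paste_vert hZ
    haveI := GeometricallyIrreducible.geometrically_irreducibleSpace (f := f ≫ (Y ↘ Spec (CommRingCat.of k))) y _ _ sq
    haveI : Surjective (pullback.snd f a) := inferInstance
    have h := (IrreducibleSpace.isIrreducible_univ ↥(pullback f a)).image (pullback.snd f a)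
      (Scheme.Hom.continuous _).continuousOn
    rw [Set.image_univ, (pullback.snd f a).surjective.range_eq] at h
    obtain ⟨z, -⟩ := h.1
    exact { isPreirreducible_univ := h.2, toNonempty := ⟨z⟩ }
  exact GeometricallyIntegral.of_geometricallyReduced_of_geometricallyIrreducible _

end Groth.Agent.S19514
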