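import Groth.Statements.S19515
import Groth.Agent.GeomNormalDescent.Basic
import Mathlib.AlgebraicGeometry.Morphisms.Flat

set_option autoImplicit false
universe u
open CategoryTheory CategoryTheory.Limits AlgebraicGeometry
open Variety

namespace Groth.Agent.S19515

/-- Let k be a field and f : X → Y a k-morphism between proper k-schemes which is a fibration, i.e. O_Y
→ f_*O_X is an isomorphism (Γ(V, O_Y) → Γ(f⁻¹V, O_X) bijective for every open V ⊆ Y). If X is
geometrically normal, i.e. its base change to every algebraic closure of k has all local rings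
integrally closed domains, then Y is geometrically normal in the same sense. -/
theorem result (k : Type u) [Field k] (X Y : Scheme.{u})
    [X.Over (Spec (CommRingCat.of k))] [Y.Over (Spec (CommRingCat.of k))] [IsProper (X ↘ Spec (CommRingCat.of k))] [IsProper (Y ↘ Spec (CommRingCat.of k))]
    (f : X ⟶ Y) (hf : f ≫ (Y ↘ Spec (CommRingCat.of k)) = X ↘ Spec (CommRingCat.of k)) (hfib : ∀ V : Y.Opens, IsIso (f.app V))
    (hX : ∀ (K : Type u) [Field K] [Algebra k K] [IsAlgClosure k K],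
      Pi1.IsNormalScheme (pullback (X ↘ Spec (CommRingCat.of k)) (Spec.map (CommRingCat.ofHom (algebraMap k K)))))
    (K : Type u) [Field K] [Algebra k K] [IsAlgClosure k K] :
    Pi1.IsNormalScheme (pullback (Y ↘ Spec (CommRingCat.of k)) (Spec.map (CommRingCat.ofHom (algebraMap k K)))) := by
  classical
  let sY := Y ↘ Spec (CommRingCat.of k)
  let sX := X ↘ Spec (CommRingCat.of k)
  let φ := Spec.map (CommRingCat.ofHom (algebraMap k K))
  let p : pullback sX φ ⟶ X := pullback.fst _ _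
  let q : pullback sY φ ⟶ Y := pullback.fst _ _
  let f' : pullback sX φ ⟶ pullback sY φ :=
    pullback.lift (p ≫ f) (pullback.snd _ _) (by simp [p, sY, sX, φ, hf, pullback.condition])
  have hfq : f' ≫ q = p ≫ f := pullback.lift_fst _ _ _
  have big : IsPullback p (pullback.snd sX φ) (f ≫ sY) φ := by
    have := IsPullback.of_hasPullback sX φ
    simpa [sX, sY, hf] using this
  have hfs : f' ≫ pullback.snd sY φ = pullback.snd sX φ := pullback.lift_snd _ _ _
  have H : IsPullback p f' f q :=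
    IsPullback.of_bot (by rw [hfs]; exact big) hfq.symm (IsPullback.of_hasPullback sY φ)
  haveI : IsProper (f ≫ sY) := by rw [hf]; infer_instance
  haveI : QuasiCompact f := QuasiCompact.of_comp f sY
  haveI : QuasiSeparated f := QuasiSeparated.of_comp f sY
  haveI : Flat φ := HasRingHomProperty.Spec_iff.2 (RingHom.flat_algebraMap_iff.2 inferInstance)
  haveI : Flat q := inferInstanceAs (Flat (pullback.fst sY φ))
  haveI : IsAffineHom φ := isAffineHom_of_isAffine φ
  haveI : IsAffineHom q := MorphismProperty.pullback_fst sY φ ‹IsAffineHom φ›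
  haveI : IsNoetherian (pullback sX φ) :=
    have : IsLocallyNoetherian (pullback sX φ) :=
      LocallyOfFiniteType.isLocallyNoetherian (pullback.snd sX φ)
    have : CompactSpace ↥(pullback sX φ) :=
      QuasiCompact.compactSpace_of_compactSpace (pullback.snd sX φ)
    AlgebraicGeometry.IsNoetherian.mk
  refine Groth.GeomNormalDescent.isNormalScheme_of_app_iso (hX K) f' fun y => ?_
  obtain ⟨_, ⟨U, hU, rfl⟩, hyU, -⟩ :=
    Y.isBasis_affineOpens.exists_subset_of_mem_open (Set.mem_univ (q y)) isOpen_univ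
  refine ⟨q ⁻¹ᵁ U, hU.preimage q, hyU, ?_⟩
  have e' : f' ⁻¹ᵁ (q ⁻¹ᵁ U) = p ⁻¹ᵁ (f ⁻¹ᵁ U) := by
    rw [← Scheme.Hom.comp_preimage, ← Scheme.Hom.comp_preimage, hfq]
  have hUY : f' ⁻¹ᵁ (q ⁻¹ᵁ U) = p ⁻¹ᵁ (f ⁻¹ᵁ U) ⊓ f' ⁻¹ᵁ (q ⁻¹ᵁ U) := by
    exact (inf_eq_right.2 e'.le).symm
  have hcpt : IsCompact ((f ⁻¹ᵁ U : X.Opens) : Set X) := f.isCompact_preimage hU.isCompact
  have hqs : IsQuasiSeparated ((f ⁻¹ᵁ U : X.Opens) : Set X) := by
    haveI : QuasiSeparatedSpace ↥X := quasiSeparatedSpace_of_quasiSeparated sX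
    exact IsQuasiSeparated.of_quasiSeparatedSpace _
  have hiso := isIso_pushoutSection_of_isQuasiSeparated_of_flat_right H (US := U) (UT := q ⁻¹ᵁ U)
    (UX := f ⁻¹ᵁ U) (UY := f' ⁻¹ᵁ (q ⁻¹ᵁ U)) le_rfl le_rfl hUY hU (hU.preimage q) hcpt hqs
  have hpo := (isIso_pushoutSection_iff H (US := U) (UT := q ⁻¹ᵁ U)
    (UX := f ⁻¹ᵁ U) (UY := f' ⁻¹ᵁ (q ⁻¹ᵁ U)) le_rfl le_rfl hUY).1 hiso
  haveI : IsIso (f.appLE U (f ⁻¹ᵁ U) le_rfl) := by rw [← Scheme.Hom.app_eq_appLE]; exact hfib U
  have := hpo.isIso_inr_of_isIso inferInstance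
  rwa [← Scheme.Hom.app_eq_appLE] at this

end Groth.Agent.S19515
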