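import Groth.Statements.S19519
import Groth.Agent.AlgGrp2.OrbitDim

set_option autoImplicit false
universe u
open CategoryTheory MonoidalCategory CartesianMonoidalCategory MonObj GrpObj AlgebraicGeometry
open AlgGrp

namespace Groth.Agent.S19519

/-- Let k be an algebraically closed field, G a smooth k-group scheme of finite type acting on a
k-scheme X of finite type, and x a rational point of X. If the orbit of x — the image of the orbit
map G → X, g ↦ g · x, with its subspace topology — has Krull dimension at most that of the orbit of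
every rational point of X, then the orbit of x is closed in X. (The first assertions of the lemma,
local closedness and smoothness of orbits over any field, are not restated here.) -/
theorem result (k : Type u) [Field k] [IsAlgClosed k]
    (G X : Over (Spec (CommRingCat.of k))) [GrpObj G] [Smooth G.hom] [QuasiCompact G.hom]
    [LocallyOfFiniteType X.hom] [QuasiCompact X.hom] (a : AlgGrp.Action G X)
    (x : 𝟙_ (Over (Spec (CommRingCat.of k))) ⟶ X)
    (hmin : ∀ y : 𝟙_ (Over (Spec (CommRingCat.of k))) ⟶ X,
      topologicalKrullDim (Set.range (a.orbitMap x).left.base) ≤ topologicalKrullDim (Set.range (a.orbitMap y).left.base)) :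
    IsClosed (Set.range (a.orbitMap x).left.base) := by
  haveI : CompactSpace X.left := QuasiCompact.compactSpace_of_compactSpace X.hom
  haveI := LocallyOfFiniteType.jacobsonSpace X.hom
  haveI := LocallyOfFiniteType.isLocallyNoetherian X.hom
  haveI : AlgebraicGeometry.IsNoetherian X.left := ⟨⟩
  have hO := Groth.AlgGrp1.isLocallyClosed_range_orbitMap a x
  have hlt := Groth.AlgGrp2.dim_boundary_lt X.hom hO
    ⟨_, η[G].left.base (IsLocalRing.closedPoint k), rfl⟩
  by_contra hnc
  set O := Set.range (a.orbitMap x).left.base
  have hinv := Groth.AlgGrp1.isInvariant_range (Groth.AlgGrp1.regularAction G) a (a.orbitMap x)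
    (Groth.AlgGrp1.orbitMap_equivariant a x)
  have hne : (closure O \ O).Nonempty := by
    rw [Set.sdiff_nonempty]
    exact fun h => hnc (closure_subset_iff_isClosed.1 h)
  obtain ⟨U, Z, hU, hZ, hUZ⟩ := hO
  have hB : IsClosed (closure O \ O) := by
    have : closure O \ O = closure O ∩ Uᶜ := by
      ext z
      refine ⟨fun h => ⟨h.1, fun hz => h.2 ?_⟩, fun h => ⟨h.1, fun hz => h.2 ?_⟩⟩
      · rw [hUZ]
        exact ⟨hz, closure_minimal (hUZ ▸ Set.inter_subset_right) hZ h.1⟩
      · exact (hUZ ▸ hz : z ∈ U ∩ Z).1
    rw [this]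
    exact isClosed_closure.inter hU.isClosed_compl
  obtain ⟨p, hp, hpc⟩ := nonempty_inter_closedPoints hne hB.isLocallyClosed
  let y : 𝟙_ (Over (Spec (CommRingCat.of k))) ⟶ X :=
    Over.homMk _ ((pointEquivClosedPoint X.hom).symm ⟨p, hpc⟩).2
  have hy : y.left (IsLocalRing.closedPoint k) = p := by simp [y, pointEquivClosedPoint]
  have hsub := Groth.AlgGrp2.range_orbitMap_subset (hinv.closure.diff hinv) y (hy ▸ hp)
  refine not_lt.2 (hmin y) (lt_of_le_of_lt ?_ hlt)
  rw [Groth.AlgGrp2.dim_locallyClosed X.hom (Groth.AlgGrp1.isLocallyClosed_range_orbitMap a y),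
    Groth.Variety2.Dim.dim_closed hB]
  exact iSup₂_le fun z hz =>
    le_iSup₂ (f := fun z (_ : z ∈ closure O \ O) => ((Order.height z : ℕ∞) : WithBot ℕ∞)) z (hsub hz)

end Groth.Agent.S19519
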