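import Groth.Statements.S19521
import Groth.Agent.Abvar.Dual.EqOfPhi

set_option autoImplicit false
universe u
open CategoryTheory CategoryTheory.Limits MonoidalCategory CartesianMonoidalCategory MonObj GrpObj AlgebraicGeometry
open AbDual

namespace Groth.Agent.S19521

/-- Let S be a locally Noetherian scheme and f : A' → A a homomorphism of abelian schemes over S. Let
A^t, A'^t be dual abelian schemes of A, A' (given through φ_A, φ_A', fppf topology, classes
algebraically equivalent to zero on geometric fibres), A^tt, A'^tt dual abelian schemes of A^t, A'^t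
(through φ_{A^t}, φ_{A'^t}), ξ and ξ' Poincaré classes on A ×_S A^t and A' ×_S A'^t whose
factor-swapped classes are algebraically equivalent to zero on the geometric fibres over A and A',
f^t : A^t → A'^t the transpose of f and f^tt : A'^tt → A^tt the transpose of f^t. With κ_A : A →
A^tt and κ_A' : A' → A'^tt the biduality morphisms defined by the swapped Poincaré classes, the
square commutes: f followed by κ_A equals κ_A' followed by f^tt. (The published statement is for
projective abelian schemes over a Noetherian base, where the duals exist as schemes; here the duals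
are given as data.) -/
theorem result {S : Scheme.{u}} [IsLocallyNoetherian S]
    (A At Att A' A't A'tt : Over S) [GrpObj A] [IsCommMonObj A] [IsProper A.hom] [Smooth A.hom] [GeometricallyConnected A.hom] [GrpObj At] [IsCommMonObj At] [IsProper At.hom] [Smooth At.hom] [GeometricallyConnected At.hom] [GrpObj Att] [IsCommMonObj Att] [IsProper Att.hom] [Smooth Att.hom] [GeometricallyConnected Att.hom]
    [GrpObj A'] [IsCommMonObj A'] [IsProper A'.hom] [Smooth A'.hom] [GeometricallyConnected A'.hom] [GrpObj A't] [IsCommMonObj A't] [IsProper A't.hom] [Smooth A't.hom] [GeometricallyConnected A't.hom] [GrpObj A'tt] [IsCommMonObj A'tt] [IsProper A'tt.hom] [Smooth A'tt.hom] [GeometricallyConnected A'tt.hom]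
    (φA : ∀ T : Over S, PicF.Cl (PicF.XT A.hom T) → (T ⟶ At))
    (φAt : ∀ T : Over S, PicF.Cl (PicF.XT At.hom T) → (T ⟶ Att))
    (φA' : ∀ T : Over S, PicF.Cl (PicF.XT A'.hom T) → (T ⟶ A't))
    (φA't : ∀ T : Over S, PicF.Cl (PicF.XT A't.hom T) → (T ⟶ A'tt))
    (hA : AbDual.IsDualAV Scheme.fppfPrecoverage A At φA) (hAt : AbDual.IsDualAV Scheme.fppfPrecoverage At Att φAt)
    (hA' : AbDual.IsDualAV Scheme.fppfPrecoverage A' A't φA') (hA't : AbDual.IsDualAV Scheme.fppfPrecoverage A't A'tt φA't)
    (ξ : PicF.Cl (PicF.XT A.hom At)) (hξ : AbDual.IsPoincareCl A At φA ξ)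
    (hξs : AbDual.IsPicZeroCl At.hom A (PicF.pullCl (pullbackSymmetry At.hom A.hom).hom ξ))
    (ξ' : PicF.Cl (PicF.XT A'.hom A't)) (hξ' : AbDual.IsPoincareCl A' A't φA' ξ')
    (hξ's : AbDual.IsPicZeroCl A't.hom A' (PicF.pullCl (pullbackSymmetry A't.hom A'.hom).hom ξ'))
    (f : A' ⟶ A) [IsMonHom f] (ft : At ⟶ A't) (hft : AbDual.IsTranspose f φA' φA ft)
    (ftt : A'tt ⟶ Att) (hftt : AbDual.IsTranspose ft φAt φA't ftt) :
    f ≫ φAt A (PicF.pullCl (pullbackSymmetry At.hom A.hom).hom ξ) =
      φA't A' (PicF.pullCl (pullbackSymmetry A't.hom A'.hom).hom ξ') ≫ ftt := by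
  open Groth.Abvar.PicCalc Groth.Abvar.Dual in
  exact by
    have := geometricallyIntegral_of_smooth A'
    obtain ⟨L, rfl, hL, -⟩ := hξ.1
    obtain ⟨L', rfl, hL', -⟩ := hξ'.1
    let x : PicLoc.PicSet ((Over.pullback At.hom).obj A).left := cls hL
    let x' : PicLoc.PicSet ((Over.pullback A't.hom).obj A').left := cls hL'
    let sw := (pullbackSymmetry At.hom A'.hom).hom
    have e1 : PicF.XTmap At.hom f ≫ (pullbackSymmetry At.hom A.hom).hom = sw ≫ AbDual.bcMap f At := by
      apply pullback.hom_ext
      · rw [Category.assoc, Category.assoc, pullbackSymmetry_hom_comp_fst]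
        erw [pullback.lift_snd, pullback.lift_fst]
        rw [← Category.assoc, pullbackSymmetry_hom_comp_fst]
      · rw [Category.assoc, Category.assoc, pullbackSymmetry_hom_comp_snd]
        erw [pullback.lift_fst, pullback.lift_snd]
        rw [← Category.assoc, pullbackSymmetry_hom_comp_snd]
    have e2 : AbDual.bcMap ft A' ≫ (pullbackSymmetry A't.hom A'.hom).hom = sw ≫ PicF.XTmap A'.hom ft := by
      apply pullback.hom_ext
      · rw [Category.assoc, Category.assoc, pullbackSymmetry_hom_comp_fst]
        erw [pullback.lift_snd, pullback.lift_fst]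
        rw [← Category.assoc, pullbackSymmetry_hom_comp_fst]
      · rw [Category.assoc, Category.assoc, pullbackSymmetry_hom_comp_snd]
        erw [pullback.lift_fst, pullback.lift_snd]
        rw [← Category.assoc, pullbackSymmetry_hom_comp_snd]
    have hsec : PicF.secT A'.hom η[A'].left (Over.w η[A']) At ≫ AbDual.bcMap f At =
        PicF.secT A.hom η[A].left (Over.w η[A]) At := by
      apply pullback.hom_ext
      · rw [Category.assoc]
        erw [pullback.lift_fst]
        rw [← Category.assoc]
        erw [pullback.lift_fst, pullback.lift_fst]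
        rw [Category.assoc, ← Over.comp_left, IsMonHom.one_hom f]
      · rw [Category.assoc]
        erw [pullback.lift_snd]
        rw [← Category.assoc]
        erw [pullback.lift_snd, pullback.lift_snd]
        exact Category.comp_id _
    have hr : pull (PicF.secT A.hom η[A].left (Over.w η[A]) At) x = 1 := Subtype.ext hξ.2.2
    have hr' : pull (PicF.secT A'.hom η[A'].left (Over.w η[A']) A't) x' = 1 := Subtype.ext hξ'.2.2
    have hP : P0 A' At (pull (AbDual.bcMap f At) x) := by
      rw [bcMap_eq]
      exact P0.opull (c := x) hξ.1 f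
    have key : pull (AbDual.bcMap f At) x = pull (PicF.XTmap A'.hom ft) x' := by
      refine EqOfPhi.eq_of_phi_eq hA' hP (P0.bc ft hξ'.1) ?_ ?_ ?_
      · rw [← pull_comp, hsec, hr]
      · rw [← pull_comp, secT_XTmap, pull_comp, hr', map_one]
      · rw [phi_natural hA' ft (c := x') hξ'.1]
        refine (hft At x.1 hξ.1).trans ?_
        rw [show φA At x.1 = 𝟙 At from hξ.2.1, show φA' A't x'.1 = 𝟙 A't from hξ'.2.1,
          Category.id_comp, Category.comp_id]
    refine (hAt.relPic.natural _ _ f _ hξs).symm.trans ((congrArg (φAt A') ?_).trans (hftt A' _ hξ's))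
    show (pull (PicF.XTmap At.hom f) (pull (pullbackSymmetry At.hom A.hom).hom x)).1 =
      (pull (AbDual.bcMap ft A') (pull (pullbackSymmetry A't.hom A'.hom).hom x')).1
    refine congrArg Subtype.val ((pull_comp _ _ x).symm.trans ?_)
    refine Eq.trans ?_ (pull_comp _ _ x')
    rw [e1, e2, pull_comp, pull_comp]
    exact congrArg (pull sw) key

end Groth.Agent.S19521
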