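import Groth.Statements.S19522
import Groth.Agent.Hopf.Comod

set_option autoImplicit false
universe u
open TensorProduct
open GLin

namespace Groth.Agent.S19522

/-- Let k be a field, A a commutative k-bialgebra coacting multiplicatively on a commutative k-algebra
R, and χ ∈ A a group-like element with an inverse χ' (χχ' = 1). Suppose the polynomial ring R[t]
carries a multiplicative coaction which restricts to the given one on constants and sends t to t ⊗
χ'. Then g ∈ R[t] is coinvariant if and only if, for every r, its r-th coefficient has coaction g_r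
↦ g_r ⊗ χ^r; that is, the ring of invariants of R[t] is the sum over r ≥ 0 of the weight-χ^r
semi-invariants of R times t^r. (The published statement is phrased for an affine variety with an
action of a linear algebraic group over an algebraically closed field of characteristic zero and
identifies the invariants of X × A¹ with the graded ring of invariant sections of the powers of the
linearised trivial bundle; this is its coordinate-ring content, valid over any field.) -/
theorem result (k : Type u) [Field k]
    (A : Type u) [CommRing A] [Bialgebra k A]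
    (R : Type u) [CommRing R] [Algebra k R] [HopfRep.Comod k A R] [GLin.IsCoactAlg k A R]
    [HopfRep.Comod k A (Polynomial R)] [GLin.IsCoactAlg k A (Polynomial R)]
    (χ χ' : A) (hχ : CoalgebraStruct.comul (R := k) (A := A) χ = χ ⊗ₜ[k] χ)
    (hχε : CoalgebraStruct.counit (R := k) (A := A) χ = 1) (hχχ' : χ * χ' = 1)
    (hC : ∀ r : R, HopfRep.Comod.coact (k := k) (A := A) (Polynomial.C r) =
      Algebra.TensorProduct.map (Polynomial.CAlgHom : R →ₐ[k] Polynomial R) (AlgHom.id k A)
        (HopfRep.Comod.coact (k := k) (A := A) r))
    (hX : HopfRep.Comod.coact (k := k) (A := A) (Polynomial.X : Polynomial R) = Polynomial.X ⊗ₜ[k] χ')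
    (g : Polynomial R) :
    g ∈ GLin.invariants k A (Polynomial R) ↔
      ∀ r : ℕ, g.coeff r ∈ HopfRep.eigenspace k A R (χ ^ r) := by
  classical
  let P := Polynomial R
  let ι : R →ₐ[k] P := Polynomial.CAlgHom
  let cf : ℕ → P →ₗ[k] R := fun r => (Polynomial.lcoeff R r).restrictScalars k
  have hcoact : ∀ g : P, ∀ r : ℕ, (cf r).rTensor A (HopfRep.Comod.coact (k := k) (A := A) g) =
      HopfRep.Comod.coact (k := k) (A := A) (g.coeff r) * ((1 : R) ⊗ₜ[k] (χ' ^ r)) := by
    intro g r
    induction g using Polynomial.induction_on' with
    | add p q hp hq => simp only [map_add, Polynomial.coeff_add, add_mul, hp, hq]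
    | monomial n a =>
      rw [← Polynomial.C_mul_X_pow_eq_monomial, GLin.IsCoactAlg.coact_mul, hC,
        show HopfRep.Comod.coact (k := k) (A := A) (Polynomial.X ^ n : P) = (Polynomial.X ^ n : P) ⊗ₜ[k] (χ' ^ n) by
          rw [← GLin.coactAlgHom_apply, map_pow, GLin.coactAlgHom_apply, hX, Algebra.TensorProduct.tmul_pow],
        Polynomial.coeff_C_mul_X_pow]
      have e : ∀ z : R ⊗[k] A, (cf r).rTensor A
          (Algebra.TensorProduct.map ι (AlgHom.id k A) z * ((Polynomial.X ^ n : P) ⊗ₜ[k] (χ' ^ n))) =
          if r = n then z * ((1 : R) ⊗ₜ[k] (χ' ^ r)) else 0 := by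
        intro z
        induction z using TensorProduct.induction_on with
        | zero => simp
        | tmul p q =>
          simp only [Algebra.TensorProduct.map_tmul, Algebra.TensorProduct.tmul_mul_tmul, LinearMap.rTensor_tmul]
          change (Polynomial.C p * Polynomial.X ^ n).coeff r ⊗ₜ[k] (q * χ' ^ n) = _
          rw [Polynomial.coeff_C_mul_X_pow]
          split_ifs with h
          · subst h; rw [mul_one]
          · rw [TensorProduct.zero_tmul]
        | add p q hp hq =>
          simp only [map_add, add_mul, hp, hq]
          split_ifs <;> simp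
      refine (e _).trans ?_
      split_ifs with h
      · rfl
      · simp
  have hu : ∀ r : ℕ, χ ^ r * χ' ^ r = 1 := fun r => by rw [← mul_pow, hχχ', one_pow]
  constructor
  · intro hg r
    have h1 := hcoact g r
    rw [show HopfRep.Comod.coact (k := k) (A := A) g = g ⊗ₜ[k] (1 : A) from hg, LinearMap.rTensor_tmul] at h1
    change HopfRep.Comod.coact (k := k) (A := A) (g.coeff r) = g.coeff r ⊗ₜ[k] (χ ^ r)
    have h2 := congrArg (· * ((1 : R) ⊗ₜ[k] (χ ^ r))) h1
    simp only [mul_assoc, Algebra.TensorProduct.tmul_mul_tmul, one_mul, mul_one] at h2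
    rw [mul_comm (χ' ^ r), hu, ← Algebra.TensorProduct.one_def, mul_one] at h2
    exact h2.symm
  · intro h
    rw [GLin.mem_invariants_iff]
    have hinj : ∀ z : P ⊗[k] A, (∀ r, (cf r).rTensor A z = 0) → z = 0 := by
      intro z hz
      refine Groth.ComodLib.eq_zero_of_slice fun φ => Polynomial.ext fun r => ?_
      have h3 := Groth.ComodLib.slice_rTensor φ (cf r) z
      rw [hz r, map_zero] at h3
      exact h3.symm
    rw [← sub_eq_zero]
    refine hinj _ fun r => ?_
    rw [map_sub, hcoact, LinearMap.rTensor_tmul,
      show HopfRep.Comod.coact (k := k) (A := A) (g.coeff r) = g.coeff r ⊗ₜ[k] (χ ^ r) from h r,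
      Algebra.TensorProduct.tmul_mul_tmul, mul_one, hu]
    exact sub_self _

end Groth.Agent.S19522
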