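import Groth.Statements.S19523
import Groth.Agent.AlgGrp1.Homogeneous
import Groth.Agent.AlgGrp1.Antiaffine
import Groth.Agent.AlgGrp1.SmoothReduced
import Groth.Agent.Agf.GeomRed
import Groth.Agent.Agf.SmoothRed
import Groth.Agent.Agf.Quot
import Mathlib.AlgebraicGeometry.Group.Smooth

set_option autoImplicit false
universe u
open CategoryTheory MonoidalCategory CartesianMonoidalCategory MonObj GrpObj AlgebraicGeometry
open AlgGrp

namespace Groth.Agent.S19523

/-- A morphism from a reduced scheme with image in an immersed subscheme factors through it. -/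
lemma exists_factor_immersion {S : Scheme.{u}} {T Z X : Over S} (c : Z ⟶ X) [IsImmersion c.left]
    [IsReduced T.left] (f : T ⟶ X) (h : Set.range f.left.base ⊆ Set.range c.left.base) :
    ∃ z : T ⟶ Z, z ≫ c = f := by
  have hsurj : Surjective (Limits.pullback.fst f.left c.left) := ⟨fun t => by
    have : t ∈ Set.range (Limits.pullback.fst f.left c.left).base := by
      rw [Scheme.Pullback.range_fst]; exact h ⟨t, rfl⟩
    exact this⟩
  have : IsClosedImmersion (Limits.pullback.fst f.left c.left) :=
    IsClosedImmersion.of_isPreimmersion _ (by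
      rw [Set.range_eq_univ.2 hsurj.surj]; exact isClosed_univ)
  have := isIso_of_isClosedImmersion_of_surjective (Limits.pullback.fst f.left c.left)
  refine ⟨Over.homMk (inv (Limits.pullback.fst f.left c.left) ≫ Limits.pullback.snd f.left c.left) ?_, ?_⟩
  · rw [← Over.w c, Category.assoc, ← Limits.pullback.condition_assoc, IsIso.inv_hom_id_assoc, Over.w f]
  · ext
    simp [← Limits.pullback.condition]

/-- A surjection lifts geometric points. -/
lemma exists_lift_geomPt {k : Type u} [Field k] {K : Type u} [Field K] [Algebra k K] [IsAlgClosed K]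
    {A B : Over (Spec (CommRingCat.of k))} [LocallyOfFiniteType A.hom] (f : A ⟶ B) [Surjective f.left]
    (p : Groth.AlgGrp1.specAlg k K ⟶ B) : ∃ q : Groth.AlgGrp1.specAlg k K ⟶ A, q ≫ f = p := by
  let P : Over (Spec (CommRingCat.of K)) :=
    Over.mk (Limits.pullback.snd f.left p.left : _ ⟶ Spec (CommRingCat.of K))
  have : LocallyOfFiniteType f.left := by
    have : LocallyOfFiniteType (f.left ≫ B.hom) := by rw [Over.w f]; infer_instance
    exact locallyOfFiniteType_of_comp f.left B.hom
  have : LocallyOfFiniteType P.hom := inferInstanceAs (LocallyOfFiniteType (Limits.pullback.snd _ _))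
  have : Nonempty P.left := by
    have : Surjective (Limits.pullback.snd f.left p.left) := inferInstance
    obtain ⟨z, -⟩ := (Limits.pullback.snd f.left p.left).surjective (IsLocalRing.closedPoint K)
    exact ⟨z⟩
  obtain ⟨s⟩ := Groth.AlgGrp1.exists_point P
  let q₀ : Spec (CommRingCat.of K) ⟶ A.left := s.left ≫ Limits.pullback.fst f.left p.left
  have hq₀ : q₀ ≫ f.left = p.left := by
    show (s.left ≫ Limits.pullback.fst f.left p.left) ≫ f.left = p.left
    rw [Category.assoc, Limits.pullback.condition, ← Category.assoc]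
    exact (congrArg (· ≫ p.left) (Over.w s)).trans (Category.id_comp _)
  exact ⟨Over.homMk q₀ (by rw [← Over.w f, ← Category.assoc, hq₀]; exact Over.w p),
    Over.OverMorphism.ext hq₀⟩

/-- Let k be a field, G a smooth k-group scheme of finite type acting on a k-scheme X of finite type,
and x a rational point of X. The orbit of x, the image of the orbit map G → X, is locally closed
(not restated here); if i : O → X is an immersion from a reduced scheme whose image is exactly the
orbit — the orbit with its reduced induced structure — then O is smooth over k. -/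
theorem result (k : Type u) [Field k]
    (G X : Over (Spec (CommRingCat.of k))) [GrpObj G] [Smooth G.hom] [QuasiCompact G.hom]
    [LocallyOfFiniteType X.hom] [QuasiCompact X.hom] (a : AlgGrp.Action G X)
    (x : 𝟙_ (Over (Spec (CommRingCat.of k))) ⟶ X)
    (O : Scheme.{u}) (i : O ⟶ X.left) [IsImmersion i] [IsReduced O]
    (hO : Set.range i.base = Set.range (a.orbitMap x).left.base) : Smooth (i ≫ X.hom) := by
  let O' : Over (Spec (CommRingCat.of k)) := Over.mk (i ≫ X.hom)
  let j : O' ⟶ X := Over.homMk i rfl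
  have hji : IsImmersion j.left := ‹IsImmersion i›
  have : IsReduced O'.left := ‹IsReduced O›
  have : IsReduced G.left := Groth.AlgGrp1.isReduced_of_smooth G.hom
  have : GeometricallyReduced G.hom := Groth.AlgGrp1.geometricallyReduced_of_smooth G.hom
  have : IsReduced (G ⊗ O').left := Groth.AlgGrp1.isReduced_tensorObj G O'
  have : Mono j := (Over.forget _).mono_of_mono_map (show Mono j.left from inferInstance)
  have : LocallyOfFiniteType O'.hom := inferInstanceAs (LocallyOfFiniteType (i ≫ X.hom))
  have := Groth.AlgGrp1.quasiSeparated_of_locallyOfFiniteType O'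
  have hinv := Groth.AlgGrp1.isInvariant_range (Groth.AlgGrp1.regularAction G) a (a.orbitMap x)
    (Groth.AlgGrp1.orbitMap_equivariant a x)
  obtain ⟨o, ho⟩ := exists_factor_immersion j (a.orbitMap x) hO.ge
  have : Surjective o.left := ⟨fun y => by
    obtain ⟨g, hg⟩ := hO.le ⟨y, rfl⟩
    refine ⟨g, j.left.isEmbedding.injective ?_⟩
    rw [← Scheme.Hom.comp_apply, ← Over.comp_left, ho]
    exact hg⟩
  obtain ⟨b, hb⟩ := exists_factor_immersion j ((G ◁ j) ≫ a.act) (by
    rintro _ ⟨p, rfl⟩
    have h1 : (G ◁ j).left.base p ∈ (snd G X).left.base ⁻¹' Set.range i.base := by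
      refine ⟨(snd G O').left.base p, ?_⟩
      exact congrArg (fun f : G ⊗ O' ⟶ X => f.left.base p) (whiskerLeft_snd G j).symm
    rw [hO, ← hinv] at h1
    exact hO.ge h1)
  have hlift : ∀ {T : Over (Spec (CommRingCat.of k))} (g : T ⟶ G) (y : T ⟶ O'),
      (lift g y ≫ b) ≫ j = lift g (y ≫ j) ≫ a.act := fun g y => by
    rw [Category.assoc, hb, lift_whiskerLeft_assoc]
  have : QuasiCompact o.left :=
    have : QuasiCompact (o.left ≫ O'.hom) := by rw [Over.w o]; infer_instance
    QuasiCompact.of_comp o.left O'.hom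
  have : IsSchemeTheoreticallyDominant o.left := .of_isDominant _
  have : GeometricallyReduced (o.left ≫ O'.hom) := by rw [Over.w o]; infer_instance
  have hgr : GeometricallyReduced O'.hom := Groth.Agf.geometricallyReduced_of_dominant o.left O'.hom
  let Ω := AlgebraicClosure k
  let gp : Spec (CommRingCat.of Ω) ⟶ Spec (CommRingCat.of k) :=
    Spec.map (CommRingCat.ofHom (algebraMap k Ω))
  let T := Groth.AlgGrp1.specAlg k Ω
  show Smooth O'.hom
  apply MorphismProperty.of_pullback_snd_of_descendsAlong
    (Q := @Surjective ⊓ @Flat ⊓ @QuasiCompact) (g := gp)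
  · exact ⟨⟨⟨fun q => ⟨IsLocalRing.closedPoint Ω, Subsingleton.elim _ _⟩⟩, inferInstance⟩, inferInstance⟩
  let q := Limits.pullback.snd O'.hom gp
  have : IsReduced (Limits.pullback O'.hom gp) :=
    hgr.geometrically_isReduced gp _ _ (CategoryTheory.IsPullback.of_hasPullback O'.hom gp)
  refine Groth.Agf.smooth_of_homogeneous q fun y₁ y₂ hy₁ hy₂ => ?_
  have hsec : ∀ y : ↥(Limits.pullback O'.hom gp), IsClosed {y} → ∃ σ : T ⟶ O' ⊗ T,
      σ ≫ snd O' T = 𝟙 T ∧ σ.left.base (IsLocalRing.closedPoint Ω) = y := by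
    intro y hy
    let s := pointOfClosedPoint q y hy
    have hs : s ≫ q = 𝟙 _ := pointOfClosedPoint_comp q y hy
    refine ⟨Over.homMk s ?_, Over.OverMorphism.ext hs, pointOfClosedPoint_apply q y hy _⟩
    show s ≫ Limits.pullback.fst O'.hom gp ≫ O'.hom = gp
    rw [Limits.pullback.condition, ← Category.assoc]
    exact (congrArg (· ≫ gp) hs).trans (Category.id_comp _)
  obtain ⟨σ₁, hσ₁, hy₁'⟩ := hsec y₁ hy₁
  obtain ⟨σ₂, hσ₂, hy₂'⟩ := hsec y₂ hy₂
  obtain ⟨g₁, hg₁⟩ := exists_lift_geomPt o (σ₁ ≫ fst O' T)
  obtain ⟨g₂, hg₂⟩ := exists_lift_geomPt o (σ₂ ≫ fst O' T)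
  let g : T ⟶ G := g₂ * g₁⁻¹
  let tr : (T ⟶ G) → (O' ⊗ T ⟶ O' ⊗ T) := fun g =>
    lift (lift (snd O' T ≫ g) (fst O' T) ≫ b) (snd O' T)
  have htr : ∀ h h' : T ⟶ G, tr h ≫ tr h' = tr (h' * h) := by
    intro h h'
    apply CartesianMonoidalCategory.hom_ext
    · rw [← cancel_mono j]
      simp only [tr, Category.assoc, lift_fst, comp_lift_assoc, lift_snd_assoc, hlift,
        MonObj.comp_mul, Groth.Agf.lift_mul_act]
    · simp [tr]
  have htr1 : tr 1 = 𝟙 _ := by
    apply CartesianMonoidalCategory.hom_ext
    · rw [← cancel_mono j]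
      simp only [tr, Category.assoc, lift_fst, Category.id_comp, hlift, MonObj.comp_one,
        Groth.Agf.lift_one_act]
    · simp [tr]
  have hmove : σ₁ ≫ tr g = σ₂ := by
    apply CartesianMonoidalCategory.hom_ext
    · rw [← cancel_mono j]
      simp only [tr, Category.assoc, lift_fst, comp_lift_assoc, hlift, reassoc_of% hσ₁]
      rw [← Category.assoc, ← hg₁, Category.assoc, ho, Groth.Agf.comp_orbitMap,
        ← Groth.Agf.lift_mul_act, show g * g₁ = g₂ from inv_mul_cancel_right _ _,
        ← Groth.Agf.comp_orbitMap, ← ho, ← Category.assoc, hg₂, Category.assoc]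
    · simp [tr, hσ₁, hσ₂]
  let Φ : O' ⊗ T ≅ O' ⊗ T :=
    { hom := tr g
      inv := tr g⁻¹
      hom_inv_id := by rw [htr, inv_mul_cancel, htr1]
      inv_hom_id := by rw [htr, mul_inv_cancel, htr1] }
  refine ⟨(Over.forget _).mapIso Φ, ?_, ?_⟩
  · exact congrArg CommaMorphism.left (show tr g ≫ snd O' T = snd O' T from lift_snd _ _)
  · rw [← hy₁', ← hy₂', ← hmove]
    rfl

end Groth.Agent.S19523
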