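import Groth.Statements.S1953
import Groth.Agent.Calg6.DiagCycle
import Groth.Agent.Misc13.NormSection

set_option autoImplicit false
universe u
open CategoryTheory CategoryTheory.Limits AlgebraicGeometry
attribute [local instance] HasDerivedCategory.standard
open IntMult

namespace Groth.Agent.S1953

open Groth.Calg6.DiagCycle

variable {K : Type u} [Field K] {X : Scheme.{u}} (f : X ⟶ Spec (CommRingCat.of K))

/-- The dimension of a point of the diagonal. -/
theorem delta_diagonal {δ : X → ℤ} {δ₂ : ↥(pullback f f) → ℤ}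
    (h₂' : Cyc.DeltaCompat (pullback.fst f f) δ₂ δ) (x : X) : δ₂ (pullback.diagonal f x) = δ x := by
  obtain ⟨m, hm, hm'⟩ := h₂' (pullback.diagonal f x)
  have hsurj : Function.Surjective ((pullback.fst f f).residueFieldMap (pullback.diagonal f x)) := by
    intro a
    have hb : Function.Bijective ((pullback.fst f f).residueFieldMap (pullback.diagonal f x) ≫
        (pullback.diagonal f).residueFieldMap x) := by
      rw [← Scheme.residueFieldMap_comp]
      exact Groth.Misc13.NormSection.residueFieldMap_id_bijective _ (pullback.diagonal_fst f) x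
    obtain ⟨b, hb'⟩ := hb.2 ((pullback.diagonal f).residueFieldMap x a)
    exact ⟨b, ((pullback.diagonal f).residueFieldMap x).hom.injective hb'⟩
  have h0 := Groth.Variety2.Dim.relTrdeg_eq_zero_of_surjective (pullback.fst f f) _ hsurj
  have hm0 : m = 0 := by exact_mod_cast hm.symm.trans h0
  rw [hm', hm0, ← Scheme.Hom.comp_apply, pullback.diagonal_fst]
  simp

/-- Let X be a proper nonsingular variety over K, α an r-cycle and β an s-cycle intersecting properly, Δ
⊆ X ×_K X the diagonal (as the prime cycle of its generic point) and α × β the exterior product,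
with dimension function δ₂ on X ×_K X. Then [Δ] and α × β intersect properly and pr_{1,*}([Δ] · (α ×
β)) = α · β coefficientwise, for any cycle on X ×_K X with the coefficients of [Δ] · (α × β). Here X
is a nonsingular variety over the algebraically closed field K (smooth, separated, quasi-compact,
integral) with dimension function δ (transcendence degree) and n = dim X; cycles are Mathlib
AlgebraicCycles with Cyc.Zk membership, proper intersection is IntMult.IntersectProperly and α · β
is the Tor-formula intersection product on coefficient functions (IntMult.interProd), bundled where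
needed as 'any cycle with these coefficients'. -/
theorem result (K : Type u) [Field K] [IsAlgClosed K] (X : Scheme.{u}) (f : X ⟶ Spec (CommRingCat.of K)) [Smooth f] [IsProper f] [IsIntegral X] (δ : X → ℤ) (hX : Cyc.IsSetup X δ) (hδ : Cyc.DeltaCompat f δ (fun _ => 0)) (n : ℤ) (hn : δ (genericPoint X) = n) (δ₂ : ↥(pullback f f) → ℤ) (h₂ : Cyc.DeltaCompat (pullback.fst f f ≫ f) δ₂ (fun _ => 0)) (h₂' : Cyc.DeltaCompat (pullback.fst f f) δ₂ δ) (r s : ℤ) (α β : AlgebraicCycle X ℤ) (hα : α ∈ Cyc.Zk X δ r) (hβ : β ∈ Cyc.Zk X δ s) (hprop : IntMult.IntersectProperly δ n ⇑α ⇑β) (γ : AlgebraicCycle (pullback f f) ℤ) (hγ : ⇑γ = IntMult.interProd δ₂ (n + n) (Set.indicator {pullback.diagonal f (genericPoint X)} 1) (IntMult.extProd f f δ δ δ₂ ⇑α ⇑β)) : IntMult.IntersectProperly δ₂ (n + n) (Set.indicator {pullback.diagonal f (genericPoint X)} 1) (IntMult.extProd f f δ δ δ₂ ⇑α ⇑β) ∧ ⇑(AlgebraicCycle.map (pullback.fst f f) δ₂ δ γ) = IntMult.interProd δ n ⇑α ⇑β := by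
  classical
  set Δη : ↥(pullback f f) := pullback.diagonal f (genericPoint X) with hΔη
  set E := IntMult.extProd f f δ δ δ₂ ⇑α ⇑β with hE
  have hdd : ∀ x, δ₂ (pullback.diagonal f x) = δ x := delta_diagonal f h₂'
  have hI : ∀ z, Set.indicator ({Δη} : Set ↥(pullback f f)) (1 : ↥(pullback f f) → ℤ) z ≠ 0 → z = Δη :=
    fun z hz => Set.mem_singleton_iff.1 (Set.mem_of_indicator_ne_zero hz)
  have hEne : ∀ z, E z ≠ 0 → δ₂ z = δ (pullback.fst f f z) + δ (pullback.snd f f z) ∧
      α (pullback.fst f f z) ≠ 0 ∧ β (pullback.snd f f z) ≠ 0 := by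
    intro z hz
    simp only [hE, IntMult.extProd] at hz
    split_ifs at hz with h
    · exact ⟨h, left_ne_zero_of_mul (left_ne_zero_of_mul hz), right_ne_zero_of_mul (left_ne_zero_of_mul hz)⟩
    · exact absurd rfl hz
  have hrange : ∀ ζ, Δη ⤳ ζ → ∃ x, pullback.diagonal f x = ζ := fun ζ hζ =>
    hζ.mem_closed (pullback.diagonal f).isClosedEmbedding.isClosed_range ⟨_, rfl⟩
  have hp₁ : ∀ x, pullback.fst f f (pullback.diagonal f x) = x := fun x => by
    rw [← Scheme.Hom.comp_apply, pullback.diagonal_fst]; rfl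
  have hp₂ : ∀ x, pullback.snd f f (pullback.diagonal f x) = x := fun x => by
    rw [← Scheme.Hom.comp_apply, pullback.diagonal_snd]; rfl
  refine ⟨fun ξ z ζ hξ hz h1 h2 => ?_, ?_⟩
  · obtain rfl := hI ξ hξ
    obtain ⟨x, rfl⟩ := hrange ζ h1
    obtain ⟨e, ha, hb⟩ := hEne z hz
    have := hprop _ _ x ha hb (by simpa [hp₁] using h2.map (pullback.fst f f).continuous)
      (by simpa [hp₂] using h2.map (pullback.snd f f).continuous)
    have e1 : δ₂ Δη = n := by rw [hΔη, hdd, hn]
    have e2 := hdd x
    omega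
  -- the product at a point of the diagonal
  have key : ∀ x, IntMult.interProd δ₂ (n + n) (Set.indicator {Δη} 1) E (pullback.diagonal f x) =
      IntMult.interProd δ n ⇑α ⇑β x := by
    intro x
    have hc := fun q : {q : X × X // q.1 ⤳ x ∧ q.2 ⤳ x ∧ δ q.1 + δ q.2 - n = δ x} =>
      exists_component f hδ h₂ x q.1.1 q.1.2 q.2.1 q.2.2.1
    choose w hwz hw₁ hw₂ hwd hwl hwm hwu using hc
    have hmem : ∀ q, Δη ⤳ pullback.diagonal f x ∧ w q ⤳ pullback.diagonal f x ∧
        δ₂ Δη + δ₂ (w q) - (n + n) = δ₂ (pullback.diagonal f x) := fun q => by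
      refine ⟨(genericPoint_specializes x).map (pullback.diagonal f).continuous, hwz q, ?_⟩
      have := q.2.2.2
      have e1 : δ₂ Δη = n := by rw [hΔη, hdd, hn]
      have e2 := hdd x
      have e3 := hwd q
      omega
    let Φ : {q : X × X // q.1 ⤳ x ∧ q.2 ⤳ x ∧ δ q.1 + δ q.2 - n = δ x} →
        {p : ↥(pullback f f) × ↥(pullback f f) // p.1 ⤳ pullback.diagonal f x ∧ p.2 ⤳ pullback.diagonal f x ∧
          δ₂ p.1 + δ₂ p.2 - (n + n) = δ₂ (pullback.diagonal f x)} :=
      fun q => ⟨(Δη, w q), hmem q⟩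
    have hΦ : Function.Injective Φ := fun q q' h => by
      have h' : w q = w q' := congrArg (fun p => p.1.2) h
      exact Subtype.ext (Prod.ext ((hw₁ q).symm.trans ((congrArg (pullback.fst f f) h').trans (hw₁ q')))
        ((hw₂ q).symm.trans ((congrArg (pullback.snd f f) h').trans (hw₂ q'))))
    let T := fun p : {p : ↥(pullback f f) × ↥(pullback f f) // p.1 ⤳ pullback.diagonal f x ∧
        p.2 ⤳ pullback.diagonal f x ∧ δ₂ p.1 + δ₂ p.2 - (n + n) = δ₂ (pullback.diagonal f x)} =>
      Set.indicator ({Δη} : Set ↥(pullback f f)) (1 : ↥(pullback f f) → ℤ) p.1.1 * E p.1.2 *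
        IntMult.mult (IntMult.ptIdeal p.1.1) (IntMult.ptIdeal p.1.2) (pullback.diagonal f x)
    have hsupp : Function.support T ⊆ Set.range Φ := fun p hp => by
      have h1 := hI _ (left_ne_zero_of_mul (left_ne_zero_of_mul hp))
      obtain ⟨e, -, -⟩ := hEne _ (right_ne_zero_of_mul (left_ne_zero_of_mul hp))
      have hq := p.2.2.2
      have e1 : δ₂ p.1.1 = n := by rw [h1, hΔη, hdd, hn]
      have e2 := hdd x
      let q : {q : X × X // q.1 ⤳ x ∧ q.2 ⤳ x ∧ δ q.1 + δ q.2 - n = δ x} :=
        ⟨(pullback.fst f f p.1.2, pullback.snd f f p.1.2),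
          by simpa [hp₁] using p.2.2.1.map (pullback.fst f f).continuous,
          by simpa [hp₂] using p.2.2.1.map (pullback.snd f f).continuous, by dsimp only; omega⟩
      exact ⟨q, Subtype.ext (Prod.ext h1.symm (hwu q p.1.2 p.2.2.1 rfl rfl e).symm)⟩
    change ∑ᶠ p, T p = _
    rw [show ∑ᶠ p, T p = ∑ᶠ p ∈ Set.range Φ, T p from finsum_congr fun p => by
      rw [finsum_eq_if]
      split_ifs with h
      · rfl
      · by_contra hne
        exact h (hsupp hne), finsum_mem_range hΦ, IntMult.interProd]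
    refine finsum_congr fun q => ?_
    simp only [T, Φ, hwm q, Set.indicator_of_mem (Set.mem_singleton Δη), Pi.one_apply, one_mul]
    rw [hE]
    simp only [IntMult.extProd, hw₁ q, hw₂ q]
    rw [if_pos (hwd q)]
    have hl := hwl q
    dsimp only [Groth.CycleLimits.fibreIdeal] at hl
    rw [hl, mul_one, hΔη, hwm q]
  funext x
  rw [AlgebraicCycle.map, Function.locallyFinsupp.map_apply, finsum_eq_single _ (pullback.diagonal f x)]
  · rw [finsum_eq_if, if_pos (show pullback.diagonal f x ∈ ⇑(pullback.fst f f) ⁻¹' {x} from hp₁ x), hγ, key]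
    simp [AlgebraicCycle.mapCoeff, hp₁ x, hdd,
      (Groth.Misc13.NormSection.residueDegree_section (pullback.diagonal f) (pullback.fst f f) (pullback.diagonal_fst f) x).2]
  · intro y hy
    rw [finsum_eq_if]
    split_ifs with h
    · suffices γ y = 0 by simp [this]
      rw [hγ]
      refine finsum_eq_zero_of_forall_eq_zero fun p => ?_
      by_contra hne
      have h1 := hI _ (left_ne_zero_of_mul (left_ne_zero_of_mul hne))
      obtain ⟨x', rfl⟩ := hrange y (h1 ▸ p.2.1)
      exact hy (congrArg (pullback.diagonal f) ((hp₁ x').symm.trans h))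
    · rfl

end Groth.Agent.S1953
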