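import Groth.Statements.S19530
import Groth.Agent.Misc8.SubtrChain

set_option autoImplicit false
universe u
open CategoryTheory CategoryTheory.Limits AlgebraicGeometry
open Subtr

namespace Groth.Agent.S19530

/-- Let f : X ⟶ Y be a morphism of schemes such that every base change of f has the lifting property for
ordered pairs of points (every point together with a specialization of it is the image of such a
pair). Then every finite chain of points y_0, y_1, …, y_n of Y, in which y_j is a specialization of
y_i whenever i ≤ j, lifts to a chain in X: there are points x_0, …, x_n of X with x_j a
specialization of x_i for i ≤ j and f(x_i) = y_i for every i. (The published statement is for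
universally subtrusive f, which adds submersiveness for the constructible topologies, and for
arbitrary chains having a lower bound in Y; this row keeps the pair-lifting property alone and
finite chains, whose most special member is a lower bound.) -/
theorem result {X Y : Scheme.{u}} (f : X ⟶ Y)
    (hf : Subtr.UnivSSubtrusive f) (n : ℕ) (y : Fin (n + 1) → Y)
    (hy : ∀ i j : Fin (n + 1), i ≤ j → y i ⤳ y j) :
    ∃ x : Fin (n + 1) → X, (∀ i j : Fin (n + 1), i ≤ j → x i ⤳ x j) ∧ ∀ i, f (x i) = y i := by
  exact Groth.Misc8.Subtr.exists_chain_lift f hf n y hy

end Groth.Agent.S19530
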