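import Groth.Statements.S19532
import Mathlib
import Groth.Agent.Curves2.ExtTwo
-- import your own Groth.Agent.* helpers here

set_option autoImplicit false
universe u
open CategoryTheory
open TFCurv

namespace Groth.Agent.S19532

/-- Let k be an algebraically closed field of characteristic zero, δ ≥ 1, and O ⊂ k[[t]] × k[[t]] the
complete local ring of the simple plane curve singularity A_{2δ−1} (two smooth branches with contact
of order δ, y² = x^{2δ}), namely the k-subalgebra of all pairs (f, g) of power series with f − g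
divisible by t^δ. For 0 ≤ j ≤ δ let I_j ⊂ k[[t]] × k[[t]] be the O-submodule generated by (t^j, t^j)
and (t^δ, 0), so that I_0 = O and I_δ is the conductor; the I_j represent the rank-one torsion-free
O-modules M_j. Then for all 0 ≤ i, j ≤ δ the O-module Ext¹_O(I_i, I_j) has length 2·min(i, j)
(length over O equals k-dimension here). (The one-branch case n = 2δ of the published lemma is
stated separately.) -/
theorem result (k : Type u) [Field k] [IsAlgClosed k] [CharZero k] (δ : ℕ) (hδ : 1 ≤ δ) (O : Subalgebra k (PowerSeries k × PowerSeries k)) (hO : ∀ f : (PowerSeries k × PowerSeries k), f ∈ O ↔ (δ : ℕ∞) ≤ PowerSeries.order (f.1 - f.2)) (i j : ℕ) (hi : i ≤ δ) (hj : j ≤ δ) : Module.length ↥O (Abelian.Ext (ModuleCat.of ↥O ↥(Submodule.span ↥O ({((PowerSeries.X : PowerSeries k) ^ i, (PowerSeries.X : PowerSeries k) ^ i), ((PowerSeries.X : PowerSeries k) ^ δ, 0)} : Set (PowerSeries k × PowerSeries k)))) (ModuleCat.of ↥O ↥(Submodule.span ↥O ({((PowerSeries.X : PowerSeries k) ^ j, (PowerSeries.X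 : PowerSeries k) ^ j), ((PowerSeries.X : PowerSeries k) ^ δ, 0)} : Set (PowerSeries k × PowerSeries k)))) 1) = ((2 * min i j : ℕ) : ℕ∞) := by
  classical
  let x : PowerSeries k × PowerSeries k := (PowerSeries.X, PowerSeries.X)
  have hxn : ∀ d, x ^ d = ((PowerSeries.X : PowerSeries k) ^ d, (PowerSeries.X : PowerSeries k) ^ d) :=
    fun d => rfl
  have hOd : ∀ f : PowerSeries k × PowerSeries k, f ∈ O ↔ PowerSeries.X ^ δ ∣ f.1 - f.2 := fun f => by
    rw [hO]
    refine ⟨fun h => ?_, fun h => PowerSeries.nat_le_order _ _ (PowerSeries.X_pow_dvd_iff.1 h)⟩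
    exact PowerSeries.X_pow_dvd_iff.2 fun n hn =>
      PowerSeries.coeff_of_lt_order _ (lt_of_lt_of_le (by exact_mod_cast hn) h)
  let P : ℕ → Submodule ↥O (PowerSeries k × PowerSeries k) := fun m =>
    { carrier := {f | PowerSeries.X ^ (δ - m) ∣ f.1 - f.2}
      add_mem' := fun {f g} hf hg => by
        change _ ∣ f.1 + g.1 - (f.2 + g.2)
        rw [add_sub_add_comm]; exact dvd_add hf hg
      zero_mem' := by simp
      smul_mem' := fun a f hf => by
        change _ ∣ a.1.1 * f.1 - a.1.2 * f.2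
        rw [show a.1.1 * f.1 - a.1.2 * f.2 = (a.1.1 - a.1.2) * f.1 + a.1.2 * (f.1 - f.2) by ring]
        exact dvd_add (((pow_dvd_pow _ (Nat.sub_le _ _)).trans ((hOd _).1 a.2)).mul_right _)
          (dvd_mul_of_dvd_right hf _) }
  have hP : ∀ m f, f ∈ P m ↔ PowerSeries.X ^ (δ - m) ∣ f.1 - f.2 := fun m f => Iff.rfl
  have hmono' : ∀ a b, a ≤ b → b ≤ δ → P a ≤ P b := fun a b hab _ f hf =>
    (pow_dvd_pow _ (by omega)).trans hf
  have hs : ∀ m, ((PowerSeries.X : PowerSeries k) ^ (δ - m), (0 : PowerSeries k)) ∈ P m := fun m => by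
    rw [hP]; simp
  have h1 : ∀ m, (1 : PowerSeries k × PowerSeries k) ∈ P m := fun m => by
    rw [hP]; simp
  have hdiag : ∀ h : PowerSeries k, (h, h) ∈ O := fun h => by rw [hOd]; simp
  have hspan : ∀ m ≤ δ, P m = Submodule.span ↥O
      {1, ((PowerSeries.X : PowerSeries k) ^ (δ - m), (0 : PowerSeries k))} := by
    intro m hm
    refine le_antisymm (fun f hf => ?_) (Submodule.span_le.2 ?_)
    · obtain ⟨h, hh⟩ := (hP _ _).1 hf
      refine Submodule.mem_span_pair.2 ⟨⟨_, hdiag f.2⟩, ⟨_, hdiag h⟩, Prod.ext ?_ ?_⟩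
      · simp [Subalgebra.smul_def]
        linear_combination -hh
      · simp [Subalgebra.smul_def]
    · rintro _ (rfl | rfl)
      · exact h1 m
      · exact hs m
  have hreg : IsRegular x := by
    refine isRegular_iff_mem_nonZeroDivisors.2 (mem_nonZeroDivisors_iff_right.2 fun z hz => ?_)
    have h1 := congrArg Prod.fst hz
    have h2 := congrArg Prod.snd hz
    simp only [x, Prod.fst_mul, Prod.snd_mul, Prod.fst_zero, Prod.snd_zero, mul_eq_zero,
      PowerSeries.X_ne_zero, or_false] at h1 h2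
    exact Prod.ext h1 h2
  -- the modules as members of the chain
  have hmap : ∀ m ≤ δ, (P m).map (Groth.Curves2.ExtTwo.mulPow x m) = Submodule.span ↥O
      ({((PowerSeries.X : PowerSeries k) ^ m, (PowerSeries.X : PowerSeries k) ^ m),
        ((PowerSeries.X : PowerSeries k) ^ δ, 0)} : Set (PowerSeries k × PowerSeries k)) := fun m hm => by
    rw [hspan m hm, Submodule.map_span, Set.image_pair]
    congr 2
    · simp [Groth.Curves2.ExtTwo.mulPow, hxn]
    · simp [Groth.Curves2.ExtTwo.mulPow, hxn, ← pow_add, Nat.add_sub_cancel' hm]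
  have hpinj : ∀ m, Function.Injective (Groth.Curves2.ExtTwo.mulPow (A := ↥O) x m) := fun m a b h =>
    (hreg.pow m).left h
  let em : ∀ (m : ℕ) (hm : m ≤ δ), ↥(P m) ≃ₗ[↥O] ↥(Submodule.span ↥O
      ({((PowerSeries.X : PowerSeries k) ^ m, (PowerSeries.X : PowerSeries k) ^ m),
        ((PowerSeries.X : PowerSeries k) ^ δ, 0)} : Set (PowerSeries k × PowerSeries k))) := fun m hm =>
    (Submodule.equivMapOfInjective _ (hpinj m) (P m)).trans (LinearEquiv.ofEq _ _ (hmap m hm))
  let ε : ↥O →+* k := (PowerSeries.constantCoeff.comp (RingHom.snd _ _)).comp O.val.toRingHom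
  have hεsurj : Function.Surjective ε := fun a =>
    ⟨⟨_, hdiag (PowerSeries.C a)⟩, PowerSeries.constantCoeff_C a⟩
  refine Groth.Curves2.ExtTwo.length_ext_chain (A := ↥O) (B := PowerSeries k × PowerSeries k)
    Subtype.val_injective x hreg δ (fun m => (PowerSeries.X ^ (δ - m), 0)) P hspan ?_ ?_ hmono' ?_ ?_ ?_ ?_
    ((P i).subtype.comp (em i hi).symm.toLinearMap) (Subtype.val_injective.comp (em i hi).symm.injective)
    ((P j).subtype.comp (em j hj).symm.toLinearMap) (Subtype.val_injective.comp (em j hj).symm.injective)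
    i j hi hj
    (by rw [LinearMap.range_comp, LinearEquiv.range, Submodule.map_top, Submodule.range_subtype])
    (by rw [LinearMap.range_comp, LinearEquiv.range, Submodule.map_top, Submodule.range_subtype])
  · ext f
    rw [hP, Nat.sub_zero, ← hOd]
    exact ⟨fun h => ⟨⟨f, h⟩, rfl⟩, fun ⟨a, ha⟩ => ha ▸ a.2⟩
  · rw [hP]; simp [x]
  · intro m hm f hf g hg
    rw [hP] at hf hg ⊢
    rw [show (f * g).1 - (f * g).2 = (f.1 - f.2) * g.1 + f.2 * (g.1 - g.2) by
      rw [Prod.fst_mul, Prod.snd_mul]; ring]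
    exact dvd_add (hf.mul_right _) (dvd_mul_of_dvd_right hg _)
  · intro a b hba ha y hy
    rw [hP] at hy ⊢
    rw [Prod.fst_mul, Prod.snd_mul, hxn, ← mul_sub, show δ - b = (a - b) + (δ - a) by omega, pow_add]
    exact mul_dvd_mul_left _ hy
  · intro a b hba ha g hg hgs
    rw [hP] at hg hgs
    simp only [Prod.fst_mul, Prod.snd_mul, mul_zero, sub_zero] at hgs
    rw [show δ - b = (a - b) + (δ - a) by omega, pow_add] at hgs hg
    have hg1 : PowerSeries.X ^ (a - b) ∣ g.1 :=
      (mul_dvd_mul_iff_right (pow_ne_zero _ PowerSeries.X_ne_zero)).1 hgs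
    have hg2 : PowerSeries.X ^ (a - b) ∣ g.2 := by
      have := dvd_sub hg1 ((dvd_mul_right _ _).trans hg)
      rwa [sub_sub_cancel] at this
    obtain ⟨y1, hy1⟩ := hg1
    obtain ⟨y2, hy2⟩ := hg2
    refine ⟨(y1, y2), ?_, Prod.ext (by simpa [hxn] using hy1) (by simpa [hxn] using hy2)⟩
    rw [hP]
    rw [hy1, hy2, ← mul_sub] at hg
    exact (mul_dvd_mul_iff_left (pow_ne_zero _ PowerSeries.X_ne_zero)).1 hg
  · intro m hm
    refine Groth.Curves2.ExtTwo.length_two ε hεsurj (P m) _
      ((PowerSeries.coeff 0).toAddMonoidHom.comp (AddMonoidHom.snd _ _))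
      ((PowerSeries.coeff (δ - m)).toAddMonoidHom.comp (AddMonoidHom.fst _ _ - AddMonoidHom.snd _ _))
      ?_ ?_ ⟨1, h1 m, by simp⟩ ⟨_, hs m, by simp, by simp⟩ ?_
    · intro a p _
      simp [ε, Subalgebra.smul_def]
    · intro a p hp hp0
      simp only [AddMonoidHom.comp_apply, LinearMap.toAddMonoidHom_coe, AddMonoidHom.coe_snd,
        AddMonoidHom.sub_apply, AddMonoidHom.coe_fst, Subalgebra.smul_def, smul_eq_mul, Prod.fst_mul,
        Prod.snd_mul] at hp0 ⊢
      rw [show a.1.1 * p.1 - a.1.2 * p.2 = (a.1.1 - a.1.2) * p.1 + a.1.2 * (p.1 - p.2) by ring,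
        map_add]
      obtain ⟨c, hc⟩ := (hOd _).1 a.2
      obtain ⟨h, hh⟩ := (hP _ _).1 hp
      have hz : PowerSeries.coeff (δ - m) ((a.1.1 - a.1.2) * p.1) = 0 := by
        rw [hc, mul_assoc, PowerSeries.coeff_X_pow_mul']
        split_ifs with hle
        · have h0 : PowerSeries.coeff 0 p.1 = 0 := by
            have := congrArg (PowerSeries.coeff 0) hh
            rw [map_sub, PowerSeries.coeff_X_pow_mul', if_neg (by omega), hp0, sub_zero] at this
            exact this
          rw [show δ - m - δ = 0 by omega, PowerSeries.coeff_zero_eq_constantCoeff, map_mul,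
            ← PowerSeries.coeff_zero_eq_constantCoeff, h0, mul_zero]
        · rfl
      have hz' : PowerSeries.coeff (δ - m) (a.1.2 * (p.1 - p.2)) =
          ε a * PowerSeries.coeff (δ - m) (p.1 - p.2) := by
        rw [hh, mul_left_comm, PowerSeries.coeff_X_pow_mul', if_pos le_rfl,
          PowerSeries.coeff_X_pow_mul', if_pos le_rfl, Nat.sub_self,
          PowerSeries.coeff_zero_eq_constantCoeff, map_mul]
        rfl
      rw [hz, hz', zero_add]
    · intro p hp
      simp only [AddMonoidHom.comp_apply, LinearMap.toAddMonoidHom_coe, AddMonoidHom.coe_snd,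
        AddMonoidHom.sub_apply, AddMonoidHom.coe_fst]
      constructor
      · rintro ⟨y, hy, rfl⟩
        obtain ⟨h, hh⟩ := (hP _ _).1 hy
        refine ⟨by simp [x, Groth.Curves2.ExtTwo.mulPow], ?_⟩
        simp only [Groth.Curves2.ExtTwo.mulPow, LinearMap.mulLeft_apply, Prod.fst_mul, Prod.snd_mul,
          hxn, ← mul_sub, hh, ← mul_assoc, ← pow_add]
        rw [PowerSeries.coeff_X_pow_mul', if_neg (by omega)]
      · rintro ⟨h0, hr⟩
        obtain ⟨h, hh⟩ := (hP _ _).1 hp
        obtain ⟨c, hc⟩ : (PowerSeries.X : PowerSeries k) ∣ h := by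
          rw [PowerSeries.X_dvd_iff]
          rwa [hh, PowerSeries.coeff_X_pow_mul', if_pos le_rfl, Nat.sub_self,
            PowerSeries.coeff_zero_eq_constantCoeff] at hr
        obtain ⟨y2, hy2⟩ : (PowerSeries.X : PowerSeries k) ∣ p.2 := by
          rw [PowerSeries.X_dvd_iff]
          rwa [PowerSeries.coeff_zero_eq_constantCoeff] at h0
        refine ⟨(y2 + PowerSeries.X ^ (δ - m) * c, y2), by change (PowerSeries.X : PowerSeries k) ^ (δ - m) ∣ _; simp, ?_⟩
        refine Prod.ext ?_ ?_
        · change PowerSeries.X ^ 1 * (y2 + PowerSeries.X ^ (δ - m) * c) = p.1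
          rw [pow_one]
          linear_combination (-1 : PowerSeries k) * hh - hy2 - PowerSeries.X ^ (δ - m) * hc
        · change PowerSeries.X ^ 1 * y2 = p.2
          rw [pow_one]
          exact hy2.symm

end Groth.Agent.S19532
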