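import Groth.Statements.S19533
import Groth.Agent.Abvar.AlgClosedAux
import Groth.Agent.AlgGrp1.Geom
import Groth.Agent.AlgGrp1.Const
import Groth.Agent.AlgGrp1.Rigidity
import Groth.Agent.VarietyBC.GlobalField

set_option autoImplicit false
universe u
open CategoryTheory CategoryTheory.Limits MonoidalCategory CartesianMonoidalCategory MonObj GrpObj AlgebraicGeometry
open AbVar

namespace Groth.Agent.S19533

/-- Let k be an algebraically closed field, A an abelian variety over k (a k-group scheme whose
structure morphism is proper, smooth and geometrically connected) with unit point e, Y a scheme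
separated over k and f : A → Y a morphism over k. Write F₀ for the connected component of e in the
fibre f⁻¹(f(e)). Then the k-rational points of F₀ are stable under the group law: if k-points x and
y of A lie in F₀ then so do the product point x·y and the inverse point x⁻¹. (The published
statement is for Y a k-variety and concludes that F₀ with its reduced structure is an abelian
subvariety, together with the translation formula F_a = a + F₀; this row records the closure of
F₀(k) under multiplication and inversion, for Y merely separated over k.) -/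
theorem result (k : Type u) [Field k] [IsAlgClosed k]
    (A : Over (Spec (CommRingCat.of k))) [GrpObj A] [IsProper A.hom] [Smooth A.hom] [GeometricallyConnected A.hom]
    {Y : Scheme.{u}} (q : Y ⟶ Spec (CommRingCat.of k)) [IsSeparated q] (f : A.left ⟶ Y) (hf : f ≫ q = A.hom)
    (x y : 𝟙_ (Over (Spec (CommRingCat.of k))) ⟶ A)
    (hx : x.left (IsLocalRing.closedPoint k) ∈
      connectedComponentIn (f ⁻¹' {f (η[A].left (IsLocalRing.closedPoint k))}) (η[A].left (IsLocalRing.closedPoint k)))
    (hy : y.left (IsLocalRing.closedPoint k) ∈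
      connectedComponentIn (f ⁻¹' {f (η[A].left (IsLocalRing.closedPoint k))}) (η[A].left (IsLocalRing.closedPoint k))) :
    (lift x y ≫ μ[A]).left (IsLocalRing.closedPoint k) ∈
        connectedComponentIn (f ⁻¹' {f (η[A].left (IsLocalRing.closedPoint k))}) (η[A].left (IsLocalRing.closedPoint k)) ∧
      (x ≫ ι[A]).left (IsLocalRing.closedPoint k) ∈
        connectedComponentIn (f ⁻¹' {f (η[A].left (IsLocalRing.closedPoint k))}) (η[A].left (IsLocalRing.closedPoint k)) := by
  haveI : ConnectedSpace A.left := GeometricallyConnected.connectedSpace A.hom A.hom.isOpenMap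
  let Yo : Over (Spec (CommRingCat.of k)) := Over.mk q
  haveI : IsSeparated Yo.hom := ‹IsSeparated q›
  let fo : A ⟶ Yo := Over.homMk f hf
  set cp := IsLocalRing.closedPoint k
  set e₀ := η[A].left cp
  set F := f ⁻¹' {f e₀}
  set C₀ := connectedComponentIn F e₀ with hC₀
  let p₀ : 𝟙_ (Over (Spec (CommRingCat.of k))) ⟶ Yo := η[A] ≫ fo
  haveI : IsClosedImmersion p₀.left := isClosedImmersion_of_comp_eq_id Yo.hom _ (Over.w p₀)
  haveI hsub1 : Subsingleton ↥(𝟙_ (Over (Spec (CommRingCat.of k)))).left :=
    inferInstanceAs (Subsingleton ↥(Spec (CommRingCat.of k)))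
  have hp₀ : Set.range p₀.left.base = {f e₀} := by
    ext y
    constructor
    · rintro ⟨t, rfl⟩
      rw [Subsingleton.elim t cp]
      rfl
    · rintro rfl
      exact ⟨cp, rfl⟩
  have hFcl : IsClosed F := by
    have : IsClosed ({f e₀} : Set Y) := hp₀ ▸ p₀.left.isClosedEmbedding.isClosed_range
    exact this.preimage f.continuous
  have he : e₀ ∈ F := rfl
  have hCcl : IsClosed C₀ := by
    rw [hC₀, connectedComponentIn_eq_image he]
    exact hFcl.isClosedEmbedding_subtypeVal.isClosedMap _ isClosed_connectedComponent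
  obtain ⟨Z, c, _, _, hrange⟩ := Groth.Abvar.exists_reduced_on A ⟨C₀, hCcl⟩
  haveI : IsProper Z.hom := by rw [← Over.w c]; infer_instance
  haveI : ConnectedSpace Z.left := by
    have h1 : _root_.IsConnected C₀ := isConnected_connectedComponentIn_iff.2 he
    haveI : ConnectedSpace (Set.range c.left.base) := by
      rw [hrange]; exact isConnected_iff_connectedSpace.1 h1
    exact (c.left.isClosedEmbedding.isEmbedding.toHomeomorph).symm.surjective.connectedSpace
      (c.left.isClosedEmbedding.isEmbedding.toHomeomorph).symm.continuous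
  haveI hred1 : IsReduced (𝟙_ (Over (Spec (CommRingCat.of k)))).left :=
    inferInstanceAs (IsReduced (Spec (CommRingCat.of k)))
  have hlift : ∀ a : 𝟙_ (Over (Spec (CommRingCat.of k))) ⟶ A, a.left cp ∈ C₀ →
      ∃ z : 𝟙_ _ ⟶ Z, z ≫ c = a := fun a ha =>
    Groth.AlgGrp1.exists_factor_of_range_subset c a (by
      rintro _ ⟨t, rfl⟩
      rw [Subsingleton.elim t cp, hrange]
      exact ha)
  obtain ⟨eZ, heZ⟩ := hlift η[A] (mem_connectedComponentIn he)
  haveI := Groth.Abvar.geometricallyReduced_of_isAlgClosed Z
  haveI := Groth.AlgGrp1.geometricallyConnected_of_point Z.hom eZ.left (Over.w eZ)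
  have hconst : Groth.AlgGrp1.HasConstFunctions Z :=
    (Groth.VarietyBC.GlobalField.appTop_bijective Z.hom).comp
      (Scheme.ΓSpecIso (CommRingCat.of k)).symm.commRingCatIsoToRingEquiv.bijective
  have hcf : c ≫ fo = toUnit Z ≫ p₀ := by
    obtain ⟨z, hz⟩ := Groth.AlgGrp1.exists_factor_of_range_subset p₀ (c ≫ fo) (by
      rintro _ ⟨t, rfl⟩
      rw [hp₀]
      have ht : c.left.base t ∈ C₀ := hrange.le ⟨t, rfl⟩
      exact connectedComponentIn_subset F e₀ ht)
    rw [← hz, toUnit_unique z (toUnit Z)]
  haveI : IsLocallyNoetherian A.left := Groth.AlgGrp1.isLocallyNoetherian_left A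
  let g : Z ⊗ A ⟶ Yo := ((fst Z A ≫ c) * snd Z A) ≫ fo
  have hg := Groth.AlgGrp1.eq_snd_comp_of_const hconst eZ (η[A]) p₀ g (by
    simp only [g, ← Category.assoc, MonObj.comp_mul, whiskerLeft_fst, whiskerLeft_snd]
    rw [MonObj.one_eq_one, MonObj.comp_one, _root_.mul_one, Category.assoc, hcf,
      ← Category.assoc, comp_toUnit])
  -- `f` is invariant under left multiplication by points of `Z`
  have key : ∀ (a : 𝟙_ (Over (Spec (CommRingCat.of k))) ⟶ A) (z : 𝟙_ _ ⟶ Z),
      ((z ≫ c) * a) ≫ fo = a ≫ fo := by
    intro a z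
    have h := congrArg (fun r => lift z a ≫ r) hg
    simp only [g, lift_snd_assoc, ← Category.assoc, MonObj.comp_mul, lift_fst,
      lift_snd, comp_lift, comp_toUnit, toUnit_unique (a ≫ toUnit A) (toUnit _)] at h
    rw [Category.comp_id] at h
    refine h.trans ?_
    rw [Category.assoc (toUnit _) eZ c, heZ, MonObj.one_eq_one, MonObj.comp_one, _root_.one_mul]
  have hpt : ∀ (a : 𝟙_ (Over (Spec (CommRingCat.of k))) ⟶ A), (a ≫ fo).left cp = f (a.left cp) :=
    fun a => rfl
  -- a translate of `Z` through two points of `F`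
  have main : ∀ (a b : 𝟙_ (Over (Spec (CommRingCat.of k))) ⟶ A), a.left cp ∈ F →
      b.left cp ∈ C₀ → ∀ w, w = b * a → (a.left cp ∈ C₀ ↔ w.left cp ∈ C₀) := by
    intro a b ha hb w hw
    obtain ⟨zb, hzb⟩ := hlift b hb
    let τ : Z ⟶ A := c * (toUnit Z ≫ a)
    have hτsub : Set.range τ.left.base ⊆ F := by
      have h := congrArg (fun r => lift (𝟙 Z) (toUnit Z ≫ a) ≫ r) hg
      simp only [g, lift_snd_assoc, ← Category.assoc, MonObj.comp_mul, lift_fst,
        lift_snd, Category.id_comp] at h
      have h' : τ ≫ fo = (toUnit Z ≫ a) ≫ fo := by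
        refine h.trans ?_
        simp only [comp_lift, Category.assoc, ← Category.assoc (toUnit Z ≫ a), comp_toUnit,
          MonObj.comp_mul, lift_fst, lift_snd, Category.comp_id]
        rw [heZ, MonObj.one_eq_one, MonObj.comp_one, _root_.one_mul, Category.assoc]
      rintro _ ⟨t, rfl⟩
      show f (τ.left t) = f e₀
      have ht : f (τ.left t) = f (a.left ((toUnit Z).left t)) := congr(($h').left t)
      rw [ht, Subsingleton.elim ((toUnit Z).left t) cp]
      exact ha
    have hconn : _root_.IsPreconnected (Set.range τ.left.base) := isPreconnected_range τ.left.continuous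
    have ha' : a.left cp ∈ Set.range τ.left.base := by
      refine ⟨eZ.left cp, ?_⟩
      have : eZ ≫ τ = a := by
        simp only [τ, MonObj.comp_mul, heZ, ← Category.assoc, toUnit_unique (eZ ≫ toUnit Z) (𝟙 _),
          Category.id_comp]
        rw [MonObj.one_eq_one, _root_.one_mul]
      exact congr(($this).left cp)
    have hw' : w.left cp ∈ Set.range τ.left.base := by
      refine ⟨zb.left cp, ?_⟩
      have : zb ≫ τ = w := by
        simp only [τ, MonObj.comp_mul, hzb, ← Category.assoc, toUnit_unique (zb ≫ toUnit Z) (𝟙 _),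
          Category.id_comp, hw]
      exact congr(($this).left cp)
    have hcc := hconn.subset_connectedComponentIn ha' hτsub
    constructor <;> intro hmem
    · rw [hC₀, connectedComponentIn_eq hmem]; exact hcc hw'
    · rw [hC₀, connectedComponentIn_eq hmem, ← connectedComponentIn_eq (hcc hw')]
      exact mem_connectedComponentIn (hτsub ha')
  have hxy : lift x y ≫ μ[A] = x * y := (Hom.mul_def x y).symm
  constructor
  · rw [hxy]
    exact (main y x (connectedComponentIn_subset F e₀ hy) hx _ rfl).1 hy
  · obtain ⟨zx, hzx⟩ := hlift x hx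
    have hx' : (x⁻¹).left cp ∈ F := by
      have h := key x⁻¹ zx
      rw [hzx, mul_inv_cancel] at h
      show f ((x⁻¹).left cp) = f e₀
      have h2 : f ((1 : 𝟙_ (Over (Spec (CommRingCat.of k))) ⟶ A).left cp) = f ((x⁻¹).left cp) :=
        congr(($h).left cp)
      rw [← h2, ← MonObj.one_eq_one]
    rw [show x ≫ ι[A] = x⁻¹ from (Hom.inv_def x).symm]
    refine (main x⁻¹ x hx' hx 1 (mul_inv_cancel x).symm).2 ?_
    rw [← MonObj.one_eq_one]
    exact mem_connectedComponentIn he

end Groth.Agent.S19533
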