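import Groth.Statements.S19535
import Groth.Agent.EulerDeg.LineBundle
import Groth.Agent.PicAux.MeroDivOps
import Groth.Agent.PicAux.Pullback
import Groth.Agent.OmegaSheaf.Pull
import Groth.Agent.OmegaSheaf.Smooth
import Groth.Agent.CurveDiv.HilbProper
import Groth.Agent.PicAux.GenLocusAffine

set_option autoImplicit false
set_option backward.isDefEq.respectTransparency.types false
universe u
open CategoryTheory CategoryTheory.Limits AlgebraicGeometry TopologicalSpace
open Curves

namespace Groth.Agent.S19535

/-- Universal differentials of a smooth curve form an invertible module. -/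
theorem isInvertible_of_isUniversal {k : Type u} [Field k] {X : Scheme.{u}} (p : X ⟶ Spec (CommRingCat.of k))
    [Smooth p] [IsSeparated p] [IrreducibleSpace X] (hd : topologicalKrullDim X = 1) {Ω : X.Modules}
    {d : OmegaSh.Der p Ω} (hu : OmegaSh.IsUniversal d) : PicF.IsInvertible Ω := by
  haveI := Groth.CurveDiv.smoothOfRelativeDimension_one_of_curve p hd
  obtain ⟨θ, -⟩ := Groth.OmegaSheaf.exists_iso_of_isUniversal (Groth.OmegaSheaf.isUniversal_dOmega p) hu
  exact Groth.PicAux.isInvertible_of_iso
    (Groth.LocFree.isInvertible_iff_ofRank_one.2 (Groth.OmegaSheaf.isFinLocFreeOfRank_sheaf p 1)) θ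

open Groth.PicAux in
/-- A nonzero map of invertible modules on an integral scheme has a cokernel vanishing somewhere. -/
theorem exists_isZero_restrict {X : Scheme.{u}} [IsIntegral X] {N L : X.Modules} (hN : PicF.IsInvertible N)
    (hL : PicF.IsInvertible L) {φ : N ⟶ L} (hφ : φ ≠ 0) :
    ∃ U : X.Opens, (U : Set X).Nonempty ∧ IsZero ((Scheme.Modules.pullback U.ι).obj (cokernel φ)) := by
  obtain ⟨V, g, e, c, hV, hg, he, hc⟩ :=
    Groth.EulerDeg.exists_frames (φ := φ) hN hL (genericPoint X)
  haveI : Nonempty V := ⟨⟨_, hV⟩⟩
  have hu : IsUnit (X.presheaf.germ V (genericPoint X) hV c) := by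
    refine Ne.isUnit fun h => Groth.EulerDeg.coeff_ne_zero hN hL hφ hg hc ?_
    exact X.germToFunctionField_injective V (by rw [map_zero]; exact h)
  let W := X.basicOpen c
  have hW : genericPoint X ∈ W := (X.mem_basicOpen c _ hV).2 hu
  have hWV : W ≤ V := X.basicOpen_le c
  refine ⟨W, ⟨_, hW⟩, ?_⟩
  haveI : IsIso ((Scheme.Modules.pullback W.ι).map φ) := by
    refine isIso_of_gen (U := fun _ : Unit => W.ι ⁻¹ᵁ W) (by simp)
      (fun _ => pullSec W.ι N (res N hWV g)) (fun _ => (hg.res hWV).pull W.ι) _ fun _ => ?_
    rw [pullSec_map, app_res, hc, res_smul]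
    exact ((he.res hWV).smul_unit (RingedSpace.isUnit_res_basicOpen X.toLocallyRingedSpace.toRingedSpace c)).pull W.ι
  exact (isZero_cokernel_of_epi ((Scheme.Modules.pullback W.ι).map φ)).of_iso
    (PreservesCokernel.iso (Scheme.Modules.pullback W.ι) φ)

/-- Dichotomy for the differential of a map of smooth curves: let k be a field, X and Y integral schemes
each smooth, separated and quasi-compact over Spec k and of dimension one, and φ : X → Y a morphism
over k. Let Ω_Y and Ω_X be sheaves of differentials of Y and of X over k, given as universal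
derivations, and c : φ^*Ω_Y → Ω_X the compatible map dφ (sending the pullback of d_Y s to d_X(φ^♯
s)). Then exactly one of two things happens, stated here as a disjunction: either c is the zero map,
or c is a monomorphism of O_X-modules and its cokernel (the sheaf of relative differentials Ω_{X/Y})
restricts to zero on some nonempty open subset of X, so that it is supported at finitely many closed
points. (The published statement is for smooth curves, which are in addition geometrically
connected; integrality of X and Y is what the argument uses.) -/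
theorem result (k : Type u) [Field k] {X Y : Scheme.{u}}
    (pX : X ⟶ Spec (CommRingCat.of k)) (pY : Y ⟶ Spec (CommRingCat.of k)) (φ : X ⟶ Y) (w : φ ≫ pY = pX)
    [IsIntegral X] [Smooth pX] [IsSeparated pX] [QuasiCompact pX] (hdX : topologicalKrullDim X = 1)
    [IsIntegral Y] [Smooth pY] [IsSeparated pY] [QuasiCompact pY] (hdY : topologicalKrullDim Y = 1)
    (ΩY : Y.Modules) (dY : OmegaSh.Der pY ΩY) (hY : OmegaSh.IsUniversal dY)
    (ΩX : X.Modules) (dX : OmegaSh.Der pX ΩX) (hX : OmegaSh.IsUniversal dX)
    (c : (Scheme.Modules.pullback φ).obj ΩY ⟶ ΩX) (hc : OmegaSh.IsDiffCompat φ dY dX c) :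
    c = 0 ∨ (Mono c ∧ ∃ U : X.Opens, (U : Set X).Nonempty ∧ IsZero ((Scheme.Modules.pullback U.ι).obj (cokernel c))) := by
  refine or_iff_not_imp_left.mpr fun hc0 => ?_
  have hN := Groth.PicAux.isInvertible_pullback φ (isInvertible_of_isUniversal pY hdY hY)
  have hL := isInvertible_of_isUniversal pX hdX hX
  exact ⟨Groth.EulerDeg.mono_of_ne_zero hN hL hc0, exists_isZero_restrict hN hL hc0⟩

end Groth.Agent.S19535
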