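import Groth.Statements.S1954
import Groth.Agent.Calg6.ClosedImmStalk
import Groth.Agent.Calg6.EdimSum
import Groth.Agent.Calg6.TorCM
import Groth.Agent.Calg4.RegularAscent
import Groth.Agent.S6470
import Groth.Agent.S0563
import Groth.Agent.Ega4Algebra1.RegularLocal
import Groth.Agent.VarietyBC.SmoothChart

set_option autoImplicit false
universe u
open CategoryTheory CategoryTheory.Limits AlgebraicGeometry
attribute [local instance] HasDerivedCategory.standard
open IntMult

namespace Groth.Agent.S1954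

open IsLocalRing Groth.Calg6.ClosedImmStalk

/-- The ideal of a closed subscheme is contained in the primes of the components through a point. -/
theorem le_genPrime {X Y : Scheme.{u}} (i : Y ⟶ X) [IsClosedImmersion i] (δ : X → ℤ) (r : ℤ) {τ ξ : X}
    (h : ξ ⤳ τ) (hξ : Cyc.subschemeFun δ r i ξ ≠ 0) :
    IntMult.stalkIdeal i.ker τ ≤ (Groth.Cycles.genPrime h).asIdeal := by
  obtain ⟨-, y, rfl⟩ := exists_of_subschemeFun_ne_zero δ r i ξ hξ
  have hne : IntMult.stalkIdeal i.ker (i y) ≠ ⊤ := by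
    rw [← ker_stalkMap_eq i y]
    exact RingHom.ker_ne_top _
  intro a ha
  refine le_maximalIdeal hne ?_
  rw [stalkIdeal_gen i.ker h]
  exact Ideal.mem_map_of_mem _ ha

/-- A component with prime ideal at a point has multiplicity one. -/
theorem subschemeFun_eq_one {X Y : Scheme.{u}} (i : Y ⟶ X) [IsClosedImmersion i] (δ : X → ℤ) (r : ℤ) {τ ξ : X}
    (h : ξ ⤳ τ) (hξ : Cyc.subschemeFun δ r i ξ ≠ 0)
    (hV : IntMult.stalkIdeal i.ker τ = (Groth.Cycles.genPrime h).asIdeal) :
    Cyc.subschemeFun δ r i ξ = 1 := by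
  obtain ⟨hk, y, rfl⟩ := exists_of_subschemeFun_ne_zero δ r i ξ hξ
  rw [subschemeFun_eq δ r i y, if_pos hk, length_stalk i y]
  have hmax : IntMult.stalkIdeal i.ker (i y) = maximalIdeal _ := by
    letI := (X.presheaf.stalkSpecializes h).hom.toAlgebra
    haveI := Groth.Cycles.isLocalization_stalkSpecializes h
    rw [stalkIdeal_gen i.ker h, hV]
    exact IsLocalization.AtPrime.map_eq_maximalIdeal (Groth.Cycles.genPrime h).asIdeal (X.presheaf.stalk (i y))
  haveI : IsSimpleModule (X.presheaf.stalk (i y)) (X.presheaf.stalk (i y) ⧸ IntMult.stalkIdeal i.ker (i y)) :=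
    isSimpleModule_iff_isCoatom.2 (Ideal.isMaximal_def.1 (hmax ▸ maximalIdeal.isMaximal _))
  rw [Module.length_eq_one]
  rfl


/-- Let Y, Z → X be closed immersions into a nonsingular variety with δ ≤ r on Y and δ ≤ s on Z, such
that [Y]_r and [Z]_s intersect properly, and let τ be a point of δ-dimension r + s − n lying under Y
and Z (the generic point of a component of the intersection of components of dimension r and s) at
which the scheme-theoretic intersection Y ×_X Z has multiplicity 1 (its local ring there has length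
1). Then the coefficient of the closure of τ in [Y]_r · [Z]_s is 1, and the local rings of Y and Z
at the points over τ are regular. (The published statement has further parts, not restated here.)
Here X is a nonsingular variety over the algebraically closed field K (smooth, separated,
quasi-compact, integral) with dimension function δ (transcendence degree) and n = dim X; cycles are
Mathlib AlgebraicCycles with Cyc.Zk membership, proper intersection is IntMult.IntersectProperly and
α · β is the Tor-formula intersection product on coefficient functions (IntMult.interProd), bundled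
where needed as 'any cycle with these coefficients'. -/
theorem result (K : Type u) [Field K] [IsAlgClosed K] (X : Scheme.{u}) (f : X ⟶ Spec (CommRingCat.of K)) [Smooth f] [IsSeparated f] [QuasiCompact f] [IsIntegral X] (δ : X → ℤ) (hX : Cyc.IsSetup X δ) (hδ : Cyc.DeltaCompat f δ (fun _ => 0)) (n : ℤ) (hn : δ (genericPoint X) = n) (Y Z : Scheme.{u}) (ιY : Y ⟶ X) (ιZ : Z ⟶ X) [IsClosedImmersion ιY] [IsClosedImmersion ιZ] (r s : ℤ) (hY : ∀ y : Y, δ (ιY y) ≤ r) (hZ : ∀ z : Z, δ (ιZ z) ≤ s) (hprop : IntMult.IntersectProperly δ n (Cyc.subschemeFun δ r ιY) (Cyc.subschemeFun δ s ιZ)) (τ : X) (hτ : δ τ = r + s - n) (hξ : ∃ ξ η : X, Cyc.subschemeFun δ r ιY ξ ≠ 0 ∧ Cyc.subschemeFun δ s ιZ η ≠ 0 ∧ ξ ⤳ τ ∧ η ⤳ τ) (hmult : Cyc.subschemeFun δ (r + s - n) (pullback.fst ιY ιZ ≫ ιY) τ = 1) : IntMult.interProd δ n (Cyc.subschemeFun δ r ιY) (Cyc.subschemeFun δ s ιZ) τ = 1 ∧ (∀ y : Y, ιY y = τ → IsRegularLocalRing (Y.presheaf.stalk y)) ∧ (∀ z : Z, ιZ z = τ → IsRegularLocalRing (Z.presheaf.stalk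 z)) := by
  classical
  haveI : IsLocallyNoetherian X := hX.1
  letI : X.Over (Spec (CommRingCat.of K)) := ⟨f⟩
  haveI : Smooth (X ↘ Spec (CommRingCat.of K)) := inferInstanceAs (Smooth f)
  haveI : IsRegularLocalRing (X.presheaf.stalk τ) :=
    Groth.VarietyBC.isRegularLocalRing_of_mem_smoothLocus (k := K) (by
      rw [Scheme.Hom.smoothLocus_eq_top]; trivial)
  obtain ⟨ξ, η, hξ, hη, hξτ, hητ⟩ := hξ
  set A := X.presheaf.stalk τ with hA
  set V := IntMult.stalkIdeal ιY.ker τ with hV
  set W := IntMult.stalkIdeal ιZ.ker τ with hW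
  have hVp := le_genPrime ιY δ r hξτ hξ
  have hWq := le_genPrime ιZ δ s hητ hη
  have hVne : V ≠ ⊤ := ne_top_of_le_ne_top (Groth.Cycles.genPrime hξτ).isPrime.ne_top hVp
  have hWne : W ≠ ⊤ := ne_top_of_le_ne_top (Groth.Cycles.genPrime hητ).isPrime.ne_top hWq
  obtain ⟨hδr, -⟩ := exists_of_subschemeFun_ne_zero δ r ιY ξ hξ
  obtain ⟨hδs, -⟩ := exists_of_subschemeFun_ne_zero δ s ιZ η hη
  -- the length of the intersection
  have hsup : V ⊔ W = maximalIdeal A := by
    obtain ⟨y0, hy0⟩ : ∃ y, ιY y = τ := hξτ.mem_closed ιY.isClosedEmbedding.isClosed_range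
      (exists_of_subschemeFun_ne_zero δ r ιY ξ hξ).2
    obtain ⟨z0, hz0⟩ : ∃ z, ιZ z = τ := hητ.mem_closed ιZ.isClosedEmbedding.isClosed_range
      (exists_of_subschemeFun_ne_zero δ s ιZ η hη).2
    obtain ⟨w, hw, -⟩ := Scheme.Pullback.exists_preimage_pullback y0 z0 (hy0.trans hz0.symm)
    have hwτ : (pullback.fst ιY ιZ ≫ ιY) w = τ := by rw [Scheme.Hom.comp_apply, hw, hy0]
    rw [← hwτ, subschemeFun_eq δ _ (pullback.fst ιY ιZ ≫ ιY) w, hwτ, if_pos hτ,
      length_stalk (pullback.fst ιY ιZ ≫ ιY) w, hwτ] at hmult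
    have h1 : Module.length A (A ⧸ IntMult.stalkIdeal (pullback.fst ιY ιZ ≫ ιY).ker τ) = 1 := by
      have h2 : (Module.length A (A ⧸ IntMult.stalkIdeal (pullback.fst ιY ιZ ≫ ιY).ker τ)).toNat = 1 := by
        exact_mod_cast hmult
      exact (ENat.toNat_eq_iff one_ne_zero).1 h2
    haveI := Module.length_eq_one_iff.1 h1
    have hmax : (IntMult.stalkIdeal (pullback.fst ιY ιZ ≫ ιY).ker τ).IsMaximal :=
      Ideal.isMaximal_def.2 (isSimpleModule_iff_isCoatom.1 this)
    have hle := stalkIdeal_ker_inter_le ιY ιZ τ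
    have hne : V ⊔ W ≠ ⊤ := ne_top_of_le_ne_top (maximalIdeal.isMaximal A).ne_top
      (sup_le (le_maximalIdeal hVne) (le_maximalIdeal hWne))
    rw [← hmax.eq_of_le hne hle]
    exact eq_maximalIdeal hmax
  -- dimensions
  have hδh := Groth.Agent.S6470.delta_eq_height f δ hδ
  obtain ⟨h, hh, hhδ⟩ := hδh τ
  obtain ⟨N, hN, hNδ⟩ := hδh (genericPoint X)
  obtain ⟨a0, ha0⟩ : ∃ a : ℕ, (δ ξ - δ τ).toNat = a := ⟨_, rfl⟩
  obtain ⟨b0, hb0⟩ : ∃ b : ℕ, (δ η - δ τ).toNat = b := ⟨_, rfl⟩
  have ha_low : (a0 : WithBot ℕ∞) ≤ ringKrullDim (A ⧸ V) := by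
    rw [← ha0, ← dim_quotient_genPrime hX.2.2 hξτ]
    exact ringKrullDim_le_of_surjective (Ideal.Quotient.factor hVp) (Ideal.Quotient.factor_surjective hVp)
  have hb_low : (b0 : WithBot ℕ∞) ≤ ringKrullDim (A ⧸ W) := by
    rw [← hb0, ← dim_quotient_genPrime hX.2.2 hητ]
    exact ringKrullDim_le_of_surjective (Ideal.Quotient.factor hWq) (Ideal.Quotient.factor_surjective hWq)
  obtain ⟨d, hd, hdN⟩ : ∃ d : ℕ, ringKrullDim A = d ∧ d + h = N := by
    have h0 := Groth.Variety2.Dim.ringKrullDim_stalk_add_height f τ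
    rw [Groth.Variety2.Dim.dim_eq_height_genericPoint, hN, hh] at h0
    obtain ⟨d, hd⟩ : ∃ d : ℕ, ringKrullDim A = d :=
      ⟨_, ((IsRegularLocalRing.spanFinrank_maximalIdeal (R := A))).symm⟩
    rw [← hA, hd] at h0
    exact ⟨d, hd, by exact_mod_cast h0⟩
  have hexn : ∀ I : Ideal A, I ≠ ⊤ → ∃ a : ℕ, ringKrullDim (A ⧸ I) = a := fun I hI => by
    haveI : Nontrivial (A ⧸ I) := Ideal.Quotient.nontrivial_iff.2 hI
    have h1 : ringKrullDim (A ⧸ I) ≤ (d : WithBot ℕ∞) := hd ▸ ringKrullDim_quotient_le I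
    have h2 : (0 : WithBot ℕ∞) ≤ ringKrullDim (A ⧸ I) := ringKrullDim_nonneg_of_nontrivial
    generalize ringKrullDim (A ⧸ I) = z at h1 h2 ⊢
    cases z with
    | bot => simp at h2
    | coe z =>
      cases z with
      | top => exact absurd (WithBot.coe_le_coe.1 h1) (by simp)
      | coe z => exact ⟨z, rfl⟩
  obtain ⟨a, ha⟩ := hexn V hVne
  obtain ⟨b, hb⟩ := hexn W hWne
  rw [ha] at ha_low
  rw [hb] at hb_low
  have ha_low' : a0 ≤ a := by exact_mod_cast ha_low
  have hb_low' : b0 ≤ b := by exact_mod_cast hb_low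
  have hdab : d ≤ a0 + b0 := by omega
  obtain ⟨hVreg, hWreg⟩ := Groth.Calg6.EdimSum.isRegularLocalRing_quotient_of_sup V W hsup hd ha hb (by omega)
  have hsum := Groth.Calg6.EdimSum.dim_add_le_of_sup V W hsup hd ha hb
  have heqa : a = a0 := by omega
  have heqb : b = b0 := by omega
  have hUniq : ∀ {Y' : Scheme.{u}} (i : Y' ⟶ X) [IsClosedImmersion i] (c : ℤ) (a : ℕ)
      (_ : IsRegularLocalRing (A ⧸ IntMult.stalkIdeal i.ker τ))
      (_ : ringKrullDim (A ⧸ IntMult.stalkIdeal i.ker τ) = a) (_ : a = (c - δ τ).toNat) (ξ' : X) (h' : ξ' ⤳ τ),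
      Cyc.subschemeFun δ c i ξ' ≠ 0 → IntMult.stalkIdeal i.ker τ = (Groth.Cycles.genPrime h').asIdeal := by
    intro Y' i _ c a hreg hdim hac ξ' h' hne
    have hle := le_genPrime i δ c h' hne
    haveI := hreg
    haveI : IsDomain (A ⧸ IntMult.stalkIdeal i.ker τ) := Groth.Ega4Algebra1.isDomain_of_isRegularLocalRing _
    have hprime : (IntMult.stalkIdeal i.ker τ).IsPrime := (Ideal.Quotient.isDomain_iff_prime _).1 inferInstance
    let q : PrimeSpectrum A := ⟨_, hprime⟩
    have hq : X.fromSpecStalk τ q ⤳ τ := Scheme.range_fromSpecStalk.le ⟨q, rfl⟩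
    have hspec : X.fromSpecStalk τ q ⤳ ξ' := by
      have := ((PrimeSpectrum.le_iff_specializes q (Groth.Cycles.genPrime h')).1 hle).map (X.fromSpecStalk τ).continuous
      rwa [Groth.Cycles.fromSpecStalk_genPrime h'] at this
    have hdq := dim_quotient_genPrime hX.2.2 hq
    rw [Groth.Cycles.genPrime_fromSpecStalk q hq, hdim] at hdq
    have hdq' : a = (δ (X.fromSpecStalk τ q) - δ τ).toNat := by exact_mod_cast hdq
    obtain ⟨hc, -⟩ := exists_of_subschemeFun_ne_zero δ c i ξ' hne
    have h1 := Groth.Cycles.delta_le_of_specializes hX.2.2 h'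
    have h2 := Groth.Cycles.delta_le_of_specializes hX.2.2 hspec
    have heq : X.fromSpecStalk τ q = ξ' := Groth.Cycles.eq_of_specializes_of_delta_le hX.2.2 hspec (by omega)
    have : q = Groth.Cycles.genPrime h' :=
      (X.fromSpecStalk τ).isEmbedding.injective (heq.trans (Groth.Cycles.fromSpecStalk_genPrime h').symm)
    exact congrArg PrimeSpectrum.asIdeal this
  have haa : a = (r - δ τ).toNat := by rw [heqa, ← ha0, hδr]
  have hbb : b = (s - δ τ).toNat := by rw [heqb, ← hb0, hδs]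
  have hVeq := hUniq ιY r a hVreg ha haa ξ hξτ hξ
  have hWeq := hUniq ιZ s b hWreg hb hbb η hητ hη
  refine ⟨?_, fun y hy => ?_, fun z hz => ?_⟩
  · -- the coefficient
    rw [IntMult.interProd]
    rw [finsum_eq_single _ (⟨(ξ, η), hξτ, hητ, by rw [hδr, hδs, hτ]⟩ :
      {p : X × X // p.1 ⤳ τ ∧ p.2 ⤳ τ ∧ δ p.1 + δ p.2 - n = δ τ}) fun p hp => ?_]
    · rw [subschemeFun_eq_one ιY δ r hξτ hξ hVeq, subschemeFun_eq_one ιZ δ s hητ hη hWeq, one_mul, one_mul]
      rw [IntMult.mult, Groth.Agent.S6470.stalkIdeal_ptIdeal hξτ, Groth.Agent.S6470.stalkIdeal_ptIdeal hητ,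
        ← hVeq, ← hWeq]
      have hfl : IsFiniteLength A (A ⧸ (V ⊔ W)) := by
        rw [hsup]
        haveI : IsSimpleModule A (A ⧸ maximalIdeal A) :=
          isSimpleModule_iff_isCoatom.2 (Ideal.isMaximal_def.1 (maximalIdeal.isMaximal A))
        exact Module.length_ne_top_iff.1 (by rw [Module.length_eq_one]; simp)
      haveI : Nontrivial (A ⧸ V) := Ideal.Quotient.nontrivial_iff.2 hVne
      letI := HasDerivedCategory.standard.{u} (ModuleCat.{u} A)
      obtain ⟨e, -, he, hpd, -⟩ := Groth.FrobLCI.exists_depth_eq_add (M := A ⧸ V) d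
        (Groth.Agent.S0563.result _ d hd _)
      rw [Groth.FrobLCI.depth_eq_of_isRegularLocalRing _ hd,
        Groth.Calg6.TorCM.depth_quotient_of_CM _
          (@Groth.Calg4.isCohenMacaulayLocalRing_of_isRegularLocalRing _ _ hVreg) ha] at he
      have he' : d = e + a := by exact_mod_cast he
      rw [Groth.Calg6.TorCM.chi_quot e V W hpd
        (by rw [Groth.Calg6.TorCM.depth_quotient_of_CM _
              (@Groth.Calg4.isCohenMacaulayLocalRing_of_isRegularLocalRing _ _ hWreg) hb]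
            exact_mod_cast (show e ≤ b by omega)) hfl, hsup]
      haveI : IsSimpleModule A (A ⧸ maximalIdeal A) :=
        isSimpleModule_iff_isCoatom.2 (Ideal.isMaximal_def.1 (maximalIdeal.isMaximal A))
      rw [Module.length_eq_one]
      rfl
    · by_contra hne
      have h1 := left_ne_zero_of_mul (left_ne_zero_of_mul hne)
      have h2 := right_ne_zero_of_mul (left_ne_zero_of_mul hne)
      have e1 : p.1.1 = ξ := by
        have := (hUniq ιY r a hVreg ha haa p.1.1 p.2.1 h1).symm.trans hVeq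
        rw [← Groth.Cycles.fromSpecStalk_genPrime p.2.1, ← Groth.Cycles.fromSpecStalk_genPrime hξτ,
          PrimeSpectrum.ext this]
      have e2 : p.1.2 = η := by
        have := (hUniq ιZ s b hWreg hb hbb p.1.2 p.2.2.1 h2).symm.trans hWeq
        rw [← Groth.Cycles.fromSpecStalk_genPrime p.2.2.1, ← Groth.Cycles.fromSpecStalk_genPrime hητ,
          PrimeSpectrum.ext this]
      exact hp (Subtype.ext (Prod.ext e1 e2))
  · subst hy
    haveI := hVreg
    exact IsRegularLocalRing.of_ringEquiv ((Ideal.quotEquivOfEq (ker_stalkMap_eq ιY y).symm).trans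
      (RingHom.quotientKerEquivOfSurjective (f := (ιY.stalkMap y).hom) (ιY.stalkMap_surjective y)))
  · subst hz
    haveI := hWreg
    exact IsRegularLocalRing.of_ringEquiv ((Ideal.quotEquivOfEq (ker_stalkMap_eq ιZ z).symm).trans
      (RingHom.quotientKerEquivOfSurjective (f := (ιZ.stalkMap z).hom) (ιZ.stalkMap_surjective z)))

end Groth.Agent.S1954
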