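import Groth.Statements.S19541
import Groth.Agent.S9566
import Groth.Agent.RefRank.Gen
import Groth.Agent.Curves1.CurveMor.Smooth
import Groth.Agent.NeronArea.SmoothLocusNMP
import Groth.Agent.NeronArea.FiniteEtaleClosure
import Groth.Agent.Cycles.CurveDegree
-- import your own Groth.Agent.* helpers here

set_option autoImplicit false
universe u
open CategoryTheory CategoryTheory.Limits AlgebraicGeometry TopologicalSpace
open Curves

namespace Groth.Agent.S19541

/-- Pointwise criterion for a map of smooth curves to be étale: let k be an algebraically closed field,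
X and Y integral schemes each smooth, separated and quasi-compact over Spec k and of dimension one,
φ : X → Y a morphism over k and x a closed point of X. Then φ is étale at x (the restriction of φ to
some open neighbourhood of x is étale) if and only if the induced homomorphism of stalks O_{Y,φ(x)}
→ O_{X,x} carries the maximal ideal of the discrete valuation ring O_{Y,φ(x)} to an ideal generating
the maximal ideal of O_{X,x}; equivalently a uniformiser at φ(x) pulls back to a uniformiser at x.
(The published statement is for smooth curves, which are in addition geometrically connected;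
integrality is what is used. For a constant φ both sides fail.) -/
theorem result (k : Type u) [Field k] [IsAlgClosed k] {X Y : Scheme.{u}}
    (pX : X ⟶ Spec (CommRingCat.of k)) (pY : Y ⟶ Spec (CommRingCat.of k)) (φ : X ⟶ Y) (w : φ ≫ pY = pX)
    [IsIntegral X] [Smooth pX] [IsSeparated pX] [QuasiCompact pX] (hdX : topologicalKrullDim X = 1)
    [IsIntegral Y] [Smooth pY] [IsSeparated pY] [QuasiCompact pY] (hdY : topologicalKrullDim Y = 1)
    (x : X) (hx : IsClosed ({x} : Set X)) :
    (∃ U : X.Opens, x ∈ U ∧ Etale (U.ι ≫ φ)) ↔
      Ideal.map (φ.stalkMap x).hom (IsLocalRing.maximalIdeal (Y.presheaf.stalk (φ.base x))) =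
        IsLocalRing.maximalIdeal (X.presheaf.stalk x) := by
  open Groth in
  letI : X.Over (Spec (CommRingCat.of k)) := ⟨pX⟩
  letI : Y.Over (Spec (CommRingCat.of k)) := ⟨pY⟩
  haveI : IsLocallyNoetherian Y := LocallyOfFiniteType.isLocallyNoetherian pY
  haveI : IsLocallyNoetherian X := LocallyOfFiniteType.isLocallyNoetherian pX
  haveI : LocallyOfFiniteType (φ ≫ pY) := w.symm ▸ inferInstance
  haveI : LocallyOfFiniteType φ := locallyOfFiniteType_of_comp φ pY
  rw [Groth.Agent.S9566.result φ x]
  refine ⟨fun h => h.2.1, fun hm => ?_⟩
  have hS : Pi1.IsNormalScheme (Spec (CommRingCat.of k)) :=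
    NeronArea.isNormalScheme_Spec (NeronArea.isNormalRing_of_isIntegrallyClosed k)
  haveI : IsDiscreteValuationRing (X.presheaf.stalk x) :=
    RefRank.isDiscreteValuationRing_stalk (NeronArea.isNormalScheme_of_smooth pX hS)
      (Cycles.ringKrullDim_stalk_closed pX hdX x hx)
  have hyn : IsLocalRing.maximalIdeal (Y.presheaf.stalk (φ.base x)) ≠ ⊥ := fun h => by
    rw [h, Ideal.map_bot] at hm
    exact IsDiscreteValuationRing.not_a_field (X.presheaf.stalk x) hm.symm
  haveI : LocallyOfFiniteType (X ↘ Spec (CommRingCat.of k)) := inferInstanceAs (LocallyOfFiniteType pX)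
  haveI hfin := Curves1.CurveMor.finite_residueField_of_isClosed (k := k) hx
  letI := Curv2.resAlgebra k X x
  letI := Curv2.resAlgebra k Y (φ.base x)
  haveI : Module.Finite k (X.residueField x) := hfin
  have hcomp : ∀ c : k, algebraMap k (X.residueField x) c =
      (φ.residueFieldMap x).hom (algebraMap k (Y.residueField (φ.base x)) c) := by
    have h1 : Spec.map (CommRingCat.ofHom (algebraMap k (X.residueField x))) =
        Spec.map (CommRingCat.ofHom (algebraMap k (Y.residueField (φ.base x))) ≫ φ.residueFieldMap x) := by
      rw [Spec.map_comp, ← VarietyBC.fromSpecResidueField_str, ← VarietyBC.fromSpecResidueField_str,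
        ← Category.assoc, Scheme.Hom.SpecMap_residueFieldMap_fromSpecResidueField, Category.assoc]
      exact congrArg (X.fromSpecResidueField x ≫ ·) w.symm
    exact fun c => DFunLike.congr_fun (congrArg CommRingCat.Hom.hom (Spec.map_injective h1)) c
  have hsurj : Function.Surjective (φ.residueFieldMap x).hom := fun z => by
    obtain ⟨c, hc⟩ := (IsAlgClosed.algebraMap_bijective_of_isIntegral (k := k) (K := X.residueField x)).2 z
    exact ⟨_, (hcomp c).symm.trans hc⟩
  refine ⟨?_, hm, ?_⟩
  · have hy1 : ringKrullDim (Y.presheaf.stalk (φ.base x)) = 1 := by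
      refine le_antisymm (Curves1.CurveMor.ringKrullDim_stalk_le_one hdY.le _) ?_
      have hnf : ¬ IsField (Y.presheaf.stalk (φ.base x)) :=
        fun h => hyn (IsLocalRing.isField_iff_maximalIdeal_eq.1 h)
      by_contra hlt
      refine hnf ?_
      haveI : Ring.KrullDimLE 0 (Y.presheaf.stalk (φ.base x)) :=
        Ring.krullDimLE_iff.2 (Order.le_of_lt_succ (not_le.1 hlt))
      exact Ring.KrullDimLE.isField_of_isDomain
    haveI : IsDiscreteValuationRing (Y.presheaf.stalk (φ.base x)) :=
      RefRank.isDiscreteValuationRing_stalk (NeronArea.isNormalScheme_of_smooth pY hS) hy1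
    letI := (φ.stalkMap x).hom.toAlgebra
    have hinj : Function.Injective (φ.stalkMap x).hom := by
      rw [RingHom.injective_iff_ker_eq_bot]
      by_contra hne
      haveI : (RingHom.ker (φ.stalkMap x).hom).IsPrime := RingHom.ker_isPrime _
      have := (Ring.DimensionLEOne.maximalOfPrime hne inferInstance).eq_of_le
        (IsLocalRing.maximalIdeal.isMaximal _).ne_top (IsLocalRing.le_maximalIdeal (Ideal.IsPrime.ne_top inferInstance))
      rw [← this, (Ideal.map_eq_bot_iff_le_ker _).2 le_rfl] at hm
      exact IsDiscreteValuationRing.not_a_field (X.presheaf.stalk x) hm.symm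
    haveI : Module.IsTorsionFree (Y.presheaf.stalk (φ.base x)) (X.presheaf.stalk x) :=
      Module.isTorsionFree_iff_algebraMap_injective.2 hinj
    change Module.Flat (Y.presheaf.stalk (φ.base x)) (X.presheaf.stalk x)
    exact IsDedekindDomain.flat_iff_torsion_eq_bot.2 (Submodule.isTorsionFree_iff_torsion_eq_bot.1 inferInstance)
  · letI := (φ.residueFieldMap x).hom.toAlgebra
    haveI : Module.Finite (Y.residueField (φ.base x)) (X.residueField x) :=
      Module.Finite.of_surjective (Algebra.linearMap _ _) hsurj
    exact ⟨inferInstance, ⟨fun z => by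
      obtain ⟨a, rfl⟩ := hsurj z
      exact isSeparable_algebraMap a⟩⟩

end Groth.Agent.S19541
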