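import Groth.Statements.S19542
import Groth.Agent.AdicLinTop.IndCoh

set_option autoImplicit false
open CategoryTheory CategoryTheory.Limits
universe u
open FSch

namespace Groth.Agent.S19542

/-- Let 𝔛 be a locally Noetherian formal scheme (an adic system of thickenings with locally Noetherian
levels) and F an O_𝔛-module which is a small filtered colimit of coherent O_𝔛-modules. Then F has a
colimit presentation by a small filtered diagram of coherent O_𝔛-modules all of whose structure maps
to F are monomorphisms; that is, F is a directed union of coherent submodules. (The published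
statement says F is the direct limit of the directed set of all its coherent submodules; this row
asserts the existence of such a presentation by coherent submodules.) -/
theorem result (𝔛 : FSch.Sys.{u}) (h𝔛 : 𝔛.IsLocNoethFormal)
    (𝔉 : FSch.ModF 𝔛 h𝔛.1)
    (h𝔉 : (ObjectProperty.ind.{u} fun 𝔊 : FSch.ModF 𝔛 h𝔛.1 => FSch.IsCohF 𝔛 h𝔛.1 𝔊) 𝔉) :
    ∃ (J : Type u) (_ : SmallCategory J) (_ : IsFiltered J) (pres : ColimitPresentation J 𝔉),
      (∀ j : J, FSch.IsCohF 𝔛 h𝔛.1 (pres.diag.obj j)) ∧ ∀ j : J, Mono (pres.ι.app j) := by
  exact Groth.AdicLinTop.IndCoh.exists_pres_mono_of_ind h𝔛 h𝔉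

end Groth.Agent.S19542
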