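import Groth.Statements.S19544
import Mathlib
import Groth.Agent.S7113

set_option autoImplicit false
universe u
open CAlg

namespace Groth.Agent.S19544

theorem exists_split_free (R : Type u) [CommRing R] [IsNoetherianRing R] (d n : ℕ) (hdim : ringKrullDim R = d)
    (P : Type u) [AddCommGroup P] [Module R P] [Module.Finite R P] [Module.Projective R P]
    (hrk : ∀ p : PrimeSpectrum R, Module.rankAtStalk (R := R) P p = n) (k : ℕ) (hk : d + k ≤ n) :
    ∃ (s : (Fin k → R) →ₗ[R] P) (g : P →ₗ[R] (Fin k → R)), g ∘ₗ s = LinearMap.id := by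
  classical
  induction k with
  | zero => exact ⟨0, 0, Subsingleton.elim _ _⟩
  | succ k ih =>
    obtain ⟨s, g, hgs⟩ := ih (by omega)
    have hgs' : ∀ x, g (s x) = x := fun x => LinearMap.congr_fun hgs x
    let Q := LinearMap.ker g
    let π : P →ₗ[R] Q := (LinearMap.id - s ∘ₗ g).codRestrict _ fun x => by simp [Q, hgs']
    have hπ : ∀ q : Q, π (q : P) = q := fun q => Subtype.ext (by simp [π, LinearMap.mem_ker.1 q.2])
    have : Module.Projective R Q := Module.Projective.of_split Q.subtype π (LinearMap.ext hπ)
    have : Module.Finite R Q := Module.Finite.of_surjective π fun q => ⟨q, hπ q⟩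
    have e : P ≃ₗ[R] Q × (Fin k → R) := LinearEquiv.ofLinearMap (π.prod g) (Q.subtype.coprod s)
      (LinearMap.ext fun ⟨q, x⟩ => by
        refine Prod.ext (Subtype.ext ?_) ?_
        · simp [π, hgs', LinearMap.mem_ker.1 q.2]
        · simp [hgs', LinearMap.mem_ker.1 q.2])
      (LinearMap.ext fun x => by simp [π])
    have hQ : ∀ p : PrimeSpectrum R, Module.rankAtStalk (R := R) Q p = n - k := by
      intro p
      have : Nontrivial R := p.isPrime.ne_top.symm |> fun h => (subsingleton_or_nontrivial R).resolve_left
        fun _ => h (Subsingleton.elim _ _)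
      have h1 := congrFun (Module.rankAtStalk_eq_of_equiv e) p
      rw [hrk, Module.rankAtStalk_prod, Pi.add_apply, Module.rankAtStalk_eq_finrank_of_free (M := Fin k → R)] at h1
      simp at h1
      omega
    have : TopologicalSpace.NoetherianSpace (MaximalSpectrum R) :=
      (⟨rfl⟩ : Topology.IsInducing (MaximalSpectrum.toPrimeSpectrum (R := R))).noetherianSpace
    have htop : topologicalKrullDim (MaximalSpectrum R) ≤ d := by
      rw [← hdim, ← PrimeSpectrum.topologicalKrullDim_eq_ringKrullDim]
      exact (⟨rfl⟩ : Topology.IsInducing (MaximalSpectrum.toPrimeSpectrum (R := R))).topologicalKrullDim_le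
    have : Module.FinitePresentation R Q := Module.finitePresentation_of_finite R Q
    obtain ⟨t, φ, hφ⟩ := Groth.Agent.S7113.result R d htop Q fun m _ => by
      let Rm := Localization.AtPrime m
      let L := LocalizedModule m.primeCompl Q
      have : Module.Projective Rm L :=
        Module.projective_of_isLocalizedModule m.primeCompl (LocalizedModule.mkLinearMap m.primeCompl Q)
      have : Module.Free Rm L := Module.free_of_flat_of_isLocalRing
      have hr : d + 1 ≤ Module.finrank Rm L := by
        have : Module.finrank Rm L = n - k := hQ ⟨m, inferInstance⟩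
        omega
      let b := Module.finBasis Rm L
      refine ⟨Fintype.linearCombination Rm fun i => b (Fin.castLE hr i),
        LinearMap.funLeft Rm Rm (Fin.castLE hr) ∘ₗ b.equivFun.toLinearMap, ?_⟩
      refine (Pi.basisFun Rm (Fin (d + 1))).ext fun i => funext fun l => ?_
      simp [Fintype.linearCombination_apply_single, LinearMap.funLeft_apply, Finsupp.single_apply, Pi.single_apply,
        (Fin.castLE_injective hr).eq_iff, eq_comm]
    let first : P →ₗ[R] R := φ ∘ₗ π
    have h1 : ∀ x, first (s x) = 0 := fun x => by
      have : π (s x) = 0 := Subtype.ext (by simp [π, hgs'])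
      simp [first, this]
    have h2 : first (t : P) = 1 := by simp [first, hπ, hφ]
    refine ⟨LinearMap.coprod (LinearMap.toSpanSingleton R P t ∘ₗ LinearMap.proj 0) (s ∘ₗ LinearMap.funLeft R R Fin.succ) ∘ₗ
        LinearMap.prod LinearMap.id LinearMap.id,
      LinearMap.pi (Fin.cons first fun i => LinearMap.proj i ∘ₗ g), LinearMap.ext fun x => funext fun i => ?_⟩
    refine Fin.cases ?_ (fun j => ?_) i
    · simp [h1, h2]
    · simp [LinearMap.mem_ker.1 t.2, hgs', LinearMap.funLeft_apply]

/-- Let R be a Noetherian ring of Krull dimension d and P a finitely generated projective R-module of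
constant rank n at every prime of R, with n > d. Then P is isomorphic to P₀ ⊕ R^(n-d) for some
module P₀; concretely, P has complementary submodules P₀ and Q with Q free of rank n - d. -/
theorem result (R : Type u) [CommRing R]
    [IsNoetherianRing R] (d n : ℕ) (hdim : ringKrullDim R = d)
    (P : Type u) [AddCommGroup P] [Module R P] [Module.Finite R P] [Module.Projective R P]
    (hrk : ∀ p : PrimeSpectrum R, Module.rankAtStalk (R := R) P p = n) (hnd : d < n) :
    ∃ (P₀ Q : Submodule R P), IsCompl P₀ Q ∧ Nonempty (Q ≃ₗ[R] (Fin (n - d) → R)) := by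
  obtain ⟨s, g, hgs⟩ := exists_split_free R d n hdim P hrk (n - d) (by omega)
  have hinj : Function.Injective s :=
    Function.LeftInverse.injective (g := g) fun x => LinearMap.congr_fun hgs x
  refine ⟨LinearMap.ker g, LinearMap.range s, ⟨?_, ?_⟩, ⟨(LinearEquiv.ofInjective s hinj).symm⟩⟩
  · rw [disjoint_iff_inf_le]
    rintro _ ⟨hx, y, rfl⟩
    have h : y = 0 := (LinearMap.congr_fun hgs y).symm.trans hx
    simp [h]
  · rw [codisjoint_iff_le_sup]
    intro x _
    refine Submodule.mem_sup.2 ⟨x - s (g x), ?_, s (g x), ⟨_, rfl⟩, sub_add_cancel _ _⟩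
    rw [LinearMap.mem_ker, map_sub, show g (s (g x)) = g x from LinearMap.congr_fun hgs (g x), sub_self]

end Groth.Agent.S19544
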