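import Groth.Statements.S19546
import Groth.Agent.VectorBundles.TrdegBound
import Mathlib.LinearAlgebra.Basis.VectorSpace
import Mathlib.LinearAlgebra.TensorProduct.Basic
import Mathlib.FieldTheory.IsAlgClosed.Basic
import Mathlib.Analysis.Complex.Polynomial.Basic

set_option autoImplicit false
universe u v w
open scoped TensorProduct
open VBCurve

namespace Groth.Agent.S19546

open MvPolynomial Finset

theorem weightedHomogeneousComponent_mul_right {R σ M : Type*} [CommRing R]
    [AddCancelCommMonoid M] (w : σ → M) (a l : MvPolynomial σ R) (n m : M)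
    (hl : IsWeightedHomogeneous w l m) :
    weightedHomogeneousComponent w (n + m) (a * l) = weightedHomogeneousComponent w n a * l := by
  classical
  induction a using MvPolynomial.induction_on' with
  | monomial d c =>
    have hd := isWeightedHomogeneous_monomial w d c (m := Finsupp.weight w d) rfl
    rw [weightedHomogeneousComponent_of_mem (hd.mul hl), weightedHomogeneousComponent_of_mem hd]
    by_cases h : n = Finsupp.weight w d
    · subst h; simp
    · rw [if_neg h, if_neg (fun h' => h (add_right_cancel h')), zero_mul]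
  | add p q hp hq => simp [add_mul, hp, hq]

theorem valuation_le_of_weight {k σ₁ σ₂ L Γ : Type*} [CommRing k] [Field L] [Algebra k L]
    [Fintype σ₁] [Fintype σ₂] [Nonempty σ₁] [Nonempty σ₂]
    [LinearOrderedCommGroupWithZero Γ] (v : Valuation L Γ) (hk : ∀ c, v (algebraMap k L c) ≤ 1)
    (x : σ₁ → L) (y : σ₂ → L) (w : Γ) (hw : ∀ i j, v (x i * y j) ≤ w) (K : ℕ)
    (p : MvPolynomial (σ₁ ⊕ σ₂) k)
    (hp : IsWeightedHomogeneous (Sum.elim (fun _ => ((1 : ℕ), 0)) (fun _ => (0, 1))) p (K, K)) :
    v (aeval (Sum.elim x y) p) ≤ w ^ K := by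
  classical
  obtain ⟨i₀, -, hi₀⟩ := exists_max_image univ (fun i => v (x i)) univ_nonempty
  obtain ⟨j₀, -, hj₀⟩ := exists_max_image univ (fun j => v (y j)) univ_nonempty
  rw [p.as_sum, map_sum]
  refine Valuation.map_sum_le _ fun d hd => ?_
  have hdeg := hp (mem_support_iff.1 hd)
  rw [Finsupp.weight_apply, Finsupp.sum_fintype d _ (by simp),
    Fintype.sum_sum_type, Prod.ext_iff] at hdeg
  simp [Prod.fst_sum, Prod.snd_sum] at hdeg
  rw [aeval_monomial, map_mul, Finsupp.prod_fintype _ _ (fun _ => pow_zero _),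
    Fintype.prod_sum_type, map_mul, map_prod, map_prod]
  calc _ ≤ 1 * ((v (x i₀)) ^ K * (v (y j₀)) ^ K) := by
        refine mul_le_mul' (hk _) (mul_le_mul' ?_ ?_)
        · rw [← hdeg.1, ← prod_pow_eq_pow_sum]
          refine prod_le_prod' fun i _ => ?_
          simp only [Sum.elim_inl, map_pow]
          exact pow_le_pow_left' (hi₀ i (mem_univ i)) _
        · rw [← hdeg.2, ← prod_pow_eq_pow_sum]
          refine prod_le_prod' fun j _ => ?_
          simp only [Sum.elim_inr, map_pow]
          exact pow_le_pow_left' (hj₀ j (mem_univ j)) _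
    _ ≤ w ^ K := by
        rw [one_mul, ← mul_pow, ← map_mul]
        exact pow_le_pow_left' (hw i₀ j₀) _

/-- Let A, B, C be complex vector spaces, A and B finite-dimensional, and ν : A ⊗ B → C a linear map
injective on each factor separately (b ↦ ν(a ⊗ b) is injective for every a ≠ 0 and a ↦ ν(a ⊗ b) is
injective for every b ≠ 0). Then the image of ν has dimension at least dim A + dim B - 1. (For A = 0
the separate-injectivity hypothesis is empty and the inequality fails as soon as dim B ≥ 2, so A and
B are taken nonzero here, the case the inequality is about.) -/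
theorem result
    (A : Type u) (B : Type v) (C : Type w) [AddCommGroup A] [Module ℂ A] [AddCommGroup B] [Module ℂ B]
    [AddCommGroup C] [Module ℂ C] [FiniteDimensional ℂ A] [FiniteDimensional ℂ B]
    [Nontrivial A] [Nontrivial B] (ν : A ⊗[ℂ] B →ₗ[ℂ] C)
    (hA : ∀ a : A, a ≠ 0 → Function.Injective (fun b : B => ν (a ⊗ₜ[ℂ] b)))
    (hB : ∀ b : B, b ≠ 0 → Function.Injective (fun a : A => ν (a ⊗ₜ[ℂ] b))) :
    Module.finrank ℂ A + Module.finrank ℂ B ≤ Module.finrank ℂ (LinearMap.range ν) + 1 := by
  classical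
  set p := Module.finrank ℂ A with hp
  set q := Module.finrank ℂ B with hq
  have hp0 : 0 < p := Module.finrank_pos
  have hq0 : 0 < q := Module.finrank_pos
  let a : Module.Basis (Fin p) ℂ A := Module.finBasis ℂ A
  let b : Module.Basis (Fin q) ℂ B := Module.finBasis ℂ B
  have : Nonempty (Fin p) := ⟨⟨0, hp0⟩⟩
  have : Nonempty (Fin q) := ⟨⟨0, hq0⟩⟩
  have : Module.Finite ℂ ↥(LinearMap.range ν) := Module.Finite.range ν
  set r := Module.finrank ℂ ↥(LinearMap.range ν) with hr
  let c : Module.Basis (Fin r) ℂ ↥(LinearMap.range ν) := Module.finBasis ℂ _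
  let u : Fin p × Fin q → MvPolynomial (Fin p ⊕ Fin q) ℂ :=
    fun z => X (Sum.inl z.1) * X (Sum.inr z.2)
  let T : Fin p → Fin q → Fin r → ℂ :=
    fun i j m => c.repr (ν.rangeRestrict (a i ⊗ₜ b j)) m
  let l : Fin r → MvPolynomial (Fin p ⊕ Fin q) ℂ := fun m => ∑ i, ∑ j, MvPolynomial.C (T i j m) * u (i, j)
  let w : Fin p ⊕ Fin q → ℕ × ℕ := Sum.elim (fun _ => ((1 : ℕ), 0)) (fun _ => (0, 1))
  have hu : ∀ z, IsWeightedHomogeneous w (u z) (1, 1) := fun z =>
    (isWeightedHomogeneous_X ℂ w (Sum.inl z.1)).mul (isWeightedHomogeneous_X ℂ w (Sum.inr z.2))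
  have hl : ∀ m, IsWeightedHomogeneous w (l m) (1, 1) := fun m =>
    IsWeightedHomogeneous.sum _ _ _ fun i _ => IsWeightedHomogeneous.sum _ _ _ fun j _ =>
      (hu (i, j)).C_mul _
  have hrad : ∀ z, ∃ N : ℕ, u z ^ N ∈ Ideal.span (Set.range l) := by
    intro z
    have : u z ∈ (Ideal.span (Set.range l)).radical := by
      rw [← vanishingIdeal_zeroLocus_eq_radical (K := ℂ)]
      intro x hx
      set α := ∑ i, x (Sum.inl i) • a i with hα
      set β := ∑ j, x (Sum.inr j) • b j with hβ
      have hz : ν (α ⊗ₜ β) = 0 := by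
        have : ν.rangeRestrict (α ⊗ₜ β) = 0 := by
          apply c.repr.injective
          ext m
          have := hx (l m) (Ideal.subset_span ⟨m, rfl⟩)
          simp only [hα, hβ, TensorProduct.sum_tmul, TensorProduct.tmul_sum,
            TensorProduct.smul_tmul_smul, map_sum, map_smul, Finsupp.coe_finsetSum,
            Finset.sum_apply, Finsupp.smul_apply, smul_eq_mul, map_zero, Finsupp.coe_zero,
            Pi.zero_apply]
          simp [l, u, T] at this
          rw [Finset.sum_comm]
          refine Eq.trans (sum_congr rfl fun i _ => sum_congr rfl fun j _ => ?_) this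
          ring
        exact congrArg Subtype.val this
      by_cases ha : α = 0
      · have := Fintype.linearIndependent_iff.1 a.linearIndependent _ ha z.1
        simp [u, this]
      · have hb : β = 0 := hA α ha (by simpa using hz)
        have := Fintype.linearIndependent_iff.1 b.linearIndependent _ hb z.2
        simp [u, this]
    exact this
  choose n hn using hrad
  set N := 1 + ∑ z, n z with hN
  have hmem : ∀ z, u z ^ N ∈ Ideal.span (Set.range l) := fun z =>
    Ideal.pow_mem_of_pow_mem _ (hn z)
      (le_add_left (single_le_sum (f := n) (fun _ _ => Nat.zero_le _) (mem_univ z)))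
  choose e he using fun z => Ideal.mem_span_range_iff_exists_fun.1 (hmem z)
  let x : Fin p ⊕ Fin (q - 1) → MvPolynomial (Fin p ⊕ Fin q) ℂ :=
    Sum.elim (fun i => u (i, ⟨0, hq0⟩)) (fun j => u (⟨0, hp0⟩, ⟨j + 1, by omega⟩))
  have hx : AlgebraicIndependent ℂ x := by
    let R := MvPolynomial (Fin p ⊕ Fin (q - 1)) ℂ
    let ι : R →ₐ[ℂ] FractionRing R := IsScalarTower.toAlgHom ℂ R (FractionRing R)
    have hι : Function.Injective ι := IsFractionRing.injective R (FractionRing R)
    let θ : MvPolynomial (Fin p ⊕ Fin q) ℂ →ₐ[ℂ] FractionRing R :=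
      aeval (Sum.elim (fun i => ι (X (Sum.inl i))) (fun j =>
        if h : (j : ℕ) = 0 then 1 else
          ι (X (Sum.inr ⟨(j : ℕ) - 1, by omega⟩)) / ι (X (Sum.inl ⟨0, hp0⟩))))
    have hne : ι (X (Sum.inl ⟨0, hp0⟩)) ≠ 0 := by
      rw [Ne, map_eq_zero_iff _ hι]; exact X_ne_zero _
    have : θ ∘ x = ι ∘ X := by
      funext s
      rcases s with i | j
      · simp [θ, x, u]
      · simp [θ, x, u, mul_div_cancel₀ _ hne]
    refine AlgebraicIndependent.of_comp θ ?_
    rw [this]
    exact (algebraicIndependent_X (Fin p ⊕ Fin (q - 1)) ℂ).map' hι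
  have key := Groth.VectorBundles.card_le_of_pow_eq_sum (k := ℂ) u l N (N - 1) (by omega)
    (fun z m => weightedHomogeneousComponent w (N - 1, N - 1) (e z m)) ?_ ?_ x hx ?_
  · simp only [Fintype.card_sum, Fintype.card_fin] at key
    omega
  · intro z
    have h1 := congrArg (weightedHomogeneousComponent w (N, N)) (he z)
    rw [map_sum, (by simpa using (hu z).pow N : IsWeightedHomogeneous w (u z ^ N) (N, N))
      |>.weightedHomogeneousComponent_same] at h1
    rw [← h1]
    refine sum_congr rfl fun m _ => ?_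
    rw [mul_comm (l m), ← weightedHomogeneousComponent_mul_right w _ _ _ _ (hl m)]
    have : (N - 1, N - 1) + ((1, 1) : ℕ × ℕ) = (N, N) := by ext <;> simp <;> omega
    rw [this]
  · intro V hk w' _ hw z m
    let P := MvPolynomial (Fin p ⊕ Fin q) ℂ
    have heq : (IsScalarTower.toAlgHom ℂ P (FractionRing P)) =
        aeval (Sum.elim (fun i => algebraMap P (FractionRing P) (X (Sum.inl i)))
          (fun j => algebraMap P (FractionRing P) (X (Sum.inr j)))) := by
      apply MvPolynomial.algHom_ext
      rintro (i | j) <;> simp <;> rfl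
    change V.valuation ((IsScalarTower.toAlgHom ℂ P (FractionRing P)) _) ≤ _
    rw [heq]
    refine valuation_le_of_weight V.valuation hk _ _ w' (fun i j => ?_) _ _
      (weightedHomogeneousComponent_isWeightedHomogeneous _ _)
    rw [← map_mul]
    exact hw (i, j)
  · rintro (i | j) <;> exact Algebra.subset_adjoin ⟨_, rfl⟩

end Groth.Agent.S19546
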