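import Groth.Statements.S19547


set_option autoImplicit false
universe u
open TensorProduct
open Desc

namespace Groth.Agent.S19547

open TensorProduct

/-- Let A → A' be a faithfully flat homomorphism of commutative rings, M' an A'-module and φ : M' ⊗_A A'
→ A' ⊗_A M' an isomorphism of (A' ⊗_A A')-modules for the diagonal actions (x ⊗ y)(u ⊗ z) = xu ⊗ yz
and (x ⊗ y)(z ⊗ u) = xz ⊗ yu, satisfying the cocycle condition φ_13 = φ_23 ∘ φ_12 between the three
pullbacks to A' ⊗_A A' ⊗_A A'. Here linearity over A' ⊗_A A' is stated on the generators x ⊗ 1 and 1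
⊗ y, and the cocycle condition on pure tensors u ⊗ a ⊗ b: writing φ(u ⊗ a) = Σ a_i ⊗ u_i, it says Σ
a_i ⊗ φ(u_i ⊗ b) = Σ b_j ⊗ a ⊗ u'_j where φ(u ⊗ b) = Σ b_j ⊗ u'_j. Let M = {u ∈ M' : φ(u ⊗ 1) = 1 ⊗
u}, an A-submodule of M'. Then the canonical map λ : A' ⊗_A M → M', x ⊗ u ↦ xu, is an isomorphism. -/
theorem result (A A' : Type u) [CommRing A] [CommRing A']
    [Algebra A A'] [Module.FaithfullyFlat A A'] (M' : Type u) [AddCommGroup M'] [Module A M']
    [Module A' M'] [IsScalarTower A A' M']
    (φ : M' ⊗[A] A' →ₗ[A] A' ⊗[A] M') (hφ : Function.Bijective φ)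
    (h1 : ∀ (x : A') (u : M') (z : A'),
      φ ((x • u) ⊗ₜ[A] z) = LinearMap.rTensor M' (LinearMap.mulLeft A x) (φ (u ⊗ₜ[A] z)))
    (h2 : ∀ (y : A') (u : M') (z : A'),
      φ (u ⊗ₜ[A] (y * z)) = LinearMap.lTensor A' (Algebra.lsmul A A M' y) (φ (u ⊗ₜ[A] z)))
    (hcoc : ∀ (u : M') (a b : A'),
      LinearMap.lTensor A' φ (TensorProduct.assoc A A' M' A' (LinearMap.rTensor A' φ ((u ⊗ₜ[A] a) ⊗ₜ[A] b))) =
        LinearMap.lTensor A' (TensorProduct.mk A A' M' a) (φ (u ⊗ₜ[A] b)))
    (M : Submodule A M') (hM : ∀ u : M', u ∈ M ↔ φ (u ⊗ₜ[A] (1 : A')) = (1 : A') ⊗ₜ[A] u) :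
    Function.Bijective
      ((TensorProduct.lift (Algebra.lsmul A A M').toLinearMap) ∘ₗ (LinearMap.lTensor A' M.subtype)) := by
  let m : A' ⊗[A] M' →ₗ[A] M' := TensorProduct.lift (Algebra.lsmul A A M').toLinearMap
  let μ := m ∘ₗ LinearMap.lTensor A' M.subtype
  have mt : ∀ (x : A') (u : M'), m (x ⊗ₜ[A] u) = x • u := fun x u => rfl
  have m1 : ∀ (x : A') (t : A' ⊗[A] M'),
      m (LinearMap.rTensor M' (LinearMap.mulLeft A x) t) = x • m t := by
    intro x t
    induction t using TensorProduct.induction_on with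
    | zero => simp
    | tmul a u => simp [mt, mul_smul]
    | add a b ha hb => simp [smul_add, ha, hb]
  have m2 : ∀ (x : A') (t : A' ⊗[A] M'),
      m (LinearMap.lTensor A' (Algebra.lsmul A A M' x) t) = x • m t := by
    intro x t
    induction t using TensorProduct.induction_on with
    | zero => simp
    | tmul a u => simp [mt, smul_comm a x u]
    | add a b ha hb => simp [smul_add, ha, hb]
  let ψ : M' →ₗ[A] A' ⊗[A] M' := φ ∘ₗ (TensorProduct.mk A M' A').flip 1
  have hψ : ∀ u, ψ u = φ (u ⊗ₜ[A] (1 : A')) := fun u => rfl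
  let e : M' →ₗ[A] M' := m ∘ₗ ψ
  have he : ∀ u, e u = m (φ (u ⊗ₜ[A] (1 : A'))) := fun u => rfl
  have esmul : ∀ (x : A') (u : M'), e (x • u) = x • e u := fun x u => by
    rw [he, h1, m1, he]
  have mφ : ∀ (u : M') (z : A'), m (φ (u ⊗ₜ[A] z)) = e (z • u) := fun u z => by
    rw [esmul, ← mul_one z, h2, m2, he, mul_one]
  -- idempotency from the cocycle
  have hee : ∀ u, e (e u) = e u := by
    intro u
    have h := congrArg (fun t => m (LinearMap.lTensor A' m t)) (hcoc u 1 1)
    have L : ∀ t : A' ⊗[A] M', m (LinearMap.lTensor A' m (LinearMap.lTensor A' φ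
        (TensorProduct.assoc A A' M' A' (t ⊗ₜ[A] (1 : A'))))) = e (m t) := by
      intro t
      induction t using TensorProduct.induction_on with
      | zero => simp
      | tmul a v => simp [mt, ← he, esmul]
      | add a b ha hb => simp [add_tmul, ha, hb]
    have R : ∀ t : A' ⊗[A] M', m (LinearMap.lTensor A' m
        (LinearMap.lTensor A' (TensorProduct.mk A A' M' 1) t)) = m t := by
      intro t
      induction t using TensorProduct.induction_on with
      | zero => simp
      | tmul a v => simp [mt]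
      | add a b ha hb => simp [ha, hb]
    rw [LinearMap.rTensor_tmul, L, R] at h
    rw [he u]
    exact h
  have hid : ∀ u, e u = u := by
    intro u
    obtain ⟨w, hw⟩ := hφ.2 ((1 : A') ⊗ₜ[A] u)
    have : ∀ w, ∃ v, m (φ w) = e v := by
      intro w
      induction w using TensorProduct.induction_on with
      | zero => exact ⟨0, by simp⟩
      | tmul v z => exact ⟨z • v, mφ v z⟩
      | add a b ha hb =>
        obtain ⟨v, hv⟩ := ha
        obtain ⟨v', hv'⟩ := hb
        exact ⟨v + v', by simp [hv, hv']⟩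
    obtain ⟨v, hv⟩ := this w
    rw [hw, mt, one_smul] at hv
    rw [hv, hee]
  let ι := LinearMap.lTensor A' M.subtype
  have hι : Function.Injective ι :=
    Module.Flat.lTensor_preserves_injective_linearMap _ M.injective_subtype
  have hψμ : ∀ t : A' ⊗[A] M, ψ (μ t) = ι t := by
    intro t
    induction t using TensorProduct.induction_on with
    | zero => simp
    | tmul x v =>
      have hv := (hM v.1).mp v.2
      change φ ((x • v.1) ⊗ₜ[A] (1 : A')) = x ⊗ₜ[A] v.1
      rw [h1, hv, LinearMap.rTensor_tmul, LinearMap.mulLeft_apply, mul_one]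
    | add a b ha hb => simp [ha, hb]
  refine ⟨fun a b hab => hι ?_, fun u => ?_⟩
  · rw [← hψμ, ← hψμ]
    exact congrArg ψ hab
  · let δ : M' →ₗ[A] A' ⊗[A] M' := ψ - TensorProduct.mk A A' M' 1
    have hker : M = LinearMap.ker δ := by
      ext v
      rw [hM, LinearMap.mem_ker, LinearMap.sub_apply, sub_eq_zero]
      rfl
    have hex : Function.Exact M.subtype δ := by
      rw [LinearMap.exact_iff, Submodule.range_subtype, hker]
    have h0 : LinearMap.lTensor A' δ (ψ u) = 0 := by
      have h := hcoc u 1 1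
      have L : ∀ t : A' ⊗[A] M', LinearMap.lTensor A' φ
          (TensorProduct.assoc A A' M' A' (t ⊗ₜ[A] (1 : A'))) = LinearMap.lTensor A' ψ t := by
        intro t
        induction t using TensorProduct.induction_on with
        | zero => simp
        | tmul a v => simp [hψ]
        | add a b ha hb => simp [add_tmul, ha, hb]
      rw [LinearMap.rTensor_tmul, L] at h
      rw [LinearMap.lTensor_sub, LinearMap.sub_apply, sub_eq_zero]
      exact h
    obtain ⟨t, ht⟩ := (Module.Flat.lTensor_exact A' hex (ψ u)).mp h0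
    exact ⟨t, (congrArg m ht).trans (hid u)⟩

end Groth.Agent.S19547
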