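import Groth.Statements.S1955
import Groth.Agent.ChowK.Cycle

set_option autoImplicit false
universe u
open CategoryTheory AlgebraicGeometry
open Cyc

namespace Groth.Agent.S1955

/-- The assignment F ↦ [F]_k induces an isomorphism from K_0(Coh_{≤k}(X)/Coh_{≤k−1}(X)) onto the group
Z_k(X) of k-cycles: there is an additive map ψ to coefficient functions with ψ[F] = [F]_k for every
coherent F with support of δ-dimension ≤ k, which is injective with image exactly the coefficient
functions of k-cycles. K_0 of the Serre quotient is modelled as K_0(Coh_{≤k}) modulo the classes of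
Coh_{≤k−1} (Cyc.K0CohQuot). Here a pair (X, δ) with Cyc.IsSetup plays the role of a scheme locally
of finite type over a fixed base with a dimension function (X locally Noetherian with universally
catenary local rings, δ a dimension function). -/
theorem result (X : Scheme.{u}) (δ : X → ℤ) (hX : Cyc.IsSetup X δ) (k : ℤ) : ∃ ψ : Cyc.K0CohQuot δ k (k - 1) →+ (X → ℤ), (∀ F : X.Modules, Cyc.CohLe δ k F → ψ (Cyc.toK0CohQuot δ k (k - 1) F) = Cyc.sheafFun δ k F) ∧ Function.Injective ψ ∧ Set.range ψ = {a | ∃ α : AlgebraicCycle X ℤ, α ∈ Cyc.Zk X δ k ∧ ⇑α = a} := by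
  have := hX.1
  exact Groth.ChowK.exists_psi hX k

end Groth.Agent.S1955
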