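import Groth.Statements.S19552
import Groth.Agent.Calg8.Cancellation

set_option autoImplicit false
universe u
open CAlg

namespace Groth.Agent.S19552

/-- Let R be a Noetherian ring of Krull dimension d and P, Q finitely generated projective R-modules of
constant rank at every prime which have the same class in the Grothendieck group, i.e. are stably
isomorphic: P ⊕ R^m ≅ Q ⊕ R^m for some m. Then there is a positive integer N with P^N ≅ Q^N. (The
two exponents in the published display are read as the same integer N; for modules of positive rank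
an isomorphism between direct powers forces equal exponents.) -/
theorem result (R : Type u) [CommRing R] [IsNoetherianRing R]
    (d n : ℕ) (hdim : ringKrullDim R = d)
    (P Q : Type u) [AddCommGroup P] [Module R P] [Module.Finite R P] [Module.Projective R P]
    [AddCommGroup Q] [Module R Q] [Module.Finite R Q] [Module.Projective R Q]
    (hrk : ∀ p : PrimeSpectrum R, Module.rankAtStalk (R := R) P p = n)
    (hrk' : ∀ p : PrimeSpectrum R, Module.rankAtStalk (R := R) Q p = n)
    (m : ℕ) (e : (P × (Fin m → R)) ≃ₗ[R] (Q × (Fin m → R))) :
    ∃ N : ℕ, 1 ≤ N ∧ Nonempty ((Fin N → P) ≃ₗ[R] (Fin N → Q)) := by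
  classical
  rcases Nat.eq_zero_or_pos n with rfl | hn
  · have hP : Subsingleton P := (Module.rankAtStalk_eq_zero_iff_subsingleton (R := R)).1 (funext hrk)
    have hQ : Subsingleton Q := (Module.rankAtStalk_eq_zero_iff_subsingleton (R := R)).1 (funext hrk')
    exact ⟨1, le_rfl, ⟨LinearEquiv.ofLinearMap 0 0 (Subsingleton.elim _ _) (Subsingleton.elim _ _)⟩⟩
  refine ⟨d + 1, Nat.le_add_left 1 d, ?_⟩
  let pe : ∀ (X : Type u) [AddCommGroup X] [Module R X],
      (Fin (d + 1) → X × (Fin m → R)) ≃ₗ[R] ((Fin (d + 1) → X) × (Fin ((d + 1) * m) → R)) := fun X _ _ =>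
    { toFun := fun z => (fun i => (z i).1, fun a => (z (finProdFinEquiv.symm a).1).2 (finProdFinEquiv.symm a).2)
      invFun := fun z i => (z.1 i, fun j => z.2 (finProdFinEquiv (i, j)))
      map_add' := fun z w => rfl
      map_smul' := fun c z => rfl
      left_inv := fun z => by
        funext i
        refine Prod.ext rfl (funext fun j => ?_)
        simp only [Equiv.symm_apply_apply]
      right_inv := fun z => by
        refine Prod.ext rfl (funext fun a => ?_)
        show z.2 (finProdFinEquiv ((finProdFinEquiv.symm a).1, (finProdFinEquiv.symm a).2)) = z.2 a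
        rw [Prod.mk.eta, Equiv.apply_symm_apply] }
  have hproj : Module.Projective R (Fin (d + 1) → Q) :=
    Module.Projective.of_equiv (DFinsupp.linearEquivFunOnFintype (R := R) (M := fun _ : Fin (d + 1) => Q))
  exact Groth.Calg8.cancel hdim ((d + 1) * m) (P := Fin (d + 1) → Q) (fun p => by
      rw [Module.rankAtStalk_pi]
      simp only [finsum_eq_sum_of_fintype, hrk', Finset.sum_const, Finset.card_univ,
        Fintype.card_fin, smul_eq_mul]
      nlinarith)
    (((pe P).symm.trans (LinearEquiv.piCongrRight fun _ => e)).trans (pe Q))

end Groth.Agent.S19552
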