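import Groth.Statements.S19555
import Groth.Agent.EtFlcRep.Descend

set_option autoImplicit false
universe u
open CategoryTheory CategoryTheory.Limits AlgebraicGeometry Opposite
open CohProp

namespace Groth.Agent.S19555

set_option backward.isDefEq.respectTransparency false

/-- A trivialization over an etale scheme gives finitely many sections. -/
theorem exists_sections {S : Scheme.{u}} {F : EtDesc.Sh S} (U : S.Etale) (M : Type (u + 1))
    (φ : F.over U ≅ (CohProp.constSh S M).over U) :
    ∃ s : M → F.obj.obj (op U),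
      (∀ (T : S.Etale) (g : T ⟶ U) (a b : M),
        F.obj.map g.op (s a) = F.obj.map g.op (s b) → a ≠ b → IsEmpty T.left) ∧
      (∀ (T : S.Etale) (g : T ⟶ U) (σ : F.obj.obj (op T)) (t : T.left),
        ∃ (W : S.Etale) (k : W ⟶ T) (w : W.left) (a : M),
          k.left.base w = t ∧ F.obj.map k.op σ = F.obj.map (k ≫ g).op (s a)) := by
  let η₀ := toSheafify S.smallEtaleTopology ((Functor.const S.Etaleᵒᵖ).obj M)
  let s : M → F.obj.obj (op U) := fun m => φ.inv.hom.app (op (Over.mk (𝟙 U))) (η₀.app (op U) m)
  have hs : ∀ (T : S.Etale) (g : T ⟶ U) (m : M),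
      F.obj.map g.op (s m) = φ.inv.hom.app (op (Over.mk g)) (η₀.app (op T) m) := fun T g m => by
    let ψ : Over.mk g ⟶ Over.mk (𝟙 U) := Over.homMk g (Category.comp_id g)
    refine (NatTrans.naturality_apply φ.inv.hom ψ.op _).symm.trans ?_
    exact congrArg (φ.inv.hom.app (op (Over.mk g))) (NatTrans.naturality_apply η₀ g.op m).symm
  have hinj : ∀ Y, Function.Injective (φ.inv.hom.app Y) := fun Y =>
    ((((sheafToPresheaf _ _).mapIso φ.symm).app Y).toEquiv).injective
  refine ⟨s, fun T g a b e hab => ?_, fun T g σ t => ?_⟩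
  · rw [hs, hs] at e
    have hcov := Presheaf.equalizerSieve_mem S.smallEtaleTopology η₀ (X := op T) a b (hinj _ e)
    refine ⟨fun t => ?_⟩
    obtain ⟨W, k, w, hk, -⟩ := (EtaleBase.mem_topology_iff _).1 hcov t
    exact hab hk
  · let τ := φ.hom.hom.app (op (Over.mk g)) σ
    have hcov := Presheaf.imageSieve_mem S.smallEtaleTopology η₀ (U := op T) τ
    obtain ⟨W, k, w, ⟨a, ha⟩, hw⟩ := (EtaleBase.mem_topology_iff _).1 hcov t
    refine ⟨W, k, w, a, hw, ?_⟩
    rw [hs W (k ≫ g) a]
    let ψ : Over.mk (k ≫ g) ⟶ Over.mk g := Over.homMk k rfl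
    have h1 : φ.inv.hom.app (op (Over.mk g)) τ = σ :=
      ((((sheafToPresheaf _ _).mapIso φ).app (op (Over.mk g))).toEquiv).left_inv σ
    calc F.obj.map k.op σ = F.obj.map k.op (φ.inv.hom.app (op (Over.mk g)) τ) := by rw [h1]
      _ = φ.inv.hom.app (op (Over.mk (k ≫ g))) (((CohProp.constSh S M).over U).obj.map ψ.op τ) :=
        (NatTrans.naturality_apply φ.inv.hom ψ.op τ).symm
      _ = φ.inv.hom.app (op (Over.mk (k ≫ g))) (η₀.app (op W) a) :=
        congrArg (φ.inv.hom.app (op (Over.mk (k ≫ g)))) ha.symm

/-- For any scheme S, every finite locally constant sheaf of sets F on the small étale site of S is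
isomorphic to the sheaf h_U attached to some étale S-scheme U which is finite over S (existence of
an isomorphism F ≅ h_U is what is asserted). Together with the facts that h_U is finite locally
constant for U finite étale over S and that U ↦ h_U is fully faithful, this gives the published
equivalence between finite étale S-schemes and finite locally constant sheaves of sets on the small
étale site. -/
theorem result (S : Scheme.{u}) (F : EtDesc.Sh S)
    (hF : CohProp.IsFinLocConstSet F) :
    ∃ (U : S.Etale) (_ : IsFinite U.hom), Nonempty (F ≅ EtDesc.repSh U) := by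
  obtain ⟨ι, U, hU, h⟩ := hF
  choose M hM φ using h
  choose s hinj hsurj using fun i => exists_sections (U i) (M i) (φ i).some
  have := hM
  let e := fun i => (Finite.equivFin (M i)).symm
  let L : Groth.EtFlcRep.LocTriv F.obj :=
    { κ := ι, U := U, covers := hU, n := fun i => Nat.card (M i), s := fun i a => s i (e i a)
      inj := fun i T g a b h hab => hinj i T g _ _ h ((e i).injective.ne hab)
      surj := fun i T g σ t => by
        obtain ⟨W, k, w, a, hw, he⟩ := hsurj i T g σ t
        obtain ⟨a, rfl⟩ := (e i).surjective a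
        exact ⟨W, k, w, a, hw, he⟩ }
  obtain ⟨V, hV, ⟨r⟩⟩ := Groth.EtFlcRep.exists_finite_rep F.property L
  let r' : F ≅ (⟨Groth.EtFlcRep.rep V, Groth.EtFlcRep.isSheaf_rep V⟩ : EtDesc.Sh S) :=
    (fullyFaithfulSheafToPresheaf _ _).preimageIso r
  exact ⟨V, hV, ⟨r' ≪≫ sheafificationIso _⟩⟩

end Groth.Agent.S19555
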