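import Groth.Statements.S19557
import Groth.Agent.NeronArea.Mapping


set_option autoImplicit false
universe u
open CategoryTheory CategoryTheory.Limits MonoidalCategory CartesianMonoidalCategory MonObj GrpObj AlgebraicGeometry
open NeronHD

set_option backward.isDefEq.respectTransparency false
open CategoryTheory MonoidalCategory CartesianMonoidalCategory Groth.NeronArea

namespace Groth.Agent.S19557

/-- Let S be a locally Noetherian scheme over a field of characteristic 0 and S₀ ⊆ S a
scheme-theoretically dense open. Let G and H be smooth S-group schemes (group objects in the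
cartesian monoidal category of S-schemes), G having the Néron mapping property for S₀ ⊆ S (for every
smooth S-scheme Z, restriction to S₀ is a bijection from S-morphisms Z → G onto S₀-morphisms Z|S₀ →
G|S₀). Let f : H → G be an S-morphism whose restriction to S₀ is multiplicative, in the sense that
the restrictions to S₀ of μ_H ≫ f and of (f ⊗ f) ≫ μ_G : H ×_S H → G agree. Then f is a homomorphism
of group schemes over S. (So the extension to the Néron model of a homomorphism H|S₀ → G|S₀ is a
homomorphism. Case of schemes, with smooth test schemes, of a statement about group algebraic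
spaces.) -/
theorem result {k : Type u} [Field k] [CharZero k] {S : Scheme.{u}} (σ : S ⟶ Spec (CommRingCat.of k)) [IsLocallyNoetherian S] (S₀ : S.Opens) (hS₀ : CInt.IsSchematicallyDense S₀)
    (G H : Over S) [GrpObj G] [GrpObj H] [Smooth G.hom] [Smooth H.hom]
    (hG : ∀ Z : Over S, Smooth Z.hom → Function.Bijective (fun g : Z ⟶ G => (Over.pullback S₀.ι).map g))
    (f : H ⟶ G)
    (hf : (Over.pullback S₀.ι).map (μ[H] ≫ f) = (Over.pullback S₀.ι).map ((f ⊗ₘ f) ≫ μ[G])) :
    IsMonHom f := by
  have hmul : μ[H] ≫ f = (f ⊗ₘ f) ≫ μ[G] :=
    (hG _ (smooth_tensor H H)).1 hf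
  refine { one_hom := ?_, mul_hom := hmul }
  have h : (η[H] ≫ f) * (η[H] ≫ f) = η[H] ≫ f := by
    have := congrArg (fun t => lift η[H] η[H] ≫ t) hmul
    simp only [lift_map_assoc] at this
    refine this.symm.trans ?_
    rw [← Category.assoc]
    congr 1
    exact (show η[H] * η[H] = η[H] by rw [MonObj.one_eq_one]; simp)
  rw [show η[H] ≫ f = 1 from mul_eq_left.1 h, MonObj.one_eq_one]

end Groth.Agent.S19557
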