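import Groth.Statements.S1956
import Groth.Agent.ChowK.Line

set_option autoImplicit false
universe u
open CategoryTheory AlgebraicGeometry
open Cyc

namespace Groth.Agent.S1956

/-- For a k-cycle α = Σ n_Z [Z] on X rationally equivalent to zero, the classes of ⊕_{n_Z>0} O_Z^{n_Z}
and ⊕_{n_Z<0} O_Z^{−n_Z} agree in K_0(Coh_{≤k+1}(X)/Coh_{≤k−1}(X)); that is, Z_k(X) →
K_0(Coh_{≤k+1}/Coh_{≤k−1}) factors through CH_k(X). Here O_Z is the structure sheaf of the reduced
closure of the generic point pushed forward to X, and K_0 of the Serre quotient is modelled as in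
Cyc.K0CohQuot. Here a pair (X, δ) with Cyc.IsSetup plays the role of a scheme locally of finite type
over a fixed base with a dimension function (X locally Noetherian with universally catenary local
rings, δ a dimension function). -/
theorem result (X : Scheme.{u}) (δ : X → ℤ) (hX : Cyc.IsSetup X δ) (k : ℤ) (α : AlgebraicCycle X ℤ) (hα : α ∈ Cyc.Zk X δ k) (h0 : Cyc.RatEquivZero δ k α) : Cyc.toK0CohQuot δ (k + 1) (k - 1) (Cyc.cycleSheafPos ⇑α) = Cyc.toK0CohQuot δ (k + 1) (k - 1) (Cyc.cycleSheafNeg ⇑α) := by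
  have := hX.1
  obtain ⟨ι, ξ, f, hξ, hf, hlf, hsum⟩ := h0
  let O := Coh.structureModule X
  have hO : PicF.IsInvertible O := Groth.EulerDeg.isInvertible_structureModule X
  have hOc : Coh.IsCoh O := Groth.EulerDeg.isCoh_of_isInvertible hO
  have hs : ∀ i, ∃ s : Cyc.secFibre O (ξ i), s ≠ 0 := fun i =>
    let ⟨_, ht⟩ := Groth.Cycles.exists_basis hO (ξ i)
    let ⟨s, hs, _⟩ := Groth.Cycles.exists_coef_eq ht one_ne_zero
    ⟨s, hs⟩
  choose s hs using hs
  choose φ hφ hline using fun i => Groth.ChowK.exists_lineQuo_coord hO (ξ i) (hs i)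
  have hαk : ∀ y, α y ≠ 0 → δ y = k := fun y h => by
    by_contra hne
    exact h (hα y hne)
  have key := Groth.ChowK.toQuot_sigma_sub hX hξ hlf
    (fun i => Groth.ChowK.isCoh_lineQuo hOc (ξ i)) (fun i => Groth.ChowK.isCoh_lineQuo hOc (ξ i))
    (fun i => Groth.ChowK.support_lineQuo O (ξ i)) (fun i => Groth.ChowK.support_lineQuo O (ξ i))
    φ (fun i => (LinearMap.mulLeft (X.presheaf.stalk (ξ i)) (show Groth.ChowK.Kap (ξ i) from f i)).comp (φ i))
    hφ (fun i => (mulLeft_bijective₀ (show Groth.ChowK.Kap (ξ i) from f i) (hf i)).comp (hφ i))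
    (fun i x => Cyc.divFun δ (ξ i) (f i) x)
    (fun i x _ hn => dif_neg fun h => hn h.1)
    (fun i x hx h => by
      obtain ⟨t, ht⟩ := Groth.Cycles.exists_basis hO x
      have hl := hline i h ht
      refine ⟨_, _, hl, hl.scale (hf i), ?_⟩
      rw [Cyc.divFun, dif_pos ⟨h, by rw [hx, hξ i]⟩, mul_div_assoc, div_self hl.1, mul_one])
    hαk (Groth.ChowK.lfSupp_cycle α) (fun x _ => hsum x)
  rw [sub_self] at key
  exact sub_eq_zero.1 key.symm

end Groth.Agent.S1956
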