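import Groth.Statements.S19562
import Mathlib
-- import your own Groth.Agent.* helpers here

set_option autoImplicit false
universe u
open W4c1limliniiii

namespace Groth.Agent.S19562

theorem rnk {k M : Type*} [Field k] [AddCommGroup M] [Module k M] [FiniteDimensional k M] (T : M →ₗ[k] M) (Z : Submodule k M) :
    Module.finrank k (Submodule.map T Z) + Module.finrank k ↥(LinearMap.ker T ⊓ Z) = Module.finrank k Z := by
  rw [← (T.domRestrict Z).finrank_range_add_finrank_ker, LinearMap.range_domRestrict, LinearMap.ker_domRestrict]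
  congr 1
  rw [← Submodule.finrank_map_subtype_eq Z, Submodule.map_comap_subtype, inf_comm]

open TensorProduct in
/-- Let k be a field, 0 < r < d, and f_i, g_i (i < n) linear maps forward and backward between
consecutive ones of n + 1 copies of k^d, forming a linked Grassmannian over Spec k whose scalar s is
zero: every composite f_i ∘ g_i and g_i ∘ f_i vanishes, rank f_i + rank g_i ≥ d, and for consecutive
indices im f_i ∩ ker f_{i+1} = 0 and im g_{i+1} ∩ ker g_i = 0. Let (V_i) be a k-valued point of the
linked Grassmannian of rank-r sub-bundles (subspaces V_i of k ⊗ k^d with quotient of rank d − r,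
with f_i(V_i) ⊆ V_{i+1} and g_i(V_{i+1}) ⊆ V_i). Then (V_i) is exact, meaning ker g_i ∩ V_{i+1} ⊆
f_i(V_i) and ker f_i ∩ V_i ⊆ g_i(V_{i+1}) for all i, if and only if dim f_i(V_i) + dim g_i(V_{i+1})
= r for all i. (The published assertion is for points with values in an arbitrary scheme and also
says that f_i(V_i) and g_i(V_{i+1}) are then sub-bundles; this row is the case of a field, where the
last clause is empty.) -/
theorem result (k : Type u) [Field k]
    (d r n : ℕ) (hr : 0 < r) (hrd : r < d) (f g : Fin n → ((Fin d → k) →ₗ[k] (Fin d → k)))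
    (hI : ∀ i, (f i).comp (g i) = 0 ∧ (g i).comp (f i) = 0)
    (hII : ∀ i, d ≤ Module.finrank k (LinearMap.range (f i)) + Module.finrank k (LinearMap.range (g i)))
    (hIII : ∀ i j : Fin n, i.val + 1 = j.val →
      LinearMap.range (f i) ⊓ LinearMap.ker (f j) = ⊥ ∧
        LinearMap.range (g j) ⊓ LinearMap.ker (g i) = ⊥)
    (V : Fin (n + 1) → Module.Grassmannian k (k ⊗[k] (Fin d → k)) (d - r))
    (hV : V ∈ W4c1limliniiii.LGPoints k d r n f g k) :
    W4c1limliniiii.IsExact k d r n f g k V ↔
      ∀ i : Fin n,
        Module.finrank k ↥(Submodule.map ((f i).baseChange k) (V i.castSucc).toSubmodule) +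
          Module.finrank k ↥(Submodule.map ((g i).baseChange k) (V i.succ).toSubmodule) = r := by
  have dimV : ∀ i, Module.finrank k (V i).toSubmodule = r := by
    intro i
    have h1 := (V i).toSubmodule.finrank_quotient_add_finrank
    have h2 : Module.finrank k ((k ⊗[k] (Fin d → k)) ⧸ (V i).toSubmodule) = d - r := by
      have h3 := Module.rankAtStalk_eq_finrank_of_free (R := k) (M := (k ⊗[k] (Fin d → k)) ⧸ (V i).toSubmodule)
      exact (congrFun h3 (default : PrimeSpectrum k)).symm.trans ((V i).rankAtStalk_eq (default : PrimeSpectrum k))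
    rw [h2, Module.finrank_tensorProduct, Module.finrank_self, Module.finrank_fin_fun, one_mul] at h1
    omega
  refine forall_congr' fun i => ?_
  obtain ⟨hF, hG⟩ := hV i
  set F := (f i).baseChange k
  set G := (g i).baseChange k
  set U := (V i.castSucc).toSubmodule
  set W := (V i.succ).toSubmodule
  have hFG : F ∘ₗ G = 0 := by rw [← LinearMap.baseChange_comp, (hI i).1, LinearMap.baseChange_zero]
  have hGF : G ∘ₗ F = 0 := by rw [← LinearMap.baseChange_comp, (hI i).2, LinearMap.baseChange_zero]
  have a1 : Submodule.map F U ≤ LinearMap.ker G ⊓ W :=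
    le_inf ((LinearMap.map_le_range).trans (LinearMap.range_le_ker_iff.2 hGF)) hF
  have a2 : Submodule.map G W ≤ LinearMap.ker F ⊓ U :=
    le_inf ((LinearMap.map_le_range).trans (LinearMap.range_le_ker_iff.2 hFG)) hG
  have rn := fun T Z => rnk (k := k) (M := k ⊗[k] (Fin d → k)) T Z
  have b1 := rn G W
  have b2 := rn F U
  rw [dimV] at b1 b2
  have c1 := Submodule.finrank_mono a1
  have c2 := Submodule.finrank_mono a2
  constructor
  · rintro ⟨e1, e2⟩
    have := Submodule.finrank_mono e1
    omega
  · intro h
    exact ⟨(Submodule.eq_of_le_of_finrank_le a1 (by omega)).ge, (Submodule.eq_of_le_of_finrank_le a2 (by omega)).ge⟩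

end Groth.Agent.S19562
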