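import Groth.Statements.S19563
import Groth.Agent.NeronArea.DescentSpace
import Groth.Agent.NeronArea.Mapping


set_option autoImplicit false
universe u
open CategoryTheory CategoryTheory.Limits AlgebraicGeometry
open Neron

namespace Groth.Agent.S19563

/-- Let S be a locally Noetherian scheme, U ⊆ S a schematically dense open subscheme and A → U an
abelian scheme (a proper smooth U-group scheme with geometrically connected fibres). Let g : S′ → S
be smooth and surjective, U′ = g⁻¹(U), and let N′ be a smooth, separated, quasi-compact S′-scheme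
together with a U′-isomorphism N′ ×_{S′} U′ ≅ A ×_U U′ such that N′ has the Néron mapping property
for U′ ⊆ S′: for every smooth S′-scheme Y′, restriction to U′ is a bijection from S′-morphisms Y′ →
N′ onto U′-morphisms; so N′ is a Néron model of A ×_U U′ over S′. Then A has a Néron model over S as
an algebraic space: there is an algebraic space N over S (an fppf sheaf on S-schemes with
representable diagonal and an étale surjective chart from a scheme), smooth and separated over S,
with an isomorphism over h_U between N × h_U and h_A, such that for every smooth S-scheme T, sending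
a morphism h_T → N to the induced morphism h_T × h_U → h_A is a bijection onto the morphisms over
h_U. (The published statement has S and U arbitrary and N′ an algebraic space; this row takes S
locally Noetherian with U schematically dense, the setting in which schematic closures of sections
behave as the argument needs, and N′ a scheme; quasi-compactness of N over S is not asserted.) -/
theorem result
    {S S' : Scheme.{u}} [IsLocallyNoetherian S] (g : S' ⟶ S) [Smooth g] [Surjective g]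
    (U : S.Opens) (hU : CInt.IsSchematicallyDense U)
    (A : Scheme.{u}) (a : A ⟶ (U : Scheme.{u})) [IsProper a] [Smooth a] [GeometricallyConnected a]
    [GrpObj (Over.mk a : Over (U : Scheme.{u}))]
    (N' : Over S') [Smooth N'.hom] [IsSeparated N'.hom] [QuasiCompact N'.hom]
    (e' : pullback N'.hom (g ⁻¹ᵁ U).ι ≅ pullback a (g ∣_ U))
    (he' : e'.hom ≫ pullback.snd a (g ∣_ U) = pullback.snd N'.hom (g ⁻¹ᵁ U).ι)
    (hN' : ∀ Y' : Over S', Smooth Y'.hom →
      Function.Bijective (fun f : Y' ⟶ N' => (Over.pullback (g ⁻¹ᵁ U).ι).map f)) :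
    ∃ (N : AlgSp.Sp S) (_ : AlgSp.IsAlgSpace N) (π : N ⟶ (AlgSp.yon S).obj (Over.mk (𝟙 S)))
      (e : N ⨯ (AlgSp.yon S).obj (Over.mk U.ι : Over S) ≅ (AlgSp.yon S).obj (Over.mk (a ≫ U.ι) : Over S)),
      AlgSp.LocP @Smooth π ∧ AlgSp.IsSeparatedMor π ∧
      e.hom ≫ (AlgSp.yon S).map (Over.homMk (U := (Over.mk (a ≫ U.ι) : Over S)) (V := (Over.mk U.ι : Over S)) a rfl) = Limits.prod.snd ∧
      ∀ (T : Over S), Smooth T.hom →
        (∀ φ₁ φ₂ : (AlgSp.yon S).obj T ⟶ N,
          Limits.prod.map φ₁ (𝟙 ((AlgSp.yon S).obj (Over.mk U.ι : Over S))) ≫ e.hom =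
            Limits.prod.map φ₂ (𝟙 ((AlgSp.yon S).obj (Over.mk U.ι : Over S))) ≫ e.hom → φ₁ = φ₂) ∧
        (∀ γ : (AlgSp.yon S).obj T ⨯ (AlgSp.yon S).obj (Over.mk U.ι : Over S) ⟶ (AlgSp.yon S).obj (Over.mk (a ≫ U.ι) : Over S),
          γ ≫ (AlgSp.yon S).map (Over.homMk (U := (Over.mk (a ≫ U.ι) : Over S)) (V := (Over.mk U.ι : Over S)) a rfl) = Limits.prod.snd →
          ∃ φ : (AlgSp.yon S).obj T ⟶ N,
            Limits.prod.map φ (𝟙 ((AlgSp.yon S).obj (Over.mk U.ι : Over S))) ≫ e.hom = γ) := by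
  have hopen : Groth.NeronArea.HasOpenNMP (g ⁻¹ᵁ U) N'.hom := fun {Y} pY hpY => by
    have h := (Groth.NeronArea.bijective_map_iff (g ⁻¹ᵁ U).ι (Over.mk pY) N').1 (hN' (Over.mk pY) hpY)
    let e := pullbackRestrictIsoRestrict pY (g ⁻¹ᵁ U)
    have he : e.hom ≫ (pY ⁻¹ᵁ (g ⁻¹ᵁ U)).ι = pullback.fst pY (g ⁻¹ᵁ U).ι := pullbackRestrictIsoRestrict_hom_ι pY _
    refine ⟨fun x y hx hy hxy => ?_, fun v hv => ?_⟩
    · refine congrArg CommaMorphism.left (h.1 (a₁ := Over.homMk x hx) (a₂ := Over.homMk y hy) ?_)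
      ext : 1
      show pullback.fst pY (g ⁻¹ᵁ U).ι ≫ x = pullback.fst pY (g ⁻¹ᵁ U).ι ≫ y
      rw [← he, Category.assoc, Category.assoc, hxy]
    · obtain ⟨f, hf⟩ := h.2 (Over.homMk (e.hom ≫ v) (by
        show (e.hom ≫ v) ≫ N'.hom = pullback.fst pY (g ⁻¹ᵁ U).ι ≫ pY
        rw [Category.assoc, hv, ← he, Category.assoc]))
      refine ⟨f.left, Over.w f, ?_⟩
      rw [← cancel_epi e.hom, ← Category.assoc, he]
      exact congrArg CommaMorphism.left hf
  let i := pullbackRestrictIsoRestrict N'.hom (g ⁻¹ᵁ U)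
  let κ : ↑(N'.hom ⁻¹ᵁ (g ⁻¹ᵁ U)) ⟶ A := i.inv ≫ e'.hom ≫ pullback.fst a (g ∣_ U)
  have hsq : IsPullback κ (N'.hom ∣_ (g ⁻¹ᵁ U)) a (g ∣_ U) :=
    (IsPullback.of_hasPullback a (g ∣_ U)).of_iso (e'.symm ≪≫ i) (Iso.refl _) (Iso.refl _) (Iso.refl _)
      (by simp [κ]) (by
        simp only [Iso.refl_hom, Category.comp_id, Iso.trans_hom, Iso.symm_hom, Category.assoc, i,
          pullbackRestrictIsoRestrict_hom_morphismRestrict, Iso.eq_inv_comp]
        exact he') (by simp) (by simp)
  let D : Groth.NeronArea.Descent.Datum S S' N'.left A :=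
    ⟨g, U, N'.hom, a, κ, inferInstance, inferInstance, hsq, hopen⟩
  haveI : Surjective D.g := ‹Surjective g›
  haveI : IsSeparated D.q := ‹IsSeparated N'.hom›
  refine ⟨D.Q, D.isAlgSpace, D.π, D.e, D.smooth_π, D.isSeparatedMor_π, D.e_hom_ao, fun T hT => ?_⟩
  haveI := hT
  exact ⟨fun φ₁ φ₂ h => D.hom_ext φ₁ φ₂ ((cancel_mono D.e.hom).1 h), fun γ hγ => D.exists_hom γ hγ⟩

end Groth.Agent.S19563
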