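import Groth.Statements.S19564
import Groth.Agent.FrobLCI.W2Base
import Groth.Agent.FrobLCI.W2Quadric

set_option autoImplicit false
universe u
open scoped BigOperators
open FrobAlg

namespace Groth.Agent.S19564

/-- Let k be a perfect field of characteristic p ≥ 3 and n ≥ 3. Then the ordinary double point k[x_1,
y_1, …, x_n, y_n]/(x_1y_1 + ⋯ + x_ny_n), the affine cone over the split quadric in 2n ≥ 6 variables,
admits no flat lifting over W₂(k) compatible with Frobenius (no flat W₂(k)-algebra reducing to it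
that carries a ring endomorphism which is σ₂-semilinear and reduces to the p-th power map). (The
published statement is for any number N ≥ 5 of variables and allows arbitrary terms of degree ≥ 3 to
be added to a non-degenerate quadratic form; this row is the case of the split form in an even
number of variables with nothing added, the case in which the argument is a pure comparison of
homogeneous components.) -/
theorem result
    (p : ℕ) [Fact p.Prime] (hp : 3 ≤ p) (k : Type u) [Field k] [CharP k p] [PerfectRing k p]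
    (n : ℕ) (hn : 3 ≤ n) :
    ¬ FrobAlg.IsFLiftable p k
      (MvPolynomial (Fin n × Fin 2) k ⧸ Ideal.span
        {(∑ i : Fin n, MvPolynomial.X (i, (0 : Fin 2)) * MvPolynomial.X (i, (1 : Fin 2)) : MvPolynomial (Fin n × Fin 2) k)}) := by
  set Q : MvPolynomial (Fin n × Fin 2) k :=
    ∑ i : Fin n, MvPolynomial.X (i, (0 : Fin 2)) * MvPolynomial.X (i, (1 : Fin 2))
  set mkI := Ideal.Quotient.mk (Ideal.span {Q})
  rintro ⟨B', _, ι, π, Φ, hB⟩
  have h := Groth.FrobLCI.W2.isPFlat_of_isLift hB.toIsLift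
  let x : Fin n × Fin 2 → B' := fun v => h.sec (mkI (MvPolynomial.X v))
  have hx : ∀ v, π (x v) = mkI (MvPolynomial.X v) := fun v => h.pi_sec _
  have hf : ∀ v, ∃ f, Φ (x v) = x v ^ p + (p : B') * f := fun v => by
    obtain ⟨f, hf⟩ := h.ker (Φ (x v) - x v ^ p) (by rw [map_sub, map_pow, hB.red, sub_self])
    exact ⟨f, by rw [← hf]; ring⟩
  choose f hf using hf
  obtain ⟨c, hc⟩ := h.ker (∑ i, x (i, 0) * x (i, 1)) (by
    rw [map_sum]
    simp only [map_mul, hx]
    simp only [← map_mul, ← map_sum]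
    exact Ideal.Quotient.eq_zero_iff_mem.2 (Ideal.subset_span rfl))
  have hp2 : (∑ i, x (i, 0) * x (i, 1)) ^ p = 0 := by
    rw [hc, mul_pow, h.p_pow (Fact.out : p.Prime).two_le, zero_mul]
  rw [Groth.FrobLCI.Quadric.powDiv_spec] at hp2
  set G := MvPolynomial.eval₂Hom (Int.castRingHom B') (fun i => x (i, 0) * x (i, 1))
    (Groth.FrobLCI.Quadric.powDiv p n)
  obtain ⟨e, he⟩ := h.ker (Φ c - c ^ p) (by rw [map_sub, map_pow, hB.red, sub_self])
  have hterm : ∀ i, Φ (x (i, 0) * x (i, 1)) = (x (i, 0) * x (i, 1)) ^ p +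
      (p : B') * (x (i, 0) ^ p * f (i, 1) + x (i, 1) ^ p * f (i, 0)) := fun i => by
    rw [map_mul, hf, hf]
    linear_combination (f (i, 0) * f (i, 1)) * h.pp
  have hΦ := congrArg Φ hc
  rw [map_sum, Finset.sum_congr rfl fun i _ => hterm i, Finset.sum_add_distrib, ← Finset.mul_sum,
    map_mul, map_natCast] at hΦ
  have key : (p : B') *
      (∑ i, (x (i, 0) ^ p * f (i, 1) + x (i, 1) ^ p * f (i, 0)) - G - c ^ p) = 0 := by
    linear_combination hΦ - hp2 + (p : B') * he + e * h.pp
  rw [h.tors] at key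
  obtain ⟨C', hC'⟩ := Ideal.Quotient.mk_surjective (π c)
  choose F hF using fun v => Ideal.Quotient.mk_surjective (π (f v))
  set G' := MvPolynomial.eval₂Hom (Int.castRingHom (MvPolynomial (Fin n × Fin 2) k))
    (fun i => MvPolynomial.X (i, (0 : Fin 2)) * MvPolynomial.X (i, (1 : Fin 2)))
    (Groth.FrobLCI.Quadric.powDiv p n)
  have hG : mkI G' = π G := by
    rw [← RingHom.comp_apply, ← RingHom.comp_apply]
    exact RingHom.congr_fun (MvPolynomial.ringHom_ext (fun a => by simp) fun i => by simp [hx, mkI]) _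
  have hmem : ∑ i, (MvPolynomial.X (i, 0) ^ p * F (i, 1) + MvPolynomial.X (i, 1) ^ p * F (i, 0)) -
      G' - C' ^ p ∈ Ideal.span {Q} := by
    rw [← Ideal.Quotient.eq_zero_iff_mem]
    change mkI _ = 0
    rw [← key]
    simp [mkI, hx, hF, hC', ← hG]
  set big := Ideal.span (insert Q
    (Set.range fun v : Fin n × Fin 2 => (MvPolynomial.X v : MvPolynomial (Fin n × Fin 2) k) ^ p))
  have hX : ∀ v, (MvPolynomial.X v : MvPolynomial (Fin n × Fin 2) k) ^ p ∈ big := fun v =>
    Ideal.subset_span (Set.mem_insert_of_mem _ ⟨v, rfl⟩)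
  have hG' : G' + MvPolynomial.C (MvPolynomial.coeff 0 C' ^ p) ∈ big := by
    have h1 : _ ∈ big := Ideal.span_mono (Set.singleton_subset_iff.2 (Set.mem_insert _ _)) hmem
    have h2 : _ ∈ big :=
      Ideal.span_mono (Set.subset_insert _ _) (Groth.FrobLCI.Quadric.pow_sub_C_mem p n k C')
    have h3 : ∑ i, ((MvPolynomial.X (i, 0) : MvPolynomial (Fin n × Fin 2) k) ^ p * F (i, 1) +
        MvPolynomial.X (i, 1) ^ p * F (i, 0)) ∈ big :=
      Ideal.sum_mem _ fun i _ => add_mem (Ideal.mul_mem_right _ _ (hX _)) (Ideal.mul_mem_right _ _ (hX _))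
    convert sub_mem h3 (add_mem h1 h2) using 1
    ring
  have := Groth.FrobLCI.Quadric.fn_eq_zero_of_mem p n k hn hG'
  rw [map_add, Groth.FrobLCI.Quadric.fn_C, add_zero] at this
  exact Groth.FrobLCI.Quadric.fn_powDiv p n k hn this

end Groth.Agent.S19564
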