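import Groth.Statements.S19565
import Mathlib.LinearAlgebra.RootSystem.CartanMatrix

set_option autoImplicit false
universe u v w
open RootComb

namespace Groth.Agent.S19565

/-- Let Φ be a finite reduced crystallographic irreducible root system over a field of characteristic
zero, Δ a base of simple roots, I ⊆ Δ, and suppose the simple roots outside I are split into two
disjoint non-empty sets A and B. Then there are a simple root β ∈ A and a root δ such that δ is a
non-negative integer combination of the simple roots of I ∪ B (a positive root whose support avoids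
A), δ is not in the linear span of I (so δ is not a root of the Levi subsystem of I), and ⟨δ, β^∨⟩ <
0. (The published statement is made for the root system of a semisimple group; for a reducible
system such as A₁ × A₁ with I empty and A, B the two simple roots there is no such δ, and the
argument measures distances in a connected Dynkin diagram, so the root system is taken irreducible
here.) -/
theorem result
    {ι : Type u} [Finite ι] [DecidableEq ι] {k : Type v} [Field k] [CharZero k]
    {M : Type w} [AddCommGroup M] [Module k M] {N : Type w} [AddCommGroup N] [Module k N]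
    (P : RootPairing ι k M N) [P.IsCrystallographic] [P.IsReduced] [P.IsIrreducible] (b : P.Base)
    (I A B : Finset ι) (hcover : I ∪ A ∪ B = b.support) (hIA : Disjoint I A) (hIB : Disjoint I B)
    (hAB : Disjoint A B) (hA : A.Nonempty) (hB : B.Nonempty) :
    ∃ l ∈ A, ∃ j : ι, P.root j ∈ AddSubmonoid.closure (P.root '' ↑(I ∪ B)) ∧
      P.root j ∉ Submodule.span k (P.root '' ↑I) ∧ P.pairingIn ℤ j l < 0 := by
  classical
  have : Fintype ι := Fintype.ofFinite ι
  let NN : (ι → ℕ) → M := fun f => ∑ t ∈ b.support, f t • P.root t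
  have hsub : ∀ t ∈ I ∪ B, t ∈ b.support := fun t ht => by
    rw [← hcover]; simp only [Finset.mem_union] at ht ⊢; tauto
  have hAsub : ∀ t ∈ A, t ∈ b.support := fun t ht => by rw [← hcover]; simp [ht]
  have hpair : ∀ (j s : ι) (f : ι → ℕ), P.root j = NN f →
      P.pairingIn ℤ j s = ∑ t ∈ b.support, (f t : ℤ) * P.pairingIn ℤ t s := by
    intro j s f hf
    apply FaithfulSMul.algebraMap_injective ℤ k
    rw [RootPairing.algebraMap_pairingIn, map_sum, ← P.root_coroot'_eq_pairing, hf]
    simp [NN, map_sum, RootPairing.algebraMap_pairingIn, P.root_coroot'_eq_pairing]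
    exact Finset.sum_congr rfl fun t _ => by rw [← P.algebraMap_pairingIn ℤ t s]; simp
  let J : Set ι := {j | ∃ f : ι → ℕ, (∀ t ∈ A, f t = 0) ∧ (∃ t ∈ B, f t ≠ 0) ∧ P.root j = NN f}
  have hJ : J.Nonempty := by
    obtain ⟨β, hβ⟩ := hB
    refine ⟨β, Pi.single β 1, fun t ht => ?_, ⟨β, hβ, by simp⟩, ?_⟩
    · have : t ≠ β := fun h => Finset.disjoint_left.mp hAB ht (h ▸ hβ)
      simp [this]
    · have hβs : β ∈ b.support := hsub β (Finset.mem_union_right _ hβ)
      simp only [NN]
      rw [Finset.sum_eq_single_of_mem β hβs (by simp_all)]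
      simp
  obtain ⟨j, hjJ, hmax⟩ := Set.exists_max_image J b.height J.toFinite hJ
  obtain ⟨f, hfA, hfB, hf⟩ := hjJ
  have hht : b.height j = ∑ t ∈ b.support, (f t : ℤ) :=
    RootPairing.Base.height_eq_sum (f := fun t => (f t : ℤ)) (by simp [hf, NN])
  have hnneg : ∀ s ∈ I ∪ B, 0 ≤ P.pairingIn ℤ j s := by
    intro s hs
    by_contra! hneg
    have hne : P.root j ≠ -P.root s := by
      intro h
      have h0 : (0 : ℤ) ≤ b.height j := hht ▸ Finset.sum_nonneg (fun t _ => by positivity)
      letI := P.indexNeg
      have hh : j = -s := P.root.injective (by simpa using h)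
      rw [hh, b.height_reflectionPerm_self, RootPairing.Base.height_one_of_mem_support (hsub s hs)] at h0
      omega
    obtain ⟨l, hl⟩ := P.root_add_root_mem_of_pairingIn_neg hneg hne
    have hlJ : l ∈ J := by
      obtain ⟨t, ht, ht0⟩ := hfB
      refine ⟨f + Pi.single s 1, fun a ha => ?_, ⟨t, ht, by simp [ht0]⟩, ?_⟩
      · have hsA : a ≠ s := by
          rintro rfl
          rcases Finset.mem_union.mp hs with h | h
          · exact Finset.disjoint_left.mp hIA h ha
          · exact Finset.disjoint_left.mp hAB ha h
        simp [hfA a ha, hsA]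
      · rw [hl, hf]
        simp only [NN, Pi.add_apply, add_smul, Finset.sum_add_distrib]
        congr 1
        rw [Finset.sum_eq_single_of_mem s (hsub s hs) (by simp_all)]
        simp
    have := hmax l hlJ
    rw [b.height_add hl, RootPairing.Base.height_one_of_mem_support (hsub s hs)] at this
    omega
  have hclos : P.root j ∈ AddSubmonoid.closure (P.root '' ↑(I ∪ B)) := by
    rw [hf]
    refine AddSubmonoid.sum_mem _ fun t ht => ?_
    by_cases h : f t = 0
    · simp [h]
    · refine AddSubmonoid.nsmul_mem _ (AddSubmonoid.subset_closure (Set.mem_image_of_mem _ ?_)) _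
      rw [← hcover] at ht
      simp only [Finset.coe_union, Set.mem_union, Finset.mem_coe, Finset.mem_union] at ht ⊢
      rcases ht with (h1 | h1) | h1
      · exact Or.inl h1
      · exact absurd (hfA t h1) h
      · exact Or.inr h1
  have hspan : P.root j ∉ Submodule.span k (P.root '' ↑I) := by
    intro h
    obtain ⟨t₀, ht₀, hft₀⟩ := hfB
    obtain ⟨g, hg⟩ := (Submodule.mem_span_image_finset_iff_exists_fun k).mp h
    let g' : ι → k := fun t => if h : t ∈ I then g ⟨t, h⟩ else 0
    have hg' : ∑ t ∈ b.support, g' t • P.root t = P.root j := by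
      rw [← hg, ← Finset.sum_subset (s₁ := I) (fun t ht => hsub t (Finset.mem_union_left _ ht))
        (fun t _ ht => by simp [g', ht])]
      rw [← Finset.sum_attach]
      simp [g']
    have h0 : ∑ t ∈ b.support, ((f t : k) - g' t) • P.root t = 0 := by
      simp only [sub_smul, Finset.sum_sub_distrib, hg', hf, NN, Nat.cast_smul_eq_nsmul, sub_self]
    have := linearIndepOn_iff'.mp b.linearIndepOn_root b.support (fun t => (f t : k) - g' t)
      subset_rfl h0 t₀ (hsub t₀ (Finset.mem_union_right _ ht₀))
    have hI : t₀ ∉ I := fun h => Finset.disjoint_left.mp hIB h ht₀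
    simp [g', hI, hft₀] at this
  by_contra hcon
  push_neg at hcon
  have hdom : ∀ s : b.support, 0 ≤ P.pairingIn ℤ j s := by
    intro s
    have hs : (s : ι) ∈ I ∪ A ∪ B := by rw [hcover]; exact s.2
    simp only [Finset.mem_union] at hs
    rcases hs with (h | h) | h
    · exact hnneg _ (Finset.mem_union_left _ h)
    · exact hcon _ h j hclos hspan
    · exact hnneg _ (Finset.mem_union_right _ h)
  obtain ⟨t₀, ht₀, hft₀⟩ := hfB
  obtain ⟨a, ha⟩ := hA
  refine b.induction_on_cartanMatrix (fun t : b.support => f t ≠ 0)
    (i := ⟨t₀, hsub t₀ (Finset.mem_union_right _ ht₀)⟩) (j := ⟨a, hAsub a ha⟩) hft₀ ?_ (hfA a ha)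
  intro t s ht hst hs0
  apply hst
  rw [RootPairing.Base.cartanMatrix_apply_eq_zero_iff_symm]
  have hterm : ∀ t' ∈ b.support, (f t' : ℤ) * P.pairingIn ℤ t' s ≤ 0 := by
    intro t' ht'
    by_cases h : f t' = 0
    · simp [h]
    · refine mul_nonpos_of_nonneg_of_nonpos (by positivity) ?_
      exact b.pairingIn_le_zero_of_ne (fun e => h (by rw [e]; exact hs0)) ht' s.2
  have h0 := hdom s
  rw [hpair j s f hf] at h0
  have := (Finset.sum_eq_zero_iff_of_nonpos hterm).mp (le_antisymm (Finset.sum_nonpos hterm) h0) t t.2
  simpa [RootPairing.Base.cartanMatrix, RootPairing.Base.cartanMatrixIn_def, ht] using this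

end Groth.Agent.S19565
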