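import Groth.Statements.S19568
import Groth.Agent.HensPair.Universal

set_option autoImplicit false
universe u
open Hensel

namespace Groth.Agent.S19568

/-- Let A be a ring, I an ideal of A and B an A-algebra which is a henselization of the pair (A, I).
Consider étale A-algebras A' for which the induced map A/I → A'/IA' is bijective. Then: (a) every
such A' admits exactly one A-algebra map to B; (b) every element of B is the image of an element of
some such A' under an A-algebra map A' → B; (c) if an A-algebra map A' → B from such an algebra
sends an element s to 0, then there are another such algebra A'' and an A-algebra map A' → A''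
sending s to 0. (All algebras are taken in the universe of A. Together with the filteredness of the
category of these algebras, (a), (b) and (c) express that B, with the maps of (a), is their
colimit.) -/
theorem result (A : Type u) [CommRing A] (I : Ideal A)
    (B : Type u) [CommRing B] [Algebra A B] (hB : Hens2.IsPairHenselization A I B) :
    (∀ (A' : Type u) [CommRing A'] [Algebra A A'] [Algebra.Etale A A'],
        Function.Bijective (Ideal.quotientMap (I.map (algebraMap A A')) (algebraMap A A') Ideal.le_comap_map) →
          Nonempty (Unique (A' →ₐ[A] B))) ∧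
    (∀ x : B, ∃ (A' : Type u) (_ : CommRing A') (_ : Algebra A A') (_ : Algebra.Etale A A'),
        Function.Bijective (Ideal.quotientMap (I.map (algebraMap A A')) (algebraMap A A') Ideal.le_comap_map) ∧
          ∃ (φ : A' →ₐ[A] B) (s : A'), φ s = x) ∧
    (∀ (A' : Type u) [CommRing A'] [Algebra A A'] [Algebra.Etale A A'],
        Function.Bijective (Ideal.quotientMap (I.map (algebraMap A A')) (algebraMap A A') Ideal.le_comap_map) →
          ∀ (φ : A' →ₐ[A] B) (s : A'), φ s = 0 →
            ∃ (A'' : Type u) (_ : CommRing A'') (_ : Algebra A A'') (_ : Algebra.Etale A A''),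
              Function.Bijective (Ideal.quotientMap (I.map (algebraMap A A'')) (algebraMap A A'') Ideal.le_comap_map) ∧
                ∃ ψ : A' →ₐ[A] A'', ψ s = 0) := by
  obtain ⟨e⟩ := Groth.HensPair.nonempty_algEquiv_hz hB
  refine ⟨fun A' _ _ _ h => ?_, fun x => ?_, fun A' _ _ _ h φ s hs => ?_⟩
  · have := hB.1
    obtain ⟨g, -, hg⟩ := (Groth.HensPair.IsNbhd.of_bijective h).existsUnique_algHom
      (I.map (algebraMap A B)) le_rfl
    exact ⟨⟨⟨g⟩, fun g' => hg g' trivial⟩⟩
  · obtain ⟨A', _, _, h, φ, s, hs⟩ := Groth.HensPair.exists_isNbhd_of_mem hB x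
    exact ⟨A', inferInstance, inferInstance, h.etale, h.bijective, φ, s, hs⟩
  · have := hB.1
    have hn := Groth.HensPair.IsNbhd.of_bijective h
    obtain ⟨i, ⟨χ⟩⟩ := Groth.HensPair.Idx.exists_equiv hn
    have hφ : φ = (e.toAlgHom.comp (Groth.HensPair.of I i)).comp χ.symm.toAlgHom :=
      hn.algHom_unique (I.map (algebraMap A B)) le_rfl _ _
    have h0 : Groth.HensPair.of I i (χ.symm s) = Groth.HensPair.of I i 0 := by
      refine e.injective ?_
      rw [map_zero, map_zero, ← hs, hφ]
      rfl
    obtain ⟨j, f, hf⟩ := Groth.HensPair.of_eq_of h0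
    exact ⟨j.Obj, inferInstance, inferInstance, j.isNbhd.etale, j.isNbhd.bijective,
      f.comp χ.symm.toAlgHom, by simpa using hf⟩

end Groth.Agent.S19568
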