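import Groth.Statements.S1957
import Groth.Agent.EtaleAlgebra.HzPoly
-- import your own Groth.Agent.* helpers here

set_option autoImplicit false
universe u
open Polynomial
open EtAlg

namespace Groth.Agent.S1957

/-- Let A be a ring, I an ideal and f a monic polynomial over A. Suppose the image of f in (A/I)[x]
factors as g h where the leading coefficient of g is a unit and g, h generate the unit ideal. Then
there is an etale A-algebra A' such that A/I -> A'/IA' is bijective, together with a factorization f
= g' h' in A'[x] whose reduction modulo IA' is the image of the given one. -/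
theorem result (A : Type u) [CommRing A] (I : Ideal A) (f : A[X]) (hf : f.Monic)
    (g h : (A ⧸ I)[X]) (hgh : f.map (Ideal.Quotient.mk I) = g * h) (hlead : IsUnit g.leadingCoeff)
    (hcop : IsCoprime g h) :
    ∃ (A' : Type u) (_ : CommRing A') (_ : Algebra A A') (_ : Algebra.Etale A A'),
      Function.Bijective (Ideal.quotientMap (I.map (algebraMap A A')) (algebraMap A A') Ideal.le_comap_map) ∧
      ∃ g' h' : A'[X], f.map (algebraMap A A') = g' * h' ∧
        g'.map (Ideal.Quotient.mk (I.map (algebraMap A A'))) =
          g.map (Ideal.quotientMap (I.map (algebraMap A A')) (algebraMap A A') Ideal.le_comap_map) ∧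
        h'.map (Ideal.Quotient.mk (I.map (algebraMap A A'))) =
          h.map (Ideal.quotientMap (I.map (algebraMap A A')) (algebraMap A A') Ideal.le_comap_map) := by
  classical
  open Groth.HensPair Groth.EtaleAlgebra in
  obtain ⟨G, H, hGH, hG, hH⟩ := Groth.EtaleAlgebra.hz_exists_factor_lift f hf g h hgh hlead hcop
  obtain ⟨i, y, hy⟩ := Groth.EtaleAlgebra.hz_exists_poly (fun b : Bool => if b then G else H)
  let P := f.map (algebraMap A i.Obj)
  let Q := y true * y false
  let S : Finset (i.Obj × i.Obj) := (P.support ∪ Q.support).image fun n => (P.coeff n, Q.coeff n)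
  have hT : (y true).map (of I i).toRingHom = G := by simpa using hy true
  have hF : (y false).map (of I i).toRingHom = H := by simpa using hy false
  have hPQ : P.map (of I i).toRingHom = Q.map (of I i).toRingHom := by
    rw [Polynomial.map_mul, hT, hF, ← hGH, Polynomial.map_map]
    exact congrArg (fun φ => f.map φ) (AlgHom.comp_algebraMap _)
  obtain ⟨k, φ, hφ⟩ := Groth.EtaleAlgebra.hz_exists_stage (I := I) S fun p hp => by
    obtain ⟨n, -, rfl⟩ := Finset.mem_image.1 hp
    simpa [coeff_map] using congrArg (fun z => z.coeff n) hPQ
  have hPQ' : P.map φ.toRingHom = Q.map φ.toRingHom := by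
    ext n
    rw [coeff_map (p := P), coeff_map (p := Q)]
    by_cases hn : n ∈ P.support ∪ Q.support
    · exact hφ _ (Finset.mem_image.2 ⟨n, hn, rfl⟩)
    · simp only [Finset.mem_union, mem_support_iff, not_or, not_not] at hn
      rw [hn.1, hn.2]
  have hcoe : (of I k).toRingHom.comp φ.toRingHom = (of I i).toRingHom := by
    rw [← of_comp (I := I) φ]; rfl
  refine ⟨k.Obj, inferInstance, inferInstance, k.isNbhd.etale, k.isNbhd.bijective,
    (y true).map φ.toRingHom, (y false).map φ.toRingHom, ?_, ?_, ?_⟩
  · rw [← Polynomial.map_mul, ← hPQ', Polynomial.map_map]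
    exact congrArg (fun ψ => f.map ψ) (AlgHom.comp_algebraMap _).symm
  · ext n
    simp only [coeff_map]
    refine Groth.EtaleAlgebra.hz_mk_stage ?_
    have := congrArg (fun z => z.coeff n) hG
    rw [← hT, ← hcoe] at this
    simpa [coeff_map] using this
  · ext n
    simp only [coeff_map]
    refine Groth.EtaleAlgebra.hz_mk_stage ?_
    have := congrArg (fun z => z.coeff n) hH
    rw [← hF, ← hcoe] at this
    simpa [coeff_map] using this

end Groth.Agent.S1957
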