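import Groth.Statements.S19571
import Groth.Agent.EtaPt16.Components
-- import your own Groth.Agent.* helpers here

set_option autoImplicit false
universe u
open CategoryTheory AlgebraicGeometry
open EtaPt

namespace Groth.Agent.S19571

/-- Let f : Y → X be a morphism of schemes which is flat, surjective and locally of finite presentation.
Then every affine open U of X is covered by affine opens V each of which is the image f(W) of some
affine open W of Y; stated pointwise: for every x ∈ U there are an affine open V of X with x ∈ V ≤ U
and an affine open W of Y with f(W) = V as sets. (For such V and W the induced ring map Γ(V) → Γ(W)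
is then faithfully flat.) -/
theorem result
    {X Y : Scheme.{u}} (f : Y ⟶ X) [Flat f] [Surjective f] [LocallyOfFinitePresentation f]
    (U : X.affineOpens) (x : X) (hx : x ∈ (U : X.Opens)) :
    ∃ V : X.affineOpens, x ∈ (V : X.Opens) ∧ (V : X.Opens) ≤ (U : X.Opens) ∧
      ∃ W : Y.affineOpens, f.base '' ((W : Y.Opens) : Set Y) = ((V : X.Opens) : Set X) := by
  exact Groth.EtaPt16.exists_affineOpen_image_eq f U x hx

end Groth.Agent.S19571
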