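import Groth.Statements.S19573
import Mathlib

set_option autoImplicit false
universe u
open LocInt

namespace Groth.Agent.S19573

/-- The first sentence of the lemma together with the description of the closed subscheme Z given in its
proof, in the local model. Let R be a commutative ring, n ≥ 1, a ∈ R^n, and F = R^n / R·a the
cokernel of R → R^n, 1 ↦ a (the zeroth homology of the two-term complex R → R^n). Then the
annihilator ideal of the top exterior power ⋀^n F is the ideal generated by the coordinates a_1, …,
a_n of a, and at every prime p of R off the closed set V(a_1, …, a_n) the module F is free of rank n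
− 1 after localization at p. (The published statement is for a complex on a scheme which is locally
quasi-isomorphic to such a two-term complex L → E with L invertible and E locally free of rank n,
and says that H^0 restricted to the complement of the closed subscheme cut out by the annihilator of
its n-th exterior power is locally free of rank n − 1; this row is the local model.) -/
theorem result (R : Type u) [CommRing R]
    (n : ℕ) (hn : 1 ≤ n) (a : Fin n → R) :
    (⋀[R]^n ((Fin n → R) ⧸ Submodule.span R {a})).annihilator = Ideal.span (Set.range a) ∧
    ∀ p : PrimeSpectrum R, ¬ Ideal.span (Set.range a) ≤ p.asIdeal →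
      p ∈ Module.freeLocus R ((Fin n → R) ⧸ Submodule.span R {a}) ∧
      Module.rankAtStalk ((Fin n → R) ⧸ Submodule.span R {a}) p = n - 1 := by
  classical
  set N := Submodule.span R {a} with hN
  constructor
  · let gen : Fin n → (Fin n → R) ⧸ N := fun i => N.mkQ (Pi.single i 1)
    have hgen : Submodule.span R (Set.range gen) = ⊤ := by
      have : gen = N.mkQ ∘ ⇑(Pi.basisFun R (Fin n)) := by funext i; simp [gen]
      rw [this, Set.range_comp, ← Submodule.map_span, Module.Basis.span_eq, Submodule.map_top,
        Submodule.range_mkQ]
    let g : ⋀[R]^n ((Fin n → R) ⧸ N) := exteriorPower.ιMulti R n gen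
    refine le_antisymm (fun r hr => ?_) (Ideal.span_le.2 ?_)
    · let I := Ideal.span (Set.range a)
      let q : ((Fin n → R) ⧸ N) →ₗ[R] (Fin n → R ⧸ I) := N.liftQ
        ((Algebra.linearMap R (R ⧸ I)).compLeft (Fin n)) (by
          rw [hN, Submodule.span_le, Set.singleton_subset_iff]
          funext i
          exact Ideal.Quotient.eq_zero_iff_mem.2 (Ideal.subset_span ⟨i, rfl⟩))
      let D : ((Fin n → R) ⧸ N) [⋀^Fin n]→ₗ[R] (R ⧸ I) :=
        { ((Matrix.detRowAlternating : (Fin n → R ⧸ I) [⋀^Fin n]→ₗ[R ⧸ I] (R ⧸ I)).toMultilinearMap.restrictScalars R).compLinearMap (fun _ => q) with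
          map_eq_zero_of_eq' := fun v i j h hij =>
            (Matrix.detRowAlternating : (Fin n → R ⧸ I) [⋀^Fin n]→ₗ[R ⧸ I] (R ⧸ I)).map_eq_zero_of_eq
              (fun k => q (v k)) (congrArg q h) hij }
      have hg : exteriorPower.alternatingMapLinearEquiv D g = 1 := by
        rw [exteriorPower.alternatingMapLinearEquiv_apply_ιMulti]
        change Matrix.det (fun k => q (gen k)) = 1
        have : (fun k => q (gen k)) = (1 : Matrix (Fin n) (Fin n) (R ⧸ I)) := by
          funext k l
          change algebraMap R (R ⧸ I) ((Pi.single k 1 : Fin n → R) l) = _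
          by_cases hkl : k = l
          · subst hkl; simp
          · simp [hkl, Ne.symm hkl]
        rw [this, Matrix.det_one]
      have h0 := congrArg (exteriorPower.alternatingMapLinearEquiv D) (Module.mem_annihilator.1 hr g)
      rw [map_smul, map_zero, hg, Algebra.smul_def, mul_one] at h0
      exact Ideal.Quotient.eq_zero_iff_mem.1 h0
    · rintro _ ⟨i, rfl⟩
      have hg0 : a i • g = 0 := by
        have hsum : ∑ j, a j • gen j = 0 := by
          simp only [gen, ← map_smul, ← map_sum]
          rw [← pi_eq_sum_univ' a]
          exact (Submodule.Quotient.mk_eq_zero _).2 (Submodule.mem_span_singleton_self a)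
        calc a i • g = ∑ j, a j • exteriorPower.ιMulti R n (Function.update gen i (gen j)) := by
              rw [Finset.sum_eq_single i (fun j _ hji => by
                rw [(exteriorPower.ιMulti R n).map_update_self _ hji.symm, smul_zero]) (by simp)]
              rw [Function.update_eq_self]
          _ = exteriorPower.ιMulti R n (Function.update gen i (∑ j, a j • gen j)) := by
              rw [(exteriorPower.ιMulti R n).map_update_sum]
              simp [AlternatingMap.map_update_smul]
          _ = 0 := by rw [hsum]; exact (exteriorPower.ιMulti R n).map_update_zero _ _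
      refine Module.mem_annihilator.2 fun x => ?_
      have hx : x ∈ Submodule.span R
          (Set.range (exteriorPower.ιMulti_family R n gen)) := by
        rw [exteriorPower.ιMulti_family_span_of_span R hgen]; trivial
      induction hx using Submodule.span_induction with
      | mem y hy =>
        obtain ⟨s, rfl⟩ := hy
        have hs : exteriorPower.ιMulti_family R n gen s = g := by
          have : ∀ k : Fin n, (Set.powersetCard.ofFinEmbEquiv.symm s) k = k := fun k => by
            have := (Set.powersetCard.ofFinEmbEquiv.symm s).strictMono
            exact congrFun ((StrictMono.range_inj this strictMono_id).1 (by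
              rw [Set.range_id]
              exact Set.range_eq_univ.2 (Finite.injective_iff_surjective.1 this.injective))) k
          simp only [exteriorPower.ιMulti_family, g]
          congr 1
          funext k
          simp [this]
        rw [hs, hg0]
      | zero => rw [smul_zero]
      | add y z _ _ hy hz => rw [smul_add, hy, hz, add_zero]
      | smul c y _ hy => rw [smul_comm, hy, smul_zero]
  · intro p hp
    obtain ⟨i, hi⟩ : ∃ i, a i ∉ p.asIdeal := by
      by_contra hc
      push Not at hc
      exact hp (Ideal.span_le.2 (by rintro _ ⟨i, rfl⟩; exact hc i))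
    obtain ⟨m, rfl⟩ : ∃ m, n = m + 1 := ⟨n - 1, by omega⟩
    let φ₀ : (Fin (m+1) → R) →ₗ[R] (Fin m → R) :=
      LinearMap.pi fun j => a i • LinearMap.proj (i.succAbove j) - a (i.succAbove j) • LinearMap.proj i
    let φ : ((Fin (m+1) → R) ⧸ N) →ₗ[R] (Fin m → R) := N.liftQ φ₀ (by
      rw [hN, Submodule.span_le, Set.singleton_subset_iff]
      funext j
      simp [φ₀, mul_comm])
    let ins : (Fin m → R) →ₗ[R] (Fin (m+1) → R) :=
      { toFun := fun w => i.insertNth 0 w
        map_add' := fun v w => by
          funext k
          induction k using Fin.succAboveCases i <;> simp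
        map_smul' := fun c w => by
          funext k
          induction k using Fin.succAboveCases i <;> simp }
    let ψ := N.mkQ ∘ₗ ins
    have h1 : φ ∘ₗ ψ = a i • LinearMap.id := by
      ext w j
      simp [φ, ψ, φ₀, ins, LinearMap.smul_apply]
    have h2 : ψ ∘ₗ φ = a i • LinearMap.id := by
      apply Submodule.linearMap_qext
      apply LinearMap.ext
      intro v
      change N.mkQ (i.insertNth 0 (φ₀ v)) = a i • N.mkQ v
      rw [← map_smul]
      symm
      refine (Submodule.Quotient.eq _).2 (Submodule.mem_span_singleton.2 ⟨v i, ?_⟩)
      funext k
      induction k using Fin.succAboveCases i <;> simp [φ₀, mul_comm]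
    set S := p.asIdeal.primeCompl
    let Φ := LocalizedModule.map S φ
    let Ψ := LocalizedModule.map S ψ
    have hu : IsUnit (algebraMap R (Localization.AtPrime p.asIdeal) (a i)) :=
      IsLocalization.map_units _ (⟨a i, hi⟩ : S)
    have key : ∀ {X Y : Type u} [AddCommGroup X] [Module R X] [AddCommGroup Y] [Module R Y]
        (f : X →ₗ[R] Y) (f' : Y →ₗ[R] X), f' ∘ₗ f = a i • LinearMap.id →
        Function.Injective (LocalizedModule.map S f) ∧ Function.Surjective (LocalizedModule.map S f') := by
      intro X Y _ _ _ _ f f' hf
      have : ∀ z, LocalizedModule.map S f' (LocalizedModule.map S f z) =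
          algebraMap R (Localization.AtPrime p.asIdeal) (a i) • z := by
        intro z
        induction z using LocalizedModule.induction_on with
        | _ x s =>
          rw [LocalizedModule.map_mk, LocalizedModule.map_mk, algebraMap_smul, LocalizedModule.smul'_mk]
          exact congrArg (fun y => LocalizedModule.mk y s) (LinearMap.congr_fun hf x)
      refine ⟨fun z w hzw => hu.smul_left_cancel.1 ?_, fun z => ?_⟩
      · rw [← this, ← this, hzw]
      · obtain ⟨u, hu'⟩ := hu
        refine ⟨LocalizedModule.map S f ((↑u⁻¹ : Localization.AtPrime p.asIdeal) • z), ?_⟩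
        rw [this, ← hu', smul_smul, Units.mul_inv, one_smul]
    let e : LocalizedModule S (Fin m → R) ≃ₗ[Localization.AtPrime p.asIdeal]
        LocalizedModule S ((Fin (m+1) → R) ⧸ N) :=
      LinearEquiv.ofBijective Ψ ⟨(key ψ φ h1).1, (key φ ψ h2).2⟩
    have : Module.Free (Localization.AtPrime p.asIdeal) (LocalizedModule S (Fin m → R)) :=
      Module.free_of_isLocalizedModule S (LocalizedModule.mkLinearMap S (Fin m → R))
    refine ⟨Module.Free.of_equiv e, ?_⟩
    have : Nontrivial R := p.nontrivial
    rw [Module.rankAtStalk, ← e.finrank_eq]
    change Module.rankAtStalk (R := R) (Fin m → R) p = _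
    rw [Module.rankAtStalk_eq_finrank_of_free]
    simp

end Groth.Agent.S19573
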