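import Groth.Statements.S19574
import Mathlib

set_option autoImplicit false
universe u
open CategoryTheory MonoidalCategory
open Lie3Mod

namespace Groth.Agent.S19574

open CategoryTheory MonoidalCategory
open scoped TensorProduct

theorem flat_of_pure {R : Type u} [CommRing R] {P M : Type u} [AddCommGroup P] [Module R P] [AddCommGroup M]
    [Module R M] [Module.Flat R P] (p : P →ₗ[R] M) (hp : Function.Surjective p)
    (h : ∀ I : Ideal R, ∀ x ∈ (I • ⊤ : Submodule R P), p x = 0 → x ∈ I • LinearMap.ker p) :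
    Module.Flat R M := by
  rw [Module.Flat.iff_rTensor_injective']
  intro I
  rw [injective_iff_map_eq_zero]
  intro x hx
  obtain ⟨y, rfl⟩ := LinearMap.lTensor_surjective I hp x
  let μ : ∀ (N : Type u) [AddCommGroup N] [Module R N], I ⊗[R] N →ₗ[R] N := fun N _ _ =>
    (TensorProduct.lid R N).toLinearMap ∘ₗ I.subtype.rTensor N
  have hnat : ∀ z : I ⊗[R] P, p (μ P z) = μ M (p.lTensor I z) := fun z => by
    induction z using TensorProduct.induction_on with
    | zero => simp
    | tmul a b => simp [μ]
    | add a b ha hb => simp only [map_add, ha, hb]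
  have hy : μ P y ∈ (I • ⊤ : Submodule R P) := by
    clear hx
    induction y using TensorProduct.induction_on with
    | zero => simp
    | tmul a b => exact by simpa [μ] using Submodule.smul_mem_smul a.2 (Submodule.mem_top (x := b))
    | add a b ha hb => rw [map_add]; exact add_mem ha hb
  have hyK : μ P y ∈ I • LinearMap.ker p := h I _ hy (by
    rw [hnat]; simp only [μ, LinearMap.coe_comp, LinearEquiv.coe_coe, Function.comp_apply]
    rw [hx, map_zero])
  have : ∀ v ∈ I • LinearMap.ker p, ∃ z : I ⊗[R] P, μ P z = v ∧ p.lTensor I z = 0 := by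
    intro v hv
    induction hv using Submodule.smul_induction_on' with
    | smul a ha n hn => exact ⟨⟨a, ha⟩ ⊗ₜ n, by simp [μ], by simp [LinearMap.mem_ker.mp hn]⟩
    | add v hv w hw ihv ihw =>
      obtain ⟨z, hz1, hz2⟩ := ihv
      obtain ⟨z', hz1', hz2'⟩ := ihw
      exact ⟨z + z', by rw [map_add, hz1, hz1'], by rw [map_add, hz2, hz2', add_zero]⟩
  obtain ⟨z, hz1, hz2⟩ := this _ hyK
  have hμ : Function.Injective (μ P) :=
    (TensorProduct.lid R P).injective.comp (Module.Flat.iff_rTensor_injective'.mp ‹_› I)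
  rw [← hμ hz1, hz2]


/-- Let R be a commutative ring and d ≥ 1. Let K be a chain complex of R-modules concentrated in degrees
0, …, d + 1, written … → 0 → P_{d+1} → P_d → … → P_1 → M with M = K_0, which is exact (so 0 →
P_{d+1} → … → P_1 → M → 0 is an exact sequence), such that P_1, …, P_d are flat R-modules and such
that for every ideal I of R the complex obtained by applying (R/I) ⊗_R − termwise is again exact.
Then M is a flat R-module. (No flatness is assumed for P_{d+1}. The published lemma adds that for R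
Noetherian it suffices to test prime ideals I; that refinement is not part of this statement.) -/
theorem result (R : Type u) [CommRing R]
    (d : ℕ) (hd : 1 ≤ d) (K : ChainComplex (ModuleCat.{u} R) ℕ)
    (hzero : ∀ i : ℕ, d + 1 < i → Limits.IsZero (K.X i))
    (hflat : ∀ i : ℕ, 1 ≤ i → i ≤ d → Module.Flat R (K.X i))
    (hK : K.Acyclic)
    (hbc : ∀ I : Ideal R,
      (((tensorLeft (ModuleCat.of R (R ⧸ I))).mapHomologicalComplex (ComplexShape.down ℕ)).obj K).Acyclic) :
    Module.Flat R (K.X 0) := by
  have : Module.Flat R (K.X 1) := hflat 1 le_rfl hd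
  have hsurj : Function.Surjective (K.d 1 0) := by
    intro m
    have h0 := (K.exactAt_iff' 1 0 0 (by simp) (by simp)).mp (hK 0)
    rw [ShortComplex.moduleCat_exact_iff] at h0
    exact h0 m (congrArg (fun f => f.hom m) (K.shape 0 0 (by simp)))
  refine flat_of_pure (K.d 1 0).hom hsurj fun I x hx hx0 => ?_
  have h1 := (K.exactAt_iff' 2 1 0 (by simp) (by simp)).mp (hK 1)
  rw [ShortComplex.moduleCat_exact_iff] at h1
  obtain ⟨(y : K.X 2), hy⟩ := h1 x hx0
  have hy' : (K.d 2 1).hom y = x := hy
  let Q := R ⧸ I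
  have hx' : ((1 : Q) ⊗ₜ[R] x) = 0 := by
    apply (TensorProduct.quotTensorEquivQuotSMul (K.X 1) I).injective
    rw [← map_one (Ideal.Quotient.mk I), TensorProduct.quotTensorEquivQuotSMul_mk_tmul, map_zero, one_smul,
      Submodule.Quotient.mk_eq_zero]
    exact hx
  have h2 := ((((tensorLeft (ModuleCat.of R Q)).mapHomologicalComplex (ComplexShape.down ℕ)).obj K).exactAt_iff'
    3 2 1 (by simp) (by simp)).mp (hbc I 2)
  rw [ShortComplex.moduleCat_exact_iff] at h2
  obtain ⟨w', hw'⟩ := h2 ((1 : Q) ⊗ₜ[R] y) (by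
    show LinearMap.lTensor Q (K.d 2 1).hom ((1 : Q) ⊗ₜ[R] y) = 0
    rw [LinearMap.lTensor_tmul, hy', hx'])
  have hw'' : LinearMap.lTensor Q (K.d 3 2).hom w' = (1 : Q) ⊗ₜ[R] y := hw'
  obtain ⟨w, rfl⟩ : ∃ w, (1 : Q) ⊗ₜ[R] w = w' := by
    have := TensorProduct.mk_surjective R (K.X 3) Q Ideal.Quotient.mk_surjective w'
    exact this
  rw [LinearMap.lTensor_tmul] at hw''
  have hd : y - (K.d 3 2).hom w ∈ (I • ⊤ : Submodule R (K.X 2)) := by
    rw [← Submodule.Quotient.mk_eq_zero, Submodule.Quotient.mk_sub, sub_eq_zero]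
    have := congrArg (TensorProduct.quotTensorEquivQuotSMul (K.X 2) I) hw''
    rw [← map_one (Ideal.Quotient.mk I), TensorProduct.quotTensorEquivQuotSMul_mk_tmul,
      TensorProduct.quotTensorEquivQuotSMul_mk_tmul, one_smul, one_smul] at this
    exact this.symm
  have hzero : (K.d 2 1).hom ((K.d 3 2).hom w) = 0 := by
    have := K.d_comp_d 3 2 1
    exact congrArg (fun f => f.hom w) this
  have : x = (K.d 2 1).hom (y - (K.d 3 2).hom w) := by rw [map_sub, hy', hzero, sub_zero]
  rw [this]
  have hle : Submodule.map (K.d 2 1).hom (I • ⊤) ≤ I • LinearMap.ker (K.d 1 0).hom := by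
    rw [Submodule.map_smul'', Submodule.map_top]
    refine Submodule.smul_mono le_rfl ?_
    rintro _ ⟨v, rfl⟩
    exact congrArg (fun f => f.hom v) (K.d_comp_d 2 1 0)
  exact hle (Submodule.mem_map_of_mem hd)
end Groth.Agent.S19574
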