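import Groth.Statements.S19576
import Groth.Agent.EtaPt16.Special
-- import your own Groth.Agent.* helpers here

set_option autoImplicit false
universe u
open EtaPt

namespace Groth.Agent.S19576

/-- Let η be the field-endofunctor datum of the pointwise construction, A a commutative ring with
finitely many minimal prime ideals and φ : A → B a ring map inducing a surjection on prime spectra.
If finitely many elements f_1, …, f_n of A generate the unit ideal and, for each i, the canonical
map A_{f_i} → (B_{f_i}/A_{f_i})_η attached to the localized map A_{f_i} → B_{φ(f_i)} is bijective,
then the canonical map A → (B/A)_η is bijective. -/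
theorem result (η : EtaPt.FieldEndo.{u}) {A B : Type u} [CommRing A] [CommRing B]
    (hA : (minimalPrimes A).Finite) (φ : A →+* B) (hs : Function.Surjective (PrimeSpectrum.comap φ))
    (s : Finset A) (hspan : Ideal.span (s : Set A) = ⊤)
    (h : ∀ f ∈ s, Function.Bijective (η.qRel (Localization.awayMap φ f))) :
    Function.Bijective (η.qRel φ) := by
  exact Groth.EtaPt16.qRel_of_span η hA φ s hspan h

end Groth.Agent.S19576
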