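import Groth.Statements.S19577
import Groth.Agent.EtaPt16.Special
-- import your own Groth.Agent.* helpers here

set_option autoImplicit false
universe u
open EtaPt

namespace Groth.Agent.S19577

/-- Let f : A → B be a homomorphism of commutative rings, each with only finitely many minimal primes.
Then M_η(f) : M_η(A) → M_η(B) is integral exactly when f is integral, and Spec M_η(f) is surjective
exactly when Spec f is. Here η is the field-endofunctor datum of the pointwise construction, M_η(A)
⊆ ∏_p F(k(p)) the subring attached to A with q_A : A → M_η(A), and M_η(f) : M_η(A) → M_η(B) the ring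
map induced by N_η(f), pinned here as the ring map g compatible with N_η(f) under the two subring
inclusions. -/
theorem result (η : EtaPt.FieldEndo.{u}) {A B : Type u} [CommRing A] [CommRing B]
    (hA : (minimalPrimes A).Finite) (hB : (minimalPrimes B).Finite) (f : A →+* B)
    (g : η.M A →+* η.M B) (hg : ∀ x : η.M A, ((g x : η.M B) : η.N B) = η.Nmap f (x : η.N A)) :
    (f.IsIntegral ↔ g.IsIntegral) ∧
      (Function.Surjective (PrimeSpectrum.comap f) ↔ Function.Surjective (PrimeSpectrum.comap g)) := by
  exact Groth.EtaPt16.Mmap_iff η hA hB f g hg

end Groth.Agent.S19577
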