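import Groth.Statements.S19579
import Groth.Agent.Abvar.Cube.Connected

set_option autoImplicit false
universe u
open CategoryTheory CategoryTheory.Limits MonoidalCategory CartesianMonoidalCategory MonObj AlgebraicGeometry
open AbVar

namespace Groth.Agent.S19579

open Groth.Abvar.PicCalc

/-- The implication from triviality of the Mumford bundle on one fibre to its triviality relative to the
base, with the identification of the descended bundle. Let X be an abelian variety over a field k
(proper, geometrically integral k-group scheme with multiplication m and unit e), T a connected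
locally Noetherian k-scheme and L an invertible module on X ×_k T. On X ×_k X ×_k T let m_T, p_13,
p_23 be the maps to X ×_k T induced by m and by the two projections X × X → X, π the projection to
T, and e_T : T → X ×_k T the unit section. If there is a point t of T over whose fibre X × X × Spec
k(t) the modules m_T^*L and p_13^*L ⊗ p_23^*L become isomorphic (equivalently the Mumford bundle
Λ(L) = m_T^*L ⊗ p_13^*L⁻¹ ⊗ p_23^*L⁻¹ is trivial on one fibre), then m_T^*L ⊗ π^*(e_T^*L) and
p_13^*L ⊗ p_23^*L are isomorphic on all of X × X × T, i.e. Λ(L) ≅ π^*N with N = e_T^*L⁻¹ (existence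
of an isomorphism). -/
theorem result (k : Type u) [Field k]
    (X T : Over (Spec (CommRingCat.of k)))
    [GrpObj X] [IsProper X.hom] [GeometricallyIntegral X.hom]
    [IsLocallyNoetherian T.left] [ConnectedSpace ↥T.left]
    (L : (X ⊗ T).left.Modules) (hL : PicF.IsInvertible L)
    (t : ↥T.left)
    (ht : Nonempty
      ((Scheme.Modules.pullback (pullback.fst (snd (X ⊗ X) T).left
          (T.left.fromSpecResidueField t))).obj
          ((Scheme.Modules.pullback (μ[X] ▷ T).left).obj L) ≅
       (Scheme.Modules.pullback (pullback.fst (snd (X ⊗ X) T).left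
          (T.left.fromSpecResidueField t))).obj
          (CohB1.tensorMod ((Scheme.Modules.pullback (fst X X ▷ T).left).obj L)
            ((Scheme.Modules.pullback (snd X X ▷ T).left).obj L)))) :
    Nonempty
      (CohB1.tensorMod ((Scheme.Modules.pullback (μ[X] ▷ T).left).obj L)
          ((Scheme.Modules.pullback (snd (X ⊗ X) T).left).obj
            ((Scheme.Modules.pullback (CartesianMonoidalCategory.lift (toUnit T ≫ η[X]) (𝟙 T)).left).obj L)) ≅
        CohB1.tensorMod ((Scheme.Modules.pullback (fst X X ▷ T).left).obj L)
          ((Scheme.Modules.pullback (snd X X ▷ T).left).obj L)) := by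
  have hp := fun {U : Over (Spec (CommRingCat.of k))} (u : U ⟶ X ⊗ T) =>
    PicLoc.isInvertible_pullback u.left hL
  have he := PicLoc.isInvertible_pullback
    (CartesianMonoidalCategory.lift (toUnit T ≫ η[X]) (𝟙 T)).left hL
  have he' := PicLoc.isInvertible_pullback (snd (X ⊗ X) T).left he
  have hr := isInvertible_tensorMod (hp (fst X X ▷ T)) (hp (snd X X ▷ T))
  rw [nonempty_iso_iff (isInvertible_tensorMod (hp (μ[X] ▷ T)) he') hr,
    cls_tensorMod (hp (μ[X] ▷ T)) he', cls_tensorMod (hp (fst X X ▷ T)) (hp (snd X X ▷ T)),
    ← pull_cls _ he]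
  simp only [← pull_cls _ hL]
  refine Groth.Abvar.Cube.mumford_eq_one (cls hL) t ?_
  let g := Limits.pullback.fst (snd (X ⊗ X) T).left (T.left.fromSpecResidueField t)
  have e1 := (nonempty_iso_iff (PicLoc.isInvertible_pullback g (hp (μ[X] ▷ T)))
    (PicLoc.isInvertible_pullback g hr)).1 ht
  rw [← pull_cls g (hp (μ[X] ▷ T)), ← pull_cls g hr,
    cls_tensorMod (hp (fst X X ▷ T)) (hp (snd X X ▷ T))] at e1
  simp only [← pull_cls _ hL] at e1
  exact e1

end Groth.Agent.S19579
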