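import Groth.Statements.S19582
import Groth.Agent.CycEquidim.Flat
import Groth.Agent.Calg4.FlatClosureDedekind

set_option autoImplicit false
universe u
open Cyc

namespace Groth.Agent.S19582

section Helpers

open CategoryTheory CategoryTheory.Limits AlgebraicGeometry TopologicalSpace

/-- The generic point of a discrete valuation ring is open. -/
theorem isOpen_generic (R : Type u) [CommRing R] [IsDomain R] [IsDiscreteValuationRing R] :
    IsOpen ({(⟨⊥, Ideal.isPrime_bot⟩ : PrimeSpectrum R)} : Set (PrimeSpectrum R)) := by
  obtain ⟨π, hπ⟩ := IsDiscreteValuationRing.exists_irreducible R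
  have h : ({(⟨⊥, Ideal.isPrime_bot⟩ : PrimeSpectrum R)} : Set (PrimeSpectrum R)) =
      (PrimeSpectrum.basicOpen π : Set (PrimeSpectrum R)) := by
    ext P
    constructor
    · rintro rfl
      exact fun h => hπ.ne_zero h
    · intro hP
      refine PrimeSpectrum.ext ?_
      by_contra hne
      exact hP (((IsDiscreteValuationRing.irreducible_iff_uniformizer π).mp hπ) ▸
        Ideal.mem_span_singleton_self π |> fun hm => (IsLocalRing.eq_maximalIdeal
          (Ideal.IsPrime.isMaximal P.2 hne)).ge hm)
  rw [h]
  exact PrimeSpectrum.isOpen_basicOpen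


end Helpers

open CategoryTheory CategoryTheory.Limits AlgebraicGeometry in
/-- Let S be a separated Noetherian scheme, p : X → S separated of finite type, z a point of X lying
over a generic point of an irreducible component of S whose closure in its fibre p⁻¹(p z) has
dimension r, and ι : Z → X a closed immersion from a reduced scheme with image the closure of z. Let
R be a discrete valuation ring with fraction field K and x : Spec R → S a morphism sending the
generic point of Spec R to a generic point of an irreducible component of S, and let q : φ → Spec R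
be the flat closure φ = φ_x(Z) of Z along x, i.e. the scheme-theoretic image of Z ×_S Spec K in Z
×_S Spec R, with its projection to Spec R. Then q is universally equidimensional of dimension r: for
every scheme S' and every S' → Spec R, the base change φ ×_R S' → S' has local fibre dimension r at
every point (the dimension at w of the fibre through w is r) and every irreducible component of φ
×_R S' dominates an irreducible component of S'. -/
theorem result {X S Z : Scheme.{u}} [IsNoetherian S] [S.IsSeparated] [X.IsSeparated]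
    (p : X ⟶ S) [LocallyOfFiniteType p] [QuasiCompact p] (z : X) (hz : closure {p.base z} ∈ irreducibleComponents ↥S)
    (r : ℕ) (hr : topologicalKrullDim ↥(closure ({p.asFiber z} : Set ↥(p.fiber (p.base z)))) = r)
    (ι : Z ⟶ X) [IsClosedImmersion ι] [IsReduced Z] (hZ : Set.range ι.base = closure {z})
    (R : Type u) [CommRing R] [IsDomain R] [IsDiscreteValuationRing R] (x : Spec (CommRingCat.of R) ⟶ S)
    (hx : closure {x.base ⟨⊥, Ideal.isPrime_bot⟩} ∈ irreducibleComponents ↥S)
    (q : (pullback.map (ι ≫ p) (Spec.map (CommRingCat.ofHom (algebraMap R (FractionRing R))) ≫ x) (ι ≫ p) x (𝟙 Z) (Spec.map (CommRingCat.ofHom (algebraMap R (FractionRing R)))) (𝟙 S) ((Category.comp_id _).trans (Category.id_comp _).symm) (Category.comp_id _)).ker.subscheme ⟶ Spec (CommRingCat.of R))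
    (hq : q = (pullback.map (ι ≫ p) (Spec.map (CommRingCat.ofHom (algebraMap R (FractionRing R))) ≫ x) (ι ≫ p) x (𝟙 Z) (Spec.map (CommRingCat.ofHom (algebraMap R (FractionRing R)))) (𝟙 S) ((Category.comp_id _).trans (Category.id_comp _).symm) (Category.comp_id _)).ker.subschemeι ≫ pullback.snd (ι ≫ p) x)
    (S' : Scheme.{u}) (g : S' ⟶ Spec (CommRingCat.of R)) :
    (∀ w : ↥(pullback q g), FlatMor.fibreDimAt (pullback.snd q g) w = r) ∧
      ∀ C ∈ irreducibleComponents ↥(pullback q g),
        closure ((pullback.snd q g).base '' C) ∈ irreducibleComponents ↥S' := by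
  subst hq
  let i := pullback.map (ι ≫ p) (Spec.map (CommRingCat.ofHom (algebraMap R (FractionRing R))) ≫ x) (ι ≫ p) x (𝟙 Z)
    (Spec.map (CommRingCat.ofHom (algebraMap R (FractionRing R)))) (𝟙 S)
    ((Category.comp_id _).trans (Category.id_comp _).symm) (Category.comp_id _)
  let π : i.image ⟶ Spec (CommRingCat.of R) := i.imageι ≫ pullback.snd (ι ≫ p) x
  haveI : IsSeparated p := IsSeparated.of_comp p (terminal.from S)
  have hsnd : i ≫ pullback.snd (ι ≫ p) x =
      pullback.snd _ _ ≫ Spec.map (CommRingCat.ofHom (algebraMap R (FractionRing R))) := pullback.lift_snd _ _ _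
  haveI : QuasiCompact i := by
    haveI : QuasiCompact (i ≫ pullback.snd (ι ≫ p) x) := by rw [hsnd]; infer_instance
    exact QuasiCompact.of_comp i (pullback.snd (ι ≫ p) x)
  haveI : IsLocallyNoetherian (Spec (CommRingCat.of R)) := inferInstance
  haveI := Groth.Flatmor4.isSchemeTheoreticallyDominant_toImage i
  let o : Spec (CommRingCat.of R) := ⟨⊥, Ideal.isPrime_bot⟩
  have hgen : ∀ k, π (i.toImage k) = o := by
    intro k
    rw [← Scheme.Hom.comp_apply, Scheme.Hom.toImage_imageι_assoc, hsnd, Scheme.Hom.comp_apply]
    generalize pullback.snd (ι ≫ p) _ k = v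
    refine PrimeSpectrum.ext ?_
    show (PrimeSpectrum.asIdeal (R := FractionRing R) v).comap (algebraMap R (FractionRing R)) = ⊥
    rw [(Ideal.eq_bot_or_top (PrimeSpectrum.asIdeal (R := FractionRing R) v)).resolve_right v.2.ne_top,
      ← RingHom.ker_eq_comap_bot]
    exact (RingHom.injective_iff_ker_eq_bot _).mp (IsFractionRing.injective R (FractionRing R))
  haveI : Flat π := by
    refine Groth.Calg4.FlatClosure.flat_of_schDominant (fun y => ?_) π i.toImage fun k => ?_
    · let e := (IsLocalization.algEquiv (PrimeSpectrum.asIdeal (R := R) y).primeCompl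
        (Localization.AtPrime (PrimeSpectrum.asIdeal (R := R) y))
        ((Spec.structureSheaf R).presheaf.stalk y)).toRingEquiv
      refine ⟨IsRegularLocalRing.of_ringEquiv e, ?_⟩
      refine (ringKrullDim_eq_of_ringEquiv e).ge.trans ?_
      rw [IsLocalization.AtPrime.ringKrullDim_eq_height (PrimeSpectrum.asIdeal (R := R) y) (Localization.AtPrime _)]
      exact Ideal.height_le_ringKrullDim_of_ne_top (y.2.ne_top) |>.trans (Ring.krullDimLE_iff.mp inferInstance)
    · rw [hgen]
      refine ((genericPoint_spec _).eq ?_).symm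
      exact isGenericPoint_def.mpr ((PrimeSpectrum.closure_singleton (R := R) (⟨⊥, Ideal.isPrime_bot⟩ : PrimeSpectrum R)).trans (PrimeSpectrum.zeroLocus_bot (R := R)))
  haveI : LocallyOfFinitePresentation π := inferInstance
  refine Groth.CycEquidim.equidim_baseChange π (fun ξ hξ => ?_) g
  have hgξ : π ξ = o := by
    have hm := Groth.Flatmor4.isMax_image π hξ
    have : o ⤳ π ξ := (PrimeSpectrum.le_iff_specializes _ _).mp bot_le
    exact (this.antisymm (hm this)).eq.symm
  have hv : IsMax ((ι ≫ p) (pullback.fst (ι ≫ p) x (i.imageι ξ))) := by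
    rw [← Scheme.Hom.comp_apply, pullback.condition, Scheme.Hom.comp_apply]
    show IsMax (x (π ξ))
    rw [hgξ]
    exact Groth.FibreDim.isMax_of_mem_genericPoints hx
  have key : FlatMor.fibreDimAt π ξ = FlatMor.fibreDimAt (pullback.snd (ι ≫ p) x) (i.imageι ξ) := by
    -- above the generic point the image is everything
    let O : (pullback (ι ≫ p) x).Opens := pullback.snd (ι ≫ p) x ⁻¹ᵁ
      ⟨{o}, Groth.Agent.S19582.isOpen_generic R⟩
    let O' : i.image.Opens := i.imageι ⁻¹ᵁ O
    have hO : (O : Set ↥(pullback (ι ≫ p) x)) ⊆ Set.range i := by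
      intro v hv
      have hv' : pullback.snd (ι ≫ p) x v = o := hv
      let jK := Spec.map (CommRingCat.ofHom (algebraMap R (FractionRing R)))
      have hpb : IsPullback i (pullback.snd _ _) (pullback.snd (ι ≫ p) x) jK := by
        refine IsPullback.of_right ?_ hsnd (IsPullback.of_hasPullback (ι ≫ p) x)
        rw [pullback.lift_fst, Category.comp_id]
        exact IsPullback.of_hasPullback _ _
      obtain ⟨k, hk⟩ : ∃ k, jK k = o := ⟨(⟨⊥, Ideal.isPrime_bot⟩ : PrimeSpectrum (FractionRing R)), by
        refine PrimeSpectrum.ext ?_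
        show (⊥ : Ideal (FractionRing R)).comap (algebraMap R (FractionRing R)) = ⊥
        rw [← RingHom.ker_eq_comap_bot]
        exact (RingHom.injective_iff_ker_eq_bot _).mp (IsFractionRing.injective R (FractionRing R))⟩
      obtain ⟨t, ht, -⟩ := Scheme.Pullback.exists_preimage_pullback (f := pullback.snd (ι ≫ p) x) (g := jK) v k
        (hv'.trans hk.symm)
      exact ⟨hpb.isoPullback.inv t, by rw [← Scheme.Hom.comp_apply, hpb.isoPullback_inv_fst]; exact ht⟩
    let j : (O' : Scheme.{u}) ⟶ pullback (ι ≫ p) x := O'.ι ≫ i.imageι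
    have hj : Topology.IsOpenEmbedding j.base := by
      refine ⟨j.isEmbedding, ?_⟩
      have hr : Set.range j.base = (O : Set ↥(pullback (ι ≫ p) x)) := by
        ext v
        constructor
        · rintro ⟨w, rfl⟩; exact w.2
        · intro hv
          obtain ⟨w, rfl⟩ := hO hv
          have e : i.imageι (i.toImage w) = i w := by rw [← Scheme.Hom.comp_apply, Scheme.Hom.toImage_imageι]
          exact ⟨⟨i.toImage w, show i.imageι (i.toImage w) ∈ O by rw [e]; exact hv⟩, e⟩
      rw [hr]
      exact O.2
    have hmem : ξ ∈ O' := hgξ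
    have h1 := Groth.CycEquidim.fibreDimAt_comp_of_isOpenEmbedding j hj (pullback.snd (ι ≫ p) x) ⟨ξ, hmem⟩
    have h2 := Groth.FibreDim.fibreDimAt_openImmersion_comp O'.ι π (⟨ξ, hmem⟩ : O')
    exact h2.symm.trans h1
  rw [key, Groth.FibreDim.fibreDimAt_baseChange (ι ≫ p) x (pullback.snd (ι ≫ p) x) (pullback.fst (ι ≫ p) x)
    (IsPullback.of_hasPullback _ _)]
  exact Groth.CycEquidim.generic_fibreDim p z hz r hr ι hZ _ hv

end Groth.Agent.S19582
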