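import Groth.Statements.S19583
import Mathlib.AlgebraicGeometry.Morphisms.SchemeTheoreticallyDominant
-- import your own Groth.Agent.* helpers here

set_option autoImplicit false
set_option backward.isDefEq.respectTransparency false
universe u
open Cyc
open CategoryTheory CategoryTheory.Limits AlgebraicGeometry

namespace Groth.Agent.S19583

/-- The killed functions vanish away from the centre. -/
theorem comap_eq_bot_of_range_subset {Q T : Scheme.{u}} (E J : Q.IdealSheafData)
    (hJ : ∀ (V : Q.affineOpens) (a : Γ(Q, V.1)), a ∈ J.ideal V →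
      BlowUp.KilledByPowerNear E (Coh.structureModule Q) V a)
    (h : T ⟶ Q) (hh : ∀ t, h t ∉ E.support) : J.comap h = ⊥ := by
  let O : Q.Opens := E.support.compl
  have hT : Set.range h ⊆ Set.range O.ι := by
    rw [Scheme.Opens.range_ι]; rintro _ ⟨t, rfl⟩; exact hh t
  have hO : J.comap O.ι = ⊥ := by
    ext V a
    rw [Scheme.IdealSheafData.ideal_comap_of_isOpenImmersion, Scheme.IdealSheafData.ideal_bot]
    let V' : Q.affineOpens := ⟨O.ι ''ᵁ V.1, V.2.image_of_isOpenImmersion _⟩
    refine ⟨fun ha => ?_, fun ha => (Submodule.mem_bot _).mp ha ▸ zero_mem _⟩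
    obtain ⟨n, hn⟩ := hJ V' _ ha
    have hE : E.ideal V' = ⊤ := by
      have hdisj : Disjoint (E.support : Set Q) (V'.1 : Set Q) := by
        rw [Set.disjoint_right]
        rintro _ ⟨v, -, rfl⟩
        exact v.2
      rw [← PrimeSpectrum.zeroLocus_empty_iff_eq_top, Set.eq_empty_iff_forall_notMem]
      intro x hx
      have hz : (V'.2.fromSpec x) ∈ E.support := by
        have hmem : V'.2.fromSpec x ∈ V'.1 := by
          rw [← SetLike.mem_coe, ← V'.2.range_fromSpec]; exact ⟨x, rfl⟩
        rw [Scheme.IdealSheafData.mem_support_iff_of_mem hmem]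
        have : x ∈ V'.2.fromSpec ⁻¹' Q.zeroLocus (U := V'.1) (E.ideal V') := by
          rw [V'.2.fromSpec_preimage_zeroLocus]; exact hx
        exact this
      exact Set.disjoint_left.mp hdisj hz (by rw [← V'.2.range_fromSpec]; exact ⟨x, rfl⟩)
    have h1 := hn 1 (by rw [Scheme.IdealSheafData.ideal_pow, Pi.pow_apply, hE, ← Ideal.one_eq_top, one_pow,
      Ideal.one_eq_top]; trivial)
    rw [one_smul] at h1
    exact (Submodule.mem_bot _).mpr
      ((ConcreteCategory.bijective_of_isIso (O.ι.appIso V.1).inv).injective (h1.trans (map_zero _).symm))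
  rw [← IsOpenImmersion.lift_fac O.ι h hT, Scheme.IdealSheafData.comap_comp, hO,
    Scheme.IdealSheafData.comap_bot]

open CategoryTheory CategoryTheory.Limits AlgebraicGeometry in
/-- Let S be a separated Noetherian scheme, p : X → S a morphism from a separated scheme X (no
finiteness condition), ι : Z → X a closed immersion, and b : S' → S a blowing up of S in a
quasi-coherent ideal with support S₀ such that (1) b restricts to a bijection between the generic
points of the irreducible components of S' and of S and (2) the strict transform Z~ of Z — the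
closed subscheme of Z ×_S S' whose ideal consists, on each affine open, of the functions annihilated
by a power of the pulled-back centre — is flat over S'. Let R be a discrete valuation ring with
fraction field K and f : Spec R → S a morphism sending the generic point of Spec R into S ∖ S₀. Then
f factors uniquely through b, and for the factorisation f' : Spec R → S' the flat closure φ_f(Z) ⊆ Z
×_S Spec R (the scheme-theoretic image of Z ×_S Spec K) coincides with Spec R ×_{S'} Z~: its ideal
sheaf equals the inverse image of the ideal of Z~ under the map Z ×_S Spec R → Z ×_S S' induced by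
f'. -/
theorem result {X S Z S' : Scheme.{u}} [IsNoetherian S] [S.IsSeparated] [X.IsSeparated]
    (p : X ⟶ S) (ι : Z ⟶ X) [IsClosedImmersion ι]
    (𝓘 : S.IdealSheafData) (b : S' ⟶ S) (hb : BlowUp.IsBlowUp b 𝓘)
    (hgen : Set.BijOn b.base {s' : ↥S' | closure {s'} ∈ irreducibleComponents ↥S'} {s : ↥S | closure {s} ∈ irreducibleComponents ↥S})
    (𝒥 : (pullback (ι ≫ p) b).IdealSheafData)
    (h𝒥 : ∀ (V : (pullback (ι ≫ p) b).affineOpens) (a : Γ(pullback (ι ≫ p) b, V.1)), a ∈ 𝒥.ideal V ↔
      BlowUp.KilledByPowerNear ((𝓘.comap (ι ≫ p)).comap (pullback.fst (ι ≫ p) b)) (Coh.structureModule (pullback (ι ≫ p) b)) V a)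
    [Flat (𝒥.subschemeι ≫ pullback.snd (ι ≫ p) b)]
    (R : Type u) [CommRing R] [IsDomain R] [IsDiscreteValuationRing R] (f : Spec (CommRingCat.of R) ⟶ S)
    (hf : f.base ⟨⊥, Ideal.isPrime_bot⟩ ∉ (𝓘.support : Set ↥S)) :
    (∃! f' : Spec (CommRingCat.of R) ⟶ S', f' ≫ b = f) ∧
      ∀ (f' : Spec (CommRingCat.of R) ⟶ S') (hf' : f' ≫ b = f),
        (pullback.map (ι ≫ p) (Spec.map (CommRingCat.ofHom (algebraMap R (FractionRing R))) ≫ f) (ι ≫ p) f (𝟙 Z) (Spec.map (CommRingCat.ofHom (algebraMap R (FractionRing R)))) (𝟙 S) ((Category.comp_id _).trans (Category.id_comp _).symm) (Category.comp_id _)).ker = 𝒥.comap (pullback.map (ι ≫ p) f (ι ≫ p) b (𝟙 Z) f' (𝟙 S) ((Category.comp_id _).trans (Category.id_comp _).symm) ((Category.comp_id f).trans hf'.symm)) := by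
  classical
  have hI : BlowUp.IsEffCartierIdeal (𝓘.comap f) := by
    intro x
    haveI : IsPrincipalIdealRing Γ(Spec (CommRingCat.of R), (⊤ : (Spec (CommRingCat.of R)).Opens)) :=
      IsPrincipalIdealRing.of_surjective (Scheme.ΓSpecIso (CommRingCat.of R)).inv.hom
        (ConcreteCategory.bijective_of_isIso _).surjective
    haveI : IsDomain Γ(Spec (CommRingCat.of R), (⊤ : (Spec (CommRingCat.of R)).Opens)) :=
      ((Scheme.ΓSpecIso (CommRingCat.of R)).commRingCatIsoToRingEquiv.toMulEquiv.isDomain_iff).mpr inferInstance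
    let U : (Spec (CommRingCat.of R)).affineOpens := ⟨⊤, isAffineOpen_top _⟩
    obtain ⟨t, ht⟩ := (IsPrincipalIdealRing.principal ((𝓘.comap f).ideal U)).principal
    refine ⟨U, trivial, t, mem_nonZeroDivisors_of_ne_zero fun h0 => hf ?_, ht⟩
    have hgen : (⟨⊥, Ideal.isPrime_bot⟩ : PrimeSpectrum R) ∈ (𝓘.comap f).support := by
      have hx0 : (⟨⊥, Ideal.isPrime_bot⟩ : PrimeSpectrum R) ∈ U.1 := trivial
      rw [Scheme.IdealSheafData.mem_support_iff_of_mem hx0, ht, h0, Scheme.mem_zeroLocus_iff]
      intro r hr
      rw [SetLike.mem_coe, Ideal.submodule_span_eq, Ideal.mem_span_singleton, zero_dvd_iff] at hr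
      rw [hr, Scheme.basicOpen_zero]; exact id
    rw [Scheme.IdealSheafData.support_comap] at hgen
    exact hgen
  refine ⟨hb.2 _ f hI, fun f' hf' => ?_⟩
  let q := ι ≫ p
  let K := FractionRing R
  let jK : Spec (CommRingCat.of K) ⟶ Spec (CommRingCat.of R) := Spec.map (CommRingCat.ofHom (algebraMap R K))
  let i : pullback q (jK ≫ f) ⟶ pullback q f := pullback.map q (jK ≫ f) q f (𝟙 Z) jK (𝟙 S)
    ((Category.comp_id _).trans (Category.id_comp _).symm) (Category.comp_id _)
  let m : pullback q f ⟶ pullback q b := pullback.map q f q b (𝟙 Z) f' (𝟙 S)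
    ((Category.comp_id _).trans (Category.id_comp _).symm) ((Category.comp_id f).trans hf'.symm)
  show i.ker = 𝒥.comap m
  have hm : IsPullback m (pullback.snd q f) (pullback.snd q b) f' := by
    refine IsPullback.of_right ?_ (pullback.lift_snd _ _ _) (IsPullback.of_hasPullback q b)
    rw [pullback.lift_fst, Category.comp_id, hf']
    exact IsPullback.of_hasPullback q f
  have hgenK : ∀ z : Spec (CommRingCat.of K), jK z = (⟨⊥, Ideal.isPrime_bot⟩ : PrimeSpectrum R) := by
    intro z
    refine PrimeSpectrum.ext ?_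
    show (PrimeSpectrum.asIdeal (R := K) z).comap (algebraMap R K) = ⊥
    rw [(Ideal.eq_bot_or_top (PrimeSpectrum.asIdeal (R := K) z)).resolve_right z.2.ne_top, ← RingHom.ker_eq_comap_bot]
    exact (RingHom.injective_iff_ker_eq_bot _).mp (IsFractionRing.injective R K)
  refine le_antisymm ?_ ?_
  · let W := (𝒥.comap m).subscheme
    let w : W ⟶ pullback q f := (𝒥.comap m).subschemeι
    haveI : Flat (w ≫ pullback.snd q f) := by
      have : IsPullback ((𝒥.comapIso m).hom ≫ pullback.snd m 𝒥.subschemeι) w 𝒥.subschemeι m := by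
        refine (IsPullback.of_hasPullback m 𝒥.subschemeι).flip.of_iso (𝒥.comapIso m).symm (Iso.refl _) (Iso.refl _)
          (Iso.refl _) (by simp only [Iso.symm_hom, Iso.refl_hom, Category.comp_id, Category.id_comp, Iso.inv_hom_id_assoc]) (by simp [w]) (by simp) (by simp)
      exact MorphismProperty.of_isPullback (this.paste_vert hm) ‹_›
    haveI : IsDominant jK := ⟨by
      show DenseRange (PrimeSpectrum.comap (algebraMap R K))
      rw [PrimeSpectrum.denseRange_comap_iff_ker_le_nilRadical,
        (RingHom.injective_iff_ker_eq_bot _).mp (IsFractionRing.injective R K)]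
      exact bot_le⟩
    haveI : IsSchemeTheoreticallyDominant jK := .of_isDominant jK
    let k : pullback (w ≫ pullback.snd q f) jK ⟶ pullback q (jK ≫ f) :=
      pullback.lift (pullback.fst _ _ ≫ w ≫ pullback.fst q f) (pullback.snd _ _) (by
        simp only [Category.assoc, pullback.condition (f := q) (g := f)]
        rw [← Category.assoc w, ← Category.assoc, pullback.condition, Category.assoc])
    have hk : k ≫ i = pullback.fst _ _ ≫ w := by
      apply pullback.hom_ext
      · simp [k, i]
      · simp [k, i, ← pullback.condition]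
    calc i.ker ≤ (k ≫ i).ker := Scheme.Hom.le_ker_comp k i
      _ = 𝒥.comap m := by
        rw [hk, Scheme.Hom.ker_comp, Scheme.Hom.ker_eq_bot, Scheme.IdealSheafData.map_bot,
          Scheme.IdealSheafData.ker_subschemeι]
  · rw [← Scheme.IdealSheafData.map_bot, Scheme.IdealSheafData.le_map_iff_comap_le,
      ← Scheme.IdealSheafData.comap_comp]
    refine le_of_eq (comap_eq_bot_of_range_subset _ 𝒥 (fun V a ha => (h𝒥 V a).mp ha) (i ≫ m) fun t ht => hf ?_)
    rw [← Scheme.IdealSheafData.comap_comp, Scheme.IdealSheafData.support_comap] at ht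
    change (pullback.fst q b ≫ q) ((i ≫ m) t) ∈ 𝓘.support at ht
    rw [← Scheme.Hom.comp_apply] at ht
    have : (i ≫ m) ≫ pullback.fst q b ≫ q = pullback.snd q (jK ≫ f) ≫ jK ≫ f := by
      simp [i, m, pullback.condition, hf']
    rw [this, Scheme.Hom.comp_apply, Scheme.Hom.comp_apply, hgenK] at ht
    exact ht

end Groth.Agent.S19583
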