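import Groth.Statements.S19584
import Groth.Agent.CycEquidim.Flat
import Groth.Agent.S19583

set_option autoImplicit false
universe u
open Cyc

namespace Groth.Agent.S19584

section Helpers

open CategoryTheory CategoryTheory.Limits AlgebraicGeometry TopologicalSpace

/-- The strict transform is the whole pullback over the complement of the centre. -/
theorem fibreDimAt_strictTransform {Q S' : Scheme.{u}} (E J : Q.IdealSheafData)
    (hJ : ∀ (V : Q.affineOpens) (a : Γ(Q, V.1)), a ∈ J.ideal V →
      BlowUp.KilledByPowerNear E (Coh.structureModule Q) V a)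
    (f : Q ⟶ S') (x : J.subscheme) (hx : J.subschemeι x ∉ E.support) :
    FlatMor.fibreDimAt (J.subschemeι ≫ f) x = FlatMor.fibreDimAt f (J.subschemeι x) := by
  let O : Q.Opens := E.support.compl
  let O' : J.subscheme.Opens := J.subschemeι ⁻¹ᵁ O
  have hO : (O : Set Q) ⊆ Set.range J.subschemeι := by
    intro q hq
    rw [Scheme.IdealSheafData.range_subschemeι]
    have h := Groth.Agent.S19583.comap_eq_bot_of_range_subset E J hJ O.ι fun t => t.2
    have h' : (⟨q, hq⟩ : O) ∈ (J.comap O.ι).support := by rw [h, Scheme.IdealSheafData.support_bot]; exact Set.mem_univ _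
    rw [Scheme.IdealSheafData.support_comap] at h'
    exact h'
  let j : (O' : Scheme.{u}) ⟶ Q := O'.ι ≫ J.subschemeι
  have hj : Topology.IsOpenEmbedding j.base := by
    refine ⟨j.isEmbedding, ?_⟩
    have hr : Set.range j.base = (O : Set Q) := by
      ext q
      constructor
      · rintro ⟨v, rfl⟩; exact v.2
      · intro hq
        obtain ⟨v, rfl⟩ := hO hq
        exact ⟨⟨v, hq⟩, rfl⟩
    rw [hr]
    exact O.2
  have h1 := Groth.CycEquidim.fibreDimAt_comp_of_isOpenEmbedding j hj f ⟨x, hx⟩
  have h2 := Groth.FibreDim.fibreDimAt_openImmersion_comp O'.ι (J.subschemeι ≫ f) (⟨x, hx⟩ : O')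
  rw [Category.assoc] at h1
  exact (h2.symm.trans h1)


end Helpers

open CategoryTheory CategoryTheory.Limits AlgebraicGeometry in
/-- Let S be a separated Noetherian scheme, p : X → S separated of finite type, z a point of X lying
over a generic point of an irreducible component of S whose closure in its fibre p⁻¹(p z) has
dimension r, and ι : Z → X a closed immersion from a reduced scheme with image the closure of z. Let
b : S′ → S be a blowing up (S′ Noetherian) such that the strict transform Z~ of Z — the closed
subscheme of Z ×_S S′ whose ideal consists, on each affine open, of the functions annihilated by a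
power of the pulled-back centre — is flat over S′. Then Z~ → S′ is universally equidimensional of
dimension r: after any base change S″ → S′ every point of Z~ ×_{S′} S″ has local fibre dimension r
and every irreducible component of Z~ ×_{S′} S″ dominates an irreducible component of S″. (The
published lemma takes a blow-up of the reduced scheme S_red; this statement takes a blow-up of S
itself, to which the printed argument applies unchanged.) -/
theorem result {X S Z S' : Scheme.{u}} [IsNoetherian S] [S.IsSeparated] [X.IsSeparated]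
    (p : X ⟶ S) [LocallyOfFiniteType p] [QuasiCompact p] (z : X) (hz : closure {p.base z} ∈ irreducibleComponents ↥S)
    (r : ℕ) (hr : topologicalKrullDim ↥(closure ({p.asFiber z} : Set ↥(p.fiber (p.base z)))) = r)
    (ι : Z ⟶ X) [IsClosedImmersion ι] [IsReduced Z] (hZ : Set.range ι.base = closure {z})
    [IsNoetherian S'] (𝓘 : S.IdealSheafData) (b : S' ⟶ S) (hb : BlowUp.IsBlowUp b 𝓘)
    (𝒥 : (pullback (ι ≫ p) b).IdealSheafData)
    (h𝒥 : ∀ (V : (pullback (ι ≫ p) b).affineOpens) (a : Γ(pullback (ι ≫ p) b, V.1)), a ∈ 𝒥.ideal V ↔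
      BlowUp.KilledByPowerNear ((𝓘.comap (ι ≫ p)).comap (pullback.fst (ι ≫ p) b)) (Coh.structureModule (pullback (ι ≫ p) b)) V a)
    [Flat (𝒥.subschemeι ≫ pullback.snd (ι ≫ p) b)]
    (S'' : Scheme.{u}) (g : S'' ⟶ S') :
    (∀ w : ↥(pullback (𝒥.subschemeι ≫ pullback.snd (ι ≫ p) b) g),
        FlatMor.fibreDimAt (pullback.snd (𝒥.subschemeι ≫ pullback.snd (ι ≫ p) b) g) w = r) ∧
      ∀ C ∈ irreducibleComponents ↥(pullback (𝒥.subschemeι ≫ pullback.snd (ι ≫ p) b) g),
        closure ((pullback.snd (𝒥.subschemeι ≫ pullback.snd (ι ≫ p) b) g).base '' C) ∈ irreducibleComponents ↥S'' := by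
  let q := ι ≫ p
  let π := 𝒥.subschemeι ≫ pullback.snd q b
  haveI : LocallyOfFinitePresentation π := by
    haveI : IsLocallyNoetherian S' := inferInstance
    infer_instance
  refine Groth.CycEquidim.equidim_baseChange π (fun ξ hξ => ?_) g
  have hη : IsMax (π ξ) := Groth.Flatmor4.isMax_image π hξ
  have hnot : π ξ ∉ (𝓘.comap b).support := Groth.Divisors.not_mem_support_of_maximal hb.1
    fun y hy => (hy.antisymm (hη hy)).eq
  rw [Scheme.IdealSheafData.support_comap] at hnot
  have hbη : IsMax (b (π ξ)) := by
    haveI := Groth.Divisors.isIso_morphismRestrict_compl hb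
    intro w hw
    let U := Groth.Divisors.complOpens 𝓘
    have hmem : b (π ξ) ∈ U := hnot
    have hwU : w ∈ U := (hw : w ⤳ b (π ξ)).mem_open U.2 hmem
    obtain ⟨w', hw'⟩ := (b ∣_ U).surjective ⟨w, hwU⟩
    have hsp : w' ⤳ (⟨π ξ, hmem⟩ : (b ⁻¹ᵁ U : S'.Opens)) := by
      rw [← (b ∣_ U).isOpenEmbedding.isInducing.specializes_iff, hw']
      refine (subtype_specializes_iff _ _).mpr ?_
      rw [morphismRestrict_base_coe]
      exact hw
    have heq : w' = (⟨π ξ, hmem⟩ : (b ⁻¹ᵁ U : S'.Opens)) := by
      have h1 : w'.1 ⤳ π ξ := (subtype_specializes_iff _ _).mp hsp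
      exact Subtype.ext (h1.antisymm (hη h1)).eq
    rw [heq] at hw'
    have h2 := congrArg Subtype.val hw'
    rw [morphismRestrict_base_coe] at h2
    exact le_of_eq h2.symm
  have hcond : q (pullback.fst q b (𝒥.subschemeι ξ)) = b (π ξ) := by
    rw [← Scheme.Hom.comp_apply, pullback.condition]
    rfl
  refine (fibreDimAt_strictTransform _ 𝒥 (fun V a ha => (h𝒥 V a).mp ha) (pullback.snd q b) ξ ?_).trans ?_
  · rw [Scheme.IdealSheafData.support_comap, Scheme.IdealSheafData.support_comap]
    intro hcon
    refine hnot ?_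
    show b (π ξ) ∈ 𝓘.support
    rw [← hcond]
    exact hcon
  · rw [Groth.FibreDim.fibreDimAt_baseChange q b (pullback.snd q b) (pullback.fst q b)
      (IsPullback.of_hasPullback q b)]
    exact Groth.CycEquidim.generic_fibreDim p z hz r hr ι hZ _ (hcond ▸ hbη)

end Groth.Agent.S19584
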