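import Groth.Statements.S19585
import Groth.Agent.AbvarAmple.IndexField

set_option autoImplicit false
universe u
open CategoryTheory CategoryTheory.Limits MonoidalCategory CartesianMonoidalCategory MonObj GrpObj AlgebraicGeometry
open AbVar
open Groth.Abvar Groth.Abvar.PicCalc

namespace Groth.Agent.S19585

/-- Let k be a field and f : X → Y an isogeny between abelian varieties over k (X, Y proper
geometrically integral k-group schemes; f a finite, flat, surjective homomorphism) and L an
invertible O_Y-module which is non-degenerate of index i, expressed by the equivalent condition that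
H^j(Y, L) = 0 for j ≠ i and H^i(Y, L) ≠ 0. Then f^*L is non-degenerate of the same index: H^j(X,
f^*L) = 0 for j ≠ i and H^i(X, f^*L) ≠ 0. (No assumption on the degree of f or on the field.) -/
theorem result
    (k : Type u) [Field k] (X Y : Over (Spec (CommRingCat.of k)))
    [GrpObj X] [IsProper X.hom] [GeometricallyIntegral X.hom]
    [GrpObj Y] [IsProper Y.hom] [GeometricallyIntegral Y.hom]
    (f : X ⟶ Y) [IsMonHom f] [IsFinite f.left] [Flat f.left] [Surjective f.left]
    (L : Y.left.Modules) (hL : PicF.IsInvertible L) (i : ℕ)
    (hvan : ∀ j : ℕ, j ≠ i → Subsingleton (Coh.HH Y.left L j)) (hne : Nontrivial (Coh.HH Y.left L i)) :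
    (∀ j : ℕ, j ≠ i → Subsingleton (Coh.HH X.left ((Scheme.Modules.pullback f.left).obj L) j)) ∧
      Nontrivial (Coh.HH X.left ((Scheme.Modules.pullback f.left).obj L) i) := by
  have hfL := PicLoc.isInvertible_pullback f.left hL
  have h := ((Groth.AbvarAmple.isIdx_cls_iff Y.hom hL i).2 ⟨hvan, hne⟩).pullback' f
  rw [show opull f (cls hL) = cls hfL from pull_cls _ hL] at h
  exact (Groth.AbvarAmple.isIdx_cls_iff X.hom hfL i).1 h

end Groth.Agent.S19585
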