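import Groth.Statements.S19586
import Groth.Agent.Ega41Jac.Localization
import Mathlib.RingTheory.Spectrum.Prime.FreeLocus
import Mathlib.LinearAlgebra.ExteriorPower.Basic
import Mathlib.LinearAlgebra.Alternating.Uncurry.Fin
import Mathlib.LinearAlgebra.Matrix.Determinant.Basic

set_option autoImplicit false
universe u
open KaehlerDifferential
open LocInt

namespace Groth.Agent.S19586

section Abstract

open scoped TensorProduct

variable {R : Type u} [CommRing R] {V : Type u} [AddCommGroup V] [Module R V] [Module.Finite R V]
  [Module.Projective R V] {n : ℕ}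

theorem exists_local_frame (hn : ∀ q : PrimeSpectrum R, Module.rankAtStalk V q = n) (p : Ideal R) [p.IsPrime] :
    ∃ (b : Module.Basis (Fin n) (Localization.AtPrime p) (LocalizedModule p.primeCompl V))
      (e : Fin n → V) (t : Fin n → p.primeCompl),
      ∀ i, LocalizedModule.mkLinearMap p.primeCompl V (e i) = algebraMap R (Localization.AtPrime p) (t i) • b i := by
  have : Module.Projective (Localization.AtPrime p) (LocalizedModule p.primeCompl V) := inferInstance
  have : Module.Free (Localization.AtPrime p) (LocalizedModule p.primeCompl V) :=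
    Module.free_of_flat_of_isLocalRing
  let b := (Module.finBasisOfFinrankEq (Localization.AtPrime p) (LocalizedModule p.primeCompl V) (hn ⟨p, inferInstance⟩))
  choose et het using fun i =>
    IsLocalizedModule.surj p.primeCompl (LocalizedModule.mkLinearMap p.primeCompl V) (b i)
  refine ⟨b, fun i => (et i).1, fun i => (et i).2, fun i => ?_⟩
  rw [← het i, algebraMap_smul]
  rfl

/-- Alternating maps in more variables than the rank vanish. -/
theorem alternating_eq_zero (hn : ∀ q : PrimeSpectrum R, Module.rankAtStalk V q = n) {N : Type u}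
    [AddCommGroup N] [Module R N] (F : V [⋀^Fin (n + 1)]→ₗ[R] N) (x : Fin (n + 1) → V) : F x = 0 := by
  classical
  have hT : LinearMap.ker (LinearMap.toSpanSingleton R N (F x)) = ⊤ := by
    by_contra hT
    obtain ⟨p, hp, hle⟩ := Ideal.exists_le_maximal _ hT
    obtain ⟨b, e, t, he⟩ := exists_local_frame hn p
    have hspan : ∀ y : V, ∃ a ∈ p.primeCompl, a • y ∈ Submodule.span R (Set.range e) := fun y => by
      have h1 : LocalizedModule.mkLinearMap p.primeCompl V y ∈
          Submodule.span (Localization.AtPrime p) (LocalizedModule.mkLinearMap p.primeCompl V '' Set.range e) := by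
        rw [← b.sum_repr (LocalizedModule.mkLinearMap p.primeCompl V y)]
        refine sum_mem fun i _ => Submodule.smul_mem _ _ ?_
        obtain ⟨u, hu⟩ := IsLocalization.map_units (Localization.AtPrime p) (t i)
        have : b i = (↑u⁻¹ : Localization.AtPrime p) • LocalizedModule.mkLinearMap p.primeCompl V (e i) := by
          rw [he, ← hu, smul_smul, Units.inv_mul, one_smul]
        rw [this]
        exact Submodule.smul_mem _ _ (Submodule.subset_span ⟨e i, ⟨i, rfl⟩, rfl⟩)
      obtain ⟨⟨a, ha⟩, hay⟩ := multiple_mem_span_of_mem_localization_span p.primeCompl _ _ _ h1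
      rw [← Submodule.map_span] at hay
      obtain ⟨z, hz, hzy⟩ := hay
      obtain ⟨c, hc⟩ := (IsLocalizedModule.eq_iff_exists p.primeCompl (LocalizedModule.mkLinearMap p.primeCompl V)).1
        (show LocalizedModule.mkLinearMap p.primeCompl V z = LocalizedModule.mkLinearMap p.primeCompl V (a • y) by
          rw [hzy, map_smul]; rfl)
      refine ⟨c * a, p.primeCompl.mul_mem c.2 ha, ?_⟩
      rw [mul_smul, ← Submonoid.smul_def, ← hc, Submonoid.smul_def]
      exact Submodule.smul_mem _ _ hz
    choose a ha hax using fun i => hspan (x i)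
    choose c hc using fun i => (Submodule.mem_span_range_iff_exists_fun R).1 (hax i)
    have h0 : (∏ i, a i) • F x = 0 := by
      show (∏ i, a i) • F.toMultilinearMap x = 0
      rw [← MultilinearMap.map_smul_univ]
      simp only [← hc]
      rw [MultilinearMap.map_sum]
      refine Finset.sum_eq_zero fun f _ => ?_
      rw [MultilinearMap.map_smul_univ]
      obtain ⟨i, j, hij, hf⟩ := Fintype.exists_ne_map_eq_of_card_lt f (by simp)
      rw [show F.toMultilinearMap (fun i => e (f i)) = 0 from
        F.map_eq_zero_of_eq (fun i => e (f i)) (congrArg e hf) hij, smul_zero]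
    exact (prod_mem fun i _ => ha i : (∏ i, a i) ∈ p.primeCompl) (hle h0)
  simpa using (hT.symm ▸ Submodule.mem_top : (1 : R) ∈ LinearMap.ker (LinearMap.toSpanSingleton R N (F x)))

/-- The annihilator of the top exterior power of a quotient by one element is the ideal of that element. -/
theorem annihilator_extPow_le_iff (hn : ∀ q : PrimeSpectrum R, Module.rankAtStalk V q = n) {M : Type u}
    [AddCommGroup M] [Module R M] (π : V →ₗ[R] M) (hπ : Function.Surjective π) {v : V} (hv : π v = 0)
    (hker : LinearMap.ker π ≤ R ∙ v) (p : Ideal R) [p.IsPrime] :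
    (⋀[R]^n M).annihilator ≤ p ↔ ∀ θ : V →ₗ[R] R, θ v ∈ p := by
  classical
  constructor
  · intro h θ
    refine h ?_
    rw [Submodule.mem_annihilator]
    intro y hy
    suffices key : θ v • LinearMap.id (R := R) (M := ⋀[R]^n M) = 0 by
      exact congrArg Subtype.val (LinearMap.congr_fun key ⟨y, hy⟩)
    refine exteriorPower.linearMap_ext (AlternatingMap.ext fun m => ?_)
    obtain ⟨w, hw⟩ : ∃ w : Fin n → V, (fun i => π (w i)) = m :=
      ⟨fun i => (hπ (m i)).choose, funext fun i => (hπ (m i)).choose_spec⟩
    let G : V [⋀^Fin n]→ₗ[R] ⋀[R]^n M := (exteriorPower.ιMulti R n).compLinearMap π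
    have h0 := alternating_eq_zero hn (AlternatingMap.alternatizeUncurryFin (θ.smulRight G)) (Fin.cons v w)
    rw [AlternatingMap.alternatizeUncurryFin_apply, Fin.sum_univ_succ, Finset.sum_eq_zero (fun i _ => ?_),
      add_zero] at h0
    · simp [G, Fin.removeNth_zero] at h0
      subst hw
      simpa using h0
    · have : NeZero n := NeZero.of_pos i.pos
      show _ • (θ.smulRight G _) _ = 0
      rw [LinearMap.smulRight_apply, AlternatingMap.smul_apply]
      show _ • _ • (exteriorPower.ιMulti R n) (π ∘ (Fin.removeNth (α := fun _ => V) i.succ (Fin.cons v w))) = 0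
      rw [AlternatingMap.map_coord_zero _ (0 : Fin n) ?_, smul_zero, smul_zero]
      rw [Function.comp_apply, Fin.removeNth_apply, Fin.succ_succAbove_zero, Fin.cons_zero, hv]
  · intro hθ s hs
    by_contra hsp
    obtain ⟨b, e, t, he⟩ := exists_local_frame hn p
    let κ := IsLocalRing.ResidueField (Localization.AtPrime p)
    let L : V →ₗ[R] (Fin n → κ) := LinearMap.pi fun i =>
      (Algebra.linearMap (Localization.AtPrime p) κ).restrictScalars R ∘ₗ (b.coord i).restrictScalars R ∘ₗ
        LocalizedModule.mkLinearMap p.primeCompl V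
    have hLv : L v = 0 := by
      obtain ⟨m, f, g, -, -, hfg⟩ := Module.Finite.exists_comp_eq_id_of_projective R V
      have : v = ∑ j, g v j • f (Pi.single j 1) := by
        conv_lhs => rw [show v = f (g v) from (LinearMap.congr_fun hfg v).symm, ← Finset.univ_sum_single (g v)]
        rw [map_sum]
        refine Finset.sum_congr rfl fun j _ => ?_
        rw [← map_smul, ← Pi.single_smul, smul_eq_mul, mul_one]
      rw [this, map_sum]
      refine Finset.sum_eq_zero fun j _ => ?_
      have hj : algebraMap R κ (g v j) = 0 := by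
        rw [IsScalarTower.algebraMap_apply R (Localization.AtPrime p) κ]
        exact (IsLocalRing.residue_eq_zero_iff _).2
          ((IsLocalization.AtPrime.to_map_mem_maximal_iff (Localization.AtPrime p) p _).2 (hθ ((LinearMap.proj j) ∘ₗ g)))
      funext i
      rw [map_smul, Pi.smul_apply, Algebra.smul_def, hj, zero_mul]
      rfl
    have hkerL : LinearMap.ker π ≤ LinearMap.ker L :=
      hker.trans ((Submodule.span_singleton_le_iff_mem _ _).2 hLv)
    let L' : M →ₗ[R] (Fin n → κ) :=
      (LinearMap.ker π).liftQ L hkerL ∘ₗ (π.quotKerEquivOfSurjective hπ).symm.toLinearMap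
    have hL' : ∀ y, L' (π y) = L y := fun y => by
      show (LinearMap.ker π).liftQ L hkerL ((π.quotKerEquivOfSurjective hπ).symm (π y)) = L y
      rw [show (π.quotKerEquivOfSurjective hπ).symm (π y) = Submodule.Quotient.mk y from
        (LinearEquiv.symm_apply_eq _).2 rfl]
      rfl
    let D : (Fin n → κ) [⋀^Fin n]→ₗ[R] κ :=
      { (Matrix.detRowAlternating (R := κ) (n := Fin n)).toMultilinearMap.restrictScalars R with
        map_eq_zero_of_eq' := fun v i j h hij => Matrix.detRowAlternating.map_eq_zero_of_eq v h hij }
    let Φ := exteriorPower.alternatingMapLinearEquiv (D.compLinearMap L')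
    have h1 := Submodule.mem_annihilator.1 hs _ (exteriorPower.ιMulti R n fun i => π (e i)).2
    have h2 : algebraMap R κ s * Matrix.det (Matrix.of fun i => L (e i)) = 0 := by
      rw [← Algebra.smul_def]
      have h3 := congrArg Φ (show s • (exteriorPower.ιMulti R n fun i => π (e i)) = 0 from Subtype.ext h1)
      rw [map_smul, map_zero, exteriorPower.alternatingMapLinearEquiv_apply_ιMulti] at h3
      refine Eq.trans ?_ h3
      show s • Matrix.det (Matrix.of fun i => L (e i)) = s • Matrix.det (fun i => L' (π (e i)))
      simp only [hL']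
      rfl
    have hres : ∀ a ∈ p.primeCompl, algebraMap R κ a ≠ 0 := fun a ha => by
      rw [IsScalarTower.algebraMap_apply R (Localization.AtPrime p) κ]
      exact fun h => ha ((IsLocalization.AtPrime.to_map_mem_maximal_iff (Localization.AtPrime p) p _).1
        ((IsLocalRing.residue_eq_zero_iff _).1 h))
    have h4 : (Matrix.of fun i => L (e i)) = Matrix.diagonal fun i => algebraMap R κ (t i) := by
      ext i j
      show algebraMap (Localization.AtPrime p) κ (b.coord j (LocalizedModule.mkLinearMap p.primeCompl V (e i))) = _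
      rw [he, map_smul, Module.Basis.coord_apply, Module.Basis.repr_self, Matrix.diagonal_apply,
        Finsupp.single_apply, smul_eq_mul]
      by_cases h : i = j <;> simp [h, ← IsScalarTower.algebraMap_apply]
    rw [h4, Matrix.det_diagonal] at h2
    rcases mul_eq_zero.1 h2 with h | h
    · exact hres s hsp h
    · obtain ⟨i, -, hi⟩ := Finset.prod_eq_zero_iff.1 h
      exact hres _ (t i).2 hi

end Abstract

/-- Let A → B be a smooth ring map with Ω_{B/A} of rank n at every prime of B, g ∈ B a nonzerodivisor
and R = B/gB, so that Spec R is a hypersurface of virtual relative dimension n − 1 over Spec A. Let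
J ⊆ R be the annihilator of the n-th exterior power of Ω_{R/A} and Z = V(J) ⊆ Spec R. Then the
underlying set of Z is exactly the set of primes at which R is not smooth over A: for a prime p of
R, J ⊆ p if and only if the localization R_p is not formally smooth over A. -/
theorem result (A B R : Type u) [CommRing A] [CommRing B] [CommRing R]
    [Algebra A B] [Algebra B R] [Algebra A R] [IsScalarTower A B R] [Algebra.Smooth A B] (n : ℕ)
    (hn : ∀ p : PrimeSpectrum B, Module.rankAtStalk (Ω[B⁄A]) p = n)
    (g : B) (hg : IsSMulRegular B g) (hsurj : Function.Surjective (algebraMap B R))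
    (hker : RingHom.ker (algebraMap B R) = Ideal.span {g}) (p : PrimeSpectrum R) :
    (⋀[R]^n (Ω[R⁄A])).annihilator ≤ p.asIdeal ↔ p ∉ Algebra.smoothLocus A R := by
  classical
  let P : Algebra.Extension.{u} A R := Groth.Ega41Jac.extOfSurjective (A := A) hsurj
  have : Algebra.FormallySmooth A P.Ring := inferInstanceAs (Algebra.FormallySmooth A B)
  have : Module.Finite B (RingHom.ker (algebraMap B R)).Cotangent := by
    have : Module.Finite B (RingHom.ker (algebraMap B R)) :=
      Module.Finite.iff_fg.2 (hker ▸ ⟨{g}, by simp⟩)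
    exact Module.Finite.of_surjective _ (Ideal.toCotangent_surjective _)
  have := Groth.Ega41Jac.finite_cotangent (A := A) hsurj
  have : Module.Finite P.Ring Ω[P.Ring⁄A] := inferInstanceAs (Module.Finite B Ω[B⁄A])
  have : Module.Projective P.Ring Ω[P.Ring⁄A] := inferInstanceAs (Module.Projective B Ω[B⁄A])
  have hgP : g ∈ P.ker := show g ∈ RingHom.ker (algebraMap B R) from hker ▸ Ideal.mem_span_singleton_self g
  let γ : P.Cotangent := Algebra.Extension.Cotangent.mk ⟨g, hgP⟩
  have hrank : ∀ q : PrimeSpectrum R, Module.rankAtStalk P.CotangentSpace q = n := fun q =>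
    (Module.rankAtStalk_baseChange (R := B) (M := Ω[B⁄A]) q).trans (hn _)
  have hbij : Function.Bijective (LinearMap.toSpanSingleton R P.Cotangent γ) := by
    constructor
    · rw [injective_iff_map_eq_zero]
      intro r hr
      obtain ⟨b, rfl⟩ := hsurj r
      rw [LinearMap.toSpanSingleton_apply] at hr
      have h1 : b • γ = 0 := (algebraMap_smul (R := P.Ring) R b γ).symm.trans hr
      rw [← map_smul, Algebra.Extension.Cotangent.mk_eq_zero_iff] at h1
      have h1 : b * g ∈ (RingHom.ker (algebraMap B R)) ^ 2 := h1
      rw [hker, Ideal.span_singleton_pow, Ideal.mem_span_singleton'] at h1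
      obtain ⟨c, hc⟩ := h1
      have : b = c * g := hg (show g • b = g • (c * g) by
        simp only [smul_eq_mul]
        calc g * b = b * g := mul_comm _ _
          _ = c * g ^ 2 := hc.symm
          _ = g * (c * g) := by ring)
      rw [← RingHom.mem_ker, hker, Ideal.mem_span_singleton']
      exact ⟨c, this.symm⟩
    · intro y
      obtain ⟨⟨z, hz⟩, rfl⟩ := Algebra.Extension.Cotangent.mk_surjective y
      obtain ⟨c, rfl⟩ := Ideal.mem_span_singleton'.1 (show z ∈ Ideal.span {g} from hker ▸ hz)
      refine ⟨algebraMap B R c, ?_⟩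
      rw [LinearMap.toSpanSingleton_apply, show algebraMap B R c • γ = c • γ from algebraMap_smul (R := P.Ring) R c γ,
        ← map_smul]
      rfl
  let e := LinearEquiv.ofBijective _ hbij
  have he : e 1 = γ := LinearMap.toSpanSingleton_apply_one R _ γ
  rw [annihilator_extPow_le_iff hrank P.toKaehler P.toKaehler_surjective (v := P.cotangentComplex γ)
    ((P.exact_cotangentComplex_toKaehler _).2 ⟨_, rfl⟩) (fun y hy => by
      obtain ⟨z, rfl⟩ := (P.exact_cotangentComplex_toKaehler y).1 hy
      obtain ⟨r, rfl⟩ := hbij.2 z
      exact Submodule.mem_span_singleton.2 ⟨r, by rw [LinearMap.toSpanSingleton_apply, map_smul]⟩) p.asIdeal]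
  show _ ↔ ¬ Algebra.FormallySmooth A (Localization.AtPrime p.asIdeal)
  rw [Groth.Ega41Jac.formallySmooth_iff_splitBy P p.asIdeal.primeCompl (Localization.AtPrime p.asIdeal)]
  constructor
  · rintro h ⟨a, ha, w, hw⟩
    refine ha ?_
    have h1 := congrArg e.symm (LinearMap.congr_fun hw γ)
    rw [LinearMap.comp_apply, LinearMap.smul_apply, LinearMap.id_apply, map_smul, ← he, e.symm_apply_apply,
      smul_eq_mul, mul_one, he] at h1
    rw [← h1]
    exact h (e.symm.toLinearMap ∘ₗ w)
  · intro h θ
    by_contra hθ
    refine h ⟨_, hθ, e.toLinearMap ∘ₗ θ, LinearMap.ext fun y => ?_⟩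
    obtain ⟨r, rfl⟩ := hbij.2 y
    show e (θ (P.cotangentComplex (r • γ))) = θ (P.cotangentComplex γ) • (r • γ)
    rw [map_smul, map_smul, smul_smul, smul_eq_mul, mul_comm]
    exact LinearMap.toSpanSingleton_apply R _ γ _

end Groth.Agent.S19586
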