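import Groth.Statements.S1959
import Mathlib.RingTheory.IntegralClosure.IsIntegral.Basic
import Mathlib.LinearAlgebra.Charpoly.Basic
import Mathlib.RingTheory.Adjoin.FG
import Mathlib.Algebra.Polynomial.Monic
import Groth.Agent.Hensel1.Pairs
-- import your own Groth.Agent.* helpers here

set_option autoImplicit false
universe u
open Polynomial
open EtAlg

namespace Groth.Agent.S1959

/-- Let I be an ideal of a ring A, A -> B an integral ring map and b an element of B whose image in B/IB
is idempotent. Then there are d ≥ 1 and a monic polynomial f over A with f(b) = 0 whose reduction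
modulo I is x^d (x - 1)^d. -/
theorem result (A B : Type u) [CommRing A] [CommRing B] [Algebra A B]
    [Algebra.IsIntegral A B] (I : Ideal A) (b : B)
    (hb : IsIdempotentElem (Ideal.Quotient.mk (I.map (algebraMap A B)) b)) :
    ∃ (f : A[X]) (d : ℕ), f.Monic ∧ 1 ≤ d ∧ aeval b f = 0 ∧
      f.map (Ideal.Quotient.mk I) = X ^ d * (X - 1) ^ d := by
  classical
  obtain ⟨b₀, hb₀⟩ : ∃ _ : Unit, b * b - b ∈ I.map (algebraMap A B) :=
    ⟨(), Ideal.Quotient.eq.1 (by rw [map_mul]; exact hb)⟩
  clear hb
  have hb := hb₀
  obtain ⟨c, hc⟩ := (Finsupp.mem_span_iff_linearCombination B _ _).mp hb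
  let T : Set B := insert b (c '' ↑c.support)
  have hT : T.Finite := (c.support.finite_toSet.image _).insert _
  let B' : Subalgebra A B := Algebra.adjoin A T
  have hfin : Module.Finite A B' := Module.Finite.iff_fg.mpr
    (fg_adjoin_of_finite hT fun x _ => Algebra.IsIntegral.isIntegral x)
  let b' : B' := ⟨b, Algebra.subset_adjoin (Set.mem_insert _ _)⟩
  have hmem : b' * b' - b' ∈ I • (⊤ : Submodule A B') := by
    let z : B' := ∑ i ∈ c.support.attach,
      (⟨c i.1, Algebra.subset_adjoin (Set.mem_insert_of_mem _ ⟨i.1, i.2, rfl⟩)⟩ : B') *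
        ⟨i.1.1, by
          obtain ⟨a, -, ha⟩ := i.1.2
          exact ha ▸ B'.algebraMap_mem a⟩
    have hz : z = b' * b' - b' := by
      apply Subtype.ext
      simp only [z, AddSubmonoidClass.coe_finset_sum, Subalgebra.coe_mul, Subalgebra.coe_sub, b']
      rw [← hc, Finsupp.linearCombination_apply, Finsupp.sum,
        Finset.sum_attach c.support (fun i => c i * (i : B))]
      simp
    rw [← hz, Ideal.smul_top_eq_map, Submodule.restrictScalars_mem]
    refine Ideal.sum_mem _ fun i _ => Ideal.mul_mem_left _ _ ?_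
    obtain ⟨a, ha, hai⟩ := i.1.2
    convert Ideal.mem_map_of_mem (algebraMap A B') ha using 1
    exact Subtype.ext hai.symm
  obtain ⟨p, hpm, -, hpI, hp0⟩ :=
    LinearMap.exists_monic_and_natDegree_eq_and_coeff_mem_pow_and_aeval_eq_zero A
      (Algebra.lmul A B' (b' * b' - b')) I (by
        rintro _ ⟨x, rfl⟩
        rw [Ideal.smul_top_eq_map, Submodule.restrictScalars_mem] at hmem ⊢
        exact Ideal.mul_mem_right _ _ hmem)
  have hpb : aeval (b * b - b) p = 0 := by
    rw [aeval_algHom_apply] at hp0
    have h0 : aeval (b' * b' - b') p = 0 := by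
      have := DFunLike.congr_fun hp0 1
      simpa using this
    have h1 := congr_arg B'.val h0
    rwa [← aeval_algHom_apply, map_zero] at h1
  have hpmk : p.map (Ideal.Quotient.mk I) = X ^ p.natDegree := by
    ext i
    rw [coeff_map, coeff_X_pow]
    rcases eq_or_ne i p.natDegree with rfl | hi
    · simp [hpm.coeff_natDegree]
    rw [if_neg hi, Ideal.Quotient.eq_zero_iff_mem]
    rcases lt_or_gt_of_ne hi with h | h
    · exact Ideal.pow_le_self (by omega) (hpI i)
    · rw [Polynomial.coeff_eq_zero_of_natDegree_lt h]; exact I.zero_mem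
  refine ⟨(X * p).comp (X * X - X), p.natDegree + 1, ?_, by omega, ?_, ?_⟩
  · rcases subsingleton_or_nontrivial A with hA | hA
    · exact monic_of_subsingleton _
    have h2 : (X * X - X : A[X]).Monic := by
      refine (monic_X.mul monic_X).sub_of_left ?_
      rw [← pow_two, degree_X_pow, degree_X]
      norm_num
    exact (monic_X.mul hpm).comp h2 (by
      rw [natDegree_sub_eq_left_of_natDegree_lt] <;> simp [← pow_two])
  · rw [aeval_comp, map_mul, map_sub, map_mul, aeval_X, aeval_X, hpb, mul_zero]
  · rw [Polynomial.map_comp, Polynomial.map_mul, Polynomial.map_sub, Polynomial.map_mul, map_X, hpmk]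
    simp only [mul_comp, X_comp, pow_comp]
    rw [show (X * X - X : (A ⧸ I)[X]) = X * (X - 1) by ring, mul_pow]
    ring

end Groth.Agent.S1959
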