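import Groth.Statements.S19591
import Mathlib.Tactic
import Mathlib.LinearAlgebra.FiniteDimensional.Lemmas
import Mathlib.FieldTheory.Perfect
-- import your own Groth.Agent.* helpers here

set_option autoImplicit false
universe u v
open BddFin

namespace Groth.Agent.S19591

/-- Let K be a perfect field of characteristic 2, V a finite-dimensional K-vector space with dim V > 2
and q a quadratic form on V whose polar bilinear form is non-degenerate. Then q represents zero
non-trivially. (Non-degeneracy of the polar form, which is alternating in characteristic 2, forces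
dim V to be even, as the published lemma notes.) -/
theorem result
    (K : Type u) [Field K] [CharP K 2] [PerfectField K]
    (V : Type v) [AddCommGroup V] [Module K V] [FiniteDimensional K V]
    (hV : 2 < Module.finrank K V) (q : QuadraticForm K V)
    (hq : (QuadraticMap.polarBilin q).Nondegenerate) :
    ∃ v : V, v ≠ 0 ∧ q v = 0 := by
  obtain ⟨v, hv⟩ : ∃ v : V, v ≠ 0 := by
    haveI : Nontrivial V := Module.nontrivial_of_finrank_pos (R := K) (by omega)
    exact exists_ne 0
  by_cases hqv : q v = 0
  · exact ⟨v, hv, hqv⟩
  have hk : 2 ≤ Module.finrank K (LinearMap.ker (QuadraticMap.polarBilin q v)) := by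
    have h1 := (QuadraticMap.polarBilin q v).finrank_range_add_finrank_ker
    have h2 : Module.finrank K (LinearMap.range (QuadraticMap.polarBilin q v)) ≤ 1 :=
      (Submodule.finrank_le _).trans (Module.finrank_self K).le
    omega
  obtain ⟨w, hw, hwv⟩ := SetLike.not_le_iff_exists.mp
    (fun hle : LinearMap.ker (QuadraticMap.polarBilin q v) ≤ K ∙ v => by
      have h1 := Submodule.finrank_mono hle
      have h2 : Module.finrank K (K ∙ v) = 1 := finrank_span_singleton hv
      omega)
  rw [LinearMap.mem_ker, QuadraticMap.polarBilin_apply_apply] at hw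
  obtain ⟨a, ha⟩ := (frobeniusEquiv K 2).surjective (q w)
  obtain ⟨b, hb⟩ := (frobeniusEquiv K 2).surjective (q v)
  rw [frobeniusEquiv_def] at ha hb
  have hb0 : b ≠ 0 := by rintro rfl; exact hqv (by rw [← hb]; simp)
  refine ⟨a • v + b • w, ?_, ?_⟩
  · intro h
    apply hwv
    refine Submodule.mem_span_singleton.mpr ⟨-(b⁻¹ * a), ?_⟩
    have h' : b • w = -(a • v) := eq_neg_of_add_eq_zero_right h
    calc (-(b⁻¹ * a)) • v = b⁻¹ • -(a • v) := by rw [smul_neg, smul_smul, neg_smul]
      _ = w := by rw [← h', inv_smul_smul₀ hb0]
  · rw [QuadraticMap.map_add q (a • v) (b • w), QuadraticMap.map_smul, QuadraticMap.map_smul,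
      QuadraticMap.polar_smul_left, QuadraticMap.polar_smul_right, hw]
    simp only [smul_eq_mul, mul_zero, add_zero]
    rw [← pow_two, ← pow_two, ha, hb, mul_comm]
    exact CharTwo.add_self_eq_zero _

end Groth.Agent.S19591
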