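import Groth.Statements.S19593
import Groth.Agent.RelVA.PnData
import Mathlib

set_option autoImplicit false
universe u
open CategoryTheory AlgebraicGeometry
open PicF

namespace Groth.Agent.S19593

/-- Let k be an infinite field, Y a scheme proper over k with a relatively very ample O_Y-module A (the
pullback of O(1) along an immersion of Y into the Proj of a symmetric algebra over k), and y_1, …,
y_m finitely many points of Y. Then some global section of A generates A at every y_i. (The
published statement takes Y projective over k and A a very ample line bundle; here Y is proper over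
k and A very ample relative to Y → Spec k, which makes Y projective.) -/
theorem result
    (k : Type u) [Field k] [Infinite k] (Y : Scheme.{u}) (f : Y ⟶ Spec (CommRingCat.of k)) [IsProper f]
    (A : Y.Modules) (hA : RelProj.IsRelVeryAmple f A)
    (ι : Type) [Finite ι] (y : ι → ↥Y) :
    ∃ s : Coh.structureModule Y ⟶ A, ∀ i : ι, y i ∈ CohB1.genLocus A s := by
  open Groth.PropsBasic.Ample Groth.PicAux Groth.RelVA in
  classical
  have hL : PicF.IsInvertible A := by
    obtain ⟨E, hE, σ, hσ⟩ := exists_isEmb hA
    rw [isInvertible_iff_exists_gen]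
    intro z
    obtain ⟨e, he⟩ := exists_genLoc_of_hepi (IsEmb.hepi σ hσ) ⊤
      (isAffineOpen_top (Spec (CommRingCat.of k))) (z := z) trivial
    exact ⟨σ.genLoc ⊤ e, _, he, σ.gen_genLoc ⊤ e⟩
  obtain ⟨m, s, hs⟩ := hasPnData_of_isRelVeryAmple (q := f) hL hA
  let φ : k →+* Γ(Y, ⊤) := ((Scheme.ΓSpecIso (CommRingCat.of k)).inv ≫ f.appTop).hom
  letI : Module k Γ(A, ⊤) := Module.compHom _ φ
  let S : (Fin (m + 1) → k) →ₗ[k] Γ(A, ⊤) := Fintype.linearCombination k s
  -- the combinations failing to generate at a given point form a proper subspace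
  have hK : ∀ i, ∃ K : Submodule k (Fin (m + 1) → k), K ≠ ⊤ ∧
      ∀ c, c ∉ K → y i ∈ gloc (S c) := by
    intro i
    obtain ⟨j, hj, -⟩ := hs (y i)
    have he := gen_gloc (s j) (le_refl (gloc (s j)))
    have hlin : ∀ t : Γ(A, ⊤), ∃ r : Γ(Y, gloc (s j)),
        res A (le_top : gloc (s j) ≤ ⊤) t = r • res A le_top (s j) := fun t => by
      obtain ⟨r, hr⟩ := he.exists_coeff le_rfl (res A le_top t)
      rw [res_self] at hr
      exact ⟨r, hr⟩
    choose r hr using hlin
    let ev := (Y.evaluation (gloc (s j)) (y i) hj).hom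
    have h1 : ∀ t, y i ∈ gloc t ↔ ev (r t) ≠ 0 := fun t => by
      rw [Scheme.evaluation_ne_zero_iff_mem_basicOpen, ← gloc_inf_eq_basicOpen he (hr t)]
      exact ⟨fun h => ⟨h, hj⟩, fun h => h.1⟩
    have hadd : ∀ a b, r (a + b) = r a + r b := fun a b =>
      he.smul_inj le_rfl (by rw [res_self, add_smul, ← hr, ← hr, ← hr, res_add])
    have hsmul : ∀ (c : k) (a), r (c • a) =
        resX Y (le_top : gloc (s j) ≤ ⊤) (φ c) * r a := fun c a =>
      he.smul_inj le_rfl (by
        rw [res_self, ← hr, mul_smul, ← hr]
        exact res_smul _ _ _)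
    refine ⟨{ carrier := {c | ev (r (S c)) = 0}
              add_mem' := fun {a b} ha hb => ?_
              zero_mem' := ?_
              smul_mem' := fun c a ha => ?_ }, fun h => ?_, fun c hc => (h1 _).2 hc⟩
    · simp only [Set.mem_setOf_eq] at ha hb ⊢
      rw [map_add, hadd, map_add, ha, hb, add_zero]
    · simp only [Set.mem_setOf_eq, map_zero]
      have := hadd 0 0
      rw [add_zero] at this
      rw [left_eq_add.1 this, map_zero]
    · simp only [Set.mem_setOf_eq] at ha ⊢
      rw [map_smul, hsmul, map_mul, ha, mul_zero]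
    · have hj' : (Pi.single j (1 : k) : Fin (m + 1) → k) ∈ (⊤ : Submodule k (Fin (m + 1) → k)) :=
        trivial
      rw [← h] at hj'
      have hSj : S (Pi.single j (1 : k)) = s j := by
        rw [Fintype.linearCombination_apply_single, one_smul]
      exact (h1 (s j)).1 hj ((congrArg (fun t => ev (r t)) hSj).symm.trans hj')
  choose K hK hKy using hK
  obtain ⟨c, hc⟩ := Submodule.exists_forall_notMem_of_forall_ne_top K hK
  exact ⟨homOfSection (S c), fun i => hKy i c (hc i)⟩

end Groth.Agent.S19593
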