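import Groth.Statements.S19596
import Groth.Agent.NodeRing.Length

set_option autoImplicit false
universe u
open ArLef ArLef.NodeAlg

namespace Groth.Agent.S19596

/-- In the cases where σ fixes the two branches through the point, these lie on different components,
and the second branch lies in the divisorial part of the fixed locus with multiplicity i₂ strictly
between 0 and j while the first has multiplicity i₁ ≤ i₂, let B be a discrete valuation ring with
uniformizer π, N = B[[t, e]]/(te - π) the complete local ring of a semi-stable arithmetic surface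
over B at a singular point x of the closed fibre, and σ a ring automorphism of N with σ(π) = π + γ
π^j (γ a unit of B, j ≥ 1) and σ(c) - c ∈ π^j N for all c ∈ B. Suppose σ(t) = α t and σ(e) = β e
with units α, β, and α - 1 = t^{i₁} e^{i₂} a, β - 1 = t^{i₁} e^{i₂} b with i₁ ≤ i₂, 0 < i₂ < j, e
not dividing a and t not dividing b. Then, I being the fixed-point ideal of σ, whose divisorial part
near x is t^{i₁} e^{i₂}, the residual fixed-point scheme with ideal (I : t^{i₁} e^{i₂}) has length 1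
+ (j - i₁)·Leng N/(t, b) + (j - i₂)·Leng N/(e, a) at x; here Leng N/(t, b) + i₂ + 1 and Leng N/(e,
a) + i₁ + 1 are the orders at x of the derivations σ induces on the two components (the fixed-point
multiplicities when the component is outside the divisorial part). -/
theorem result (B : Type u) [CommRing B] [IsDomain B] [IsDiscreteValuationRing B] (π : B) (hπ : Irreducible π)
    (j i₁ i₂ : ℕ) (h12 : i₁ ≤ i₂) (h2 : 0 < i₂) (h2j : i₂ < j) (γ : B) (hγ : IsUnit γ)
    (σ : ArLef.NodeAlg B π ≃+* ArLef.NodeAlg B π)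
    (hσB : ∀ c : B, σ (algebraMap B (ArLef.NodeAlg B π) c) - algebraMap B (ArLef.NodeAlg B π) c ∈
      Ideal.span ({algebraMap B (ArLef.NodeAlg B π) (π ^ j)} : Set (ArLef.NodeAlg B π)))
    (hσπ : σ (algebraMap B (ArLef.NodeAlg B π) π) = algebraMap B (ArLef.NodeAlg B π) (π + γ * π ^ j))
    (α β : (ArLef.NodeAlg B π)ˣ) (ht : σ (ArLef.NodeAlg.t π) = (α : ArLef.NodeAlg B π) * ArLef.NodeAlg.t π) (he : σ (ArLef.NodeAlg.e π) = (β : ArLef.NodeAlg B π) * ArLef.NodeAlg.e π)
    (a b : ArLef.NodeAlg B π) (ha : (α : ArLef.NodeAlg B π) - 1 = ArLef.NodeAlg.t π ^ i₁ * ArLef.NodeAlg.e π ^ i₂ * a) (hb : (β : ArLef.NodeAlg B π) - 1 = ArLef.NodeAlg.t π ^ i₁ * ArLef.NodeAlg.e π ^ i₂ * b)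
    (hea : ¬ (ArLef.NodeAlg.e π ∣ a)) (htb : ¬ (ArLef.NodeAlg.t π ∣ b)) :
    Module.length (ArLef.NodeAlg B π) (ArLef.NodeAlg B π ⧸ (ArLef.fixIdeal σ).colon ({ArLef.NodeAlg.t π ^ i₁ * ArLef.NodeAlg.e π ^ i₂} : Set (ArLef.NodeAlg B π))) =
      1 + ((j - i₁ : ℕ) : ℕ∞) * Module.length (ArLef.NodeAlg B π) (ArLef.NodeAlg B π ⧸ Ideal.span ({ArLef.NodeAlg.t π, b} : Set (ArLef.NodeAlg B π))) +
        ((j - i₂ : ℕ) : ℕ∞) * Module.length (ArLef.NodeAlg B π) (ArLef.NodeAlg B π ⧸ Ideal.span ({ArLef.NodeAlg.e π, a} : Set (ArLef.NodeAlg B π))) := by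
  have hdom := Groth.NodeRing.node_isDomain hπ
  have hloc := Groth.NodeRing.node_isLocalRing hπ
  have hpt := Groth.NodeRing.prime_t hπ
  have hpe := Groth.NodeRing.prime_e hπ
  have hj : 1 ≤ j := by omega
  have hrel := Groth.NodeRing.mul_sub_one hπ hj hσπ ht he
  set g := algebraMap B (ArLef.NodeAlg B π) γ
  have hg : IsUnit g := hγ.map _
  set t := ArLef.NodeAlg.t π
  set e := ArLef.NodeAlg.e π
  set c := t ^ i₁ * e ^ i₂ with hcdef
  have hc : c ≠ 0 := mul_ne_zero (pow_ne_zero _ hpt.ne_zero) (pow_ne_zero _ hpe.ne_zero)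
  have hI : ArLef.fixIdeal σ = Ideal.span {c} * Ideal.span {a * t, b * e} := by
    rw [Groth.NodeRing.fixIdeal_eq hπ hj hγ hσB hσπ ht he, ha, hb, Ideal.span_mul_span',
      Set.singleton_mul, Set.image_insert_eq, Set.image_singleton]
    refine congrArg Ideal.span (congrArg₂ (fun x y => ({x, y} : Set (ArLef.NodeAlg B π))) ?_ ?_) <;>
      simp only [c, t, e] <;> ring
  rw [hI, Groth.NodeRing.colon_mul hc]
  obtain ⟨m, hm⟩ : ∃ m, j - 1 = i₁ + m := ⟨j - 1 - i₁, by omega⟩
  obtain ⟨l, hl⟩ : ∃ l, j - 1 = i₂ + l := ⟨j - 1 - i₂, by omega⟩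
  have hab : a + (α : ArLef.NodeAlg B π) * b = g * (t ^ m * e ^ l) := by
    refine mul_left_cancel₀ hc ?_
    rw [mul_pow] at hrel
    nth_rewrite 2 [hl] at hrel
    rw [hm] at hrel
    linear_combination hrel - ha - (α : ArLef.NodeAlg B π) * hb
  rw [show j - i₁ = m + 1 by omega, show j - i₂ = l + 1 by omega]
  change Groth.NodeRing.len (a * t) (b * e) =
    1 + ((m + 1 : ℕ) : ℕ∞) * Groth.NodeRing.len t b + ((l + 1 : ℕ) : ℕ∞) * Groth.NodeRing.len e a
  have htbe : ¬ t ∣ b * e := fun h =>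
    (hpt.dvd_or_dvd h).elim htb (Groth.NodeRing.not_t_dvd_e' hπ)
  have h1 : Groth.NodeRing.len a (b * e) = Groth.NodeRing.len (t ^ m * e ^ (l + 1)) a := by
    rw [Groth.NodeRing.len_comm _ a]
    refine Groth.NodeRing.len_congr ?_
    rw [← Groth.NodeRing.span_pair_add a (b * e) e α.isUnit,
      ← Groth.NodeRing.span_pair_add a (t ^ m * e ^ (l + 1)) 0 hg]
    congr 3
    linear_combination e * hab
  have hta : m = 0 ∨ ¬ t ∣ a := or_iff_not_imp_left.2 fun hm0 h => by
    refine htb ((IsUnit.dvd_mul_left α.isUnit).1 ((dvd_add_right h).1 ?_))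
    rw [hab]
    exact dvd_mul_of_dvd_right (dvd_mul_of_dvd_left (dvd_pow_self _ hm0) _) _
  rw [mul_comm a, Groth.NodeRing.len_prime_mul hpt htbe, mul_comm b, Groth.NodeRing.len_t_e_mul hπ,
    mul_comm _ b, h1, Groth.NodeRing.len_pow_mul hpt m hta, Groth.NodeRing.len_pow hpe hea]
  have h2 : (m : ℕ∞) * Groth.NodeRing.len t a = (m : ℕ∞) * Groth.NodeRing.len t b := by
    rcases Nat.eq_zero_or_pos m with rfl | hm0
    · simp
    · congr 1
      refine (Groth.NodeRing.len_congr ?_).symm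
      rw [← Groth.NodeRing.span_pair_add _ a (-g * t ^ (m - 1) * e ^ l) isUnit_one,
        ← Groth.NodeRing.span_pair_add _ b 0 α.isUnit.neg]
      congr 3
      obtain ⟨p, rfl⟩ : ∃ p, m = p + 1 := ⟨m - 1, by omega⟩
      rw [Nat.add_sub_cancel]
      linear_combination -hab
  rw [h2]
  push_cast
  ring

end Groth.Agent.S19596
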