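import Groth.Statements.S19597
import Groth.Agent.NodeRing.Length

set_option autoImplicit false
universe u
open ArLef ArLef.NodeAlg

namespace Groth.Agent.S19597

/-- In the cases where σ fixes the two branches through the point, these lie on different components,
the second lies in the divisorial part of the fixed locus with the maximal multiplicity j and the
first with multiplicity i₁ < j, let B be a discrete valuation ring with uniformizer π, N = B[[t,
e]]/(te - π) the complete local ring of a semi-stable arithmetic surface over B at a singular point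
x of the closed fibre, and σ a ring automorphism of N with σ(π) = π + γ π^j (γ a unit of B, j ≥ 1)
and σ(c) - c ∈ π^j N for all c ∈ B. Suppose σ(t) = α t and σ(e) = β e with units α, β, that α - 1 =
t^{i₁} e^j a and β - 1 = t^{i₁} e^{j-1} b with i₁ < j and t not dividing b. Then, I being the
fixed-point ideal of σ, whose divisorial part near x is t^{i₁} e^j, the length l of the residual
fixed-point scheme with ideal (I : t^{i₁} e^j) satisfies l + (j - 1 - i₁) = (j - i₁)·Leng N/(t, b);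
for i₁ = 0, Leng N/(t, b) + j is the fixed-point multiplicity s₁ of σ at x on the first component
and l = j (s₁ - j - 1) + 1. -/
theorem result (B : Type u) [CommRing B] [IsDomain B] [IsDiscreteValuationRing B] (π : B) (hπ : Irreducible π)
    (j i₁ : ℕ) (h1 : i₁ < j) (γ : B) (hγ : IsUnit γ)
    (σ : ArLef.NodeAlg B π ≃+* ArLef.NodeAlg B π)
    (hσB : ∀ c : B, σ (algebraMap B (ArLef.NodeAlg B π) c) - algebraMap B (ArLef.NodeAlg B π) c ∈
      Ideal.span ({algebraMap B (ArLef.NodeAlg B π) (π ^ j)} : Set (ArLef.NodeAlg B π)))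
    (hσπ : σ (algebraMap B (ArLef.NodeAlg B π) π) = algebraMap B (ArLef.NodeAlg B π) (π + γ * π ^ j))
    (α β : (ArLef.NodeAlg B π)ˣ) (ht : σ (ArLef.NodeAlg.t π) = (α : ArLef.NodeAlg B π) * ArLef.NodeAlg.t π) (he : σ (ArLef.NodeAlg.e π) = (β : ArLef.NodeAlg B π) * ArLef.NodeAlg.e π)
    (a b : ArLef.NodeAlg B π) (ha : (α : ArLef.NodeAlg B π) - 1 = ArLef.NodeAlg.t π ^ i₁ * ArLef.NodeAlg.e π ^ j * a) (hb : (β : ArLef.NodeAlg B π) - 1 = ArLef.NodeAlg.t π ^ i₁ * ArLef.NodeAlg.e π ^ (j - 1) * b)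
    (htb : ¬ (ArLef.NodeAlg.t π ∣ b)) :
    Module.length (ArLef.NodeAlg B π) (ArLef.NodeAlg B π ⧸ (ArLef.fixIdeal σ).colon ({ArLef.NodeAlg.t π ^ i₁ * ArLef.NodeAlg.e π ^ j} : Set (ArLef.NodeAlg B π))) + ((j - 1 - i₁ : ℕ) : ℕ∞) =
      ((j - i₁ : ℕ) : ℕ∞) * Module.length (ArLef.NodeAlg B π) (ArLef.NodeAlg B π ⧸ Ideal.span ({ArLef.NodeAlg.t π, b} : Set (ArLef.NodeAlg B π))) := by
  have hdom := Groth.NodeRing.node_isDomain hπ
  have hloc := Groth.NodeRing.node_isLocalRing hπ
  have hpt := Groth.NodeRing.prime_t hπ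
  have hpe := Groth.NodeRing.prime_e hπ
  have hj : 1 ≤ j := by omega
  have hrel := Groth.NodeRing.mul_sub_one hπ hj hσπ ht he
  set g := algebraMap B (ArLef.NodeAlg B π) γ
  have hg : IsUnit g := hγ.map _
  set t := ArLef.NodeAlg.t π
  set e := ArLef.NodeAlg.e π
  set c := t ^ i₁ * e ^ j with hcdef
  have hc : c ≠ 0 := mul_ne_zero (pow_ne_zero _ hpt.ne_zero) (pow_ne_zero _ hpe.ne_zero)
  have hej : e ^ j = e ^ (j - 1) * e := by rw [← pow_succ, Nat.sub_add_cancel hj]
  have hI : ArLef.fixIdeal σ = Ideal.span {c} * Ideal.span {a * t, b} := by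
    rw [Groth.NodeRing.fixIdeal_eq hπ hj hγ hσB hσπ ht he, ha, hb, Ideal.span_mul_span',
      Set.singleton_mul, Set.image_insert_eq, Set.image_singleton]
    refine congrArg Ideal.span (congrArg₂ (fun x y => ({x, y} : Set (ArLef.NodeAlg B π))) ?_ ?_)
    · simp only [c, t, e]; ring
    · rw [hcdef, hej]; simp only [t, e]; ring
  rw [hI, Groth.NodeRing.colon_mul hc]
  obtain ⟨m, hm⟩ : ∃ m, j - 1 = i₁ + m := ⟨j - 1 - i₁, by omega⟩
  have hab : e * a + (α : ArLef.NodeAlg B π) * b = g * t ^ m := by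
    refine mul_left_cancel₀ (mul_ne_zero (pow_ne_zero i₁ hpt.ne_zero) (pow_ne_zero (j - 1) hpe.ne_zero)) ?_
    rw [mul_pow] at hrel
    nth_rewrite 1 [hm] at hrel
    linear_combination hrel - ha - (α : ArLef.NodeAlg B π) * hb + (-(t ^ i₁ * a)) * hej
  rw [show j - 1 - i₁ = m by omega, show j - i₁ = m + 1 by omega]
  change Groth.NodeRing.len (a * t) b + (m : ℕ∞) =
    ((m + 1 : ℕ) : ℕ∞) * Groth.NodeRing.len t b
  have h1 : Groth.NodeRing.len a b = Groth.NodeRing.len (t ^ m) a := by
    rw [Groth.NodeRing.len_comm _ a]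
    refine Groth.NodeRing.len_congr ?_
    rw [← Groth.NodeRing.span_pair_add a b e α.isUnit,
      ← Groth.NodeRing.span_pair_add a (t ^ m) 0 hg]
    congr 3
    linear_combination hab
  rw [mul_comm a, Groth.NodeRing.len_prime_mul hpt htb, h1]
  rcases Nat.eq_zero_or_pos m with rfl | hm0
  · rw [pow_zero, Groth.NodeRing.len_unit isUnit_one]
    simp
  have hta : ¬ t ∣ a := fun h => by
    refine htb ((IsUnit.dvd_mul_left α.isUnit).1 ((dvd_add_right (dvd_mul_of_dvd_right h e)).1 ?_))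
    rw [hab]
    exact dvd_mul_of_dvd_right (dvd_pow_self _ hm0.ne') _
  have h2 : Groth.NodeRing.len t b = 1 + Groth.NodeRing.len t a := by
    rw [← Groth.NodeRing.len_t_e_mul hπ]
    refine Groth.NodeRing.len_congr ?_
    rw [← Groth.NodeRing.span_pair_add _ (e * a) (-g * t ^ (m - 1)) isUnit_one,
      ← Groth.NodeRing.span_pair_add _ b 0 α.isUnit.neg]
    congr 3
    obtain ⟨p, rfl⟩ : ∃ p, m = p + 1 := ⟨m - 1, by omega⟩
    rw [Nat.add_sub_cancel]
    linear_combination -hab
  rw [Groth.NodeRing.len_pow hpt hta, h2]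
  push_cast
  ring

end Groth.Agent.S19597
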