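import Groth.Statements.S19603
import Groth.Agent.GitQuot.Linear
-- import your own Groth.Agent.* helpers here

set_option autoImplicit false
universe u
open GIT

namespace Groth.Agent.S19603

/-- For the whole projective space U = P(V), let k be an algebraically closed field of arbitrary
characteristic and G = Spec A a linearly reductive affine algebraic group acting linearly on affine
ι-space, and let v be a vector. Then some invariant homogeneous polynomial of positive degree is
non-zero at v (the point of v is semistable) if and only if the origin is not in the closure of the
orbit of v. -/
theorem result (k : Type u) [Field k] [IsAlgClosed k]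
    (A : Type u) [CommRing A] [HopfAlgebra k A] [Algebra.FiniteType k A] (hG : HopfRep.IsLinearlyReductive k A)
    (ι : Type u) [Fintype ι] [HopfRep.Comod k A (MvPolynomial ι k)] [GLin.IsCoactAlg k A (MvPolynomial ι k)]
    (hlin : GLin.IsLinear k A ι) (v : ι → k) :
    GLin.IsSemistableVec k A v ↔
      ¬ GLin.InOrbitClosure k A (GLin.vecPt k ι v) (GLin.vecPt k ι (fun _ => (0 : k))) := by
  exact Groth.GitQuot.isSemistableVec_iff hG hlin v

end Groth.Agent.S19603
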