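import Groth.Statements.S19607
import Groth.Agent.StackDM.Lifting
-- import your own Groth.Agent.* helpers here

set_option autoImplicit false
set_option backward.isDefEq.respectTransparency false
set_option backward.isDefEq.respectTransparency.types false
universe u
open AlgSt

namespace Groth.Agent.S19607

open CategoryTheory AlgebraicGeometry in
/-- Let f : 𝒳 → 𝒴 be a functor over (Sch/S) between algebraic stacks for the etale topology which are
locally Noetherian and have separated diagonals over S, with f locally of finite type. Then the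
diagonal of f is unramified (f is DM: diagonal representable by algebraic spaces, locally of finite
type and formally unramified) if and only if for every surjection A → A₀ of Artinian local rings
with kernel a simple module, every x̃ : Spec A → 𝒳 and every 2-automorphism Θ of x̃ which restricts
to the identity over Spec A₀ and maps to the identity under f, Θ is the identity. An automorphism of
a lifting (x̃, β, γ) of an infinitesimal lifting diagram is exactly such a Θ, and every x̃ is a
lifting of the diagram it induces, so this is the criterion 'every automorphism of a lifting is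
trivial'. Separatedness of the diagonals is taken over S, which is equivalent to separatedness of
the absolute diagonals. -/
theorem result (S : Scheme.{u}) (𝒳 𝒴 : AlgSt.Cat S)
    (h𝒳 : AlgSt.IsAlgStack Scheme.etalePrecoverage 𝒳) (h𝒴 : AlgSt.IsAlgStack Scheme.etalePrecoverage 𝒴)
    (hn𝒳 : AlgSt.SmoothLocally (fun T => IsLocallyNoetherian T) 𝒳)
    (hn𝒴 : AlgSt.SmoothLocally (fun T => IsLocallyNoetherian T) 𝒴)
    (hΔ𝒳 : AlgSt.RepByAlgSpWith AlgSp.IsSeparatedMor (FibCat.diag (FibCat.toSelf 𝒳)))
    (hΔ𝒴 : AlgSt.RepByAlgSpWith AlgSp.IsSeparatedMor (FibCat.diag (FibCat.toSelf 𝒴)))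
    (f : 𝒳 ⥤ᵇ 𝒴) (hft : AlgSt.LocQ (AlgSp.LocP @LocallyOfFiniteType) f) :
    AlgSt.IsDMMor f ↔
      ∀ (A A₀ : Type u) [CommRing A] [IsArtinianRing A] [IsLocalRing A] [CommRing A₀] [IsLocalRing A₀]
        (φ : A →+* A₀) (_ : Function.Surjective φ) (_ : IsSimpleModule A (RingHom.ker φ))
        (sA : Spec (CommRingCat.of A) ⟶ S)
        (xt : FibCat.overCat (Over.mk sA) ⥤ᵇ 𝒳) (Θ : xt ≅ xt),
        BasedCategory.whiskerLeft (AlgSt.overMap (Over.homMk (Spec.map (CommRingCat.ofHom φ)) rfl :
            Over.mk (Spec.map (CommRingCat.ofHom φ) ≫ sA) ⟶ Over.mk sA)) Θ.hom =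
          𝟙 (BasedFunctor.comp (AlgSt.overMap (Over.homMk (Spec.map (CommRingCat.ofHom φ)) rfl :
            Over.mk (Spec.map (CommRingCat.ofHom φ) ≫ sA) ⟶ Over.mk sA)) xt) →
        BasedCategory.whiskerRight Θ.hom f = 𝟙 (BasedFunctor.comp xt f) →
        Θ.hom = 𝟙 xt := by
  have hl := Groth.StackDM.repWith_lft_diag' h𝒳.isStack.1 h𝒴.isStack.1 h𝒳.diag h𝒴.diag h𝒳.atlas f
  refine ⟨fun hDM A A₀ _ _ _ _ _ φ hφ _ sA xt Θ h₁ h₂ => ?_, fun h => ?_⟩
  · let i : Over.mk (Spec.map (CommRingCat.ofHom φ) ≫ sA) ⟶ Over.mk sA :=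
      Over.homMk (Spec.map (CommRingCat.ofHom φ)) rfl
    have : Subsingleton ↥(Over.mk sA).left := by
      show Subsingleton (PrimeSpectrum A)
      refine ⟨fun p q => PrimeSpectrum.ext ?_⟩
      have hp : p.asIdeal.IsMaximal := inferInstance
      have hq : q.asIdeal.IsMaximal := inferInstance
      rw [IsLocalRing.eq_maximalIdeal hp, IsLocalRing.eq_maximalIdeal hq]
    have : Surjective i.left := ⟨fun z => ⟨(IsLocalRing.closedPoint A₀ : PrimeSpectrum A₀),
      Subsingleton.elim _ _⟩⟩
    exact Groth.StackDM.functor_of_noInfAut h𝒳.isStack.1 f i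
      (Groth.StackDM.noInfAut_of_isDMMor h𝒳.isStack.1 h𝒴.isStack.1 f hDM i) xt Θ h₁ h₂
  · refine Groth.StackDM.isDMMor_of_noInfAut h𝒳.isStack.1 f hl fun K _ s => ?_
    haveI := Groth.StackDM.isArtinianRing_dual K
    haveI := Groth.StackDM.isLocalRing_dual K
    refine Groth.StackDM.noInfAut_of_functor h𝒳.isStack.1 h𝒴.isStack.1 f _ fun xt Θ h₁ h₂ => ?_
    exact h (TrivSqZeroExt K K) K (TrivSqZeroExt.fstHom K K K).toRingHom
      (fun k => ⟨TrivSqZeroExt.inl k, rfl⟩) (Groth.StackDM.isSimpleModule_ker_dual K) s xt Θ h₁ h₂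

end Groth.Agent.S19607
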