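import Groth.Statements.S19609
-- import your own Groth.Agent.* helpers here

set_option autoImplicit false
universe u
open CartMod

namespace Groth.Agent.S19609

/-- Let p be a prime and u : A → B a ring homomorphism between commutative rings which are complete and
separated for the p-adic topology and have no p-torsion (flat over the p-adic base). If u induces a
bijection A/pA → B/pB (injectivity: u a ∈ pB forces a ∈ pA; surjectivity: every b ∈ B is congruent
to some u a modulo pB), then u is bijective. (The published statement is for a morphism of flat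
p-adic formal schemes over the Witt vectors of a perfect field: if its special fibre is an
isomorphism, so is the morphism; this row is its affine, ring-level case.) -/
theorem result (p : ℕ) [Fact p.Prime]
    {A B : Type u} [CommRing A] [CommRing B]
    [IsAdicComplete (Ideal.span {(p : A)}) A] [IsAdicComplete (Ideal.span {(p : B)}) B]
    (hA : IsSMulRegular A (p : A)) (hB : IsSMulRegular B (p : B)) (u : A →+* B)
    (hinj : ∀ a : A, u a ∈ Ideal.span {(p : B)} → a ∈ Ideal.span {(p : A)})
    (hsurj : ∀ b : B, ∃ a : A, b - u a ∈ Ideal.span {(p : B)}) :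
    Function.Bijective u := by
  have hu : ∀ a, u ((p : A) * a) = (p : B) * u a := fun a => by rw [map_mul, map_natCast]
  have hmemA : ∀ (n : ℕ) (a : A), a ∈ Ideal.span {(p : A)} ^ n ↔ (p : A) ^ n ∣ a := fun n a => by
    rw [Ideal.span_singleton_pow, Ideal.mem_span_singleton]
  refine ⟨?_, ?_⟩
  · rw [injective_iff_map_eq_zero]
    intro a ha
    have : ∀ n, ∀ a, u a = 0 → (p : A) ^ n ∣ a := by
      intro n
      induction n with
      | zero => simp
      | succ n ih =>
        intro a ha
        obtain ⟨a', rfl⟩ := Ideal.mem_span_singleton.1 (hinj a (by simp [ha]))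
        rw [hu] at ha
        have : u a' = 0 := hB (by simpa [smul_eq_mul] using ha)
        rw [pow_succ']
        exact mul_dvd_mul_left _ (ih a' this)
    refine IsHausdorff.haus (I := Ideal.span {(p : A)}) inferInstance a fun n => ?_
    rw [SModEq.zero, smul_eq_mul, Ideal.mul_top, hmemA]
    exact this n a ha
  · intro b
    choose g hg using fun b => hsurj b
    have hg' : ∀ b, ∃ c, b - u (g b) = (p : B) * c := fun b => by
      obtain ⟨c, hc⟩ := Ideal.mem_span_singleton.1 (hg b); exact ⟨c, hc⟩
    choose q hq using hg'
    let s : ℕ → A := fun n => ∑ i ∈ Finset.range n, (p : A) ^ i * g (q^[i] b)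
    have hs : ∀ n, b - u (s n) = (p : B) ^ n * q^[n] b := by
      intro n
      induction n with
      | zero => simp [s]
      | succ n ih =>
        simp only [s, Finset.sum_range_succ, map_add, map_mul, map_pow, map_natCast] at ih ⊢
        rw [← sub_sub, ih, ← mul_sub, hq, Function.iterate_succ_apply', pow_succ]
        ring
    have hcauchy : ∀ {m n}, m ≤ n → s m ≡ s n [SMOD (Ideal.span {(p : A)} ^ m • ⊤ : Submodule A A)] := by
      intro m n hmn
      rw [SModEq.sub_mem, smul_eq_mul, Ideal.mul_top, hmemA]
      simp only [s]
      rw [← Finset.sum_range_add_sum_Ico _ hmn, sub_add_cancel_left, dvd_neg]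
      exact Finset.dvd_sum fun i hi => (pow_dvd_pow _ (Finset.mem_Ico.1 hi).1).mul_right _
    obtain ⟨a, ha⟩ := IsPrecomplete.prec (I := Ideal.span {(p : A)}) inferInstance hcauchy
    refine ⟨a, ?_⟩
    rw [← sub_eq_zero]
    refine IsHausdorff.haus (I := Ideal.span {(p : B)}) inferInstance _ fun n => ?_
    rw [SModEq.zero, smul_eq_mul, Ideal.mul_top, Ideal.span_singleton_pow, Ideal.mem_span_singleton]
    have h1 := ha n
    rw [SModEq.sub_mem, smul_eq_mul, Ideal.mul_top, hmemA] at h1
    have h2 : u a - b = -(u (s n - a)) - (b - u (s n)) := by rw [map_sub]; ring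
    rw [h2]
    refine dvd_sub (dvd_neg.2 ?_) (hs n ▸ dvd_mul_right _ _)
    simpa using map_dvd u h1

end Groth.Agent.S19609
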