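import Groth.Statements.S19611
import Mathlib

set_option autoImplicit false
universe u
open CategoryTheory AlgebraicGeometry
open CartMod

namespace Groth.Agent.S19611

/-- For a prime p and a scheme Y of characteristic p, write Y♭ for the scheme-theoretic image of the
absolute Frobenius F_Y : Y → Y, i.e. the closed subscheme of Y defined by the sections of O_Y whose
p-th power vanishes, and Y → Y♭ for the canonical morphism through which F_Y factors. Then Y → Y♭ is
an epimorphism of schemes: two morphisms g₁, g₂ from Y♭ to a scheme Z with equal composites Y → Y♭ →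
Z are equal. (The published statement is for k-morphisms g₁, g₂ from Y♭ to a k-scheme Z over a
perfect field k of characteristic p, compared after Frobenius twist through Y → (Y♭)'; this row asks
right-cancellation against morphisms to every scheme Z, which is equivalent to it for k-morphisms.) -/
theorem result (p : ℕ) [Fact p.Prime] (Y : Scheme.{u}) [FrobSch.IsCharP Y p] :
    Epi (FrobSch.frob Y p).toImage := by
  haveI : QuasiCompact (FrobSch.frob Y p) := ⟨fun U _ hU => hU⟩
  have hinj : ∀ V, Function.Injective ((FrobSch.frob Y p).toImage.app V) := fun V =>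
    TopCat.Presheaf.app_injective_of_stalkFunctor_map_injective
      (F := (FrobSch.frob Y p).image.sheaf) (FrobSch.frob Y p).toImage.c V
      (fun x _ => (FrobSch.frob Y p).stalkFunctor_toImage_injective x)
  have hmono : ∀ V, Mono ((FrobSch.frob Y p).toImage.app V) := fun V =>
    ConcreteCategory.mono_of_injective _ (hinj V)
  have hsurj : Function.Surjective (FrobSch.frob Y p).toImage.base := fun y =>
    ⟨(FrobSch.frob Y p).imageι.base y, (FrobSch.frob Y p).imageι.isEmbedding.injective (by
      rw [← Scheme.Hom.comp_apply, Scheme.Hom.toImage_imageι]; rfl)⟩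
  refine ⟨fun {Z} g₁ g₂ h => ?_⟩
  have hb : g₁.base = g₂.base := by
    refine TopCat.ext fun y => ?_
    obtain ⟨x, rfl⟩ := hsurj y
    have := congr($(h) x)
    simpa using this
  refine (Scheme.Hom.ext hb.symm fun U => ?_).symm
  haveI := hmono (g₁ ⁻¹ᵁ U)
  rw [← cancel_mono ((FrobSch.frob Y p).toImage.app (g₁ ⁻¹ᵁ U))]
  have e := Scheme.Hom.congr_app h U
  rw [Scheme.Hom.comp_app, Scheme.Hom.comp_app] at e
  rw [Category.assoc, e, Scheme.Hom.naturality]
  exact (Category.assoc _ _ _).symm

end Groth.Agent.S19611
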