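import Groth.Statements.S19612
import Mathlib
import Groth.Agent.CartModH.FlatPow

set_option autoImplicit false
universe u
open scoped TensorProduct
open CartMod

namespace Groth.Agent.S19612

/-- Let k be a perfect field of characteristic p, W = W(k) the ring of Witt vectors of k, and A a
commutative W-algebra which is complete and separated for the p-adic topology (an adic W-algebra).
Then flatness of A over W is equivalent to flatness of A/p^nA = (W/p^nW) ⊗_W A over W/p^nW for every
n ≥ 1. -/
theorem result (p : ℕ) [Fact p.Prime] (k : Type u) [Field k]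
    [CharP k p] [PerfectRing k p] (A : Type u) [CommRing A] [Algebra (WittVector p k) A]
    [IsAdicComplete (Ideal.span {(p : WittVector p k)}) A] :
    Module.Flat (WittVector p k) A ↔
      ∀ n : ℕ, 1 ≤ n →
        Module.Flat (WittVector p k ⧸ (Ideal.span {(p : WittVector p k)} ^ n))
          ((WittVector p k ⧸ (Ideal.span {(p : WittVector p k)} ^ n)) ⊗[WittVector p k] A) := by
  constructor
  · intro h n _
    infer_instance
  · intro h
    have hp : Irreducible (p : WittVector p k) := WittVector.irreducible p
    have hp0 : (p : WittVector p k) ≠ 0 := hp.ne_zero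
    have h0 : ∀ x : A, (p : WittVector p k) • x = 0 → x = 0 := fun x hx =>
      Groth.CartModH.eq_zero_of_flat_mod_pow (p : WittVector p k) (fun y hy => (mul_eq_zero.1 hy).resolve_left hp0)
        (fun n => h (n + 1) (Nat.le_add_left 1 n)) x hx
    haveI : IsDiscreteValuationRing (WittVector p k) := WittVector.isDiscreteValuationRing
    rw [IsDedekindDomain.flat_iff_torsion_eq_bot, eq_bot_iff]
    rintro x ⟨⟨r, hr⟩, hrx⟩
    obtain ⟨m, u, rfl⟩ := IsDiscreteValuationRing.eq_unit_mul_pow_irreducible (nonZeroDivisors.ne_zero hr) hp
    have hm : ∀ (m : ℕ) (x : A), (p : WittVector p k) ^ m • x = 0 → x = 0 := by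
      intro m
      induction m with
      | zero => intro x hx; simpa using hx
      | succ m ih => intro x hx; exact ih x (h0 _ (by rw [smul_smul, ← pow_succ']; exact hx))
    exact hm m x (u.isUnit.smul_eq_zero.1 (by rw [smul_smul]; exact hrx))

end Groth.Agent.S19612
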