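import Groth.Statements.S19616
import Mathlib
import Groth.Agent.AdicLinTop.CompletionQuot
import Groth.Agent.AdicLinTop.CompletionTorsion

set_option autoImplicit false
universe u
open CartMod

namespace Groth.Agent.S19616

/-- Let p be a prime, A a commutative ring which is complete and separated for the p-adic topology and
has no p-torsion, and a_1, …, a_n elements of A (so that (p, a_1, …, a_n) is an open ideal
containing p). Then there is a commutative A-algebra D, complete and separated for the p-adic
topology and without p-torsion, in which each a_i is divisible by p, with the following universal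
property: for every A-algebra B which is p-adically complete and separated, has no p-torsion, and in
which each a_i is divisible by p, there is exactly one A-algebra homomorphism D → B; moreover this
homomorphism is surjective whenever A → B is. (D is the coordinate ring of the dilatation of Spf A
with respect to p along the closed subscheme defined by (p, a_1, …, a_n). The published statement is
for flat p-adic formal schemes locally of finite type over the Witt vectors of a perfect field; this
row is its affine, ring-level case without a finiteness hypothesis.) -/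
theorem result (p : ℕ) [Fact p.Prime]
    (A : Type u) [CommRing A] [IsAdicComplete (Ideal.span {(p : A)}) A]
    (hA : IsSMulRegular A (p : A)) {n : ℕ} (a : Fin n → A) :
    ∃ (D : Type u) (_ : CommRing D) (_ : Algebra A D),
      IsAdicComplete (Ideal.span {(p : D)}) D ∧ IsSMulRegular D (p : D) ∧
      (∀ i, algebraMap A D (a i) ∈ Ideal.span {(p : D)}) ∧
      ∀ (B : Type u) [CommRing B] [Algebra A B] [IsAdicComplete (Ideal.span {(p : B)}) B],
        IsSMulRegular B (p : B) → (∀ i, algebraMap A B (a i) ∈ Ideal.span {(p : B)}) →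
          Nonempty (D →ₐ[A] B) ∧ Subsingleton (D →ₐ[A] B) ∧
            (Function.Surjective (algebraMap A B) → ∀ f : D →ₐ[A] B, Function.Surjective f) := by
  classical
  let gens : Ideal (MvPolynomial (Fin n) A) :=
    Ideal.span (Set.range fun i => (p : MvPolynomial (Fin n) A) * MvPolynomial.X i - MvPolynomial.C (a i))
  let sat : Ideal (MvPolynomial (Fin n) A) :=
    { carrier := {f | ∃ m : ℕ, (p : MvPolynomial (Fin n) A) ^ m * f ∈ gens}
      add_mem' := by
        rintro f g ⟨m, hm⟩ ⟨l, hl⟩
        refine ⟨m + l, ?_⟩
        have e : (p : MvPolynomial (Fin n) A) ^ (m + l) * (f + g) =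
            (p : MvPolynomial (Fin n) A) ^ l * ((p : MvPolynomial (Fin n) A) ^ m * f) +
            (p : MvPolynomial (Fin n) A) ^ m * ((p : MvPolynomial (Fin n) A) ^ l * g) := by ring
        rw [e]
        exact gens.add_mem (gens.mul_mem_left _ hm) (gens.mul_mem_left _ hl)
      zero_mem' := ⟨0, by simp⟩
      smul_mem' := by
        rintro c f ⟨m, hm⟩
        exact ⟨m, by rw [smul_eq_mul, mul_left_comm]; exact gens.mul_mem_left _ hm⟩ }
  let D₀ := MvPolynomial (Fin n) A ⧸ sat
  let I : Ideal D₀ := Ideal.span {(p : D₀)}
  have hI : I.FG := ⟨{(p : D₀)}, by simp [I]⟩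
  have hmap : I.map (algebraMap D₀ (AdicCompletion I D₀)) = Ideal.span {(p : AdicCompletion I D₀)} := by
    rw [Ideal.map_span, Set.image_singleton, map_natCast]
  have hreg₀ : ∀ x : D₀, (p : D₀) • x = 0 → x = 0 := by
    intro x hx
    obtain ⟨f, rfl⟩ := Ideal.Quotient.mk_surjective x
    rw [smul_eq_mul, ← map_natCast (Ideal.Quotient.mk sat), ← map_mul, Ideal.Quotient.eq_zero_iff_mem] at hx
    obtain ⟨m, hm⟩ := hx
    exact Ideal.Quotient.eq_zero_iff_mem.2 ⟨m + 1, by rw [pow_succ, mul_assoc]; exact hm⟩
  have hdiv : ∀ i, algebraMap A D₀ (a i) = (p : D₀) * Ideal.Quotient.mk sat (MvPolynomial.X i) := by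
    intro i
    rw [← map_natCast (Ideal.Quotient.mk sat), ← map_mul, eq_comm]
    exact Ideal.Quotient.eq.2 ⟨0, by rw [pow_zero, one_mul]; exact Ideal.subset_span ⟨i, rfl⟩⟩
  refine ⟨AdicCompletion I D₀, inferInstance, inferInstance, ?_, ?_, fun i => ?_, ?_⟩
  · rw [← hmap]; exact Groth.AdicLinTop.CompletionQuot.isAdicComplete_map I hI
  · intro x y hxy
    refine sub_eq_zero.1 (Groth.AdicLinTop.CompletionTorsion.eq_zero_of_smul_eq_zero hreg₀ (x - y) ?_)
    show (p : D₀) • (x - y) = 0
    rw [Nat.cast_smul_eq_nsmul, nsmul_eq_mul, mul_sub, sub_eq_zero]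
    exact hxy
  · rw [IsScalarTower.algebraMap_apply A D₀ (AdicCompletion I D₀), hdiv, map_mul, map_natCast]
    exact Ideal.mul_mem_right _ _ (Ideal.mem_span_singleton_self _)
  · intro B _ _ _ hB ha
    choose c hc using fun i => Ideal.mem_span_singleton.1 (ha i)
    have hker : ∀ f ∈ sat, MvPolynomial.aeval (R := A) c f = 0 := by
      rintro f ⟨m, hm⟩
      have h0 : gens ≤ RingHom.ker (MvPolynomial.aeval (R := A) c) := by
        rw [Ideal.span_le]
        rintro _ ⟨i, rfl⟩
        simp [hc i]
      have h1 := h0 hm
      rw [RingHom.mem_ker, map_mul, map_pow, map_natCast] at h1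
      exact (hB.pow m) (show (p : B) ^ m • MvPolynomial.aeval (R := A) c f = (p : B) ^ m • 0 by
        simpa using h1)
    let ψ : D₀ →ₐ[A] B := Ideal.Quotient.liftₐ sat (MvPolynomial.aeval c) hker
    obtain ⟨F, hF⟩ := Groth.AdicLinTop.CompletionQuot.exists_lift I (Ideal.span {(p : B)}) ψ.toRingHom
      (by rw [Ideal.map_span, Set.image_singleton, map_natCast])
    let Fa : AdicCompletion I D₀ →ₐ[A] B :=
      { toRingHom := F
        commutes' := fun r => by
          rw [IsScalarTower.algebraMap_apply A D₀ (AdicCompletion I D₀)]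
          exact (RingHom.congr_fun hF (algebraMap A D₀ r)).trans (ψ.commutes r) }
    refine ⟨⟨Fa⟩, ⟨fun f g => ?_⟩, fun hs f b => ?_⟩
    · have h0 : f.comp (IsScalarTower.toAlgHom A D₀ _) = g.comp (IsScalarTower.toAlgHom A D₀ _) := by
        refine Ideal.Quotient.algHom_ext A (MvPolynomial.algHom_ext fun i => hB ?_)
        have key : ∀ φ : AdicCompletion I D₀ →ₐ[A] B,
            (p : B) • (φ.comp (IsScalarTower.toAlgHom A D₀ _)) (Ideal.Quotient.mk sat (MvPolynomial.X i)) =
              algebraMap A B (a i) := by
          intro φ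
          rw [← (φ.comp (IsScalarTower.toAlgHom A D₀ _)).commutes (a i), hdiv i, map_mul, map_natCast, smul_eq_mul]
        exact (key f).trans (key g).symm
      refine AlgHom.ext fun x => sub_eq_zero.1 (IsHausdorff.haus' (I := Ideal.span {(p : B)}) _ fun m => ?_)
      obtain ⟨r, hr⟩ := Groth.AdicLinTop.CompletionQuot.exists_sub_mem I hI m x
      rw [SModEq.zero, smul_eq_mul, Ideal.mul_top]
      have hh : ∀ φ : AdicCompletion I D₀ →ₐ[A] B,
          φ x - φ (algebraMap D₀ _ r) ∈ Ideal.span {(p : B)} ^ m := by
        intro φ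
        rw [← map_sub]
        have := Ideal.mem_map_of_mem φ hr
        rwa [hmap, Ideal.map_pow, Ideal.map_span, Set.image_singleton, map_natCast] at this
      have e : f (algebraMap D₀ _ r) = g (algebraMap D₀ _ r) := AlgHom.congr_fun h0 r
      have := Ideal.sub_mem _ (hh f) (hh g)
      rwa [e, sub_sub_sub_cancel_right] at this
    · obtain ⟨r, rfl⟩ := hs b
      exact ⟨algebraMap A _ r, f.commutes r⟩

end Groth.Agent.S19616
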