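import Groth.Statements.S19618
import Mathlib.RingTheory.Ideal.KrullsHeightTheorem
import Mathlib.RingTheory.Flat.TorsionFree
-- import your own Groth.Agent.* helpers here

set_option autoImplicit false
universe u
open CategoryTheory CategoryTheory.Limits AlgebraicGeometry Opposite TopologicalSpace
open BlowUp

namespace Groth.Agent.S19618

/-- Let X be a locally Noetherian scheme, Y an effective Cartier divisor on X (a quasi-coherent ideal
sheaf which, near every point, is generated on some affine open by one nonzerodivisor; Y is its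
support) and Z a closed integral subscheme (a closed immersion i from an integral scheme with
generic point ξ). If Y and Z intersect properly — every point ζ of Y ∩ Z which is maximal under
generization inside Y ∩ Z satisfies dim O_{X,ζ} = codim(Y,X) + codim(Z,X), where codim(Y,X) is the
infimum over y ∈ Y of dim O_{X,y} and codim(Z,X) = dim O_{X,i(ξ)} — then Z is not contained in Y. -/
theorem result {X Z : Scheme.{u}}
    [IsLocallyNoetherian X] (𝓘 : X.IdealSheafData) (hY : BlowUp.IsEffCartierIdeal 𝓘)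
    (i : Z ⟶ X) [IsClosedImmersion i] [IsIntegral Z]
    (hprop : ∀ ζ : ↥X, ζ ∈ (𝓘.support : Set ↥X) ∩ Set.range i.base →
        (∀ ζ' : ↥X, ζ' ∈ (𝓘.support : Set ↥X) ∩ Set.range i.base → ζ' ⤳ ζ → ζ' = ζ) →
        ringKrullDim ↑(X.presheaf.stalk ζ) =
          (⨅ y : (𝓘.support : Set ↥X), ringKrullDim ↑(X.presheaf.stalk y.1)) +
            ringKrullDim ↑(X.presheaf.stalk (i (genericPoint ↥Z)))) :
    ¬ Set.range i.base ⊆ (𝓘.support : Set ↥X) := by
  intro hsub
  set z₀ := genericPoint ↥Z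
  have hemb : Topology.IsClosedEmbedding i.base := i.isClosedEmbedding
  have hmax : ∀ ζ' : ↥X, ζ' ∈ (𝓘.support : Set ↥X) ∩ Set.range i.base → ζ' ⤳ i z₀ → ζ' = i z₀ := by
    rintro ζ' ⟨_, z, rfl⟩ h
    have h1 : z ⤳ z₀ := hemb.isInducing.specializes_iff.mp h
    have h2 : z₀ ⤳ z := genericPoint_specializes z
    exact congrArg _ (h1.antisymm h2).eq
  have key := hprop (i z₀) ⟨hsub ⟨z₀, rfl⟩, ⟨z₀, rfl⟩⟩ hmax
  set d := ringKrullDim ↑(X.presheaf.stalk (i z₀))
  have hne : ((𝓘.support : Set ↥X)).Nonempty := ⟨_, hsub ⟨z₀, rfl⟩⟩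
  haveI : Nonempty (𝓘.support : Set ↥X) := hne.to_subtype
  have hy1 : ∀ y : (𝓘.support : Set ↥X), (1 : WithBot ℕ∞) ≤ ringKrullDim ↑(X.presheaf.stalk y.1) := by
    rintro ⟨y, hy⟩
    obtain ⟨U, hyU, f, hf, hfI⟩ := hY y
    haveI : IsNoetherianRing (X.presheaf.stalk y) := inferInstance
    letI := (X.presheaf.germ U.1 y hyU).hom.toAlgebra
    haveI := U.2.isLocalization_stalk ⟨y, hyU⟩
    haveI : Module.Flat Γ(X, U.1) (X.presheaf.stalk y) :=
      IsLocalization.flat _ (U.2.primeIdealOf ⟨y, hyU⟩).asIdeal.primeCompl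
    have hnzd : (X.presheaf.germ U.1 y hyU).hom f ∈ nonZeroDivisors (X.presheaf.stalk y) := by
      rw [mem_nonZeroDivisors_iff_right]
      intro x hx
      refine Module.Flat.isSMulRegular_of_nonZeroDivisors (M := X.presheaf.stalk y) hf ?_
      change f • x = f • (0 : X.presheaf.stalk y)
      rw [smul_zero, Algebra.smul_def, mul_comm]
      exact hx
    have hnu : ¬ IsUnit ((X.presheaf.germ U.1 y hyU).hom f) := by
      intro hu
      have h := (Scheme.IdealSheafData.mem_support_iff_of_mem hyU).mp hy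
      rw [hfI, Scheme.zeroLocus_span] at h
      have hb : y ∈ X.basicOpen f := (X.mem_basicOpen f y hyU).mpr hu
      exact (Scheme.mem_zeroLocus_iff X _ y).mp h f rfl hb
    have hh := Ideal.height_span_singleton_eq_one_of_mem_nonZeroDivisors hnzd hnu
    have hle := Ideal.height_le_ringKrullDim_of_ne_top
      (I := Ideal.span {(X.presheaf.germ U.1 y hyU).hom f}) (by simpa [Ideal.span_singleton_eq_top] using hnu)
    rw [hh] at hle
    exact_mod_cast hle
  have h1 : (1 : WithBot ℕ∞) ≤ ⨅ y : (𝓘.support : Set ↥X), ringKrullDim ↑(X.presheaf.stalk y.1) := le_ciInf hy1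
  obtain ⟨n, hn⟩ : ∃ n : ℕ, d = ((n : ℕ∞) : WithBot ℕ∞) := by
    haveI : IsNoetherianRing (X.presheaf.stalk (i z₀)) := inferInstance
    have ht : d ≠ ⊤ := ringKrullDim_ne_top
    have hb : d ≠ ⊥ := ringKrullDim_ne_bot
    obtain ⟨e, he⟩ := WithBot.ne_bot_iff_exists.mp hb
    cases e with
    | top => exact absurd he.symm ht
    | coe n => exact ⟨n, he.symm⟩
  rw [hn] at key
  have hle : (1 : WithBot ℕ∞) + ((n : ℕ∞) : WithBot ℕ∞) ≤ ((n : ℕ∞) : WithBot ℕ∞) := by
    conv_rhs => rw [key]
    gcongr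
  have : (1 : ℕ∞) + (n : ℕ∞) ≤ (n : ℕ∞) := by exact_mod_cast hle
  have : 1 + n ≤ n := by exact_mod_cast this
  omega

end Groth.Agent.S19618
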