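import Groth.Statements.S19620
import Groth.Agent.Misc4.PushRestrict
import Groth.Agent.DerivedAdj.Devissage
import Groth.Agent.DAlg.PCoh
import Groth.Agent.QCohMod.OpenSupport
-- import your own Groth.Agent.* helpers here

set_option autoImplicit false
universe u
open CategoryTheory CategoryTheory.Limits AlgebraicGeometry
attribute [local instance] HasDerivedCategory.standard
open DCoh

namespace Groth.Agent.S19620

/-- Let f : X → Y be a proper morphism of schemes, with Rf_* the total right derived functor of f_* on
the unbounded derived categories of modules (assumed to exist), let Z ⊆ X be a closed subset and E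
an object of D(O_X) whose cohomology sheaves are all supported in Z (every stalk at a point outside
Z is trivial). Then the cohomology sheaves of Rf_*E are supported in the closed subset f(Z) of Y.
(The published statement, made in a setting where all schemes are separated and of finite type over
a regular base, takes f proper and perfect and concludes that Rf_* carries perfect complexes acyclic
outside Z to perfect complexes acyclic outside f(Z); the perfectness of Rf_*E is a separate result,
and the support inclusion, which is what the published proof establishes, holds for every proper f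
and every E and is stated in that generality.) -/
theorem result {X Y : Scheme.{u}} (f : X ⟶ Y) [IsProper f]
    [DCoh.HasRpush f] (Z : Set ↥X) (hZ : IsClosed Z) (E : DCoh.D X)
    (hE : ∀ i : ℤ, CohB1.support (DCoh.HD E i) ⊆ Z) (i : ℤ) :
    CohB1.support (DCoh.HD ((DCoh.Rpush f).obj E) i) ⊆ f.base '' Z := by
  intro y hy
  by_contra hyf
  apply hy
  let V : Y.Opens := ⟨(f.base '' Z)ᶜ, (f.isClosedMap _ hZ).isOpen_compl⟩
  haveI : PreservesFiniteLimits (Scheme.Modules.restrictFunctor V.ι) :=
    Groth.CohBase.preservesFiniteLimits_restrictFunctor V.ι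
  haveI : PreservesFiniteLimits (Scheme.Modules.restrictFunctor (f ⁻¹ᵁ V).ι) :=
    Groth.CohBase.preservesFiniteLimits_restrictFunctor _
  haveI : DCoh.HasRpush (f ∣_ V) :=
    Groth.Misc4.PushRestrict.hasRightDerived (Scheme.Modules.pushforward (f ∣_ V))
  have hU : IsZero ((DCoh.restrictD (f ⁻¹ᵁ V).ι).obj E) := Groth.DAlg.isZero_of_homology fun n => by
    refine IsZero.of_iso ?_ (Groth.DerivedAdj.homologyMapDerivedIso (Scheme.Modules.restrictFunctor (f ⁻¹ᵁ V).ι) E n)
    rw [Groth.QCohMod.isZero_restrict_iff_stalk]
    intro x hx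
    have : Subsingleton ((DCoh.HD E n).presheaf.stalk x) := not_not.mp fun h =>
      hx ⟨x, hE n h, rfl⟩
    exact @AddCommGrpCat.isZero_of_subsingleton _ this
  have h0 : IsZero ((DCoh.Rpush (f ∣_ V)).obj ((DCoh.restrictD (f ⁻¹ᵁ V).ι).obj E)) := by
    obtain ⟨J, hJ⟩ := HasZeroObject.zero (C := CochainComplex (f ⁻¹ᵁ V : Scheme.{u}).Modules ℤ)
    haveI : J.IsKInjective := ⟨fun g _ => ⟨Homotopy.ofEq (hJ.eq_of_tgt _ _)⟩⟩
    haveI := Groth.DerivedCoh.KFlat.isIso_pushUnit_app (f ∣_ V) J
    refine IsZero.of_iso ?_ ((DCoh.Rpush (f ∣_ V)).mapIso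
      (hU.iso (Functor.map_isZero DerivedCategory.Qh
        (Functor.map_isZero (HomotopyCategory.quotient _ (ComplexShape.up ℤ)) hJ))))
    exact IsZero.of_iso (Functor.map_isZero DerivedCategory.Qh (Functor.map_isZero ((Scheme.Modules.pushforward (f ∣_ V)).mapHomotopyCategory (ComplexShape.up ℤ)) (Functor.map_isZero (HomotopyCategory.quotient _ (ComplexShape.up ℤ)) hJ)))
      (asIso (C := DCoh.D (V : Scheme.{u})) (((DCoh.pushKh (f ∣_ V)).totalRightDerivedUnit DerivedCategory.Qh
        (HomotopyCategory.quasiIso _ (ComplexShape.up ℤ))).app ((HomotopyCategory.quotient _ (ComplexShape.up ℤ)).obj J))).symm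
  obtain ⟨α⟩ := Groth.Misc4.PushRestrict.restrictD_Rpush_iso f V
  have h1 : IsZero ((DCoh.restrictD V.ι).obj ((DCoh.Rpush f).obj E)) := h0.of_iso (α.app E)
  have h2 : IsZero ((Scheme.Modules.restrictFunctor V.ι).obj (DCoh.HD ((DCoh.Rpush f).obj E) i)) :=
    (Functor.map_isZero (DerivedCategory.homologyFunctor _ i) h1).of_iso
      (Groth.DerivedAdj.homologyMapDerivedIso (Scheme.Modules.restrictFunctor V.ι) ((DCoh.Rpush f).obj E) i).symm
  exact AddCommGrpCat.subsingleton_of_isZero
    ((Groth.QCohMod.isZero_restrict_iff_stalk _ V).1 h2 y hyf)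

end Groth.Agent.S19620
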