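import Groth.Statements.S19624
import Groth.Agent.Surfaces.DetLength
import Mathlib.LinearAlgebra.Quotient.Pi

set_option autoImplicit false
universe u v
open IntTh

namespace Groth.Agent.S19624

open Groth.Surfaces.DetLength in
lemma ord_eq_addVal {B : Type u} [CommRing B] [IsDomain B] [IsDiscreteValuationRing B] (x : B) :
    Ring.ord B x = IsDiscreteValuationRing.addVal B x := by
  obtain ⟨ϖ, hϖ⟩ := IsDiscreteValuationRing.exists_irreducible B
  by_cases hx : x = 0
  · subst hx
    rw [IsDiscreteValuationRing.addVal_zero, Ring.ord_zero]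
    by_contra h
    have hart := (isFiniteLength_iff_isNoetherian_isArtinian.1 (Module.length_ne_top_iff.1 h)).2
    haveI : IsArtinianRing B := hart
    exact IsDiscreteValuationRing.not_isField B (IsArtinianRing.isField_of_isDomain B)
  · obtain ⟨n, u, rfl⟩ := IsDiscreteValuationRing.eq_unit_mul_pow_irreducible hx hϖ
    rw [IsDiscreteValuationRing.addVal_def' u hϖ n, Ring.ord_mul_of_isUnit_left u.isUnit,
      Ring.ord_pow (mem_nonZeroDivisors_of_ne_zero hϖ.ne_zero), Ring.ord_of_irreducible hϖ]
    simp

/-- Let B be a discrete valuation ring with its normalised additive valuation v (so v(0) = ∞) and ω a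
ring automorphism of B. For each i in a finite index set let M_i and N_i be free B-modules with
chosen bases indexed by one and the same finite type, and χ_i : M_i → N_i an additive map which is
ω-semilinear, χ_i(b·x) = ω(b)·χ_i(x); write A_i for the matrix of χ_i in the chosen bases. Then the
length over B of the cokernel of the direct sum χ = ⊕_i χ_i : ⊕_i M_i → ⊕_i N_i (the quotient of ⊕_i
N_i by the submodule generated by the image of χ) equals v(∏_i det A_i); in particular both sides
are infinite exactly when some det A_i is zero. -/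
theorem result {B : Type u} [CommRing B] [IsDomain B]
    [IsDiscreteValuationRing B] (ω : B ≃+* B) {n : ℕ} (r : Fin n → ℕ)
    (M N : Fin n → Type v) [∀ i, AddCommGroup (M i)] [∀ i, Module B (M i)]
    [∀ i, AddCommGroup (N i)] [∀ i, Module B (N i)]
    (bM : ∀ i, Module.Basis (Fin (r i)) B (M i)) (bN : ∀ i, Module.Basis (Fin (r i)) B (N i))
    (χ : ∀ i, M i →+ N i) (hχ : ∀ i (b : B) (x : M i), χ i (b • x) = ω b • χ i x) :
    Module.length B ((∀ i, N i) ⧸ Submodule.span B (Set.range (fun (x : ∀ i, M i) (i : Fin n) => χ i (x i)))) =
      IsDiscreteValuationRing.addVal B (∏ i, Matrix.det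
        (Matrix.of fun (a c : Fin (r i)) => (bN i).repr (χ i (bM i c)) a)) := by
  classical
  let A : ∀ i, Matrix (Fin (r i)) (Fin (r i)) B := fun i =>
    Matrix.of fun a c => (bN i).repr (χ i (bM i c)) a
  let L : ∀ i, (Fin (r i) → B) →ₗ[B] N i := fun i =>
    (bN i).equivFun.symm.toLinearMap ∘ₗ (A i).mulVecLin
  have hL : ∀ i (c : Fin (r i) → B), L i c = ∑ j, c j • χ i (bM i j) := by
    intro i c
    apply (bN i).equivFun.injective
    simp only [L, LinearMap.comp_apply, LinearEquiv.coe_coe, LinearEquiv.apply_symm_apply, map_sum,
      map_smul]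
    funext a
    simp [A, Matrix.mulVec, dotProduct, mul_comm]
  have hχ' : ∀ i x, χ i x = L i (fun j => ω ((bM i).repr x j)) := by
    intro i x
    rw [hL]
    conv_lhs => rw [← (bM i).sum_repr x]
    rw [map_sum]
    exact Finset.sum_congr rfl fun j _ => hχ i _ _
  have hsub : Submodule.span B (Set.range (fun (x : ∀ i, M i) (i : Fin n) => χ i (x i))) =
      Submodule.pi Set.univ (fun i => LinearMap.range (L i)) := by
    apply le_antisymm
    · rw [Submodule.span_le]
      rintro _ ⟨x, rfl⟩ i -
      exact ⟨_, (hχ' i (x i)).symm⟩
    · intro y hy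
      choose c hc using fun i => hy i (Set.mem_univ i)
      refine Submodule.subset_span ⟨fun i => (bM i).equivFun.symm (fun j => ω.symm (c i j)), ?_⟩
      funext i
      rw [← hc i]
      simp only [hχ', ← Module.Basis.equivFun_apply, LinearEquiv.apply_symm_apply,
        RingEquiv.apply_symm_apply]
  rw [hsub, (Submodule.quotientPi (fun i => LinearMap.range (L i))).length_eq,
    Module.length_pi_of_fintype]
  have hlen : ∀ i, Module.length B (N i ⧸ LinearMap.range (L i)) =
      IsDiscreteValuationRing.addVal B (A i).det := by
    intro i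
    have e : Module.length B (N i ⧸ LinearMap.range (L i)) =
        Groth.Surfaces.DetLength.cokLen (A i) := by
      refine (Submodule.Quotient.equiv _ _ (bN i).equivFun ?_).length_eq
      rw [← LinearMap.range_comp]
      congr 1
      ext c : 1
      simp [L]
    rw [e, ← ord_eq_addVal]
    by_cases h : (A i).det = 0
    · have h1 : Ring.ord B (A i).det = ⊤ := by
        rw [h, ord_eq_addVal, IsDiscreteValuationRing.addVal_zero]
      rw [h1]
      by_contra hne
      exact Groth.Surfaces.DetLength.ord_ne_top_of_cokLen_ne_top _ hne h1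
    · exact Groth.Surfaces.DetLength.cokLen_eq_ord _ (mem_nonZeroDivisors_of_ne_zero h)
  simp only [hlen]
  symm
  induction (Finset.univ : Finset (Fin n)) using Finset.induction with
  | empty => simp
  | insert i s hi ih =>
    rw [Finset.prod_insert hi, Finset.sum_insert hi, IsDiscreteValuationRing.addVal_mul, ih]

end Groth.Agent.S19624
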