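import Groth.Statements.S19625
import Groth.Agent.SurfRR.Projective
-- import your own Groth.Agent.* helpers here

set_option autoImplicit false
universe u
open CategoryTheory CategoryTheory.Limits AlgebraicGeometry
open Surf

namespace Groth.Agent.S19625

/-- Let k be a field and S an integral surface (dimension two) which is smooth over k and projective (a
closed immersion into some P^n_k over k). Let i : C → S be the closed immersion of an integral curve
(dimension one) all of whose local rings are regular, with ideal sheaf I ⊆ O_S, and let N =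
Hom(i^*I, O_C) be the normal sheaf of C in S, the dual of the conormal sheaf i^*I (the sheaf Hom,
assumed to exist as the right adjoint of tensoring with i^*I). Then the self-intersection number
C·C, namely the intersection number of O_S(C) with itself computed as the alternating sum χ(O_S) −
2χ(I) + χ(I ⊗ I) with the inverse I = O_S(−C) of O_S(C) (packaged as FGA.intNum), equals the degree
of N on C, the degree of a module M on C being χ(M) − χ(O_C). -/
theorem result (k : Type u) [Field k] (S : Scheme.{u}) [S.Over (Spec (CommRingCat.of k))]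
    [IsIntegral S] (hdim : topologicalKrullDim S = 2) [Smooth (S ↘ (Spec (CommRingCat.of k)))]
    (hproj : ∃ (n : ℕ) (ι : S ⟶ CohB1.ProjSpace n k), IsClosedImmersion ι ∧ ι ≫ CohB1.ProjSpace.toSpec n k = (S ↘ (Spec (CommRingCat.of k))))
    (C : Scheme.{u}) (i : C ⟶ S) [IsClosedImmersion i] [IsIntegral C] (hC : topologicalKrullDim C = 1)
    (hCreg : ∀ c : C, IsRegularLocalRing (C.presheaf.stalk c))
    [DCoh.HasSheafHom (Omega.conormal i)] :
    letI : C.Over (Spec (CommRingCat.of k)) := ⟨i ≫ (S ↘ (Spec (CommRingCat.of k)))⟩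
    FGA.intNum k S 2 ![ClSub.idealMod i.ker, ClSub.idealMod i.ker] (Coh.structureModule S) =
      Curv2.deg k C ((DCoh.sheafHom (Omega.conormal i)).obj (Coh.structureModule C)) 1 := by
  letI : C.Over (Spec (CommRingCat.of k)) := ⟨i ≫ (S ↘ (Spec (CommRingCat.of k)))⟩
  obtain ⟨n, ι, hc, hι⟩ := hproj
  haveI := Groth.SurfRR.isProper_of_embedding k hι
  have hI := Groth.SurfRR.isEffCartier_ker k hdim
    (fun x => Groth.SurfRR.isRegularLocalRing_stalk k x) i hC
  have hIi := Groth.PicAux.isInvertible_idealMod hI
  obtain ⟨J, -, hIJ⟩ := Groth.PicAux.exists_isInverseOf hIi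
  have hJ := Groth.PicAux.isInvertible_of_isInverseOf hIi hIJ
  have hinv : ClSub.IsInverseOf (Omega.conormal i) ((Scheme.Modules.pullback i).obj J) :=
    ⟨(Groth.PicAux.pullback_tensorMod i hIi hJ).some.symm ≪≫
      (Scheme.Modules.pullback i).mapIso hIJ.some ≪≫ (Groth.PicAux.pullback_structure_iso i).some⟩
  obtain ⟨c⟩ := Groth.Duality.SheafHom.nonempty_sheafHom_inverse_app hinv (Coh.structureModule C)
  rw [Groth.ZetaAn.ProdCurves.deg_congr k ⟨c ≪≫ (Groth.Inter.tensor_one _).some⟩]
  have h1 := Groth.ZetaAn.ProdCurves.pair_idealMod k i rfl hI hJ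
  rw [Groth.Inter.pair_comm k, Groth.Inter.pair_inverse k hdim.le hIi hIJ hIi] at h1
  rw [Groth.Inter.intNum_eq_pair k hdim.le]
  linarith

end Groth.Agent.S19625
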