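import Groth.Statements.S19628
import Groth.Agent.S15295
import Groth.Agent.DR.Basic
import Mathlib.RingTheory.Flat.Basic
import Mathlib.RingTheory.Flat.Equalizer

set_option autoImplicit false
universe u
open DeRham TensorProduct

namespace Groth.Agent.S19628

open exteriorPower in
/-- In the affine case, at ring level, let k ⊆ K be an extension of fields of characteristic zero, A a
smooth k-algebra and A' = K ⊗_k A (a pushout square of commutative rings with the scalar-tower
conventions). Let d be the de Rham differential of A over k, d' that of A' over K, and ψ the map of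
de Rham complexes induced by A → A', assumed compatible with d and d'. Then for every p the K-span
of ψ(closed p-forms of A/k) is the module of closed p-forms of A'/K, and the K-span of ψ(exact
p-forms of A/k) is the module of exact p-forms of A'/K. Together with the degreewise base-change
bijection for exterior powers of differentials, this says that the natural map H^p_dR(A/k) ⊗_k K →
H^p_dR(A'/K) is an isomorphism. (The source states the isomorphism H^i_dR(X) ⊗_k K ≅ H^i_dR(X_K) for
a smooth variety X, induced by a quasi-isomorphism of complexes; this row is the case of an affine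
X, phrased through closed and exact forms.) -/
theorem result
    (k K : Type u) [Field k] [Field K] [CharZero k] [Algebra k K]
    (A A' : Type u) [CommRing A] [CommRing A'] [Algebra k A] [Algebra.Smooth k A]
    [Algebra A A'] [Algebra k A'] [IsScalarTower k A A'] [Algebra K A'] [IsScalarTower k K A']
    [Algebra.IsPushout k K A A']
    (d : ∀ p : ℕ, ↥(⋀[A]^p (Ω[A⁄k])) →ₗ[k] ↥(⋀[A]^(p + 1) (Ω[A⁄k])))
    (hd : DeRham.IsDiff (KaehlerDifferential.D k A) d)
    (d' : ∀ p : ℕ, ↥(⋀[A']^p (Ω[A'⁄K])) →ₗ[K] ↥(⋀[A']^(p + 1) (Ω[A'⁄K])))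
    (hd' : DeRham.IsDiff (KaehlerDifferential.D K A') d')
    (ψ : ∀ p : ℕ, ↥(⋀[A]^p (Ω[A⁄k])) →+ ↥(⋀[A']^p (Ω[A'⁄K])))
    (hψ : DeRham.IsCxMap (KaehlerDifferential.D k A) (KaehlerDifferential.D K A') (algebraMap A A') ψ)
    (hcomm : ∀ (p : ℕ) (x : ↥(⋀[A]^p (Ω[A⁄k]))), ψ (p + 1) (d p x) = d' p (ψ p x))
    (p : ℕ) :
    Submodule.span K (ψ p '' (DeRham.cocycles d p : Set ↥(⋀[A]^p (Ω[A⁄k])))) = DeRham.cocycles d' p ∧
      Submodule.span K (ψ p '' (DeRham.coboundaries d p : Set ↥(⋀[A]^p (Ω[A⁄k])))) =
        DeRham.coboundaries d' p := by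
  -- linearity over the base
  have hlin : ∀ q (c : k) (x : ↥(⋀[A]^q (Ω[A⁄k]))), ψ q (c • x) = c • ψ q x := by
    intro q c x
    refine Groth.DR.gen_induction (KaehlerDifferential.D k A) (Groth.DR.kaehler_span k A)
      (P := fun x => ψ q (c • x) = c • ψ q x) (by simp) (fun x y hx hy => by simp [hx, hy])
      (fun b₀ b => ?_) x
    rw [← algebraMap_smul A c, ← Groth.DR.gen_smul, hψ, hψ, map_mul, Groth.DR.gen_smul,
      ← IsScalarTower.algebraMap_apply, algebraMap_smul]
  let L : ∀ q, K ⊗[k] ↥(⋀[A]^q (Ω[A⁄k])) →ₗ[K] ↥(⋀[A']^q (Ω[A'⁄K])) := fun q =>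
    LinearMap.liftBaseChange K
      ({ toFun := ψ q, map_add' := map_add _, map_smul' := hlin q } :
        ↥(⋀[A]^q (Ω[A⁄k])) →ₗ[k] ↥(⋀[A']^q (Ω[A'⁄K])))
  have hL : ∀ q, Function.Bijective (L q) := fun q =>
    Groth.Agent.S15295.result k K A A' ψ hψ q (L q).toAddMonoidHom fun s x => by
      simp [L]
  have hcd : ∀ q, d' q ∘ₗ L q = L (q + 1) ∘ₗ (d q).baseChange K := fun q => by
    refine TensorProduct.AlgebraTensorModule.ext fun s x => ?_
    simp [L, hcomm]
  have hspan : ∀ q (N : Submodule k ↥(⋀[A]^q (Ω[A⁄k]))),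
      Submodule.span K (ψ q '' (N : Set ↥(⋀[A]^q (Ω[A⁄k])))) = (N.baseChange K).map (L q) := by
    intro q N
    rw [Submodule.baseChange_eq_span, Submodule.map_span, Submodule.map_coe, Set.image_image]
    congr 1
    refine Set.image_congr fun x _ => ?_
    simp [L]
  have hrange : ∀ {V W : Type u} [AddCommMonoid V] [Module k V] [AddCommMonoid W] [Module k W]
      (f : V →ₗ[k] W), (LinearMap.range f).baseChange K = LinearMap.range (f.baseChange K) := by
    intro V W _ _ _ _ f
    refine le_antisymm ?_ ?_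
    · rw [Submodule.baseChange_eq_span, Submodule.span_le]
      rintro _ ⟨_, ⟨x, rfl⟩, rfl⟩
      exact ⟨1 ⊗ₜ x, by simp⟩
    · rintro _ ⟨z, rfl⟩
      induction z with
      | zero => simp
      | add a b ha hb => rw [map_add]; exact add_mem ha hb
      | tmul s x =>
        rw [LinearMap.baseChange_tmul]
        exact Submodule.tmul_mem_baseChange_of_mem _ ⟨x, rfl⟩
  refine ⟨?_, ?_⟩
  · rw [hspan]
    have hker : LinearMap.ker ((d p).baseChange K) = (DeRham.cocycles d p).baseChange K := by
      rw [DeRham.cocycles]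
      refine Eq.trans (Module.Flat.ker_lTensor_eq (S := K) K (d p)) ?_
      refine Eq.trans (hrange (LinearMap.ker (d p)).subtype).symm ?_
      rw [Submodule.range_subtype]
    rw [← hker, DeRham.cocycles]
    refine Submodule.ext fun y => ?_
    obtain ⟨z, rfl⟩ := (hL p).2 y
    have h : d' p (L p z) = L (p + 1) ((d p).baseChange K z) := LinearMap.congr_fun (hcd p) z
    rw [Submodule.mem_map, LinearMap.mem_ker, h]
    refine ⟨?_, fun h0 => ⟨z, LinearMap.mem_ker.2 ((hL (p + 1)).1 (h0.trans (map_zero _).symm)), rfl⟩⟩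
    rintro ⟨w, hw, hwz⟩
    rw [(hL p).1 hwz] at hw
    rw [LinearMap.mem_ker.1 hw, map_zero]
  · rw [hspan]
    cases p with
    | zero =>
      simp [DeRham.coboundaries]
    | succ q =>
      show ((LinearMap.range (d q)).baseChange K).map (L (q + 1)) = LinearMap.range (d' q)
      rw [hrange, ← LinearMap.range_comp, ← hcd,
        LinearMap.range_comp_of_range_eq_top _ (LinearMap.range_eq_top.2 (hL q).2)]

end Groth.Agent.S19628
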