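import Groth.Statements.S19629
import Groth.Agent.DR.Basic

set_option autoImplicit false
universe u
open DeRham

namespace Groth.Agent.S19629

open exteriorPower in
/-- In the chart case reached in its proof, let k be a field of characteristic zero and A a smooth
k-algebra carrying functions t_1, …, t_d whose differentials form a basis of Ω_{A/k} (a global
system of étale coordinates on X = Spec A), and let D_1, …, D_n be the coordinate hyperplanes
t_{e(1)} = 0, …, t_{e(n)} = 0 for an injection e, so that D = D_1 ∪ ⋯ ∪ D_n is a simple normal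
crossings divisor. For I ⊆ {1, …, n} write A_I = A/(t_{e(i)} : i ∈ I) for the coordinate ring of D_I
= ⋂_{i ∈ I} D_i, and let ψ_{I,J} (I ⊆ J) be the maps of de Rham complexes induced by the surjections
A_I → A_J. Then whenever s + 1 + m = d, the Čech differential ∏_{|I| = s} Ω^m_{A_I/k} → ∏_{|J| =
s+1} Ω^m_{A_J/k}, (ω_I) ↦ (Σ_{j ∈ J} ± ψ_{J∖j,J}(ω_{J∖j}))_J with the usual alternating signs, is
surjective; for s = 0 this is the surjectivity of Ω^{d-1}(X) → ⊕_i Ω^{d-1}(D_i). (The source states
the surjectivity for a smooth affine variety X of dimension d with a simple normal crossings divisor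
and reduces to this chart case étale-locally; here A_∅ is A/0 rather than A.) -/
theorem result
    (k : Type u) [Field k] [CharZero k] (A : Type u) [CommRing A] [Algebra k A] [Algebra.Smooth k A]
    (d n : ℕ) (t : Fin d → A) (e : Fin n ↪ Fin d)
    (b : Module.Basis (Fin d) A (Ω[A⁄k])) (hb : ∀ i, b i = KaehlerDifferential.D k A (t i))
    (ψ : ∀ (I J : Finset (Fin n)) (p : ℕ), ↥(⋀[(A ⧸ (⨆ i ∈ I, Ideal.span {t (e i)} : Ideal A))]^p (Ω[(A ⧸ (⨆ i ∈ I, Ideal.span {t (e i)} : Ideal A))⁄k])) →+ ↥(⋀[(A ⧸ (⨆ i ∈ J, Ideal.span {t (e i)} : Ideal A))]^p (Ω[(A ⧸ (⨆ i ∈ J, Ideal.span {t (e i)} : Ideal A))⁄k])))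
    (hψ : ∀ (I J : Finset (Fin n)) (h : I ⊆ J),
      DeRham.IsCxMap (KaehlerDifferential.D k (A ⧸ (⨆ i ∈ I, Ideal.span {t (e i)} : Ideal A))) (KaehlerDifferential.D k (A ⧸ (⨆ i ∈ J, Ideal.span {t (e i)} : Ideal A)))
        (Ideal.Quotient.factor (biSup_mono h)) (ψ I J))
    (s m : ℕ) (hs : s + 1 + m = d)
    (g : ∀ J : Finset (Fin n), ↥(⋀[(A ⧸ (⨆ i ∈ J, Ideal.span {t (e i)} : Ideal A))]^m (Ω[(A ⧸ (⨆ i ∈ J, Ideal.span {t (e i)} : Ideal A))⁄k]))) :
    ∃ ω : ∀ I : Finset (Fin n), ↥(⋀[(A ⧸ (⨆ i ∈ I, Ideal.span {t (e i)} : Ideal A))]^m (Ω[(A ⧸ (⨆ i ∈ I, Ideal.span {t (e i)} : Ideal A))⁄k])),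
      ∀ J : Finset (Fin n), J.card = s + 1 →
        (∑ j ∈ J.attach,
          ((-1 : ℤ) ^ (J.filter (fun i => i < j.1)).card) •
            ψ (J.erase j.1) J m (ω (J.erase j.1))) = g J := by
  classical
  -- the indices outside `e '' J`
  let C : Finset (Fin n) → Finset (Fin d) := fun J => Finset.univ \ J.map e
  have hC : ∀ J, J.card = s + 1 → (C J).card = m := fun J hJ => by
    simp only [C, Finset.card_univ_sdiff, Finset.card_map, hJ, Fintype.card_fin]; omega
  -- the chosen wedge of coordinates attached to `J`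
  let c : ∀ J : Finset (Fin n), J.card = s + 1 → Fin m → Fin d := fun J hJ =>
    (C J).orderEmbOfFin (hC J hJ)
  let D : ∀ I : Finset (Fin n), _ := fun I =>
    KaehlerDifferential.D k (A ⧸ (⨆ i ∈ I, Ideal.span {t (e i)} : Ideal A))
  let mk : ∀ I : Finset (Fin n), A →+* A ⧸ (⨆ i ∈ I, Ideal.span {t (e i)} : Ideal A) :=
    fun I => Ideal.Quotient.mk _
  have ht : ∀ J, ∀ j ∈ J, mk J (t (e j)) = 0 := fun J j hj =>
    Ideal.Quotient.eq_zero_iff_mem.2
      (le_iSup₂ (f := fun i (_ : i ∈ J) => Ideal.span {t (e i)}) j hj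
        (Ideal.mem_span_singleton_self _))
  -- the top forms on `A_J` are multiples of the chosen wedge
  have hspan : ∀ J (hJ : J.card = s + 1)
      (x : ↥(⋀[(A ⧸ (⨆ i ∈ J, Ideal.span {t (e i)} : Ideal A))]^m
        (Ω[(A ⧸ (⨆ i ∈ J, Ideal.span {t (e i)} : Ideal A))⁄k]))),
      ∃ a : A, DeRham.gen (D J) m (mk J a) (fun i => mk J (t (c J hJ i))) = x := by
    intro J hJ x
    let v : Fin m → Ω[(A ⧸ (⨆ i ∈ J, Ideal.span {t (e i)} : Ideal A))⁄k] :=
      fun i => D J (mk J (t (c J hJ i)))
    have hv : Submodule.span (A ⧸ (⨆ i ∈ J, Ideal.span {t (e i)} : Ideal A)) (Set.range v) = ⊤ := by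
      let π := KaehlerDifferential.map k k A (A ⧸ (⨆ i ∈ J, Ideal.span {t (e i)} : Ideal A))
      have hπ : ∀ f : A, D J (mk J f) = π (KaehlerDifferential.D k A f) := fun f =>
        (KaehlerDifferential.map_D k k A _ f).symm
      have hv' : ∀ y : Ω[A⁄k], π y ∈ Submodule.span
          (A ⧸ (⨆ i ∈ J, Ideal.span {t (e i)} : Ideal A)) (Set.range v) := by
        intro y
        have hy : y ∈ Submodule.span A (Set.range b) := b.span_eq ▸ Submodule.mem_top
        induction hy using Submodule.span_induction with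
        | mem y hy =>
          obtain ⟨i, rfl⟩ := hy
          rw [hb, ← hπ]
          by_cases hi : i ∈ C J
          · obtain ⟨j, hj⟩ : i ∈ Set.range (c J hJ) := by
              simp only [c, Finset.range_orderEmbOfFin]; exact hi
            exact Submodule.subset_span ⟨j, by simp [v, hj]⟩
          · obtain ⟨j, hj, rfl⟩ : ∃ j ∈ J, e j = i := by simpa [C] using hi
            simp [ht J j hj]
        | zero => rw [map_zero]; exact zero_mem _
        | add y z _ _ hy hz => rw [map_add]; exact add_mem hy hz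
        | smul a y _ hy =>
          rw [map_smul, ← algebraMap_smul (A ⧸ (⨆ i ∈ J, Ideal.span {t (e i)} : Ideal A)) a]
          exact Submodule.smul_mem _ _ hy
      rw [eq_top_iff, ← Groth.DR.kaehler_span k, Submodule.span_le]
      rintro _ ⟨f, rfl⟩
      obtain ⟨f, rfl⟩ := Ideal.Quotient.mk_surjective f
      show D J (mk J f) ∈ _
      rw [hπ]; exact hv' _
    have hx : x ∈ Submodule.span (A ⧸ (⨆ i ∈ J, Ideal.span {t (e i)} : Ideal A))
        (Set.range (ιMulti_family _ m v)) :=
      (ιMulti_family_span_of_span _ hv).symm ▸ Submodule.mem_top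
    have hsub : Set.range (ιMulti_family (A ⧸ (⨆ i ∈ J, Ideal.span {t (e i)} : Ideal A)) m v) ⊆
        {ιMulti _ m v} := by
      rintro _ ⟨S, rfl⟩
      show ιMulti _ m (v ∘ _) = _
      have : ((Set.powersetCard.ofFinEmbEquiv.symm S : Fin m ↪o Fin m) : Fin m → Fin m) = id := by
        refine ((Set.powersetCard.ofFinEmbEquiv.symm S).strictMono.range_inj strictMono_id).1 ?_
        rw [Set.range_id]
        exact (Finite.injective_iff_surjective.1
          (Set.powersetCard.ofFinEmbEquiv.symm S).injective).range_eq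
      rw [this]; rfl
    obtain ⟨a, ha⟩ := Submodule.mem_span_singleton.1 (Submodule.span_mono hsub hx)
    obtain ⟨a, rfl⟩ := Ideal.Quotient.mk_surjective a
    exact ⟨a, ha⟩
  -- lift each component to the face omitting the least index
  choose a ha using fun J hJ => hspan J hJ (g J)
  let sgn : Finset (Fin n) → Fin n → ℤ := fun J j => (-1) ^ (J.filter (fun i => i < j)).card
  let T : ∀ I J : Finset (Fin n), ↥(⋀[(A ⧸ (⨆ i ∈ I, Ideal.span {t (e i)} : Ideal A))]^m
      (Ω[(A ⧸ (⨆ i ∈ I, Ideal.span {t (e i)} : Ideal A))⁄k])) := fun I J =>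
    if h : ∃ hJ : J.card = s + 1, I = J.erase (J.min' (Finset.card_pos.1 (by omega))) then
      sgn J (J.min' (Finset.card_pos.1 (by obtain ⟨hJ, _⟩ := h; omega))) •
        DeRham.gen (D I) m (mk I (a J h.fst)) (fun i => mk I (t (c J h.fst i)))
    else 0
  refine ⟨fun I => ∑ J : Finset (Fin n), T I J, fun J hJ => ?_⟩
  have hne : J.Nonempty := Finset.card_pos.1 (by omega)
  let j₀ := J.min' hne
  have hmap : ∀ j ∈ J, ∀ (J' : Finset (Fin n)) (hJ' : J'.card = s + 1),
      ψ (J.erase j) J m (DeRham.gen (D (J.erase j)) m (mk _ (a J' hJ'))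
        (fun i => mk _ (t (c J' hJ' i)))) =
      DeRham.gen (D J) m (mk J (a J' hJ')) (fun i => mk J (t (c J' hJ' i))) := by
    intro j _ J' hJ'
    rw [hψ _ _ (Finset.erase_subset j J)]
    rfl
  -- wrong faces die
  have hzero : ∀ (J' : Finset (Fin n)) (hJ' : J'.card = s + 1) (x : A), J' ≠ J →
      DeRham.gen (D J) m (mk J x) (fun i => mk J (t (c J' hJ' i))) = 0 := by
    intro J' hJ' x hne'
    obtain ⟨j, hj, hj'⟩ : ∃ j ∈ J, j ∉ J' := by
      by_contra h
      push Not at h
      exact hne' (Finset.eq_of_subset_of_card_le h (by omega)).symm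
    obtain ⟨i, hi⟩ : e j ∈ Set.range (c J' hJ') := by
      simp only [c, Finset.range_orderEmbOfFin]; simp [C, hj']
    rw [DeRham.gen, AlternatingMap.map_coord_zero _ i (by simp [hi, ht J j hj]), smul_zero]
  have hsingle : ∀ j ∈ J, ψ (J.erase j) J m (∑ J' : Finset (Fin n), T (J.erase j) J') =
      if j = j₀ then sgn J j₀ • g J else 0 := by
    intro j hj
    rw [map_sum, Finset.sum_eq_single J]
    · by_cases h : j = j₀
      · subst h
        have h' : ∃ _ : J.card = s + 1, J.erase (J.min' hne) = J.erase (J.min' hne) := ⟨hJ, rfl⟩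
        rw [if_pos rfl]
        simp only [T]
        split_ifs with h
        · rw [map_zsmul, hmap _ hj _ h.fst, ha]
        · exact absurd h' (by exact h)
      · rw [if_neg h]
        simp only [T]
        rw [dif_neg, map_zero]
        rintro ⟨_, h'⟩
        exact h (by_contra fun h'' => by
          have h1 : j ∈ J.erase (J.min' hne) := Finset.mem_erase.2 ⟨h'', hj⟩
          rw [← h'] at h1; simp at h1)
    · intro J' _ hne'
      simp only [T]
      split_ifs with h
      · rw [map_zsmul, hmap _ hj _ h.fst, hzero _ h.fst _ hne', smul_zero]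
      · exact map_zero _
    · simp
  rw [Finset.sum_congr rfl (fun (j : {x // x ∈ J}) _ => congrArg _ (hsingle j.1 j.2)),
    Finset.sum_eq_single ⟨j₀, J.min'_mem hne⟩]
  · simp only [if_pos, sgn, smul_smul, ← mul_pow, neg_one_mul, neg_neg, one_pow, one_smul]
  · intro j _ hj
    rw [if_neg fun h => hj (Subtype.ext h), smul_zero]
  · simp

end Groth.Agent.S19629
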