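import Groth.Statements.S19631
import Groth.Agent.CategoryFibred.Cosk
-- import your own Groth.Agent.* helpers here

set_option autoImplicit false
universe u
open Hyper

namespace Groth.Agent.S19631

open CategoryTheory CategoryTheory.Limits AlgebraicGeometry in
/-- Let f : X → Y be a morphism of schemes and X_• = cosk_0^Y(X) its Čech nerve, the simplicial scheme
over Y with X_p = X ×_Y ⋯ ×_Y X (p + 1 factors), face maps the projections forgetting one factor and
degeneracies induced by diagonals. Then X_•, as a simplicial object of the category of schemes over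
Y, is n-coskeletal for every n, i.e. the adjunction morphisms X_• → cosk_n sk_n X_• (coskeleta
relative to Y) are isomorphisms. In the source this is phrased as: for a class S of covering maps of
varieties containing the identities, X_• → Y is an S-hypercover whenever X → Y lies in S, the
adjunction maps X_p → (cosk_{p-1} sk_{p-1} X_•)_p being isomorphisms for p ≥ 1 and X_0 → Y being f.
(Stated for arbitrary schemes; the source has varieties over a field.) -/
theorem result (X Y : Scheme.{u}) (f : X ⟶ Y) (n : ℕ) :
    SimplicialObject.IsCoskeletal (cechNerveTerminalFrom (Over.mk f)) n := by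
  apply Groth.CatFib.Cosk.isCoskeletal_of
  · intro G φ hφ
    refine ⟨{
      app := fun j => Limits.Pi.lift fun i =>
        G.map (SimplexCategory.const (SimplexCategory.mk 0) j.unop i).op ≫
          φ (SimplexCategory.mk 0) (Nat.zero_le n) ≫ Limits.Pi.π _ 0
      naturality := fun a b θ => ?_ }, fun j hj => ?_⟩
    · refine Limits.Pi.hom_ext _ _ fun i => ?_
      simp only [cechNerveTerminalFrom, Category.assoc, Limits.limit.lift_π, Limits.Fan.mk_pt,
        Limits.Fan.mk_π_app]
      rw [← G.map_comp_assoc]
      rfl
    · refine Limits.Pi.hom_ext _ _ fun i => ?_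
      simp only [Limits.limit.lift_π, Limits.Fan.mk_pt, Limits.Fan.mk_π_app]
      refine (Category.assoc _ _ _).symm.trans ?_
      rw [hφ _ _ (Nat.zero_le n) hj (SimplexCategory.const (SimplexCategory.mk 0) j i), Category.assoc]
      simp only [cechNerveTerminalFrom, Limits.limit.lift_π, Limits.Fan.mk_pt, Limits.Fan.mk_π_app]
      rfl
  · intro G g g' h
    refine NatTrans.ext (funext fun j => Limits.Pi.hom_ext _ _ fun i => ?_)
    have key : ∀ (q : G ⟶ cechNerveTerminalFrom (Over.mk f)), q.app j ≫ Limits.Pi.π _ i =
        G.map (SimplexCategory.const (SimplexCategory.mk 0) j.unop i).op ≫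
          q.app (Opposite.op (SimplexCategory.mk 0)) ≫ Limits.Pi.π _ 0 := by
      intro q
      rw [← Category.assoc, q.naturality, Category.assoc]
      simp only [cechNerveTerminalFrom, Limits.limit.lift_π, Limits.Fan.mk_pt, Limits.Fan.mk_π_app]
      rfl
    refine (key g).trans (Eq.trans ?_ (key g').symm)
    rw [h _ (Nat.zero_le n)]
end Groth.Agent.S19631
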