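import Groth.Statements.S19632
import Mathlib

set_option autoImplicit false
universe u
open DeRham

namespace Groth.Agent.S19632

open AddMonoidAlgebra in
/-- The Euler derivation `t d/dt`. -/
noncomputable def eulerLin (k : Type u) [Field k] : LaurentPolynomial k →ₗ[k] LaurentPolynomial k where
  toFun f := ⟨Finsupp.onFinset f.coeff.support (fun n => (n : k) * f.coeff n)
    fun n h => Finsupp.mem_support_iff.2 fun h0 => h (by simp [h0])⟩
  map_add' f g := by ext n; simp [mul_add]
  map_smul' c f := by ext n; simp; ring

theorem eulerLin_coeff (k : Type u) [Field k] (f : LaurentPolynomial k) (n : ℤ) :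
    (eulerLin k f).coeff n = (n : k) * f.coeff n := rfl

theorem eulerLin_single (k : Type u) [Field k] (m : ℤ) (a : k) :
    eulerLin k (AddMonoidAlgebra.single m a) = AddMonoidAlgebra.single m ((m : k) * a) := by
  ext n
  rw [eulerLin_coeff]
  rw [AddMonoidAlgebra.coeff_single, AddMonoidAlgebra.coeff_single]
  rcases eq_or_ne n m with rfl | h
  · rw [Finsupp.single_eq_same, Finsupp.single_eq_same]
  · rw [Finsupp.single_eq_of_ne h, Finsupp.single_eq_of_ne h, mul_zero]

noncomputable def euler (k : Type u) [Field k] :
    Derivation k (LaurentPolynomial k) (LaurentPolynomial k) :=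
  Derivation.mk' (eulerLin k) fun f g => by
    induction f using AddMonoidAlgebra.induction_linear with
    | zero => simp
    | add x y hx hy => simp only [add_mul, map_add, hx, hy, smul_eq_mul]; ring
    | single m a =>
      induction g using AddMonoidAlgebra.induction_linear with
      | zero => simp
      | add x y hx hy => simp only [mul_add, map_add, hx, hy, smul_eq_mul]; ring
      | single n b =>
        simp only [smul_eq_mul, AddMonoidAlgebra.single_mul_single, eulerLin_single]
        rw [add_comm n m, ← AddMonoidAlgebra.single_add]
        congr 1
        push_cast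
        ring

/-- Let k be a field of characteristic zero and G_m = Spec k[t, t⁻¹] the multiplicative group. The
kernel of the differential d : k[t, t⁻¹] → Ω¹ of the de Rham complex of G_m consists of the
constants: for a Laurent polynomial f, df = 0 if and only if f lies in the image of k. Equivalently
H^0_dR(G_m/k) = k. (Characteristic zero is used: in characteristic p the element t^p is closed.) -/
theorem result (k : Type u) [Field k] [CharZero k]
    (f : LaurentPolynomial k) :
    KaehlerDifferential.D k (LaurentPolynomial k) f = 0 ↔ f ∈ Set.range (algebraMap k (LaurentPolynomial k)) := by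
  constructor
  · intro h
    have h' : eulerLin k f = 0 := by
      show euler k f = 0
      rw [← Derivation.liftKaehlerDifferential_comp_D (euler k), h, map_zero]
    refine ⟨f.coeff 0, ?_⟩
    ext n
    rw [LaurentPolynomial.algebraMap_apply]
    have hn : (n : k) * f.coeff n = 0 := by rw [← eulerLin_coeff, h']; simp
    rcases eq_or_ne n 0 with rfl | hne
    · exact (congrArg (fun q : ℤ →₀ k => q 0) (AddMonoidAlgebra.coeff_single (0 : ℤ) (f.coeff 0))).trans Finsupp.single_eq_same
    · have : f.coeff n = 0 := (mul_eq_zero.1 hn).resolve_left (Int.cast_ne_zero.2 hne)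
      exact ((congrArg (fun q : ℤ →₀ k => q n) (AddMonoidAlgebra.coeff_single (0 : ℤ) (f.coeff 0))).trans
        (Finsupp.single_eq_of_ne hne)).trans this.symm
  · rintro ⟨c, rfl⟩
    exact Derivation.map_algebraMap _ c

end Groth.Agent.S19632
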