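import Groth.Statements.S19633
import Groth.Agent.DR.Wedge
import Mathlib.Algebra.Polynomial.Laurent

set_option autoImplicit false
universe u
open DeRham

namespace Groth.Agent.S19633

section Euler

open LaurentPolynomial AddMonoidAlgebra

variable (k : Type u) [CommRing k]

/-- `T d/dT` as a linear map. -/
noncomputable def eulerLin : LaurentPolynomial k →ₗ[k] LaurentPolynomial k :=
  (Finsupp.linearCombination k fun n : ℤ => (n : k) • (T n : LaurentPolynomial k)) ∘ₗ
    (AddMonoidAlgebra.coeffLinearEquiv k).toLinearMap

theorem eulerLin_C_mul_T (a : k) (n : ℤ) :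
    eulerLin k (LaurentPolynomial.C a * T n) = LaurentPolynomial.C (a * n) * T n := by
  rw [← single_eq_C_mul_T, ← single_eq_C_mul_T]
  show Finsupp.linearCombination k _ (Finsupp.single n a) = _
  rw [Finsupp.linearCombination_single, smul_smul, T, AddMonoidAlgebra.smul_single', mul_one]

/-- `T d/dT`. -/
noncomputable def euler : Derivation k (LaurentPolynomial k) (LaurentPolynomial k) :=
  Derivation.mk' (eulerLin k) (by
    intro f g
    simp only [smul_eq_mul]
    induction f using LaurentPolynomial.induction_on' with
    | add p q hp hq => simp only [add_mul, map_add, hp, hq]; ring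
    | C_mul_T n a =>
      induction g using LaurentPolynomial.induction_on' with
      | add p q hp hq => simp only [mul_add, map_add, hp, hq]; ring
      | C_mul_T m b =>
        rw [show LaurentPolynomial.C a * T n * (LaurentPolynomial.C b * T m) =
            LaurentPolynomial.C (a * b) * T (n + m) by rw [map_mul, T_add]; ring,
          eulerLin_C_mul_T, eulerLin_C_mul_T, eulerLin_C_mul_T]
        push_cast
        simp only [map_mul, map_add, T_add]
        ring)

theorem euler_C_mul_T (a : k) (n : ℤ) :
    euler k (LaurentPolynomial.C a * T n) = LaurentPolynomial.C (a * n) * T n :=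
  eulerLin_C_mul_T k a n

theorem euler_coeff_zero (f : LaurentPolynomial k) : (euler k f).coeff 0 = 0 := by
  induction f using LaurentPolynomial.induction_on' with
  | add p q hp hq => simp [map_add, hp, hq]
  | C_mul_T n a =>
    rw [euler_C_mul_T, ← single_eq_C_mul_T, AddMonoidAlgebra.coeff_single, Finsupp.single_apply]
    split_ifs with h <;> simp [h]

theorem D_mem_span (g : LaurentPolynomial k) :
    KaehlerDifferential.D k (LaurentPolynomial k) g ∈
      Submodule.span (LaurentPolynomial k) {KaehlerDifferential.D k (LaurentPolynomial k) (T 1)} := by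
  induction g using LaurentPolynomial.induction_on' with
  | add p q hp hq => rw [map_add]; exact add_mem hp hq
  | C_mul_T n a =>
    have hnat : ∀ m : ℕ, KaehlerDifferential.D k (LaurentPolynomial k) (T (m : ℤ)) ∈
        Submodule.span (LaurentPolynomial k)
          {KaehlerDifferential.D k (LaurentPolynomial k) (T 1)} := by
      intro m
      induction m with
      | zero => simp
      | succ m ih =>
        rw [Nat.cast_succ, T_add, Derivation.leibniz]
        exact add_mem (Submodule.smul_mem _ _ (Submodule.mem_span_singleton_self _))
          (Submodule.smul_mem _ _ ih)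
    have hT : KaehlerDifferential.D k (LaurentPolynomial k) (T n) ∈
        Submodule.span (LaurentPolynomial k)
          {KaehlerDifferential.D k (LaurentPolynomial k) (T 1)} := by
      rcases Int.eq_nat_or_neg n with ⟨m, rfl | rfl⟩
      · exact hnat m
      · rw [Derivation.leibniz_of_mul_eq_one (a := T (-(m : ℤ))) (b := T (m : ℤ)) _
          (by rw [← T_add, neg_add_cancel, T_zero])]
        exact Submodule.smul_mem _ _ (hnat m)
    rw [← smul_eq_C_mul, Derivation.map_smul, ← algebraMap_smul (LaurentPolynomial k) a]
    exact Submodule.smul_mem _ _ hT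

end Euler

open exteriorPower in
/-- Let k be a field of characteristic zero, G_m = Spec k[t, t⁻¹], and d the de Rham differential of
k[t, t⁻¹] over k. Then: every 1-form is closed; the exact 1-forms and the k-line spanned by t⁻¹ dt
are complementary subspaces of the 1-forms, and t⁻¹ dt is not exact — so H^1_dR(G_m/k) is
one-dimensional, generated by the class of dt/t (the isomorphism with k being the residue); and for
every i ≥ 2 the closed i-forms are exact, so H^i_dR(G_m/k) = 0 for i > 1. (Characteristic zero is
used in the computation of the exact forms.) -/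
theorem result (k : Type u) [Field k] [CharZero k]
    (d : ∀ p : ℕ, ↥(⋀[LaurentPolynomial k]^p (Ω[LaurentPolynomial k⁄k])) →ₗ[k] ↥(⋀[LaurentPolynomial k]^(p + 1) (Ω[LaurentPolynomial k⁄k])))
    (hd : DeRham.IsDiff (KaehlerDifferential.D k (LaurentPolynomial k)) d) :
    DeRham.cocycles d 1 = ⊤ ∧
    IsCompl (DeRham.coboundaries d 1)
      (Submodule.span k {DeRham.gen (KaehlerDifferential.D k (LaurentPolynomial k)) 1
        (LaurentPolynomial.T (-1)) (fun _ => LaurentPolynomial.T 1)}) ∧
    DeRham.gen (KaehlerDifferential.D k (LaurentPolynomial k)) 1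
        (LaurentPolynomial.T (-1)) (fun _ => LaurentPolynomial.T 1) ∉ DeRham.coboundaries d 1 ∧
    ∀ i : ℕ, DeRham.cocycles d (i + 2) ≤ DeRham.coboundaries d (i + 2) := by
  classical
  let D := KaehlerDifferential.D k (LaurentPolynomial k)
  let ω₀ : Ω[LaurentPolynomial k⁄k] := D (LaurentPolynomial.T 1)
  have hspan : Submodule.span (LaurentPolynomial k) {ω₀} = ⊤ := by
    rw [eq_top_iff, ← KaehlerDifferential.span_range_derivation k (LaurentPolynomial k),
      Submodule.span_le]
    rintro _ ⟨g, rfl⟩
    exact D_mem_span k g
  have hzero : ∀ (q : ℕ) (x : ↥(⋀[LaurentPolynomial k]^(q + 2) (Ω[LaurentPolynomial k⁄k]))),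
      x = 0 := by
    intro q x
    refine Groth.DR.gen_induction D (Groth.DR.kaehler_span k _) (P := fun x => x = 0) rfl
      (fun x y hx hy => by rw [hx, hy, add_zero]) (fun b₀ b => ?_) x
    have hb : ∀ i, ∃ c : LaurentPolynomial k, c • ω₀ = D (b i) := fun i =>
      Submodule.mem_span_singleton.1 (hspan ▸ Submodule.mem_top)
    choose c hc using hb
    rw [DeRham.gen, show (fun i => D (b i)) = fun i => c i • ω₀ from funext fun i => (hc i).symm,
      AlternatingMap.map_smul_univ,
      (ιMulti (LaurentPolynomial k) (q + 2)).map_eq_zero_of_eq (i := 0) (j := 1) _ rfl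
        (by simp), smul_zero, smul_zero]
  refine ⟨?_, ?_, ?_, fun i x _ => by rw [hzero i x]; exact zero_mem _⟩
  · exact eq_top_iff.2 fun x _ => LinearMap.mem_ker.2 (hzero 0 _)
  all_goals
    -- the residue
    let res : ↥(⋀[LaurentPolynomial k]^1 (Ω[LaurentPolynomial k⁄k])) →ₗ[k] k :=
      { toFun := fun x =>
          ((euler k).liftKaehlerDifferential (oneEquiv (LaurentPolynomial k) _ x)).coeff 0
        map_add' := fun x y => by simp
        map_smul' := fun r x => by
          rw [← algebraMap_smul (LaurentPolynomial k) r x, map_smul, map_smul, algebraMap_smul,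
            AddMonoidAlgebra.coeff_smul]
          rfl }
    have hres_exact : ∀ x ∈ DeRham.coboundaries d 1, res x = 0 := by
      rintro _ ⟨y, rfl⟩
      refine Groth.DR.gen_induction D (Groth.DR.kaehler_span k _)
        (P := fun y => res (d 0 y) = 0) (by simp)
        (fun x y hx hy => by simp [hx, hy]) (fun b₀ b => ?_) y
      show ((euler k).liftKaehlerDifferential (oneEquiv _ _ (d 0 _))).coeff 0 = 0
      rw [hd.1, oneEquiv_ιMulti, Fin.cons_zero, Derivation.liftKaehlerDifferential_comp_D]
      exact euler_coeff_zero k b₀
    have hres_one : res (DeRham.gen D 1 (LaurentPolynomial.T (-1))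
        (fun _ => LaurentPolynomial.T 1)) = 1 := by
      show ((euler k).liftKaehlerDifferential (oneEquiv _ _ _)).coeff 0 = 1
      rw [DeRham.gen, map_smul, oneEquiv_ιMulti, map_smul,
        Derivation.liftKaehlerDifferential_comp_D, smul_eq_mul,
        ← one_mul (LaurentPolynomial.T 1), ← map_one LaurentPolynomial.C, euler_C_mul_T]
      rw [Int.cast_one, mul_one, map_one, one_mul, ← LaurentPolynomial.T_add, neg_add_cancel,
        LaurentPolynomial.T_zero]
      simp
    have hnot : DeRham.gen D 1 (LaurentPolynomial.T (-1)) (fun _ => LaurentPolynomial.T 1) ∉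
        DeRham.coboundaries d 1 := fun h => by
      have := hres_exact _ h; rw [hres_one] at this; exact one_ne_zero this
  · -- complementary subspaces
    let ω₁ := DeRham.gen D 1 (LaurentPolynomial.T (-1)) (fun _ => LaurentPolynomial.T 1)
    refine ⟨Submodule.disjoint_def.2 fun x hx hx' => ?_,
      codisjoint_iff_le_sup.2 fun x _ => ?_⟩
    · obtain ⟨c, rfl⟩ := Submodule.mem_span_singleton.1 hx'
      have := hres_exact _ hx
      rw [map_smul, hres_one, smul_eq_mul, mul_one] at this
      rw [this, zero_smul]
    · suffices ∀ f : LaurentPolynomial k,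
          DeRham.gen D 1 f (fun _ => LaurentPolynomial.T 1) ∈
            DeRham.coboundaries d 1 ⊔ Submodule.span k {ω₁} by
        obtain ⟨c, hc⟩ := Submodule.mem_span_singleton.1
          (show oneEquiv (LaurentPolynomial k) _ x ∈ Submodule.span _ {ω₀} from
            hspan ▸ Submodule.mem_top)
        have hx : x = DeRham.gen D 1 c (fun _ => LaurentPolynomial.T 1) :=
          (oneEquiv (LaurentPolynomial k) _).injective (by rw [← hc]; simp [DeRham.gen, ω₀, D])
        rw [hx]; exact this c
      intro f
      induction f using LaurentPolynomial.induction_on' with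
      | add p q hp hq =>
        rw [DeRham.gen, add_smul]; exact add_mem hp hq
      | C_mul_T n a =>
        by_cases hn : n = -1
        · subst hn
          refine Submodule.mem_sup_right (Submodule.mem_span_singleton.2 ⟨a, ?_⟩)
          simp only [ω₁, DeRham.gen, ← algebraMap_smul (LaurentPolynomial k) a, smul_smul,
            ← LaurentPolynomial.C_eq_algebraMap]
        · refine Submodule.mem_sup_left ?_
          have hn' : ((n + 1 : ℤ) : k) ≠ 0 := Int.cast_ne_zero.2 (by omega)
          refine ⟨DeRham.gen D 0 (LaurentPolynomial.C (a * ((n + 1 : ℤ) : k)⁻¹) *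
            LaurentPolynomial.T (n + 1)) Fin.elim0, ?_⟩
          apply (oneEquiv (LaurentPolynomial k) _).injective
          rw [hd.1, oneEquiv_ιMulti, Fin.cons_zero, DeRham.gen, map_smul, oneEquiv_ιMulti]
          -- D is determined by its value on T
          have hE : ∀ g, D g = (euler k g * LaurentPolynomial.T (-1)) • ω₀ := by
            intro g
            obtain ⟨c, hc⟩ := Submodule.mem_span_singleton.1 (D_mem_span k g)
            have h1 := congrArg (euler k).liftKaehlerDifferential hc
            rw [map_smul, Derivation.liftKaehlerDifferential_comp_D,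
              Derivation.liftKaehlerDifferential_comp_D, smul_eq_mul] at h1
            show KaehlerDifferential.D k _ g = _
            rw [← h1, ← one_mul (LaurentPolynomial.T 1), ← map_one LaurentPolynomial.C,
              euler_C_mul_T]
            rw [Int.cast_one, mul_one, map_one, one_mul, mul_assoc, ← LaurentPolynomial.T_add,
              add_neg_cancel, LaurentPolynomial.T_zero, mul_one]
            exact hc.symm
          show D _ = _ • ω₀
          rw [hE, euler_C_mul_T, mul_assoc, ← LaurentPolynomial.T_add, inv_mul_cancel_right₀ hn',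
            add_neg_cancel_right]
  · exact hnot

end Groth.Agent.S19633
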