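import Groth.Statements.S19635
import Groth.Agent.DR.Node

set_option autoImplicit false
universe u
open DeRham

namespace Groth.Agent.S19635

/-- Let k be a field of characteristic zero and A = k[X, Y]/(XY), the coordinate ring of two affine
lines crossing in a point. The differential d : A → Ω¹_{A/k} of the naive de Rham complex is not
surjective, so the naive H^1 of this singular curve does not vanish although one expects trivial
cohomology; this is the example motivating the h-topology definition. -/
theorem result (k : Type u) [Field k] [CharZero k] :
    ¬ Function.Surjective (KaehlerDifferential.D k (MvPolynomial (Fin 2) k ⧸ Ideal.span {(MvPolynomial.X 0 * MvPolynomial.X 1 : MvPolynomial (Fin 2) k)})) := by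
  exact Groth.DR.Node.not_surjective_d k

end Groth.Agent.S19635
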