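import Groth.Statements.S19638
import Groth.Agent.StkGerb.StabScheme

set_option autoImplicit false
set_option backward.isDefEq.respectTransparency false
set_option backward.isDefEq.respectTransparency.types false
universe u
open CategoryTheory AlgebraicGeometry
open AlgSt

namespace Groth.Agent.S19638

/-- Let `S` be a scheme and `𝒳` an algebraic stack over `(Sch/S)` for the big etale topology (a stack in
groupoids with diagonal representable by algebraic spaces and a smooth surjective chart from a
scheme) whose diagonal over `S` is representable by algebraic spaces and quasi-separated. Then each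
field-valued point has as stabilizer a group scheme that is locally of finite type: for every field
`K`, every `p : Spec K ⟶ S` and every point `x : (Sch/Spec K) ⟶ 𝒳` over `(Sch/S)`, there is a group
scheme `G` over `Spec K`, locally of finite type over `K`, together with group isomorphisms `G(T) ≅
Aut_T(x_T)` for all schemes `T` over `Spec K`, natural in `T` (that is, `G` represents the
automorphism presheaf of `x`). (The published statement takes the diagonal quasi-separated in the
absolute sense; it is taken over the base scheme `S` here, which is what the argument uses, the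
stabilizer being a base change of that diagonal. A priori the stabilizer is a group algebraic space;
the content is that it is a scheme.) -/
theorem result
    (S : Scheme.{u}) (𝒳 : AlgSt.Cat S) (h𝒳 : AlgSt.IsAlgStack Scheme.etalePrecoverage 𝒳)
    (hΔ : AlgSt.RepByAlgSpWith AlgSp.IsQuasiSeparatedMor (FibCat.diag (FibCat.toSelf 𝒳)))
    (K : Type u) [Field K] (p : Spec (CommRingCat.of K) ⟶ S)
    (x : FibCat.overCat (Over.mk p) ⥤ᵇ 𝒳) :
    ∃ (G : Over (Spec (CommRingCat.of K))) (_ : GrpObj G),
      LocallyOfFiniteType G.hom ∧ Nonempty (Gerb.AutRep x (Gerb.ptsGrp (Over.mk p) G)) := by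
  have hX := h𝒳.isStack.1
  let s := Groth.StkGerb.ptSec x
  let π := FibCat.fpFst (FibCat.toSelf (FibCat.overCat (Over.mk p) : AlgSt.Cat S)) (FibCat.toSelf 𝒳)
  let ex : BasedFunctor.comp s π ≅ BasedFunctor.id (FibCat.overCat (Over.mk p)) := Iso.refl _
  have hs := Groth.AlgStBasic.repWith_section_of_diag s ex (Groth.AlgStBasic.repWith_diag_fpFst _ hΔ)
  have hl := Groth.AlgStBasic.repWith_section_of_diag s ex (Groth.AlgStBasic.repWith_diag_fpFst _
    (Groth.AlgStBasic.repWith_lft_diag_toSelf' hX h𝒳.diag h𝒳.atlas))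
  obtain ⟨Z, e, he, hq⟩ := hs (Over.mk p) s
  have hq' := Groth.AlgStBasic.prop_of_repWith_fp Groth.AlgStBasic.stableBaseChange_locP hl s Z e he
  let q := AlgSt.spMapOfOver (BasedFunctor.comp e (FibCat.fpFst s s))
  let F := Groth.AlgSp3.fibre p q
  obtain ⟨eF, heF⟩ := Groth.AlgSp3.exists_shriek_fibre_iso p q
  have hF : AlgSp.IsAlgSpace F := (Groth.AlgSp3.isAlgSpace_shriek_iff p F).1
    ((AlgSp.isAlgSpace_iff_of_iso eF).2 Z.property)
  obtain ⟨ψ, hψ⟩ := Groth.StkGerb.exists_autO_equiv s π ex e he
  let sx := fun T : Over (Spec (CommRingCat.of K)) => MulEquiv.ofBijective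
    (Gerb.autMap (FibCat.fpSnd (FibCat.toSelf (FibCat.overCat (Over.mk p) : AlgSt.Cat S)) (FibCat.toSelf 𝒳))
      (s.obj (Groth.StkGerb.backObj p T))) (Groth.StkGerb.autMap_fpSnd_bijective hX _)
  let Q := Groth.StkGerb.autP hX x
  let ψ' : ∀ T, F.obj.obj (Opposite.op T) ≃ Q.obj (Opposite.op T) := fun T => (ψ T).trans (sx T).toEquiv
  have hψ' : ∀ {T' T} (h : T' ⟶ T) z, ψ' T' (F.obj.map h.op z) = Q.map h.op (ψ' T z) := fun h z =>
    (Groth.StkGerb.Band.res_eq hX _ _ _ (congrArg (fun m => m.hom.snd) (hψ h z))).symm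
  obtain ⟨G, hG, r, m, hm⟩ := Groth.StkGerb.exists_grpScheme_of_points hF
    (Groth.StkGerb.isQuasiSeparatedSp_of_shriek p eF heF hq) Q ψ' hψ'
  refine ⟨G, hG, ?_, ⟨?_⟩⟩
  · let j := (Groth.AlgSp3.shriekYonIso p G).symm ≪≫
      (Groth.AlgSp3.shriek p).mapIso (AlgSp.isoOfRepresentableBy r) ≪≫ eF
    have hj : j.hom ≫ q = (AlgSp.yon S).map
        (Over.homMk G.hom rfl : (Over.map p).obj G ⟶ Over.mk p) := by
      simp only [j, Iso.trans_hom, Iso.symm_hom, Functor.mapIso_hom, Category.assoc]
      rw [heF, Groth.AlgSp3.shriekToBase_naturality, Iso.inv_comp_eq]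
      ext T a
      exact ULift.ext _ _ (Over.OverMorphism.ext (Over.w a.2.down).symm)
    have h : AlgSp.LocP @LocallyOfFiniteType (j.hom ≫ q) := Groth.AlgStBasic.stableBaseChange_locP
      Z.property (AlgSp.IsAlgSpace.yon_obj _) (AlgSp.IsAlgSpace.yon_obj _) (AlgSp.IsAlgSpace.yon_obj _)
      q (𝟙 _) (j.hom ≫ q) j.hom (IsPullback.of_horiz_isIso ⟨by simp⟩) hq'
    rw [hj] at h
    exact AlgSp.locP_yon_map h
  · let θ : ∀ T : Over (Over.mk p),
        T ≅ Groth.StkGerb.backObj p ((Over.iteratedSliceForward (Over.mk p)).obj T) := fun T =>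
      Over.isoMk (Over.isoMk (Iso.refl _) (by
        show 𝟙 _ ≫ T.hom.left ≫ p = T.left.hom
        rw [Category.id_comp]; exact Over.w T.hom)) (by
        apply Over.OverMorphism.ext
        show 𝟙 _ ≫ T.hom.left = T.hom.left
        rw [Category.id_comp])
    refine
      { iso := fun T => (m ((Over.iteratedSliceForward (Over.mk p)).obj T)).trans
          { toFun := Groth.StkGerb.Band.res hX (x.map (θ T).hom)
            invFun := Groth.StkGerb.Band.res hX (x.map (θ T).inv)
            left_inv := fun a => ?_
            right_inv := fun a => ?_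
            map_mul' := map_mul _ }
        natural := fun {T' T} h a => ?_ }
    · rw [← Groth.StkGerb.Band.res_comp, ← x.toFunctor.map_comp, Iso.inv_hom_id, x.toFunctor.map_id,
        Groth.StkGerb.Band.res_id]
    · rw [← Groth.StkGerb.Band.res_comp, ← x.toFunctor.map_comp, Iso.hom_inv_id, x.toFunctor.map_id,
        Groth.StkGerb.Band.res_id]
    · let f := Over.iteratedSliceForward (Over.mk p)
      have e₁ : (θ T').hom ≫ Groth.StkGerb.backMap (f.map h) = h ≫ (θ T).hom := by
        apply Over.OverMorphism.ext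
        apply Over.OverMorphism.ext
        show 𝟙 _ ≫ h.left.left = h.left.left ≫ 𝟙 _
        rw [Category.id_comp, Category.comp_id]
      have e₂ : Groth.StkGerb.Band.res hX (x.map (θ T').hom) (m (f.obj T') (f.map h ≫ a)) =
          Groth.StkGerb.Band.res hX (x.map h)
            (Groth.StkGerb.Band.res hX (x.map (θ T).hom) (m (f.obj T) a)) := by
        rw [hm]
        show Groth.StkGerb.Band.res hX _ (Groth.StkGerb.Band.res hX _ (m (f.obj T) a)) = _
        rw [← Groth.StkGerb.Band.res_comp, ← Groth.StkGerb.Band.res_comp, ← x.toFunctor.map_comp,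
          ← x.toFunctor.map_comp]
        exact congrArg (fun w => Groth.StkGerb.Band.res hX (x.map w) (m (f.obj T) a)) e₁
      show (Groth.StkGerb.Band.res hX (x.map (θ T').hom) (m (f.obj T') (f.map h ≫ a))).hom.1 ≫ x.map h =
        x.map h ≫ (Groth.StkGerb.Band.res hX (x.map (θ T).hom) (m (f.obj T) a)).hom.1
      rw [e₂]
      exact Groth.StkGerb.Band.res_spec hX _ _

end Groth.Agent.S19638
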