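import Groth.Statements.S19646
import Groth.Agent.MagnetBundle.Atlas
import Groth.Agent.MagnetBundle.Grading
import Groth.Agent.MagnetBundle.Pure
-- import your own Groth.Agent.* helpers here

set_option autoImplicit false
universe u
open CategoryTheory MonoidalCategory CartesianMonoidalCategory AlgebraicGeometry Opposite
open Magnet

namespace Groth.Agent.S19646

/-- Let S be a quasi-compact scheme, M a finitely generated abelian group and X an S-scheme separated
and locally of finite presentation over S (so of finite presentation, given the atlas below) with an
action of the diagonalizable group scheme D(M)_S, admitting an S-affine strongly-FPR atlas g : U →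
X: U is affine over S with a D(M)_S-action, g is equivariant, étale and surjective, and for every
subgroup Z of M the square of fixed-point subfunctors for the actions restricted along D(M/Z)_S →
D(M)_S, with top U^{D(M/Z)} → X^{D(M/Z)} and bottom U → X, is cartesian. Call a submonoid (magnet) N
of M pure when every submonoid L whose attractor X^L has the same image in X as X^N (on T-points,
for every S-scheme T) contains N. Then the set of pure magnets is finite. (The published statement
carries no quasi-compactness assumption on the base. Over the disjoint union S of countably many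
copies of Spec ℚ indexed by n ≥ 1, let the multiplicative group act on the affine line over the n-th
copy with weight n: this X is affine and of finite presentation over S and is its own S-affine
strongly-FPR atlas, yet the submonoids dℕ of ℤ, d ≥ 1, are pairwise distinct pure magnets; the
finite set of generating degrees used in the published argument exists only over a quasi-compact
base, so S is taken quasi-compact here. The source allows X an algebraic space and any abelian group
M; here X is a scheme and M is finitely generated, as in the results on FPR atlases on which the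
argument rests.) -/
theorem result (S : Scheme.{u}) [CompactSpace S] (M : Type)
    [AddCommGroup M] [AddGroup.FG M] {X : Over S} [IsSeparated X.hom] [LocallyOfFinitePresentation X.hom]
    (a : Magnet.MonAct (Magnet.AMonS S M) X) (U : Over S) [IsAffineHom U.hom]
    (aU : Magnet.MonAct (Magnet.AMonS S M) U) (g : U ⟶ X) (hg : Magnet.MonAct.IsEquivariant aU a g)
    [Etale g.left] [Surjective g.left]
    (hgZ : ∀ Z : AddSubgroup M, Magnet.MonAct.IsEquivariant
      (aU.restrict (Magnet.AMonS.map S (QuotientAddGroup.mk' Z)))
      (a.restrict (Magnet.AMonS.map S (QuotientAddGroup.mk' Z))) g)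
    (hfpr : ∀ Z : AddSubgroup M, IsPullback (Magnet.MonAct.fixedPsh.map g (hgZ Z))
      (Magnet.MonAct.fixedPshι (aU.restrict (Magnet.AMonS.map S (QuotientAddGroup.mk' Z))))
      (Magnet.MonAct.fixedPshι (a.restrict (Magnet.AMonS.map S (QuotientAddGroup.mk' Z)))) (yoneda.map g)) :
    Set.Finite {N : AddSubmonoid M | ∀ L : AddSubmonoid M,
      (∀ T : Over S, Set.range (fun φ => (Magnet.attrToX a N).app (op T) φ) =
        Set.range (fun φ => (Magnet.attrToX a L).app (op T) φ)) → N ≤ L} := by
  classical
  have : LocallyOfFinitePresentation U.hom := by rw [← Over.w g]; infer_instance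
  have : IsSeparated U.hom := inferInstance
  obtain ⟨D, hD⟩ := Groth.MagnetBundle.exists_degrees aU
  refine Set.Finite.subset
    ((D.powerset.image fun s : Finset M => AddSubmonoid.closure (s : Set M)).finite_toSet) fun N hN => ?_
  simp only [Finset.coe_image, Set.mem_image]
  refine ⟨D.filter (· ∈ N), Finset.mem_coe.2 (Finset.mem_powerset.2 (Finset.filter_subset _ _)), ?_⟩
  let L := AddSubmonoid.closure ((D.filter (· ∈ N) : Finset M) : Set M)
  have hL : L ≤ N := AddSubmonoid.closure_le.2 fun d hd => (Finset.mem_filter.1 hd).2
  have key : ∀ (N L : AddSubmonoid M) (T : Over S), (∀ d ∈ D, d ∈ N → d ∈ L) →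
      Set.range (fun φ => (Magnet.attrToX a N).app (op T) φ) ⊆
        Set.range (fun φ => (Magnet.attrToX a L).app (op T) φ) := by
    rintro N L T hd _ ⟨φ, rfl⟩
    refine Groth.MagnetBundle.exists_attr_of_atlas hg N L (Groth.MagnetBundle.unitsGroup N) (fun _ => Iff.rfl)
      (hgZ _) (hfpr _) (fun T' φ' => ?_) T φ
    exact (Groth.MiscGeom.Mag.good_iff L aU _).1
      (hD N L hd T' _ ((Groth.MiscGeom.Mag.good_iff N aU _).2 ⟨φ', rfl⟩))
  exact le_antisymm hL (hN L fun T =>
    (key N L T fun d hd hdN => AddSubmonoid.subset_closure (Finset.mem_filter.2 ⟨hd, hdN⟩)).antisymm
      (key L N T fun d _ hdL => hL hdL))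

end Groth.Agent.S19646
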