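import Groth.Statements.S19647
import Groth.Agent.MagnetBundle.Pure
-- import your own Groth.Agent.* helpers here

set_option autoImplicit false
universe u
open CategoryTheory MonoidalCategory CartesianMonoidalCategory AlgebraicGeometry Opposite
open Magnet

namespace Groth.Agent.S19647

/-- Let S be a quasi-compact scheme, M a commutative monoid and X an S-scheme affine and of finite
presentation over S with an action of the diagonalizable monoid scheme A(M)_S. Call a submonoid
(magnet) N of M pure when every submonoid L whose attractor X^L has the same image in X as X^N (on
T-points, for every S-scheme T) contains N. Then the set of pure magnets is finite. (The published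
statement carries no quasi-compactness assumption on the base. Over the disjoint union S of
countably many copies of Spec ℚ indexed by n ≥ 1, let the multiplicative group act on the affine
line over the n-th copy with weight n: this X is affine and of finite presentation over S, yet the
submonoids dℕ of ℤ, d ≥ 1, are pairwise distinct pure magnets; the finite set of generating degrees
used in the published argument exists only over a quasi-compact base, so S is taken quasi-compact
here. The source allows X an algebraic space; here X is a scheme.) -/
theorem result (S : Scheme.{u}) [CompactSpace S] (M : Type) [AddCommMonoid M]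
    {X : Over S} [IsAffineHom X.hom] [LocallyOfFinitePresentation X.hom]
    (a : Magnet.MonAct (Magnet.AMonS S M) X) :
    Set.Finite {N : AddSubmonoid M | ∀ L : AddSubmonoid M,
      (∀ T : Over S, Set.range (fun φ => (Magnet.attrToX a N).app (op T) φ) =
        Set.range (fun φ => (Magnet.attrToX a L).app (op T) φ)) → N ≤ L} := by
  classical
  obtain ⟨D, hD⟩ := Groth.MagnetBundle.exists_degrees a
  have : IsSeparated X.hom := inferInstance
  refine Set.Finite.subset ((D.powerset.image fun s : Finset M => AddSubmonoid.closure (s : Set M)).finite_toSet) fun N hN => ?_
  simp only [Finset.coe_image, Set.mem_image]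
  refine ⟨D.filter (· ∈ N), Finset.mem_coe.2 (Finset.mem_powerset.2 (Finset.filter_subset _ _)), ?_⟩
  let L := AddSubmonoid.closure ((D.filter (· ∈ N) : Finset M) : Set M)
  have hL : L ≤ N := AddSubmonoid.closure_le.2 fun d hd => (Finset.mem_filter.1 hd).2
  refine le_antisymm hL (hN L fun T => Set.ext fun x => ?_)
  show (∃ φ, _ = x) ↔ ∃ φ, _ = x
  rw [← Groth.MiscGeom.Mag.good_iff N a x, ← Groth.MiscGeom.Mag.good_iff L a x]
  exact ⟨hD N L (fun d hd hdN => AddSubmonoid.subset_closure (Finset.mem_filter.2 ⟨hd, hdN⟩)) T x,
    hD L N (fun d _ hdL => hL hdL) T x⟩

end Groth.Agent.S19647
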