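import Groth.Statements.S19649
import Mathlib

set_option autoImplicit false
universe u v
open Instab

namespace Groth.Agent.S19649


section helpers

open MvPolynomial

variable {R : Type u} [CommRing R] {n : ℕ}

/-- the weights -/
abbrev wt (n : ℕ) : Fin n → (Fin n → ℤ) := fun i => (Pi.single i 1 : Fin n → ℤ)

theorem weight_wt_ne_zero {v : Fin n →₀ ℕ} (hv : v ≠ 0) : Finsupp.weight (wt n) v ≠ 0 := by
  intro h
  apply hv
  ext i
  have := congrFun h i
  rw [Finsupp.weight_apply, Finsupp.sum_fintype _ _ (by simp), Finset.sum_apply] at this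
  simp [wt, Pi.single_apply] at this
  simpa using this

variable {P : Type v} [AddCommGroup P] [Module (MvPolynomial (Fin n) R) P] [Module R P]
  [IsScalarTower R (MvPolynomial (Fin n) R) P]
  (ℳ : (Fin n → ℤ) → Submodule R P) [DirectSum.Decomposition ℳ]
  [SetLike.GradedSMul (MvPolynomial.weightedHomogeneousSubmodule R (wt n)) ℳ]

/-- component -/
noncomputable def cmp (d : Fin n → ℤ) (x : P) : P := (DirectSum.decompose ℳ x d : P)

theorem cmp_monomial (v : Fin n →₀ ℕ) (t : R) (y : P) (d : Fin n → ℤ) :
    cmp ℳ d (monomial v t • y) = monomial v t • cmp ℳ (d - Finsupp.weight (wt n) v) y := by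
  classical
  induction y using DirectSum.Decomposition.inductionOn ℳ with
  | zero => simp [cmp]
  | @homogeneous e y =>
    have hm : monomial v t • (y : P) ∈ ℳ (Finsupp.weight (wt n) v + e) :=
      SetLike.GradedSMul.smul_mem (A := weightedHomogeneousSubmodule R (wt n))
        (isWeightedHomogeneous_monomial _ _ _ rfl) y.2
    unfold cmp
    by_cases hd : Finsupp.weight (wt n) v + e = d
    · subst hd
      rw [DirectSum.decompose_of_mem_same ℳ hm, add_sub_cancel_left,
        DirectSum.decompose_of_mem_same ℳ y.2]
    · rw [DirectSum.decompose_of_mem_ne ℳ hm hd,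
        DirectSum.decompose_of_mem_ne ℳ y.2 (fun h => hd (by rw [h]; abel)), smul_zero]
  | add a b ha hb =>
    rw [smul_add]
    simp only [cmp] at ha hb ⊢
    rw [DirectSum.decompose_add, DFinsupp.add_apply, Submodule.coe_add, ha, hb, DirectSum.decompose_add,
      DFinsupp.add_apply, Submodule.coe_add, smul_add]

theorem cmp_mem_span {S : Set P} (hS : ∀ x ∈ S, SetLike.IsHomogeneousElem ℳ x) {x : P}
    (hx : x ∈ Submodule.span (MvPolynomial (Fin n) R) S) :
    ∀ d, cmp ℳ d x ∈ Submodule.span (MvPolynomial (Fin n) R) S := by
  induction hx using Submodule.span_induction with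
  | mem x hx =>
    intro d
    obtain ⟨e, he⟩ := hS x hx
    unfold cmp
    by_cases h : e = d
    · subst h; rw [DirectSum.decompose_of_mem_same ℳ he]; exact Submodule.subset_span hx
    · rw [DirectSum.decompose_of_mem_ne ℳ he h]; exact zero_mem _
  | zero => intro d; simp [cmp]
  | add a b _ _ ha hb =>
    intro d
    unfold cmp at ha hb ⊢
    rw [DirectSum.decompose_add, DFinsupp.add_apply, Submodule.coe_add]
    exact add_mem (ha d) (hb d)
  | smul c a _ ha =>
    induction c using MvPolynomial.induction_on' with
    | monomial v t => intro d; rw [cmp_monomial]; exact Submodule.smul_mem _ _ (ha _)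
    | add p q hp hq =>
      intro d
      rw [add_smul]
      unfold cmp at hp hq ⊢
      rw [DirectSum.decompose_add, DFinsupp.add_apply, Submodule.coe_add]
      exact add_mem (hp d) (hq d)

/-- graded Nakayama step -/
theorem constantCoeff_smul_mem {S : Set P} (hS : ∀ x ∈ S, SetLike.IsHomogeneousElem ℳ x)
    (c : MvPolynomial (Fin n) R) {d : Fin n → ℤ} {z : P} (hz : z ∈ ℳ d)
    (h : c • z ∈ Submodule.span (MvPolynomial (Fin n) R) S) :
    (C (constantCoeff c) : MvPolynomial (Fin n) R) • z ∈ Submodule.span (MvPolynomial (Fin n) R) S := by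
  classical
  have key : ∀ c : MvPolynomial (Fin n) R, cmp ℳ d (c • z) = (C (constantCoeff c) : MvPolynomial (Fin n) R) • z := by
    intro c
    induction c using MvPolynomial.induction_on' with
    | monomial v t =>
      rw [cmp_monomial, constantCoeff_monomial]
      by_cases hv : v = 0
      · subst hv
        rw [if_pos rfl, map_zero, sub_zero, monomial_zero', cmp, DirectSum.decompose_of_mem_same ℳ hz]
      · rw [if_neg hv, map_zero, zero_smul, cmp,
          DirectSum.decompose_of_mem_ne ℳ hz (fun e => weight_wt_ne_zero hv (by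
            have := sub_eq_self.mp e.symm; exact this)), smul_zero]
    | add p q hp hq =>
      unfold cmp at hp hq ⊢
      rw [add_smul, DirectSum.decompose_add, DFinsupp.add_apply, Submodule.coe_add, hp, hq, map_add,
        map_add, add_smul]
  rw [← key c]
  exact cmp_mem_span ℳ hS h d

/-- a polynomial with constant term a power of `r` kills only `r`-power torsion -/
theorem exists_pow_mul_eq_zero (r : R) (m : ℕ) (D c : MvPolynomial (Fin n) R)
    (hD : constantCoeff D = r ^ m) (h : D * c = 0) : ∃ N : ℕ, C r ^ N * c = 0 := by
  classical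
  let φ : MvPolynomial (Fin n) R →+* MvPowerSeries (Fin n) (Localization.Away r) :=
    MvPolynomial.coeToMvPowerSeries.ringHom.comp (MvPolynomial.map (algebraMap R (Localization.Away r)))
  have hu : IsUnit (φ D) := by
    rw [MvPowerSeries.isUnit_iff_constantCoeff]
    have : MvPowerSeries.constantCoeff (φ D) = algebraMap R (Localization.Away r) (constantCoeff D) := by
      rw [← MvPowerSeries.coeff_zero_eq_constantCoeff_apply]
      show MvPowerSeries.coeff 0 (MvPolynomial.coeToMvPowerSeries.ringHom (MvPolynomial.map (algebraMap R (Localization.Away r)) D)) = _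
      rw [MvPolynomial.coeToMvPowerSeries.ringHom_apply, MvPolynomial.coeff_coe, MvPolynomial.coeff_map]
      rfl
    rw [this, hD, map_pow]
    exact (IsLocalization.Away.algebraMap_isUnit r).pow m
  have hc : φ c = 0 := hu.mul_right_eq_zero.mp (by rw [← map_mul, h, map_zero])
  have hcoef : ∀ v, ∃ N : ℕ, r ^ N * c.coeff v = 0 := by
    intro v
    have h0 : algebraMap R (Localization.Away r) (c.coeff v) = 0 := by
      have := congrArg (MvPowerSeries.coeff v) hc
      rw [map_zero] at this
      rw [← this]
      show _ = MvPowerSeries.coeff v (MvPolynomial.coeToMvPowerSeries.ringHom (MvPolynomial.map (algebraMap R (Localization.Away r)) c))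
      rw [MvPolynomial.coeToMvPowerSeries.ringHom_apply, MvPolynomial.coeff_coe, MvPolynomial.coeff_map]
    obtain ⟨⟨_, N, rfl⟩, hN⟩ := (IsLocalization.map_eq_zero_iff (Submonoid.powers r) _ _).mp h0
    exact ⟨N, hN⟩
  choose N hN using hcoef
  refine ⟨c.support.sup N, MvPolynomial.ext _ _ fun v => ?_⟩
  rw [← map_pow, coeff_C_mul, coeff_zero]
  by_cases hv : v ∈ c.support
  · obtain ⟨k, hk⟩ := Nat.exists_eq_add_of_le (Finset.le_sup (f := N) hv)
    rw [hk, pow_add, mul_right_comm, hN, zero_mul]
  · rw [MvPolynomial.notMem_support_iff.mp hv, mul_zero]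

end helpers


open MvPolynomial DirectSum in
/-- The case of a point, in graded-module form over an affine base. Let R be a commutative ring, n a
natural number, A = R[x_1, …, x_n] the polynomial ring graded by ℤ^n with x_i of degree the i-th
basis vector (the weight grading of the standard action of the n-dimensional split torus on affine
n-space), and P a finitely generated projective A-module carrying a compatible ℤ^n-grading (an
equivariant vector bundle on affine n-space over Spec R). Then P is graded-free Zariski-locally on
Spec R: for every prime p of R there are r ∉ p and finitely many homogeneous elements f_1, …, f_m of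
P such that, after inverting r, the f_i form an A-basis of P — every element of P multiplied by a
power of r is an A-linear combination of the f_i, and the coefficients of every A-linear relation
among the f_i are killed by a power of r. (This is the case of a point of the source's description
of filtered points of quotient stacks by the general linear group, whose argument the source gives
in full: an equivariant vector bundle on affine n-space over a base is, locally on the base, the
standard one attached to a cocharacter; the general case, an identification of mapping stacks, is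
not stated here.) -/
theorem result
    {R : Type u} [CommRing R] (n : ℕ)
    {P : Type v} [AddCommGroup P] [Module (MvPolynomial (Fin n) R) P] [Module R P]
    [IsScalarTower R (MvPolynomial (Fin n) R) P]
    (ℳ : (Fin n → ℤ) → Submodule R P) [DirectSum.Decomposition ℳ]
    [SetLike.GradedSMul (MvPolynomial.weightedHomogeneousSubmodule R (fun i : Fin n => (Pi.single i 1 : Fin n → ℤ))) ℳ]
    [Module.Finite (MvPolynomial (Fin n) R) P] [Module.Projective (MvPolynomial (Fin n) R) P]
    (p : PrimeSpectrum R) :
    ∃ r : R, r ∉ p.asIdeal ∧ ∃ (m : ℕ) (d : Fin m → (Fin n → ℤ)) (f : Fin m → P), (∀ i, f i ∈ ℳ (d i)) ∧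
      (∀ q : P, ∃ (N : ℕ) (c : Fin m → MvPolynomial (Fin n) R), (MvPolynomial.C r : MvPolynomial (Fin n) R) ^ N • q = ∑ i, c i • f i) ∧
      (∀ c : Fin m → MvPolynomial (Fin n) R, ∑ i, c i • f i = 0 →
        ∃ N : ℕ, ∀ i, (MvPolynomial.C r : MvPolynomial (Fin n) R) ^ N * c i = 0) := by
  classical
  let A := MvPolynomial (Fin n) R
  let I : Ideal A := RingHom.ker (constantCoeff (R := R) (σ := Fin n))
  -- homogeneous generators
  let H : Set P := {x | SetLike.IsHomogeneousElem ℳ x}
  have hH : Submodule.span A H = ⊤ := by
    refine eq_top_iff.mpr fun x _ => ?_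
    induction x using DirectSum.Decomposition.inductionOn ℳ with
    | zero => exact zero_mem _
    | @homogeneous e y => exact Submodule.subset_span ⟨e, y.2⟩
    | add a b ha hb => exact add_mem (ha trivial) (hb trivial)
  obtain ⟨G₀, hG₀⟩ := Module.Finite.fg_top (R := A) (M := P)
  choose Tx hTx hTx' using fun x : G₀ =>
    Submodule.mem_span_finite_of_mem_span (show (x : P) ∈ Submodule.span A H by rw [hH]; trivial)
  let T : Finset P := Finset.univ.biUnion Tx
  have hTH : ∀ x ∈ T, SetLike.IsHomogeneousElem ℳ x := by
    intro x hx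
    obtain ⟨y, -, hy⟩ := Finset.mem_biUnion.mp hx
    exact hTx y hy
  let N := T.card
  let g : Fin N → P := fun i => (T.equivFin.symm i : P)
  let π : (Fin N → A) →ₗ[A] P := Fintype.linearCombination A g
  have hπ : Function.Surjective π := by
    rw [← LinearMap.range_eq_top, eq_top_iff, ← hG₀, Submodule.span_le]
    intro x hx
    have hTg : (T : Set P) ⊆ Set.range g := fun t ht => ⟨T.equivFin ⟨t, ht⟩, by simp [g]⟩
    rw [SetLike.mem_coe, Fintype.range_linearCombination]
    exact Submodule.span_mono hTg (Submodule.span_mono
      (by exact_mod_cast Finset.subset_biUnion_of_mem Tx (Finset.mem_univ ⟨x, hx⟩)) (hTx' ⟨x, hx⟩))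
  obtain ⟨sec, hsec⟩ := Module.projective_lifting_property π LinearMap.id hπ
  have hsec' : ∀ x, ∑ i, sec x i • g i = x := fun x => LinearMap.congr_fun hsec x
  -- reduction modulo the variables
  let IP : Submodule A P := I • ⊤
  let q : P →ₗ[R] P ⧸ IP := IP.mkQ.restrictScalars R
  have hqs : ∀ (c : A) (x : P), q (c • x) = constantCoeff c • q x := by
    intro c x
    have h : (c - (C (constantCoeff c) : A)) • x ∈ IP :=
      Submodule.smul_mem_smul (show c - C (constantCoeff c) ∈ I by rw [RingHom.mem_ker, map_sub, constantCoeff_C, sub_self]) trivial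
    have h2 : q (c • x) = q ((C (constantCoeff c) : A) • x) := by
      show Submodule.Quotient.mk (p := IP) _ = Submodule.Quotient.mk _
      rw [Submodule.Quotient.eq, ← sub_smul]; exact h
    rw [h2, ← map_smul q, ← MvPolynomial.algebraMap_eq, IsScalarTower.algebraMap_smul]
  let gb : Fin N → P ⧸ IP := fun i => q (g i)
  have hgb : ∀ x, q x = ∑ i, constantCoeff (sec x i) • gb i := fun x => by
    conv_lhs => rw [← hsec' x, map_sum]
    exact Finset.sum_congr rfl fun i _ => hqs _ _
  let τ : P ⧸ IP →ₗ[R] (Fin N → R) :=
    { toFun := Quotient.lift (fun x i => constantCoeff (sec x i)) (fun x y hxy => by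
        have h : x - y ∈ IP := (Submodule.quotientRel_def IP).mp hxy
        have key : ∀ z ∈ IP, ∀ i, constantCoeff (sec z i) = 0 := by
          intro z hz
          refine Submodule.smul_induction_on hz (fun c hc w _ i => ?_) (fun a b ha hb i => ?_)
          · rw [map_smul, Pi.smul_apply, smul_eq_mul, map_mul, show constantCoeff c = 0 from hc, zero_mul]
          · rw [map_add, Pi.add_apply, map_add, ha, hb, add_zero]
        funext i
        have := key _ h i
        rwa [map_sub, Pi.sub_apply, map_sub, sub_eq_zero] at this)
      map_add' := fun a b => by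
        obtain ⟨a, rfl⟩ := Submodule.Quotient.mk_surjective _ a
        obtain ⟨b, rfl⟩ := Submodule.Quotient.mk_surjective _ b
        funext i
        show constantCoeff (sec (a + b) i) = constantCoeff (sec a i) + constantCoeff (sec b i)
        simp
      map_smul' := fun c a => by
        obtain ⟨a, rfl⟩ := Submodule.Quotient.mk_surjective _ a
        funext i
        show constantCoeff (sec (c • a) i) = c * constantCoeff (sec a i)
        rw [← IsScalarTower.algebraMap_smul A c a, map_smul, Pi.smul_apply, smul_eq_mul, map_mul,
          MvPolynomial.algebraMap_eq, constantCoeff_C] }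
  let ρ : (Fin N → R) →ₗ[R] P ⧸ IP := Fintype.linearCombination R gb
  have hρτ : ρ.comp τ = LinearMap.id := LinearMap.ext fun a => by
    obtain ⟨a, rfl⟩ := Submodule.Quotient.mk_surjective _ a
    exact (hgb a).symm
  have hρ : Function.Surjective ρ := fun a => ⟨τ a, LinearMap.congr_fun hρτ a⟩
  haveI : Module.Finite R (P ⧸ IP) := Module.Finite.of_surjective ρ hρ
  haveI : Module.Projective R (P ⧸ IP) := Module.Projective.of_split τ ρ hρτ
  haveI : Module.FinitePresentation R (P ⧸ IP) := Module.finitePresentation_of_projective R _
  -- localisation at p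
  let S := p.asIdeal.primeCompl
  let L := LocalizedModule.mkLinearMap S (P ⧸ IP)
  have hspan : Submodule.span R (Set.range gb) = ⊤ := by
    rw [← Fintype.range_linearCombination]; exact LinearMap.range_eq_top.mpr hρ
  have hspanL : Submodule.span (Localization S) (Set.range fun i => L (gb i)) = ⊤ := by
    rw [Set.range_comp' L gb]
    exact span_eq_top_of_isLocalizedModule (Localization S) S L hspan
  haveI : Module.FinitePresentation (Localization.AtPrime p.asIdeal) (LocalizedModule S (P ⧸ IP)) :=
    inferInstanceAs (Module.FinitePresentation (Localization S) (LocalizedModule S (P ⧸ IP)))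
  haveI : Module.Flat (Localization.AtPrime p.asIdeal) (LocalizedModule S (P ⧸ IP)) :=
    Module.Flat.of_isLocalizedModule (Localization.AtPrime p.asIdeal) S L
  obtain ⟨κ, a, b, hb⟩ := Module.exists_basis_of_span_of_flat
    (R := Localization.AtPrime p.asIdeal) (M := LocalizedModule S (P ⧸ IP)) (fun i => L (gb i)) hspanL
  haveI : Finite κ := Module.Finite.finite_basis b
  let m := Nat.card κ
  let eκ : κ ≃ Fin m := Finite.equivFin κ
  let B := b.reindex eκ
  let idx : Fin m → Fin N := fun j => a (eκ.symm j)
  have hB : ∀ j, B j = L (gb (idx j)) := fun j => by rw [Module.Basis.reindex_apply, hb]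
  let co : Fin m → (P ⧸ IP →ₗ[R] Localization.AtPrime p.asIdeal) := fun j =>
    ((B.coord j).restrictScalars R).comp L
  choose χ₀ s₀ hχ₀ using fun j => Module.FinitePresentation.exists_lift_of_isLocalizedModule S
    (Algebra.linearMap R (Localization.AtPrime p.asIdeal)) (co j)
  let s : R := ∏ j, (s₀ j : R)
  let χ : Fin m → (P ⧸ IP →ₗ[R] R) := fun j => (∏ i ∈ Finset.univ.erase j, (s₀ i : R)) • χ₀ j
  have hχ : ∀ j x, algebraMap R (Localization.AtPrime p.asIdeal) (χ j x) = s • co j x := by
    intro j x
    have := LinearMap.congr_fun (hχ₀ j) x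
    simp only [LinearMap.comp_apply, Algebra.linearMap_apply, LinearMap.smul_apply, Submonoid.smul_def] at this
    simp only [χ, s, LinearMap.smul_apply, smul_eq_mul, map_mul, this]
    rw [← Algebra.smul_def, smul_smul, Finset.prod_erase_mul _ _ (Finset.mem_univ j)]
  let ψ : (Fin m → R) →ₗ[R] P ⧸ IP := Fintype.linearCombination R fun j => gb (idx j)
  have hψL : ∀ c : Fin m → R, L (ψ c) = ∑ j, algebraMap R (Localization.AtPrime p.asIdeal) (c j) • B j := by
    intro c
    simp only [ψ, Fintype.linearCombination_apply, map_sum, map_smul, hB, algebraMap_smul]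
  have e1 : ∀ i, ∃ t : S, (t : R) • (ψ (fun j => χ j (gb i)) - s • gb i) = 0 := by
    intro i
    have h1 : L (ψ (fun j => χ j (gb i))) = L (s • gb i) := by
      rw [hψL, map_smul]
      simp only [hχ, co, LinearMap.comp_apply, LinearMap.coe_restrictScalars, smul_assoc, ← Finset.smul_sum]
      exact congrArg (s • ·) (B.sum_repr (L (gb i)))
    obtain ⟨t, ht⟩ := (IsLocalizedModule.eq_iff_exists S L).mp h1
    exact ⟨t, by rw [smul_sub, sub_eq_zero]; exact ht⟩
  have e2 : ∀ j k, ∃ t : S, (t : R) * (χ k (gb (idx j)) - s * (if j = k then 1 else 0)) = 0 := by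
    intro j k
    have h1 : algebraMap R (Localization.AtPrime p.asIdeal) (χ k (gb (idx j))) =
        algebraMap R (Localization.AtPrime p.asIdeal) (s * (if j = k then 1 else 0)) := by
      rw [hχ, map_mul, Algebra.smul_def]
      congr 1
      simp only [co, LinearMap.comp_apply, LinearMap.coe_restrictScalars, ← hB, Module.Basis.coord_apply,
        Module.Basis.repr_self, Finsupp.single_apply]
      split_ifs <;> simp
    obtain ⟨t, ht⟩ := (IsLocalization.eq_iff_exists S _).mp h1
    exact ⟨t, by rw [mul_sub, sub_eq_zero]; exact ht⟩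
  choose t₁ ht₁ using e1
  choose t₂ ht₂ using e2
  let t : S := (∏ i, t₁ i) * ∏ jk : Fin m × Fin m, t₂ jk.1 jk.2
  have htr1 : ∀ i, (t : R) • (ψ (fun j => χ j (gb i)) - s • gb i) = 0 := fun i => by
    obtain ⟨w, hw⟩ : (t₁ i : R) ∣ (t : R) := by
      simp only [t, Submonoid.coe_mul, Submonoid.coe_finsetProd]
      exact Dvd.dvd.mul_right (Finset.dvd_prod_of_mem (fun i => (t₁ i : R)) (Finset.mem_univ i)) _
    rw [hw, mul_comm, mul_smul, ht₁, smul_zero]
  have htr2 : ∀ j k, (t : R) * χ k (gb (idx j)) = (t : R) * s * (if j = k then 1 else 0) := fun j k => by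
    obtain ⟨w, hw⟩ : (t₂ j k : R) ∣ (t : R) := by
      simp only [t, Submonoid.coe_mul, Submonoid.coe_finsetProd]
      exact Dvd.dvd.mul_left (Finset.dvd_prod_of_mem (fun jk : Fin m × Fin m => (t₂ jk.1 jk.2 : R))
        (Finset.mem_univ (j, k))) _
    rw [hw]
    linear_combination w * ht₂ j k
  let r : R := (t : R) * s
  have hr : r ∉ p.asIdeal := fun h => by
    rcases p.isPrime.mem_or_mem h with h | h
    · exact t.2 h
    · exact ((∏ j, s₀ j : S)).2 (by rw [Submonoid.coe_finsetProd]; exact h)
  let f : Fin m → P := fun j => g (idx j)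
  have hf : ∀ j, SetLike.IsHomogeneousElem ℳ (f j) := fun j => hTH _ (T.equivFin.symm (idx j)).2
  choose dg hdg using hf
  -- the lifts
  let h : P →ₗ[A] (Fin m → A) := LinearMap.pi fun j =>
    (Fintype.linearCombination A fun i => C ((t : R) * χ j (gb i))).comp sec
  let φ : (Fin m → A) →ₗ[A] P := Fintype.linearCombination A f
  have hqφ : ∀ c, q (φ c) = ψ (fun j => constantCoeff (c j)) := fun c => by
    simp only [φ, ψ, Fintype.linearCombination_apply, map_sum, hqs, gb, f]
  have hh : ∀ x j, constantCoeff (h x j) = (t : R) * χ j (q x) := fun x j => by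
    simp only [h, LinearMap.pi_apply, LinearMap.comp_apply, Fintype.linearCombination_apply, map_sum,
      smul_eq_mul, map_mul, constantCoeff_C, hgb x, map_smul, Finset.mul_sum]
    exact Finset.sum_congr rfl fun i _ => by ring
  refine ⟨r, hr, m, dg, f, hdg, fun x => ?_, fun c hc => ?_⟩
  · -- generation
    let E : Module.End A P := φ.comp h - (C r : A) • LinearMap.id
    have hE : LinearMap.range E ≤ I • ⊤ := by
      rintro _ ⟨y, rfl⟩
      rw [← Submodule.Quotient.mk_eq_zero (p := IP)]
      show q (E y) = 0
      simp only [E, LinearMap.sub_apply, LinearMap.comp_apply, LinearMap.smul_apply, LinearMap.id_apply,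
        map_sub, hqs, constantCoeff_C, hqφ, hh]
      rw [hgb y]
      have : (fun j => (t : R) * χ j (∑ i, constantCoeff (sec y i) • gb i)) =
          ∑ i, constantCoeff (sec y i) • ((t : R) • fun j => χ j (gb i)) := by
        funext j
        simp only [map_sum, map_smul, Finset.sum_apply, Pi.smul_apply, smul_eq_mul, Finset.mul_sum]
        exact Finset.sum_congr rfl fun i _ => by ring
      rw [this, map_sum, Finset.smul_sum, ← Finset.sum_sub_distrib]
      refine Finset.sum_eq_zero fun i _ => ?_
      rw [map_smul, map_smul, smul_comm r, ← smul_sub, show r • gb i = (t : R) • s • gb i from mul_smul _ _ _,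
        ← smul_sub, htr1, smul_zero]
    obtain ⟨F, hmon, -, hcoef, hFE⟩ := LinearMap.exists_monic_and_natDegree_eq_and_coeff_mem_pow_and_aeval_eq_zero (f := E) (I := I) (hI := hE)
    let Q : Submodule A P := Submodule.span A (Set.range f)
    have hQ : Q = LinearMap.range φ := (Fintype.range_linearCombination A f).symm
    have hEr : ∀ y, E y + (C r : A) • y ∈ Q := fun y => by
      rw [hQ]; exact ⟨h y, by simp [E]⟩
    have hpow : ∀ (k : ℕ) (y : P), (E ^ k) y - (-C r : A) ^ k • y ∈ Q := by
      intro k
      induction k with
      | zero => intro y; simp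
      | succ k ih =>
        intro y
        have h1 := ih (E y)
        have h2 := Q.smul_mem ((-C r : A) ^ k) (hEr y)
        convert add_mem h1 h2 using 1
        rw [pow_succ, Module.End.mul_apply, pow_succ, mul_smul, neg_smul, smul_neg, smul_add]
        abel
    let kd := F.natDegree
    have hcc : constantCoeff (F.eval (-C r : A)) = (-r) ^ kd := by
      rw [Polynomial.eval_eq_sum_range, map_sum, Finset.sum_range_succ, Finset.sum_eq_zero, zero_add]
      · rw [Polynomial.Monic.coeff_natDegree hmon, one_mul, map_pow, map_neg, constantCoeff_C]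
      · intro i hi
        rw [Finset.mem_range] at hi
        rw [map_mul, show constantCoeff (F.coeff i) = 0 from
          Ideal.pow_le_self (show F.natDegree - i ≠ 0 by omega) (hcoef i), zero_mul]
    refine ⟨kd, ?_⟩
    suffices hmem : (C r : A) ^ kd • x ∈ Q by
      rw [hQ] at hmem
      obtain ⟨c, hc⟩ := hmem
      exact ⟨c, by rw [← hc]; rfl⟩
    induction x using DirectSum.Decomposition.inductionOn ℳ with
    | zero => rw [smul_zero]; exact zero_mem _
    | @homogeneous e y =>
      have h1 : F.eval (-C r : A) • (y : P) ∈ Q := by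
        have h0 : (Polynomial.aeval E F) (y : P) - F.eval (-C r : A) • (y : P) ∈ Q := by
          rw [Polynomial.aeval_eq_sum_range, Polynomial.eval_eq_sum_range, LinearMap.sum_apply,
            Finset.sum_smul, ← Finset.sum_sub_distrib]
          refine Q.sum_mem fun i _ => ?_
          rw [LinearMap.smul_apply, mul_smul, ← smul_sub]
          exact Q.smul_mem _ (hpow i _)
        rw [hFE, LinearMap.zero_apply, zero_sub, neg_mem_iff] at h0
        exact h0
      have h2 := constantCoeff_smul_mem ℳ (by rintro _ ⟨j, rfl⟩; exact ⟨_, hdg j⟩) _ y.2 h1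
      rw [hcc, map_pow, map_neg, neg_pow, mul_smul] at h2
      have h3 := Q.smul_mem ((-1 : A) ^ kd) h2
      rwa [smul_smul, ← mul_pow, neg_one_mul, neg_neg, one_pow, one_smul] at h3
    | add a b ha hb => rw [smul_add]; exact add_mem ha hb
  · -- relations
    let Hm : Matrix (Fin m) (Fin m) A := LinearMap.toMatrix' (h.comp φ)
    have hHc : Hm.mulVec c = 0 := by
      rw [LinearMap.toMatrix'_mulVec, LinearMap.comp_apply,
        show φ c = 0 from (Fintype.linearCombination_apply A f c).trans hc, map_zero]
    have hdet : ∀ i, Hm.det * c i = 0 := by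
      intro i
      have e : (Hm.adjugate * Hm).mulVec c = 0 := by
        rw [← Matrix.mulVec_mulVec, hHc, Matrix.mulVec_zero]
      rw [Matrix.adjugate_mul, Matrix.smul_mulVec, Matrix.one_mulVec] at e
      exact congrFun e i
    have hmap : Hm.map constantCoeff = r • (1 : Matrix (Fin m) (Fin m) R) := by
      ext i j
      show constantCoeff (LinearMap.toMatrix' (h.comp φ) i j) = _
      rw [LinearMap.toMatrix'_apply, LinearMap.comp_apply, hh, hqφ]
      have : ψ (fun k => constantCoeff ((Pi.single j 1 : Fin m → A) k)) = gb (idx j) := by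
        simp [ψ, Fintype.linearCombination_apply, Pi.single_apply, apply_ite (constantCoeff (R := R) (σ := Fin n))]
      rw [this, htr2, Matrix.smul_apply, Matrix.one_apply, smul_eq_mul]
      simp [r, eq_comm]
    have hD : constantCoeff Hm.det = r ^ m := by
      rw [RingHom.map_det, RingHom.mapMatrix_apply, hmap]
      simp
    choose Ni hNi using fun i => exists_pow_mul_eq_zero r m Hm.det (c i) hD (hdet i)
    refine ⟨Finset.univ.sup Ni, fun i => ?_⟩
    obtain ⟨k, hk⟩ := Nat.exists_eq_add_of_le (Finset.le_sup (f := Ni) (Finset.mem_univ i))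
    rw [hk, pow_add, mul_right_comm, hNi, zero_mul]

end Groth.Agent.S19649
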