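import Groth.Statements.S1965
import Mathlib.Algebra.Polynomial.Taylor
import Mathlib.RingTheory.Nilpotent.Lemmas
import Mathlib.RingTheory.KrullDimension.Zero
import Mathlib.RingTheory.KrullDimension.LocalRing
import Mathlib.Tactic.LinearCombination
-- import your own Groth.Agent.* helpers here

set_option autoImplicit false
universe u
open Polynomial
open EtAlg

namespace Groth.Agent.S1965

/-- Let A be a complete Noetherian local domain of Krull dimension 1 with maximal ideal m, P a
polynomial over A and α a root of P which is not a root of the derivative P'. Then for every c there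
is an n such that for every polynomial Q all of whose coefficients lie in m^n, the polynomial P + Q
has a root β with β - α in m^c. -/
theorem result (A : Type u) [CommRing A] [IsDomain A] [IsLocalRing A] [IsNoetherianRing A]
    [IsAdicComplete (IsLocalRing.maximalIdeal A) A] (hdim : ringKrullDim A = 1) (P : A[X]) (α : A)
    (hα : P.eval α = 0) (hα' : (derivative P).eval α ≠ 0) (c : ℕ) :
    ∃ n : ℕ, ∀ Q : A[X], (∀ i, Q.coeff i ∈ IsLocalRing.maximalIdeal A ^ n) →
      ∃ β : A, (P + Q).eval β = 0 ∧ β - α ∈ IsLocalRing.maximalIdeal A ^ c := by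
  classical
  let m := IsLocalRing.maximalIdeal A
  set d := (derivative P).eval α with hd
  have hm : m ≠ ⊥ := fun hm0 => by
    have hF : IsField A := (IsLocalRing.isField_iff_maximalIdeal_eq).2 hm0
    have := ringKrullDim_eq_zero_of_isField hF
    rw [hdim] at this
    exact one_ne_zero this
  let K : Ideal A := Ideal.span {d ^ 2} * m ^ (c + 1)
  have hK : K ≠ ⊥ := mul_ne_zero (by simpa [Ideal.span_singleton_eq_bot] using pow_ne_zero 2 hα')
    (pow_ne_zero _ hm)
  have : Ring.KrullDimLE 1 A := Ring.krullDimLE_iff.2 (by simp [hdim])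
  have hrad : m ≤ K.radical := by
    rw [Ideal.radical_eq_sInf]
    refine le_sInf fun p ⟨hKp, hp⟩ => ?_
    have hpb : p ≠ ⊥ := fun h => hK (le_bot_iff.1 (h ▸ hKp))
    exact (IsLocalRing.eq_maximalIdeal (hp.isMaximal_of_ne_bot hpb)).ge
  obtain ⟨n, hn⟩ := Ideal.exists_pow_le_of_le_radical_of_fg hrad (IsNoetherian.noetherian _)
  refine ⟨n, fun Q hQ => ?_⟩
  have hQev : ∀ (R : A[X]), (∀ i, R.coeff i ∈ m ^ n) → ∃ z ∈ m ^ (c + 1), R.eval α = d ^ 2 * z := by
    intro R hR
    have : R.eval α ∈ K := by
      rw [Polynomial.eval_eq_sum]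
      exact Submodule.sum_mem _ fun i _ => Ideal.mul_mem_right _ _ (hn (hR i))
    obtain ⟨z, hz, hz'⟩ := Ideal.mem_span_singleton_mul.1 this
    exact ⟨z, hz, hz'.symm⟩
  obtain ⟨q, hq, hq'⟩ := hQev Q hQ
  obtain ⟨r, hr, hr'⟩ := hQev (derivative Q) fun i => by
    rw [Polynomial.coeff_derivative]; exact Ideal.mul_mem_right _ _ (hQ _)
  set T := Polynomial.taylor α (P + Q) with hT
  let R := T.divX.divX
  have hTeq : ∀ x, T.eval x = q * d ^ 2 + x * (d + r * d ^ 2 + x * R.eval x) := by
    intro x
    have h0 : T.coeff 0 = q * d ^ 2 := by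
      rw [hT, Polynomial.taylor_coeff_zero, Polynomial.eval_add, hα, hq', zero_add, mul_comm]
    have h1 : T.coeff 1 = d + r * d ^ 2 := by
      rw [hT, Polynomial.taylor_coeff_one, derivative_add, Polynomial.eval_add, hr', hd, mul_comm]
    conv_lhs => rw [← Polynomial.X_mul_divX_add T, ← Polynomial.X_mul_divX_add T.divX]
    simp only [Polynomial.eval_add, Polynomial.eval_mul, Polynomial.eval_X, Polynomial.eval_C,
      Polynomial.coeff_divX, h0, h1, R]
    ring
  let F : A → A := fun t => q + t * (1 + r * d) + t ^ 2 * R.eval (d * t)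
  obtain ⟨v, hv⟩ : ∃ v, (1 + r * d) * v = 1 := by
    refine isUnit_iff_exists_inv.1 ?_
    by_contra h
    have hrm : r * d ∈ m := Ideal.mul_mem_right _ _ (Ideal.pow_le_self (by omega) hr)
    exact Ideal.IsPrime.ne_top inferInstance (m.eq_top_iff_one.2 (by
      simpa using Ideal.sub_mem m (show 1 + r * d ∈ m from h) hrm))
  let φ : A → A := fun t => t - v * F t
  let J : Ideal A := m ^ (c + 1)
  have hJm : J ≤ m := Ideal.pow_le_self (by omega)
  have hφJ : ∀ t ∈ J, φ t ∈ J := fun t ht => by
    refine J.sub_mem ht (J.mul_mem_left _ (J.add_mem (J.add_mem hq (J.mul_mem_right _ ht)) ?_))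
    rw [pow_two, mul_assoc]
    exact J.mul_mem_right _ ht
  have hlip : ∀ s ∈ J, ∀ t ∈ J, ∀ k, t - s ∈ m ^ k → φ t - φ s ∈ m ^ (k + 1) := by
    intro s hs t ht k hk
    obtain ⟨z, hz⟩ := Polynomial.sub_dvd_eval_sub t s (R.comp (C d * X))
    simp only [Polynomial.eval_comp, Polynomial.eval_mul, Polynomial.eval_C, Polynomial.eval_X] at hz
    have : φ t - φ s = (t - s) * -(v * ((t + s) * R.eval (d * t) + s ^ 2 * z)) := by
      simp only [φ, F]
      linear_combination (-(v * s ^ 2)) * hz + (-(t - s)) * hv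
    rw [this, pow_succ]
    refine Ideal.mul_mem_mul hk (m.neg_mem (m.mul_mem_left _ (m.add_mem
      (m.mul_mem_right _ (m.add_mem (hJm ht) (hJm hs))) (m.mul_mem_right _ ?_))))
    rw [pow_two]
    exact m.mul_mem_left _ (hJm hs)
  let t : ℕ → A := fun k => Nat.rec 0 (fun _ x => φ x) k
  have htJ : ∀ k, t k ∈ J := fun k => by
    induction k with
    | zero => exact J.zero_mem
    | succ k ih => exact hφJ _ ih
  have hstep : ∀ k, t (k + 1) - t k ∈ m ^ k := fun k => by
    induction k with
    | zero => simp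
    | succ k ih => exact hlip _ (htJ k) _ (htJ (k + 1)) k ih
  have hcau : ∀ i j, i ≤ j → t j - t i ∈ m ^ i := fun i j hij => by
    induction hij with
    | refl => simp
    | @step j hij ih =>
      have : t (j + 1) - t i = (t (j + 1) - t j) + (t j - t i) := by ring
      rw [this]
      exact add_mem (Ideal.pow_le_pow_right hij (hstep j)) ih
  obtain ⟨l, hl⟩ := IsPrecomplete.prec (I := m) inferInstance (f := t) fun {i j} hij => by
    rw [SModEq.sub_mem, ← neg_sub, smul_eq_mul, Ideal.mul_top]
    exact (m ^ i).neg_mem (hcau i j hij)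
  have hl' : ∀ k, t k - l ∈ m ^ k := fun k => by
    simpa [SModEq.sub_mem, smul_eq_mul, Ideal.mul_top] using hl k
  have hlJ : l ∈ J := by
    have := J.sub_mem (htJ (c + 1)) (hl' (c + 1))
    rwa [sub_sub_cancel] at this
  have hfix : φ l = l := by
    rw [← sub_eq_zero]
    refine IsHausdorff.haus (I := m) inferInstance _ fun k => ?_
    rw [SModEq.sub_mem, smul_eq_mul, Ideal.mul_top, sub_zero]
    have : φ l - l = (t (k + 1) - l) - (φ (t k) - φ l) := by
      show _ = (φ (t k) - l) - (φ (t k) - φ l)
      ring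
    rw [this]
    exact sub_mem (Ideal.pow_le_pow_right k.le_succ (hl' (k + 1)))
      (Ideal.pow_le_pow_right k.le_succ (hlip _ hlJ _ (htJ k) k (hl' k)))
  have hFl : F l = 0 := by
    have h1 : v * F l = 0 := by
      have h : l - v * F l = l := hfix
      linear_combination -h
    linear_combination (1 + r * d) * h1 - F l * hv
  refine ⟨α + d * l, ?_, ?_⟩
  · have := hTeq (d * l)
    rw [hT, Polynomial.taylor_eval] at this
    rw [add_comm α, this]
    linear_combination d ^ 2 * hFl
  · rw [add_sub_cancel_left]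
    exact Ideal.mul_mem_left _ _ (Ideal.pow_le_pow_right c.le_succ hlJ)

end Groth.Agent.S1965
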