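import Groth.Statements.S19655
import Groth.Agent.NeronArea.WeilExtensionBase
import Groth.Agent.S4440


set_option autoImplicit false
universe u
open CategoryTheory CategoryTheory.Limits MonoidalCategory CartesianMonoidalCategory AlgebraicGeometry
open Neron

namespace Groth.Agent.S19655

/-- Let R be a Dedekind domain with fraction field K, A an abelian variety over K (a proper smooth
geometrically connected K-group scheme) and N a Néron model of A over Spec R. Then for every smooth
R-scheme Y, every K-morphism to A defined on a dense open subscheme of the generic fibre of Y is the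
restriction of exactly one R-morphism Y → N: K-rational maps from smooth R-schemes to A extend
uniquely to the Néron model. (The text works over a connected Dedekind scheme; the affine case is
stated.) -/
theorem result
    (R : Type u) [CommRing R] [IsDedekindDomain R]
    (N : Over (Spec (CommRingCat.of R))) (A : Over (Spec (CommRingCat.of (FractionRing R))))
    (e : (Neron.genericFibre R).obj N ≅ A) (hN : Neron.IsNeronModelOf R N A e)
    [GrpObj A] [IsProper A.hom] [Smooth A.hom] [GeometricallyConnected A.hom]
    (Y : Over (Spec (CommRingCat.of R))) [Smooth Y.hom]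
    (W : ((Neron.genericFibre R).obj Y).left.Opens) (hW : Dense (W : Set ↥((Neron.genericFibre R).obj Y).left))
    (g : (W : Scheme.{u}) ⟶ A.left) (hg : g ≫ A.hom = W.ι ≫ ((Neron.genericFibre R).obj Y).hom) :
    ∃! h : Y ⟶ N, W.ι ≫ ((Neron.genericFibre R).map h ≫ e.hom).left = g := by
  let YK := (Neron.genericFibre R).obj Y
  have hreg0 : ∀ s : Spec (CommRingCat.of (FractionRing R)),
      IsRegularLocalRing ((Spec (CommRingCat.of (FractionRing R))).presheaf.stalk s) := fun s =>
    (Groth.NeronArea.Weil.dedekind_stalk s).1
  haveI : Smooth YK.hom := inferInstanceAs (Smooth (pullback.snd _ _))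
  haveI := Groth.NeronArea.Weil.isLocallyNoetherian_of_smooth YK.hom
  have hX := Groth.NeronArea.Weil.isRegularLocalRing_of_smooth_dedekind (R := FractionRing R) YK.hom
  haveI := Groth.NeronArea.Weil.isReduced_of_regular hX
  obtain ⟨V, hWV, f, hf1, hf2, hV⟩ := Groth.Agent.S4440.result A.hom YK.hom (fun y _ => hX y) W hW g hg
  haveI : GrpObj (Over.mk A.hom) := ‹GrpObj A›
  obtain ⟨g', ⟨hg'1, hg'2⟩, -⟩ := Groth.NeronArea.Weil.existsUnique_extension YK.hom A.hom hX V f hf1
    (fun x => Groth.NeronArea.Weil.mem_closure_fibre_dedekind (R := FractionRing R) YK.hom V x hV) hV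
  haveI : IsDominant W.ι := ⟨by rw [DenseRange, Scheme.Opens.range_ι]; exact hW⟩
  have hsep : IsSeparated A.hom := inferInstance
  obtain ⟨h, hh⟩ := (hN.2.2.2.2 Y inferInstance).2 (Over.homMk g' hg'1)
  have hhl : ((Neron.genericFibre R).map h ≫ e.hom).left = g' := congrArg CommaMorphism.left hh
  have hWg : W.ι ≫ g' = g := by
    rw [← hf2, ← hg'2, Scheme.homOfLE_ι_assoc]
  refine ⟨h, ?_, fun b hb => (hN.2.2.2.2 Y inferInstance).1 ?_⟩
  · show W.ι ≫ ((Neron.genericFibre R).map h ≫ e.hom).left = g
    rw [hhl, hWg]
  · ext : 1
    refine ext_of_isDominant_of_isSeparated A.hom ((Over.w _).trans (Over.w _).symm) W.ι ?_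
    exact hb.trans (by rw [hhl, hWg])

end Groth.Agent.S19655
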