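import Groth.Statements.S1966
import Groth.Agent.EtaleAlgebra.HenselLimit
import Groth.Agent.Hensel1.Local
import Mathlib.RingTheory.Nilpotent.Lemmas
-- import your own Groth.Agent.* helpers here

set_option autoImplicit false
universe u
open EtAlg

namespace Groth.Agent.S1966

/-- Towers indexed by the natural numbers: let (A_k) be rings with surjective transition maps A_{k+1} ->
A_k whose kernels consist of nilpotent elements, and let A be a ring with compatible projections p_k
: A -> A_k identifying A with the set of compatible sequences (p is jointly injective and every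
compatible sequence comes from an element of A). Then for every k the pair (A, ker p_k) is
henselian. -/
theorem result (A : Type u) [CommRing A] (As : ℕ → Type u) [∀ k, CommRing (As k)]
    (t : ∀ k, As (k + 1) →+* As k) (ht : ∀ k, Function.Surjective (t k))
    (hnil : ∀ k (x : As (k + 1)), t k x = 0 → IsNilpotent x)
    (p : ∀ k, A →+* As k) (hp : ∀ k, (t k).comp (p (k + 1)) = p k)
    (hinj : ∀ a b : A, (∀ k, p k a = p k b) → a = b)
    (hsurj : ∀ x : ∀ k, As k, (∀ k, t k (x (k + 1)) = x k) → ∃ a : A, ∀ k, p k a = x k) (k : ℕ) :
    HenselianRing A (RingHom.ker (p k)) := by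
  have hlt : ∀ j n x, p (j + n) x = 0 → p j x = 0 := fun j n => by
    induction n with
    | zero => exact fun _ h => h
    | succ n ih =>
      intro x hx
      refine ih x ?_
      rw [← hp (j + n), RingHom.comp_apply]
      exact (congrArg (t (j + n)) hx).trans (map_zero _)
  have hnk : ∀ x, p k x = 0 → ∀ j, IsNilpotent (p j x) := by
    intro x hx j
    rcases le_total j k with hjk | hjk
    · obtain ⟨n, rfl⟩ := Nat.exists_eq_add_of_le hjk
      rw [hlt j n x hx]; exact IsNilpotent.zero
    · induction j, hjk using Nat.le_induction with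
      | base => rw [hx]; exact IsNilpotent.zero
      | succ j _ ih =>
        obtain ⟨n, hn⟩ := ih
        have : t j (p (j + 1) x ^ n) = 0 := by
          rw [map_pow, ← RingHom.comp_apply, hp j, hn]
        exact IsNilpotent.of_pow (hnil j _ this)
  let I : ∀ j, Ideal (As j) := fun j => (RingHom.ker (p k)).map (p j)
  have hk : RingHom.ker (p k) = ⨅ j, (I j).comap (p j) := by
    refine le_antisymm (le_iInf fun j => Ideal.le_comap_map) ?_
    intro x hx
    rw [Ideal.mem_iInf] at hx
    have h0 : I k = ⊥ := (Ideal.map_eq_bot_iff_le_ker _).2 le_rfl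
    simpa [h0] using hx k
  rw [hk]
  exact Groth.EtaleAlgebra.henselianRing_limit p
    (r := fun i j => PLift (i = j + 1)) (fun i j e => e.down.symm ▸ t j)
    (fun i j ⟨e⟩ => by subst e; exact hp j) hinj
    (fun x hx => hsurj x fun j => hx (j + 1) j ⟨rfl⟩) I
    (fun i j ⟨e⟩ => by subst e; exact le_of_eq ((Ideal.map_map _ _).trans (congrArg (Ideal.map · _) (hp j))))
    fun j => Groth.Hensel1.henselianRing_of_forall_isNilpotent fun z hz =>
      mem_nilradical.1 ((Ideal.map_le_iff_le_comap (K := nilradical (As j))).2
        (fun y hy => mem_nilradical.2 (hnk y hy j)) hz)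

end Groth.Agent.S1966
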