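import Groth.Statements.S19662
import Groth.Agent.GrassSub.Bridge

set_option autoImplicit false
universe u
open CategoryTheory CategoryTheory.Limits AlgebraicGeometry
open Grass

namespace Groth.Agent.S19662

/-- Let `X` be a scheme, `E` a quasi-coherent `O_X`-module of finite type and `e ≥ 0`. Then there is a
Grassmannian of rank-`e` locally free quotients of `E`: a scheme `G` over `X` with a finite locally
free quotient `q : π^* E ⟶ Q` of rank `e` such that every rank-`e` locally free quotient of the
inverse image of `E` on any scheme over `X` is the base change of `q` along a unique morphism to `G`
over `X`, up to a compatible isomorphism. (The published statement is for an arbitrary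
quasi-coherent module; the printed argument treats modules of finite type, the case stated here. The
base is an arbitrary scheme; the form over an affine base through points in affine schemes is a
separate statement.) -/
theorem result (X : Scheme.{u}) (E : X.Modules) (hE : Coh.IsCoh E) (e : ℕ) :
    ∃ (G : Scheme.{u}) (π : G ⟶ X) (Q : G.Modules) (q : (Scheme.Modules.pullback π).obj E ⟶ Q),
      Grass.IsGrass π E e Q q := by
  obtain ⟨G, π, Q, q, -, h⟩ := Groth.GrassSub.exists_isGrass hE e
  exact ⟨G, π, Q, q, h⟩

end Groth.Agent.S19662
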