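import Groth.Statements.S1968
import Mathlib
import Groth.Agent.EtaleAlgebra.WeakDimOne
-- import your own Groth.Agent.* helpers here

set_option autoImplicit false
universe u
open EtAlg

namespace Groth.Agent.S1968

/-- Let (A_j) be a family of valuation rings with fraction fields K_j. Then every ideal of the product
ring Π A_j is a flat Π A_j-module (that is, Π A_j has weak dimension at most 1), and Π K_j is the
localization of Π A_j at its non-zero-divisors. -/
theorem result {J : Type u} (A : J → Type u) [∀ j, CommRing (A j)] [∀ j, IsDomain (A j)]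
    [∀ j, ValuationRing (A j)] (K : J → Type u) [∀ j, Field (K j)] [∀ j, Algebra (A j) (K j)]
    [∀ j, IsFractionRing (A j) (K j)] :
    (∀ I : Ideal (∀ j, A j), Module.Flat (∀ j, A j) I) ∧
      IsLocalization (nonZeroDivisors (∀ j, A j)) (∀ j, K j) := by
  classical
  have hid : ∀ e : (∀ j, A j), IsIdempotentElem e → ∀ (p : Ideal (∀ j, A j)) [p.IsPrime], e ∈ p ∨ 1 - e ∈ p :=
    fun e he p hp => hp.mem_or_mem (by rw [mul_sub, mul_one, he.eq, sub_self]; exact p.zero_mem)
  have hloc : ∀ (p : Ideal (∀ j, A j)) [p.IsPrime],
      ∃ _ : IsDomain (Localization.AtPrime p), ValuationRing (Localization.AtPrime p) := by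
    intro p _
    set L := Localization.AtPrime p
    have hunit : ∀ {s : ∀ j, A j}, s ∉ p → IsUnit (algebraMap (∀ j, A j) L s) := fun {s} hs =>
      IsLocalization.map_units L (⟨s, hs⟩ : p.primeCompl)
    have hdom : ∀ a b : (∀ j, A j), a * b = 0 → algebraMap _ L a = 0 ∨ algebraMap _ L b = 0 := by
      intro a b hab
      let e : ∀ j, A j := fun j => if a j = 0 then 1 else 0
      have he : IsIdempotentElem e := funext fun j => by by_cases h : a j = 0 <;> simp [e, h]
      rcases hid e he p with h | h
      · right
        refine (hunit (fun h' => Ideal.IsPrime.ne_top' (I := p) ((Ideal.eq_top_iff_one _).mpr (by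
          simpa using p.add_mem h h')) : (1 - e) ∉ p)).mul_right_eq_zero.mp ?_
        rw [← map_mul, show (1 - e) * b = 0 from ?_, map_zero]
        funext j
        by_cases h0 : a j = 0
        · simp [e, h0]
        · have := congrFun hab j
          simp at this
          simp [e, h0, this.resolve_left h0]
      · left
        refine (hunit (fun h' => Ideal.IsPrime.ne_top' (I := p) ((Ideal.eq_top_iff_one _).mpr (by
          simpa using p.add_mem h h')) : e ∉ p)).mul_right_eq_zero.mp ?_
        rw [← map_mul, show e * a = 0 from ?_, map_zero]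
        funext j
        by_cases h0 : a j = 0 <;> simp [e, h0]
    haveI : NoZeroDivisors L := ⟨fun {x y} hxy => by
      obtain ⟨⟨a, s⟩, hxs⟩ := IsLocalization.surj p.primeCompl x
      obtain ⟨⟨b, t⟩, hyt⟩ := IsLocalization.surj p.primeCompl y
      have h0 : algebraMap _ L (a * b) = 0 := by
        rw [map_mul, ← hxs, ← hyt]
        linear_combination (algebraMap _ L (s : ∀ j, A j) * algebraMap _ L (t : ∀ j, A j)) * hxy
      obtain ⟨w, hw⟩ := (IsLocalization.map_eq_zero_iff p.primeCompl L _).mp h0
      rcases hdom ((w : ∀ j, A j) * a) b (by linear_combination hw) with h1 | h1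
      · left
        rw [map_mul] at h1
        have := (IsLocalization.map_units L w).mul_right_eq_zero.mp h1
        rw [← (IsLocalization.map_units L s).mul_left_eq_zero, hxs]
        exact this
      · right
        rw [← (IsLocalization.map_units L t).mul_left_eq_zero, hyt]
        exact h1⟩
    haveI : IsDomain L := NoZeroDivisors.to_isDomain _
    refine ⟨inferInstance, ValuationRing.iff_dvd_total.mpr ⟨fun x y => ?_⟩⟩
    obtain ⟨⟨a, s⟩, hxs⟩ := IsLocalization.surj p.primeCompl x
    obtain ⟨⟨b, t⟩, hyt⟩ := IsLocalization.surj p.primeCompl y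
    let e : ∀ j, A j := fun j => if a j ∣ b j then 1 else 0
    have he : IsIdempotentElem e := funext fun j => by by_cases h : a j ∣ b j <;> simp [e, h]
    have h12 : ∀ j, ∃ c : A j, (a j ∣ b j → b j = a j * c) ∧ (¬ a j ∣ b j → a j = b j * c) := by
      intro j
      by_cases h : a j ∣ b j
      · obtain ⟨c, hc⟩ := h; exact ⟨c, fun _ => hc, fun h' => absurd ⟨c, hc⟩ h'⟩
      · obtain ⟨c, hc⟩ := (ValuationRing.dvd_total (a j) (b j)).resolve_left h
        exact ⟨c, fun h' => absurd h' h, fun _ => hc⟩
    choose c hc1 hc2 using h12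
    rcases hid e he p with h | h
    · right
      have hu : (1 - e) ∉ p := fun h' => Ideal.IsPrime.ne_top' (I := p) ((Ideal.eq_top_iff_one _).mpr (by
        simpa using p.add_mem h h'))
      rw [← (IsLocalization.map_units L s).dvd_mul_right, hxs, ← (hunit hu).dvd_mul_right, ← map_mul,
        show a * (1 - e) = b * (c * (1 - e)) from funext fun j => by
          by_cases h0 : a j ∣ b j
          · simp [e, h0]
          · simp [e, h0]; exact hc2 j h0,
        map_mul, ← hyt]
      exact (dvd_mul_right _ _).trans (dvd_mul_right _ _)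
    · left
      have hu : e ∉ p := fun h' => Ideal.IsPrime.ne_top' (I := p) ((Ideal.eq_top_iff_one _).mpr (by
        simpa using p.add_mem h h'))
      rw [← (IsLocalization.map_units L t).dvd_mul_right, hyt, ← (hunit hu).dvd_mul_right, ← map_mul,
        show b * e = a * (c * e) from funext fun j => by
          by_cases h0 : a j ∣ b j
          · simp [e, h0]; exact hc1 j h0
          · simp [e, h0],
        map_mul, ← hxs]
      exact (dvd_mul_right _ _).trans (dvd_mul_right _ _)
  refine ⟨fun I => Groth.Agent.EtaleAlgebra.WeakDimOne.flat_submodule _ hloc I, ?_⟩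
  have hmem : ∀ a : (∀ j, A j), a ∈ nonZeroDivisors (∀ j, A j) → ∀ j, a j ≠ 0 := fun a ha j h0 => by
    have hz : (Pi.single j (1 : A j)) * a = 0 := funext fun i => by
      rcases eq_or_ne i j with rfl | h
      · simp [h0]
      · simp [h]
    simpa using congrFun (mul_right_mem_nonZeroDivisors_eq_zero_iff ha |>.mp hz) j
  rw [isLocalization_iff]
  refine ⟨fun a => ?_, fun z => ?_, fun {x y} h => ⟨1, ?_⟩⟩
  · rw [Pi.isUnit_iff]
    exact fun j => IsUnit.mk0 _ ((map_ne_zero_iff _ (IsFractionRing.injective (A j) (K j))).mpr (hmem _ a.2 j))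
  · have hz : ∀ j, ∃ (a s : A j), s ≠ 0 ∧ z j * algebraMap (A j) (K j) s = algebraMap (A j) (K j) a := by
      intro j
      obtain ⟨⟨a, s⟩, has⟩ := IsLocalization.surj (nonZeroDivisors (A j)) (z j)
      exact ⟨a, s, nonZeroDivisors.coe_ne_zero s, has⟩
    choose a s hs has using hz
    refine ⟨⟨a, ⟨s, mem_nonZeroDivisors_iff_right.mpr fun w hw => funext fun j => ?_⟩⟩, funext fun j => has j⟩
    exact (mul_eq_zero.mp (congrFun hw j)).resolve_right (hs j)
  · simp only [Submonoid.coe_one, one_mul]
    exact funext fun j => IsFractionRing.injective (A j) (K j) (congrFun h j)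

end Groth.Agent.S1968
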