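import Groth.Statements.S1967
import Groth.Agent.S1968
import Groth.Agent.EtaleAlgebra.WeakDimOne
import Groth.Agent.EtaleAlgebra.WeaklyEtale
import Mathlib.RingTheory.Valuation.LocalSubring
import Mathlib.RingTheory.Polynomial.ScaleRoots
import Mathlib.Tactic.FieldSimp
import Mathlib.Tactic.LinearCombination
-- import your own Groth.Agent.* helpers here

set_option autoImplicit false
universe u
open TensorProduct
open EtAlg

namespace Groth.Agent.S1967

/-- If `A ⧸ a → V ⧸ a` is injective and `B` is flat, then `b` is divisible by `a` as soon as it is so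
in `V ⊗ B`. -/
theorem descend {A V B : Type u} [CommRing A] [CommRing V] [CommRing B] [Algebra A V] [Algebra A B]
    [Module.Flat A B] (a : A) (hV : ∀ x, algebraMap A V a ∣ algebraMap A V x → a ∣ x) (b : B)
    (h : (Algebra.TensorProduct.includeRight (R := A) (A := V) (algebraMap A B a)) ∣
      (Algebra.TensorProduct.includeRight (R := A) (A := V) b)) :
    algebraMap A B a ∣ b := by
  let I₀ : Ideal A := Ideal.span {a}
  let J₀ : Ideal V := I₀.map (algebraMap A V)
  let u : (A ⧸ I₀) →ₐ[A] V ⧸ J₀ := Ideal.quotientMapₐ _ (Algebra.ofId A V) Ideal.le_comap_map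
  have hu : Function.Injective u := by
    rw [injective_iff_map_eq_zero]
    intro x hx
    obtain ⟨x, rfl⟩ := Ideal.Quotient.mk_surjective x
    have hx' : algebraMap A V x ∈ I₀.map (algebraMap A V) := Ideal.Quotient.eq_zero_iff_mem.1 hx
    rw [Ideal.map_span, Set.image_singleton, Ideal.mem_span_singleton] at hx'
    rw [Ideal.Quotient.eq_zero_iff_mem, Ideal.mem_span_singleton]
    exact hV x hx'
  let U : B ⊗[A] (A ⧸ I₀) →ₐ[A] B ⊗[A] (V ⧸ J₀) := Algebra.TensorProduct.map (AlgHom.id A B) u
  have hU : Function.Injective U :=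
    Module.Flat.lTensor_preserves_injective_linearMap (M := B) u.toLinearMap hu
  let ψ : V ⊗[A] B →ₐ[A] B ⊗[A] (V ⧸ J₀) :=
    Algebra.TensorProduct.lift
      (Algebra.TensorProduct.includeRight.comp (Ideal.Quotient.mkₐ A J₀))
      Algebra.TensorProduct.includeLeft (fun _ _ => Commute.all _ _)
  obtain ⟨c, hc⟩ := h
  have hb0 : b ⊗ₜ[A] (1 : A ⧸ I₀) = 0 := by
    refine hU ?_
    rw [map_zero]
    have h1 : ψ (Algebra.TensorProduct.includeRight b) = U (b ⊗ₜ[A] (1 : A ⧸ I₀)) := by
      show ψ (1 ⊗ₜ[A] b) = _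
      simp [ψ, U]
    rw [← h1, hc, map_mul]
    have h2 : ψ (Algebra.TensorProduct.includeRight (algebraMap A B a)) = 0 := by
      rw [AlgHom.commutes, AlgHom.commutes, Algebra.TensorProduct.algebraMap_apply,
        Algebra.algebraMap_eq_smul_one, smul_tmul, ← Algebra.algebraMap_eq_smul_one,
        IsScalarTower.algebraMap_apply A V, Ideal.Quotient.algebraMap_eq,
        Ideal.Quotient.eq_zero_iff_mem.2 (Ideal.mem_map_of_mem _ (Ideal.mem_span_singleton_self a)),
        tmul_zero]
    rw [h2, zero_mul]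
  let π : B ⊗[A] (A ⧸ I₀) →ₐ[A] B ⧸ I₀.map (algebraMap A B) :=
    Algebra.TensorProduct.lift (Ideal.Quotient.mkₐ A _)
      (Ideal.quotientMapₐ _ (Algebra.ofId A B) Ideal.le_comap_map) fun _ _ => Commute.all _ _
  have hbm : b ∈ I₀.map (algebraMap A B) := by
    have h1 : π (b ⊗ₜ[A] (1 : A ⧸ I₀)) = Ideal.Quotient.mk _ b :=
      (Algebra.TensorProduct.lift_tmul _ _ _ b 1).trans (by rw [map_one, mul_one]; rfl)
    rw [hb0, map_zero] at h1
    exact Ideal.Quotient.eq_zero_iff_mem.1 h1.symm
  rwa [Ideal.map_span, Set.image_singleton, Ideal.mem_span_singleton] at hbm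

set_option synthInstance.maxHeartbeats 200000 in
set_option maxHeartbeats 1000000 in
/-- If A is an integrally closed domain with fraction field K and B is weakly etale over A, then every
element of B ⊗_A K that is integral over B (via b ↦ b ⊗ 1) already comes from B. -/
theorem result (A : Type u) [CommRing A] [IsDomain A] [IsIntegrallyClosed A]
    (K : Type u) [Field K] [Algebra A K] [IsFractionRing A K] (B : Type u) [CommRing B] [Algebra A B]
    [Algebra.WeaklyEtale A B] :
    IsIntegrallyClosedIn B (B ⊗[A] K) := by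
  classical
  let φ := algebraMap A K
  have hφ : Function.Injective φ := IsFractionRing.injective A K
  -- the integrally closed domain is an intersection of valuation rings
  have hinter : ∀ x : K, (∀ V : ValuationSubring K, (∀ a, φ a ∈ V) → x ∈ V) → ∃ a, φ a = x := by
    intro x hx
    by_contra hxR
    have : IsIntegrallyClosedIn φ.range K := by
      refine isIntegrallyClosedIn_iff.2 ⟨Subtype.val_injective, fun {y} hy => ?_⟩
      let _ : Algebra A φ.range := φ.rangeRestrict.toAlgebra
      have : IsScalarTower A φ.range K := .of_algebraMap_eq fun _ => rfl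
      have : Algebra.IsIntegral A φ.range := ⟨fun z => by
        obtain ⟨a, ha⟩ := φ.rangeRestrict_surjective z
        exact ha ▸ isIntegral_algebraMap⟩
      obtain ⟨a, ha⟩ := IsIntegrallyClosed.isIntegral_iff.1 (isIntegral_trans (R := A) y hy)
      exact ⟨⟨_, a, rfl⟩, ha⟩
    obtain ⟨V, hV, hxV⟩ := φ.range.exists_le_valuationSubring_of_isIntegrallyClosedIn
      (x := x) (by rintro ⟨a, ha⟩; exact hxR ⟨a, ha⟩)
    exact hxV (hx V fun a => hV ⟨a, rfl⟩)
  let J := {V : ValuationSubring K // ∀ a, φ a ∈ V}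
  let _ : ∀ j : J, Algebra A j.1 := fun j => (φ.codRestrict j.1 j.2).toAlgebra
  let Vt := ∀ j : J, j.1
  have hV := (Groth.Agent.S1968.result (fun j : J => ↥j.1) (fun _ => K)).1
  let C := Vt ⊗[A] B
  have : Algebra.WeaklyEtale Vt C := inferInstance
  have hC : ∀ (M : Ideal C) [M.IsPrime],
      ∃ _ : IsDomain (Localization.AtPrime M), ValuationRing (Localization.AtPrime M) := fun M _ => by
    refine Groth.Agent.EtaleAlgebra.WeakDimOne.valuationRing_of_fg_flat C (fun I _ => ?_) M
    have : Module.Flat Vt (I.restrictScalars Vt) :=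
      Groth.Agent.EtaleAlgebra.WeakDimOne.flat_submodule_of_ideals_flat Vt hV (I.restrictScalars Vt)
    have : Module.Flat Vt I := this
    exact Groth.EtaleAlgebra.flat_of_flat_mul Vt C (Algebra.WeaklyEtale.flat_lmul' Vt C) I
  let ι : B →+* B ⊗[A] K := (Algebra.TensorProduct.includeLeft : B →ₐ[A] B ⊗[A] K).toRingHom
  have hι : Function.Injective ι :=
    Algebra.TensorProduct.includeLeft_injective (S := A) hφ
  refine isIntegrallyClosedIn_iff.2 ⟨hι, fun {z} hz => ?_⟩
  obtain ⟨b, a, ha, hzb⟩ : ∃ (b : B) (a : A), a ≠ 0 ∧ ι (algebraMap A B a) * z = ι b := by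
    clear hz
    induction z using TensorProduct.induction_on with
    | zero => exact ⟨0, 1, one_ne_zero, by simp⟩
    | tmul b x =>
      obtain ⟨⟨c, d, hd⟩, hxd⟩ := IsLocalization.surj (nonZeroDivisors A) x
      refine ⟨c • b, d, nonZeroDivisors.ne_zero hd, ?_⟩
      show (algebraMap A B d ⊗ₜ[A] (1 : K)) * (b ⊗ₜ[A] x) = (c • b) ⊗ₜ[A] (1 : K)
      rw [Algebra.TensorProduct.tmul_mul_tmul, one_mul, ← Algebra.smul_def, smul_tmul, smul_tmul,
        Algebra.smul_def d x, Algebra.smul_def c (1 : K), mul_one, mul_comm]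
      exact congrArg _ hxd
    | add x y hx hy =>
      obtain ⟨b₁, a₁, h₁, e₁⟩ := hx
      obtain ⟨b₂, a₂, h₂, e₂⟩ := hy
      refine ⟨algebraMap A B a₂ * b₁ + algebraMap A B a₁ * b₂, a₁ * a₂, mul_ne_zero h₁ h₂, ?_⟩
      simp only [map_mul, map_add, ← e₁, ← e₂]
      ring
  obtain ⟨p, hp, hpz⟩ := hz
  let q := p.scaleRoots (algebraMap A B a)
  have hq : q.eval b = 0 := by
    refine hι ?_
    rw [map_zero, ← Polynomial.eval₂_at_apply, ← hzb]
    exact Polynomial.scaleRoots_eval₂_eq_zero _ hpz
  let j : B →+* C := (Algebra.TensorProduct.includeRight : B →ₐ[A] C).toRingHom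
  let a' : C := j (algebraMap A B a)
  have ha' : a' = algebraMap Vt C (algebraMap A Vt a) := by
    show Algebra.TensorProduct.includeRight (algebraMap A B a) = _
    rw [AlgHom.commutes, ← IsScalarTower.algebraMap_apply]
  have hareg : IsRegular (algebraMap A Vt a) := by
    refine (Commute.isRegular_iff (Commute.all _)).2 fun x y h => ?_
    funext i
    refine Subtype.ext (mul_left_cancel₀ ((map_ne_zero_iff φ hφ).2 ha) ?_)
    exact congrArg (fun t : Vt => (t i : K)) h
  have hane : ∀ c : C, c * a' = 0 → c = 0 := fun c hc => by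
    have : Module.Flat Vt C := inferInstance
    refine (Module.IsTorsionFree.isSMulRegular (R := Vt) (M := C) hareg) ?_
    show algebraMap A Vt a • c = algebraMap A Vt a • (0 : C)
    rw [smul_zero, show algebraMap A Vt a • c = algebraMap Vt C (algebraMap A Vt a) * c from
      Algebra.smul_def (R := Vt) (A := C) _ c, ← ha', mul_comm]
    exact hc
  -- divisibility in `C`
  obtain ⟨c, hc⟩ : a' ∣ j b := by
    let I : Ideal C :=
      { carrier := {t | a' ∣ t * j b}
        add_mem' := fun {x y} hx hy => by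
          show a' ∣ (x + y) * j b
          rw [add_mul]; exact dvd_add hx hy
        zero_mem' := by show a' ∣ 0 * j b; rw [zero_mul]; exact dvd_zero _
        smul_mem' := fun r x hx => by
          show a' ∣ r * x * j b
          rw [mul_assoc]; exact dvd_mul_of_dvd_right hx r }
    suffices hI : I = ⊤ by
      have := (I.eq_top_iff_one).1 hI
      rwa [show (1 : C) ∈ I ↔ a' ∣ 1 * j b from Iff.rfl, one_mul] at this
    by_contra hI
    obtain ⟨M, hM, hIM⟩ := Ideal.exists_le_maximal I hI
    obtain ⟨_, _⟩ := hC M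
    let L := Localization.AtPrime M
    let F : B →+* FractionRing L := (algebraMap L (FractionRing L)).comp ((algebraMap C L).comp j)
    have haL : algebraMap C L a' ≠ 0 := fun h => by
      obtain ⟨s, hs⟩ := (IsLocalization.map_eq_zero_iff M.primeCompl L a').1 h
      exact s.2 ((hane _ hs) ▸ M.zero_mem)
    have hFa : F (algebraMap A B a) ≠ 0 := (map_ne_zero_iff _ (IsFractionRing.injective L _)).2 haL
    have hy : Polynomial.eval₂ F (F b / F (algebraMap A B a)) p = 0 := by
      have h1 := congrArg F hq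
      rw [map_zero, ← Polynomial.eval₂_at_apply,
        show F b = F (algebraMap A B a) * (F b / F (algebraMap A B a)) from
          (mul_div_cancel₀ _ hFa).symm,
        Polynomial.scaleRoots_eval₂_mul] at h1
      exact (mul_eq_zero.1 h1).resolve_left (pow_ne_zero _ hFa)
    have hint : IsIntegral L (F b / F (algebraMap A B a)) :=
      ⟨p.map ((algebraMap C L).comp j), hp.map _, by rw [Polynomial.eval₂_map]; exact hy⟩
    obtain ⟨w, hw⟩ := IsIntegrallyClosed.isIntegral_iff.1 hint
    rw [eq_div_iff hFa] at hw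
    obtain ⟨c, s, rfl⟩ := IsLocalization.exists_mk'_eq M.primeCompl w
    have h2 : IsLocalization.mk' L c s * algebraMap C L a' = algebraMap C L (j b) :=
      IsFractionRing.injective L (FractionRing L) (by rw [map_mul]; exact hw)
    have h3 : algebraMap C L (j b * s) = algebraMap C L (c * a') := by
      rw [map_mul, map_mul, ← h2, ← IsLocalization.mk'_spec L c s]; ring
    obtain ⟨t, ht⟩ := (IsLocalization.eq_iff_exists M.primeCompl L).1 h3
    refine (M.primeCompl.mul_mem t.2 s.2) (hIM ⟨(t : C) * c, ?_⟩)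
    linear_combination ht
  -- descend along the injection `A ⧸ a → Vt ⧸ a`
  have hbm : algebraMap A B a ∣ b := by
    refine descend (V := Vt) a (fun x hx' => ?_) b ⟨c, hc⟩
    obtain ⟨v, hv⟩ := hx'
    obtain ⟨y, hy⟩ := hinter (φ x / φ a) fun V hVA => by
      have := congrArg (fun t : Vt => (t ⟨V, hVA⟩ : K)) hv
      change φ x = φ a * _ at this
      rw [this, mul_div_cancel_left₀ _ ((map_ne_zero_iff φ hφ).2 ha)]
      exact (v ⟨V, hVA⟩).2
    refine ⟨y, hφ ?_⟩
    rw [map_mul, hy, mul_div_cancel₀ _ ((map_ne_zero_iff φ hφ).2 ha)]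
  obtain ⟨b', rfl⟩ := hbm
  have hau : IsUnit (ι (algebraMap A B a)) := by
    show IsUnit (Algebra.TensorProduct.includeLeft (R := A) (S := A) (B := K) (algebraMap A B a))
    rw [AlgHom.commutes, ← (Algebra.TensorProduct.includeRight : K →ₐ[A] B ⊗[A] K).commutes a]
    exact (IsUnit.mk0 _ ((map_ne_zero_iff φ hφ).2 ha)).map _
  exact ⟨b', hau.mul_left_cancel (by rw [hzb, map_mul]; rfl)⟩

end Groth.Agent.S1967
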