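import Groth.Statements.S19671
import Groth.Agent.Duality.ExtTwist

set_option autoImplicit false
universe u
open CategoryTheory CategoryTheory.Limits AlgebraicGeometry
open ProjDual

namespace Groth.Agent.S19671

/-- Let A be a Noetherian ring, ι : X → P^n_A a closed immersion over Spec A (so X is projective over A,
with the very ample sheaf O_X(1) = ι^*O(1)), and F, G coherent O_X-modules. Then for every i there
is d₀ such that for every d ≥ d₀ the group Ext^i_{O_X}(F, G(d)), computed in the category of all
O_X-modules (the Ext instance, the internal Hom functor of F and injective resolutions are the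
stated instance hypotheses, all true) with the A-module structure coming from the structure morphism
X → Spec A, is A-linearly isomorphic to the A-module of global sections H^0(X, Ext^i_{O_X}(F, G(d)))
of the Ext sheaf (the i-th right derived functor of the internal Hom functor Hom(F, −)), where G(d)
= G ⊗ ι^*O(d) and A acts on global sections through Γ(X, O_X). (Existence of an A-linear isomorphism
only; the published statement has the natural identification, and allows any very ample O_X(1) on X
projective over A, which amounts to the choice of ι.) -/
theorem result (A : Type u) [CommRing A]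
    [IsNoetherianRing A] (n : ℕ) (X : Scheme.{u}) [X.Over (Spec (CommRingCat.of A))] (ι : X ⟶ CohB1.ProjSpace n A)
    [IsClosedImmersion ι] (hι : ι ≫ CohB1.ProjSpace.toSpec n A = X ↘ Spec (CommRingCat.of A))
    [HasExt.{u} X.Modules] (F G : X.Modules) (hF : Coh.IsCoh F) (hG : Coh.IsCoh G)
    [ModSite.HasSheafHom (O := X.sheaf) F] [HasInjectiveResolutions (ModSite.Mod X.sheaf)] (i : ℕ) :
    ∃ d₀ : ℕ, ∀ d : ℕ, d₀ ≤ d →
      Nonempty (Abelian.Ext F (CohB1.tensorMod G ((Scheme.Modules.pullback ι).obj (Twist.twistProjSpace n A (d : ℤ)))) i ≃ₗ[A]
        Coh.HH X ((ModSite.extSh (O := X.sheaf) F i).obj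
          (CohB1.tensorMod G ((Scheme.Modules.pullback ι).obj (Twist.twistProjSpace n A (d : ℤ))))) 0) := by
  exact Groth.Duality.ExtTwist.exists_bound A ι F G hF hG i

end Groth.Agent.S19671
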