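import Groth.Statements.S19675
import Groth.Agent.Duality.SmoothDual

set_option autoImplicit false
universe u
open CategoryTheory CategoryTheory.Limits AlgebraicGeometry
open ProjDual

namespace Groth.Agent.S19675

/-- Let k be an algebraically closed field and X a connected nonsingular projective variety of dimension
n over k — here: a connected k-scheme, smooth of relative dimension n over k, with a closed
immersion into some projective space P^r_k over k — and let L be an n-th exterior power of the sheaf
of differentials of X over k (the sheaf of n-forms). Then for every coherent O_X-module F and every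
i ≤ n, the group Ext^i_{O_X}(F, L), computed in the category of all O_X-modules (the Ext instance is
the stated hypothesis; it holds) with its k-linear structure, is k-linearly isomorphic to the k-dual
of H^(n-i)(X, F). (Existence of a k-linear isomorphism only; the published statement says that the
map Ext^(n-p)(F, L) → H^p(X, F)' defined by the Yoneda pairing into H^n(X, L) ≅ k is bijective.) -/
theorem result (k : Type u) [Field k]
    [IsAlgClosed k] (n r : ℕ) (X : Scheme.{u}) [X.Over (Spec (CommRingCat.of k))]
    [SmoothOfRelativeDimension n (X ↘ Spec (CommRingCat.of k))] [ConnectedSpace X] (ι : X ⟶ CohB1.ProjSpace r k)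
    [IsClosedImmersion ι] (hι : ι ≫ CohB1.ProjSpace.toSpec r k = X ↘ Spec (CommRingCat.of k)) (L : X.Modules)
    (hL : ExtPow.IsExtPow n (Omega.sheaf (X ↘ Spec (CommRingCat.of k))) L) [HasExt.{u} X.Modules]
    (F : X.Modules) (hF : Coh.IsCoh F) (i : ℕ) (hi : i ≤ n) :
    Nonempty (Abelian.Ext F L i ≃ₗ[k] Module.Dual k (Coh.HH X F (n - i))) := by
  haveI := Groth.PnCoh.isLocallyNoetherian_projSpace r k
  haveI : QuasiSeparated (X ↘ Spec (CommRingCat.of k)) := by rw [← hι]; infer_instance
  obtain ⟨t, ht, hcov⟩ := Groth.Duality.SmoothDual.exists_dualData ι hι L hL
  exact Groth.Duality.DualPair.nonempty_linearEquiv t ht hcov hi le_rfl hF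

end Groth.Agent.S19675
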