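import Groth.Statements.S19678
import Groth.Agent.S12270
import Groth.Agent.ArtfunDeform.QuotDef.SmoothDim
import Groth.Agent.AlgSp3.DimFacts

set_option autoImplicit false
universe u
open CategoryTheory CategoryTheory.Limits AlgebraicGeometry
open Deform

namespace Groth.Agent.S19678

/-- Let k be an algebraically closed field, S a separated k-scheme of finite type, x : X → S a
projective morphism (X admits a closed immersion over S into some P^n_S), and H a coherent
O_X-module flat over S. Let (Q, K_u) represent the Quot functor of H over S on locally Noetherian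
S-schemes: Q → S with Q locally Noetherian, K_u ⊆ H_Q a submodule on X ×_S Q with coherent Q-flat
quotient, and every submodule of H_T with coherent T-flat quotient (T locally Noetherian over S) is
the pullback of K_u along a unique S-morphism T → Q. Let s : Spec k → S be a k-rational point of S,
K ⊆ H(s) a submodule on the fibre X(s) = X ×_S Spec k with coherent quotient F(s), g : Spec k → Q
the corresponding point q over s, and suppose the group Ext¹(K(s), F(s)) vanishes (Ext in the
category of all O-modules on X(s); the Ext instance is the stated hypothesis and holds). Then the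
projection π : Q → S is smooth near q, with relative dimension equal to dim_k Hom(K(s), F(s)), k
acting through the projection X(s) → Spec k: there is an open subscheme U of Q containing q such
that U → S is smooth of that relative dimension. (The published statement asserts smoothness of π at
q of this relative dimension.) -/
theorem result
    {k : Type u} [Field k] [IsAlgClosed k] (S : Scheme.{u}) (σ : S ⟶ (Spec (CommRingCat.of k)))
    [LocallyOfFiniteType σ] [IsSeparated σ] [QuasiCompact σ]
    (X : Scheme.{u}) (x : X ⟶ S)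
    (hprojX : ∃ (n : ℕ) (c : X ⟶ CohB1.ProjSpaceOver n S), IsClosedImmersion c ∧ c ≫ CohB1.ProjSpaceOver.toBase n S = x)
    (H : X.Modules) (hH : Coh.IsCoh H) (hHflat : FlatMod.IsFlatOver x H)
    (Q : Over S) (Ku : FGA.QuotSet x H Q) (hQ : FGA.QuotRepresentedBy x H Q Ku)
    (s : (Spec (CommRingCat.of k)) ⟶ S) (hs : s ≫ σ = 𝟙 _)
    (K₀ : FGA.QuotSet x H (Over.mk s)) (g : (Over.mk s) ⟶ Q) (hg : FGA.quotPull x H g Ku.1 = K₀.1)
    [HasExt.{u} (PicF.XT x (Over.mk s)).Modules]
    (hExt : Subsingleton (Abelian.Ext.{u} (Subobject.underlying.obj K₀.1) (cokernel K₀.1.arrow) 1)) :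
    ∃ U : Q.left.Opens, g.left.base (IsLocalRing.closedPoint k) ∈ U ∧
      SmoothOfRelativeDimension
        (letI : (PicF.XT x (Over.mk s)).Over (Spec (CommRingCat.of k)) :=
            ⟨PicF.XTproj x (Over.mk s)⟩
        Module.finrank k (Subobject.underlying.obj K₀.1 ⟶ cokernel K₀.1.arrow))
        (U.ι ≫ Q.hom) := by
  have : IsLocallyNoetherian S := LocallyOfFiniteType.isLocallyNoetherian σ
  have : CompactSpace S := (quasiCompact_iff_compactSpace σ).1 inferInstance
  have : IsNoetherian S := {}
  have := Groth.ArtfunDeform.QuotDef.locallyOfFiniteType_quot x hprojX H hH Q Ku hQ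
  obtain ⟨U, hU, hsm⟩ := Groth.Agent.S12270.result S σ X x hprojX H hH hHflat Q Ku hQ s hs K₀ g hg hExt
  obtain ⟨d, W, hxW, hW⟩ := Groth.AlgSp3.exists_open_smoothOfRelativeDimension (U.ι ≫ Q.hom) ⟨_, hU⟩
  have hV : g.left.base (IsLocalRing.closedPoint k) ∈ U.ι ''ᵁ W := ⟨⟨_, hU⟩, hxW, rfl⟩
  have : SmoothOfRelativeDimension d ((U.ι ''ᵁ W).ι ≫ Q.hom) := by
    rw [← Scheme.Hom.isoImage_inv_ι_assoc U.ι W (h := Q.hom)]
    exact (MorphismProperty.cancel_left_of_respectsIso (@SmoothOfRelativeDimension d) _ _).2 hW
  have hd := Groth.ArtfunDeform.QuotDef.relDim_eq_finrank_hom x hprojX H hH hQ s g K₀ hg (U.ι ''ᵁ W) hV d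
  exact ⟨U.ι ''ᵁ W, hV, hd ▸ this⟩

end Groth.Agent.S19678
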