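import Groth.Statements.S19679
import Mathlib
import Groth.Agent.ChGrpH.Basic

set_option autoImplicit false
universe u
open CategoryTheory MonoidalCategory CartesianMonoidalCategory MonObj AlgebraicGeometry
open ChGrp

namespace Groth.Agent.S19679

/-- Let k be an algebraically closed field of characteristic zero, G and H affine group schemes of
finite type over k (algebraic groups) with i : H → G a homomorphism which is a closed immersion, and
Z a reduced affine k-scheme of finite type (an affine variety) with an action of H. Let Y, with its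
G-action and j : G × Z → Y, be the balanced product G ×^H Z for the fppf topology: j is
G-equivariant for left translation on the first factor, it is a torsor for the twisted H-action
h·(g, z) = (g i(h)⁻¹, h·z), and it has sections fppf-locally on Y. If π_Z : Z → P is a categorical
quotient of Z by H and π_Y : Y → Q a categorical quotient of Y by G, then the projection G × Z → Z
induces an isomorphism Q ≅ P, inverse to the morphism induced by the H-invariant map z ↦ π_Y(j(e,
z)): there are mutually inverse φ : P → Q and χ : Q → P with π_Z followed by φ equal to z ↦ π_Y(j(e,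
z)) and j followed by π_Y and χ equal to the projection followed by π_Z (so Y//G ≅ Z//H). (The
source assumes G and H reductive and defines G ×^H Z as the quotient (G × Z)//H, a principal
H-bundle; here the quotients are part of the data, the balanced product is taken in its torsor form,
and reductivity is not needed.) -/
theorem result
    (k : Type u) [Field k] [IsAlgClosed k] [CharZero k]
    (G H Z Y P Q : Over (Spec (CommRingCat.of k))) [GrpObj G] [GrpObj H]
    [IsAffine G.left] [LocallyOfFiniteType G.hom] [IsAffine H.left] [LocallyOfFiniteType H.hom]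
    (i : H ⟶ G) [IsMonHom i] [IsClosedImmersion i.left]
    [IsAffine Z.left] [LocallyOfFiniteType Z.hom] [IsReduced Z.left]
    (aZ : AlgGrp.Action H Z) (aY : AlgGrp.Action G Y) (j : G ⊗ Z ⟶ Y)
    (hY : ChGrp.IsBalProd Scheme.fppfPrecoverage i aZ aY j)
    (πZ : Z ⟶ P) (hP : GIT.IsCatQuot aZ πZ) (πY : Y ⟶ Q) (hQ : GIT.IsCatQuot aY πY) :
    ∃ (φ : P ⟶ Q) (χ : Q ⟶ P), φ ≫ χ = 𝟙 P ∧ χ ≫ φ = 𝟙 Q ∧
      πZ ≫ φ = lift (toUnit Z ≫ η[G]) (𝟙 Z) ≫ j ≫ πY ∧ j ≫ πY ≫ χ = snd G Z ≫ πZ := by
  obtain ⟨heq, hsq, hloc⟩ := hY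
  have hj := Groth.ChGrpH.hasLocSections j hloc
  have hinv : ∀ {W : Over (Spec (CommRingCat.of k))} (q : Z ⟶ W), GIT.IsInvariant aZ q →
      ∀ (T : Over (Spec (CommRingCat.of k))) (h : T ⟶ H) (z : T ⟶ Z), lift h z ≫ aZ.act ≫ q = z ≫ q := by
    intro W q hq T h z
    rw [show aZ.act ≫ q = snd H Z ≫ q from hq, lift_snd_assoc]
  have heq' : ∀ (T : Over (Spec (CommRingCat.of k))) (g g' : T ⟶ G) (z : T ⟶ Z),
      lift (g * g') z ≫ j = lift g (lift g' z ≫ j) ≫ aY.act := by
    intro T g g' z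
    have h := congrArg (fun m => lift g (lift g' z) ≫ m) (show _ ≫ j = (G ◁ j) ≫ aY.act from heq)
    simp only [lift_whiskerLeft_assoc] at h
    rw [← h, AlgGrp.Action.lift_prod_act_assoc, AlgGrp.Action.lift_trivial_act]
    simp [NonAbH1.trivialAction, Hom.mul_def]
  have hYinv : ∀ (T : Over (Spec (CommRingCat.of k))) (g : T ⟶ G) (y : T ⟶ Y),
      lift g y ≫ aY.act ≫ πY = y ≫ πY := by
    intro T g y
    rw [show aY.act ≫ πY = snd G Y ≫ πY from hQ.1, lift_snd_assoc]
  let e : Z ⟶ G ⊗ Z := lift (toUnit Z ≫ η[G]) (𝟙 Z)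
  have hpt : ∀ (T : Over (Spec (CommRingCat.of k))) (z : T ⟶ Z), z ≫ e = lift 1 z := by
    intro T z
    rw [comp_lift, Category.comp_id, ← Category.assoc, toUnit_unique (z ≫ toUnit Z) (toUnit T), ← Hom.one_def]
  have hψ : GIT.IsInvariant aZ (e ≫ j ≫ πY) := by
    show aZ.act ≫ e ≫ j ≫ πY = snd H Z ≫ e ≫ j ≫ πY
    rw [← Category.assoc, hpt, ← Category.assoc (snd H Z) e, hpt]
    have h1 := congrArg (fun m => lift (fst H Z) (lift (fst H Z ≫ i) (snd H Z)) ≫ m) hsq.w
    simp only [lift_snd_assoc] at h1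
    rw [ChGrp.lift_twist_act_assoc, mul_inv_cancel, lift_fst_snd, Category.id_comp] at h1
    rw [reassoc_of% h1, ← mul_one (fst H Z ≫ i), ← Category.assoc, heq', Category.assoc, hYinv, Category.assoc]
  obtain ⟨φ, hφ, hφu⟩ := hP.2 Q _ hψ
  obtain ⟨χY, hχY⟩ := hj.exists_desc (snd G Z ≫ πZ) (fun T a b hab => by
    obtain ⟨l, hl, hl'⟩ := hsq.exists_lift a b hab
    rw [← hl, ← hl', Category.assoc, Category.assoc]
    have hl2 : l = lift (l ≫ fst _ _) (lift (l ≫ snd _ _ ≫ fst G Z) (l ≫ snd _ _ ≫ snd G Z)) := by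
      apply CartesianMonoidalCategory.hom_ext
      · simp
      · apply CartesianMonoidalCategory.hom_ext <;> simp
    rw [hl2, ChGrp.lift_twist_act_assoc, lift_snd_assoc, lift_snd_assoc, lift_snd_assoc, Category.assoc, hinv _ hP.1])
  have hχinv : GIT.IsInvariant aY χY := by
    show aY.act ≫ χY = snd G Y ≫ χY
    obtain ⟨R, hR, hl⟩ := hj.exists_lift (snd G Y)
    refine Groth.ChGrpH.hom_ext_of_cover hR fun U a ha => ?_
    obtain ⟨x, hx⟩ := hl a ha
    let a' : Over.mk (a ≫ (G ⊗ Y).hom) ⟶ G ⊗ Y := Over.homMk a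
    suffices a' ≫ aY.act ≫ χY = a' ≫ snd G Y ≫ χY from congrArg Over.Hom.left this
    have ea : a' = lift (a' ≫ fst G Y) (x ≫ j) := by
      rw [hx]
      apply CartesianMonoidalCategory.hom_ext <;> simp [a']
    have ex : x = lift (x ≫ fst G Z) (x ≫ snd G Z) := by rw [← comp_lift, lift_fst_snd, Category.comp_id]
    rw [ea, lift_snd_assoc]
    rw [ex, ← Category.assoc, ← heq', Category.assoc, Category.assoc, hχY, lift_snd_assoc, lift_snd_assoc]
  obtain ⟨χ, hχ, hχu⟩ := hQ.2 P _ hχinv
  have hej : e ≫ snd G Z = 𝟙 Z := lift_snd _ _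
  refine ⟨φ, χ, ?_, ?_, hφ, ?_⟩
  · obtain ⟨c, hc, hcu⟩ := hP.2 P πZ hP.1
    rw [hcu (φ ≫ χ), hcu (𝟙 P) (Category.comp_id _)]
    beta_reduce
    rw [reassoc_of% hφ, hχ, hχY, reassoc_of% hej]
  · obtain ⟨c, hc, hcu⟩ := hQ.2 Q πY hQ.1
    rw [hcu (χ ≫ φ), hcu (𝟙 Q) (Category.comp_id _)]
    beta_reduce
    rw [reassoc_of% hχ]
    refine hj.hom_ext ?_
    rw [reassoc_of% hχY, hφ]
    apply AlgGrp.Action.hom_ext_lift₂
    intro T g z
    rw [lift_snd_assoc, ← Category.assoc z e, hpt]
    conv_rhs => rw [← mul_one g, ← Category.assoc, heq', Category.assoc, hYinv, Category.assoc]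
  · rw [hχ, hχY]

end Groth.Agent.S19679
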