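import Groth.Statements.S19681
import Mathlib
import Groth.Agent.ChGrpH.BalProd

set_option autoImplicit false
universe u
open CategoryTheory MonoidalCategory CartesianMonoidalCategory MonObj AlgebraicGeometry
open ChGrp

namespace Groth.Agent.S19681

/-- Let k be an algebraically closed field of characteristic zero, G and H affine group schemes of
finite type over k with i : H → G a homomorphism which is a closed immersion, and Z a reduced affine
k-scheme of finite type with an action of H. Let Y, with its G-action and j : G × Z → Y, be the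
balanced product G ×^H Z for the fppf topology (j is G-equivariant for left translation on the first
factor, a torsor for the twisted H-action h·(g, z) = (g i(h)⁻¹, h·z), with sections fppf-locally on
Y). Let c : Y' → Y be a closed immersion from a reduced scheme Y' with a G-action making c
equivariant (a closed G-invariant subvariety of Y). Then Y' is again a balanced product: there are a
closed immersion c' : Z' → Z, an H-action on Z' for which c' is equivariant (a closed H-invariant
subscheme of Z), and a morphism j' : G × Z' → Y' with j' followed by c equal to G × c' followed by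
j, such that j' makes Y' the balanced product G ×^H Z' for the fppf topology. (The source assumes G
and H reductive and defines G ×^H Z as the quotient (G × Z)//H, a principal H-bundle; here the
balanced product is taken in its torsor form and reductivity is not needed.) -/
theorem result
    (k : Type u) [Field k] [IsAlgClosed k] [CharZero k]
    (G H Z Y Y' : Over (Spec (CommRingCat.of k))) [GrpObj G] [GrpObj H]
    [IsAffine G.left] [LocallyOfFiniteType G.hom] [IsAffine H.left] [LocallyOfFiniteType H.hom]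
    (i : H ⟶ G) [IsMonHom i] [IsClosedImmersion i.left]
    [IsAffine Z.left] [LocallyOfFiniteType Z.hom] [IsReduced Z.left]
    (aZ : AlgGrp.Action H Z) (aY : AlgGrp.Action G Y) (j : G ⊗ Z ⟶ Y)
    (hY : ChGrp.IsBalProd Scheme.fppfPrecoverage i aZ aY j)
    (c : Y' ⟶ Y) [IsClosedImmersion c.left] [IsReduced Y'.left]
    (aY' : AlgGrp.Action G Y') (hc : AlgGrp.Action.IsEquivariant aY' aY c) :
    ∃ (Z' : Over (Spec (CommRingCat.of k))) (c' : Z' ⟶ Z) (aZ' : AlgGrp.Action H Z') (j' : G ⊗ Z' ⟶ Y'),
      IsClosedImmersion c'.left ∧ AlgGrp.Action.IsEquivariant aZ' aZ c' ∧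
      j' ≫ c = (G ◁ c') ≫ j ∧ ChGrp.IsBalProd Scheme.fppfPrecoverage i aZ' aY' j' := by
  have hj := Groth.ChGrpH.balProd_hasLocSections hY
  have hmono : Mono c := Groth.ChGrpH.mono_of_mono_left c
  let e : Z ⟶ G ⊗ Z := lift (toUnit Z ≫ η[G]) (𝟙 Z)
  have hpt : ∀ (T : Over (Spec (CommRingCat.of k))) (z : T ⟶ Z), z ≫ e = lift 1 z := by
    intro T z
    rw [comp_lift, Category.comp_id, ← Category.assoc, toUnit_unique (z ≫ toUnit Z) (toUnit T), ← Hom.one_def]
  let Z' := Limits.pullback c (e ≫ j)
  let c' : Z' ⟶ Z := Limits.pullback.snd c (e ≫ j)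
  let p : Z' ⟶ Y' := Limits.pullback.fst c (e ≫ j)
  have hp : p ≫ c = c' ≫ e ≫ j := Limits.pullback.condition
  have hp' : ∀ (T : Over (Spec (CommRingCat.of k))) (z : T ⟶ Z'), lift 1 (z ≫ c') ≫ j = (z ≫ p) ≫ c := by
    intro T z
    rw [Category.assoc, hp, ← Category.assoc z c', ← Category.assoc (z ≫ c') e j, hpt]
  have hcl : IsClosedImmersion c'.left :=
    MorphismProperty.of_isPullback ((IsPullback.of_hasPullback c (e ≫ j)).map (Over.forget _)) ‹IsClosedImmersion c.left›
  have hmono' : Mono c' := Groth.ChGrpH.mono_of_mono_left c'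
  have hc' : ∀ (T : Over (Spec (CommRingCat.of k))) (g : T ⟶ G) (y : T ⟶ Y'),
      lift g y ≫ aY'.act ≫ c = lift g (y ≫ c) ≫ aY.act := by
    intro T g y
    rw [show aY'.act ≫ c = (G ◁ c) ≫ aY.act from hc, lift_whiskerLeft_assoc]
  have hact : ∀ (T : Over (Spec (CommRingCat.of k))) (h : T ⟶ H) (z : T ⟶ Z'),
      (lift (h ≫ i) (z ≫ p) ≫ aY'.act) ≫ c = (lift h (z ≫ c') ≫ aZ.act) ≫ e ≫ j := by
    intro T h z
    rw [Category.assoc, hc', ← hp', ← Groth.ChGrpH.balProd_mul hY, ← Category.assoc (_ ≫ _) e j, hpt, _root_.mul_one]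
    conv_lhs => rw [← _root_.one_mul (h ≫ i), Groth.ChGrpH.balProd_assoc hY]
  let act : H ⊗ Z' ⟶ Z' := Limits.pullback.lift (lift (fst H Z' ≫ i) (snd H Z' ≫ p) ≫ aY'.act)
    (lift (fst H Z') (snd H Z' ≫ c') ≫ aZ.act) (hact _ _ _)
  have hactc : ∀ (T : Over (Spec (CommRingCat.of k))) (h : T ⟶ H) (z : T ⟶ Z'),
      lift h z ≫ act ≫ c' = lift h (z ≫ c') ≫ aZ.act := by
    intro T h z
    rw [show act ≫ c' = _ from Limits.pullback.lift_snd _ _ _, comp_lift_assoc, lift_fst, lift_snd_assoc]
  let aZ' : AlgGrp.Action H Z' :=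
    { act := act
      one_act := by
        rw [← cancel_mono c']
        apply AlgGrp.Action.hom_ext_lift₂
        intro T a z
        rw [Category.assoc, lift_whiskerRight_assoc, hactc, leftUnitor_hom, lift_snd_assoc]
        rw [show a ≫ η[H] = 1 by rw [Hom.one_def, toUnit_unique (toUnit T) a], AlgGrp.Action.lift_one_act]
      mul_act := by
        rw [← cancel_mono c']
        apply AlgGrp.Action.hom_ext_lift₃
        intro T a b z
        rw [Category.assoc, lift_whiskerRight_assoc, ← Hom.mul_def, hactc, AlgGrp.Action.lift_mul_act]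
        simp only [Category.assoc, lift_lift_associator_hom_assoc, lift_whiskerLeft_assoc]
        rw [hactc, Category.assoc, hactc] }
  let j' : G ⊗ Z' ⟶ Y' := (G ◁ p) ≫ aY'.act
  have hj' : ∀ (T : Over (Spec (CommRingCat.of k))) (g : T ⟶ G) (z : T ⟶ Z'),
      lift g z ≫ j' = lift g (z ≫ p) ≫ aY'.act := by
    intro T g z
    rw [lift_whiskerLeft_assoc]
  have hj'c : ∀ (T : Over (Spec (CommRingCat.of k))) (g : T ⟶ G) (z : T ⟶ Z'),
      (lift g z ≫ j') ≫ c = lift g (z ≫ c') ≫ j := by
    intro T g z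
    rw [hj', Category.assoc, hc', ← hp', ← Groth.ChGrpH.balProd_mul hY, _root_.mul_one]
  have hlift : ∀ (T : Over (Spec (CommRingCat.of k))) (g : T ⟶ G) (z : T ⟶ Z) (y : T ⟶ Y'),
      lift g z ≫ j = y ≫ c → ∃ z' : T ⟶ Z', z' ≫ c' = z ∧ lift g z' ≫ j' = y := by
    intro T g z y hy
    obtain ⟨z', hz1, hz2⟩ := (IsPullback.of_hasPullback c (e ≫ j)).exists_lift (lift g⁻¹ y ≫ aY'.act) z (by
      rw [Category.assoc, hc', ← hy, ← Groth.ChGrpH.balProd_mul hY, inv_mul_cancel, ← Category.assoc z e, hpt])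
    refine ⟨z', hz2, ?_⟩
    rw [← cancel_mono c, hj'c, show z' ≫ c' = z from hz2, hy]
  refine ⟨Z', c', aZ', j', hcl, ?_, ?_, ?_, ?_, ?_⟩
  · apply AlgGrp.Action.hom_ext_lift₂
    intro T h z
    rw [hactc, lift_whiskerLeft_assoc]
  · apply AlgGrp.Action.hom_ext_lift₂
    intro T g z
    rw [← Category.assoc, hj'c, lift_whiskerLeft_assoc]
  · apply AlgGrp.Action.hom_ext_lift₂
    intro T g p'
    rw [Groth.ChGrpH.point_eq_lift p', AlgGrp.Action.lift_prod_act_assoc, AlgGrp.Action.lift_trivial_act]
    conv_rhs => rw [lift_whiskerLeft_assoc]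
    rw [← cancel_mono c, hj'c, Category.assoc (lift g _) aY'.act c, hc', hj'c, ← Groth.ChGrpH.balProd_mul hY]
    simp [NonAbH1.trivialAction, Hom.mul_def]
  · refine Groth.ChGrpH.isPullback_of_points ?_ ?_ ?_
    · apply AlgGrp.Action.hom_ext_lift₂
      intro T h p'
      rw [Groth.ChGrpH.point_eq_lift p', ChGrp.lift_twist_act_assoc, lift_snd_assoc, ← cancel_mono c, hj'c, hj'c,
        Category.assoc (lift h _) aZ'.act c', hactc, ← Groth.ChGrpH.balProd_assoc hY, inv_mul_cancel_right]
    · intro T a b hab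
      rw [Groth.ChGrpH.point_eq_lift a, Groth.ChGrpH.point_eq_lift b] at hab ⊢
      have h1 := congrArg (· ≫ c) hab
      simp only [hj'c] at h1
      obtain ⟨h, hg, hz⟩ := Groth.ChGrpH.balProd_exists_of_eq hY h1
      refine ⟨lift h (lift (b ≫ fst G Z') (b ≫ snd G Z')), ?_, lift_snd _ _⟩
      rw [ChGrp.lift_twist_act, ← hg]
      congr 1
      rw [← cancel_mono c', Category.assoc, hactc, hz]
    · intro T l l' h1 h2
      let m : H ⊗ (G ⊗ Z') ⟶ H ⊗ (G ⊗ Z) := H ◁ (G ◁ c')
      have h3 : ∀ l : T ⟶ H ⊗ (G ⊗ Z'), l = lift (l ≫ fst _ _) (lift (l ≫ snd _ _ ≫ fst G Z') (l ≫ snd _ _ ≫ snd G Z')) := by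
        intro l
        conv_lhs => rw [Groth.ChGrpH.point_eq_lift l, Groth.ChGrpH.point_eq_lift (l ≫ snd _ _)]
        simp only [Category.assoc]
      have h4 : l ≫ m = l' ≫ m := by
        apply hY.2.1.hom_ext
        · rw [h3 l, h3 l', ChGrp.lift_twist_act, ChGrp.lift_twist_act] at h1
          rw [h3 l, h3 l']
          simp only [m, lift_whiskerLeft, lift_whiskerLeft_assoc, ChGrp.lift_twist_act, Category.assoc]
          have h5 := congrArg (· ≫ (G ◁ c')) h1
          simp only [lift_whiskerLeft, Category.assoc] at h5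
          rwa [hactc, hactc, Category.assoc, Category.assoc] at h5
        · simp only [m, Category.assoc, whiskerLeft_snd]
          rw [reassoc_of% h2]
      apply CartesianMonoidalCategory.hom_ext
      · simpa [m] using congrArg (· ≫ fst H _) h4
      · exact h2
  · obtain ⟨R, hR, hl⟩ := Groth.ChGrpH.balProd_exists_local hY c
    refine Groth.ChGrpH.isLocallyTrivialFor_of_exists j' hR fun U a ha => ?_
    obtain ⟨g, z, hgz⟩ := hl a ha
    obtain ⟨z', -, hz'⟩ := hlift _ g z _ hgz
    exact ⟨lift g z', hz'⟩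

end Groth.Agent.S19681
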