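import Groth.Statements.S19692
import Groth.Agent.Misc6.FinCovCover

set_option autoImplicit false
universe u
open CategoryTheory CategoryTheory.Limits AlgebraicGeometry Opposite
open FinCov

namespace Groth.Agent.S19692

/-- A morphism of schemes f : X → Y is a cover of degree d — finite, flat, locally of finite
presentation and of rank d at every point of Y — if and only if f is affine and the direct image
f_*O_X is locally free of rank d as an O_Y-module, i.e. every point of Y has an open neighbourhood
over which f_*O_X is isomorphic to the direct sum of d copies of the structure sheaf. This is the
object-level content of the equivalence between degree-d covers of Y and O_Y-algebras locally free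
of rank d. -/
theorem result {X Y : Scheme.{u}} (f : X ⟶ Y) (d : ℕ) :
    FinCov.IsCover f d ↔
      IsAffineHom f ∧ FlatMod.IsFinLocFreeOfRank d ((Scheme.Modules.pushforward f).obj (Coh.structureModule X)) := by
  constructor
  · intro h
    haveI : IsFinite f := h.1.1
    exact ⟨inferInstance, Groth.Misc6.FinCov.pushforward_of_isCover f d h⟩
  · rintro ⟨h1, h2⟩
    exact Groth.Misc6.FinCov.isCover_of_pushforward f d h2

end Groth.Agent.S19692
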