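import Groth.Statements.S19701
import Groth.Agent.Curves1.RR.EtaleGenusZero
import Groth.Agent.Curves1.RR.P1Facts
import Groth.Agent.Misc6.FinCovCover
import Groth.Agent.RelTilde.Basic
import Groth.Agent.QCohMod.Coherent
import Groth.Agent.Inter.Chi
import Groth.Agent.CurveBridge.SmoothCurve
import Groth.Agent.CurveBridge.Main
import Groth.Agent.LocFree.FP
-- import your own Groth.Agent.* helpers here

set_option autoImplicit false
universe u
open CategoryTheory CategoryTheory.Limits AlgebraicGeometry Opposite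
open Curves

namespace Groth.Agent.S19701

/-- Let k be an algebraically closed field of characteristic different from 2 and X a hyperelliptic
curve of genus g over k: X → Spec k is smooth and proper, X is connected of dimension one with g =
dim_k H¹(X, O_X) ≥ 2, and h : X → P¹_k is a k-morphism which is a double cover (finite, flat,
locally of finite presentation, of rank 2 at every point). Let τ : h_*O_X → O_{P¹} be the trace of h
(the O-linear map which over every affine open of P¹_k where h_*O_X is finite free is the trace of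
the regular representation). Then the kernel of τ — an invertible sheaf on P¹_k — has degree −g − 1,
the degree of a rank-one sheaf E on P¹_k being χ(E) − χ(O). (On P¹_k this says that ker τ is
isomorphic to O(−g − 1); only the degree is asserted here.) -/
theorem result (k : Type u) [Field k] [IsAlgClosed k]
    (h2 : (2 : k) ≠ 0) {X : Scheme.{u}} (p : X ⟶ Spec (CommRingCat.of k)) [IsProper p] [Smooth p]
    [ConnectedSpace ↥X] (hX : topologicalKrullDim ↥X = 1) (hg : 2 ≤ @Curv2.genus k _ X ⟨p⟩)
    (h : X ⟶ CohB1.ProjSpace 1 k) (hh : h ≫ CohB1.ProjSpace.toSpec 1 k = p)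
    [IsFinite h] [Flat h] [LocallyOfFinitePresentation h]
    (hr : ∀ y : ↥(CohB1.ProjSpace 1 k), h.finrank y = 2)
    (τ : (Scheme.Modules.pushforward h).obj (Coh.structureModule X) ⟶ Coh.structureModule (CohB1.ProjSpace 1 k))
    (hτ : FinCov.IsTraceHom h τ) :
    @Curv2.deg k _ (CohB1.ProjSpace 1 k) ⟨CohB1.ProjSpace.toSpec 1 k⟩ (kernel τ) 1 =
      -((@Curv2.genus k _ X ⟨p⟩ : ℤ) + 1) := by
  letI : X.Over (Spec (CommRingCat.of k)) := ⟨p⟩
  letI : (CohB1.ProjSpace 1 k).Over (Spec (CommRingCat.of k)) := ⟨CohB1.ProjSpace.toSpec 1 k⟩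
  haveI : IsProper ((CohB1.ProjSpace 1 k) ↘ Spec (CommRingCat.of k)) :=
    Groth.Variety2.isProper_projSpace_toSpec 1 k
  haveI : IsProper (X ↘ Spec (CommRingCat.of k)) := ‹IsProper p›
  haveI : Smooth (X ↘ Spec (CommRingCat.of k)) := ‹Smooth p›
  haveI := Groth.CurveBridge.isIntegral_of_smooth k X
  have hC := Groth.CurveBridge.isRegCurve_of_smooth k X hX
  have hK := Groth.CurveBridge.isFunctionField (k := k) (X := X) hC.dim
  have hf : h ≫ ((CohB1.ProjSpace 1 k) ↘ Spec (CommRingCat.of k)) = X ↘ Spec (CommRingCat.of k) := hh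
  have hO := Groth.EulerDeg.isCoh_of_isInvertible (Groth.EulerDeg.isInvertible_structureModule X)
  have hE : FlatMod.IsFinLocFreeOfRank 2 ((Scheme.Modules.pushforward h).obj (Coh.structureModule X)) :=
    Groth.Misc6.FinCov.pushforward_of_isCover h 2 ⟨⟨inferInstance, inferInstance, inferInstance⟩, hr⟩
  haveI : Epi τ := by
    refine Groth.RelTilde.epi_of_local τ fun V t y hy => ?_
    obtain ⟨U, b, hyU, hb⟩ := Groth.LocFree.isFinLocFreeOfRank_iff.1 hE y
    obtain ⟨_, ⟨W, hW, rfl⟩, hyW, hWle⟩ :=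
      (CohB1.ProjSpace 1 k).isBasis_affineOpens.exists_subset_of_mem_open (show y ∈ V ⊓ U from ⟨hy, hyU⟩) (V ⊓ U).2
    have hWV : W ≤ V := fun z hz => (hWle hz).1
    have hWU : W ≤ U := fun z hz => (hWle hz).2
    letI : Algebra Γ(CohB1.ProjSpace 1 k, W) Γ(X, h ⁻¹ᵁ W) := (h.app W).hom.toAlgebra
    let bW : Module.Basis (Fin 2) Γ(CohB1.ProjSpace 1 k, W) Γ(X, h ⁻¹ᵁ W) :=
      (Groth.LocFree.basisOfBasis' hb hWU).map
        { toFun := fun x => x
          invFun := fun x => x
          left_inv := fun _ => rfl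
          right_inv := fun _ => rfl
          map_add' := fun _ _ => rfl
          map_smul' := fun _ _ => rfl }
    have hu : IsUnit (2 : Γ(CohB1.ProjSpace 1 k, W)) := by
      have h3 := (IsUnit.mk0 (2 : k) h2).map (Groth.EulerDeg.toSec k (X := CohB1.ProjSpace 1 k) W)
      rwa [map_ofNat] at h3
    obtain ⟨u, hu⟩ := hu
    let t' : Γ(CohB1.ProjSpace 1 k, W) := Groth.PicAux.res (Coh.structureModule (CohB1.ProjSpace 1 k)) hWV t
    refine ⟨W, hWV, hyW, h.app W (↑u⁻¹ * t'), ?_⟩
    refine (hτ W hW (.of_basis bW) (.of_basis bW) _).trans ?_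
    have := Algebra.trace_algebraMap_of_basis bW (↑u⁻¹ * t')
    rw [Fintype.card_fin, RingHom.algebraMap_toAlgebra] at this
    refine this.trans ?_
    rw [nsmul_eq_mul, Nat.cast_ofNat, ← hu, ← mul_assoc, Units.mul_inv, one_mul]
  have hS : (ShortComplex.mk (kernel.ι τ) τ (kernel.condition τ)).ShortExact :=
    ShortComplex.ShortExact.mk (ShortComplex.exact_of_f_is_kernel _ (kernelIsKernel τ))
  have hE' := Groth.EulerDeg.isCoh_of_isInvertible (Groth.EulerDeg.isInvertible_structureModule (CohB1.ProjSpace 1 k))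
  haveI : IsNoetherian (CohB1.ProjSpace 1 k) := Groth.CohC3.isNoetherian_of_proper k _
  haveI : (Coh.structureModule (CohB1.ProjSpace 1 k)).IsQuasicoherent := hE'.1
  have hEc : Coh.IsCoh ((Scheme.Modules.pushforward h).obj (Coh.structureModule X)) :=
    Groth.KTheory.LocFree.isCoh (Groth.LocFree.isFinLocFree_of_rank hE)
  have hsum := Groth.Inter.euler_add k hS (Groth.QCohMod.isCoh_kernel τ hEc) hE'
  change Curv2.euler k (CohB1.ProjSpace 1 k) ((Scheme.Modules.pushforward h).obj (Coh.structureModule X)) =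
    Curv2.euler k (CohB1.ProjSpace 1 k) (kernel τ) + Curv2.euler k (CohB1.ProjSpace 1 k) (Coh.structureModule _) at hsum
  rw [Groth.Curves1.RR.euler_push_affine k h hf _ hO.1, Groth.CurveBridge.euler_structure hC hK] at hsum
  obtain ⟨e0⟩ := Groth.PnCoh.nonempty_twist_zero_iso (CohB1.polyGrading 1 k)
  let e0' : Twist.twistProjSpace 1 k ((0 : ℕ) : ℤ) ≅ Coh.structureModule (CohB1.ProjSpace 1 k) := e0
  have h0 := Groth.Curves1.RR.euler_twist_P1 k 0
  rw [Groth.EulerDeg.euler_congr k e0'] at h0
  change Curv2.deg k (CohB1.ProjSpace 1 k) (kernel τ) 1 = _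
  rw [Curv2.deg, h0]
  rw [h0] at hsum
  push_cast at hsum ⊢
  change _ = -((Curv2.genus k X : ℤ) + 1)
  omega

end Groth.Agent.S19701
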