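import Groth.Statements.S1971
import Groth.Agent.Hensel1.Local
-- import your own Groth.Agent.* helpers here

set_option autoImplicit false
universe u
open EtAlg

namespace Groth.Agent.S1971

/-- Let A be a ring with ideals I and J having the same zero locus in Spec A. Then an A-algebra is a
henselization of the pair (A, I) if and only if it is a henselization of the pair (A, J). -/
theorem result (A : Type u) [CommRing A] (I J : Ideal A)
    (h : PrimeSpectrum.zeroLocus (I : Set A) = PrimeSpectrum.zeroLocus (J : Set A)) (B : Type u) [CommRing B] [Algebra A B] :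
    Hens2.IsPairHenselization A I B ↔ Hens2.IsPairHenselization A J B := by
  suffices H : ∀ I J : Ideal A, I.radical = J.radical →
      Hens2.IsPairHenselization A I B → Hens2.IsPairHenselization A J B by
    have hr := PrimeSpectrum.zeroLocus_eq_iff.1 h
    exact ⟨H I J hr, H J I hr.symm⟩
  intro I J hr hB
  have hJI : J ≤ I.radical := hr ▸ Ideal.le_radical
  have hIJ : I ≤ J.radical := hr.symm ▸ Ideal.le_radical
  refine ⟨?_, fun C _ K f hC hK => ?_⟩
  · have := hB.1
    exact Groth.Hensel1.henselianRing_of_le_radical
      ((Ideal.map_mono hJI).trans (Ideal.map_radical_le _))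
  · exact hB.2 C (I.map f) f (Groth.Hensel1.henselianRing_of_le_radical
      ((Ideal.map_mono hIJ).trans ((Ideal.map_radical_le _).trans (Ideal.radical_mono hK)))) le_rfl

end Groth.Agent.S1971
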