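import Groth.Statements.S19711
import Mathlib

set_option autoImplicit false
universe u
open CategoryTheory
open Coh

namespace Groth.Agent.S19711

/-- Let A be a Noetherian integral domain and F an A-linear additive functor from A-modules to A-modules
with F(A) a finitely generated A-module. Call such a functor generically injective when there is a
dense open subset U of Spec A such that for every point u of U whose residue field κ(u) is a
finitely generated A-algebra the comparison map F(A) ⊗_A κ(u) → F(κ(u)) is injective; since F is
A-linear this injectivity says: every m in F(A) whose image under F(A → κ(u)) vanishes satisfies s·m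
∈ u·F(A) for some s outside u. If F is generically injective then so is every A-linear additive
subfunctor K ⊆ F (a natural transformation K → F with injective components). (The published
statement is over a reduced Noetherian affine scheme, for additive functors on quasi-coherent
sheaves with values in abelian groups and the induced A-action, assumes F weakly bounded (F(A/p)
finitely generated for every prime ideal p) and also records that K is again weakly bounded; only
the finite generation of F(A), which its argument uses, is assumed here, and the integral case with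
A-linear functors stated here is the one its argument by generic flatness treats.) -/
theorem result {A : Type u} [CommRing A] [IsNoetherianRing A] [IsDomain A]
    (F K : ModuleCat.{u} A ⥤ ModuleCat.{u} A) [F.Additive] [F.Linear A] [K.Additive] [K.Linear A]
    (ι : K ⟶ F) (hι : ∀ X : ModuleCat.{u} A, Function.Injective (ι.app X).hom)
    (hfin : Module.Finite A (F.obj (ModuleCat.of A A)))
    (hGI : ∃ U : Set (PrimeSpectrum A), IsOpen U ∧ Dense U ∧ ∀ u ∈ U, Algebra.FiniteType A u.asIdeal.ResidueField →
        ∀ m : F.obj (ModuleCat.of A A),
          (F.map (ModuleCat.ofHom (Algebra.linearMap A u.asIdeal.ResidueField))).hom m = 0 →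
            ∃ s ∉ u.asIdeal, s • m ∈ u.asIdeal • (⊤ : Submodule A (F.obj (ModuleCat.of A A)))) :
    ∃ U : Set (PrimeSpectrum A), IsOpen U ∧ Dense U ∧ ∀ u ∈ U, Algebra.FiniteType A u.asIdeal.ResidueField →
        ∀ m : K.obj (ModuleCat.of A A),
          (K.map (ModuleCat.ofHom (Algebra.linearMap A u.asIdeal.ResidueField))).hom m = 0 →
            ∃ s ∉ u.asIdeal, s • m ∈ u.asIdeal • (⊤ : Submodule A (K.obj (ModuleCat.of A A))) := by
  classical
  obtain ⟨U, hUo, hUd, hU⟩ := hGI
  let i := (ι.app (ModuleCat.of A A)).hom
  have hi : Function.Injective i := hι _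
  have : IsNoetherian A (F.obj (ModuleCat.of A A)) := isNoetherian_of_isNoetherianRing_of_finite A _
  have : Module.Finite A (K.obj (ModuleCat.of A A)) := Module.Finite.of_injective i hi
  have : Module.FinitePresentation A (F.obj (ModuleCat.of A A)) := Module.finitePresentation_of_finite A _
  let S := nonZeroDivisors A
  let g := LocalizedModule.mkLinearMap S (K.obj (ModuleCat.of A A))
  let h := LocalizedModule.mkLinearMap S (F.obj (ModuleCat.of A A))
  let Q := FractionRing A
  obtain ⟨r, hr⟩ := LinearMap.exists_leftInverse_of_injective
    ((IsLocalizedModule.map S g h i).extendScalarsOfIsLocalization S (Localization S))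
    (LinearMap.ker_eq_bot.2 (IsLocalizedModule.map_injective S g h i hi))
  obtain ⟨ρ, s, hρ⟩ := Module.FinitePresentation.exists_lift_of_isLocalizedModule S g
    ((r.restrictScalars A).comp h)
  have hgen : ∀ x, g (ρ (i x)) = g (s • x) := fun x => by
    have h1 := LinearMap.congr_fun hρ (i x)
    simp only [LinearMap.comp_apply, LinearMap.smul_apply] at h1
    rw [h1, LinearMap.map_smul_of_tower]
    congr 1
    have h2 := LinearMap.congr_fun hr (g x)
    simpa [IsLocalizedModule.map_apply] using h2
  obtain ⟨k, v, hv⟩ := Module.Finite.exists_fin (R := A) (M := K.obj (ModuleCat.of A A))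
  choose t ht using fun j => (IsLocalizedModule.eq_iff_exists S g).1 (hgen (v j))
  have hT : ∀ x, (∏ j, (t j : A)) • ρ (i x) = ((∏ j, (t j : A)) * s) • x := by
    have : (((∏ j, (t j : A)) • ρ).comp i) = ((∏ j, (t j : A)) * (s : A)) • LinearMap.id := by
      refine LinearMap.ext_on_range hv fun j => ?_
      have htj : (t j : A) • ρ (i (v j)) = (t j : A) • ((s : A) • v j) := ht j
      obtain ⟨c, hc⟩ := Finset.dvd_prod_of_mem (fun j => (t j : A)) (Finset.mem_univ j)
      simp only [LinearMap.comp_apply, LinearMap.smul_apply, LinearMap.id_apply]
      rw [hc, mul_comm (t j : A) c, mul_smul, htj, smul_smul, smul_smul, mul_assoc]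
    exact fun x => LinearMap.congr_fun this x
  set a := (∏ j, (t j : A)) * (s : A)
  have ha : a ≠ 0 := nonZeroDivisors.ne_zero (mul_mem (prod_mem fun j _ => (t j).2) s.2)
  refine ⟨U ∩ (PrimeSpectrum.basicOpen a : Set (PrimeSpectrum A)), hUo.inter (PrimeSpectrum.basicOpen a).2,
    hUd.inter_of_isOpen_right ?_ (PrimeSpectrum.basicOpen a).2, ?_⟩
  · refine dense_iff_inter_open.2 fun V hV hVne => ?_
    refine ⟨⟨⊥, Ideal.isPrime_bot⟩, ?_, ?_⟩
    · obtain ⟨x, hx⟩ := hVne
      exact ((PrimeSpectrum.le_iff_specializes ⟨⊥, Ideal.isPrime_bot⟩ x).1 bot_le).mem_open hV hx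
    · simpa using ha
  · rintro u ⟨huU, hua⟩ hft m hm
    obtain ⟨s₀, hs₀, hmem⟩ := hU u huU hft (i m) (by
      have := LinearMap.congr_fun (congrArg ModuleCat.Hom.hom (ι.naturality (ModuleCat.ofHom (Algebra.linearMap A u.asIdeal.ResidueField)))) m
      simp only [ModuleCat.hom_comp, LinearMap.comp_apply] at this
      rw [hm, map_zero] at this
      exact this.symm)
    refine ⟨s₀ * a, fun hc => (u.isPrime.mem_or_mem hc).elim hs₀ hua, ?_⟩
    rw [mul_smul, ← hT m, ← LinearMap.smul_apply, ← map_smul]
    exact Submodule.smul_top_le_comap_smul_top _ _ hmem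

end Groth.Agent.S19711
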