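import Groth.Statements.S19712
import Groth.Agent.Variety2.Growth.SecFamily
import Groth.Agent.DualMod.RepRel
import Groth.Agent.Misc13.NumTriv.Basic

set_option autoImplicit false
universe u
open CategoryTheory AlgebraicGeometry
open Variety

namespace Groth.Agent.S19712

open AlgebraicGeometry.Scheme.Modules in
/-- Uniform cohomology bound on intersections of divisors: let X be an integral scheme, proper over an
algebraically closed field k of characteristic zero and admitting an ample invertible module, of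
dimension n (the source works over the complex numbers); let A be an invertible O_X-module which is
very ample (A ≅ i^*O(1) for an immersion into some P^N_k) and such that A ⊗ P' is very ample for
every invertible P' numerically equivalent to zero, D any invertible O_X-module and 1 ≤ k ≤ n. Then
there is a constant C > 0, determined by X, A and D, such that: for every invertible P numerically
equivalent to zero, every k global sections s_1, …, s_k of A ⊗ P, and every closed subscheme Z of X
whose ideal is generated by the zero-scheme ideals of the s_j (Z = E_1 ∩ ⋯ ∩ E_k with E_j the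
divisor of s_j), if Z is reduced and all its irreducible components have dimension n − k, then dim_k
H^i(Z, (D^{⊗m})|_Z) ≤ C · m^{n−k} for every m ≥ 1 and every i. -/
theorem result
    (k : Type u) [Field k] [IsAlgClosed k] [CharZero k] (X : Scheme.{u})
    [X.Over (Spec (CommRingCat.of k))] [AlgebraicGeometry.IsIntegral X]
    [IsProper (X ↘ Spec (CommRingCat.of k))] (hproj : ∃ A : X.Modules, CohB1.IsAmple A)
    (n : ℕ) (hn : topologicalKrullDim ↥X = n)
    (A : X.Modules) (hA : PicF.IsInvertible A) (hAva : RelAmple.IsRelVeryAmplePn (X ↘ Spec (CommRingCat.of k)) A)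
    (hAP : ∀ P' : X.Modules, PicF.IsInvertible P' → Pic13.IsNumEquivZero k X P' →
      RelAmple.IsRelVeryAmplePn (X ↘ Spec (CommRingCat.of k)) (CohB1.tensorMod A P'))
    (D : X.Modules) (hD : PicF.IsInvertible D) (kk : ℕ) (hk1 : 1 ≤ kk) (hkn : kk ≤ n) :
    ∃ C : ℝ, 0 < C ∧ ∀ (P : X.Modules), PicF.IsInvertible P → Pic13.IsNumEquivZero k X P →
      ∀ (s : Fin kk → (Coh.structureModule X ⟶ CohB1.tensorMod A P))
        (Z : Scheme.{u}) [Z.Over (Spec (CommRingCat.of k))] (ι : Z ⟶ X) [IsClosedImmersion ι],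
        ι ≫ (X ↘ Spec (CommRingCat.of k)) = Z ↘ Spec (CommRingCat.of k) →
        (∀ U : X.affineOpens, ι.ker.ideal U = ⨆ j, (PicF2.zeroScheme (CohB1.tensorMod A P) (s j)).ideal U) →
        AlgebraicGeometry.IsReduced Z →
        (∀ W ∈ irreducibleComponents ↥Z, topologicalKrullDim ↥W = ((n - kk : ℕ) : WithBot ℕ∞)) →
        ∀ (m : ℕ), 1 ≤ m → ∀ i : ℕ,
          (Module.finrank k (Coh.HH Z ((pullback ι).obj (CohB1.tensorPow D m)) i) : ℝ) ≤ C * (m : ℝ) ^ (n - kk) := by
  open Groth.Variety2.Growth Groth.PicAux Groth.Inter Groth.PropsBasic.Ample Groth.PicCurve Groth.Misc13.NumTriv TopologicalSpace in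
  exact by
    classical
    obtain ⟨H, hH⟩ := hproj
    let fX := X ↘ Spec (CommRingCat.of k)
    let M := CohB1.tensorMod A A
    have hM : PicF.IsInvertible M := isInvertible_tensorMod hA hA
    let V := Groth.CohBase.secA k M ⊤
    have : Module.Finite k V := Groth.FlatStrata.finite_secA_top M (isCoh_of_isInvertible hM)
    let be := Module.finBasis k V
    let N := Module.finrank k V
    let e : Fin N → Γ(M, (⊤ : X.Opens)) := fun l => be l
    have hsm : ∀ (a : k) (v : V), (a • v : V) = cst fX a • (show Γ(M, (⊤ : X.Opens)) from v) := fun a v => by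
      change Groth.CohBase.toSec k (⊤ : X.Opens) a • (show Γ(M, (⊤ : X.Opens)) from v) = _
      congr 1
      exact Groth.QCohMod.resFun_self _
    have hexp : ∀ v : V, (show Γ(M, (⊤ : X.Opens)) from v) = ∑ l, cst fX (be.repr v l) • e l := fun v => by
      conv_lhs => rw [← be.sum_repr v]
      exact Finset.sum_congr rfl fun l _ => hsm _ _
    choose C hC using fun q : ℕ => exists_bound_cut k hH hM hD e (n - kk) q
    refine ⟨((∑ q ∈ Finset.range (n - kk + 1), C q * 2 ^ (n - kk) : ℕ) : ℝ) + 1, by positivity,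
      fun P hP hPnt s Z _ ι _ hι hker hred hcomp m hm i => ?_⟩
    have hd : topologicalKrullDim ↥Z ≤ ((n - kk : ℕ) : WithBot ℕ∞) :=
      Groth.DualMod.topologicalKrullDim_le_of_components fun W hW => (hcomp W hW).le
    have : IsProper (Z ↘ Spec (CommRingCat.of k)) := hι ▸ inferInstanceAs (IsProper (ι ≫ fX))
    rcases lt_or_ge (n - kk) i with hi | hi
    · have : IsNoetherian Z := Groth.Inter.isNoetherian k
      have : NoetherianSpace Z.toTopCat := inferInstanceAs (NoetherianSpace Z)
      have : Subsingleton (Coh.HH Z ((Scheme.Modules.pullback ι).obj (CohB1.tensorPow D m)) i) :=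
        Groth.Inter.Vanishing.subsingleton_H_of_dim_le (X := Z.toTopCat) hd _ i hi
      rw [Module.finrank_zero_of_subsingleton]
      simp only [Nat.cast_zero]
      positivity
    obtain ⟨Q, hQ, hPQ⟩ := exists_isInverseOf hP
    have hQnt : Pic13.IsNumEquivZero k X Q :=
      (nt_iff k hQ).1 (nt_inverse k ((nt_iff k hP).2 hPnt) hPQ)
    let L₁ := CohB1.tensorMod A P
    let L₂ := CohB1.tensorMod A Q
    have hL₁ : PicF.IsInvertible L₁ := isInvertible_tensorMod hA hP
    have hL₂ : PicF.IsInvertible L₂ := isInvertible_tensorMod hA hQ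
    let φ : CohB1.tensorMod L₁ L₂ ≅ M :=
      (tensor_assoc A P L₂).some ≪≫ (tensor_congr ⟨Iso.refl A⟩
        ⟨(tensor_comm P L₂).some ≪≫ (tensor_assoc A Q P).some ≪≫
          (tensor_congr ⟨Iso.refl A⟩ ⟨(tensor_comm Q P).some ≪≫ hPQ.some⟩).some ≪≫
          (tensor_comm A _).some ≪≫ (tensor_one A).some⟩).some
    let sv : Fin kk → Γ(L₁, (⊤ : X.Opens)) := fun j => (s j).app ⊤ (oneSec X ⊤)
    have hzs : ∀ j, PicF2.zeroScheme L₁ (s j) = zero L₁ (sv j) := fun j =>
      congrArg (PicF2.zeroScheme L₁) (hom_structure_ext (homOfSection_one (sv j)).symm)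
    have hk : ι.ker = ⨆ j, zero L₁ (sv j) := Scheme.IdealSheafData.ext (funext fun U => by
      rw [hker U, Scheme.IdealSheafData.ideal_iSup, iSup_apply]
      exact iSup_congr fun j => by rw [hzs])
    let S : Set V := {v | zero M (show Γ(M, (⊤ : X.Opens)) from v) ≤ ι.ker}
    let Sp := Submodule.span k S
    have hSp : ∀ v ∈ Sp, zero M (show Γ(M, (⊤ : X.Opens)) from v) ≤ ι.ker := fun v hv => by
      obtain ⟨r, c, g, hg⟩ := Submodule.mem_span_set'.1 hv
      have hv' : (show Γ(M, (⊤ : X.Opens)) from v) = ∑ t, cst fX (c t) • (show Γ(M, (⊤ : X.Opens)) from (g t).1) := by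
        rw [← hg]
        exact Finset.sum_congr rfl fun t _ => hsm _ _
      rw [hv']
      exact (zero_sum_le hM _ _).trans (iSup_le fun t => (g t).2)
    let b := Module.finBasis k Sp
    have hr : Module.finrank k Sp ≤ N := Sp.finrank_le
    let w : Fin N → V := fun j => if h : (j : ℕ) < Module.finrank k Sp then (b ⟨j, h⟩).1 else 0
    have hw : ∀ j, w j ∈ Sp := fun j => by
      by_cases h : (j : ℕ) < Module.finrank k Sp
      · simp only [w, dif_pos h]; exact (b ⟨j, h⟩).2
      · simp only [w, dif_neg h]; exact Sp.zero_mem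
    have hker' : ι.ker = ⨆ j, zero M (∑ l, cst fX (be.repr (w j) l) • e l) := by
      simp only [← hexp]
      refine le_antisymm ?_ (iSup_le fun j => hSp _ (hw j))
      have hle : ∀ v ∈ Sp, zero M (show Γ(M, (⊤ : X.Opens)) from v) ≤
          ⨆ j, zero M (show Γ(M, (⊤ : X.Opens)) from w j) := fun v hv => by
        have h1 : v = ∑ t, b.repr ⟨v, hv⟩ t • w ⟨t, t.2.trans_le hr⟩ := by
          have h0 := congrArg Subtype.val (b.sum_repr ⟨v, hv⟩)
          rw [AddSubmonoidClass.coe_finsetSum] at h0
          refine h0.symm.trans (Finset.sum_congr rfl fun t _ => ?_)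
          simp only [w, dif_pos t.2, SetLike.val_smul]
        have h2 : (show Γ(M, (⊤ : X.Opens)) from v) =
            ∑ t, cst fX (b.repr ⟨v, hv⟩ t) • (show Γ(M, (⊤ : X.Opens)) from w ⟨t, t.2.trans_le hr⟩) :=
          h1.trans (Finset.sum_congr rfl fun t _ => hsm _ _)
        rw [h2]
        exact (zero_sum_le hM _ _).trans (iSup_le fun t => le_iSup_of_le _ le_rfl)
      rw [hk]
      refine iSup_le fun j => ideal_le_of_cover fun x => ?_
      obtain ⟨t, ht⟩ := exists_mem_gloc_of_veryAmple (hAP Q hQ hQnt) x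
      obtain ⟨W, hxW, hW⟩ := exists_zero_tmul_ideal_eq hL₁ hL₂ (sv j) ht
      refine ⟨W, hxW, ?_⟩
      rw [← hW, ← zero_iso (isInvertible_tensorMod hL₁ hL₂) hM φ]
      refine hle _ (Submodule.subset_span ?_) W
      change zero M (φ.hom.app ⊤ (tmulSec (sv j) t)) ≤ ι.ker
      rw [zero_iso (isInvertible_tensorMod hL₁ hL₂) hM φ, hk]
      exact (zero_tmul_le hL₁ hL₂ _ _).trans (le_iSup_of_le j le_rfl)
    have h := hC i (fun j l => be.repr (w j) l) Z ι hι hker' hd m
    have h' : Module.finrank k (Coh.HH Z ((Scheme.Modules.pullback ι).obj (CohB1.tensorPow D m)) i) ≤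
        (∑ q ∈ Finset.range (n - kk + 1), C q * 2 ^ (n - kk)) * m ^ (n - kk) := by
      refine h.trans ?_
      calc C i * (m + 1) ^ (n - kk) ≤ C i * (2 ^ (n - kk) * m ^ (n - kk)) := by
            rw [← mul_pow]
            exact Nat.mul_le_mul_left _ (Nat.pow_le_pow_left (by omega) _)
        _ = C i * 2 ^ (n - kk) * m ^ (n - kk) := (mul_assoc _ _ _).symm
        _ ≤ _ := Nat.mul_le_mul_right _ (Finset.single_le_sum (f := fun q => C q * 2 ^ (n - kk))
            (fun _ _ => Nat.zero_le _) (Finset.mem_range.2 (by omega)))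
    calc (Module.finrank k (Coh.HH Z ((Scheme.Modules.pullback ι).obj (CohB1.tensorPow D m)) i) : ℝ)
        ≤ ((∑ q ∈ Finset.range (n - kk + 1), C q * 2 ^ (n - kk) : ℕ) : ℝ) * (m : ℝ) ^ (n - kk) := by
          exact_mod_cast h'
      _ ≤ _ := mul_le_mul_of_nonneg_right (le_add_of_nonneg_right zero_le_one) (by positivity)

end Groth.Agent.S19712
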