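import Groth.Statements.S19715
import Groth.Agent.TwLocal.Local
-- import your own Groth.Agent.* helpers here

set_option autoImplicit false
universe u
open TwSh

namespace Groth.Agent.S19715

open CategoryTheory AlgebraicGeometry in
/-- Being twisted is local on the base. Let 𝒳 → X be an fppf A-gerbe over a scheme X, χ a character of
A, d an integer and F a quasi-coherent module on 𝒳. If {T_i → X} is a family of flat morphisms
locally of finite presentation whose images cover X, and for every i the restriction of F to the
gerbe restricted over T_i is d-fold χ-twisted for the restricted action, then F is d-fold χ-twisted.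
(The published statement is an equivalence, for arbitrary modules on an A-gerbe over a locally
ringed site and a covering of it; the converse implication holds by construction and is not
asserted, and this row is the quasi-coherent form over the big fppf site of a scheme.) -/
theorem result (S : Scheme.{u}) (X : Over S) (𝒳 : AlgSt.Cat S) (h𝒳 : AlgSt.IsAlgStack Scheme.fppfPrecoverage 𝒳) (A : (Over S)ᵒᵖ ⥤ GrpCat.{u}) (χ : A ⟶ TwSh.GmPsh S) (d : ℤ) (π : 𝒳 ⥤ᵇ AlgSt.ofSch X) (ι : TwSh.BandHom 𝒳 A) (hπ : TwSh.IsBandedGerbe (QuotSh.J Scheme.fppfPrecoverage S) π ι) (I : Type u) (η : I → (AlgSt.ofSch X).obj) (hfl : ∀ i, Flat (η i).sec.down.left) (hfp : ∀ i, LocallyOfFinitePresentation (η i).sec.down.left) (hcov : ∀ x : X.left, ∃ i, x ∈ Set.range (η i).sec.down.left.base) (F : StMod.QCoh 𝒳) (h : ∀ i, TwSh.IsTwisted (StMod.Mod.comap (StMod.fibFst π (η i)) F.obj) (TwSh.BandHom.fib π (η i) ι (TwSh.IsBandedGerbe.map_hom_eq_id π hπ)) χ d) : TwSh.IsTwisted F.obj ι χ d := by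
  exact Groth.TwLocal.isTwisted_of_cover h𝒳.1.1 χ d π ι (TwSh.IsBandedGerbe.map_hom_eq_id π hπ) η hfl hcov F h

end Groth.Agent.S19715
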