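import Groth.Statements.S19716
import Groth.Agent.StDescent.SectionTw
import Groth.Agent.AlgStBasic.LocQBase
-- import your own Groth.Agent.* helpers here

set_option autoImplicit false
universe u
open TwSh

namespace Groth.Agent.S19716

open CategoryTheory AlgebraicGeometry in
/-- A section of a trivial gerbe identifies twisted sheaves with sheaves on the base. Let 𝒳 → X be an
fppf A-gerbe over a scheme X, χ a character of A, and σ a section of the gerbe (a functor X → 𝒳 over
(Sch/S) whose composite with the projection is isomorphic to the identity). Then inverse image along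
σ, restricted to the full subcategory of χ-twisted quasi-coherent modules on 𝒳, is an equivalence of
categories onto the quasi-coherent modules on X. (The published statement is about the stacks, over
the base, of twisted sheaves and of sheaves; this row is its quasi-coherent form on the categories
themselves.) -/
theorem result (S : Scheme.{u}) (X : Over S) (𝒳 : AlgSt.Cat S) (h𝒳 : AlgSt.IsAlgStack Scheme.fppfPrecoverage 𝒳) (A : (Over S)ᵒᵖ ⥤ GrpCat.{u}) (χ : A ⟶ TwSh.GmPsh S) (π : 𝒳 ⥤ᵇ AlgSt.ofSch X) (ι : TwSh.BandHom 𝒳 A) (hπ : TwSh.IsBandedGerbe (QuotSh.J Scheme.fppfPrecoverage S) π ι) (σ : AlgSt.ofSch X ⥤ᵇ 𝒳) (e : BasedFunctor.comp σ π ≅ BasedFunctor.id (AlgSt.ofSch X)) : ((TwSh.isTwistedQ 𝒳 ι χ 1).ι ⋙ StMod.comapQ σ).IsEquivalence := by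
  have hZ : FibCat.IsFibGrpd (AlgSt.ofSch X).p := Groth.AlgStBasic.isFibGrpd_ofSp _
  revert π σ e
  generalize AlgSt.ofSch X = 𝒵 at hZ ⊢
  obtain ⟨Eo, Ec, Ep⟩ := 𝒵
  intro π hπ σ e
  obtain ⟨(σ : Eo ⥤ 𝒳.obj), (w : σ ⋙ 𝒳.p = Ep)⟩ := σ
  subst w
  exact (Groth.StDescent.SecData.isEquivalence ⟨π, ι, hπ, hZ, h𝒳.1.1, e⟩ χ)

end Groth.Agent.S19716
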