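import Groth.Statements.S19733
import Groth.Agent.SurfNum.RDiv

set_option autoImplicit false
universe u
open CategoryTheory CategoryTheory.Limits AlgebraicGeometry TopologicalSpace
open Surf

namespace Groth.Agent.S19733

/-- Let k be an algebraically closed field of characteristic zero and X a smooth projective surface over
k (integral, proper and smooth over k, of dimension 2, with an ample invertible module); the notes
work over the complex numbers. Fix a group law on the Picard set of X, and let B be the intersection
form on N¹(X)_ℝ = ℝ ⊗ (Pic X modulo numerical equivalence), the real bilinear form whose value on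
the classes of invertible modules L, M is (L·M) = χ(O_X) − χ(L) − χ(M) + χ(L ⊗ M). Real divisors are
finite real combinations of integral curves on X (quasi-coherent ideals with integral closed
subscheme of one-dimensional support and invertible ideal module); such a real divisor is ample when
it is a combination with positive real coefficients of integral divisors E_i whose Picard classes
[O_X(E_i)] are classes of ample invertible modules, and numerically trivial when its class pairs to
zero under B with the class of every integral divisor. If D is an ample real divisor and D′ is a
real divisor with D′ − D numerically trivial, then D′ is ample. -/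
theorem result (k : Type u) [Field k] [IsAlgClosed k] [CharZero k]
    (X : Scheme.{u}) [X.Over (Spec (CommRingCat.of k))] [IsProper (X ↘ (Spec (CommRingCat.of k)))]
    [Smooth (X ↘ (Spec (CommRingCat.of k)))] [AlgebraicGeometry.IsIntegral X] (hdim : topologicalKrullDim X = 2)
    (hproj : ∃ H : X.Modules, CohB1.IsAmple H) [PicGrp.Law X]
    (B : NumR.N1R k X →ₗ[ℝ] NumR.N1R k X →ₗ[ℝ] ℝ) (hB : NumR.IsIntForm₂ k X B)
    (D D' : NumR.CDivR X) (hD : NumR.IsAmpleRDiv X D) (h : NumR.IsNumTrivialRDiv k X B (D' - D)) :
    NumR.IsAmpleRDiv X D' := by

  refine Groth.SurfNum.isAmpleRDiv_of_deg_eq k hdim (Groth.SurfNum.isRegularLocalRing_stalk k) hB hD fun C => ?_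
  have h1 := h (Finsupp.single C 1)
  have e : NumR.CDiv.toR X (Finsupp.single C 1) = Finsupp.single C (1 : ℝ) := by
    simp [NumR.CDiv.toR]
  rw [e] at h1
  simpa [Groth.SurfNum.degOn, NumR.divClR] using h1

end Groth.Agent.S19733
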