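import Groth.Statements.S19735
import Groth.Agent.SurfNum.Walls

set_option autoImplicit false
universe u
open CategoryTheory CategoryTheory.Limits AlgebraicGeometry TopologicalSpace
open Surf

namespace Groth.Agent.S19735

/-- Let k be an algebraically closed field of characteristic zero and X a smooth projective surface over
k (integral, proper and smooth over k, of dimension 2, with an ample invertible module); the notes
work over the complex numbers. Fix a group law on the Picard set of X, and let B be the intersection
form on N¹(X)_ℝ = ℝ ⊗ (Pic X modulo numerical equivalence), the real bilinear form whose value on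
the classes of invertible modules L, M is (L·M) = χ(O_X) − χ(L) − χ(M) + χ(L ⊗ M); assume N¹(X)_ℝ is
finite-dimensional. Let H be an ample invertible module, C₊ = {x : B(x, x) > 0, B(x, [H]) > 0} the
positive cone and Ā(X) the closure of the ample cone taken inside C₊ (the closure in N¹(X)_ℝ of the
cone spanned by ample classes, intersected with C₊). Let C_1, …, C_r be pairwise distinct integral
curves on X (quasi-coherent ideals I_i with integral closed subscheme of one-dimensional support and
invertible ideal module) with walls W^{C_i} = {x : B(x, [C_i]) = 0}. Then Ā(X) ∩ W^{C_1} ∩ ⋯ ∩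
W^{C_r} is non-empty if and only if the curves C_i generate a negative definite sublattice: Σ_{i,j}
a_i a_j (I_i·I_j) < 0 for every nonzero integer vector a, where (I_i·I_j) = χ(O_X) − χ(I_i) − χ(I_j)
+ χ(I_i ⊗ I_j). (The published statement adds that, when non-empty, this intersection is open in
W^{C_1} ∩ ⋯ ∩ W^{C_r}; that is not correct as published: on the plane blown up in two points, with
C_1 one exceptional curve, the class of a line lies in Ā(X) ∩ W^{C_1} but adding a small positive
multiple of the other exceptional curve leaves Ā(X) while staying in W^{C_1}. What the argument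
there yields is a non-empty open subset of the intersection of the walls contained in Ā(X), and that
clause is not restated.) -/
theorem result (k : Type u) [Field k] [IsAlgClosed k] [CharZero k]
    (X : Scheme.{u}) [X.Over (Spec (CommRingCat.of k))] [IsProper (X ↘ (Spec (CommRingCat.of k)))]
    [Smooth (X ↘ (Spec (CommRingCat.of k)))] [AlgebraicGeometry.IsIntegral X] (hdim : topologicalKrullDim X = 2)
    (hproj : ∃ H : X.Modules, CohB1.IsAmple H) [PicGrp.Law X] [Module.Finite ℝ (NumR.N1R k X)]
    (B : NumR.N1R k X →ₗ[ℝ] NumR.N1R k X →ₗ[ℝ] ℝ) (hB : NumR.IsIntForm₂ k X B) (H : X.Modules) (hH : CohB1.IsAmple H)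
    (r : ℕ) (C : Fin r → X.IdealSheafData) (hC : Function.Injective C)
    (hCi : ∀ i, AlgebraicGeometry.IsIntegral (C i).subscheme) (hCd : ∀ i, topologicalKrullDim ((C i).support : Set X) = 1)
    (hCinv : ∀ i, PicF.IsInvertible (ClSub.idealMod (C i))) :
    (∃ x : NumR.N1R k X, x ∈ closure (NumR.ampleCone k X : Set (NumR.N1R k X)) ∧ x ∈ NumR.posCone k X B H hH.1 ∧
        ∀ i, x ∈ NumR.wall k X B (C i) (hCinv i)) ↔
      (∀ a : Fin r → ℤ, a ≠ 0 →
      ∑ i, ∑ j, a i * a j * FGA.intNum k X 2 ![(ClSub.idealMod (C i)), (ClSub.idealMod (C j))] (Coh.structureModule X) < 0) := by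
  have hreg := fun x : X => Groth.SurfNum.isRegularLocalRing_stalk k x
  simp only [Groth.Inter.intNum_eq_pair k hdim.le]
  have hc : ∀ i, Groth.SurfNum.IsCurve (C i) := fun i => ⟨hCi i, hCd i⟩
  constructor
  · rintro ⟨x, -, hpos, hw⟩
    refine Groth.SurfNum.negDef_of_orth k hdim hreg hB hH hC hc hpos.1 fun i => ?_
    rw [Groth.SurfNum.curveClass_eq k (hCinv i)]
    exact hw i
  · intro hneg
    obtain ⟨x, hxx, hxh, hnef, horth⟩ := Groth.SurfNum.exists_orth k hdim hreg hB hH hC hc hneg
    refine ⟨x, ?_, ⟨hxx, hxh⟩, fun i => ?_⟩
    · rw [Groth.SurfNum.closure_ampleCone k hdim hreg hB hH]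
      exact ⟨hxx.le, hnef⟩
    · change B x _ = 0
      rw [← Groth.SurfNum.curveClass_eq k (hCinv i)]
      exact horth i

end Groth.Agent.S19735
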