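import Groth.Statements.S19738
import Groth.Agent.Misc13.NumPairing

set_option autoImplicit false
universe u
open CategoryTheory CategoryTheory.Limits AlgebraicGeometry
open Variety

namespace Groth.Agent.S19738

/-- Let X be a normal, geometrically integral scheme, proper over a field k and admitting an ample
invertible module (a normal geometrically integral projective variety over k). Fix a group law on
the Picard set of X and let N¹(X)_ℝ = ℝ ⊗ (Pic X modulo numerical equivalence) with its topology as
a real vector space, assumed finite-dimensional (the Néron–Severi group is taken finitely generated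
in the text). Let Psef(X) ⊆ N¹(X)_ℝ be the pseudo-effective cone, the closure of the convex cone
spanned by the classes of invertible modules having a nonzero global section. Then Psef(X) has a
compact basis: for every δ ∈ Psef(X) the set {δ′ ∈ Psef(X) : δ − δ′ ∈ Psef(X)} is compact. -/
theorem result (k : Type u) [Field k] (X : Scheme.{u})
    [X.Over (Spec (CommRingCat.of k))] [AlgebraicGeometry.IsIntegral X] [GeometricallyIntegral (X ↘ Spec (CommRingCat.of k))]
    [IsProper (X ↘ Spec (CommRingCat.of k))] (hnorm : Pi1.IsNormalScheme X) (hproj : ∃ A : X.Modules, CohB1.IsAmple A)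
    [PicGrp.Law X] [Module.Finite ℝ (NumR.N1R k X)]
    (δ : NumR.N1R k X) (hδ : δ ∈ NumR.psefCone k X) :
    IsCompact {δ' : NumR.N1R k X | δ' ∈ NumR.psefCone k X ∧ δ - δ' ∈ NumR.psefCone k X} := by
  obtain ⟨H, hH⟩ := hproj
  exact Misc13.NumPairing.isCompact_interval k hH δ

end Groth.Agent.S19738
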