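import Groth.Statements.S19741
import Mathlib

set_option autoImplicit false
universe w u
open EssDim

namespace Groth.Agent.S19741

open CategoryTheory AlgebraicGeometry in
/-- For a field extension `K` of `k` and a presheaf of sets `P` on schemes over `k`, restrict `P` to
schemes over `K` by viewing a scheme over `Spec K` as a scheme over `Spec k`; then the essential
dimension over `K` of the restricted presheaf is at most the essential dimension of `P` over `k`.
(The source states this for an algebraic stack over `k` and its base change to `K`, through the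
presheaf of isomorphism classes of objects, whose restriction to schemes over `K` is the presheaf of
classes of the base-changed stack; the inequality is stated here for an arbitrary presheaf, which is
what the argument with composita of fields of definition gives.) -/
theorem result (k : Type u) [Field k] (K : Type u) [Field K] [Algebra k K]
    (P : (Over (Spec (CommRingCat.of k)))ᵒᵖ ⥤ Type w) :
    EssDim.ed (k := K) ((Over.map (Spec.map (CommRingCat.ofHom (algebraMap k K)))).op ⋙ P) ≤ EssDim.ed P := by
  classical
  refine iSup_le fun L => iSup_le fun _ => iSup_le fun _ => iSup_le fun ξ => ?_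
  letI : Algebra k L := ((algebraMap K L).comp (algebraMap k K)).toAlgebra
  haveI : IsScalarTower k K L := IsScalarTower.of_algebraMap_eq fun _ => rfl
  let g : Spec (CommRingCat.of K) ⟶ Spec (CommRingCat.of k) := Spec.map (CommRingCat.ofHom (algebraMap k K))
  let j : ∀ (M : Type u) [Field M] [Algebra K M] [Algebra k M] [IsScalarTower k K M],
      (Over.map g).obj (SGA7.pt (K := K) M) ≅ SGA7.pt (K := k) M := fun M _ _ _ _ =>
    Over.isoMk (Iso.refl _) (by
      show 𝟙 _ ≫ Spec.map _ = Spec.map _ ≫ g
      rw [Category.id_comp, ← Spec.map_comp, ← CommRingCat.ofHom_comp, ← IsScalarTower.algebraMap_eq])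
  let ξ' : EssDim.FPt P L := P.map (j L).inv.op ξ
  refine le_trans ?_ (le_iSup_of_le L (le_iSup_of_le inferInstance (le_iSup_of_le inferInstance (le_iSup_of_le ξ' le_rfl))))
  rw [WithBot.coe_le_coe]
  refine le_iInf fun ⟨E, ξ₀, hξ₀⟩ => ?_
  let E' : IntermediateField K L := IntermediateField.adjoin K (E : Set L)
  let φ : E →ₐ[k] E' :=
    { toFun := fun x => ⟨x, IntermediateField.subset_adjoin _ _ x.2⟩
      map_one' := rfl
      map_mul' := fun _ _ => rfl
      map_zero' := rfl
      map_add' := fun _ _ => rfl
      commutes' := fun _ => rfl }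
  have hdesc : EssDim.Descends ((Over.map g).op ⋙ P) ξ E' := by
    refine ⟨P.map (j E').hom.op (EssDim.fmap φ ξ₀), ?_⟩
    show (P.map (EssDim.resPt φ).op ≫ P.map (j E').hom.op ≫ P.map ((Over.map g).map (EssDim.resPt E'.val)).op) ξ₀ = ξ
    have e : EssDim.resPt E.val = (j L).inv ≫ (Over.map g).map (EssDim.resPt E'.val) ≫ (j E').hom ≫ EssDim.resPt φ := by
      ext : 1
      simp only [Over.comp_left, EssDim.resPt_left, Over.map_map_left, j, Over.isoMk_hom_left, Over.isoMk_inv_left,
        Iso.refl_hom, Iso.refl_inv]
      erw [Category.id_comp, Category.id_comp, ← Spec.map_comp, ← CommRingCat.ofHom_comp]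
      rfl
    have e2 : (EssDim.resPt φ).op ≫ (j E').hom.op ≫ ((Over.map g).map (EssDim.resPt E'.val)).op =
        (EssDim.resPt E.val).op ≫ (j L).hom.op := by
      rw [e]
      simp [← op_comp]
    rw [← P.map_comp, ← P.map_comp, e2, P.map_comp]
    show P.map (j L).hom.op (EssDim.fmap E.val ξ₀) = ξ
    rw [hξ₀]
    show (P.map (j L).inv.op ≫ P.map (j L).hom.op) ξ = ξ
    rw [← P.map_comp, ← op_comp, Iso.hom_inv_id, op_id, P.map_id]
    rfl
  refine le_trans (iInf_le _ ⟨E', hdesc⟩) (OrderHomClass.mono Cardinal.toENat ?_)
  obtain ⟨s, hs⟩ := exists_isTranscendenceBasis k E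
  rw [← hs.cardinalMk_eq_trdeg]
  haveI : Algebra.IsAlgebraic (Algebra.adjoin k s) E := by
    have := hs.isAlgebraic
    rwa [Subtype.range_coe] at this
  let A₀ := Algebra.adjoin K (φ '' s)
  haveI : Algebra.IsAlgebraic A₀ E' := by
    have hle : (Algebra.adjoin k s).map φ ≤ A₀.restrictScalars k := by
      rw [Subalgebra.map_le, Algebra.adjoin_le_iff]
      exact fun x hx => Algebra.subset_adjoin ⟨x, hx, rfl⟩
    let f : Algebra.adjoin k s →+* A₀ :=
      { toFun := fun x => ⟨φ (x : E), hle ⟨x, x.2, rfl⟩⟩
        map_one' := Subtype.ext (map_one φ)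
        map_mul' := fun a b => Subtype.ext (map_mul φ (a : E) (b : E))
        map_zero' := Subtype.ext (map_zero φ)
        map_add' := fun a b => Subtype.ext (map_add φ (a : E) (b : E)) }
    have hf : Function.Injective f := fun a b h =>
      Subtype.ext (φ.toRingHom.injective (congrArg Subtype.val h))
    have key : ∀ x : E, IsAlgebraic A₀ (φ x) := fun x =>
      (Algebra.IsAlgebraic.isAlgebraic (R := Algebra.adjoin k s) x).ringHom_of_comp_eq f φ hf
        (RingHom.ext fun _ => rfl)
    constructor
    rintro ⟨x, hx⟩
    induction hx using IntermediateField.adjoin_induction with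
    | mem x hx => exact key ⟨x, hx⟩
    | algebraMap r => exact isAlgebraic_algebraMap (⟨algebraMap K E' r, A₀.algebraMap_mem r⟩ : A₀)
    | add x y hx hy ihx ihy => exact ihx.add ihy
    | inv x hx ihx => exact ihx.inv
    | mul x y hx hy ihx ihy => exact ihx.mul ihy
  exact (Algebra.IsAlgebraic.trdeg_le_cardinalMk K (φ '' s)).trans Cardinal.mk_image_le

end Groth.Agent.S19741
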