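import Groth.Statements.S19742
import Groth.Agent.EssDimH.Descent

set_option autoImplicit false
universe u
open EssDim

namespace Groth.Agent.S19742

open CategoryTheory AlgebraicGeometry in
/-- Let `𝒳` and `𝒴` be algebraic stacks over a field `k` and `F : 𝒳 ⟶ 𝒴` a morphism over `(Sch/k)` which
is representable by algebraic spaces, quasi-separated, locally of finite type and of fibre dimension
at most `d`: for every scheme `U` over `k` and every `(Sch/U) ⟶ 𝒴` the 2-fibre product with `𝒳` is
an algebraic space whose morphism to `U` is quasi-separated, locally of finite type and of relative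
dimension at most `d` (local dimension of the fibre at most `d` at every point). Then for a field
`L` over `k` and an object `x` of `𝒳` over `Spec L`, the essential dimension of `x` is at most the
essential dimension of its image `F(x)` plus `d`. (Quasi-separatedness of `F` is an added
hypothesis: the published statement asks only representable, locally of finite type and of fibre
dimension at most `d`, in a framework where representable morphisms of algebraic stacks are
quasi-separated; the argument uses residue fields of points of the algebraic space `Spec K ×_𝒴 𝒳`,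
which are available when that space is quasi-separated.) -/
theorem result (k : Type u) [Field k]
    (𝒳 𝒴 : AlgSt.Cat (Spec (CommRingCat.of k)))
    (h𝒳 : AlgSt.IsAlgStack Scheme.fppfPrecoverage 𝒳) (h𝒴 : AlgSt.IsAlgStack Scheme.fppfPrecoverage 𝒴)
    [FibCat.IsFibGrpd 𝒳.p] [FibCat.IsFibGrpd 𝒴.p]
    (F : 𝒳 ⥤ᵇ 𝒴) (d : ℕ)
    (hF : AlgSt.RepByAlgSpWith
      (AlgSp.LocP @LocallyOfFiniteType ⊓ AlgSp.IsQuasiSeparatedMor ⊓ fun _ _ g => CurvSt.RelDimLE d g) F)
    (L : Type u) [Field L] [Algebra k L] (x : StkCnt.pts 𝒳 L) :
    EssDim.edStAt 𝒳 x ≤ EssDim.edStAt 𝒴 ⟨F.obj x.1, (F.w_obj x.1).trans x.2⟩ + d := by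

  exact Groth.EssDimH.edStAt_le_add 𝒳 𝒴 F d hF L x

end Groth.Agent.S19742
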