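import Groth.Statements.S19744
import Groth.Agent.EssDimQuot.Main
-- import your own Groth.Agent.* helpers here

set_option autoImplicit false
universe u
open EssDim

namespace Groth.Agent.S19744

open CategoryTheory AlgebraicGeometry in
/-- Let `G` be an affine group scheme of finite type over a field `k` acting on a scheme `X` locally of
finite type over `k`. Then the essential dimension over `k` of the quotient stack `[X/G]` (torsors
for the fppf topology with an equivariant morphism to `X`) is at most the essential dimension of the
classifying stack of `G` plus the dimension of `X`. (The source writes this as `ed G ≥ ed [X/G] -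
dim X`, for any algebraic group `G` over `k`, and allows `X` to be an algebraic space; here `G` is
affine, so that the essential dimension of `G` is that of the stack of its torsors which are
schemes, `X` is a scheme, the inequality is written additively, and the dimension is the Krull
dimension of the underlying space of `X`, minus infinity for empty `X`.) -/
theorem result (k : Type u) [Field k]
    (G X : Over (Spec (CommRingCat.of k))) [GrpObj G] [IsAffineHom G.hom] [LocallyOfFiniteType G.hom]
    (aX : AlgGrp.Action G X) [LocallyOfFiniteType X.hom]
    [FibCat.IsFibGrpd (AlgSt.QuotSt Scheme.fppfPrecoverage G aX).p]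
    [FibCat.IsFibGrpd (AlgSt.BG Scheme.fppfPrecoverage G).p] :
    EssDim.edSt (AlgSt.QuotSt Scheme.fppfPrecoverage G aX) ≤
      EssDim.edSt (AlgSt.BG Scheme.fppfPrecoverage G) + (topologicalKrullDim (X.left : Type u) : WithBot ℕ∞) := by
  refine iSup_le fun L => iSup_le fun hL => iSup_le fun hA => iSup_le fun ξ => ?_
  induction ξ using Quot.ind with
  | mk x => exact Groth.EssDimQuot.edStAt_quot_le aX L x

end Groth.Agent.S19744
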