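import Groth.Statements.S19747
import Groth.Agent.Misc15.Segre

set_option autoImplicit false
universe u
open scoped TensorProduct
open GrSegre

namespace Groth.Agent.S19747

/-- Let R and S be graded rings defined over a field k with Segre product T = R # S, and let M be a
finitely generated graded R-module and N a finitely generated graded S-module. Then M # N is a
finitely generated T-module. Here a graded ring defined over k is a commutative k-algebra of finite
type, graded in nonnegative degrees by k-subspaces with degree-zero part k·1; the Segre product T =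
R # S = ⊕_n R_n ⊗_k S_n is presented abstractly as a graded k-algebra T with an injective k-algebra
homomorphism ψ : T → R ⊗_k S carrying T_n onto the k-span of the elementary tensors a ⊗ b with a ∈
R_n, b ∈ S_n; the Segre product M # N = ⊕_n M_n ⊗_k N_n of a graded R-module M and a graded S-module
N is presented abstractly as a graded T-module P with an injective k-linear map φ : P → M ⊗_k N
carrying P_n onto the k-span of the tensors x ⊗ y with x ∈ M_n, y ∈ N_n and turning the action of t
∈ T into that of ψ(t) (acting factorwise on M ⊗_k N). -/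
theorem result (k : Type u) [Field k] (R : Type u) [CommRing R] [Algebra k R] (𝒜 : ℤ → Submodule k R) [GradedAlgebra 𝒜] (hposR : ∀ n : ℤ, n < 0 → 𝒜 n = ⊥) (h0R : 𝒜 0 = Submodule.span k {(1 : R)}) [Algebra.FiniteType k R] (S : Type u) [CommRing S] [Algebra k S] (ℬ : ℤ → Submodule k S) [GradedAlgebra ℬ] (hposS : ∀ n : ℤ, n < 0 → ℬ n = ⊥) (h0S : ℬ 0 = Submodule.span k {(1 : S)}) [Algebra.FiniteType k S] (T : Type u) [CommRing T] [Algebra k T] (𝒯 : ℤ → Submodule k T) [GradedAlgebra 𝒯] (ψ : T →ₐ[k] TensorProduct k R S) (hT : GrSeg.IsSegreRing 𝒜 ℬ 𝒯 ψ) (M : Type u) [AddCommGroup M] [Module R M] [Module k M] [IsScalarTower k R M] (ℳ : ℤ → AddSubgroup M) [DirectSum.Decomposition ℳ] [SetLike.GradedSMul 𝒜 ℳ] [Module.Finite R M] (N : Type u) [AddCommGroup N] [Module S N] [Module k N] [IsScalarTower k S N] (𝒩 : ℤ → AddSubgroup N) [DirectSum.Decomposition 𝒩] [SetLike.GradedSMul ℬ 𝒩] [Module.Finite S N] (P : Type u) [AddCommGroup P] [Module T P] [Module k P] [IsScalarTower k T P] (𝒬 : ℤ → AddSubgroup P) [DirectSum.Decomposition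 𝒬] (φ : P →ₗ[k] TensorProduct k M N) (hP : GrSeg.IsSegreMod ψ ℳ 𝒩 𝒬 φ) : Module.Finite T P := by
  classical
  haveI : IsNoetherianRing R := Algebra.FiniteType.isNoetherianRing k R
  haveI : IsNoetherianRing (R ⊗[k] S) := Algebra.FiniteType.isNoetherianRing R _
  letI : Module (R ⊗[k] S) (TensorProduct k M N) :=
    Module.compHom _ (Groth.Misc15.Segre.actHom k R S M N)
  have hsm : ∀ (y : R ⊗[k] S) (z : TensorProduct k M N), y • z = GrSeg.act k R S M N y z :=
    fun _ _ => rfl
  haveI : Module.Finite (R ⊗[k] S) (TensorProduct k M N) := by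
    obtain ⟨sM, hsM⟩ := (inferInstance : Module.Finite R M).fg_top
    obtain ⟨sN, hsN⟩ := (inferInstance : Module.Finite S N).fg_top
    refine ⟨⟨Finset.image₂ (fun m n => m ⊗ₜ[k] n) sM sN, ?_⟩⟩
    rw [eq_top_iff]
    rintro z -
    induction z using TensorProduct.induction_on with
    | zero => exact zero_mem _
    | add a b ha hb => exact add_mem ha hb
    | tmul m n =>
      have hm : m ∈ Submodule.span R (sM : Set M) := hsM ▸ Submodule.mem_top
      induction hm using Submodule.span_induction generalizing n with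
      | zero => rw [TensorProduct.zero_tmul]; exact zero_mem _
      | add a b _ _ ha hb => rw [TensorProduct.add_tmul]; exact add_mem (ha n) (hb n)
      | smul r a _ ha =>
        have := Submodule.smul_mem _ (r ⊗ₜ[k] (1 : S)) (ha n)
        rwa [hsm, GrSeg.act_tmul, one_smul] at this
      | mem a ha =>
        have hn : n ∈ Submodule.span S (sN : Set N) := hsN ▸ Submodule.mem_top
        induction hn using Submodule.span_induction with
        | zero => rw [TensorProduct.tmul_zero]; exact zero_mem _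
        | add b c _ _ hb hc => rw [TensorProduct.tmul_add]; exact add_mem hb hc
        | smul s b _ hb =>
          have := Submodule.smul_mem _ ((1 : R) ⊗ₜ[k] s) hb
          rwa [hsm, GrSeg.act_tmul, one_smul] at this
        | mem b hb => exact Submodule.subset_span (Finset.mem_image₂_of_mem ha hb)
  have himg := hP.image_piece
  let U : Submodule T P → Submodule (R ⊗[k] S) (TensorProduct k M N) :=
    fun Q => Submodule.span _ (φ '' Q)
  have key : ∀ (Q : Submodule T P), ∀ x ∈ U Q, ∀ y : R ⊗[k] S,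
      ∃ q ∈ Q, φ q = Groth.Misc15.Segre.diag 𝒜 ℬ ℳ 𝒩 (y • x) := by
    intro Q x hx
    refine Submodule.span_induction (p := fun x _ => ∀ y : R ⊗[k] S,
      ∃ q ∈ Q, φ q = Groth.Misc15.Segre.diag 𝒜 ℬ ℳ 𝒩 (y • x)) ?_ ?_ ?_ ?_ hx
    · rintro _ ⟨q, hq, rfl⟩ y
      obtain ⟨t, ht⟩ := Groth.Misc15.Segre.diag_mem_range 𝒜 ℬ 𝒜 ℬ (φ := ψ.toLinearMap)
        (fun n => (congrArg SetLike.coe (hT.2 n) :)) y
      refine ⟨t • q, Q.smul_mem t hq, ?_⟩
      have h1 := (Groth.Misc15.Segre.diag_act_diag 𝒜 ℬ ℳ 𝒩 y (φ q)).1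
      rw [Groth.Misc15.Segre.diag_image 𝒜 ℬ ℳ 𝒩 himg, ← ht] at h1
      rw [hP.map_smul, hsm]
      exact h1.symm
    · intro y; exact ⟨0, zero_mem _, by simp⟩
    · intro a b _ _ ha hb y
      obtain ⟨i, hi, hi'⟩ := ha y; obtain ⟨j, hj, hj'⟩ := hb y
      exact ⟨i + j, add_mem hi hj, by rw [map_add, hi', hj', smul_add, map_add]⟩
    · intro c a _ ha y
      rw [← mul_smul]; exact ha (y * c)
  have hmono : ∀ Q Q' : Submodule T P, U Q ≤ U Q' → Q ≤ Q' := by
    intro Q Q' h p hp
    obtain ⟨q, hq, hq'⟩ := key Q' _ (h (Submodule.subset_span ⟨p, hp, rfl⟩)) 1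
    rw [one_smul, Groth.Misc15.Segre.diag_image 𝒜 ℬ ℳ 𝒩 himg] at hq'
    rwa [← hP.injective hq']
  let e : Submodule T P ↪o Submodule (R ⊗[k] S) (TensorProduct k M N) :=
    OrderEmbedding.ofMapLEIff U
      fun Q Q' => ⟨hmono Q Q', fun h => Submodule.span_mono (Set.image_mono h)⟩
  haveI : IsNoetherian T P := isNoetherian_iff'.2 (e.dual.wellFoundedLT)
  infer_instance

end Groth.Agent.S19747
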