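import Groth.Statements.S19748
import Groth.Agent.Misc15.Segre

set_option autoImplicit false
universe u
open scoped TensorProduct
open GrSegre

namespace Groth.Agent.S19748

/-- Let R and S be graded rings defined over a field k with Segre product T = R # S, M a graded R-module
and N a graded S-module. Suppose that multiplication by some homogeneous element f ∈ R_d of positive
degree d is bijective on M and multiplication by some homogeneous g ∈ S_e of positive degree e is
bijective on N. Then multiplication by some homogeneous element of T of positive degree is bijective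
on M # N. Here a graded ring defined over k is a commutative k-algebra of finite type, graded in
nonnegative degrees by k-subspaces with degree-zero part k·1; the Segre product T = R # S = ⊕_n R_n
⊗_k S_n is presented abstractly as a graded k-algebra T with an injective k-algebra homomorphism ψ :
T → R ⊗_k S carrying T_n onto the k-span of the elementary tensors a ⊗ b with a ∈ R_n, b ∈ S_n; the
Segre product M # N = ⊕_n M_n ⊗_k N_n of a graded R-module M and a graded S-module N is presented
abstractly as a graded T-module P with an injective k-linear map φ : P → M ⊗_k N carrying P_n onto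
the k-span of the tensors x ⊗ y with x ∈ M_n, y ∈ N_n and turning the action of t ∈ T into that of
ψ(t) (acting factorwise on M ⊗_k N). -/
theorem result (k : Type u) [Field k] (R : Type u) [CommRing R] [Algebra k R] (𝒜 : ℤ → Submodule k R) [GradedAlgebra 𝒜] (hposR : ∀ n : ℤ, n < 0 → 𝒜 n = ⊥) (h0R : 𝒜 0 = Submodule.span k {(1 : R)}) [Algebra.FiniteType k R] (S : Type u) [CommRing S] [Algebra k S] (ℬ : ℤ → Submodule k S) [GradedAlgebra ℬ] (hposS : ∀ n : ℤ, n < 0 → ℬ n = ⊥) (h0S : ℬ 0 = Submodule.span k {(1 : S)}) [Algebra.FiniteType k S] (T : Type u) [CommRing T] [Algebra k T] (𝒯 : ℤ → Submodule k T) [GradedAlgebra 𝒯] (ψ : T →ₐ[k] TensorProduct k R S) (hT : GrSeg.IsSegreRing 𝒜 ℬ 𝒯 ψ) (M : Type u) [AddCommGroup M] [Module R M] [Module k M] [IsScalarTower k R M] (ℳ : ℤ → AddSubgroup M) [DirectSum.Decomposition ℳ] [SetLike.GradedSMul 𝒜 ℳ] (N : Type u) [AddCommGroup N] [Module S N] [Module k N] [IsScalarTower k S N] (𝒩 : ℤ → AddSubgroup N) [DirectSum.Decomposition 𝒩] [SetLike.GradedSMul ℬ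 𝒩] (P : Type u) [AddCommGroup P] [Module T P] [Module k P] [IsScalarTower k T P] (𝒬 : ℤ → AddSubgroup P) [DirectSum.Decomposition 𝒬] (φ : P →ₗ[k] TensorProduct k M N) (hP : GrSeg.IsSegreMod ψ ℳ 𝒩 𝒬 φ) (d : ℕ) (hd : 0 < d) (f : R) (hf : f ∈ 𝒜 (d : ℤ)) (hfM : Function.Bijective (fun x : M => f • x)) (e : ℕ) (he : 0 < e) (g : S) (hg : g ∈ ℬ (e : ℤ)) (hgN : Function.Bijective (fun y : N => g • y)) : ∃ (c : ℤ) (t : T), 0 < c ∧ t ∈ 𝒯 c ∧ Function.Bijective (fun p : P => t • p) := by
  classical
  have hfe : f ^ e ∈ 𝒜 ((d * e : ℕ) : ℤ) := by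
    have := SetLike.pow_mem_graded (A := 𝒜) e hf
    rwa [nsmul_eq_mul, ← Nat.cast_mul, mul_comm] at this
  have hgd : g ^ d ∈ ℬ ((d * e : ℕ) : ℤ) := by
    have := SetLike.pow_mem_graded (A := ℬ) d hg
    rwa [nsmul_eq_mul, ← Nat.cast_mul] at this
  have hmem : (f ^ e) ⊗ₜ[k] (g ^ d) ∈ (𝒯 ((d * e : ℕ) : ℤ)).map ψ.toLinearMap := by
    rw [hT.2]
    exact Submodule.subset_span ⟨_, hfe, _, hgd, rfl⟩
  obtain ⟨t, ht, ht'⟩ := hmem
  change ψ t = (f ^ e) ⊗ₜ[k] (g ^ d) at ht'
  refine ⟨((d * e : ℕ) : ℤ), t, by exact_mod_cast Nat.mul_pos hd he, ht, ?_⟩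
  have hbf : Function.Bijective (Algebra.lsmul k k M (f ^ e) : M →ₗ[k] M) := by
    show Function.Bijective fun x : M => f ^ e • x
    clear hfe hgd ht ht' he hg
    induction e with
    | zero => simp only [pow_zero, one_smul]; exact Function.bijective_id
    | succ n ih => simp only [pow_succ, mul_smul]; exact ih.comp hfM
  have hbg : Function.Bijective (Algebra.lsmul k k N (g ^ d) : N →ₗ[k] N) := by
    show Function.Bijective fun y : N => g ^ d • y
    clear hfe hgd ht ht' hd hf
    induction d with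
    | zero => simp only [pow_zero, one_smul]; exact Function.bijective_id
    | succ n ih => simp only [pow_succ, mul_smul]; exact ih.comp hgN
  let F := TensorProduct.congr (LinearEquiv.ofBijective _ hbf) (LinearEquiv.ofBijective _ hbg)
  have hF : ∀ z, GrSeg.act k R S M N (ψ t) z = F z := by
    intro z
    rw [ht']
    induction z using TensorProduct.induction_on with
    | zero => simp
    | add a b ha hb => simp [ha, hb]
    | tmul m n => rw [GrSeg.act_tmul]; rfl
  have hφ : ∀ p, φ (t • p) = F (φ p) := fun p => by rw [hP.map_smul, hF]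
  refine ⟨fun p q h => hP.injective (F.injective ?_), fun p => ?_⟩
  · rw [← hφ, ← hφ]; exact congrArg φ h
  · have himg := hP.image_piece
    have hd' : Groth.Misc15.Segre.diag 𝒜 ℬ 𝒜 ℬ (ψ t) = ψ t :=
      Groth.Misc15.Segre.diag_image 𝒜 ℬ 𝒜 ℬ (φ := ψ.toLinearMap)
        (fun n => (congrArg SetLike.coe (hT.2 n) :)) t
    obtain ⟨z, hz⟩ := F.surjective (φ p)
    have h1 := (Groth.Misc15.Segre.diag_act_diag 𝒜 ℬ ℳ 𝒩 (ψ t) z).2
    rw [hd', hF, hF, hz, Groth.Misc15.Segre.diag_image 𝒜 ℬ ℳ 𝒩 himg] at h1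
    obtain ⟨q, hq⟩ := Groth.Misc15.Segre.diag_mem_range 𝒜 ℬ ℳ 𝒩 himg z
    refine ⟨q, hP.injective ?_⟩
    show φ (t • q) = φ p
    rw [hφ, hq, ← h1]

end Groth.Agent.S19748
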