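import Groth.Statements.S19749
import Mathlib.LinearAlgebra.Basis.VectorSpace

set_option autoImplicit false
universe u
open scoped TensorProduct
open GrSegre

namespace Groth.Agent.S19749

/-- Let R and S be graded rings defined over a field k, both generated over k by their degree-one parts
and of positive Krull dimension, T = R # S, M a graded R-module and N a graded S-module, n an
integer with N_m ≠ 0 for every m ≥ n, and x ∈ M_n, y ∈ N_n. If x # y generates M # N as a T-module,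
then R_d x = M_{n+d} for every d ≥ 0 (every element of M_{n+d} is r x for some r ∈ R_d). Here a
graded ring defined over k is a commutative k-algebra of finite type, graded in nonnegative degrees
by k-subspaces with degree-zero part k·1; the Segre product T = R # S = ⊕_n R_n ⊗_k S_n is presented
abstractly as a graded k-algebra T with an injective k-algebra homomorphism ψ : T → R ⊗_k S carrying
T_n onto the k-span of the elementary tensors a ⊗ b with a ∈ R_n, b ∈ S_n; the Segre product M # N =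
⊕_n M_n ⊗_k N_n of a graded R-module M and a graded S-module N is presented abstractly as a graded
T-module P with an injective k-linear map φ : P → M ⊗_k N carrying P_n onto the k-span of the
tensors x ⊗ y with x ∈ M_n, y ∈ N_n and turning the action of t ∈ T into that of ψ(t) (acting
factorwise on M ⊗_k N), and x # y is the element of P mapped to x ⊗ y. -/
theorem result (k : Type u) [Field k] (R : Type u) [CommRing R] [Algebra k R] (𝒜 : ℤ → Submodule k R) [GradedAlgebra 𝒜] (hposR : ∀ n : ℤ, n < 0 → 𝒜 n = ⊥) (h0R : 𝒜 0 = Submodule.span k {(1 : R)}) [Algebra.FiniteType k R] (S : Type u) [CommRing S] [Algebra k S] (ℬ : ℤ → Submodule k S) [GradedAlgebra ℬ] (hposS : ∀ n : ℤ, n < 0 → ℬ n = ⊥) (h0S : ℬ 0 = Submodule.span k {(1 : S)}) [Algebra.FiniteType k S] (T : Type u) [CommRing T] [Algebra k T] (𝒯 : ℤ → Submodule k T) [GradedAlgebra 𝒯] (ψ : T →ₐ[k] TensorProduct k R S) (hT : GrSeg.IsSegreRing 𝒜 ℬ 𝒯 ψ) (hstdR : Ideal.span (⋃ n ∈ Set.Ioi (0 : ℤ), (𝒜 n :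 Set R)) = Ideal.span ((𝒜 1 : Submodule k R) : Set R)) (hstdS : Ideal.span (⋃ n ∈ Set.Ioi (0 : ℤ), (ℬ n : Set S)) = Ideal.span ((ℬ 1 : Submodule k S) : Set S)) (hr1 : 1 ≤ ringKrullDim R) (hs1 : 1 ≤ ringKrullDim S) (M : Type u) [AddCommGroup M] [Module R M] [Module k M] [IsScalarTower k R M] (ℳ : ℤ → AddSubgroup M) [DirectSum.Decomposition ℳ] [SetLike.GradedSMul 𝒜 ℳ] (N : Type u) [AddCommGroup N] [Module S N] [Module k N] [IsScalarTower k S N] (𝒩 : ℤ → AddSubgroup N) [DirectSum.Decomposition 𝒩] [SetLike.GradedSMul ℬ 𝒩] (P : Type u) [AddCommGroup P] [Module T P] [Module k P] [IsScalarTower k T P] (𝒬 : ℤ → AddSubgroup P) [DirectSum.Decomposition 𝒬] (φ : P →ₗ[k] TensorProduct k M N) (hP : GrSeg.IsSegreMod ψ ℳ 𝒩 𝒬 φ) (n : ℤ) (hNn : ∀ m : ℤ, n ≤ m → 𝒩 m ≠ ⊥) (x : M) (hx : x ∈ ℳ n) (y : N) (hy : y ∈ 𝒩 n) (p : P) (hp : φ p = x ⊗ₜ[k] y) (hgen : Submodule.span T {p} = ⊤) (d : ℤ) (hd : 0 ≤ d) (z : M) (hz : z ∈ ℳ (n + d)) : ∃ r ∈ 𝒜 d, r • x = z := by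
  classical
  obtain ⟨w, hw, hw0⟩ : ∃ w ∈ 𝒩 (n + d), w ≠ 0 := by
    have h := hNn (n + d) (by omega)
    by_contra hc
    push_neg at hc
    exact h ((AddSubgroup.eq_bot_iff_forall _).mpr hc)
  obtain ⟨f, hf⟩ := LinearMap.exists_leftInverse_of_injective (LinearMap.toSpanSingleton k N w)
    (LinearMap.ker_toSpanSingleton k hw0)
  have hfw : f w = 1 := by
    have := LinearMap.congr_fun hf 1
    simpa using this
  let D : TensorProduct k M N →ₗ[k] M := (TensorProduct.rid k M).toLinearMap ∘ₗ LinearMap.lTensor M f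
  have hD : ∀ a b, D (a ⊗ₜ[k] b) = f b • a := fun a b => by simp [D]
  let L : R →ₗ[k] M := (Algebra.lsmul k k M).toLinearMap.flip x
  have hL : ∀ r, L r = r • x := fun r => rfl
  let E : TensorProduct k R S →ₗ[k] M :=
    D ∘ₗ (GrSeg.act k R S M N).flip (x ⊗ₜ[k] y)
  have hE : ∀ a b, E (a ⊗ₜ[k] b) = L (f (b • y) • a) := fun a b => by
    simp only [E, LinearMap.comp_apply, LinearMap.flip_apply, GrSeg.act_tmul, hD, hL, smul_assoc]
  let π : M → M := fun v => ((DirectSum.decompose ℳ v (n + d) : ℳ (n + d)) : M)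
  have πadd : ∀ u v, π (u + v) = π u + π v := fun u v => by simp [π]
  have π0 : π 0 = 0 := by simp [π]
  have hpiece : ∀ i : ℤ, ∀ t ∈ 𝒯 i, E (ψ t) ∈ (𝒜 i).map L := by
    intro i t ht
    have h1 : ψ t ∈ GrSeg.segrePiece k 𝒜 ℬ i := by
      rw [← hT.2 i]
      exact Submodule.mem_map_of_mem ht
    have h2 : GrSeg.segrePiece k 𝒜 ℬ i ≤ ((𝒜 i).map L).comap E := by
      refine Submodule.span_le.mpr ?_
      rintro _ ⟨a, ha, b, hb, rfl⟩
      rw [SetLike.mem_coe, Submodule.mem_comap, hE]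
      exact Submodule.mem_map_of_mem ((𝒜 i).smul_mem _ ha)
    exact h2 h1
  have key : ∀ t : T, ∃ r ∈ 𝒜 d, r • x = π (E (ψ t)) := by
    intro t
    induction t using DirectSum.Decomposition.inductionOn 𝒯 with
    | zero => exact ⟨0, zero_mem _, by simp [π0]⟩
    | @homogeneous i t =>
      obtain ⟨r, hr, hrt⟩ := Submodule.mem_map.mp (hpiece i t.1 t.2)
      rw [← hrt, hL]
      have hrx : r • x ∈ ℳ (i + n) := SetLike.GradedSMul.smul_mem hr hx
      by_cases hi : i = d
      · subst hi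
        refine ⟨r, hr, ?_⟩
        rw [add_comm] at hrx
        simp only [π, DirectSum.decompose_of_mem_same ℳ hrx]
      · refine ⟨0, zero_mem _, ?_⟩
        rw [zero_smul]
        simp only [π, DirectSum.decompose_of_mem_ne ℳ hrx (show i + n ≠ n + d by omega)]
    | add a b iha ihb =>
      obtain ⟨r₁, h₁, e₁⟩ := iha
      obtain ⟨r₂, h₂, e₂⟩ := ihb
      exact ⟨r₁ + r₂, add_mem h₁ h₂, by rw [add_smul, e₁, e₂, map_add, map_add, πadd]⟩
  obtain ⟨q, -, hq⟩ : (z ⊗ₜ[k] w) ∈ φ '' (𝒬 (n + d) : Set P) := by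
    rw [hP.image_piece]
    exact Submodule.subset_span ⟨z, hz, w, hw, rfl⟩
  obtain ⟨t, rfl⟩ := Submodule.mem_span_singleton.mp (hgen ▸ Submodule.mem_top (x := q))
  rw [hP.map_smul, hp] at hq
  obtain ⟨r, hr, e⟩ := key t
  refine ⟨r, hr, e.trans ?_⟩
  have : E (ψ t) = z := by
    simp only [E, LinearMap.comp_apply, LinearMap.flip_apply, hq, hD, hfw, one_smul]
  simp only [this, π, DirectSum.decompose_of_mem_same ℳ hz]

end Groth.Agent.S19749
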