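import Groth.Statements.S1975
import Groth.Agent.Hensel1.Transfer
import Groth.Agent.EtaleAlgebra.ValuationEtale
-- import your own Groth.Agent.* helpers here

set_option autoImplicit false
universe u
open EtAlg

namespace Groth.Agent.S1975

/-- Let A be a valuation ring and S a henselization or strict henselization of A. Then S is a valuation
ring, A -> S is injective, and every nonzero element of S is a unit multiple of the image of an
element of A (the value groups agree). -/
theorem result (A S : Type u) [CommRing A] [IsDomain A] [ValuationRing A] [CommRing S]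
    [IsLocalRing S] [Algebra A S] [IsLocalHom (algebraMap A S)]
    (h : Hensel.IsHenselization A S ∨ Hensel.IsStrictHenselization A S) :
    IsDomain S ∧ (∀ _ : IsDomain S, ValuationRing S) ∧ Function.Injective (algebraMap A S) ∧
      ∀ s : S, s ≠ 0 → ∃ (a : A) (u : Sˣ), s = u * algebraMap A S a := by
  have key : ∀ M : Groth.Hensel1.HensModel A S, IsDomain S ∧ Function.Injective (algebraMap A S) ∧
      ∀ s : S, s ≠ 0 → ∃ (a : A) (u : Sˣ), s = u * algebraMap A S a := by
    intro M
    obtain ⟨Ω, e⟩ := M
    have hq : ∀ i : Groth.Hensel1.HensIdx A Ω,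
        i.q.comap (algebraMap A i.P.Ring) = IsLocalRing.maximalIdeal A := fun i => by
      ext a
      show i.pt (algebraMap A i.P.Ring a) = 0 ↔ _
      rw [AlgHom.commutes, IsScalarTower.algebraMap_apply A (IsLocalRing.ResidueField A) Ω,
        map_eq_zero, IsLocalRing.ResidueField.algebraMap_eq, IsLocalRing.residue_eq_zero_iff]
    have hstage : ∀ i : Groth.Hensel1.HensIdx A Ω, IsDomain i.Obj ∧
        Function.Injective (algebraMap A i.Obj) ∧
        ∀ b : i.Obj, b ≠ 0 → ∃ (a : A) (u : i.Objˣ), b = u * algebraMap A i.Obj a := fun i => by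
      obtain ⟨h, -⟩ := Groth.EtaleAlgebra.ValuationEtale.valuationRing_atPrime A i.P.Ring i.q
      obtain ⟨h1, -, h3⟩ := Groth.EtaleAlgebra.ValuationEtale.content_atPrime A i.P.Ring i.q (hq i)
      exact ⟨h, h1, h3⟩
    have hinj : Function.Injective (algebraMap A S) := fun a b hab => by
      obtain ⟨i⟩ := (inferInstance : Nonempty (Groth.Hensel1.HensIdx A Ω))
      refine (hstage i).2.1 (Groth.Hensel1.Hens.injective_of i (e.injective ?_))
      rw [AlgHom.commutes, AlgHom.commutes, e.commutes, e.commutes, hab]
    have hcont : ∀ s : S, s ≠ 0 → ∃ (a : A) (u : Sˣ), s = u * algebraMap A S a := by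
      intro s hs
      obtain ⟨i, y, hy⟩ := Groth.Hensel1.Hens.exists_of (e.symm s)
      have hy0 : y ≠ 0 := fun h => hs (by
        rw [← e.apply_symm_apply s, ← hy, h, map_zero, map_zero])
      obtain ⟨a, u, hu⟩ := (hstage i).2.2 y hy0
      refine ⟨a, Units.map ((e.toAlgHom.comp (Groth.Hensel1.Hens.of i)).toRingHom.toMonoidHom) u, ?_⟩
      rw [← e.apply_symm_apply s, ← hy, hu, map_mul, map_mul, AlgHom.commutes, e.commutes]
      rfl
    refine ⟨?_, hinj, hcont⟩
    have : NoZeroDivisors S := ⟨fun {x y} hxy => by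
      by_contra! hne
      obtain ⟨a, u, rfl⟩ := hcont x hne.1
      obtain ⟨b, v, rfl⟩ := hcont y hne.2
      have h0 : algebraMap A S (a * b) = 0 := by
        rw [← (u * v).isUnit.mul_right_eq_zero (b := algebraMap A S (a * b))]
        rw [Units.val_mul, map_mul]
        linear_combination hxy
      rcases mul_eq_zero.1 ((map_eq_zero_iff _ hinj).1 h0) with h | h
      · exact hne.1 (by rw [h, map_zero, mul_zero])
      · exact hne.2 (by rw [h, map_zero, mul_zero])⟩
    exact NoZeroDivisors.to_isDomain S
  obtain ⟨hD, hinj, hcont⟩ : IsDomain S ∧ Function.Injective (algebraMap A S) ∧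
      ∀ s : S, s ≠ 0 → ∃ (a : A) (u : Sˣ), s = u * algebraMap A S a := by
    rcases h with h | h
    · exact key (Groth.Hensel1.hensModel_of_isHenselization (R := A) (S := S)).some
    · exact key (Groth.Hensel1.hensModel_of_isStrictHenselization (R := A) (S := S)).some
  refine ⟨hD, fun _ => ?_, hinj, hcont⟩
  rw [ValuationRing.iff_dvd_total]
  refine ⟨fun x y => ?_⟩
  rcases eq_or_ne x 0 with rfl | hx
  · exact Or.inr (dvd_zero _)
  rcases eq_or_ne y 0 with rfl | hy
  · exact Or.inl (dvd_zero _)
  obtain ⟨a, u, rfl⟩ := hcont x hx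
  obtain ⟨b, v, rfl⟩ := hcont y hy
  rw [Units.mul_left_dvd, Units.mul_left_dvd, Units.dvd_mul_left, Units.dvd_mul_left]
  rcases ValuationRing.dvd_total a b with h' | h'
  · exact Or.inl (map_dvd _ h')
  · exact Or.inr (map_dvd _ h')

end Groth.Agent.S1975
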