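import Groth.Statements.S19751
import Groth.Agent.GrDualH.Duality

set_option autoImplicit false
universe u
open GrDual

namespace Groth.Agent.S19751

/-- Let R be a graded ring defined over a field k with m = R_+, let F and M be finitely generated graded
R-modules and f : F → M a surjective homomorphism of graded R-modules, with dual f^* : M^* → F^* on
graded k-duals. Then f is minimal, that is Ker f ⊆ m F, if and only if f^* is essential: an
injective homomorphism of graded modules such that every nonzero graded submodule of F^* meets its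
image. Here a graded ring defined over k is a commutative k-algebra of finite type, graded in
nonnegative degrees by k-subspaces with degree-zero part k·1, and R_+ is the ideal spanned by the
R_n with n > 0; the graded k-dual M^* = ⊕_n Hom_k(M_{−n}, k) of a graded R-module M (with r ∈ R
acting by (r f)(x) = f(r x)) is presented abstractly as a graded R-module D with a k-bilinear
pairing β : D × M → k compatible with the R-actions, under which D_n pairs to zero with M_m for m ≠
−n and is identified with the full dual space of M_{−n}; f^* is presented as the R-linear map g :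
M^* → F^* with β_F(g d, x) = β_M(d, f x). -/
theorem result (k : Type u) [Field k] (R : Type u) [CommRing R] [Algebra k R] (𝒜 : ℤ → Submodule k R) [GradedAlgebra 𝒜] (hposR : ∀ n : ℤ, n < 0 → 𝒜 n = ⊥) (h0R : 𝒜 0 = Submodule.span k {(1 : R)}) [Algebra.FiniteType k R] (mR : HomogeneousIdeal 𝒜) (hmR : mR.toIdeal = Ideal.span (⋃ n ∈ Set.Ioi (0 : ℤ), (𝒜 n : Set R))) (F : Type u) [AddCommGroup F] [Module R F] [Module k F] [IsScalarTower k R F] (ℱ : ℤ → AddSubgroup F) [DirectSum.Decomposition ℱ] [SetLike.GradedSMul 𝒜 ℱ] [Module.Finite R F] (M : Type u) [AddCommGroup M] [Module R M] [Module k M] [IsScalarTower k R M] (ℳ : ℤ → AddSubgroup M) [DirectSum.Decomposition ℳ] [SetLike.GradedSMul 𝒜 ℳ] [Module.Finite R M] (f : F →ₗ[R] M) (hf : Function.Surjective f) (hfgr : GrLC.IsGrHom ℱ ℳ f) (DM : Type u) [AddCommGroup DM] [Module R DM] [Module k DM] [IsScalarTower k R DM] (𝒟M : ℤ → AddSubgroup DM) [DirectSum.Decomposition 𝒟M] [SetLike.GradedSMul 𝒜 𝒟M] (βM : DM →ₗ[k] M →ₗ[k] k) (hDM : GrSeg.IsGDual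 R ℳ 𝒟M βM) (DF : Type u) [AddCommGroup DF] [Module R DF] [Module k DF] [IsScalarTower k R DF] (𝒟F : ℤ → AddSubgroup DF) [DirectSum.Decomposition 𝒟F] [SetLike.GradedSMul 𝒜 𝒟F] (βF : DF →ₗ[k] F →ₗ[k] k) (hDF : GrSeg.IsGDual R ℱ 𝒟F βF) (g : DM →ₗ[R] DF) (hg : GrSeg.IsGDualMap βM βF f g) : LinearMap.ker f ≤ mR.toIdeal • (⊤ : Submodule R F) ↔ GrLC.IsStarEss 𝒟M 𝒟F g := by
  haveI : IsNoetherianRing R := Algebra.FiniteType.isNoetherianRing k R
  have hfk : ∀ n x, x ∈ ℳ n → ∃ y ∈ ℱ n, f y = x := by
    intro n x hx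
    obtain ⟨y, rfl⟩ := hf x
    exact ⟨_, Groth.GrDualH.proj_mem n y, by rw [Groth.GrDualH.map_proj (f := f) hfgr, Groth.GrDualH.proj_of_mem hx]⟩
  have hginj : Function.Injective g := by
    rw [injective_iff_map_eq_zero]
    intro d hd
    refine Groth.GrDualH.beta_injective hDM (LinearMap.ext fun x => ?_)
    obtain ⟨y, rfl⟩ := hf x
    rw [← hg, hd]; simp
  have hggr : GrLC.IsGrHom 𝒟M 𝒟F g := by
    intro n d hd
    have : g d = Groth.GrDualH.proj 𝒟F n (g d) := by
      refine Groth.GrDualH.beta_injective hDF (LinearMap.ext fun x => ?_)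
      rw [Groth.GrDualH.pair_proj hDF, hg, hg, Groth.GrDualH.map_proj (f := f) hfgr,
        ← Groth.GrDualH.pair_proj_right hDM hd]
    rw [this]; exact Groth.GrDualH.proj_mem _ _
  have hrange : ∀ n d, d ∈ 𝒟F n → (∀ x, f x = 0 → βF d x = 0) → d ∈ LinearMap.range g := by
    intro n d hd hker
    obtain ⟨s, hs⟩ := (f.restrictScalars k).exists_rightInverse_of_surjective (LinearMap.range_eq_top.2 hf)
    have hss : ∀ x, f (s x) = x := fun x => LinearMap.congr_fun hs x
    have hfac : ∀ y, βF d (s (f y)) = βF d y := fun y => by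
      have := hker (s (f y) - y) (by rw [map_sub, hss, sub_self])
      rwa [map_sub, sub_eq_zero] at this
    obtain ⟨d', -, hd'⟩ := Groth.GrDualH.exists_repr hDM n ((βF d) ∘ₗ s) (fun m hm x hx => by
      obtain ⟨y, hy, rfl⟩ := hfk m x hx
      show βF d (s (f y)) = 0
      rw [hfac]; exact hDF.vanish n d hd m hm y hy)
    refine ⟨d', Groth.GrDualH.beta_injective hDF (LinearMap.ext fun x => ?_)⟩
    rw [hg, hd']
    exact hfac x
  have hmgen : ∀ i : ℤ, 0 < i → ∀ r ∈ 𝒜 i, r ∈ mR.toIdeal := fun i hi r hr => by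
    rw [hmR]; exact Ideal.subset_span (Set.mem_biUnion (Set.mem_Ioi.2 hi) hr)
  constructor
  · intro hker
    refine ⟨hginj, hggr, fun P hP hP0 => ?_⟩
    haveI : IsArtinian R DF := Groth.GrDualH.isArtinian_dual_of_finite (ℳ := ℱ) hposR h0R hDF
    obtain ⟨c, hc⟩ := Groth.GrDualH.exists_upperBound (ℳ := 𝒟F) hposR (𝒜 := 𝒜)
    obtain ⟨d, hd, hd0⟩ := P.exists_mem_ne_zero_of_ne_bot hP0
    obtain ⟨n₀, hn₀⟩ : ∃ n, Groth.GrDualH.proj 𝒟F n d ≠ 0 :=
      not_forall.1 fun h => hd0 (Groth.GrDualH.eq_zero_of_proj h)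
    obtain ⟨n, ⟨p, hpP, hp, hp0⟩, hmax⟩ := Int.exists_greatest_of_bdd
      (P := fun n => ∃ p ∈ P, p ∈ 𝒟F n ∧ p ≠ 0)
      ⟨c, fun n ⟨p, _, hp, hp0⟩ => not_lt.1 fun h => hp0 (hc n h p hp)⟩
      ⟨n₀, _, hP n₀ hd, Groth.GrDualH.proj_mem n₀ d, hn₀⟩
    have hann : ∀ r ∈ mR.toIdeal, r • p = 0 := by
      intro r hr
      rw [hmR] at hr
      induction hr using Submodule.span_induction with
      | mem r hr =>
        simp only [Set.mem_iUnion, Set.mem_Ioi] at hr
        obtain ⟨i, hi, hr⟩ := hr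
        by_contra h
        have := hmax (i + n) ⟨_, P.smul_mem r hpP, Groth.GrDualH.smul_mem (ℳ := 𝒟F) hr hp, h⟩
        omega
      | zero => exact zero_smul R p
      | add a b _ _ ha hb => rw [add_smul, ha, hb, add_zero]
      | smul a b _ hb => rw [smul_assoc, hb, smul_zero]
    refine (Submodule.ne_bot_iff _).2 ⟨p, ⟨hpP, hrange n p hp fun x hx => ?_⟩, hp0⟩
    have hx' := hker (LinearMap.mem_ker.2 hx)
    clear hx
    induction hx' using Submodule.smul_induction_on' with
    | smul r hr y hy => rw [← hDF.map_smul, hann r hr, map_zero, LinearMap.zero_apply]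
    | add a _ b _ ha hb => rw [map_add, ha, hb, add_zero]
  · intro hess x hx
    set mF := mR.toIdeal • (⊤ : Submodule R F) with hmF
    have hclosed : mF ≤ Groth.GrDualH.coreHom 𝒜 ℱ mF := by
      refine Submodule.smul_le.2 fun r hr y _ => ?_
      rw [hmR] at hr
      induction hr using Submodule.span_induction with
      | mem r hr =>
        simp only [Set.mem_iUnion, Set.mem_Ioi] at hr
        obtain ⟨i, hi, hr⟩ := hr
        intro g'
        rw [Groth.GrDualH.proj_smul hr]
        exact Submodule.smul_mem_smul (hmgen i hi r hr) trivial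
      | zero => rw [zero_smul]; exact zero_mem _
      | add a b _ _ ha hb => rw [add_smul]; exact add_mem ha hb
      | smul a b _ hb => rw [smul_assoc]; exact Submodule.smul_mem _ a hb
    by_contra hxm
    obtain ⟨a, ha⟩ : ∃ a, Groth.GrDualH.proj ℱ a x ∉ mF := not_forall.1 fun h => hxm (by
      obtain ⟨s, hs⟩ := Groth.GrDualH.exists_sum_proj (ℳ := ℱ) x
      rw [hs]; exact Submodule.sum_mem _ fun i _ => h i)
    set xa := Groth.GrDualH.proj ℱ a x with hxa
    have hfa : f xa = 0 := by rw [hxa, Groth.GrDualH.map_proj (f := f) hfgr, LinearMap.mem_ker.1 hx, map_zero]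
    obtain ⟨φ₀, hφx, hφm⟩ := Submodule.exists_dual_map_eq_bot_of_notMem (p := mF.restrictScalars k) ha inferInstance
    obtain ⟨d, hd, hd'⟩ := Groth.GrDualH.exists_repr hDF (-a) (φ₀ ∘ₗ Groth.GrDualH.projₗ 𝒜 ℱ a) (fun m hm y hy => by
      show φ₀ (Groth.GrDualH.proj ℱ a y) = 0
      rw [Groth.GrDualH.proj_of_mem_ne hy (by omega), map_zero])
    have hdx : βF d xa ≠ 0 := by
      rw [hd']
      show φ₀ (Groth.GrDualH.proj ℱ a xa) ≠ 0
      rwa [hxa, Groth.GrDualH.proj_of_mem (Groth.GrDualH.proj_mem a x)]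
    have hann : ∀ r ∈ mR.toIdeal, r • d = 0 := by
      intro r hr
      refine Groth.GrDualH.beta_injective hDF (LinearMap.ext fun y => ?_)
      rw [hDF.map_smul, hd', map_zero, LinearMap.zero_apply]
      show φ₀ (Groth.GrDualH.proj ℱ a (r • y)) = 0
      exact (Submodule.mem_bot k).1 (hφm ▸ Submodule.mem_map_of_mem (hclosed (Submodule.smul_mem_smul hr trivial) a))
    have hscal : ∀ r : R, ∃ c : k, r • d = c • d := by
      intro r
      induction r using DirectSum.Decomposition.inductionOn 𝒜 with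
      | zero => exact ⟨0, by rw [zero_smul, zero_smul]⟩
      | @homogeneous i r =>
        rcases lt_trichotomy i 0 with hi | hi | hi
        · exact ⟨0, by rw [show (r : R) = 0 by simpa [hposR i hi] using r.2, zero_smul, zero_smul]⟩
        · subst hi
          have hr := r.2
          simp only [h0R] at hr
          obtain ⟨c, hc⟩ := Submodule.mem_span_singleton.1 hr
          exact ⟨c, by rw [← hc, smul_assoc, one_smul]⟩
        · exact ⟨0, by rw [hann _ (hmgen i hi _ r.2), zero_smul]⟩
      | add u v hu hv =>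
        obtain ⟨c, hc⟩ := hu; obtain ⟨c', hc'⟩ := hv
        exact ⟨c + c', by rw [add_smul, add_smul, hc, hc']⟩
    have hd0 : d ≠ 0 := fun h => hdx (by rw [h, map_zero, LinearMap.zero_apply])
    have hne := hess.essential (Submodule.span R {d})
      (Groth.GrDualH.isHomogeneous_span (𝒜 := 𝒜) _ (fun y hy => ⟨-a, by rw [Set.mem_singleton_iff.1 hy]; exact hd⟩))
      (by simpa using hd0)
    obtain ⟨e, ⟨he1, he2⟩, he0⟩ := (Submodule.ne_bot_iff _).1 hne
    obtain ⟨r, rfl⟩ := Submodule.mem_span_singleton.1 he1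
    obtain ⟨c, hc⟩ := hscal r
    have hc0 : c ≠ 0 := fun h => he0 (by rw [hc, h, zero_smul])
    have hdr : d ∈ LinearMap.range g := by
      rw [show d = c⁻¹ • (r • d) by rw [hc, smul_smul, inv_mul_cancel₀ hc0, one_smul]]
      exact Submodule.smul_of_tower_mem _ _ he2
    obtain ⟨d', rfl⟩ := hdr
    exact hdx (by rw [hg, hfa, map_zero])

end Groth.Agent.S19751
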