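import Groth.Statements.S19752
import Groth.Agent.GrDualH.Duality

set_option autoImplicit false
universe u
open GrDual

namespace Groth.Agent.S19752

/-- Let R = ⊕_{n ≥ 0} R_n be a Noetherian graded ring with R_0 = k a field, m = R_+ and k = R/m. Then
the graded k-dual R^* = ⊕_n Hom_k(R_{−n}, k) is the injective envelope of R/m in the category of
graded R-modules: for every injective homomorphism of graded R-modules e : R/m → R^*, the module R^*
is an injective object of the graded category and every nonzero graded submodule of R^* meets the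
image of e. Here a graded ring defined over k is a commutative k-algebra of finite type, graded in
nonnegative degrees by k-subspaces with degree-zero part k·1, and R_+ is the ideal spanned by the
R_n with n > 0 (a Noetherian such ring is the same as one of finite type over k); the graded k-dual
M^* = ⊕_n Hom_k(M_{−n}, k) of a graded R-module M (with r ∈ R acting by (r f)(x) = f(r x)) is
presented abstractly as a graded R-module D with a k-bilinear pairing β : D × M → k compatible with
the R-actions, under which D_n pairs to zero with M_m for m ≠ −n and is identified with the full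
dual space of M_{−n}. -/
theorem result (k : Type u) [Field k] (R : Type u) [CommRing R] [Algebra k R] (𝒜 : ℤ → Submodule k R) [GradedAlgebra 𝒜] (hposR : ∀ n : ℤ, n < 0 → 𝒜 n = ⊥) (h0R : 𝒜 0 = Submodule.span k {(1 : R)}) [Algebra.FiniteType k R] (mR : HomogeneousIdeal 𝒜) (hmR : mR.toIdeal = Ideal.span (⋃ n ∈ Set.Ioi (0 : ℤ), (𝒜 n : Set R))) (D : Type u) [AddCommGroup D] [Module R D] [Module k D] [IsScalarTower k R D] (𝒟 : ℤ → AddSubgroup D) [DirectSum.Decomposition 𝒟] [SetLike.GradedSMul 𝒜 𝒟] (β : D →ₗ[k] R →ₗ[k] k) (hD : GrSeg.IsGDual R 𝒜 𝒟 β) (e : (R ⧸ mR.toIdeal) →ₗ[R] D) (he : Function.Injective e) (hegr : GrLC.IsGrHom (GrLC.quotGr 𝒜 mR) 𝒟 e) : GrLC.IsStarInjHull 𝒜 (GrLC.quotGr 𝒜 mR) 𝒟 e := by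
  haveI : IsNoetherianRing R := Algebra.FiniteType.isNoetherianRing k R
  haveI : IsArtinian R D := Groth.GrDualH.isArtinian_dual_of_finite (ℳ := 𝒜) hposR h0R hD
  have hmle : mR.toIdeal ≤ Groth.GrDualH.geq 𝒜 𝒜 hposR 1 := by
    rw [hmR, Ideal.span_le]
    rintro r hr
    simp only [Set.mem_iUnion, Set.mem_Ioi] at hr
    obtain ⟨n, hn, hrn⟩ := hr
    exact fun g hg => Groth.GrDualH.proj_of_mem_ne hrn (by omega)
  have h1 : (1 : R) ∈ 𝒜 0 := SetLike.one_mem_graded 𝒜
  refine { injective := he, grHom := hegr, essential := ?_, starInj := ?_ }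
  · intro P hP hP0
    have hnt : (1 : R) ≠ 0 := fun h => by
      have hz : ∀ r : R, r = 0 := eq_zero_of_zero_eq_one h.symm
      obtain ⟨d, -, hd0⟩ := P.exists_mem_ne_zero_of_ne_bot hP0
      exact hd0 (Groth.GrDualH.beta_injective hD
        ((LinearMap.ext fun r => by rw [hz r, map_zero]; rfl : β d = 0).trans (map_zero β).symm))
    have h1m : (1 : R) ∉ mR.toIdeal := fun h => hnt (by
      have := hmle h 0 (by omega)
      rwa [Groth.GrDualH.proj_of_mem h1] at this)
    set e1 := e (Ideal.Quotient.mk mR.toIdeal 1) with he1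
    have he1mem : e1 ∈ 𝒟 0 := hegr 0 _ ⟨1, h1, rfl⟩
    have hval : β e1 1 ≠ 0 := fun h => by
      have : e1 = 0 := hD.eq_zero 0 e1 he1mem fun x hx => by
        rw [neg_zero, h0R] at hx
        obtain ⟨c, rfl⟩ := Submodule.mem_span_singleton.1 hx
        rw [map_smul, h, smul_zero]
      exact h1m (Ideal.Quotient.eq_zero_iff_mem.1 (he (by rw [← he1, this, map_zero])))
    obtain ⟨c, hc⟩ := Groth.GrDualH.exists_upperBound (ℳ := 𝒟) hposR (𝒜 := 𝒜)
    obtain ⟨d, hd, hd0⟩ := P.exists_mem_ne_zero_of_ne_bot hP0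
    obtain ⟨n₀, hn₀⟩ : ∃ n, Groth.GrDualH.proj 𝒟 n d ≠ 0 :=
      not_forall.1 fun h => hd0 (Groth.GrDualH.eq_zero_of_proj h)
    obtain ⟨n, ⟨p, hpP, hp, hp0⟩, hmax⟩ := Int.exists_greatest_of_bdd
      (P := fun n => ∃ p ∈ P, p ∈ 𝒟 n ∧ p ≠ 0)
      ⟨c, fun n ⟨p, _, hp, hp0⟩ => not_lt.1 fun h => hp0 (hc n h p hp)⟩
      ⟨n₀, _, hP n₀ hd, Groth.GrDualH.proj_mem n₀ d, hn₀⟩
    have hvan : ∀ i : ℤ, i ≠ 0 → ∀ r ∈ 𝒜 i, β p r = 0 := by
      intro i hi r hr
      rcases lt_or_gt_of_ne hi with hi | hi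
      · rw [hposR i hi, Submodule.mem_bot] at hr; rw [hr, map_zero]
      · have : r • p = 0 := by
          by_contra h
          have := hmax (i + n) ⟨_, P.smul_mem r hpP, Groth.GrDualH.smul_mem (ℳ := 𝒟) hr hp, h⟩
          omega
        calc β p r = β p (r • (1 : R)) := by rw [smul_eq_mul, mul_one]
          _ = β (r • p) 1 := (hD.map_smul r p 1).symm
          _ = 0 := by rw [this, map_zero, LinearMap.zero_apply]
    have hn : n = 0 := by
      by_contra hn
      exact hp0 (hD.eq_zero n p hp (hvan (-n) (by omega)))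
    subst hn
    have hpe : p = (β p 1 / β e1 1) • e1 := by
      have hmem : p - (β p 1 / β e1 1) • e1 ∈ 𝒟 0 := sub_mem hp (Groth.GrDualH.ksmul_mem (𝒜 := 𝒜) _ he1mem)
      refine sub_eq_zero.1 (hD.eq_zero 0 _ hmem fun x hx => ?_)
      rw [neg_zero, h0R] at hx
      obtain ⟨c, rfl⟩ := Submodule.mem_span_singleton.1 hx
      rw [map_smul]
      simp [div_mul_cancel₀ _ hval]
    refine (Submodule.ne_bot_iff _).2 ⟨p, ⟨hpP, ?_⟩, hp0⟩
    rw [hpe]
    exact Submodule.smul_of_tower_mem _ _ ⟨_, rfl⟩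
  · intro A B f hf hfi g hg
    letI : Module k A.carrier := Module.compHom A.carrier (algebraMap k R)
    letI : Module k B.carrier := Module.compHom B.carrier (algebraMap k R)
    haveI : IsScalarTower k R A.carrier := IsScalarTower.of_algebraMap_smul fun _ _ => rfl
    haveI : IsScalarTower k R B.carrier := IsScalarTower.of_algebraMap_smul fun _ _ => rfl
    let ψ : A.carrier →ₗ[k] k := (LinearMap.applyₗ (1 : R)) ∘ₗ β ∘ₗ g.restrictScalars k
    obtain ⟨l, hl⟩ := (f.restrictScalars k).exists_leftInverse_of_injective (LinearMap.ker_eq_bot.2 hfi)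
    let Ψ : B.carrier →ₗ[k] k := ψ ∘ₗ l ∘ₗ Groth.GrDualH.projₗ 𝒜 B.gr 0
    obtain ⟨h, hh, hh'⟩ := Groth.GrDualH.exists_lift hD (𝒩 := B.gr) 0
      (LinearMap.mk₂ k (fun (b : B.carrier) (r : R) => Ψ (r • b))
        (fun x y r => by rw [smul_add, map_add])
        (fun c x r => by rw [smul_comm, map_smul])
        (fun x r s => by rw [add_smul, map_add])
        (fun c x r => by rw [smul_assoc, map_smul]))
      (fun r x m => by
        show Ψ _ = Ψ _
        rw [smul_smul, smul_eq_mul, mul_comm r m])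
      (fun a x hx m hm y hy => by
        show ψ (l (Groth.GrDualH.proj B.gr 0 (y • x))) = 0
        rw [Groth.GrDualH.proj_of_mem_ne (Groth.GrDualH.smul_mem (ℳ := B.gr) hy hx) (by omega), map_zero, map_zero])
    refine ⟨h, fun a x hx => by simpa using hh' a x hx,
      LinearMap.ext fun a => Groth.GrDualH.beta_injective hD (LinearMap.ext fun r => ?_)⟩
    rw [LinearMap.comp_apply, hh]
    show ψ (l (Groth.GrDualH.proj B.gr 0 (r • f a))) = β (g a) r
    rw [← map_smul, ← Groth.GrDualH.map_proj (f := f) hf]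
    have hll : ∀ z, l (f z) = z := fun z => LinearMap.congr_fun hl z
    rw [hll]
    show β (g (Groth.GrDualH.proj A.gr 0 (r • a))) 1 = _
    rw [Groth.GrDualH.map_proj (f := g) hg, Groth.GrDualH.pair_proj hD, neg_zero,
      Groth.GrDualH.proj_of_mem h1, map_smul, hD.map_smul, smul_eq_mul, mul_one]

end Groth.Agent.S19752
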