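import Groth.Statements.S19753
import Groth.Agent.Misc15.SegLC.SegDimMain

set_option autoImplicit false
universe u
open scoped TensorProduct
open GrSegre

namespace Groth.Agent.S19753

/-- Let R and S be graded rings defined over a field k, both generated over k by their degree-one parts
and of positive Krull dimension, T = R # S, and let M and N be finitely generated graded modules
over R and S respectively, neither of them Artinian. Then dim (M # N) = dim M + dim N − 1,
dimensions being Krull dimensions of supports. Here a graded ring defined over k is a commutative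
k-algebra of finite type, graded in nonnegative degrees by k-subspaces with degree-zero part k·1;
the Segre product T = R # S = ⊕_n R_n ⊗_k S_n is presented abstractly as a graded k-algebra T with
an injective k-algebra homomorphism ψ : T → R ⊗_k S carrying T_n onto the k-span of the elementary
tensors a ⊗ b with a ∈ R_n, b ∈ S_n; the Segre product M # N = ⊕_n M_n ⊗_k N_n of a graded R-module
M and a graded S-module N is presented abstractly as a graded T-module P with an injective k-linear
map φ : P → M ⊗_k N carrying P_n onto the k-span of the tensors x ⊗ y with x ∈ M_n, y ∈ N_n and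
turning the action of t ∈ T into that of ψ(t) (acting factorwise on M ⊗_k N). -/
theorem result (k : Type u) [Field k] (R : Type u) [CommRing R] [Algebra k R] (𝒜 : ℤ → Submodule k R) [GradedAlgebra 𝒜] (hposR : ∀ n : ℤ, n < 0 → 𝒜 n = ⊥) (h0R : 𝒜 0 = Submodule.span k {(1 : R)}) [Algebra.FiniteType k R] (S : Type u) [CommRing S] [Algebra k S] (ℬ : ℤ → Submodule k S) [GradedAlgebra ℬ] (hposS : ∀ n : ℤ, n < 0 → ℬ n = ⊥) (h0S : ℬ 0 = Submodule.span k {(1 : S)}) [Algebra.FiniteType k S] (T : Type u) [CommRing T] [Algebra k T] (𝒯 : ℤ → Submodule k T) [GradedAlgebra 𝒯] (ψ : T →ₐ[k] TensorProduct k R S) (hT : GrSeg.IsSegreRing 𝒜 ℬ 𝒯 ψ) (hstdR : Ideal.span (⋃ n ∈ Set.Ioi (0 : ℤ), (𝒜 n : Set R)) = Ideal.span ((𝒜 1 : Submodule k R) : Set R)) (hstdS : Ideal.span (⋃ n ∈ Set.Ioi (0 : ℤ), (ℬ n : Set S)) = Ideal.span ((ℬ 1 : Submodule k S) : Set S)) (hr1 : 1 ≤ ringKrullDim R) (hs1 : 1 ≤ ringKrullDim S) (M : Type u) [AddCommGroup M] [Module R M] [Module k M] [IsScalarTower k R M] (ℳ : ℤ → AddSubgroup M) [DirectSum.Decomposition ℳ] [SetLike.GradedSMul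 𝒜 ℳ] [Module.Finite R M] (N : Type u) [AddCommGroup N] [Module S N] [Module k N] [IsScalarTower k S N] (𝒩 : ℤ → AddSubgroup N) [DirectSum.Decomposition 𝒩] [SetLike.GradedSMul ℬ 𝒩] [Module.Finite S N] (P : Type u) [AddCommGroup P] [Module T P] [Module k P] [IsScalarTower k T P] (𝒬 : ℤ → AddSubgroup P) [DirectSum.Decomposition 𝒬] (φ : P →ₗ[k] TensorProduct k M N) (hP : GrSeg.IsSegreMod ψ ℳ 𝒩 𝒬 φ) (dM dN : ℕ) (hdM : Module.supportDim R M = dM) (hdN : Module.supportDim S N = dN) (hMA : ¬ IsArtinian R M) (hNA : ¬ IsArtinian S N) : Module.supportDim T P = ((dM + dN - 1 : ℕ) : WithBot ℕ∞) := by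
  have key : ∀ (A : Type u) [CommRing A] [IsNoetherianRing A] (W : Type u) [AddCommGroup W] [Module A W]
      [Module.Finite A W] (d : ℕ), Module.supportDim A W = d → ¬ IsArtinian A W → 1 ≤ d := by
    intro A _ _ W _ _ _ d hd hW
    by_contra h
    obtain rfl : d = 0 := by omega
    refine hW ?_
    rw [Module.supportDim_eq_ringKrullDim_quotient_annihilator] at hd
    haveI : Ring.KrullDimLE 0 (A ⧸ Module.annihilator A W) :=
      Ring.krullDimLE_iff.2 (le_of_eq (by exact_mod_cast hd))
    haveI : IsArtinianRing (A ⧸ Module.annihilator A W) :=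
      IsNoetherianRing.isArtinianRing_of_krullDimLE_zero
    letI := (Module.isTorsionBySet_annihilator A W).module
    haveI : IsScalarTower A (A ⧸ Module.annihilator A W) W :=
      Module.IsTorsionBySet.isScalarTower _
    haveI : Module.Finite (A ⧸ Module.annihilator A W) W :=
      Module.Finite.of_restrictScalars_finite A _ W
    exact isArtinian_of_surjective_algebraMap (R := A ⧸ Module.annihilator A W) (S := A)
      (M := W) Ideal.Quotient.mk_surjective
  haveI : IsNoetherianRing R := Algebra.FiniteType.isNoetherianRing k R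
  haveI : IsNoetherianRing S := Algebra.FiniteType.isNoetherianRing k S
  exact Groth.Misc15.SegDimQuot.supportDim_segre hposR h0R hposS h0S hT hstdR hstdS hP hdM hdN
    (key R M dM hdM hMA) (key S N dN hdN hNA)

end Groth.Agent.S19753
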