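import Groth.Statements.S19758
import Groth.Agent.Misc15.SegLC.SegBij
import Groth.Agent.S18646

set_option autoImplicit false
universe u
open scoped TensorProduct
open GrSegre

namespace Groth.Agent.S19758

/-- Let R and S be graded rings defined over a field k with m = R_+, T = R # S with irrelevant ideal
T_+, M a graded R-module and N a graded S-module on which multiplication by some homogeneous element
of S of positive degree is bijective. Then H^q_{T_+}(M # N) ≅ H^q_m(M) # N as graded T-modules for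
every q. Stated here as the existence of an injective k-linear map H^q_{T_+}(M # N) → H^q_m(M) ⊗_k N
presenting the left side as the Segre product of H^q_m(M) and N (existence of such a presentation
only; the published isomorphism is the one induced by a resolution). Here a graded ring defined over
k is a commutative k-algebra of finite type, graded in nonnegative degrees by k-subspaces with
degree-zero part k·1; the Segre product T = R # S = ⊕_n R_n ⊗_k S_n is presented abstractly as a
graded k-algebra T with an injective k-algebra homomorphism ψ : T → R ⊗_k S carrying T_n onto the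
k-span of the elementary tensors a ⊗ b with a ∈ R_n, b ∈ S_n; the Segre product M # N = ⊕_n M_n ⊗_k
N_n of a graded R-module M and a graded S-module N is presented abstractly as a graded T-module P
with an injective k-linear map φ : P → M ⊗_k N carrying P_n onto the k-span of the tensors x ⊗ y
with x ∈ M_n, y ∈ N_n and turning the action of t ∈ T into that of ψ(t) (acting factorwise on M ⊗_k
N); graded local cohomology and its homogeneous pieces are computed from *injective resolutions in
the graded categories of R and T, and carry the k-vector space structures given. -/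
theorem result (k : Type u) [Field k] (R : Type u) [CommRing R] [Algebra k R] (𝒜 : ℤ → Submodule k R) [GradedAlgebra 𝒜] (hposR : ∀ n : ℤ, n < 0 → 𝒜 n = ⊥) (h0R : 𝒜 0 = Submodule.span k {(1 : R)}) [Algebra.FiniteType k R] (S : Type u) [CommRing S] [Algebra k S] (ℬ : ℤ → Submodule k S) [GradedAlgebra ℬ] (hposS : ∀ n : ℤ, n < 0 → ℬ n = ⊥) (h0S : ℬ 0 = Submodule.span k {(1 : S)}) [Algebra.FiniteType k S] (T : Type u) [CommRing T] [Algebra k T] (𝒯 : ℤ → Submodule k T) [GradedAlgebra 𝒯] (ψ : T →ₐ[k] TensorProduct k R S) (hT : GrSeg.IsSegreRing 𝒜 ℬ 𝒯 ψ) (mR : HomogeneousIdeal 𝒜) (hmR : mR.toIdeal = Ideal.span (⋃ n ∈ Set.Ioi (0 : ℤ), (𝒜 n : Set R))) (mT : HomogeneousIdeal 𝒯) (hmT : mT.toIdeal = Ideal.span (⋃ n ∈ Set.Ioi (0 : ℤ), (𝒯 n : Set T))) (M : Type u) [AddCommGroup M] [Module R M] [Module k M] [IsScalarTower k R M] (ℳ : ℤ → AddSubgroup M) [DirectSum.Decomposition ℳ] [SetLike.GradedSMul 𝒜 ℳ] (EM : GrLC.StarInjRes 𝒜 ℳ) (N : Type u) [AddCommGroup N] [Module S N] [Module k N] [IsScalarTower k S N] (𝒩 :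 ℤ → AddSubgroup N) [DirectSum.Decomposition 𝒩] [SetLike.GradedSMul ℬ 𝒩] (e : ℕ) (he : 0 < e) (g : S) (hg : g ∈ ℬ (e : ℤ)) (hgN : Function.Bijective (fun y : N => g • y)) (P : Type u) [AddCommGroup P] [Module T P] [Module k P] [IsScalarTower k T P] (𝒬 : ℤ → AddSubgroup P) [DirectSum.Decomposition 𝒬] [SetLike.GradedSMul 𝒯 𝒬] (φ : P →ₗ[k] TensorProduct k M N) (hP : GrSeg.IsSegreMod ψ ℳ 𝒩 𝒬 φ) (EP : GrLC.StarInjRes 𝒯 𝒬) (q : ℕ) [Module k (EM.H mR q)] [IsScalarTower k R (EM.H mR q)] [Module k (EP.H mT q)] [IsScalarTower k T (EP.H mT q)] [DirectSum.Decomposition (EP.Hgr mT q)] : ∃ φ' : EP.H mT q →ₗ[k] TensorProduct k (EM.H mR q) N, GrSeg.IsSegreMod ψ (EM.Hgr mR q) 𝒩 (EP.Hgr mT q) φ' := by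
  haveI : IsNoetherianRing R := Algebra.FiniteType.isNoetherianRing k R
  haveI : IsNoetherianRing T :=
    Groth.Agent.S18646.result k R 𝒜 hposR h0R S ℬ hposS h0S T 𝒯 ψ hT.1 hT.2
  cases q with
  | zero =>
    obtain ⟨L, hi, him, hsm⟩ := Groth.Misc15.SegLC.exists_segre_bij_zero hT hP hmR hmT he hg hgN
      EM EP (LinearEquiv.refl R (EM.H mR 0)) (𝒳 := EM.Hgr mR 0) (fun _ _ => Iff.rfl)
    exact Groth.Misc15.SegLC.exists_isSegreMod_of_addMap L hi him hsm
  | succ n =>
    obtain ⟨L, hi, him, hsm⟩ := Groth.Misc15.SegLC.exists_segre_bij_succ hT hP hmR hmT he hg hgN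
      EM EP n (LinearEquiv.refl R (EM.H mR (n + 1))) (𝒳 := EM.Hgr mR (n + 1)) (fun _ _ => Iff.rfl)
    exact Groth.Misc15.SegLC.exists_isSegreMod_of_addMap L hi him hsm

end Groth.Agent.S19758
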