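import Groth.Statements.S19759
import Groth.Agent.Misc15.SegLC.MapH
import Groth.Agent.GrMod.Transfer
import Groth.Agent.GrMod.LocCoh
import Groth.Agent.GrDualH.Duality
import Groth.Agent.LocCohBase.Nonvanishing

set_option autoImplicit false
universe u
open GrDual

namespace Groth.Agent.S19759

/-- Let R be a graded ring defined over a field k with m = R_+ and n = dim R, K_R = (H^n_m(R))^* its
canonical module, and M a finitely generated graded R-module. Then (H^n_m(M))^* ≅ Hom_R(M, K_R) as
graded R-modules. Stated here as the existence of an R-linear isomorphism carrying the degree-d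
piece of (H^n_m(M))^* into the maps M → K_R homogeneous of degree d (existence of an isomorphism
only; the published one is natural in M). Here a graded ring defined over k is a commutative
k-algebra of finite type, graded in nonnegative degrees by k-subspaces with degree-zero part k·1,
and R_+ is the ideal spanned by the R_n with n > 0; the graded k-dual M^* = ⊕_n Hom_k(M_{−n}, k) of
a graded R-module M (with r ∈ R acting by (r f)(x) = f(r x)) is presented abstractly as a graded
R-module D with a k-bilinear pairing β : D × M → k compatible with the R-actions, under which D_n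
pairs to zero with M_m for m ≠ −n and is identified with the full dual space of M_{−n}; graded local
cohomology with its homogeneous pieces is computed from *injective resolutions in the graded
category and carries the k-vector space structures given. -/
theorem result (k : Type u) [Field k] (R : Type u) [CommRing R] [Algebra k R] (𝒜 : ℤ → Submodule k R) [GradedAlgebra 𝒜] (hposR : ∀ n : ℤ, n < 0 → 𝒜 n = ⊥) (h0R : 𝒜 0 = Submodule.span k {(1 : R)}) [Algebra.FiniteType k R] (mR : HomogeneousIdeal 𝒜) (hmR : mR.toIdeal = Ideal.span (⋃ n ∈ Set.Ioi (0 : ℤ), (𝒜 n : Set R))) (n : ℕ) (hn : ringKrullDim R = n) (I : GrLC.StarInjRes 𝒜 𝒜) [Module k (I.H mR n)] [IsScalarTower k R (I.H mR n)] [DirectSum.Decomposition (I.Hgr mR n)] (K : Type u) [AddCommGroup K] [Module R K] [Module k K] [IsScalarTower k R K] (𝒦 : ℤ → AddSubgroup K) [DirectSum.Decomposition 𝒦] [SetLike.GradedSMul 𝒜 𝒦] (βK : K →ₗ[k] I.H mR n →ₗ[k] k) (hK : GrSeg.IsGDual R (I.Hgr mR n) 𝒦 βK) (M : Type u) [AddCommGroup M] [Module R M] [Module k M] [IsScalarTower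 k R M] (ℳ : ℤ → AddSubgroup M) [DirectSum.Decomposition ℳ] [SetLike.GradedSMul 𝒜 ℳ] [Module.Finite R M] (EM : GrLC.StarInjRes 𝒜 ℳ) [Module k (EM.H mR n)] [IsScalarTower k R (EM.H mR n)] [DirectSum.Decomposition (EM.Hgr mR n)] (D : Type u) [AddCommGroup D] [Module R D] [Module k D] [IsScalarTower k R D] (𝒟 : ℤ → AddSubgroup D) [DirectSum.Decomposition 𝒟] [SetLike.GradedSMul 𝒜 𝒟] (βD : D →ₗ[k] EM.H mR n →ₗ[k] k) (hD : GrSeg.IsGDual R (EM.Hgr mR n) 𝒟 βD) : ∃ ε : D ≃ₗ[R] (M →ₗ[R] K), GrLC.IsGrHom 𝒟 (fun d : ℤ => (GrLC.homDeg 𝒜 ℳ 𝒦 d).toAddSubgroup) ε.toLinearMap := by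
  classical
  haveI : IsNoetherianRing R := Algebra.FiniteType.isNoetherianRing k R
  -- everything over the grading by additive subgroups
  let a' := GrothGr.hagr 𝒜 mR
  let I' := GrothGr.resAgr 𝒜 I (GrothGr.agr 𝒜) fun _ _ h => h
  let EM' := GrothGr.resAgr 𝒜 EM ℳ fun _ _ h => h
  have hvan : Groth.Misc15.MapH.Van a' n := fun W E hW => by
    haveI := hW
    obtain ⟨e⟩ := GrothGr.nonempty_H_equiv (GrothGr.agr 𝒜) W.gr a' E (n + 1)
    haveI : Subsingleton (LocCoh.H a'.toIdeal (n + 1) W.carrier) :=
      Groth.LocCohBase.subsingleton_H_of_supportDim_lt _ _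
        (lt_of_le_of_lt ((Module.supportDim_le_ringKrullDim R W.carrier).trans hn.le)
          (by exact_mod_cast Nat.lt_succ_self n))
    exact e.toEquiv.subsingleton
  obtain ⟨Φ', hΦ'⟩ := Groth.Misc15.MapH.exists_natural a' n I' EM'
  let Φ : M →ₗ[R] (I.H mR n →ₗ[R] EM.H mR n) := Φ'
  have hdeg : ∀ g, ∀ m ∈ ℳ g, ∀ h ξ, ξ ∈ I.Hgr mR n h → Φ m ξ ∈ EM.Hgr mR n (h + g) := by
    rintro g m hm h ξ ⟨z, hz, rfl⟩
    obtain ⟨w, hw, hwe⟩ := (hΦ' g m hm).grHom h _ ⟨z, hz, rfl⟩
    exact ⟨w, hw, hwe⟩
  -- vanishing rules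
  have hinj : Function.Injective βK := by
    rw [injective_iff_map_eq_zero]
    intro c hc
    refine Groth.GrDualH.eq_zero_of_proj (ℳ := 𝒦) fun j => ?_
    refine hK.eq_zero j _ (Groth.GrDualH.proj_mem (ℳ := 𝒦) j c) fun ξ hξ => ?_
    have : ∀ c : K, βK (Groth.GrDualH.proj 𝒦 j c) ξ = βK c ξ := fun c => by
      induction c using DirectSum.Decomposition.inductionOn 𝒦 with
      | zero => simp
      | add c c' h h' => simp only [map_add, LinearMap.add_apply, h, h']
      | @homogeneous i c =>
        by_cases hij : i = j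
        · subst hij; rw [Groth.GrDualH.proj_of_mem c.2]
        · rw [Groth.GrDualH.proj_of_mem_ne c.2 hij, map_zero, LinearMap.zero_apply,
            hK.vanish i c c.2 (-j) (by omega) ξ hξ]
    rw [this, hc, LinearMap.zero_apply]
  -- the representing elements
  have hex : ∀ d m, ∃ κ : K, ∀ ξ, βK κ ξ = βD d (Φ m ξ) := by
    intro d m
    induction d using DirectSum.Decomposition.inductionOn 𝒟 with
    | zero => exact ⟨0, fun ξ => by simp⟩
    | add d d' hd hd' =>
      obtain ⟨κ, hκ⟩ := hd
      obtain ⟨κ', hκ'⟩ := hd'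
      exact ⟨κ + κ', fun ξ => by simp [hκ, hκ']⟩
    | @homogeneous j d =>
      induction m using DirectSum.Decomposition.inductionOn ℳ with
      | zero => exact ⟨0, fun ξ => by simp⟩
      | add m m' hm hm' =>
        obtain ⟨κ, hκ⟩ := hm
        obtain ⟨κ', hκ'⟩ := hm'
        exact ⟨κ + κ', fun ξ => by simp [hκ, hκ']⟩
      | @homogeneous g m =>
        obtain ⟨κ, -, hκ⟩ := Groth.GrDualH.exists_repr hK (j + g)
          (βD (d : D) ∘ₗ (Φ (m : M)).restrictScalars k) fun h hh ξ hξ =>
            hD.vanish j d d.2 (h + g) (by omega) _ (hdeg g m m.2 h ξ hξ)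
        exact ⟨κ, fun ξ => LinearMap.congr_fun hκ ξ⟩
  choose κ hκ using hex
  have huniq : ∀ d m c, (∀ ξ, βK c ξ = βD d (Φ m ξ)) → κ d m = c := fun d m c h =>
    hinj (LinearMap.ext fun ξ => (hκ d m ξ).trans (h ξ).symm)
  let ε : D →ₗ[R] (M →ₗ[R] K) := LinearMap.mk₂ R κ
    (fun d d' m => huniq _ _ _ fun ξ => by
      rw [map_add, map_add, LinearMap.add_apply, LinearMap.add_apply, hκ, hκ])
    (fun r d m => huniq _ _ _ fun ξ => by rw [hK.map_smul, hκ, hD.map_smul, map_smul])
    (fun d m m' => huniq _ _ _ fun ξ => by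
      rw [map_add, map_add, LinearMap.add_apply, LinearMap.add_apply, map_add, hκ, hκ])
    (fun r d m => huniq _ _ _ fun ξ => by
      rw [hK.map_smul, hκ, map_smul Φ, LinearMap.smul_apply, map_smul (Φ m)])
  have hε : ∀ d m ξ, βK (ε d m) ξ = βD d (Φ m ξ) := hκ
  have hεdeg : ∀ j, ∀ d ∈ 𝒟 j, ε d ∈ GrLC.homDeg 𝒜 ℳ 𝒦 j := fun j d hd g m hm => by
    obtain ⟨c, hc, hce⟩ := Groth.GrDualH.exists_repr hK (g + j)
      (βD d ∘ₗ (Φ m).restrictScalars k) fun h hh ξ hξ =>
        hD.vanish j d hd (h + g) (by omega) _ (hdeg g m hm h ξ hξ)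
    show κ d m ∈ 𝒦 (g + j)
    rw [huniq d m c fun ξ => LinearMap.congr_fun hce ξ]
    exact hc
  have hspan : ⨆ m, LinearMap.range (Φ m) = ⊤ := by
    exact Groth.Misc15.MapH.eq_top_of_natural (I := I') (EM := EM') hvan hΦ'
  have hinjD : Function.Injective βD := by
    rw [injective_iff_map_eq_zero]
    intro c hc
    refine Groth.GrDualH.eq_zero_of_proj (ℳ := 𝒟) fun j => ?_
    refine hD.eq_zero j _ (Groth.GrDualH.proj_mem (ℳ := 𝒟) j c) fun ξ hξ => ?_
    have : ∀ c : D, βD (Groth.GrDualH.proj 𝒟 j c) ξ = βD c ξ := fun c => by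
      induction c using DirectSum.Decomposition.inductionOn 𝒟 with
      | zero => simp
      | add c c' h h' => simp only [map_add, LinearMap.add_apply, h, h']
      | @homogeneous i c =>
        by_cases hij : i = j
        · subst hij; rw [Groth.GrDualH.proj_of_mem c.2]
        · rw [Groth.GrDualH.proj_of_mem_ne c.2 hij, map_zero, LinearMap.zero_apply,
            hD.vanish i c c.2 (-j) (by omega) ξ hξ]
    rw [this, hc, LinearMap.zero_apply]
  have hεinj : Function.Injective ε := by
    rw [injective_iff_map_eq_zero]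
    intro d hd
    refine (injective_iff_map_eq_zero _).1 hinjD d (LinearMap.ext fun x => ?_)
    have hx : x ∈ ⨆ m, LinearMap.range (Φ m) := hspan.ge Submodule.mem_top
    induction hx using Submodule.iSup_induction' with
    | mem m x hx =>
      obtain ⟨ξ, rfl⟩ := hx
      rw [← hε, hd]
      simp
    | zero => simp
    | add x y _ _ hx hy => rw [map_add, map_add, hx, hy]
  have hεsurj : Function.Surjective ε := by
    have key : ∀ j, ∀ f ∈ GrLC.homDeg 𝒜 ℳ 𝒦 j, f ∈ LinearMap.range ε := by
      intro j f hf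
      let B : M →+ I.H mR n →+ k := AddMonoidHom.mk' (fun m => (βK (f m)).toAddMonoidHom)
        fun m m' => AddMonoidHom.ext fun ξ => by simp
      obtain ⟨L, hL⟩ := Groth.Misc15.MapH.exists_descend (I := I') (EM := EM') hvan hΦ' B
        fun r m ξ => by
          show βK (f (r • m)) ξ = βK (f m) (r • ξ)
          rw [map_smul]
          exact hK.map_smul r (f m) ξ
      have hL' : ∀ m ξ, L (Φ m ξ) = βK (f m) ξ := hL
      let L' : EM.H mR n →ₗ[k] k :=
        { toFun := L
          map_add' := map_add L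
          map_smul' := fun c x => by
            have hx : x ∈ ⨆ m, LinearMap.range (Φ m) := hspan.ge Submodule.mem_top
            induction hx using Submodule.iSup_induction' with
            | mem m x hx =>
              obtain ⟨ξ, rfl⟩ := hx
              rw [← LinearMap.map_smul_of_tower (Φ m) c ξ, RingHom.id_apply]
              exact ((hL' m (c • ξ)).trans (map_smul (βK (f m)) c ξ)).trans
                (congrArg (c • ·) (hL' m ξ).symm)
            | zero =>
              simp only [RingHom.id_apply, smul_zero]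
              exact (map_zero L).trans ((smul_zero c).symm.trans (congrArg (c • ·) (map_zero L).symm))
            | add x y _ _ hx hy =>
              rw [RingHom.id_apply] at hx hy ⊢
              rw [smul_add]
              exact ((map_add L _ _).trans (congrArg₂ (· + ·) hx hy)).trans
                ((smul_add c _ _).symm.trans (congrArg (c • ·) (map_add L x y).symm)) }
      obtain ⟨d, hd, hdL⟩ := hD.exists_eq j L'
      refine ⟨d, LinearMap.ext fun m => hinj (LinearMap.ext fun ξ => ?_)⟩
      rw [hε]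
      induction m using DirectSum.Decomposition.inductionOn ℳ with
      | zero => simp
      | add m m' hm hm' => simp only [map_add, LinearMap.add_apply, hm, hm']
      | @homogeneous g m =>
        induction ξ using DirectSum.Decomposition.inductionOn (I.Hgr mR n) with
        | zero => simp
        | add ξ η h h' => simp only [map_add, h, h']
        | @homogeneous h ξ =>
          by_cases hh : h + g = -j
          · exact (hdL _ (hh ▸ hdeg g m m.2 h ξ ξ.2)).trans (hL' _ _)
          · rw [hD.vanish j d hd (h + g) hh _ (hdeg g m m.2 h ξ ξ.2),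
              hK.vanish (g + j) _ (hf g m m.2) h (by omega) ξ ξ.2]
    intro f
    obtain ⟨S, hS⟩ := GrothGr.exists_sum_degPart (GrothGr.agr 𝒜) ℳ 𝒦 f
    rw [← LinearMap.mem_range, ← hS]
    refine Submodule.sum_mem _ fun j _ => key j _ fun g m hm => ?_
    exact GrothGr.degPart_isGrHom (GrothGr.agr 𝒜) ℳ 𝒦 f j (g + j) m (by
      show m ∈ ℳ (g + j - j)
      rwa [add_sub_cancel_right])
  exact ⟨LinearEquiv.ofBijective ε ⟨hεinj, hεsurj⟩, fun j d hd => hεdeg j d hd⟩

end Groth.Agent.S19759
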