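import Groth.Statements.S1976
import Groth.Agent.EtaleAlgebra.WeaklyEtaleField
import Groth.Agent.EtaleDeep.IndEt.Etale
import Mathlib.RingTheory.Etale.Field
import Mathlib.RingTheory.FinitePresentation
-- import your own Groth.Agent.* helpers here

set_option autoImplicit false
universe u
open CategoryTheory
open EtAlg

namespace Groth.Agent.S1976

/-- (2) ⇔ (3): a K-algebra B over a field K is weakly etale exactly when it can be written as a filtered
colimit of etale K-algebras, and in that case its finitely generated K-subalgebras are etale. -/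
theorem result (K : Type u) [Field K] (B : Type u) [CommRing B] [Algebra K B] :
    (Algebra.WeaklyEtale K B ↔ EtPBC.IsIndEtale K B) ∧
    (Algebra.WeaklyEtale K B → ∀ S : Subalgebra K B, S.FG → Algebra.Etale K S) := by
  have key : Algebra.WeaklyEtale K B → ∀ S : Subalgebra K B, S.FG → Algebra.Etale K S := by
    intro _ S hS
    have := (Subalgebra.fg_iff_finiteType S).1 hS
    have := Groth.EtaleAlgebra.weaklyEtale_subalgebra S
    have : Algebra.FormallyUnramified K S := Groth.FlatMorOne.formallyUnramified_of_weaklyEtale
    exact { formallyEtale := (Algebra.FormallyEtale.iff_formallyUnramified_of_field (K := K) (A := S)).2 this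
            finitePresentation := Algebra.FinitePresentation.of_finiteType.1 inferInstance }
  refine ⟨⟨fun h => ?_, Groth.EtaleDeep.IndEt.weaklyEtale⟩, key⟩
  refine Groth.EtaleDeep.IndEt.isIndEtale_iff_factors.2 fun n s b hb => ?_
  let S := Algebra.adjoin K (Set.range b)
  refine ⟨S, inferInstance, inferInstance, key h S (Subalgebra.fg_def.2 ⟨_, Set.finite_range b, rfl⟩), S.val,
    fun l => ⟨b l, Algebra.subset_adjoin ⟨l, rfl⟩⟩, fun r hr => Subtype.ext ?_, fun l => rfl⟩
  exact ((MvPolynomial.comp_aeval_apply (φ := S.val) (f := fun l => (⟨b l, Algebra.subset_adjoin ⟨l, rfl⟩⟩ : S)) r).trans (hb r hr))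

end Groth.Agent.S1976
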