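import Groth.Statements.S19760
import Groth.Agent.GrDualH.Duality

set_option autoImplicit false
universe u
open GrDual

namespace Groth.Agent.S19760

/-- Let R = ⊕_{n ≥ 0} R_n be a Noetherian graded ring with R_0 = k a field and R^* = ⊕_n Hom_k(R_{−n},
k) its graded k-dual. A graded R-module M is Artinian exactly when, for some t and some integer
shifts n_1, …, n_t, it embeds as a graded module into the direct sum of the shifted duals R^*(n_1),
…, R^*(n_t), that is, when there is an injective R-linear map M → (R^*)^t whose i-th component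
carries M_g into R^*_{g+n_i} for every g. Here a graded ring defined over k is a commutative
k-algebra of finite type, graded in nonnegative degrees by k-subspaces with degree-zero part k·1,
and R_+ is the ideal spanned by the R_n with n > 0 (a Noetherian such ring is the same as one of
finite type over k); the graded k-dual M^* = ⊕_n Hom_k(M_{−n}, k) of a graded R-module M (with r ∈ R
acting by (r f)(x) = f(r x)) is presented abstractly as a graded R-module D with a k-bilinear
pairing β : D × M → k compatible with the R-actions, under which D_n pairs to zero with M_m for m ≠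
−n and is identified with the full dual space of M_{−n}. -/
theorem result (k : Type u) [Field k] (R : Type u) [CommRing R] [Algebra k R] (𝒜 : ℤ → Submodule k R) [GradedAlgebra 𝒜] (hposR : ∀ n : ℤ, n < 0 → 𝒜 n = ⊥) (h0R : 𝒜 0 = Submodule.span k {(1 : R)}) [Algebra.FiniteType k R] (D : Type u) [AddCommGroup D] [Module R D] [Module k D] [IsScalarTower k R D] (𝒟 : ℤ → AddSubgroup D) [DirectSum.Decomposition 𝒟] [SetLike.GradedSMul 𝒜 𝒟] (β : D →ₗ[k] R →ₗ[k] k) (hD : GrSeg.IsGDual R 𝒜 𝒟 β) (M : Type u) [AddCommGroup M] [Module R M] [Module k M] [IsScalarTower k R M] (ℳ : ℤ → AddSubgroup M) [DirectSum.Decomposition ℳ] [SetLike.GradedSMul 𝒜 ℳ] : IsArtinian R M ↔ ∃ (t : ℕ) (sh : Fin t → ℤ) (f : M →ₗ[R] (Fin t → D)), Function.Injective f ∧ ∀ (i : Fin t) (g : ℤ) (x : M), x ∈ ℳ g → f x i ∈ 𝒟 (g + sh i) := by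
  classical
  haveI : IsNoetherianRing R := Algebra.FiniteType.isNoetherianRing k R
  haveI : IsArtinian R D := Groth.GrDualH.isArtinian_dual_of_finite (ℳ := 𝒜) hposR h0R hD
  constructor
  · intro hA
    have hex : ∀ (a : ℤ) (φ : M →ₗ[k] k), ∃ f : M →ₗ[R] D, (∀ x r, β (f x) r = φ (Groth.GrDualH.proj ℳ a (r • x))) ∧
        ∀ g, ∀ x ∈ ℳ g, f x ∈ 𝒟 (g + -a) := by
      intro a φ
      obtain ⟨f, hf, hf'⟩ := Groth.GrDualH.exists_lift hD (𝒩 := ℳ) (-a)
        (LinearMap.mk₂ k (fun (x : M) (r : R) => φ (Groth.GrDualH.projₗ 𝒜 ℳ a (r • x)))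
          (fun x y r => by rw [smul_add, map_add, map_add])
          (fun c x r => by rw [smul_comm, map_smul, map_smul])
          (fun x r s => by rw [add_smul, map_add, map_add])
          (fun c x r => by rw [smul_assoc, map_smul, map_smul]))
        (fun r x m => by
          show φ _ = φ _
          rw [smul_smul, smul_eq_mul, mul_comm r m])
        (fun g x hx m hm y hy => by
          show φ (Groth.GrDualH.proj ℳ a (y • x)) = 0
          rw [Groth.GrDualH.proj_of_mem_ne (Groth.GrDualH.smul_mem (ℳ := ℳ) hy hx) (by omega), map_zero])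
      exact ⟨f, fun x r => LinearMap.congr_fun (hf x) r, hf'⟩
    choose Φ hΦ hΦ' using hex
    let K : Set (Submodule R M) := Set.range fun s : Finset (ℤ × (M →ₗ[k] k)) => ⨅ i ∈ s, LinearMap.ker (Φ i.1 i.2)
    obtain ⟨-, ⟨s, rfl⟩, hmin⟩ := IsArtinian.set_has_minimal K ⟨_, ∅, rfl⟩
    dsimp only at hmin
    let e := s.equivFin
    refine ⟨s.card, fun i => -(e.symm i).1.1, LinearMap.pi fun i => Φ (e.symm i).1.1 (e.symm i).1.2,
      ?_, fun i g x hx => hΦ' _ _ g x hx⟩
    rw [injective_iff_map_eq_zero]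
    intro x hx
    refine Groth.GrDualH.eq_zero_of_proj (ℳ := ℳ) fun a => ?_
    by_contra hne
    obtain ⟨φ, -, hφ⟩ := Groth.GrDualH.exists_functional (𝒜 := 𝒜) (k := k) (Groth.GrDualH.proj_mem (ℳ := ℳ) a x) hne
    have hxs : x ∈ ⨅ i ∈ s, LinearMap.ker (Φ i.1 i.2) := by
      simp only [Submodule.mem_iInf, LinearMap.mem_ker]
      intro i hi
      have := congrFun hx (e ⟨i, hi⟩)
      simpa using this
    have hle : (⨅ i ∈ insert (a, φ) s, LinearMap.ker (Φ i.1 i.2)) ≤ ⨅ i ∈ s, LinearMap.ker (Φ i.1 i.2) :=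
      biInf_mono fun i hi => Finset.mem_insert_of_mem hi
    rw [← eq_of_le_of_not_lt hle (hmin _ ⟨_, rfl⟩)] at hxs
    simp only [Submodule.mem_iInf, LinearMap.mem_ker] at hxs
    have h1 := hΦ a φ x 1
    rw [hxs (a, φ) (Finset.mem_insert_self _ _), map_zero, LinearMap.zero_apply, one_smul, hφ] at h1
    exact zero_ne_one h1
  · rintro ⟨t, sh, f, hf, -⟩
    exact isArtinian_of_injective f hf

end Groth.Agent.S19760
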