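import Groth.Statements.S1977
import Groth.Agent.EtaleAlgebra.WeaklyEtaleField
-- import your own Groth.Agent.* helpers here

set_option autoImplicit false
universe u
open EtAlg

namespace Groth.Agent.S1977

/-- Let K be a field and A a K-algebra. The supremum of the weakly etale K-subalgebras of A is itself
weakly etale over K; it is therefore the largest weakly etale K-subalgebra of A. -/
theorem result (K : Type u) [Field K] (A : Type u) [CommRing A] [Algebra K A] :
    Algebra.WeaklyEtale K ↥(EtAlgD.maxWeaklyEtale K A) := by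
  let M := EtAlgD.maxWeaklyEtale K A
  have hle : EtAlgD.maxWeaklyEtale K A ≤ Algebra.adjoin K {x : A | x ∈ EtAlgD.maxWeaklyEtale K A ∧ Groth.EtaleAlgebra.IsSepElem K x} := by
    refine sSup_le fun S hS x hx => Algebra.subset_adjoin ⟨le_sSup hS hx, ?_⟩
    have : Algebra.WeaklyEtale K S := hS
    exact (Groth.EtaleAlgebra.isSepElem_of_weaklyEtale (⟨x, hx⟩ : S)).map S.val
  refine Groth.EtaleAlgebra.weaklyEtale_of_isSepElem
    {y : M | Groth.EtaleAlgebra.IsSepElem K (y : A)} ?_ fun y hy =>
      Groth.EtaleAlgebra.IsSepElem.of_map M.val Subtype.val_injective hy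
  apply Subalgebra.map_injective (f := M.val) Subtype.val_injective
  rw [Algebra.map_top, AlgHom.map_adjoin, Subalgebra.range_val]
  refine le_antisymm (Algebra.adjoin_le (by rintro _ ⟨y, -, rfl⟩; exact y.2)) (hle.trans (Algebra.adjoin_mono ?_))
  exact fun x hx => ⟨⟨x, hx.1⟩, hx.2, rfl⟩

end Groth.Agent.S1977
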