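import Groth.Statements.S19771
import Groth.Agent.AbvarAmple.KerFinite
import Groth.Agent.AlgGrp1.Points
import Groth.Agent.Reductive.MultGa
import Groth.Agent.Chow.VeryAmplePn
import Groth.Agent.GrpschAbsch.FibreFlat
import Groth.Agent.AlgGrp1.Geom
import Groth.Agent.Ega2Proj.RelAmple

set_option autoImplicit false
set_option linter.style.haveILetI false
universe u
open CategoryTheory CategoryTheory.Limits MonoidalCategory CartesianMonoidalCategory MonObj GrpObj AlgebraicGeometry
open AbSch

namespace Groth.Agent.S19771

open Groth.Abvar.PicCalc in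
/-- The geometric points of `K(L)` fix the class of `L` on the geometric fibre. -/
theorem finite_points {S : Scheme.{u}} (A : Over S)
    [GrpObj A] [IsProper A.hom] [Smooth A.hom] [GeometricallyConnected A.hom] (L : A.left.Modules)
    (hL : RelAmple.IsRelAmple A.hom L) (hI : PicF.IsInvertible L) (Ω : Type u) [Field Ω] [IsAlgClosed Ω]
    (p : Spec (CommRingCat.of Ω) ⟶ S) :
    {z : Over.mk p ⟶ A | ThetaGrp.IsMumfordTriv A L z}.Finite := by
  let A' := Red.bc p A
  haveI : IsProper A'.hom := inferInstanceAs (IsProper (pullback.snd A.hom p))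
  haveI : Smooth A'.hom := inferInstanceAs (Smooth (pullback.snd A.hom p))
  haveI : GeometricallyConnected A'.hom := inferInstanceAs (GeometricallyConnected (pullback.snd A.hom p))
  haveI : ConnectedSpace A'.left := GeometricallyConnected.connectedSpace_of_subsingleton A'.hom
  haveI : GeometricallyIntegral A'.hom := Groth.AlgGrp1.geometricallyIntegral_of_smooth A'
  let q : A'.left ⟶ A.left := pullback.fst A.hom p
  have hamp : CohB1.IsAmple ((Scheme.Modules.pullback q).obj L) := by
    obtain ⟨V, hV, hsV, -⟩ := exists_isAffineOpen_mem_and_subset (U := (⊤ : S.Opens))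
      (Set.mem_univ (p (IsLocalRing.closedPoint Ω)))
    haveI : IsAffine (V : Scheme.{u}) := hV
    have hpV : Set.range p ⊆ Set.range V.ι := by
      rintro _ ⟨t, rfl⟩
      rw [Scheme.Opens.range_ι, Subsingleton.elim (α := ↥(Spec (CommRingCat.of Ω))) t (IsLocalRing.closedPoint Ω)]
      exact hsV
    let p' := IsOpenImmersion.lift V.ι p hpV
    have hp' : p' ≫ V.ι = p := IsOpenImmersion.lift_fac _ _ _
    let W := A.hom ⁻¹ᵁ V
    have hqW : Set.range q ⊆ Set.range W.ι := by
      rintro _ ⟨t, rfl⟩
      rw [Scheme.Opens.range_ι]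
      show A.hom (q t) ∈ V
      rw [← Scheme.Hom.comp_apply, pullback.condition, Scheme.Hom.comp_apply,
        Subsingleton.elim (α := ↥(Spec (CommRingCat.of Ω))) ((pullback.snd A.hom p) t) (IsLocalRing.closedPoint Ω)]
      exact hsV
    let l := IsOpenImmersion.lift W.ι q hqW
    have hl : l ≫ W.ι = q := IsOpenImmersion.lift_fac _ _ _
    have sq : IsPullback l (pullback.snd A.hom p) (A.hom ∣_ V) p' := by
      refine IsPullback.of_right ?_ ?_ (isPullback_morphismRestrict A.hom V).flip
      · rw [hl, hp']; exact IsPullback.of_hasPullback A.hom p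
      · rw [← cancel_mono V.ι, Category.assoc, Category.assoc, morphismRestrict_ι, ← Category.assoc, hl, hp',
          pullback.condition]
    haveI : IsAffineHom p' := inferInstance
    haveI : IsAffineHom l := MorphismProperty.of_isPullback (P := @IsAffineHom) sq.flip inferInstance
    have h1 := Groth.Chow.isAmple_pullback_of_isAffineHom l (hL.2 ⟨V, hV⟩)
    refine Groth.Chow.isAmple_of_iso ((Scheme.Modules.pullback l).mapIso
      ((Scheme.Modules.restrictFunctorIsoPullback W.ι).app L) ≪≫ (Scheme.Modules.pullbackComp l W.ι).app L ≪≫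
      (Scheme.Modules.pullbackCongr hl).app L) h1
  haveI : Subsingleton (Over.mk p).left := inferInstanceAs (Subsingleton ↥(Spec (CommRingCat.of Ω)))
  let T : Over S := Over.mk p
  let τ : (Over.map p).obj (𝟙_ (Over (Spec (CommRingCat.of Ω)))) ⟶ T := Over.homMk (𝟙 _) (by
    show 𝟙 _ ≫ p = 𝟙 _ ≫ p
    rfl)
  let τ' : T ⟶ (Over.map p).obj (𝟙_ (Over (Spec (CommRingCat.of Ω)))) := Over.homMk (𝟙 _) (by
    show 𝟙 _ ≫ 𝟙 _ ≫ p = p
    rw [Category.id_comp, Category.id_comp])
  let e : (T ⟶ A) → (𝟙_ (Over (Spec (CommRingCat.of Ω))) ⟶ A') := fun z =>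
    (Groth.Reductive.bcPointEquiv p A (𝟙_ _)).symm (τ ≫ z)
  refine Set.Finite.of_finite_image ((Groth.AbvarAmple.finite_fixed (A := A') hamp).subset ?_) (f := e) ?_
  · rintro _ ⟨z, ⟨M, hM, hz⟩, rfl⟩
    show opull (𝟙 A' * (toUnit A' ≫ e z)) (cls hamp.1) = cls hamp.1
    let P : Over S := (Over.map p).obj A'
    let pA : P ⟶ A := Groth.Reductive.bcPointEquiv p A A' (𝟙 A')
    let pT : P ⟶ T := Over.homMk A'.hom rfl
    let c : P ⟶ A ⊗ T := lift pA pT
    have hm : Groth.Reductive.bcPointEquiv p A A' (𝟙 A' * (toUnit A' ≫ e z)) = c ≫ (A ◁ z) ≫ μ[A] := by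
      rw [_root_.map_mul, Groth.Reductive.bcPointEquiv_comp]
      simp only [e, MulEquiv.apply_symm_apply]
      rw [← Category.assoc, ← Category.assoc c, Hom.mul_def]
      congr 1
      refine CartesianMonoidalCategory.hom_ext _ _ ?_ ?_
      · rw [lift_fst, Category.assoc, whiskerLeft_fst, lift_fst]
      · rw [lift_snd, Category.assoc c, whiskerLeft_snd, ← Category.assoc c, lift_snd]
        congr 1
    have hleft : ∀ {Y : Over (Spec (CommRingCat.of Ω))} (x : Y ⟶ A'),
        (Groth.Reductive.bcPointEquiv p A Y x).left = x.left ≫ q := fun {Y} x => by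
      simp [Groth.Reductive.bcPointEquiv, Adjunction.homEquiv_counit, q, A']
    have hq : ∀ {Y : Over (Spec (CommRingCat.of Ω))} (x : Y ⟶ A'), opull x (cls hamp.1) =
        pull (Groth.Reductive.bcPointEquiv p A Y x).left (cls hI) := fun x => by
      rw [hleft, pull_comp, pull_cls q hI]
    have h1 := PicLoc.isInvertible_pullback (snd A T).left hM
    have h2 := PicLoc.isInvertible_pullback (fst A T).left hI
    have h3 := PicLoc.isInvertible_pullback (snd A T ≫ z).left hI
    have heq := (nonempty_iso_iff (isInvertible_tensorMod (isInvertible_tensorMod h1 h2) h3)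
      (PicLoc.isInvertible_pullback _ hI)).mp hz
    rw [cls_tensorMod (isInvertible_tensorMod h1 h2) h3, cls_tensorMod h1 h2, ← pull_cls _ hM, ← pull_cls _ hI,
      ← pull_cls _ hI, ← pull_cls _ hI, eq_one_of_subsingleton (cls hM), map_one, _root_.one_mul,
      Over.comp_left, pull_comp, eq_one_of_subsingleton (pull z.left (cls hI)), map_one, _root_.mul_one] at heq
    rw [hq, hm, Over.comp_left, pull_comp, ← heq, ← pull_comp, ← Over.comp_left, lift_fst, ← hq, opull_id]
  · intro z _ z' _ h
    have h1 : τ ≫ z = τ ≫ z' := (Groth.Reductive.bcPointEquiv p A (𝟙_ _)).symm.injective h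
    have h2 := τ' ≫= h1
    rw [← Category.assoc, ← Category.assoc, show τ' ≫ τ = 𝟙 T from Over.OverMorphism.ext (Category.id_comp _),
      Category.id_comp, Category.id_comp] at h2
    exact h2

/-- Let S be a scheme, A an abelian scheme over S (an S-group scheme whose structure morphism is proper
and smooth with geometrically connected fibres), L an O_A-module that is ample relative to A → S
(the structure morphism is quasi-compact and L restricted to the preimage of every affine open of S
is ample; in particular L is invertible), and i : K → A a closed immersion of S-schemes exhibiting K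
as K(L): the maximal closed subscheme over which the Mumford bundle m^*L ⊗ p_1^*L⁻¹ ⊗ p_2^*L⁻¹ on A
×_S A, restricted to A ×_S K, is the inverse image of an invertible module on K, with its universal
property for S-morphisms T → A. Then K is finite over S. -/
theorem result {S : Scheme.{u}} (A : Over S)
    [GrpObj A] [IsProper A.hom] [Smooth A.hom] [GeometricallyConnected A.hom] (L : A.left.Modules)
    (hL : RelAmple.IsRelAmple A.hom L)
    (K : Over S) (i : K ⟶ A) (hK : ThetaGrp.IsKL A L i) :
    IsFinite K.hom := by
  have hI : PicF.IsInvertible L := Groth.Ega2Proj.isInvertible_of_isRelAmple hL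
  haveI := hK.closed
  haveI : IsProper K.hom := by
    rw [← Over.w i]
    infer_instance
  haveI : LocallyQuasiFinite K.hom := by
    refine .of_finite_preimage_singleton _ fun s => ?_
    let k := S.residueField s
    let Ω := AlgebraicClosure k
    let X : Over (Spec (CommRingCat.of k)) := Over.mk (K.hom.fiberToSpecResidueField s)
    haveI : LocallyOfFiniteType X.hom :=
      inferInstanceAs (LocallyOfFiniteType (pullback.snd K.hom (S.fromSpecResidueField s)))
    haveI : JacobsonSpace X.left := LocallyOfFiniteType.jacobsonSpace X.hom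
    let p : Spec (CommRingCat.of Ω) ⟶ S :=
      Spec.map (CommRingCat.ofHom (algebraMap k Ω)) ≫ S.fromSpecResidueField s
    have hfin := finite_points A L hL hI Ω p
    have key : ∀ x ∈ closedPoints X.left, ∃ z : Over.mk p ⟶ A, ThetaGrp.IsMumfordTriv A L z ∧
        z.left (IsLocalRing.closedPoint Ω) = i.left ((K.hom.fiberι s) x) := by
      intro x hx
      obtain ⟨σ, hσ⟩ := Groth.AlgGrp1.exists_point_over_closed Ω X x hx
      let y : Over.mk p ⟶ K := Over.homMk (σ.left ≫ K.hom.fiberι s) (by
        show (σ.left ≫ pullback.fst _ _) ≫ K.hom = p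
        refine (Category.assoc _ _ _).trans ((congrArg (σ.left ≫ ·) pullback.condition).trans ?_)
        exact (Category.assoc _ _ _).symm.trans (congrArg (· ≫ S.fromSpecResidueField s) (Over.w σ)))
      refine ⟨y ≫ i, (hK.univ _ _).mpr ⟨y, rfl⟩, ?_⟩
      show i.left ((K.hom.fiberι s) (σ.left (IsLocalRing.closedPoint Ω))) = _
      rw [← hσ]
    have hclosed : (closedPoints X.left).Finite := by
      refine Set.Finite.of_finite_image ((hfin.image fun z => z.left (IsLocalRing.closedPoint Ω)).subset ?_)
        (f := fun x => i.left ((K.hom.fiberι s) x)) ?_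
      · rintro _ ⟨x, hx, rfl⟩
        obtain ⟨z, hz, hzx⟩ := key x hx
        exact ⟨z, hz, hzx⟩
      · exact (i.left.isClosedEmbedding.injective.comp (K.hom.fiberι s).isEmbedding.injective).injOn
    have huniv : closedPoints X.left = Set.univ := by
      rw [← closure_closedPoints (X := X.left)]
      refine (IsClosed.closure_eq ?_).symm
      rw [← Set.biUnion_of_singleton (closedPoints X.left)]
      exact hclosed.isClosed_biUnion fun x hx => hx
    rw [← K.hom.range_fiberι s]
    rw [huniv] at hclosed
    haveI : Finite ↥(K.hom.fiber s) := Set.finite_univ_iff.mp hclosed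
    exact Set.finite_range _
  exact IsFinite.of_isProper_of_locallyQuasiFinite K.hom

end Groth.Agent.S19771
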