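import Groth.Statements.S19772
import Groth.Agent.AbvarAmple.KLDim

set_option autoImplicit false
universe u
open CategoryTheory MonoidalCategory CartesianMonoidalCategory MonObj GrpObj AlgebraicGeometry
open AbVar
open Groth.Abvar Groth.Abvar.PicCalc Groth.AbvarAmple

namespace Groth.Agent.S19772

/-- Let X be an abelian variety over a field k (a proper, geometrically integral k-group scheme), L an
invertible O_X-module, H an ample invertible O_X-module, and Φ the Hilbert polynomial of L with
respect to H: the rational polynomial with Φ(n) = χ(X, L ⊗ H^{⊗ n}) for every natural number n. Let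
i : K → X be a closed immersion exhibiting K as K(L) (the maximal closed subscheme over which the
Mumford bundle m^*L ⊗ p_1^*L⁻¹ ⊗ p_2^*L⁻¹, restricted to X ×_k K, is the inverse image of an
invertible module on K, with its universal property). Then the dimension of K (the Krull dimension
of its underlying space) equals the root multiplicity of Φ at 0. -/
theorem result (k : Type u) [Field k] (X : Over (Spec (CommRingCat.of k)))
    [GrpObj X] [IsProper X.hom] [GeometricallyIntegral X.hom] (L : X.left.Modules) (hL : PicF.IsInvertible L)
    (K : Over (Spec (CommRingCat.of k))) (i : K ⟶ X) (hK : ThetaGrp.IsKL X L i)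
    (H : X.left.Modules) (hH : CohB1.IsAmple H) (Φ : Polynomial ℚ)
    (hΦ : ∀ n : ℕ, Φ.eval (n : ℚ) =
      (@Curv2.euler k _ X.left ⟨X.hom⟩ (CohB1.tensorMod L (CohB1.tensorPow H n)) : ℚ)) :
    topologicalKrullDim ↥K.left = ((Φ.rootMultiplicity 0 : ℕ) : WithBot ℕ∞) := by
  refine topologicalKrullDim_KL_eq hL hK hH fun n => ?_
  rw [hΦ n, ← cls_tensorPow hH.1 n, ← cls_tensorMod hL (isInvertible_tensorPow hH.1 n), chi_cls]

end Groth.Agent.S19772
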