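import Groth.Statements.S19779
import Groth.Agent.Misc12.ElkikFEt.Modules
import Groth.Agent.Misc12.ElkikFEt.Settings
import Groth.Agent.Calg7.DenseAway

set_option autoImplicit false
universe u
open Polynomial TensorProduct
open CAlg

namespace Groth.Agent.S19779

/-- For general linear groups, in the case R{t}[1/t] → R((t)), let R be a commutative ring, B = R{t} a
henselization of R[t] along (t), ψ : B → R[[t]] the R[t]-algebra map, L = B[1/t], and L' an
L-algebra identified with R((t)) compatibly with ψ. Then base change along L → L' is a bijection on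
isomorphism classes of finitely generated projective modules: two finitely generated projective
L-modules isomorphic over L' are isomorphic, and every finitely generated projective L'-module is
extended from one over L. (The published statement is the bijection H¹(R{t}[1/t], G) ≅ H¹(R((t)), G)
for every quasi-affine smooth group G; this row is the case of the general linear groups, stated for
finitely generated projective modules of arbitrary rank.) -/
theorem result (R : Type u) [CommRing R]
    (B : Type u) [CommRing B] [Algebra R[X] B] (hB : Hens2.IsPairHenselization R[X] (Ideal.span {(X : R[X])}) B)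
    (ψ : B →ₐ[R[X]] PowerSeries R)
    (L' : Type u) [CommRing L'] [Algebra (Localization.Away (algebraMap R[X] B X)) L'] (e : L' ≃+* LaurentSeries R)
    (he : ∀ b : B, e (algebraMap (Localization.Away (algebraMap R[X] B X)) L' (algebraMap B (Localization.Away (algebraMap R[X] B X)) b)) =
      HahnSeries.ofPowerSeries ℤ R (ψ b)) :
    (∀ (M N : Type u) [AddCommGroup M] [Module (Localization.Away (algebraMap R[X] B X)) M] [Module.Finite (Localization.Away (algebraMap R[X] B X)) M] [Module.Projective (Localization.Away (algebraMap R[X] B X)) M]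
        [AddCommGroup N] [Module (Localization.Away (algebraMap R[X] B X)) N] [Module.Finite (Localization.Away (algebraMap R[X] B X)) N] [Module.Projective (Localization.Away (algebraMap R[X] B X)) N],
        Nonempty (L' ⊗[Localization.Away (algebraMap R[X] B X)] M ≃ₗ[L'] L' ⊗[Localization.Away (algebraMap R[X] B X)] N) → Nonempty (M ≃ₗ[Localization.Away (algebraMap R[X] B X)] N)) ∧
    (∀ (M' : Type u) [AddCommGroup M'] [Module L' M'] [Module.Finite L' M'] [Module.Projective L' M'],
        ∃ (M : Type u) (_ : AddCommGroup M) (_ : Module (Localization.Away (algebraMap R[X] B X)) M),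
          Module.Finite (Localization.Away (algebraMap R[X] B X)) M ∧ Module.Projective (Localization.Away (algebraMap R[X] B X)) M ∧
          Nonempty (L' ⊗[Localization.Away (algebraMap R[X] B X)] M ≃ₗ[L'] M')) := by
  have := Groth.Misc12.ElkikFEt.henselianRing_laurent hB
  have := Groth.Misc12.ElkikFEt.henselianRing_powerSeries (R := R) ψ
  let t := algebraMap R[X] B X
  let L := Localization.Away t
  let L'' := Localization.Away (ψ.toRingHom t)
  have hψ : ψ.toRingHom t = (PowerSeries.X : PowerSeries R) := Groth.Misc12.ElkikFEt.psi_X ψ
  let _ : Algebra (PowerSeries R) L' := (e.symm.toRingHom.comp (HahnSeries.ofPowerSeries ℤ R)).toAlgebra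
  let e₁ : LaurentSeries R ≃ₐ[PowerSeries R] L' :=
    AlgEquiv.ofRingEquiv (f := e.symm) fun f => by
      show e.symm (algebraMap (PowerSeries R) (LaurentSeries R) f) = _
      rfl
  have hloc : IsLocalization.Away (ψ.toRingHom t) L' := by
    rw [hψ]
    exact IsLocalization.isLocalization_of_algEquiv (Submonoid.powers _) e₁
  have hg : ∀ b : B, algebraMap L L' (algebraMap B L b) = algebraMap (PowerSeries R) L' (ψ.toRingHom b) :=
    fun b => e.injective ((he b).trans (e.apply_symm_apply _).symm)
  refine ⟨fun M N _ _ _ _ _ _ _ _ ⟨E⟩ => ?_, fun M' _ _ _ _ => ?_⟩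
  · let _ : Algebra L L'' := (Localization.awayMap ψ.toRingHom t).toAlgebra
    have ht : t ∈ (⊥ : Ideal B).jacobson := HenselianRing.jac (Ideal.mem_span_singleton_self t)
    have ht' : ψ.toRingHom t ∈ (⊥ : Ideal (PowerSeries R)).jacobson :=
      HenselianRing.jac (Ideal.mem_span_singleton_self _)
    let Λ := Groth.Calg7.DenseAway.lattice ψ.toRingHom t
      (Groth.Misc12.ElkikFEt.isoModPowers_laurent hB ψ) ht ht' rfl
    let ε₀ : L'' ≃ₐ[PowerSeries R] L' :=
      IsLocalization.algEquiv (Submonoid.powers (ψ.toRingHom t)) L'' L'
    let ε : L'' ≃ₐ[L] L' := AlgEquiv.ofRingEquiv (f := ε₀.toRingEquiv) fun l => by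
      refine RingHom.congr_fun (IsLocalization.ringHom_ext (Submonoid.powers t)
        (j := ε₀.toRingEquiv.toRingHom.comp (algebraMap L L'')) (k := algebraMap L L') (RingHom.ext fun b => ?_)) l
      show ε₀ (Localization.awayMap ψ.toRingHom t (algebraMap B L b)) = algebraMap L L' (algebraMap B L b)
      rw [hg]
      simp only [L, Localization.awayMap, IsLocalization.Away.map, IsLocalization.map_eq]
      exact ε₀.commutes _
    let tM : L'' ⊗[L] M ≃ₗ[L] L' ⊗[L] M := TensorProduct.congr ε.toLinearEquiv (LinearEquiv.refl L M)
    let tN : L'' ⊗[L] N ≃ₗ[L] L' ⊗[L] N := TensorProduct.congr ε.toLinearEquiv (LinearEquiv.refl L N)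
    have hsM : ∀ (l : L'') (z : L'' ⊗[L] M), tM (l • z) = ε l • tM z := fun l z => by
      induction z with
      | zero => simp
      | tmul a m => simp [tM, TensorProduct.smul_tmul', map_mul]
      | add a b ha hb => rw [smul_add, map_add, ha, hb, map_add, smul_add]
    have hsN : ∀ (l : L'') (z : L'' ⊗[L] N), tN (l • z) = ε l • tN z := fun l z => by
      induction z with
      | zero => simp
      | tmul a m => simp [tN, TensorProduct.smul_tmul', map_mul]
      | add a b ha hb => rw [smul_add, map_add, ha, hb, map_add, smul_add]
    let E'' : L'' ⊗[L] M ≃ₗ[L''] L'' ⊗[L] N :=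
      { toFun := fun z => tN.symm (E (tM z))
        invFun := fun z => tM.symm (E.symm (tN z))
        left_inv := fun z => by simp
        right_inv := fun z => by simp
        map_add' := fun a b => by simp
        map_smul' := fun l z => tN.injective (by
          rw [LinearEquiv.apply_symm_apply, RingHom.id_apply, hsM, map_smul, hsN, LinearEquiv.apply_symm_apply]) }
    exact Groth.Calg7.DenseApprox.nonempty_equiv Λ E''
  · exact Groth.Misc12.ElkikFEt.exists_module_descent (L := L) ψ.toRingHom t
      (Groth.Misc12.ElkikFEt.isoModPowers_laurent hB ψ) (N₀ := 0)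
      (Groth.Misc12.ElkikFEt.bounded_laurent hB) (N₁ := 0)
      (fun f hf => by rw [hψ] at hf ⊢; exact Groth.Misc12.ElkikFEt.bounded_powerSeries f hf) hg M'

end Groth.Agent.S19779
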