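import Groth.Statements.S19790
import Groth.Agent.GitMu.CocharBound
import Mathlib.Analysis.Real.Sqrt

set_option autoImplicit false
universe u
open CategoryTheory MonoidalCategory CartesianMonoidalCategory MonObj AlgebraicGeometry Opposite
open GIT

namespace Groth.Agent.S19790

/-- Let k be an algebraically closed field, G a connected reductive algebraic group over k, i : T → G a
maximal torus, X a scheme proper over k on which G acts by σ, and L an ample G-linearised line
bundle on X in total-space form. Fix a norm on one-parameter subgroups as for the flag complex: a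
symmetric biadditive form b on the one-parameter subgroups of T (a group under pointwise product)
with rational values, positive on every non-trivial one-parameter subgroup, and a real function ‖·‖
on the one-parameter subgroups of G such that for every one-parameter subgroup λ of T and every
k-point γ of G the conjugate u ↦ γ·i(λ(u))·γ⁻¹ has ‖γ·(i∘λ)·γ⁻¹‖ ≥ 0 and ‖γ·(i∘λ)·γ⁻¹‖² = b(λ, λ)
(every one-parameter subgroup of G is conjugate under G(k) to one of T, so this determines ‖·‖ on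
all of them; consistency forces b to be invariant under the Weyl group, and such forms exist). Then
there is a constant K such that |μ^L(x, λ)| ≤ K·‖λ‖ for every k-point x of X and every one-parameter
subgroup λ of G: whenever the numerical function of x at λ (the limit of λ(u)·x as u → 0 exists and
𝔾_m acts on the fibre of L over it with exponent m) takes the value m, |m| ≤ K·‖λ‖. In other words
the normalised function ν^L(x, λ) = μ^L(x, λ)/‖λ‖ is bounded in absolute value, uniformly in x and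
λ. (The published statement is for any reductive G; this row takes G connected.) -/
theorem result (k : Type u) [Field k] [IsAlgClosed k]
    (G X T : Over (Spec (CommRingCat.of k))) [GrpObj G] [GrpObj T] (hG : Red.IsReductive G)
    (i : T ⟶ G) [IsMonHom i] (hi : Red.IsMaximalTorus i) [IsProper X.hom]
    (a : AlgGrp.Action G X) (B : GLinSh.LinBun G a) (hB : HMNum.AmpleCover B)
    (b : (Red.Gm (Spec (CommRingCat.of k)) ⟶ T) → (Red.Gm (Spec (CommRingCat.of k)) ⟶ T) → ℚ)
    (hb_add : ∀ (l₁ l₂ l₃ : Red.Gm (Spec (CommRingCat.of k)) ⟶ T) [IsMonHom l₁] [IsMonHom l₂] [IsMonHom l₃],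
      b (l₁ * l₂) l₃ = b l₁ l₃ + b l₂ l₃)
    (hb_symm : ∀ (l₁ l₂ : Red.Gm (Spec (CommRingCat.of k)) ⟶ T) [IsMonHom l₁] [IsMonHom l₂], b l₁ l₂ = b l₂ l₁)
    (hb_pos : ∀ (l : Red.Gm (Spec (CommRingCat.of k)) ⟶ T) [IsMonHom l], l ≠ 1 → 0 < b l l)
    (nrm : (Red.Gm (Spec (CommRingCat.of k)) ⟶ G) → ℝ)
    (hnrm : ∀ (l : Red.Gm (Spec (CommRingCat.of k)) ⟶ T) [IsMonHom l] (g : 𝟙_ (Over (Spec (CommRingCat.of k))) ⟶ G),
      0 ≤ nrm ((toUnit _ ≫ g) * (l ≫ i) * (toUnit _ ≫ g)⁻¹) ∧
        nrm ((toUnit _ ≫ g) * (l ≫ i) * (toUnit _ ≫ g)⁻¹) ^ 2 = ((b l l : ℚ) : ℝ)) :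
    ∃ K : ℝ, ∀ (x : 𝟙_ (Over (Spec (CommRingCat.of k))) ⟶ X) (l : Red.Gm (Spec (CommRingCat.of k)) ⟶ G) [IsMonHom l] (m : ℤ),
      HMNum.IsMu B l x m → |(m : ℝ)| ≤ K * nrm l := by
  haveI := hG.1
  haveI := hG.2.1
  haveI : IsAffine G.left := isAffine_of_isAffineHom G.hom
  haveI : ConnectedSpace G.left := by
    let s : (Spec (CommRingCat.of k) : Scheme.{u}) := IsLocalRing.closedPoint k
    haveI : ConnectedSpace (Red.bc (Red.geomPt s) G).left := (hG.2.2 s).2.2.1
    exact Groth.AlgGrp1.connectedSpace_of_bc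
      (K := AlgebraicClosure ((Spec (CommRingCat.of k)).residueField s)) (φ := Red.geomPt s)
  have hT : Red.IsTorus T := hi.2.2.1
  obtain ⟨J, _, ℓ, hadd, hℓ⟩ := Groth.GitMu.exists_linear_forms B i hT hB
  choose C hC hb using fun q => Groth.GitMu.exists_bound_cochar hT b hb_add hb_symm hb_pos (ℓ q) (hadd q)
  refine ⟨∑ q, Real.sqrt (C q : ℝ), fun x l _ m hm => ?_⟩
  obtain ⟨g, l₀, hl₀, hl⟩ := Groth.GitMu.exists_cochar_conj hi l
  haveI := hl₀
  obtain ⟨hn0, hn2⟩ := hnrm l₀ g
  have he : (toUnit _ ≫ g) * (l₀ ≫ i) * (toUnit _ ≫ g)⁻¹ = l := hl.symm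
  rw [he] at hn0 hn2
  have hm' : HMNum.IsMu B (l₀ ≫ i) (lift g⁻¹ x ≫ a.act) m := by
    refine (Groth.GitMu.isMu_act_iff B g⁻¹ (l := l₀ ≫ i) (l' := l) ?_ (inferInstanceAs (Subsingleton (PrimeSpectrum k)))
      (inferInstanceAs (Nonempty (PrimeSpectrum k))) x m).2 hm
    rw [GrpObj.comp_inv, _root_.inv_inv, he]
  obtain ⟨I, hI⟩ := hℓ (lift g⁻¹ x ≫ a.act)
  obtain ⟨-, q, -, hq⟩ := hI l₀ m hm'
  have h1 : ((m : ℝ)) ^ 2 ≤ (C q : ℝ) * nrm l ^ 2 := by
    have := hb q l₀
    rw [hq] at this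
    rw [hn2]
    exact_mod_cast this
  have h2 : |(m : ℝ)| ≤ Real.sqrt (C q : ℝ) * nrm l := by
    refine abs_le_of_sq_le_sq ?_ (mul_nonneg (Real.sqrt_nonneg _) hn0)
    rwa [mul_pow, Real.sq_sqrt (by exact_mod_cast hC q)]
  refine h2.trans (mul_le_mul_of_nonneg_right ?_ hn0)
  exact Finset.single_le_sum (f := fun q => Real.sqrt (C q : ℝ)) (fun j _ => Real.sqrt_nonneg _) (Finset.mem_univ q)

end Groth.Agent.S19790
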