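import Groth.Statements.S19791
import Groth.Agent.GitMu.Translate

set_option autoImplicit false
universe u
open CategoryTheory MonoidalCategory CartesianMonoidalCategory MonObj AlgebraicGeometry Opposite
open GIT

namespace Groth.Agent.S19791

/-- Let k be an algebraically closed field, G a connected reductive algebraic group over k acting by σ
on a scheme X proper over k, L an ample G-linearised line bundle on X in total-space form, and ‖·‖ a
real-valued function on the one-parameter subgroups of G invariant under conjugation by k-points of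
G (‖γ·λ·γ⁻¹‖ = ‖λ‖; nothing else is assumed of ‖·‖). For a k-point x of X consider the set of real
numbers μ^L(x, λ)/‖λ‖, where λ runs over the non-trivial one-parameter subgroups of G and μ^L(x, λ)
= m means that the limit of λ(u)·x as u → 0 exists and 𝔾_m acts on the fibre of L over it with
exponent m; its infimum is the number M^L(x). Then for every k-point g of G the sets attached to g·x
and to x coincide, so that M^L(g·x) = M^L(x). (The published statement is for any reductive G, not
necessarily connected, acting on a projective variety; this row takes G connected and X any scheme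
proper over k.) -/
theorem result (k : Type u) [Field k] [IsAlgClosed k]
    (G X : Over (Spec (CommRingCat.of k))) [GrpObj G] (hG : Red.IsReductive G) [IsProper X.hom]
    (a : AlgGrp.Action G X) (B : GLinSh.LinBun G a) (hB : HMNum.AmpleCover B)
    (nrm : (Red.Gm (Spec (CommRingCat.of k)) ⟶ G) → ℝ)
    (hnrm : ∀ (l : Red.Gm (Spec (CommRingCat.of k)) ⟶ G) [IsMonHom l] (g : 𝟙_ (Over (Spec (CommRingCat.of k))) ⟶ G),
      nrm ((toUnit _ ≫ g) * l * (toUnit _ ≫ g)⁻¹) = nrm l)
    (x : 𝟙_ (Over (Spec (CommRingCat.of k))) ⟶ X) (g : 𝟙_ (Over (Spec (CommRingCat.of k))) ⟶ G) (q : ℝ) :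
    (∃ (l : Red.Gm (Spec (CommRingCat.of k)) ⟶ G) (_ : IsMonHom l) (m : ℤ),
        l ≠ 1 ∧ HMNum.IsMu B l (lift g x ≫ a.act) m ∧ q = (m : ℝ) / nrm l) ↔
      ∃ (l : Red.Gm (Spec (CommRingCat.of k)) ⟶ G) (_ : IsMonHom l) (m : ℤ),
        l ≠ 1 ∧ HMNum.IsMu B l x m ∧ q = (m : ℝ) / nrm l := by
  have hS : Subsingleton (𝟙_ (Over (Spec (CommRingCat.of k)))).left :=
    inferInstanceAs (Subsingleton (PrimeSpectrum k))
  have hS' : Nonempty (𝟙_ (Over (Spec (CommRingCat.of k)))).left :=
    inferInstanceAs (Nonempty (PrimeSpectrum k))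
  set c : Red.Gm (Spec (CommRingCat.of k)) ⟶ G := toUnit _ ≫ g with hc
  have hcinv : toUnit (Red.Gm (Spec (CommRingCat.of k))) ≫ g⁻¹ = c⁻¹ := GrpObj.comp_inv _ _
  constructor
  · rintro ⟨l, hl, m, hne, hmu, hq⟩
    have : IsMonHom (c⁻¹ * l * c) := Groth.GitMu.isMonHom_conj g l
    refine ⟨c⁻¹ * l * c, this, m, ?_, (Groth.GitMu.isMu_act_iff B g rfl hS hS' x m).1 hmu, ?_⟩
    · intro h
      exact hne (by simpa [_root_.mul_assoc] using congrArg (fun z => c * z * c⁻¹) h)
    · have := hnrm l g⁻¹
      rw [hcinv, inv_inv] at this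
      rw [hq, this]
  · rintro ⟨l, hl, m, hne, hmu, hq⟩
    have hconj : IsMonHom (c * l * c⁻¹) := by
      have := Groth.GitMu.isMonHom_conj g⁻¹ l
      rwa [hcinv, inv_inv] at this
    refine ⟨c * l * c⁻¹, hconj, m, ?_, (Groth.GitMu.isMu_act_iff B g ?_ hS hS' x m).2 hmu, ?_⟩
    · intro h
      exact hne (by simpa [_root_.mul_assoc] using congrArg (fun z => c⁻¹ * z * c) h)
    · simp [hc, _root_.mul_assoc]
    · rw [hq, hnrm l g]

end Groth.Agent.S19791
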