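import Groth.Statements.S19794
import Groth.Agent.Hopf.Cochar.Normal
-- import your own Groth.Agent.* helpers here

set_option autoImplicit false
open CategoryTheory MonoidalCategory CartesianMonoidalCategory MonObj GrpObj AlgebraicGeometry
universe u
open SGA3x

namespace Groth.Agent.S19794

/-- Let S be a connected, normal, locally Noetherian scheme, T an S-torus and T₀ ⟶ T its unique maximal
split subtorus, i.e. a split subtorus through which every split subtorus of T factors. Then the
formation of T₀ commutes with Zariski localisation: for every open U ⊆ S, the restriction T₀|_U ⟶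
T|_U is the greatest split subtorus of T|_U, that is, every split subtorus T' ⟶ T|_U with T' ≅
D_U(ℤ^{r'}) factors through T₀|_U. -/
theorem result {S : Scheme.{u}} [ConnectedSpace ↥S]
    [IsLocallyNoetherian S] (hnorm : ∀ x : ↥S, IsDomain (S.presheaf.stalk x) ∧ IsIntegrallyClosed (S.presheaf.stalk x))
    {T T₀ : Over S} [GrpObj T] [GrpObj T₀] (hT : Red.IsTorus T) (j₀ : T₀ ⟶ T) [IsMonHom j₀] [Mono j₀] (r₀ : ℕ)
    (hT₀ : Red.IsSplitTorusWith (Fin r₀ → ℤ) T₀)
    (hmax : ∀ (T' : Over S) [GrpObj T'] (j' : T' ⟶ T) [IsMonHom j'] [Mono j'] (r' : ℕ),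
      Red.IsSplitTorusWith (Fin r' → ℤ) T' → ∃ g : T' ⟶ T₀, g ≫ j₀ = j')
    (U : S.Opens) (T' : Over (U : Scheme.{u})) [GrpObj T'] (j' : T' ⟶ Red.bc U.ι T) [IsMonHom j'] [Mono j']
    (r' : ℕ) (hT' : Red.IsSplitTorusWith (Fin r' → ℤ) T') :
    ∃ g : T' ⟶ Red.bc U.ι T₀, g ≫ (Over.pullback U.ι).map j₀ = j' := by
  exact Groth.Cochar.exists_factor_open hnorm hT j₀ hmax U T' j' hT'

end Groth.Agent.S19794
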