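import Groth.Statements.S19795
import Groth.Agent.Hopf.GenExt.Cochar
import Groth.Agent.Reductive.TorusMT

set_option autoImplicit false
open CategoryTheory MonoidalCategory CartesianMonoidalCategory MonObj GrpObj AlgebraicGeometry
universe u
open SGA3x

namespace Groth.Agent.S19795

/-- Let S be an integral, normal, locally Noetherian scheme with function field K, f : Spec K ⟶ S the
inclusion of the generic point, and T an S-torus. Then X_*(T)(S) = X_*(T)(K): every homomorphism of
K-groups (𝔾_{m,S}) ×_S Spec K ⟶ T ×_S Spec K is the base change along f of exactly one homomorphism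
of S-groups 𝔾_{m,S} ⟶ T. (The published statement assumes S connected, normal and locally
Noetherian, which makes S integral.) -/
theorem result {S : Scheme.{u}} [IsIntegral S]
    [IsLocallyNoetherian S] (hnorm : ∀ x : ↥S, IsDomain (S.presheaf.stalk x) ∧ IsIntegrallyClosed (S.presheaf.stalk x))
    {T : Over S} [GrpObj T] (hT : Red.IsTorus T)
    (lamK : Red.bc (S.fromSpecStalk (genericPoint S)) (Red.Gm S) ⟶ Red.bc (S.fromSpecStalk (genericPoint S)) T)
    [IsMonHom lamK] :
    ∃! lam : Red.Gm S ⟶ T, IsMonHom lam ∧ (Over.pullback (S.fromSpecStalk (genericPoint S))).map lam = lamK := by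
  have hbij : Function.Bijective (S.residue (genericPoint S)).hom := by
    have : IsField (S.presheaf.stalk (genericPoint S)) := (inferInstance : Field S.functionField).toIsField
    let := this.toField
    exact ⟨(S.residue (genericPoint S)).hom.injective, S.residue_surjective _⟩
  have : IsIso (S.residue (genericPoint S)) :=
    (ConcreteCategory.isIso_iff_bijective _).mpr hbij
  have hfwd : ∀ Z : Over S, Groth.GenExt.Gen (S.fromSpecResidueField (genericPoint S)) Z →
      Groth.GenExt.Gen (S.fromSpecStalk (genericPoint S)) Z := fun Z ⟨l, hl⟩ =>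
    ⟨l ≫ Spec.map (S.residue (genericPoint S)), by rw [Category.assoc]; exact hl⟩
  have := Groth.GenExt.smooth_Gm S
  have hLT := Groth.Reductive.MTInt.locTriv_of_multTypeFT (Groth.Reductive.FreeDiag.isMultTypeFT_of_isTorus hT)
  let Φ := Groth.GenExt.GenHom.ofHom (S.fromSpecStalk (genericPoint S)) lamK
  obtain ⟨u, hu, hval⟩ := Groth.GenExt.exists_ext (fun x => (hnorm x).2)
    (Groth.GenExt.connectedSpace_fibre_Gm S) hLT (Groth.GenExt.GenHom.change hfwd Φ)
  have hgen : Groth.GenExt.Gen (S.fromSpecResidueField (genericPoint S))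
      ((Over.map (S.fromSpecStalk (genericPoint S))).obj
        (Red.bc (S.fromSpecStalk (genericPoint S)) (Red.Gm S))) :=
    ⟨(Red.bc (S.fromSpecStalk (genericPoint S)) (Red.Gm S)).hom ≫ inv (Spec.map (S.residue (genericPoint S))), by
      rw [Category.assoc, Scheme.fromSpecResidueField, IsIso.inv_hom_id_assoc]; rfl⟩
  refine ⟨u, ⟨hu, ?_⟩, fun lam' ⟨hlam', he⟩ => ?_⟩
  · apply (Groth.Reductive.bcPointEquiv (S.fromSpecStalk (genericPoint S)) T _).injective
    rw [Groth.GenExt.bcPointEquiv_map, hval _ hgen]
    exact Groth.GenExt.GenHom.ofHom_univ _ lamK _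
  · refine Groth.GenExt.hom_ext_generic hLT.1 fun Z hZ x => ?_
    rw [hval Z hZ x]
    subst he
    exact (Groth.GenExt.GenHom.ofHom_val_map _ lam' (hfwd Z hZ) x).symm

end Groth.Agent.S19795
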