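import Groth.Statements.S19797
import Groth.Agent.CliffIndex.Castelnuovo
import Groth.Agent.CliffIndex.MapSeries
-- import your own Groth.Agent.* helpers here

set_option autoImplicit false
set_option backward.isDefEq.respectTransparency.types false
universe u
open CategoryTheory CategoryTheory.Limits AlgebraicGeometry Opposite
open Curves

namespace Groth.Agent.S19797

open Groth.CliffIndex Groth.CurveBridge Groth.Chow
open scoped Groth.CurveBridge

/-- Let X be a smooth projective curve of genus g over an algebraically closed field k of characteristic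
0 (integral, proper over k, of dimension one, all local rings regular) and ψ : X ⟶ P^r_k a
k-morphism which is non-degenerate (every nonzero global section of O(1) pulls back to a nonzero
section of ψ^*O(1)), with deg ψ^*O(1) = 2r + c for some 0 ≤ c ≤ r - 2; equivalently ψ is the map of
a base-point-free linear system of dimension r and degree 2r + c. Suppose ψ is birational onto its
image: ψ = φ ≫ j with j : Y ⟶ P^r_k an integral closed subscheme and φ : X ⟶ Y restricting to an
isomorphism over a nonempty open subset of Y. Then g ≤ r + 2c + 1. (The published statement adds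
that in the case g = r + 2c + 1 the curve is trigonal when c is positive and the system is canonical
when c = 0; that refinement is not stated here.) -/
theorem result (k : Type u) [Field k] [IsAlgClosed k] [CharZero k] (X : Scheme.{u}) [X.Over (Spec (CommRingCat.of k))]
    [IsIntegral X] [IsProper (X ↘ (Spec (CommRingCat.of k)))] (hdim : topologicalKrullDim X = 1)
    (hreg : ∀ x : X, IsRegularLocalRing (X.presheaf.stalk x))
    (r c : ℕ) (hc : c + 2 ≤ r)
    (Y : Scheme.{u}) [IsIntegral Y] (j : Y ⟶ CohB1.ProjSpace r k) [IsClosedImmersion j] (φ : X ⟶ Y)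
    (hφ : φ ≫ j ≫ CohB1.ProjSpace.toSpec r k = X ↘ Spec (CommRingCat.of k))
    (hbir : ∃ U : Y.Opens, (U : Set Y).Nonempty ∧ IsIso (φ ∣_ U))
    (hnd : ∀ s : LinSer.Sect (CohB1.ProjSpace r k) (Twist.twistProjSpace r k 1), s ≠ 0 → OmegaSh.pullSect (φ ≫ j) (Twist.twistProjSpace r k 1) ⊤ s ≠ 0)
    (hdeg : Curv2.deg k X ((Scheme.Modules.pullback (φ ≫ j)).obj (Twist.twistProjSpace r k 1)) 1 = 2 * r + c) :
    Curv2.genus k X ≤ (r : ℤ) + 2 * c + 1 := by
  have h : IsRegCurve X := ⟨hdim, hreg⟩
  have hK := Groth.CurveBridge.isFunctionField (k := k) (X := X) h.dim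
  have hψ : (φ ≫ j) ≫ CohB1.ProjSpace.toSpec r k = X ↘ Spec (CommRingCat.of k) := by
    rw [Category.assoc]; exact hφ
  obtain ⟨D, hb, hd, hl, hg⟩ := MapSeries.exists_series h r (φ ≫ j) hψ hnd
  have := GenPos.genus_le_plus hK hb (hg (MapSeries.stalk_surjective_of_birational j φ hbir)) hc hl
    (hd.symm.trans hdeg)
  rw [genus_eq h hK]
  exact this

end Groth.Agent.S19797
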