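import Groth.Statements.S19799
import Mathlib
import Groth.Agent.S17335

set_option autoImplicit false
universe u v w
open scoped TensorProduct
open CAlg
open scoped TensorProduct

namespace Groth.Agent.S19799

/-- Let k be an algebraically closed field and A, B commutative k-algebras, each finite-dimensional as a
k-vector space. Then reduction commutes with tensor products: the kernel of the canonical surjection
A ⊗_k B ⟶ (A/nilradical A) ⊗_k (B/nilradical B) equals the nilradical of A ⊗_k B, so that this
surjection induces an isomorphism (A ⊗_k B)_red ≅ A_red ⊗_k B_red and in particular A_red ⊗_k B_red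
is reduced. -/
theorem result (k : Type u) [Field k]
    [IsAlgClosed k] (A : Type v) [CommRing A] [Algebra k A] [Module.Finite k A]
    (B : Type w) [CommRing B] [Algebra k B] [Module.Finite k B] :
    RingHom.ker (Algebra.TensorProduct.map (Ideal.Quotient.mkₐ k (nilradical A))
      (Ideal.Quotient.mkₐ k (nilradical B))).toRingHom = nilradical (A ⊗[k] B) := by
  have : Algebra.FormallyUnramified k (A ⧸ nilradical A) := by
    obtain ⟨hfin, hsurj, hker⟩ := Groth.Agent.S17335.result k A
    let e : (A ⧸ nilradical A) ≃ₐ[k] ((A →ₐ[k] k) → k) :=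
      (Ideal.quotientEquivAlgOfEq k hker.symm).trans (Ideal.quotientKerAlgEquivOfSurjective hsurj)
    have := (Algebra.FormallyEtale.iff_of_equiv e).2 inferInstance
    infer_instance
  have : Algebra.FormallyUnramified k (B ⧸ nilradical B) := by
    obtain ⟨hfin, hsurj, hker⟩ := Groth.Agent.S17335.result k B
    let e : (B ⧸ nilradical B) ≃ₐ[k] ((B →ₐ[k] k) → k) :=
      (Ideal.quotientEquivAlgOfEq k hker.symm).trans (Ideal.quotientKerAlgEquivOfSurjective hsurj)
    have := (Algebra.FormallyEtale.iff_of_equiv e).2 inferInstance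
    infer_instance
  have : Algebra.FormallyUnramified k ((A ⧸ nilradical A) ⊗[k] (B ⧸ nilradical B)) :=
    Algebra.FormallyUnramified.comp k (A ⧸ nilradical A) _
  have hred : IsReduced ((A ⧸ nilradical A) ⊗[k] (B ⧸ nilradical B)) := Algebra.FormallyUnramified.isReduced_of_field k _
  refine le_antisymm ?_ fun x hx => ?_
  · show RingHom.ker (Algebra.TensorProduct.map (Ideal.Quotient.mkₐ k (nilradical A)) (Ideal.Quotient.mkₐ k (nilradical B))) ≤ _
    rw [Algebra.TensorProduct.map_ker _ _ (Ideal.Quotient.mkₐ_surjective k _) (Ideal.Quotient.mkₐ_surjective k _)]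
    refine sup_le (Ideal.map_le_iff_le_comap.2 fun a ha => ?_) (Ideal.map_le_iff_le_comap.2 fun b hb => ?_)
    · rw [RingHom.mem_ker, Ideal.Quotient.mkₐ_eq_mk, Ideal.Quotient.eq_zero_iff_mem, mem_nilradical] at ha
      exact mem_nilradical.2 (ha.map _)
    · rw [RingHom.mem_ker, Ideal.Quotient.mkₐ_eq_mk, Ideal.Quotient.eq_zero_iff_mem, mem_nilradical] at hb
      exact mem_nilradical.2 (hb.map _)
  · exact RingHom.mem_ker.2 (IsNilpotent.eq_zero ((mem_nilradical.1 hx).map _))

end Groth.Agent.S19799
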