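import Groth.Statements.S19804
import Mathlib.RingTheory.Spectrum.Prime.FreeLocus
import Mathlib.Topology.Connected.Clopen
-- import your own Groth.Agent.* helpers here

set_option autoImplicit false
open scoped TensorProduct
universe u v w
open Brauer

namespace Groth.Agent.S19804

/-- Let R be a commutative ring with Spec R connected, A an Azumaya R-algebra and e an idempotent
element of A. If for some nonzero commutative R-algebra R' the element 1 ⊗ e of R' ⊗_R A is 0, then
e = 0; and if 1 ⊗ e = 1 in R' ⊗_R A, then e = 1. (The published statement is for an Azumaya algebra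
over a connected scheme S and base change to an arbitrary nonempty S-scheme T; this row takes S and
T affine.) -/
theorem result {R : Type u} [CommRing R]
    [ConnectedSpace (PrimeSpectrum R)] {A : Type v} [Ring A] [Algebra R A] [IsAzumaya R A]
    (e : A) (he : IsIdempotentElem e) (R' : Type w) [CommRing R'] [Nontrivial R'] [Algebra R R'] :
    ((1 : R') ⊗ₜ[R] e = (0 : R' ⊗[R] A) → e = 0) ∧ ((1 : R') ⊗ₜ[R] e = (1 : R' ⊗[R] A) → e = 1) := by
  have key : ∀ d : A, IsIdempotentElem d → (1 : R') ⊗ₜ[R] d = (0 : R' ⊗[R] A) → d = 0 := by
    intro d hd h0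
    let M := LinearMap.range (LinearMap.mulLeft R d)
    let p : A →ₗ[R] M := (LinearMap.mulLeft R d).rangeRestrict
    have hp : p ∘ₗ M.subtype = LinearMap.id := by
      refine LinearMap.ext fun ⟨x, y, hy⟩ => Subtype.ext ?_
      subst hy
      show d * (d * y) = d * y
      rw [← mul_assoc, hd.eq]
    have : Module.Projective R M := Module.Projective.of_split M.subtype p hp
    have : Module.Finite R M := Module.Finite.of_surjective p fun ⟨x, y, hy⟩ => ⟨y, Subtype.ext hy⟩
    have : Module.FinitePresentation R M := Module.finitePresentation_of_projective _ _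
    have hzero : Subsingleton (R' ⊗[R] M) := by
      refine subsingleton_of_forall_eq 0 fun z => ?_
      have hinj : Function.Injective (M.subtype.baseChange R') := Function.LeftInverse.injective (g := p.baseChange R') fun w => by
        rw [← LinearMap.comp_apply, ← LinearMap.baseChange_comp, hp, LinearMap.baseChange_id]; rfl
      apply hinj
      rw [map_zero]
      induction z using TensorProduct.induction_on with
      | zero => simp
      | add x y hx hy => rw [map_add, hx, hy, add_zero]
      | tmul r m =>
        obtain ⟨y, hy⟩ := m.2
        show r ⊗ₜ[R] (m : A) = (0 : R' ⊗[R] A)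
        rw [← hy, show r ⊗ₜ[R] (LinearMap.mulLeft R d y) = ((1 : R') ⊗ₜ[R] d) * (r ⊗ₜ[R] y) by
          rw [Algebra.TensorProduct.tmul_mul_tmul, one_mul]; rfl, h0, zero_mul]
    obtain ⟨q⟩ : Nonempty (PrimeSpectrum R') := inferInstance
    have hq : Module.rankAtStalk (R := R) M (q.comap (algebraMap R R')) = 0 := by
      rw [← Module.rankAtStalk_baseChange (S := R'), Module.rankAtStalk_eq_zero_of_subsingleton]
      rfl
    have hM : Subsingleton M := Module.rankAtStalk_eq_zero_iff_subsingleton.1 <| funext fun p =>
      ((Module.isLocallyConstant_rankAtStalk (R := R) (M := M)).apply_eq_of_preconnectedSpace p _).trans hq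
    have := congrArg Subtype.val (hM.elim (p 1) 0)
    simpa [p] using this
  refine ⟨key e he, fun h => ?_⟩
  have h2 := key (1 - e) he.one_sub (by rw [TensorProduct.tmul_sub, h, Algebra.TensorProduct.one_def, sub_self])
  exact (sub_eq_zero.1 h2).symm

end Groth.Agent.S19804
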