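import Groth.Statements.S19807
import Groth.Agent.Misc13.Volume

set_option autoImplicit false
universe u
open CategoryTheory CategoryTheory.Limits AlgebraicGeometry
open scoped ENNReal
open Variety

namespace Groth.Agent.S19807

/-- Let X be a projective variety of dimension d over a field k (a geometrically integral scheme, proper
over k, admitting an ample invertible module, with dim X = d) and L an invertible O_X-module; write
vol(L) for the upper limit of dim_k H^0(X, L^m) / m^d as m → ∞, taken in the extended non-negative
reals (the volume of L up to the factor d!). If E is an invertible O_X-module admitting a nonzero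
global section (an effective Cartier divisor), then vol(L) ≤ vol(L ⊗ E): the volume increases in
effective directions. -/
theorem result (k : Type u) [Field k] (X : Scheme.{u})
    [X.Over (Spec (CommRingCat.of k))] [IsIntegral X] [GeometricallyIntegral (X ↘ Spec (CommRingCat.of k))]
    [IsProper (X ↘ Spec (CommRingCat.of k))]
    (hproj : ∃ A : X.Modules, CohB1.IsAmple A) (d : ℕ) (hd : topologicalKrullDim X = d)
    (L : X.Modules) (hL : PicF.IsInvertible L)
    (E : X.Modules) (hE : PicF.IsInvertible E) (s : Coh.structureModule X ⟶ E) (hs : s ≠ 0) :
    Filter.limsup (fun m : ℕ => (Module.finrank k (Coh.HH X (CohB1.tensorPow L m) 0) : ℝ≥0∞) /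
        (m : ℝ≥0∞) ^ d) Filter.atTop ≤
      Filter.limsup (fun m : ℕ => (Module.finrank k (Coh.HH X (CohB1.tensorPow (CohB1.tensorMod L E) m) 0) : ℝ≥0∞) /
        (m : ℝ≥0∞) ^ d) Filter.atTop := by
  refine Groth.Misc13.Volume.limsup_le_tensor k hL hE ?_
  exact (Groth.Misc13.BigNum.hasSection_iff E).1 ⟨s, hs⟩

end Groth.Agent.S19807
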