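import Groth.Statements.S19809
import Mathlib
import Groth.Agent.BinForms.Basic
import Groth.Agent.BinForms.Factor

set_option autoImplicit false
universe u
open RatCurv

namespace Groth.Agent.S19809

open MvPolynomial in
theorem no_cubic (K : Type u) [Field K] [IsAlgClosed K] (V : Submodule K (MvPolynomial (Fin 2) K))
    (hV : V ≤ homogeneousSubmodule (Fin 2) K 5) (hdim : Module.finrank K ↥V = 4)
    (hsep : ∀ e ∈ homogeneousSubmodule (Fin 2) K 2, e ≠ 0 →
      ∀ F ∈ homogeneousSubmodule (Fin 2) K 5, ∃ v ∈ V,
        ∃ h ∈ homogeneousSubmodule (Fin 2) K 3, F = v + e * h)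
    (g : MvPolynomial (Fin 2) K) (hg : g ∈ homogeneousSubmodule (Fin 2) K 3) (hg0 : g ≠ 0)
    (hgV : (homogeneousSubmodule (Fin 2) K 2).map (LinearMap.mulLeft K g) ≤ V) : False := by
  obtain ⟨l, hl, hlg⟩ := Groth.BinForms.exists_linear_dvd (by norm_num) hg
  obtain ⟨q, hq, rfl⟩ := Groth.BinForms.exists_homogeneous_cofactor (d := 2) hg hl hlg
  have hq0 : q ≠ 0 := fun h => hg0 (by rw [h, zero_mul])
  let A := (homogeneousSubmodule (Fin 2) K 2).map (LinearMap.mulLeft K (q * l))
  let B := (homogeneousSubmodule (Fin 2) K 3).map (LinearMap.mulLeft K q)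
  have hAB : A ≤ V ⊓ B := by
    refine le_inf hgV ?_
    rintro _ ⟨h, hh, rfl⟩
    exact ⟨l * h, hl.mul hh, (mul_assoc q l h).symm⟩
  have hA : Module.finrank K A = 3 := by
    rw [← (Submodule.equivMapOfInjective _ (mul_right_injective₀ hg0) _).finrank_eq,
      Groth.BinForms.finrank_homogeneous]
  have hB : Module.finrank K B = 4 := by
    rw [← (Submodule.equivMapOfInjective _ (mul_right_injective₀ hq0) _).finrank_eq,
      Groth.BinForms.finrank_homogeneous]
  have hH : homogeneousSubmodule (Fin 2) K 5 ≤ V ⊔ B := fun F hF => by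
    obtain ⟨v, hv, h, hh, rfl⟩ := hsep q hq hq0 F hF
    exact Submodule.add_mem _ (Submodule.mem_sup_left hv) (Submodule.mem_sup_right ⟨h, hh, rfl⟩)
  have : Module.Finite K V := Module.finite_of_finrank_eq_succ hdim
  have : Module.Finite K B := Module.finite_of_finrank_eq_succ hB
  have h1 := Submodule.finrank_sup_add_finrank_inf_eq V B
  have h2 := Submodule.finrank_mono hH
  have h3 := Submodule.finrank_mono hAB
  rw [Groth.BinForms.finrank_homogeneous] at h2
  omega

/-- A smooth rational quintic curve C ⊂ P^3 has a one-parameter family of 3-secant lines. Stated, as for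
the nondegenerate case, through binary forms: C is the image of P^1 under a 4-dimensional linear
series V of binary quintic forms which separates every length-2 subscheme of P^1 (for every nonzero
quadratic form e, the forms of V together with the multiples of e span all quintic forms), so that
P^1 → P(V^*) = P^3 is a closed embedding; the linear forms on P^3 are the elements of V, a line L ⊂
P^3 is the 2-dimensional space of linear forms vanishing on it, and L ∩ C has length at least 3
exactly when that space is contained in g · K[s,t]_2 for a cubic form g. The conclusion: there are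
infinitely many pairwise non-proportional nonzero cubic forms g with dim (V ∩ g · K[s,t]_2) ≥ 2,
i.e. for every finite set of cubics there is such a g proportional to none of them. (The ground
field is algebraically closed of characteristic zero in place of the complex numbers; the third
printed assertion, on curves all of whose 3-secants are 4-secant, is not stated.) -/
theorem result (K : Type u) [Field K] [IsAlgClosed K]
    [CharZero K] (V : Submodule K (MvPolynomial (Fin 2) K))
    (hV : V ≤ MvPolynomial.homogeneousSubmodule (Fin 2) K 5) (hdim : Module.finrank K ↥V = 4)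
    (hsep : ∀ e ∈ MvPolynomial.homogeneousSubmodule (Fin 2) K 2, e ≠ 0 →
      ∀ F ∈ MvPolynomial.homogeneousSubmodule (Fin 2) K 5, ∃ v ∈ V,
        ∃ h ∈ MvPolynomial.homogeneousSubmodule (Fin 2) K 3, F = v + e * h)
    (F : Finset (MvPolynomial (Fin 2) K)) :
    ∃ g ∈ MvPolynomial.homogeneousSubmodule (Fin 2) K 3, g ≠ 0 ∧
      2 ≤ Module.finrank K ↥(V ⊓ (MvPolynomial.homogeneousSubmodule (Fin 2) K 2).map (LinearMap.mulLeft K g)) ∧
      ∀ g' ∈ F, ∀ c : K, g ≠ c • g' := by
  classical
  have hn : (3 : ℕ) + 2 = 5 := rfl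
  let U := V.comap (MvPolynomial.homogeneousSubmodule (Fin 2) K 5).subtype
  have hQ : Module.finrank K (MvPolynomial.homogeneousSubmodule (Fin 2) K 5 ⧸ U) = 2 := by
    have := Groth.BinForms.finrank_quot K V hV
    simp only [U]
    omega
  let b := Module.finBasisOfFinrankEq K _ hQ
  let f : K → Module.Dual K (MvPolynomial.homogeneousSubmodule (Fin 2) K 5 ⧸ U) :=
    fun t => b.coord 0 + t • b.coord 1
  let P := Groth.BinForms.pairing K 3 2 5 hn U
  let kills : K → MvPolynomial.homogeneousSubmodule (Fin 2) K 3 → Prop := fun t x => ∀ h, f t (P x h) = 0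
  have huniq : ∀ t s x, x ≠ 0 → kills t x → kills s x → t = s := by
    intro t s x hx ht hs
    by_contra hne
    refine no_cubic K V hV hdim hsep x.1 x.2 (fun h => hx (Subtype.ext h)) ?_
    rintro _ ⟨h, hh, rfl⟩
    refine (Groth.BinForms.pairing_eq_zero_iff K hn V x ⟨h, hh⟩).1 ?_
    have h1 := ht ⟨h, hh⟩
    have h2 := hs ⟨h, hh⟩
    simp only [f, LinearMap.add_apply, LinearMap.smul_apply, smul_eq_mul, Module.Basis.coord_apply] at h1 h2
    refine b.ext_elem fun i => ?_
    have hb1 : b.repr (P x ⟨h, hh⟩) 1 = 0 :=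
      (mul_eq_zero.1 (show (t - s) * b.repr (P x ⟨h, hh⟩) 1 = 0 by linear_combination h1 - h2)).resolve_left
        (sub_ne_zero.2 hne)
    rw [hb1, mul_zero, add_zero] at h1
    rw [map_zero, Finsupp.zero_apply]
    fin_cases i
    exacts [h1, hb1]
  have hex : ∀ t, ∃ x, x ≠ 0 ∧ kills t x := by
    intro t
    have hk : LinearMap.ker (P.compr₂ (f t)) ≠ ⊥ := by
      apply LinearMap.ker_ne_bot_of_finrank_lt
      rw [Module.finrank_linearMap, Groth.BinForms.finrank_homogeneous, Groth.BinForms.finrank_homogeneous,
        Module.finrank_self]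
      norm_num
    obtain ⟨x, hx, hx0⟩ := Submodule.exists_mem_ne_zero_of_ne_bot hk
    exact ⟨x, hx0, fun h => LinearMap.congr_fun (LinearMap.mem_ker.1 hx) h⟩
  let bad : Set K := ⋃ g' ∈ F, {t | ∃ x, x ≠ 0 ∧ kills t x ∧
    ∃ c : K, (x : MvPolynomial (Fin 2) K) = c • g'}
  have hbad : bad.Finite := by
    refine F.finite_toSet.biUnion fun g' _ => Set.Subsingleton.finite ?_
    rintro t ⟨x, hx, ht, c, hc⟩ s ⟨y, hy, hs, d, hd⟩
    have hd0 : d ≠ 0 := fun h => hy (Subtype.ext (by simpa [h] using hd))
    have hxy : x = (c / d) • y := Subtype.ext (by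
      rw [Submodule.coe_smul, hd, smul_smul, div_mul_cancel₀ c hd0, hc])
    refine huniq t s x hx ht fun h => ?_
    rw [hxy, map_smul, LinearMap.smul_apply, map_smul, hs h, smul_zero]
  obtain ⟨t, ht⟩ := hbad.infinite_compl.nonempty
  obtain ⟨x, hx0, hx⟩ := hex t
  refine ⟨x, x.2, fun h => hx0 (Subtype.ext h), ?_, fun g' hg' c hc => ht ?_⟩
  · let Q := MvPolynomial.homogeneousSubmodule (Fin 2) K 2
    let L := P x
    let S := (LinearMap.ker L).map Q.subtype
    have hr : LinearMap.range L ≤ LinearMap.ker (f t) := by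
      rintro _ ⟨h, rfl⟩
      exact hx h
    have hft : f t ≠ 0 := fun h => by
      have := LinearMap.congr_fun h (b 0)
      simp [f] at this
    have h1 := L.finrank_range_add_finrank_ker
    have h2 := Module.Dual.finrank_ker_add_one_of_ne_zero hft
    have h3 := Submodule.finrank_mono hr
    rw [Groth.BinForms.finrank_homogeneous] at h1
    rw [hQ] at h2
    have hle : S.map (LinearMap.mulLeft K (x : MvPolynomial (Fin 2) K)) ≤
        V ⊓ Q.map (LinearMap.mulLeft K (x : MvPolynomial (Fin 2) K)) := by
      rintro _ ⟨_, ⟨h, hh, rfl⟩, rfl⟩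
      exact ⟨(Groth.BinForms.pairing_eq_zero_iff K hn V x h).1 hh, h.1, h.2, rfl⟩
    have hS : Module.finrank K (S.map (LinearMap.mulLeft K (x : MvPolynomial (Fin 2) K))) =
        Module.finrank K (LinearMap.ker L) := by
      rw [← (Submodule.equivMapOfInjective _ (mul_right_injective₀ fun h => hx0 (Subtype.ext h)) _).finrank_eq,
        ← (Submodule.equivMapOfInjective _ Q.injective_subtype _).finrank_eq]
    have : Module.Finite K V := Module.finite_of_finrank_eq_succ hdim
    have h4 := Submodule.finrank_mono hle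
    simp only [Q] at h4
    omega
  · exact Set.mem_biUnion hg' ⟨x, hx0, hx, c, hc⟩

end Groth.Agent.S19809
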