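import Groth.Statements.S19811
import Groth.Agent.ZeroAcyclic.Constructible.Acyclic

set_option autoImplicit false
set_option backward.isDefEq.respectTransparency.types false
universe u
open CategoryTheory CategoryTheory.Limits AlgebraicGeometry Opposite
open EtAcyc

namespace Groth.Agent.S19811

/-- Sheaves of sets: let S be a Noetherian scheme, f : X → S a morphism of finite type and F a
constructible sheaf of sets on the small etale site of X. There is a dense open U of S, depending on
F, over which (f, F) is universally locally acyclic: for every morphism b : S' → S whose image lies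
in U and every cartesian square exhibiting f' : X' → S' as the base change of f along b, with b' :
X' → X, the following holds for every point x' of X', all strict henselizations R of the local ring
of S' at f' x' and R' of the local ring of X' at x' with a compatible local homomorphism R → R', and
every geometric point t of Spec R with values in a separably closed field algebraic over the residue
field of a point of Spec R: pulling F back to Spec R' along Spec R' → X' → X, the restriction of its
sections from Spec R' to the Milnor fibre Spec R' ×_{Spec R} t is a bijection. (The published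
statement is for constructible ind-finite stacks, local acyclicity then meaning an equivalence of
categories of sections; this row is its case of sheaves of sets.) -/
theorem result {X S : Scheme.{u}} (f : X ⟶ S)
    [IsNoetherian S] [LocallyOfFiniteType f] [QuasiCompact f]
    (F : EtDesc.Sh X) (hF : CohProp.IsConstructibleSet F) :
    ∃ U : S.Opens, Dense (U : Set S) ∧
      ∀ ⦃X' S' : Scheme.{u}⦄ (b : S' ⟶ S), Set.range b.base ⊆ (U : Set S) →
        ∀ (f' : X' ⟶ S') (b' : X' ⟶ X), IsPullback b' f' f b →
        ∀ (x : X') (RS RX : Type u) [CommRing RS] [CommRing RX] [IsLocalRing RS] [IsLocalRing RX]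
          [Algebra (S'.presheaf.stalk (f'.base x)) RS] [IsLocalHom (algebraMap (S'.presheaf.stalk (f'.base x)) RS)]
          [Hensel.IsStrictHenselization (S'.presheaf.stalk (f'.base x)) RS]
          [Algebra (X'.presheaf.stalk x) RX] [IsLocalHom (algebraMap (X'.presheaf.stalk x) RX)]
          [Hensel.IsStrictHenselization (X'.presheaf.stalk x) RX]
          [Algebra RS RX] [IsLocalHom (algebraMap RS RX)],
          (algebraMap RS RX).comp (algebraMap (S'.presheaf.stalk (f'.base x)) RS) =
            (algebraMap (X'.presheaf.stalk x) RX).comp (f'.stalkMap x).hom →
          ∀ (y : ↥(Spec (CommRingCat.of RS))) (Ω : Type u) [Field Ω] [IsSepClosed Ω]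
            [Algebra ((Spec (CommRingCat.of RS)).residueField y) Ω]
            [Algebra.IsAlgebraic ((Spec (CommRingCat.of RS)).residueField y) Ω],
            Function.Bijective
              (EtDesc.secPull
                (pullback.fst (Spec.map (CommRingCat.ofHom (algebraMap RS RX)))
                  (EtAcyc.geomPt (Spec (CommRingCat.of RS)) y Ω))
                ((EtDesc.pullSh (Spec.map (CommRingCat.ofHom (algebraMap (X'.presheaf.stalk x) RX)) ≫
                    X'.fromSpecStalk x ≫ b')).obj F)) := by
    obtain ⟨U, hU, h⟩ := Groth.ZeroAcyclic.Constructible.exists_dense_bijective_secPull f F hF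
    refine ⟨U, hU, fun X' S' b hb f' b' sq x RS RX => ?_⟩
    intro _ _ _ _ _ _ hRS _ _ hRX _ _ hψ y Ω _ _ _ _
    haveI := hRS.henselian
    haveI := hRX.henselian
    haveI : IsSepClosed (IsLocalRing.ResidueField RS) :=
      haveI := hRS.isSepClosure
      IsSepClosure.sep_closed (IsLocalRing.ResidueField (S'.presheaf.stalk (f'.base x)))
    haveI : IsSepClosed (IsLocalRing.ResidueField RX) :=
      haveI := hRX.isSepClosure
      IsSepClosure.sep_closed (IsLocalRing.ResidueField (X'.presheaf.stalk x))
    let σS := Hens2.specOf S' (f'.base x) RS
    let σX := Hens2.specOf X' x RX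
    haveI : WeaklyEtale σS := Groth.Agent.S0754.result S' (f'.base x) RS
    haveI : WeaklyEtale σX := Groth.Agent.S0754.result X' x RX
    have h' := h b hb f' b' sq RS RX σS σX (algebraMap RS RX)
      (Groth.EtaleBase.EtLimit.specOf_compat f' x RS RX (algebraMap RS RX) hψ) Ω
      (EtAcyc.geomPt (Spec (CommRingCat.of RS)) y Ω)
    rw [show σX ≫ b' = Spec.map (CommRingCat.ofHom (algebraMap (X'.presheaf.stalk x) RX)) ≫
      X'.fromSpecStalk x ≫ b' from Category.assoc _ _ _] at h'
    exact h'

end Groth.Agent.S19811
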