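import Groth.Statements.S19832
import Groth.Agent.QGorNhd.Fibre
import Mathlib

set_option maxHeartbeats 1600000
set_option synthInstance.maxHeartbeats 400000

set_option autoImplicit false
universe u
open QGor

namespace Groth.Agent.S19832

open CategoryTheory AlgebraicGeometry in
/-- Take f : Y → T flat and locally of finite type with Y and T locally Noetherian, an integer k ≥ 2, a
point y of Y at which the fibre through y satisfies Serre's condition S_k, and an open subset Y° of
Y not containing y. Suppose the local codimension at y of Y_{f(y)} ∖ Y° in the fibre is at least c: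
at every point z ∉ Y° of the fibre through y which specializes to y, the local ring of the fibre has
dimension ≥ c. Then y has an open neighbourhood U such that U → T is an S_k-morphism (flat, locally
of finite type, all fibres S_k at all points) of pure relative dimension (every irreducible
component of every fibre of U → T has the same dimension e), and at every point z ∈ U with z ∉ Y°
the local ring at z of the fibre of f through z has dimension ≥ c; that is, codim(U_t ∖ Y°, U_t) ≥ c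
for every t. -/
theorem result
    {Y T : Scheme.{u}} (f : Y ⟶ T) [IsLocallyNoetherian Y] [IsLocallyNoetherian T]
    [Flat f] [LocallyOfFiniteType f] (k : ℕ) (hk : 2 ≤ k) (y : Y)
    (hy : RelCanon.SkAt k (Coh.structureModule (f.fiber (f y))) (f.asFiber y))
    (Yo : Y.Opens) (hyo : y ∉ Yo) (c : WithBot ℕ∞)
    (hc : ∀ z : Y, f z = f y → z ∉ Yo → z ⤳ y →
      c ≤ ringKrullDim ((f.fiber (f z)).presheaf.stalk (f.asFiber z))) :
    ∃ U : Y.Opens, y ∈ U ∧ RelCanon.IsSkMor (U.ι ≫ f) k ∧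
      (∃ e : ℕ, Cyc.HasRelDim (U.ι ≫ f) e) ∧
      ∀ z : Y, z ∈ U → z ∉ Yo → c ≤ ringKrullDim ((f.fiber (f z)).presheaf.stalk (f.asFiber z)) := by
  let U1 : Y.Opens := ⟨_, Groth.Ega43FP2.isOpen_flatAt_hasSk f k⟩
  have hy' := (Groth.QGorNhd.skAt_structure_iff _ k).1 hy
  obtain ⟨e, he⟩ := Groth.QGorNhd.exists_height_max f (f y) (f.asFiber y)
    (Groth.QGorNhd.hasSk_mono hk hy')
  have hq : (Coh.structureModule Y).IsQuasicoherent := Groth.QCohMod.isQCoh_unit Y
  let U2 : Y.Opens := ⟨_, Groth.Ega43FP2.isOpen_assDims f (Coh.structureModule Y)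
    Groth.Ega43FP2.isFP_structureModule (Groth.FBaseGeom.isFlatOver_structureModule f) {e}⟩
  have hyU2 : y ∈ U2 := fun z hz hzy => by
    refine ⟨e, rfl, ?_⟩
    have hzy' : z ⤳ f.asFiber y := specializes_iff_mem_closure.2 hzy
    have h := he z (Groth.QGorNhd.isMax_of_mem_ass f _ (by omega) hy' hz hzy') hzy'
    exact (Groth.Ega43FP2.clDimAt_eq f _ z).trans (by rw [h]; rfl)
  have hmax : ∀ x ∈ U2, ∀ w : f.fiber (f x), IsMax w → w ⤳ f.asFiber x →
      Order.height w = (e : ℕ∞) := by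
    intro x hx w hw hwx
    obtain ⟨n, rfl, hn⟩ := hx w (Groth.QGorNhd.mem_ass_of_isMax f _ hw) (specializes_iff_mem_closure.1 hwx)
    have := (Groth.Ega43FP2.clDimAt_eq f _ w).symm.trans hn
    rw [← WithBot.coe_natCast, WithBot.coe_inj] at this
    exact this
  have hlft : ∀ s : T, LocallyOfFiniteType (f.fiberToSpecResidueField s) := fun s =>
    Groth.QGorNhd.lft_toSpec f s
  have hdimle : ∀ x ∈ U2, ∀ w : f.fiber (f x), w ⤳ f.asFiber x → ∀ a : ℕ, Order.height w = (a : ℕ∞) →
      a ≤ e ∧ Order.coheight w = ((e - a : ℕ) : ℕ∞) := by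
    intro x hx w hwx a ha
    have := Groth.Ega43FP2.isLocallyNoetherian_fibre f (f x)
    obtain ⟨m, hm⟩ := Groth.FibreDim.exists_coheight_eq_natCast w
    obtain ⟨l, hl, hlen⟩ := Order.exists_series_of_coheight_eq_coe w hm
    obtain ⟨M, hlM, hM⟩ : ∃ M, l.last ≤ M ∧ IsMax M := by
      refine ⟨l.last, le_rfl, fun v hv => ?_⟩
      by_contra hcon
      have := Order.length_le_coheight (p := l.snoc v (lt_of_le_not_ge hv hcon))
        (x := w) (by rw [RelSeries.head_snoc, hl])
      rw [hm, RelSeries.snoc_length, Nat.cast_le, hlen] at this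
      omega
    have hwM : w ≤ M := hl ▸ (LTSeries.head_le_last l).trans hlM
    have hMe := hmax x hx M hM ((Scheme.le_iff_specializes.1 hwM).trans hwx)
    have hae : a ≤ e := by
      have := Order.height_mono hwM
      rw [ha, hMe, Nat.cast_le] at this
      exact this
    have hme : a + m ≤ e := by
      have := (Groth.Variety2.Dim.height_add_length_le (k := T.residueField (f x))
        (f.fiberToSpecResidueField (f x)) l).trans ((Order.height_mono hlM).trans hMe.le)
      rw [hl, ha, hlen, ← Nat.cast_add, Nat.cast_le] at this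
      exact this
    have hge : e - a ≤ m := by
      obtain ⟨p, hp⟩ : M ∈ Set.range ((f.fiber (f x)).fromSpecStalk w).base := by
        rw [Scheme.range_fromSpecStalk]
        exact Scheme.le_iff_specializes.1 hwM
      have h := (Groth.Ega43FP2.ringKrullDim_quotient_fibre f (f x) w p ha (hp.symm ▸ hMe)).2.symm.le.trans
        (ringKrullDim_le_of_surjective _ Ideal.Quotient.mk_surjective)
      rw [ringKrullDim_stalk_eq_coheight, hm] at h
      exact Nat.cast_le.1 (WithBot.coe_le_coe.1 h)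
    refine ⟨hae, ?_⟩
    rw [hm, Nat.cast_inj]
    omega
  classical
  let P : ℕ → Prop := fun n => ∃ w ∈ (Yo : Set Y)ᶜ, w ⤳ y ∧ f w = f y ∧ (n : ℕ∞) ≤ Order.height (f.asFiber w)
  let r := Nat.findGreatest P e
  have hbound : ∀ n, P n → n ≤ e := by
    rintro n ⟨w, -, hwy, hfw, hn⟩
    obtain ⟨w', rfl⟩ : w ∈ Set.range (f.fiberι (f y)) := (f.range_fiberι _).ge hfw
    rw [Groth.Ega43FP2.height_asFiber_eq] at hn
    obtain ⟨a, ha⟩ := Groth.Ega43FP2.exists_height_eq_nat f _ w'
    have hsp : w' ⤳ f.asFiber y := by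
      refine (f.fiberι _).isEmbedding.toIsInducing.specializes_iff.1 ?_
      rwa [f.fiberι_asFiber]
    rw [ha, Nat.cast_le] at hn
    exact hn.trans (hdimle y hyU2 w' hsp a ha).1
  have hr : P r := Nat.findGreatest_spec (P := P) (Nat.zero_le e) ⟨y, hyo, specializes_rfl, rfl, by simp⟩
  let S3 : Set Y := {x : Y | ∃ w ∈ (Yo : Set Y)ᶜ, w ⤳ x ∧ f w = f x ∧ ((r + 1 : ℕ) : ℕ∞) ≤ Order.height (f.asFiber w)}
  let U3 : Y.Opens := ⟨S3ᶜ, (Groth.Ega43FP2.isClosed_exists_height_le f Yo.isOpen.isClosed_compl (r + 1)).isOpen_compl⟩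
  have hyU3 : y ∈ U3 := fun hcon => by
    have := Nat.le_findGreatest (P := P) (hbound _ hcon) hcon
    omega
  have hcer : c ≤ ((e - r : ℕ) : WithBot ℕ∞) := by
    obtain ⟨w, hw, hwy, hfw, hn⟩ := hr
    obtain ⟨w', rfl⟩ : w ∈ Set.range (f.fiberι (f y)) := (f.range_fiberι _).ge hfw
    rw [Groth.Ega43FP2.height_asFiber_eq] at hn
    obtain ⟨a, ha⟩ := Groth.Ega43FP2.exists_height_eq_nat f _ w'
    have hsp : w' ⤳ f.asFiber y := by
      refine (f.fiberι _).isEmbedding.toIsInducing.specializes_iff.1 ?_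
      rwa [f.fiberι_asFiber]
    rw [ha, Nat.cast_le] at hn
    have h := hc _ hfw hw hwy
    rw [Groth.QGorNhd.dim_stalk_asFiber, ringKrullDim_stalk_eq_coheight, (hdimle y hyU2 w' hsp a ha).2] at h
    exact h.trans (WithBot.coe_le_coe.2 (Nat.cast_le.2 (show e - a ≤ e - r by omega)))
  refine ⟨U1 ⊓ U2 ⊓ U3, ⟨⟨⟨?_, hy'⟩, hyU2⟩, hyU3⟩, ?_, ⟨e, ?_⟩, ?_⟩
  · exact AlgebraicGeometry.Flat.stalkMap f y
  · refine ⟨inferInstance, inferInstance, fun u => ?_⟩
    rw [Groth.QGorNhd.skAt_structure_iff]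
    have := MorphismProperty.of_isPullback (P := @IsOpenImmersion)
      (Groth.AlgSp3.isPullback_fiberMap (U1 ⊓ U2 ⊓ U3).ι f (((U1 ⊓ U2 ⊓ U3).ι ≫ f) u)) inferInstance
    refine Groth.QGorNhd.hasSk_of_isOpenImmersion (Groth.FibreDim.fiberMap (U1 ⊓ U2 ⊓ U3).ι f _) _ k ?_
    rw [show Groth.FibreDim.fiberMap (U1 ⊓ U2 ⊓ U3).ι f _ (((U1 ⊓ U2 ⊓ U3).ι ≫ f).asFiber u) = _ from
      Groth.AlgSp3.fiberMap_asFiber (U1 ⊓ U2 ⊓ U3).ι f u]
    exact u.2.1.1.2
  · intro s C hC
    obtain ⟨η, hη⟩ := QuasiSober.sober hC.1 (isClosed_of_mem_irreducibleComponents _ hC)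
    rw [← hη.def] at hC ⊢
    let g := (U1 ⊓ U2 ⊓ U3).ι ≫ f
    let j := Groth.FibreDim.fiberMap (U1 ⊓ U2 ⊓ U3).ι f s
    have hj : IsOpenImmersion j := MorphismProperty.of_isPullback (P := @IsOpenImmersion)
      (Groth.AlgSp3.isPullback_fiberMap (U1 ⊓ U2 ⊓ U3).ι f s) inferInstance
    have hjmax : IsMax (j η) := by
      intro v hv
      obtain ⟨v', rfl⟩ := (Scheme.le_iff_specializes.1 hv).mem_open j.isOpenEmbedding.isOpen_range ⟨η, rfl⟩
      have h1 : v' ⤳ η := j.isEmbedding.toIsInducing.specializes_iff.1 (Scheme.le_iff_specializes.1 hv)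
      rw [(Groth.PropsBasic2.closure_mem_irreducibleComponents_iff η).1 hC v' h1]
    have hpt : f.fiberι s (j η) = (U1 ⊓ U2 ⊓ U3).ι (g.fiberι s η) :=
      congr($(Groth.FibreDim.fiberMap_fiberι (U1 ⊓ U2 ⊓ U3).ι f s) η)
    have hu : f.fiberι s (j η) ∈ U2 := hpt ▸ (g.fiberι s η).2.1.2
    have key : ∀ (x : Y) (s : T) (_ : f.base x = s) (z : f.fiber s), f.fiberι s z = x → x ∈ U2 → IsMax z →
        Order.height z = (e : ℕ∞) := by
      rintro x _ rfl z hz hx hz'
      refine hmax x hx z hz' ?_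
      rw [show z = f.asFiber x from (f.fiberι _).isEmbedding.injective (hz.trans (f.fiberι_asFiber x).symm)]
    have hh := key _ s (Groth.FibreDim.apply_fiberι f s (j η)) (j η) rfl hu hjmax
    have : LocallyOfFiniteType (g.fiberToSpecResidueField s) := Groth.QGorNhd.lft_toSpec g s
    rw [Groth.Variety2.Dim.height_eq_of_isPreimmersion (k := T.residueField s) (g.fiberToSpecResidueField s)
      (f.fiberToSpecResidueField s) j (Groth.FibreDim.fiberMap_toSpec _ f s) η] at hh
    exact (Groth.Variety2.Dim.dim_closure_singleton η).trans (by rw [hh]; rfl)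
  · intro z hz hzo
    obtain ⟨a, ha⟩ := Groth.Ega43FP2.exists_height_eq_nat f _ (f.asFiber z)
    have har : a ≤ r := by
      by_contra hlt
      exact hz.2 ⟨z, hzo, specializes_rfl, rfl, by rw [ha, Nat.cast_le]; omega⟩
    rw [ringKrullDim_stalk_eq_coheight, (hdimle z hz.1.2 _ specializes_rfl a ha).2]
    exact hcer.trans (WithBot.coe_le_coe.2 (Nat.cast_le.2 (show e - r ≤ e - a by omega)))

end Groth.Agent.S19832
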