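import Groth.Statements.S1984
import Groth.Agent.EtaleAlgebra.ExtBaseChange
import Groth.Agent.EtaleAlgebra.EtRamTower
import Mathlib.RingTheory.DedekindDomain.IntegralClosure
import Mathlib.RingTheory.Valuation.LocalSubring
-- import your own Groth.Agent.* helpers here

set_option autoImplicit false
set_option linter.style.haveILetI false
universe u
open EtAlg

namespace Groth.Agent.S1984

section Helper
open IsLocalRing Groth.EtaleAlgebra

/-- For a finite separable totally ramified extension the maximal ideal becomes a power of exponent at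
least the degree. -/
theorem finrank_le_ramificationIdx (A K K₁ : Type u) [CommRing A] [IsDomain A] [IsDiscreteValuationRing A]
    [Field K] [Algebra A K] [IsFractionRing A K] [Field K₁] [Algebra K K₁] [FiniteDimensional K K₁]
    [Algebra.IsSeparable K K₁] (ht : EtRam.IsTotallyRamified A ((algebraMap K K₁).comp (algebraMap A K)))
    (V : ValuationSubring K₁) (hV : EtRam.Dominates A ((algebraMap K K₁).comp (algebraMap A K)) V) :
    letI := (RingHom.codRestrict _ V hV.1).toAlgebra
    Module.finrank K K₁ ≤ Ideal.ramificationIdx' (maximalIdeal A) (maximalIdeal V) := by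
  classical
  letI := (RingHom.codRestrict _ V hV.1).toAlgebra
  letI : Algebra A K₁ := ((algebraMap K K₁).comp (algebraMap A K)).toAlgebra
  haveI : IsScalarTower A K K₁ := IsScalarTower.of_algebraMap_eq fun _ => rfl
  haveI : IsScalarTower A V K₁ := IsScalarTower.of_algebraMap_eq fun _ => rfl
  haveI : IsLocalHom (algebraMap A V) := isLocalHom_codRestrict hV
  haveI : IsDiscreteValuationRing V := isDiscreteValuationRing_of_dominates A K K₁ hV
  let C := integralClosure A K₁
  have hAK₁ : Function.Injective (algebraMap A K₁) :=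
    (algebraMap K K₁).injective.comp (IsFractionRing.injective A K)
  have hle : ∀ x : K₁, x ∈ V → x ∈ C := by
    intro x hx
    by_contra hxC
    haveI : IsIntegrallyClosedIn C.toSubring K₁ := by
      refine isIntegrallyClosedIn_iff.2 ⟨Subtype.val_injective, fun {y} hy => ?_⟩
      have hy' : IsIntegral C y := hy
      exact ⟨⟨y, isIntegral_trans (R := A) y hy'⟩, rfl⟩
    obtain ⟨V', hV', hxV'⟩ := C.toSubring.exists_le_valuationSubring_of_isIntegrallyClosedIn (x := x) hxC
    have hA' : ∀ a, algebraMap A K₁ a ∈ V' := fun a => hV' (Subalgebra.algebraMap_mem C a)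
    by_cases hd : ∀ a ∈ maximalIdeal A, V'.valuation (algebraMap A K₁ a) < 1
    · exact hxV' ((ht.2.1 V V' hV ⟨hA', hd⟩) ▸ hx)
    push Not at hd
    obtain ⟨a, ha, ha'⟩ := hd
    obtain ⟨ϖ, hϖ⟩ := IsDiscreteValuationRing.exists_irreducible A
    obtain ⟨c, rfl⟩ := Ideal.mem_span_singleton.1 (hϖ.maximalIdeal_eq ▸ ha)
    have hK : ∀ z : K, algebraMap K K₁ z ∈ V' := by
      have hϖinv : (algebraMap A K₁ ϖ)⁻¹ ∈ V' := by
        rw [← V'.valuation_le_one_iff, map_inv₀, inv_le_one₀]
        · refine ha'.trans ?_
          rw [map_mul, map_mul]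
          exact mul_le_of_le_one_right' ((V'.valuation_le_one_iff _).2 (hA' c))
        · rw [zero_lt_iff, Valuation.ne_zero_iff]
          exact (map_ne_zero_iff _ hAK₁).2 hϖ.ne_zero
      intro z
      obtain ⟨⟨r, s⟩, hrs⟩ := IsLocalization.surj (nonZeroDivisors A) z
      obtain ⟨m, u, hu⟩ := IsDiscreteValuationRing.eq_unit_mul_pow_irreducible
        (nonZeroDivisors.ne_zero s.2) hϖ
      have hs0 : algebraMap A K₁ (s : A) ≠ 0 := (map_ne_zero_iff _ hAK₁).2 (nonZeroDivisors.ne_zero s.2)
      have hz : algebraMap K K₁ z = algebraMap A K₁ (r * ↑u⁻¹) * (algebraMap A K₁ ϖ)⁻¹ ^ m := by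
        refine mul_right_cancel₀ hs0 ?_
        rw [IsScalarTower.algebraMap_apply A K K₁ (s : A), ← map_mul, hrs,
          ← IsScalarTower.algebraMap_apply, ← IsScalarTower.algebraMap_apply, hu, inv_pow]
        simp only [map_mul, map_pow]
        have hu0 : algebraMap A K₁ (↑u⁻¹ : A) * algebraMap A K₁ (↑u : A) = 1 := by
          rw [← map_mul, Units.inv_mul, map_one]
        have hp0 : (algebraMap A K₁ ϖ) ^ m ≠ 0 := pow_ne_zero _ ((map_ne_zero_iff _ hAK₁).2 hϖ.ne_zero)
        field_simp
        linear_combination (-(algebraMap A K₁ r)) * hu0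
      rw [hz]
      exact mul_mem (hA' _) (pow_mem hϖinv m)
    refine hxV' ?_
    obtain ⟨q, hq, hq0⟩ := Algebra.IsIntegral.isIntegral (R := K) x
    let φ : K →+* V' := (algebraMap K K₁).codRestrict V' hK
    have hint : IsIntegral V' x := ⟨q.map φ, hq.map _, by rw [Polynomial.eval₂_map]; exact hq0⟩
    obtain ⟨v, hv⟩ := IsIntegrallyClosed.isIntegral_iff.1 hint
    exact hv ▸ v.2
  have hge : ∀ x : K₁, x ∈ C → x ∈ V := by
    intro x hx
    have hint : IsIntegral V x := IsIntegral.tower_top hx
    obtain ⟨v, hv⟩ := IsIntegrallyClosed.isIntegral_iff.1 hint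
    exact hv ▸ v.2
  let eC : C ≃ₗ[A] V :=
    { toFun := fun c => ⟨c, hge c c.2⟩
      invFun := fun v => ⟨v, hle v v.2⟩
      map_add' := fun _ _ => rfl
      map_smul' := fun a c => Subtype.ext (Algebra.smul_def a (c : K₁))
      left_inv := fun _ => rfl
      right_inv := fun _ => rfl }
  haveI : IsNoetherian A C := IsIntegralClosure.isNoetherian A K K₁ C
  haveI : Module.Finite A V := Module.Finite.equiv eC
  haveI : Module.IsTorsionFree A K₁ := Module.isTorsionFree_iff_algebraMap_injective.2 hAK₁
  have hrank : Module.finrank A V = Module.finrank K K₁ := by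
    rw [← eC.finrank_eq, IsIntegralClosure.rank A K K₁ C]
  obtain ⟨e, -, he, he'⟩ := exists_map_maximalIdeal_eq_pow A V
    (fun a b hab => hAK₁ (congrArg Subtype.val hab))
  obtain ⟨ϖ, hϖ⟩ := IsDiscreteValuationRing.exists_irreducible V
  rw [he', ← hrank]
  let N := Submodule.span A (Set.range fun i : Fin e => ϖ ^ (i : ℕ))
  have hstep : ∀ j ≤ e, ∀ v : V, ∃ y ∈ N, ϖ ^ j ∣ v - y := by
    intro j
    induction j with
    | zero => exact fun _ v => ⟨0, zero_mem _, by simp⟩
    | succ j ih =>
      intro hj v
      obtain ⟨y, hy, w, hw'⟩ := ih (Nat.le_of_succ_le hj) v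
      obtain ⟨a, ha⟩ := ht.2.2 V hV (residue V w)
      have hd : ϖ ∣ w - algebraMap A V a := by
        rw [← Ideal.mem_span_singleton, ← hϖ.maximalIdeal_eq, ← residue_eq_zero_iff, map_sub, sub_eq_zero]
        exact ha.symm
      obtain ⟨w', hw''⟩ := hd
      refine ⟨y + a • ϖ ^ j, add_mem hy (Submodule.smul_mem _ _ (Submodule.subset_span ⟨⟨j, hj⟩, rfl⟩)), w', ?_⟩
      rw [Algebra.smul_def, pow_succ]
      linear_combination hw' + ϖ ^ j * hw''
  have htop : ⊤ ≤ N := by
    refine Submodule.le_of_le_smul_of_le_jacobson_bot (Module.Finite.fg_top (R := A) (M := V))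
      (IsLocalRing.maximalIdeal_le_jacobson _) fun v _ => ?_
    obtain ⟨y, hy, w, hw'⟩ := hstep e le_rfl v
    rw [show v = y + ϖ ^ e * w by rw [← hw']; ring]
    refine Submodule.add_mem_sup hy ?_
    rw [← SetLike.mem_coe, Ideal.smul_top_eq_map]
    show ϖ ^ e * w ∈ (maximalIdeal A).map (algebraMap A V)
    rw [he, hϖ.maximalIdeal_eq, Ideal.span_singleton_pow]
    exact Ideal.mem_span_singleton.2 (dvd_mul_right _ _)
  calc Module.finrank A V = Module.finrank A (⊤ : Submodule A V) := finrank_top _ _ |>.symm
    _ = Module.finrank A N := by rw [top_le_iff.1 htop]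
    _ ≤ _ := (finrank_span_le_card _).trans (by
      rw [Set.toFinset_range]; exact Finset.card_image_le.trans (by simp))

end Helper

open TensorProduct in
open IsLocalRing Groth.EtaleAlgebra in
/-- Let A -> B be a weakly unramified extension of discrete valuation rings with fraction fields K ⊂ L,
and K₁/K a finite separable extension which is totally ramified with respect to A. Then L ⊗_K K₁ is
a field and K₁ is a weak solution for A -> B (the valuation ring of L ⊗_K K₁ over B is weakly
unramified over that of K₁ over A). -/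
theorem result (A B K L : Type u) [CommRing A] [IsDomain A] [IsDiscreteValuationRing A]
    [CommRing B] [IsDomain B] [IsDiscreteValuationRing B] [Algebra A B] [IsLocalHom (algebraMap A B)]
    (hinj : Function.Injective (algebraMap A B))
    [Field K] [Field L] [Algebra A K] [IsFractionRing A K] [Algebra B L] [IsFractionRing B L]
    [Algebra K L] [Algebra A L] [IsScalarTower A K L] [IsScalarTower A B L]
    (hw : EtRam.IsWeaklyUnramified A B) (K₁ : Type u) [Field K₁] [Algebra K K₁] [FiniteDimensional K K₁]
    [Algebra.IsSeparable K K₁] (ht : EtRam.IsTotallyRamified A ((algebraMap K K₁).comp (algebraMap A K))) :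
    IsField (L ⊗[K] K₁) ∧ EtRam.IsWeakSolution B K L K₁ := by
  classical
  have hred : ∀ (V : ValuationSubring K₁)
      (h : EtRam.Dominates A ((algebraMap K K₁).comp (algebraMap A K)) V),
      letI := (RingHom.codRestrict _ V h.1).toAlgebra
      haveI : IsLocalHom (algebraMap A V) := isLocalHom_codRestrict h
      IsReduced (ResidueField V ⊗[ResidueField A] ResidueField B) := by
    intro V h
    let := (RingHom.codRestrict _ V h.1).toAlgebra
    have : IsLocalHom (algebraMap A V) := isLocalHom_codRestrict h
    let g : ResidueField A →ₐ[ResidueField A] ResidueField V := Algebra.ofId _ _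
    have hg : Function.Bijective g := ⟨RingHom.injective _, fun z => by
      obtain ⟨a, ha⟩ := ht.2.2 V h z
      exact ⟨residue A a, ha⟩⟩
    let e := ((Algebra.TensorProduct.congr (AlgEquiv.ofBijective g hg).symm
      (AlgEquiv.refl : ResidueField B ≃ₐ[ResidueField A] ResidueField B)).trans
        (Algebra.TensorProduct.lid (ResidueField A) (ResidueField B)))
    exact isReduced_of_injective e.toRingHom e.injective
  refine ⟨?_, fun M _ _ _ _ _ _ hadj W hW => (localExt_data A B K L hw K₁ hred M hadj W hW).1⟩
  haveI : IsArtinianRing (L ⊗[K] K₁) := IsArtinianRing.of_finite L _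
  obtain ⟨M, _, q, hq⟩ : ∃ (M : Type u) (_ : Field M) (q : L ⊗[K] K₁ →+* M), Function.Surjective q := by
    obtain ⟨m, hm⟩ := Ideal.exists_maximal (L ⊗[K] K₁)
    exact ⟨_, Ideal.Quotient.field m, Ideal.Quotient.mk m, Ideal.Quotient.mk_surjective⟩
  letI : Algebra L M := (q.comp (Algebra.TensorProduct.includeLeft : L →ₐ[K] _).toRingHom).toAlgebra
  letI : Algebra K M := ((algebraMap L M).comp (algebraMap K L)).toAlgebra
  haveI : IsScalarTower K L M := IsScalarTower.of_algebraMap_eq fun _ => rfl
  let qL : L ⊗[K] K₁ →ₐ[L] M := AlgHom.mk q fun _ => rfl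
  haveI : FiniteDimensional L M := Module.Finite.of_surjective qL.toLinearMap hq
  letI : Algebra K₁ M := (q.comp (Algebra.TensorProduct.includeRight : K₁ →ₐ[K] _).toRingHom).toAlgebra
  haveI : IsScalarTower K K₁ M := IsScalarTower.of_algebraMap_eq fun x =>
    congrArg q (((Algebra.TensorProduct.includeLeft : L →ₐ[K] L ⊗[K] K₁).commutes x).trans
      ((Algebra.TensorProduct.includeRight : K₁ →ₐ[K] L ⊗[K] K₁).commutes x).symm)
  have hadj : Algebra.adjoin L (Set.range (algebraMap K₁ M)) = ⊤ := top_le_iff.1 fun z hz => by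
    clear hz
    obtain ⟨z, rfl⟩ := hq z
    induction z using TensorProduct.induction_on with
    | zero => rw [map_zero]; exact zero_mem _
    | tmul l x =>
      rw [show q (l ⊗ₜ x) = algebraMap L M l * algebraMap K₁ M x from
        (congrArg q (show l ⊗ₜ[K] x = (l ⊗ₜ 1) * (1 ⊗ₜ x) by simp)).trans (map_mul q _ _)]
      exact mul_mem (Subalgebra.algebraMap_mem _ _) (Algebra.subset_adjoin ⟨x, rfl⟩)
    | add x y hx hy => rw [map_add]; exact add_mem hx hy
  obtain ⟨W, hW, hl⟩ := IsLocalRing.exists_factor_valuationRing ((algebraMap L M).comp (algebraMap B L))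
  have hdW : EtRam.Dominates B ((algebraMap L M).comp (algebraMap B L)) W :=
    ⟨fun b => hW _, fun b hb => (W.valuation_lt_one_iff ⟨_, hW b⟩).1
      ((map_mem_nonunits_iff (((algebraMap L M).comp (algebraMap B L)).codRestrict W.toSubring hW) b).2 hb)⟩
  have hweak := (localExt_data A B K L hw K₁ hred M hadj W hdW).1
  let f := algebraMap K₁ M
  let V := W.comap f
  have hcomp : ((algebraMap L M).comp (algebraMap B L)).comp (algebraMap A B) =
      f.comp ((algebraMap K K₁).comp (algebraMap A K)) := RingHom.ext fun a => by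
    show algebraMap L M (algebraMap B L (algebraMap A B a)) = f (algebraMap K K₁ (algebraMap A K a))
    rw [← IsScalarTower.algebraMap_apply A B L, IsScalarTower.algebraMap_apply A K L,
      ← IsScalarTower.algebraMap_apply K L M, ← IsScalarTower.algebraMap_apply K K₁ M]
  have hV : EtRam.Dominates A ((algebraMap K K₁).comp (algebraMap A K)) V := by
    refine dominates_comp_iff.1 ?_
    rw [← hcomp]
    exact ⟨fun a => hdW.1 _, fun a ha => hdW.2 _ ((map_mem_nonunits_iff (algebraMap A B) a).2 ha)⟩
  haveI : IsDiscreteValuationRing V := isDiscreteValuationRing_of_dominates A K K₁ hV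
  haveI : IsDiscreteValuationRing W := isDiscreteValuationRing_of_dominates B L M hdW
  letI : Algebra A V := (RingHom.codRestrict _ V hV.1).toAlgebra
  letI : Algebra B W := (RingHom.codRestrict _ W hdW.1).toAlgebra
  letI : Algebra V W := (EtRam.inclOfComap W f).toAlgebra
  letI : Algebra A W := ((algebraMap V W).comp (algebraMap A V)).toAlgebra
  haveI : IsScalarTower A V W := IsScalarTower.of_algebraMap_eq fun _ => rfl
  haveI : IsScalarTower A B W := IsScalarTower.of_algebraMap_eq fun a =>
    Subtype.ext (DFunLike.congr_fun hcomp a).symm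
  haveI : IsLocalHom (algebraMap A V) := isLocalHom_codRestrict hV
  haveI : IsLocalHom (algebraMap B W) := isLocalHom_codRestrict hdW
  haveI : IsLocalHom (algebraMap V W) := EtRam.isLocalHom_inclOfComap W f
  haveI : IsLocalHom (algebraMap A W) := by
    rw [IsScalarTower.algebraMap_eq A V W]; infer_instance
  have hVW : Function.Injective (algebraMap V W) := fun a b hab =>
    Subtype.ext (f.injective (congrArg Subtype.val hab))
  have hBW : Function.Injective (algebraMap B W) := fun a b hab =>
    IsFractionRing.injective B L ((algebraMap L M).injective (congrArg Subtype.val hab))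
  have hAV : Function.Injective (algebraMap A V) := fun a b hab =>
    IsFractionRing.injective A K ((algebraMap K K₁).injective (congrArg Subtype.val hab))
  have h1 := tower_ramificationIdx A V W hAV hVW
  rw [(weaklyUnramified_iff V W hVW).1 hweak, mul_one, tower_ramificationIdx A B W hinj hBW,
    (weaklyUnramified_iff A B hinj).1 hw, one_mul] at h1
  letI : Algebra B M := ((algebraMap L M).comp (algebraMap B L)).toAlgebra
  haveI : IsScalarTower B L M := IsScalarTower.of_algebraMap_eq fun _ => rfl
  haveI : IsScalarTower B W M := IsScalarTower.of_algebraMap_eq fun _ => rfl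
  obtain ⟨hfin, hbound⟩ := finite_residueField_and_ramificationIdx_mul_finrank_le B W hBW L M
  have hpos : 0 < Module.finrank (ResidueField B) (ResidueField W) := Module.finrank_pos
  have hn : Module.finrank K K₁ ≤ Module.finrank L M := by
    refine (finrank_le_ramificationIdx A K K₁ ht V hV).trans ?_
    refine (le_of_eq h1.symm).trans ((Nat.le_mul_of_pos_right _ hpos).trans hbound)
  have hsurj : Function.Surjective qL := hq
  have hle : Module.finrank L M ≤ Module.finrank L (L ⊗[K] K₁) :=
    LinearMap.finrank_le_finrank_of_surjective (f := qL.toLinearMap) hsurj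
  rw [Module.finrank_baseChange] at hle
  have hinj' : Function.Injective qL :=
    (LinearMap.injective_iff_surjective_of_finrank_eq_finrank (f := qL.toLinearMap)
      (by rw [Module.finrank_baseChange]; omega)).2 hsurj
  exact MulEquiv.isField (Field.toIsField M) (RingEquiv.ofBijective (qL : L ⊗[K] K₁ →+* M) ⟨hinj', hsurj⟩).toMulEquiv

end Groth.Agent.S1984
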