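import Groth.Statements.S1985
import Groth.Agent.Calg4.Japanese
import Groth.Agent.Calg1.NagataTheorem
import Groth.Agent.PropsBasic.NagataNormalization
import Groth.Agent.FunFld1.ConstClosure
-- import your own Groth.Agent.* helpers here

set_option autoImplicit false
universe u
open EtAlg

namespace Groth.Agent.S1985
open scoped nonZeroDivisors TensorProduct

theorem isReduced_tensor (K L K' : Type u) [Field K] [Field L] [Field K'] [Algebra K L] [Algebra K K']
    [FiniteDimensional K K'] [Algebra.IsSeparable K L] : IsReduced (L ⊗[K] K') := by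
  suffices IsReduced (K' ⊗[K] L) from isReduced_of_injective _ (Algebra.TensorProduct.comm K L K').injective
  have h : ∀ x : K' ⊗[K] L, ∃ E : IntermediateField K L, FiniteDimensional K E ∧
      x ∈ Set.range (Algebra.TensorProduct.map (AlgHom.id K K') E.val) := by
    intro x
    induction x with
    | zero => exact ⟨⊥, inferInstance, 0, map_zero _⟩
    | tmul a b =>
      exact ⟨IntermediateField.adjoin K {b}, IntermediateField.adjoin.finiteDimensional
        (Algebra.IsSeparable.isIntegral K b), a ⊗ₜ ⟨b, IntermediateField.mem_adjoin_simple_self K b⟩, rfl⟩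
    | add x y hx hy =>
      obtain ⟨E, hE, x', rfl⟩ := hx
      obtain ⟨E', hE', y', rfl⟩ := hy
      haveI := hE
      haveI := hE'
      refine ⟨E ⊔ E', inferInstance,
        Algebra.TensorProduct.map (AlgHom.id K K') (IntermediateField.inclusion le_sup_left) x' +
          Algebra.TensorProduct.map (AlgHom.id K K') (IntermediateField.inclusion le_sup_right) y', ?_⟩
      rw [map_add, ← AlgHom.comp_apply, ← AlgHom.comp_apply, ← Algebra.TensorProduct.map_comp,
        ← Algebra.TensorProduct.map_comp]
      rfl
  refine ⟨fun x hx => ?_⟩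
  obtain ⟨E, hE, y, rfl⟩ := h x
  haveI := hE
  haveI : Algebra.IsSeparable K E := Algebra.isSeparable_tower_bot_of_isSeparable K E L
  haveI := Groth.FunFld1.isReduced_tensor_separable (k := K) (k' := K') (F := E)
  have hinj : Function.Injective (Algebra.TensorProduct.map (AlgHom.id K K') E.val) :=
    Module.Flat.lTensor_preserves_injective_linearMap (M := K') E.val.toLinearMap Subtype.val_injective
  rw [((IsNilpotent.map_iff hinj).mp hx).eq_zero, map_zero]

theorem finite_integralClosure (B L L' : Type u) [CommRing B] [IsDomain B] [Field L] [Algebra B L]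
    [IsFractionRing B L] [CommRing L'] [IsReduced L'] [Algebra L L'] [Algebra B L'] [IsScalarTower B L L']
    [Module.Finite L L'] (hB : CAlg.IsNagata B) : Module.Finite B (integralClosure B L') := by
  haveI := hB.1
  haveI : IsArtinianRing L' := IsArtinianRing.of_finite L L'
  haveI : Finite (MaximalSpectrum L') := inferInstance
  letI : ∀ i : MaximalSpectrum L', Field (L' ⧸ i.asIdeal) := fun i => Ideal.Quotient.field i.asIdeal
  refine Groth.PropsBasic.finite_integralClosure_of_jointlyInjective
    (fun i : MaximalSpectrum L' => L' ⧸ i.asIdeal) (fun i => Ideal.Quotient.mkₐ B i.asIdeal) ?_ fun i =>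
      Groth.Calg4.finite_ic_of_isN2 (Groth.Calg1.isN2_self_of_isNagata hB) L (L' ⧸ i.asIdeal)
  intro a b hab
  rw [← sub_eq_zero]
  refine IsNilpotent.eq_zero (nilpotent_iff_mem_prime.mpr fun P hP => ?_)
  haveI : P.IsMaximal := Ideal.IsPrime.isMaximal' ‹_›
  exact Ideal.Quotient.eq.mp (hab ⟨P, ‹_›⟩)

theorem isN2 (A B K L : Type u) [CommRing A] [IsDomain A] [IsDiscreteValuationRing A]
    [CommRing B] [IsDomain B] [IsDiscreteValuationRing B] [Algebra A B] [IsLocalHom (algebraMap A B)]
    (hinj : Function.Injective (algebraMap A B))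
    [Field K] [Field L] [Algebra A K] [IsFractionRing A K] [Algebra B L] [IsFractionRing B L]
    [Algebra K L] [Algebra A L] [IsScalarTower A K L] [IsScalarTower A B L] [Algebra.IsSeparable K L]
    (hB : CAlg.IsNagata B) (K' : Type u) [Field K'] [Algebra A K'] [Algebra K K'] [IsScalarTower A K K']
    [FiniteDimensional K K'] : Module.Finite A (integralClosure A K') := by
  let C := integralClosure A K'
  haveI := hB.1
  haveI : FaithfulSMul A B := (faithfulSMul_iff_algebraMap_injective A B).mpr hinj
  haveI : Module.IsTorsionFree A B := inferInstance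
  haveI : Module.Flat A B := inferInstance
  haveI : Module.FaithfullyFlat A B := Module.FaithfullyFlat.of_flat_of_isLocalHom
  haveI : Module.Flat A K := IsLocalization.flat K A⁰
  haveI : Module.Flat A K' := Module.Flat.trans A K K'
  haveI : IsReduced (L ⊗[K] K') := isReduced_tensor K L K'
  haveI : TensorProduct.CompatibleSMul A K L K' := IsLocalization.tensorProduct_compatibleSMul A⁰ K L K'
  let f₁ : B ⊗[A] C →ₐ[B] B ⊗[A] K' := Algebra.TensorProduct.map (AlgHom.id B B) C.val
  let f₂ : B ⊗[A] K' →ₐ[B] L ⊗[A] K' :=
    Algebra.TensorProduct.map (Algebra.ofId B L) (AlgHom.id A K')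
  let e : L ⊗[A] K' ≃ₐ[B] L ⊗[K] K' := (Algebra.TensorProduct.equivOfCompatibleSMul A K B L K').symm
  let Φ : B ⊗[A] C →ₐ[B] L ⊗[K] K' := e.toAlgHom.comp (f₂.comp f₁)
  have hΦ : Function.Injective Φ :=
    e.injective.comp ((Module.Flat.rTensor_preserves_injective_linearMap (M := K')
      (IsScalarTower.toAlgHom A B L).toLinearMap (IsFractionRing.injective B L)).comp
      (Module.Flat.lTensor_preserves_injective_linearMap (M := B) C.val.toLinearMap Subtype.val_injective))
  have hint : ∀ x, IsIntegral B (Φ x) := fun x => by
    refine IsIntegral.map Φ ?_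
    induction x with
    | zero => exact isIntegral_zero
    | add x y hx hy => exact hx.add hy
    | tmul b c =>
      have hc : IsIntegral A c := (isIntegral_algHom_iff C.val Subtype.val_injective).mp c.2
      rw [show b ⊗ₜ[A] c = b • ((1 : B) ⊗ₜ[A] c) by rw [TensorProduct.smul_tmul', smul_eq_mul, mul_one]]
      exact ((hc.map (Algebra.TensorProduct.includeRight : C →ₐ[A] B ⊗[A] C)).tower_top).smul b
  haveI := finite_integralClosure B L (L ⊗[K] K') hB
  haveI : IsNoetherian B (integralClosure B (L ⊗[K] K')) := isNoetherian_of_isNoetherianRing_of_finite B _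
  haveI : Module.Finite B (B ⊗[A] C) := Module.Finite.of_injective
    (Φ.toLinearMap.codRestrict (integralClosure B (L ⊗[K] K')).toSubmodule hint)
    fun x y h => hΦ (congrArg Subtype.val h)
  exact Module.Finite.of_finite_tensorProduct_of_faithfullyFlat B

/-- Let A -> B be an extension of discrete valuation rings whose extension of fraction fields L/K is
separable. If B is a Nagata ring then so is A. -/
theorem result (A B K L : Type u) [CommRing A] [IsDomain A] [IsDiscreteValuationRing A]
    [CommRing B] [IsDomain B] [IsDiscreteValuationRing B] [Algebra A B] [IsLocalHom (algebraMap A B)]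
    (hinj : Function.Injective (algebraMap A B))
    [Field K] [Field L] [Algebra A K] [IsFractionRing A K] [Algebra B L] [IsFractionRing B L]
    [Algebra K L] [Algebra A L] [IsScalarTower A K L] [IsScalarTower A B L] [Algebra.IsSeparable K L] (hB : CAlg.IsNagata B) :
    CAlg.IsNagata A := by
  refine ⟨inferInstance, fun p hp => ?_⟩
  rcases eq_or_ne p ⊥ with rfl | hp0
  · refine Groth.Calg2.CompleteNagata.isN2_of_ringEquiv (RingEquiv.quotientBot A).symm ?_
    intro K' _ _ _ _ hfin
    let e := (FractionRing.algEquiv A K).symm
    letI : Algebra K K' := ((algebraMap (FractionRing A) K').comp e.toRingHom).toAlgebra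
    haveI : IsScalarTower A K K' := IsScalarTower.of_algebraMap_eq fun a => by
      show algebraMap A K' a = algebraMap (FractionRing A) K' (e (algebraMap A K a))
      rw [AlgEquiv.commutes, ← IsScalarTower.algebraMap_apply]
    haveI : FiniteDimensional K K' := Module.Finite.of_equiv_equiv (A₁ := FractionRing A) (B₁ := K')
      e.symm.toRingEquiv (RingEquiv.refl K') (RingHom.ext fun x => by
        show algebraMap (FractionRing A) K' (e (e.symm x)) = _
        rw [AlgEquiv.apply_symm_apply]; rfl)
    exact isN2 A B K L hinj hB K'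
  · haveI : p.IsMaximal := Ideal.IsPrime.isMaximal hp hp0
    letI := Ideal.Quotient.field p
    exact Groth.Calg2.CompleteNagata.isN2_field (A ⧸ p)

end Groth.Agent.S1985
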