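import Groth.Statements.S19856
import Mathlib

set_option autoImplicit false
universe u v
open CAlg

namespace Groth.Agent.S19856

/-- Ring-level form: let O be a discrete valuation ring and G a finite group acting faithfully on O by
ring automorphisms, such that every element of G acts trivially on the residue field of O (that is,
g • a - a lies in the maximal ideal for all a) and such that the order of G is nonzero in the
residue field of O. Then G is cyclic. (The source states this for a finite group of order invertible
in an algebraically closed field k acting faithfully on a smooth connected k-variety and the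
subgroup of elements fixing pointwise a codimension-one irreducible component of the ramification
locus, applied to the local ring at the generic point of that component; it is stated here for an
arbitrary discrete valuation ring with a faithful action. The source also shows that this subgroup
is nontrivial; that geometric part is not stated.) -/
theorem result
    (O : Type u) [CommRing O] [IsDomain O] [IsDiscreteValuationRing O]
    (G : Type v) [Group G] [Finite G] [MulSemiringAction G O] [FaithfulSMul G O]
    (htriv : ∀ (g : G) (a : O), g • a - a ∈ IsLocalRing.maximalIdeal O)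
    (hcard : ((Nat.card G : ℕ) : IsLocalRing.ResidueField O) ≠ 0) :
    IsCyclic G := by
  classical
  obtain ⟨π, hπ⟩ := IsDiscreteValuationRing.exists_irreducible O
  let m := IsLocalRing.maximalIdeal O
  have hm : m = Ideal.span {π} := hπ.maximalIdeal_eq
  have hex : ∀ g : G, ∃ c : O, g • π = π * c := fun g => by
    have h : g • π ∈ m := by
      have := add_mem (htriv g π) (show π ∈ m by rw [hm]; exact Ideal.mem_span_singleton_self π)
      rwa [sub_add_cancel] at this
    rw [hm] at h
    exact Ideal.mem_span_singleton.1 h
  choose c hc using hex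
  have hπ0 : π ≠ 0 := hπ.ne_zero
  have hmul : ∀ g h, c (g * h) = c g * g • c h := fun g h => mul_left_cancel₀ hπ0 (by rw [← hc, mul_smul, hc h, smul_mul', hc g, mul_assoc])
  have hone : c 1 = 1 := mul_left_cancel₀ hπ0 (by rw [← hc, one_smul, mul_one])
  let χ : G →* IsLocalRing.ResidueField O :=
    { toFun := fun g => IsLocalRing.residue O (c g)
      map_one' := by rw [hone, map_one]
      map_mul' := fun g h => by
        show IsLocalRing.residue O (c (g * h)) = IsLocalRing.residue O (c g) * IsLocalRing.residue O (c h)
        rw [hmul, map_mul, show IsLocalRing.residue O (g • c h) = IsLocalRing.residue O (c h) from Ideal.Quotient.eq.2 (htriv g (c h))] }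
  refine isCyclic_of_injective_ringHom χ ?_
  refine (injective_iff_map_eq_one χ).2 fun g hg => ?_
  have hπ2 : g • π - π ∈ m ^ 2 := by
    have h1 : c g - 1 ∈ m := Ideal.Quotient.eq.1 (hg.trans (map_one (IsLocalRing.residue O)).symm)
    rw [hc, show π * c g - π = π * (c g - 1) by ring, sq]
    exact Ideal.mul_mem_mul (by rw [hm]; exact Ideal.mem_span_singleton_self π) h1
  obtain ⟨q, hq⟩ : orderOf g ∣ Nat.card G := orderOf_dvd_natCard g
  have he : IsUnit ((orderOf g : ℕ) : O) := by
    refine IsLocalRing.notMem_maximalIdeal.1 fun h => hcard ?_
    rw [← map_natCast (IsLocalRing.residue O), hq, Nat.cast_mul, map_mul, (IsLocalRing.residue_eq_zero_iff _).2 h, zero_mul]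
  have hstep : ∀ n, 1 ≤ n → ∀ u : O, u ∈ m ^ n → g • u - u ∈ m ^ (n + 1) := by
    intro n hn u hu
    rw [hm, Ideal.span_singleton_pow] at hu
    obtain ⟨v, rfl⟩ := Ideal.mem_span_singleton.1 hu
    rw [smul_mul', smul_pow', show (g • π) ^ n * g • v - π ^ n * v = ((g • π) ^ n - π ^ n) * g • v + π ^ n * (g • v - v) by ring]
    refine add_mem (Ideal.mul_mem_right _ _ ?_) ?_
    · obtain ⟨k, rfl⟩ : ∃ k, n = k + 1 := ⟨n - 1, by omega⟩
      rw [← geom_sum₂_mul, show k + 1 + 1 = k + 2 from rfl, pow_add m k 2]
      refine Ideal.mul_mem_mul (Ideal.sum_mem _ fun i hi => ?_) hπ2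
      have hgπ : g • π ∈ m := by rw [hc, hm]; exact Ideal.mem_span_singleton'.2 ⟨c g, mul_comm _ _⟩
      have := Ideal.mul_mem_mul (Ideal.pow_mem_pow hgπ i) (Ideal.pow_mem_pow (show π ∈ m by rw [hm]; exact Ideal.mem_span_singleton_self π) (k + 1 - 1 - i))
      rwa [← pow_add, show i + (k + 1 - 1 - i) = k by (simp only [Finset.mem_range] at hi; omega)] at this
    · rw [pow_succ]
      exact Ideal.mul_mem_mul (Ideal.pow_mem_pow (by rw [hm]; exact Ideal.mem_span_singleton_self π) n) (htriv g v)
  have hD : ∀ n, ∀ a : O, g • a - a ∈ m ^ (n + 1) := by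
    intro n
    induction n with
    | zero => intro a; rw [pow_one]; exact htriv g a
    | succ n ih =>
      intro a
      have key : ∀ j : ℕ, g ^ j • a - (a + (j : O) * (g • a - a)) ∈ m ^ (n + 2) := by
        intro j
        induction j with
        | zero => simp
        | succ j ihj =>
          have h1 : g • (g ^ j • a - a) - (g ^ j • a - a) ∈ m ^ (n + 2) := by
            refine hstep (n + 1) (by omega) _ ?_
            have hle : m ^ (n + 2) ≤ m ^ (n + 1) := Ideal.pow_le_pow_right (by omega)
            simpa [sub_add_eq_sub_sub] using add_mem (hle ihj) (Ideal.mul_mem_left _ (j : O) (ih a))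
          have : g ^ (j + 1) • a - (a + ((j + 1 : ℕ) : O) * (g • a - a)) =
              (g • (g ^ j • a - a) - (g ^ j • a - a)) + (g ^ j • a - (a + (j : O) * (g • a - a))) := by
            rw [pow_succ', mul_smul, smul_sub g (g ^ j • a) a]; push_cast; ring
          rw [this]
          exact add_mem h1 ihj
      have := key (orderOf g)
      rw [pow_orderOf_eq_one, one_smul, sub_add_cancel_left, neg_mem_iff] at this
      exact (Ideal.unit_mul_mem_iff_mem _ he).1 this
  refine eq_of_smul_eq_smul (α := O) fun a => ?_
  rw [one_smul, ← sub_eq_zero]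
  have : g • a - a ∈ ⨅ n, m ^ n := Ideal.mem_iInf.2 fun n => Ideal.pow_le_pow_right (Nat.le_succ n) (hD n a)
  rwa [Ideal.iInf_pow_eq_bot_of_isLocalRing m (IsLocalRing.maximalIdeal.isMaximal O).ne_top, Ideal.mem_bot] at this

end Groth.Agent.S19856
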