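import Groth.Statements.S7151
import Groth.Agent.EtaleAlgebra.DeformPInsep
import Groth.Agent.EtaleAlgebra.ExtBaseChange
import Groth.Agent.EtaleAlgebra.TameCompositum
import Mathlib.FieldTheory.KummerPolynomial
import Mathlib.FieldTheory.PrimitiveElement
import Mathlib.FieldTheory.PurelyInseparable.Exponent
import Mathlib.LinearAlgebra.TensorProduct.Basic

set_option autoImplicit false
universe u
open EtAlg

open Groth.EtaleAlgebra IsLocalRing TensorProduct EtRam

namespace Groth.Agent.S7151

set_option linter.style.haveILetI false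
set_option linter.overlappingInstances false

section Helper
open IsLocalRing TensorProduct Groth.EtaleAlgebra

/-- Geometric reducedness ascends to an intermediate finite extension. -/
theorem isGeometricallyReduced_top (k F E : Type u) [Field k] [Field F] [Field E] [Algebra k F]
    [Algebra k E] [Algebra F E] [IsScalarTower k F E] [FiniteDimensional k F]
    [Algebra.IsGeometricallyReduced k E] : Algebra.IsGeometricallyReduced F E := by
  have : Algebra.IsGeometricallyReduced F (F ⊗[k] E) := by
    rw [Algebra.isGeometricallyReduced_field_iff]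
    have : Algebra.IsAlgebraic k (AlgebraicClosure F) :=
      Algebra.IsAlgebraic.trans k F (AlgebraicClosure F)
    have : IsReduced (AlgebraicClosure F ⊗[k] E) := inferInstance
    exact isReduced_of_injective
      (Algebra.TensorProduct.cancelBaseChange k F (AlgebraicClosure F) (AlgebraicClosure F) E).toRingHom
      (Algebra.TensorProduct.cancelBaseChange k F (AlgebraicClosure F) (AlgebraicClosure F) E).injective
  have : IsReduced (F ⊗[k] E) := Algebra.isReduced_of_isGeometricallyReduced F
  have : IsArtinianRing (E ⊗[k] F) := IsArtinianRing.of_finite E _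
  have : IsArtinianRing (F ⊗[k] E) :=
    (Algebra.TensorProduct.comm k E F).toRingEquiv.surjective.isArtinianRing
  let π : F ⊗[k] E →ₐ[F] E := Algebra.TensorProduct.lift (Algebra.ofId F E) (AlgHom.id k E)
    (fun _ _ => Commute.all _ _)
  have hπ : Function.Surjective π := fun x => ⟨1 ⊗ₜ x, by
    refine (Algebra.TensorProduct.lift_tmul _ _ _ _ _).trans ?_
    rw [map_one, one_mul]
    rfl⟩
  have : (RingHom.ker π).IsMaximal := RingHom.ker_isMaximal_of_surjective π hπ
  have := isGeometricallyReduced_quotient F (F ⊗[k] E) (RingHom.ker π) fun x hx =>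
    exists_notMem_mul_eq_zero (fun Q _ => IsArtinianRing.isMaximal_of_isPrime Q) _ hx
  exact Algebra.IsGeometricallyReduced.of_injective
    (Ideal.quotientKerAlgEquivOfSurjective hπ).symm.toAlgHom
    (Ideal.quotientKerAlgEquivOfSurjective hπ).symm.injective

/-- The `p`-th power of an element of `R[X]/(X^p - r)` is constant. -/
theorem adjoinRoot_pow_mem {R : Type u} [CommRing R] (p : ℕ) [Fact p.Prime] [CharP R p]
    (r : R) [CharP (AdjoinRoot (Polynomial.X ^ p - Polynomial.C r)) p]
    (x : AdjoinRoot (Polynomial.X ^ p - Polynomial.C r)) :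
    ∃ a : R, x ^ p = AdjoinRoot.of _ a := by
  have hroot : AdjoinRoot.root (Polynomial.X ^ p - Polynomial.C r) ^ p = AdjoinRoot.of _ r := by
    have h := AdjoinRoot.eval₂_root (Polynomial.X ^ p - Polynomial.C r)
    rwa [Polynomial.eval₂_sub, Polynomial.eval₂_X_pow, Polynomial.eval₂_C, sub_eq_zero] at h
  induction x using AdjoinRoot.induction_on with
  | ih q =>
    induction q using Polynomial.induction_on' with
    | add u v hu hv =>
      obtain ⟨a, ha⟩ := hu
      obtain ⟨b, hb⟩ := hv
      exact ⟨a + b, by rw [map_add, add_pow_char, ha, hb, map_add]⟩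
    | monomial n c =>
      refine ⟨c ^ p * r ^ n, ?_⟩
      rw [← Polynomial.C_mul_X_pow_eq_monomial, map_mul, map_pow, mul_pow, AdjoinRoot.mk_C,
        AdjoinRoot.mk_X, ← pow_mul, mul_comm n p, pow_mul, hroot, map_mul, map_pow, map_pow]

set_option synthInstance.maxHeartbeats 200000 in
set_option maxHeartbeats 4000000 in
theorem local_bound (p : ℕ) (hp : p.Prime) (A B K L : Type u)
    [CommRing A] [IsDomain A] [IsDiscreteValuationRing A] [CommRing B] [IsDomain B] [IsDiscreteValuationRing B]
    [Algebra A B] (hinj : Function.Injective (algebraMap A B)) [IsLocalHom (algebraMap A B)]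
    [Field K] [Field L] [Algebra A K] [IsFractionRing A K] [Algebra B L] [IsFractionRing B L]
    [Algebra K L] [Algebra A L] [IsScalarTower A K L] [IsScalarTower A B L] [CharP K p]
    (hB : CAlg.IsNagata B)
    (K₁ K₂ : Type u) [Field K₁] [Field K₂] [Algebra K K₁] [Algebra K K₂] [Algebra K₁ K₂]
    [IsScalarTower K K₁ K₂] [FiniteDimensional K K₁] [FiniteDimensional K₁ K₂]
    (hsol : EtRam.IsSolution B K L K₂) (pb₂ : PowerBasis K₁ K₂) (β : K₂) (hpb₂ : pb₂.gen = β)
    (hpb₂d : pb₂.dim = p) (a : K₁) (hβp : β ^ p = algebraMap K₁ K₂ a)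
    (hmin : minpoly K₁ β = Polynomial.X ^ p - Polynomial.C a) {τ : A} (hτ : Irreducible τ)
    (M₁ : Type u) [Field M₁] [Algebra K M₁] [Algebra L M₁] [Algebra K₁ M₁] [Algebra B M₁]
    [IsScalarTower K L M₁] [IsScalarTower K K₁ M₁] [IsScalarTower B L M₁] [FiniteDimensional L M₁]
    [Algebra.IsGeometricallyReduced K₁ M₁]
    (hgen₁ : ∀ x : M₁, x ∈ Subring.closure
      (Set.range (algebraMap K₁ M₁) ∪ Set.range (algebraMap L M₁))) :
    ∃ N : ℕ, ∀ n, N ≤ n → ∀ W₁ : ValuationSubring M₁,
      Dominates B ((algebraMap L M₁).comp (algebraMap B L)) W₁ →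
      ∀ (M₃ : Type u) [Field M₃] [Algebra M₁ M₃] (θ : M₃),
        θ ^ p = algebraMap M₁ M₃ (algebraMap K₁ M₁ a) +
          algebraMap M₁ M₃ (algebraMap K₁ M₁ ((algebraMap K K₁ (algebraMap A K τ)) ^ n)) * θ →
        Algebra.adjoin M₁ {θ} = ⊤ → ∀ W₃ : ValuationSubring M₃,
          W₃.comap (algebraMap M₁ M₃) = W₁ →
        ∀ (K₃ : Type u) [Field K₃] [Algebra K₁ K₃] (θ₀ : K₃) (j : K₃ →+* M₃),
          (∀ x : K₁, j (algebraMap K₁ K₃ x) = algebraMap M₁ M₃ (algebraMap K₁ M₁ x)) → j θ₀ = θ →
          IntermediateField.adjoin K₁ {θ₀} = ⊤ →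
          let _ : Algebra (W₃.comap j) W₃ := (inclOfComap W₃ j).toAlgebra
          IsWeaklyUnramified (W₃.comap j) W₃ ∧
            @Algebra.IsGeometricallyReduced (ResidueField (W₃.comap j)) (ResidueField W₃) _ _
              (ResidueField.map (inclOfComap W₃ j)).toAlgebra := by
  classical
  have : Fact p.Prime := ⟨hp⟩
  have : CharP K₁ p := charP_of_injective_ringHom (algebraMap K K₁).injective p
  have : CharP M₁ p := charP_of_injective_ringHom (algebraMap K₁ M₁).injective p
  have hKL : ∀ x : K, algebraMap K₁ M₁ (algebraMap K K₁ x) = algebraMap L M₁ (algebraMap K L x) :=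
    fun x => by rw [← IsScalarTower.algebraMap_apply K K₁ M₁, ← IsScalarTower.algebraMap_apply K L M₁]
  let α : M₁ := algebraMap K₁ M₁ a
  have hα : ∀ y : M₁, y ^ p ≠ α := by
    intro y hy
    have : IsReduced (K₂ ⊗[K₁] M₁) := inferInstance
    have : Nontrivial (K₂ ⊗[K₁] M₁) :=
      (Algebra.TensorProduct.includeRight_injective (R := K₁) (A := K₂) (B := M₁)
        (algebraMap K₁ K₂).injective).nontrivial
    have : CharP (K₂ ⊗[K₁] M₁) p :=
      charP_of_injective_ringHom (algebraMap K₁ (K₂ ⊗[K₁] M₁)).injective p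
    have h0 : β ⊗ₜ[K₁] (1 : M₁) - (1 : K₂) ⊗ₜ[K₁] y = 0 := IsReduced.eq_zero _ ⟨p, by
      rw [sub_pow_char, Algebra.TensorProduct.tmul_pow, Algebra.TensorProduct.tmul_pow, one_pow,
        one_pow, hβp, hy, Algebra.algebraMap_eq_smul_one, TensorProduct.smul_tmul,
        ← Algebra.algebraMap_eq_smul_one, sub_self]⟩
    let ℓ : K₂ →ₗ[K₁] K₁ := pb₂.basis.coord ⟨1, hpb₂d ▸ hp.one_lt⟩
    have hℓβ : ℓ β = 1 := by
      have : β = pb₂.basis ⟨1, hpb₂d ▸ hp.one_lt⟩ := by rw [pb₂.basis_eq_pow, hpb₂, pow_one]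
      rw [this]
      simp only [ℓ, Module.Basis.coord_apply, Module.Basis.repr_self, Finsupp.single_eq_same]
    have hℓ1 : ℓ 1 = 0 := by
      have h : (1 : K₂) = pb₂.basis ⟨0, hpb₂d ▸ hp.pos⟩ := by rw [pb₂.basis_eq_pow, pow_zero]
      rw [h]
      simp only [ℓ, Module.Basis.coord_apply, Module.Basis.repr_self]
      exact Finsupp.single_eq_of_ne (by simp [Fin.ext_iff])
    have h1 := congrArg (fun t => TensorProduct.lid K₁ M₁ (ℓ.rTensor M₁ t)) h0
    simp [hℓβ, hℓ1] at h1
  let fα : Polynomial M₁ := Polynomial.X ^ p - Polynomial.C α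
  have : Fact (Irreducible fα) := ⟨X_pow_sub_C_irreducible_of_prime hp hα⟩
  let M₂ := AdjoinRoot fα
  have : CharP M₂ p := charP_of_injective_ringHom (algebraMap M₁ M₂).injective p
  let pb : PowerBasis M₁ M₂ := AdjoinRoot.powerBasis (Polynomial.X_pow_sub_C_ne_zero hp.pos α)
  have hpbd : pb.dim = p := Polynomial.natDegree_X_pow_sub_C
  have hgen : pb.gen ^ pb.dim = algebraMap M₁ M₂ α := by
    rw [hpbd]
    have h := AdjoinRoot.eval₂_root fα
    rwa [Polynomial.eval₂_sub, Polynomial.eval₂_X_pow, Polynomial.eval₂_C, sub_eq_zero] at h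
  have : IsScalarTower B L M₂ := IsScalarTower.of_algebraMap_eq fun b => by
    rw [IsScalarTower.algebraMap_apply B M₁ M₂, IsScalarTower.algebraMap_apply B L M₁,
      ← IsScalarTower.algebraMap_apply L M₁ M₂]
  have : Module.Finite M₁ M₂ := pb.finite
  have : FiniteDimensional L M₂ := FiniteDimensional.trans L M₁ M₂
  have : Module.Finite K₁ K₂ := inferInstance
  let ι : K₂ →ₐ[K₁] M₂ := pb₂.lift (AdjoinRoot.root fα) (by
    rw [hpb₂, hmin, map_sub, map_pow, Polynomial.aeval_X, Polynomial.aeval_C, sub_eq_zero,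
      IsScalarTower.algebraMap_apply K₁ M₁ M₂, ← hgen, hpbd]
    rfl)
  have hιβ : ι pb₂.gen = AdjoinRoot.root fα := pb₂.lift_gen _ _
  let _ : Algebra K₂ M₂ := ι.toRingHom.toAlgebra
  have : IsScalarTower K L M₂ := IsScalarTower.of_algebraMap_eq fun x => by
    rw [IsScalarTower.algebraMap_apply L M₁ M₂, ← IsScalarTower.algebraMap_apply K L M₁,
      ← IsScalarTower.algebraMap_apply K M₁ M₂]
  have : IsScalarTower K K₂ M₂ := IsScalarTower.of_algebraMap_eq fun x => by
    show _ = ι (algebraMap K K₂ x)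
    rw [IsScalarTower.algebraMap_apply K K₁ K₂, AlgHom.commutes,
      IsScalarTower.algebraMap_apply K₁ M₁ M₂, hKL, ← IsScalarTower.algebraMap_apply L M₁ M₂,
      ← IsScalarTower.algebraMap_apply K L M₂]
  have hadj₂ : Algebra.adjoin L (Set.range (algebraMap K₂ M₂)) = ⊤ := by
    refine eq_top_iff.2 fun x _ => ?_
    have hM₁ : ∀ y : M₁, algebraMap M₁ M₂ y ∈ Algebra.adjoin L (Set.range (algebraMap K₂ M₂)) := by
      intro y
      have hy := hgen₁ y
      induction hy using Subring.closure_induction with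
      | mem z hz =>
        rcases hz with ⟨u, rfl⟩ | ⟨v, rfl⟩
        · rw [← IsScalarTower.algebraMap_apply K₁ M₁ M₂, ← ι.commutes]
          exact Algebra.subset_adjoin ⟨_, rfl⟩
        · rw [← IsScalarTower.algebraMap_apply L M₁ M₂]
          exact Subalgebra.algebraMap_mem _ _
      | zero => rw [map_zero]; exact zero_mem _
      | one => rw [map_one]; exact one_mem _
      | add _ _ _ _ hu hv => rw [map_add]; exact add_mem hu hv
      | neg _ _ hu => rw [map_neg]; exact neg_mem hu
      | mul _ _ _ _ hu hv => rw [map_mul]; exact mul_mem hu hv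
    induction x using AdjoinRoot.induction_on with
    | ih q =>
      induction q using Polynomial.induction_on' with
      | add u v hu hv => rw [map_add]; exact add_mem (hu trivial) (hv trivial)
      | monomial n c =>
        rw [← Polynomial.C_mul_X_pow_eq_monomial, map_mul, map_pow, AdjoinRoot.mk_C,
          AdjoinRoot.mk_X]
        exact mul_mem (hM₁ c) (pow_mem (Algebra.subset_adjoin (s := Set.range (algebraMap K₂ M₂))
          ⟨pb₂.gen, hιβ⟩) n)
  have hfinW := PDeform.finite_dominating B L M₁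
  have hper : ∀ W : {W : ValuationSubring M₁ //
      Dominates B ((algebraMap L M₁).comp (algebraMap B L)) W},
      ∃ N : ℕ, ∀ n, N ≤ n → ∀ (M₃ : Type u) [Field M₃] [Algebra M₁ M₃] (θ : M₃),
      θ ^ p = algebraMap M₁ M₃ α +
        algebraMap M₁ M₃ (algebraMap K₁ M₁ ((algebraMap K K₁ (algebraMap A K τ)) ^ n)) * θ →
      Algebra.adjoin M₁ {θ} = ⊤ → ∀ W₃ : ValuationSubring M₃,
        W₃.comap (algebraMap M₁ M₃) = W.1 →
      ∀ (K₃ : Type u) [Field K₃] [Algebra K₁ K₃] (θ₀ : K₃) (j : K₃ →+* M₃),
        (∀ x : K₁, j (algebraMap K₁ K₃ x) = algebraMap M₁ M₃ (algebraMap K₁ M₁ x)) → j θ₀ = θ →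
        IntermediateField.adjoin K₁ {θ₀} = ⊤ →
        let _ : Algebra (W₃.comap j) W₃ := (inclOfComap W₃ j).toAlgebra
        IsWeaklyUnramified (W₃.comap j) W₃ ∧
          @Algebra.IsGeometricallyReduced (ResidueField (W₃.comap j)) (ResidueField W₃) _ _
            (ResidueField.map (inclOfComap W₃ j)).toAlgebra := by
    rintro ⟨W₁, hW₁⟩
    obtain ⟨W₂, hW₂c⟩ := exists_comap_eq W₁ (algebraMap M₁ M₂)
    have hW₂ : Dominates B ((algebraMap L M₂).comp (algebraMap B L)) W₂ := by
      rw [IsScalarTower.algebraMap_eq L M₁ M₂, RingHom.comp_assoc]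
      exact dominates_comp_iff.2 (hW₂c ▸ hW₁)
    have : IsDiscreteValuationRing W₂ := isDiscreteValuationRing_of_dominates B L M₂ hW₂
    have hpow : ∀ x : M₂, ∃ y : M₁, x ^ p = algebraMap M₁ M₂ y := adjoinRoot_pow_mem p α
    obtain ⟨G, hG, hspan⟩ := PDeform.finite_pInsep B L M₁ M₂ hB hp.ne_zero hpow hW₂
    let s : M₁ := algebraMap L M₁ (algebraMap B L (algebraMap A B τ))
    have hτB : algebraMap A B τ ∈ maximalIdeal B := (map_mem_nonunits_iff (algebraMap A B) τ).2
      (hτ.maximalIdeal_eq.ge (Ideal.mem_span_singleton_self τ))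
    have hs : W₁.valuation s < 1 := hW₁.2 _ hτB
    have hsK : s = algebraMap K₁ M₁ (algebraMap K K₁ (algebraMap A K τ)) := by
      rw [hKL, ← IsScalarTower.algebraMap_apply A K L, IsScalarTower.algebraMap_apply A B L]
    have hs0 : s ≠ 0 := (map_ne_zero_iff _ (algebraMap L M₁).injective).2
      ((map_ne_zero_iff _ (IsFractionRing.injective B L)).2 ((map_ne_zero_iff _ hinj).2 hτ.ne_zero))
    obtain ⟨N, hN⟩ := PDeform.deform pb hgen (hpbd ▸ hp.two_le)
      (fun x => by rw [hpbd]; exact hpow x) W₁ W₂ hW₂c G hG hspan hs hs0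
    refine ⟨N, fun n hn M₃ _ _ θ hθ hadj W₃ hW₃ K₃ _ _ θ₀ j hj hjθ hK₃ => ?_⟩
    obtain ⟨h, hunif, e, he⟩ := hN (algebraMap K₁ M₁ ((algebraMap K K₁ (algebraMap A K τ)) ^ n))
      ⟨s ^ (n - N), pow_mem ((W₁.valuation_le_one_iff s).1 hs.le) _, by
        rw [← pow_add, Nat.add_sub_cancel' hn, map_pow, hsK]⟩
      M₃ θ (by rw [hpbd]; exact hθ) hadj W₃ hW₃
    -- the solution upstairs
    obtain ⟨hw₂, hg₂⟩ := hsol M₂ hadj₂ W₂ hW₂
    let V₂ := W₂.comap (algebraMap K₂ M₂)
    let V₃ := W₃.comap j
    let _ : Algebra V₂ W₂ := (inclOfComap W₂ (algebraMap K₂ M₂)).toAlgebra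
    let _ : Algebra V₃ W₃ := (inclOfComap W₃ j).toAlgebra
    have : IsLocalHom (algebraMap V₂ W₂) := isLocalHom_inclOfComap W₂ _
    have : IsLocalHom (algebraMap V₃ W₃) := isLocalHom_inclOfComap W₃ _
    let ψ : K₂ →ₗ[K₁] K₃ := pb₂.basis.constr K₁ fun i => θ₀ ^ (i : ℕ)
    have hψ : ∀ x : K₂, PDeform.phi pb θ (ι x) = j (ψ x) := by
      let _ : Algebra K₁ M₃ := ((algebraMap M₁ M₃).comp (algebraMap K₁ M₁)).toAlgebra
      have : IsScalarTower K₁ M₁ M₃ := IsScalarTower.of_algebraMap_eq fun _ => rfl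
      let j' : K₃ →ₐ[K₁] M₃ := AlgHom.mk j hj
      suffices heq : ((PDeform.phi pb θ).restrictScalars K₁).comp ι.toLinearMap =
          j'.toLinearMap.comp ψ from fun x => DFunLike.congr_fun heq x
      refine pb₂.basis.ext fun i => ?_
      show PDeform.phi pb θ (ι (pb₂.basis i)) = j (ψ (pb₂.basis i))
      rw [Module.Basis.constr_basis, pb₂.basis_eq_pow, map_pow ι, map_pow j, hιβ, hjθ]
      exact PDeform.phi_gen_pow pb θ (hpbd.symm ▸ hpb₂d ▸ i.2)
    let f₃ : V₂ → V₃ := fun x => ⟨ψ (x : K₂), by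
      show j (ψ (x : K₂)) ∈ W₃
      rw [← hψ]
      exact h ⟨ι (x : K₂), x.2⟩⟩
    have hf₃ : ∀ x : V₂, residue W₃ (algebraMap V₃ W₃ (f₃ x)) =
        e (residue W₂ (algebraMap V₂ W₂ x)) := fun x => by
      rw [he]
      exact congrArg (residue W₃) (Subtype.ext (hψ (x : K₂)).symm)
    have : IsDiscreteValuationRing W₁ :=
      isDiscreteValuationRing_of_dominates B L M₁ hW₁
    refine ⟨?_, ?_⟩
    · show (maximalIdeal V₃).map (algebraMap V₃ W₃) = maximalIdeal W₃
      refine le_antisymm
        (((IsLocalRing.local_hom_TFAE (algebraMap V₃ W₃)).out 0 2 rfl rfl).1 inferInstance) ?_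
      obtain ⟨ϖ, hϖ⟩ : ∃ ϖ : V₂, maximalIdeal W₂ = Ideal.span {algebraMap V₂ W₂ ϖ} := by
        have : IsPrincipalIdealRing W₂ := inferInstance
        obtain ⟨π₂, hπ₂⟩ := IsDiscreteValuationRing.exists_irreducible W₂
        have hnle : ¬ (maximalIdeal V₂).map (algebraMap V₂ W₂) ≤ maximalIdeal W₂ ^ 2 := by
          rw [hw₂]
          intro hle
          have := Ideal.pow_succ_lt_pow (IsDiscreteValuationRing.not_a_field W₂) 1
          rw [pow_one] at this
          exact this.not_ge hle
        rw [Ideal.map_le_iff_le_comap, SetLike.not_le_iff_exists] at hnle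
        obtain ⟨x, hx, hx2⟩ := hnle
        refine ⟨x, ?_⟩
        have hxm : algebraMap V₂ W₂ x ∈ maximalIdeal W₂ := hw₂ ▸ Ideal.mem_map_of_mem _ hx
        have hx0 : algebraMap V₂ W₂ x ≠ 0 := fun h0 => hx2 (by
          rw [Ideal.mem_comap, h0]; exact zero_mem _)
        obtain ⟨k, v, hv⟩ := IsDiscreteValuationRing.eq_unit_mul_pow_irreducible hx0 hπ₂
        rcases k with _ | _ | k
        · rw [pow_zero, mul_one] at hv
          exact absurd v.isUnit (fun hu => (mem_maximalIdeal _).1 hxm (hv ▸ hu))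
        · rw [hv, pow_one, Ideal.span_singleton_mul_left_unit v.isUnit, hπ₂.maximalIdeal_eq]
        · exact absurd (Ideal.mem_comap.2 (hv ▸ Ideal.mul_mem_left _ _ (Ideal.pow_le_pow_right
            (by omega : 2 ≤ k + 1 + 1) (Ideal.pow_mem_pow (hπ₂.maximalIdeal_eq.ge
              (Ideal.mem_span_singleton_self π₂)) _)))) hx2
      rw [hunif _ hϖ, Ideal.span_singleton_le_iff_mem]
      have heq : (⟨PDeform.phi pb θ ((algebraMap V₂ W₂ ϖ : W₂) : M₂), h _⟩ : W₃) =
          algebraMap V₃ W₃ (f₃ ϖ) := Subtype.ext (hψ (ϖ : K₂))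
      rw [heq]
      refine Ideal.mem_map_of_mem _ ((mem_maximalIdeal _).2 fun hu => ?_)
      have h1 : algebraMap V₂ W₂ ϖ ∈ maximalIdeal W₂ := hϖ ▸ Ideal.mem_span_singleton_self _
      have h2 := hf₃ ϖ
      rw [(residue_eq_zero_iff _).2 h1, map_zero, residue_eq_zero_iff] at h2
      exact (mem_maximalIdeal _).1 h2 (hu.map _)
    · let _ : Algebra (ResidueField V₃) (ResidueField W₃) :=
        (ResidueField.map (inclOfComap W₃ j)).toAlgebra
      let k₂ := ResidueField V₂
      let k₃ := ResidueField V₃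
      have hinj₃ : Function.Injective (algebraMap k₃ (ResidueField W₃)) :=
        (algebraMap k₃ (ResidueField W₃)).injective
      let F : V₂ →+* ResidueField W₃ := e.toRingHom.comp ((residue W₂).comp (algebraMap V₂ W₂))
      have hF : ∀ x : V₂, algebraMap k₃ (ResidueField W₃) (residue V₃ (f₃ x)) = F x := fun x =>
        hf₃ x
      let g₀ : V₂ →+* k₃ :=
        { toFun := fun x => residue V₃ (f₃ x)
          map_one' := hinj₃ (by rw [hF, map_one, map_one])
          map_mul' := fun x y => hinj₃ (by rw [map_mul, hF, hF, hF, map_mul])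
          map_zero' := hinj₃ (by rw [hF, map_zero, map_zero])
          map_add' := fun x y => hinj₃ (by rw [map_add, hF, hF, hF, map_add]) }
      let g : k₂ →+* k₃ := Ideal.Quotient.lift (maximalIdeal V₂) g₀ fun x hx => hinj₃ (by
        show algebraMap k₃ (ResidueField W₃) (residue V₃ (f₃ x)) = _
        rw [hF, map_zero]
        show e (residue W₂ (algebraMap V₂ W₂ x)) = 0
        rw [(residue_eq_zero_iff _).2 ((map_mem_nonunits_iff (algebraMap V₂ W₂) x).2 hx),
          map_zero])
      let _ : Algebra k₂ k₃ := g.toAlgebra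
      let _ : Algebra k₂ (ResidueField W₃) :=
        ((algebraMap k₃ (ResidueField W₃)).comp g).toAlgebra
      have : IsScalarTower k₂ k₃ (ResidueField W₃) := IsScalarTower.of_algebraMap_eq fun _ => rfl
      let _ : Algebra k₂ (ResidueField W₂) :=
        (ResidueField.map (inclOfComap W₂ (algebraMap K₂ M₂))).toAlgebra
      have : Algebra.IsGeometricallyReduced k₂ (ResidueField W₂) := hg₂
      let e' : ResidueField W₂ ≃ₐ[k₂] ResidueField W₃ := AlgEquiv.ofRingEquiv (f := e) fun x => by
        obtain ⟨y, rfl⟩ := residue_surjective x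
        exact (hF y).symm
      have : Algebra.IsGeometricallyReduced k₂ (ResidueField W₃) :=
        Algebra.IsGeometricallyReduced.of_injective e'.symm.toAlgHom e'.symm.injective
      -- finiteness of the residue field extension
      let V₁ := W₁.comap (algebraMap K₁ M₁)
      have hV₁dom : Dominates A ((algebraMap K K₁).comp (algebraMap A K)) V₁ := by
        refine ⟨fun x => ?_, fun x hx => ?_⟩
        · show algebraMap K₁ M₁ (algebraMap K K₁ (algebraMap A K x)) ∈ W₁
          rw [hKL, ← IsScalarTower.algebraMap_apply A K L, IsScalarTower.algebraMap_apply A B L]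
          exact hW₁.1 _
        · rw [valuation_lt_one_iff_mem_nonunits, RingHom.comp_apply, mem_nonunits_comap, hKL,
            ← IsScalarTower.algebraMap_apply A K L, IsScalarTower.algebraMap_apply A B L,
            ← valuation_lt_one_iff_mem_nonunits]
          exact hW₁.2 _ ((map_mem_nonunits_iff (algebraMap A B) x).2 hx)
      have : IsDiscreteValuationRing V₁ :=
        isDiscreteValuationRing_of_dominates A K K₁ hV₁dom
      have hint₀ : IsIntegral K₁ θ₀ := by
        let c₁ : K₁ := (algebraMap K K₁ (algebraMap A K τ)) ^ n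
        refine ⟨Polynomial.X ^ p - (Polynomial.C c₁ * Polynomial.X + Polynomial.C a),
          Polynomial.monic_X_pow_sub (n := p)
            ((Polynomial.degree_linear_le).trans_lt (WithBot.coe_lt_coe.2 hp.one_lt)), ?_⟩
        apply j.injective
        rw [map_zero, Polynomial.eval₂_sub, Polynomial.eval₂_X_pow, Polynomial.eval₂_add,
          Polynomial.eval₂_mul, Polynomial.eval₂_C, Polynomial.eval₂_C, Polynomial.eval₂_X,
          map_sub, map_pow, map_add, map_mul, hj, hj, hjθ, hθ]
        ring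
      have : FiniteDimensional K₁ K₃ := by
        have := IntermediateField.adjoin.finiteDimensional hint₀
        rw [hK₃] at this
        exact IntermediateField.topEquiv.toLinearEquiv.finiteDimensional
      have hV₃dom : Dominates V₁ ((algebraMap K₁ K₃).comp (algebraMap V₁ K₁)) V₃ := by
        have h1 : V₃.comap (algebraMap K₁ K₃) = V₁ := by
          ext x
          show j (algebraMap K₁ K₃ x) ∈ W₃ ↔ algebraMap K₁ M₁ x ∈ W₁
          rw [hj]
          show algebraMap M₁ M₃ _ ∈ W₃ ↔ _
          rw [← ValuationSubring.mem_comap, hW₃]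
        exact dominates_comp_iff.2 (h1 ▸ dominates_subtype V₁)
      let _ : Algebra V₁ V₃ := (RingHom.codRestrict _ V₃ hV₃dom.1).toAlgebra
      have : IsLocalHom (algebraMap V₁ V₃) := isLocalHom_codRestrict hV₃dom
      obtain ⟨-, hfin₁, -⟩ := TameComp.ramificationIdx_mul_le (A := V₁) (K := K₁) hV₃dom
      have hmem₂ : ∀ x : V₁, algebraMap K₁ K₂ (x : K₁) ∈ V₂ := fun x => by
        show ι (algebraMap K₁ K₂ (x : K₁)) ∈ W₂
        rw [ι.commutes, IsScalarTower.algebraMap_apply K₁ M₁ M₂, ← ValuationSubring.mem_comap,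
          hW₂c]
        exact x.2
      let h₁₂ : V₁ →+* V₂ := ((algebraMap K₁ K₂).comp V₁.subtype).codRestrict V₂.toSubring hmem₂
      have hψa : ∀ x : K₁, ψ (algebraMap K₁ K₂ x) = algebraMap K₁ K₃ x := fun x => by
        rw [Algebra.algebraMap_eq_smul_one x, map_smul,
          show (1 : K₂) = pb₂.basis ⟨0, hpb₂d ▸ hp.pos⟩ by rw [pb₂.basis_eq_pow, pow_zero],
          Module.Basis.constr_basis, pow_zero, ← Algebra.algebraMap_eq_smul_one]
      have h13 : ∀ x : V₁, algebraMap (ResidueField V₁) k₃ (residue V₁ x) =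
          g (residue V₂ (h₁₂ x)) := fun x =>
        congrArg (residue V₃) (Subtype.ext (hψa (x : K₁)).symm)
      have : Module.Finite k₂ k₃ := by
        obtain ⟨Gk, hGk⟩ := hfin₁.fg_top
        refine ⟨⟨Gk, top_le_iff.1 fun y _ => ?_⟩⟩
        have hy : y ∈ Submodule.span (ResidueField V₁) (Gk : Set k₃) := hGk ▸ Submodule.mem_top
        induction hy using Submodule.span_induction with
        | mem z hz => exact Submodule.subset_span hz
        | zero => exact zero_mem _
        | add _ _ _ _ hu hv => exact add_mem (hu trivial) (hv trivial)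
        | smul c z _ hz =>
          obtain ⟨x, rfl⟩ := residue_surjective c
          rw [Algebra.smul_def, h13]
          show algebraMap k₂ k₃ _ * z ∈ _
          rw [← Algebra.smul_def]
          exact Submodule.smul_mem _ _ (hz trivial)
      exact isGeometricallyReduced_top k₂ k₃ (ResidueField W₃)
  choose Nw hNw using hper
  let _ := Fintype.ofFinite {W : ValuationSubring M₁ //
    Dominates B ((algebraMap L M₁).comp (algebraMap B L)) W}
  refine ⟨Finset.univ.sup Nw, fun n hn W₁ hW₁ M₃ _ _ θ hθ hadj W₃ hW₃ K₃ _ _ θ₀ j hj => ?_⟩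
  exact hNw ⟨W₁, hW₁⟩ n ((Finset.le_sup (f := Nw) (Finset.mem_univ _)).trans hn) M₃ θ hθ hadj W₃
    hW₃ K₃ θ₀ j hj

end Helper

set_option maxHeartbeats 2000000


/-- Let p be a prime and A → B an injective local homomorphism of discrete valuation rings whose fields
of fractions are K ⊆ L, where K has characteristic p, L is separable (geometrically reduced) over K
and B is a Nagata ring. Let K ⊆ K₁ ⊆ K₂ be finite extensions such that K₂ is a solution for A ⊆ B
and K₂/K₁ is purely inseparable of degree p. Then some finite separable extension K₃/K₁ is also a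
solution for A ⊆ B. -/
theorem result (p : ℕ) (hp : p.Prime) (A B K L : Type u)
    [CommRing A] [IsDomain A] [IsDiscreteValuationRing A] [CommRing B] [IsDomain B] [IsDiscreteValuationRing B]
    [Algebra A B] (hinj : Function.Injective (algebraMap A B)) [IsLocalHom (algebraMap A B)]
    [Field K] [Field L] [Algebra A K] [IsFractionRing A K] [Algebra B L] [IsFractionRing B L]
    [Algebra K L] [Algebra A L] [IsScalarTower A K L] [IsScalarTower A B L] [CharP K p]
    [Algebra.IsGeometricallyReduced K L] (hB : CAlg.IsNagata B)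
    (K₁ K₂ : Type u) [Field K₁] [Field K₂] [Algebra K K₁] [Algebra K K₂] [Algebra K₁ K₂] [IsScalarTower K K₁ K₂]
    [FiniteDimensional K K₁] [FiniteDimensional K₁ K₂] (hsol : EtRam.IsSolution B K L K₂)
    [IsPurelyInseparable K₁ K₂] (hdeg : Module.finrank K₁ K₂ = p) :
    ∃ (K₃ : Type u) (_ : Field K₃) (_ : Algebra K K₃) (_ : Algebra K₁ K₃) (_ : IsScalarTower K K₁ K₃),
      FiniteDimensional K₁ K₃ ∧ Algebra.IsSeparable K₁ K₃ ∧ EtRam.IsSolution B K L K₃ := by
  classical
  have : Fact p.Prime := ⟨hp⟩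
  have : FiniteDimensional K K₂ := FiniteDimensional.trans K K₁ K₂
  have : CharP K₁ p := charP_of_injective_ringHom (algebraMap K K₁).injective p
  have : ExpChar K₁ p := ExpChar.prime hp
  -- `K₂ = K₁(β)` with `β ^ p = a`
  obtain ⟨β, hβ⟩ : ∃ β : K₂, β ∉ (algebraMap K₁ K₂).range := by
    by_contra h
    push Not at h
    have htop : (⊤ : Subalgebra K₁ K₂) = ⊥ := eq_bot_iff.2 fun x _ => Algebra.mem_bot.2 (h x)
    have h1 : Module.finrank K₁ K₂ = 1 := Subalgebra.bot_eq_top_iff_finrank_eq_one.1 htop.symm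
    exact hp.ne_one (hdeg.symm.trans h1)
  have hβint : IsIntegral K₁ β := Algebra.IsIntegral.isIntegral β
  have hmindeg : (minpoly K₁ β).natDegree = p := by
    have hdvd : (minpoly K₁ β).natDegree ∣ p := hdeg ▸ minpoly.degree_dvd hβint
    refine ((Nat.dvd_prime hp).1 hdvd).resolve_left fun h1 => hβ ?_
    exact minpoly.mem_range_of_degree_eq_one K₁ β (by
      rw [Polynomial.degree_eq_natDegree (minpoly.ne_zero hβint), h1]; rfl)
  obtain ⟨a, hmin⟩ : ∃ a : K₁, minpoly K₁ β = Polynomial.X ^ p - Polynomial.C a := by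
    obtain ⟨n, y, h⟩ := IsPurelyInseparable.minpoly_eq_X_pow_sub_C K₁ p β
    refine ⟨y, ?_⟩
    rw [h] at hmindeg ⊢
    rw [Polynomial.natDegree_X_pow_sub_C] at hmindeg
    rw [hmindeg]
  have hβp : β ^ p = algebraMap K₁ K₂ a := by
    have h := minpoly.aeval K₁ β
    rwa [hmin, map_sub, map_pow, Polynomial.aeval_X, Polynomial.aeval_C, sub_eq_zero] at h
  let pb₂ : PowerBasis K₁ K₂ := (IntermediateField.adjoin.powerBasis hβint).map
    ((IntermediateField.equivOfEq ((Field.primitive_element_iff_minpoly_natDegree_eq K₁ β).2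
      (hmindeg.trans hdeg.symm))).trans IntermediateField.topEquiv)
  have hpb₂ : pb₂.gen = β := rfl
  have hpb₂d : pb₂.dim = p := hmindeg
  -- the finitely many local extensions of `K₁`
  obtain ⟨τ, hτ⟩ := IsDiscreteValuationRing.exists_irreducible A
  let S := K₁ ⊗[K] L
  have : IsArtinianRing (L ⊗[K] K₁) := IsArtinianRing.of_finite L _
  have : IsArtinianRing S :=
    (Algebra.TensorProduct.comm K L K₁).toRingEquiv.surjective.isArtinianRing
  have : Algebra.IsGeometricallyReduced K₁ S := by
    rw [Algebra.isGeometricallyReduced_field_iff]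
    let C := AlgebraicClosure K₁
    have : Algebra.IsAlgebraic K C := Algebra.IsAlgebraic.trans K K₁ C
    have : IsReduced (C ⊗[K] L) := inferInstance
    exact isReduced_of_injective
      (Algebra.TensorProduct.cancelBaseChange K K₁ C C L).toRingHom
      (Algebra.TensorProduct.cancelBaseChange K K₁ C C L).injective
  have : IsReduced S := Algebra.isReduced_of_isGeometricallyReduced K₁
  -- uniform bound
  have hN : ∀ P : MaximalSpectrum S, ∃ N : ℕ, ∀ n, N ≤ n → ∀ (M : Type u) [Field M] (q : S →+* M),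
      RingHom.ker q = P.asIdeal → ∀ W : ValuationSubring M,
      Dominates B (q.comp ((Algebra.TensorProduct.includeRight : L →ₐ[K] S).toRingHom.comp
        (algebraMap B L))) W →
      ∀ θ : M, θ ^ p = q (a ⊗ₜ[K] (1 : L)) +
          q (((algebraMap K K₁ (algebraMap A K τ)) ^ n) ⊗ₜ[K] (1 : L)) * θ →
        Subring.closure (Set.range q ∪ {θ}) = ⊤ →
        ∀ (K₃ : Type u) [Field K₃] [Algebra K₁ K₃] (θ₀ : K₃) (j : K₃ →+* M),
          (∀ x : K₁, j (algebraMap K₁ K₃ x) = q (x ⊗ₜ[K] (1 : L))) → j θ₀ = θ →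
          IntermediateField.adjoin K₁ {θ₀} = ⊤ →
          let _ : Algebra (W.comap j) W := (inclOfComap W j).toAlgebra
          IsWeaklyUnramified (W.comap j) W ∧
            @Algebra.IsGeometricallyReduced (ResidueField (W.comap j)) (ResidueField W) _ _
              (ResidueField.map (inclOfComap W j)).toAlgebra := by
    intro P
    let M₁ := P.asIdeal.ResidueField
    have hπ : Function.Surjective (algebraMap S M₁) := P.asIdeal.algebraMap_residueField_surjective
    let _ : Algebra L M₁ := ((algebraMap S M₁).comp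
      (Algebra.TensorProduct.includeRight : L →ₐ[K] S).toRingHom).toAlgebra
    let _ : Algebra B M₁ := ((algebraMap L M₁).comp (algebraMap B L)).toAlgebra
    have : IsScalarTower B L M₁ := IsScalarTower.of_algebraMap_eq fun _ => rfl
    have hK₁M : ∀ x : K₁, algebraMap K₁ M₁ x = algebraMap S M₁ (x ⊗ₜ 1) := fun x =>
      IsScalarTower.algebraMap_apply K₁ S M₁ x
    have : IsScalarTower K L M₁ := IsScalarTower.of_algebraMap_eq fun x => by
      show algebraMap K M₁ x = algebraMap S M₁ ((Algebra.TensorProduct.includeRight : L →ₐ[K] S)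
        (algebraMap K L x))
      rw [AlgHom.commutes, ← IsScalarTower.algebraMap_apply K S M₁]
    have hgen₁ : ∀ x : M₁, x ∈ Subring.closure
        (Set.range (algebraMap K₁ M₁) ∪ Set.range (algebraMap L M₁)) := by
      intro x
      obtain ⟨x, rfl⟩ := hπ x
      induction x using TensorProduct.induction_on with
      | zero => rw [map_zero]; exact zero_mem _
      | tmul u v =>
        rw [show u ⊗ₜ[K] v = (u ⊗ₜ[K] (1 : L)) * ((1 : K₁) ⊗ₜ[K] v) by simp, map_mul]
        exact mul_mem (Subring.subset_closure (Or.inl ⟨u, hK₁M u⟩))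
          (Subring.subset_closure (Or.inr ⟨v, rfl⟩))
      | add u v hu hv => rw [map_add]; exact add_mem hu hv
    have : Algebra.IsGeometricallyReduced K₁ M₁ := by
      have := isGeometricallyReduced_quotient K₁ S P.asIdeal fun x hx =>
        exists_notMem_mul_eq_zero (fun Q _ => IsArtinianRing.isMaximal_of_isPrime Q) _ hx
      let ε : (S ⧸ P.asIdeal) ≃ₐ[K₁] M₁ := AlgEquiv.ofBijective
        (IsScalarTower.toAlgHom K₁ (S ⧸ P.asIdeal) M₁)
        P.asIdeal.bijective_algebraMap_quotient_residueField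
      exact Algebra.IsGeometricallyReduced.of_injective ε.symm.toAlgHom ε.symm.injective
    have : FiniteDimensional L M₁ := by
      let q : L ⊗[K] K₁ →ₗ[L] M₁ :=
        { toFun := fun x => algebraMap S M₁ (Algebra.TensorProduct.comm K L K₁ x)
          map_add' := fun x y => by rw [map_add, map_add]
          map_smul' := fun l x => by
            rw [RingHom.id_apply, Algebra.smul_def, Algebra.smul_def, map_mul, map_mul,
              Algebra.TensorProduct.algebraMap_apply]
            rfl }
      exact Module.Finite.of_surjective q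
        (hπ.comp (Algebra.TensorProduct.comm K L K₁).surjective)
    obtain ⟨N, hN⟩ := local_bound p hp A B K L hinj hB K₁ K₂ hsol pb₂ β hpb₂ hpb₂d a hβp hmin hτ
      M₁ hgen₁
    refine ⟨N, fun n hn M _ q hq W hW θ hθ hcl K₃ _ _ θ₀ j hj hjθ hK₃ => ?_⟩
    let q₁ : M₁ →+* M := (Ideal.Quotient.lift P.asIdeal q fun x hx => by
        rw [← hq] at hx; exact hx).comp
      (RingEquiv.ofBijective (algebraMap (S ⧸ P.asIdeal) M₁)
        P.asIdeal.bijective_algebraMap_quotient_residueField).symm.toRingHom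
    have hq₁ : ∀ x : S, q₁ (algebraMap S M₁ x) = q x := fun x => by
      have : (RingEquiv.ofBijective (algebraMap (S ⧸ P.asIdeal) M₁)
          P.asIdeal.bijective_algebraMap_quotient_residueField).symm
          (algebraMap S M₁ x) = Ideal.Quotient.mk P.asIdeal x := by
        rw [RingEquiv.symm_apply_eq]
        rfl
      simp only [q₁, RingHom.comp_apply, RingEquiv.toRingHom_eq_coe, RingEquiv.coe_toRingHom, this,
        Ideal.Quotient.lift_mk]
    let _ : Algebra M₁ M := q₁.toAlgebra
    refine hN n hn (W.comap q₁) ?_ M θ ?_ ?_ W rfl K₃ θ₀ j (fun x => ?_) hjθ hK₃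
    · refine dominates_comp_iff.1 ?_
      convert hW using 1
      exact RingHom.ext fun b => hq₁ _
    · rw [hθ, hK₁M, hK₁M]
      show _ = q₁ _ + q₁ _ * θ
      rw [hq₁, hq₁]
    · refine eq_top_iff.2 fun x _ => ?_
      have hx : x ∈ Subring.closure (Set.range q ∪ {θ}) := hcl ▸ Subring.mem_top x
      have hle : Subring.closure (Set.range q ∪ {θ}) ≤ (Algebra.adjoin M₁ {θ}).toSubring := by
        rw [Subring.closure_le]
        rintro z (⟨y, rfl⟩ | rfl)
        · rw [← hq₁ y]
          exact Subalgebra.algebraMap_mem (Algebra.adjoin M₁ {θ}) (algebraMap S M₁ y)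
        · exact Algebra.subset_adjoin rfl
      exact hle hx
    · show _ = q₁ _
      rw [hj, hK₁M, hq₁]
  choose N hN using hN
  let _ := Fintype.ofFinite (MaximalSpectrum S)
  let n := Finset.univ.sup N
  let c₁ : K₁ := (algebraMap K K₁ (algebraMap A K τ)) ^ n
  have hc₁ : c₁ ≠ 0 := pow_ne_zero _ ((map_ne_zero_iff _ (algebraMap K K₁).injective).2
    ((map_ne_zero_iff _ (IsFractionRing.injective A K)).2 hτ.ne_zero))
  let f : Polynomial K₁ := Polynomial.X ^ p - (Polynomial.C c₁ * Polynomial.X + Polynomial.C a)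
  have hfdeg : (Polynomial.C c₁ * Polynomial.X + Polynomial.C a).degree < (p : WithBot ℕ) :=
    Polynomial.degree_linear_le.trans_lt (WithBot.coe_lt_coe.2 hp.one_lt)
  have hfm : f.Monic := Polynomial.monic_X_pow_sub hfdeg
  have hfsep : f.Separable := by
    refine (Polynomial.separable_def' f).2 ⟨0, -Polynomial.C c₁⁻¹, ?_⟩
    rw [zero_mul, zero_add]
    simp only [f, Polynomial.derivative_sub, Polynomial.derivative_X_pow, CharP.cast_eq_zero,
      map_zero, zero_mul, Polynomial.derivative_add, Polynomial.derivative_mul,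
      Polynomial.derivative_C, Polynomial.derivative_X, mul_one, zero_add, add_zero, zero_sub,
      neg_mul, mul_neg, neg_neg, ← Polynomial.C_mul, inv_mul_cancel₀ hc₁, Polynomial.C_1]
  let Ω := AlgebraicClosure K₁
  obtain ⟨θ₀, hθ₀⟩ : ∃ x : Ω, Polynomial.aeval x f = 0 := by
    refine IsAlgClosed.exists_aeval_eq_zero Ω f ?_
    rw [show f = Polynomial.X ^ p - _ from rfl, Polynomial.degree_sub_eq_left_of_degree_lt
      (by rwa [Polynomial.degree_X_pow]), Polynomial.degree_X_pow]
    exact Nat.cast_ne_zero.2 hp.ne_zero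
  let E : IntermediateField K₁ Ω := IntermediateField.adjoin K₁ {θ₀}
  have hint : IsIntegral K₁ θ₀ := ⟨f, hfm, hθ₀⟩
  have : FiniteDimensional K₁ E := IntermediateField.adjoin.finiteDimensional hint
  have : Algebra.IsSeparable K₁ E :=
    (IntermediateField.isSeparable_adjoin_simple_iff_isSeparable K₁ Ω).2
      (hfsep.of_dvd (minpoly.dvd K₁ θ₀ hθ₀))
  refine ⟨E, inferInstance, inferInstance, inferInstance, inferInstance, inferInstance, inferInstance,
    ?_⟩
  intro M _ _ _ _ _ _ hadj W hW
  let θE : E := IntermediateField.AdjoinSimple.gen K₁ θ₀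
  have hθE : Polynomial.aeval θE f = 0 := by
    apply (algebraMap E Ω).injective
    rw [← Polynomial.aeval_algebraMap_apply, map_zero]
    exact hθ₀
  let jK₁ : K₁ →+* M := (algebraMap E M).comp (algebraMap K₁ E)
  let _ : Algebra K₁ M := jK₁.toAlgebra
  have : IsScalarTower K K₁ M := IsScalarTower.of_algebraMap_eq fun x => by
    show algebraMap K M x = algebraMap E M (algebraMap K₁ E (algebraMap K K₁ x))
    rw [← IsScalarTower.algebraMap_apply K K₁ E, ← IsScalarTower.algebraMap_apply K E M]
  let q : S →ₐ[K] M := Algebra.TensorProduct.lift (IsScalarTower.toAlgHom K K₁ M)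
    (IsScalarTower.toAlgHom K L M) (fun _ _ => Commute.all _ _)
  let P : MaximalSpectrum S := ⟨RingHom.ker q, by
    have : (RingHom.ker q).IsPrime := RingHom.ker_isPrime q
    exact IsArtinianRing.isMaximal_of_isPrime _⟩
  have hq₁ : ∀ x : K₁, q (x ⊗ₜ 1) = algebraMap E M (algebraMap K₁ E x) := fun x => by
    refine (Algebra.TensorProduct.lift_tmul _ _ _ _ _).trans ?_
    rw [map_one, mul_one]
    rfl
  have hqL : ∀ x : L, q (1 ⊗ₜ x) = algebraMap L M x := fun x => by
    refine (Algebra.TensorProduct.lift_tmul _ _ _ _ _).trans ?_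
    rw [map_one, one_mul]
    rfl
  have hcl : Subring.closure (Set.range q.toRingHom ∪ {algebraMap E M θE}) = ⊤ := by
    refine eq_top_iff.2 fun x _ => ?_
    have hx : x ∈ Algebra.adjoin L (Set.range (algebraMap E M)) := hadj ▸ Algebra.mem_top
    induction hx using Algebra.adjoin_induction with
    | mem y hy =>
      obtain ⟨y, rfl⟩ := hy
      obtain ⟨y, hy⟩ := y
      have hy' : y ∈ Algebra.adjoin K₁ ({θ₀} : Set Ω) := by
        rw [← IntermediateField.adjoin_simple_toSubalgebra_of_isAlgebraic hint.isAlgebraic]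
        exact hy
      have hE : ∀ w ∈ Algebra.adjoin K₁ ({θ₀} : Set Ω), w ∈ E := fun w hw => by
        rw [← IntermediateField.adjoin_simple_toSubalgebra_of_isAlgebraic hint.isAlgebraic] at hw
        exact hw
      suffices ∀ z, z ∈ Algebra.adjoin K₁ ({θ₀} : Set Ω) → ∀ hz : z ∈ E, algebraMap E M ⟨z, hz⟩ ∈
          Subring.closure (Set.range q.toRingHom ∪ {algebraMap E M θE}) from this y hy' hy
      intro z hz
      induction hz using Algebra.adjoin_induction with
      | mem w hw =>
        intro hw'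
        obtain rfl := hw
        exact Subring.subset_closure (Or.inr rfl)
      | algebraMap r =>
        intro _
        exact Subring.subset_closure (Or.inl ⟨r ⊗ₜ 1, hq₁ r⟩)
      | add u v hu hv h1 h2 =>
        intro _
        exact (map_add (algebraMap E M) ⟨u, hE u hu⟩ ⟨v, hE v hv⟩) ▸ add_mem (h1 _) (h2 _)
      | mul u v hu hv h1 h2 =>
        intro _
        exact (map_mul (algebraMap E M) ⟨u, hE u hu⟩ ⟨v, hE v hv⟩) ▸ mul_mem (h1 _) (h2 _)
    | algebraMap l => exact Subring.subset_closure (Or.inl ⟨1 ⊗ₜ l, hqL l⟩)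
    | add y z _ _ hy hz => exact add_mem (hy trivial) (hz trivial)
    | mul y z _ _ hy hz => exact mul_mem (hy trivial) (hz trivial)
  have hθ : algebraMap E M θE ^ p = q.toRingHom (a ⊗ₜ[K] (1 : L)) +
      q.toRingHom (c₁ ⊗ₜ[K] (1 : L)) * algebraMap E M θE := by
    show _ = q (a ⊗ₜ 1) + q (c₁ ⊗ₜ 1) * _
    rw [hq₁, hq₁, ← map_mul, ← map_add, ← map_pow]
    refine congrArg _ ?_
    simp only [f, map_sub, map_add, map_mul, map_pow, Polynomial.aeval_X, Polynomial.aeval_C,
      sub_eq_zero] at hθE
    rw [hθE, add_comm]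
  have htopE : IntermediateField.adjoin K₁ {θE} = ⊤ := by
    apply IntermediateField.map_injective E.val
    rw [IntermediateField.adjoin_map, Set.image_singleton, ← AlgHom.fieldRange_eq_map,
      IntermediateField.fieldRange_val]
    rfl
  refine hN P n (Finset.le_sup (f := N) (Finset.mem_univ P)) M q.toRingHom rfl W ?_
    (algebraMap E M θE) hθ hcl E θE (algebraMap E M) (fun x => (hq₁ x).symm) rfl
    htopE
  convert hW using 1
  exact RingHom.ext fun b => hqL _

end Groth.Agent.S7151
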