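import Groth.Statements.S1986
import Groth.Agent.S7151
import Groth.Agent.EtaleAlgebra.TameCompositum
import Mathlib.FieldTheory.PurelyInseparable.Tower
import Mathlib.FieldTheory.KummerPolynomial
-- import your own Groth.Agent.* helpers here

set_option autoImplicit false
universe u
open EtAlg Groth.EtaleAlgebra

namespace Groth.Agent.S1986

/-- Let A -> B be an extension of discrete valuation rings with separable extension of fraction fields
L/K and B a Nagata ring. If some finite extension of K is a solution for A -> B, then some finite
separable extension of K is a solution as well. -/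
theorem result (A B K L : Type u) [CommRing A] [IsDomain A] [IsDiscreteValuationRing A]
    [CommRing B] [IsDomain B] [IsDiscreteValuationRing B] [Algebra A B] [IsLocalHom (algebraMap A B)]
    (hinj : Function.Injective (algebraMap A B))
    [Field K] [Field L] [Algebra A K] [IsFractionRing A K] [Algebra B L] [IsFractionRing B L]
    [Algebra K L] [Algebra A L] [IsScalarTower A K L] [IsScalarTower A B L] [Algebra.IsSeparable K L] (hB : CAlg.IsNagata B)
    (K₂ : Type u) [Field K₂] [Algebra K K₂] [FiniteDimensional K K₂] (h₂ : EtRam.IsSolution B K L K₂) :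
    ∃ (K₃ : Type u) (_ : Field K₃) (_ : Algebra K K₃) (_ : FiniteDimensional K K₃) (_ : Algebra.IsSeparable K K₃),
      EtRam.IsSolution B K L K₃ := by
  classical
  have : Algebra.IsGeometricallyReduced K L := TameComp.geomReduced_of_isSeparable K L
  suffices ∀ (m : ℕ) (E : Type u) [Field E] [Algebra K E] [FiniteDimensional K E],
      Field.finInsepDegree K E = m → EtRam.IsSolution B K L E →
      ∃ (K₃ : Type u) (_ : Field K₃) (_ : Algebra K K₃) (_ : FiniteDimensional K K₃)
        (_ : Algebra.IsSeparable K K₃), EtRam.IsSolution B K L K₃ from this _ K₂ rfl h₂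
  intro m
  induction m using Nat.strong_induction_on with
  | _ m ih =>
    intro E _ _ _ hm hE
    by_cases hsep : Algebra.IsSeparable K E
    · exact ⟨E, inferInstance, inferInstance, inferInstance, hsep, hE⟩
    obtain ⟨p, hp⟩ := CharP.exists K
    have hpp : p.Prime := by
      refine (CharP.char_is_prime_or_zero K p).resolve_right fun h0 => hsep ?_
      subst h0
      have := CharP.charP_to_charZero K
      infer_instance
    have : Fact p.Prime := ⟨hpp⟩
    let Ks := separableClosure K E
    have hne : Ks ≠ ⊤ := fun h => hsep ((separableClosure.eq_top_iff K E).1 h)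
    -- a maximal proper intermediate field above the separable closure
    have hex : ∃ d, ∃ K' : IntermediateField K E,
        Ks ≤ K' ∧ K' ≠ ⊤ ∧ Module.finrank K' E = d := ⟨_, Ks, le_rfl, hne, rfl⟩
    obtain ⟨K', hKs, hK', hd⟩ := Nat.find_spec hex
    have : CharP K' p := charP_of_injective_ringHom (algebraMap K K').injective p
    have : CharP E p := charP_of_injective_ringHom (algebraMap K E).injective p
    have : ExpChar K' p := ExpChar.prime hpp
    have : ExpChar Ks p :=
      have : CharP Ks p := charP_of_injective_ringHom (algebraMap K Ks).injective p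
      ExpChar.prime hpp
    have : IsPurelyInseparable K' E := by
      let _ : Algebra Ks K' := (IntermediateField.inclusion hKs).toRingHom.toAlgebra
      have : IsScalarTower Ks K' E := IsScalarTower.of_algebraMap_eq fun _ => rfl
      exact IsPurelyInseparable.tower_top Ks K' E
    obtain ⟨x, hx⟩ : ∃ x, x ∉ K' := by
      by_contra h
      push Not at h
      exact hK' (eq_top_iff.2 fun x _ => h x)
    have hexk : ∃ k, x ^ p ^ k ∈ (algebraMap K' E).range := IsPurelyInseparable.pow_mem K' p x
    obtain ⟨k, hk, hkmin⟩ : ∃ k, x ^ p ^ (k + 1) ∈ K' ∧ x ^ p ^ k ∉ K' := by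
      classical
      have h0 : Nat.find hexk ≠ 0 := fun h0 => hx (by
        obtain ⟨y, hy⟩ := Nat.find_spec hexk
        rw [h0, pow_zero, pow_one] at hy
        exact hy ▸ y.2)
      obtain ⟨k, hk⟩ := Nat.exists_eq_succ_of_ne_zero h0
      obtain ⟨y, hy⟩ := Nat.find_spec hexk
      refine ⟨k, ?_, fun h => Nat.find_min hexk (m := k) (by omega) ⟨⟨_, h⟩, rfl⟩⟩
      rw [hk] at hy
      exact hy ▸ y.2
    let y := x ^ p ^ k
    have hyp : y ^ p ∈ K' := by rw [← pow_mul, ← pow_succ]; exact hk
    have htop : IntermediateField.adjoin K' {y} = ⊤ := by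
      by_contra h
      let F := IntermediateField.restrictScalars K (IntermediateField.adjoin K' ({y} : Set E))
      have hle : K' ≤ F := fun z hz =>
        IntermediateField.algebraMap_mem (IntermediateField.adjoin K' ({y} : Set E)) ⟨z, hz⟩
      have hF : F ≠ ⊤ := fun hF => h (IntermediateField.restrictScalars_injective K
        (hF.trans IntermediateField.restrictScalars_top.symm))
      have hmin := Nat.find_min' hex ⟨F, hKs.trans hle, hF, rfl⟩
      rw [← hd] at hmin
      have h1 := Module.finrank_mul_finrank K' (IntermediateField.adjoin K' ({y} : Set E)) E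
      have h2 : Module.finrank (IntermediateField.adjoin K' ({y} : Set E)) E =
          Module.finrank F E := rfl
      have h3 : 1 < Module.finrank K' (IntermediateField.adjoin K' ({y} : Set E)) := by
        rw [Nat.one_lt_iff_ne_zero_and_ne_one]
        refine ⟨Module.finrank_pos.ne', fun h1 => hkmin ?_⟩
        rw [IntermediateField.finrank_adjoin_simple_eq_one_iff, IntermediateField.mem_bot] at h1
        obtain ⟨z, hz⟩ := h1
        show y ∈ K'
        rw [← hz]
        exact z.2
      have h4 : 0 < Module.finrank F E := Module.finrank_pos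
      rw [h2] at h1
      nlinarith
    have hdeg : Module.finrank K' E = p := by
      rw [← IntermediateField.finrank_top' (F := K') (E := E), ← htop,
        IntermediateField.adjoin.finrank (Algebra.IsIntegral.isIntegral y)]
      have hirr : Irreducible (Polynomial.X ^ p - Polynomial.C (⟨y ^ p, hyp⟩ : K')) := by
        refine X_pow_sub_C_irreducible_of_prime hpp fun b hb => hkmin ?_
        have h' : (b : E) ^ p = y ^ p := congrArg Subtype.val hb
        have : (b : E) = y := frobenius_inj E p h'
        show y ∈ K'
        rw [← this]
        exact b.2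
      rw [← minpoly.eq_of_irreducible_of_monic hirr (by simp)
        (Polynomial.monic_X_pow_sub_C _ hpp.ne_zero), Polynomial.natDegree_X_pow_sub_C]
    obtain ⟨K₃, _, _, _, _, _, _, h₃⟩ :=
      S7151.result p hpp A B K L hinj hB K' E hE hdeg
    have : FiniteDimensional K K₃ := FiniteDimensional.trans K K' K₃
    refine ih (Field.finInsepDegree K K₃) ?_ K₃ rfl h₃
    rw [← hm, ← Field.finInsepDegree_mul_finInsepDegree_of_isAlgebraic K K' K₃,
      ← Field.finInsepDegree_mul_finInsepDegree_of_isAlgebraic K K' E,
      Algebra.IsSeparable.finInsepDegree_eq K' K₃, IsPurelyInseparable.finInsepDegree_eq K' E, hdeg,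
      mul_one]
    exact lt_mul_right (Nat.pos_of_ne_zero (NeZero.ne _)) hpp.one_lt

end Groth.Agent.S1986
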