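import Groth.Statements.S19860
import Groth.Agent.S7750
import Groth.Agent.S7764
import Groth.Agent.FlatStrata.FibrePoly
import Groth.Agent.FlatStrata.FlatModel
-- import your own Groth.Agent.* helpers here

set_option autoImplicit false
universe u
open CategoryTheory CategoryTheory.Limits AlgebraicGeometry
open Variety

namespace Groth.Agent.S19860

/-- Let A be a Noetherian local integral domain, f : X ⟶ Spec A a proper morphism, L an invertible
O_X-module ample relative to f and F a coherent O_X-module. Then F is flat over Spec A if and only
if the Hilbert polynomials of F on the generic fibre and on the closed fibre coincide: for every n ≥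
0 the Euler characteristic, over the fraction field, of the pullback of F ⊗ L^{⊗n} to the fibre over
the generic point equals the Euler characteristic, over the residue field, of its pullback to the
fibre over the closed point. (The source works with k-schemes of finite type over an algebraically
closed field of characteristic zero, A a local integral k-algebra and f projective with a relatively
very ample O(1); the argument uses only that A is a Noetherian local domain and that some power of L
is relatively very ample, so it is stated here for proper f with an f-ample L and no base field.) -/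
theorem result
    (A : Type u) [CommRing A] [IsDomain A] [IsNoetherianRing A] [IsLocalRing A]
    (X : Scheme.{u}) (f : X ⟶ Spec (CommRingCat.of A)) [IsProper f]
    (L : X.Modules) (hL : RelAmple.IsRelAmple f L) (F : X.Modules) (hF : Coh.IsCoh F) :
    FlatMod.IsFlatOver f F ↔
      ∀ n : ℕ,
        @Curv2.euler ((Spec (CommRingCat.of A)).residueField (⊥ : PrimeSpectrum A)) _ (f.fiber (⊥ : PrimeSpectrum A))
          ⟨f.fiberToSpecResidueField (⊥ : PrimeSpectrum A)⟩
          ((Scheme.Modules.pullback (f.fiberι (⊥ : PrimeSpectrum A))).obj (CohB1.tensorMod F (CohB1.tensorPow L n))) =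
        @Curv2.euler ((Spec (CommRingCat.of A)).residueField (IsLocalRing.closedPoint A)) _ (f.fiber (IsLocalRing.closedPoint A))
          ⟨f.fiberToSpecResidueField (IsLocalRing.closedPoint A)⟩
          ((Scheme.Modules.pullback (f.fiberι (IsLocalRing.closedPoint A))).obj (CohB1.tensorMod F (CohB1.tensorPow L n))) := by
  classical
  let S := Spec (CommRingCat.of A)
  have : IsReduced S := inferInstanceAs (IsReduced (Spec (CommRingCat.of A)))
  have : IsLocallyNoetherian X := LocallyOfFiniteType.isLocallyNoetherian f
  have : LocallyOfFinitePresentation f := by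
    rw [HasRingHomProperty.iff_appLE (P := @LocallyOfFinitePresentation)]
    intro U V e
    have := IsLocallyNoetherian.component_noetherian U
    exact RingHom.FinitePresentation.of_finiteType.1 (f.finiteType_appLE U.2 V.2 e)
  have hfp : CohB1.IsFP F := Groth.FlatStrata.isFP_of_isCoh hF
  have hLi := Groth.Ega2Proj.isInvertible_of_isRelAmple hL
  have h7750 := Groth.Agent.S7750.result X S f L hL F hF
  let χ : ℕ → S → ℤ := fun n s => PerfAux.eulerChar f (Groth.FlatStrata.tw F L n) s
  let η : S := (⊥ : PrimeSpectrum A)
  let z : S := IsLocalRing.closedPoint A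
  change FlatMod.IsFlatOver f F ↔ ∀ n, χ n η = χ n z
  rw [h7750]
  constructor
  · intro h n
    obtain ⟨U, hzU, hU⟩ := h z
    exact hU η (((IsLocalRing.specializes_closedPoint (η : PrimeSpectrum A)).mem_open U.2 hzU)) n
  · intro h s
    choose P hP using fun t => Groth.FlatStrata.exists_eulerChar_poly f hLi F hfp t
    have hspec : ∀ a b : S, a ⤳ b → ∃ N : ℕ, ∀ n ≥ N, χ n a ≤ χ n b := by
      intro a b hab
      have hcl := Groth.Agent.S7764.result X S f L hL F hfp (P a)
      obtain ⟨N, hN⟩ := hab.mem_closed hcl ⟨0, fun n _ => (hP a n).ge⟩
      exact ⟨N, fun n hn => by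
        have h1 := hN n hn
        rw [← hP a n] at h1
        exact_mod_cast h1⟩
    have key : ∀ t n, χ n t = χ n z := by
      intro t n
      obtain ⟨N₁, h₁⟩ := hspec η t ((PrimeSpectrum.le_iff_specializes _ _).1 bot_le)
      obtain ⟨N₂, h₂⟩ := hspec t z (IsLocalRing.specializes_closedPoint (t : PrimeSpectrum A))
      have hPP : P t = P z := by
        refine Polynomial.eq_of_infinite_eval_eq _ _ ((Set.infinite_range_of_injective
          (f := fun d : ℕ => ((N₁ + N₂ + d : ℕ) : ℚ)) fun a b hab => by simpa using hab).mono ?_)
        rintro _ ⟨d, rfl⟩
        change (P t).eval _ = (P z).eval _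
        rw [← hP, ← hP]
        have e₁ := h₁ (N₁ + N₂ + d) (by omega)
        have e₂ := h₂ (N₁ + N₂ + d) (by omega)
        rw [h] at e₁
        exact congrArg Int.cast (le_antisymm e₂ e₁)
      have e : ((χ n t : ℤ) : ℚ) = χ n z := by rw [hP, hP, hPP]
      exact_mod_cast e
    exact ⟨⊤, trivial, fun t _ n => (key t n).trans (key s n).symm⟩

end Groth.Agent.S19860
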