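import Groth.Statements.S19863
import Groth.Agent.Calg4.RegularHom
import Groth.Agent.AdicLinTop.CompletionMap
import Groth.Agent.Calg1.Completion

set_option autoImplicit false
universe u
open EGA4

namespace Groth.Agent.S19863

/-- Let A be a Noetherian ring, J a proper ideal of A, Â the J-adic completion and A_T the localization
of A at T = 1 + J. If the canonical map A → Â is a regular homomorphism (flat, with Noetherian
geometrically regular fibres), then A_T is a regular ring if and only if Â is a regular ring
(Noetherian, with regular local rings at all primes). (The cases of the henselization of the pair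
and of the weak completion are not stated here.) -/
theorem result
    (A : Type u) [CommRing A] [IsNoetherianRing A] (J : Ideal A) (hJ : J ≠ ⊤)
    (hf : CAlg.IsRegularHom A (AdicCompletion J A))
    (T : Submonoid A) (hT : T = MonoidHom.mker (Ideal.Quotient.mk J)) :
    IsRegularRing (Localization T) ↔ IsRegularRing (AdicCompletion J A) := by
  let C := AdicCompletion J A
  have : IsNoetherianRing C := Groth.Calg1.isNoetherianRing_adicCompletion J (IsNoetherian.noetherian J)
  have hmem : ∀ t, t ∈ T ↔ Ideal.Quotient.mk J t = 1 := fun t => by rw [hT]; rfl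
  have hu : ∀ t : T, IsUnit (algebraMap A C (t : A)) := fun t => by
    rw [Groth.AdicLinTop.CompletionMap.isUnit_iff, Groth.AdicLinTop.CompletionMap.evalOneₐ_algebraMap,
      (hmem t).mp t.2]
    exact isUnit_one
  let : Algebra (Localization T) C := (IsLocalization.lift hu).toAlgebra
  have : IsScalarTower A (Localization T) C := IsScalarTower.of_algebraMap_eq fun a =>
    (IsLocalization.lift_eq hu a).symm
  have hreg : CAlg.IsRegularHom (Localization T) C := Groth.Calg4.IsRegularHom.localization_source T hf
  have := hreg.1
  have hu' : ∀ t : T, IsUnit (Ideal.Quotient.mk J (t : A)) := fun t => by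
    rw [(hmem t).mp t.2]; exact isUnit_one
  let ψ : Localization T →+* A ⧸ J := IsLocalization.lift hu'
  have hcomp : (AdicCompletion.evalOneₐ J).toRingHom.comp (algebraMap (Localization T) C) = ψ :=
    IsLocalization.ringHom_ext T <| RingHom.ext fun a => by
      simp only [RingHom.comp_apply, ψ, IsLocalization.lift_eq, ← IsScalarTower.algebraMap_apply]
      exact Groth.AdicLinTop.CompletionMap.evalOneₐ_algebraMap J a
  have : Module.FaithfullyFlat (Localization T) C := by
    refine ⟨fun m hm htop => ?_⟩
    have hψ : Function.Surjective ψ := fun x => by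
      obtain ⟨a, rfl⟩ := Ideal.Quotient.mk_surjective x
      exact ⟨algebraMap A _ a, IsLocalization.lift_eq _ a⟩
    have hJm : ∀ j ∈ J, algebraMap A (Localization T) j ∈ m := by
      intro j hj
      by_contra hjm
      obtain ⟨y, i, hi, hyi⟩ := hm.exists_inv hjm
      obtain ⟨c, s, rfl⟩ := IsLocalization.exists_mk'_eq T y
      have h2 : algebraMap A (Localization T) ((s : A) - c * j) = algebraMap A _ (s : A) * i := by
        rw [map_sub, map_mul, ← IsLocalization.mk'_spec (Localization T) c s]
        linear_combination (-(algebraMap A (Localization T) (s : A))) * hyi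
      have hmem' : (s : A) - c * j ∈ T := by
        rw [hmem, map_sub, map_mul, Ideal.Quotient.eq_zero_iff_mem.mpr hj, mul_zero, sub_zero]
        exact (hmem s).mp s.2
      exact hm.ne_top (m.eq_top_of_isUnit_mem (h2 ▸ Ideal.mul_mem_left _ _ hi)
        (IsLocalization.map_units (Localization T) (⟨_, hmem'⟩ : T)))
    have hker : RingHom.ker ψ ≤ m := fun x hx => by
      obtain ⟨a, s, rfl⟩ := IsLocalization.exists_mk'_eq T x
      have h3 := congrArg ψ (IsLocalization.mk'_spec (Localization T) a s)
      rw [map_mul, RingHom.mem_ker.mp hx, zero_mul, IsLocalization.lift_eq, eq_comm,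
        Ideal.Quotient.eq_zero_iff_mem] at h3
      rw [IsLocalization.mk'_eq_mul_mk'_one]
      exact Ideal.mul_mem_right _ _ (hJm a h3)
    have h1 : m.map (algebraMap (Localization T) C) = ⊤ := by
      rw [Ideal.smul_top_eq_map] at htop
      exact (Submodule.restrictScalars_eq_top_iff _ _ _).mp htop
    have h2 := congrArg (Ideal.map (AdicCompletion.evalOneₐ J).toRingHom) h1
    rw [Ideal.map_map, hcomp, Ideal.map_top] at h2
    have h3 := congrArg (Ideal.comap ψ) h2
    rw [Ideal.comap_map_of_surjective _ hψ, ← RingHom.ker_eq_comap_bot, sup_eq_left.mpr hker,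
      Ideal.comap_top] at h3
    exact hm.ne_top h3
  constructor
  · intro h
    exact Groth.Agent.S9250.result (Localization T) C hreg
  · intro h
    exact Groth.Agent.S9406.result (Localization T) C

end Groth.Agent.S19863
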