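import Groth.Statements.S19864
import Groth.Agent.Calg4.RegularHom
import Groth.Agent.Calg4.AdicSmoothPoint
import Groth.Agent.Ega41Flat.Smooth
import Groth.Agent.S2038

set_option autoImplicit false
universe u
open CAlg

namespace Groth.Agent.S19864

open TensorProduct IsLocalRing

/-- Let A and B be Noetherian rings and B an A-algebra. Then A → B is a regular homomorphism (flat with
Noetherian, geometrically regular fibres) if and only if for every prime q of B lying over the prime
p of A the induced local homomorphism A_p → B_q is formally smooth for the adic topologies of the
maximal ideals (equivalently, for the adic topology of the maximal ideal of B_q). -/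
theorem result (A B : Type u)
    [CommRing A] [CommRing B] [Algebra A B] [IsNoetherianRing A] [IsNoetherianRing B] :
    CAlg.IsRegularHom A B ↔
      ∀ (q : Ideal B) [q.IsPrime],
        letI := (Localization.localRingHom (Ideal.comap (algebraMap A B) q) q (algebraMap A B) rfl).toAlgebra
        CAlgX.IsAdicFormallySmooth (Localization.AtPrime (Ideal.comap (algebraMap A B) q))
          (Localization.AtPrime q) (IsLocalRing.maximalIdeal (Localization.AtPrime q)) := by
  refine ⟨fun h q _ => ?_, fun h => ?_⟩
  · let p := q.comap (algebraMap A B)
    let f := Localization.localRingHom p q (algebraMap A B) rfl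
    let : Algebra (Localization.AtPrime p) (Localization.AtPrime q) := f.toAlgebra
    have : IsScalarTower A (Localization.AtPrime p) (Localization.AtPrime q) :=
      IsScalarTower.of_algebraMap_eq fun a => (by
        simp [RingHom.algebraMap_toAlgebra, f, Localization.localRingHom_to_map,
          IsScalarTower.algebraMap_apply A B (Localization.AtPrime q)])
    have : IsLocalHom (algebraMap (Localization.AtPrime p) (Localization.AtPrime q)) :=
      Localization.isLocalHom_localRingHom p q (algebraMap A B) rfl
    have h1 : CAlg.IsRegularHom (Localization.AtPrime p) (Localization.AtPrime q) :=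
      Groth.Calg4.IsRegularHom.localization_source p.primeCompl
        (Groth.Calg4.IsRegularHom.localization h q.primeCompl (Localization.AtPrime q))
    exact Groth.Agent.S2038.result.mp ⟨h1.1, (h1.2 (maximalIdeal (Localization.AtPrime p))).2⟩
  · refine Groth.Calg4.isRegularHom_of_isRegularRing_tensor ?_ fun L _ _ _ => ?_
    · refine Module.flat_of_isLocalized_maximal B B (fun q _ => Localization.AtPrime q)
        (fun q _ => Algebra.linearMap B (Localization.AtPrime q)) fun q _ => ?_
      let p := q.comap (algebraMap A B)
      let f := Localization.localRingHom p q (algebraMap A B) rfl
      let : Algebra (Localization.AtPrime p) (Localization.AtPrime q) := f.toAlgebra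
      have : IsScalarTower A (Localization.AtPrime p) (Localization.AtPrime q) :=
        IsScalarTower.of_algebraMap_eq fun a => (by
          simp [RingHom.algebraMap_toAlgebra, f, Localization.localRingHom_to_map,
            IsScalarTower.algebraMap_apply A B (Localization.AtPrime q)])
      have : IsLocalHom (algebraMap (Localization.AtPrime p) (Localization.AtPrime q)) :=
        Localization.isLocalHom_localRingHom p q (algebraMap A B) rfl
      have := Groth.Ega41Flat.flat_of_formallySmooth
        ((Groth.Ega41Flat.isAdicFormallySmooth_iff_local).mp (h q))
      exact Module.Flat.trans A (Localization.AtPrime p) (Localization.AtPrime q)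
    · have : IsNoetherianRing (B ⊗[A] L) := Algebra.EssFiniteType.isNoetherianRing B (B ⊗[A] L)
      have : IsNoetherianRing (L ⊗[A] B) :=
        isNoetherianRing_of_ringEquiv (B ⊗[A] L) (Algebra.TensorProduct.comm A B L).toRingEquiv
      exact isRegularRing_iff.mpr fun P _ =>
        Groth.Calg4.isRegularLocalRing_tensor_localization _ (h _) L P rfl

end Groth.Agent.S19864
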