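import Groth.Statements.S19865
import Groth.Agent.SGA7.Ext1

set_option autoImplicit false
universe w u
open CategoryTheory CategoryTheory.Limits AlgebraicGeometry
open Deform

namespace Groth.Agent.S19865

/-- Every class is an extension class: let k be an algebraically closed field of characteristic zero and
X a projective k-scheme, given with a closed immersion ι into projective n-space over k compatible
with the structure maps; suppose the Ext groups of the abelian category of O_X-modules are w-small.
Then every element e of Ext^1(Ω_{X/k}, O_X) (Ext in the category of O_X-modules, Ω_{X/k} the module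
of differentials of the structure map) is the extension class of some short exact sequence 0 → O_X →
F → Ω_{X/k} → 0 of O_X-modules. (The source states an identification of Ext^1(Ω_X, O_X) with the set
of extensions of Ω_X by O_X; stated here is that every class arises from an extension, the direction
the source proves.) -/
theorem result
    (k : Type u) [Field k] [IsAlgClosed k] [CharZero k]
    (X : Scheme.{u}) [X.Over (Spec (CommRingCat.of k))] [IsProper (X ↘ Spec (CommRingCat.of k))]
    (n : ℕ) (ι : X ⟶ CohB1.ProjSpace n k) [IsClosedImmersion ι]
    (hι : ι ≫ CohB1.ProjSpace.toSpec n k = X ↘ Spec (CommRingCat.of k))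
    [HasExt.{w} X.Modules]
    (e : Abelian.Ext (Omega.sheaf (X ↘ Spec (CommRingCat.of k))) (Coh.structureModule X) 1) :
    ∃ (F : X.Modules) (i : Coh.structureModule X ⟶ F) (p : F ⟶ Omega.sheaf (X ↘ Spec (CommRingCat.of k)))
      (hip : i ≫ p = 0) (hS : (ShortComplex.mk i p hip).ShortExact), hS.extClass = e := by
  exact Groth.SGA7.Ext1.exists_shortExact_extClass_eq e

end Groth.Agent.S19865
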