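import Groth.Statements.S19866
import Groth.Agent.CategoryFibred.Split

set_option autoImplicit false
universe v₁ v₂ u₁ u₂
open CategoryTheory
open FibCat

namespace Groth.Agent.S19866

/-- Let p : 𝒳 → 𝒮 be a functor, F : 𝒮ᵒᵖ → Cat a strict functor, and suppose 𝒳 is isomorphic over 𝒮 to
the category of pairs (U, x), x an object of F(U), built from F: there are functors Φ : 𝒳 → ∫F and Ψ
: ∫F → 𝒳 inverse to each other on the nose with Φ followed by the projection equal to p. Then 𝒳 has
a cleavage over 𝒮 which is a splitting: the chosen transport morphism over each identity is the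
identity, and the chosen transport morphism of g at f^* a followed by that of f at a is the chosen
transport morphism of g ≫ f at a. In particular the inverse-image functors of that cleavage satisfy
(fg)^* = g^* f^* on the nose, which is the published conclusion; no fibredness hypothesis is needed,
𝒳 being fibred as a consequence. -/
theorem result {𝒮 : Type u₁} [Category.{v₁} 𝒮] {𝒳 : Type u₂} [Category.{v₂} 𝒳]
    (p : 𝒳 ⥤ 𝒮) (F : 𝒮ᵒᵖ ⥤ Cat.{v₂, u₂})
    (Φ : 𝒳 ⥤ Pseudofunctor.CoGrothendieck F.toPseudofunctor')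
    (Ψ : Pseudofunctor.CoGrothendieck F.toPseudofunctor' ⥤ 𝒳)
    (h₁ : Φ ⋙ Ψ = 𝟭 𝒳) (h₂ : Ψ ⋙ Φ = 𝟭 _)
    (h₃ : Φ ⋙ Pseudofunctor.CoGrothendieck.forget F.toPseudofunctor' = p) :
    ∃ K : FibCat.Cleavage p, K.IsSplitting := by
  subst h₃
  exact Groth.CatFib.exists_splitting_of_iso
    (FibCat.Cleavage.ofCoGrothendieck F.toPseudofunctor') h₁ h₂
    (Groth.CatFib.isSplitting_ofCoGrothendieck F)

end Groth.Agent.S19866
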