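import Groth.Statements.S19868
import Groth.Agent.PLieAlg.Dual

set_option autoImplicit false
universe u v
open PLie

namespace Groth.Agent.S19868

open DualNumber in
/-- Let K be a field of prime characteristic p, K[ε] the ring of dual numbers (taken with its
characteristic-p structure) and a, …, i ∈ K. Let L be a Lie algebra over K[ε], free as a module with
basis x = bs 0, y = bs 1, z = bs 2 and brackets [x,y] = aε x + bε y + cε z, [x,z] = dε x + eε y + fε
z, [y,z] = (1 + gε) x + hε y + iε z, a first-order deformation of the Heisenberg algebra (the Jacobi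
identity forces b + f = 0). Then L carries a p-mapping over K[ε] if and only if b = c = e = 0 when p
= 2; for odd p there is no condition. (The published statement is about the singularity of the point
h_3 in the restrictable locus of the rank-one-centre stratum of the moduli scheme of based
three-dimensional Lie algebras over the prime field; this row states the restrictability criterion
for the first-order deformations of h_3 asserted in its proof, over any field of characteristic p in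
place of the prime field.) -/
theorem result (K : Type u) [Field K] (p : ℕ) [Fact p.Prime] [CharP K p]
    [CharP (DualNumber K) p] (a b c d e f g h i : K)
    (L : Type v) [LieRing L] [LieAlgebra (DualNumber K) L] (bs : Module.Basis (Fin 3) (DualNumber K) L)
    (hxy : ⁅bs 0, bs 1⁆ = (a • ε : DualNumber K) • bs 0 + (b • ε : DualNumber K) • bs 1 + (c • ε : DualNumber K) • bs 2)
    (hxz : ⁅bs 0, bs 2⁆ = (d • ε : DualNumber K) • bs 0 + (e • ε : DualNumber K) • bs 1 + (f • ε : DualNumber K) • bs 2)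
    (hyz : ⁅bs 1, bs 2⁆ = (1 + g • ε : DualNumber K) • bs 0 + (h • ε : DualNumber K) • bs 1 + (i • ε : DualNumber K) • bs 2) :
    Nonempty (PLie.PMap (DualNumber K) p L) ↔ (p = 2 → b = 0 ∧ c = 0 ∧ e = 0) := by
  have hp := (Fact.out : p.Prime)
  have hA : ∀ k : K, (k • ε : DualNumber K) = Groth.PLieAlg.dual 0 k := fun k ↦ by simp [Groth.PLieAlg.dual]
  have hG : (1 + g • ε : DualNumber K) = Groth.PLieAlg.dual 1 g := by simp [Groth.PLieAlg.dual]
  rw [hA, hA, hA] at hxy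
  rw [hA, hA, hA] at hxz
  rw [hG, hA, hA] at hyz
  have hW := Groth.PLieAlg.lie_vec3 bs hxy hxz hyz
  obtain ⟨b0, b1, b2⟩ := Groth.PLieAlg.vec3_basis bs
  have hz := Groth.PLieAlg.vec3_zero bs
  have hfb : f = -b := by
    have hj := leibniz_lie (bs 0) (bs 1) (bs 2)
    simp only [← b0, ← b1, ← b2, hW] at hj
    have hadd : ∀ α β γ α' β' γ', Groth.PLieAlg.vec3 bs α β γ + Groth.PLieAlg.vec3 bs α' β' γ' =
        Groth.PLieAlg.vec3 bs (α + α') (β + β') (γ + γ') := fun α β γ α' β' γ' ↦ by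
      simp only [Groth.PLieAlg.vec3]; module
    rw [hadd, Groth.PLieAlg.vec3_inj] at hj
    have := congrArg TrivSqZeroExt.snd hj.1
    simp [DualNumber.snd_mul] at this
    linear_combination (exp := 1) -this
  have hX2 : ∀ j, (LieAlgebra.ad (DualNumber K) L (bs 0) ^ 2) (bs j) = 0 := fun j ↦ by
    rw [pow_two, Module.End.mul_apply, LieAlgebra.ad_apply, LieAlgebra.ad_apply]
    match j with
    | 0 => rw [lie_self, lie_zero]
    | 1 => rw [← b0, ← b1, hW, hW, ← hz, Groth.PLieAlg.vec3_inj]; simp [Groth.PLieAlg.dual_ext_iff, DualNumber.snd_mul]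
    | 2 => rw [← b0, ← b2, hW, hW, ← hz, Groth.PLieAlg.vec3_inj]; simp [Groth.PLieAlg.dual_ext_iff, DualNumber.snd_mul]
  have P120 : (LieAlgebra.ad (DualNumber K) L (bs 1) ^ 2) (bs 0) = Groth.PLieAlg.vec3 bs (Groth.PLieAlg.dual 0 (-c)) 0 0 := by
    rw [pow_two, Module.End.mul_apply, LieAlgebra.ad_apply, LieAlgebra.ad_apply, ← b1, ← b0, hW, hW, Groth.PLieAlg.vec3_inj]
    simp [Groth.PLieAlg.dual_ext_iff, DualNumber.snd_mul] <;> ring
  have P121 : (LieAlgebra.ad (DualNumber K) L (bs 1) ^ 2) (bs 1) = Groth.PLieAlg.vec3 bs 0 0 0 := by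
    rw [pow_two, Module.End.mul_apply, LieAlgebra.ad_apply, LieAlgebra.ad_apply, ← b1, hW, hW, Groth.PLieAlg.vec3_inj]
    simp [Groth.PLieAlg.dual_ext_iff, DualNumber.snd_mul] <;> ring
  have P122 : (LieAlgebra.ad (DualNumber K) L (bs 1) ^ 2) (bs 2) = Groth.PLieAlg.vec3 bs (Groth.PLieAlg.dual 0 (i - a)) (Groth.PLieAlg.dual 0 (-b)) (Groth.PLieAlg.dual 0 (-c)) := by
    rw [pow_two, Module.End.mul_apply, LieAlgebra.ad_apply, LieAlgebra.ad_apply, ← b1, ← b2, hW, hW, Groth.PLieAlg.vec3_inj]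
    simp [Groth.PLieAlg.dual_ext_iff, DualNumber.snd_mul] <;> ring
  have P130 : (LieAlgebra.ad (DualNumber K) L (bs 1) ^ 3) (bs 0) = Groth.PLieAlg.vec3 bs 0 0 0 := by
    rw [pow_succ', Module.End.mul_apply, P120, LieAlgebra.ad_apply, ← b1, hW, Groth.PLieAlg.vec3_inj]
    simp [Groth.PLieAlg.dual_ext_iff, DualNumber.snd_mul] <;> ring
  have P131 : (LieAlgebra.ad (DualNumber K) L (bs 1) ^ 3) (bs 1) = Groth.PLieAlg.vec3 bs 0 0 0 := by
    rw [pow_succ', Module.End.mul_apply, P121, LieAlgebra.ad_apply, ← b1, hW, Groth.PLieAlg.vec3_inj]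
    simp [Groth.PLieAlg.dual_ext_iff, DualNumber.snd_mul] <;> ring
  have P132 : (LieAlgebra.ad (DualNumber K) L (bs 1) ^ 3) (bs 2) = Groth.PLieAlg.vec3 bs (Groth.PLieAlg.dual 0 (-c)) 0 0 := by
    rw [pow_succ', Module.End.mul_apply, P122, LieAlgebra.ad_apply, ← b1, hW, Groth.PLieAlg.vec3_inj]
    simp [Groth.PLieAlg.dual_ext_iff, DualNumber.snd_mul] <;> ring
  have P140 : (LieAlgebra.ad (DualNumber K) L (bs 1) ^ 4) (bs 0) = Groth.PLieAlg.vec3 bs 0 0 0 := by
    rw [pow_succ', Module.End.mul_apply, P130, LieAlgebra.ad_apply, ← b1, hW, Groth.PLieAlg.vec3_inj]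
    simp [Groth.PLieAlg.dual_ext_iff, DualNumber.snd_mul] <;> ring
  have P141 : (LieAlgebra.ad (DualNumber K) L (bs 1) ^ 4) (bs 1) = Groth.PLieAlg.vec3 bs 0 0 0 := by
    rw [pow_succ', Module.End.mul_apply, P131, LieAlgebra.ad_apply, ← b1, hW, Groth.PLieAlg.vec3_inj]
    simp [Groth.PLieAlg.dual_ext_iff, DualNumber.snd_mul] <;> ring
  have P142 : (LieAlgebra.ad (DualNumber K) L (bs 1) ^ 4) (bs 2) = Groth.PLieAlg.vec3 bs 0 0 0 := by
    rw [pow_succ', Module.End.mul_apply, P132, LieAlgebra.ad_apply, ← b1, hW, Groth.PLieAlg.vec3_inj]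
    simp [Groth.PLieAlg.dual_ext_iff, DualNumber.snd_mul] <;> ring
  have P220 : (LieAlgebra.ad (DualNumber K) L (bs 2) ^ 2) (bs 0) = Groth.PLieAlg.vec3 bs (Groth.PLieAlg.dual 0 (e)) 0 0 := by
    rw [pow_two, Module.End.mul_apply, LieAlgebra.ad_apply, LieAlgebra.ad_apply, ← b2, ← b0, hW, hW, Groth.PLieAlg.vec3_inj]
    simp [Groth.PLieAlg.dual_ext_iff, DualNumber.snd_mul] <;> ring
  have P221 : (LieAlgebra.ad (DualNumber K) L (bs 2) ^ 2) (bs 1) = Groth.PLieAlg.vec3 bs (Groth.PLieAlg.dual 0 (d + h)) (Groth.PLieAlg.dual 0 (e)) (Groth.PLieAlg.dual 0 (f)) := by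
    rw [pow_two, Module.End.mul_apply, LieAlgebra.ad_apply, LieAlgebra.ad_apply, ← b2, ← b1, hW, hW, Groth.PLieAlg.vec3_inj]
    simp [Groth.PLieAlg.dual_ext_iff, DualNumber.snd_mul] <;> ring
  have P222 : (LieAlgebra.ad (DualNumber K) L (bs 2) ^ 2) (bs 2) = Groth.PLieAlg.vec3 bs 0 0 0 := by
    rw [pow_two, Module.End.mul_apply, LieAlgebra.ad_apply, LieAlgebra.ad_apply, ← b2, hW, hW, Groth.PLieAlg.vec3_inj]
    simp [Groth.PLieAlg.dual_ext_iff, DualNumber.snd_mul] <;> ring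
  have P230 : (LieAlgebra.ad (DualNumber K) L (bs 2) ^ 3) (bs 0) = Groth.PLieAlg.vec3 bs 0 0 0 := by
    rw [pow_succ', Module.End.mul_apply, P220, LieAlgebra.ad_apply, ← b2, hW, Groth.PLieAlg.vec3_inj]
    simp [Groth.PLieAlg.dual_ext_iff, DualNumber.snd_mul] <;> ring
  have P231 : (LieAlgebra.ad (DualNumber K) L (bs 2) ^ 3) (bs 1) = Groth.PLieAlg.vec3 bs (Groth.PLieAlg.dual 0 (-e)) 0 0 := by
    rw [pow_succ', Module.End.mul_apply, P221, LieAlgebra.ad_apply, ← b2, hW, Groth.PLieAlg.vec3_inj]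
    simp [Groth.PLieAlg.dual_ext_iff, DualNumber.snd_mul] <;> ring
  have P232 : (LieAlgebra.ad (DualNumber K) L (bs 2) ^ 3) (bs 2) = Groth.PLieAlg.vec3 bs 0 0 0 := by
    rw [pow_succ', Module.End.mul_apply, P222, LieAlgebra.ad_apply, ← b2, hW, Groth.PLieAlg.vec3_inj]
    simp [Groth.PLieAlg.dual_ext_iff, DualNumber.snd_mul] <;> ring
  have P240 : (LieAlgebra.ad (DualNumber K) L (bs 2) ^ 4) (bs 0) = Groth.PLieAlg.vec3 bs 0 0 0 := by
    rw [pow_succ', Module.End.mul_apply, P230, LieAlgebra.ad_apply, ← b2, hW, Groth.PLieAlg.vec3_inj]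
    simp [Groth.PLieAlg.dual_ext_iff, DualNumber.snd_mul] <;> ring
  have P241 : (LieAlgebra.ad (DualNumber K) L (bs 2) ^ 4) (bs 1) = Groth.PLieAlg.vec3 bs 0 0 0 := by
    rw [pow_succ', Module.End.mul_apply, P231, LieAlgebra.ad_apply, ← b2, hW, Groth.PLieAlg.vec3_inj]
    simp [Groth.PLieAlg.dual_ext_iff, DualNumber.snd_mul] <;> ring
  have P242 : (LieAlgebra.ad (DualNumber K) L (bs 2) ^ 4) (bs 2) = Groth.PLieAlg.vec3 bs 0 0 0 := by
    rw [pow_succ', Module.End.mul_apply, P232, LieAlgebra.ad_apply, ← b2, hW, Groth.PLieAlg.vec3_inj]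
    simp [Groth.PLieAlg.dual_ext_iff, DualNumber.snd_mul] <;> ring
  have big : ∀ k : Fin 3, (∀ j, (LieAlgebra.ad (DualNumber K) L (bs k) ^ 4) (bs j) = 0) → 4 ≤ p → LieAlgebra.ad (DualNumber K) L (bs k) ^ p = LieAlgebra.ad (DualNumber K) L 0 :=
    fun k hk h4 ↦ bs.ext fun j ↦ by
      rw [show LieAlgebra.ad (DualNumber K) L (bs k) ^ p = LieAlgebra.ad (DualNumber K) L (bs k) ^ (p - 4) * LieAlgebra.ad (DualNumber K) L (bs k) ^ 4 by rw [← pow_add]; congr 1; omega,
        Module.End.mul_apply, hk, map_zero, map_zero, LinearMap.zero_apply]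
  constructor
  · rintro ⟨φ⟩ h2
    subst h2
    obtain ⟨α, β, γ, hw⟩ := Groth.PLieAlg.exists_vec3 bs (φ.toFun (bs 1))
    obtain ⟨α', β', γ', hw'⟩ := Groth.PLieAlg.exists_vec3 bs (φ.toFun (bs 2))
    have e10 := Groth.PLieAlg.lie_pmap φ (bs 1) (bs 0)
    rw [P120, hw, ← b0, hW, Groth.PLieAlg.vec3_inj] at e10
    simp [Groth.PLieAlg.dual_ext_iff, DualNumber.snd_mul] at e10
    have e11 := Groth.PLieAlg.lie_pmap φ (bs 1) (bs 1)
    rw [P121, hw, ← b1, hW, Groth.PLieAlg.vec3_inj] at e11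
    simp [Groth.PLieAlg.dual_ext_iff, DualNumber.snd_mul] at e11
    have e12 := Groth.PLieAlg.lie_pmap φ (bs 1) (bs 2)
    rw [P122, hw, ← b2, hW, Groth.PLieAlg.vec3_inj] at e12
    simp [Groth.PLieAlg.dual_ext_iff, DualNumber.snd_mul] at e12
    have e20 := Groth.PLieAlg.lie_pmap φ (bs 2) (bs 0)
    rw [P220, hw', ← b0, hW, Groth.PLieAlg.vec3_inj] at e20
    simp [Groth.PLieAlg.dual_ext_iff, DualNumber.snd_mul] at e20
    have e21 := Groth.PLieAlg.lie_pmap φ (bs 2) (bs 1)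
    rw [P221, hw', ← b1, hW, Groth.PLieAlg.vec3_inj] at e21
    simp [Groth.PLieAlg.dual_ext_iff, DualNumber.snd_mul] at e21
    have e22 := Groth.PLieAlg.lie_pmap φ (bs 2) (bs 2)
    rw [P222, hw', ← b2, hW, Groth.PLieAlg.vec3_inj] at e22
    simp [Groth.PLieAlg.dual_ext_iff, DualNumber.snd_mul] at e22
    grind
  · intro hcond
    have hXp : LieAlgebra.ad (DualNumber K) L (bs 0) ^ p = LieAlgebra.ad (DualNumber K) L 0 := bs.ext fun j ↦ by
      rw [show LieAlgebra.ad (DualNumber K) L (bs 0) ^ p = LieAlgebra.ad (DualNumber K) L (bs 0) ^ (p - 2) * LieAlgebra.ad (DualNumber K) L (bs 0) ^ 2 by rw [← pow_add]; congr 1; have := hp.two_le; omega,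
        Module.End.mul_apply, hX2, map_zero, map_zero, LinearMap.zero_apply]
    have hp1 : ∃ w, LieAlgebra.ad (DualNumber K) L (bs 1) ^ p = LieAlgebra.ad (DualNumber K) L w := by
      by_cases h2 : p = 2
      · subst h2
        obtain ⟨rfl, rfl, rfl⟩ := hcond rfl
        obtain rfl : f = 0 := by simpa using hfb
        refine ⟨Groth.PLieAlg.vec3 bs 0 (Groth.PLieAlg.dual 0 (i - a)) 0, bs.ext fun j ↦ ?_⟩
        match j with
        | 0 => rw [P120, LieAlgebra.ad_apply, ← b0, hW, Groth.PLieAlg.vec3_inj]; simp [Groth.PLieAlg.dual_ext_iff, DualNumber.snd_mul]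
        | 1 => rw [P121, LieAlgebra.ad_apply, ← b1, hW, Groth.PLieAlg.vec3_inj]; simp [Groth.PLieAlg.dual_ext_iff, DualNumber.snd_mul]
        | 2 => rw [P122, LieAlgebra.ad_apply, ← b2, hW, Groth.PLieAlg.vec3_inj]; simp [Groth.PLieAlg.dual_ext_iff, DualNumber.snd_mul]
      by_cases h3 : p = 3
      · subst h3
        refine ⟨Groth.PLieAlg.vec3 bs 0 (Groth.PLieAlg.dual 0 (-c)) 0, bs.ext fun j ↦ ?_⟩
        match j with
        | 0 => rw [P130, LieAlgebra.ad_apply, ← b0, hW, Groth.PLieAlg.vec3_inj]; simp [Groth.PLieAlg.dual_ext_iff, DualNumber.snd_mul]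
        | 1 => rw [P131, LieAlgebra.ad_apply, ← b1, hW, Groth.PLieAlg.vec3_inj]; simp [Groth.PLieAlg.dual_ext_iff, DualNumber.snd_mul]
        | 2 => rw [P132, LieAlgebra.ad_apply, ← b2, hW, Groth.PLieAlg.vec3_inj]; simp [Groth.PLieAlg.dual_ext_iff, DualNumber.snd_mul]
      refine ⟨0, big 1 (fun j ↦ ?_) (by have := hp.two_le; omega)⟩
      match j with
      | 0 => rw [P140, hz]
      | 1 => rw [P141, hz]
      | 2 => rw [P142, hz]
    have hp2 : ∃ w, LieAlgebra.ad (DualNumber K) L (bs 2) ^ p = LieAlgebra.ad (DualNumber K) L w := by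
      by_cases h2 : p = 2
      · subst h2
        obtain ⟨rfl, rfl, rfl⟩ := hcond rfl
        obtain rfl : f = 0 := by simpa using hfb
        refine ⟨Groth.PLieAlg.vec3 bs 0 0 (Groth.PLieAlg.dual 0 (-(d + h))), bs.ext fun j ↦ ?_⟩
        match j with
        | 0 => rw [P220, LieAlgebra.ad_apply, ← b0, hW, Groth.PLieAlg.vec3_inj]; simp [Groth.PLieAlg.dual_ext_iff, DualNumber.snd_mul]
        | 1 => rw [P221, LieAlgebra.ad_apply, ← b1, hW, Groth.PLieAlg.vec3_inj]; simp [Groth.PLieAlg.dual_ext_iff, DualNumber.snd_mul]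
        | 2 => rw [P222, LieAlgebra.ad_apply, ← b2, hW, Groth.PLieAlg.vec3_inj]; simp [Groth.PLieAlg.dual_ext_iff, DualNumber.snd_mul]
      by_cases h3 : p = 3
      · subst h3
        refine ⟨Groth.PLieAlg.vec3 bs 0 0 (Groth.PLieAlg.dual 0 (e)), bs.ext fun j ↦ ?_⟩
        match j with
        | 0 => rw [P230, LieAlgebra.ad_apply, ← b0, hW, Groth.PLieAlg.vec3_inj]; simp [Groth.PLieAlg.dual_ext_iff, DualNumber.snd_mul]
        | 1 => rw [P231, LieAlgebra.ad_apply, ← b1, hW, Groth.PLieAlg.vec3_inj]; simp [Groth.PLieAlg.dual_ext_iff, DualNumber.snd_mul]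
        | 2 => rw [P232, LieAlgebra.ad_apply, ← b2, hW, Groth.PLieAlg.vec3_inj]; simp [Groth.PLieAlg.dual_ext_iff, DualNumber.snd_mul]
      refine ⟨0, big 2 (fun j ↦ ?_) (by have := hp.two_le; omega)⟩
      match j with
      | 0 => rw [P240, hz]
      | 1 => rw [P241, hz]
      | 2 => rw [P242, hz]
    obtain ⟨w1, hw1⟩ := hp1
    obtain ⟨w2, hw2⟩ := hp2
    obtain ⟨φ, -, -⟩ := Groth.PLieAlg.existsUnique_pmap bs ![_, _, _] (Fin.forall_fin_succ.mpr ⟨hXp, Fin.forall_fin_two.mpr ⟨hw1, hw2⟩⟩)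
    exact ⟨φ⟩

end Groth.Agent.S19868
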