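import Groth.Statements.S19876
import Groth.Agent.Flatmor4.ValuativeFlat
import Groth.Agent.Calg1.Completion
import Groth.Agent.EGA43Flat.Nilpotent

set_option autoImplicit false
universe u
open scoped TensorProduct
open FlatMor

namespace Groth.Agent.S19876

/-- Affine form. Suppose A is a Noetherian ring that is reduced, B is a finitely generated A-algebra
(finite type), and M is a B-module that is finitely generated over B. Then flatness of M over A
holds exactly when, for each discrete valuation ring R together with any ring homomorphism A → R,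
the base change R ⊗_A M is a flat R-module. (In the source the statement concerns a coherent module
on a scheme of finite type over a reduced Noetherian scheme, with base changes to spectra of
discrete valuation rings; since flatness is local on both source and target, what is recorded here
is the affine version, and the discrete valuation rings are taken in the universe of A.) -/
theorem result (A : Type u) [CommRing A] [IsReduced A]
    [IsNoetherianRing A] (B : Type u) [CommRing B] [Algebra A B] [Algebra.FiniteType A B]
    (M : Type u) [AddCommGroup M] [Module A M] [Module B M] [IsScalarTower A B M] [Module.Finite B M] :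
    Module.Flat A M ↔
      ∀ (R : Type u) [CommRing R] [IsDomain R] [IsDiscreteValuationRing R] [Algebra A R],
        Module.Flat R (R ⊗[A] M) := by
  classical
  refine ⟨fun _ R _ _ _ _ => inferInstance, fun h => ?_⟩
  letI : Module B (M ⊗[A] A) := inferInstance
  rw [Module.Flat.iff_lTensor_injective']
  intro J
  rw [injective_iff_map_eq_zero]
  intro x hx
  by_contra hx0
  let a : Ideal B := LinearMap.ker (LinearMap.toSpanSingleton B (M ⊗[A] J) x)
  obtain ⟨q, hq, haq⟩ := Ideal.exists_le_maximal a (fun e => hx0 (by
    have h1 : (1 : B) ∈ a := e ▸ trivial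
    simpa [a] using h1))
  let p : Ideal A := q.comap (algebraMap A B)
  let A' := Localization.AtPrime p
  haveI : IsReduced A' := inferInstance
  let C := AdicCompletion (IsLocalRing.maximalIdeal A') A'
  haveI : IsNoetherianRing C :=
    Groth.Calg1.isNoetherianRing_adicCompletion _ (IsNoetherian.noetherian (IsLocalRing.maximalIdeal A'))
  haveI : Module.Flat A' C := inferInstance
  haveI : Module.Flat A C := Module.Flat.trans A A' C
  let S := C ⊗[A] B
  letI : Algebra B S := Algebra.TensorProduct.rightAlgebra
  haveI : IsNoetherianRing S := Algebra.FiniteType.isNoetherianRing C S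
  let X := S ⊗[B] M
  let eX : X ≃ₗ[C] C ⊗[A] M := Algebra.IsPushout.cancelBaseChange A C B S M
  have hdvr : ∀ (R : Type u) [CommRing R] [IsDomain R] [IsDiscreteValuationRing R] [Algebra C R]
      [IsLocalHom (algebraMap C R)], Module.Flat R (R ⊗[C] X) := by
    intro R _ _ _ _ _
    letI : Algebra A R := ((algebraMap C R).comp (algebraMap A C)).toAlgebra
    haveI : IsScalarTower A C R := IsScalarTower.of_algebraMap_eq fun _ => rfl
    haveI := h R
    exact Module.Flat.of_linearEquiv ((TensorProduct.AlgebraTensorModule.congr (LinearEquiv.refl R R) eX).trans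
      (TensorProduct.AlgebraTensorModule.cancelBaseChange A C R R M))
  let ι := {P : Ideal A' // P ∈ minimalPrimes A'}
  haveI : Finite ι := (minimalPrimes.finite_of_isNoetherianRing A').to_subtype
  haveI hι : ∀ i : ι, i.1.IsPrime := fun i => i.2.1.1
  let K : ι → Type u := fun i => i.1.ResidueField
  let D : ι → Type u := fun i => C ⊗[A'] K i
  haveI hflatD : ∀ i : ι, Module.Flat (D i) (D i ⊗[C] X) := by
    intro i
    letI : Algebra (K i) (D i) := Algebra.TensorProduct.rightAlgebra
    haveI : IsScalarTower A (K i) (D i) := by
      refine IsScalarTower.of_algebraMap_eq (R := A) (S := K i) (A := D i) fun r => ?_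
      show algebraMap A C r ⊗ₜ[A'] (1 : K i) = (1 : C) ⊗ₜ[A'] algebraMap A (K i) r
      rw [IsScalarTower.algebraMap_apply A A' C, IsScalarTower.algebraMap_apply A A' (K i),
        Algebra.algebraMap_eq_smul_one (algebraMap A A' r) (A := C),
        Algebra.algebraMap_eq_smul_one (algebraMap A A' r) (A := K i), TensorProduct.smul_tmul]
    haveI := Groth.EGA43Flat.flat_baseChange_square (A := A) (M := M) (K i) (D i) C inferInstance
    exact Module.Flat.of_linearEquiv
      (TensorProduct.AlgebraTensorModule.congr (LinearEquiv.refl (D i) (D i)) eX)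
  letI : ∀ i : ι, Semiring (D i) := fun i => inferInstanceAs (Semiring (C ⊗[A'] K i))
  haveI := Fintype.ofFinite ι
  have hD : ∀ c : C, (∀ i : ι, algebraMap C (D i) c = 0) → c = 0 := by
    intro c hc
    let f : A' →ₗ[A'] ∀ i, K i := LinearMap.pi fun i => Algebra.linearMap A' (K i)
    have hf : Function.Injective f := by
      rw [injective_iff_map_eq_zero]
      intro r hr
      have hnil : r ∈ nilradical A' := by
        rw [nilradical, ← Ideal.sInf_minimalPrimes, Submodule.mem_sInf]
        intro P hP
        haveI : Ideal.IsPrime P := hP.1.1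
        exact Ideal.algebraMap_residueField_eq_zero.mp (congrFun hr (⟨P, hP⟩ : ι))
      rwa [nilradical_eq_zero, Submodule.zero_eq_bot, Ideal.mem_bot] at hnil
    have h1 : f.lTensor C (c ⊗ₜ 1) = 0 := by
      apply (TensorProduct.piRight A' A' C K).injective
      rw [map_zero]
      funext i
      simp only [LinearMap.lTensor_tmul, TensorProduct.piRight_apply, Pi.zero_apply]
      show c ⊗ₜ[A'] f 1 i = 0
      rw [show f 1 i = 1 from map_one (algebraMap A' (K i))]
      exact hc i
    have h2 := Module.Flat.lTensor_preserves_injective_linearMap (M := C) f hf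
      (h1.trans (map_zero _).symm)
    simpa using congrArg (TensorProduct.rid A' C) h2
  have hpq : p = Ideal.comap (Algebra.ofId A B).toRingHom q := rfl
  let gC : C →ₐ[A] q.ResidueField :=
    (Ideal.ResidueField.mapₐ p q (Algebra.ofId A B) hpq).comp
      ((AdicCompletion.evalOneₐ (IsLocalRing.maximalIdeal A')).restrictScalars A)
  let φ : S →ₐ[A] q.ResidueField :=
    Algebra.TensorProduct.lift gC (IsScalarTower.toAlgHom A B q.ResidueField) fun _ _ => .all _ _
  let q' : Ideal S := RingHom.ker φ
  haveI : q'.IsPrime := RingHom.ker_isPrime φ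
  have hmq' : (IsLocalRing.maximalIdeal C).map (algebraMap C S) ≤ q' := by
    rw [Ideal.map_le_iff_le_comap, AdicCompletion.maximalIdeal_eq_map, Ideal.map_le_iff_le_comap]
    intro r hr
    show φ (algebraMap A' C r ⊗ₜ 1) = 0
    have h0 : AdicCompletion.evalOneₐ (IsLocalRing.maximalIdeal A') (algebraMap A' C r) = 0 :=
      ((AdicCompletion.evalOneₐ (IsLocalRing.maximalIdeal A')).commutes r).trans
        (Ideal.Quotient.eq_zero_iff_mem.mpr hr)
    refine (Algebra.TensorProduct.lift_tmul _ _ _ _ _).trans ?_
    refine mul_eq_zero_of_left ?_ _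
    exact (congrArg (Ideal.ResidueField.mapₐ p q (Algebra.ofId A B) hpq) h0).trans (map_zero _)
  have hq'q : ∀ b ∈ q, algebraMap B S b ∈ q' := by
    intro b hb
    show φ ((1 : C) ⊗ₜ b) = 0
    refine (Algebra.TensorProduct.lift_tmul _ _ _ _ _).trans ?_
    exact mul_eq_zero_of_right _ (Ideal.algebraMap_residueField_eq_zero.mpr hb)
  haveI hY : Module.Flat C (LocalizedModule q'.primeCompl X) :=
    Groth.Flatmor4.flat_localizedModule_of_dvr hdvr D hD q' hmq'
  haveI : Module.Flat A (LocalizedModule q'.primeCompl X) :=
    Module.Flat.trans A C (LocalizedModule q'.primeCompl X)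
  let T := Localization.AtPrime q'
  haveI : Module.Flat A (T ⊗[B] M) := Module.Flat.of_linearEquiv
    (((TensorProduct.AlgebraTensorModule.cancelBaseChange B S T T M).symm.restrictScalars A).trans
      ((LocalizedModule.equivTensorProduct q'.primeCompl X).symm.restrictScalars A))
  haveI : Module.Flat B S :=
    Module.Flat.of_linearEquiv (M := B ⊗[A] C)
      ({ (TensorProduct.comm A C B).toAddEquiv with
          map_smul' := fun b z => by
            induction z using TensorProduct.induction_on with
            | zero => simp
            | add u v hu hv => simp_all [smul_add]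
            | tmul c b' =>
              show TensorProduct.comm A C B (b • (c ⊗ₜ b' : C ⊗[A] B)) = b • (b' ⊗ₜ c)
              rw [Algebra.smul_def, Algebra.TensorProduct.right_algebraMap_apply,
                Algebra.TensorProduct.tmul_mul_tmul, one_mul, TensorProduct.comm_tmul,
                TensorProduct.smul_tmul', smul_eq_mul] } : S ≃ₗ[B] B ⊗[A] C)
  haveI : Module.Flat B T := Module.Flat.trans B S T
  let g : M ⊗[A] J →ₗ[B] M ⊗[A] A :=
    TensorProduct.AlgebraTensorModule.map (LinearMap.id : M →ₗ[B] M) J.subtype
  let e := TensorProduct.AlgebraTensorModule.assoc A B T T M J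
  have hcomm : ∀ z, J.subtype.lTensor (T ⊗[B] M) (e.symm z) =
      (TensorProduct.AlgebraTensorModule.assoc A B T T M A).symm (g.lTensor T z) := by
    intro z
    induction z with
    | zero => simp
    | add u v hu hv => simp only [map_add, hu, hv]
    | tmul t w =>
      induction w with
      | zero => simp
      | add u v hu hv => simp only [TensorProduct.tmul_add, map_add, hu, hv]
      | tmul m r => simp [e, g]
  have hgx : g x = 0 := hx
  have h1x : (1 : T) ⊗ₜ[B] x = 0 := by
    apply e.symm.injective
    apply Module.Flat.lTensor_preserves_injective_linearMap (M := T ⊗[B] M) J.subtype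
      Subtype.val_injective
    rw [hcomm, LinearMap.lTensor_tmul, hgx]
    simp
  let l : (B ⧸ a) →ₗ[B] M ⊗[A] J := a.liftQ (LinearMap.toSpanSingleton B _ x) le_rfl
  have hl : Function.Injective l := LinearMap.ker_eq_bot.mp (Submodule.ker_liftQ_eq_bot _ _ _ le_rfl)
  have h11 : (1 : T) ⊗ₜ[B] (Submodule.Quotient.mk (1 : B) : B ⧸ a) = 0 := by
    apply Module.Flat.lTensor_preserves_injective_linearMap (M := T) l hl
    rw [LinearMap.lTensor_tmul, map_zero, Submodule.liftQ_apply, LinearMap.toSpanSingleton_apply,
      one_smul, h1x]
  letI : Algebra T (IsLocalRing.ResidueField T) := (IsLocalRing.residue T).toAlgebra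
  haveI : IsScalarTower B T (IsLocalRing.ResidueField T) :=
    IsScalarTower.of_algebraMap_eq fun _ => rfl
  let ψ : (B ⧸ a) →ₗ[B] (IsLocalRing.ResidueField T) := a.liftQ (Algebra.linearMap B (IsLocalRing.ResidueField T)) fun b hb => by
    show algebraMap B (IsLocalRing.ResidueField T) b = 0
    rw [IsScalarTower.algebraMap_apply B T (IsLocalRing.ResidueField T), IsScalarTower.algebraMap_apply B S T]
    exact Ideal.Quotient.eq_zero_iff_mem.mpr
      ((IsLocalization.AtPrime.to_map_mem_maximal_iff T q' _).mpr (hq'q b (haq hb)))
  have hone := congrArg (ψ.liftBaseChange T) h11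
  rw [LinearMap.liftBaseChange_tmul, map_zero, one_smul, Submodule.liftQ_apply,
    Algebra.linearMap_apply, map_one] at hone
  exact one_ne_zero hone

end Groth.Agent.S19876
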