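import Groth.Statements.S19878
import Mathlib
import Groth.Agent.Divisors.IdealComap
-- import your own Groth.Agent.* helpers here

set_option autoImplicit false
universe u
open LVCorr

namespace Groth.Agent.S19878

section Helpers

open CategoryTheory AlgebraicGeometry

/-- The support of an ideal sheaf with a stationary positive power is open on a locally Noetherian scheme. -/
lemma isOpen_support_of_pow {Y : Scheme.{u}} [IsLocallyNoetherian Y] (J : Y.IdealSheafData) (k : ℕ)
    (h : J ^ k ≤ J ^ (k + 1)) : IsOpen (J.support : Set Y) := by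
  rw [isOpen_iff_forall_mem_open]
  intro y hy
  obtain ⟨U, hU, hyU, -⟩ := exists_isAffineOpen_mem_and_subset (show y ∈ (⊤ : Y.Opens) from trivial)
  set A := J.ideal ⟨U, hU⟩ with hA
  have hk : A ^ k ≤ A ^ (k + 1) := h ⟨U, hU⟩
  have hidem : IsIdempotentElem (A ^ (k + 1)) := by
    have hstep : ∀ m : ℕ, A ^ (k + 1) ≤ A ^ (k + 1 + m) := by
      intro m
      induction m with
      | zero => simp
      | succ m ih =>
        refine ih.trans ?_
        calc A ^ (k + 1 + m) = A ^ k * A ^ (1 + m) := by rw [← pow_add, add_assoc]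
          _ ≤ A ^ (k + 1) * A ^ (1 + m) := Ideal.mul_mono_left hk
          _ = A ^ (k + 1 + (m + 1)) := by rw [← pow_add]; congr 1; omega
    show A ^ (k + 1) * A ^ (k + 1) = A ^ (k + 1)
    rw [← pow_add]
    exact le_antisymm (Ideal.pow_le_pow_right (by omega)) (hstep (k + 1))
  have : IsNoetherianRing Γ(Y, U) := IsLocallyNoetherian.component_noetherian ⟨U, hU⟩
  obtain ⟨e, he, hAe⟩ := (Ideal.isIdempotentElem_iff_of_fg _ (IsNoetherian.noetherian _)).mp hidem
  have key : ∀ z ∈ U, (z ∈ J.support ↔ z ∈ Y.basicOpen (1 - e)) := by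
    intro z hz
    rw [← Scheme.IdealSheafData.support_pow J (k + 1) (by omega),
      Scheme.IdealSheafData.mem_support_iff_of_mem (U := ⟨U, hU⟩) hz]
    have hId : (J ^ (k + 1)).ideal ⟨U, hU⟩ = Ideal.span {e} := by
      rw [Scheme.IdealSheafData.ideal_pow]
      exact hAe
    rw [hId, Scheme.zeroLocus_span, Scheme.mem_zeroLocus_iff]
    simp only [Set.mem_singleton_iff, forall_eq]
    rw [Y.mem_basicOpen _ z hz, Y.mem_basicOpen _ z hz, map_sub, map_one]
    set g := (Y.presheaf.germ U z hz).hom e with hg
    have hgg : g * (1 - g) = 0 := by rw [mul_sub, mul_one, ← map_mul, he.eq, sub_self]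
    constructor
    · exact fun hne => (IsLocalRing.isUnit_or_isUnit_of_add_one (add_sub_cancel g 1)).resolve_left hne
    · intro h1 h2
      exact not_isUnit_zero (hgg ▸ h2.mul h1 : IsUnit (0 : Y.presheaf.stalk z))
  refine ⟨(U : Set Y) ∩ (Y.basicOpen (1 - e) : Set Y), fun z hz => (key z hz.1).mpr hz.2,
    U.2.inter (Y.basicOpen (1 - e)).2, hyU, (key y hyU).mp hy⟩

end Helpers

open AlgebraicGeometry CategoryTheory CategoryTheory.Limits in
/-- Let k be a field, C a k-scheme of finite type, X a k-scheme and c = (c₁, c₂) : C → X ×_k X a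
correspondence; let Fix(c) = C ×_{X ×_k X} X be its scheme of fixed points (pullback along the
diagonal), with projections i : Fix(c) → C and δ : Fix(c) → X. Let Z ⊂ X be the closed subscheme of
a quasi-coherent ideal I and suppose c is contracting near Z in a neighbourhood of the fixed points:
there is an open W ⊆ C containing the image of Fix(c) such that on W the inverse image ideal of I
under c₁ is contained in the inverse image ideal of I under c₂ (c stabilizes Z on W) and some power
(I·O_W via c₁)^k₀ is contained in (I·O_W via c₂)^(k₀+1). Then every connected open subset β of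
Fix(c) whose image under δ meets Z is contained, as a set, in δ⁻¹(Z). (The source works with
separated schemes of finite type over an algebraically closed field; this row assumes only that C is
of finite type over a field k.) -/
theorem result {C X Fx : Scheme.{u}} (k : Type u) [Field k]
    (pC : C ⟶ Spec (CommRingCat.of k)) [LocallyOfFiniteType pC] [QuasiCompact pC]
    (pX : X ⟶ Spec (CommRingCat.of k)) (c₁ c₂ : C ⟶ X) (hc : c₁ ≫ pX = c₂ ≫ pX)
    (i : Fx ⟶ C) (δ : Fx ⟶ X) (hF : IsPullback i δ (pullback.lift c₁ c₂ hc) (pullback.diagonal pX))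
    (I : X.IdealSheafData) (W : C.Opens) (hW : Set.range i.base ⊆ (W : Set C))
    (hle : I.comap (W.ι ≫ c₁) ≤ I.comap (W.ι ≫ c₂))
    (k₀ : ℕ) (hpow : I.comap (W.ι ≫ c₁) ^ k₀ ≤ I.comap (W.ι ≫ c₂) ^ (k₀ + 1))
    (β : Fx.Opens) (hβ : _root_.IsConnected (β : Set Fx))
    (hβZ : (δ.base '' (β : Set Fx) ∩ (I.support : Set X)).Nonempty) :
    (β : Set Fx) ⊆ δ.base ⁻¹' (I.support : Set X) := by
  classical
  have hδ : i ≫ c₁ = δ := by
    have := congrArg (· ≫ pullback.fst pX pX) hF.w
    simp only [Category.assoc] at this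
    erw [pullback.lift_fst, pullback.lift_fst, Category.comp_id] at this
    exact this
  have hδ' : i ≫ c₂ = δ := by
    have := congrArg (· ≫ pullback.snd pX pX) hF.w
    simp only [Category.assoc] at this
    erw [pullback.lift_snd, pullback.lift_snd, Category.comp_id] at this
    exact this
  have hrange : Set.range i.base ⊆ Set.range W.ι.base := by simpa using hW
  set i' := IsOpenImmersion.lift W.ι i hrange with hi'
  have hi'W : i' ≫ W.ι = i := IsOpenImmersion.lift_fac _ _ _
  have h1 : (I.comap (W.ι ≫ c₁)).comap i' = I.comap δ := by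
    rw [← Scheme.IdealSheafData.comap_comp, ← Category.assoc, hi'W, hδ]
  have h2 : (I.comap (W.ι ≫ c₂)).comap i' = I.comap δ := by
    rw [← Scheme.IdealSheafData.comap_comp, ← Category.assoc, hi'W, hδ']
  have hJ : I.comap δ ^ k₀ ≤ I.comap δ ^ (k₀ + 1) := by
    have := Scheme.IdealSheafData.comap_mono i' hpow
    simp only [Groth.Divisors.comap_pow] at this
    rwa [h1, h2] at this
  have : IsLocallyNoetherian C := LocallyOfFiniteType.isLocallyNoetherian pC
  have : IsImmersion i := MorphismProperty.of_isPullback hF.flip inferInstance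
  have : IsLocallyNoetherian Fx := LocallyOfFiniteType.isLocallyNoetherian i
  have hopen := isOpen_support_of_pow (I.comap δ) k₀ hJ
  have hclop : IsClopen ((I.comap δ).support : Set Fx) := ⟨(I.comap δ).support.isClosed, hopen⟩
  have hsup : ((I.comap δ).support : Set Fx) = δ.base ⁻¹' (I.support : Set X) := by
    rw [Scheme.IdealSheafData.support_comap]; rfl
  obtain ⟨-, ⟨z, hz, rfl⟩, hzI⟩ := hβZ
  rw [← hsup]
  exact hβ.isPreconnected.subset_isClopen hclop ⟨z, hz, hsup.ge hzI⟩

end Groth.Agent.S19878
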