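import Groth.Statements.S19879
import Mathlib
import Groth.Agent.S19878
import Groth.Agent.S18397
-- import your own Groth.Agent.* helpers here

set_option autoImplicit false
universe u
open LVCorr

namespace Groth.Agent.S19879


open AlgebraicGeometry CategoryTheory CategoryTheory.Limits in
/-- Let k₀ be a finite field with p^e elements, K an algebraic closure of k₀, C₀ a scheme of finite type
over k₀, C = C₀ ×_{k₀} Spec K with its projections, and Fr : C → C the n-th power of the geometric
Frobenius (over K, compatible with the (e·n)-th power of the absolute p-Frobenius of C₀). Let X be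
locally of finite type over K and c₁, c₂ : C → X morphisms over K with c₂ locally quasi-finite, and
let d < p^(e n) be such that for every closed point x of X, with J_x the inverse image under c₂ of
the ideal sheaf of the reduced point x, one has (√J_x)^d ⊂ J_x (so p^(e n) exceeds the ramification
degree of c₂). Then the scheme of fixed points of the twisted correspondence (c₁ ∘ Fr, c₂), namely
the pullback of (c₁ ∘ Fr, c₂) : C → X ×_K X along the diagonal of X, has finite and discrete
underlying topological space. (In the source X, c₁ and c₂ are also defined over k₀ and all schemes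
are separated; neither is needed here.) -/
theorem result {C C₀ X Fx : Scheme.{u}}
    (p : ℕ) [Fact p.Prime] (k₀ : Type u) [Field k₀] [Fintype k₀] [CharP k₀ p] (e : ℕ)
    (hq : Fintype.card k₀ = p ^ e) (K : Type u) [Field K] [Algebra k₀ K] [IsAlgClosure k₀ K]
    (f₀ : C₀ ⟶ Spec (CommRingCat.of k₀)) [LocallyOfFiniteType f₀] [QuasiCompact f₀] [FrobSch.IsCharP C₀ p]
    (πC₀ : C ⟶ C₀) (πK : C ⟶ Spec (CommRingCat.of K))
    (hC : IsPullback πC₀ πK f₀ (Spec.map (CommRingCat.ofHom (algebraMap k₀ K))))
    (n : ℕ) (Fr : C ⟶ C)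
    (hFr₀ : Fr ≫ πC₀ = πC₀ ≫ End.asHom (End.of (FrobSch.frob C₀ p) ^ (e * n)))
    (hFrK : Fr ≫ πK = πK)
    (pX : X ⟶ Spec (CommRingCat.of K)) [LocallyOfFiniteType pX]
    (c₁ c₂ : C ⟶ X) (hc₁ : c₁ ≫ pX = πK) (hc₂ : c₂ ≫ pX = πK)
    [LocallyQuasiFinite c₂] [LocallyOfFiniteType c₂]
    (hcomm : (Fr ≫ c₁) ≫ pX = c₂ ≫ pX) (d : ℕ) (hn : d < p ^ (e * n))
    (hd : ∀ (x : X) (hx : IsClosed ({x} : Set X)),
      ((Scheme.IdealSheafData.vanishingIdeal ⟨{x}, hx⟩).comap c₂).radical ^ d ≤
        (Scheme.IdealSheafData.vanishingIdeal ⟨{x}, hx⟩).comap c₂)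
    (i : Fx ⟶ C) (δ : Fx ⟶ X) (hF : IsPullback i δ (pullback.lift (Fr ≫ c₁) c₂ hcomm) (pullback.diagonal pX)) :
    Finite Fx ∧ DiscreteTopology Fx := by
  classical
  have : LocallyOfFiniteType πK := MorphismProperty.of_isPullback hC inferInstance
  have : QuasiCompact πK := MorphismProperty.of_isPullback hC inferInstance
  have : IsImmersion i := MorphismProperty.of_isPullback hF.flip inferInstance
  have : IsLocallyNoetherian C := LocallyOfFiniteType.isLocallyNoetherian πK
  have : CompactSpace C := (quasiCompact_iff_compactSpace (f := πK)).mp inferInstance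
  have : IsNoetherian C := {}
  have hemb : Topology.IsEmbedding i.base := i.isEmbedding
  have : TopologicalSpace.NoetherianSpace Fx := hemb.isInducing.noetherianSpace
  have hδ : i ≫ Fr ≫ c₁ = δ := by
    have := congrArg (· ≫ pullback.fst pX pX) hF.w
    simp only [Category.assoc] at this
    erw [pullback.lift_fst, pullback.lift_fst, Category.comp_id] at this
    exact this
  have hδ' : i ≫ c₂ = δ := by
    have := congrArg (· ≫ pullback.snd pX pX) hF.w
    simp only [Category.assoc] at this
    erw [pullback.lift_snd, pullback.lift_snd, Category.comp_id] at this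
    exact this
  have : LocallyOfFiniteType δ := hδ' ▸ inferInstance
  have : IsLocallyNoetherian Fx := LocallyOfFiniteType.isLocallyNoetherian i
  have : JacobsonSpace X := LocallyOfFiniteType.jacobsonSpace pX
  have : JacobsonSpace Fx := LocallyOfFiniteType.jacobsonSpace δ
  have hclosed : ∀ z : Fx, IsClosed ({z} : Set Fx) → IsOpen ({z} : Set Fx) := by
    intro z hz
    have hxc : IsClosed ({δ.base z} : Set X) := δ.closePoints_subset_preimage_closedPoints hz
    set I := Scheme.IdealSheafData.vanishingIdeal (⟨{δ.base z}, hxc⟩ : TopologicalSpace.Closeds X) with hI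
    obtain ⟨W, hW, -, k, hk⟩ := Groth.Agent.S18397.result p k₀ e hq K f₀ πC₀ πK hC n Fr hFr₀ hFrK pX
      c₁ c₂ hc₁ hc₂ hcomm d hn hd (δ.base z) hxc
    have hrange : Set.range i.base ⊆ Set.range W.ι.base := by
      rintro _ ⟨y, rfl⟩
      rw [Scheme.Opens.range_ι]
      refine hW ⟨δ.base y, ?_⟩
      rw [← Scheme.Hom.comp_apply, ← Scheme.Hom.comp_apply, hF.w]
    set i' := IsOpenImmersion.lift W.ι i hrange with hi'
    have hi'W : i' ≫ W.ι = i := IsOpenImmersion.lift_fac _ _ _
    have h1 : (I.comap (W.ι ≫ Fr ≫ c₁)).comap i' = I.comap δ := by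
      rw [← Scheme.IdealSheafData.comap_comp, ← Category.assoc, hi'W, hδ]
    have h2 : (I.comap (W.ι ≫ c₂)).comap i' = I.comap δ := by
      rw [← Scheme.IdealSheafData.comap_comp, ← Category.assoc, hi'W, hδ']
    have hJ : I.comap δ ^ k ≤ I.comap δ ^ (k + 1) := by
      have h3 := Scheme.IdealSheafData.comap_mono i' hk
      simp only [Groth.Divisors.comap_pow] at h3
      rwa [← hI, h1, h2] at h3
    have hopen : IsOpen (δ.base ⁻¹' {δ.base z}) := by
      convert Groth.Agent.S19878.isOpen_support_of_pow (I.comap δ) k hJ using 1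
      rw [Scheme.IdealSheafData.support_comap]
      show _ = δ.base ⁻¹' (I.support : Set X)
      simp [hI]
    have hd0 := c₂.isDiscrete_preimage_singleton (δ.base z)
    obtain ⟨U, hUo, hU⟩ := (isDiscrete_iff_forall_exists_isOpen.mp hd0) (i.base z)
      (by show c₂.base (i.base z) = δ.base z; rw [← Scheme.Hom.comp_apply, hδ'])
    have heq : ({z} : Set Fx) = i.base ⁻¹' U ∩ δ.base ⁻¹' {δ.base z} := by
      ext y
      constructor
      · rintro rfl
        exact ⟨(hU.ge rfl).1, rfl⟩
      · rintro ⟨hy1, hy2⟩
        refine hemb.injective (hU.le ⟨hy1, ?_⟩)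
        show c₂.base (i.base y) = δ.base z
        rw [← Scheme.Hom.comp_apply, hδ']
        exact hy2
    rw [heq]
    exact (hUo.preimage i.continuous).inter hopen
  have hall : ∀ z : Fx, IsClosed ({z} : Set Fx) := by
    have hUo : IsOpen (closedPoints Fx) := by
      rw [← Set.biUnion_of_singleton (closedPoints Fx)]
      exact isOpen_biUnion fun z hz => hclosed z hz
    intro z
    by_contra hz
    obtain ⟨w, hw, hw'⟩ := nonempty_inter_closedPoints (X := Fx) (Z := (closedPoints Fx)ᶜ) ⟨z, hz⟩
      hUo.isClosed_compl.isLocallyClosed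
    exact hw hw'
  have hdisc : DiscreteTopology Fx := discreteTopology_iff_isOpen_singleton.mpr fun z => hclosed z (hall z)
  exact ⟨finite_of_compact_of_discrete, hdisc⟩

end Groth.Agent.S19879
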