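import Groth.Statements.S19880
import Groth.Agent.S17807
import Groth.Agent.CurveBridge.RationalTwist
import Groth.Agent.CurveBridge.TensorNumerics
import Groth.Agent.Curves1.RR.Numerics

set_option autoImplicit false
universe u
open CategoryTheory CategoryTheory.Limits AlgebraicGeometry
open JacVar

open Groth.CurveBridge TopologicalSpace
open MonoidalCategory (tensorUnit)
open scoped MonoidalCategory Groth.CurveBridge

namespace Groth.Agent.S19880

/-- Infinitely many closed points are cut out by sections. -/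
theorem infinite_sections (k : Type u) [Field k] [IsSepClosed k] (C : Scheme.{u})
    [C.Over (Spec (CommRingCat.of k))] [IsIntegral C] [IsProper (C ↘ Spec (CommRingCat.of k))]
    [Smooth (C ↘ Spec (CommRingCat.of k))] (h : IsRegCurve C) :
    {x : Pt C | (placeAt (k := k) h x).deg = 1 ∧ ∃ s : Spec (CommRingCat.of k) ⟶ C,
      s ≫ (C ↘ Spec (CommRingCat.of k)) = 𝟙 _ ∧
        s.ker = Scheme.IdealSheafData.vanishingIdeal ⟨{x.1}, x.2⟩}.Infinite := by
  let Y : Over (Spec (CommRingCat.of k)) := Over.mk (C ↘ Spec (CommRingCat.of k))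
  have : Smooth Y.hom := inferInstanceAs (Smooth (C ↘ Spec (CommRingCat.of k)))
  have : GeometricallyReduced Y.hom := Groth.AlgGrp1.geometricallyReduced_of_smooth_hom Y
  have hd := Groth.AlgGrp1.dense_points Y
  intro hfin
  set S := {x : Pt C | (placeAt (k := k) h x).deg = 1 ∧ ∃ s : Spec (CommRingCat.of k) ⟶ C,
      s ≫ (C ↘ Spec (CommRingCat.of k)) = 𝟙 _ ∧
        s.ker = Scheme.IdealSheafData.vanishingIdeal ⟨{x.1}, x.2⟩}
  have hsub : {p : ↥Y.left | ∃ (s : 𝟙_ (Over (Spec (CommRingCat.of k))) ⟶ Y)
      (t : ↥(Spec (CommRingCat.of k))), s.left.base t = p} ⊆ (Subtype.val : Pt C → C) '' S := by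
    rintro p ⟨s, t, rfl⟩
    have hs : s.left ≫ (C ↘ Spec (CommRingCat.of k)) = 𝟙 _ := Over.w s
    obtain ⟨x, hx, hdeg, hk⟩ := Groth.Agent.S17807.exists_point k C h s.left hs
    exact ⟨x, ⟨hdeg, s.left, hs, hk⟩, (hx t).symm⟩
  have hcl : IsClosed ((Subtype.val : Pt C → C) '' S) := by
    rw [← Set.biUnion_of_singleton (Subtype.val '' _)]
    exact (hfin.image _).isClosed_biUnion fun x hx => by obtain ⟨y, -, rfl⟩ := hx; exact y.2
  obtain ⟨y, -, hy⟩ := closure_minimal hsub hcl (hd (genericPoint C))
  exact (isClosed_singleton_iff C h.dim _).mp (hy ▸ y.2) rfl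

/-- Let k be a separably closed field, C a smooth proper geometrically connected curve of genus g > 0
over k with a k-rational point, and r > 2g an integer. Then for every effective divisor D of degree
r on C there is an (r − g)-tuple γ = (P_1, …, P_{r−g}) of k-rational points of C with h⁰(D − P_1 − ⋯
− P_{r−g}) = 1; since every invertible module L of degree r > 2g − 2 is of the form O(D) with D
effective, this is stated as: for every invertible module L of degree r on C there are k-rational
points P_1, …, P_{r−g} with h⁰(C, L ⊗ I_{P_1} ⊗ ⋯ ⊗ I_{P_{r−g}}) = 1. (In the source this is the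
statement that the symmetric power C^(r) is the union of the open pieces C^γ.) -/
theorem result (k : Type u) [Field k] [IsSepClosed k]
    (C : Scheme.{u}) [C.Over (Spec (CommRingCat.of k))]
    [IsProper (C ↘ Spec (CommRingCat.of k))] [Smooth (C ↘ Spec (CommRingCat.of k))] [GeometricallyConnected (C ↘ Spec (CommRingCat.of k))]
    (hdim : topologicalKrullDim ↥C = 1)
    (g : ℕ) (hg : Curv2.genus k C = g) (hg0 : 0 < g)
    (σ₀ : Spec (CommRingCat.of k) ⟶ C) (hσ₀ : σ₀ ≫ (C ↘ Spec (CommRingCat.of k)) = 𝟙 _)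
    (r : ℕ) (hr : 2 * g < r)
    (L : C.Modules) (hL : PicF.IsInvertible L) (hLdeg : Curv2.deg k C L 1 = (r : ℤ)) :
    ∃ σ : Fin (r - g) → (Spec (CommRingCat.of k) ⟶ C), (∀ t, σ t ≫ (C ↘ Spec (CommRingCat.of k)) = 𝟙 _) ∧
      Module.finrank k (Coh.HH C (CohB1.tensorMod L (FGA.tensorList (List.ofFn fun t : Fin (r - g) =>
        ClSub.idealMod (σ t).ker))) 0) = 1 := by
  classical
  haveI := connectedSpace_of_geometrically C k
  haveI := isIntegral_of_smooth k C
  have h : IsRegCurve C := isRegCurve_of_smooth k C hdim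
  have h0 := h0_of_geometrically k C hdim
  have hK := isFunctionField_field k C hdim h0
  have hF := isFF k C hdim
  obtain ⟨W, hW⟩ := Groth.FunFld1.exists_isCanonical hK
  have hgF := genus_eq h hK
  have hinf := infinite_sections k C h
  suffices key : ∀ (n : ℕ) (M : C.Modules), PicF.IsInvertible M →
      Curv2.deg k C M 1 = (g : ℤ) + n → Module.finrank k (Coh.HH C M 0) = n + 1 →
      ∃ σ : Fin n → (Spec (CommRingCat.of k) ⟶ C),
        (∀ t, σ t ≫ (C ↘ Spec (CommRingCat.of k)) = 𝟙 _) ∧
        Module.finrank k (Coh.HH C (CohB1.tensorMod M (FGA.tensorList (List.ofFn fun t : Fin n =>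
          ClSub.idealMod (σ t).ker))) 0) = 1 by
    refine key (r - g) L hL (by rw [hLdeg]; omega) ?_
    have h1 := Groth.Curves1.RR.subsingleton_h1_of_deg_ge k hdim.le h0 hL (by rw [hLdeg, hg]; omega)
    obtain ⟨φ, D, -, e0, ed, e1⟩ := exists_divEmb h hK hL
    rw [Module.finrank_zero_of_subsingleton] at e1
    push_cast at e1
    omega
  intro n
  induction n with
  | zero =>
    intro M hM _ hM0
    refine ⟨Fin.elim0, fun t => t.elim0, ?_⟩
    rw [List.ofFn_zero]
    exact (Groth.EulerDeg.finrank_congr (k := k) (SecTwist.unitorR M) 0).trans hM0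
  | succ n ih =>
    intro M hM hMd hM0
    obtain ⟨φ, D, hφ, e0, ed, -⟩ := exists_divEmb h hK hM
    have hne : FunFld.L D ≠ ⊥ := fun hb => by
      unfold FunFld.ell at e0
      rw [hb, finrank_bot] at e0
      omega
    obtain ⟨z, hz, hz0⟩ := hF.exists_effective_of_ne_bot hne
    obtain ⟨x, ⟨hx1, s, hs, hsk⟩, hxE⟩ :=
      (hinf.diff ((D + FunFld.div k z).support.finite_toSet.preimage
        (placeAt_injective (k := k) h).injOn)).nonempty
    rw [Set.mem_preimage, Finset.mem_coe, Finsupp.notMem_support_iff] at hxE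
    set P := placeAt (k := k) h x with hP
    obtain ⟨hN, χ, hχ⟩ := exists_divEmb_twist_point h hK hM hφ x
    obtain ⟨n0, nd, -⟩ := numerics_of_divEmb h hK hN hχ
    rw [← hP] at n0 nd
    have hdrop : FunFld.ell (D - Finsupp.single P 1) ≠ FunFld.ell D := fun he => by
      haveI := hF.finiteDimensional_L D
      have heq := Submodule.eq_of_le_of_finrank_eq
        (Groth.FunFld1.L_mono (sub_le_self D (Finsupp.single_nonneg.mpr zero_le_one))) he
      have hmem : z ∈ FunFld.L (D - Finsupp.single P 1) :=
        heq.symm ▸ (hF.mem_L_iff hz).mpr hz0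
      have := (hF.mem_L_iff hz).mp hmem P
      simp only [Finsupp.coe_zero, Pi.zero_apply, Finsupp.add_apply, Finsupp.sub_apply,
        Finsupp.single_eq_same] at this hxE
      omega
    have hle := ell_mono hF (sub_le_self D (Finsupp.single_nonneg.mpr zero_le_one :
      (0 : FunFld.Divisor k C.functionField) ≤ Finsupp.single P 1))
    have hge : FunFld.ell D ≤ FunFld.ell (D - Finsupp.single P 1) + 1 := by
      have := hF.ell_sub_le (D := D - Finsupp.single P 1) (E := D)
        (sub_le_self _ (Finsupp.single_nonneg.mpr zero_le_one))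
      rw [Groth.FunFld1.deg_sub, Groth.FunFld1.deg_single, hx1] at this
      push_cast at this
      omega
    rw [Groth.FunFld1.deg_sub, Groth.FunFld1.deg_single, hx1] at nd
    obtain ⟨σ, hσ, hσ'⟩ := ih _ hN (by rw [nd, ← ed, hMd]; push_cast; ring) (by rw [n0]; omega)
    refine ⟨Fin.cons s σ, fun t => Fin.cases (by simpa using hs) (fun i => by simpa using hσ i) t, ?_⟩
    rw [List.ofFn_succ]
    rw [show (Fin.cons s σ : Fin (n + 1) → (Spec (CommRingCat.of k) ⟶ C)) 0 = s from rfl, hsk]
    exact (Groth.EulerDeg.finrank_congr (k := k) (Groth.PicAux.exists_associator M _ _).choose.symm 0).trans hσ'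

end Groth.Agent.S19880
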