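import Groth.Statements.S19881
import Groth.Agent.GrMod.LinearRegular

set_option autoImplicit false
universe u
open GrLC

namespace Groth.Agent.S19881

/-- Let R = ⊕_{n ≥ 0} R_n be a (Noetherian) positively ℤ-graded ring which is standard graded
(irrelevant ideal generated by R_1), with R_0 Artinian, *local with unique homogeneous maximal ideal
m, Cohen–Macaulay of Krull dimension d, and with infinite residue field R/m. If the a-invariant of R
equals −d, i.e. the end (largest nonzero degree) of the graded local cohomology module H^d_m(R),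
computed from any *injective resolution of R in the graded category, is −d, then R is a polynomial
ring over R_0 in d variables of degree one: there is an R_0-algebra isomorphism R_0[T_1, …, T_d] ≅ R
mapping every variable into R_1. (The published statement asserts the equivalence of a(R) = −d with
R ≅ R_0[T_1, …, T_d] without the residue-field hypothesis; its argument treats the case of an
infinite residue field, which is the case stated here, and only the forward implication is stated.) -/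
theorem result (R : Type u) [CommRing R]
    [LocCoh.IsCohenMacaulayRing R] (𝒜 : ℤ → AddSubgroup R) [GradedRing 𝒜]
    (hpos : ∀ n : ℤ, n < 0 → 𝒜 n = ⊥)
    (hstd : Ideal.span (⋃ n ∈ Set.Ioi (0 : ℤ), (𝒜 n : Set R)) = Ideal.span ((𝒜 1 : AddSubgroup R) : Set R))
    [IsArtinianRing (GrLC.deg0 𝒜)] (m : HomogeneousIdeal 𝒜) (hm : GrLC.IsStarLocal 𝒜 m)
    (hinf : Infinite (R ⧸ m.toIdeal)) (d : ℕ) (hd : ringKrullDim R = d) (I : GrLC.StarInjRes 𝒜 𝒜)
    (ha : GrLC.endDeg (I.Hgr m d) = (((-(d : ℤ) : ℤ) : WithTop ℤ) : WithBot (WithTop ℤ))) :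
    ∃ e : MvPolynomial (Fin d) (GrLC.deg0 𝒜) ≃ₐ[GrLC.deg0 𝒜] R, ∀ t : Fin d, e (MvPolynomial.X t) ∈ 𝒜 1 := by
  classical
  haveI : IsNoetherianRing R := by infer_instance
  haveI := GrothGr.isLocalRing_deg0 hm
  have hinf' := GrothGr.infinite_residueField_deg0 hpos hm hinf
  haveI := GrothGr.isMaximal_of_isStarLocal hpos hm
  have hbot : (⊥ : Ideal R).IsHomogeneous 𝒜 := Ideal.IsHomogeneous.bot 𝒜
  letI := (GrothGr.quotPc_isInternal 𝒜 (P := (⊥ : Ideal R)) hbot).chooseDecomposition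
  haveI := GrothGr.quotPc_gradedSMul 𝒜 𝒜 (⊥ : Ideal R)
  let e : R ≃ₗ[R] R ⧸ (⊥ : Ideal R) := (Submodule.quotEquivOfEqBot _ rfl).symm
  have he : GrLC.IsGrHom 𝒜 (GrothGr.quotPc 𝒜 (⊥ : Ideal R)) e.toLinearMap := fun g z hz => ⟨z, hz, rfl⟩
  let E := GrothGr.starRes 𝒜 (GrothGr.quotPc 𝒜 (⊥ : Ideal R))
  have hvan : ∀ i, i < d → Subsingleton (E.H m i) := fun i hi => by
    obtain ⟨e1⟩ := GrothGr.nonempty_H_equiv 𝒜 (GrothGr.quotPc 𝒜 (⊥ : Ideal R)) m E i
    obtain ⟨e2⟩ := GrothGr.nonempty_H_equiv 𝒜 𝒜 m I i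
    haveI := GrothGr.subsingleton_H_self_of_lt hm hd I hi
    haveI : Subsingleton (LocCoh.H m.toIdeal i R) := e2.symm.toEquiv.subsingleton
    haveI := (Groth.LocCohBase.subsingleton_H_congr m.toIdeal i e).1 inferInstance
    exact e1.toEquiv.subsingleton
  have hend : GrLC.endDeg (E.Hgr m d) = (((-(d : ℤ) : ℤ) : WithTop ℤ) : WithBot (WithTop ℤ)) :=
    (GrothGr.endDeg_eq_of_equiv I E e.symm (GrothGr.isGrHom_symm e he) m d).trans ha
  have hsupp : Module.supportDim R (R ⧸ (⊥ : Ideal R)) ≤ (d : WithBot ℕ∞) :=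
    (Module.supportDim_le_ringKrullDim R _).trans hd.le
  obtain ⟨f, hf, hchain, htop⟩ :=
    GrothGr.exists_linear_chain hpos hm hstd hinf' d ⊥ hbot E hvan hsupp hend
  have hchain' : ∀ k : Fin d, ∀ r : R, f k * r ∈ Ideal.span (f '' {l | l < k}) →
      r ∈ Ideal.span (f '' {l | l < k}) := by
    intro k r hr
    have := hchain k r (by rwa [bot_sup_eq])
    rwa [bot_sup_eq] at this
  have h1 : ∀ z ∈ 𝒜 1, z ∈ Submodule.span (GrLC.deg0 𝒜) (Set.range f) := by
    intro z hz
    have hz' := htop 1 one_pos z hz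
    rw [bot_sup_eq] at hz'
    obtain ⟨c, hc⟩ := Submodule.mem_span_range_iff_exists_fun R |>.1 hz'
    refine (Submodule.mem_span_range_iff_exists_fun (GrLC.deg0 𝒜)).2
      ⟨fun i => ⟨GrothGr.pr 𝒜 0 (c i), GrothGr.pr_mem 𝒜 0 (c i)⟩, ?_⟩
    rw [← GrothGr.pr_of_mem 𝒜 hz, ← hc, map_sum]
    refine Finset.sum_congr rfl fun i _ => ?_
    rw [GrothGr.pr_smul_of_mem 𝒜 𝒜 (hf i), sub_self]
    rfl
  have hsurj := GrothGr.aeval_surjective_of_span hpos hstd h1
  have hinj := GrothGr.aeval_injective_of_chain hpos f hf hchain'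
  exact ⟨AlgEquiv.ofBijective _ ⟨hinj, hsurj⟩, fun t => by
    show MvPolynomial.aeval f (MvPolynomial.X t) ∈ 𝒜 1
    rw [MvPolynomial.aeval_X]
    exact hf t⟩


end Groth.Agent.S19881
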