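import Groth.Statements.S19887
import Groth.Agent.NagComp.IsoOver
-- import your own Groth.Agent.* helpers here

set_option autoImplicit false
universe u
open LVCorr

namespace Groth.Agent.S19887

open AlgebraicGeometry CategoryTheory CategoryTheory.Limits in
/-- Let k be a field and R a discrete valuation ring with a k-algebra structure, with generic point η
(an open point of Spec R). Let X be a separated k-scheme of finite type, X_R = X ×_k Spec R, and let
(X̃, φ) be a lift of X over R: X̃ is a separated R-scheme of finite type (locally of finite type and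
quasi-compact over R) and φ : X̃ → X_R an R-morphism inducing an isomorphism over η. Then there
exist a scheme Ỹ and a proper morphism ψ : Ỹ → X̃ such that (1) (Ỹ, ψ ∘ φ) is a lift of X, i.e. ψ ∘
φ is an isomorphism over η, (2) Ỹ is proper over X̃, and (3) for every compactification of X, i.e.
every open immersion of X over k into a proper k-scheme X̄ (with X̄_R = X̄ ×_k Spec R and the
induced morphism X_R → X̄_R), Ỹ embeds by an open immersion into a scheme Ỹ(X̄) proper over R and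
lifting X̄ (an R-morphism Ỹ(X̄) → X̄_R that is an isomorphism over η) such that Ỹ → Ỹ(X̄) → X̄_R
equals Ỹ → X̃ → X_R → X̄_R. (The source works over an algebraically closed field k and a discrete
valuation ring over k with residue field k, and its compactifications are dense open immersions;
none of this is used.) -/
theorem result
    (k : Type u) [Field k] (R : Type u) [CommRing R] [IsDomain R] [IsDiscreteValuationRing R] [Algebra k R]
    (η : (Spec (CommRingCat.of R)).Opens) (hη : (η : Set ↥(Spec (CommRingCat.of R))) = {genericPoint ↥(Spec (CommRingCat.of R))})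
    (X : Scheme.{u}) (pX : X ⟶ Spec (CommRingCat.of k)) [IsSeparated pX] [LocallyOfFiniteType pX] [QuasiCompact pX]
    (XR : Scheme.{u}) (a : XR ⟶ X) (b : XR ⟶ Spec (CommRingCat.of R)) (hXR : IsPullback a b pX (Spec.map (CommRingCat.ofHom (algebraMap k R))))
    (Xt : Scheme.{u}) (q : Xt ⟶ Spec (CommRingCat.of R)) [IsSeparated q] [LocallyOfFiniteType q] [QuasiCompact q]
    (φ : Xt ⟶ XR) (hφ : φ ≫ b = q) (hφη : IsIso (φ ∣_ (b ⁻¹ᵁ η))) :
    ∃ (Y : Scheme.{u}) (ψ : Y ⟶ Xt), IsProper ψ ∧ IsIso ((ψ ≫ φ) ∣_ (b ⁻¹ᵁ η)) ∧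
      ∀ (Xb : Scheme.{u}) (pXb : Xb ⟶ Spec (CommRingCat.of k)) [IsProper pXb] (jX : X ⟶ Xb) [IsOpenImmersion jX]
        (hj : jX ≫ pXb = pX)
        (XbR : Scheme.{u}) (ab : XbR ⟶ Xb) (bb : XbR ⟶ Spec (CommRingCat.of R)) (hXbR : IsPullback ab bb pXb (Spec.map (CommRingCat.ofHom (algebraMap k R))))
        (jR : XR ⟶ XbR) (hjR₁ : jR ≫ ab = a ≫ jX) (hjR₂ : jR ≫ bb = b),
        ∃ (Yb : Scheme.{u}) (qb : Yb ⟶ Spec (CommRingCat.of R)) (_ : IsProper qb) (φb : Yb ⟶ XbR) (_ : φb ≫ bb = qb)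
          (_ : IsIso (φb ∣_ (bb ⁻¹ᵁ η))) (e : Y ⟶ Yb) (_ : IsOpenImmersion e),
          e ≫ φb = ψ ≫ φ ≫ jR := by
  refine ⟨Xt, 𝟙 Xt, inferInstance, by rw [Category.id_comp]; exact hφη, ?_⟩
  intro Xb pXb hpXb jX hjX hj XbR ab bb hXbR jR hjR₁ hjR₂
  haveI : IsProper bb := MorphismProperty.of_isPullback hXbR hpXb
  haveI : CompactSpace XbR := QuasiCompact.compactSpace_of_compactSpace bb
  haveI : QuasiSeparatedSpace XbR := quasiSeparatedSpace_of_quasiSeparated bb
  have hsq : IsPullback a jR jX ab :=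
    IsPullback.of_bot (by rw [hjR₂, hj]; exact hXR) hjR₁.symm hXbR
  haveI : IsOpenImmersion jR := MorphismProperty.of_isPullback hsq hjX
  let p : Xt ⟶ XbR := φ ≫ jR
  have hp : p ≫ bb = q := by rw [Category.assoc, hjR₂, hφ]
  haveI : IsSeparated (p ≫ bb) := hp.symm ▸ inferInstance
  haveI : LocallyOfFiniteType (p ≫ bb) := hp.symm ▸ inferInstance
  haveI : QuasiCompact (p ≫ bb) := hp.symm ▸ inferInstance
  haveI : IsSeparated p := IsSeparated.of_comp p bb
  haveI : LocallyOfFiniteType p := locallyOfFiniteType_of_comp p bb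
  haveI : QuasiCompact p := QuasiCompact.of_comp p bb
  have hU : IsCompact ((bb ⁻¹ᵁ η : XbR.Opens) : Set XbR) :=
    bb.isCompact_preimage (hη.symm ▸ isCompact_singleton)
  have e : jR ⁻¹ᵁ (bb ⁻¹ᵁ η) = b ⁻¹ᵁ η := by rw [← Scheme.Hom.comp_preimage, hjR₂]
  haveI : IsIso (φ ∣_ (jR ⁻¹ᵁ (bb ⁻¹ᵁ η))) := by rw [e]; exact hφη
  haveI : IsOpenImmersion (p ∣_ (bb ⁻¹ᵁ η)) := by
    haveI : IsOpenImmersion (jR ∣_ (bb ⁻¹ᵁ η)) := IsZariskiLocalAtTarget.restrict ‹_› _
    haveI : IsOpenImmersion (φ ∣_ (jR ⁻¹ᵁ (bb ⁻¹ᵁ η))) := inferInstance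
    rw [morphismRestrict_comp]
    exact MorphismProperty.comp_mem @IsOpenImmersion _ _ ‹_› ‹_›
  obtain ⟨Yb, π, e', hπ, he, heπ, hiso⟩ :=
    Groth.NagComp.exists_compactification_iso_over p (bb ⁻¹ᵁ η) hU
  haveI := hπ
  exact ⟨Yb, π ≫ bb, inferInstance, π, rfl, hiso, e', he, by rw [Category.id_comp]; exact heπ⟩

end Groth.Agent.S19887
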