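import Groth.Statements.S19889
import Groth.Agent.AlgGrp1.FiniteHom
import Groth.Agent.AlgGrp1.AffineCrit
import Groth.Agent.GrpschAbsch.NeutralSubgroup
-- import your own Groth.Agent.* helpers here

set_option autoImplicit false
universe u
open CategoryTheory CategoryTheory.Limits MonoidalCategory CartesianMonoidalCategory MonObj GrpObj AlgebraicGeometry
open GrpSch

namespace Groth.Agent.S19889

section Helpers

open CategoryTheory Limits MonoidalCategory CartesianMonoidalCategory MonObj GrpObj AlgebraicGeometry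
  Groth.AlgGrp1 TopologicalSpace

variable {k : Type u} [Field k] [IsAlgClosed k]

/-- A rational point in the range lifts to a rational point. -/
theorem exists_lift_point {X Y : Over (Spec (CommRingCat.of k))} [LocallyOfFiniteType X.hom]
    [LocallyOfFiniteType Y.hom] (f : X ⟶ Y) (y : 𝟙_ (Over (Spec (CommRingCat.of k))) ⟶ Y)
    (hy : y.left.base (IsLocalRing.closedPoint k) ∈ Set.range f.left.base) :
    ∃ x : 𝟙_ (Over (Spec (CommRingCat.of k))) ⟶ X, x ≫ f = y := by
  have := LocallyOfFiniteType.jacobsonSpace X.hom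
  have hcl : IsClosed {y.left.base (IsLocalRing.closedPoint k)} :=
    ((pointEquivClosedPoint Y.hom) ⟨y.left, Over.w y⟩).2
  obtain ⟨p, hp, hpc⟩ := nonempty_inter_closedPoints (Z := f.left.base ⁻¹' {y.left.base (IsLocalRing.closedPoint k)})
    hy (hcl.preimage f.left.continuous).isLocallyClosed
  let x : 𝟙_ (Over (Spec (CommRingCat.of k))) ⟶ X :=
    Over.homMk (pointOfClosedPoint X.hom p hpc) (pointOfClosedPoint_comp X.hom p hpc)
  refine ⟨x, Over.OverMorphism.ext (ext_of_apply_closedPoint_eq Y.hom (Over.w (x ≫ f)) (Over.w y) ?_)⟩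
  show f.left.base ((pointOfClosedPoint X.hom p hpc).base _) = _
  rw [pointOfClosedPoint_apply]
  exact hp

theorem exists_torsion {G G0 : Over (Spec (CommRingCat.of k))} [GrpObj G] [IsCommMonObj G] [GrpObj G0]
    [LocallyOfFiniteType G.hom] (i : G0 ⟶ G) [IsMonHom i] (hi : AutSch.IsIdComp i)
    (g : 𝟙_ (Over (Spec (CommRingCat.of k))) ⟶ G) (n : ℕ) (hn : 0 < n)
    (hg : g ^ n ∈ AutSch.ptsRange i) :
    ∃ t : 𝟙_ (Over (Spec (CommRingCat.of k))) ⟶ G, IsOfFinOrder t ∧ t⁻¹ * g ∈ AutSch.ptsRange i := by
  obtain ⟨-, hio, hr⟩ := hi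
  have : LocallyOfFiniteType G0.hom := by
    rw [← Over.w i]; infer_instance
  have : QuasiCompact G0.hom := by
    have hN : SGA3x.neutralSet G = connectedComponent (η[G].left (IsLocalRing.closedPoint k)) := by
      have : Subsingleton ↥(Spec (CommRingCat.of k)) := inferInstanceAs (Subsingleton (PrimeSpectrum k))
      have hu : ∀ p : ↥(𝟙_ (Over (Spec (CommRingCat.of k)))).left,
          connectedComponentIn (G.hom.base ⁻¹' {(𝟙_ (Over (Spec (CommRingCat.of k)))).hom.base p}) (η[G].left.base p) =
            connectedComponent (η[G].left (IsLocalRing.closedPoint k)) := fun p => by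
        rw [show G.hom.base ⁻¹' {(𝟙_ (Over (Spec (CommRingCat.of k)))).hom.base p} = Set.univ from
          Set.eq_univ_of_forall fun z => Subsingleton.elim _ _, connectedComponentIn_univ]
        congr 2
        exact Subsingleton.elim (α := ↥(Spec (CommRingCat.of k))) _ _
      refine Set.Subset.antisymm (Set.iUnion_subset fun p => (hu p).le) ?_
      exact (hu (IsLocalRing.closedPoint k)).ge.trans
        (Set.subset_iUnion (fun p : ↥(𝟙_ (Over (Spec (CommRingCat.of k)))).left => connectedComponentIn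
          (G.hom.base ⁻¹' {(𝟙_ (Over (Spec (CommRingCat.of k)))).hom.base p}) (η[G].left.base p))
          (IsLocalRing.closedPoint k))
    have h := Groth.GrpschAbsch.isCompact_connectedComponent_one G
    rw [← hN, ← hr, ← Set.image_univ] at h
    have : CompactSpace G0.left := ⟨i.left.isOpenEmbedding.isEmbedding.isCompact_iff.mpr h⟩
    exact HasAffineProperty.iff_of_isAffine.mpr this
  obtain ⟨a0, ha0⟩ := (AutSch.mem_ptsRange_iff i _).1 hg
  obtain ⟨Z, _, c, hc, hcc, hcs, hZs, hZq⟩ := Groth.AlgGrp1.exists_reduced_subgroup G0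
  obtain ⟨z, hz⟩ := exists_lift_point c a0 (c.left.surjective _)
  have : Mono i := Over.mono_of_mono_left i
  have : Mono c := Over.mono_of_mono_left c
  have hcomm : ∀ {T : Over (Spec (CommRingCat.of k))} (a b : T ⟶ Z), Commute a b := fun a b => by
    show a * b = b * a
    rw [← cancel_mono (c ≫ i)]
    simp only [MonObj.mul_comp]
    exact mul_comm (a ≫ c ≫ i) (b ≫ c ≫ i)
  let u : ℕ → (Z ⟶ Z) := fun m => (𝟙 Z) ^ (n ^ m)
  have hu : ∀ m, IsMonHom (u m) := fun m => Groth.AlgGrp1.isMonHom_of_points _ fun T a b => by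
    simp only [u, MonObj.comp_pow, Category.comp_id]
    exact (hcomm a b).mul_pow _
  have hanti : ∀ m, Set.range (u (m + 1)).left.base ⊆ Set.range (u m).left.base := fun m => by
    have e : u (m + 1) = ((𝟙 Z) ^ n) ≫ u m := by
      simp only [u, MonObj.comp_pow, Category.comp_id]
      rw [← pow_mul]
      congr 1
      ring
    rw [e, Over.comp_left]
    rintro _ ⟨w, rfl⟩
    exact ⟨_, rfl⟩
  have := isLocallyNoetherian_left Z
  have : CompactSpace Z.left := QuasiCompact.compactSpace_of_compactSpace Z.hom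
  have : IsNoetherian Z.left := {}
  let O : ℕ →o Opens Z.left := ⟨fun m => ⟨(Set.range (u m).left.base)ᶜ,
      (haveI := hu m; isClosed_range_of_hom (u m)).isOpen_compl⟩,
    monotone_nat_of_le_succ fun m => Set.compl_subset_compl.2 (hanti m)⟩
  obtain ⟨M, hM⟩ := WellFoundedGT.monotone_chain_condition O
  have hran : Set.range (u (M + 1)).left.base = Set.range (u M).left.base :=
    compl_injective (congrArg (fun V : Opens Z.left => (V : Set Z.left)) (hM (M + 1) (Nat.le_succ M))).symm
  obtain ⟨b, hb⟩ := exists_lift_point (u (M + 1)) (z ≫ u M) (by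
    rw [hran]
    exact ⟨_, rfl⟩)
  refine ⟨g * (b ≫ c ≫ i)⁻¹, isOfFinOrder_iff_pow_eq_one.2 ⟨n ^ (M + 1), Nat.pow_pos hn, ?_⟩, ?_⟩
  · have e1 : g ^ (n ^ (M + 1)) = (z ≫ c ≫ i) ^ (n ^ M) := by
      rw [← Category.assoc, hz, ha0, ← pow_mul]
      congr 1
      ring
    have e2 : (b ≫ c ≫ i) ^ (n ^ (M + 1)) = (z ≫ c ≫ i) ^ (n ^ M) := by
      have := congrArg (· ≫ c ≫ i) hb
      simp only [u, MonObj.comp_pow, Category.comp_id, MonObj.pow_comp] at this
      exact this
    rw [mul_pow, inv_pow, e1, e2, mul_inv_cancel]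
  · rw [AutSch.mem_ptsRange_iff]
    refine ⟨b ≫ c, ?_⟩
    rw [Category.assoc, _root_.mul_inv_rev, _root_.inv_inv, _root_.mul_assoc, inv_mul_cancel, _root_.mul_one]

end Helpers

/-- Let k be an algebraically closed field, G a commutative group scheme locally of finite type over k,
and i : G⁰ → G its identity component (a homomorphism that is an open immersion onto the connected
component of the unit point). Then the natural map from the torsion subgroup of G(k) to the torsion
subgroup of G(k)/G⁰(k) is surjective: if g is a k-point of G and gⁿ lies in G⁰(k) for some n ≥ 1,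
then there is a k-point t of G of finite order such that t⁻¹ g lies in G⁰(k). -/
theorem result (k : Type u) [Field k] [IsAlgClosed k]
    {G G0 : Over (Spec (CommRingCat.of k))} [GrpObj G] [IsCommMonObj G] [GrpObj G0]
    [LocallyOfFiniteType G.hom] (i : G0 ⟶ G) [IsMonHom i] (hi : AutSch.IsIdComp i)
    (g : 𝟙_ (Over (Spec (CommRingCat.of k))) ⟶ G) (n : ℕ) (hn : 0 < n)
    (hg : g ^ n ∈ AutSch.ptsRange i) :
    ∃ t : 𝟙_ (Over (Spec (CommRingCat.of k))) ⟶ G, IsOfFinOrder t ∧ t⁻¹ * g ∈ AutSch.ptsRange i :=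
  exists_torsion i hi g n hn hg

end Groth.Agent.S19889
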