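import Groth.Statements.S19893
import Groth.Agent.NeronArea.UnipotentPoints
import Groth.Agent.NeronArea.TorsCount
import Groth.Agent.AbVarMul.Torsion
import Groth.Agent.Reductive.MultGa
import Groth.Agent.S9777

set_option autoImplicit false
universe u
open CategoryTheory CategoryTheory.Limits MonoidalCategory CartesianMonoidalCategory AlgebraicGeometry MonObj
open Neron

namespace Groth.Agent.S19893

open Groth.NeronArea.TorsCount
open scoped CategoryTheory.Obj

set_option linter.style.haveILetI false

/-- Commutativity of a group object receiving a monomorphic homomorphism into a commutative one. -/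
theorem isCommMonObj_of_mono {S : Scheme.{u}} {N G : Over S} [GrpObj N] [GrpObj G] [IsCommMonObj G]
    (i : N ⟶ G) [IsMonHom i] [Mono i] : IsCommMonObj N := by
  constructor
  rw [← cancel_mono i, Category.assoc, IsMonHom.mul_hom, ← BraidedCategory.braiding_naturality_assoc,
    IsCommMonObj.mul_comm]

section Bc

variable {k : Type u} [Field k] {K : Type u} [Field K] [IsAlgClosed K]
  (f : Spec (CommRingCat.of K) ⟶ Spec (CommRingCat.of k))

/-- The base point defining `K`-points. -/
noncomputable abbrev T : Over (Spec (CommRingCat.of k)) :=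
  (Over.map f).obj (𝟙_ (Over (Spec (CommRingCat.of K))))

omit [IsAlgClosed K] in
theorem connectedSpace_bc (V : Over (Spec (CommRingCat.of k))) [GrpObj V] [LocallyOfFiniteType V.hom]
    [ConnectedSpace V.left] : ConnectedSpace (Red.bc f V).left := by
  haveI := Groth.AlgGrp1.geometricallyConnected_of_point V.hom η[V].left (Over.w η[V])
  haveI : GeometricallyConnected (pullback.snd V.hom f) := inferInstance
  exact GeometricallyConnected.connectedSpace_of_subsingleton (pullback.snd V.hom f)

omit [IsAlgClosed K] in
theorem dim_bc (E : Over (Spec (CommRingCat.of k))) [LocallyOfFiniteType E.hom] [QuasiCompact E.hom] :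
    topologicalKrullDim (Red.bc f E).left = topologicalKrullDim E.left := by
  have hall : ∀ {X Y : Scheme.{u}} (g : X ⟶ Y) (y : Y), Subsingleton Y →
      topologicalKrullDim ↑(g.fiber y) = topologicalKrullDim X := fun g y _ => by
    have h1 : g ⁻¹' {y} = Set.univ := Set.eq_univ_of_forall fun x => Subsingleton.elim _ _
    exact IsHomeomorph.topologicalKrullDim_eq _
      ((g.fiberHomeo y).trans ((Homeomorph.setCongr h1).trans (Homeomorph.Set.univ _))).isHomeomorph
  have h := Groth.Agent.S9777.result E.hom f (pullback.snd E.hom f) (pullback.fst E.hom f)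
    (IsPullback.of_hasPullback _ _) (IsLocalRing.closedPoint K)
  rwa [hall _ _ inferInstance, hall _ _ inferInstance] at h

/-- Commutativity of a base change receiving a homomorphism surjective on points. -/
theorem isCommMonObj_bc {P V : Over (Spec (CommRingCat.of k))} [GrpObj P] [IsCommMonObj P] [GrpObj V]
    [LocallyOfFiniteType P.hom] [Smooth V.hom] [IsSeparated V.hom] (q : P ⟶ V) [IsMonHom q]
    [Surjective q.left] : IsCommMonObj (Red.bc f V) := by
  haveI : Smooth (Red.bc f V).hom := inferInstanceAs (Smooth (pullback.snd V.hom f))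
  haveI : IsSeparated (Red.bc f V).hom := inferInstanceAs (IsSeparated (pullback.snd V.hom f))
  refine isCommMonObj_of_pts _ fun a b => (Reductive.bcPointEquiv f V _).injective ?_
  obtain ⟨x, hx⟩ := surjective_comp_pts q K (T f).hom (Reductive.bcPointEquiv f V _ a)
  obtain ⟨y, hy⟩ := surjective_comp_pts q K (T f).hom (Reductive.bcPointEquiv f V _ b)
  simp only at hx hy
  rw [map_mul, map_mul, ← hx, ← hy]
  exact (MonObj.mul_comp x y q).symm.trans ((congrArg (· ≫ q) (mul_comm x y)).trans (MonObj.mul_comp y x q))

/-- Unique divisibility of points of a group with toral-free commutative base change. -/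
theorem bijective_pow_pts (V : Over (Spec (CommRingCat.of k))) [GrpObj V] [Smooth V.hom]
    [ConnectedSpace V.left] [IsAffine V.left] [IsCommMonObj (Red.bc f V)]
    (hV : Red.HasNoSubtorus K (Red.bc f V)) (n : ℕ) (hn : (n : K) ≠ 0) :
    Function.Bijective fun x : T f ⟶ V => x ^ n := by
  haveI : Smooth (Red.bc f V).hom := inferInstanceAs (Smooth (pullback.snd V.hom f))
  haveI : IsAffine (Red.bc f V).left := inferInstanceAs (IsAffine (pullback V.hom f))
  haveI := connectedSpace_bc f V
  let M := Reductive.bcPointEquiv f V (𝟙_ (Over (Spec (CommRingCat.of K))))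
  have h1 := M.bijective.comp
    ((Groth.NeronArea.UnipotentPoints.bijective_pow (Red.bc f V) hV n hn).comp M.symm.bijective)
  have h2 : (M ∘ ((fun g => g ^ n) ∘ M.symm)) = fun x => x ^ n := funext fun x => by
    show M (M.symm x ^ n) = x ^ n
    rw [map_pow, M.apply_symm_apply]
  rwa [h2] at h1

/-- The number of torsion points of an abelian variety with values in an algebraically closed field. -/
theorem natCard_pts_abelian (E : Over (Spec (CommRingCat.of k))) [GrpObj E] [IsProper E.hom]
    [GeometricallyIntegral E.hom] [IsCommMonObj (Red.bc f E)] {d : ℕ}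
    (hd : topologicalKrullDim E.left = d) (n : ℕ) (hn : (n : K) ≠ 0) :
    Nat.card {x : T f ⟶ E // x ^ n = 1} = n ^ (2 * d) := by
  haveI : IsProper (Red.bc f E).hom := inferInstanceAs (IsProper (pullback.snd E.hom f))
  haveI : GeometricallyIntegral (Red.bc f E).hom :=
    inferInstanceAs (GeometricallyIntegral (pullback.snd E.hom f))
  rw [← AbVarMul.natCard_torsPts (A := Red.bc f E) ((dim_bc f E).trans hd) hn]
  refine Nat.card_congr ((Reductive.bcPointEquiv f E _).symm.toEquiv.subtypeEquiv fun x => ?_)
  show x ^ n = 1 ↔ (Reductive.bcPointEquiv f E _).symm x ^ n = 1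
  rw [← map_pow, map_eq_one_iff _ (Reductive.bcPointEquiv f E _).symm.injective]

end Bc

/-- Let k be a field and P a pseudo-abelian variety over k, that is a smooth connected commutative
k-group scheme of finite type all of whose smooth connected affine closed subgroup schemes are
trivial. Suppose P is an extension 0 → E → P → V → 0 with E → P a closed immersion that is the
kernel of a surjective homomorphism P → V, where E is an abelian variety over k (proper, smooth,
geometrically integral) and V is a smooth connected affine k-group whose base change to an algebraic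
closure of k contains no non-trivial subtorus. Suppose L is a finite, purely inseparable field
extension of k such that the base change P_L is likewise an extension 0 → H → P_L → A → 0 with H a
smooth connected affine L-group having no non-trivial subtorus over an algebraic closure of L and A
an abelian variety over L of dimension g (so that g is the virtual abelian rank of P). Then the
dimension of E equals g. (Both extensions are taken as data: their existence is a result of the
literature that the source quotes. The second assertion of the proposition, on good reduction, is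
not part of this statement. The source works over the fraction field of an excellent discrete
valuation ring of characteristic p > 0; the assertion and its argument use only the field, so k is
an arbitrary field here.) -/
theorem result
    (k : Type u) [Field k]
    (P : Over (Spec (CommRingCat.of k))) [GrpObj P] [IsCommMonObj P]
    [Smooth P.hom] [LocallyOfFiniteType P.hom] [QuasiCompact P.hom] [ConnectedSpace ↥P.left]
    (hP : ∀ (H : Over (Spec (CommRingCat.of k))) [GrpObj H] (j : H ⟶ P) [IsMonHom j],
      IsClosedImmersion j.left → Smooth H.hom → ConnectedSpace ↥H.left → IsAffine H.left → IsIso η[H])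
    (E V : Over (Spec (CommRingCat.of k))) [GrpObj E] [GrpObj V]
    (iE : E ⟶ P) [IsMonHom iE] (q : P ⟶ V) [IsMonHom q]
    (hiE : IsClosedImmersion iE.left) (hkerE : AlgGrp.IsKernel iE q) (hq : Surjective q.left)
    [IsProper E.hom] [Smooth E.hom] [GeometricallyIntegral E.hom]
    [Smooth V.hom] [ConnectedSpace ↥V.left] [IsAffine V.left]
    (hV : Red.HasNoSubtorus (AlgebraicClosure k)
      (Red.bc (Spec.map (CommRingCat.ofHom (algebraMap k (AlgebraicClosure k)))) V))
    (L : Type u) [Field L] [Algebra k L] [FiniteDimensional k L] [IsPurelyInseparable k L]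
    (H A : Over (Spec (CommRingCat.of L))) [GrpObj H] [GrpObj A]
    (i : H ⟶ Red.bc (Spec.map (CommRingCat.ofHom (algebraMap k L))) P) [IsMonHom i] (π : Red.bc (Spec.map (CommRingCat.ofHom (algebraMap k L))) P ⟶ A) [IsMonHom π]
    (hi : IsClosedImmersion i.left) (hker : AlgGrp.IsKernel i π) (hπ : Surjective π.left)
    [Smooth H.hom] [ConnectedSpace ↥H.left] [IsAffine H.left]
    (hH : Red.HasNoSubtorus (AlgebraicClosure L) (Red.bc (Spec.map (CommRingCat.ofHom (algebraMap L (AlgebraicClosure L)))) H))
    [IsProper A.hom] [Smooth A.hom] [GeometricallyIntegral A.hom]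
    (g : ℕ) (hg : topologicalKrullDim ↥A.left = g) :
    topologicalKrullDim ↥E.left = g := by
  haveI : IsCommMonObj P := inferInstance
  obtain ⟨d, hd⟩ := Groth.FibreDim.exists_dim_eq_nat E
  -- a small exponent invertible in `k`
  obtain ⟨n, hn1, hn⟩ : ∃ n : ℕ, 1 < n ∧ (n : k) ≠ 0 := by
    by_cases h2 : ((2 : ℕ) : k) = 0
    · refine ⟨3, by norm_num, fun h3 => one_ne_zero (α := k) ?_⟩
      push_cast at h2 h3
      linear_combination h3 - h2
    · exact ⟨2, by norm_num, h2⟩
  let Ω₁ := AlgebraicClosure k
  let Ω₂ := AlgebraicClosure L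
  let f₁ : Spec (CommRingCat.of Ω₁) ⟶ Spec (CommRingCat.of k) :=
    Spec.map (CommRingCat.ofHom (algebraMap k Ω₁))
  let fL : Spec (CommRingCat.of L) ⟶ Spec (CommRingCat.of k) :=
    Spec.map (CommRingCat.ofHom (algebraMap k L))
  let f₂ : Spec (CommRingCat.of Ω₂) ⟶ Spec (CommRingCat.of L) :=
    Spec.map (CommRingCat.ofHom (algebraMap L Ω₂))
  have hn₁ : (n : Ω₁) ≠ 0 := by
    rw [← map_natCast (algebraMap k Ω₁)]
    exact (map_ne_zero_iff _ (algebraMap k Ω₁).injective).2 hn
  have hn₂ : (n : Ω₂) ≠ 0 := by
    rw [← map_natCast ((algebraMap L Ω₂).comp (algebraMap k L))]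
    exact (map_ne_zero_iff _ ((algebraMap L Ω₂).comp (algebraMap k L)).injective).2 hn
  haveI := hiE; haveI := hi
  haveI : Mono iE := (Over.forget _).mono_of_mono_map (inferInstanceAs (Mono iE.left))
  haveI : Mono i := (Over.forget _).mono_of_mono_map (inferInstanceAs (Mono i.left))
  -- the first extension, over `Ω₁`
  haveI : IsCommMonObj (Red.bc f₁ V) := isCommMonObj_bc f₁ q
  haveI : IsCommMonObj E := isCommMonObj_of_mono iE
  haveI : IsCommMonObj (Red.bc f₁ E) := inferInstance
  obtain ⟨hiE₁, -, hiE₃⟩ := isKernel_pts hkerE (T f₁)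
  have hP₁ : Nat.card {x : T f₁ ⟶ P // x ^ n = 1} = n ^ (2 * d) :=
    (natCard_ker_left (ptsHom (T f₁) iE) (ptsHom (T f₁) q) hiE₁ hiE₃ n fun h hh =>
      (bijective_pow_pts f₁ V hV n hn₁).1 (hh.trans (one_pow n).symm)).symm.trans
      (natCard_pts_abelian f₁ E hd n hn₁)
  -- the second extension, over `Ω₂`
  let PL := Red.bc fL P
  haveI : LocallyOfFiniteType PL.hom := inferInstanceAs (LocallyOfFiniteType (pullback.snd P.hom fL))
  haveI : IsCommMonObj PL := inferInstance
  haveI : IsCommMonObj H := isCommMonObj_of_mono i
  haveI : IsCommMonObj (Red.bc f₂ H) := inferInstance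
  haveI : IsCommMonObj (Red.bc f₂ A) := isCommMonObj_bc f₂ π
  obtain ⟨hi₁, hi₂, hi₃⟩ := isKernel_pts hker (T f₂)
  have hP₂ : Nat.card {x : T f₂ ⟶ PL // x ^ n = 1} = n ^ (2 * g) :=
    (natCard_ker_right (ptsHom (T f₂) i) (ptsHom (T f₂) π) hi₁ hi₂ hi₃
      (fun y => surjective_comp_pts π Ω₂ (T f₂).hom y) n (bijective_pow_pts f₂ H hH n hn₂)).trans
      (natCard_pts_abelian f₂ A hg n hn₂)
  -- comparison of the two algebraic closures
  haveI : Algebra.IsAlgebraic k Ω₂ := Algebra.IsAlgebraic.trans k L Ω₂
  haveI : IsAlgClosure k Ω₂ := ⟨inferInstance, inferInstance⟩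
  let σ : Ω₁ ≃ₐ[k] Ω₂ := IsAlgClosure.equiv k Ω₁ Ω₂
  let s : (Over.map fL).obj (T f₂) ≅ T f₁ :=
    Over.isoMk (Scheme.Spec.mapIso σ.toRingEquiv.toCommRingCatIso.op) (by
      change Spec.map (CommRingCat.ofHom σ.toRingEquiv.toRingHom) ≫ (𝟙 _ ≫ f₁) = (𝟙 _ ≫ f₂) ≫ fL
      rw [Category.id_comp, Category.id_comp, ← Spec.map_comp, ← Spec.map_comp, ← CommRingCat.ofHom_comp,
        ← CommRingCat.ofHom_comp]
      congr 2
      exact RingHom.ext fun x => (σ.commutes x).trans (IsScalarTower.algebraMap_apply k L Ω₂ x))
  let M : (T f₂ ⟶ PL) ≃* (T f₁ ⟶ P) := (Reductive.bcPointEquiv fL P (T f₂)).trans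
    { toFun := fun x => s.inv ≫ x
      invFun := fun x => s.hom ≫ x
      left_inv := fun x => by simp
      right_inv := fun x => by simp
      map_mul' := fun a b => MonObj.comp_mul _ a b }
  have hcard : Nat.card {x : T f₂ ⟶ PL // x ^ n = 1} = Nat.card {x : T f₁ ⟶ P // x ^ n = 1} :=
    Nat.card_congr (M.toEquiv.subtypeEquiv fun x => by
      show x ^ n = 1 ↔ M x ^ n = 1
      rw [← map_pow, map_eq_one_iff _ M.injective])
  rw [hP₁, hP₂] at hcard
  have := Nat.pow_right_injective hn1 hcard
  rw [hd]
  congr 2
  omega

end Groth.Agent.S19893
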