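import Groth.Statements.S19895
import Groth.Agent.Misc14.VerlindeSchur
-- import your own Groth.Agent.* helpers here

set_option autoImplicit false
open Complex
open VerlindeComb

namespace Groth.Agent.S19895

open Finset Groth.Misc14.Verlinde


/-- Fix integers r ≥ 2 and k ≥ 1, and two partitions λ, λ' with k ≥ λ_1 ≥ ⋯ ≥ λ_{r-1} ≥ λ_r = 0 and k ≥
λ'_1 ≥ ⋯ ≥ λ'_{r-1} ≥ λ'_r = 0 such that λ is not equivalent to the dual partition λ'* = (k − λ'_r,
…, k − λ'_1), two integer vectors being equivalent when their difference is a constant vector (a, …,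
a). For an integer vector v with r + k > v_1 > ⋯ > v_{r-1} > v_r = 0 put z(v)_j = exp(2πi v_j / (r +
k)), let S_μ(v) = det(z(v)_j^{μ_i + r − i}) / det(z(v)_j^{r − i}) be the Schur value and P(v) =
∏_{i<j} (2 sin(π (v_i − v_j)/(r + k)))². Then the sum over all such v of exp(−2πi (|λ| + |λ'|) (v_1
+ ⋯ + v_r) / (r (r + k))) · S_λ(v) · S_{λ'}(v) · P(v) vanishes; that is, the genus-zero Verlinde
number of rank r, degree 0 and level k with two parabolic points of types λ, λ' is zero. (Only the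
vanishing case is stated; the complementary case, where the number equals 1, is not part of this
statement. The source allows r = 1, where the non-equivalence hypothesis cannot hold.) Indices are
0-based below: lam i stands for λ_{i+1}. -/
theorem result (r k : ℕ) (hr : 2 ≤ r)
    (hk : 1 ≤ k) (lam lam' : Fin r → ℕ) (hlam : Antitone lam) (hlamk : ∀ i, lam i ≤ k)
    (hlam0 : ∀ i : Fin r, (i : ℕ) = r - 1 → lam i = 0)
    (hlam' : Antitone lam') (hlam'k : ∀ i, lam' i ≤ k) (hlam'0 : ∀ i : Fin r, (i : ℕ) = r - 1 → lam' i = 0)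
    (hne : ¬ ∃ a : ℤ, ∀ i, (lam i : ℤ) - ((k - lam' (Fin.rev i) : ℕ) : ℤ) = a)
    (z : (Fin r → ℕ) → Fin r → ℂ)
    (hz : ∀ v j, z v j = Complex.exp (2 * Real.pi * Complex.I * (v j : ℂ) / ((r : ℂ) + k)))
    (S : (Fin r → ℕ) → (Fin r → ℕ) → ℂ)
    (hS : ∀ μ v, S μ v = (Matrix.of fun i j : Fin r => z v j ^ (μ i + (r - 1 - (i : ℕ)))).det /
        (Matrix.of fun i j : Fin r => z v j ^ (r - 1 - (i : ℕ))).det)
    (P : (Fin r → ℕ) → ℝ)
    (hP : ∀ v, P v = ∏ p ∈ (Finset.univ : Finset (Fin r × Fin r)).filter (fun p => p.1 < p.2),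
        ((2 : ℝ) * Real.sin (Real.pi * ((v p.1 : ℝ) - (v p.2 : ℝ)) / ((r : ℝ) + k))) ^ 2) :
    (∑ v ∈ (Finset.univ : Finset (Fin r → Fin (r + k))).filter
        (fun v : Fin r → Fin (r + k) => StrictAnti v ∧ ∀ i : Fin r, (i : ℕ) = r - 1 → (v i : ℕ) = 0),
      Complex.exp (-(2 * Real.pi * Complex.I * (((∑ i, lam i) + (∑ i, lam' i) : ℕ) : ℂ) *
          ((∑ j, (v j : ℕ) : ℕ) : ℂ) / ((r : ℂ) * ((r : ℂ) + k)))) *
        S lam (fun j => (v j : ℕ)) * S lam' (fun j => (v j : ℕ)) * (P (fun j => (v j : ℕ)) : ℂ)) = 0 := by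
  haveI : NeZero (r + k) := ⟨by omega⟩
  have hrC : (r : ℂ) ≠ 0 := by exact_mod_cast (by omega : r ≠ 0)
  have hn0 : (r + k) ≠ 0 := by omega
  set a : Fin r → ℤ := fun i => (lam i : ℤ) + delta r i with ha
  set B : Fin r → ℤ := fun i => (lam' i : ℤ) + delta r i with hB
  set A : Fin r → ℤ := fun i => a i + (-((r : ℤ) - 1)) with hA
  have hd2 : 2 * ∑ i, delta r i = (r : ℤ) * ((r : ℤ) - 1) := by
    have h1 : ∑ i, delta r i = ∑ i, delta r (Fin.rev i) := (Equiv.sum_comp Fin.revPerm (delta r)).symm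
    rw [two_mul]; nth_rewrite 2 [h1]
    rw [← Finset.sum_add_distrib, Finset.sum_congr rfl (fun i _ => by
      have := i.2
      simp only [delta, Fin.val_rev]; omega : ∀ i ∈ (univ : Finset (Fin r)), delta r i + delta r (Fin.rev i) = (r : ℤ) - 1)]
    simp; ring
  have hL : ∑ i, A i + ∑ i, B i = (((∑ i, lam i) + (∑ i, lam' i) : ℕ) : ℤ) := by
    simp only [hA, ha, hB, Finset.sum_add_distrib]
    push_cast
    simp only [Finset.sum_const, Finset.card_univ, Fintype.card_fin, nsmul_eq_mul]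
    linear_combination hd2
  have hterm : ∀ v ∈ (Finset.univ : Finset (Fin r → Fin (r + k))).filter
        (fun v : Fin r → Fin (r + k) => StrictAnti v ∧ ∀ i : Fin r, (i : ℕ) = r - 1 → (v i : ℕ) = 0),
      Complex.exp (-(2 * Real.pi * Complex.I * (((∑ i, lam i) + (∑ i, lam' i) : ℕ) : ℂ) *
          ((∑ j, (v j : ℕ) : ℕ) : ℂ) / ((r : ℂ) * ((r : ℂ) + k)))) *
        S lam (fun j => (v j : ℕ)) * S lam' (fun j => (v j : ℕ)) * (P (fun j => (v j : ℕ)) : ℂ) =
      srev r * twisted (r + k) A B (fun j => (v j : ℕ)) := by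
    intro v hv
    have hsa := ((Finset.mem_filter.mp hv).2).1
    set w : Fin r → ℕ := fun j => (v j : ℕ) with hw
    have hinj : Function.Injective w := fun i j h => hsa.injective (Fin.ext h)
    have hD0 : D (r + k) (delta r) (fun j => (w j : ℤ)) ≠ 0 := D_delta_ne_zero hn0 w hinj (fun j => (v j).2)
    rw [hS, hS, hP, schur_eq (k := k) lam w (z w) (hz w), schur_eq (k := k) lam' w (z w) (hz w),
      P_eq_D_mul_D w, D_neg_delta, twisted, hA, D_add_const_left]
    have hphase : Complex.exp (-(2 * Real.pi * Complex.I * (((∑ i, lam i) + (∑ i, lam' i) : ℕ) : ℂ) *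
          ((∑ j, w j : ℕ) : ℂ) / ((r : ℂ) * ((r : ℂ) + k)))) =
        E (r + k) (-(((∑ i, A i + ∑ i, B i : ℤ) : ℂ) * ((∑ j, (w j : ℤ) : ℤ) : ℂ)) / (r : ℂ)) := by
      rw [hL, E]; congr 1
      have : ((r : ℂ) + k) ≠ 0 := by exact_mod_cast hn0
      push_cast
      field_simp
    rw [hphase]
    simp only [hA, ha, hB, hw] at hD0 ⊢
    field_simp
  rw [Finset.sum_congr rfl hterm, ← Finset.mul_sum]
  apply mul_eq_zero_of_right
  by_cases hdvd : (r : ℤ) ∣ ∑ i, A i + ∑ i, B i
  swap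
  · exact twisted_sum_eq_zero_of_not_dvd _ _ _ (fun v => by rw [Finset.mem_filter]; exact ⟨fun h => ⟨h.2.1, fun i hi => Fin.ext (h.2.2 i hi)⟩, fun h => ⟨Finset.mem_univ _, h.1, fun i hi => congrArg Fin.val (h.2 i hi)⟩⟩) hdvd
  obtain ⟨Q, hQ⟩ := hdvd
  rw [twisted_sum_of_dvd (by omega) A B _ (fun v => by rw [Finset.mem_filter]; exact ⟨fun h => ⟨h.2.1, fun i hi => Fin.ext (h.2.2 i hi)⟩, fun h => ⟨Finset.mem_univ _, h.1, fun i hi => congrArg Fin.val (h.2 i hi)⟩⟩) hQ]
  apply mul_eq_zero_of_right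
  refine Finset.sum_eq_zero fun τ _ => mul_eq_zero_of_right _ (if_neg fun h => hne ?_)
  have hex := exact_of_matching hn0 A B Q (-((r : ℤ) - 1)) hQ (fun i j => by
    have := mu_delta_bounds lam hlamk i; have := mu_delta_bounds lam' hlam'k j
    simp only [hA, ha, hB]; omega) τ h
  have hBanti : StrictAnti B := by
    intro i j hij
    have := hlam' hij.le; have := j.2; have h2 : (i : ℕ) < j := hij
    simp only [hB, delta]; omega
  have haanti : StrictAnti a := by
    intro i j hij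
    have := hlam hij.le; have := j.2; have h2 : (i : ℕ) < j := hij
    simp only [ha, delta]; omega
  have h1 : StrictMono (B ∘ τ) := by
    intro i j hij
    have := hex i; have := hex j; have := haanti hij
    simp only [hA, Function.comp_apply] at *; omega
  have h2 : StrictMono (B ∘ Fin.rev) := hBanti.comp Fin.rev_strictAnti
  have he : B ∘ τ = B ∘ Fin.rev := (h1.range_inj h2).mp (by
    rw [τ.surjective.range_comp, Fin.rev_surjective.range_comp])
  refine ⟨Q - k, fun i => ?_⟩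
  have h3 := hex i
  have h4 : B (τ i) = B (Fin.rev i) := congrFun he i
  have := i.2
  have := hlam'k (Fin.rev i)
  rw [h4] at h3
  simp only [hA, ha, hB, delta, Fin.val_rev] at h3
  omega

end Groth.Agent.S19895
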