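import Groth.Statements.S19898
import Groth.Agent.Misc8.TopWedge

set_option autoImplicit false
universe u
open scoped TensorProduct
open SymTen

namespace Groth.Agent.S19898

/-- Let R be a commutative ring and R' a commutative R-algebra that is free of rank d as an R-module.
Let (C, γ) be the degree-d divided power algebra of R' over R, given as an R-algebra C with a
multiplicative homogeneous degree-d polynomial law γ : R' → C that is universal among such laws; let
φ : C → T^d_R(R') be the R-algebra homomorphism into the d-fold tensor power whose composite with γ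
is the law x ↦ x ⊗ ⋯ ⊗ x, and π : C → R the R-algebra homomorphism whose composite with γ is the
norm law of R' over R. Let T^d_R(R') act on itself factor by factor and let I_d ⊂ T^d_R(R') be the
R-span of the pure tensors with two equal factors, so that T^d_R(R')/I_d is the top exterior power
Λ^d_R(R'), free of rank one. Then for every c ∈ C and every x ∈ T^d_R(R') the element φ(c)·x − π(c)
x lies in I_d: the symmetric tensor φ(c) acts on Λ^d_R(R') as multiplication by the scalar π(c),
i.e. the homomorphism TS^d_R(R') → R given by the action on the top exterior power, composed with φ,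
equals π. (The source states this for R' finite locally free of constant rank d; the free case is
the affine-local form.) -/
theorem result (R : Type u) [CommRing R] (R' : Type u) [CommRing R']
    [Algebra R R'] [Module.Free R R'] [Module.Finite R R'] (d : ℕ) (hd : Module.finrank R R' = d)
    {C : Type u} [CommRing C] [Algebra R C] (γ : PolLaw.MulLaw R R' C d) (hγ : PolLaw.IsGammaD γ)
    (φ : C →ₐ[R] (⨂[R] _ : Fin d, R')) (hφ : PolLaw.MulLaw.postcomp φ γ = SymTen.tpowLaw R R' d)
    (π : C →ₐ[R] R) (hπ : PolLaw.MulLaw.postcomp π γ = PolLaw.normLaw R R' d hd)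
    (c : C) (x : ⨂[R] _ : Fin d, R') :
    SymTen.tpowAct R R' R' d (φ c) x - π c • x ∈ SymTen.altSpan R R' d := by
  classical
  rcases subsingleton_or_nontrivial R with hR | hR
  · have := Module.subsingleton R (⨂[R] _ : Fin d, R')
    rw [Subsingleton.elim (SymTen.tpowAct R R' R' d (φ c) x - π c • x) 0]
    exact zero_mem _
  let b := Module.finBasisOfFinrankEq R R' hd
  have hmem : ∀ c, φ c ∈ SymTen.TS R R' d := by
    intro c σ
    rw [← SymTen.perm_apply]
    refine DFunLike.congr_fun (?_ : (SymTen.perm R R' d σ).comp φ = φ) c
    refine (hγ _ (SymTen.tpowLaw R R' d)).unique ?_ (congrArg PolLaw.MulLaw.law hφ)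
    rw [← Groth.Misc8.TopWedge.postcomp_perm σ, ← hφ]
    ext S _ _ y
    exact LinearMap.lTensor_comp_apply S (SymTen.perm R R' d σ).toLinearMap φ.toLinearMap _
  have hπ' : π = (Groth.Misc8.TopWedge.χ b).comp (φ.codRestrict (SymTen.TS R R' d) hmem) := by
    refine (hγ _ (PolLaw.normLaw R R' d hd)).unique (congrArg PolLaw.MulLaw.law hπ) ?_
    ext S _ _ y
    rw [← Groth.Misc8.TopWedge.postcomp_eq_normLaw b hd S, ← hφ]
    exact LinearMap.lTensor_comp_apply S (Groth.Misc8.TopWedge.ψ b) φ.toLinearMap _
  rw [Groth.Misc8.TopWedge.tpowAct_eq_mul, hπ']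
  exact Groth.Misc8.TopWedge.mul_sub_smul_mem b (φ c) (hmem c) x

end Groth.Agent.S19898
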