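import Groth.Statements.S19900
import Groth.Agent.StkGerb.UnivClosedCalc
import Groth.Agent.StkGerb.ChartFL

set_option autoImplicit false
universe u
open CategoryTheory AlgebraicGeometry
open AlgSt

namespace Groth.Agent.S19900

/-- Let f : 𝒳 → 𝒴 and g : 𝒴 → 𝒵 be morphisms of algebraic stacks with composite h : 𝒳 → 𝒵. If f is flat,
surjective, universally injective and locally of finite presentation, the diagonal of f is
universally closed and h is separated, then g is separated. (The published statement does not ask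
the diagonal of f to be universally closed, and without it the statement fails: over the affine line
T over a field let G be the constant group scheme with two elements, H the etale group scheme
obtained from G by gluing its two sections over the complement of the origin, and f the morphism
from the classifying stack of G to that of H induced by the quotient map; then f is flat,
surjective, universally injective and locally of finite presentation, the classifying stack of G is
separated over T since G is finite, and that of H is not since H is not separated. The published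
argument uses that the diagonal of f is universally closed.) -/
theorem result
    (S : Scheme.{u}) (𝒳 : AlgSt.Cat S) (𝒴 : AlgSt.Cat S) (𝒵 : AlgSt.Cat S)
    (h𝒳 : AlgSt.IsAlgStack Scheme.fppfPrecoverage 𝒳)
    (h𝒴 : AlgSt.IsAlgStack Scheme.fppfPrecoverage 𝒴)
    (h𝒵 : AlgSt.IsAlgStack Scheme.fppfPrecoverage 𝒵)
    (f : 𝒳 ⥤ᵇ 𝒴) (g : 𝒴 ⥤ᵇ 𝒵)
    (hf₁ : AlgSt.IsSurjective f) (hf₂ : AlgSt.LocQ (AlgSp.LocP @Flat) f)
    (hf₃ : AlgSt.LocQ (AlgSp.LocP @LocallyOfFinitePresentation) f)
    (hf₄ : AlgSt.IsUnivInjective Scheme.fppfPrecoverage f)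
    (hf₅ : AlgSt.RepByAlgSpWith AlgSp.IsUnivClosedMor (FibCat.diag f))
    (hh : AlgSt.IsSeparatedMor (BasedFunctor.comp f g)) :
    AlgSt.IsSeparatedMor g := by
  refine Groth.StkGerb.isSeparatedMor_of_comp_univClosed h𝒳 h𝒴 h𝒵 ?_ hf₁ hf₅ hh
  intro 𝒯 hT y
  have hP := Groth.AlgStBasic.isAlgStack_fp h𝒴.isStack h𝒴.diag hT h𝒳 y f
  obtain ⟨k₁, k₂⟩ := Groth.StkGerb.IsFL.fpFst h𝒳 h𝒴 hT y ⟨hf₂, hf₃⟩
  obtain ⟨U, V, x, v, a, α, -, hxs, hv, -, hsq⟩ :=
    Groth.AlgStBasic.exists_scheme_square hP hT (FibCat.fpFst y f)
  have : Flat a.left := Groth.AlgStBasic.left_prop_of_locP_yon ((hsq Groth.AlgStBasic.isSmoothLocalST_flat).1 k₁)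
  have : LocallyOfFinitePresentation a.left :=
    Groth.AlgStBasic.left_prop_of_locP_yon ((hsq Groth.AlgStBasic.isSmoothLocalST_lfp).1 k₂)
  have : UniversallyOpen a.left := inferInstance
  have hh : IsHomeomorph (AlgSt.Points.map (FibCat.fpFst y f)) :=
    ⟨Groth.AlgStBasic.continuous_map hT _,
      Groth.AlgStBasic.isOpenMap_map_of_locQ hP hT α hxs hv a.left.isOpenMap,
      hf₄ 𝒯 hT y, Groth.AlgStBasic.isSurjective_fpFst h𝒳.1.1 h𝒴.1.1 hT.1.1 y hf₁⟩
  exact hh.isClosedMap

end Groth.Agent.S19900
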