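import Groth.Statements.S19901
import Groth.Agent.AlgStBasic.LocQApps
import Groth.Agent.KoszulLCI.Immersion
import Groth.Agent.KoszulLCI.SchemeBaseChange

set_option autoImplicit false
universe u
open CategoryTheory AlgebraicGeometry
open AlgSt

namespace Groth.Agent.S19901
open CategoryTheory CategoryTheory.Limits AlgebraicGeometry Groth.AlgStBasic Groth.StkBase


/-- Let f : 𝒳 → 𝒴, q : 𝒴 → 𝒵 and p : 𝒳 → 𝒵 be morphisms of algebraic stacks forming a 2-commutative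
triangle (a 2-isomorphism between q ∘ f and p is given). If q is smooth and p is a local complete
intersection morphism (Koszul), then f is a local complete intersection morphism. Smooth and local
complete intersection morphisms of algebraic stacks are read on one square of smooth scheme charts. -/
theorem result
    (S : Scheme.{u}) (𝒳 : AlgSt.Cat S) (𝒴 : AlgSt.Cat S) (𝒵 : AlgSt.Cat S)
    (h𝒳 : AlgSt.IsAlgStack Scheme.fppfPrecoverage 𝒳)
    (h𝒴 : AlgSt.IsAlgStack Scheme.fppfPrecoverage 𝒴)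
    (h𝒵 : AlgSt.IsAlgStack Scheme.fppfPrecoverage 𝒵)
    (f : 𝒳 ⥤ᵇ 𝒴) (q : 𝒴 ⥤ᵇ 𝒵) (p : 𝒳 ⥤ᵇ 𝒵) (e : BasedFunctor.comp f q ≅ p)
    (hq : AlgSt.LocQ (AlgSp.LocP @Smooth) q) (hp : AlgSt.LocQ AlgSp.IsLCIMor p) :
    AlgSt.LocQ AlgSp.IsLCIMor f := by
  obtain ⟨U₀, V₀, x₀, z₀, h, α₀, hx₀, hxs₀, hz₀, hh⟩ := hp
  let U' : AlgSp.Space S := (AlgSp.ofScheme S).obj U₀
  let V' : AlgSp.Space S := (AlgSp.ofScheme S).obj V₀
  let x : AlgSt.ofSp U'.obj ⥤ᵇ 𝒳 := BasedFunctor.comp (AlgSt.toOverCat U₀) x₀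
  let z : AlgSt.ofSp V'.obj ⥤ᵇ 𝒵 := BasedFunctor.comp (AlgSt.toOverCat V₀) z₀
  let η : AlgSt.ofSp U'.obj ⥤ᵇ AlgSt.ofSp V'.obj := AlgSt.ofSpMap ((AlgSp.yon S).map h)
  have α : BasedFunctor.comp x p ≅ BasedFunctor.comp η z := (whiskerLeftIso (AlgSt.toOverCat U₀) α₀ :)
  have hx : AlgSt.RepByAlgSpWith (AlgSp.LocP @Smooth) x :=
    (repWith_precomp_equiv (isEquivOver_toOverCat U₀) x₀).2 hx₀
  have hxs : AlgSt.RepByAlgSpWith AlgSp.IsSurjectiveMor x :=
    (repWith_precomp_equiv (isEquivOver_toOverCat U₀) x₀).2 hxs₀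
  have hz : AlgSt.RepByAlgSpWith (AlgSp.LocP @Smooth) z :=
    (repWith_precomp_equiv (isEquivOver_toOverCat V₀) z₀).2 hz₀
  obtain ⟨W, Lg, hLg, hLgs, hy, -⟩ := exists_chart_over h𝒴 h𝒵 q hz
  let W' : AlgSp.Space S := (AlgSp.ofScheme S).obj W
  let y : AlgSt.ofSp W'.obj ⥤ᵇ 𝒴 := BasedFunctor.comp Lg (FibCat.fpFst q z)
  let ι : AlgSt.ofSp U'.obj ⥤ᵇ FibCat.fp q z :=
    FibCat.fpLift (BasedFunctor.comp x f) η ((whiskerLeftIso x e).trans α)
  have hV := isAlgStack_of_repByAlgSp (𝒳 := AlgSt.ofSp V'.obj) ⟨V', BasedFunctor.id _, isEquivOver_id _⟩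
  have hU := isAlgStack_of_repByAlgSp (𝒳 := AlgSt.ofSp U'.obj) ⟨U', BasedFunctor.id _, isEquivOver_id _⟩
  have hW := isAlgStack_of_repByAlgSp (𝒳 := AlgSt.ofSp W'.obj) ⟨W', BasedFunctor.id _, isEquivOver_id _⟩
  have hqz := isAlgStack_fp h𝒵.isStack h𝒵.diag h𝒴 hV q z
  have hN := isAlgStack_fp hqz.isStack hqz.diag hU hW ι Lg
  obtain ⟨T, m, hm, hms⟩ := exists_space_atlas hN
  let T' : AlgSp.Space S := (AlgSp.ofScheme S).obj T
  let δ : AlgSt.ofSp T'.obj ⥤ᵇ AlgSt.ofSp U'.obj := BasedFunctor.comp m (FibCat.fpFst ι Lg)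
  let γ : AlgSt.ofSp T'.obj ⥤ᵇ AlgSt.ofSp W'.obj := BasedFunctor.comp m (FibCat.fpSnd ι Lg)
  let β : AlgSt.ofSp W'.obj ⥤ᵇ AlgSt.ofSp V'.obj := BasedFunctor.comp Lg (FibCat.fpSnd q z)
  have hδ : AlgSt.RepByAlgSpWith (AlgSp.LocP @Smooth) δ :=
    repWith_comp' (isFibGrpd_ofSp _) hN.isStack.1 stableBaseChange_locP stableComp_locP
      descendsAlongAtlas_locP hm (repWith_fpFst Lg ι hLg)
  have hδs : AlgSt.RepByAlgSpWith AlgSp.IsSurjectiveMor δ :=
    repWith_comp' (isFibGrpd_ofSp _) hN.isStack.1 stableBaseChange_surjective stableComp_surjective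
      descendsAlongAtlas_surjective hms (repWith_fpFst Lg ι hLgs)
  have hxT : AlgSt.RepByAlgSpWith (AlgSp.LocP @Smooth) (BasedFunctor.comp δ x) :=
    repWith_comp' (isFibGrpd_ofSp _) (isFibGrpd_ofSp _) stableBaseChange_locP stableComp_locP
      descendsAlongAtlas_locP hδ hx
  have hxTs : AlgSt.RepByAlgSpWith AlgSp.IsSurjectiveMor (BasedFunctor.comp δ x) :=
    repWith_comp' (isFibGrpd_ofSp _) (isFibGrpd_ofSp _) stableBaseChange_surjective stableComp_surjective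
      descendsAlongAtlas_surjective hδs hxs
  obtain ⟨a, ha⟩ := (AlgSp.yon S).map_surjective (mapOf γ)
  obtain ⟨b, hb⟩ := (AlgSp.yon S).map_surjective (mapOf β)
  obtain ⟨d, hd⟩ := (AlgSp.yon S).map_surjective (mapOf δ)
  have heq : d ≫ h = a ≫ b := by
    apply (AlgSp.yon S).map_injective
    rw [Functor.map_comp, Functor.map_comp, hd, ha, hb]
    exact (congrArg (mapOf δ ≫ ·) (mapOf_ofSpMap ((AlgSp.yon S).map h)).symm).trans
      ((mapOf_comp δ η).symm.trans ((mapOf_congr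
        (whiskerLeftIso m (whiskerRightIso (FibCat.fpIso ι Lg) (FibCat.fpSnd q z)) :)).trans
          (mapOf_comp γ β)))
  have : Smooth d.left := left_prop_of_locP_yon (hd ▸ locP_smooth_mapOf T'.property U'.property hδ)
  have : Smooth b.left :=
    left_prop_of_locP_yon (hb ▸ (locQ_iff_all isSmoothLocalST_smooth h𝒴 h𝒵).1 hq _ _ z Lg hz hLg)
  have hL : Groth.KoszulLCI.MorLCI h.left :=
    Groth.KoszulLCI.morLCI_of_isKoszulAt _ (AlgSp.locP_yon_map hh)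
  have hab : Groth.KoszulLCI.MorLCI (a.left ≫ b.left) := by
    rw [← Over.comp_left, ← heq, Over.comp_left]
    exact MorphismProperty.comp_mem _ _ _ (Groth.KoszulLCI.morLCI_of_smooth _) hL
  have hla := Groth.KoszulLCI.morLCI_of_comp_smooth _ _ hab
  have hA : AlgSp.IsLCIMor ((AlgSp.yon S).map a) := by
    intro A B a' b' k ha' hb' hk
    obtain ⟨a₀, rfl⟩ := (AlgSp.yon S).map_surjective a'
    obtain ⟨b₀, rfl⟩ := (AlgSp.yon S).map_surjective b'
    have : Etale a₀.left := (AlgSp.repWith_yon_map_iff @Etale a₀).1 ha'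
    have : Etale b₀.left := (AlgSp.repWith_yon_map_iff @Etale b₀).1 hb'
    have e₀ : a₀ ≫ a = k ≫ b₀ := (AlgSp.yon S).map_injective (by simpa only [Functor.map_comp] using hk)
    refine Groth.KoszulLCI.isKoszulAt_of_morLCI _ (Groth.KoszulLCI.morLCI_of_comp_smooth k.left b₀.left ?_)
    rw [← Over.comp_left, ← e₀, Over.comp_left]
    exact MorphismProperty.comp_mem _ _ _ (Groth.KoszulLCI.morLCI_of_smooth _) hla
  obtain ⟨φ⟩ := nonempty_iso_mapOf γ
  have φ' : γ ≅ AlgSt.ofSpMap ((AlgSp.yon S).map a) := φ.trans (eqToIso (congrArg AlgSt.ofSpMap ha.symm))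
  refine ⟨T, W, BasedFunctor.comp (AlgSt.ofOverCat T) (BasedFunctor.comp δ x),
    BasedFunctor.comp (AlgSt.ofOverCat W) y, a, ?_,
    (repWith_precomp_equiv (isEquivOver_ofOverCat T) _).2 hxT,
    (repWith_precomp_equiv (isEquivOver_ofOverCat T) _).2 hxTs,
    (repWith_precomp_equiv (isEquivOver_ofOverCat W) _).2 hy, hA⟩
  exact (whiskerLeftIso (AlgSt.ofOverCat T)
    ((whiskerLeftIso m (whiskerRightIso (FibCat.fpIso ι Lg) (FibCat.fpFst q z))).trans
      (whiskerRightIso φ' y)) :)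

end Groth.Agent.S19901
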