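import Groth.Statements.S19902
import Groth.Agent.StkGerb.LargestSmooth

set_option autoImplicit false
universe u
open CategoryTheory AlgebraicGeometry
open AlgSt

namespace Groth.Agent.S19902

/-- Let f : 𝒳 → 𝒴 be a morphism of algebraic stacks and 𝒰 ⊂ 𝒳 the largest open substack on which f is
smooth. Formation of 𝒰 commutes with precomposing by smooth morphisms: for a smooth g : 𝒳' → 𝒳, the
inverse image of 𝒰 in 𝒳' is the largest open substack of 𝒳' on which f ∘ g is smooth. Open substacks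
are given by their object predicates, the inverse image by composing the predicate with g on
objects, and smoothness is read on one square of smooth scheme charts. -/
theorem result
    (S : Scheme.{u}) (𝒳' : AlgSt.Cat S) (𝒳 : AlgSt.Cat S) (𝒴 : AlgSt.Cat S)
    (h𝒳' : AlgSt.IsAlgStack Scheme.fppfPrecoverage 𝒳')
    (h𝒳 : AlgSt.IsAlgStack Scheme.fppfPrecoverage 𝒳)
    (h𝒴 : AlgSt.IsAlgStack Scheme.fppfPrecoverage 𝒴)
    (g : 𝒳' ⥤ᵇ 𝒳) (hg : AlgSt.LocQ (AlgSp.LocP @Smooth) g) (f : 𝒳 ⥤ᵇ 𝒴)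
    (Q : 𝒳.obj → Prop) (hQ₁ : AlgSt.IsOpenSubstack 𝒳 Q Scheme.fppfPrecoverage)
    (hQ₂ : AlgSt.LocQ (AlgSp.LocP @Smooth) (BasedFunctor.comp (AlgSt.subIncl 𝒳 Q) f))
    (hQ₃ : ∀ Q' : 𝒳.obj → Prop, AlgSt.IsOpenSubstack 𝒳 Q' Scheme.fppfPrecoverage →
      AlgSt.LocQ (AlgSp.LocP @Smooth) (BasedFunctor.comp (AlgSt.subIncl 𝒳 Q') f) → ∀ a, Q' a → Q a) :
    AlgSt.IsOpenSubstack 𝒳' (fun a ↦ Q (g.obj a)) Scheme.fppfPrecoverage ∧
      AlgSt.LocQ (AlgSp.LocP @Smooth)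
        (BasedFunctor.comp (AlgSt.subIncl 𝒳' (fun a ↦ Q (g.obj a))) (BasedFunctor.comp g f)) ∧
      ∀ Q' : 𝒳'.obj → Prop, AlgSt.IsOpenSubstack 𝒳' Q' Scheme.fppfPrecoverage →
        AlgSt.LocQ (AlgSp.LocP @Smooth) (BasedFunctor.comp (AlgSt.subIncl 𝒳' Q') (BasedFunctor.comp g f)) →
        ∀ a, Q' a → Q (g.obj a) := by
  exact Groth.StkGerb.largest_smooth_comp h𝒳' h𝒳 h𝒴 g hg f Q hQ₁ hQ₂ hQ₃

end Groth.Agent.S19902
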