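import Groth.Statements.S19904
import Groth.Agent.ArtfunDeform.Smooth

set_option autoImplicit false
universe u v
open CategoryTheory
open ArtFun

namespace Groth.Agent.S19904

/-- For functors F, G, G' on Artinian local Λ-algebras with residue field k and morphisms φ : F → G, ψ :
G' → G: if φ is smooth then the base change F ×_G G' → G' (second projection of the fibre product of
functors) is smooth. -/
theorem result {Λ : Type u} {k : Type u} [CommRing Λ] [Field k] [Algebra Λ k]
    [IsNoetherianRing Λ] [Module.Finite Λ k]
    {F G G' : ArtFun.Art Λ k ⥤ Type v} (φ : F ⟶ G) (ψ : G' ⟶ G) (hφ : ArtFun.IsSmooth φ) :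
    ArtFun.IsSmooth (Limits.pullback.snd φ ψ) := by
  exact Groth.ArtfunDeform.isSmooth_pullback_snd φ ψ hφ

end Groth.Agent.S19904
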