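import Groth.Statements.S19909
import Groth.Agent.StkGerb.SmoothLocusBC

set_option autoImplicit false
universe u
open CategoryTheory AlgebraicGeometry
open AlgSt

namespace Groth.Agent.S19909

/-- Let f : 𝒳 → 𝒴 be a morphism of algebraic stacks and 𝒰 ⊂ 𝒳 the largest open substack on which f is
smooth. Formation of 𝒰 commutes with base change along y : 𝒴' → 𝒴 when y is flat and locally of
finite presentation, or when y is flat and f is locally of finite presentation: the inverse image of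
𝒰 in 𝒴' ×_𝒴 𝒳 is the largest open substack on which the projection to 𝒴' is smooth. Open substacks
are given by their object predicates, the inverse image by reading the predicate on the second
component, and flat, locally of finite presentation and smooth are read on one square of smooth
scheme charts. -/
theorem result
    (S : Scheme.{u}) (𝒳 : AlgSt.Cat S) (𝒴 : AlgSt.Cat S) (𝒴' : AlgSt.Cat S)
    (h𝒳 : AlgSt.IsAlgStack Scheme.fppfPrecoverage 𝒳)
    (h𝒴 : AlgSt.IsAlgStack Scheme.fppfPrecoverage 𝒴)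
    (h𝒴' : AlgSt.IsAlgStack Scheme.fppfPrecoverage 𝒴')
    (f : 𝒳 ⥤ᵇ 𝒴) (y : 𝒴' ⥤ᵇ 𝒴) (hy : AlgSt.LocQ (AlgSp.LocP @Flat) y)
    (hfp : AlgSt.LocQ (AlgSp.LocP @LocallyOfFinitePresentation) y ∨
      AlgSt.LocQ (AlgSp.LocP @LocallyOfFinitePresentation) f)
    (Q : 𝒳.obj → Prop) (hQ₁ : AlgSt.IsOpenSubstack 𝒳 Q Scheme.fppfPrecoverage)
    (hQ₂ : AlgSt.LocQ (AlgSp.LocP @Smooth) (BasedFunctor.comp (AlgSt.subIncl 𝒳 Q) f))
    (hQ₃ : ∀ Q' : 𝒳.obj → Prop, AlgSt.IsOpenSubstack 𝒳 Q' Scheme.fppfPrecoverage →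
      AlgSt.LocQ (AlgSp.LocP @Smooth) (BasedFunctor.comp (AlgSt.subIncl 𝒳 Q') f) → ∀ a, Q' a → Q a) :
    AlgSt.IsOpenSubstack (FibCat.fp y f) (fun b ↦ Q b.obj.snd) Scheme.fppfPrecoverage ∧
      AlgSt.LocQ (AlgSp.LocP @Smooth)
        (BasedFunctor.comp (AlgSt.subIncl (FibCat.fp y f) fun b ↦ Q b.obj.snd) (FibCat.fpFst y f)) ∧
      ∀ Q' : (FibCat.fp y f).obj → Prop, AlgSt.IsOpenSubstack (FibCat.fp y f) Q' Scheme.fppfPrecoverage →
        AlgSt.LocQ (AlgSp.LocP @Smooth) (BasedFunctor.comp (AlgSt.subIncl (FibCat.fp y f) Q') (FibCat.fpFst y f)) →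
        ∀ b, Q' b → Q b.obj.snd := by
  exact Groth.StkGerb.largest_smooth_baseChange h𝒳 h𝒴 h𝒴' f y hy hfp Q hQ₁ hQ₂ hQ₃

end Groth.Agent.S19909
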