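import Groth.Statements.S1991
import Groth.Agent.EtaleAlgebra.TameCompositum
import Mathlib.FieldTheory.Normal.Closure
-- import your own Groth.Agent.* helpers here

set_option autoImplicit false
universe u
open EtAlg

open Groth.EtaleAlgebra

namespace Groth.Agent.S1991

/-- Let A be a discrete valuation ring with fraction field K. A finite separable extension L/K that is
unramified (resp. tamely ramified) with respect to A embeds over K into a finite Galois extension of
K that is unramified (resp. tamely ramified) with respect to A; and two finite separable extensions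
of K that are unramified (resp. tamely ramified) with respect to A embed over K into a common finite
separable extension with the same property. -/
theorem result (A K : Type u) [CommRing A] [IsDomain A] [IsDiscreteValuationRing A] [Field K] [Algebra A K] [IsFractionRing A K] :
    (∀ (L : Type u) [Field L] [Algebra K L] [FiniteDimensional K L] [Algebra.IsSeparable K L],
      (EtRam.IsUnramifiedExt A ((algebraMap K L).comp (algebraMap A K)) →
        ∃ (M : Type u) (_ : Field M) (_ : Algebra K M) (_ : FiniteDimensional K M) (_ : IsGalois K M) (_ : L →ₐ[K] M),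
          EtRam.IsUnramifiedExt A ((algebraMap K M).comp (algebraMap A K))) ∧
      (EtRam.IsTamelyRamified A ((algebraMap K L).comp (algebraMap A K)) →
        ∃ (M : Type u) (_ : Field M) (_ : Algebra K M) (_ : FiniteDimensional K M) (_ : IsGalois K M) (_ : L →ₐ[K] M),
          EtRam.IsTamelyRamified A ((algebraMap K M).comp (algebraMap A K)))) ∧
    (∀ (L₁ L₂ : Type u) [Field L₁] [Field L₂] [Algebra K L₁] [Algebra K L₂] [FiniteDimensional K L₁] [FiniteDimensional K L₂]
      [Algebra.IsSeparable K L₁] [Algebra.IsSeparable K L₂],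
      (EtRam.IsUnramifiedExt A ((algebraMap K L₁).comp (algebraMap A K)) →
        EtRam.IsUnramifiedExt A ((algebraMap K L₂).comp (algebraMap A K)) →
        ∃ (M : Type u) (_ : Field M) (_ : Algebra K M) (_ : FiniteDimensional K M) (_ : Algebra.IsSeparable K M)
          (_ : L₁ →ₐ[K] M) (_ : L₂ →ₐ[K] M), EtRam.IsUnramifiedExt A ((algebraMap K M).comp (algebraMap A K))) ∧
      (EtRam.IsTamelyRamified A ((algebraMap K L₁).comp (algebraMap A K)) →
        EtRam.IsTamelyRamified A ((algebraMap K L₂).comp (algebraMap A K)) →
        ∃ (M : Type u) (_ : Field M) (_ : Algebra K M) (_ : FiniteDimensional K M) (_ : Algebra.IsSeparable K M)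
          (_ : L₁ →ₐ[K] M) (_ : L₂ →ₐ[K] M), EtRam.IsTamelyRamified A ((algebraMap K M).comp (algebraMap A K)))) := by
  classical
  let Ω := AlgebraicClosure K
  have htr : ∀ (L R : Type u) [Field L] [Field R] [Algebra K L] [Algebra K R]
      [FiniteDimensional K L] [Algebra.IsSeparable K L] (_ : L ≃ₐ[K] R),
      (EtRam.IsTamelyRamified A ((algebraMap K L).comp (algebraMap A K)) →
        EtRam.IsTamelyRamified A ((algebraMap K R).comp (algebraMap A K))) ∧
      (EtRam.IsUnramifiedExt A ((algebraMap K L).comp (algebraMap A K)) →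
        EtRam.IsUnramifiedExt A ((algebraMap K R).comp (algebraMap A K))) := by
    intro L R _ _ _ _ _ _ σ
    let : Algebra R L := σ.symm.toRingHom.toAlgebra
    have : IsScalarTower K R L := IsScalarTower.of_algebraMap_eq fun x => (σ.symm.commutes x).symm
    exact Groth.Agent.S1989.result A K R L
  refine ⟨fun L _ _ _ _ => ?_, fun L₁ L₂ _ _ _ _ _ _ _ _ => ?_⟩
  · have hne : Nonempty (L →ₐ[K] Ω) := ⟨IsAlgClosed.lift⟩
    have hN : IntermediateField.normalClosure K L Ω =
        Finset.univ.sup' Finset.univ_nonempty (fun f : L →ₐ[K] Ω => f.fieldRange) := by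
      rw [Finset.sup'_eq_sup, Finset.sup_univ_eq_iSup]
      rfl
    have key : ∀ (Q : IntermediateField K Ω → Prop),
        (∀ (E F : IntermediateField K Ω), FiniteDimensional K E → FiniteDimensional K F →
          Algebra.IsSeparable K E → Algebra.IsSeparable K F → Q E → Q F → Q (E ⊔ F)) →
        (∀ f : L →ₐ[K] Ω, Q f.fieldRange) →
        Q (IntermediateField.normalClosure K L Ω) := by
      intro Q hsup hf
      let R : IntermediateField K Ω → Prop := fun E =>
        FiniteDimensional K E ∧ Algebra.IsSeparable K E ∧ Q E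
      suffices R (IntermediateField.normalClosure K L Ω) from this.2.2
      rw [hN]
      refine Finset.sup'_induction (p := R) _ _ (fun E hE F hF => ?_) fun f _ => ?_
      · obtain ⟨_, _, hE⟩ := hE
        obtain ⟨_, _, hF⟩ := hF
        exact ⟨IntermediateField.finiteDimensional_sup E F,
          IntermediateField.isSeparable_sup K Ω E F,
          hsup E F ‹_› ‹_› ‹_› ‹_› hE hF⟩
      · let er : L ≃ₐ[K] f.fieldRange := AlgEquiv.ofInjectiveField f
        exact ⟨er.toLinearEquiv.finiteDimensional, AlgEquiv.Algebra.isSeparable er, hf f⟩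
    let M := IntermediateField.normalClosure K L Ω
    let er : ∀ f : L →ₐ[K] Ω, L ≃ₐ[K] f.fieldRange := fun f => AlgEquiv.ofInjectiveField f
    have hle : ∀ f : L →ₐ[K] Ω, f.fieldRange ≤ M := fun f => f.fieldRange_le_normalClosure
    obtain ⟨f₀⟩ := hne
    let j : L →ₐ[K] M := (IntermediateField.inclusion (hle f₀)).comp (er f₀).toAlgHom
    have : FiniteDimensional K M := normalClosure.is_finiteDimensional K L Ω
    have : Algebra.IsSeparable K M :=
      key (fun E => Algebra.IsSeparable K E)
        (fun E F _ _ _ _ _ _ => IntermediateField.isSeparable_sup K Ω E F)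
        (fun f => AlgEquiv.Algebra.isSeparable (er f))
    have : Normal K M := normalClosure.normal K L Ω
    have : IsGalois K M := ⟨⟩
    refine ⟨fun h => ⟨M, inferInstance, inferInstance, inferInstance, inferInstance, j, ?_⟩,
      fun h => ⟨M, inferInstance, inferInstance, inferInstance, inferInstance, j, ?_⟩⟩
    · exact key (fun E => EtRam.IsUnramifiedExt A ((algebraMap K E).comp (algebraMap A K)))
        (fun E F _ _ _ _ hE hF => TameComp.unramified_sup E F hE hF)
        (fun f => (htr L _ (er f)).2 h)
    · exact key (fun E => EtRam.IsTamelyRamified A ((algebraMap K E).comp (algebraMap A K)))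
        (fun E F _ _ _ _ hE hF => TameComp.tame_sup E F hE hF)
        (fun f => (htr L _ (er f)).1 h)
  · let f₁ : L₁ →ₐ[K] Ω := IsAlgClosed.lift
    let f₂ : L₂ →ₐ[K] Ω := IsAlgClosed.lift
    let e₁ : L₁ ≃ₐ[K] f₁.fieldRange := AlgEquiv.ofInjectiveField f₁
    let e₂ : L₂ ≃ₐ[K] f₂.fieldRange := AlgEquiv.ofInjectiveField f₂
    have : FiniteDimensional K f₁.fieldRange := e₁.toLinearEquiv.finiteDimensional
    have : FiniteDimensional K f₂.fieldRange := e₂.toLinearEquiv.finiteDimensional
    have : Algebra.IsSeparable K f₁.fieldRange := AlgEquiv.Algebra.isSeparable e₁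
    have : Algebra.IsSeparable K f₂.fieldRange := AlgEquiv.Algebra.isSeparable e₂
    let M := f₁.fieldRange ⊔ f₂.fieldRange
    have : FiniteDimensional K M := IntermediateField.finiteDimensional_sup _ _
    have : Algebra.IsSeparable K M := IntermediateField.isSeparable_sup K Ω _ _
    let j₁ : L₁ →ₐ[K] M := (IntermediateField.inclusion le_sup_left).comp e₁.toAlgHom
    let j₂ : L₂ →ₐ[K] M := (IntermediateField.inclusion le_sup_right).comp e₂.toAlgHom
    refine ⟨fun h₁ h₂ => ⟨M, inferInstance, inferInstance, inferInstance, inferInstance, j₁, j₂, ?_⟩,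
      fun h₁ h₂ => ⟨M, inferInstance, inferInstance, inferInstance, inferInstance, j₁, j₂, ?_⟩⟩
    · exact TameComp.unramified_sup _ _ ((htr L₁ _ e₁).2 h₁) ((htr L₂ _ e₂).2 h₂)
    · exact TameComp.tame_sup _ _ ((htr L₁ _ e₁).1 h₁) ((htr L₂ _ e₂).1 h₂)

end Groth.Agent.S1991
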