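import Groth.Statements.S19912
import Groth.Agent.Ega4Algebra1.RegularLocal

set_option autoImplicit false
set_option linter.unusedSimpArgs false
universe u
open CategoryTheory CategoryTheory.Limits AlgebraicGeometry
open Models

namespace Groth.Agent.S19912

/-- Let R be a discrete valuation ring with fraction field K and YR a scheme over Spec R. Let V be a
discrete valuation ring which is an R-algebra in such a way that the maximal ideal of R generates
the maximal ideal of V (ramification index one), and let σ : Spec V -> YR be a morphism over Spec R
sending the closed point of Spec V to y. If the local ring of YR at y is regular, then the local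
ring at y of the special fibre of YR, namely O_{YR,y}/𝔪_R O_{YR,y}, is regular. (The published
statement takes YR a normal projective flat model of a smooth projective geometrically connected
curve Y over K and phrases the hypothesis through a point Q of Y rational over an extension L of K
unramified over K with y in the closure of Q: by the valuative criterion such a point yields a
morphism as above from the spectrum of the localization of the integral closure of R in L at a
maximal ideal over y, which is the form used here.) -/
theorem result
    (R : Type u) [CommRing R] [IsDomain R] [IsDiscreteValuationRing R]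
    (YR : Over (Spec (CommRingCat.of R)))
    (V : Type u) [CommRing V] [IsDomain V] [IsDiscreteValuationRing V] [Algebra R V]
    (hV : Ideal.map (algebraMap R V) (IsLocalRing.maximalIdeal R) = IsLocalRing.maximalIdeal V)
    (σ : Spec (CommRingCat.of V) ⟶ YR.left)
    (hσ : σ ≫ YR.hom = Spec.map (CommRingCat.ofHom (algebraMap R V)))
    (y : YR.left) (hy : σ.base (IsLocalRing.closedPoint V) = y)
    (hreg : IsRegularLocalRing (YR.left.presheaf.stalk y)) :
    IsRegularLocalRing (YR.left.presheaf.stalk y ⧸
      Ideal.map (Models.stalkHom R YR y) (IsLocalRing.maximalIdeal R)) := by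
  subst hy
  obtain ⟨π, hπ⟩ := IsDiscreteValuationRing.exists_irreducible R
  let y := σ.base (IsLocalRing.closedPoint V)
  let φ := (Scheme.stalkClosedPointTo σ).hom
  let t : YR.left.presheaf.stalk y := Models.stalkHom R YR y π
  have hφt : φ t = algebraMap R V π := by
    have e1 : YR.left.presheaf.germ ⊤ y trivial ≫ Scheme.stalkClosedPointTo σ =
        σ.appTop ≫ (Scheme.ΓSpecIso (CommRingCat.of V)).hom := by
      refine (Scheme.germ_stalkClosedPointTo σ ⊤ trivial).trans ?_
      simp [Scheme.Hom.appTop]
      all_goals congr 1
    have e2 : (Spec.map (CommRingCat.ofHom (algebraMap R V))).appTop ≫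
        (Scheme.ΓSpecIso (CommRingCat.of V)).hom =
        (Scheme.ΓSpecIso (CommRingCat.of R)).hom ≫ CommRingCat.ofHom (algebraMap R V) :=
      Scheme.ΓSpecIso_naturality _
    rw [← hσ, Scheme.Hom.comp_appTop, Category.assoc] at e2
    refine (congr(($e1) (Coh.toGlobal YR.hom π))).trans ?_
    refine (congr(($e2) ((Scheme.ΓSpecIso (CommRingCat.of R)).inv π))).trans ?_
    change algebraMap R V ((Scheme.ΓSpecIso (CommRingCat.of R)).hom
      ((Scheme.ΓSpecIso (CommRingCat.of R)).inv π)) = _
    rw [← CommRingCat.comp_apply, Iso.inv_hom_id]
    rfl
  have hπV : Ideal.span {algebraMap R V π} = IsLocalRing.maximalIdeal V := by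
    rw [← hV, hπ.maximalIdeal_eq, Ideal.map_span, Set.image_singleton]
  have hloc : IsLocalHom φ := inferInstance
  have ht : t ∈ IsLocalRing.maximalIdeal _ := by
    rw [IsLocalRing.mem_maximalIdeal, mem_nonunits_iff]
    intro hu
    have h1 := hu.map φ
    rw [hφt] at h1
    exact (IsLocalRing.maximalIdeal.isMaximal V).ne_top
      (hπV.symm.trans (Ideal.span_singleton_eq_top.2 h1))
  have ht2 : t ∉ IsLocalRing.maximalIdeal _ ^ 2 := by
    intro h
    have h1 : φ t ∈ IsLocalRing.maximalIdeal V ^ 2 := by
      have h2 := Ideal.mem_map_of_mem φ h
      rw [Ideal.map_pow] at h2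
      exact Ideal.pow_right_mono (((IsLocalRing.local_hom_TFAE φ).out 0 2).1 hloc) 2 h2
    rw [hφt] at h1
    have h3 : IsLocalRing.maximalIdeal V ≤ IsLocalRing.maximalIdeal V ^ 2 :=
      le_of_eq_of_le hπV.symm ((Ideal.span_singleton_le_iff_mem _).2 h1)
    exact Groth.Ega4Algebra1.maximalIdeal_not_le_sq
      (IsDiscreteValuationRing.not_a_field V) h3
  rw [hπ.maximalIdeal_eq, Ideal.map_span, Set.image_singleton]
  exact (Groth.Ega4Algebra1.isRegularLocalRing_quotient_span_singleton ht ht2).1

end Groth.Agent.S19912
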