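import Groth.Statements.S19917
import Groth.Agent.SGA7.TameField
import Mathlib.RingTheory.RamificationInertia.Ramification
import Mathlib.RingTheory.DedekindDomain.IntegralClosure

set_option autoImplicit false
universe u
open CategoryTheory CategoryTheory.Limits AlgebraicGeometry MonObj
open SGA7

namespace Groth.Agent.S19917

/-- Let R be a discrete valuation ring with fraction field K and residue field k, Ω a separable closure
of K and W a valuation subring of Ω lying over R. Assume that every K-automorphism of Ω belongs to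
the inertia group at W, i.e. K coincides with its maximal extension inside Ω at which the
restriction of W is unramified over R. Let r ≥ 1 be an integer whose image in k is non-zero. Then
there is exactly one intermediate field L of Ω over K with [L : K] = r and L Galois over K; moreover
every such L is totally (and tamely) ramified over R: every maximal ideal of the integral closure of
R in L has ramification index r over R. -/
theorem result (R K Ω : Type u) [CommRing R] [IsDomain R]
    [IsDiscreteValuationRing R] [Field K] [Algebra R K] [IsFractionRing R K] [Field Ω] [Algebra K Ω]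
    [IsSepClosure K Ω] [Algebra R Ω] [IsScalarTower R K Ω]
    (W : ValuationSubring Ω) (hW : SGA7.LiesOver K R W)
    (hI : ∀ σ : Ω ≃ₐ[K] Ω, SGA7.IsInertia W σ)
    (r : ℕ) (hr : 0 < r) (hrk : (r : IsLocalRing.ResidueField R) ≠ 0) :
    (∃! L : IntermediateField K Ω, Module.finrank K L = r ∧ IsGalois K L) ∧
      ∀ L : IntermediateField K Ω, Module.finrank K L = r → IsGalois K L →
        ∀ P : Ideal (integralClosure R L), P.IsMaximal → P.ramificationIdx R = r := by
  classical
  haveI : Algebra.IsSeparable K Ω := IsSepClosure.separable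
  haveI : IsSepClosed Ω := IsSepClosure.sep_closed K
  haveI : IsGalois K Ω := IsSepClosure.isGalois
  obtain ⟨ϖ, hϖ⟩ := IsDiscreteValuationRing.exists_irreducible R
  have hst := Groth.SGA7.TameField.stable hI
  have hres := Groth.SGA7.TameField.natCast_ne_zero hW hI hrk
  haveI : NeZero (r : Ω) := ⟨fun h => hres (by rw [h, Groth.SGA7.Inertia.res_of_mem W.zero_mem]; exact map_zero _)⟩
  obtain ⟨ρ, hρ⟩ := IsSepClosed.exists_pow_nat_eq (algebraMap R Ω ϖ) r
  set L := IntermediateField.adjoin K {ρ} with hLdef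
  haveI : FiniteDimensional K L := IntermediateField.adjoin.finiteDimensional (Algebra.IsIntegral.isIntegral ρ)
  have hρL : ρ ∈ L := IntermediateField.mem_adjoin_simple_self K ρ
  have hfin : Module.finrank K L = r := Groth.SGA7.TameField.finrank_kummer hϖ hr hρ
  have hπ : algebraMap R Ω ϖ ≠ 0 := by
    rw [IsScalarTower.algebraMap_apply R K Ω]
    exact (map_ne_zero _).mpr ((map_ne_zero_iff _ (IsFractionRing.injective R K)).mpr hϖ.ne_zero)
  have hρ0 : ρ ≠ 0 := by
    rintro rfl
    rw [zero_pow hr.ne'] at hρ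
    exact hπ hρ.symm
  haveI hnormal : Normal K L := IntermediateField.normal_iff_forall_map_le'.mpr fun σ => by
    rw [hLdef, IntermediateField.adjoin_map, Set.image_singleton, IntermediateField.adjoin_simple_le_iff]
    obtain ⟨c, hc⟩ := Groth.SGA7.TameField.root_of_unity_mem hW hI hres (ζ := σ ρ / ρ) (by
      rw [div_pow, ← map_pow, hρ, IsScalarTower.algebraMap_apply R K Ω, AlgEquiv.commutes,
        ← IsScalarTower.algebraMap_apply, div_self hπ])
    rw [eq_div_iff hρ0] at hc
    change σ ρ ∈ IntermediateField.adjoin K {ρ}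
    rw [← hc]
    exact mul_mem (IntermediateField.algebraMap_mem _ c) hρL
  haveI : Algebra.IsSeparable K L := Algebra.isSeparable_tower_bot_of_isSeparable K L Ω
  have hgal : IsGalois K L := ⟨⟩
  have uniq : ∀ L' : IntermediateField K Ω, Module.finrank K L' = r → IsGalois K L' → L' = L := by
    intro L' hr' hL'
    haveI : FiniteDimensional K L' := FiniteDimensional.of_finrank_pos (by omega)
    have hle : L' ≤ L := by
      intro x hx
      rw [← InfiniteGalois.fixedField_fixingSubgroup L, IntermediateField.mem_fixedField_iff]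
      intro σ hσ
      have hσρ : σ ρ = ρ := (IntermediateField.mem_fixingSubgroup_iff _ _).mp hσ ρ hρL
      refine Groth.SGA7.StableVal.fix_of_wild hst hres L' (fun y hy => ?_) (fun y hy => ?_) (fun y hy hy0 => ?_) hx
      · have h := AlgEquiv.restrictNormal_commutes σ L' ⟨y, hy⟩
        change ((AlgEquiv.restrictNormal σ L' ⟨y, hy⟩ : L') : Ω) = σ y at h
        rw [← h]; exact (AlgEquiv.restrictNormal σ L' ⟨y, hy⟩).2
      · have h1 : (AlgEquiv.restrictNormalHom L' σ) ^ r = 1 := by
          have hc : Nat.card (L' ≃ₐ[K] L') = r := (IsGalois.card_aut_eq_finrank K L').trans hr'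
          rw [← hc]; exact pow_card_eq_one'
        rw [← map_pow] at h1
        have h := AlgEquiv.restrictNormal_commutes (σ ^ r) L' ⟨y, hy⟩
        change ((AlgEquiv.restrictNormalHom L' (σ ^ r) ⟨y, hy⟩ : L') : Ω) = (σ ^ r) y at h
        rw [← h, h1]
        rfl
      · obtain ⟨i, hi⟩ := Groth.SGA7.TameField.exists_zpow_of_mem hW hI hϖ L' hy hy0
        rw [hr'] at hi
        exact Groth.SGA7.TameField.res_eq_one_of_fix hW hI hϖ hr hρ hσρ hy0 hi
    exact IntermediateField.eq_of_le_of_finrank_eq hle (hr'.trans hfin.symm)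
  refine ⟨⟨L, ⟨hfin, hgal⟩, fun L' h => uniq L' h.1 h.2⟩, fun L' hr' hL' P hP => ?_⟩
  obtain rfl := uniq L' hr' hL'
  haveI := hP
  -- the integral closure in `L`
  let B := integralClosure R L
  have hmemB : ∀ x : L, (x : Ω) ∈ W → x ∈ B := fun x hx =>
    (isIntegral_algHom_iff (L.val.restrictScalars R) L.val.injective).mp
      (Groth.SGA7.TameField.isIntegral_of_mem hW hI hx)
  have hBmem : ∀ b : B, W.valuation ((b : L) : Ω) ≤ 1 := fun b => by
    rw [ValuationSubring.valuation_le_one_iff]
    have hint : IsIntegral R ((b : L) : Ω) := b.2.map (L.val.restrictScalars R)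
    letI : Algebra R W := ((algebraMap R Ω).codRestrict W.toSubring (Groth.SGA7.TameField.algebraMap_mem hW)).toAlgebra
    haveI : IsScalarTower R W Ω := IsScalarTower.of_algebraMap_eq fun _ => rfl
    obtain ⟨w, hw⟩ := IsIntegrallyClosed.isIntegral_iff.mp (hint.tower_top (A := W))
    rw [← hw]; exact w.2
  have hvπ : W.valuation (algebraMap R Ω ϖ) < 1 := by
    rw [IsScalarTower.algebraMap_apply R K Ω]
    exact hW.2 ϖ ((IsLocalRing.mem_maximalIdeal ϖ).mpr hϖ.not_isUnit)
  have hvρ : W.valuation ρ < 1 := by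
    by_contra h
    push Not at h
    have h2 := one_le_pow₀ (n := r) h
    rw [← map_pow, hρ] at h2
    exact absurd hvπ (not_lt.mpr h2)
  let ρB : B := ⟨⟨ρ, hρL⟩, hmemB _ ((W.valuation_le_one_iff ρ).mp hvρ.le)⟩
  have hρB : ρB ^ r = algebraMap R B ϖ := Subtype.ext (Subtype.ext hρ)
  have hρu : ¬ IsUnit ρB := fun hu => by
    obtain ⟨b, hb⟩ := hu.exists_right_inv
    have h1 := congrArg (fun b : B => W.valuation ((b : L) : Ω)) hb
    have h2 : W.valuation (ρ * ((b : L) : Ω)) = 1 := h1.trans (map_one _)
    rw [map_mul] at h2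
    exact absurd h2 (lt_of_le_of_lt (mul_le_of_le_one_right' (hBmem b)) hvρ).ne
  have hdiv : ∀ b : B, ¬ IsUnit b → b ∈ Ideal.span {ρB} := fun b hb => by
    rcases eq_or_ne b 0 with rfl | hb0
    · exact zero_mem _
    set x : Ω := ((b : L) : Ω) with hx
    have hx0 : x ≠ 0 := fun h => hb0 (Subtype.ext (Subtype.ext h))
    have hlt : W.valuation x < 1 := lt_of_le_of_ne (hBmem b) fun h1 => by
      apply hb
      have hmem : ((b : L)⁻¹ : L) ∈ B := hmemB _ (by
        push_cast
        exact (W.valuation_le_one_iff _).mp (by rw [map_inv₀, ← hx, h1, inv_one]))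
      exact isUnit_iff_exists_inv.mpr ⟨⟨_, hmem⟩, Subtype.ext (mul_inv_cancel₀ fun h => hb0 (Subtype.ext h))⟩
    obtain ⟨i, hi⟩ := Groth.SGA7.TameField.exists_zpow_of_mem hW hI hϖ L (b : L).2 hx0
    rw [hfin] at hi
    have hi1 : 1 ≤ i := by
      by_contra hlt'
      push Not at hlt'
      have h3 : W.valuation x ^ r < 1 := pow_lt_one₀ zero_le' hlt hr.ne'
      rw [hi, ← inv_inv (W.valuation (algebraMap R Ω ϖ)), inv_zpow', inv_zpow'] at h3
      simp only [neg_neg] at h3
      rw [show i = -((-i).toNat : ℤ) by omega, zpow_neg, zpow_natCast] at h3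
      exact absurd h3 (not_lt.mpr ((one_le_inv₀ (pow_pos (zero_lt_iff.mpr ((Valuation.ne_zero_iff _).mpr hπ)) _)).mpr
        (pow_le_one₀ zero_le' hvπ.le)))
    have hle : W.valuation x ≤ W.valuation ρ := by
      rw [← pow_le_pow_iff_left₀ zero_le' zero_le' hr.ne', hi, ← map_pow _ ρ r, hρ]
      rw [show i = (i.toNat : ℤ) by omega, zpow_natCast]
      exact pow_le_of_le_one zero_le' hvπ.le (by omega)
    have hz : W.valuation (x / ρ) ≤ 1 := by
      rw [map_div₀, div_le_one₀ (zero_lt_iff.mpr ((Valuation.ne_zero_iff _).mpr hρ0))]; exact hle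
    let z : B := ⟨(b : L) / ⟨ρ, hρL⟩, hmemB _ (by push_cast; exact (W.valuation_le_one_iff _).mp hz)⟩
    refine Ideal.mem_span_singleton.mpr ⟨z, ?_⟩
    exact Subtype.ext (mul_div_cancel₀ _ fun h => hρ0 (congrArg Subtype.val h)).symm
  have hϖP : algebraMap R B ϖ ∈ P := by
    haveI : Algebra.IsIntegral R B := inferInstanceAs (Algebra.IsIntegral R (integralClosure R L))
    have hmax : (P.comap (algebraMap R B)).IsMaximal := Ideal.isMaximal_comap_of_isIntegral_of_isMaximal P
    have := IsLocalRing.eq_maximalIdeal hmax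
    exact (show ϖ ∈ P.comap (algebraMap R B) by rw [this]; exact (IsLocalRing.mem_maximalIdeal ϖ).mpr hϖ.not_isUnit)
  rw [← hρB] at hϖP
  have hρP : ρB ∈ P := hP.isPrime.mem_of_pow_mem r hϖP
  have hPeq : P = Ideal.span {ρB} :=
    le_antisymm (fun b hb => hdiv b fun hu => hP.ne_top (Ideal.eq_top_of_isUnit_mem P hb hu))
      ((Ideal.span_singleton_le_iff_mem _).mpr hρP)
  haveI : IsDedekindDomain B := integralClosure.isDedekindDomain R K L
  haveI : P.LiesOver (IsLocalRing.maximalIdeal R) := ⟨by
    haveI : Algebra.IsIntegral R B := inferInstanceAs (Algebra.IsIntegral R (integralClosure R L))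
    exact (IsLocalRing.eq_maximalIdeal (Ideal.isMaximal_comap_of_isIntegral_of_isMaximal P)).symm⟩
  have hmap : (IsLocalRing.maximalIdeal R).map (algebraMap R B) = Ideal.span {ρB ^ r} := by
    rw [hϖ.maximalIdeal_eq, Ideal.map_span, Set.image_singleton, hρB]
  have hρne : ρB ≠ 0 := fun h => hρ0 (congrArg (fun b : B => ((b : L) : Ω)) h)
  rw [← Ideal.ramificationIdx'_eq_ramificationIdx' (p := IsLocalRing.maximalIdeal R) (q := P) (by
    rw [hmap, Ne, Ideal.span_singleton_eq_bot]; exact pow_ne_zero _ hρne)]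
  refine Ideal.ramificationIdx'_spec (by rw [hmap, hPeq, Ideal.span_singleton_pow]) ?_
  rw [hmap, hPeq, Ideal.span_singleton_pow, Ideal.span_singleton_le_span_singleton]
  rintro ⟨c, hc⟩
  refine hρu (isUnit_iff_exists_inv.mpr ⟨c, mul_left_cancel₀ (pow_ne_zero r hρne) ?_⟩)
  rw [_root_.mul_one, ← _root_.mul_assoc, ← pow_succ, ← hc]

end Groth.Agent.S19917
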