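import Groth.Statements.S19918
import Groth.Agent.ModelsGraphs.InterTorsion

set_option autoImplicit false
set_option linter.unusedSimpArgs false
universe u
open CategoryTheory CategoryTheory.Limits AlgebraicGeometry
open Models

namespace Groth.Agent.S19918

/-- Kernel of Pic(X)[n] → Pic(C)[n]: let R be a discrete valuation ring with fraction field K, C a
smooth proper curve over K with H^0(C, O_C) = K, X a regular proper model of C with generic-fibre
inclusion g : C → X, Γ_1, …, Γ_n the irreducible components of the closed fibre with multiplicities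
m_1, …, m_n, d = gcd(m_1, …, m_n), and L_i invertible O_X-modules with L_i ⊗ I(Γ_i) ≅ O_X (that is,
L_i = O_X(Γ_i)). Let h ≥ 1 and put e = gcd(h, d). If M is an invertible O_X-module with M^{⊗h} ≅ O_X
whose pullback to C is trivial, then there is exactly one natural number k < e with M ≅ L_1^{k
m_1/e} ⊗ ⋯ ⊗ L_n^{k m_n/e} = O_X(k·(1/e)·X_s). In other words the kernel of Pic(X)[h] → Pic(C)[h] is
cyclic of order gcd(h, d), generated by the class of O_X((1/e)·X_s). -/
theorem result (R : Type u) [CommRing R] [IsDomain R] [IsDiscreteValuationRing R]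
    (C X : Scheme.{u}) (f : C ⟶ Spec (CommRingCat.of (FractionRing R))) (p : X ⟶ Spec (CommRingCat.of R))
    (hC : Curve.IsSmoothProperCurve (FractionRing R) C f) (hH0 : IsIso f.appTop)
    (hX : Models.IsRegularProperModel R X p C f)
    {n : ℕ} (Γ : Fin n → ArSurf.VertComp R (Over.mk p)) (hΓ : Models.IsComponentList R (Over.mk p) Γ)
    (g : C ⟶ X) (hg : IsPullback g f p (Spec.map (CommRingCat.ofHom (algebraMap R (FractionRing R)))))
    (L : Fin n → X.Modules) (hL : ∀ i, ClSub.IsInverseOf (L i) (ClSub.idealMod (Γ i).ι.ker))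
    (h : ℕ) (hh : 0 < h)
    (M : X.Modules) (hM : PicF.IsInvertible M)
    (htors : Nonempty (CohB1.tensorPow M h ≅ Coh.structureModule X))
    (htriv : Nonempty ((Scheme.Modules.pullback g).obj M ≅ Coh.structureModule C)) :
    ∃! k : ℕ, k < Nat.gcd h (Models.multGcd R (Over.mk p) Γ) ∧
      Nonempty (M ≅ FGA.multiTwist L (fun i => k * (Models.mult R (Over.mk p) (Γ i) / Nat.gcd h (Models.multGcd R (Over.mk p) Γ)))) := by
  obtain ⟨S, rfl, rfl⟩ := Groth.ModelsGraphs.InterLattice.exists_sit f p hH0 hX Γ hΓ L hL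
  haveI : IsIntegral C := hC.2.2.1
  have htors' := (Groth.Abvar.PicCalc.nonempty_iso_structure_iff (Groth.Abvar.PicCalc.isInvertible_tensorPow hM h)).1 htors
  rw [Groth.Abvar.PicCalc.cls_tensorPow hM h] at htors'
  have key : ∀ a : Fin n → ℕ, Nonempty (M ≅ FGA.multiTwist S.L a) ↔
      Groth.Abvar.PicCalc.cls hM = S.vtw (fun i => (a i : ℤ)) := fun a => by
    obtain ⟨h1, e1⟩ := S.exists_cls_multiTwist a
    rw [Groth.Abvar.PicCalc.nonempty_iso_iff hM h1, e1]
  have hex := Groth.ModelsGraphs.InterTorsion.exists_eq_vtw_of_pow_eq_one S f g hg hM hh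
    (by rw [Groth.Abvar.PicCalc.pull_cls, ← Groth.Abvar.PicCalc.nonempty_iso_structure_iff]; exact htriv) htors'
  refine (existsUnique_congr fun k => and_congr Iff.rfl (key _)).2 ?_
  exact hex

end Groth.Agent.S19918
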