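import Groth.Statements.S19923
import Groth.Agent.Abvar.Dual.TransposePoincare

set_option autoImplicit false
universe u
open CategoryTheory CategoryTheory.Limits MonoidalCategory CartesianMonoidalCategory MonObj GrpObj AlgebraicGeometry
open AbVar

namespace Groth.Agent.S19923

/-- Let A be an abelian variety over a field k (a proper, geometrically integral commutative k-group
scheme; k arbitrary), given with a dual (Â, φ_A) and a dual (Â̂, φ_Â) of Â — each represents the
fppf-sheafified functor of invertible classes algebraically equivalent to zero on geometric fibres,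
with φ multiplicative — and with a Poincaré class ξ on A ×_k Â whose transpose ξ' on Â ×_k A lies in
Pic⁰ on the fibres over A; put ι_A = φ_Â(ξ') : A → Â̂ (the double-duality morphism). Let L be an
invertible O_A-module with an inverse L⁻¹, and let Λ be a module on A ×_k A isomorphic to m^*L ⊗
p₁^*L⁻¹ ⊗ p₂^*L⁻¹ (m the group law, p₁, p₂ the projections) whose class lies in Pic⁰ on the fibres
over the second factor, so that φ_L := φ_A(Λ) : A → Â is the homomorphism a ↦ t_a^*L ⊗ L⁻¹. If φ̂_L
: Â̂ → Â is a transpose of φ_L (φ_A of the pull-back of a Pic⁰ class c along (φ_L)_T equals φ_Â(c)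
followed by φ̂_L), then φ_L = ι_A followed by φ̂_L: the homomorphism φ_L is symmetric. -/
theorem result (K : Type u) [Field K]
    (A At Att : Over (Spec (CommRingCat.of K)))
    [GrpObj A] [IsCommMonObj A] [IsProper A.hom] [GeometricallyIntegral A.hom]
    [GrpObj At] [IsCommMonObj At] [IsProper At.hom] [GeometricallyIntegral At.hom]
    [GrpObj Att] [IsCommMonObj Att] [IsProper Att.hom] [GeometricallyIntegral Att.hom]
    (φA : ∀ T : Over (Spec (CommRingCat.of K)), PicF.Cl (PicF.XT A.hom T) → (T ⟶ At))
    (hAt : AbDual.IsDualAV Scheme.fppfPrecoverage A At φA)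
    (φAt : ∀ T : Over (Spec (CommRingCat.of K)), PicF.Cl (PicF.XT At.hom T) → (T ⟶ Att))
    (hAtt : AbDual.IsDualAV Scheme.fppfPrecoverage At Att φAt)
    (ξ : PicF.Cl (PicF.XT A.hom At)) (hξ : AbDual.IsPoincareCl A At φA ξ)
    (hξ' : AbDual.IsPicZeroCl At.hom A (PicF.pullCl (pullbackSymmetry At.hom A.hom).hom ξ))
    (L Linv : A.left.Modules) (hL : PicF.IsInvertible L)
    (hLinv : Nonempty (CohB1.tensorMod L Linv ≅ Coh.structureModule A.left))
    (Λ : (PicF.XT A.hom A).Modules)
    (hΛ : Nonempty (Λ ≅ CohB1.tensorMod (CohB1.tensorMod ((Scheme.Modules.pullback (μ[A]).left).obj L)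
      ((Scheme.Modules.pullback (fst A A).left).obj Linv)) ((Scheme.Modules.pullback (snd A A).left).obj Linv)))
    (hΛ0 : AbDual.IsPicZeroCl A.hom A (PicF.cl Λ))
    (tl : Att ⟶ At) [IsMonHom tl]
    (htl : AbDual.IsTranspose (φA A (PicF.cl Λ)) φA φAt tl) :
    φA A (PicF.cl Λ) = φAt A (PicF.pullCl (pullbackSymmetry At.hom A.hom).hom ξ) ≫ tl := by
  have : IsLocallyNoetherian A.left := LocallyOfFiniteType.isLocallyNoetherian A.hom
  have : IsReduced A.left := GeometricallyReduced.isReduced_of_flat_of_isLocallyNoetherian A.hom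
  obtain ⟨e⟩ := hΛ
  have hLi : PicF.IsInvertible Linv := Groth.Abvar.PicCalc.isInvertible_of_tensorMod hL
    (Groth.Abvar.PicCalc.isInvertible_of_iso (PicLoc.isInvertible_structureModule _) hLinv.some.symm)
  open Groth.Abvar.PicCalc Groth.Abvar.Dual in
  exact by
    let μ₀ : (A ⊗ A).left ⟶ A.left := (μ[A]).left
    have hμ := PicLoc.isInvertible_pullback μ₀ hL
    have h1 := PicLoc.isInvertible_pullback (fst A A).left hLi
    have h2 := PicLoc.isInvertible_pullback (snd A A).left hLi
    have hΛi : PicF.IsInvertible Λ :=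
      isInvertible_of_iso (isInvertible_tensorMod (isInvertible_tensorMod hμ h1) h2) e.symm
    have hli : cls hLi = (cls hL)⁻¹ := by
      refine eq_inv_of_mul_eq_one_right ?_
      rw [← cls_tensorMod hL hLi, ← nonempty_iso_structure_iff]
      exact hLinv
    let l := cls hL
    have hc : (cls hΛi : PicLoc.PicSet (A ⊗ A).left) =
        opull μ[A] l * (opull (fst A A) l * opull (snd A A) l)⁻¹ := by
      refine ((nonempty_iso_iff hΛi (isInvertible_tensorMod (isInvertible_tensorMod hμ h1) h2)).1 ⟨e⟩).trans ?_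
      refine (cls_tensorMod (isInvertible_tensorMod hμ h1) h2).trans ?_
      refine (congrArg (· * _) (cls_tensorMod hμ h1)).trans ?_
      rw [← pull_cls μ₀ hL, ← pull_cls _ hLi, ← pull_cls _ hLi, hli, map_inv, map_inv, _root_.mul_inv]
      exact _root_.mul_assoc _ _ _
    let sw : A ⊗ A ⟶ A ⊗ A := lift (snd A A) (fst A A)
    have hsw : (pullbackSymmetry A.hom A.hom).hom = sw.left := by
      refine pullback.hom_ext ?_ ?_
      · rw [pullbackSymmetry_hom_comp_fst]
        exact (congrArg Over.Hom.left (lift_fst (snd A A) (fst A A))).symm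
      · rw [pullbackSymmetry_hom_comp_snd]
        exact (congrArg Over.Hom.left (lift_snd (snd A A) (fst A A))).symm
    let s : A ⟶ A ⊗ A := lift (1 : A ⟶ A) (𝟙 A)
    have hs : PicF.secT A.hom η[A].left (Over.w η[A]) A = s.left := by
      refine pullback.hom_ext ?_ ?_
      · refine (pullback.lift_fst _ _ _).trans ?_
        exact ((congrArg Over.Hom.left (lift_fst (1 : A ⟶ A) (𝟙 A))).trans (by
          rw [Hom.one_def, Over.comp_left, Over.toUnit_left])).symm
      · refine (pullback.lift_snd _ _ _).trans ?_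
        exact (congrArg Over.Hom.left (lift_snd (1 : A ⟶ A) (𝟙 A))).symm
    have hsym : opull sw (cls hΛi : PicLoc.PicSet (A ⊗ A).left) = cls hΛi := by
      have h3 : sw ≫ μ[A] = μ[A] := by
        show snd A A * fst A A = _
        rw [mul_comm, Hom.mul_def, lift_fst_snd, Category.id_comp]
      rw [hc, map_mul, map_inv, map_mul, ← opull_comp, ← opull_comp, ← opull_comp, h3, lift_fst, lift_snd,
        mul_comm (opull (snd A A) l)]
    have hsec : opull s (cls hΛi : PicLoc.PicSet (A ⊗ A).left) = 1 := by
      have h3 : s ≫ μ[A] = 𝟙 A := by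
        show (1 : A ⟶ A) * 𝟙 A = _
        rw [_root_.one_mul]
      rw [hc, map_mul, map_inv, map_mul, ← opull_comp, ← opull_comp, ← opull_comp, h3, lift_fst, lift_snd,
        Groth.Abvar.PicCalc.opull_one, _root_.one_mul, mul_inv_cancel]
    obtain ⟨P, rfl, hP, -⟩ := hξ.1
    refine Groth.Abvar.Dual.TransposePoincare.main (c := cls hΛi) (c' := cls hΛi) (ξ := cls hP)
      hAt hAt hξ hξ' hΛ0 hΛ0 1 ?_ tl htl
    rw [map_one, _root_.mul_one, hsw, hs]
    refine Eq.trans ?_ (_root_.mul_one _)
    refine congrArg₂ (· * ·) hsym ?_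
    rw [show pull s.left (cls hΛi : PicLoc.PicSet (A ⊗ A).left) = 1 from hsec, map_one, inv_one]

end Groth.Agent.S19923
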