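import Groth.Statements.S19924
import Groth.Agent.ModelsGraphs.InterTorsion

set_option autoImplicit false
set_option linter.unusedSimpArgs false
universe u
open CategoryTheory CategoryTheory.Limits AlgebraicGeometry
open Models

open scoped Groth.Abvar.PicCalc
namespace Groth.Agent.S19924

/-- Let R be a discrete valuation ring with fraction field K, C a smooth proper curve over K with H^0(C,
O_C) = K, X a regular proper model of C with generic-fibre inclusion g : C → X, Γ_1, …, Γ_n the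
irreducible components of the closed fibre with multiplicities m_1, …, m_n, and L_i invertible
O_X-modules with L_i ⊗ I(Γ_i) ≅ O_X. Let h ≥ 1, let N be an invertible O_C-module with N^{⊗h} ≅ O_C,
let M be an invertible O_X-module whose pullback to C is N, and let a, b be exponent vectors with
M^{⊗h} ⊗ L_1^{a_1} ⊗ ⋯ ⊗ L_n^{a_n} ≅ L_1^{b_1} ⊗ ⋯ ⊗ L_n^{b_n}, i.e. M^{⊗h} ≅ O_X(Σ (b_i − a_i)
Γ_i). Then N is the pullback of some invertible O_X-module M' with M'^{⊗h} ≅ O_X if and only if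
there are integers c_1, …, c_n and e with b_i − a_i = h c_i + e m_i for all i: the class of Σ (b_i −
a_i) Γ_i modulo h ℤ^n + ℤ·(m_1, …, m_n) is the obstruction to lifting the h-torsion class N to an
h-torsion class on X. -/
theorem result (R : Type u) [CommRing R] [IsDomain R] [IsDiscreteValuationRing R]
    (C X : Scheme.{u}) (f : C ⟶ Spec (CommRingCat.of (FractionRing R))) (p : X ⟶ Spec (CommRingCat.of R))
    (hC : Curve.IsSmoothProperCurve (FractionRing R) C f) (hH0 : IsIso f.appTop)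
    (hX : Models.IsRegularProperModel R X p C f)
    {n : ℕ} (Γ : Fin n → ArSurf.VertComp R (Over.mk p)) (hΓ : Models.IsComponentList R (Over.mk p) Γ)
    (g : C ⟶ X) (hg : IsPullback g f p (Spec.map (CommRingCat.ofHom (algebraMap R (FractionRing R)))))
    (L : Fin n → X.Modules) (hL : ∀ i, ClSub.IsInverseOf (L i) (ClSub.idealMod (Γ i).ι.ker))
    (h : ℕ) (hh : 0 < h)
    (N : C.Modules) (hN : PicF.IsInvertible N) (hNt : Nonempty (CohB1.tensorPow N h ≅ Coh.structureModule C))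
    (M : X.Modules) (hM : PicF.IsInvertible M) (hMN : Nonempty ((Scheme.Modules.pullback g).obj M ≅ N))
    (a b : Fin n → ℕ)
    (hab : Nonempty (CohB1.tensorMod (CohB1.tensorPow M h) (FGA.multiTwist L a) ≅ FGA.multiTwist L b)) :
    (∃ M' : X.Modules, PicF.IsInvertible M' ∧ Nonempty (CohB1.tensorPow M' h ≅ Coh.structureModule X) ∧
        Nonempty ((Scheme.Modules.pullback g).obj M' ≅ N)) ↔
      ∃ (c : Fin n → ℤ) (e : ℤ), ∀ i, ((b i : ℤ) - (a i : ℤ)) = (h : ℤ) * c i + e * (Models.mult R (Over.mk p) (Γ i) : ℤ) := by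
  obtain ⟨S, rfl, rfl⟩ := Groth.ModelsGraphs.InterLattice.exists_sit f p hH0 hX Γ hΓ L hL
  have hpow : ∀ {M' : X.Modules} (h' : PicF.IsInvertible M'),
      (Nonempty (CohB1.tensorPow M' h ≅ Coh.structureModule X) ↔ Groth.Abvar.PicCalc.cls h' ^ h = 1) :=
    fun h' => by
      rw [Groth.Abvar.PicCalc.nonempty_iso_structure_iff (Groth.Abvar.PicCalc.isInvertible_tensorPow h' h),
        Groth.Abvar.PicCalc.cls_tensorPow h' h]
  have hpull : ∀ {M' : X.Modules} (h' : PicF.IsInvertible M'),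
      (Nonempty ((Scheme.Modules.pullback g).obj M' ≅ N) ↔
        Groth.Abvar.PicCalc.pull g (Groth.Abvar.PicCalc.cls h') = Groth.Abvar.PicCalc.pull g (Groth.Abvar.PicCalc.cls hM)) :=
    fun h' => by
      rw [Groth.Abvar.PicCalc.pull_cls, Groth.Abvar.PicCalc.pull_cls, ← Groth.Abvar.PicCalc.nonempty_iso_iff]
      exact ⟨fun ⟨e⟩ => ⟨e ≪≫ hMN.some.symm⟩, fun ⟨e⟩ => ⟨e ≪≫ hMN.some⟩⟩
  obtain ⟨ha', ea⟩ := S.exists_cls_multiTwist a
  obtain ⟨hb', eb⟩ := S.exists_cls_multiTwist b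
  have hMh := Groth.Abvar.PicCalc.isInvertible_tensorPow hM h
  have h1 := (Groth.Abvar.PicCalc.nonempty_iso_iff (Groth.Abvar.PicCalc.isInvertible_tensorMod hMh ha') hb').1 hab
  rw [Groth.Abvar.PicCalc.cls_tensorMod hMh ha', Groth.Abvar.PicCalc.cls_tensorPow hM h, ea, eb] at h1
  have hz : Groth.Abvar.PicCalc.cls hM ^ h = S.vtw ((fun i => (b i : ℤ)) + -(fun i => (a i : ℤ))) := by
    rw [S.vtw_add, S.vtw_neg, ← h1, mul_inv_cancel_right]
  rw [show (∃ (c : Fin n → ℤ) (e : ℤ), ∀ i, ((b i : ℤ) - (a i : ℤ)) = (h : ℤ) * c i + e * (Models.mult R (Over.mk p) (S.Γs i) : ℤ)) ↔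
    ∃ (c : Fin n → ℤ) (e : ℤ), ∀ i, ((fun i => (b i : ℤ)) + -(fun i => (a i : ℤ))) i = (h : ℤ) * c i + e * (S.m i : ℤ) from
      exists_congr fun c => exists_congr fun e => forall_congr' fun i => by simp only [Pi.add_apply, Pi.neg_apply, sub_eq_add_neg]; exact Iff.rfl,
    ← Groth.ModelsGraphs.InterTorsion.lift_iff S f g hg hM _ hz]
  constructor
  · rintro ⟨M', h', ht, hp⟩
    exact ⟨_, (hpow h').1 ht, (hpull h').1 hp⟩
  · rintro ⟨c, hc, hp⟩
    obtain ⟨M', h', rfl⟩ := PicGrp.exists_eq_cls c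
    exact ⟨M', h', (hpow h').2 hc, (hpull h').2 hp⟩

end Groth.Agent.S19924
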