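import Groth.Statements.S19946
import Groth.Agent.ThetaAlg.Pairing
import Groth.Agent.ThetaAlg.HomPull

set_option autoImplicit false
universe u
open CategoryTheory MonoidalCategory CartesianMonoidalCategory MonObj GrpObj AlgebraicGeometry
open ThetaGrp

namespace Groth.Agent.S19946

/-- Let X be an abelian variety over a field k (a proper, geometrically integral, commutative k-group
scheme) and L an invertible O_X-module whose subscheme K(L) is all of X: the identity of X has the
universal property of K(L), i.e. for every k-scheme Z and every Z-valued point z of X the Mumford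
bundle m^*L ⊗ p_1^*L⁻¹ ⊗ p_2^*L⁻¹ restricted along X ×_k Z → X ×_k X is the inverse image of an
invertible module on Z (equivalently, the class of L lies in Pic⁰_{X/k}). Then the commutator
pairing e_L of the theta group is identically 1: for every k-scheme T, any two points (x₁, φ₁), (x₂,
φ₂) of G(L)(T) (x_i a T-valued point of X, φ_i : L_T ≅ t_{x_i}^*L_T) commute. -/
theorem result (k : Type u) [Field k]
    (A : Over (Spec (CommRingCat.of k))) [GrpObj A] [IsCommMonObj A] [IsProper A.hom] [GeometricallyIntegral A.hom]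
    (L : A.left.Modules) (hL : PicF.IsInvertible L)
    (hK : ThetaGrp.IsKL A L (𝟙 A))
    (T : Over (Spec (CommRingCat.of k))) (β₁ β₂ : ThetaGrp.thetaPts A L T) :
    β₁ * β₂ = β₂ * β₁ := by
  have hA := Groth.ThetaAlg.sndBij_of_proper A
  obtain ⟨U, hU, hlift⟩ := Groth.ThetaAlg.exists_cover_lifts hL hK (fst A A) (snd A A)
    ⟨fst A A, Category.comp_id _⟩ ⟨snd A A, Category.comp_id _⟩
  choose a ha using fun t => (hlift t).1
  choose b hb using fun t => (hlift t).2
  obtain ⟨r, hr⟩ := Groth.ThetaAlg.exists_pairing hA hL (fst A A) (snd A A) U hU a b ha hb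
  have hr1 : r = 1 := by
    obtain ⟨r₁, rfl⟩ := (hA A).2 r
    haveI : IsIso (fst A (𝟙_ (Over (Spec (CommRingCat.of k))))) :=
      CartesianMonoidalCategory.rightUnitor_hom A ▸ inferInstance
    haveI : IsIso (fst A (𝟙_ (Over (Spec (CommRingCat.of k))))).left :=
      inferInstanceAs (IsIso ((Over.forget _).map (fst A (𝟙_ (Over (Spec (CommRingCat.of k)))))))
    haveI : IsIso (fst A (𝟙_ (Over (Spec (CommRingCat.of k))))).left.appTop :=
      inferInstanceAs (IsIso ((fst A (𝟙_ (Over (Spec (CommRingCat.of k))))).left.app ⊤))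
    obtain ⟨c, hc⟩ := (hA (𝟙_ (Over (Spec (CommRingCat.of k))))).2 ((fst A (𝟙_ _)).left.appTop r₁)
    have hr₁ : (toUnit A).left.appTop c = r₁ := by
      refine (ConcreteCategory.bijective_of_isIso (fst A (𝟙_ (Over (Spec (CommRingCat.of k))))).left.appTop).1 ?_
      refine Eq.trans ?_ hc
      change ((toUnit A).left.appTop ≫ (fst A (𝟙_ _)).left.appTop) c = _
      rw [← Scheme.Hom.comp_appTop, ← Over.comp_left, toUnit_unique (fst A (𝟙_ _) ≫ toUnit A) (snd A (𝟙_ _))]
    subst hr₁
    let e : 𝟙_ (Over (Spec (CommRingCat.of k))) ⟶ A ⊗ A := lift 1 1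
    have h1 := (hr _ e 1 1 (by rw [lift_fst]; exact Groth.ThetaAlg.isOverPt_one _)
      (by rw [lift_snd]; exact Groth.ThetaAlg.isOverPt_one _)).unique hA hL
      ((Groth.ThetaAlg.isScal_one_iff 1 1).2 rfl)
    have h2 : e.left.appTop ((snd A A).left.appTop ((toUnit A).left.appTop c)) = c := by
      change ((toUnit A).left.appTop ≫ (snd A A).left.appTop ≫ e.left.appTop) c = c
      rw [← Scheme.Hom.comp_appTop, ← Scheme.Hom.comp_appTop, ← Over.comp_left, ← Over.comp_left,
        toUnit_unique ((e ≫ snd A A) ≫ toUnit A) (𝟙 _)]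
      simp
    rw [h2.symm.trans h1, map_one, map_one]
  obtain ⟨x, hx⟩ := Groth.ThetaAlg.exists_isOverPt β₁
  obtain ⟨y, hy⟩ := Groth.ThetaAlg.exists_isOverPt β₂
  have h := hr T (lift x y) β₁ β₂ (by rw [lift_fst]; exact hx) (by rw [lift_snd]; exact hy)
  rw [hr1, map_one] at h
  exact (Groth.ThetaAlg.isScal_one_iff β₁ β₂).1 h

end Groth.Agent.S19946
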