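import Groth.Statements.S19953
import Groth.Agent.ThetaAlg.HomPull

set_option autoImplicit false
universe u
open CategoryTheory MonoidalCategory CartesianMonoidalCategory MonObj GrpObj AlgebraicGeometry
open ThetaGrp

namespace Groth.Agent.S19953

/-- Let f : X → Y be a surjective homomorphism of abelian varieties over a field k (proper,
geometrically integral, commutative k-group schemes), i : N → X its kernel (a homomorphism forming a
cartesian square with the unit section of Y), L an invertible O_X-module, M an invertible O_Y-module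
with f^*M ≅ L, and G a k-group scheme with a point u ∈ G(L)(G) representing the theta group of L
(every point of G(L)(T) is the base change of u along a unique T → G, multiplicatively). Then there
is a level subgroup of G(L) whose image in K(L) is Ker(f): a homomorphism of group schemes j : N → G
that is an immersion, such that a point of N whose image lies over the identity translation is
trivial, and that lies over i (for every k-scheme T and T-valued point n of N, the base change of u
along j(n) lies over the translation by i(n)). -/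
theorem result (k : Type u) [Field k]
    (A : Over (Spec (CommRingCat.of k))) [GrpObj A] [IsCommMonObj A] [IsProper A.hom] [GeometricallyIntegral A.hom]
    (B : Over (Spec (CommRingCat.of k))) [GrpObj B] [IsCommMonObj B] [IsProper B.hom] [GeometricallyIntegral B.hom]
    (f : A ⟶ B) [IsMonHom f] (hf : Surjective f.left)
    (N : Over (Spec (CommRingCat.of k))) [GrpObj N] (i : N ⟶ A) [IsMonHom i] (hN : AlgGrp.IsKernel i f)
    (L : A.left.Modules) (hL : PicF.IsInvertible L)
    (M : B.left.Modules) (hM : PicF.IsInvertible M)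
    (hLM : Nonempty ((Scheme.Modules.pullback f.left).obj M ≅ L))
    (G : Over (Spec (CommRingCat.of k))) [GrpObj G] (u : ThetaGrp.thetaPts A L G)
    (hG : ThetaGrp.IsThetaGrpSch A L G u) :
    ∃ j : N ⟶ G, IsMonHom j ∧ ThetaGrp.IsLevelSubgrp u j ∧
      ∀ (T : Over (Spec (CommRingCat.of k))) (n : T ⟶ N) (β : ThetaGrp.thetaPts A L T),
        ThetaGrp.IsBaseChange β (n ≫ j) u → ThetaGrp.IsOverPt β (n ≫ i) := by
  classical
  have hif : i ≫ f = 1 := by
    rw [hN.w]
    exact Hom.one_def.symm
  let ρ : Groth.ThetaAlg.OverArrow f L M := Groth.ThetaAlg.OverArrow.ofIso f hLM.some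
  obtain ⟨c, hc, hci⟩ := Groth.ThetaAlg.exists_canPt ρ hif
  obtain ⟨j, hj, -⟩ := hG.univ N c
  obtain ⟨xu, hxu⟩ := Groth.ThetaAlg.exists_isOverPt u
  have hji : j ≫ xu = i := Groth.ThetaAlg.isOverPt_unique (Groth.ThetaAlg.isOverPt_baseChange hj hxu) hci
  have hbc : ∀ {T : Over (Spec (CommRingCat.of k))} (n : T ⟶ N) (c' : thetaPts A L T),
      ThetaGrp.IsBaseChange c' n c →
        Groth.ThetaAlg.IsPullPt ρ c' 1 ∧ IsOverPt c' (n ≫ i) ∧ ThetaGrp.IsBaseChange c' (n ≫ j) u :=
    fun n c' h => ⟨hc.baseChange ρ n h (Groth.ThetaAlg.isBaseChange_one n) hci (hif ▸ Groth.ThetaAlg.isOverPt_one _),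
      Groth.ThetaAlg.isOverPt_baseChange h hci, Groth.ThetaAlg.isBaseChange_comp h hj⟩
  have hmul : ∀ {T : Over (Spec (CommRingCat.of k))} (n m : T ⟶ N), (n * m) ≫ j = (n ≫ j) * (m ≫ j) := by
    intro T n m
    obtain ⟨c₁, hc₁, -⟩ := Groth.ThetaAlg.existsUnique_baseChange n c
    obtain ⟨c₂, hc₂, -⟩ := Groth.ThetaAlg.existsUnique_baseChange m c
    obtain ⟨c₃, hc₃, -⟩ := Groth.ThetaAlg.existsUnique_baseChange (n * m) c
    obtain ⟨p₁, o₁, b₁⟩ := hbc n c₁ hc₁
    obtain ⟨p₂, o₂, b₂⟩ := hbc m c₂ hc₂
    obtain ⟨p₃, o₃, b₃⟩ := hbc (n * m) c₃ hc₃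
    have o12 : IsOverPt (c₁ * c₂) ((n * m) ≫ i) := by
      have hnm : (n * m) ≫ i = (m ≫ i) * (n ≫ i) := by
        rw [MonObj.mul_comp]
        exact mul_comm _ _
      rw [hnm]
      exact Groth.ThetaAlg.isOverPt_mul o₁ o₂
    have p12 : Groth.ThetaAlg.IsPullPt ρ (c₁ * c₂) 1 := _root_.one_mul (1 : thetaPts B M T) ▸ p₁.mul ρ p₂
    have e : c₁ * c₂ = c₃ := p12.unique ρ p₃ o12 o₃
    exact (hG.univ T c₃).unique b₃ (e ▸ hG.mul T _ _ c₁ c₂ b₁ b₂)
  have hone : ∀ T : Over (Spec (CommRingCat.of k)), (1 : T ⟶ N) ≫ j = 1 := fun T => by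
    have h := hmul (1 : T ⟶ N) 1
    rw [_root_.one_mul] at h
    exact mul_eq_left.1 h.symm
  haveI hjm : IsMonHom j :=
    { one_hom := by
        rw [MonObj.one_eq_one, MonObj.one_eq_one]
        exact hone _
      mul_hom := by
        rw [MonObj.mul_eq_mul, hmul, MonObj.mul_eq_mul, MonObj.comp_mul, tensorHom_fst, tensorHom_snd] }
  refine ⟨j, hjm, ⟨?_, hjm, fun T h β hb h1 => ?_⟩, fun T n β hb => ?_⟩
  · have hsep : IsSeparated B.hom := inferInstance
    have hη : IsClosedImmersion η[B].left := by
      have hs : η[B].left ≫ B.hom = (𝟙_ (Over (Spec (CommRingCat.of k)))).hom := Over.w _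
      haveI : IsClosedImmersion (η[B].left ≫ B.hom) := by
        rw [hs]
        exact inferInstanceAs (IsClosedImmersion (𝟙 (Spec (CommRingCat.of k))))
      exact IsClosedImmersion.of_comp η[B].left B.hom
    have hi : IsClosedImmersion i.left :=
      MorphismProperty.of_isPullback (hN.map (Over.forget _)).flip hη
    haveI : IsImmersion (j.left ≫ xu.left) := by
      rw [← Over.comp_left, hji]
      infer_instance
    exact IsImmersion.of_comp j.left xu.left
  · have hhi : h ≫ i = (1 : T ⟶ N) ≫ i := by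
      rw [MonObj.one_comp]
      have := Groth.ThetaAlg.isOverPt_baseChange hb hxu
      rw [Category.assoc, hji] at this
      exact Groth.ThetaAlg.isOverPt_unique this h1
    exact hN.hom_ext hhi (toUnit_unique _ _)
  · have := Groth.ThetaAlg.isOverPt_baseChange hb hxu
    rwa [Category.assoc, hji] at this

end Groth.Agent.S19953
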