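import Groth.Statements.S1995
import Mathlib
import Groth.Agent.Hensel1.Pairs
import Groth.Agent.Hensel1.Local
-- import your own Groth.Agent.* helpers here

set_option autoImplicit false
universe u
open EtAlg

namespace Groth.Agent.S1995

theorem exists_single_idem {A : Type u} [CommRing A] {n : ℕ} (I : Fin n → Ideal A)
    (hI : Pairwise fun i j => I i ⊔ I j = ⊤) :
    ∃ a : Fin n → A, (∀ i, a i - 1 ∈ I i) ∧ ∀ i j, i ≠ j → a i ∈ I j := by
  classical
  have hco : Pairwise (Function.onFun IsCoprime I) := fun i j hij => Ideal.isCoprime_iff_sup_eq.2 (hI hij)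
  choose a ha using fun i => Ideal.exists_forall_sub_mem_ideal hco (Pi.single i 1)
  refine ⟨a, fun i => by simpa using ha i i, fun i j hij => ?_⟩
  simpa [Pi.single_eq_of_ne hij.symm] using ha i j

theorem exists_idems {A : Type u} [CommRing A] {n : ℕ} (I : Fin n → Ideal A) (a : Fin n → A)
    (ha : ∀ i, a i - 1 ∈ I i) (ha' : ∀ i j, i ≠ j → a i ∈ I j)
    {C : Type u} [CommRing C] (J : Ideal C) [HenselianRing C J] (f : A →+* C) (hf : (⨅ i, I i).map f ≤ J) :
    ∃ e : Fin n → C, CompleteOrthogonalIdempotents e ∧ ∀ i, e i - f (a i) ∈ J := by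
  classical
  have hIJ : J.map (algebraMap C C) = J := by rw [Algebra.algebraMap_self]; exact Ideal.map_id J
  have hmem : ∀ x, (∀ i, x ∈ I i) → f x ∈ J := fun x hx => hf (Ideal.mem_map_of_mem f (Ideal.mem_iInf.2 hx))
  have hidem : ∀ i, ∃ e : C, IsIdempotentElem e ∧ e - f (a i) ∈ J := by
    intro i
    have h1 : f (a i) * f (a i) - f (a i) ∈ J := by
      rw [← map_mul, ← map_sub]
      refine hmem _ fun j => ?_
      by_cases hij : i = j
      · subst hij
        rw [show a i * a i - a i = a i * (a i - 1) by ring]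
        exact Ideal.mul_mem_left _ _ (ha i)
      · exact (I j).sub_mem (Ideal.mul_mem_left _ _ (ha' i j hij)) (ha' i j hij)
    obtain ⟨e, he, he'⟩ := Groth.Hensel1.exists_idempotent_lift (I := J) (f (a i)) (by rw [hIJ]; exact h1)
    exact ⟨e, he, by rwa [hIJ] at he'⟩
  choose e he he' using hidem
  have horth : OrthogonalIdempotents e := by
    refine ⟨he, fun i j hij => ?_⟩
    refine Groth.Hensel1.idempotent_eq_of_sub_mem_jacobson ((he i).mul (he j)) IsIdempotentElem.zero ?_
    refine HenselianRing.jac (I := J) ?_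
    have h1 : f (a i) * f (a j) ∈ J := by
      rw [← map_mul]
      refine hmem _ fun k => ?_
      by_cases hik : i = k
      · subst hik; exact Ideal.mul_mem_left _ _ (ha' j i (Ne.symm hij))
      · exact Ideal.mul_mem_right _ _ (ha' i k hik)
    rw [sub_zero, show e i * e j = (e i - f (a i)) * e j + f (a i) * (e j - f (a j)) + f (a i) * f (a j) by ring]
    exact J.add_mem (J.add_mem (J.mul_mem_right _ (he' i)) (J.mul_mem_left _ (he' j))) h1
  refine ⟨e, ⟨horth, ?_⟩, he'⟩
  refine Groth.Hensel1.idempotent_eq_of_sub_mem_jacobson ?_ IsIdempotentElem.one ?_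
  · exact horth.isIdempotentElem_sum
  · refine HenselianRing.jac (I := J) ?_
    rw [show ∑ i, e i - 1 = ∑ i, (e i - f (a i)) + f (∑ i, a i - 1) by
      rw [Finset.sum_sub_distrib, map_sub, map_sum, map_one]; ring]
    refine J.add_mem (J.sum_mem fun i _ => he' i) (hmem _ fun j => ?_)
    rw [← Finset.add_sum_erase _ _ (Finset.mem_univ j), add_sub_right_comm]
    exact (I j).add_mem (ha j) ((I j).sum_mem fun k hk => ha' k j (Finset.mem_erase.1 hk).1)

theorem isPairHenselization_pi {A : Type u} [CommRing A] {n : ℕ} (I : Fin n → Ideal A)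
    (hI : Pairwise fun i j => I i ⊔ I j = ⊤) (Bi : Fin n → Type u) [∀ i, CommRing (Bi i)] [∀ i, Algebra A (Bi i)]
    (hBi : ∀ i, Hens2.IsPairHenselization A (I i) (Bi i)) :
    Hens2.IsPairHenselization A (⨅ i, I i) (∀ i, Bi i) := by
  classical
  obtain ⟨a, ha, ha'⟩ := exists_single_idem I hI
  let φ := algebraMap A (∀ i, Bi i)
  have hφ : ∀ (i : Fin n) (x : A), φ x i = algebraMap A (Bi i) x := fun i x => rfl
  have hK : ∀ i, (I i).map (algebraMap A (Bi i)) ≤ (⨅ j, I j).map (algebraMap A (Bi i)) := by
    intro i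
    rw [Ideal.map_le_iff_le_comap]
    intro x hx
    have hu : IsUnit (algebraMap A (Bi i) (a i)) := by
      have h1 := Ideal.mem_jacobson_bot.1 ((hBi i).1.jac (Ideal.mem_map_of_mem (algebraMap A (Bi i)) (ha i))) 1
      rwa [mul_one, map_sub, map_one, sub_add_cancel] at h1
    have h2 : algebraMap A (Bi i) (x * a i) ∈ (⨅ j, I j).map (algebraMap A (Bi i)) := by
      refine Ideal.mem_map_of_mem _ (Ideal.mem_iInf.2 fun j => ?_)
      by_cases hij : i = j
      · subst hij; exact Ideal.mul_mem_right _ _ hx
      · exact Ideal.mul_mem_left _ _ (ha' i j hij)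
    rw [map_mul] at h2
    exact (Ideal.mul_unit_mem_iff_mem _ hu).1 h2
  have hsingle : ∀ (i : Fin n) (y : Bi i), y ∈ (I i).map (algebraMap A (Bi i)) →
      (Pi.single i y : ∀ j, Bi j) ∈ (⨅ j, I j).map φ := by
    intro i y hy
    replace hy := hK i hy
    induction hy using Submodule.span_induction with
    | mem y hy =>
      obtain ⟨x, hx, rfl⟩ := hy
      rw [show (Pi.single i (algebraMap A (Bi i) x) : ∀ j, Bi j) = Pi.single (M := Bi) i 1 * φ x from funext fun j => by
        by_cases hj : j = i
        · subst hj; simp [hφ]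
        · simp [Pi.single_eq_of_ne hj]]
      exact Ideal.mul_mem_left _ _ (Ideal.mem_map_of_mem φ hx)
    | zero => rw [Pi.single_zero]; exact zero_mem _
    | add y z _ _ hy hz => rw [Pi.single_add]; exact add_mem hy hz
    | smul c y _ hy => rw [smul_eq_mul, Pi.single_mul]; exact Ideal.mul_mem_left _ _ hy
  have hproj : ∀ (x : ∀ j, Bi j), x ∈ (⨅ j, I j).map φ → ∀ i, x i ∈ (I i).map (algebraMap A (Bi i)) := by
    intro x hx i
    have := Ideal.mem_map_of_mem (Pi.evalRingHom Bi i) hx
    rw [Ideal.map_map] at this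
    exact Ideal.map_mono (iInf_le _ i) this
  have hall : ∀ (x : ∀ j, Bi j), (∀ i, x i ∈ (I i).map (algebraMap A (Bi i))) → x ∈ (⨅ j, I j).map φ := fun x hx => by
    rw [← Finset.univ_sum_single x]
    exact Ideal.sum_mem _ fun i _ => hsingle i (x i) (hx i)
  refine ⟨⟨fun x hx => ?_, fun f hfm a₀ hf0 hfd => ?_⟩, ?_⟩
  · rw [Ideal.mem_jacobson_bot]
    intro y
    rw [Pi.isUnit_iff]
    intro i
    exact Ideal.mem_jacobson_bot.1 ((hBi i).1.jac (hproj x hx i)) (y i)
  · have hev : ∀ (i : Fin n) (g : Polynomial (∀ j, Bi j)) (x : ∀ j, Bi j),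
        (g.map (Pi.evalRingHom Bi i)).eval (x i) = g.eval x i := fun i g x => by
      rw [show x i = Pi.evalRingHom Bi i x from rfl, Polynomial.eval_map_apply]; rfl
    have hroot : ∀ i, ∃ r : Bi i, (f.map (Pi.evalRingHom Bi i)).IsRoot r ∧ r - a₀ i ∈ (I i).map (algebraMap A (Bi i)) := by
      intro i
      refine (hBi i).1.is_henselian _ (hfm.map _) (a₀ i) ?_ ?_
      · rw [hev]; exact hproj _ hf0 i
      · rw [Polynomial.derivative_map, hev]
        exact hfd.map (Ideal.quotientMap ((I i).map (algebraMap A (Bi i))) (Pi.evalRingHom Bi i) fun z hz => hproj z hz i)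
    choose r hr hra using hroot
    refine ⟨r, funext fun i => ?_, hall _ fun i => hra i⟩
    rw [← hev]
    exact hr i
  · intro C _ J f hC hf
    haveI := hC
    obtain ⟨e, he, hea⟩ := exists_idems I a ha ha' J f hf
    have hfi : ∀ i, ∃! g : Bi i →+* C ⧸ Ideal.span {1 - e i},
        g.comp (algebraMap A (Bi i)) = (Ideal.Quotient.mk (Ideal.span {1 - e i})).comp f := by
      intro i
      refine (hBi i).2 _ (J.map (Ideal.Quotient.mk (Ideal.span {1 - e i}))) _
        (Groth.Hensel1.henselianRing_quotient (I := J) _) ?_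
      rw [Ideal.map_le_iff_le_comap]
      intro x hx
      have h1 : f x * e i ∈ J := by
        have h2 : f (x * a i) ∈ J := hf (Ideal.mem_map_of_mem f (Ideal.mem_iInf.2 fun j => by
          by_cases hij : i = j
          · subst hij; exact Ideal.mul_mem_right _ _ hx
          · exact Ideal.mul_mem_left _ _ (ha' i j hij)))
        rw [map_mul] at h2
        rw [show f x * e i = f x * (e i - f (a i)) + f x * f (a i) by ring]
        exact J.add_mem (J.mul_mem_left _ (hea i)) h2
      have h3 : Ideal.Quotient.mk (Ideal.span {1 - e i}) (f x) = Ideal.Quotient.mk _ (f x * e i) := by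
        rw [Ideal.Quotient.eq, show f x - f x * e i = f x * (1 - e i) by ring]
        exact Ideal.mul_mem_left _ _ (Ideal.mem_span_singleton_self _)
      rw [Ideal.mem_comap, RingHom.comp_apply, h3]
      exact Ideal.mem_map_of_mem _ h1
    choose g hg hguniq using hfi
    let P := RingEquiv.ofBijective (RingHom.pi fun i => Ideal.Quotient.mk (Ideal.span {1 - e i})) he.bijective_pi
    have hP : ∀ (c : C) (i : Fin n), P c i = Ideal.Quotient.mk (Ideal.span {1 - e i}) c := fun c i => rfl
    refine ⟨P.symm.toRingHom.comp (RingHom.pi fun i => (g i).comp (Pi.evalRingHom Bi i)), RingHom.ext fun x => ?_, fun g' hg' => ?_⟩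
    · apply P.injective
      rw [RingHom.comp_apply, RingHom.comp_apply]
      show P (P.symm _) = _
      rw [P.apply_symm_apply]
      funext i
      rw [hP]
      exact RingHom.congr_fun (hg i) x
    · have hδ : ∀ i, g' (Pi.single i 1) = e i := by
        intro i
        refine Groth.Hensel1.idempotent_eq_of_sub_mem_jacobson (IsIdempotentElem.map ?_ g') (he.idem i) ?_
        · show Pi.single i (1 : Bi i) * Pi.single i 1 = Pi.single i 1
          rw [← Pi.single_mul, one_mul]
        · refine HenselianRing.jac (I := J) ?_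
          have h1 : (Pi.single i 1 : ∀ j, Bi j) - φ (a i) ∈ (⨅ j, I j).map φ := hall _ fun j => by
            by_cases hj : j = i
            · subst hj
              rw [Pi.sub_apply, Pi.single_eq_same, hφ, ← map_one (algebraMap A (Bi j)), ← map_sub,
                ← neg_sub (a j) 1, map_neg]
              exact neg_mem (Ideal.mem_map_of_mem _ (ha j))
            · rw [Pi.sub_apply, Pi.single_eq_of_ne hj, zero_sub, hφ]
              exact neg_mem (Ideal.mem_map_of_mem _ (ha' i j (Ne.symm hj)))
          have h2 : g' ((Pi.single i 1 : ∀ j, Bi j) - φ (a i)) ∈ J := by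
            have := Ideal.mem_map_of_mem g' h1
            rw [Ideal.map_map, hg'] at this
            exact hf this
          rw [map_sub, show g' (φ (a i)) = f (a i) from RingHom.congr_fun hg' (a i)] at h2
          rw [show g' (Pi.single i 1) - e i = (g' (Pi.single i 1) - f (a i)) - (e i - f (a i)) by ring]
          exact J.sub_mem h2 (hea i)
      have he1 : ∀ i, Ideal.Quotient.mk (Ideal.span {1 - e i}) (e i) = 1 := fun i => by
        rw [← map_one (Ideal.Quotient.mk (Ideal.span {1 - e i})), Ideal.Quotient.eq,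
          show e i - 1 = -(1 - e i) by ring]
        exact neg_mem (Ideal.mem_span_singleton_self (1 - e i))
      have hfac : ∀ i (x : ∀ j, Bi j), Ideal.Quotient.mk (Ideal.span {1 - e i}) (g' x)
          = Ideal.Quotient.mk (Ideal.span {1 - e i}) (g' (Pi.single i (x i))) := fun i x => by
        rw [show (Pi.single i (x i) : ∀ j, Bi j) = Pi.single i 1 * x from funext fun j => by
          by_cases hj : j = i
          · subst hj; simp
          · simp [Pi.single_eq_of_ne hj], map_mul, map_mul, hδ, he1, one_mul]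
      let gi : ∀ i, Bi i →+* C ⧸ Ideal.span {1 - e i} := fun i =>
        { toFun := fun r => Ideal.Quotient.mk _ (g' (Pi.single i r))
          map_one' := by rw [hδ, he1]
          map_mul' := fun r s => by rw [Pi.single_mul, map_mul, map_mul]
          map_zero' := by rw [Pi.single_zero, map_zero, map_zero]
          map_add' := fun r s => by rw [Pi.single_add, map_add, map_add] }
      have hgi : ∀ i, gi i = g i := fun i => hguniq i _ (RingHom.ext fun x => by
        show Ideal.Quotient.mk _ (g' (Pi.single i (algebraMap A (Bi i) x))) = Ideal.Quotient.mk _ (f x)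
        rw [← hg', RingHom.comp_apply]
        exact (hfac i (φ x)).symm)
      refine RingHom.ext fun x => P.injective ?_
      show P (g' x) = P (P.symm _)
      rw [P.apply_symm_apply]
      funext i
      rw [hP, hfac]
      exact RingHom.congr_fun (hgi i) (x i)

/-- Let I_1, …, I_n be pairwise comaximal ideals of a ring A, B a henselization of the pair (A, I_1 ∩ …
∩ I_n) and B_i a henselization of (A, I_i) for each i. Then B is isomorphic as an A-algebra to the
product of the B_i (any such isomorphism is the natural comparison map, by the universal property). -/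
theorem result (A : Type u) [CommRing A] {n : ℕ} (I : Fin n → Ideal A)
    (hI : Pairwise fun i j => I i ⊔ I j = ⊤) (B : Type u) [CommRing B] [Algebra A B]
    (hB : Hens2.IsPairHenselization A (⨅ i, I i) B) (Bi : Fin n → Type u) [∀ i, CommRing (Bi i)] [∀ i, Algebra A (Bi i)]
    (hBi : ∀ i, Hens2.IsPairHenselization A (I i) (Bi i)) :
    Nonempty (B ≃ₐ[A] ∀ i, Bi i) := by
  classical
  have hP := isPairHenselization_pi I hI Bi hBi
  obtain ⟨u, hu, -⟩ := hB.2 (∀ i, Bi i) _ (algebraMap A (∀ i, Bi i)) hP.1 le_rfl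
  obtain ⟨v, hv, -⟩ := hP.2 B _ (algebraMap A B) hB.1 le_rfl
  have h1 : v.comp u = RingHom.id B := by
    obtain ⟨w, -, huniq⟩ := hB.2 B _ (algebraMap A B) hB.1 le_rfl
    exact (huniq _ (by simp only [RingHom.comp_assoc, hu, hv])).trans (huniq _ (by simp)).symm
  have h2 : u.comp v = RingHom.id (∀ i, Bi i) := by
    obtain ⟨w, -, huniq⟩ := hP.2 (∀ i, Bi i) _ (algebraMap A (∀ i, Bi i)) hP.1 le_rfl
    exact (huniq _ (by simp only [RingHom.comp_assoc, hv, hu])).trans (huniq _ (by simp)).symm
  exact ⟨AlgEquiv.ofRingEquiv (f := RingEquiv.ofRingHom u v h2 h1) fun a => RingHom.congr_fun hu a⟩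

end Groth.Agent.S1995
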