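import Groth.Statements.S19954
import Groth.Agent.ThetaAlg.Lifts

set_option autoImplicit false
universe u
open CategoryTheory MonoidalCategory CartesianMonoidalCategory MonObj GrpObj AlgebraicGeometry
open ThetaGrp

namespace Groth.Agent.S19954

/-- Let f : X → Y be a homomorphism of abelian varieties over a field k (proper, geometrically integral,
commutative k-group schemes), L an invertible O_Y-module, and i_K : K → Y a closed immersion
exhibiting K as K(L), the maximal closed subscheme of Y over which the Mumford bundle m^*L ⊗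
p_1^*L⁻¹ ⊗ p_2^*L⁻¹, restricted to Y ×_k K, is the inverse image of an invertible module on K, with
its universal property. The identity e_{f^*L} = e_L ∘ (f, f) on f⁻¹(K(L)) is stated here through the
vanishing of the two commutator pairings: for a k-scheme H and a k-morphism i_H : H → X such that f
∘ i_H factors through i_K, the pairing e_L is trivial on the image of H in Y — for every k-scheme T,
any two points of G(L)(T) lying over the translations by f(i_H(h₁)), f(i_H(h₂)) for T-valued points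
h₁, h₂ of H commute — if and only if e_{f^*L} is trivial on H: any two points of G(f^*L)(T) lying
over the translations by i_H(h₁), i_H(h₂) commute. -/
theorem result (k : Type u) [Field k]
    (A : Over (Spec (CommRingCat.of k))) [GrpObj A] [IsCommMonObj A] [IsProper A.hom] [GeometricallyIntegral A.hom]
    (B : Over (Spec (CommRingCat.of k))) [GrpObj B] [IsCommMonObj B] [IsProper B.hom] [GeometricallyIntegral B.hom]
    (f : A ⟶ B) [IsMonHom f]
    (L : B.left.Modules) (hL : PicF.IsInvertible L)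
    (K : Over (Spec (CommRingCat.of k))) (iK : K ⟶ B) (hK : ThetaGrp.IsKL B L iK)
    (H : Over (Spec (CommRingCat.of k))) (iH : H ⟶ A) (hH : ∃ y : H ⟶ K, y ≫ iK = iH ≫ f) :
    ThetaGrp.IsIsotropic L (iH ≫ f) ↔
      ThetaGrp.IsIsotropic ((Scheme.Modules.pullback f.left).obj L) iH := by
  have hA := Groth.ThetaAlg.sndBij_of_proper A
  have hB := Groth.ThetaAlg.sndBij_of_proper B
  have hfL : PicF.IsInvertible ((Scheme.Modules.pullback f.left).obj L) :=
    Groth.ThetaAlg.isInvertible_pullback f.left hL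
  let ρ : Groth.ThetaAlg.OverArrow f ((Scheme.Modules.pullback f.left).obj L) L :=
    Groth.ThetaAlg.OverArrow.self f L
  obtain ⟨w, hw⟩ := hH
  constructor
  · intro h T x y β₁ β₂ hβ₁ hβ₂
    obtain ⟨U, hU, hlift⟩ := Groth.ThetaAlg.exists_cover_lifts hL hK ((x ≫ iH) ≫ f) ((y ≫ iH) ≫ f)
      ⟨x ≫ w, by rw [Category.assoc, hw, Category.assoc]⟩ ⟨y ≫ w, by rw [Category.assoc, hw, Category.assoc]⟩
    refine Groth.ThetaAlg.commute_of_cover hA hfL β₁ β₂ U hU fun t a₁ a₂ ha₁ ha₂ => ?_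
    obtain ⟨⟨b₁, hb₁⟩, ⟨b₂, hb₂⟩⟩ := hlift t
    set g := Groth.ThetaAlg.opIn T (U t) with hg
    have hb₁' : IsOverPt b₁ ((g ≫ x ≫ iH) ≫ f) := (Category.assoc g (x ≫ iH) f).symm ▸ hb₁
    have hb₂' : IsOverPt b₂ ((g ≫ y ≫ iH) ≫ f) := (Category.assoc g (y ≫ iH) f).symm ▸ hb₂
    obtain ⟨c₁, hc₁, ho₁⟩ := Groth.ThetaAlg.exists_pullPt ρ hb₁'
    obtain ⟨c₂, hc₂, ho₂⟩ := Groth.ThetaAlg.exists_pullPt ρ hb₂'
    have hbb : b₁ * b₂ = b₂ * b₁ := h _ (g ≫ x) (g ≫ y) b₁ b₂
      (by simp only [Category.assoc] at hb₁' ⊢; exact hb₁') (by simp only [Category.assoc] at hb₂' ⊢; exact hb₂')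
    exact Groth.ThetaAlg.commute_of_isOverPt hA hfL ho₁ ho₂ (Groth.ThetaAlg.isOverPt_baseChange ha₁ hβ₁)
      (Groth.ThetaAlg.isOverPt_baseChange ha₂ hβ₂) (Groth.ThetaAlg.commute_of_pullPt ρ hc₁ hc₂ ho₁ ho₂ hbb)
  · intro h T x y b₁ b₂ hb₁ hb₂
    rw [← Category.assoc] at hb₁ hb₂
    obtain ⟨c₁, hc₁, ho₁⟩ := Groth.ThetaAlg.exists_pullPt ρ hb₁
    obtain ⟨c₂, hc₂, ho₂⟩ := Groth.ThetaAlg.exists_pullPt ρ hb₂
    exact Groth.ThetaAlg.commute_of_pullPt_commute ρ hA hB hfL hL hc₁ hc₂ hb₁ hb₂ (h T x y c₁ c₂ ho₁ ho₂)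

end Groth.Agent.S19954
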