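import Groth.Statements.S19955
import Groth.Agent.ThetaAlg.Normal
import Groth.Agent.ThetaAlg.HomPull

set_option autoImplicit false
universe u
open CategoryTheory MonoidalCategory CartesianMonoidalCategory MonObj GrpObj AlgebraicGeometry
open ThetaGrp

namespace Groth.Agent.S19955

/-- Let A be an abelian variety over a field k (a proper, geometrically integral, commutative k-group
scheme), L an invertible O_A-module, and Λ an invertible module on A ×_k A which is the Mumford
bundle of L, stated without inverses: Λ ⊗ p_1^*L ⊗ p_2^*L ≅ m^*L for the group law m and the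
projections p_1, p_2. Let i : K → A be a closed subgroup scheme exhibiting K as K(L) (the maximal
closed subscheme of A over which Λ, restricted to A ×_k K, is the inverse image of an invertible
module on K, with its universal property), and let G be a k-group scheme with a point u ∈ G(Λ)(G)
representing the theta group of Λ on the k-group scheme A ×_k A (every point of G(Λ)(T) — a T-valued
point z of A × A with an isomorphism Λ_T ≅ t_z^*Λ_T — is the base change of u along a unique T → G,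
multiplicatively). Then the action of K × {e} on A × A by translations lifts to Λ compatibly with
the group law of K: there is a homomorphism of group schemes j : K → G such that for every k-scheme
T and every T-valued point y of K, the base change of u along j(y) lies over the translation by the
point (i(y), e) of A × A. (In the source L is a fixed ample invertible module and the equivariant
structure is moreover shown to be unique once an isomorphism of the fibre of L at e with k is fixed;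
the argument for existence uses only that L is invertible, and the uniqueness is not part of this
statement.) -/
theorem result (k : Type u) [Field k]
    (A : Over (Spec (CommRingCat.of k))) [GrpObj A] [IsCommMonObj A] [IsProper A.hom] [GeometricallyIntegral A.hom]
    (L : A.left.Modules) (hL : PicF.IsInvertible L)
    (Λ : (A ⊗ A).left.Modules) (hΛi : PicF.IsInvertible Λ)
    (hΛ : AgPol.IsLambdaSheaf μ[A].left (fst A A).left (snd A A).left L Λ)
    (K : Over (Spec (CommRingCat.of k))) [GrpObj K] (iK : K ⟶ A) [IsMonHom iK] (hK : ThetaGrp.IsKL A L iK)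
    (G : Over (Spec (CommRingCat.of k))) [GrpObj G] (u : ThetaGrp.thetaPts (A ⊗ A) Λ G)
    (hG : ThetaGrp.IsThetaGrpSch (A ⊗ A) Λ G u) :
    ∃ j : K ⟶ G, IsMonHom j ∧
      ∀ (T : Over (Spec (CommRingCat.of k))) (y : T ⟶ K) (β : ThetaGrp.thetaPts (A ⊗ A) Λ T),
        ThetaGrp.IsBaseChange β (y ≫ j) u → ThetaGrp.IsOverPt β (y ≫ lift iK (1 : K ⟶ A)) := by
  have hA := Groth.ThetaAlg.sndBij_of_proper A
  have hAA := Groth.ThetaAlg.sndBij_tensor hA
  let ι₁ : A ⟶ A ⊗ A := lift (𝟙 A) (1 : A ⟶ A)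
  haveI : IsMonHom ι₁ := Groth.ThetaAlg.isMonHom_lift_one
  let L₀ : A.left.Modules := (Scheme.Modules.pullback ι₁.left).obj Λ
  have hL₀ : PicF.IsInvertible L₀ := Groth.ThetaAlg.isInvertible_pullback ι₁.left hΛi
  let ρ : Groth.ThetaAlg.OverArrow ι₁ L₀ Λ := Groth.ThetaAlg.OverArrow.self ι₁ Λ
  have hO := PicLoc.isInvertible_structureModule (𝟙_ (Over (Spec (CommRingCat.of k)))).left
  have htriv : Nonempty ((Scheme.Modules.pullback (toUnit A).left).obj (Coh.structureModule _) ≅ L₀) := by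
    open Groth.Abvar.PicCalc in
    rw [nonempty_iso_iff (Groth.ThetaAlg.isInvertible_pullback _ hO) hL₀, ← pull_cls _ hO,
      show cls hO = 1 from PicGrp.cls_structureModule_eq_one, map_one]
    exact ((pull_cls ι₁.left hΛi).symm.trans (Groth.ThetaAlg.cls_slice hL hΛi hΛ)).symm
  let ρ₀ : Groth.ThetaAlg.OverArrow (toUnit A) L₀ (Coh.structureModule _) :=
    Groth.ThetaAlg.OverArrow.ofIso (toUnit A) htriv.some
  obtain ⟨cK, hcK, hcKo⟩ := Groth.ThetaAlg.exists_canPt ρ₀ (T := K) (n := iK) (toUnit_unique _ _)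
  obtain ⟨b₀, hb₀⟩ := Groth.ThetaAlg.exists_lift_fst hL hΛi hΛ hK
  have hiK : iK ≫ ι₁ = lift iK (1 : K ⟶ A) := by simp [ι₁]
  obtain ⟨b, ⟨hb, hbo⟩, -⟩ := Groth.ThetaAlg.existsUnique_pushPt ρ hA hAA hL₀ hΛi hcKo (hiK.symm ▸ hb₀)
  obtain ⟨j, hj, -⟩ := hG.univ K b
  obtain ⟨xu, hxu⟩ := Groth.ThetaAlg.exists_isOverPt u
  have hji : j ≫ xu = iK ≫ ι₁ :=
    Groth.ThetaAlg.isOverPt_unique (Groth.ThetaAlg.isOverPt_baseChange hj hxu) hbo
  have hbc : ∀ {T : Over (Spec (CommRingCat.of k))} (n : T ⟶ K) (c' : thetaPts A L₀ T) (b' : thetaPts (A ⊗ A) Λ T),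
      ThetaGrp.IsBaseChange c' n cK → ThetaGrp.IsBaseChange b' n b →
        Groth.ThetaAlg.IsPullPt ρ c' b' ∧ Groth.ThetaAlg.IsPullPt ρ₀ c' 1 ∧ IsOverPt c' (n ≫ iK) ∧
          IsOverPt b' ((n ≫ iK) ≫ ι₁) ∧ ThetaGrp.IsBaseChange b' (n ≫ j) u :=
    fun n c' b' h h' => ⟨hb.baseChange ρ n h h' hcKo hbo,
      hcK.baseChange ρ₀ n h (Groth.ThetaAlg.isBaseChange_one n) hcKo
        (toUnit_unique (1 : K ⟶ 𝟙_ _) (iK ≫ toUnit A) ▸ Groth.ThetaAlg.isOverPt_one _),
      Groth.ThetaAlg.isOverPt_baseChange h hcKo,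
      (Category.assoc n iK ι₁).symm ▸ Groth.ThetaAlg.isOverPt_baseChange h' hbo,
      Groth.ThetaAlg.isBaseChange_comp h' hj⟩
  have hmul : ∀ {T : Over (Spec (CommRingCat.of k))} (n m : T ⟶ K), (n * m) ≫ j = (n ≫ j) * (m ≫ j) := by
    intro T n m
    obtain ⟨c₁, hc₁, -⟩ := Groth.ThetaAlg.existsUnique_baseChange n cK
    obtain ⟨c₂, hc₂, -⟩ := Groth.ThetaAlg.existsUnique_baseChange m cK
    obtain ⟨c₃, hc₃, -⟩ := Groth.ThetaAlg.existsUnique_baseChange (n * m) cK
    obtain ⟨b₁, hb₁, -⟩ := Groth.ThetaAlg.existsUnique_baseChange n b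
    obtain ⟨b₂, hb₂, -⟩ := Groth.ThetaAlg.existsUnique_baseChange m b
    obtain ⟨b₃, hb₃, -⟩ := Groth.ThetaAlg.existsUnique_baseChange (n * m) b
    obtain ⟨p₁, q₁, o₁, r₁, e₁⟩ := hbc n c₁ b₁ hc₁ hb₁
    obtain ⟨p₂, q₂, o₂, r₂, e₂⟩ := hbc m c₂ b₂ hc₂ hb₂
    obtain ⟨p₃, q₃, o₃, r₃, e₃⟩ := hbc (n * m) c₃ b₃ hc₃ hb₃
    have hnm : (n * m) ≫ iK = (m ≫ iK) * (n ≫ iK) := by
      rw [MonObj.mul_comp]
      exact mul_comm _ _
    have o12 : IsOverPt (c₁ * c₂) ((n * m) ≫ iK) := hnm.symm ▸ Groth.ThetaAlg.isOverPt_mul o₁ o₂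
    have q12 := q₁.mul ρ₀ q₂
    rw [_root_.one_mul] at q12
    have ec : c₁ * c₂ = c₃ := q12.unique ρ₀ q₃ o12 o₃
    have r12 : IsOverPt (b₁ * b₂) (((n * m) ≫ iK) ≫ ι₁) := by
      rw [hnm, MonObj.mul_comp]
      exact Groth.ThetaAlg.isOverPt_mul r₁ r₂
    have eb : b₁ * b₂ = b₃ :=
      (Groth.ThetaAlg.existsUnique_pushPt ρ hA hAA hL₀ hΛi o₃ r₃).unique
        ⟨ec ▸ p₁.mul ρ p₂, r12⟩ ⟨p₃, r₃⟩
    exact (hG.univ T b₃).unique e₃ (eb ▸ hG.mul T _ _ b₁ b₂ e₁ e₂)
  have hone : ∀ T : Over (Spec (CommRingCat.of k)), (1 : T ⟶ K) ≫ j = 1 := fun T => by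
    have h := hmul (1 : T ⟶ K) 1
    rw [_root_.one_mul] at h
    exact mul_eq_left.1 h.symm
  refine ⟨j,
    { one_hom := by
        rw [MonObj.one_eq_one, MonObj.one_eq_one]
        exact hone _
      mul_hom := by
        rw [MonObj.mul_eq_mul, hmul, MonObj.mul_eq_mul, MonObj.comp_mul, tensorHom_fst, tensorHom_snd] },
    fun T y β hβ => ?_⟩
  have := Groth.ThetaAlg.isOverPt_baseChange hβ hxu
  rwa [Category.assoc, hji, hiK] at this

end Groth.Agent.S19955
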