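import Groth.Statements.S19956
import Groth.Agent.ThetaAlg.Level

set_option autoImplicit false
universe u
open CategoryTheory MonoidalCategory CartesianMonoidalCategory MonObj GrpObj AlgebraicGeometry
open ThetaGrp

namespace Groth.Agent.S19956

/-- Let f : X → Y be a surjective homomorphism of abelian varieties over a field k (proper,
geometrically integral, commutative k-group schemes), i : N → X its kernel (a homomorphism forming a
cartesian square with the unit section of Y), M an invertible O_Y-module and L = f^*M. Let G be a
k-group scheme with a point u ∈ G(L)(G) representing the theta group of L (every point of G(L)(T) is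
the base change of u along a unique T → G, multiplicatively), and j : N → G a level subgroup lying
over i: a homomorphism of group schemes and an immersion such that a point of N whose image lies
over the identity translation is trivial, and such that for every T-valued point n of N the base
change of u along j(n) lies over the translation by i(n). Let i_M : K_M → Y be a closed immersion
exhibiting K_M as K(M) (the maximal closed subscheme of Y over which the Mumford bundle of M,
restricted to Y ×_k K_M, is the inverse image of an invertible module on K_M, with its universal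
property). For a k-scheme T, a T-valued point g of G and the T-valued point x of X under it (the
base change of u along g lies over the translation by x): g lies in the centralizer of j(N) — for
every T' → T and every T'-valued point n of N, the restriction of g commutes with j(n) in the group
G(T') — if and only if f(x) factors through i_M. (The source states this for the level subgroup
attached to the descent M; by the source's description of f⁻¹(K(M)) as Ker(f)^⊥ both sides depend
only on Ker(f), so it is stated for any level structure over i. The identification of G(M) with the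
centralizer modulo j(N) is not part of this statement.) -/
theorem result (k : Type u) [Field k]
    (A : Over (Spec (CommRingCat.of k))) [GrpObj A] [IsCommMonObj A] [IsProper A.hom] [GeometricallyIntegral A.hom]
    (B : Over (Spec (CommRingCat.of k))) [GrpObj B] [IsCommMonObj B] [IsProper B.hom] [GeometricallyIntegral B.hom]
    (f : A ⟶ B) [IsMonHom f] (hf : Surjective f.left)
    (N : Over (Spec (CommRingCat.of k))) [GrpObj N] (i : N ⟶ A) [IsMonHom i] (hN : AlgGrp.IsKernel i f)
    (M : B.left.Modules) (hM : PicF.IsInvertible M)
    (G : Over (Spec (CommRingCat.of k))) [GrpObj G]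
    (u : ThetaGrp.thetaPts A ((Scheme.Modules.pullback f.left).obj M) G)
    (hG : ThetaGrp.IsThetaGrpSch A ((Scheme.Modules.pullback f.left).obj M) G u)
    (j : N ⟶ G) [IsMonHom j] (hj : ThetaGrp.IsLevelSubgrp u j)
    (hover : ∀ (T : Over (Spec (CommRingCat.of k))) (n : T ⟶ N)
      (β : ThetaGrp.thetaPts A ((Scheme.Modules.pullback f.left).obj M) T),
      ThetaGrp.IsBaseChange β (n ≫ j) u → ThetaGrp.IsOverPt β (n ≫ i))
    (KM : Over (Spec (CommRingCat.of k))) (iM : KM ⟶ B) (hKM : ThetaGrp.IsKL B M iM)
    (T : Over (Spec (CommRingCat.of k))) (g : T ⟶ G) (x : T ⟶ A)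
    (β : ThetaGrp.thetaPts A ((Scheme.Modules.pullback f.left).obj M) T)
    (hβ : ThetaGrp.IsBaseChange β g u) (hx : ThetaGrp.IsOverPt β x) :
    (∀ (T' : Over (Spec (CommRingCat.of k))) (t : T' ⟶ T) (n : T' ⟶ N),
        (t ≫ g) * (n ≫ j) = (n ≫ j) * (t ≫ g)) ↔
      ∃ y : T ⟶ KM, y ≫ iM = x ≫ f := by
  haveI : Surjective f.left := hf
  have hA := Groth.ThetaAlg.sndBij_of_proper A
  have hL : PicF.IsInvertible ((Scheme.Modules.pullback f.left).obj M) :=
    Groth.ThetaAlg.isInvertible_pullback f.left hM
  let ρ : Groth.ThetaAlg.OverArrow f ((Scheme.Modules.pullback f.left).obj M) M :=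
    Groth.ThetaAlg.OverArrow.self f M
  have hif : i ≫ f = 1 := by
    rw [hN.w]
    exact Hom.one_def.symm
  constructor
  · intro h
    have hc : Groth.ThetaAlg.CommKer ρ i β := by
      intro T' t m ct cn hct hcn hm
      obtain ⟨bm, hbm, -⟩ := hG.exists_bc T' (m ≫ j)
      have hct' := Groth.ThetaAlg.isBaseChange_comp hct hβ
      have h1 := hG.mul T' _ _ ct bm hct' hbm
      have h2 := hG.mul T' _ _ bm ct hbm hct'
      rw [h T' t m] at h1
      exact Groth.ThetaAlg.commute_of_isOverPt hA hL (Groth.ThetaAlg.isOverPt_baseChange hct hx) (hover T' m bm hbm)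
        (Groth.ThetaAlg.isOverPt_baseChange hct hx) hm ((hG.exists_bc T' _).unique h1 h2)
    obtain ⟨b, hb⟩ := Groth.ThetaAlg.exists_pushPt ρ hN hM hx hc
    refine (Groth.ThetaAlg.factors_iff_locally hM hKM (x ≫ f)).2 fun s => ⟨⊤, trivial, ?_⟩
    obtain ⟨b', hb', -⟩ := Groth.ThetaAlg.existsUnique_baseChange (Groth.ThetaAlg.opIn T ⊤) b
    exact ⟨b', Groth.ThetaAlg.isOverPt_baseChange hb' hb⟩
  · rintro ⟨y, hy⟩ T' t n
    obtain ⟨ct, hct, -⟩ := hG.exists_bc T' (t ≫ g)
    obtain ⟨bn, hbn, -⟩ := hG.exists_bc T' (n ≫ j)
    have hcx : ThetaGrp.IsOverPt ct (t ≫ x) := by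
      obtain ⟨d, hd, -⟩ := Groth.ThetaAlg.existsUnique_baseChange t β
      rw [(hG.exists_bc T' (t ≫ g)).unique hct (Groth.ThetaAlg.isBaseChange_comp hd hβ)]
      exact Groth.ThetaAlg.isOverPt_baseChange hd hx
    have hc := Groth.ThetaAlg.commute_of_factors ρ hL hM hKM hif (x := t ≫ x)
      ⟨t ≫ y, by rw [Category.assoc, hy, Category.assoc]⟩ n hcx (hover T' n bn hbn)
    exact (hG.univ T' (ct * bn)).unique (hG.mul T' _ _ ct bn hct hbn) (hc ▸ hG.mul T' _ _ bn ct hbn hct)

end Groth.Agent.S19956
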