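import Groth.Statements.S19957
import Groth.Agent.GitQuot.QSplit.StabLoops

set_option autoImplicit false
universe u
open CategoryTheory CategoryTheory.Limits AlgebraicGeometry
open Grpd

namespace Groth.Agent.S19957

/-- Let (U, R, s, t, c) be a groupoid scheme over S with U affine and s, t separated, flat and locally
of finite presentation, and let u ∈ U be a point such that the set of points of the stabilizer G → U
(the base change of j = (t, s) : R → U ×_S U along the diagonal of U) lying over u is finite and s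
is quasi-finite at the image in R of each of these points. Then there exist an etale morphism U' → U
with U' affine and a point u' of U' lying over u with trivial residue field extension κ(u) = κ(u'),
such that the restriction R' of R to U' (the groupoid scheme on U' whose arrows form the base change
of j along U' ×_S U' → U ×_S U) is split over u': there is an open subscheme P ⊂ R' which is a
subgroupoid (the identity of U', the inverse of P and the composition of composable pairs of P land
in P), with s'|_P and t'|_P finite, and containing the image in R' of every point of the stabilizer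
G' → U' of R' lying over u'. -/
theorem result (S : Scheme.{u}) (G : Grpd.GroupoidScheme S) [IsAffine G.U]
    [IsSeparated G.s] [IsSeparated G.t] [Flat G.s] [Flat G.t]
    [LocallyOfFinitePresentation G.s] [LocallyOfFinitePresentation G.t]
    (u : ↥G.U) (hfin : Set.Finite {g : ↥G.stabilizer | G.stabilizerToU g = u})
    (hqf : ∀ g : ↥G.stabilizer, G.stabilizerToU g = u →
      Dual3.QuasiFiniteAt G.s ((pullback.fst G.j G.diag : G.stabilizer ⟶ G.R) g)) :
    ∃ (G' : Grpd.GroupoidScheme S) (φ : Grpd.GroupoidScheme.Hom G' G) (u' : ↥G'.U),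
      IsAffine G'.U ∧ Etale φ.fU ∧ φ.fU u' = u ∧ IsIso (φ.fU.residueFieldMap u') ∧
      IsPullback φ.fR G'.j G.j
        (pullback.map G'.pU G'.pU G.pU G.pU φ.fU φ.fU (𝟙 S)
          ((Category.comp_id _).trans φ.fU_over.symm) ((Category.comp_id _).trans φ.fU_over.symm)) ∧
      ∃ (P : Scheme.{u}) (ιP : P ⟶ G'.R), IsOpenImmersion ιP ∧
        (∃ eP : G'.U ⟶ P, eP ≫ ιP = G'.e) ∧ (∃ iP : P ⟶ P, iP ≫ ιP = ιP ≫ G'.i) ∧
        (∃ cP : pullback (ιP ≫ G'.s) (ιP ≫ G'.t) ⟶ P,
          cP ≫ ιP = pullback.map (ιP ≫ G'.s) (ιP ≫ G'.t) G'.s G'.t ιP ιP (𝟙 G'.U)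
            (Category.comp_id _) (Category.comp_id _) ≫ G'.c) ∧
        IsFinite (ιP ≫ G'.s) ∧ IsFinite (ιP ≫ G'.t) ∧
        ∀ g' : ↥G'.stabilizer, G'.stabilizerToU g' = u' →
          ∃ p : ↥P, ιP p = (pullback.fst G'.j G'.diag : G'.stabilizer ⟶ G'.R) g' := by
  have hset : (Groth.QSplit.stabLoops G u).Finite := by
    rw [Groth.QSplit.stabLoops_eq]; exact hfin.image _
  obtain ⟨W, hW, hWe, hWq⟩ := Groth.QSplit.exists_affine_qf G.s _ hset (by
    rw [Groth.QSplit.stabLoops_eq]
    rintro _ ⟨g, hg, rfl⟩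
    exact hqf g hg)
  have : IsAffine W.toScheme := hW
  obtain ⟨G', φ, u', h₁, h₂, h₃, h₄, h₅, P, ιP, h₆, h₇, h₈, h₉, h₁₀, h₁₁, h₁₂⟩ :=
    Groth.QSplit.exists_quasiSplit G W u _ (Groth.QSplit.isLoopSet_stabLoops hset hWe)
  refine ⟨G', φ, u', h₁, h₂, h₃, h₄, h₅, P, ιP, h₆, h₇, h₈, h₉, h₁₀, h₁₁, fun g' hg' => ?_⟩
  have hr : (pullback.fst G'.j G'.diag : G'.stabilizer ⟶ G'.R) g' ∈ Groth.QSplit.stabLoops G' u' := by
    rw [Groth.QSplit.stabLoops_eq]
    exact ⟨g', hg', rfl⟩
  refine h₁₂ _ (Groth.QSplit.src_of_mem G' u' hr) (Groth.QSplit.tgt_of_mem G' u' hr) ?_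
  generalize (pullback.fst G'.j G'.diag : G'.stabilizer ⟶ G'.R) g' = r at hr ⊢
  have hr' : G'.j r = G'.diag u' := hr
  show G.j (φ.fR r) = G.diag u
  rw [← h₃, ← Scheme.Hom.comp_apply, h₅.w, Scheme.Hom.comp_apply, hr', ← Scheme.Hom.comp_apply,
    ← Scheme.Hom.comp_apply]
  refine congrArg (fun f : G'.U ⟶ pullback G.pU G.pU => f u') ?_
  apply pullback.hom_ext
  · rw [Category.assoc, Category.assoc]
    erw [pullback.lift_fst, pullback.lift_fst_assoc, pullback.lift_fst]
    exact (Category.id_comp _).trans (Category.comp_id _).symm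
  · rw [Category.assoc, Category.assoc]
    erw [pullback.lift_snd, pullback.lift_snd_assoc, pullback.lift_snd]
    exact (Category.id_comp _).trans (Category.comp_id _).symm

end Groth.Agent.S19957
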