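import Groth.Statements.S19962
import Groth.Agent.Calg8.AcyclicityLemma

set_option autoImplicit false
universe u
open CAlg

namespace Groth.Agent.S19962

/-- Let R be a Noetherian commutative ring, not assumed local, and 0 → R^(n_e) → ⋯ → R^(n_1) → R^(n_0) a
complex of finite free modules with 1 ≤ e, the map R^(n_(i+1)) → R^(n_i) being given by the matrix A
i. Suppose that for every 1 ≤ j ≤ e the matrix of R^(n_j) → R^(n_(j-1)) has rank n_j - n_(j+1) + ⋯ ±
n_e, the rank of a matrix being the largest size of a nonzero minor, and that its ideal of minors of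
that size is either the unit ideal or contains an R-regular sequence of length j. Then the complex
is exact at R^(n_e), …, R^(n_1). -/
theorem result {R : Type u} [CommRing R] [IsNoetherianRing R]
    (e : ℕ) (he : 1 ≤ e) (n : ℕ → ℕ) (A : (i : ℕ) → Matrix (Fin (n i)) (Fin (n (i + 1))) R)
    (hA : ∀ i, i + 2 ≤ e → A i * A (i + 1) = 0)
    (hrank : ∀ j, 1 ≤ j → j ≤ e →
      (CAlgX.matrixRank (A (j - 1)) : ℤ) = ∑ t ∈ Finset.Icc j e, (-1 : ℤ) ^ (t - j) * (n t : ℤ))
    (hdet : ∀ j, 1 ≤ j → j ≤ e →
      CAlgX.detIdeal (A (j - 1)) = ⊤ ∨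
        ∃ rs : List R, rs.length = j ∧ (∀ r ∈ rs, r ∈ CAlgX.detIdeal (A (j - 1))) ∧
          RingTheory.Sequence.IsRegular R rs) :
    LinearMap.ker (A (e - 1)).mulVecLin = ⊥ ∧
      ∀ i, i + 2 ≤ e → LinearMap.ker (A i).mulVecLin = LinearMap.range (A (i + 1)).mulVecLin := by
  classical
  refine Groth.Calg8.BE.exact_of_ker_eq_next he ?_
  rcases subsingleton_or_nontrivial R with hR | hR
  · exact fun i _ => Subsingleton.elim _ _
  refine Groth.Calg8.BE.criterion hA (fun i => CAlgX.matrixRank (A i))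
    (fun i _ => Groth.Calg8.BE.minorIdeal_matrixRank_succ (A i)) (fun i hi => ?_) fun i hi => ?_
  · have h1 := hrank (i + 1) (by omega) hi
    rw [Nat.add_sub_cancel, ← Finset.sum_Ioc_add_eq_sum_Icc (by omega)] at h1
    split_ifs with h
    · have h2 := hrank (i + 2) (by omega) (by omega)
      rw [show i + 2 - 1 = i + 1 by omega] at h2
      have h3 : Finset.Ioc (i + 1) e = Finset.Icc (i + 2) e := by ext; simp; omega
      rw [h3] at h1
      have h4 : ∑ t ∈ Finset.Icc (i + 2) e, (-1 : ℤ) ^ (t - (i + 1)) * (n t : ℤ) =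
          -∑ t ∈ Finset.Icc (i + 2) e, (-1 : ℤ) ^ (t - (i + 2)) * (n t : ℤ) := by
        rw [← Finset.sum_neg_distrib]
        refine Finset.sum_congr rfl fun t ht => ?_
        rw [Finset.mem_Icc] at ht
        rw [show t - (i + 1) = (t - (i + 2)) + 1 by omega, pow_succ]
        ring
      rw [h4, ← h2, Nat.sub_self, pow_zero, one_mul] at h1
      omega
    · rw [show Finset.Ioc (i + 1) e = ∅ from Finset.Ioc_eq_empty (by omega), Finset.sum_empty, Nat.sub_self,
        pow_zero, one_mul] at h1
      omega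
  · rcases hdet (i + 1) (by omega) hi with h | ⟨rs, hlen, hmem, hreg⟩
    · exact Or.inl h
    · exact Or.inr ⟨rs, hlen, hmem, hreg.toIsWeaklyRegular⟩

end Groth.Agent.S19962
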