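import Groth.Statements.S19963
import Groth.Agent.Calg8.Horrocks.Global
import Groth.Agent.Calg8.Horrocks.Splitting

set_option autoImplicit false
open Polynomial TensorProduct
universe u
open CAlg

namespace Groth.Agent.S19963

theorem map_smulHom {R S : Type*} [CommRing R] [CommRing S] {k l : Type*} (φ : R →+* S) (r : R)
    (B : Matrix k l R) : (r • B).map φ = φ r • B.map φ :=
  Matrix.ext fun _ _ => map_mul φ _ _

open Groth.Calg8.Horrocks in
theorem extended_of_gluing' {A : Type u} [CommRing A] {n m : ℕ}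
    {F : Matrix (Fin n ⊕ Fin m) (Fin n ⊕ Fin m) A[X]} {f : Matrix (Fin n) (Fin n) A[X]}
    (hF : F * F = F) (hf : f * f = f)
    {P : Matrix (Fin n ⊕ Fin m) (Fin n) (LaurentPolynomial A)}
    {Q : Matrix (Fin n) (Fin n ⊕ Fin m) (LaurentPolynomial A)}
    (hPQ : P * Q = F.map toLaurent) (hQP : Q * P = (f.map toLaurent).map LaurentPolynomial.invert) :
    ∃ U V : Matrix (Fin n ⊕ Fin m) (Fin n ⊕ Fin m) A[X],
      U * V = F.map (fun p => C (p.eval 0)) ∧ V * U = F := by
  let σ : Fin (n + m) ≃ Fin n ⊕ Fin m := finSumFinEquiv.symm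
  obtain ⟨U, V, h1, h2⟩ := extended_of_gluing (e := F.submatrix σ σ) (f := f)
    (by rw [Matrix.submatrix_mul_equiv, hF]) hf (P := P.submatrix σ (Equiv.refl _))
    (Q := Q.submatrix (Equiv.refl _) σ)
    (by rw [Matrix.submatrix_mul_equiv, hPQ, Matrix.submatrix_map])
    (by rw [Matrix.submatrix_mul_equiv, hQP]; rfl)
  refine ⟨U.submatrix σ.symm σ.symm, V.submatrix σ.symm σ.symm, ?_, ?_⟩
  · rw [Matrix.submatrix_mul_equiv, h1, ← Matrix.submatrix_map, Matrix.submatrix_submatrix]
    ext a b : 1
    simp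
  · rw [Matrix.submatrix_mul_equiv, h2, Matrix.submatrix_submatrix]
    ext a b : 1
    simp

open Groth.Calg8.Horrocks in
/-- Idempotent matrices over `A` which become equivalent over `A[X]` with monic polynomials inverted
are equivalent. -/
theorem equiv_of_monic {A : Type u} [CommRing A] {n m : ℕ}
    (p : Matrix (Fin n) (Fin n) A) (q : Matrix (Fin m) (Fin m) A) (hp : p * p = p) (hq : q * q = q)
    (f : A[X]) (hf : f.Monic) (G₁ : Matrix (Fin n) (Fin m) A[X]) (H₁ : Matrix (Fin m) (Fin n) A[X])
    (hGH : G₁ * H₁ = f ^ 2 • p.map C) (hHG : H₁ * G₁ = f ^ 2 • q.map C)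
    (hpG : p.map C * G₁ = G₁) (hGq : G₁ * q.map C = G₁)
    (hqH : q.map C * H₁ = H₁) (hHp : H₁ * p.map C = H₁) :
    ∃ (X' : Matrix (Fin n) (Fin m) A) (Y' : Matrix (Fin m) (Fin n) A), X' * Y' = p ∧ Y' * X' = q := by
  classical
  let ψ : A[X] →+* LaurentPolynomial A :=
    (LaurentPolynomial.invert (R := A)).toRingEquiv.toRingHom.comp toLaurent
  have hψ : ∀ x, ∃ (k : ℕ) (y : A[X]), toLaurent y = ψ x * LaurentPolynomial.T (k : ℤ) := fun x =>
    LaurentPolynomial.exists_T_pow _
  choose k y hy using hψ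
  set D := max (Finset.univ.sup fun ij : Fin n × Fin m => k (G₁ ij.1 ij.2))
    (Finset.univ.sup fun ij : Fin m × Fin n => k (H₁ ij.1 ij.2)) + f.natDegree + 1 with hD
  have key : ∀ x, k x ≤ D →
      toLaurent (X ^ (D - k x) * y x) = LaurentPolynomial.T (D : ℤ) * ψ x := fun x hx => by
    rw [map_mul, toLaurent_X_pow, hy, mul_comm (ψ x), ← mul_assoc, ← LaurentPolynomial.T_add]
    congr 2
    omega
  let G : Matrix (Fin n) (Fin m) A[X] := Matrix.of fun i j => X ^ (D - k (G₁ i j)) * y (G₁ i j)
  let H : Matrix (Fin m) (Fin n) A[X] := Matrix.of fun i j => X ^ (D - k (H₁ i j)) * y (H₁ i j)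
  have hG : G.map toLaurent = (LaurentPolynomial.T (D : ℤ) : LaurentPolynomial A) • G₁.map ψ :=
    Matrix.ext fun i j => key _ (by
      have := Finset.le_sup (f := fun ij : Fin n × Fin m => k (G₁ ij.1 ij.2)) (Finset.mem_univ (i, j))
      dsimp only at this
      omega)
  have hH : H.map toLaurent = (LaurentPolynomial.T (D : ℤ) : LaurentPolynomial A) • H₁.map ψ :=
    Matrix.ext fun i j => key _ (by
      have := Finset.le_sup (f := fun ij : Fin m × Fin n => k (H₁ ij.1 ij.2)) (Finset.mem_univ (i, j))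
      dsimp only at this
      omega)
  have hψC : ∀ a, ψ (C a) = LaurentPolynomial.C a := fun a => by simp [ψ]
  set pL : Matrix (Fin n) (Fin n) (LaurentPolynomial A) := p.map LaurentPolynomial.C with hpL
  set qL : Matrix (Fin m) (Fin m) (LaurentPolynomial A) := q.map LaurentPolynomial.C with hqL
  have hpψ : (p.map C).map ψ = pL := Matrix.ext fun i j => hψC _
  have hqψ : (q.map C).map ψ = qL := Matrix.ext fun i j => hψC _
  have hpC : (p.map C).map toLaurent = pL := Matrix.ext fun i j => toLaurent_C _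
  have hqC : (q.map C).map toLaurent = qL := Matrix.ext fun i j => toLaurent_C _
  have hpp : pL * pL = pL := by rw [hpL, ← Matrix.map_mul, hp]
  set g := f.reverse with hg
  have hgL : toLaurent g = ψ f * LaurentPolynomial.T (f.natDegree : ℤ) := LaurentPolynomial.toLaurent_reverse f
  have hg0 : g.eval 0 = 1 := by rw [← coeff_zero_eq_eval_zero, hg, coeff_zero_reverse, hf.leadingCoeff]
  set e := D - f.natDegree with he
  have he0 : 0 < e := by omega
  obtain ⟨a, b, hab⟩ : IsCoprime (g ^ 2) (X ^ (2 * e)) := by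
    refine IsCoprime.pow ⟨1, -g.divX, ?_⟩
    have h1 := X_mul_divX_add g
    rw [coeff_zero_eq_eval_zero, hg0, C_1] at h1
    linear_combination (-1 : A[X]) * h1
  -- relations after scaling
  have hGL : pL * G.map toLaurent = G.map toLaurent := by
    rw [hG, Matrix.mul_smul, ← hpψ, ← Matrix.map_mul, hpG]
  have hHL : H.map toLaurent * pL = H.map toLaurent := by
    rw [hH, Matrix.smul_mul, ← hpψ, ← Matrix.map_mul, hHp]
  have hGqL : G.map toLaurent * qL = G.map toLaurent := by
    rw [hG, Matrix.smul_mul, ← hqψ, ← Matrix.map_mul, hGq]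
  have hqHL : qL * H.map toLaurent = H.map toLaurent := by
    rw [hH, Matrix.mul_smul, ← hqψ, ← Matrix.map_mul, hqH]
  have hT : (LaurentPolynomial.T (D : ℤ) : LaurentPolynomial A) * LaurentPolynomial.T (D : ℤ) * ψ (f ^ 2) =
      toLaurent (X ^ (2 * e) * g ^ 2) := by
    rw [map_pow, map_mul, map_pow toLaurent g, hgL, toLaurent_X_pow, mul_pow, LaurentPolynomial.T_pow]
    rw [show ((2 * e : ℕ) : ℤ) = ((D : ℤ) - f.natDegree) + ((D : ℤ) - f.natDegree) by omega,
      show ((2 : ℕ) : ℤ) * (f.natDegree : ℤ) = (f.natDegree : ℤ) + f.natDegree by omega]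
    simp only [LaurentPolynomial.T_add, LaurentPolynomial.T_sub]
    have hnn : (LaurentPolynomial.T (-(f.natDegree : ℤ)) : LaurentPolynomial A) * LaurentPolynomial.T (f.natDegree : ℤ) = 1 := by
      rw [← LaurentPolynomial.T_add, neg_add_cancel, LaurentPolynomial.T_zero]
    linear_combination (-(LaurentPolynomial.T (D : ℤ) * LaurentPolynomial.T (D : ℤ) * ψ f ^ 2) *
      (LaurentPolynomial.T (-(f.natDegree : ℤ)) * LaurentPolynomial.T (f.natDegree : ℤ) + 1)) * hnn
  have hGHL : G.map toLaurent * H.map toLaurent = toLaurent (X ^ (2 * e) * g ^ 2) • pL := by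
    rw [hG, hH, Matrix.smul_mul, Matrix.mul_smul, smul_smul, ← Matrix.map_mul, hGH,
      map_smulHom ψ, smul_smul, hpψ, hT]
  have hHGL : H.map toLaurent * G.map toLaurent = toLaurent (X ^ (2 * e) * g ^ 2) • qL := by
    rw [hG, hH, Matrix.smul_mul, Matrix.mul_smul, smul_smul, ← Matrix.map_mul, hHG,
      map_smulHom ψ, smul_smul, hqψ, hT]
  -- the gluing data
  set te : LaurentPolynomial A := LaurentPolynomial.T (e : ℤ) with hte
  set te' : LaurentPolynomial A := LaurentPolynomial.T (-(e : ℤ)) with hte'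
  have htt : te' * te = 1 := by rw [hte, hte', ← LaurentPolynomial.T_add, neg_add_cancel, LaurentPolynomial.T_zero]
  have hXe : toLaurent (X ^ (2 * e) : A[X]) = te * te := by
    rw [toLaurent_X_pow, hte, ← LaurentPolynomial.T_add]
    congr 1
    omega
  let u : Matrix (Fin n ⊕ Fin m) (Fin n) (LaurentPolynomial A) :=
    Matrix.fromRows (te • pL) (te' • H.map toLaurent)
  let v : Matrix (Fin n) (Fin n ⊕ Fin m) (LaurentPolynomial A) :=
    Matrix.fromCols ((toLaurent b * te) • pL) ((toLaurent a * te') • G.map toLaurent)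
  let F : Matrix (Fin n ⊕ Fin m) (Fin n ⊕ Fin m) A[X] :=
    Matrix.fromBlocks ((b * X ^ (2 * e)) • p.map C) (a • G) (b • H) ((a * g ^ 2) • q.map C)
  have huv : u * v = F.map toLaurent := by
    have h11 : te • pL * (toLaurent b * te) • pL = ((b * X ^ (2 * e)) • p.map C).map toLaurent := by
      rw [Matrix.smul_mul, Matrix.mul_smul, hpp, smul_smul, map_smulHom (toLaurent (R := A)), hpC,
        map_mul, hXe]
      congr 1
      ring
    have h12 : te • pL * (toLaurent a * te') • G.map toLaurent = (a • G).map toLaurent := by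
      rw [Matrix.smul_mul, Matrix.mul_smul, hGL, smul_smul, map_smulHom (toLaurent (R := A))]
      congr 1
      linear_combination toLaurent a * htt
    have h21 : te' • H.map toLaurent * (toLaurent b * te) • pL = (b • H).map toLaurent := by
      rw [Matrix.smul_mul, Matrix.mul_smul, hHL, smul_smul, map_smulHom (toLaurent (R := A))]
      congr 1
      linear_combination toLaurent b * htt
    have h22 : te' • H.map toLaurent * (toLaurent a * te') • G.map toLaurent =
        ((a * g ^ 2) • q.map C).map toLaurent := by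
      rw [Matrix.smul_mul, Matrix.mul_smul, hHGL, smul_smul, smul_smul, map_smulHom (toLaurent (R := A)),
        hqC, map_mul, map_mul, hXe]
      congr 1
      linear_combination (toLaurent a * toLaurent (g ^ 2) * (te' * te + 1)) * htt
    show Matrix.fromRows _ _ * Matrix.fromCols _ _ = (Matrix.fromBlocks _ _ _ _).map toLaurent
    rw [Matrix.fromRows_mul_fromCols, Matrix.fromBlocks_map, h11, h12, h21, h22]
  have hvu : v * u = pL := by
    show Matrix.fromCols _ _ * Matrix.fromRows _ _ = _
    rw [Matrix.fromCols_mul_fromRows, Matrix.smul_mul, Matrix.mul_smul, hpp, smul_smul, Matrix.smul_mul,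
      Matrix.mul_smul, hGHL, smul_smul, smul_smul, ← add_smul]
    suffices h : toLaurent b * te * te + toLaurent a * te' * te' * toLaurent (X ^ (2 * e) * g ^ 2) = 1 by
      rw [h, one_smul]
    have h1 := congrArg toLaurent hab
    rw [map_add, map_mul, map_mul, map_one, hXe] at h1
    rw [map_mul, hXe]
    linear_combination h1 + (toLaurent a * toLaurent (g ^ 2) * (te' * te + 1)) * htt
  have hup : u * pL = u := by
    show Matrix.fromRows _ _ * _ = _
    rw [Matrix.fromRows_mul, Matrix.smul_mul, Matrix.smul_mul, hpp, hHL]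
  have hFF : F * F = F := by
    refine Matrix.map_injective toLaurent_injective ?_
    show (F * F).map toLaurent = F.map toLaurent
    rw [Matrix.map_mul, ← huv, show u * v * (u * v) = u * (v * u) * v by simp only [Matrix.mul_assoc], hvu, hup]
  obtain ⟨U, V, hUV, hVU⟩ := extended_of_gluing' hFF (f := p.map C) (by rw [← Matrix.map_mul, hp]) (P := u)
    (Q := v) huv (by
      rw [hvu, hpC, hpL, Matrix.map_map]
      ext i j : 1
      simp)
  let ev := Polynomial.evalRingHom (1 : A)
  let ε : LaurentPolynomial A →+* A := LaurentPolynomial.eval₂ (RingHom.id A) 1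
  have hε : ∀ x, ε (toLaurent x) = ev x := fun x => by
    show LaurentPolynomial.eval₂ (RingHom.id A) 1 (toLaurent x) = _
    rw [LaurentPolynomial.eval₂_toLaurent, Units.val_one]
    rfl
  have h1 : u.map ε * v.map ε = F.map ev := by
    rw [← Matrix.map_mul, huv, Matrix.map_map]
    exact Matrix.ext fun i j => hε _
  have h2 : v.map ε * u.map ε = p := by
    rw [← Matrix.map_mul, hvu, hpL, Matrix.map_map]
    exact Matrix.ext fun i j => by simp [ε]
  let ev0 := Polynomial.evalRingHom (0 : A)
  have hU : U.map ev * V.map ev = F.map ev0 := by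
    rw [← Matrix.map_mul, hUV, Matrix.map_map]
    exact Matrix.ext fun i j => by simp [ev, ev0]
  have hV : V.map ev * U.map ev = F.map ev := by rw [← Matrix.map_mul, hVU]
  let x₂ : Matrix (Fin n ⊕ Fin m) (Fin m) A := Matrix.fromRows (G.map ev0) q
  let y₂ : Matrix (Fin m) (Fin n ⊕ Fin m) A := Matrix.fromCols (b.eval 0 • H.map ev0) q
  have ha0 : a.eval 0 = 1 := by
    have h := congrArg (Polynomial.eval (0 : A)) hab
    simp only [eval_add, eval_mul, eval_pow, eval_X, eval_one, hg0, one_pow, mul_one,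
      zero_pow (show 2 * e ≠ 0 by omega), mul_zero, add_zero] at h
    exact h
  have hGq0 : G.map ev0 * q = G.map ev0 := by
    have h : G * q.map C = G := Matrix.map_injective toLaurent_injective (by
      show (G * q.map C).map toLaurent = G.map toLaurent
      rw [Matrix.map_mul, hqC, hGqL])
    have h' := congrArg (fun M => M.map ev0) h
    simp only [Matrix.map_mul, Matrix.map_map] at h'
    rwa [show q.map (ev0 ∘ C) = q from Matrix.ext fun i j => by simp [ev0]] at h'
  have hqH0 : q * H.map ev0 = H.map ev0 := by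
    have h : q.map C * H = H := Matrix.map_injective toLaurent_injective (by
      show (q.map C * H).map toLaurent = H.map toLaurent
      rw [Matrix.map_mul, hqC, hqHL])
    have h' := congrArg (fun M => M.map ev0) h
    simp only [Matrix.map_mul, Matrix.map_map] at h'
    rwa [show q.map (ev0 ∘ C) = q from Matrix.ext fun i j => by simp [ev0]] at h'
  have hX0 : ev0 (X ^ (2 * e) * g ^ 2) = 0 := by simp [ev0, zero_pow (show 2 * e ≠ 0 by omega)]
  have hGH0 : G.map ev0 * H.map ev0 = 0 := by
    have h : G * H = (X ^ (2 * e) * g ^ 2) • p.map C := Matrix.map_injective toLaurent_injective (by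
      show (G * H).map toLaurent = ((X ^ (2 * e) * g ^ 2) • p.map C).map toLaurent
      rw [Matrix.map_mul, hGHL, map_smulHom (toLaurent (R := A)), hpC])
    rw [← Matrix.map_mul, h, map_smulHom ev0, hX0, zero_smul]
  have hHG0 : H.map ev0 * G.map ev0 = 0 := by
    have h : H * G = (X ^ (2 * e) * g ^ 2) • q.map C := Matrix.map_injective toLaurent_injective (by
      show (H * G).map toLaurent = ((X ^ (2 * e) * g ^ 2) • q.map C).map toLaurent
      rw [Matrix.map_mul, hHGL, map_smulHom (toLaurent (R := A)), hqC])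
    rw [← Matrix.map_mul, h, map_smulHom ev0, hX0, zero_smul]
  have hxy : x₂ * y₂ = F.map ev0 := by
    show Matrix.fromRows _ _ * Matrix.fromCols _ _ = (Matrix.fromBlocks _ _ _ _).map ev0
    rw [Matrix.fromRows_mul_fromCols, Matrix.fromBlocks_map, map_smulHom ev0,
      map_smulHom ev0, map_smulHom ev0, map_smulHom ev0,
      Matrix.mul_smul, Matrix.mul_smul, hGH0, hGq0, hqH0, hq]
    simp [ev0, ha0, hg0, zero_pow (show 2 * e ≠ 0 by omega), Matrix.map_map, Function.comp_def]
  have hyx : y₂ * x₂ = q := by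
    show Matrix.fromCols _ _ * Matrix.fromRows _ _ = q
    rw [Matrix.fromCols_mul_fromRows, Matrix.smul_mul, hHG0, smul_zero, hq, zero_add]
  refine ⟨v.map ε * V.map ev * x₂, y₂ * U.map ev * u.map ε, ?_, ?_⟩
  · calc v.map ε * V.map ev * x₂ * (y₂ * U.map ev * u.map ε)
        = v.map ε * (V.map ev * (x₂ * y₂) * U.map ev) * u.map ε := by simp only [Matrix.mul_assoc]
      _ = v.map ε * ((V.map ev * U.map ev) * (V.map ev * U.map ev)) * u.map ε := by
          rw [hxy, ← hU]; simp only [Matrix.mul_assoc]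
      _ = (v.map ε * u.map ε) * ((v.map ε * u.map ε) * (v.map ε * u.map ε)) := by
          rw [hV, ← h1]; simp only [Matrix.mul_assoc]
      _ = p := by rw [h2, hp, hp]
  · calc y₂ * U.map ev * u.map ε * (v.map ε * V.map ev * x₂)
        = y₂ * (U.map ev * (u.map ε * v.map ε) * V.map ev) * x₂ := by simp only [Matrix.mul_assoc]
      _ = y₂ * ((U.map ev * V.map ev) * (U.map ev * V.map ev)) * x₂ := by
          rw [h1, ← hV]; simp only [Matrix.mul_assoc]
      _ = (y₂ * x₂) * ((y₂ * x₂) * (y₂ * x₂)) := by rw [hU, ← hxy]; simp only [Matrix.mul_assoc]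
      _ = q := by rw [hyx, hq, hq]

/-- Let A be a commutative ring and let A(t) denote the localization of the polynomial ring A[t] at the
multiplicative subset of monic polynomials, viewed as an A-algebra. If P and P' are finitely
generated projective A-modules such that A(t) ⊗_A P and A(t) ⊗_A P' are isomorphic A(t)-modules,
then P and P' are isomorphic A-modules: non-isomorphic finite projective modules stay non-isomorphic
over A(t). (The published statement also covers base change to the ring A((t)) of Laurent power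
series, and modules over A(t) itself; only the A(t) assertion for modules over A is stated.) -/
theorem result
    (A : Type u) [CommRing A] (M : Submonoid A[X]) (hM : ∀ f : A[X], f ∈ M ↔ f.Monic)
    (At : Type u) [CommRing At] [Algebra A[X] At] [IsLocalization M At]
    [Algebra A At] [IsScalarTower A A[X] At]
    (P P' : Type u) [AddCommGroup P] [Module A P] [Module.Finite A P] [Module.Projective A P]
    [AddCommGroup P'] [Module A P'] [Module.Finite A P'] [Module.Projective A P']
    (h : Nonempty ((At ⊗[A] P) ≃ₗ[At] (At ⊗[A] P'))) :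
    Nonempty (P ≃ₗ[A] P') := by
  classical
  obtain ⟨φ⟩ := h
  obtain ⟨n, ι, ρ, hρι⟩ := Groth.Calg8.Horrocks.exists_split (R := A) P
  obtain ⟨m, ι', ρ', hρι'⟩ := Groth.Calg8.Horrocks.exists_split (R := A) P'
  set p := LinearMap.toMatrix' (ι ∘ₗ ρ) with hpdef
  set q := LinearMap.toMatrix' (ι' ∘ₗ ρ') with hqdef
  have hp : p * p = p := by
    rw [hpdef, ← LinearMap.toMatrix'_comp, LinearMap.comp_assoc, ← LinearMap.comp_assoc ρ, ← LinearMap.comp_assoc, hρι]
    rfl
  have hq : q * q = q := by
    rw [hqdef, ← LinearMap.toMatrix'_comp, LinearMap.comp_assoc, ← LinearMap.comp_assoc ρ', ← LinearMap.comp_assoc, hρι']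
    rfl
  let I := Groth.Calg8.Horrocks.bcIn At ι
  let R := Groth.Calg8.Horrocks.bcOut At ρ
  let I' := Groth.Calg8.Horrocks.bcIn At ι'
  let R' := Groth.Calg8.Horrocks.bcOut At ρ'
  have hRI : ∀ z, R (I z) = z := fun z =>
    LinearMap.congr_fun (Groth.Calg8.Horrocks.bcOut_comp_bcIn At ι ρ hρι) z
  have hRI' : ∀ z, R' (I' z) = z := fun z =>
    LinearMap.congr_fun (Groth.Calg8.Horrocks.bcOut_comp_bcIn At ι' ρ' hρι') z
  let gl := I ∘ₗ φ.symm.toLinearMap ∘ₗ R'
  let hl := I' ∘ₗ φ.toLinearMap ∘ₗ R
  set G := LinearMap.toMatrix' gl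
  set H := LinearMap.toMatrix' hl
  have hpA : LinearMap.toMatrix' (I ∘ₗ R) = p.map (algebraMap A At) :=
    Groth.Calg8.Horrocks.toMatrix'_bcIn_comp_bcOut At ι ρ
  have hqA : LinearMap.toMatrix' (I' ∘ₗ R') = q.map (algebraMap A At) :=
    Groth.Calg8.Horrocks.toMatrix'_bcIn_comp_bcOut At ι' ρ'
  have e1 : G * H = p.map (algebraMap A At) := by
    rw [← LinearMap.toMatrix'_comp, ← hpA]
    exact congrArg LinearMap.toMatrix' (LinearMap.ext fun x => by simp [gl, hl, hRI'])
  have e2 : H * G = q.map (algebraMap A At) := by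
    rw [← LinearMap.toMatrix'_comp, ← hqA]
    exact congrArg LinearMap.toMatrix' (LinearMap.ext fun x => by simp [gl, hl, hRI])
  have e3 : p.map (algebraMap A At) * G = G := by
    rw [← hpA, ← LinearMap.toMatrix'_comp]
    exact congrArg LinearMap.toMatrix' (LinearMap.ext fun x => by simp [gl, hRI])
  have e4 : G * q.map (algebraMap A At) = G := by
    rw [← hqA, ← LinearMap.toMatrix'_comp]
    exact congrArg LinearMap.toMatrix' (LinearMap.ext fun x => by simp [gl, hRI'])
  have e5 : q.map (algebraMap A At) * H = H := by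
    rw [← hqA, ← LinearMap.toMatrix'_comp]
    exact congrArg LinearMap.toMatrix' (LinearMap.ext fun x => by simp [hl, hRI'])
  have e6 : H * p.map (algebraMap A At) = H := by
    rw [← hpA, ← LinearMap.toMatrix'_comp]
    exact congrArg LinearMap.toMatrix' (LinearMap.ext fun x => by simp [hl, hRI])
  obtain ⟨f, hf⟩ := IsLocalization.exist_integer_multiples_of_finite M
    (Sum.elim (fun ij : Fin n × Fin m => G ij.1 ij.2) (fun ij : Fin m × Fin n => H ij.1 ij.2))
  choose z hz using hf
  let G₁ : Matrix (Fin n) (Fin m) A[X] := Matrix.of fun i j => z (Sum.inl (i, j))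
  let H₁ : Matrix (Fin m) (Fin n) A[X] := Matrix.of fun i j => z (Sum.inr (i, j))
  set c : At := algebraMap A[X] At (f : A[X]) with hc
  have hG₁ : G₁.map (algebraMap A[X] At) = c • G := Matrix.ext fun i j => by
    show algebraMap A[X] At (z _) = _
    rw [hz, Algebra.smul_def]; rfl
  have hH₁ : H₁.map (algebraMap A[X] At) = c • H := Matrix.ext fun i j => by
    show algebraMap A[X] At (z _) = _
    rw [hz, Algebra.smul_def]; rfl
  have hfm : (f : A[X]).Monic := (hM _).1 f.2
  have hinj : Function.Injective (algebraMap A[X] At) :=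
    IsLocalization.injective At (M := M) fun x hx => ((hM x).1 hx).mem_nonZeroDivisors
  have hC : ∀ {k l : ℕ} (r : Matrix (Fin k) (Fin l) A),
      (r.map C).map (algebraMap A[X] At) = r.map (algebraMap A At) := fun r => Matrix.ext fun i j =>
    (IsScalarTower.algebraMap_apply A A[X] At _).symm
  obtain ⟨X', Y', hXY, hYX⟩ := equiv_of_monic p q hp hq f hfm G₁ H₁
    (Matrix.map_injective hinj (by
      show (G₁ * H₁).map (algebraMap A[X] At) = (((f : A[X]) ^ 2) • p.map C).map (algebraMap A[X] At)
      rw [Matrix.map_mul, hG₁, hH₁, Matrix.smul_mul, Matrix.mul_smul, e1, smul_smul,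
        map_smulHom, hC, map_pow, sq]))
    (Matrix.map_injective hinj (by
      show (H₁ * G₁).map (algebraMap A[X] At) = (((f : A[X]) ^ 2) • q.map C).map (algebraMap A[X] At)
      rw [Matrix.map_mul, hG₁, hH₁, Matrix.smul_mul, Matrix.mul_smul, e2, smul_smul,
        map_smulHom, hC, map_pow, sq]))
    (Matrix.map_injective hinj (by
      show (p.map C * G₁).map (algebraMap A[X] At) = G₁.map (algebraMap A[X] At)
      rw [Matrix.map_mul, hC, hG₁, Matrix.mul_smul, e3]))
    (Matrix.map_injective hinj (by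
      show (G₁ * q.map C).map (algebraMap A[X] At) = G₁.map (algebraMap A[X] At)
      rw [Matrix.map_mul, hC, hG₁, Matrix.smul_mul, e4]))
    (Matrix.map_injective hinj (by
      show (q.map C * H₁).map (algebraMap A[X] At) = H₁.map (algebraMap A[X] At)
      rw [Matrix.map_mul, hC, hH₁, Matrix.mul_smul, e5]))
    (Matrix.map_injective hinj (by
      show (H₁ * p.map C).map (algebraMap A[X] At) = H₁.map (algebraMap A[X] At)
      rw [Matrix.map_mul, hC, hH₁, Matrix.smul_mul, e6]))
  have hιρ : ∀ x, ι (ρ x) = p.mulVec x := fun x => by rw [hpdef, LinearMap.toMatrix'_mulVec]; rfl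
  have hιρ' : ∀ x, ι' (ρ' x) = q.mulVec x := fun x => by rw [hqdef, LinearMap.toMatrix'_mulVec]; rfl
  refine ⟨LinearEquiv.ofLinearMap (ρ' ∘ₗ Matrix.toLin' Y' ∘ₗ ι) (ρ ∘ₗ Matrix.toLin' X' ∘ₗ ι') ?_ ?_⟩
  · refine LinearMap.ext fun z => ?_
    have h3 : ρ' (ι' z) = z := LinearMap.congr_fun hρι' z
    simp only [LinearMap.comp_apply, LinearMap.id_apply, Matrix.toLin'_apply, hιρ, Matrix.mulVec_mulVec]
    rw [← hXY, show Y' * (X' * Y' * X') = Y' * X' * (Y' * X') by simp only [Matrix.mul_assoc], hYX, hq,
      ← hιρ', h3, h3]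
  · refine LinearMap.ext fun z => ?_
    have h3 : ρ (ι z) = z := LinearMap.congr_fun hρι z
    simp only [LinearMap.comp_apply, LinearMap.id_apply, Matrix.toLin'_apply, hιρ', Matrix.mulVec_mulVec]
    rw [← hYX, show X' * (Y' * X' * Y') = X' * Y' * (X' * Y') by simp only [Matrix.mul_assoc], hXY, hp,
      ← hιρ, h3, h3]

end Groth.Agent.S19963
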