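import Groth.Statements.S19964
import Groth.Agent.NeronArea.MappingDescent
import Groth.Agent.NeronArea.GenericDense
import Groth.Agent.Reductive.SubgroupObj
import Mathlib.RingTheory.Flat.TorsionFree
set_option backward.isDefEq.respectTransparency false
set_option backward.isDefEq.respectTransparency.types false

set_option autoImplicit false
universe u
open CategoryTheory MonoidalCategory CartesianMonoidalCategory MonObj GrpObj AlgebraicGeometry CategoryTheory.Limits
open Neron

namespace Groth.Agent.S19964

theorem isSchemeTheoreticallyDominant_toImage {A Y : Scheme.{u}} (f : A ⟶ Y) [QuasiCompact f] :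
    IsSchemeTheoreticallyDominant f.toImage := by
  rw [isSchemeTheoreticallyDominant_iff]
  refine Scheme.IdealSheafData.ext_of_iSup_eq_top
    (fun U : Y.affineOpens => ⟨f.imageι ⁻¹ᵁ U.1, U.2.preimage f.imageι⟩)
    (by rw [← f.imageι.preimage_iSup, iSup_affineOpens_eq_top, Scheme.Hom.preimage_top]) fun U => ?_
  simp only [Scheme.Hom.ker_apply, Scheme.IdealSheafData.ideal_bot, Pi.bot_apply]
  exact (RingHom.injective_iff_ker_eq_bot _).1 (f.toImage_app_injective U)

/-- Global functions on a scheme over the fraction field form a torsion-free module over the base. -/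
theorem flat_toImage {R : Type u} [CommRing R] [IsDedekindDomain R] {Y : Scheme.{u}}
    (q : Y ⟶ Spec (CommRingCat.of R)) {A : Scheme.{u}} (f : A ⟶ Y) [QuasiCompact f]
    (b : A ⟶ Spec (CommRingCat.of (FractionRing R))) (hb : b ≫ Neron.genPt R = f ≫ q) :
    Flat (f.imageι ≫ q) := by
  rw [HasRingHomProperty.iff_of_source_openCover (P := @Flat) f.image.affineCover]
  intro n
  let U := (f.image.affineCover.f n).opensRange
  have hU : IsAffineOpen U := isAffineOpen_opensRange _
  let ψ := ((f.image.affineCover.f n ≫ f.imageι ≫ q)).appTop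
  let φ := (f.image.affineCover.f n ≫ f.imageι ≫ q)
  let a : pullback f.toImage (f.image.affineCover.f n) ⟶ A := pullback.fst _ _
  let k := pullback.snd f.toImage (f.image.affineCover.f n)
  haveI := isSchemeTheoreticallyDominant_toImage f
  haveI : IsSchemeTheoreticallyDominant k := inferInstance
  have hk : Function.Injective k.appTop := k.app_injective ⊤
  have hsq : k ≫ φ = (a ≫ b) ≫ Neron.genPt R := by
    simp only [k, φ, a, Category.assoc, hb, ← reassoc_of% pullback.condition, f.toImage_imageι_assoc]
  have htop : φ.appTop ≫ k.appTop = (Neron.genPt R).appTop ≫ (a ≫ b).appTop :=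
    (Scheme.Hom.comp_appTop k φ).symm.trans
      ((congrArg Scheme.Hom.appTop hsq).trans (Scheme.Hom.comp_appTop _ _))
  suffices h : ((Scheme.ΓSpecIso (CommRingCat.of R)).inv ≫ φ.appTop).hom.Flat by
    have := RingHom.Flat.respectsIso.cancel_left_isIso (Scheme.ΓSpecIso (CommRingCat.of R)).inv φ.appTop
    exact this.1 h
  algebraize [((Scheme.ΓSpecIso (CommRingCat.of R)).inv ≫ φ.appTop).hom]
  show Module.Flat R _
  rw [IsDedekindDomain.flat_iff_torsion_eq_bot, eq_bot_iff]
  rintro x ⟨⟨r, hr⟩, hx⟩
  have hx' : r • x = 0 := hx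
  have h0 := congrArg k.appTop hx'
  rw [Algebra.smul_def, map_mul, map_zero] at h0
  have hu : IsUnit (k.appTop (algebraMap R _ r)) := by
    show IsUnit ((φ.appTop ≫ k.appTop) ((Scheme.ΓSpecIso (CommRingCat.of R)).inv r))
    rw [htop]
    show IsUnit ((a ≫ b).appTop (((Scheme.ΓSpecIso (CommRingCat.of R)).inv ≫ (Neron.genPt R).appTop) r))
    rw [Neron.genPt, ← Scheme.ΓSpecIso_inv_naturality]
    exact (((IsLocalization.map_units (FractionRing R) ⟨r, hr⟩).map
      (Scheme.ΓSpecIso (CommRingCat.of (FractionRing R))).inv.hom)).map (a ≫ b).appTop.hom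
  exact hk (((hu.mul_right_eq_zero).1 h0).trans (map_zero _).symm)

/-- A closed immersion into the restriction whose composite is scheme-theoretically dominant. -/
theorem isIso_of_dominant {A B T : Scheme.{u}} (h : A ⟶ B) (m : B ⟶ T) [IsClosedImmersion h] [Mono m]
    [Flat m] [QuasiCompact m] [IsSchemeTheoreticallyDominant (h ≫ m)] : IsIso h := by
  have hsq : IsPullback (𝟙 A) h (h ≫ m) m := by
    refine IsPullback.of_isLimit' ⟨Category.id_comp _⟩
      (PullbackCone.IsLimit.mk _ (fun s => s.fst) (fun s => Category.comp_id _) (fun s => ?_)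
        fun s m' h1 _ => by simpa using h1)
    rw [← cancel_mono m, Category.assoc]
    exact s.condition
  haveI : IsSchemeTheoreticallyDominant h := IsSchemeTheoreticallyDominant.of_isPullback hsq
  exact IsClosedImmersion.isIso_iff_ker_eq_bot.mpr h.ker_eq_bot


/-- Let R be a Dedekind domain with fraction field K, G a group scheme over Spec R and i : H_K → G_K a
closed subgroup scheme of the generic fibre G_K = G ×_R K (a homomorphism which is a closed
immersion). Then there are a group scheme H over Spec R, flat over Spec R, and a homomorphism j : H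
→ G which is a closed immersion, together with a morphism H_K → H presenting H_K as the generic
fibre H ×_R K compatibly with i and the embedding G_K → G, and with trivial kernel ideal sheaf (H_K
is schematically dense in H). In words: the schematic closure in G of a closed K-subgroup of the
generic fibre is a flat closed R-subgroup scheme of G. (The source states this for group algebraic
spaces over a connected Dedekind scheme; the case of schemes over an affine base is stated.) -/
theorem result
    (R : Type u) [CommRing R] [IsDedekindDomain R]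
    (G : Over (Spec (CommRingCat.of R))) [GrpObj G]
    (HK : Over (Spec (CommRingCat.of (FractionRing R)))) [GrpObj HK]
    (i : HK ⟶ Red.bc (Neron.genPt R) G) [IsMonHom i] [IsClosedImmersion i.left] :
    ∃ (H : Over (Spec (CommRingCat.of R))) (_ : GrpObj H) (j : H ⟶ G) (φ : HK.left ⟶ H.left),
      IsMonHom j ∧ IsClosedImmersion j.left ∧ Flat H.hom ∧
      IsPullback φ HK.hom H.hom (Neron.genPt R) ∧
      φ ≫ j.left = i.left ≫ pullback.fst G.hom (Neron.genPt R) ∧
      φ.ker = ⊥ := by
  haveI : IsPreimmersion (Neron.genPt R) := IsPreimmersion.of_isLocalization (nonZeroDivisors R)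
  haveI : Flat (Neron.genPt R) := by
    refine (Flat.SpecMap_iff (f := CommRingCat.ofHom _)).2 ?_
    rw [CommRingCat.hom_ofHom, RingHom.flat_algebraMap_iff]
    exact IsLocalization.flat _ (nonZeroDivisors R)
  haveI : IsAffineHom (Neron.genPt R) := inferInstanceAs (IsAffineHom (Spec.map _))
  let f := i.left ≫ pullback.fst G.hom (Neron.genPt R)
  have hb : HK.hom ≫ Neron.genPt R = f ≫ G.hom := by
    show _ = (i.left ≫ pullback.fst G.hom (Neron.genPt R)) ≫ G.hom
    rw [Category.assoc, pullback.condition, ← Over.w i, Category.assoc]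
    rfl
  let H : Over (Spec (CommRingCat.of R)) := Over.mk (f.imageι ≫ G.hom)
  let j : H ⟶ G := Over.homMk f.imageι rfl
  haveI : IsClosedImmersion j.left := inferInstanceAs (IsClosedImmersion f.imageι)
  haveI : Mono j := Over.mono_of_mono_left j
  haveI : Flat H.hom := flat_toImage G.hom f HK.hom hb
  let h : HK.left ⟶ pullback H.hom (Neron.genPt R) := pullback.lift f.toImage HK.hom (by
    show f.toImage ≫ f.imageι ≫ G.hom = _
    rw [f.toImage_imageι_assoc, hb])
  have hi : h ≫ ((Over.pullback (Neron.genPt R)).map j).left = i.left := by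
    apply pullback.hom_ext
    · simp [h, j, f]
    · simp only [Category.assoc]
      erw [Over.w ((Over.pullback (Neron.genPt R)).map j)]
      exact (pullback.lift_snd _ _ _).trans (Over.w i).symm
  haveI : IsClosedImmersion h := by
    haveI : IsClosedImmersion ((Over.pullback (Neron.genPt R)).map j).left :=
      MorphismProperty.of_isPullback (Groth.NeronArea.rstMap_left_isPullback (Neron.genPt R) j).flip ‹_›
    haveI : IsClosedImmersion (h ≫ ((Over.pullback (Neron.genPt R)).map j).left) := by rw [hi]; infer_instance
    exact IsClosedImmersion.of_comp h ((Over.pullback (Neron.genPt R)).map j).left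
  haveI := isSchemeTheoreticallyDominant_toImage f
  haveI : IsSchemeTheoreticallyDominant (h ≫ pullback.fst H.hom (Neron.genPt R)) := by
    rw [pullback.lift_fst]; infer_instance
  haveI : IsIso h := isIso_of_dominant h (pullback.fst H.hom (Neron.genPt R))
  have hpb : IsPullback f.toImage HK.hom H.hom (Neron.genPt R) := by
    refine IsPullback.of_iso_pullback ⟨(f.toImage_imageι_assoc G.hom).trans hb.symm⟩ (asIso h) ?_ ?_
    · exact pullback.lift_fst _ _ _
    · exact pullback.lift_snd _ _ _
  have key : ∀ (W : Over (Spec (CommRingCat.of R))) [Flat W.hom] (a : W ⟶ G)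
      (q : (Over.pullback (Neron.genPt R)).obj W ⟶ HK), q ≫ i = (Over.pullback (Neron.genPt R)).map a →
      ∃ b : W ⟶ H, b ≫ j = a := by
    intro W _ a q hq
    obtain ⟨b, hb'⟩ := Groth.NeronArea.exists_lift_of_dominant f.imageι a.left
      (pullback.fst W.hom (Neron.genPt R)) (q.left ≫ f.toImage) (by
        have := congrArg (fun k => k.left ≫ pullback.fst G.hom (Neron.genPt R)) hq
        simp only [Over.comp_left, Category.assoc] at this
        rw [Category.assoc, f.toImage_imageι]
        exact this.trans (by simp))
    exact ⟨Over.homMk b (by show b ≫ f.imageι ≫ G.hom = _; rw [reassoc_of% hb', Over.w a]),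
      Over.OverMorphism.ext hb'⟩
  let e : (Over.pullback (Neron.genPt R)).obj H ≅ HK :=
    (Over.isoMk (asIso h) (pullback.lift_snd _ _ _)).symm
  have he : e.hom ≫ i = (Over.pullback (Neron.genPt R)).map j := by
    ext : 1
    show inv h ≫ i.left = _
    rw [← hi, IsIso.inv_hom_id_assoc]
  haveI : Flat (H ⊗ H).hom := inferInstanceAs (Flat (pullback.fst H.hom H.hom ≫ H.hom))
  haveI : Flat (𝟙_ (Over (Spec (CommRingCat.of R)))).hom := inferInstanceAs (Flat (𝟙 _))
  obtain ⟨e1, he1⟩ := key (𝟙_ _) 1 1 (by rw [MonObj.one_comp, Functor.map_one])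
  obtain ⟨m, hm⟩ := key (H ⊗ H) ((fst H H ≫ j) * (snd H H ≫ j))
    (((Over.pullback (Neron.genPt R)).map (fst H H) ≫ e.hom) *
      ((Over.pullback (Neron.genPt R)).map (snd H H) ≫ e.hom))
    (by rw [MonObj.mul_comp, Category.assoc, Category.assoc, he, Functor.map_mul, Functor.map_comp,
      Functor.map_comp])
  obtain ⟨n, hn⟩ := key H j⁻¹ e.hom⁻¹ (by rw [GrpObj.inv_comp, he, Functor.map_inv'])
  obtain ⟨Gr, hmon⟩ := Groth.Reductive.exists_grpObj_of_mono j ⟨e1, he1⟩ ⟨m, hm⟩ ⟨n, hn⟩
  exact ⟨H, Gr, j, f.toImage, hmon, inferInstance, inferInstance, hpb, f.toImage_imageι,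
    f.toImage.ker_eq_bot⟩

end Groth.Agent.S19964
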