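import Groth.Statements.S19967
import Groth.Agent.Flatmor4.GenericDense

set_option autoImplicit false
universe u
open CategoryTheory CategoryTheory.Limits AlgebraicGeometry
open FlatMor

namespace Groth.Agent.S19967

/-- Let f : S' → S be a flat morphism of locally Noetherian schemes, i : C → S and i' : C' → S' closed
immersions with C and C' integral, and g : C' → C with g ≫ i = i' ≫ f. Let φ : C' → C ×_S S' be the
induced morphism and η ∈ S the image of the generic point of C. If φ becomes an isomorphism after
base change along the canonical morphism Spec O_{S,η} → S (that is, after pulling back to (C ×_S S')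
×_S Spec O_{S,η}), then φ is an isomorphism. (In the source S and S' are excellent surfaces over an
algebraically closed field, C and C' regular curves not inside the singular loci, and the
isomorphism over Spec O_{S,η} is part of the definition of a morphism of surface-curve pairs; those
extra hypotheses play no part.) -/
theorem result
    {S S' C C' : Scheme.{u}} [IsLocallyNoetherian S] [IsLocallyNoetherian S']
    (f : S' ⟶ S) [Flat f] (i : C ⟶ S) [IsClosedImmersion i] [IsIntegral C]
    (i' : C' ⟶ S') [IsClosedImmersion i'] [IsIntegral C']
    (g : C' ⟶ C) (hsq : g ≫ i = i' ≫ f)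
    (hgen : IsIso (pullback.snd (pullback.lift g i' hsq)
      (pullback.fst (pullback.fst i f ≫ i) (S.fromSpecStalk (i.base (genericPoint C)))))) :
    IsIso (pullback.lift g i' hsq) := by
  set φ := pullback.lift g i' hsq
  haveI : IsClosedImmersion (φ ≫ pullback.snd i f) := by
    rw [show φ ≫ pullback.snd i f = i' from pullback.lift_snd _ _ _]; infer_instance
  haveI : IsClosedImmersion φ := IsClosedImmersion.of_comp φ (pullback.snd i f)
  haveI : Flat (S.fromSpecStalk (i.base (genericPoint C))) := Groth.PropsBasic2.flat_fromSpecStalk _
  set q := pullback.fst (pullback.fst i f ≫ i) (S.fromSpecStalk (i.base (genericPoint C)))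
  haveI : IsIso (pullback.snd φ q) := hgen
  have hq : q = (inv (pullback.snd φ q) ≫ pullback.fst φ q) ≫ φ := by
    rw [Category.assoc, pullback.condition (f := φ) (g := q), IsIso.inv_hom_id_assoc]
  rw [IsClosedImmersion.isIso_iff_ker_eq_bot, eq_bot_iff]
  intro U s hs
  have h1 : φ.app U s = 0 := RingHom.mem_ker.1 (φ.ideal_ker_le U hs)
  have h2 : ∀ (r : pullback (pullback.fst i f ≫ i) (S.fromSpecStalk (i.base (genericPoint C))) ⟶ C'),
      (r ≫ φ).app U s = 0 := fun r => by
    show r.app _ (φ.app U s) = 0
    rw [h1, map_zero]
  have h3 : q.app U s = 0 := by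
    have := h2 (inv (pullback.snd φ q) ≫ pullback.fst φ q)
    rw [Scheme.Hom.congr_app hq U, ConcreteCategory.comp_apply, this]
    exact map_zero _
  have h4 := Groth.Flatmor4.app_injective_of_generic_mem_range (pullback.fst i f) q
    (fun z hz => Groth.Flatmor4.mem_range_pullback_fst_fromSpecStalk _ _ z
      (show i ((pullback.fst i f) z) = _ by rw [hz])) U.1
  exact (Submodule.mem_bot _).2 (h4 (h3.trans (map_zero _).symm))

end Groth.Agent.S19967
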