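import Groth.Statements.S19968
import Mathlib
import Groth.Agent.PicAux.GenLocusAffine

set_option autoImplicit false
universe u
open CategoryTheory AlgebraicGeometry Opposite
open LinSer

namespace Groth.Agent.S19968

/-- Rational points impose at most one condition each on a complete linear system. Let k be a field, X a
scheme over k, L an invertible O_X-module, and p_1, …, p_n morphisms Spec k → X over k (k-rational
points). Suppose there are n + 1 global sections of L, given as morphisms t_0, …, t_n : O_X → L,
whose values in Γ(X, L) are linearly independent over k. Then there is a nonzero morphism s : O_X →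
L such that no p_i lands in the open X_s where s generates L; that is, s vanishes at every p_i and
the p_i lie on a common member of the complete linear system of L. (The source has X an irreducible
projective variety over the complex numbers, L base-point-free and the points closed, and phrases
this as surjectivity of the incidence correspondence onto X^n for n at most the dimension of the
linear system; only rationality of the points and the dimension count are used, and
base-point-freeness plays no part in this item.) -/
theorem result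
    (k : Type u) [Field k] (X : Scheme.{u}) [X.Over (Spec (CommRingCat.of k))]
    (L : X.Modules) (hL : PicF.IsInvertible L)
    (n : ℕ) (p : Fin n → (Spec (CommRingCat.of k) ⟶ X))
    (hp : ∀ i, p i ≫ (X ↘ Spec (CommRingCat.of k)) = 𝟙 _)
    (t : Fin (n + 1) → (Coh.structureModule X ⟶ L))
    (ht : LinSer.LinIndep k X L (fun j => (L.unitHomEquiv (t j)).val (op ⊤))) :
    ∃ s : Coh.structureModule X ⟶ L, s ≠ 0 ∧
      ∀ i, (p i) (IsLocalRing.closedPoint k) ∉ CohB1.genLocus L s := by
  classical
  let x : Fin n → X := fun i => p i (IsLocalRing.closedPoint k)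
  choose U e hUaff hx he using fun i => Groth.PicAux.exists_affine_gen_mem hL (x i)
  have hpre : ∀ i, (⊤ : (Spec (CommRingCat.of k)).Opens) ≤ p i ⁻¹ᵁ U i := fun i y _ => by
    rw [Subsingleton.elim y (IsLocalRing.closedPoint k)]; exact hx i
  let φ : ∀ i, Γ(X, U i) →+* k := fun i =>
    (Scheme.ΓSpecIso (CommRingCat.of k)).hom.hom.comp ((p i).appLE (U i) ⊤ (hpre i)).hom
  have hφ : ∀ i (a : k), φ i (Groth.PicAux.resX X le_top (Coh.toGlobal (X ↘ Spec (CommRingCat.of k)) a)) = a := by
    intro i a
    have e1 : (X ↘ Spec (CommRingCat.of k)).appTop ≫ X.presheaf.map (homOfLE (le_top : U i ≤ ⊤)).op ≫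
        (p i).appLE (U i) ⊤ (hpre i) = 𝟙 _ := by
      rw [Scheme.Hom.map_appLE, Scheme.Hom.appLE, Scheme.Hom.appTop]
      have := Scheme.Hom.comp_appTop (p i) (X ↘ Spec (CommRingCat.of k))
      rw [hp i, Scheme.Hom.id_appTop] at this
      simpa [Scheme.Hom.appTop] using this.symm
    have e2 := congr($(e1) ((Scheme.ΓSpecIso (CommRingCat.of k)).inv a))
    show (Scheme.ΓSpecIso (CommRingCat.of k)).hom ((p i).appLE (U i) ⊤ (hpre i)
      (X.presheaf.map (homOfLE (le_top : U i ≤ ⊤)).op ((X ↘ Spec (CommRingCat.of k)).appTop
        ((Scheme.ΓSpecIso (CommRingCat.of k)).inv a)))) = a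
    simp only [ConcreteCategory.comp_apply, ConcreteCategory.id_apply] at e2
    rw [e2]
    exact congr($((Scheme.ΓSpecIso (CommRingCat.of k)).inv_hom_id) a)
  choose cf hcf using fun i j => (he i).exists_coeff le_rfl (Groth.PicAux.res L le_top (Groth.PicAux.gsec (t j)))
  have hker : LinearMap.ker (Matrix.mulVecLin (Matrix.of fun i j => φ i (cf i j))) ≠ ⊥ :=
    LinearMap.ker_ne_bot_of_finrank_lt (by simp)
  obtain ⟨a, ha, ha0⟩ := Submodule.exists_mem_ne_zero_of_ne_bot hker
  let T : k →+* Γ(X, ⊤) := Coh.toGlobal (X ↘ Spec (CommRingCat.of k))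
  let t₀ : Γ(L, ⊤) := ∑ j, T (a j) • Groth.PicAux.gsec (t j)
  refine ⟨Groth.PicAux.homOfSection t₀, fun h0 => ?_, fun i hmem => ?_⟩
  · have h := congrArg Groth.PicAux.gsec h0
    rw [Groth.PicAux.gsec_homOfSection] at h
    rw [show Groth.PicAux.gsec (0 : Coh.structureModule X ⟶ L) = 0 by simp [Groth.PicAux.gsec]] at h
    exact ha0 (ht a h)
  · let c₀ : Γ(X, U i) := ∑ j, Groth.PicAux.resX X le_top (T (a j)) * cf i j
    have hc : Groth.PicAux.res L le_top (Groth.PicAux.gsec (Groth.PicAux.homOfSection t₀)) = c₀ • e i := by
      rw [Groth.PicAux.gsec_homOfSection, Finset.sum_smul]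
      show L.presheaf.map _ t₀ = _
      rw [map_sum]
      refine Finset.sum_congr rfl fun j _ => ?_
      show Groth.PicAux.res L le_top (_ • _) = _
      rw [Groth.PicAux.res_smul, hcf i j, Groth.PicAux.res_self, mul_smul]
    have h1 : x i ∈ X.basicOpen c₀ := by
      rw [← Groth.PicAux.genLocus_inf_eq_basicOpen (he i) hc]
      exact ⟨hmem, hx i⟩
    have h2 : φ i c₀ = 0 := by
      have := congrFun (LinearMap.mem_ker.1 ha) i
      simp only [c₀, map_sum, map_mul, show ∀ b, φ i (Groth.PicAux.resX X le_top (T b)) = b from hφ i]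
      simpa [Matrix.mulVec, dotProduct, mul_comm] using this
    have h3 : IsLocalRing.closedPoint k ∈ (Spec (CommRingCat.of k)).basicOpen ((p i).appLE (U i) ⊤ (hpre i) c₀) := by
      rw [Scheme.basicOpen_appLE]
      exact ⟨trivial, h1⟩
    have h4 : (p i).appLE (U i) ⊤ (hpre i) c₀ = 0 :=
      (Scheme.ΓSpecIso (CommRingCat.of k)).commRingCatIsoToRingEquiv.injective (h2.trans (map_zero _).symm)
    rw [h4, Scheme.basicOpen_zero] at h3
    exact h3

end Groth.Agent.S19968
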