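import Groth.Statements.S1997
import Mathlib
import Groth.Agent.EtaleAlgebra.WeakDimOne
-- import your own Groth.Agent.* helpers here

set_option autoImplicit false
universe u
open CategoryTheory
open EtAlg

namespace Groth.Agent.S1997

/-- Let A be a ring all of whose ideals are flat (weak dimension at most one) and A -> B a flat,
injective ring map which is an epimorphism in the category of commutative rings. Then A is
integrally closed in B. -/
theorem result (A B : Type u) [CommRing A] [CommRing B] [Algebra A B]
    (hA : ∀ I : Ideal A, Module.Flat A I) [Module.Flat A B] (hinj : Function.Injective (algebraMap A B))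
    (hepi : Epi (CommRingCat.ofHom (algebraMap A B))) : IsIntegrallyClosedIn A B := by
  open scoped TensorProduct in
    classical
    refine isIntegrallyClosedIn_iff.mpr ⟨hinj, fun {x} hx => ?_⟩
    let C := Algebra.adjoin A {x}
    haveI : Module.Flat A C :=
      Groth.Agent.EtaleAlgebra.WeakDimOne.flat_submodule_of_ideals_flat A hA C.toSubmodule
    haveI : Algebra.IsIntegral A C := Algebra.IsIntegral.adjoin (fun y hy => by
      rw [Set.mem_singleton_iff.mp hy]; exact hx)
    haveI : FaithfulSMul A C := (faithfulSMul_iff_algebraMap_injective A C).mpr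
      (fun a b h => hinj (congrArg Subtype.val h))
    haveI : Module.FaithfullyFlat A C := Module.FaithfullyFlat.of_comap_surjective fun p => by
      obtain ⟨⟨Q, hQ, hQp⟩⟩ := Ideal.nonempty_primesOver (S := C) p.asIdeal
      exact ⟨⟨Q, hQ⟩, PrimeSpectrum.ext hQp.over.symm⟩
    have hB : x ⊗ₜ[A] (1 : B) = (1 : B) ⊗ₜ[A] x := by
      have h : CommRingCat.ofHom (Algebra.TensorProduct.includeLeftRingHom : B →+* B ⊗[A] B) =
          CommRingCat.ofHom (Algebra.TensorProduct.includeRight : B →ₐ[A] B ⊗[A] B).toRingHom := by
        rw [← cancel_epi (CommRingCat.ofHom (algebraMap A B))]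
        ext a
        simp [Algebra.TensorProduct.tmul_one_eq_one_tmul]
      exact congrArg (fun φ => φ.hom x) h
    let x' : C := ⟨x, Algebra.subset_adjoin rfl⟩
    have hC : x' ⊗ₜ[A] (1 : C) = (1 : C) ⊗ₜ[A] x' := by
      have h1 : Function.Injective (LinearMap.lTensor C C.val.toLinearMap) :=
        Module.Flat.lTensor_preserves_injective_linearMap _ Subtype.val_injective
      have h2 : Function.Injective (LinearMap.rTensor B C.val.toLinearMap) :=
        Module.Flat.rTensor_preserves_injective_linearMap _ Subtype.val_injective
      apply h1
      apply h2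
      simpa [x'] using hB
    obtain ⟨a, ha⟩ := ((Algebra.IsEffective.of_faithfullyFlat A C) x').mp
      (by rw [Algebra.TensorProduct.includeLeftSubRight_apply, hC, sub_self])
    exact ⟨a, congrArg Subtype.val ha⟩

end Groth.Agent.S1997
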