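import Groth.Statements.S19974
import Mathlib.Algebra.TrivSqZeroExt.Basic

set_option autoImplicit false
universe u v w x
open scoped BigOperators
open DefMod

namespace Groth.Agent.S19974

/-- Let K be a field of characteristic 0, O a commutative K-algebra with a K-linear derivation δ, and D
the ring of differential operators O[∂], presented abstractly as a K-algebra D with an algebra map ι
: O → D and an element ∂ of D such that ∂ ι(f) = ι(f) ∂ + ι(δ f) for every f in O and such that
every element of D is in a unique way a finite sum of terms ι(f_i) ∂^i. Let E be a left D-module,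
given as a K-vector space with a K-algebra map ρ : D → End_K(E), which is finite free as an
O-module. A K-derivation of D with values in the D-bimodule End_K(E) is a K-linear map s with s(PQ)
= s(P) ρ(Q) + ρ(P) s(Q); a K-derivation of O with values in End_K(E) is a K-linear map r with r(fg)
= r(f) ρ(ι g) + ρ(ι f) r(g). Then: (a) for every K-derivation s of D into End_K(E), the pair (r, v)
= (s ∘ ι, s(∂)) satisfies the identity [r(f), ρ(∂)] + [ρ(ι f), v] + r(δ f) = 0 for all f in O; (b)
conversely, for every K-derivation r of O into End_K(E) and every v in End_K(E) satisfying that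
identity for all f, there is exactly one K-derivation s of D into End_K(E) with s ∘ ι = r and s(∂) =
v. In other words s ↦ (s ∘ ι, s(∂)) maps the K-derivations of D injectively onto the pairs
satisfying the identity. -/
theorem result
    (K : Type u) [Field K] [CharZero K]
    (O : Type v) [CommRing O] [Algebra K O] (δ : Derivation K O O)
    (D : Type w) [Ring D] [Algebra K D] (ι : O →ₐ[K] D) (d : D)
    (hd : ∀ f : O, d * ι f = ι f * d + ι (δ f))
    (hbasis : Function.Bijective (fun c : ℕ →₀ O => c.sum (fun i f => ι f * d ^ i)))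
    (E : Type x) [AddCommGroup E] [Module K E] (ρ : D →ₐ[K] Module.End K E)
    (hE : ∃ (n : ℕ) (b : Fin n → E), Function.Bijective (fun c : Fin n → O => ∑ i, ρ (ι (c i)) (b i))) :
    (∀ s : D →ₗ[K] Module.End K E, (∀ P Q : D, s (P * Q) = s P * ρ Q + ρ P * s Q) →
      ∀ f : O, (s (ι f) * ρ d - ρ d * s (ι f)) + (ρ (ι f) * s d - s d * ρ (ι f)) + s (ι (δ f)) = 0) ∧
    ∀ (r : O →ₗ[K] Module.End K E) (v : Module.End K E),
      (∀ f g : O, r (f * g) = r f * ρ (ι g) + ρ (ι f) * r g) →
      (∀ f : O, (r f * ρ d - ρ d * r f) + (ρ (ι f) * v - v * ρ (ι f)) + r (δ f) = 0) →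
      ∃! s : D →ₗ[K] Module.End K E,
        (∀ P Q : D, s (P * Q) = s P * ρ Q + ρ P * s Q) ∧ s ∘ₗ ι.toLinearMap = r ∧ s d = v := by
  classical
  refine ⟨fun s hs f => ?_, fun r v hr hrv => ?_⟩
  · have h := congrArg s (hd f)
    rw [map_add, hs, hs] at h
    have e : s (ι (δ f)) = s d * ρ (ι f) + ρ d * s (ι f) - (s (ι f) * ρ d + ρ (ι f) * s d) := by
      rw [h]; abel
    rw [e]; abel
  let Φ : (ℕ →₀ O) →ₗ[K] D := Finsupp.lsum K (fun i => LinearMap.mulRight K (d ^ i) ∘ₗ ι.toLinearMap)
  have hΦ : Function.Bijective Φ := by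
    have e : (⇑Φ : (ℕ →₀ O) → D) = fun c => c.sum (fun i f => ι f * d ^ i) := rfl
    rw [e]; exact hbasis
  let Ψ := LinearEquiv.ofBijective Φ hΦ
  have hΦs : ∀ i f, Φ (Finsupp.single i f) = ι f * d ^ i := fun i f => by simp [Φ]
  -- two linear maps agreeing on the monomials agree
  have ext : ∀ x : D, ∀ P : D → Prop, (P 0) → (∀ a b, P a → P b → P (a + b)) → (∀ g i, P (ι g * d ^ i)) → P x := by
    intro x P h0 hadd hmon
    obtain ⟨c, rfl⟩ := hΦ.2 x
    induction c using Finsupp.induction_linear with
    | zero => rw [map_zero]; exact h0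
    | add a b ha hb => rw [map_add]; exact hadd _ _ ha hb
    | single i f => rw [hΦs]; exact hmon f i
  have hr1 : r 1 = 0 := by simpa using hr 1 1
  let T0 : O →ₐ[K] (TrivSqZeroExt (Module.End K E) (Module.End K E)) :=
    AlgHom.ofLinearMap
      { toFun := fun f => TrivSqZeroExt.inl (ρ (ι f)) + TrivSqZeroExt.inr (r f)
        map_add' := fun f g => TrivSqZeroExt.ext (by simp) (by simp)
        map_smul' := fun c f => TrivSqZeroExt.ext (by simp) (by simp) }
      (TrivSqZeroExt.ext (by simp) (by simp [hr1]))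
      (fun f g => by
        refine TrivSqZeroExt.ext (by simp) ?_
        simp [hr, add_comm])
  let Td : (TrivSqZeroExt (Module.End K E) (Module.End K E)) := TrivSqZeroExt.inl (ρ d) + TrivSqZeroExt.inr v
  have hrel : ∀ f, Td * T0 f = T0 f * Td + T0 (δ f) := by
    intro f
    refine TrivSqZeroExt.ext ?_ ?_
    · simp [T0, Td, ← map_mul, ← map_add, hd f]
    · simp [T0, Td]
      have e := hrv f
      rw [← sub_eq_zero, ← neg_eq_zero]
      rw [← e]; abel
  let TΦ : (ℕ →₀ O) →ₗ[K] (TrivSqZeroExt (Module.End K E) (Module.End K E)) := Finsupp.lsum K (fun i => LinearMap.mulRight K (Td ^ i) ∘ₗ T0.toLinearMap)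
  let T : D →ₗ[K] (TrivSqZeroExt (Module.End K E) (Module.End K E)) := TΦ ∘ₗ Ψ.symm.toLinearMap
  have hT : ∀ g i, T (ι g * d ^ i) = T0 g * Td ^ i := by
    intro g i
    have e : Ψ.symm (ι g * d ^ i) = Finsupp.single i g := by
      rw [LinearEquiv.symm_apply_eq]; exact (hΦs i g).symm
    simp [T, e, TΦ]
  have hTι : ∀ g, T (ι g) = T0 g := fun g => by simpa using hT g 0
  have hTd : T d = Td := by simpa using hT 1 1
  have hmι : ∀ f x, T (ι f * x) = T0 f * T x := by
    intro f x
    refine ext x (fun x => T (ι f * x) = T0 f * T x) (by simp) (fun a b ha hb => by simp [mul_add, ha, hb]) ?_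
    intro g i
    rw [← mul_assoc, ← map_mul, hT, hT, map_mul, mul_assoc]
  have hmd : ∀ x, T (d * x) = Td * T x := by
    intro x
    refine ext x (fun x => T (d * x) = Td * T x) (by simp) (fun a b ha hb => by simp [mul_add, ha, hb]) ?_
    intro g i
    rw [← mul_assoc, hd, add_mul, map_add, hT, mul_assoc, ← pow_succ', hT, hT, ← mul_assoc Td, hrel, add_mul,
      mul_assoc, ← pow_succ']
  have hmdi : ∀ i x, T (d ^ i * x) = Td ^ i * T x := by
    intro i
    induction i with
    | zero => intro x; simp
    | succ j ih => intro x; rw [pow_succ', mul_assoc, hmd, ih, ← mul_assoc, ← pow_succ']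
  have hm : ∀ P Q, T (P * Q) = T P * T Q := by
    intro P Q
    refine ext P (fun P => T (P * Q) = T P * T Q) (by simp) (fun a b ha hb => by simp [add_mul, ha, hb]) ?_
    intro g i
    rw [mul_assoc, hmι, hmdi, ← mul_assoc, hT]
  have hfst : ∀ P, (T P).fst = ρ P := by
    intro P
    refine ext P (fun P => (T P).fst = ρ P) (by simp) (fun a b ha hb => by simp [ha, hb]) ?_
    intro g i
    simp [hT, T0, Td]
  let s : D →ₗ[K] Module.End K E :=
    { toFun := fun P => (T P).snd
      map_add' := fun a b => by simp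
      map_smul' := fun c a => by simp }
  have hs : ∀ P Q, s (P * Q) = s P * ρ Q + ρ P * s Q := by
    intro P Q
    change (T (P * Q)).snd = (T P).snd * ρ Q + ρ P * (T Q).snd
    rw [hm, TrivSqZeroExt.snd_mul, hfst, hfst]
    simp only [smul_eq_mul, MulOpposite.smul_eq_mul_unop, MulOpposite.unop_op]
    exact add_comm _ _
  refine ⟨s, ⟨hs, ?_, ?_⟩, ?_⟩
  · ext f : 1
    change (T (ι f)).snd = r f
    simp [hTι, T0]
  · change (T d).snd = v
    simp [hTd, Td]
  rintro s' ⟨hs', hs'r, hs'd⟩
  have h1 : s' 1 = 0 := by simpa using hs' 1 1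
  have hp : ∀ i, s' (d ^ i) = s (d ^ i) := by
    intro i
    induction i with
    | zero => rw [pow_zero, h1]; exact (by simpa using hs 1 1 : s 1 = 0).symm
    | succ j ih =>
      rw [pow_succ, hs', hs, ih, hs'd]
      congr 2
      change v = (T d).snd
      simp [hTd, Td]
  refine LinearMap.ext fun P => ext P (fun P => s' P = s P) (by simp) (fun a b ha hb => by simp [ha, hb]) ?_
  intro g i
  have e : s' (ι g) = s (ι g) := by
    rw [show s' (ι g) = r g from LinearMap.congr_fun hs'r g]
    change r g = (T (ι g)).snd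
    simp [hTι, T0]
  rw [hs', hs, hp, e]

end Groth.Agent.S19974
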