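import Groth.Statements.S19976
import Groth.Agent.StrongApx.Basic
import Groth.Agent.StrongApx.Line

set_option autoImplicit false
universe u
open NumberField

namespace Groth.Agent.S19976

/-- Strong approximation off a place v₀ for the complement of a closed subset of codimension at least 2
in affine n-space over a number field, here in the following explicit form for a finite place v₀ and
the standard integral model. Let k be a number field with ring of integers O_k, n ≥ 1, and f_1, …,
f_m polynomials in n variables with coefficients in O_k whose common zero locus F in 𝔸ⁿ_k has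
codimension at least 2, i.e. the k-algebra k[x_1, …, x_n]/(f_1, …, f_m) has Krull dimension at most
n − 2 (dimension −∞ when F is empty). Put U = 𝔸ⁿ_k ∖ F and 𝒰 = 𝔸ⁿ_{O_k} ∖ V(f_1, …, f_m), so that
for a finite place v the O_v-points of 𝒰 are the P ∈ O_vⁿ with some f_j(P) a unit. Let S_f be a
finite set of finite places containing v₀ (the set S of the source is S_f together with all infinite
places). Suppose given, for every v ∈ S_f other than v₀, a point P_v ∈ U(k_v) with an open
neighbourhood N_v ⊆ k_vⁿ; for every infinite place w, a point P_w ∈ U(k_w) with an open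
neighbourhood N_w ⊆ k_wⁿ; for every v in a finite set T of finite places disjoint from S_f, a point
Q_v ∈ 𝒰(O_v) with an open neighbourhood W_v ⊆ k_vⁿ; and suppose 𝒰(O_v) is nonempty for every finite
place v ∉ S_f. Then there is a point P ∈ kⁿ whose coordinates are v-integral and some f_j(P) is a
v-unit at every finite place v ∉ S_f (so P ∈ 𝒰(O_S)), and whose image lies in N_v for v ∈ S_f ∖
{v₀}, in N_w for every infinite w, and in W_v for v ∈ T. (The source states strong approximation off
an arbitrary place v₀ and for every model over O_S; this row is the case of a finite v₀ and of the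
standard model, approximation at a basic open set of the restricted product.) -/
theorem result
    (k : Type u) [Field k] [NumberField k] (n : ℕ) (hn : 1 ≤ n) (m : ℕ)
    (f : Fin m → MvPolynomial (Fin n) (NumberField.RingOfIntegers k))
    (hcodim : ringKrullDim (MvPolynomial (Fin n) k ⧸ Ideal.span (Set.range fun j =>
        MvPolynomial.map (algebraMap (NumberField.RingOfIntegers k) k) (f j))) + 2 ≤ (n : WithBot ℕ∞))
    (v₀ : IsDedekindDomain.HeightOneSpectrum (NumberField.RingOfIntegers k)) (Sf : Finset (IsDedekindDomain.HeightOneSpectrum (NumberField.RingOfIntegers k))) (hv₀ : v₀ ∈ Sf)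
    (Pf : (v : IsDedekindDomain.HeightOneSpectrum (NumberField.RingOfIntegers k)) → (Fin n → v.adicCompletion k))
    (hPf : ∀ v ∈ Sf, v ≠ v₀ → ∃ j, MvPolynomial.aeval (Pf v)
      (MvPolynomial.map (algebraMap (NumberField.RingOfIntegers k) k) (f j)) ≠ 0)
    (Nf : (v : IsDedekindDomain.HeightOneSpectrum (NumberField.RingOfIntegers k)) → Set (Fin n → v.adicCompletion k))
    (hNf : ∀ v ∈ Sf, v ≠ v₀ → IsOpen (Nf v) ∧ Pf v ∈ Nf v)
    (Pi : (w : NumberField.InfinitePlace k) → (Fin n → w.Completion))
    (hPi : ∀ w, ∃ j, MvPolynomial.aeval (Pi w)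
      (MvPolynomial.map (algebraMap (NumberField.RingOfIntegers k) k) (f j)) ≠ 0)
    (Ni : (w : NumberField.InfinitePlace k) → Set (Fin n → w.Completion))
    (hNi : ∀ w, IsOpen (Ni w) ∧ Pi w ∈ Ni w)
    (T : Finset (IsDedekindDomain.HeightOneSpectrum (NumberField.RingOfIntegers k))) (hT : Disjoint T Sf)
    (Q : (v : IsDedekindDomain.HeightOneSpectrum (NumberField.RingOfIntegers k)) → (Fin n → v.adicCompletion k))
    (hQ : ∀ v ∈ T, (∀ i, Q v i ∈ v.adicCompletionIntegers k) ∧ ∃ j, Valued.v (MvPolynomial.aeval (Q v)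
      (MvPolynomial.map (algebraMap (NumberField.RingOfIntegers k) k) (f j))) = 1)
    (W : (v : IsDedekindDomain.HeightOneSpectrum (NumberField.RingOfIntegers k)) → Set (Fin n → v.adicCompletion k))
    (hW : ∀ v ∈ T, IsOpen (W v) ∧ Q v ∈ W v)
    (hne : ∀ v : IsDedekindDomain.HeightOneSpectrum (NumberField.RingOfIntegers k), v ∉ Sf → ∃ R : Fin n → v.adicCompletion k,
      (∀ i, R i ∈ v.adicCompletionIntegers k) ∧ ∃ j, Valued.v (MvPolynomial.aeval R
        (MvPolynomial.map (algebraMap (NumberField.RingOfIntegers k) k) (f j))) = 1) :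
    ∃ P : Fin n → k,
      (∀ v : IsDedekindDomain.HeightOneSpectrum (NumberField.RingOfIntegers k), v ∉ Sf → (∀ i, v.valuation k (P i) ≤ 1) ∧
        ∃ j, v.valuation k (MvPolynomial.aeval P
          (MvPolynomial.map (algebraMap (NumberField.RingOfIntegers k) k) (f j))) = 1) ∧
      (∀ v ∈ Sf, v ≠ v₀ → (fun i => algebraMap k (v.adicCompletion k) (P i)) ∈ Nf v) ∧
      (∀ w : NumberField.InfinitePlace k, (fun i => algebraMap k w.Completion (P i)) ∈ Ni w) ∧
      (∀ v ∈ T, (fun i => algebraMap k (v.adicCompletion k) (P i)) ∈ W v) := by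

  classical
  obtain ⟨n', rfl⟩ : ∃ n', n = n' + 1 := ⟨n - 1, by omega⟩
  let K := IsDedekindDomain.HeightOneSpectrum (NumberField.RingOfIntegers k)
  let F : Fin m → MvPolynomial (Fin (n' + 1)) k := fun j =>
    MvPolynomial.map (algebraMap (NumberField.RingOfIntegers k) k) (f j)
  let I : Ideal (MvPolynomial (Fin (n' + 1)) k) := Ideal.span (Set.range F)
  -- a nonzero element of `I`, a good direction, and an invariant element
  obtain ⟨g, hgI, hg0⟩ : ∃ g ∈ I, g ≠ 0 := by
    refine (Submodule.ne_bot_iff _).1 fun hbot => ?_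
    have h1 : ringKrullDim (MvPolynomial (Fin (n' + 1)) k ⧸ I) = ((n' + 1 : ℕ) : WithBot ℕ∞) := by
      rw [hbot, ringKrullDim_eq_of_ringEquiv (RingEquiv.quotientBot _),
        MvPolynomial.ringKrullDim_of_isNoetherianRing, ringKrullDim_eq_zero_of_field]
      simp
    rw [h1] at hcodim
    norm_cast at hcodim
    omega
  let D := g.totalDegree
  obtain ⟨a, ha⟩ := Groth.StrongApx.exists_eval_ne_zero
    (mul_ne_zero (Groth.StrongApx.homogeneousComponent_totalDegree_ne_zero hg0) (MvPolynomial.X_ne_zero 0))
  rw [map_mul, MvPolynomial.eval_X, mul_ne_zero_iff] at ha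
  obtain ⟨hl, ha0⟩ := ha
  obtain ⟨h, hhI, hh0, hinv⟩ := Groth.StrongApx.exists_invariant_mem I hcodim a ha0
  obtain ⟨cg, hcg⟩ := Ideal.mem_span_range_iff_exists_fun.1 hgI
  obtain ⟨ch, hch⟩ := Ideal.mem_span_range_iff_exists_fun.1 hhI
  -- exceptional places
  let Bad : Set K :=
    (⋃ i, IsDedekindDomain.HeightOneSpectrum.Support _ (a i)) ∪
    IsDedekindDomain.HeightOneSpectrum.Support _ (MvPolynomial.eval a (MvPolynomial.homogeneousComponent D g)) ∪
    IsDedekindDomain.HeightOneSpectrum.Support _ (MvPolynomial.eval a (MvPolynomial.homogeneousComponent D g))⁻¹ ∪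
    (⋃ j, ⋃ d ∈ (cg j).support, IsDedekindDomain.HeightOneSpectrum.Support _ ((cg j).coeff d)) ∪
    (⋃ j, ⋃ d ∈ (ch j).support, IsDedekindDomain.HeightOneSpectrum.Support _ ((ch j).coeff d)) ∪
    {v | Ideal.absNorm v.asIdeal ≤ D}
  have hBad : Bad.Finite := by
    refine Set.Finite.union (Set.Finite.union (Set.Finite.union (Set.Finite.union (Set.Finite.union
      (Set.finite_iUnion fun i => IsDedekindDomain.HeightOneSpectrum.Support.finite _ _)
      (IsDedekindDomain.HeightOneSpectrum.Support.finite _ _))
      (IsDedekindDomain.HeightOneSpectrum.Support.finite _ _))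
      (Set.finite_iUnion fun j => (Finset.finite_toSet _).biUnion fun d _ =>
        IsDedekindDomain.HeightOneSpectrum.Support.finite _ _))
      (Set.finite_iUnion fun j => (Finset.finite_toSet _).biUnion fun d _ =>
        IsDedekindDomain.HeightOneSpectrum.Support.finite _ _)) ?_
    exact Set.Finite.preimage (fun v _ w _ e => IsDedekindDomain.HeightOneSpectrum.ext e)
      (Ideal.finite_setOfPred_absNorm_le D)
  have evA : ∀ (L : Type u) [Field L] [Algebra k L] (P : Fin (n' + 1) → k) (p : MvPolynomial (Fin (n' + 1)) k),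
      MvPolynomial.aeval (fun i => algebraMap k L (P i)) p = algebraMap k L (MvPolynomial.eval P p) := by
    intro L _ _ P p
    rw [← MvPolynomial.aeval_eq_eval, ← MvPolynomial.aeval_algebraMap_apply]
    rfl
  -- integrality of evaluation
  have eval_le : ∀ (v : K) (p : MvPolynomial (Fin (n' + 1)) k) (P : Fin (n' + 1) → k),
      (∀ d ∈ p.support, v.valuation k (p.coeff d) ≤ 1) → (∀ i, v.valuation k (P i) ≤ 1) →
      v.valuation k (MvPolynomial.eval P p) ≤ 1 := by
    intro v p P hp hP
    rw [MvPolynomial.eval_eq]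
    refine Valuation.map_sum_le _ fun d hd => ?_
    rw [map_mul, map_prod]
    exact mul_le_one' (hp d hd) (Finset.prod_le_one' fun i _ => by rw [map_pow]; exact pow_le_one' (hP i) _)
  have F_le : ∀ (v : K) (j : Fin m) (P : Fin (n' + 1) → k), (∀ i, v.valuation k (P i) ≤ 1) →
      v.valuation k (MvPolynomial.eval P (F j)) ≤ 1 := by
    intro v j P hP
    refine eval_le v _ P (fun d _ => ?_) hP
    rw [MvPolynomial.coeff_map]
    exact v.valuation_le_one _
  have unit_of_comb : ∀ (v : K) (c : Fin m → MvPolynomial (Fin (n' + 1)) k) (p : MvPolynomial (Fin (n' + 1)) k)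
      (P : Fin (n' + 1) → k), ∑ j, c j * F j = p →
      (∀ j, ∀ d ∈ (c j).support, v.valuation k ((c j).coeff d) ≤ 1) → (∀ i, v.valuation k (P i) ≤ 1) →
      v.valuation k (MvPolynomial.eval P p) = 1 → ∃ j, v.valuation k (MvPolynomial.eval P (F j)) = 1 := by
    intro v c p P hc hcv hP hp
    by_contra hno
    push Not at hno
    have : v.valuation k (MvPolynomial.eval P p) < 1 := by
      rw [← hc, map_sum]
      refine Valuation.map_sum_lt _ one_ne_zero fun j _ => ?_
      rw [map_mul, map_mul]
      exact lt_of_le_of_lt (mul_le_of_le_one_left zero_le (eval_le v _ P (hcv j) hP))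
        (lt_of_le_of_ne (F_le v j P hP) (hno j))
    exact this.ne hp
  have good : ∀ v : K, v ∉ Bad →
      (∀ i, v.valuation k (a i) ≤ 1) ∧
      v.valuation k (MvPolynomial.eval a (MvPolynomial.homogeneousComponent D g)) = 1 ∧
      (∀ j, ∀ d ∈ (cg j).support, v.valuation k ((cg j).coeff d) ≤ 1) ∧
      (∀ j, ∀ d ∈ (ch j).support, v.valuation k ((ch j).coeff d) ≤ 1) ∧
      D < Ideal.absNorm v.asIdeal := by
    intro v hv
    simp only [Bad, Set.mem_union, Set.mem_iUnion, IsDedekindDomain.HeightOneSpectrum.Support, Set.mem_ofPred_eq,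
      not_or, not_exists, not_lt, not_le, map_inv₀] at hv
    obtain ⟨⟨⟨⟨⟨h1, h2⟩, h3⟩, h4⟩, h5⟩, h6⟩ := hv
    refine ⟨fun i => not_lt.1 (h1 i), le_antisymm (not_lt.1 h2) ?_, fun j d hd => not_lt.1 (h4 j d hd),
      fun j d hd => not_lt.1 (h5 j d hd), h6⟩
    exact (inv_le_one₀ (zero_lt_iff.2 ((Valuation.ne_zero_iff _).2 hl))).1 (not_lt.1 h3)
  let E : Finset K := hBad.toFinset \ (Sf ∪ T)
  let Sg : Finset K := Sf.erase v₀ ∪ T ∪ E
  have hv₀g : v₀ ∉ Sg := by
    simp only [Sg, E, Finset.mem_union, Finset.mem_erase, Finset.mem_sdiff, not_or]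
    exact ⟨⟨fun h => h.1 rfl, Finset.disjoint_right.1 hT hv₀⟩, fun h => h.2.1 hv₀⟩
  -- open sets
  let G : (v : K) → Set (Fin (n' + 1) → v.adicCompletion k) := fun v =>
    {x | (∀ i, x i ∈ v.adicCompletionIntegers k) ∧ ∃ j, Valued.v (MvPolynomial.aeval x (F j)) = 1}
  have contA : ∀ (L : Type u) [Field L] [TopologicalSpace L] [IsTopologicalRing L] [Algebra k L]
      (p : MvPolynomial (Fin (n' + 1)) k), Continuous fun x : Fin (n' + 1) → L => MvPolynomial.aeval x p := by
    intro L _ _ _ _ p
    induction p using MvPolynomial.induction_on with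
    | C c => simp only [MvPolynomial.aeval_C]; exact continuous_const
    | add p q hp hq => simp only [map_add]; exact hp.add hq
    | mul_X p i hp => simp only [map_mul, MvPolynomial.aeval_X]; exact hp.mul (continuous_apply i)
  have isOpen_one : ∀ v : K, IsOpen {x : v.adicCompletion k | Valued.v x = 1} := by
    intro v
    have h := Valued.isOpen_sphere (v.adicCompletion k) (one_ne_zero (α := MonoidWithZeroHom.ValueGroup₀
      (.ofClass (Valued.v : Valuation (v.adicCompletion k) (WithZero (Multiplicative ℤ))))))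
    simpa only [Valuation.restrict_eq_one_iff] using h
  have isOpen_int : ∀ v : K, IsOpen {x : v.adicCompletion k | x ∈ v.adicCompletionIntegers k} :=
    fun v => Valued.isOpen_valuationSubring _
  have hG : ∀ v : K, IsOpen (G v) := by
    intro v
    have : G v = (⋂ i, (fun x : Fin (n' + 1) → v.adicCompletion k => x i) ⁻¹' {x | x ∈ v.adicCompletionIntegers k}) ∩
        ⋃ j, (fun x : Fin (n' + 1) → v.adicCompletion k => MvPolynomial.aeval x (F j)) ⁻¹' {x | Valued.v x = 1} := by
      ext x; simp [G]
    rw [this]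
    exact (isOpen_iInter_of_finite fun i => (isOpen_int v).preimage (continuous_apply i)).inter
      (isOpen_iUnion fun j => (isOpen_one v).preimage (contA _ _))
  let U : (v : K) → Set (Fin (n' + 1) → v.adicCompletion k) := fun v =>
    if v ∈ Sf then Nf v else if v ∈ T then W v ∩ G v else G v
  have hU : ∀ v ∈ Sg, IsOpen (U v) ∧ (U v).Nonempty := by
    intro v hv
    simp only [U]
    split_ifs with h1 h2
    · have hne' : v ≠ v₀ := fun e => hv₀g (e ▸ hv)
      exact ⟨(hNf v h1 hne').1, _, (hNf v h1 hne').2⟩
    · exact ⟨(hW v h2).1.inter (hG v), Q v, (hW v h2).2, hQ v h2⟩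
    · obtain ⟨R, hR⟩ := hne v h1
      exact ⟨hG v, R, hR⟩
  -- generic point near the given ones
  let w₀ : NumberField.InfinitePlace k := Classical.arbitrary _
  let hset : (w : NumberField.InfinitePlace k) → Set (Fin (n' + 1) → w.Completion) := fun w =>
    if w = w₀ then Ni w ∩ {x | MvPolynomial.aeval x h ≠ 0} else Ni w
  have hhset : ∀ w, IsOpen (hset w) ∧ (hset w).Nonempty := by
    intro w
    simp only [hset]
    split_ifs with hw
    · refine ⟨(hNi w).1.inter (isOpen_ne_fun (contA _ _) continuous_const), ?_⟩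
      obtain ⟨u, hu, hus⟩ := isOpen_pi_iff'.1 (hNi w).1 _ (hNi w).2
      have hinf : ∀ i, (u i).Infinite := by
        intro i
        obtain ⟨ε, hε, hb⟩ := Metric.isOpen_iff.1 (hu i).1 _ (hu i).2
        let r : w.Completion := algebraMap k w.Completion ((2 : k)⁻¹)
        have hr : ‖r‖ = 1 / 2 := by
          refine ((NumberField.InfinitePlace.Completion.norm_coe w ((WithAbs.equiv w.1).symm ((2 : k)⁻¹))).trans
            (congrArg w ((WithAbs.equiv w.1).apply_symm_apply _))).trans ?_
          rw [show ((2 : k)⁻¹) = ((2⁻¹ : ℚ) : k) by push_cast; rfl, Groth.StrongApx.infinitePlace_ratCast]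
          norm_num
        obtain ⟨N, hN⟩ := exists_pow_lt_of_lt_one hε (by rw [hr]; norm_num : ‖r‖ < 1)
        refine Set.infinite_of_injective_forall_mem (f := fun e : ℕ => Pi w i + r ^ (e + N)) ?_ fun e => hb ?_
        · intro e e' hee
          have hee' := congrArg norm (add_left_cancel hee)
          rw [norm_pow, norm_pow] at hee'
          have := (pow_right_strictAnti₀ (by rw [hr]; norm_num : (0 : ℝ) < ‖r‖) (by rw [hr]; norm_num)).injective hee'
          omega
        · rw [Metric.mem_ball, dist_eq_norm, add_sub_cancel_left, norm_pow]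
          exact lt_of_le_of_lt (pow_le_pow_of_le_one (norm_nonneg _) (by rw [hr]; norm_num) (Nat.le_add_left _ _)) hN
      by_contra hempty
      refine hh0 (MvPolynomial.map_injective _ (algebraMap k w.Completion).injective
        ((MvPolynomial.funext_set u hinf fun x hx => ?_).trans (map_zero _).symm))
      rw [map_zero, MvPolynomial.eval_map, ← MvPolynomial.aeval_def]
      by_contra hx'
      exact hempty ⟨x, hus hx, hx'⟩
    · exact ⟨(hNi w).1, _, (hNi w).2⟩
  have vecApprox : ∀ (S : Finset K), v₀ ∉ S →
      ∀ (U : (v : K) → Set (Fin (n' + 1) → v.adicCompletion k)) (V : (w : NumberField.InfinitePlace k) → Set (Fin (n' + 1) → w.Completion)),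
      (∀ v ∈ S, IsOpen (U v) ∧ (U v).Nonempty) → (∀ w, IsOpen (V w) ∧ (V w).Nonempty) →
      ∃ x : Fin (n' + 1) → k, (∀ v ∈ S, (fun i => algebraMap k (v.adicCompletion k) (x i)) ∈ U v) ∧
        (∀ w, (fun i => algebraMap k w.Completion (x i)) ∈ V w) ∧
        ∀ v, v ∉ S → v ≠ v₀ → ∀ i, v.valuation k (x i) ≤ 1 := by
    intro S hS U V hU hV
    have hu : ∀ v : K, ∃ u : Fin (n' + 1) → Set (v.adicCompletion k),
        v ∈ S → (∀ i, IsOpen (u i) ∧ (u i).Nonempty) ∧ Set.univ.pi u ⊆ U v := by
      intro v
      by_cases hv : v ∈ S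
      · obtain ⟨z, hz⟩ := (hU v hv).2
        obtain ⟨u, hu, hus⟩ := isOpen_pi_iff'.1 (hU v hv).1 z hz
        exact ⟨u, fun _ => ⟨fun i => ⟨(hu i).1, z i, (hu i).2⟩, hus⟩⟩
      · exact ⟨fun _ => ∅, fun h => absurd h hv⟩
    choose u hu using hu
    have hv' : ∀ w, ∃ u : Fin (n' + 1) → Set (NumberField.InfinitePlace.Completion w),
        (∀ i, IsOpen (u i) ∧ (u i).Nonempty) ∧ Set.univ.pi u ⊆ V w := by
      intro w
      obtain ⟨z, hz⟩ := (hV w).2
      obtain ⟨u, hu, hus⟩ := isOpen_pi_iff'.1 (hV w).1 z hz
      exact ⟨u, fun i => ⟨(hu i).1, z i, (hu i).2⟩, hus⟩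
    choose u' hu' using hv'
    choose x hx1 hx2 hx3 using fun i => Groth.StrongApx.exists_mem_open k v₀ S hS (fun v => u v i)
      (fun v hv => (hu v hv).1 i) (fun w => u' w i) (fun w => (hu' w).1 i)
    exact ⟨x, fun v hv => (hu v hv).2 fun i _ => hx1 i v hv, fun w => (hu' w).2 fun i _ => hx2 i w,
      fun v hv hv' i => hx3 i v hv hv'⟩
  obtain ⟨y, hy1, hy2, hy3⟩ := vecApprox Sg hv₀g U hset hU hhset
  have hy0 : MvPolynomial.eval y h ≠ 0 := by
    have h0 := hy2 w₀
    simp only [hset, if_true] at h0
    have h1 := h0.2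
    rw [Set.mem_ofPred_eq, evA] at h1
    intro e
    exact h1 (by rw [e, map_zero])
  -- places where the invariant element vanishes
  let Bset : Set K := IsDedekindDomain.HeightOneSpectrum.Support _ (MvPolynomial.eval y h) ∪
    IsDedekindDomain.HeightOneSpectrum.Support _ (MvPolynomial.eval y h)⁻¹
  have hBset : Bset.Finite :=
    (IsDedekindDomain.HeightOneSpectrum.Support.finite _ _).union (IsDedekindDomain.HeightOneSpectrum.Support.finite _ _)
  let B : Finset K := hBset.toFinset \ (Sf ∪ T ∪ E)
  let line : (v : K) → v.adicCompletion k → Fin (n' + 1) → v.adicCompletion k := fun v s i =>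
    algebraMap k _ (y i) + s * algebraMap k _ (a i)
  have hline : ∀ v, Continuous (line v) := fun v =>
    continuous_pi fun i => continuous_const.add (continuous_id.mul continuous_const)
  let U₂ : (v : K) → Set (v.adicCompletion k) := fun v =>
    if v ∈ Sg then line v ⁻¹' U v
    else {s | s ∈ v.adicCompletionIntegers k ∧ Valued.v (MvPolynomial.aeval (line v s) g) = 1}
  have hline0 : ∀ (v : K) (s : k),
      line v (algebraMap k _ s) = fun i => algebraMap k (v.adicCompletion k) (y i + s * a i) := by
    intro v s; funext i; simp [line]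
  have valC : ∀ (v : K) (z : k), Valued.v (algebraMap k (v.adicCompletion k) z) = v.valuation k z :=
    fun v z => IsDedekindDomain.HeightOneSpectrum.valuedAdicCompletion_eq_valuation' v z
  have memI : ∀ (v : K) (z : k), algebraMap k (v.adicCompletion k) z ∈ v.adicCompletionIntegers k ↔
      v.valuation k z ≤ 1 := by
    intro v z
    rw [IsDedekindDomain.HeightOneSpectrum.mem_adicCompletionIntegers, valC]
  have hS₂ : v₀ ∉ Sg ∪ B := by
    simp only [B, Finset.mem_union, Finset.mem_sdiff, not_or]
    exact ⟨hv₀g, fun h => h.2.1.1 hv₀⟩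
  have notBad : ∀ v : K, v ∉ Sf → v ∉ T → v ∉ E → v ∉ Bad := by
    intro v h1 h2 h3 h
    exact h3 (by simp [E, h, h1, h2])
  have notSg : ∀ v : K, v ∉ Sf → v ∉ T → v ∉ E → v ∉ Sg := by
    intro v h1 h2 h3
    simp [Sg, h1, h2, h3]
  have hU₂ : ∀ v ∈ Sg ∪ B, IsOpen (U₂ v) ∧ (U₂ v).Nonempty := by
    intro v hv
    simp only [U₂]
    split_ifs with h1
    · refine ⟨(hU v h1).1.preimage (hline v), 0, ?_⟩
      rw [Set.mem_preimage, ← map_zero (algebraMap k (v.adicCompletion k)), hline0]
      simpa using hy1 v h1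
    · have hvB : v ∈ B := (Finset.mem_union.1 hv).resolve_left h1
      simp only [B, Finset.mem_sdiff, Finset.mem_union, not_or] at hvB
      obtain ⟨-, ⟨hvS, hvT⟩, hvE⟩ := hvB
      obtain ⟨ga, glead, gcg, -, gnorm⟩ := good v (notBad v hvS hvT hvE)
      have hyv : ∀ i, v.valuation k (y i) ≤ 1 := hy3 v h1 (fun e => hvS (e ▸ hv₀))
      refine ⟨((isOpen_int v).inter ((isOpen_one v).preimage ((contA _ g).comp (hline v))) :), ?_⟩
      rw [Ideal.absNorm_apply] at gnorm
      have : Finite (NumberField.RingOfIntegers k ⧸ v.asIdeal) := Ideal.finiteQuotientOfFreeOfNeBot _ v.ne_bot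
      let := Fintype.ofFinite (NumberField.RingOfIntegers k ⧸ v.asIdeal)
      have hcard : Fintype.card (Fin (D + 1)) ≤ Fintype.card (NumberField.RingOfIntegers k ⧸ v.asIdeal) := by
        rw [Fintype.card_fin, ← Nat.card_eq_fintype_card]
        exact gnorm
      obtain ⟨emb⟩ := Function.Embedding.nonempty_of_card_le hcard
      choose z hz using fun e : Fin (D + 1) => Ideal.Quotient.mk_surjective (emb e)
      let zk : Fin (D + 1) → k := fun e => algebraMap (NumberField.RingOfIntegers k) k (z e)
      have hdiff : ∀ e e', e ≠ e' → v.valuation k (zk e - zk e') = 1 := by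
        intro e e' hee
        simp only [zk, ← map_sub]
        rw [IsDedekindDomain.HeightOneSpectrum.valuation_eq_one_iff_notMem, ← Ideal.Quotient.eq, hz, hz]
        exact fun h => hee (emb.injective h)
      by_contra hempty
      have hlt : ∀ e, v.valuation k ((Groth.StrongApx.lineSub y a g).eval (zk e)) < 1 := by
        intro e
        rw [Groth.StrongApx.lineSub_eval]
        have hP : ∀ i, v.valuation k (y i + zk e * a i) ≤ 1 := fun i =>
          (Valuation.map_add _ _ _).trans (max_le (hyv i) (by
            rw [map_mul]; exact mul_le_one' (v.valuation_le_one _) (ga i)))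
        refine lt_of_le_of_ne ?_ fun heq => hempty ⟨algebraMap k _ (zk e), (memI v _).2 (v.valuation_le_one _), ?_⟩
        · rw [← hcg, map_sum]
          refine Valuation.map_sum_le _ fun j _ => ?_
          rw [map_mul, map_mul]
          exact mul_le_one' (eval_le v _ _ (gcg j) hP) (F_le v j _ hP)
        · rw [hline0, evA, valC]
          exact heq
      have hco := Lagrange.coeff_eq_sum (s := (Finset.univ : Finset (Fin (D + 1)))) (v := zk)
        (fun e _ e' _ hee => by
          by_contra hne'
          have := hdiff e e' hne'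
          rw [hee, sub_self, map_zero] at this
          exact zero_ne_one this)
        (P := Groth.StrongApx.lineSub y a g) (by
          rw [Finset.card_univ, Fintype.card_fin]
          exact lt_of_le_of_lt Polynomial.degree_le_natDegree
            (Nat.cast_lt.2 (Nat.lt_succ_of_le (Groth.StrongApx.natDegree_lineSub_le y a g))))
      rw [Finset.card_univ, Fintype.card_fin, Nat.add_sub_cancel, Groth.StrongApx.coeff_lineSub_totalDegree] at hco
      have : v.valuation k (MvPolynomial.eval a (MvPolynomial.homogeneousComponent D g)) < 1 := by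
        rw [hco]
        refine Valuation.map_sum_lt _ one_ne_zero fun e _ => ?_
        rw [map_div₀, map_prod, Finset.prod_eq_one fun e' he' => hdiff e e' (Ne.symm (Finset.ne_of_mem_erase he')), div_one]
        exact hlt e
      exact this.ne glead
  obtain ⟨t, ht1, ht2, ht3⟩ := Groth.StrongApx.exists_mem_open k v₀ (Sg ∪ B) hS₂ U₂ hU₂
    (fun w => (fun (s : w.Completion) i => algebraMap k w.Completion (y i) + s * algebraMap k w.Completion (a i)) ⁻¹' Ni w)
    (fun w => ⟨(hNi w).1.preimage (continuous_pi fun i => continuous_const.add (continuous_id.mul continuous_const)),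
      0, by
        have h0 := hy2 w
        simp only [hset] at h0
        split_ifs at h0
        · simpa using h0.1
        · simpa using h0⟩)
  refine ⟨fun i => y i + t * a i, fun v hv => ?_, fun v hv hv' => ?_, fun w => ?_, fun v hv => ?_⟩
  · show _ ∧ ∃ j, v.valuation k (MvPolynomial.aeval _ (F j)) = 1
    simp only [MvPolynomial.aeval_eq_eval]
    by_cases hvg : v ∈ Sg
    · have h1 := ht1 v (Finset.mem_union_left _ hvg)
      simp only [U₂, if_pos hvg, Set.mem_preimage, hline0, U, if_neg hv] at h1
      have h2 : (fun i => algebraMap k (v.adicCompletion k) (y i + t * a i)) ∈ G v := by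
        split_ifs at h1
        · exact h1.2
        · exact h1
      obtain ⟨h3, j, h4⟩ := h2
      refine ⟨fun i => (memI v _).1 (h3 i), j, ?_⟩
      rw [evA, valC] at h4
      exact h4
    · have hvT : v ∉ T := fun e => hvg (by simp [Sg, e])
      have hvE : v ∉ E := fun e => hvg (by simp [Sg, e])
      obtain ⟨ga, -, gcg, gch, -⟩ := good v (notBad v hv hvT hvE)
      have hne₀ : v ≠ v₀ := fun e => hv (e ▸ hv₀)
      have hyv := hy3 v hvg hne₀
      have htv : v.valuation k t ≤ 1 := by
        by_cases hvB : v ∈ B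
        · have h1 := ht1 v (Finset.mem_union_right _ hvB)
          simp only [U₂, if_neg hvg] at h1
          exact (memI v _).1 h1.1
        · exact ht3 v (by simp [hvg, hvB]) hne₀
      have hP : ∀ i, v.valuation k (y i + t * a i) ≤ 1 := fun i =>
        (Valuation.map_add _ _ _).trans (max_le (hyv i) (by rw [map_mul]; exact mul_le_one' htv (ga i)))
      refine ⟨hP, ?_⟩
      by_cases hvB : v ∈ B
      · have h1 := ht1 v (Finset.mem_union_right _ hvB)
        simp only [U₂, if_neg hvg] at h1
        have h2 := h1.2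
        rw [hline0, evA, valC] at h2
        exact unit_of_comb v cg g _ hcg gcg hP h2
      · refine unit_of_comb v ch h _ hch gch hP ?_
        rw [hinv]
        have : v ∉ Bset := fun e => hvB (by simp [B, e, hv, hvT, hvE])
        simp only [Bset, Set.mem_union, IsDedekindDomain.HeightOneSpectrum.Support, Set.mem_ofPred_eq, not_or, not_lt,
          map_inv₀] at this
        refine le_antisymm this.1 ((inv_le_one₀ (zero_lt_iff.2 ((Valuation.ne_zero_iff _).2 hy0))).1 ?_)
        exact this.2
  · have hvg : v ∈ Sg := by simp [Sg, hv, hv']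
    have h1 := ht1 v (Finset.mem_union_left _ hvg)
    simp only [U₂, if_pos hvg, Set.mem_preimage, hline0, U, if_pos hv] at h1
    exact h1
  · have h1 := ht2 w
    simp only [Set.mem_preimage, ← map_mul, ← map_add] at h1
    exact h1
  · have hvg : v ∈ Sg := by simp [Sg, hv]
    have h1 := ht1 v (Finset.mem_union_left _ hvg)
    simp only [U₂, if_pos hvg, Set.mem_preimage, hline0, U, if_neg (Finset.disjoint_left.1 hT hv), if_pos hv] at h1
    exact h1.1

end Groth.Agent.S19976
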