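import Groth.Statements.S19978
import Groth.Agent.AbvarAlb.LargeGrp

set_option autoImplicit false
universe u
open CategoryTheory MonoidalCategory CartesianMonoidalCategory MonObj GrpObj AlgebraicGeometry CategoryTheory.Limits
open AbVar

namespace Groth.Agent.S19978

/-- Over an algebraically closed field k, let X be an integral separated k-scheme of finite type which
is proper over k. Call large group a commutative separated k-group scheme G locally of finite type
given with a connected open subgroup scheme G⁰ (its neutral component) which is semiabelian: G⁰ has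
a closed subgroup scheme T that is a torus and is the kernel of a flat surjective homomorphism from
G⁰ onto an abelian variety (a proper smooth connected k-group scheme). Let A be a large group, with
neutral component A⁰, and u : X → A a k-morphism which is universal for morphisms to large groups
(every k-morphism from X to a large group G is u followed by a unique homomorphism A → G), i.e. (A,
u) is the Albanese scheme of X. Then A⁰ is proper over k: the neutral component of the Albanese
scheme of a proper scheme is an abelian variety. (The published statement is for any proper reduced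
scheme of finite type over a perfect field; this row states the case of an integral scheme over an
algebraically closed field.) -/
theorem result (k : Type u) [Field k] [IsAlgClosed k]
    (X : Over (Spec (CommRingCat.of k))) [IsIntegral X.left] [IsProper X.hom]
    (A : Over (Spec (CommRingCat.of k))) [GrpObj A] [IsCommMonObj A] [IsSeparated A.hom] [LocallyOfFiniteType A.hom]
    (A0 : Over (Spec (CommRingCat.of k))) [GrpObj A0] (e₀ : A0 ⟶ A) [IsMonHom e₀] [IsOpenImmersion e₀.left]
    [ConnectedSpace ↥A0.left]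
    (T₀ : Over (Spec (CommRingCat.of k))) [GrpObj T₀] (i₀ : T₀ ⟶ A0) [IsMonHom i₀] [IsClosedImmersion i₀.left]
    (hT₀ : Red.IsTorus T₀)
    (B₀ : Over (Spec (CommRingCat.of k))) [GrpObj B₀] [IsProper B₀.hom] [Smooth B₀.hom] [ConnectedSpace ↥B₀.left]
    (q₀ : A0 ⟶ B₀) [IsMonHom q₀] [Surjective q₀.left] [Flat q₀.left] (hker₀ : AlgGrp.IsKernel i₀ q₀)
    (u : X ⟶ A)
    (huniv : ∀ (G : Over (Spec (CommRingCat.of k))) [GrpObj G] [IsCommMonObj G] [IsSeparated G.hom] [LocallyOfFiniteType G.hom]
      (G0 : Over (Spec (CommRingCat.of k))) [GrpObj G0] (e : G0 ⟶ G) [IsMonHom e] [IsOpenImmersion e.left]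
      [ConnectedSpace ↥G0.left]
      (T : Over (Spec (CommRingCat.of k))) [GrpObj T] (i : T ⟶ G0) [IsMonHom i] [IsClosedImmersion i.left]
      (_ : Red.IsTorus T)
      (B : Over (Spec (CommRingCat.of k))) [GrpObj B] [IsProper B.hom] [Smooth B.hom] [ConnectedSpace ↥B.left]
      (q : G0 ⟶ B) [IsMonHom q] [Surjective q.left] [Flat q.left] (_ : AlgGrp.IsKernel i q)
      (φ : X ⟶ G), ∃! h : A ⟶ G, IsMonHom h ∧ u ≫ h = φ) :
    IsProper A0.hom := by
  let S := Spec (CommRingCat.of k)
  have hu1 : ∀ {Z : Over S} (z : 𝟙_ (Over S) ⟶ Z), z ≫ toUnit Z = 𝟙 _ := fun z => toUnit_unique _ _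
  -- a rational point
  have := LocallyOfFiniteType.jacobsonSpace X.hom
  obtain ⟨p, -, hpc⟩ := nonempty_inter_closedPoints (Z := (Set.univ : Set X.left))
    Set.univ_nonempty isOpen_univ.isLocallyClosed
  obtain ⟨x₀, -⟩ := Groth.AlgGrp1.exists_rpt hpc
  have : LocallyOfFiniteType A0.hom := by rw [← Over.w e₀]; infer_instance
  have : QuasiCompact A0.hom := Groth.AbvarAlb.quasiCompact_of_connected A0
  have : Mono e₀ := Over.mono_of_mono_left e₀
  -- the translate of `u` lands in the neutral component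
  let c : 𝟙_ (Over S) ⟶ A := x₀ ≫ u
  let u' : X ⟶ A := u * (toUnit X ≫ c)⁻¹
  have hx₀u : x₀ ≫ u' = 1 := by
    simp only [u', MonObj.comp_mul, GrpObj.comp_inv]
    rw [← Category.assoc, hu1, Category.id_comp, mul_inv_cancel]
  have hsub : Set.range u'.left ⊆ Set.range e₀.left := by
    have hclopen : IsClopen (u'.left ⁻¹' Set.range e₀.left) :=
      ⟨(Groth.AbvarAlb.isClosed_range_of_subgroup e₀).preimage u'.left.continuous,
        e₀.left.isOpenEmbedding.isOpen_range.preimage u'.left.continuous⟩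
    have huniv := hclopen.eq_univ ⟨x₀.left (IsLocalRing.closedPoint k), (1 : 𝟙_ (Over S) ⟶ A0).left (IsLocalRing.closedPoint k), by
      show ((1 : 𝟙_ (Over S) ⟶ A0) ≫ e₀).left _ = (x₀ ≫ u').left _
      rw [MonObj.one_comp, hx₀u]⟩
    rintro _ ⟨z, rfl⟩
    exact huniv.ge (Set.mem_univ z)
  obtain ⟨ψ, hψ⟩ : ∃ ψ : X ⟶ A0, ψ ≫ e₀ = u' :=
    ⟨Over.homMk (IsOpenImmersion.lift e₀.left u'.left hsub)
      (by rw [← Over.w e₀, IsOpenImmersion.lift_fac_assoc, Over.w u']),
      Over.OverMorphism.ext (IsOpenImmersion.lift_fac _ _ _)⟩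
  have hx₀ψ : x₀ ≫ ψ = 1 := by rw [← cancel_mono e₀, Category.assoc, hψ, hx₀u, MonObj.one_comp]
  -- the abelian variety generated by the image
  obtain ⟨⟨M, _, i, _, _, _, _⟩, hdiff, -⟩ := Groth.AbvarAlb.exists_generated ψ
  have hψM : Set.range ψ.left ⊆ Set.range i.left := by
    have h : (Set.univ : Set X.left) ⊆ ψ.left ⁻¹' Set.range i.left :=
      Groth.AlgGrp1.subset_of_rpt isOpen_univ.isLocallyClosed
        (i.left.isClosedEmbedding.isClosed_range.preimage ψ.left.continuous) fun x _ => by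
          obtain ⟨s, hs⟩ := hdiff x x₀
          rw [hx₀ψ, inv_one, _root_.mul_one] at hs
          exact ⟨Groth.AlgGrp1.rpt s, congr(($hs).left (IsLocalRing.closedPoint k))⟩
    rintro _ ⟨z, rfl⟩
    exact h (Set.mem_univ z)
  obtain ⟨w, hw⟩ := Groth.AlgGrp1.exists_factor_of_range_subset i ψ hψM
  have := Groth.Abvar.isIntegral_left M
  have : IsCommMonObj M := isCommMonObj_of_isProper_of_geometricallyIntegral M
  have : Smooth M.hom := Groth.GrpschAbsch.smooth_of_geometricallyReduced M
  have : IsOpenImmersion (𝟙 M : M ⟶ M).left := inferInstanceAs (IsOpenImmersion (𝟙 M.left))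
  have : Surjective (𝟙 M : M ⟶ M).left := inferInstanceAs (Surjective (𝟙 M.left))
  have : Flat (𝟙 M : M ⟶ M).left := inferInstanceAs (Flat (𝟙 M.left))
  have : IsClosedImmersion (η[M]).left := by
    have : IsClosedImmersion ((η[M]).left ≫ M.hom) := by
      rw [Over.w]; exact inferInstanceAs (IsClosedImmersion (𝟙 _))
    exact IsClosedImmersion.of_comp _ M.hom
  obtain ⟨h, ⟨hh, hhu⟩, -⟩ := huniv M M (𝟙 M) (𝟙_ (Over S)) η[M] Groth.AbvarAlb.isTorus_unit M (𝟙 M)
    (Groth.AbvarAlb.isKernel_id M) w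
  -- the degree
  let U := 𝟙_ (Over S)
  have : IsProper U.hom := inferInstanceAs (IsProper (𝟙 _))
  have : Smooth U.hom := inferInstanceAs (Smooth (𝟙 _))
  have : ConnectedSpace U.left := inferInstanceAs (ConnectedSpace ↥(Spec (CommRingCat.of k)))
  have : IsOpenImmersion (𝟙 U : U ⟶ U).left := inferInstanceAs (IsOpenImmersion (𝟙 U.left))
  have : Surjective (𝟙 U : U ⟶ U).left := inferInstanceAs (Surjective (𝟙 U.left))
  have : Flat (𝟙 U : U ⟶ U).left := inferInstanceAs (Flat (𝟙 U.left))
  have : IsClosedImmersion (η[U]).left := inferInstanceAs (IsClosedImmersion (𝟙 U.left))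
  obtain ⟨m, hm, hmc⟩ := Groth.AbvarAlb.exists_zpowHom c
  obtain ⟨d, ⟨hd, hdu⟩, -⟩ := huniv (Groth.AbvarAlb.constZ k) U η[Groth.AbvarAlb.constZ k] U η[U]
    Groth.AbvarAlb.isTorus_unit U (𝟙 U) (Groth.AbvarAlb.isKernel_id U)
    (toUnit X ≫ TwC.pt _ _ (Multiplicative.ofAdd (ULift.up 1)))
  let δ : A ⟶ A := 𝟙 A * (h ≫ i ≫ e₀)⁻¹
  have hδ : IsMonHom δ := Groth.AlgGrp1.isMonHom_of_points δ fun T a b => by
    simp only [δ, MonObj.comp_mul, GrpObj.comp_inv, Category.comp_id, MonObj.mul_comp, _root_.mul_inv_rev]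
    rw [mul_comm ((b ≫ h ≫ i ≫ e₀)⁻¹), _root_.mul_mul_mul_comm]
  obtain ⟨_, -, huniq⟩ := huniv A A0 e₀ T₀ i₀ hT₀ B₀ q₀ hker₀ (toUnit X ≫ c)
  have key : δ = d ≫ m := (huniq δ ⟨hδ, by
      simp only [δ, MonObj.comp_mul, GrpObj.comp_inv, Category.comp_id]
      rw [reassoc_of% hhu, reassoc_of% hw, hψ]
      simp only [u', _root_.mul_inv_rev, _root_.inv_inv]
      rw [mul_comm (toUnit X ≫ c), ← _root_.mul_assoc, mul_inv_cancel, _root_.one_mul]⟩).trans
    (huniq (d ≫ m) ⟨inferInstance, by rw [reassoc_of% hdu, hmc]⟩).symm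
  have he0d : e₀ ≫ d = 1 := Groth.AbvarAlb.hom_constZ_eq_one (e₀ ≫ d)
  have hfix : (e₀ ≫ h) ≫ i = 𝟙 A0 := by
    have h1 : e₀ ≫ δ = 1 := by rw [key, reassoc_of% he0d, MonObj.one_comp]
    simp only [δ, MonObj.comp_mul, GrpObj.comp_inv, Category.comp_id] at h1
    rw [← cancel_mono e₀, Category.id_comp, Category.assoc, Category.assoc]
    exact (mul_inv_eq_one.mp h1).symm
  have := Groth.AlgGrp1.isSeparated_grpObj A0
  have : IsClosedImmersion ((e₀ ≫ h).left ≫ i.left) := by
    rw [← Over.comp_left, hfix]; exact inferInstanceAs (IsClosedImmersion (𝟙 A0.left))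
  have : IsClosedImmersion (e₀ ≫ h).left := IsClosedImmersion.of_comp _ i.left
  rw [← Over.w (e₀ ≫ h)]
  infer_instance

end Groth.Agent.S19978
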