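import Groth.Statements.S19980
import Groth.Agent.ConstQuot.Results
-- import your own Groth.Agent.* helpers here

set_option autoImplicit false
universe u
open ConstAct

namespace Groth.Agent.S19980

open CategoryTheory AlgebraicGeometry in
/-- Let R be a Noetherian commutative ring, A a commutative R-algebra of finite type, and G a finite
group acting on A by R-algebra automorphisms, with ring of invariants A^G. Let [Spec A/G] be the
quotient stack of Spec A by the constant group scheme of G over Spec R, the category over (Sch/Spec
R) whose objects are torsors under the constant group scheme, locally trivial for the fppf topology,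
with an equivariant morphism to Spec A; and let π : [Spec A/G] → Spec A^G be a functor over
(Sch/Spec R) whose composite with the canonical functor Spec A → [Spec A/G] is the functor of the
morphism Spec A → Spec A^G induced by the inclusion A^G ⊆ A. Then for every affine scheme Y' over
Spec R and every morphism g : Y' → Spec A^G over Spec R which is flat, the first projection of the
2-fibre product Y' ×_{Spec A^G} [Spec A/G] → Y' (formed over (Sch/Spec R) from the functor of g and
π) is a coarse moduli space: every functor over (Sch/Spec R) from the 2-fibre product to the
category of an algebraic space over Spec R factors through the projection by exactly one morphism of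
algebraic spaces up to 2-isomorphism, and for every algebraically closed field Ω over R the
projection induces a bijection from isomorphism classes of objects lying over Spec Ω onto the
Ω-points of Y'. (The published statement allows any flat morphism from an algebraic space to Spec
A^G and puts no finiteness condition on A; the case stated is the affine one, and the published
proof uses that A is finite over A^G, which holds when A is of finite type over a Noetherian ring.) -/
theorem result (R : Type u) [CommRing R] [IsNoetherianRing R]
    (A : Type u) [CommRing A] [Algebra R A] [Algebra.FiniteType R A]
    (G : Type u) [Group G] [Fintype G] [DecidableEq G] [MulSemiringAction G A] [SMulCommClass G R A]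
    (π : ConstAct.quotSt R A G Scheme.fppfPrecoverage ⥤ᵇ AlgSt.ofSch (ConstAct.specInv R A G))
    (hπ : BasedFunctor.comp
        (AlgSt.quotMap Scheme.fppfPrecoverage (ConstAct.GR R G) (ConstAct.gaction R A G)) π =
      AlgSt.ofSpMap ((AlgSp.yon (Spec (CommRingCat.of R))).map (ConstAct.quot R A G)))
    (Y' : Over (Spec (CommRingCat.of R))) [IsAffine Y'.left]
    (g : Y' ⟶ ConstAct.specInv R A G) [Flat g.left] :
    AlgSt.IsCoarseModuli
      (FibCat.fpFst (AlgSt.ofSpMap ((AlgSp.yon (Spec (CommRingCat.of R))).map g)) π) := by
  exact ⟨(Groth.ConstQuot.isUnifCatModuli_and_isUnivHomeo π hπ).1.2 _ (AlgSp.IsAlgSpace.yon_obj Y') _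
      (Groth.AlgSpBasic.locP_of_repWith ((AlgSp.repWith_yon_map_iff _ _).2 inferInstance)),
    Groth.ConstQuot.geomPtBij_fpFst (Groth.ConstQuot.isFibGrpd R A G)
      (Groth.ConstQuot.isCoarseModuli π hπ).2 _⟩

end Groth.Agent.S19980
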