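import Groth.Statements.S19986
import Groth.Agent.Ega43Geom.DepthAlong
import Groth.Agent.S17866

set_option autoImplicit false
universe u
open CategoryTheory CategoryTheory.Limits AlgebraicGeometry TopologicalSpace Topology
open CInt

namespace Groth.Agent.S19986

/-- Let f : X ⟶ S be locally of finite presentation, Y a closed subset of X which is locally
constructible in X, and F a finitely presented quasi-coherent O_X-module flat over S. Then the
function on Y sending y to the depth of the fibre module F_{f(y)} along Y ∩ X_{f(y)} at y (with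
values in ℕ ∪ {∞}) is locally constructible on the topological space Y: every point of Y has an open
neighbourhood V in Y on which the function takes only finitely many values and on which every level
set is a constructible subset of V (a member of the Boolean algebra generated by the retrocompact
open subsets of V). -/
theorem result {X S : Scheme.{u}} (f : X ⟶ S)
    [LocallyOfFinitePresentation f] (Y : Closeds ↥X) (hY : IsLocallyConstructible (Y : Set ↥X))
    (F : X.Modules) (hqc : Coh.IsQCoh F) (hfp : CohB1.IsFP F) (hfl : FlatMod.IsFlatOver f F)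
    (y₀ : ↥(Y : Set ↥X)) :
    ∃ V : Opens ↥(Y : Set ↥X), y₀ ∈ V ∧
      ((fun y : ↥(Y : Set ↥X) => CInt.fiberDepthAlong f F (Y : Set ↥X) y.1) '' (V : Set ↥(Y : Set ↥X))).Finite ∧
      ∀ t : ℕ∞, IsConstructible
        {v : ↥V | CInt.fiberDepthAlong f F (Y : Set ↥X) v.1.1 = t} := by
  have : F.IsQuasicoherent := hqc
  obtain ⟨O, hO, hxO, -⟩ := exists_isAffineOpen_mem_and_subset (U := (⊤ : S.Opens)) (x := f y₀.1) trivial
  obtain ⟨W, hW, hxW, hWO⟩ := exists_isAffineOpen_mem_and_subset (U := f ⁻¹ᵁ O) (x := y₀.1) hxO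
  obtain ⟨N, hN⟩ := Groth.FibreDim.exists_height_bound_of_affine f hO hW hWO
  let g : X → ℕ∞ := fun x => CInt.fiberDepthAlong f F (Y : Set ↥X) x
  have hval : ∀ x ∈ W, ((N + 1 : ℕ) : ℕ∞) ≤ g x → g x = ⊤ := by
    intro x hx h
    refine ENat.eq_top_iff_forall_ge.2 fun m => ?_
    show (m : ℕ∞) ≤ CInt.fiberDepthAlong f F (Y : Set ↥X) x
    change ((N + 1 : ℕ) : ℕ∞) ≤ CInt.fiberDepthAlong f F (Y : Set ↥X) x at h
    rw [Groth.Ega43Geom.le_fiberDepthAlong_iff] at h ⊢
    intro z hz hzY
    have hzW : f.fiberι _ z ∈ W := by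
      have := hz.map (f.fiberι _).continuous
      rw [f.fiberι_asFiber] at this
      exact this.mem_open W.isOpen hx
    rcases Groth.Ega43Geom.eq_top_or_depthAt_le f F hfp hN _ z hzW with h' | h'
    · rw [h']; exact le_top
    · exact absurd ((h z hz hzY).trans h') (by rw [Nat.cast_le]; omega)
  let V : Opens ↥(Y : Set ↥X) := ⟨Subtype.val ⁻¹' (W : Set X), W.isOpen.preimage continuous_subtype_val⟩
  refine ⟨V, hxW, ?_, fun t => ?_⟩
  · refine Set.Finite.subset (((Set.finite_Iic N).image (Nat.cast : ℕ → ℕ∞)).insert ⊤) ?_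
    rintro _ ⟨y, hy, rfl⟩
    by_cases h : ((N + 1 : ℕ) : ℕ∞) ≤ g y.1
    · exact Or.inl (hval y.1 hy h)
    · obtain ⟨d, hd⟩ := ENat.ne_top_iff_exists.1 (ne_top_of_lt (not_le.1 h))
      refine Or.inr ⟨d, ?_, hd⟩
      rw [← hd, Nat.cast_le] at h
      show d ≤ N
      omega
  · let e : ↥V → Spec Γ(X, W) := fun v => hW.isoSpec.hom ⟨v.1.1, v.2⟩
    have he : Topology.IsClosedEmbedding e :=
      hW.isoSpec.hom.homeomorph.isClosedEmbedding.comp
        ((Y.isClosed.isClosedEmbedding_subtypeVal).restrictPreimage (W : Set X))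
    have hev : ∀ v, hW.fromSpec (e v) = v.1.1 := fun v => by
      show (hW.isoSpec.hom ≫ hW.fromSpec) ⟨v.1.1, v.2⟩ = _
      rw [hW.isoSpec_hom_fromSpec]
      rfl
    have hYc : Topology.IsConstructible (hW.fromSpec ⁻¹' (Y : Set X)) :=
      (hY.preimage_of_isOpenEmbedding hW.fromSpec.isOpenEmbedding).isConstructible
    have hrange : Set.range e = hW.fromSpec ⁻¹' (Y : Set X) := by
      ext w
      constructor
      · rintro ⟨v, rfl⟩
        show hW.fromSpec (e v) ∈ (Y : Set X)
        rw [hev v]
        exact v.1.2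
      · intro hw
        exact ⟨⟨⟨hW.fromSpec w, hw⟩, hW.range_fromSpec.subset ⟨w, rfl⟩⟩,
          hW.fromSpec.isOpenEmbedding.injective (hev _)⟩
    have hcomp : IsCompact (Set.range e)ᶜ := hrange ▸ Groth.Agent.S17866.isCompact_of_isConstructible hYc.compl
    have hge : ∀ n : ℕ, Topology.IsConstructible {v : ↥V | (n : ℕ∞) ≤ g v.1.1} := fun n => by
      convert (Groth.Ega43Geom.isConstructible_preimage_le_fiberDepthAlong f F hfp hW hO hWO _ hYc n
        ).preimage_of_isClosedEmbedding he hcomp using 1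
      ext v
      simp only [Set.mem_preimage, Set.mem_ofPred_eq, hev, g]
    cases t using ENat.recTopCoe with
    | top =>
      convert hge (N + 1) using 1
      ext v
      exact ⟨fun h => (le_top.trans_eq h.symm), hval _ v.2⟩
    | coe t =>
      convert (hge t).sdiff (hge (t + 1)) using 1
      ext v
      show g v.1.1 = (t : ℕ∞) ↔ (t : ℕ∞) ≤ g v.1.1 ∧ ¬ ((t + 1 : ℕ) : ℕ∞) ≤ g v.1.1
      generalize g v.1.1 = d
      cases d using ENat.recTopCoe with
      | top => simp
      | coe d => norm_cast; omega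

end Groth.Agent.S19986
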