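import Groth.Statements.S1999
import Groth.Agent.EtaleAlgebra.TameInertia
import Mathlib.RingTheory.IntegralDomain
import Mathlib.FieldTheory.Separable
import Mathlib.Data.Nat.Factorization.Basic
import Mathlib.Algebra.CharP.Algebra
import Mathlib.Algebra.CharP.Lemmas
import Mathlib.RingTheory.Flat.TorsionFree
-- import your own Groth.Agent.* helpers here

set_option autoImplicit false
universe u
open scoped Pointwise
open EtAlg

namespace Groth.Agent.S1999

/-- Parts (2)–(5) in the case of part (6): let A be a discrete valuation ring with fraction field K, L/K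
a finite Galois extension with group G, B the integral closure of A in L, m a maximal ideal of B
whose residue field is separable over that of A, and e the ramification index of m over A. Let D be
the decomposition group (stabilizer of m), I the inertia group (elements acting trivially on B/m)
and P the wild inertia group, here the elements of D acting trivially on B/m² (the description valid
in the separable residue field case). Then P ≤ I, P is normal in D, P is a p-group if the residue
characteristic is p > 0 and trivial if it is 0, and I/P is cyclic of order the prime-to-p part of e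
and isomorphic to a subgroup of the e-th roots of unity of B/m — more precisely to the full group of
e-th roots of unity of B/m. -/
theorem result (A K L B : Type u) [CommRing A] [IsDomain A] [IsDiscreteValuationRing A]
    [CommRing B] [IsDomain B] [Field K] [Field L] [Algebra A K] [Algebra B L] [IsFractionRing A K] [IsFractionRing B L]
    [Algebra A B] [Algebra K L] [Algebra A L] [IsScalarTower A K L] [IsScalarTower A B L] [IsIntegralClosure B A L]
    [FiniteDimensional K L] [IsGalois K L] (m : Ideal B) [m.IsMaximal]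
    [Algebra.IsSeparable (A ⧸ m.comap (algebraMap A B)) (B ⧸ m)] :
    letI := IsIntegralClosure.MulSemiringAction A K L B
    let D : Subgroup (L ≃ₐ[K] L) := MulAction.stabilizer (L ≃ₐ[K] L) m
    let I : Subgroup (L ≃ₐ[K] L) := m.inertia (L ≃ₐ[K] L)
    let P : Subgroup (L ≃ₐ[K] L) := D ⊓ (m ^ 2).inertia (L ≃ₐ[K] L)
    let e : ℕ := Ideal.ramificationIdx' (IsLocalRing.maximalIdeal A) m
    P ≤ I ∧ I ≤ D ∧ (P.subgroupOf D).Normal ∧
    (∀ p : ℕ, p.Prime → CharP (A ⧸ m.comap (algebraMap A B)) p → IsPGroup p P) ∧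
    (CharZero (A ⧸ m.comap (algebraMap A B)) → P = ⊥) ∧
    (∀ [(P.subgroupOf I).Normal],
      IsCyclic (I ⧸ P.subgroupOf I) ∧
      (∀ p : ℕ, p.Prime → CharP (A ⧸ m.comap (algebraMap A B)) p → Nat.card (I ⧸ P.subgroupOf I) = e / p ^ e.factorization p) ∧
      (CharZero (A ⧸ m.comap (algebraMap A B)) → Nat.card (I ⧸ P.subgroupOf I) = e) ∧
      Nonempty (I ⧸ P.subgroupOf I ≃* ↥(rootsOfUnity e (B ⧸ m)))) := by
  classical
  let _ := IsIntegralClosure.MulSemiringAction A K L B
  have := IsIntegralClosure.isDedekindDomain A K L B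
  have : Module.Finite A B := IsIntegralClosure.finite A K L B
  have hinj : Function.Injective (algebraMap A B) := by
    refine Function.Injective.of_comp (f := algebraMap B L) ?_
    rw [← RingHom.coe_comp, ← IsScalarTower.algebraMap_eq, IsScalarTower.algebraMap_eq A K L]
    exact (algebraMap K L).injective.comp (IsFractionRing.injective A K)
  have : FaithfulSMul A B := (faithfulSMul_iff_algebraMap_injective A B).2 hinj
  have : Module.IsTorsionFree A B := inferInstance
  have : Module.Flat A B := inferInstance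
  have hG : IsGaloisGroup (L ≃ₐ[K] L) A B := IsGaloisGroup.of_isFractionRing _ _ _ K L
  have : SMulCommClass (L ≃ₐ[K] L) A B := hG.commutes
  have : FaithfulSMul (L ≃ₐ[K] L) B := hG.faithful
  have hp : m.comap (algebraMap A B) = IsLocalRing.maximalIdeal A :=
    IsLocalRing.eq_maximalIdeal (Ideal.isMaximal_comap_of_isIntegral_of_isMaximal m)
  have hpmax : (m.comap (algebraMap A B)).IsMaximal := hp ▸ inferInstance
  have hp0 : m.comap (algebraMap A B) ≠ ⊥ := hp ▸ IsDiscreteValuationRing.not_a_field A
  have hm0 : m ≠ ⊥ := fun h => hp0 (by rw [h, Ideal.comap_bot_of_injective _ hinj])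
  have hlo : m.LiesOver (m.comap (algebraMap A B)) := ⟨rfl⟩
  intro D I P e
  open Groth.EtaleAlgebra in
  have hPI : P ≤ I := Inertia.wild_le m
  have hcard : Nat.card I = e := by
    show Nat.card (m.inertia (L ≃ₐ[K] L)) = Ideal.ramificationIdx' (IsLocalRing.maximalIdeal A) m
    rw [← hp]
    exact Groth.EtaleAlgebra.Inertia.card_inertia m (m.comap (algebraMap A B)) hp0
  let _ := Ideal.Quotient.field (m.comap (algebraMap A B))
  let _ := Ideal.Quotient.field m
  have hsep : ∀ x : B, ∃ F : Polynomial A, Polynomial.aeval x F ∈ m ∧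
      Polynomial.aeval x (Polynomial.derivative F) ∉ m := by
    intro x
    have hx := Algebra.IsSeparable.isSeparable (A ⧸ m.comap (algebraMap A B)) (Ideal.Quotient.mk m x)
    obtain ⟨F, hF⟩ := Polynomial.map_surjective (algebraMap A (A ⧸ m.comap (algebraMap A B)))
      Ideal.Quotient.mk_surjective (minpoly (A ⧸ m.comap (algebraMap A B)) (Ideal.Quotient.mk m x))
    have key : ∀ Q : Polynomial A, Ideal.Quotient.mk m (Polynomial.aeval x Q) =
        Polynomial.aeval (Ideal.Quotient.mk m x) (Q.map (algebraMap A (A ⧸ m.comap (algebraMap A B)))) := by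
      intro Q
      rw [Polynomial.aeval_map_algebraMap]
      exact (Polynomial.aeval_algHom_apply (Ideal.Quotient.mkₐ A m) x Q).symm
    refine ⟨F, ?_, fun h => ?_⟩
    · rw [← Ideal.Quotient.eq_zero_iff_mem, key, hF, minpoly.aeval]
    · rw [← Ideal.Quotient.eq_zero_iff_mem, key, ← Polynomial.derivative_map, hF] at h
      exact Polynomial.Separable.aeval_derivative_ne_zero hx (minpoly.aeval _ _) h
  obtain ⟨θ, hθ⟩ := Groth.EtaleAlgebra.Inertia.exists_character (G := L ≃ₐ[K] L) m hm0 (A := A) hsep
  have hdvd : ∀ ℓ : ℕ, ℓ.Prime → ℓ ∣ Nat.card P → (ℓ : B ⧸ m) = 0 := fun ℓ hℓ h => by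
    rw [← map_natCast (Ideal.Quotient.mk m), Ideal.Quotient.eq_zero_iff_mem]
    exact Groth.EtaleAlgebra.Inertia.prime_mem_of_dvd_card m hℓ h
  have hkinj : Function.Injective (algebraMap (A ⧸ m.comap (algebraMap A B)) (B ⧸ m)) := RingHom.injective _
  have hchar : ∀ p : ℕ, p.Prime → CharP (A ⧸ m.comap (algebraMap A B)) p →
      ∀ ℓ : ℕ, ℓ.Prime → ℓ ∣ Nat.card P → ℓ = p := by
    intro p hp' _ ℓ hℓ h
    have : CharP (B ⧸ m) p := charP_of_injective_ringHom hkinj p
    exact ((Nat.prime_dvd_prime_iff_eq hp' hℓ).1 ((CharP.cast_eq_zero_iff (B ⧸ m) p ℓ).1 (hdvd ℓ hℓ h))).symm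
  have hP0 : CharZero (A ⧸ m.comap (algebraMap A B)) → P = ⊥ := by
    intro _
    have : CharZero (B ⧸ m) := charZero_of_injective_ringHom hkinj
    rw [← Subgroup.card_eq_one]
    by_contra h
    obtain ⟨ℓ, hℓ, hℓd⟩ := Nat.exists_prime_and_dvd h
    exact hℓ.ne_zero (Nat.cast_eq_zero.1 (hdvd ℓ hℓ hℓd))
  have hPp : ∀ p : ℕ, p.Prime → CharP (A ⧸ m.comap (algebraMap A B)) p → ∃ k, Nat.card P = p ^ k :=
    fun p hp' hc => ⟨_, Nat.eq_prime_pow_of_unique_prime_dvd Nat.card_pos.ne'
      (fun {ℓ} hℓ h => hchar p hp' hc ℓ hℓ h)⟩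
  refine ⟨hPI, Ideal.inertia_le_stabilizer m, Groth.EtaleAlgebra.Inertia.wild_normal m,
    fun p hp' hc => ?_, hP0, ?_⟩
  · obtain ⟨k, hk⟩ := hPp p hp' hc
    exact IsPGroup.of_card hk
  intro _
  let eq : I ⧸ P.subgroupOf I ≃* θ.range :=
    (QuotientGroup.quotientMulEquivOfEq hθ.symm).trans (QuotientGroup.quotientKerEquivRange θ)
  have hn : Nat.card (I ⧸ P.subgroupOf I) = Nat.card θ.range := Nat.card_congr eq.toEquiv
  have hmul : Nat.card θ.range * Nat.card P = e := by
    rw [← hn, ← hcard, ← Nat.card_congr (Subgroup.subgroupOfEquivOfLe hPI).toEquiv]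
    exact (Subgroup.card_eq_card_quotient_mul_card_subgroup _).symm
  have : Finite θ.range := Finite.of_equiv _ eq.toEquiv
  have hn0 : Nat.card θ.range ≠ 0 := Nat.card_pos.ne'
  have he0 : e ≠ 0 := by rw [← hmul]; exact mul_ne_zero hn0 Nat.card_pos.ne'
  have hprime : ∀ p : ℕ, p.Prime → CharP (A ⧸ m.comap (algebraMap A B)) p → ¬ p ∣ Nat.card θ.range := by
    intro p hp' hc h
    have : Fact p.Prime := ⟨hp'⟩
    have : CharP (B ⧸ m) p := charP_of_injective_ringHom hkinj p
    obtain ⟨u, hu⟩ := exists_prime_orderOf_dvd_card' p h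
    have h1 : (((u : θ.range) : (B ⧸ m)ˣ) : B ⧸ m) ^ p = 1 := by
      have := pow_orderOf_eq_one u
      rw [hu] at this
      rw [← Units.val_pow_eq_pow_val, ← SubmonoidClass.coe_pow, this, OneMemClass.coe_one, Units.val_one]
    have h2 : ((((u : θ.range) : (B ⧸ m)ˣ) : B ⧸ m) - 1) ^ p = 0 := by rw [sub_pow_char, h1, one_pow, sub_self]
    have h3 : u = 1 := Subtype.ext (Units.ext (sub_eq_zero.1 ((pow_eq_zero_iff hp'.ne_zero).1 h2)))
    rw [h3, orderOf_one] at hu
    exact hp'.ne_one hu.symm
  have : NeZero e := ⟨he0⟩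
  have hroots : θ.range = rootsOfUnity e (B ⧸ m) := by
    refine Subgroup.eq_of_le_of_card_ge (fun u hu => ?_) ?_
    · rw [mem_rootsOfUnity]
      obtain ⟨c, hc⟩ : Nat.card θ.range ∣ e := ⟨_, hmul.symm⟩
      have h := pow_card_eq_one' (G := θ.range) (x := ⟨u, hu⟩)
      rw [hc, pow_mul, ← Subgroup.coe_mk θ.range u hu, ← SubmonoidClass.coe_pow, h, OneMemClass.coe_one, one_pow]
    · have : NeZero (Nat.card θ.range) := ⟨hn0⟩
      refine le_trans ?_ (card_rootsOfUnity (B ⧸ m) (Nat.card θ.range))
      have hle : rootsOfUnity e (B ⧸ m) ≤ rootsOfUnity (Nat.card θ.range) (B ⧸ m) := by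
        obtain ⟨p, hc⟩ := CharP.exists (A ⧸ m.comap (algebraMap A B))
        rcases CharP.char_is_prime_or_zero (A ⧸ m.comap (algebraMap A B)) p with hp' | rfl
        · have : Fact p.Prime := ⟨hp'⟩
          have : CharP (B ⧸ m) p := charP_of_injective_ringHom hkinj p
          obtain ⟨k, hk⟩ := hPp p hp' hc
          intro u hu
          rw [mem_rootsOfUnity] at hu ⊢
          rw [← hmul, hk, pow_mul] at hu
          refine Units.ext (sub_eq_zero.1 ((pow_eq_zero_iff (pow_ne_zero k hp'.ne_zero)).1 ?_))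
          rw [sub_pow_char_pow, ← Units.val_pow_eq_pow_val, hu, Units.val_one, one_pow, sub_self]
        · have : CharZero (A ⧸ m.comap (algebraMap A B)) := CharP.charP_to_charZero _
          rw [← hmul, hP0 this, Subgroup.card_bot, mul_one]
      exact Subgroup.card_le_of_le hle
  refine ⟨isCyclic_of_surjective eq.symm eq.symm.surjective, fun p hp' hc => ?_, fun hz => ?_,
    ⟨eq.trans (MulEquiv.subgroupCongr hroots)⟩⟩
  · obtain ⟨k, hk⟩ := hPp p hp' hc
    have hfac : e.factorization p = k := by
      rw [← hmul, Nat.factorization_mul hn0 Nat.card_pos.ne', Finsupp.add_apply, hk,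
        Nat.factorization_eq_zero_of_not_dvd (hprime p hp' hc), hp'.factorization_pow, Finsupp.single_eq_same, zero_add]
    rw [hn, hfac, ← hmul, hk, Nat.mul_div_cancel _ (pow_pos hp'.pos k)]
  · rw [hn, ← hmul, hP0 hz, Subgroup.card_bot, mul_one]

end Groth.Agent.S1999
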