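import Groth.Statements.S19995
import Groth.Agent.Misc7.DepthTwoExtend
import Groth.Agent.PicAux.Hartogs
import Mathlib.RingTheory.Regular.Flat

set_option autoImplicit false
set_option backward.isDefEq.respectTransparency.types false
universe u
open CategoryTheory AlgebraicGeometry CategoryTheory.Limits
open WildQuot

namespace Groth.Agent.S19995

theorem result
    (S G₁ G₂ : Scheme.{u}) [AlgebraicGeometry.IsNoetherian S] (f₁ : G₁ ⟶ S) (f₂ : G₂ ⟶ S)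
    [AlgebraicGeometry.IsFinite f₁] [AlgebraicGeometry.Flat f₁]
    [AlgebraicGeometry.IsFinite f₂] [AlgebraicGeometry.Flat f₂]
    (U : S.Opens)
    (hU : ∀ s : S, s ∉ U → (2 : ℕ∞) ≤ LocCoh.depth (S.presheaf.stalk s) (S.presheaf.stalk s))
    (φU : ((f₁ ⁻¹ᵁ U : G₁.Opens) : Scheme.{u}) ⟶ ((f₂ ⁻¹ᵁ U : G₂.Opens) : Scheme.{u}))
    (hφU : φU ≫ (f₂ ⁻¹ᵁ U).ι ≫ f₂ = (f₁ ⁻¹ᵁ U).ι ≫ f₁) :
    ∃! φ : G₁ ⟶ G₂, φ ≫ f₂ = f₁ ∧ (f₁ ⁻¹ᵁ U).ι ≫ φ = φU ≫ (f₂ ⁻¹ᵁ U).ι := by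
  have : IsLocallyNoetherian G₁ := LocallyOfFiniteType.isLocallyNoetherian f₁
  have hZ : ∀ z : G₁, z ∉ f₁ ⁻¹ᵁ U → ∃ a b : G₁.presheaf.stalk z,
      a ∈ IsLocalRing.maximalIdeal (G₁.presheaf.stalk z) ∧
      b ∈ IsLocalRing.maximalIdeal (G₁.presheaf.stalk z) ∧
      RingTheory.Sequence.IsWeaklyRegular (G₁.presheaf.stalk z) [a, b] := by
    intro z hz
    obtain ⟨a, b, ha, hb, hab⟩ := Groth.PicAux.exists_regular_pair (hU (f₁ z) hz)
    have hfl := Flat.stalkMap f₁ z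
    let _ := (f₁.stalkMap z).hom.toAlgebra
    have : Module.Flat (S.presheaf.stalk (f₁ z)) (G₁.presheaf.stalk z) := hfl
    have hloc : IsLocalHom (f₁.stalkMap z).hom := inferInstance
    refine ⟨f₁.stalkMap z a, f₁.stalkMap z b, fun h => ha (isUnit_of_map_unit (f₁.stalkMap z).hom a h),
      fun h => hb (isUnit_of_map_unit (f₁.stalkMap z).hom b h), ?_⟩
    exact hab.of_flat (S := G₁.presheaf.stalk z)
  have : QuasiCompact (f₁ ⁻¹ᵁ U).ι := inferInstance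
  let p := pullback.fst f₁ f₂
  have : IsAffineHom p := MorphismProperty.pullback_fst (P := @IsAffineHom) _ _ inferInstance
  let t : (f₁ ⁻¹ᵁ U).toScheme ⟶ pullback f₁ f₂ :=
    pullback.lift (f₁ ⁻¹ᵁ U).ι (φU ≫ (f₂ ⁻¹ᵁ U).ι) (by rw [Category.assoc, hφU])
  obtain ⟨s, ⟨hs₁, hs₂⟩, huniq⟩ :=
    Groth.Misc7.DepthTwo.existsUnique_extension hZ (pullback f₁ f₂) p t (pullback.lift_fst _ _ _)
  refine ⟨s ≫ pullback.snd f₁ f₂, ⟨?_, ?_⟩, ?_⟩
  · rw [Category.assoc, ← pullback.condition, reassoc_of% hs₁]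
  · rw [reassoc_of% hs₂]; exact pullback.lift_snd _ _ _
  · rintro ψ ⟨h₁, h₂⟩
    have := huniq (pullback.lift (𝟙 G₁) ψ (by rw [Category.id_comp, h₁]))
      ⟨pullback.lift_fst _ _ _, by
        apply pullback.hom_ext
        · simp only [t, Category.assoc, pullback.lift_fst]; exact Category.comp_id _
        · simp only [t, Category.assoc, pullback.lift_snd, h₂]⟩
    rw [← this, pullback.lift_snd]

end Groth.Agent.S19995
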