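import Groth.Statements.S19996
import Mathlib

set_option autoImplicit false
universe u
open WildQuot

namespace Groth.Agent.S19996

open PowerSeries

variable {k : Type u} [Field k]

/-- Decomposition of a nonzero series. -/
theorem exists_eq_X_pow_mul {f : PowerSeries k} (hf : f ≠ 0) :
    ∃ (n : ℕ) (v : PowerSeries k), f = X ^ n * v ∧ constantCoeff v ≠ 0 :=
  ⟨f.order.toNat, divXPowOrder f, (X_pow_order_mul_divXPowOrder).symm,
    fun h => hf (constantCoeff_divXPowOrder_eq_zero_iff.1 h)⟩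

theorem order_X_pow_mul {n : ℕ} {v : PowerSeries k} (hv : constantCoeff v ≠ 0) :
    (X ^ n * v).order = (n : ℕ∞) := by
  rw [order_eq_nat]
  refine ⟨by rw [← mul_comm v, coeff_mul_X_pow', if_pos le_rfl, Nat.sub_self, coeff_zero_eq_constantCoeff]; exact hv,
    fun i hi => by rw [← mul_comm v, coeff_mul_X_pow', if_neg (not_le.2 hi)]⟩

variable (σ : PowerSeries k ≃ₐ[k] PowerSeries k) {m : ℕ} {g : PowerSeries k}

theorem dvd_delta_top (hσX : σ X = X * (1 + X ^ m * g)) :
    ∀ (h : PowerSeries k), X ^ (m + 1) ∣ σ h - h := by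
  suffices H : ∀ n, n ≤ m + 1 → ∀ h : PowerSeries k, X ^ n ∣ σ h - h from fun h => H _ le_rfl h
  intro n
  induction n with
  | zero => intro _ h; simp
  | succ n ih =>
    intro hn h
    obtain ⟨h', hh⟩ : X ∣ h - PowerSeries.C (constantCoeff h) := X_dvd_iff.2 (by simp)
    have e : σ h - h = σ X * (σ h' - h') + (σ X - X) * h' := by
      have h1 : σ (PowerSeries.C (constantCoeff h)) = PowerSeries.C (constantCoeff h) := σ.commutes _
      rw [eq_add_of_sub_eq hh, map_add, map_mul, h1]; ring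
    rw [e]
    refine dvd_add ?_ ?_
    · rw [pow_succ']
      exact mul_dvd_mul ⟨1 + X ^ m * g, hσX⟩ (ih (by omega) h')
    · refine Dvd.dvd.mul_right ((pow_dvd_pow X hn).trans ⟨g, ?_⟩) h'
      rw [hσX]; ring

theorem one_add_pow_sub (y : PowerSeries k) (n : ℕ) : ∃ z, (1 + y) ^ n = 1 + n * y + y ^ 2 * z := by
  induction n with
  | zero => exact ⟨0, by simp⟩
  | succ n ih =>
    obtain ⟨z, hz⟩ := ih
    exact ⟨n + z + y * z, by rw [pow_succ, hz]; push_cast; ring⟩

/-- The leading term of the difference. -/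
theorem delta_eq (hσX : σ X = X * (1 + X ^ m * g)) (hm : 1 ≤ m) (n : ℕ) (v : PowerSeries k) :
    ∃ w, σ (X ^ n * v) - X ^ n * v = X ^ (n + m) * w ∧
      constantCoeff w = n * constantCoeff g * constantCoeff v := by
  obtain ⟨z, hz⟩ := one_add_pow_sub (X ^ m * g) n
  obtain ⟨d, hd⟩ := dvd_delta_top σ hσX v
  refine ⟨((n : PowerSeries k) * g + X ^ m * g ^ 2 * z) * σ v + X * d, ?_, ?_⟩
  · have hs : σ v = v + X ^ (m + 1) * d := by rw [← hd]; ring
    rw [map_mul, map_pow, hσX, mul_pow, hz, hs]; ring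
  · have hv : constantCoeff (σ v) = constantCoeff v := by
      rw [sub_eq_iff_eq_add.1 hd]; simp
    have h0 : constantCoeff ((X : PowerSeries k) ^ m) = 0 := by
      rw [map_pow, constantCoeff_X, zero_pow (by omega)]
    simp [hv, h0]

variable (p : ℕ) [Fact p.Prime] [CharP k p]

theorem one_le_break (hσX : σ X = X * (1 + X ^ m * g)) (hg : constantCoeff g ≠ 0) (hσp : σ ^ p = 1) : 1 ≤ m := by
  by_contra hm
  obtain rfl : m = 0 := by omega
  have hit : ∀ i : ℕ, ∃ v, (σ ^ i) X = X * v ∧ constantCoeff v = (1 + constantCoeff g) ^ i := by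
    intro i
    induction i with
    | zero => exact ⟨1, by simp, by simp⟩
    | succ i ih =>
      obtain ⟨v, hv, hv0⟩ := ih
      refine ⟨(1 + g) * σ v, ?_, ?_⟩
      · rw [pow_succ', AlgEquiv.mul_apply, hv, map_mul, hσX]; ring
      · obtain ⟨d, hd⟩ := dvd_delta_top σ hσX v
        rw [sub_eq_iff_eq_add.1 hd]
        simp [hv0, pow_succ, mul_comm]
  obtain ⟨v, hv, hv0⟩ := hit p
  rw [hσp, AlgEquiv.one_apply] at hv
  have : v = 1 := mul_left_cancel₀ X_ne_zero (hv.symm.trans (mul_one X).symm)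
  rw [this, map_one, add_pow_char, one_pow, eq_comm, add_eq_left] at hv0
  exact hg (eq_zero_of_pow_eq_zero hv0)

theorem dvd_order_of_fixed (hσX : σ X = X * (1 + X ^ m * g)) (hm : 1 ≤ m) (hg : constantCoeff g ≠ 0)
    {n : ℕ} {v : PowerSeries k} (hv : constantCoeff v ≠ 0) (h : σ (X ^ n * v) = X ^ n * v) : p ∣ n := by
  obtain ⟨w, hw, hw0⟩ := delta_eq σ hσX hm n v
  rw [h, sub_self, eq_comm, mul_eq_zero, or_iff_right (pow_ne_zero _ X_ne_zero)] at hw
  rw [hw, map_zero, eq_comm, mul_eq_zero, or_iff_left hv, mul_eq_zero, or_iff_left hg] at hw0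
  exact (CharP.cast_eq_zero_iff k p n).1 hw0

theorem exists_norm (hσX : σ X = X * (1 + X ^ m * g)) (hm : 1 ≤ m) (hσp : σ ^ p = 1) :
    ∃ v, constantCoeff v ≠ 0 ∧ σ (X ^ p * v) = X ^ p * v := by
  have hu : ∀ i : ℕ, ∃ v, (σ ^ i) X = X * v ∧ constantCoeff v ≠ 0 := by
    intro i
    induction i with
    | zero => exact ⟨1, by simp, by simp⟩
    | succ i ih =>
      obtain ⟨v, hv, hv0⟩ := ih
      refine ⟨(1 + X ^ m * g) * σ v, ?_, ?_⟩
      · rw [pow_succ', AlgEquiv.mul_apply, hv, map_mul, hσX]; ring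
      · obtain ⟨d, hd⟩ := dvd_delta_top σ hσX v
        rw [map_mul, sub_eq_iff_eq_add.1 hd]
        simp [hv0, zero_pow (show m ≠ 0 by omega)]
  choose v hv hv0 using hu
  refine ⟨∏ i ∈ Finset.range p, v i, by rw [map_prod]; exact Finset.prod_ne_zero_iff.2 fun i _ => hv0 i, ?_⟩
  have e : X ^ p * ∏ i ∈ Finset.range p, v i = ∏ i ∈ Finset.range p, (σ ^ i) X := by
    simp only [hv, Finset.prod_mul_distrib, Finset.prod_const, Finset.card_range]
  rw [e, map_prod]
  have hs : ∀ i, σ ((σ ^ i) X) = (σ ^ (i + 1)) X := fun i => by rw [pow_succ', AlgEquiv.mul_apply]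
  simp only [hs]
  obtain ⟨q, hq⟩ : ∃ q, p = q + 1 := ⟨p - 1, (Nat.succ_pred_eq_of_pos (Fact.out : p.Prime).pos).symm⟩
  rw [hq, Finset.prod_range_succ, Finset.prod_range_succ', ← hq, hσp, pow_zero]

/-- A series whose difference is invariant. -/
theorem exists_second_kernel (hσp : σ ^ p = 1) (hX : σ X ≠ X) :
    ∃ w, σ w - w ≠ 0 ∧ σ (σ w - w) = σ w - w := by
  let δ : Module.End k (PowerSeries k) := σ.toAlgHom.toLinearMap - 1
  haveI : CharP (Module.End k (PowerSeries k)) p :=
    charP_of_injective_algebraMap (algebraMap k (Module.End k (PowerSeries k))).injective p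
  have hδ : δ ^ p = 0 := by
    rw [sub_pow_char_of_commute p (Commute.one_right _), one_pow, sub_eq_zero]
    ext f : 1
    have : ∀ i : ℕ, ((σ.toAlgHom.toLinearMap : Module.End k (PowerSeries k)) ^ i) f = (σ ^ i) f := by
      intro i
      induction i with
      | zero => rfl
      | succ i ih => rw [pow_succ', pow_succ', Module.End.mul_apply, ih, AlgEquiv.mul_apply]; rfl
    rw [this, hσp]; rfl
  have hd : ∀ f, δ f = σ f - f := fun f => rfl
  classical
  have hex : ∃ i, (δ ^ i) X = 0 := ⟨p, by rw [hδ]; rfl⟩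
  have h0 : ¬ (δ ^ 1) X = 0 := fun h => hX (sub_eq_zero.1 (by rwa [pow_one, hd] at h))
  obtain ⟨j, hj⟩ : ∃ j, Nat.find hex = j + 2 := by
    refine ⟨Nat.find hex - 2, ?_⟩
    have h1 := Nat.find_spec hex
    rcases Nat.lt_or_ge (Nat.find hex) 2 with h2 | h2
    · exfalso
      interval_cases hf : Nat.find hex
      · exact (X_ne_zero : (X : PowerSeries k) ≠ 0) (by simpa using h1)
      · exact h0 h1
    · omega
  refine ⟨(δ ^ j) X, ?_, ?_⟩
  · rw [← hd, ← Module.End.mul_apply, ← pow_succ']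
    exact Nat.find_min hex (by omega)
  · rw [← sub_eq_zero, ← hd, ← hd, ← Module.End.mul_apply, ← Module.End.mul_apply, mul_assoc, ← pow_succ', ← pow_succ']
    rw [show j + 1 + 1 = Nat.find hex by omega]
    exact Nat.find_spec hex

/-- Removal of invariant leading terms. -/
theorem exists_reduced (hσX : σ X = X * (1 + X ^ m * g)) (hm : 1 ≤ m) {N : PowerSeries k}
    (hN : constantCoeff N ≠ 0) (hNi : σ (X ^ p * N) = X ^ p * N) {B : ℕ} {b : PowerSeries k}
    (hb : constantCoeff b ≠ 0) :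
    ∀ (d n : ℕ) (v : PowerSeries k), B + 1 - n ≤ d → constantCoeff v ≠ 0 →
      σ (X ^ n * v) - X ^ n * v = X ^ B * b →
      ∃ (n' : ℕ) (v' : PowerSeries k), ¬ p ∣ n' ∧ constantCoeff v' ≠ 0 ∧
        σ (X ^ n' * v') - X ^ n' * v' = X ^ B * b := by
  intro d
  induction d using Nat.strong_induction_on with
  | _ d ih =>
    intro n v hd hv h
    by_cases hp : p ∣ n
    swap
    · exact ⟨n, v, hp, hv, h⟩
    obtain ⟨r, rfl⟩ := hp
    have hbd : p * r + m ≤ B := by
      obtain ⟨w, hw, -⟩ := delta_eq σ hσX hm (p * r) v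
      rw [h] at hw
      by_contra hc
      have h1 : (X : PowerSeries k) ^ (B + 1) ∣ X ^ B * b := by
        rw [hw]; exact (pow_dvd_pow X (by omega)).mul_right w
      rw [pow_succ] at h1
      exact hb (X_dvd_iff.1 ((mul_dvd_mul_iff_left (pow_ne_zero B X_ne_zero)).1 h1))
    let c := PowerSeries.C (constantCoeff v / constantCoeff N ^ r)
    have h0 : constantCoeff (v - c * N ^ r) = 0 := by
      simp [c, div_mul_cancel₀ _ (pow_ne_zero r hN)]
    have e : σ (X ^ (p * r) * (v - c * N ^ r)) - X ^ (p * r) * (v - c * N ^ r) = X ^ B * b := by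
      have hc : σ c = c := σ.commutes _
      have h2 : σ (X ^ (p * r) * (c * N ^ r)) = X ^ (p * r) * (c * N ^ r) := by
        rw [show X ^ (p * r) * (c * N ^ r) = c * (X ^ p * N) ^ r by rw [pow_mul, mul_pow]; ring, map_mul,
          map_pow, hNi, hc]
      rw [mul_sub, map_sub, h2, ← h]; ring
    obtain ⟨n₁, v₁, hv₁, hv₁0⟩ := exists_eq_X_pow_mul (f := v - c * N ^ r) (fun hz => by
      rw [hz, mul_zero, map_zero, sub_zero, eq_comm] at e
      exact hb (by rw [(mul_eq_zero.1 e).resolve_left (pow_ne_zero _ X_ne_zero), map_zero]))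
    have hn₁ : 1 ≤ n₁ := by
      by_contra hc
      obtain rfl : n₁ = 0 := by omega
      rw [hv₁, pow_zero, one_mul] at h0
      exact hv₁0 h0
    refine ih (B + 1 - (p * r + n₁)) (by omega) (p * r + n₁) v₁ le_rfl hv₁0 ?_
    rw [pow_add, mul_assoc, ← hv₁]
    exact e


/-- Let `k` be a field of characteristic `p > 0`, `A = k[[u]]`, and `σ` a `k`-algebra automorphism of
`A` of order exactly `p` with ramification break `m`, i.e. `σ u - u` has order `m + 1`. Then `p`
divides `m + 1` if and only if there are a uniformizer `s` of `A` (a power series of order `1`) and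
a `σ`-invariant power series `a` with `σ s = s + a`. (The published statement has a third equivalent
condition, that `Spec A` is a torsor under the effective model of the action; this row omits it.) -/
theorem result
    (p : ℕ) [Fact p.Prime] (k : Type u) [Field k] [CharP k p]
    (σ : PowerSeries k ≃ₐ[k] PowerSeries k) (hσp : σ ^ p = 1) (hσ1 : σ ≠ 1)
    (m : ℕ) (hm : (σ PowerSeries.X - PowerSeries.X).order = ((m + 1 : ℕ) : ℕ∞)) :
    p ∣ m + 1 ↔
      ∃ s a : PowerSeries k, s.order = 1 ∧ σ a = a ∧ σ s = s + a := by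
  obtain ⟨hc, hlt⟩ := PowerSeries.order_eq_nat.1 hm
  obtain ⟨g, hg⟩ := PowerSeries.X_pow_dvd_iff.2 fun i hi => hlt i hi
  have hg0 : PowerSeries.constantCoeff g ≠ 0 := by
    rw [hg, mul_comm, PowerSeries.coeff_mul_X_pow', if_pos le_rfl, Nat.sub_self,
      PowerSeries.coeff_zero_eq_constantCoeff] at hc
    exact hc
  have hσX : σ PowerSeries.X = PowerSeries.X * (1 + PowerSeries.X ^ m * g) := by
    rw [sub_eq_iff_eq_add.1 hg]; ring
  have hm1 := one_le_break σ p hσX hg0 hσp
  constructor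
  · rintro ⟨j, hj⟩
    obtain ⟨N, hN, hNi⟩ := exists_norm σ p hσX hm1 hσp
    obtain ⟨w, hw0, hwi⟩ := exists_second_kernel σ p hσp (fun h => hc (by rw [h, sub_self, map_zero]))
    obtain ⟨B, b, hB, hb⟩ := exists_eq_X_pow_mul hw0
    obtain ⟨n₀, v₀, rfl, hv₀⟩ := exists_eq_X_pow_mul (f := w) (fun h => hw0 (by simp [h]))
    obtain ⟨n, v, hn, hv, hnv⟩ := exists_reduced σ p hσX hm1 hN hNi hb _ n₀ v₀ le_rfl hv₀ hB
    have hpB : p ∣ B := dvd_order_of_fixed σ p hσX hm1 hg0 hb (by rw [← hB]; exact hwi)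
    have hnB : n + m = B := by
      obtain ⟨w', hw', hw'0⟩ := delta_eq σ hσX hm1 n v
      have hw'' : PowerSeries.constantCoeff w' ≠ 0 := by
        rw [hw'0]
        exact mul_ne_zero (mul_ne_zero (fun h => hn ((CharP.cast_eq_zero_iff k p n).1 h)) hg0) hv
      have := congrArg PowerSeries.order (hw'.symm.trans hnv)
      rw [order_X_pow_mul hw'', order_X_pow_mul hb] at this
      exact_mod_cast this
    obtain ⟨t, rfl⟩ := hpB
    have hp1 := (Fact.out : p.Prime).one_lt
    have hn1 : 1 ≤ n := by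
      by_contra hc; exact hn (by rw [show n = 0 by omega]; exact dvd_zero p)
    obtain ⟨r, hr⟩ : ∃ r, n = p * r + 1 := by
      rcases le_or_gt j t with hjt | hjt
      · exact ⟨t - j, by rw [Nat.mul_sub]; have := Nat.mul_le_mul_left p hjt; omega⟩
      · exfalso
        have := Nat.mul_le_mul_left p (show t + 1 ≤ j from hjt)
        rw [Nat.mul_add] at this
        omega
    let u := N ^ r
    have hu : PowerSeries.constantCoeff u ≠ 0 := by rw [map_pow]; exact pow_ne_zero _ hN
    let s := PowerSeries.X * (v * u⁻¹)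
    have hs : (PowerSeries.X ^ p * N) ^ r * s = PowerSeries.X ^ n * v := by
      calc (PowerSeries.X ^ p * N) ^ r * s = PowerSeries.X ^ (p * r + 1) * v * (u * u⁻¹) := by
            simp only [s, u, pow_succ, pow_mul, mul_pow]; ring
        _ = _ := by rw [PowerSeries.mul_inv_cancel u hu, mul_one, hr]
    have hne : (PowerSeries.X ^ p * N) ^ r ≠ 0 := by
      refine pow_ne_zero _ (mul_ne_zero (pow_ne_zero _ PowerSeries.X_ne_zero) fun h => hN (by rw [h, map_zero]))
    have key : (PowerSeries.X ^ p * N) ^ r * (σ s - s) = PowerSeries.X ^ (p * t) * b := by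
      rw [← hnv, ← hs, map_mul σ ((PowerSeries.X ^ p * N) ^ r) s, map_pow σ, hNi]; ring
    refine ⟨s, σ s - s, ?_, ?_, by ring⟩
    · have : PowerSeries.constantCoeff (v * u⁻¹) ≠ 0 := by
        rw [map_mul, PowerSeries.constantCoeff_inv]; exact mul_ne_zero hv (inv_ne_zero hu)
      simpa using order_X_pow_mul (n := 1) this
    · refine mul_left_cancel₀ hne ?_
      rw [key]
      have := congrArg σ key
      rw [map_mul, map_pow, hNi] at this
      rw [this, ← hB, hwi]
  · rintro ⟨s, a, hs, ha, has⟩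
    have hs0 : s ≠ 0 := fun h => by simp [h] at hs
    obtain ⟨n, v, rfl, hv⟩ := exists_eq_X_pow_mul hs0
    rw [order_X_pow_mul hv] at hs
    obtain rfl : n = 1 := by exact_mod_cast hs
    obtain ⟨w, hw, hw0⟩ := delta_eq σ hσX hm1 1 v
    rw [has, add_sub_cancel_left] at hw
    rw [hw] at ha
    rw [add_comm m 1]
    exact dvd_order_of_fixed σ p hσX hm1 hg0 (by rw [hw0]; simp [hg0, hv]) ha

end Groth.Agent.S19996
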