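import Groth.Statements.S2000
import Groth.Agent.EtaleAlgebra.GlueDescent

set_option autoImplicit false
universe u
open TensorProduct
open EtAlg

namespace Groth.Agent.S2000

/-- Beauville–Laszlo, essential surjectivity with glueability: take a glueing pair (R -> R', f). Fix an
R'-module M', an R-module M₁ on which multiplication by f is bijective (i.e. an R_f-module), and α
an R'-linear isomorphism from the localization of M' at f to R' ⊗_R M₁ (an isomorphism of
R'_f-modules). Then there is an R-module M, glueable for (R -> R', f), with an R'-isomorphism R' ⊗_R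
M ≅ M' and an R-isomorphism M_f ≅ M₁ under which α becomes the canonical identification (R' ⊗_R M)_f
= R' ⊗_R M_f. -/
theorem result (R R' : Type u) [CommRing R] [CommRing R'] [Algebra R R'] (f : R)
    (hRR : EtGlue.IsGlueingPair R R' f) (M' : Type u) [AddCommGroup M'] [Module R' M'] (M₁ : Type u) [AddCommGroup M₁]
    [Module R M₁] (hf : Function.Bijective fun x : M₁ => f • x)
    (α : LocalizedModule (Submonoid.powers (algebraMap R R' f)) M' ≃ₗ[R'] R' ⊗[R] M₁) :
    ∃ (M : Type u) (_ : AddCommGroup M) (_ : Module R M) (_ : EtGlue.IsGlueable R R' f M)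
      (e' : R' ⊗[R] M ≃ₗ[R'] M') (e₁ : LocalizedModule (Submonoid.powers f) M ≃ₗ[R] M₁),
      ∀ m : M, α (LocalizedModule.mkLinearMap (Submonoid.powers (algebraMap R R' f)) M' (e' ((1 : R') ⊗ₜ[R] m))) =
        (1 : R') ⊗ₜ[R] e₁ (LocalizedModule.mkLinearMap (Submonoid.powers f) M m) := by
  let : Module R M' := Module.compHom M' (algebraMap R R')
  have : IsScalarTower R R' M' := IsScalarTower.of_algebraMap_smul fun r x => rfl
  let g : M' →ₗ[R'] R' ⊗[R] M₁ :=
    α.toLinearMap ∘ₗ LocalizedModule.mkLinearMap (Submonoid.powers (algebraMap R R' f)) M'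
  let S : Submodule R (M' × M₁) := LinearMap.eqLocus
    ((g.restrictScalars R) ∘ₗ LinearMap.fst R M' M₁) ((TensorProduct.mk R R' M₁ 1) ∘ₗ LinearMap.snd R M' M₁)
  let p₁ : S →ₗ[R] M' := LinearMap.fst R M' M₁ ∘ₗ S.subtype
  let p₂ : S →ₗ[R] M₁ := LinearMap.snd R M' M₁ ∘ₗ S.subtype
  have hd : Groth.EtaleAlgebra.Glue.IsDatum f g p₁ p₂ := by
    refine ⟨hf, fun z => ?_, fun w hw => ?_, fun m h1 h2 => Subtype.ext (Prod.ext h1 h2),
      fun x y hxy => ⟨⟨(x, y), hxy⟩, rfl, rfl⟩, fun m => m.2⟩
    · obtain ⟨n, w, hw⟩ := Groth.EtaleAlgebra.Glue.exists_pow_smul_eq_loc (α.symm z)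
      refine ⟨n, w, ?_⟩
      show f ^ n • z = α _
      rw [← hw, map_smul, LinearEquiv.apply_symm_apply, ← map_pow, algebraMap_smul]
    · obtain ⟨n, hn⟩ := Groth.EtaleAlgebra.Glue.loc_eq_zero_iff.1 (α.map_eq_zero_iff.1 hw)
      exact ⟨n, by rwa [← map_pow, algebraMap_smul] at hn⟩
  have := hd.isLocalizedModule
  refine ⟨S, inferInstance, inferInstance, hd.isGlueable hRR,
    LinearEquiv.ofBijective (p₁.liftBaseChange R') (hd.bijective_liftBaseChange hRR),
    IsLocalizedModule.iso (Submonoid.powers f) p₂, fun m => ?_⟩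
  rw [LinearEquiv.ofBijective_apply, LinearMap.liftBaseChange_tmul, one_smul,
    LocalizedModule.mkLinearMap_apply (Submonoid.powers f) S m, IsLocalizedModule.iso_mk_one]
  exact hd.comp m

end Groth.Agent.S2000
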