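import Groth.Statements.S20004
import Groth.Agent.Agf.CyclicExtend

set_option autoImplicit false
universe u v w
open WildQuot

namespace Groth.Agent.S20004

/-- Let `A` be a complete regular local ring of Krull dimension at least `2` and prime characteristic
`p`; let `k` be a field with `k → A` mapping onto the residue field, such that `k` has no Galois
extension of degree `p`; let `G` be a group of order `p` acting on `A` by `k`-algebra automorphisms,
ramified precisely at the origin (for every non-maximal prime `P`, the inertia subgroup of `P` is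
trivial). Let `R` be a `k`-algebra with an injective structure map `R → A` whose image is fixed by
`G` (so `R ⊆ A^G`), with `A` finite over `R`. Galois extensions of fraction fields are expressed
through automorphism counts: since `A` and `A^G` are normal domains finite over `R`,
`Frac(A^G)/Frac(R)` is Galois exactly when `p` times the number of `k`-algebra automorphisms of
`A^G` fixing the image of `R` equals the rank `[Frac A : Frac R]` of `A` over `R`, and
`Frac(A)/Frac(R)` is Galois exactly when the number of `R`-algebra automorphisms of `A` equals that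
rank. The row: the first equality implies the second. (The published statement assumes `R ⊆ A^G`
finite with `Frac(A^G)/Frac(R)` Galois and concludes that `Frac(A)/Frac(R)` is Galois; here `R` is
taken to contain `k`, as the norm subrings of the source do.) -/
theorem result
    (p : ℕ) [Fact p.Prime] (A : Type u) [CommRing A] [IsRegularLocalRing A] [CharP A p]
    [IsAdicComplete (IsLocalRing.maximalIdeal A) A] (hdim : 2 ≤ ringKrullDim A)
    (k : Type v) [Field k] [Algebra k A]
    (hk : Function.Surjective (IsLocalRing.residue A ∘ algebraMap k A))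
    (hkp : ∀ (L : Type v) [Field L] [Algebra k L], IsGalois k L → Module.finrank k L ≠ p)
    (G : Type w) [Group G] [Finite G] [MulSemiringAction G A] (hcard : Nat.card G = p)
    [SMulCommClass G k A]
    (hram : ∀ P : Ideal A, P.IsPrime → P ≠ IsLocalRing.maximalIdeal A → P.inertia G = ⊥)
    (R : Type v) [CommRing R] [Algebra k R] [Algebra R A] [IsScalarTower k R A] [Module.Finite R A]
    (hRinj : Function.Injective (algebraMap R A))
    (hRG : ∀ (σ : G) (r : R), σ • algebraMap R A r = algebraMap R A r)
    (hgal : p * Nat.card {φ : FixedPoints.subalgebra k A G ≃ₐ[k] FixedPoints.subalgebra k A G //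
        ∀ b : FixedPoints.subalgebra k A G, (b : A) ∈ Set.range (algebraMap R A) → (φ b : A) = b} =
      Module.finrank R A) :
    Nat.card (A ≃ₐ[R] A) = Module.finrank R A := by
  classical
  haveI := Groth.Ega4Algebra1.isDomain_of_isRegularLocalRing A
  haveI : IsDomain R := hRinj.isDomain _
  haveI : FaithfulSMul R A := (faithfulSMul_iff_algebraMap_injective R A).2 hRinj
  let K := FractionRing A
  letI := FractionRing.liftAlgebra R K
  have hfin : Module.finrank (FractionRing R) K = Module.finrank R A :=
    IsFractionRing.finrank_eq R (FractionRing R) A K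
  have hpos : 0 < Module.finrank R A := Module.finrank_pos
  haveI : FiniteDimensional (FractionRing R) K := Module.finite_of_finrank_pos (hfin ▸ hpos)
  -- automorphisms of `A` inject into those of the fraction field
  let Φ := IsFractionRing.fieldEquivOfAlgEquivHom (A := R) (B := A) (FractionRing R) K
  have hΦ : Function.Injective Φ := IsFractionRing.fieldEquivOfAlgEquivHom_injective R A (FractionRing R) K
  haveI : Finite (A ≃ₐ[R] A) := Finite.of_injective Φ hΦ
  have hup : Nat.card (A ≃ₐ[R] A) ≤ Module.finrank R A := by
    refine (Nat.card_le_card_of_injective Φ hΦ).trans ?_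
    rw [← hfin, Nat.card_eq_fintype_card]
    exact AlgEquiv.card_le
  -- extensions
  let B := FixedPoints.subalgebra k A G
  let S := {φ : B ≃ₐ[k] B // ∀ b : B, (b : A) ∈ Set.range (algebraMap R A) → (φ b : A) = b}
  have hext : ∀ φ : S, ∃ ψ : A ≃ₐ[R] A, ∀ b : B, ψ b = φ.1 b := by
    intro φ
    obtain ⟨ψ, hψ⟩ := Groth.Agf.CyclicExtend.exists_algEquiv p A hdim k hk hkp G hcard hram φ.1
    refine ⟨AlgEquiv.ofRingEquiv (f := ψ.toRingEquiv) fun r => ?_, hψ⟩
    exact (hψ ⟨algebraMap R A r, fun σ => hRG σ r⟩).trans (φ.2 _ ⟨r, rfl⟩)
  choose ext hextb using hext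
  let act : G → A ≃ₐ[R] A := fun σ =>
    AlgEquiv.ofRingEquiv (f := MulSemiringAction.toRingEquiv G A σ) fun r => hRG σ r
  have hfaith : ∀ σ σ' : G, (∀ a : A, σ • a = σ' • a) → σ = σ' := fun σ σ' h => by
    have hm0 : (⊥ : Ideal A) ≠ IsLocalRing.maximalIdeal A := fun h => by
      rw [ringKrullDim_eq_zero_of_isField (IsLocalRing.isField_iff_maximalIdeal_eq.2 h.symm)] at hdim
      exact absurd hdim (by decide)
    have h1 : σ'⁻¹ * σ ∈ (⊥ : Ideal A).inertia G := fun a => by
      show (σ'⁻¹ * σ) • a - a ∈ (⊥ : Ideal A)
      rw [mul_smul, h, inv_smul_smul, sub_self]; exact Submodule.zero_mem (⊥ : Ideal A)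
    rw [hram ⊥ Ideal.isPrime_bot hm0, Subgroup.mem_bot] at h1
    exact (inv_mul_eq_one.1 h1).symm
  have hlow : Nat.card (S × G) ≤ Nat.card (A ≃ₐ[R] A) := by
    refine Nat.card_le_card_of_injective (fun x => (act x.2).trans (ext x.1)) fun x y h => ?_
    have hb : x.1 = y.1 := by
      refine Subtype.ext (AlgEquiv.ext fun b => Subtype.ext ?_)
      have h' := DFunLike.congr_fun h (b : A)
      simp only [AlgEquiv.trans_apply] at h'
      rw [show act x.2 (b : A) = b from b.2 x.2, show act y.2 (b : A) = b from b.2 y.2] at h'
      rw [← hextb, ← hextb]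
      exact h'
    refine Prod.ext hb (hfaith _ _ fun a => ?_)
    have h' := DFunLike.congr_fun h a
    simp only [AlgEquiv.trans_apply, hb] at h'
    exact (ext y.1).injective h'
  rw [Nat.card_prod, hcard, mul_comm] at hlow
  exact le_antisymm hup (hgal.ge.trans hlow)

end Groth.Agent.S20004
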