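import Groth.Statements.S20007
import Groth.Agent.S6005
import Groth.Agent.AlgGrp2.GLnPts

set_option autoImplicit false
set_option backward.isDefEq.respectTransparency false
set_option backward.defeqAttrib.useBackward true
universe u
open CategoryTheory MonoidalCategory CartesianMonoidalCategory MonObj AlgebraicGeometry
open GIT

namespace Groth.Agent.S20007

open Pi1Tors
open scoped TensorProduct

attribute [local instance] Groth.Reductive.algΓ'

noncomputable section

section Pts

variable {S : Scheme.{u}} {n : ℕ} {T T' : Over S}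

/-- The group of points, found without searching for a commutative structure. -/
local instance (priority := 10000) glGroup : Group (T ⟶ FrB.GLn n S) := Hom.group

@[inherit_doc glGroup]
local instance (priority := 10000) glOne : One (T ⟶ FrB.GLn n S) := (Hom.monoid).toMulOneClass.toOne

@[inherit_doc glGroup]
local instance (priority := 10000) glMul : Mul (T ⟶ FrB.GLn n S) := (Hom.monoid).toMulOneClass.toMul

@[inherit_doc glGroup]
local instance (priority := 10000) glInv : Inv (T ⟶ FrB.GLn n S) := (Hom.group).toInv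

/-- The matrix of a point of `GL_n`. -/
def mat (x : T ⟶ FrB.GLn n S) : Matrix (Fin n) (Fin n) Γ(T.left, ⊤) :=
  AlgGrp2.glMat (R := ULift.{u} ℤ) (Reductive.ptVal (CoordGrp.GLn n (ULift.{u} ℤ)) x)

theorem mat_comp (h : T' ⟶ T) (x : T ⟶ FrB.GLn n S) : mat (h ≫ x) = (mat x).map h.left.appTop := by
  ext i j
  simp only [mat, AlgGrp2.glMat, Matrix.of_apply, Matrix.map_apply, Reductive.ptVal, Reductive.ptFst, Over.comp_left,
    Category.assoc, Scheme.Hom.comp_appTop]
  rfl

theorem mat_injective : Function.Injective (mat (S := S) (n := n) (T := T)) := fun _ _ h =>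
  Reductive.ptVal_injective (AlgGrp2.glMat_injective h)

theorem mat_mul (x y : T ⟶ FrB.GLn n S) : mat (x * y) = mat x * mat y := by
  ext i j
  rw [mat, Reductive.ptVal_mul, AlgHom.convMul_def, Matrix.mul_apply]
  simp [mat, AlgGrp2.glMat, CoordGrp.GLn.comul_X, map_sum]

theorem mat_one : mat (1 : T ⟶ FrB.GLn n S) = 1 := by
  have h := mat_mul (1 : T ⟶ FrB.GLn n S) 1
  rw [show (1 : T ⟶ FrB.GLn n S) * 1 = 1 from _root_.mul_one (M := T ⟶ FrB.GLn n S) 1] at h
  have hd := AlgGrp2.det_glMat_mul (R := ULift.{u} ℤ)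
    (Reductive.ptVal (CoordGrp.GLn n (ULift.{u} ℤ)) (1 : T ⟶ FrB.GLn n S))
  have hu : IsUnit (mat (1 : T ⟶ FrB.GLn n S)) :=
    (Matrix.isUnit_iff_isUnit_det _).2 (IsUnit.of_mul_eq_one _ hd)
  exact hu.mul_eq_left.1 h.symm

theorem isUnit_mat (x : T ⟶ FrB.GLn n S) : IsUnit (mat x) :=
  (Matrix.isUnit_iff_isUnit_det _).2 (IsUnit.of_mul_eq_one _ (AlgGrp2.det_glMat_mul (R := ULift.{u} ℤ) _))

theorem exists_mat_eq (T : Over S) (M : Matrix (Fin n) (Fin n) Γ(T.left, ⊤)) (hM : IsUnit M) :
    ∃ x : T ⟶ FrB.GLn n S, mat x = M := by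
  obtain ⟨d, hd⟩ := (Matrix.isUnit_iff_isUnit_det M).1 hM
  refine ⟨Reductive.ptMk T (WithConv.toConv (CoordGrp.GLn.pt n (ULift.{u} ℤ) M (↑d⁻¹ : Γ(T.left, ⊤))
    (by rw [← hd, Units.mul_inv]))), ?_⟩
  ext i j
  simp [mat, AlgGrp2.glMat, Reductive.ptVal_ptMk]

end Pts

section H90

variable {A B : Type u} [CommRing A] [CommRing B] [Algebra A B] {n : ℕ}

/-- The difference of the two sides of the descent equation. -/
def solMap (U : Matrix (Fin n) (Fin n) (B ⊗[A] B)) : (Fin n → B) →ₗ[A] (Fin n → B ⊗[A] B) :=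
  (U.mulVecLin.restrictScalars A) ∘ₗ
      ((Algebra.TensorProduct.includeLeft : B →ₐ[A] B ⊗[A] B).toLinearMap.compLeft (Fin n)) -
    (Algebra.TensorProduct.includeRight : B →ₐ[A] B ⊗[A] B).toLinearMap.compLeft (Fin n)

theorem eq_zero_of_proj {X : Type u} [AddCommGroup X] [Module A X] (z : B ⊗[A] (Fin n → X))
    (h : ∀ l, (LinearMap.proj l : (Fin n → X) →ₗ[A] X).lTensor B z = 0) : z = 0 := by
  apply (TensorProduct.piRight A A B fun _ : Fin n => X).injective
  rw [map_zero]
  funext l
  refine Eq.trans ?_ (h l)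
  clear h
  induction z using TensorProduct.induction_on with
  | zero => simp
  | tmul x f => simp
  | add p q hp hq => simp only [map_add, Pi.add_apply, hp, hq]

variable [Module.FaithfullyFlat A B]

/-- The solutions of the descent equation span `B^n`. -/
theorem span_solutions (U : Matrix (Fin n) (Fin n) (B ⊗[A] B)) (hu : IsUnit U)
    (hc : U.map p13 = U.map p23 * U.map p12) :
    Submodule.span B (↑(LinearMap.ker (solMap U)) : Set (Fin n → B)) = ⊤ := by
  classical
  let mu : B ⊗[A] B →ₐ[A] B := Algebra.TensorProduct.lmul' A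
  have hmu : U.map mu = 1 := by
    let ν : B ⊗[A] (B ⊗[A] B) →ₐ[A] B := mu.comp (Algebra.TensorProduct.map (AlgHom.id A B) mu)
    have e : ∀ ψ : B ⊗[A] B →ₐ[A] B ⊗[A] (B ⊗[A] B), (∀ x y, ν (ψ (x ⊗ₜ y)) = x * y) →
        ν.mapMatrix (ψ.mapMatrix U) = U.map mu := by
      intro ψ h
      ext i j
      show ν (ψ (U i j)) = mu (U i j)
      generalize U i j = v
      induction v using TensorProduct.induction_on with
      | zero => simp
      | tmul x y => rw [h]; simp [mu]
      | add v w hv hw => simp only [map_add]; rw [hv, hw]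
    have h := congrArg ν.mapMatrix hc
    rw [map_mul] at h
    change ν.mapMatrix (p13.mapMatrix U) = ν.mapMatrix (p23.mapMatrix U) * ν.mapMatrix (p12.mapMatrix U) at h
    rw [e p13 (fun x y => by simp [ν, mu, p13_tmul]), e p23 (fun x y => by simp [ν, mu, p23]),
      e p12 (fun x y => by simp [ν, mu, p12_tmul])] at h
    exact (hu.map mu.mapMatrix).mul_eq_left.1 h.symm
  rw [eq_top_iff, ← (Pi.basisFun B (Fin n)).span_eq, Submodule.span_le]
  rintro _ ⟨c, rfl⟩
  let sgl : Fin n → B →ₗ[A] (Fin n → B) := fun i => LinearMap.single A (fun _ : Fin n => B) i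
  let z : B ⊗[A] (Fin n → B) := ∑ i, (sgl i).lTensor B (U i c)
  have hz : (solMap U).lTensor B z = 0 := by
    refine eq_zero_of_proj _ fun l => ?_
    have e : ∀ i (w : B ⊗[A] B),
        (LinearMap.proj l : (Fin n → B ⊗[A] B) →ₗ[A] _).lTensor B ((solMap U).lTensor B ((sgl i).lTensor B w)) =
          p23 (U l i) * p12 w - (if i = l then p13 w else 0) := by
      intro i w
      induction w using TensorProduct.induction_on with
      | zero => simp
      | tmul x y =>
        simp only [LinearMap.lTensor_tmul, p12_tmul, p13_tmul]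
        have : (LinearMap.proj l : (Fin n → B ⊗[A] B) →ₗ[A] _) (solMap U (sgl i y)) =
            U l i * (y ⊗ₜ 1) - (if i = l then 1 ⊗ₜ y else 0) := by
          simp only [solMap, sgl, LinearMap.sub_apply, LinearMap.coe_comp, Function.comp_apply,
            LinearMap.coe_restrictScalars, Matrix.mulVecLin_apply, LinearMap.compLeft_apply, LinearMap.coe_proj,
            Function.eval, Pi.sub_apply, AlgHom.toLinearMap_apply, LinearMap.coe_single, Matrix.mulVec, dotProduct]
          rw [Finset.sum_eq_single i (fun b _ hb => by simp [hb]) (by simp)]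
          by_cases hil : i = l
          · subst hil; simp
          · simp [hil, Ne.symm hil]
        rw [this, TensorProduct.tmul_sub]
        congr 1
        · simp [p23]
        · split_ifs <;> simp
      | add p q hp hq =>
        rw [map_add, map_add, map_add, hp, hq, map_add, map_add, mul_add]
        split_ifs <;> abel
    simp only [z, map_sum, e, Finset.sum_sub_distrib, Finset.sum_ite_eq', Finset.mem_univ, if_true]
    rw [sub_eq_zero]
    refine Eq.trans ?_ (congrFun (congrFun hc l) c).symm
    simp [Matrix.mul_apply]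
  obtain ⟨w, hw⟩ := (Module.Flat.lTensor_exact B (LinearMap.exact_subtype_ker_map (solMap U)) z).1 hz
  let ev : B ⊗[A] (Fin n → B) →ₗ[A] (Fin n → B) :=
    TensorProduct.lift ((Algebra.lsmul A A (Fin n → B) : B →ₐ[A] _).toLinearMap)
  have key : ∀ w : B ⊗[A] LinearMap.ker (solMap U),
      ev ((solMap U).ker.subtype.lTensor B w) ∈
        Submodule.span B (↑(LinearMap.ker (solMap U)) : Set (Fin n → B)) := by
    intro w
    induction w using TensorProduct.induction_on with
    | zero => simp
    | tmul x y =>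
      simp only [LinearMap.lTensor_tmul, ev, TensorProduct.lift.tmul]
      exact Submodule.smul_mem _ x (Submodule.subset_span y.2)
    | add p q hp hq => simp only [map_add]; exact Submodule.add_mem _ hp hq
  have hev : ∀ i (w : B ⊗[A] B), ev ((sgl i).lTensor B w) = Pi.single i (mu w) := by
    intro i w
    induction w using TensorProduct.induction_on with
    | zero => simp
    | tmul x y => simp [ev, sgl, mu, ← Pi.single_smul']
    | add p q hp hq => simp only [map_add, hp, hq, Pi.single_add]
  have h1 := key w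
  rw [hw] at h1
  have h2 : ev z = (Pi.basisFun B (Fin n)) c := by
    funext l
    simp only [z, map_sum, hev, Finset.sum_apply, Pi.single_apply, Finset.sum_ite_eq, Finset.mem_univ, if_true]
    rw [show mu (U l c) = U.map mu l c from rfl, hmu]
    simp [Matrix.one_apply, Pi.single_apply, eq_comm]
  exact h2 ▸ h1

/-- Matrix solutions have determinants generating the unit ideal. -/
theorem det_solutions (U : Matrix (Fin n) (Fin n) (B ⊗[A] B)) (hu : IsUnit U)
    (hc : U.map p13 = U.map p23 * U.map p12) :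
    Ideal.span {d : B | ∃ M : Matrix (Fin n) (Fin n) B,
      U * M.map (Algebra.TensorProduct.includeLeft : B →ₐ[A] B ⊗[A] B) =
        M.map (Algebra.TensorProduct.includeRight : B →ₐ[A] B ⊗[A] B) ∧ M.det = d} = ⊤ := by
  classical
  set J := Ideal.span {d : B | ∃ M : Matrix (Fin n) (Fin n) B,
      U * M.map (Algebra.TensorProduct.includeLeft : B →ₐ[A] B ⊗[A] B) =
        M.map (Algebra.TensorProduct.includeRight : B →ₐ[A] B ⊗[A] B) ∧ M.det = d}
  let K : Set (Fin n → B) := ↑(LinearMap.ker (solMap U))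
  let D := (Matrix.detRowAlternating : (Fin n → B) [⋀^Fin n]→ₗ[B] B)
  have key : ∀ (s : Finset (Fin n)) (w : Fin n → Fin n → B), (∀ j ∉ s, w j ∈ K) → D w ∈ J := by
    intro s
    induction s using Finset.induction with
    | empty =>
      intro w hw
      refine Ideal.subset_span ⟨(Matrix.of w).transpose, ?_, Matrix.det_transpose _⟩
      ext i j
      have := congrFun (LinearMap.mem_ker.1 (hw j (Finset.notMem_empty j))) i
      rw [solMap, LinearMap.sub_apply, Pi.sub_apply, Pi.zero_apply, sub_eq_zero] at this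
      exact this
    | insert a s ha ih =>
      intro w hw
      have hwa : w a ∈ Submodule.span B K := by rw [span_solutions U hu hc]; trivial
      suffices ∀ v ∈ Submodule.span B K, D (Function.update w a v) ∈ J by
        simpa using this (w a) hwa
      intro v hv
      induction hv using Submodule.span_induction with
      | mem v hv =>
        refine ih _ fun j hj => ?_
        by_cases hja : j = a
        · subst hja; simpa using hv
        · rw [Function.update_of_ne hja]; exact hw j (by simp [hja, hj])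
      | zero => simp [D.map_update_zero]
      | add p q _ _ hp hq => rw [D.map_update_add]; exact J.add_mem hp hq
      | smul r p _ hp => rw [D.map_update_smul]; exact J.mul_mem_left r hp
  have h1 := key Finset.univ (1 : Matrix (Fin n) (Fin n) B) (fun j hj => absurd (Finset.mem_univ j) hj)
  rw [show D (1 : Matrix (Fin n) (Fin n) B) = 1 from Matrix.det_one] at h1
  exact (Ideal.eq_top_iff_one _).2 h1

theorem exists_unit_solution (U : Matrix (Fin n) (Fin n) (B ⊗[A] B)) (hu : IsUnit U)
    (hc : U.map p13 = U.map p23 * U.map p12) (x : PrimeSpectrum A) :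
    ∃ f : A, f ∉ x.asIdeal ∧ ∃ (M : Matrix (Fin n) (Fin n) B) (m : B),
      U * M.map (Algebra.TensorProduct.includeLeft : B →ₐ[A] B ⊗[A] B) =
        M.map (Algebra.TensorProduct.includeRight : B →ₐ[A] B ⊗[A] B) ∧ m * M.det = algebraMap A B f := by
  obtain ⟨v, hv⟩ := ((Matrix.isUnit_iff_isUnit_det U).1 hu).exists_right_inv
  have hdet : ∀ ψ : B ⊗[A] B →ₐ[A] B ⊗[A] (B ⊗[A] B), (U.map ψ).det = ψ U.det := fun ψ =>
    (AlgHom.map_det ψ U).symm
  have hcd : p13 U.det = p23 U.det * p12 U.det := by
    rw [← hdet, ← hdet, ← hdet, hc, Matrix.det_mul]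
  have hvc : p13 v = p23 v * p12 v := by
    have h1 : ∀ ψ : B ⊗[A] B →ₐ[A] B ⊗[A] (B ⊗[A] B), ψ U.det * ψ v = 1 := fun ψ => by rw [← map_mul, hv, map_one]
    linear_combination (p23 v * p12 v) * h1 p13 - p13 v * (p23 v * p12 v) * hcd -
      p13 v * p23 v * p23 U.det * h1 p12 - p13 v * h1 p23
  have hN := S6005.exists_solutions v (IsUnit.of_mul_eq_one _ (by rw [mul_comm, hv])) hvc
  have hM := det_solutions U hu hc
  by_contra hcon
  push Not at hcon
  let I : Ideal A := Ideal.span {f | ∃ (M : Matrix (Fin n) (Fin n) B) (m : B),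
      U * M.map (Algebra.TensorProduct.includeLeft : B →ₐ[A] B ⊗[A] B) =
        M.map (Algebra.TensorProduct.includeRight : B →ₐ[A] B ⊗[A] B) ∧ m * M.det = algebraMap A B f}
  have hI : I ≤ x.asIdeal := Ideal.span_le.2 fun f ⟨M, m, h1, h2⟩ => by_contra fun hf => hcon f hf M m h1 h2
  refine x.isPrime.ne_top (top_le_iff.1 (le_trans ?_ hI))
  rw [← Ideal.comap_map_eq_self_of_faithfullyFlat (B := B) I, top_le_iff, Ideal.comap_eq_top_iff,
    ← top_le_iff, ← Ideal.top_mul (⊤ : Ideal B)]
  conv_lhs => arg 1; rw [← hN]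
  conv_lhs => arg 2; rw [← hM]
  rw [Ideal.span_mul_span', Ideal.span_le]
  rintro _ ⟨m, hm : v * _ = _, d, ⟨M, hMe, rfl⟩, rfl⟩
  have hd : U.det * (M.det ⊗ₜ[A] (1 : B)) = (1 : B) ⊗ₜ M.det := by
    have h := congrArg Matrix.det hMe
    rw [Matrix.det_mul] at h
    change U.det * ((Algebra.TensorProduct.includeLeft : B →ₐ[A] B ⊗[A] B).mapMatrix M).det =
      ((Algebra.TensorProduct.includeRight : B →ₐ[A] B ⊗[A] B).mapMatrix M).det at h
    rw [← AlgHom.map_det, ← AlgHom.map_det] at h
    exact h
  have h0 : Algebra.TensorProduct.includeLeftSubRight A B (m * M.det) = 0 := by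
    rw [Algebra.TensorProduct.includeLeftSubRight_apply, sub_eq_zero]
    have e1 : (m * M.det) ⊗ₜ[A] (1 : B) = (m ⊗ₜ 1) * (M.det ⊗ₜ 1) := by simp
    have e2 : (1 : B) ⊗ₜ[A] (m * M.det) = (1 ⊗ₜ m) * (1 ⊗ₜ M.det) := by simp
    rw [e1, e2, ← hm, ← hd]
    linear_combination -((m ⊗ₜ[A] (1 : B)) * (M.det ⊗ₜ 1)) * hv
  obtain ⟨f, hf⟩ := (Algebra.IsEffective.of_faithfullyFlat A B (m * M.det)).1 h0
  change m * M.det ∈ Ideal.map (algebraMap A B) I
  rw [show m * M.det = algebraMap A B f from hf.symm]
  exact Ideal.mem_map_of_mem _ (Ideal.subset_span ⟨M, m, hMe, hf.symm⟩)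

end H90

theorem inv_mul_mul_eq {S : Scheme.{u}} {G T : Over S} [GrpObj G] (a b : T ⟶ G) : (a * b)⁻¹ * a = b⁻¹ := by
  group

section Torsor

variable {S : Scheme.{u}} {G X Y : Over S} [GrpObj G] (a : AlgGrp.Action G X) (φ : X ⟶ Y)
  (hcart : IsPullback a.act (snd G X) φ φ)
include hcart

theorem dot_comp {T : Over S} (g : T ⟶ G) (x : T ⟶ X) : dot a g x ≫ φ = x ≫ φ := by
  rw [dot, Category.assoc, hcart.w, lift_snd_assoc]

theorem exists_dot {T : Over S} (x y : T ⟶ X) (h : x ≫ φ = y ≫ φ) : ∃ g : T ⟶ G, dot a g y = x := by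
  refine ⟨hcart.lift x y h ≫ fst G X, ?_⟩
  have e : lift (hcart.lift x y h ≫ fst G X) y = hcart.lift x y h := by
    conv_lhs => arg 2; rw [← hcart.lift_snd x y h]
    rw [← comp_lift, lift_fst_snd, Category.comp_id]
  rw [dot, e, hcart.lift_fst]

theorem dot_cancel' {T : Over S} {g g' : T ⟶ G} {x : T ⟶ X} (h : dot a g x = dot a g' x) : g = g' := by
  have : lift g x = lift g' x := hcart.hom_ext h (by simp)
  simpa using congrArg (· ≫ fst G X) this

end Torsor

attribute [local instance 10000] glGroup glOne glMul glInv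

theorem main {k : Type u} [Field k] {n : ℕ} {X Y : Over (Spec (CommRingCat.of k))}
    (a : AlgGrp.Action (FrB.GLn n (Spec (CommRingCat.of k))) X) (φ : X ⟶ Y)
    (hcart : IsPullback a.act (snd (FrB.GLn n (Spec (CommRingCat.of k))) X) φ φ)
    (hloc : NonAbH1.IsLocallyTrivialFor Scheme.fpqcPrecoverage (Over.mk φ.left : Over Y.left)) :
    NonAbH1.IsLocallyTrivialFor Scheme.zariskiPrecoverage (Over.mk φ.left : Over Y.left) := by
  refine isLocallyTrivial_zariski hloc fun A B _ _ _ _ j₀ s₀ x => ?_
  let j : Spec (CommRingCat.of A) ⟶ Spec (CommRingCat.of k) := j₀ ≫ Y.hom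
  let π := Spec.map (CommRingCat.ofHom (algebraMap A B))
  have hs₀ : s₀.left ≫ φ.left = π ≫ j₀ := Over.w s₀
  let s : specObj j B ⟶ X := Over.homMk s₀.left (by
    show s₀.left ≫ X.hom = π ≫ j₀ ≫ Y.hom
    rw [← Over.w φ, ← Category.assoc, hs₀, Category.assoc])
  have hsφ : ∀ {R : Type u} [CommRing R] [Algebra A R] (r : B →ₐ[A] R),
      ((specPt j r ≫ s) ≫ φ).left = Spec.map (CommRingCat.ofHom (algebraMap A R)) ≫ j₀ := by
    intro R _ _ r
    show (Spec.map (CommRingCat.ofHom r.toRingHom) ≫ s₀.left) ≫ φ.left = _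
    rw [Category.assoc, hs₀, ← Category.assoc, ← Spec.map_comp, ← CommRingCat.ofHom_comp]
    exact congrArg (fun l => Spec.map (CommRingCat.ofHom l) ≫ j₀) r.comp_algebraMap
  -- the cocycle
  obtain ⟨g, hg⟩ := exists_dot a φ hcart
    (specPt j (Algebra.TensorProduct.includeRight : B →ₐ[A] B ⊗[A] B) ≫ s)
    (specPt j Algebra.TensorProduct.includeLeft ≫ s)
    (Over.OverMorphism.ext ((hsφ _).trans (hsφ _).symm))
  have hcoc : specPt j p13 ≫ g = (specPt j p23 ≫ g) * (specPt j p12 ≫ g) := by
    have hp : ∀ (ψ : B ⊗[A] B →ₐ[A] B ⊗[A] (B ⊗[A] B)) (r r' : B →ₐ[A] B ⊗[A] (B ⊗[A] B)),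
        ψ.comp Algebra.TensorProduct.includeLeft = r → ψ.comp Algebra.TensorProduct.includeRight = r' →
        dot a (specPt j ψ ≫ g) (specPt j r ≫ s) = specPt j r' ≫ s := by
      rintro ψ r r' rfl rfl
      rw [← specPt_comp, ← specPt_comp, Category.assoc, Category.assoc, ← comp_dot, hg]
    have e12 := hp p12 Algebra.TensorProduct.includeLeft
      (Algebra.TensorProduct.includeRight.comp Algebra.TensorProduct.includeLeft)
      (AlgHom.ext fun b => by simp [p12]) (AlgHom.ext fun b => by simp [p12])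
    have e23 := hp p23 (Algebra.TensorProduct.includeRight.comp Algebra.TensorProduct.includeLeft)
      (Algebra.TensorProduct.includeRight.comp Algebra.TensorProduct.includeRight) rfl rfl
    have e13 := hp p13 Algebra.TensorProduct.includeLeft
      (Algebra.TensorProduct.includeRight.comp Algebra.TensorProduct.includeRight)
      (AlgHom.ext fun b => by simp [p13]) (AlgHom.ext fun b => by simp [p13])
    exact dot_cancel' a φ hcart (e13.trans (by rw [mul_dot, e12, e23]))
  let e : (B ⊗[A] B) ≃+* Γ((specObj j (B ⊗[A] B)).left, ⊤) :=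
    RingEquiv.ofBijective (val j (𝟙 (specObj j (B ⊗[A] B)))) (val_id_bijective j)
  let U : Matrix (Fin n) (Fin n) (B ⊗[A] B) := (mat g).map e.symm
  have hgU : ∀ (T : Over (Spec (CommRingCat.of k))) (w : T ⟶ specObj j (B ⊗[A] B)),
      mat (w ≫ g) = U.map (val j w) := by
    intro T w
    ext i l
    simp only [mat_comp, Matrix.map_apply]
    show w.left.appTop (mat g i l) = val j w (e.symm (mat g i l))
    conv_lhs => rw [← e.apply_symm_apply (mat g i l)]
    exact (val_comp j w (𝟙 _) _).symm.trans (by rw [Category.comp_id])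
  have hUu : IsUnit U := (isUnit_mat g).map e.symm.toRingHom.mapMatrix
  have hc : U.map p13 = U.map p23 * U.map p12 := by
    refine Matrix.map_injective (val_id_bijective j).1 ?_
    have hq : ∀ ψ : B ⊗[A] B →ₐ[A] B ⊗[A] (B ⊗[A] B),
        mat (specPt j ψ ≫ g) = (U.map ψ).map (val j (𝟙 _)) := fun ψ => by
      ext i l
      rw [hgU, Matrix.map_apply, Matrix.map_apply, Matrix.map_apply, ← val_specPt, Category.id_comp]
    show (U.map p13).map (val j (𝟙 _)) = (U.map p23 * U.map p12).map (val j (𝟙 _))
    rw [Matrix.map_mul, ← hq, ← hq, ← hq, ← mat_mul, hcoc]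
  obtain ⟨f, hfx, M, m, hM, hm⟩ := exists_unit_solution U hUu hc x
  let V : (Spec (CommRingCat.of A)).Opens := PrimeSpectrum.basicOpen f
  refine ⟨V, hfx, ?_⟩
  let MV := M.map (val j (preIncl j B V))
  have hMV : IsUnit MV := by
    refine (Matrix.isUnit_iff_isUnit_det _).2 ?_
    have := isUnit_val_preIncl j (B := B) (f := f) (V := V) le_rfl
    rw [← hm, map_mul] at this
    have h2 := isUnit_of_mul_isUnit_right this
    rwa [RingHom.map_det] at h2
  obtain ⟨k₀, hk₀⟩ := exists_mat_eq (preObj j B V) MV hMV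
  have hk : ∀ (T : Over (Spec (CommRingCat.of k))) (p q : T ⟶ preObj j B V) (w : T ⟶ specObj j (B ⊗[A] B)),
      w ≫ specPt j Algebra.TensorProduct.includeLeft = p ≫ preIncl j B V →
      w ≫ specPt j Algebra.TensorProduct.includeRight = q ≫ preIncl j B V →
      (q ≫ k₀⁻¹) * (w ≫ g) = p ≫ k₀⁻¹ := by
    intro T p q w hp hq
    have key : (w ≫ g) * (p ≫ k₀) = q ≫ k₀ := by
      refine mat_injective ?_
      rw [mat_mul, hgU, mat_comp, mat_comp, hk₀]
      have h := congrArg (fun N : Matrix (Fin n) (Fin n) (B ⊗[A] B) => N.map (val j w)) hM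
      simp only [Matrix.map_mul, Matrix.map_map] at h
      have e1 : (val j w) ∘ (Algebra.TensorProduct.includeLeft : B →ₐ[A] B ⊗[A] B) =
          p.left.appTop ∘ val j (preIncl j B V) := funext fun b => by
        rw [Function.comp_apply, Function.comp_apply, ← val_comp, ← hp, val_specPt]
      have e2 : (val j w) ∘ (Algebra.TensorProduct.includeRight : B →ₐ[A] B ⊗[A] B) =
          q.left.appTop ∘ val j (preIncl j B V) := funext fun b => by
        rw [Function.comp_apply, Function.comp_apply, ← val_comp, ← hq, val_specPt]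
      rw [e1, e2] at h
      simpa only [MV, Matrix.map_map] using h
    rw [GrpObj.comp_inv, GrpObj.comp_inv, ← key]
    exact inv_mul_mul_eq (w ≫ g) (p ≫ k₀)
  -- descend the corrected section
  let Q : Over (Spec (CommRingCat.of k)) := Over.mk (V.ι ≫ j)
  let q : preObj j B V ⟶ Q := Over.homMk (π ∣_ V) (by
    change (π ∣_ V) ≫ V.ι ≫ j = _
    rw [← Category.assoc, morphismRestrict_ι, Category.assoc]
    rfl)
  haveI : Flat π := Flat.SpecMap_iff.2 (RingHom.flat_algebraMap_iff.2 inferInstance)
  haveI : Surjective π := ⟨PrimeSpectrum.comap_surjective_of_faithfullyFlat (A := A) (B := B)⟩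
  haveI : Flat (π ∣_ V) := MorphismProperty.of_isPullback (P := @Flat) (isPullback_morphismRestrict π V).flip inferInstance
  haveI : Surjective (π ∣_ V) :=
    MorphismProperty.of_isPullback (P := @Surjective) (isPullback_morphismRestrict π V).flip inferInstance
  haveI : QuasiCompact (π ∣_ V) :=
    MorphismProperty.of_isPullback (P := @QuasiCompact) (isPullback_morphismRestrict π V).flip inferInstance
  have hq : LocSurj q := LocSurj.of_isLocallyTrivialFor q
    ⟨Presieve.singleton (π ∣_ V), Scheme.Hom.singleton_mem_fpqcPrecoverage (π ∣_ V), by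
      rintro S' h ⟨⟩; exact ⟨𝟙 _, Category.id_comp _⟩⟩
  obtain ⟨t, ht⟩ := hq.desc (dot a k₀⁻¹ (preIncl j B V ≫ s)) fun T p p' hxy => by
    have hb : (p ≫ preIncl j B V).left ≫ π = (p' ≫ preIncl j B V).left ≫ π := by
      have := congrArg (fun z => z.left ≫ V.ι) hxy
      simpa [q] using this
    obtain ⟨w, hw1, hw2⟩ := exists_pair j (p ≫ preIncl j B V) (p' ≫ preIncl j B V) hb
    rw [comp_dot, comp_dot, ← Category.assoc p', ← hw2, Category.assoc w, ← hg, comp_dot, ← mul_dot,
      hk T p p' w hw1 hw2, ← Category.assoc w, hw1, Category.assoc]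
  have hV : t ≫ φ = (Over.homMk (V.ι ≫ j₀) (Category.assoc _ _ _) : Q ⟶ Y) := by
    refine hq.cancel (Over.OverMorphism.ext ?_)
    rw [← Category.assoc, ht, dot_comp a φ hcart]
    show ((π ⁻¹ᵁ V).ι ≫ s₀.left) ≫ φ.left = (π ∣_ V) ≫ V.ι ≫ j₀
    rw [Category.assoc, hs₀, morphismRestrict_ι_assoc]
  exact ⟨t.left, congrArg CommaMorphism.left hV⟩

end


/-- The general linear group is special. Over an algebraically closed field k of characteristic zero,
let n be a natural number and let the group scheme GL_{n,k} (the general linear group over Spec k)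
act on a k-scheme X; let φ : X → Y be a GL_{n,k}-torsor over the k-scheme Y: the square formed by
the action, the second projection GL_{n,k} ×_k X → X and φ twice is cartesian, and φ acquires
sections on the members of some fpqc covering family of Y. Then φ is locally trivial: it acquires
sections on the members of some Zariski open covering of Y. (The statement holds over any base; the
ground field is the standing one of the text.) -/
theorem result
    (k : Type u) [Field k] [IsAlgClosed k] [CharZero k] (n : ℕ)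
    (X Y : Over (Spec (CommRingCat.of k)))
    (a : AlgGrp.Action (FrB.GLn n (Spec (CommRingCat.of k))) X) (φ : X ⟶ Y)
    (hcart : IsPullback a.act (snd (FrB.GLn n (Spec (CommRingCat.of k))) X) φ φ)
    (hloc : NonAbH1.IsLocallyTrivialFor Scheme.fpqcPrecoverage (Over.mk φ.left : Over Y.left)) :
    NonAbH1.IsLocallyTrivialFor Scheme.zariskiPrecoverage (Over.mk φ.left : Over Y.left) := by
  exact main a φ hcart hloc

end Groth.Agent.S20007
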