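import Groth.Statements.S20008
import Groth.Agent.Misc8.TorsorPts
import Groth.Agent.S18976
import Groth.Agent.AlgGrp1.AffineKernel
import Groth.Agent.GrpschAbsch.Cartier
import Groth.Agent.Agf.SmoothRed

set_option autoImplicit false
set_option backward.isDefEq.respectTransparency false
set_option backward.defeqAttrib.useBackward true
universe u
open CategoryTheory MonoidalCategory CartesianMonoidalCategory MonObj AlgebraicGeometry
open GIT

namespace Groth.Agent.S20008

open CategoryTheory.Limits GrpObj Pi1Tors TorsorPts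

variable {k : Type u} [Field k] [IsAlgClosed k] [CharZero k]
variable {G N Q X Y : Over (Spec (CommRingCat.of k))} [GrpObj G] [GrpObj N] [GrpObj Q]

/-- Left translation through a homomorphism. -/
noncomputable def transl (q : G ⟶ Q) [IsMonHom q] : AlgGrp.Action G Q :=
  mkAction ((fst G Q ≫ q) * snd G Q)
    (fun T w => by
      rw [MonObj.comp_mul, lift_fst_assoc, lift_snd, MonObj.one_comp, _root_.one_mul])
    (fun T g h w => by
      simp only [MonObj.comp_mul, lift_fst_assoc, lift_snd, MonObj.mul_comp, _root_.mul_assoc])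

theorem dot_transl (q : G ⟶ Q) [IsMonHom q] {T : Over (Spec (CommRingCat.of k))} (g : T ⟶ G) (f : T ⟶ Q) :
    lift g f ≫ (transl q).act = (g ≫ q) * f := by
  show lift g f ≫ ((fst G Q ≫ q) * snd G Q) = _
  rw [MonObj.comp_mul, lift_fst_assoc, lift_snd]

theorem main [IsAffine G.left] [LocallyOfFiniteType G.hom]
    (iN : N ⟶ G) [IsMonHom iN] (q : G ⟶ Q) [IsMonHom q] [Surjective q.left] [IsAffine Q.left]
    [LocallyOfFiniteType Q.hom] (hker : AlgGrp.IsKernel iN q)
    (hN : ∀ (X Y : Over (Spec (CommRingCat.of k))) (b : AlgGrp.Action N X) (ψ : X ⟶ Y),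
      IsPullback b.act (snd N X) ψ ψ →
      NonAbH1.IsLocallyTrivialFor Scheme.fpqcPrecoverage (Over.mk ψ.left : Over Y.left) →
      NonAbH1.IsLocallyTrivialFor Scheme.zariskiPrecoverage (Over.mk ψ.left : Over Y.left))
    (hQ : ∀ (X Y : Over (Spec (CommRingCat.of k))) (b : AlgGrp.Action Q X) (ψ : X ⟶ Y),
      IsPullback b.act (snd Q X) ψ ψ →
      NonAbH1.IsLocallyTrivialFor Scheme.fpqcPrecoverage (Over.mk ψ.left : Over Y.left) →
      NonAbH1.IsLocallyTrivialFor Scheme.zariskiPrecoverage (Over.mk ψ.left : Over Y.left))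
    (a : AlgGrp.Action G X) (φ : X ⟶ Y)
    (hcart : IsPullback a.act (snd G X) φ φ)
    (hloc : NonAbH1.IsLocallyTrivialFor Scheme.fpqcPrecoverage (Over.mk φ.left : Over Y.left)) :
    NonAbH1.IsLocallyTrivialFor Scheme.zariskiPrecoverage (Over.mk φ.left : Over Y.left) := by
  obtain ⟨W, qW, r, hqr, hW, hWloc, _, _⟩ := Groth.Agent.S18976.result k G X Y Q a φ hcart hloc (transl q)
  -- covering properties
  have hAG : IsAffineHom G.hom := isAffineHom_of_isAffine G.hom
  have hSG : Surjective G.hom := ⟨fun t => ⟨η[G].left t, Subsingleton.elim (α := PrimeSpectrum k) _ _⟩⟩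
  have hWsq : IsPullback (a.prod (transl q)).act.left (snd G (X ⊗ Q)).left qW.left qW.left :=
    hW.map (Over.forget _)
  have : IsAffineHom qW.left := Groth.AlgGrp2.prop_of_locallyTrivial _ qW hWsq hWloc @IsAffineHom hAG
  have : Flat qW.left := Groth.AlgGrp2.prop_of_locallyTrivial _ qW hWsq hWloc @Flat inferInstance
  have : Surjective qW.left := Groth.AlgGrp2.prop_of_locallyTrivial _ qW hWsq hWloc @Surjective hSG
  have hqW : LocSurj qW := locSurj_of_flat qW
  have : Smooth Q.hom := Groth.GrpschAbsch.smooth_of_charZero Q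
  have : GeometricallyReduced Q.hom := Groth.AlgGrp1.geometricallyReduced_of_smooth_hom Q
  have : IsReduced Q.left := Groth.AlgGrp1.isReduced_left Q
  have : IsAffineHom q.left := inferInstance
  have : Flat q.left := Groth.AlgGrp1.flat_of_surjective_hom q
  -- points of the associated bundle
  have inv : ∀ (T : Over (Spec (CommRingCat.of k))) (g : T ⟶ G) (x : T ⟶ X) (f : T ⟶ Q),
      lift (dot a g x) ((g ≫ q) * f) ≫ qW = lift x f ≫ qW := by
    intro T g x f
    have h := dot_comp (a.prod (transl q)) qW hW g (lift x f)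
    rw [dot, dot_prod, dot_transl] at h
    exact h
  have sep : ∀ (T : Over (Spec (CommRingCat.of k))) (x x' : T ⟶ X) (f f' : T ⟶ Q),
      lift x f ≫ qW = lift x' f' ≫ qW → ∃ g : T ⟶ G, dot a g x = x' ∧ (g ≫ q) * f = f' := by
    intro T x x' f f' h
    obtain ⟨g, hg⟩ := exists_dot (a.prod (transl q)) qW hW _ _ h.symm
    rw [dot, dot_prod, dot_transl] at hg
    exact ⟨g, by simpa [dot] using congrArg (· ≫ fst X Q) hg, by simpa using congrArg (· ≫ snd X Q) hg⟩
  have hr : ∀ (T : Over (Spec (CommRingCat.of k))) (x : T ⟶ X) (f : T ⟶ Q),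
      (lift x f ≫ qW) ≫ r = x ≫ φ := fun T x f => by rw [Category.assoc, hqr, lift_fst_assoc]
  -- the action of Q
  let θ : Q ⊗ (X ⊗ Q) ⟶ W :=
    lift (snd Q (X ⊗ Q) ≫ fst X Q) ((snd Q (X ⊗ Q) ≫ snd X Q) * (fst Q (X ⊗ Q))⁻¹) ≫ qW
  have hθ : ∀ (T : Over (Spec (CommRingCat.of k))) (z : T ⟶ Q ⊗ (X ⊗ Q)),
      z ≫ θ = lift ((z ≫ snd _ _) ≫ fst X Q) (((z ≫ snd _ _) ≫ snd X Q) * (z ≫ fst _ _)⁻¹) ≫ qW := by
    intro T z
    simp only [θ, ← Category.assoc, comp_lift, MonObj.comp_mul, GrpObj.comp_inv]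
  obtain ⟨cW, hcW⟩ := (locSurj_whiskerLeft Q hqW).desc θ fun T z z' hzz => by
    have h1 : z ≫ fst _ _ = z' ≫ fst _ _ := by simpa using congrArg (· ≫ fst Q W) hzz
    have h2 : lift ((z ≫ snd _ _) ≫ fst X Q) ((z ≫ snd _ _) ≫ snd X Q) ≫ qW =
        lift ((z' ≫ snd _ _) ≫ fst X Q) ((z' ≫ snd _ _) ≫ snd X Q) ≫ qW := by
      rw [← comp_lift, ← comp_lift, lift_fst_snd, Category.comp_id, Category.comp_id]
      simpa using congrArg (· ≫ snd Q W) hzz
    obtain ⟨g, hg1, hg2⟩ := sep _ _ _ _ _ h2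
    rw [hθ, hθ, ← hg1, ← hg2, h1, _root_.mul_assoc, inv]
  have hc : ∀ (T : Over (Spec (CommRingCat.of k))) (r₀ : T ⟶ Q) (x : T ⟶ X) (f : T ⟶ Q),
      lift r₀ (lift x f ≫ qW) ≫ cW = lift x (f * r₀⁻¹) ≫ qW := by
    intro T r₀ x f
    rw [← lift_whiskerLeft, Category.assoc, hcW, hθ]
    simp
  -- local lifts
  have cov : ∀ {T : Over (Spec (CommRingCat.of k))} (w : T ⟶ W), ∃ (T' : Over (Spec (CommRingCat.of k))) (e : T' ⟶ T)
      (x : T' ⟶ X) (f : T' ⟶ Q), LocSurj e ∧ e ≫ w = lift x f ≫ qW := by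
    intro T w
    obtain ⟨T', e, z, he, hz⟩ := exists_cover hqW w
    exact ⟨T', e, z ≫ fst X Q, z ≫ snd X Q, he, by rw [← comp_lift, lift_fst_snd, Category.comp_id, hz]⟩
  let c : AlgGrp.Action Q W := mkAction cW
    (fun T w => by
      obtain ⟨T', e, x, f, he, hw⟩ := cov w
      refine he.cancel ?_
      rw [← Category.assoc, comp_lift, MonObj.comp_one, hw, hc, inv_one, _root_.mul_one])
    (fun T r₁ r₂ w => by
      obtain ⟨T', e, x, f, he, hw⟩ := cov w
      refine he.cancel ?_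
      simp only [← Category.assoc, comp_lift, MonObj.comp_mul, hw, hc, _root_.mul_inv_rev, _root_.mul_assoc])
  have hcinv : c.act ≫ r = snd Q W ≫ r := by
    obtain ⟨T', e, x, f, he, hw⟩ := cov (snd Q W)
    refine he.cancel ?_
    have h1 : e ≫ c.act = lift (e ≫ fst Q W) (e ≫ snd Q W) ≫ cW := by
      rw [← comp_lift, lift_fst_snd, Category.comp_id]; rfl
    rw [← Category.assoc, ← Category.assoc, h1, hw, hc, hr, hr]
  have hcuniq : ∀ (T : Over (Spec (CommRingCat.of k))) (r₁ r₂ : T ⟶ Q) (w : T ⟶ W),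
      dot c r₁ w = dot c r₂ w → r₁ = r₂ := by
    intro T r₁ r₂ w h
    obtain ⟨T', e, x, f, he, hw⟩ := cov w
    refine he.cancel ?_
    have h' := congrArg (e ≫ ·) h
    simp only [comp_dot, hw] at h'
    change lift (e ≫ r₁) (lift x f ≫ qW) ≫ cW = lift (e ≫ r₂) (lift x f ≫ qW) ≫ cW at h'
    rw [hc, hc] at h'
    obtain ⟨g, hg1, hg2⟩ := sep _ _ _ _ _ h'
    rw [eq_one_of_dot a φ hcart hg1, MonObj.one_comp, _root_.one_mul] at hg2
    exact inv_injective (mul_left_cancel hg2)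
  have hcex : ∀ (T : Over (Spec (CommRingCat.of k))) (w w' : T ⟶ W), w ≫ r = w' ≫ r →
      ∃ r₀ : T ⟶ Q, dot c r₀ w' = w := by
    intro T w w' hww
    obtain ⟨T₁, e₁, x, f, he₁, hw⟩ := cov w
    obtain ⟨T₂, e₂, x', f', he₂, hw'⟩ := cov (e₁ ≫ w')
    have hx : (e₂ ≫ x) ≫ φ = x' ≫ φ := by
      rw [← hr T₂ x' f', ← hw', Category.assoc, ← hr T₁ x f, ← hw]
      simp only [Category.assoc, hww]
    obtain ⟨g, hg⟩ := exists_dot a φ hcart (e₂ ≫ x) x' hx
    let r' : T₂ ⟶ Q := (e₂ ≫ f)⁻¹ * ((g ≫ q) * f')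
    have hsol : dot c r' ((e₂ ≫ e₁) ≫ w') = (e₂ ≫ e₁) ≫ w := by
      rw [Category.assoc, Category.assoc, hw', hw, ← inv T₂ g x' f', hg, ← Category.assoc, comp_lift]
      show lift r' (lift (e₂ ≫ x) ((g ≫ q) * f') ≫ qW) ≫ cW = _
      rw [hc]
      congr 2
      simp [r', _root_.mul_assoc]
    obtain ⟨r₀, hr₀⟩ := (locSurj_comp he₂ he₁).desc r' fun U u v huv => by
      refine hcuniq U _ _ ((u ≫ e₂ ≫ e₁) ≫ w') ?_
      have h1 := congrArg (u ≫ ·) hsol
      have h2 := congrArg (v ≫ ·) hsol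
      simp only [comp_dot, ← Category.assoc] at h1 h2
      simp only [← Category.assoc] at huv ⊢
      rw [h1]
      conv_rhs => rw [huv]
      rw [h2, huv]
    refine ⟨r₀, (locSurj_comp he₂ he₁).cancel ?_⟩
    rw [comp_dot, hr₀, hsol]
  have hcpb : IsPullback c.act (snd Q W) r r :=
    isPullback_of_points c r hcinv hcex hcuniq
  let ψ : X ⟶ W := lift (𝟙 X) 1 ≫ qW
  have hψ : ∀ (T : Over (Spec (CommRingCat.of k))) (x : T ⟶ X), x ≫ ψ = lift x 1 ≫ qW := fun T x => by
    rw [← Category.assoc, comp_lift, Category.comp_id, MonObj.comp_one]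
  have hψr : ψ ≫ r = φ := by rw [hr, Category.id_comp]
  have hrloc : NonAbH1.IsLocallyTrivialFor Scheme.fpqcPrecoverage (Over.mk r.left : Over Y.left) := by
    obtain ⟨R, hR, hsec⟩ := hloc
    refine ⟨R, hR, fun S' f hf => ?_⟩
    obtain ⟨σ, hσ⟩ := hsec f hf
    refine ⟨σ ≫ ψ.left, ?_⟩
    show (σ ≫ ψ.left) ≫ r.left = f
    rw [Category.assoc, ← Over.comp_left, hψr]
    exact hσ
  -- the N-torsor X → W
  let nb : AlgGrp.Action N X := mkAction ((iN ▷ X) ≫ a.act)
    (fun T w => by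
      rw [← Category.assoc, lift_whiskerRight, MonObj.one_comp]
      exact one_dot a w)
    (fun T g h w => by
      simp only [← Category.assoc, lift_whiskerRight, MonObj.mul_comp]
      exact mul_dot a _ _ w)
  have hnb : ∀ (T : Over (Spec (CommRingCat.of k))) (n : T ⟶ N) (x : T ⟶ X), dot nb n x = dot a (n ≫ iN) x := by
    intro T n x
    show lift n x ≫ (iN ▷ X) ≫ a.act = _
    rw [← Category.assoc, lift_whiskerRight]
    rfl
  have hk1 : ∀ (T : Over (Spec (CommRingCat.of k))) (n : T ⟶ N), (n ≫ iN) ≫ q = 1 := fun T n => by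
    rw [Category.assoc, hker.w, ← Category.assoc, toUnit_unique (n ≫ toUnit N) (toUnit T)]
    rfl
  have hψinv : nb.act ≫ ψ = snd N X ≫ ψ := by
    have e : nb.act = dot nb (fst N X) (snd N X) := act_eq_dot nb
    rw [e, hnb, hψ, hψ]
    have := inv _ (fst N X ≫ iN) (snd N X) 1
    rwa [hk1, _root_.one_mul] at this
  have hnpb : IsPullback nb.act (snd N X) ψ ψ := by
    refine isPullback_of_points nb ψ hψinv (fun T x y hxy => ?_) (fun T n n' x h => ?_)
    · rw [hψ, hψ] at hxy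
      obtain ⟨g, hg1, hg2⟩ := sep _ _ _ _ _ hxy.symm
      rw [_root_.mul_one] at hg2
      exact ⟨hker.lift g (toUnit T) (hg2.trans rfl), by rw [hnb, hker.lift_fst, hg1]⟩
    · rw [hnb, hnb] at h
      exact hker.hom_ext (eq_of_dot a φ hcart h) (toUnit_unique _ _)
  have hψloc : NonAbH1.IsLocallyTrivialFor Scheme.fpqcPrecoverage (Over.mk ψ.left : Over W.left) := by
    let m : X ⊗ G ⟶ W := (X ◁ q) ≫ qW
    have hpb := Groth.GrpschAbsch.isPullback_whiskerLeft X q
    have : Flat (X ◁ q).left := MorphismProperty.of_isPullback hpb.flip ‹Flat q.left›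
    have : Surjective (X ◁ q).left := MorphismProperty.of_isPullback hpb.flip ‹Surjective q.left›
    have : IsAffineHom (X ◁ q).left := MorphismProperty.of_isPullback hpb.flip ‹IsAffineHom q.left›
    have : Flat m.left := inferInstanceAs (Flat ((X ◁ q).left ≫ qW.left))
    have : Surjective m.left := inferInstanceAs (Surjective ((X ◁ q).left ≫ qW.left))
    have : QuasiCompact m.left := inferInstanceAs (QuasiCompact ((X ◁ q).left ≫ qW.left))
    refine ⟨Presieve.singleton m.left, m.left.singleton_mem_fpqcPrecoverage, ?_⟩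
    rintro S' h ⟨⟩
    let x : X ⊗ G ⟶ X := dot a (snd X G)⁻¹ (fst X G)
    refine ⟨x.left, ?_⟩
    have e : x ≫ ψ = m := by
      have := inv _ (snd X G) x 1
      rw [← mul_dot, mul_inv_cancel, one_dot, _root_.mul_one] at this
      rw [hψ, ← this]
      show lift (fst X G) (snd X G ≫ q) ≫ qW = (X ◁ q) ≫ qW
      congr 1
    exact congrArg Over.Hom.left e
  -- compose the two Zariski local trivialisations
  obtain ⟨R₁, hR₁, hs₁⟩ := hQ W Y c r hcpb hrloc
  obtain ⟨R₂, hR₂, hs₂⟩ := hN X W nb ψ hnpb hψloc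
  have key : ∀ y : Y.left, ∃ (T : Scheme.{u}) (f : T ⟶ Y.left), IsOpenImmersion f ∧ y ∈ Set.range f ∧
      NonAbH1.HasSectionOver (Over.mk φ.left : Over Y.left) f := by
    intro y
    obtain ⟨I₁, T₁, g₁, rfl⟩ := R₁.exists_eq_ofArrows
    obtain ⟨I₂, T₂, g₂, rfl⟩ := R₂.exists_eq_ofArrows
    rw [Scheme.ofArrows_mem_precoverage_iff] at hR₁ hR₂
    obtain ⟨i₁, t₁, ht₁⟩ := hR₁.1 y
    have := hR₁.2 i₁
    obtain ⟨σ₁, hσ₁⟩ := hs₁ (g₁ i₁) (Presieve.ofArrows.mk i₁)
    obtain ⟨i₂, t₂, ht₂⟩ := hR₂.1 (σ₁ t₁)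
    have : IsOpenImmersion (g₂ i₂) := hR₂.2 i₂
    obtain ⟨σ₂, hσ₂⟩ := hs₂ (g₂ i₂) (Presieve.ofArrows.mk i₂)
    refine ⟨pullback σ₁ (g₂ i₂), pullback.fst σ₁ (g₂ i₂) ≫ g₁ i₁, inferInstance, ?_,
      pullback.snd σ₁ (g₂ i₂) ≫ σ₂, ?_⟩
    · obtain ⟨z, hz, -⟩ := Scheme.Pullback.exists_preimage_pullback (f := σ₁) (g := g₂ i₂) t₁ t₂ ht₂.symm
      exact ⟨z, by rw [Scheme.Hom.comp_apply, hz, ht₁]⟩
    · change (pullback.snd σ₁ (g₂ i₂) ≫ σ₂) ≫ φ.left = _
      rw [← hψr, Over.comp_left, Category.assoc]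
      change pullback.snd σ₁ (g₂ i₂) ≫ σ₂ ≫ ψ.left ≫ r.left = _
      change σ₂ ≫ ψ.left = g₂ i₂ at hσ₂
      change σ₁ ≫ r.left = g₁ i₁ at hσ₁
      rw [← Category.assoc σ₂, hσ₂, ← Category.assoc, ← pullback.condition, Category.assoc, hσ₁]
  choose T f hf hmem hsec using key
  refine ⟨Presieve.ofArrows T f, ?_, ?_⟩
  · rw [Scheme.ofArrows_mem_precoverage_iff]
    exact ⟨fun z => ⟨z, hmem z⟩, hf⟩
  · rintro S' f' ⟨z⟩
    exact hsec z


/-- An extension of special groups is special. Over an algebraically closed field k of characteristic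
zero, let G be an affine group scheme of finite type over k with a closed normal subgroup scheme N,
the kernel of a surjective homomorphism q : G → Q onto an affine group scheme Q of finite type over
k (the factor group G/N). Call an affine group scheme H of finite type over k special when for every
action of H on a k-scheme X and every morphism ψ : X → Y of k-schemes which is an H-torsor over Y —
the square formed by the action, the second projection H ×_k X → X and ψ twice is cartesian, and ψ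
acquires sections on the members of some fpqc covering family of Y — the morphism ψ acquires
sections on the members of some Zariski open covering of Y. If N and Q are special, then G is
special. -/
theorem result
    (k : Type u) [Field k] [IsAlgClosed k] [CharZero k]
    (G N Q : Over (Spec (CommRingCat.of k))) [GrpObj G] [GrpObj N] [GrpObj Q]
    [IsAffine G.left] [LocallyOfFiniteType G.hom]
    (iN : N ⟶ G) [IsMonHom iN] [IsClosedImmersion iN.left] (hnorm : AlgGrp.IsNormalHom iN)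
    (q : G ⟶ Q) [IsMonHom q] [Surjective q.left] [IsAffine Q.left] [LocallyOfFiniteType Q.hom]
    (hker : AlgGrp.IsKernel iN q)
    (hN : ∀ (X Y : Over (Spec (CommRingCat.of k))) (b : AlgGrp.Action N X) (ψ : X ⟶ Y),
      IsPullback b.act (snd N X) ψ ψ →
      NonAbH1.IsLocallyTrivialFor Scheme.fpqcPrecoverage (Over.mk ψ.left : Over Y.left) →
      NonAbH1.IsLocallyTrivialFor Scheme.zariskiPrecoverage (Over.mk ψ.left : Over Y.left))
    (hQ : ∀ (X Y : Over (Spec (CommRingCat.of k))) (b : AlgGrp.Action Q X) (ψ : X ⟶ Y),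
      IsPullback b.act (snd Q X) ψ ψ →
      NonAbH1.IsLocallyTrivialFor Scheme.fpqcPrecoverage (Over.mk ψ.left : Over Y.left) →
      NonAbH1.IsLocallyTrivialFor Scheme.zariskiPrecoverage (Over.mk ψ.left : Over Y.left))
    (X Y : Over (Spec (CommRingCat.of k))) (a : AlgGrp.Action G X) (φ : X ⟶ Y)
    (hcart : IsPullback a.act (snd G X) φ φ)
    (hloc : NonAbH1.IsLocallyTrivialFor Scheme.fpqcPrecoverage (Over.mk φ.left : Over Y.left)) :
    NonAbH1.IsLocallyTrivialFor Scheme.zariskiPrecoverage (Over.mk φ.left : Over Y.left) := by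
  exact main iN q hker hN hQ a φ hcart hloc

end Groth.Agent.S20008
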