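import Groth.Statements.S20010
import Mathlib.AlgebraicGeometry.AffineTransitionLimit
import Mathlib.CategoryTheory.Filtered.Final
-- import your own Groth.Agent.* helpers here

set_option autoImplicit false
universe u
open CategoryTheory CategoryTheory.Limits AlgebraicGeometry TopologicalSpace
open ModPair

namespace Groth.Agent.S20010

section Helpers

variable {I : Type u} [SmallCategory I] [IsCofiltered I] {D : I ⥤ Scheme.{u}} {c : Cone D}

theorem descend_cover (hc : IsLimit c) [∀ {i j : I} (t : i ⟶ j), IsAffineHom (D.map t)]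
    [∀ i, CompactSpace (D.obj i)] [∀ i, QuasiSeparatedSpace (D.obj i)] {ι : Type u}
    (U : ι → Scheme.{u}) (u : ∀ a, U a ⟶ c.pt) [∀ a, IsOpenImmersion (u a)] [∀ a, QuasiCompact (u a)]
    (hcov : ∀ x : c.pt, ∃ (a : ι) (y : U a), (u a).base y = x) :
    ∃ (l : I) (n : ℕ) (a : Fin n → ι) (V : Fin n → Scheme.{u}) (v : ∀ j, V j ⟶ D.obj l)
      (e : ∀ j, U (a j) ⟶ V j),
      (∀ j, IsOpenImmersion (v j) ∧ QuasiCompact (v j)) ∧
      (∀ x : D.obj l, ∃ (j : Fin n) (y : V j), (v j).base y = x) ∧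
      ∀ j, IsPullback (e j) (u (a j)) (v j) (c.π.app l) := by
  classical
  have : CompactSpace c.pt := Scheme.compactSpace_of_isLimit D c hc
  obtain ⟨t, ht⟩ := isCompact_univ.elim_finite_subcover (fun a => Set.range (u a))
    (fun a => (u a).isOpenEmbedding.isOpen_range)
    (fun x _ => by obtain ⟨a, y, hy⟩ := hcov x; exact Set.mem_iUnion.mpr ⟨a, y, hy⟩)
  let a : Fin t.card → ι := fun j => (t.equivFin.symm j : t)
  have hst : ∀ j, ∃ (i : I) (V : (D.obj i).Opens), IsCompact (V : Set (D.obj i)) ∧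
      c.π.app i ⁻¹ᵁ V = (u (a j)).opensRange := fun j => by
    have : CompactSpace (U (a j)) := QuasiCompact.compactSpace_of_compactSpace (u (a j))
    exact exists_preimage_eq D c hc _ (isCompact_range (u (a j)).continuous)
  choose i V hV hVu using hst
  obtain ⟨k, hk⟩ := IsCofiltered.inf_objs_exists (Finset.univ.image i)
  let b : ∀ j, k ⟶ i j := fun j => (hk (Finset.mem_image_of_mem i (Finset.mem_univ j))).some
  let W : Fin t.card → (D.obj k).Opens := fun j => D.map (b j) ⁻¹ᵁ V j
  have hW : ∀ j, c.π.app k ⁻¹ᵁ W j = (u (a j)).opensRange := fun j => by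
    rw [← hVu j, ← c.w (b j)]; rfl
  obtain ⟨l, m, hl⟩ := exists_map_eq_top D c hc (⨆ j, W j) (top_le_iff.mp fun x _ => by
    obtain ⟨a', ha, hx⟩ := Set.mem_iUnion₂.mp (ht (Set.mem_univ x))
    obtain ⟨j, rfl⟩ : ∃ j, a j = a' := ⟨t.equivFin ⟨a', ha⟩, by simp [a]⟩
    exact Opens.mem_iSup.mpr ⟨j, show x ∈ c.π.app k ⁻¹ᵁ W j from (hW j).symm ▸ hx⟩)
  let V' : Fin t.card → (D.obj l).Opens := fun j => D.map m ⁻¹ᵁ W j
  have hVu' : ∀ j, c.π.app l ⁻¹ᵁ V' j = (u (a j)).opensRange := fun j => by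
    rw [← hW j, ← c.w m]; rfl
  have hr : ∀ j, Set.range (u (a j) ≫ c.π.app l) ⊆ Set.range (V' j).ι := fun j => by
    rw [Scheme.Opens.range_ι]
    rintro _ ⟨y, rfl⟩
    exact (hVu' j).ge ⟨y, rfl⟩
  refine ⟨l, t.card, a, fun j => (V' j : Scheme.{u}), fun j => (V' j).ι,
    fun j => IsOpenImmersion.lift (V' j).ι _ (hr j), fun j => ?_, fun x => ?_, fun j => ?_⟩
  · have : CompactSpace (V' j : Scheme.{u}) := isCompact_iff_compactSpace.mp
      (QuasiCompact.isCompact_preimage _ (W j).isOpen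
        (QuasiCompact.isCompact_preimage _ (V j).isOpen (hV j)))
    exact ⟨inferInstance, inferInstanceAs (QuasiCompact (V' j).ι)⟩
  · have hx : D.map m x ∈ ⨆ j, W j := hl.ge (Set.mem_univ x)
    obtain ⟨j, hj⟩ := Opens.mem_iSup.mp hx
    exact ⟨j, ⟨x, hj⟩, rfl⟩
  · exact IsOpenImmersion.isPullback _ _ _ _ (IsOpenImmersion.lift_fac _ _ _).symm
      (by rw [Scheme.Opens.opensRange_ι]; exact hVu' j)

end Helpers

/-- Let (X_i) be a cofiltered system of schemes with affine transition morphisms such that X_{i₀} is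
quasi-compact and quasi-separated for some index i₀, let X be its limit, and let {U_a ⟶ X} be a
family of quasi-compact open immersions (open immersions of finite presentation) which is jointly
surjective (a covering family for the Zariski class). Then the covering descends: for some index i
there is a finite jointly surjective family {V_j ⟶ X_i}_{j < n} of quasi-compact open immersions
such that every V_j ×_{X_i} X is one of the U_a, i.e. for each j some U_{a_j} ⟶ X is the base change
of V_j ⟶ X_i along X ⟶ X_i. -/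
theorem result {I : Type u} [SmallCategory I] [IsCofiltered I]
    (D : I ⥤ Scheme.{u}) (c : Cone D) (hc : IsLimit c)
    [∀ (i j : I) (t : i ⟶ j), IsAffineHom (D.map t)] (i₀ : I) [CompactSpace (D.obj i₀)]
    [QuasiSeparatedSpace (D.obj i₀)] {ι : Type u} (U : ι → Scheme.{u}) (u : ∀ a, U a ⟶ c.pt)
    [∀ a, IsOpenImmersion (u a)] [∀ a, QuasiCompact (u a)] (hcov : ∀ x : c.pt, ∃ (a : ι) (y : U a), (u a).base y = x) :
    ∃ (i : I) (n : ℕ) (V : Fin n → Scheme.{u}) (v : ∀ j, V j ⟶ D.obj i) (a : Fin n → ι)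
      (e : ∀ j, U (a j) ⟶ V j),
      (∀ j, IsOpenImmersion (v j) ∧ QuasiCompact (v j)) ∧
      (∀ x : D.obj i, ∃ (j : Fin n) (y : V j), (v j).base y = x) ∧
      ∀ j, IsPullback (e j) (u (a j)) (v j) (c.π.app i) := by

  let E := Over.forget i₀ ⋙ D
  let cE : Cone E := c.whisker (Over.forget i₀)
  have hcE : IsLimit cE := (Functor.Initial.isLimitWhiskerEquiv (Over.forget i₀) c).symm hc
  have hEaff : ∀ {p q : Over i₀} (t : p ⟶ q), IsAffineHom (E.map t) := fun {p q} t =>
    inferInstanceAs (IsAffineHom (D.map t.left))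
  have hEc : ∀ p, CompactSpace (E.obj p) := fun p =>
    QuasiCompact.compactSpace_of_compactSpace (D.map p.hom)
  have hEq : ∀ p, QuasiSeparatedSpace (E.obj p) := fun p =>
    quasiSeparatedSpace_of_quasiSeparated (D.map p.hom)
  obtain ⟨o, n, a, V, v, e, h1, h2, h3⟩ := descend_cover (c := cE) hcE U u hcov
  exact ⟨o.left, n, V, v, a, e, h1, h2, h3⟩

end Groth.Agent.S20010
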