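import Groth.Statements.S20011
import Groth.Agent.S0591
import Groth.Agent.Limits.SmoothDescent
import Groth.Agent.Limits.Descend

set_option autoImplicit false
universe u
open CategoryTheory CategoryTheory.Limits AlgebraicGeometry TopologicalSpace
open ModPair

namespace Groth.Agent.S20011

/-- Let (X_i) be a cofiltered system of schemes with affine transition morphisms such that X_{i₀} is
quasi-compact and quasi-separated for some index i₀, let X be its limit, and let {U_a ⟶ X} be a
family of étale morphisms of finite presentation (étale, quasi-compact and quasi-separated) which is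
jointly surjective (a covering family for the étale class). Then the covering descends: for some
index i there is a finite jointly surjective family {V_j ⟶ X_i}_{j < n} of étale morphisms of finite
presentation (étale, quasi-compact and quasi-separated) such that every V_j ×_{X_i} X is one of the
U_a, i.e. for each j some U_{a_j} ⟶ X is the base change of V_j ⟶ X_i along X ⟶ X_i. -/
theorem result {I : Type u} [SmallCategory I] [IsCofiltered I]
    (D : I ⥤ Scheme.{u}) (c : Cone D) (hc : IsLimit c)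
    [∀ (i j : I) (t : i ⟶ j), IsAffineHom (D.map t)] (i₀ : I) [CompactSpace (D.obj i₀)]
    [QuasiSeparatedSpace (D.obj i₀)] {ι : Type u} (U : ι → Scheme.{u}) (u : ∀ a, U a ⟶ c.pt)
    [∀ a, Etale (u a)] [∀ a, QuasiCompact (u a)] [∀ a, QuasiSeparated (u a)] (hcov : ∀ x : c.pt, ∃ (a : ι) (y : U a), (u a).base y = x) :
    ∃ (i : I) (n : ℕ) (V : Fin n → Scheme.{u}) (v : ∀ j, V j ⟶ D.obj i) (a : Fin n → ι)
      (e : ∀ j, U (a j) ⟶ V j),
      (∀ j, Etale (v j) ∧ QuasiCompact (v j) ∧ QuasiSeparated (v j)) ∧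
      (∀ x : D.obj i, ∃ (j : Fin n) (y : V j), (v j).base y = x) ∧
      ∀ j, IsPullback (e j) (u (a j)) (v j) (c.π.app i) := by
  classical
  have hcp : CompactSpace c.pt := Groth.Limits.compactSpace_pt D c hc (i := i₀)
  -- finitely many suffice
  have hopen : ∀ a, IsOpen (Set.range ⇑(u a)) := fun a ↦ (u a).isOpenMap.isOpen_range
  obtain ⟨s, hs⟩ := isCompact_univ.elim_finite_subcover (fun a ↦ Set.range ⇑(u a)) hopen
    (fun x _ ↦ by
      obtain ⟨a, y, hy⟩ := hcov x
      exact Set.mem_iUnion.2 ⟨a, y, hy⟩)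
  -- each member descends
  let D' : Over i₀ ⥤ Scheme.{u} := Over.forget i₀ ⋙ D
  let c' : Cone D' := c.whisker (Over.forget i₀)
  let hc' : IsLimit c' := (Functor.Initial.isLimitWhiskerEquiv (Over.forget i₀) c).symm hc
  haveI : ∀ (p q : Over i₀) (t : p ⟶ q), IsAffineHom (D'.map t) := fun p q t ↦
    (inferInstance : IsAffineHom (D.map t.left))
  haveI : ∀ p : Over i₀, CompactSpace (D'.obj p) := fun p ↦ Groth.Limits.compactSpace_obj D p.hom
  haveI : ∀ p : Over i₀, QuasiSeparatedSpace (D'.obj p) := fun p ↦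
    Groth.Limits.quasiSeparatedSpace_obj D p.hom
  have hone : ∀ a : ι, ∃ (j : I) (_ : j ⟶ i₀) (W : Scheme.{u}) (w : W ⟶ D.obj j) (g : U a ⟶ W),
      Etale w ∧ QuasiCompact w ∧ QuasiSeparated w ∧ IsPullback g (u a) w (c.π.app j) := by
    intro a
    obtain ⟨p, W, w, g, hlfp, hqc, hqs, hsq⟩ := Groth.Agent.S0591.result D' c' hc' (U a) (u a)
    haveI : CompactSpace (D.obj p.left) := Groth.Limits.compactSpace_obj D p.hom
    have hsnd : Etale (pullback.snd w (c.π.app p.left)) := by
      have e := hsq.isoPullback_inv_snd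
      have e' : hsq.isoPullback.inv ≫ u a = pullback.snd w (c'.π.app p) := e
      have h : Etale (pullback.snd w (c'.π.app p)) := by
        rw [← e', MorphismProperty.cancel_left_of_respectsIso (P := @Etale)]
        infer_instance
      exact h
    haveI : LocallyOfFinitePresentation (X := W) (Y := D.obj p.left) w := hlfp
    haveI : QuasiCompact (X := W) (Y := D.obj p.left) w := hqc
    haveI : QuasiSeparated (X := W) (Y := D.obj p.left) w := hqs
    haveI : CompactSpace W := QuasiCompact.compactSpace_of_compactSpace (X := W) (Y := D.obj p.left) w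
    obtain ⟨q, hq⟩ := Groth.Limits.exists_stage_of_ringDescends @Etale
      Groth.Limits.ringDescends_etale (fun _ _ _ h ↦ have : IsOpenImmersion _ := h; inferInstance)
      D c hc p.left w hsnd
    have hg : g ≫ w = (u a ≫ c.π.app q.left) ≫ D.map q.hom := by
      rw [Category.assoc, Cone.w]
      exact hsq.w
    refine ⟨q.left, q.hom ≫ p.hom, pullback w (D.map q.hom), pullback.snd _ _,
      pullback.lift g (u a ≫ c.π.app q.left) hg, hq, inferInstance, inferInstance, ?_⟩
    refine IsPullback.of_right ?_ (pullback.lift_snd _ _ _) (IsPullback.of_hasPullback _ _)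
    rw [pullback.lift_fst, Cone.w]
    exact hsq
  choose jA φA W w g hw hqc hqs hsq using hone
  -- common stage
  obtain ⟨k, hk⟩ := IsCofiltered.inf_objs_exists (insert i₀ (s.image jA))
  let ψ : ∀ a ∈ s, k ⟶ jA a := fun a ha ↦
    (hk (Finset.mem_insert_of_mem (Finset.mem_image_of_mem jA ha))).some
  let θ : k ⟶ i₀ := (hk (Finset.mem_insert_self _ _)).some
  haveI : CompactSpace (D.obj k) := Groth.Limits.compactSpace_obj D θ
  let Vk : s → Scheme.{u} := fun a ↦ pullback (w a.1) (D.map (ψ a.1 a.2))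
  let vk : ∀ a : s, Vk a ⟶ D.obj k := fun a ↦ pullback.snd _ _
  have hvk : ∀ a : s, Etale (vk a) := fun a ↦ MorphismProperty.pullback_snd _ _ (hw a.1)
  let gk : ∀ a : s, U a.1 ⟶ Vk a := fun a ↦ pullback.lift (g a.1) (u a.1 ≫ c.π.app k)
    (by rw [Category.assoc, Cone.w]; exact (hsq a.1).w)
  have hsqk : ∀ a : s, IsPullback (gk a) (u a.1) (vk a) (c.π.app k) := fun a ↦ by
    refine IsPullback.of_right ?_ (pullback.lift_snd _ _ _) (IsPullback.of_hasPullback _ _)
    rw [pullback.lift_fst, Cone.w]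
    exact hsq a.1
  -- the uncovered part disappears
  let E : Set (D.obj k) := (⋃ a : s, Set.range ⇑(vk a))ᶜ
  have hEc : IsClosed E :=
    (isOpen_iUnion fun a ↦ (haveI := hvk a; (vk a).isOpenMap.isOpen_range)).isClosed_compl
  have hE : ⇑(c.π.app k) ⁻¹' E = ∅ := by
    refine Set.eq_empty_iff_forall_notMem.2 fun x hx ↦ hx ?_
    obtain ⟨a, ha, y, hy⟩ := Set.mem_iUnion₂.1 (hs (Set.mem_univ x))
    refine Set.mem_iUnion.2 ⟨⟨a, ha⟩, gk ⟨a, ha⟩ y, ?_⟩
    rw [← hy, ← Scheme.Hom.comp_apply, ← Scheme.Hom.comp_apply, (hsqk ⟨a, ha⟩).w]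
  obtain ⟨l, χ, hl⟩ := Groth.Limits.exists_preimage_eq_empty D c hc
    (Groth.Limits.pc_of_isClosed hEc).qcImage hE
  let eS : Fin s.card ≃ s := s.equivFin.symm
  refine ⟨l, s.card, fun m ↦ pullback (vk (eS m)) (D.map χ), fun m ↦ pullback.snd _ _,
    fun m ↦ (eS m).1, fun m ↦ pullback.lift (gk (eS m)) (u (eS m).1 ≫ c.π.app l) ?_,
    fun m ↦ ?_, fun x ↦ ?_, fun m ↦ ?_⟩
  · rw [Category.assoc, Cone.w]; exact (hsqk (eS m)).w
  · haveI := hvk (eS m)
    haveI := hqc (eS m).1
    haveI := hqs (eS m).1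
    exact ⟨inferInstance, inferInstance, inferInstance⟩
  · have hx : D.map χ x ∈ ⋃ a : s, Set.range ⇑(vk a) := by
      by_contra hx
      exact (Set.eq_empty_iff_forall_notMem.1 hl x) hx
    obtain ⟨a, ha⟩ := Set.mem_iUnion.1 hx
    obtain ⟨m, rfl⟩ := eS.surjective a
    have : x ∈ Set.range ⇑(pullback.snd (vk (eS m)) (D.map χ)) := by
      rw [Scheme.Pullback.range_snd]
      exact ha
    exact ⟨m, this⟩
  · refine IsPullback.of_right ?_ (pullback.lift_snd _ _ _) (IsPullback.of_hasPullback _ _)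
    rw [pullback.lift_fst, Cone.w]
    exact hsqk (eS m)

end Groth.Agent.S20011
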