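import Groth.Statements.S20014
import Groth.Agent.HensPair.FibrationFunctionField
import Groth.Agent.HensPair.IdemClopen
-- import your own Groth.Agent.* helpers here

set_option autoImplicit false
universe u
open CategoryTheory CategoryTheory.Limits AlgebraicGeometry
open RatSing

namespace Groth.Agent.S20014

/-- Let k be a field, X an integral k-scheme which is separated and of finite type over k, and f : X̃ →
X a proper morphism of k-schemes which is birational — an isomorphism over some nonempty open subset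
of X — and for which O_X → f_*O_X̃ is an isomorphism (Γ(V, O_X) → Γ(f⁻¹V, O_X̃) bijective for every
open V of X). If X̃ is normal (every local ring an integrally closed domain), then X is normal. (In
the text this is the last clause of a lemma whose other hypotheses — X̃ Cohen–Macaulay, vanishing of
the higher direct images of O_X̃ and of the dualizing sheaf — and whose standing assumption that k
is perfect of positive characteristic play no role in this clause; they are omitted here.) -/
theorem result (k : Type u) [Field k]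
    (X Xt : Scheme.{u}) [X.Over (Spec (CommRingCat.of k))] [Xt.Over (Spec (CommRingCat.of k))]
    [IsIntegral X] [IsSeparated (X ↘ Spec (CommRingCat.of k))]
    [LocallyOfFiniteType (X ↘ Spec (CommRingCat.of k))] [QuasiCompact (X ↘ Spec (CommRingCat.of k))]
    (f : Xt ⟶ X) (hf : f ≫ (X ↘ Spec (CommRingCat.of k)) = Xt ↘ Spec (CommRingCat.of k)) [IsProper f]
    (U : X.Opens) (hU : (U : Set X).Nonempty) (hbir : IsIso (f ∣_ U))
    (hfib : ∀ V : X.Opens, IsIso (f.app V))
    (hXt : Pi1.IsNormalScheme Xt) : Pi1.IsNormalScheme X := by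
  have : IsLocallyNoetherian X := LocallyOfFiniteType.isLocallyNoetherian (X ↘ Spec (CommRingCat.of k))
  have : CompactSpace X := QuasiCompact.compactSpace_of_compactSpace (X ↘ Spec (CommRingCat.of k))
  have : IsLocallyNoetherian Xt := LocallyOfFiniteType.isLocallyNoetherian f
  have : CompactSpace Xt := QuasiCompact.compactSpace_of_compactSpace f
  have : IsNoetherian Xt := {}
  have hd : ∀ x : Xt, IsDomain (Xt.presheaf.stalk x) := fun x => (hXt x).1
  have : IsReduced Xt := by
    have : ∀ x : Xt, _root_.IsReduced (Xt.presheaf.stalk x) := fun x => by have := hd x; infer_instance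
    exact isReduced_of_isReduced_stalk Xt
  have : Nonempty Xt := by
    by_contra hne
    have hempty := not_nonempty_iff.1 hne
    have := hfib ⊤
    have : Subsingleton Γ(Xt, f ⁻¹ᵁ ⊤) := CommRingCat.subsingleton_of_isTerminal
      (Xt.sheaf.isTerminalOfEqEmpty (SetLike.ext' (Set.eq_empty_iff_forall_notMem.2 fun z => hempty.elim z)))
    have : Nonempty (⊤ : X.Opens) := ⟨⟨genericPoint X, trivial⟩⟩
    exact one_ne_zero ((ConcreteCategory.bijective_of_isIso (f.app ⊤)).1
      (Subsingleton.elim _ _) : (1 : Γ(X, ⊤)) = 0)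
  have : PreirreducibleSpace Xt := by
    have hconn : ∀ C : Set Xt, IsClopen C → C = ∅ ∨ C = Set.univ := by
      intro C hC
      obtain ⟨a, ha, rfl⟩ := Groth.HensPair.exists_idem_of_isClopen hC
      have := hfib ⊤
      have : Nonempty (⊤ : X.Opens) := ⟨⟨genericPoint X, trivial⟩⟩
      obtain ⟨b, hb⟩ := (ConcreteCategory.bijective_of_isIso (f.app ⊤)).2 a
      have hb' : IsIdempotentElem b := (ConcreteCategory.bijective_of_isIso (f.app ⊤)).1
        (by rw [map_mul, hb]; exact ha)
      rcases IsIdempotentElem.iff_eq_zero_or_one.1 hb' with rfl | rfl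
      · left
        rw [show a = 0 from hb.symm.trans (map_zero _), Scheme.basicOpen_zero]; rfl
      · right
        rw [show a = 1 from hb.symm.trans (map_one _), Scheme.basicOpen_of_isUnit _ isUnit_one]; rfl
    obtain ⟨z⟩ := ‹Nonempty Xt›
    have hC := irreducibleComponent_mem_irreducibleComponents z
    rcases hconn _ ⟨isClosed_of_mem_irreducibleComponents _ hC,
      Groth.Variety2.isOpen_irreducibleComponents hd hC⟩ with h | h
    · exact absurd (mem_irreducibleComponent (x := z)) (h ▸ Set.notMem_empty z)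
    · exact ⟨h ▸ isIrreducible_irreducibleComponent.2⟩
  have : IrreducibleSpace Xt := { toNonempty := ‹_› }
  have : IsIntegral Xt := isIntegral_of_irreducibleSpace_of_isReduced Xt
  have hdom : f.base (genericPoint Xt) ⤳ genericPoint X := by
    rw [specializes_iff_forall_open]
    intro O hO hmem
    by_contra hξ
    let O' : X.Opens := ⟨O, hO⟩
    have he : f ⁻¹ᵁ O' = ⊥ := SetLike.ext' (Set.eq_empty_iff_forall_notMem.2 fun z hz =>
      hξ (((genericPoint_spec Xt).specializes (Set.mem_univ z)).mem_open (f ⁻¹ᵁ O').2 hz))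
    have : Subsingleton Γ(Xt, f ⁻¹ᵁ O') :=
      CommRingCat.subsingleton_of_isTerminal (Xt.sheaf.isTerminalOfEqEmpty he)
    have := hfib O'
    have : Nonempty O' := ⟨⟨_, hmem⟩⟩
    exact one_ne_zero ((ConcreteCategory.bijective_of_isIso (f.app O')).1
      (Subsingleton.elim _ _) : (1 : Γ(X, O')) = 0)
  intro x
  refine ⟨inferInstance, ?_⟩
  rw [isIntegrallyClosed_iff X.functionField]
  intro z hz
  obtain ⟨_, ⟨W, hW, rfl⟩, hxW, -⟩ :=
    X.isBasis_affineOpens.exists_subset_of_mem_open (Set.mem_univ x) isOpen_univ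
  replace hW : IsAffineOpen W := hW
  let xW : W := ⟨x, hxW⟩
  have : Nonempty W := ⟨xW⟩
  let _ : Algebra Γ(X, W) (X.presheaf.stalk x) := (X.presheaf.germ W x hxW).hom.toAlgebra
  have : IsLocalization.AtPrime (X.presheaf.stalk x) (hW.primeIdealOf xW).asIdeal := hW.isLocalization_stalk xW
  have : IsScalarTower Γ(X, W) (X.presheaf.stalk x) X.functionField := functionField_isScalarTower X W xW
  obtain ⟨⟨m, hm⟩, hmz⟩ := hz.exists_multiple_integral_of_isLocalization (hW.primeIdealOf xW).asIdeal.primeCompl z
  have : Nonempty (f ⁻¹ᵁ W) := ⟨⟨_, hdom.mem_open W.2 (((genericPoint_spec X).mem_open_set_iff W.2).2 ⟨x, trivial, hxW⟩)⟩⟩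
  let σ₀ := CohIII.stalkToFunctionField f (genericPoint X) hdom
  obtain ⟨s, hs⟩ := Groth.Variety2.exists_section_of_forall_stalk (f ⁻¹ᵁ W) (σ₀ (m • z)) fun w hw => by
    let _ := (Xt.presheaf.germ (f ⁻¹ᵁ W) w hw).hom.toAlgebra
    have : IsScalarTower Γ(Xt, f ⁻¹ᵁ W) (Xt.presheaf.stalk w) Xt.functionField :=
      functionField_isScalarTower Xt (f ⁻¹ᵁ W) ⟨w, hw⟩
    have := (hXt w).2
    refine IsIntegrallyClosed.isIntegral_iff.1 (IsIntegral.tower_top (R := Γ(Xt, f ⁻¹ᵁ W)) ?_)
    exact hmz.map_of_comp_eq (f.app W).hom σ₀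
      (RingHom.ext fun a => Groth.HensPair.germ_app_eq f hdom a)
  have := hfib W
  obtain ⟨a, rfl⟩ := (ConcreteCategory.bijective_of_isIso (f.app W)).2 s
  have hinj : Function.Injective σ₀ := σ₀.injective
  rw [Groth.HensPair.germ_app_eq f hdom a] at hs
  refine ⟨IsLocalization.mk' _ a (⟨m, hm⟩ : (hW.primeIdealOf xW).asIdeal.primeCompl), ?_⟩
  have hmu : IsUnit (algebraMap Γ(X, W) (X.presheaf.stalk x) m) :=
    IsLocalization.map_units _ (⟨m, hm⟩ : (hW.primeIdealOf xW).asIdeal.primeCompl)
  refine (hmu.map (algebraMap (X.presheaf.stalk x) X.functionField)).mul_left_cancel ?_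
  rw [← map_mul, IsLocalization.mk'_spec' (X.presheaf.stalk x) a (⟨m, hm⟩ : (hW.primeIdealOf xW).asIdeal.primeCompl), ← IsScalarTower.algebraMap_apply,
    ← IsScalarTower.algebraMap_apply, ← Algebra.smul_def]
  exact hinj hs

end Groth.Agent.S20014
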