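import Groth.Statements.S20016
import Groth.Agent.ModPairs.Mprod
import Groth.Agent.MiscGeom.IntClosedEtale
import Mathlib.AlgebraicGeometry.Morphisms.Etale
-- import your own Groth.Agent.* helpers here

set_option autoImplicit false
universe u
open CategoryTheory AlgebraicGeometry TopologicalSpace Opposite
open ModPair

namespace Groth.Agent.S20016

/-- Let (X, I_X) be a modulus pair — a scheme X with the quasi-coherent ideal sheaf I_X of an effective
Cartier divisor — with interior X° (the open complement of the support of I_X), and suppose O_X is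
integrally closed in O_{X°}: for every affine open U of X, every section of O_X over U ∩ X° which is
integral over Γ(U, O_X) along the restriction map is the restriction of a section over U. Let g : Y
⟶ X be an étale morphism and Y° = g⁻¹(X°). Then O_Y is integrally closed in O_{Y°}: for every affine
open V of Y, every section of O_Y over V ∩ Y° which is integral over Γ(V, O_Y) along the restriction
map is the restriction of a section over V. (The text does not spell out the phrase integrally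
closed for sheaves; it is rendered here affine-locally through restriction maps.) -/
theorem result {X Y : Scheme.{u}}
    (IX : X.IdealSheafData) (hX : BlowUp.IsEffCartierIdeal IX)
    (hint : ∀ U ∈ X.affineOpens, ∀ s : Γ(X, U ⊓ ModPair.interior IX),
      (X.presheaf.map (homOfLE (inf_le_left : U ⊓ ModPair.interior IX ≤ U)).op).hom.IsIntegralElem s →
        s ∈ Set.range (X.presheaf.map (homOfLE (inf_le_left : U ⊓ ModPair.interior IX ≤ U)).op).hom)
    (g : Y ⟶ X) [Etale g] :
    ∀ V ∈ Y.affineOpens, ∀ t : Γ(Y, V ⊓ g ⁻¹ᵁ ModPair.interior IX),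
      (Y.presheaf.map (homOfLE (inf_le_left : V ⊓ g ⁻¹ᵁ ModPair.interior IX ≤ V)).op).hom.IsIntegralElem t →
        t ∈ Set.range (Y.presheaf.map (homOfLE (inf_le_left : V ⊓ g ⁻¹ᵁ ModPair.interior IX ≤ V)).op).hom := by
  intro V hV t ht
  let W : Y.Opens := g ⁻¹ᵁ ModPair.interior IX
  have hYE : BlowUp.IsEffCartierIdeal (IX.comap g) := Groth.Divisors.isEffCartierIdeal_comap_flat hX g
  haveI hdom : IsSchemeTheoreticallyDominant W.ι := by
    rw [show W = ModPair.interior (IX.comap g) from (Groth.ModPairs.interior_comap g IX).symm]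
    exact Groth.ModPairs.dominant_interior hYE
  haveI : IsAffineHom W.ι := by
    haveI := Groth.ModPairs.isAffineHom_interior hX
    exact Groth.ModPairs.isAffineHom_preimage g (ModPair.interior IX)
  -- local lifts
  have hloc : ∀ y : V, ∃ (V' : Y.Opens) (i : V' ⟶ V) (s : Γ(Y, V')), (y : Y) ∈ V' ∧
      Y.presheaf.map (homOfLE (inf_le_left : V' ⊓ W ≤ V')).op s =
        Y.presheaf.map (homOfLE (inf_le_inf_right W i.le : V' ⊓ W ≤ V ⊓ W)).op t := by
    intro y
    obtain ⟨U, hyU, -, f, -, hfI⟩ := Groth.Divisors.exists_generator hX (g y.1) ⊤ trivial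
    obtain ⟨r, hrU, hyr⟩ := IsAffineOpen.exists_basicOpen_le hV (V := g ⁻¹ᵁ U.1) ⟨y.1, hyU⟩ y.2
    let V' : Y.Opens := Y.basicOpen r
    have hV' : IsAffineOpen V' := hV.basicOpen r
    let φ := g.appLE U.1 V' hrU
    have hWX : U.1 ⊓ ModPair.interior IX = X.basicOpen f := by
      ext z
      refine ⟨fun ⟨hzU, hz⟩ => (X.mem_basicOpen f z hzU).2 ((Groth.Divisors.not_mem_support_iff hfI hzU).1 hz), fun hz => ?_⟩
      have hzU := X.basicOpen_le f hz
      exact ⟨hzU, (Groth.Divisors.not_mem_support_iff hfI hzU).2 ((X.mem_basicOpen f z hzU).1 hz)⟩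
    have hWY : V' ⊓ W = Y.basicOpen (φ f) := by
      rw [show φ f = Y.presheaf.map (homOfLE hrU).op (g.app U.1 f) from rfl, Scheme.basicOpen_res,
        ← Scheme.preimage_basicOpen, ← hWX]
      exact le_antisymm (fun z hz => ⟨hz.1, hrU hz.1, hz.2⟩) fun z hz => ⟨hz.1, hz.2.2⟩
    have hle : V' ⊓ W ≤ g ⁻¹ᵁ (U.1 ⊓ ModPair.interior IX) := fun z hz => ⟨hrU hz.1, hz.2⟩
    let ρX := X.presheaf.map (homOfLE (inf_le_left : U.1 ⊓ ModPair.interior IX ≤ U.1)).op
    let ρY := Y.presheaf.map (homOfLE (inf_le_left : V' ⊓ W ≤ V')).op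
    let j := Y.presheaf.map (homOfLE (inf_le_inf_right W (Y.basicOpen_le r) : V' ⊓ W ≤ V ⊓ W)).op
    have hsm : φ.hom.Etale := HasRingHomProperty.appLE @Etale g inferInstance U ⟨V', hV'⟩ hrU
    letI : Algebra Γ(X, U.1) Γ(Y, V') := φ.hom.toAlgebra
    haveI : Algebra.Etale Γ(X, U.1) Γ(Y, V') := hsm
    letI : Algebra Γ(X, U.1) Γ(X, U.1 ⊓ ModPair.interior IX) := ρX.hom.toAlgebra
    letI : Algebra Γ(Y, V') Γ(Y, V' ⊓ W) := ρY.hom.toAlgebra
    haveI : IsLocalization.Away f Γ(X, U.1 ⊓ ModPair.interior IX) := U.2.isLocalization_of_eq_basicOpen f _ hWX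
    haveI : IsLocalization.Away (algebraMap Γ(X, U.1) Γ(Y, V') f) Γ(Y, V' ⊓ W) :=
      hV'.isLocalization_of_eq_basicOpen (φ f) _ hWY
    have hint' : IsIntegral Γ(Y, V') (j t : Γ(Y, V' ⊓ W)) := by
      obtain ⟨P, hP, hPt⟩ := ht
      refine ⟨P.map (Y.presheaf.map (homOfLE (Y.basicOpen_le r)).op).hom, hP.map _, ?_⟩
      rw [Polynomial.eval₂_map]
      have h := congrArg j.hom hPt
      rw [map_zero, Polynomial.hom_eval₂] at h
      have hcomp : ρY.hom.comp (Y.presheaf.map (homOfLE (Y.basicOpen_le r)).op).hom =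
          j.hom.comp (Y.presheaf.map (homOfLE (inf_le_left : V ⊓ W ≤ V)).op).hom := by
        rw [← CommRingCat.hom_comp, ← CommRingCat.hom_comp, ← Functor.map_comp, ← Functor.map_comp]
        rfl
      show Polynomial.eval₂ (ρY.hom.comp _) _ P = 0
      rw [hcomp]
      exact h
    obtain ⟨s, hs⟩ := Groth.MiscGeom.mem_range_of_isIntegral_away Γ(X, U.1) Γ(Y, V')
      Γ(X, U.1 ⊓ ModPair.interior IX) Γ(Y, V' ⊓ W) f (fun l hl => hint U.1 U.2 l hl) _ hint'
    exact ⟨V', homOfLE (Y.basicOpen_le r), s, hyr, hs⟩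
  choose V' i s hmem hs using hloc
  have hcompat : TopCat.Presheaf.IsCompatible Y.presheaf V' s := fun a b => by
    rw [← sub_eq_zero]
    refine Groth.ModPairs.eq_zero_of_dominant W _ fun z hz hzW => ?_
    rw [map_sub, TopCat.Presheaf.germ_res_apply, TopCat.Presheaf.germ_res_apply, sub_eq_zero]
    have ha := congrArg (Y.presheaf.germ (V' a ⊓ W) z ⟨hz.1, hzW⟩) (hs a)
    have hb := congrArg (Y.presheaf.germ (V' b ⊓ W) z ⟨hz.2, hzW⟩) (hs b)
    rw [TopCat.Presheaf.germ_res_apply, TopCat.Presheaf.germ_res_apply] at ha hb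
    exact ha.trans hb.symm
  obtain ⟨S, hS, -⟩ := Y.sheaf.existsUnique_gluing' V' V i (fun z hz => TopologicalSpace.Opens.mem_iSup.2 ⟨⟨z, hz⟩, hmem ⟨z, hz⟩⟩) s hcompat
  refine ⟨S, Groth.Divisors.section_ext fun z hz => ?_⟩
  let a : V := ⟨z, hz.1⟩
  have ha := congrArg (Y.presheaf.germ (V' a ⊓ W) z ⟨hmem a, hz.2⟩) (hs a)
  rw [TopCat.Presheaf.germ_res_apply, TopCat.Presheaf.germ_res_apply] at ha
  have h2 := congrArg (Y.presheaf.germ (V' a) z (hmem a)) (hS a)
  erw [TopCat.Presheaf.germ_res_apply] at h2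
  rw [TopCat.Presheaf.germ_res_apply]
  exact h2.trans ha

end Groth.Agent.S20016
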