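import Groth.Statements.S20017
import Groth.Agent.TorsNormal.Extend
import Groth.Agent.TorsProper.Main

set_option autoImplicit false
universe u
open CategoryTheory AlgebraicGeometry
open NonAbH1

namespace Groth.Agent.S20017

/-- Let X be a normal integral scheme (integral, with every local ring integrally closed), G a group
scheme over X whose structure morphism is finite and flat, and U ⊆ X a dense open subscheme. Then
the restriction map H¹(X, G) → H¹(U, G|_U) on classes of fppf G-torsors — X-schemes with a G-action
which are pseudo-torsors and acquire sections on the members of some fppf covering family, up to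
equivariant isomorphism — given by base change along the open immersion U → X, is injective. (G is
not assumed commutative; injectivity is that of a map of pointed sets.) -/
theorem result
    (X : Scheme.{u}) [AlgebraicGeometry.IsIntegral X] (hX : Pi1.IsNormalScheme X)
    (G : Over X) [GrpObj G] [IsFinite G.hom] [Flat G.hom]
    (U : X.Opens) (hU : Dense (U : Set X)) :
    Function.Injective (NonAbH1.H1Sch.bcMap U.ι G Scheme.fppfPrecoverage) := by
  have hη : genericPoint X ∈ U := by
    obtain ⟨y, hy⟩ := hU.nonempty
    exact ((genericPoint_spec X).specializes (Set.mem_univ y)).mem_open U.2 hy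
  have hr : Set.range (X.fromSpecStalk (genericPoint X)) ⊆ Set.range U.ι := by
    rw [Scheme.range_fromSpecStalk, Scheme.Opens.range_ι]
    exact fun z hz => hz.mem_open U.2 hη
  let cU := IsOpenImmersion.lift U.ι (X.fromSpecStalk (genericPoint X)) hr
  haveI : MorphismProperty.IsLocalAtTarget (@IsFinite.{u}) Scheme.fppfPrecoverage :=
    Groth.AlgSpBasic.isLocalAtTarget_fppf _
  intro x y h
  induction x using Quot.ind with
  | mk P =>
    induction y using Quot.ind with
    | mk Q =>
      obtain ⟨e⟩ := (Groth.TorsProper.equivIso_equivalence _).eqvGen_iff.1 (Quot.eqvGen_exact h)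
      haveI : IsFinite P.X.hom := Groth.NeronArea.property_of_isLocallyTrivial P.act P.isTorsor.1 @IsFinite P.isTorsor.2 inferInstance
      haveI : IsFinite Q.X.hom := Groth.NeronArea.property_of_isLocallyTrivial Q.act Q.isTorsor.1 @IsFinite Q.isTorsor.2 inferInstance
      haveI : Flat P.X.hom := Groth.NeronArea.property_of_isLocallyTrivial P.act P.isTorsor.1 @Flat P.isTorsor.2 inferInstance
      haveI : Flat Q.X.hom := Groth.NeronArea.property_of_isLocallyTrivial Q.act Q.isTorsor.1 @Flat Q.isTorsor.2 inferInstance
      haveI : Surjective P.X.hom := Groth.NeronArea.surjective_of_isLocallyTrivial P.isTorsor.2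
      haveI : Surjective Q.X.hom := Groth.NeronArea.surjective_of_isLocallyTrivial Q.isTorsor.2
      exact Quot.sound (Groth.TorsNormal.nonempty_equivIso U.ι hX cU
        (IsOpenImmersion.lift_fac _ _ _) P.isTorsor.1 Q.isTorsor.1 e)

end Groth.Agent.S20017
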