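import Groth.Statements.S20018
import Mathlib

set_option autoImplicit false
open CAlg

namespace Groth.Agent.S20018

open PowerSeries in
/-- Product expansion of big Witt vectors: let R be a commutative ring and x ∈ 1 + tR[[t]] a formal
power series with constant term 1. Then x can be written uniquely as an infinite product ∏_{i ≥ 1}
(1 - α_i t^i) with α_i ∈ R. The infinite product is expressed through its truncations: there is a
unique sequence α : ℕ → R (α i standing for the coefficient attached to t^{i+1}) such that for every
N the series x and the finite product ∏_{i=0}^{N} (1 - α_i t^{i+1}) agree modulo t^{N+2}. -/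
theorem result
    (R : Type*) [CommRing R] (x : PowerSeries R) (hx : PowerSeries.constantCoeff x = 1) :
    ∃! α : ℕ → R, ∀ N : ℕ,
      PowerSeries.trunc (N + 2) x =
        PowerSeries.trunc (N + 2) (∏ i ∈ Finset.range (N + 1),
          (1 - PowerSeries.C (α i) * PowerSeries.X ^ (i + 1) : PowerSeries R)) := by
  classical
  let Pr : (ℕ → R) → ℕ → PowerSeries R := fun α N =>
    ∏ i ∈ Finset.range N, (1 - PowerSeries.C (α i) * PowerSeries.X ^ (i + 1))
  have hlow : ∀ (α : ℕ → R) (N k : ℕ), k ≤ N →
      PowerSeries.coeff k (Pr α (N + 1)) = PowerSeries.coeff k (Pr α N) := by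
    intro α N k hk
    have : Pr α (N + 1) = Pr α N - Pr α N * PowerSeries.C (α N) * PowerSeries.X ^ (N + 1) := by
      simp only [Pr]
      rw [Finset.prod_range_succ]
      ring
    rw [this, map_sub, PowerSeries.coeff_mul_X_pow', if_neg (by omega), sub_zero]
  have hstab : ∀ (α : ℕ → R) (M N k : ℕ), k ≤ N → N ≤ M →
      PowerSeries.coeff k (Pr α M) = PowerSeries.coeff k (Pr α N) := by
    intro α M N k hk hNM
    induction M, hNM using Nat.le_induction with
    | base => rfl
    | succ M hNM ih => rw [hlow α M k (hk.trans hNM), ih]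
  have hc0 : ∀ (α : ℕ → R) (N : ℕ), PowerSeries.coeff 0 (Pr α N) = 1 := by
    intro α N
    rw [hstab α N 0 0 le_rfl (Nat.zero_le _)]
    simp [Pr]
  have htop : ∀ (α : ℕ → R) (N : ℕ), PowerSeries.coeff (N + 1) (Pr α (N + 1)) =
      PowerSeries.coeff (N + 1) (Pr α N) - α N := by
    intro α N
    have : Pr α (N + 1) = Pr α N - Pr α N * PowerSeries.C (α N) * PowerSeries.X ^ (N + 1) := by
      simp only [Pr]
      rw [Finset.prod_range_succ]
      ring
    rw [this, map_sub, PowerSeries.coeff_mul_X_pow', if_pos le_rfl, Nat.sub_self,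
      PowerSeries.coeff_mul_C, hc0, one_mul]
  have hchar : ∀ α : ℕ → R, (∀ N : ℕ, PowerSeries.trunc (N + 2) x =
        PowerSeries.trunc (N + 2) (Pr α (N + 1))) ↔
      ∀ N, α N = PowerSeries.coeff (N + 1) (Pr α N) - PowerSeries.coeff (N + 1) x := by
    intro α
    constructor
    · intro h N
      have := congrArg (fun p => Polynomial.coeff p (N + 1)) (h N)
      simp only [PowerSeries.coeff_trunc, show N + 1 < N + 2 by omega, if_true, htop] at this
      rw [this]
      ring
    · intro h N
      refine Polynomial.ext fun k => ?_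
      simp only [PowerSeries.coeff_trunc]
      split_ifs with hk
      · rcases k with _ | k
        · rw [hc0, ← hx, PowerSeries.coeff_zero_eq_constantCoeff_apply]
        · rw [hstab α (N + 1) (k + 1) (k + 1) le_rfl (by omega), htop, h k]
          ring
      · rfl
  have hcongr : ∀ (α β : ℕ → R) (N : ℕ), (∀ i < N, α i = β i) → Pr α N = Pr β N := fun α β N h =>
    Finset.prod_congr rfl fun i hi => by rw [h i (Finset.mem_range.1 hi)]
  let P : ℕ → PowerSeries R := fun N => Nat.rec (motive := fun _ => PowerSeries R) 1
    (fun N Q => Q * (1 - PowerSeries.C (PowerSeries.coeff (N + 1) Q - PowerSeries.coeff (N + 1) x) *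
      PowerSeries.X ^ (N + 1))) N
  let a : ℕ → R := fun N => PowerSeries.coeff (N + 1) (P N) - PowerSeries.coeff (N + 1) x
  have hP : ∀ N, P N = Pr a N := by
    intro N
    induction N with
    | zero => simp [P, Pr]
    | succ N ih =>
      show P N * (1 - PowerSeries.C (a N) * PowerSeries.X ^ (N + 1)) = _
      rw [ih]
      simp [Pr, Finset.prod_range_succ]
  refine ⟨a, (hchar a).2 fun N => by rw [← hP], fun β hβ => funext fun N => ?_⟩
  induction N using Nat.strong_induction_on with
  | _ N ih =>
    rw [(hchar β).1 hβ N, hcongr β a N ih, ← hP]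

end Groth.Agent.S20018
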