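import Groth.Statements.S20019
import Groth.Agent.Hopf.CharEigen
import Groth.Agent.Hopf.IntegralFinite
import Groth.Agent.Hopf.SmoothHopf
import Groth.Agent.Calg4.SmoothReduced

set_option autoImplicit false
open scoped TensorProduct
open HopfRep

namespace Groth.Agent.S20019

open Groth.ComodLib in
theorem main (A B : Type) [CommRing A] [HopfAlgebra ℂ A] [Algebra.FiniteType ℂ A]
    [CommRing B] [HopfAlgebra ℂ B] [Algebra.FiniteType ℂ B] [IsReduced B]
    (π : A →ₐc[ℂ] B) (hπ : Function.Surjective π) :
    ∃ F : Finset B, (↑F : Set B) ⊆ charSet ℂ B ∧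
      (↑(Submodule.span ℂ (charSet ℂ B)) : Set B) ⊆
        ↑(Submodule.span (Algebra.adjoin ℂ (π '' charSet ℂ A)) (↑F : Set B)) := by
  classical
  obtain ⟨n, p, hp⟩ := exists_surjective_bialgHom_GLn (k := ℂ) (A := A)
  let W₀ : Matrix (Fin n) (Fin n) (CoordGrp.GLn n ℂ) := CoordGrp.GLn.genMat n ℂ
  have hW₀ : IsComultMat ℂ W₀ := (isComultMat_iff _).2
    ⟨fun i j => CoordGrp.GLn.comul_X i j, fun i j => CoordGrp.GLn.counit_X i j⟩
  let W := (W₀.map p).map π
  let D : B := π (p CoordGrp.GLn.Dinv)
  have hW : IsComultMat ℂ W := (hW₀.map p).map π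
  have hD1 : IsComultMat ℂ (Matrix.of fun _ _ : Fin 1 => p CoordGrp.GLn.Dinv) := by
    rw [isComultMat_iff]
    refine ⟨fun i j => ?_, fun i j => ?_⟩
    · rw [Matrix.of_apply, ← CoalgHomClass.map_comp_comul_apply p, CoordGrp.GLn.comul_Dinv]
      simp
    · rw [Matrix.of_apply, CoalgHomClass.counit_comp_apply p, CoordGrp.GLn.counit_Dinv, Subsingleton.elim i j, if_pos rfl]
  have hD : Coalgebra.comul (R := ℂ) D = D ⊗ₜ[ℂ] D := by
    have := ((isComultMat_iff _).1 (hD1.map π)).1 0 0
    simpa [D] using this
  have hgen : Algebra.adjoin ℂ (insert D (Set.range fun q : Fin n × Fin n => W q.1 q.2)) = ⊤ := by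
    refine top_le_iff.1 fun y hy => ?_
    clear hy
    obtain ⟨a, rfl⟩ := hπ y
    obtain ⟨z, rfl⟩ := hp a
    obtain ⟨w, rfl⟩ := Ideal.Quotient.mk_surjective z
    let f : CoordGrp.GLb n ℂ →ₐ[ℂ] B :=
      ((BialgHom.toAlgHom π).comp (BialgHom.toAlgHom p)).comp (CoordGrp.GLn.mk n ℂ)
    let f' : MvPolynomial (CoordGrp.GLPoly.Idx n) ℂ →ₐ[ℂ] B := f
    suffices H : ∀ v : MvPolynomial (CoordGrp.GLPoly.Idx n) ℂ,
        f' v ∈ Algebra.adjoin ℂ (insert D (Set.range fun q : Fin n × Fin n => W q.1 q.2)) from H w
    intro v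
    induction v using MvPolynomial.induction_on with
    | C a =>
      rw [← MvPolynomial.algebraMap_eq, f'.commutes]
      exact Subalgebra.algebraMap_mem _ a
    | add u v hu hv =>
      rw [map_add]
      exact Subalgebra.add_mem _ hu hv
    | mul_X u s hu =>
      rw [map_mul]
      refine Subalgebra.mul_mem _ hu (Algebra.subset_adjoin ?_)
      rcases s with ⟨i, j⟩ | ⟨⟩
      · exact Set.mem_insert_of_mem _ ⟨(i, j), rfl⟩
      · exact Set.mem_insert _ _
  have : Algebra.FiniteType ℂ (baseAlg ℂ W D) := finiteType_baseAlg W D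
  have : IsNoetherianRing (baseAlg ℂ W D) := Algebra.FiniteType.isNoetherianRing ℂ _
  have hle : baseAlg ℂ W D ≤ Algebra.adjoin ℂ (π '' charSet ℂ A) := by
    refine Algebra.adjoin_le ?_
    rintro x (rfl | ⟨⟨j, hj⟩, rfl⟩)
    · refine Algebra.subset_adjoin ⟨p CoordGrp.GLn.Dinv, ?_, rfl⟩
      have := trace_mem_charSet hD1
      simpa [Matrix.trace] using this
    · cases j with
      | zero => simp
      | succ j =>
        have h1 : (W ^ (j + 1)).trace = π ((W₀.map p ^ (j + 1)).trace) := by
          change ((((BialgHom.toAlgHom π).toRingHom).mapMatrix (W₀.map p)) ^ (j + 1)).trace = _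
          rw [← map_pow]
          simp [Matrix.trace, Matrix.diag, map_sum]
        change (W ^ (j + 1)).trace ∈ _
        rw [h1]
        have h2 := trace_pow_succ_mem_span (hW₀.map p) j
        have h3 : Submodule.span ℂ (charSet ℂ A) ≤
            (Algebra.adjoin ℂ (π '' charSet ℂ A)).toSubmodule.comap (BialgHom.toAlgHom π).toLinearMap :=
          Submodule.span_le.2 fun a ha => Algebra.subset_adjoin ⟨a, ha, rfl⟩
        exact h3 h2
  have := finite_integralClosure_reduced (baseAlg ℂ W D)
  have hint : charSet ℂ B ⊆ (integralClosure (baseAlg ℂ W D) B : Set B) := by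
    rintro _ ⟨d, V, hV, rfl⟩
    exact isIntegral_trace hW hD hgen hV
  have hN : (Submodule.span (baseAlg ℂ W D) (charSet ℂ B)).FG :=
    Submodule.FG.of_le (Module.Finite.iff_fg.1 (this :
      Module.Finite (baseAlg ℂ W D) (integralClosure (baseAlg ℂ W D) B).toSubmodule)) ((Submodule.span_le (p := (integralClosure (baseAlg ℂ W D) B).toSubmodule)).2 hint)
  obtain ⟨F, hF, hspan⟩ := (Submodule.fg_span_iff_fg_span_finset_subset _).1 hN
  refine ⟨F, hF, ?_⟩
  let R' := Algebra.adjoin ℂ (π '' charSet ℂ A)
  have key : ∀ x ∈ Submodule.span (baseAlg ℂ W D) (F : Set B), x ∈ Submodule.span R' (F : Set B) := by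
    intro x hx
    induction hx using Submodule.span_induction with
    | mem y hy => exact Submodule.subset_span hy
    | zero => exact Submodule.zero_mem _
    | add y z _ _ hy hz => exact Submodule.add_mem _ hy hz
    | smul c y _ hy =>
      rw [show c • y = (⟨c.1, hle c.2⟩ : R') • y from rfl]
      exact Submodule.smul_mem _ _ hy
  change Submodule.span ℂ (charSet ℂ B) ≤ (Submodule.span R' (F : Set B)).restrictScalars ℂ
  exact Submodule.span_le.2 fun x hx => key x (hspan ▸ Submodule.subset_span hx)



/-- Let A → B be a surjective homomorphism of finitely generated commutative Hopf algebras over the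
complex numbers, that is a closed embedding H ↪ G of complex linear algebraic groups with G = Spec A
and H = Spec B. For a comodule structure on the coordinate space ℂ^d with coaction e_i ↦ Σ_j e_j ⊗
a_ji, its character is Σ_i a_ii. Then R(H) is a finite R(G)-module, with the complexified
representation rings realised inside the coordinate rings by characters: there are finitely many
characters f_1, …, f_r of H-comodule structures such that every ℂ-linear combination of characters
of H-comodule structures on coordinate spaces is of the form Σ_j s_j f_j with each s_j in the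
ℂ-subalgebra of B generated by the images of the characters of G-comodule structures on coordinate
spaces. (The representation rings of the published statement are rendered through characters; over
the complex numbers the characters of pairwise non-isomorphic simple comodules are linearly
independent, so the span of characters is the complexified representation ring.) -/
theorem result
    (A B : Type) [CommRing A] [HopfAlgebra ℂ A] [Algebra.FiniteType ℂ A]
    [CommRing B] [HopfAlgebra ℂ B] [Algebra.FiniteType ℂ B]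
    (π : A →ₐc[ℂ] B) (hπ : Function.Surjective π) :
    ∃ F : Finset B,
      (↑F : Set B) ⊆ Set.range (fun p : (Σ d : ℕ, HopfRep.Comod ℂ B (Fin d → ℂ)) =>
          ∑ i : Fin p.1, TensorProduct.lid ℂ B (LinearMap.rTensor B (LinearMap.proj i)
            (@HopfRep.Comod.coact ℂ B _ _ _ _ (Fin p.1 → ℂ) _ _ p.2 (Pi.single i 1)))) ∧
      (↑(Submodule.span ℂ (Set.range (fun p : (Σ d : ℕ, HopfRep.Comod ℂ B (Fin d → ℂ)) =>
          ∑ i : Fin p.1, TensorProduct.lid ℂ B (LinearMap.rTensor B (LinearMap.proj i)
            (@HopfRep.Comod.coact ℂ B _ _ _ _ (Fin p.1 → ℂ) _ _ p.2 (Pi.single i 1)))))) : Set B) ⊆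
        ↑(Submodule.span (Algebra.adjoin ℂ (π '' Set.range (fun p : (Σ d : ℕ, HopfRep.Comod ℂ A (Fin d → ℂ)) =>
          ∑ i : Fin p.1, TensorProduct.lid ℂ A (LinearMap.rTensor A (LinearMap.proj i)
            (@HopfRep.Comod.coact ℂ A _ _ _ _ (Fin p.1 → ℂ) _ _ p.2 (Pi.single i 1))))))
          (↑F : Set B)) := by
  have : Algebra.Smooth ℂ B := Groth.ComodLib.smooth_of_hopfAlgebra_charZero ℂ B
  have : IsReduced B := Groth.Calg4.isReduced_of_smooth_field ℂ B
  have hA := Groth.ComodLib.range_char_eq ℂ A
  have hB := Groth.ComodLib.range_char_eq ℂ B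
  erw [hA, hB]
  open Groth.ComodLib in
  exact main A B π hπ

end Groth.Agent.S20019
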