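import Groth.Statements.S20027
import Groth.Agent.GrMod.Veronese.Type
import Groth.Agent.GrMod.Polynomial
import Groth.Agent.GrMod.PolynomialRing
import Groth.Agent.GrSyz.Ring
import Mathlib.RingTheory.MvPolynomial.Homogeneous

set_option autoImplicit false
universe u
open GrLC

namespace Groth.Agent.S20027

/-- Let k be a field, s ≥ 1, d ≥ 1, and R = k[X_1, …, X_s] graded with every variable in degree 1.
Present the Veronese subring R^(d) = ⊕_j R_{jd} as a commutative ring R' with an injective ring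
homomorphism φ : R' → R whose image is the set of polynomials whose homogeneous components in all
degrees not divisible by d are zero, and let m' be the maximal ideal of R' that is the preimage of
the ideal of polynomials with zero constant term (the irrelevant ideal of R^(d)). Let n be the least
integer such that n ≥ s and d divides n. Then the type of R^(d), namely the Bass number μ_s(m', R')
= dim over the residue field of Ext^s over the local ring R'_{m'} from its residue field to R'_{m'}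
(here s = dim R'), equals the binomial coefficient (n − 1 choose s − 1). -/
theorem result (k : Type u) [Field k] (s d : ℕ) (hs : 1 ≤ s)
    (hd : 1 ≤ d) (R' : Type u) [CommRing R'] (φ : R' →+* MvPolynomial (Fin s) k)
    (hφ : Function.Injective φ)
    (hrange : ∀ p : MvPolynomial (Fin s) k, p ∈ φ.range ↔
      ∀ j : ℕ, ¬ d ∣ j → MvPolynomial.homogeneousComponent j p = 0)
    (m' : Ideal R') [m'.IsMaximal]
    (hm' : m' = Ideal.comap φ (RingHom.ker (MvPolynomial.constantCoeff : MvPolynomial (Fin s) k →+* k)))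
    (n : ℕ) (hsn : s ≤ n) (hdn : d ∣ n) (hmin : ∀ n' : ℕ, s ≤ n' → d ∣ n' → n ≤ n') :
    GrLC.bassNum m' R' s = (Nat.choose (n - 1) (s - 1) : ℕ∞) := by
  classical
  obtain ⟨r, rfl⟩ : ∃ r, s = r + 1 := ⟨s - 1, by omega⟩
  have hw : ∀ _ : Fin (r + 1), (0 : ℤ) < 1 := fun _ => one_pos
  let R := MvPolynomial (Fin (r + 1)) k
  let 𝒮 := GrSyz.stdGr k (Fin (r + 1))
  let 𝒜 : ℤ → AddSubgroup R := GrothGr.agr 𝒮
  haveI : LocCoh.IsGorensteinRing R := GrothGr.isGorensteinRing_mvPolynomial k (r + 1)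
  haveI : LocCoh.IsCohenMacaulayRing R := GrothGr.isCohenMacaulayRing_mvPolynomial k (r + 1)
  have hpos : ∀ j : ℤ, j < 0 → 𝒜 j = ⊥ := fun j hj =>
    GrothGr.agr_weighted_neg k (r + 1) (fun _ => (1 : ℤ)) hw hj
  have h0 : IsField (GrLC.deg0 𝒜) := GrothGr.isField_deg0_weighted k (r + 1) (fun _ => (1 : ℤ)) hw
  let m : HomogeneousIdeal 𝒜 := GrothGr.irrIdeal 𝒜
  have hmsp : m.toIdeal = Ideal.span (⋃ j ∈ Set.Ioi (0 : ℤ), (𝒜 j : Set R)) :=
    GrothGr.irrIdeal_toIdeal 𝒜
  have hm := GrothGr.isStarLocal_irrIdeal 𝒜 hpos h0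
  have hdim : ringKrullDim R = ((r + 1 : ℕ) : WithBot ℕ∞) := by
    rw [MvPolynomial.ringKrullDim_of_isNoetherianRing, ringKrullDim_eq_zero_of_field, zero_add,
      Nat.card_eq_fintype_card, Fintype.card_fin]
  have hstd : Ideal.span (⋃ j ∈ Set.Ioi (0 : ℤ), (𝒜 j : Set R)) =
      Ideal.span ((𝒜 1 : AddSubgroup R) : Set R) := by
    refine le_antisymm ?_ (Ideal.span_mono fun x hx => Set.mem_biUnion (Set.mem_Ioi.2 one_pos) hx)
    refine (GrothGr.irrelevant_eq_span_X k (r + 1) (fun _ => (1 : ℤ)) hw).le.trans (Ideal.span_mono ?_)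
    rintro _ ⟨i, rfl⟩
    exact (MvPolynomial.mem_weightedHomogeneousSubmodule k _ _ _).2
      (MvPolynomial.isWeightedHomogeneous_X k (fun _ => (1 : ℤ)) i)
  -- constants are the degree zero part
  let ι₀ : k →+* GrLC.deg0 𝒜 := (MvPolynomial.C : k →+* R).codRestrict (GrLC.deg0 𝒜) fun c =>
    (MvPolynomial.mem_weightedHomogeneousSubmodule k _ _ _).2
      (MvPolynomial.isWeightedHomogeneous_C (fun _ : Fin (r + 1) => (1 : ℤ)) c)
  have hι₀ : Function.Bijective ι₀ := by
    refine ⟨fun a b h => MvPolynomial.C_injective _ _ (congrArg Subtype.val h), fun x => ?_⟩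
    refine ⟨MvPolynomial.coeff 0 (x : R), Subtype.ext (MvPolynomial.ext _ _ fun e => ?_)⟩
    show MvPolynomial.coeff e (MvPolynomial.C (MvPolynomial.coeff 0 (x : R))) = _
    rcases eq_or_ne e 0 with rfl | he
    · rw [MvPolynomial.coeff_zero_C]
    · rw [MvPolynomial.coeff_C, if_neg (Ne.symm he)]
      by_contra hne
      exact he (GrothGr.eq_zero_of_weight_eq_zero (r + 1) (fun _ => (1 : ℤ)) hw
        ((MvPolynomial.mem_weightedHomogeneousSubmodule k _ _ _).1 x.2 (Ne.symm hne)))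
  let I := GrothGr.starRes 𝒜 𝒜
  have ha : GrLC.endDeg (I.Hgr m (r + 1)) =
      (((-((r + 1 : ℕ) : ℤ) : ℤ) : WithTop ℤ) : WithBot (WithTop ℤ)) :=
    GrothGr.endDeg_of_ringEquiv hpos h0 hm hmsp hstd hdim I
      (MvPolynomial.mapEquiv (Fin (r + 1)) (RingEquiv.ofBijective ι₀ hι₀))
  -- homogeneous components
  have hdeg : ∀ e : Fin (r + 1) →₀ ℕ,
      Finsupp.weight (fun _ : Fin (r + 1) => (1 : ℤ)) e = (e.degree : ℤ) := fun e => by
    simp [Finsupp.weight_apply, Finsupp.sum, Finsupp.degree_apply]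
  have hhom : ∀ (e : ℕ) (p : R), p ∈ 𝒜 e → p.IsHomogeneous e := fun e p hp c hc => by
    have h1 := (MvPolynomial.mem_weightedHomogeneousSubmodule k _ _ _).1 hp hc
    rw [hdeg] at h1
    rw [Finsupp.weight_apply]
    have h2 : c.degree = e := by exact_mod_cast h1
    simpa [Finsupp.sum, Finsupp.degree_apply] using h2
  have hcomp : ∀ (j : ℕ) (p : R), GrothGr.pr 𝒜 (j : ℤ) p = MvPolynomial.homogeneousComponent j p := by
    intro j p
    induction p using DirectSum.Decomposition.inductionOn 𝒜 with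
    | zero => simp
    | add a b ha hb => rw [map_add, map_add, ha, hb]
    | @homogeneous i x =>
      rcases lt_or_ge i 0 with hi | hi
      · have h := x.2
        have hx0 : (x : R) = 0 := AddSubgroup.mem_bot.1 (hpos i hi ▸ h)
        rw [hx0, map_zero, map_zero]
      · obtain ⟨e, rfl⟩ := Int.eq_ofNat_of_zero_le hi
        rw [MvPolynomial.homogeneousComponent_of_mem
          ((MvPolynomial.mem_homogeneousSubmodule _ _).2 (hhom e x x.2))]
        split_ifs with h
        · subst h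
          exact GrothGr.pr_of_mem 𝒜 x.2
        · exact GrothGr.pr_of_mem_ne 𝒜 x.2 fun h' => h (by exact_mod_cast h'.symm)
  -- the grading of the Veronese subring
  have hd' : (d : ℤ) ≠ 0 := by exact_mod_cast (show d ≠ 0 by omega)
  let 𝒜' : ℤ → AddSubgroup R' := fun j => (𝒜 (j * d)).comap (φ : R' →+ R)
  have hmem : ∀ j : ℤ, ∀ x ∈ 𝒜 (j * d), x ∈ φ.range := fun j x hx => by
    rw [hrange]
    intro i hi
    rw [← hcomp, GrothGr.pr_of_mem_ne 𝒜 hx]
    intro h
    exact hi (Int.natCast_dvd_natCast.1 ⟨j, by rw [← h, mul_comm]⟩)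
  have hint : DirectSum.IsInternal 𝒜' := by
    refine GrothGr.isInternal_of _ (fun x => ?_) fun t v hv hsum g hg => ?_
    · obtain ⟨t, -, ht⟩ := GrothGr.exists_sum_pr 𝒜 (φ x)
      have hx : ∀ g : ℤ, ¬ (d : ℤ) ∣ g → GrothGr.pr 𝒜 g (φ x) = 0 := fun g hg => by
        rcases lt_or_ge g 0 with hg0 | hg0
        · exact AddSubgroup.mem_bot.1 (hpos g hg0 ▸ GrothGr.pr_mem 𝒜 g (φ x))
        · obtain ⟨e, rfl⟩ := Int.eq_ofNat_of_zero_le hg0
          rw [hcomp]
          exact (hrange (φ x)).1 ⟨x, rfl⟩ e fun h => hg (Int.natCast_dvd_natCast.2 h)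
      choose! y hy using fun g : ℤ => fun hg : (d : ℤ) ∣ g =>
        hmem (g / d) (GrothGr.pr 𝒜 g (φ x))
          (by rw [Int.ediv_mul_cancel hg]; exact GrothGr.pr_mem 𝒜 g (φ x))
      have hxs : x = ∑ g ∈ t.filter (fun g : ℤ => (d : ℤ) ∣ g), y g := hφ (by
        rw [map_sum]
        refine Eq.trans ?_ (Finset.sum_congr rfl fun g hg => (hy g (Finset.mem_filter.1 hg).2).symm)
        rw [Finset.sum_filter_of_ne fun g _ hne => not_not.1 fun h => hne (hx g h), ht])
      rw [hxs]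
      refine sum_mem fun g hg => AddSubgroup.mem_iSup_of_mem (g / d) ?_
      show φ (y g) ∈ 𝒜 (g / d * d)
      rw [hy g (Finset.mem_filter.1 hg).2, Int.ediv_mul_cancel (Finset.mem_filter.1 hg).2]
      exact GrothGr.pr_mem 𝒜 g (φ x)
    · refine hφ ?_
      have h1 : GrothGr.pr 𝒜 (g * d) (φ (∑ i ∈ t, v i)) = φ (v g) := by
        rw [map_sum, map_sum]
        refine (Finset.sum_eq_single g (fun i _ hne => GrothGr.pr_of_mem_ne 𝒜 (hv i)
          fun h => hne (mul_right_cancel₀ hd' h)) (fun h => absurd hg h)).trans ?_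
        exact GrothGr.pr_of_mem 𝒜 (hv g)
      rw [← h1, hsum, map_zero, map_zero]
  letI : GradedRing 𝒜' :=
    { hint.chooseDecomposition with
      one_mem := by
        show φ 1 ∈ 𝒜 (0 * d)
        rw [map_one, zero_mul]
        exact SetLike.one_mem_graded 𝒜
      mul_mem := fun i j a b ha hb => by
        show φ (a * b) ∈ 𝒜 ((i + j) * d)
        rw [map_mul, add_mul]
        exact SetLike.mul_mem_graded (A := 𝒜) ha hb }
  have hV : GrothGr.Vero.IsVeroRing 𝒜 𝒜' φ d := by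
    refine ⟨hφ, hd, fun j => le_antisymm ?_ fun x hx => ?_⟩
    · rintro _ ⟨y, hy, rfl⟩
      exact hy
    · obtain ⟨y, rfl⟩ := hmem j x hx
      exact ⟨y, hx, rfl⟩
  have hpos' : ∀ j : ℤ, j < 0 → 𝒜' j = ⊥ := fun _ hj => GrothGr.Vero.pos_of_vero hV hpos hj
  have h0' := GrothGr.Vero.isField_deg0_vero hV h0
  haveI hmax' := GrothGr.isMaximal_irrelevant 𝒜' hpos' h0'
    (GrothGr.isStarLocal_irrIdeal 𝒜' hpos' h0') (GrothGr.irrIdeal_toIdeal 𝒜')
  have hm'eq : (GrothGr.irrIdeal 𝒜').toIdeal = m' := by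
    refine hmax'.eq_of_le (Ideal.IsMaximal.ne_top ‹_›) ?_
    rw [GrothGr.irrIdeal_toIdeal, Ideal.span_le, hm']
    intro x hx
    simp only [Set.mem_iUnion, SetLike.mem_coe, Set.mem_Ioi] at hx
    obtain ⟨j, hj, hxj⟩ := hx
    show MvPolynomial.constantCoeff (φ x) = 0
    rw [MvPolynomial.constantCoeff_eq]
    by_contra hne
    have h1 := (MvPolynomial.mem_weightedHomogeneousSubmodule k _ _ _).1 hxj hne
    rw [map_zero] at h1
    exact (mul_pos hj (by exact_mod_cast hd)).ne h1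
  subst hm'eq
  -- the residue of `a` modulo `d`
  have hnd : n - (r + 1) < d := by
    by_contra h
    push Not at h
    have := hmin (n - d) (by omega) (Nat.dvd_sub hdn (dvd_refl d))
    omega
  have hdvd : (d : ℤ) ∣ -((r + 1 : ℕ) : ℤ) - ((n - (r + 1) : ℕ) : ℤ) := by
    rw [Nat.cast_sub hsn, show -((r + 1 : ℕ) : ℤ) - ((n : ℤ) - ((r + 1 : ℕ) : ℤ)) = -(n : ℤ) by ring]
    exact dvd_neg.2 (Int.natCast_dvd_natCast.2 hdn)
  rw [GrothGr.Vero.bassNum_vero hV hpos h0 hm hmsp hstd hdim ha (GrothGr.irrIdeal 𝒜')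
    (GrothGr.irrIdeal_toIdeal 𝒜') (Int.natCast_nonneg _) (by exact_mod_cast hnd) hdvd]
  congr 1
  -- counting monomials
  let j : k →+* GrLC.deg0 𝒜 := ι₀
  let eA : 𝒮 ((n - (r + 1) : ℕ) : ℤ) ≃+ GrLC.comp 𝒜 𝒜 ((n - (r + 1) : ℕ) : ℤ) :=
    { toFun := fun x => ⟨(x : R), x.2⟩
      invFun := fun x => ⟨(x : R), x.2⟩
      left_inv := fun _ => rfl
      right_inv := fun _ => rfl
      map_add' := fun _ _ => rfl }
  have hrank := rank_eq_of_equiv_equiv j eA hι₀ (fun c x => Subtype.ext (by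
        show c • (x : R) = MvPolynomial.C c * (x : R)
        rw [MvPolynomial.smul_eq_C_mul]))
  have h1 : Module.finrank k (𝒮 ((n - (r + 1) : ℕ) : ℤ)) =
      Module.finrank (GrLC.deg0 𝒜) (GrLC.comp 𝒜 𝒜 ((n - (r + 1) : ℕ) : ℤ)) :=
    congrArg Cardinal.toNat hrank
  rw [← h1]
  have h2 := (Groth.GrSyzLib.finite_and_finrank_stdGr (k := k) r ((n - (r + 1) : ℕ) : ℤ)).2
  rw [if_pos (Int.natCast_nonneg _), Int.toNat_natCast] at h2
  rw [show n - 1 = r + (n - (r + 1)) by omega, show r + 1 - 1 = r by omega]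
  exact_mod_cast h2


end Groth.Agent.S20027
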