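import Groth.Statements.S2005
import Groth.Agent.EtaleAlgebra.GluePair

set_option autoImplicit false
universe u
open TensorProduct
open EtAlg

namespace Groth.Agent.S2005

/-- Let R -> R' induce bijections R/f^n R -> R'/f^n R' for all n > 0 and let M be an R-module. Then M is
glueable for (R -> R', f) if and only if m ↦ 1 ⊗ m maps the f-power torsion of M bijectively onto
the f-power torsion of R' ⊗_R M; and if (R -> R', f) is a glueing pair, injectivity on the f-power
torsion already suffices. -/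
theorem result (R R' : Type u) [CommRing R] [CommRing R'] [Algebra R R'] (f : R)
    (hq : EtGlue.QuotPowBijective R R' f) (M : Type u) [AddCommGroup M] [Module R M] :
    (EtGlue.IsGlueable R R' f M ↔
      ((∀ m : M, (∃ n : ℕ, f ^ n • m = 0) → (1 : R') ⊗ₜ[R] m = 0 → m = 0) ∧
       (∀ x : R' ⊗[R] M, (∃ n : ℕ, f ^ n • x = 0) → ∃ m : M, (∃ n : ℕ, f ^ n • m = 0) ∧ (1 : R') ⊗ₜ[R] m = x))) ∧
    (EtGlue.IsGlueingPair R R' f →
      (EtGlue.IsGlueable R R' f M ↔ ∀ m : M, (∃ n : ℕ, f ^ n • m = 0) → (1 : R') ⊗ₜ[R] m = 0 → m = 0)) := by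
  constructor
  · constructor
    · intro h
      exact ⟨Groth.EtaleAlgebra.Glue.torsInj_of_glueable h, Groth.EtaleAlgebra.Glue.torsSurj_of_glueable h⟩
    · rintro ⟨h1, h2⟩
      exact Groth.EtaleAlgebra.Glue.isGlueable_of hq h1 h2
  · intro h
    exact Groth.EtaleAlgebra.Glue.isGlueable_iff h

end Groth.Agent.S2005
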