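import Groth.Statements.S2007
import Groth.Agent.EtaleAlgebra.TorsionGlue
-- import your own Groth.Agent.* helpers here

set_option autoImplicit false
universe u
open TensorProduct
open EtAlg

namespace Groth.Agent.S2007

/-- Let R -> S be a flat ring map and I a finitely generated ideal of R such that R/I -> S/IS is
bijective. Let N be an R-module, M' an S-module and φ : M' -> S ⊗_R N an S-linear map whose kernel
and cokernel are I-power torsion (every element of the kernel, resp. of the target modulo the image,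
is killed by some power of I). Then there are an R-module M, an R-linear map ψ : M -> N and an
S-isomorphism S ⊗_R M ≅ M' identifying φ with the base change of ψ. -/
theorem result (R S : Type u) [CommRing R] [CommRing S] [Algebra R S] [Module.Flat R S] (I : Ideal R)
    (hI : I.FG) (hq : Function.Bijective (Ideal.quotientMap (I.map (algebraMap R S)) (algebraMap R S) Ideal.le_comap_map))
    (N : Type u) [AddCommGroup N] [Module R N] (M' : Type u) [AddCommGroup M'] [Module S M'] (φ : M' →ₗ[S] S ⊗[R] N)
    (hker : ∀ x : M', φ x = 0 → ∃ n : ℕ, ∀ a ∈ I ^ n, algebraMap R S a • x = 0)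
    (hcoker : ∀ y : S ⊗[R] N, ∃ n : ℕ, ∀ a ∈ I ^ n, algebraMap R S a • y ∈ LinearMap.range φ) :
    ∃ (M : Type u) (_ : AddCommGroup M) (_ : Module R M) (ψ : M →ₗ[R] N) (e : S ⊗[R] M ≃ₗ[S] M'),
      φ ∘ₗ e.toLinearMap = ψ.baseChange S := by
  open scoped TensorProduct in
    classical
    letI : Module R M' := Module.compHom M' (algebraMap R S)
    haveI : IsScalarTower R S M' :=
      ⟨fun r s m => by
        show (r • s) • m = algebraMap R S r • s • m
        rw [Algebra.smul_def, mul_smul]⟩
    let δ : M' × N →ₗ[R] S ⊗[R] N :=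
      φ.restrictScalars R ∘ₗ LinearMap.fst R M' N - TensorProduct.mk R S N 1 ∘ₗ LinearMap.snd R M' N
    let M := LinearMap.ker δ
    have hmem : ∀ z : M' × N, z ∈ M ↔ φ z.1 = (1 : S) ⊗ₜ[R] z.2 := fun z => by
      simp [M, δ, sub_eq_zero]
    let ψ : M →ₗ[R] N := LinearMap.snd R M' N ∘ₗ M.subtype
    let g : S ⊗[R] M →ₗ[S] M' := LinearMap.liftBaseChange S (LinearMap.fst R M' N ∘ₗ M.subtype)
    have hψ : φ ∘ₗ g = ψ.baseChange S := by
      ext z
      simp [g, ψ, (hmem _).mp z.2]
    have hinj : Function.Injective g := by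
      rw [injective_iff_map_eq_zero]
      intro z hz
      have h0 : ψ.lTensor S z = 0 := by
        have := LinearMap.congr_fun hψ z
        rw [LinearMap.comp_apply, hz, map_zero] at this
        exact this.symm
      have hex0 := Module.Flat.lTensor_exact (R := R) S (N := LinearMap.ker ψ) (N' := M) (N'' := N)
        (f := (LinearMap.ker ψ).subtype) (g := ψ) (LinearMap.exact_subtype_ker_map ψ)
      obtain ⟨y, rfl⟩ := (hex0 z).mp h0
      obtain ⟨τ, rfl⟩ := (Groth.Agent.EtaleAlgebra.TorsionGlue.mk_bijective I hq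
        (M := LinearMap.ker ψ) fun τ => by
          have h2 : (τ : M).1.2 = 0 := τ.2
          have h1 : φ (τ : M).1.1 = 0 := by
            rw [(hmem _).mp (τ : M).2, h2, TensorProduct.tmul_zero]
          obtain ⟨n, hn⟩ := hker _ h1
          refine ⟨n, fun a ha => Subtype.ext (Subtype.ext (Prod.ext (hn a ha) ?_))⟩
          show a • (τ : M).1.2 = 0
          rw [h2, smul_zero]).2 y
      have hτ : ((τ : M) : M' × N) = 0 := by
        refine Prod.ext ?_ τ.2
        simpa [g] using hz
      obtain rfl : τ = 0 := Subtype.ext (Subtype.ext hτ)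
      simp
    have hsurj : Function.Surjective g := by
      intro x
      let N0 : Submodule R N :=
        (LinearMap.range φ).restrictScalars R |>.comap (TensorProduct.mk R S N 1)
      have htor : ∀ q : N ⧸ N0, ∃ n : ℕ, ∀ a ∈ I ^ n, a • q = 0 := by
        intro q
        obtain ⟨n, rfl⟩ := Submodule.Quotient.mk_surjective N0 q
        obtain ⟨k, hk⟩ := hcoker ((1 : S) ⊗ₜ[R] n)
        refine ⟨k, fun a ha => ?_⟩
        rw [← Submodule.Quotient.mk_smul, Submodule.Quotient.mk_eq_zero]
        show (1 : S) ⊗ₜ[R] (a • n) ∈ LinearMap.range φ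
        rw [TensorProduct.tmul_smul, ← algebraMap_smul S a]
        exact hk a ha
      have hN0 : ∀ w : S ⊗[R] N0, N0.subtype.lTensor S w ∈ (LinearMap.range g).map φ := by
        intro w
        induction w with
        | zero => simp
        | add a b ha hb => rw [map_add]; exact add_mem ha hb
        | tmul s n =>
          obtain ⟨y, hy⟩ := n.2
          refine ⟨s • g ((1 : S) ⊗ₜ[R] (⟨(y, (n : N)), (hmem _).mpr hy⟩ : M)),
            (LinearMap.range g).smul_mem s ⟨_, rfl⟩, ?_⟩
          rw [map_smul, show g ((1 : S) ⊗ₜ[R] (⟨(y, (n : N)), (hmem _).mpr hy⟩ : M)) = y by simp [g], hy]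
          simp [TensorProduct.smul_tmul']
      obtain ⟨q, hq'⟩ := (Groth.Agent.EtaleAlgebra.TorsionGlue.mk_bijective I hq htor).2
        (N0.mkQ.lTensor S (φ x))
      obtain ⟨n, rfl⟩ := Submodule.Quotient.mk_surjective N0 q
      obtain ⟨w, hw⟩ := ((_root_.lTensor_exact S (f := N0.subtype) (g := N0.mkQ)
        (LinearMap.exact_subtype_mkQ N0) (Submodule.mkQ_surjective N0))
        (φ x - (1 : S) ⊗ₜ[R] n)).mp (by rw [map_sub, ← hq']; simp)
      have hn : n ∈ N0 := by
        obtain ⟨y, -, hy⟩ := hN0 w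
        refine ⟨x - y, ?_⟩
        rw [map_sub, hy, hw]; simp
      obtain ⟨y, ⟨z, rfl⟩, hy⟩ : φ x ∈ (LinearMap.range g).map φ := by
        have h1 := hN0 ((1 : S) ⊗ₜ[R] (⟨n, hn⟩ : N0))
        have h2 := add_mem (hN0 w) h1
        rw [hw] at h2
        simpa using h2
      refine ⟨z + (1 : S) ⊗ₜ[R] (⟨(x - g z, 0), (hmem _).mpr (by simp [hy])⟩ : M), ?_⟩
      simp [g]
    exact ⟨M, inferInstance, inferInstance, ψ, LinearEquiv.ofBijective g ⟨hinj, hsurj⟩, hψ⟩

end Groth.Agent.S2007
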