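import Groth.Statements.S2009
import Groth.Agent.EtaleAlgebra.TorsionBC
-- import your own Groth.Agent.* helpers here

set_option autoImplicit false
universe u
open TensorProduct
open EtAlg

namespace Groth.Agent.S2009

/-- Let R -> S be flat with S/IS faithfully flat over R/I. Then the natural map M -> S ⊗_R M is
bijective for every I-power torsion R-module M if and only if R/I -> S/IS is bijective. -/
theorem result (R S : Type u) [CommRing R] [CommRing S] [Algebra R S] (I : Ideal R)
    [Module.Flat R S] [Module.FaithfullyFlat (R ⧸ I) (S ⧸ I.map (algebraMap R S))] :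
    (∀ (M : Type u) [AddCommGroup M] [Module R M], (∀ m : M, ∃ n : ℕ, ∀ a ∈ I ^ n, a • m = 0) →
      Function.Bijective (TensorProduct.mk R S M 1)) ↔
    Function.Bijective (Ideal.quotientMap (I.map (algebraMap R S)) (algebraMap R S) Ideal.le_comap_map) := by
  refine ⟨fun h => Groth.EtaleAlgebra.bijective_quotientMap_of_mk_bijective (h (R ⧸ I) ?_),
    fun h M _ _ hM => Groth.EtaleAlgebra.mk_bijective_of_powerTorsion inferInstance h.2 hM⟩
  intro m
  refine ⟨1, fun a ha => ?_⟩
  obtain ⟨r, rfl⟩ := Ideal.Quotient.mk_surjective m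
  rw [pow_one] at ha
  rw [Algebra.smul_def, Ideal.Quotient.algebraMap_eq, Ideal.Quotient.eq_zero_iff_mem.2 ha, zero_mul]

end Groth.Agent.S2009
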