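import Groth.Statements.S2010
import Groth.Agent.EtaleAlgebra.TorsionGlue
-- import your own Groth.Agent.* helpers here

set_option autoImplicit false
universe u
open TensorProduct
open EtAlg

namespace Groth.Agent.S2010

/-- Let R -> S be flat and I a finitely generated ideal with R/I -> S/IS bijective; let N be an R-module
and M an I-power torsion R-module. For every short exact sequence 0 -> S ⊗_R N -> E' -> S ⊗_R M -> 0
of S-modules there are a short exact sequence 0 -> N -> E -> M -> 0 of R-modules and an R-linear map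
E -> E' making the two squares with the maps n ↦ 1 ⊗ n and m ↦ 1 ⊗ m commute. -/
theorem result (R S : Type u) [CommRing R] [CommRing S] [Algebra R S] [Module.Flat R S] (I : Ideal R)
    (hI : I.FG) (hq : Function.Bijective (Ideal.quotientMap (I.map (algebraMap R S)) (algebraMap R S) Ideal.le_comap_map))
    (N M : Type u) [AddCommGroup N] [Module R N] [AddCommGroup M] [Module R M]
    (hM : ∀ m : M, ∃ n : ℕ, ∀ a ∈ I ^ n, a • m = 0)
    (E' : Type u) [AddCommGroup E'] [Module S E'] [Module R E'] [IsScalarTower R S E'] (i' : S ⊗[R] N →ₗ[S] E') (p' : E' →ₗ[S] S ⊗[R] M)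
    (hi' : Function.Injective i') (hp' : Function.Surjective p') (hex' : LinearMap.range i' = LinearMap.ker p') :
    ∃ (E : Type u) (_ : AddCommGroup E) (_ : Module R E) (i : N →ₗ[R] E) (p : E →ₗ[R] M) (g : E →ₗ[R] E'),
      Function.Injective i ∧ Function.Surjective p ∧ LinearMap.range i = LinearMap.ker p ∧
      (∀ n : N, g (i n) = i' ((1 : S) ⊗ₜ[R] n)) ∧ (∀ e : E, p' (g e) = (1 : S) ⊗ₜ[R] p e) := by
  open scoped TensorProduct in
    classical
    obtain ⟨t, f, hf⟩ := Submodule.fg_iff_exists_fin_generating_family.mp hI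
    replace hf : Ideal.span (Set.range f) = I := hf
    let ι : N →ₗ[R] E' := i'.restrictScalars R ∘ₗ TensorProduct.mk R S N 1
    let loc : (i : Fin t) → (E' →ₗ[R] LocalizedModule (Submonoid.powers (f i)) E') := fun i =>
      LocalizedModule.mkLinearMap (Submonoid.powers (f i)) E'
    let lam : (i : Fin t) →
        (LocalizedModule (Submonoid.powers (f i)) N →ₗ[R] LocalizedModule (Submonoid.powers (f i)) E') :=
      fun i => IsLocalizedModule.map (Submonoid.powers (f i)) (LocalizedModule.mkLinearMap _ N) (loc i) ι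
    have hlam : ∀ i n, lam i (LocalizedModule.mkLinearMap _ N n) = loc i (ι n) := fun i n =>
      IsLocalizedModule.map_apply _ _ _ _ _
    let Y := ∀ i : Fin t, LocalizedModule (Submonoid.powers (f i)) N
    let Cp : Y → Prop := fun y => ∃ (K : ℕ) (ν : Fin t → N),
      (∀ i, f i ^ K • y i = LocalizedModule.mkLinearMap _ N (ν i)) ∧
        ∀ i j, f j ^ K • ν i = f i ^ K • ν j
    have hup : ∀ (y : Y) (K d : ℕ) (ν : Fin t → N),
        (∀ i, f i ^ K • y i = LocalizedModule.mkLinearMap _ N (ν i)) →
        (∀ i j, f j ^ K • ν i = f i ^ K • ν j) →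
        (∀ i, f i ^ (K + d) • y i = LocalizedModule.mkLinearMap _ N (f i ^ d • ν i)) ∧
          ∀ i j, f j ^ (K + d) • f i ^ d • ν i = f i ^ (K + d) • f j ^ d • ν j := by
      intro y K d ν h1 h2
      refine ⟨fun i => by rw [map_smul, ← h1, smul_smul, ← pow_add, add_comm], fun i j => ?_⟩
      rw [smul_smul, smul_smul,
        show f j ^ (K + d) * f i ^ d = (f i * f j) ^ d * f j ^ K by ring,
        show f i ^ (K + d) * f j ^ d = (f i * f j) ^ d * f i ^ K by ring, mul_smul, mul_smul, h2 i j]
    let V := E' × M × Y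
    let E : Submodule R V :=
      { carrier := {v | p' v.1 = (1 : S) ⊗ₜ[R] v.2.1 ∧ (∀ i, loc i v.1 = lam i (v.2.2 i)) ∧ Cp v.2.2}
        add_mem' := by
          rintro u v ⟨hu1, hu2, Ku, νu, hu3, hu4⟩ ⟨hv1, hv2, Kv, νv, hv3, hv4⟩
          refine ⟨by
            show p' (u.1 + v.1) = (1 : S) ⊗ₜ[R] (u.2.1 + v.2.1)
            rw [map_add, TensorProduct.tmul_add, hu1, hv1], fun i => by
              show loc i (u.1 + v.1) = lam i (u.2.2 i + v.2.2 i)
              rw [map_add, map_add, hu2, hv2],
            Ku + Kv, fun i => f i ^ Kv • νu i + f i ^ Ku • νv i, fun i => ?_, fun i j => ?_⟩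
          · show f i ^ (Ku + Kv) • (u.2.2 i + v.2.2 i) = _
            rw [smul_add, map_add, (hup _ Ku Kv νu hu3 hu4).1 i, add_comm Ku Kv,
              (hup _ Kv Ku νv hv3 hv4).1 i]
          · rw [smul_add, smul_add, (hup _ Ku Kv νu hu3 hu4).2 i j, add_comm Ku Kv,
              (hup _ Kv Ku νv hv3 hv4).2 i j]
        zero_mem' := ⟨by show p' 0 = (1 : S) ⊗ₜ[R] (0 : M); rw [map_zero, TensorProduct.tmul_zero],
          fun i => by show loc i 0 = lam i 0; rw [map_zero, map_zero],
          0, 0, fun i => by show f i ^ 0 • (0 : LocalizedModule (Submonoid.powers (f i)) N) = _; simp,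
          fun i j => by simp⟩
        smul_mem' := by
          rintro r v ⟨h1, h2, K, ν, h3, h4⟩
          refine ⟨?_, fun i => by
            show loc i (r • v.1) = lam i (r • v.2.2 i)
            rw [map_smul, map_smul, h2], K, fun i => r • ν i, fun i => ?_, fun i j => ?_⟩
          · show p' (r • v.1) = (1 : S) ⊗ₜ[R] (r • v.2.1)
            rw [TensorProduct.tmul_smul, ← h1, LinearMap.map_smul_of_tower]
          · show f i ^ K • r • v.2.2 i = _
            rw [map_smul, ← h3, smul_comm]
          · rw [smul_comm, h4, smul_comm] }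
    have hp'i' : ∀ x, p' (i' x) = 0 := fun x => by
      rw [← LinearMap.mem_ker, ← hex']; exact ⟨x, rfl⟩
    let iE : N →ₗ[R] E := (ι.prod ((0 : N →ₗ[R] M).prod (LinearMap.pi fun i =>
      LocalizedModule.mkLinearMap (Submonoid.powers (f i)) N))).codRestrict E fun n =>
      ⟨by show p' (i' _) = (1 : S) ⊗ₜ[R] (0 : M); rw [hp'i', TensorProduct.tmul_zero],
        fun i => (hlam i n).symm,
        0, fun _ => n, fun i => by rw [pow_zero, one_smul]; rfl, fun i j => by simp⟩
    refine ⟨E, inferInstance, inferInstance, iE,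
      (LinearMap.fst R M Y ∘ₗ LinearMap.snd R E' (M × Y)) ∘ₗ E.subtype,
      LinearMap.fst R E' (M × Y) ∘ₗ E.subtype, ?_, ?_, ?_, fun n => rfl, fun e => e.2.1⟩
    · rw [injective_iff_map_eq_zero]
      intro n hn
      have h1 : ι n = 0 := congrArg (fun z : E => (z : V).1) hn
      have h1' : (1 : S) ⊗ₜ[R] n = 0 := hi' (by rw [map_zero]; exact h1)
      have h2 : ∀ i, ∃ a : ℕ, f i ^ a • n = 0 := fun i => by
        have := congrArg (fun z : E => (z : V).2.2 i) hn
        obtain ⟨⟨_, a, rfl⟩, ha⟩ :=
          (IsLocalizedModule.eq_zero_iff (Submonoid.powers (f i)) (LocalizedModule.mkLinearMap _ N)).mp this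
        exact ⟨a, ha⟩
      choose a ha using h2
      obtain ⟨k, hk⟩ := Groth.Agent.EtaleAlgebra.TorsionGlue.kill I hf (K := Finset.univ.sup a) (m := n)
        fun i => by
          obtain ⟨c, hc⟩ := Nat.exists_eq_add_of_le (Finset.le_sup (f := a) (Finset.mem_univ i))
          rw [hc, pow_add, mul_comm, mul_smul, ha, smul_zero]
      exact Groth.Agent.EtaleAlgebra.TorsionGlue.eq_zero I hq hk h1'
    · intro m
      obtain ⟨K, hK⟩ := hM m
      have hKi : ∀ i, f i ^ K • m = 0 := fun i =>
        hK _ (Ideal.pow_mem_pow (hf ▸ Ideal.subset_span (Set.mem_range_self i)) K)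
      obtain ⟨e', he'⟩ := hp' ((1 : S) ⊗ₜ[R] m)
      have hw : ∀ i, ∃ w, i' w = f i ^ K • e' := fun i => by
        have : f i ^ K • e' ∈ LinearMap.ker p' := by
          rw [LinearMap.mem_ker, LinearMap.map_smul_of_tower, he', ← TensorProduct.tmul_smul, hKi,
            TensorProduct.tmul_zero]
        rw [← hex'] at this
        exact this
      choose w hw using hw
      obtain ⟨ν, x, hν, hνx⟩ := Groth.Agent.EtaleAlgebra.TorsionGlue.exists_split I hq f hf (K := K) w
        fun i j => hi' (by
          rw [LinearMap.map_smul_of_tower, LinearMap.map_smul_of_tower, hw, hw, smul_comm])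
      let y : Y := fun i => LocalizedModule.mk (ν i) ⟨f i ^ K, K, rfl⟩
      have hy : ∀ i, f i ^ K • y i = LocalizedModule.mkLinearMap _ N (ν i) := fun i => by
        simp only [y, LocalizedModule.smul'_mk, LocalizedModule.mkLinearMap_apply, LocalizedModule.mk_eq]
        exact ⟨1, by simp [Submonoid.smul_def]⟩
      refine ⟨⟨(e' - i' x, m, y), ⟨?_, fun i => ?_, K, ν, hy, hν⟩⟩, rfl⟩
      · show p' (e' - i' x) = _
        rw [map_sub, hp'i', sub_zero, he']
      · apply IsLocalizedModule.smul_injective (loc i) (⟨f i ^ K, K, rfl⟩ : Submonoid.powers (f i))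
        show f i ^ K • loc i (e' - i' x) = f i ^ K • lam i (y i)
        rw [← map_smul, ← map_smul, hy, hlam]
        congr 1
        rw [smul_sub, ← hw, hνx, map_add, LinearMap.map_smul_of_tower, add_sub_cancel_right]
        rfl
    · apply le_antisymm
      · rintro _ ⟨n, rfl⟩
        rw [LinearMap.mem_ker]
        rfl
      rintro ⟨⟨e', m, y⟩, h1, h2, K, ν, h3, h4⟩ hker
      obtain rfl : m = 0 := hker
      have he'ker : e' ∈ LinearMap.ker p' := by
        rw [LinearMap.mem_ker]
        simpa using h1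
      rw [← hex'] at he'ker
      obtain ⟨x, rfl⟩ := he'ker
      have ha : ∀ i, ∃ a : ℕ, f i ^ a • ((1 : S) ⊗ₜ[R] ν i - f i ^ K • x) = 0 := fun i => by
        have h : loc i (ι (ν i) - f i ^ K • i' x) = 0 := by
          rw [map_sub, map_smul, h2 i, ← map_smul, h3, hlam, sub_self]
        obtain ⟨⟨_, a, rfl⟩, ha⟩ := (IsLocalizedModule.eq_zero_iff (Submonoid.powers (f i)) (loc i)).mp h
        refine ⟨a, hi' ?_⟩
        rw [map_zero, LinearMap.map_smul_of_tower, map_sub, LinearMap.map_smul_of_tower i' (f i ^ K) x]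
        exact ha
      choose a ha using ha
      let L := Finset.univ.sup a
      obtain ⟨h5, h6⟩ := hup y K L ν h3 h4
      obtain ⟨μ, hμ, hμ'⟩ := Groth.Agent.EtaleAlgebra.TorsionGlue.exists_glue I hq f hf (K := K + L)
        (fun i => f i ^ L • ν i) x h6 (fun i => by
          obtain ⟨c, hc⟩ := Nat.exists_eq_add_of_le (Finset.le_sup (f := a) (Finset.mem_univ i))
          have h : f i ^ L • ((1 : S) ⊗ₜ[R] ν i - f i ^ K • x) = 0 := by
            rw [show L = a i + c from hc, pow_add, mul_comm, mul_smul, ha, smul_zero]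
          rw [smul_sub, sub_eq_zero, smul_smul, ← pow_add, add_comm L K] at h
          rw [TensorProduct.tmul_smul, h])
      refine ⟨μ, Subtype.ext (Prod.ext (congrArg i' hμ) (Prod.ext rfl (funext fun i => ?_)))⟩
      apply IsLocalizedModule.smul_injective (LocalizedModule.mkLinearMap (Submonoid.powers (f i)) N)
        (⟨f i ^ (K + L), K + L, rfl⟩ : Submonoid.powers (f i))
      show f i ^ (K + L) • LocalizedModule.mkLinearMap (Submonoid.powers (f i)) N μ = f i ^ (K + L) • y i
      rw [h5, ← map_smul, hμ']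

end Groth.Agent.S2010
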