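import Groth.Statements.S2011
import Mathlib
-- import your own Groth.Agent.* helpers here

set_option autoImplicit false
universe u
open EtAlg

namespace Groth.Agent.S2011

/-- Let A be a Noetherian ring and I an ideal contained in the Jacobson radical of A (a Zariski pair).
Then for every f in I the localization A_f is a Jacobson ring. -/
theorem result (A : Type u) [CommRing A] [IsNoetherianRing A] (I : Ideal A)
    (hI : I ≤ (⊥ : Ideal A).jacobson) (f : A) (hf : f ∈ I) : IsJacobsonRing (Localization.Away f) := by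
  have key : ∀ (R : Type u) [CommRing R] [IsDomain R] [IsNoetherianRing R] (g : R), g ≠ 0 →
      (∀ q : Ideal R, q.IsPrime → q ≠ ⊥ → g ∈ q) → ∀ m : Ideal R, m.IsPrime → m ≠ ⊥ →
      m ∈ (Ideal.span {g}).minimalPrimes := by
    intro R _ _ _ g hg H m hm hm0
    have hgm : g ∈ m := H m hm hm0
    by_contra hnot
    let S := (Ideal.finite_minimalPrimes_of_isNoetherianRing R (Ideal.span {g})).toFinset
    have hsub : ¬ ((m : Set R) ⊆ ⋃ q ∈ (↑S : Set (Ideal R)), (q : Set R)) := by
      intro h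
      obtain ⟨q, hq, hmq⟩ := (Ideal.subset_union_prime (f := fun q : Ideal R => q) ⊥ ⊥
        (fun i hi _ _ => ((Set.Finite.mem_toFinset _).mp hi).1.1)).mp h
      have hq' : q ∈ (Ideal.span {g}).minimalPrimes := (Set.Finite.mem_toFinset _).mp hq
      have h2 : q ≤ m := hq'.2 ⟨hm, (Ideal.span_singleton_le_iff_mem _).mpr hgm⟩ hmq
      exact hnot ((le_antisymm hmq h2) ▸ hq')
    obtain ⟨x, hxm, hx⟩ := Set.not_subset.mp hsub
    haveI := hm
    obtain ⟨q, hq, hqm⟩ :=
      Ideal.exists_minimalPrimes_le ((Ideal.span_singleton_le_iff_mem m).mpr hxm)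
    haveI := hq.1.1
    have hxq : x ∈ q := (Ideal.span_singleton_le_iff_mem q).mp hq.1.2
    have hq1 : q.height ≤ 1 := Ideal.height_le_one_of_isPrincipal_of_mem_minimalPrimes _ _ hq
    have hq0 : q ≠ ⊥ := by
      rintro rfl
      have hx0 : x = 0 := by simpa using hxq
      obtain ⟨q₁, hq₁, -⟩ :=
        Ideal.exists_minimalPrimes_le ((Ideal.span_singleton_le_iff_mem m).mpr hgm)
      exact hx (Set.mem_biUnion ((Set.Finite.mem_toFinset _).mpr hq₁) (by rw [hx0]; exact q₁.zero_mem))
    obtain ⟨q₀, hq₀, hq₀q⟩ :=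
      Ideal.exists_minimalPrimes_le ((Ideal.span_singleton_le_iff_mem q).mpr (H q hq.1.1 hq0))
    haveI := hq₀.1.1
    have hq₀0 : (⊥ : Ideal R) < q₀ := by
      refine bot_lt_iff_ne_bot.mpr fun h => hg ?_
      have := hq₀.1.2 (Ideal.mem_span_singleton_self g)
      rw [h] at this
      simpa using this
    have hlt : q₀ < q := by
      refine lt_of_le_of_ne hq₀q fun h => hx ?_
      exact Set.mem_biUnion ((Set.Finite.mem_toFinset _).mpr hq₀) (by rw [h]; exact hxq)
    have h1 := Ideal.height_strict_mono_of_isPrime_of_isPrime hlt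
    have h2 := Ideal.height_strict_mono_of_isPrime_of_isPrime hq₀0
    have h3 := lt_of_lt_of_le h1 hq1
    rw [ENat.lt_one_iff_eq_zero] at h3
    simp [h3] at h2
  rw [isJacobsonRing_iff_prime_eq]
  intro P hP
  refine le_antisymm (fun y hy => ?_) Ideal.le_jacobson
  by_contra hyP
  obtain ⟨⟨a, s⟩, has⟩ := IsLocalization.surj (Submonoid.powers f) y
  set p := P.comap (algebraMap A (Localization.Away f)) with hpdef
  haveI hp : p.IsPrime := Ideal.comap_isPrime _ P
  have hfu : IsUnit (algebraMap A (Localization.Away f) f) :=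
    IsLocalization.Away.algebraMap_isUnit f
  have hfp : f ∉ p := fun h => hP.ne_top (Ideal.eq_top_of_isUnit_mem _ h hfu)
  have hap : a ∉ p := by
    intro h
    have h1 : y * algebraMap A (Localization.Away f) s ∈ P := by rw [has]; exact h
    rcases hP.mem_or_mem h1 with h2 | h2
    · exact hyP h2
    · exact hP.ne_top (Ideal.eq_top_of_isUnit_mem _ h2 (IsLocalization.map_units _ s))
  obtain ⟨Q, hQ, hpQ, hbQ, hmax⟩ : ∃ Q : Ideal A, Q.IsPrime ∧ p ≤ Q ∧ a * f ∉ Q ∧
      ∀ Q' : Ideal A, Q'.IsPrime → Q < Q' → a * f ∈ Q' := by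
    have hd : Disjoint (Submonoid.powers (a * f) : Set A) (p : Set A) := by
      rw [Set.disjoint_left]
      rintro _ ⟨n, rfl⟩ hn
      exact (hp.mem_or_mem (hp.mem_of_pow_mem n hn)).elim hap hfp
    have hpT := IsLocalization.isPrime_of_isPrime_disjoint (Submonoid.powers (a * f))
      (Localization.Away (a * f)) p hp hd
    obtain ⟨M, hM, hpM⟩ := Ideal.exists_le_maximal _ hpT.ne_top
    have hu : IsUnit (algebraMap A (Localization.Away (a * f)) (a * f)) :=
      IsLocalization.Away.algebraMap_isUnit _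
    refine ⟨M.comap (algebraMap A (Localization.Away (a * f))), Ideal.comap_isPrime _ M,
      (Ideal.le_comap_map).trans (Ideal.comap_mono hpM),
      fun h => hM.ne_top (Ideal.eq_top_of_isUnit_mem _ h hu), fun Q' hQ' hlt => ?_⟩
    by_contra hb
    have hd' : Disjoint (Submonoid.powers (a * f) : Set A) (Q' : Set A) := by
      rw [Set.disjoint_left]
      rintro _ ⟨n, rfl⟩ hn
      exact hb (hQ'.mem_of_pow_mem n hn)
    have hQ'T := IsLocalization.isPrime_of_isPrime_disjoint (Submonoid.powers (a * f))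
      (Localization.Away (a * f)) Q' hQ' hd'
    have hle : M ≤ Q'.map (algebraMap A (Localization.Away (a * f))) := by
      rw [← IsLocalization.map_comap (Submonoid.powers (a * f)) (Localization.Away (a * f)) M]
      exact Ideal.map_mono hlt.le
    have heq := hM.eq_of_le hQ'T.ne_top hle
    refine hlt.ne ?_
    rw [heq]
    exact IsLocalization.comap_map_of_isPrime_disjoint (Submonoid.powers (a * f))
      (Localization.Away (a * f)) hQ' hd'
  haveI := hQ
  have hfmax : ∀ Q' : Ideal A, Q'.IsPrime → Q < Q' → f ∈ Q' := by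
    intro Q' hQ' hlt
    haveI := hQ'
    suffices h : Q'.IsMaximal by
      exact (Ideal.mem_sInf.mp (hI hf)) ⟨bot_le, h⟩
    obtain ⟨m, hm, hQ'm⟩ := Ideal.exists_le_maximal Q' hQ'.ne_top
    suffices Q' = m by exact this ▸ hm
    have hsurj := Ideal.Quotient.mk_surjective (I := Q)
    have hker : RingHom.ker (Ideal.Quotient.mk Q) = Q := Ideal.mk_ker
    have Hq : ∀ q : Ideal (A ⧸ Q), q.IsPrime → q ≠ ⊥ → Ideal.Quotient.mk Q (a * f) ∈ q := by
      intro q hq hq0
      refine hmax (q.comap (Ideal.Quotient.mk Q)) (Ideal.comap_isPrime _ q) (lt_of_le_of_ne ?_ ?_)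
      · exact fun z hz => by
          rw [Ideal.mem_comap, Ideal.Quotient.eq_zero_iff_mem.mpr hz]; exact q.zero_mem
      · intro h
        apply hq0
        rw [← Ideal.map_comap_of_surjective _ hsurj q, ← h, Ideal.map_quotient_self]
    have hne : ∀ J : Ideal A, Q < J → J.map (Ideal.Quotient.mk Q) ≠ ⊥ := fun J hJ h =>
      not_le_of_gt hJ (by rwa [Ideal.map_eq_bot_iff_le_ker, hker] at h)
    have hg : Ideal.Quotient.mk Q (a * f) ≠ 0 := fun h => hbQ (Ideal.Quotient.eq_zero_iff_mem.mp h)
    have h1 := key (A ⧸ Q) _ hg Hq (Q'.map (Ideal.Quotient.mk Q))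
      (Ideal.map_isPrime_of_surjective hsurj (hker.trans_le hlt.le)) (hne _ hlt)
    have h2 := key (A ⧸ Q) _ hg Hq (m.map (Ideal.Quotient.mk Q))
      (Ideal.map_isPrime_of_surjective hsurj (hker.trans_le (hlt.le.trans hQ'm))) (hne _ (hlt.trans_le hQ'm))
    have h3 := le_antisymm (Ideal.map_mono (f := Ideal.Quotient.mk Q) hQ'm) (h2.2 h1.1 (Ideal.map_mono hQ'm))
    have h4 := congrArg (Ideal.comap (Ideal.Quotient.mk Q)) h3
    rwa [Ideal.comap_map_of_surjective _ hsurj, Ideal.comap_map_of_surjective _ hsurj,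
      ← RingHom.ker_eq_comap_bot, hker, sup_eq_left.mpr hlt.le,
      sup_eq_left.mpr (hlt.le.trans hQ'm)] at h4
  have hdQ : Disjoint (Submonoid.powers f : Set A) (Q : Set A) := by
    rw [Set.disjoint_left]
    rintro _ ⟨n, rfl⟩ hn
    exact hbQ (Q.mul_mem_left a (hQ.mem_of_pow_mem n hn))
  have hQS := IsLocalization.isPrime_of_isPrime_disjoint (Submonoid.powers f)
    (Localization.Away f) Q hQ hdQ
  obtain ⟨M, hM, hQM⟩ := Ideal.exists_le_maximal _ hQS.ne_top
  have hPM : P ≤ M := by
    rw [← IsLocalization.map_comap (Submonoid.powers f) (Localization.Away f) P]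
    exact (Ideal.map_mono hpQ).trans hQM
  have hyM : y ∈ M := (Ideal.mem_sInf.mp hy) ⟨hPM, hM⟩
  have hQc : Q = M.comap (algebraMap A (Localization.Away f)) := by
    refine eq_of_le_of_not_lt ((Ideal.le_comap_map).trans (Ideal.comap_mono hQM)) fun hlt => ?_
    exact hM.ne_top (Ideal.eq_top_of_isUnit_mem _ (hfmax _ (Ideal.comap_isPrime _ M) hlt) hfu)
  have haQ : a ∈ Q := by
    rw [hQc, Ideal.mem_comap, ← has]
    exact M.mul_mem_right _ hyM
  exact hbQ (Q.mul_mem_right f haQ)

end Groth.Agent.S2011
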