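import Groth.Statements.S2012
import Mathlib.RingTheory.Finiteness.Nakayama
import Mathlib.RingTheory.IntegralClosure.IsIntegralClosure.Basic
import Mathlib.RingTheory.Ideal.Pure
import Groth.Agent.Hensel1.Lift
-- import your own Groth.Agent.* helpers here

set_option autoImplicit false
universe u
open EtAlg

namespace Groth.Agent.S2012

/-- Let A be a ring and I an ideal contained in its Jacobson radical. Let B be an A-algebra which is
flat, integral and of finite presentation over A and such that A/I -> B/IB is bijective. Then A -> B
is bijective. -/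
theorem result (A B : Type u) [CommRing A] [CommRing B] [Algebra A B]
    (I : Ideal A) (hI : I ≤ (⊥ : Ideal A).jacobson) [Module.Flat A B] [Algebra.IsIntegral A B] [Algebra.FinitePresentation A B]
    (hq : Function.Bijective (Ideal.quotientMap (I.map (algebraMap A B)) (algebraMap A B) Ideal.le_comap_map)) :
    Function.Bijective (algebraMap A B) := by
  have : Module.Finite A B := Algebra.IsIntegral.finite
  have hsurj : Function.Surjective (algebraMap A B) := by
    let N := LinearMap.range (Algebra.linearMap A B)
    suffices (⊤ : Submodule A B) ≤ N from fun b => this (Submodule.mem_top (x := b))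
    refine Submodule.le_of_le_smul_of_le_jacobson_bot Module.Finite.fg_top hI fun b _ => ?_
    obtain ⟨q, hq⟩ := hq.2 (Ideal.Quotient.mk _ b)
    obtain ⟨a, rfl⟩ := Ideal.Quotient.mk_surjective q
    rw [Ideal.quotientMap_mk, Ideal.Quotient.eq] at hq
    refine Submodule.mem_sup.2 ⟨algebraMap A B a, ⟨a, rfl⟩, b - algebraMap A B a, ?_, add_sub_cancel _ _⟩
    rw [Ideal.smul_top_eq_map, Submodule.restrictScalars_mem, ← neg_sub]
    exact neg_mem hq
  refine ⟨?_, hsurj⟩
  rw [RingHom.injective_iff_ker_eq_bot]
  let e := Ideal.quotientKerAlgEquivOfSurjective (f := Algebra.ofId A B) hsurj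
  have : (RingHom.ker (algebraMap A B)).Pure := Module.Flat.of_linearEquiv e.toLinearEquiv
  refine Groth.Hensel1.ideal_eq_bot_of_pure (le_trans (fun a ha => ?_) hI)
  refine Ideal.Quotient.eq_zero_iff_mem.1 (hq.1 ?_)
  rw [Ideal.quotientMap_mk, map_zero, RingHom.mem_ker.1 ha, map_zero]

end Groth.Agent.S2012
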