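import Groth.Statements.S2013
import Mathlib
import Groth.Agent.Calg7.ReducedPrincipal
import Groth.Agent.Calg5.CatenaryEquidim
-- import your own Groth.Agent.* helpers here

set_option autoImplicit false
universe u
open EtAlg

namespace Groth.Agent.S2013

/-- Let R be a catenary Noetherian local normal domain and J a nonzero radical ideal of R. Then J
contains a nonzero element f such that R/fR is reduced. (The source does not say 'nonzero ideal' but
its conclusion requires it.) -/
theorem result (R : Type u) [CommRing R] [IsDomain R] [IsNoetherianRing R]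
    [IsLocalRing R] [IsIntegrallyClosed R] (hc : CAlg.IsCatenary R) (J : Ideal R) (hJ : J.IsRadical) (hJ0 : J ≠ ⊥) :
    ∃ f ∈ J, f ≠ 0 ∧ IsReduced (R ⧸ Ideal.span {f}) := by
  refine Groth.Calg7.ReducedPrincipal.exists_isReduced (fun q h hq hq1 hh P hP => ?_) hJ hJ0
  have heq : EGA4.IsEquidim R := by
    intro p hp
    rw [IsDomain.minimalPrimes_eq_singleton_bot, Set.mem_singleton_iff] at hp
    subst hp
    exact ringKrullDim_eq_of_ringEquiv (RingEquiv.quotientBot R)
  have := Groth.Calg5.CatenaryEquidim.height_eq_add_one_of_covBy hc heq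
    (Groth.Ega4Algebra1.covBy_of_mem_minimalPrimes R (q := ⟨q, hq⟩) (P := ⟨P, hP.1.1⟩) hh hP)
  rw [← PrimeSpectrum.height_eq_orderHeight, ← PrimeSpectrum.height_eq_orderHeight] at this
  simp only [hq1] at this
  rw [this, one_add_one_eq_two]

end Groth.Agent.S2013
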