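import Groth.Statements.S2014
import Groth.Agent.EtaleAlgebra.LengthMinimal
-- import your own Groth.Agent.* helpers here

set_option autoImplicit false
universe u
open EtAlg

namespace Groth.Agent.S2014

/-- Let R be a Noetherian local ring of Krull dimension 1 and x an element of the maximal ideal
contained in no minimal prime of R. Then the number of minimal prime ideals of R is at most the
length of R/xR as an R-module. -/
theorem result (R : Type u) [CommRing R] [IsNoetherianRing R] [IsLocalRing R]
    (hdim : ringKrullDim R = 1) (x : R) (hx : x ∈ IsLocalRing.maximalIdeal R) (hmin : ∀ p ∈ minimalPrimes R, x ∉ p) :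
    (Set.ncard (minimalPrimes R) : ℕ∞) ≤ Module.length R (R ⧸ Ideal.span {x}) := by
  exact Groth.EtaleAlgebra.card_minimalPrimes_le_length hdim x hx hmin

end Groth.Agent.S2014
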