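import Groth.Statements.S2016
import Mathlib
-- import your own Groth.Agent.* helpers here

set_option autoImplicit false
universe u
open EtAlg

namespace Groth.Agent.S2016

theorem exists_dvd_all {A : Type u} [CommRing A] (hA : ∀ a b : A, a ∣ b ∨ b ∣ a) :
    ∀ T : Finset A, T.Nonempty → ∃ a ∈ T, ∀ b ∈ T, a ∣ b := by
  classical
  intro T
  induction T using Finset.induction with
  | empty => simp
  | insert x T hx ih =>
    intro _
    rcases T.eq_empty_or_nonempty with rfl | hT
    · exact ⟨x, by simp, by simp⟩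
    obtain ⟨a, haT, ha⟩ := ih hT
    rcases hA a x with h | h
    · exact ⟨a, Finset.mem_insert_of_mem haT, fun b hb => (Finset.mem_insert.1 hb).elim (fun e => e ▸ h) (ha b)⟩
    · exact ⟨x, Finset.mem_insert_self x T, fun b hb => (Finset.mem_insert.1 hb).elim (fun e => e ▸ dvd_rfl)
        fun hb => h.trans (ha b hb)⟩

theorem exists_cyclic_decomp {A : Type u} [CommRing A] (hA : ∀ a b : A, a ∣ b ∨ b ∣ a) :
    ∀ (n : ℕ) (M : Type u) [AddCommGroup M] [Module A M] [Module.FinitePresentation A M] (y : Fin n → M),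
      Submodule.span A (Set.range y) = ⊤ → ∃ (k : ℕ) (x : Fin k → M) (f : Fin k → A), (∀ i, f i • x i = 0) ∧
        Submodule.span A (Set.range x) = ⊤ ∧ ∀ c : Fin k → A, ∑ i, c i • x i = 0 → ∀ i, f i ∣ c i := by
  intro n
  induction n with
  | zero => exact fun M _ _ _ y hy => ⟨0, y, Fin.elim0, fun i => i.elim0, hy, fun c _ i => i.elim0⟩
  | succ n ih =>
    intro M _ _ _ y hy
    classical
    let φ : (Fin (n + 1) → A) →ₗ[A] M := Fintype.linearCombination A y
    have hφ : Function.Surjective φ := by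
      rw [← LinearMap.range_eq_top, Fintype.range_linearCombination, hy]
    obtain ⟨s, hs⟩ := Module.FinitePresentation.fg_ker φ hφ
    let T : Finset A := (s ×ˢ (Finset.univ : Finset (Fin (n + 1)))).image fun ki => ki.1 ki.2
    by_cases hT : T.Nonempty
    swap
    · have hs0 : ∀ c, φ c = 0 → c = 0 := fun c hc => by
        have hc' : c ∈ Submodule.span A (s : Set (Fin (n + 1) → A)) := hs ▸ (LinearMap.mem_ker.2 hc)
        have : (s : Set (Fin (n + 1) → A)) = ∅ := by
          rw [Finset.coe_eq_empty, Finset.eq_empty_iff_forall_notMem]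
          intro k hk
          exact hT ⟨k 0, Finset.mem_image.2 ⟨(k, 0), Finset.mem_product.2 ⟨hk, Finset.mem_univ _⟩, rfl⟩⟩
        simpa [this] using hc'
      exact ⟨n + 1, y, 0, fun i => zero_smul A _, hy, fun c hc i => by
        simp [hs0 c (by simpa [φ, Fintype.linearCombination_apply] using hc)]⟩
    obtain ⟨a, haT, ha⟩ := exists_dvd_all hA T hT
    obtain ⟨⟨k, j⟩, hkj, rfl⟩ := Finset.mem_image.1 haT
    obtain ⟨hks, -⟩ := Finset.mem_product.1 hkj
    simp only at ha ⊢
    have hdvd : ∀ c, φ c = 0 → ∀ i, k j ∣ c i := by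
      intro c hc
      have hc' : c ∈ Submodule.span A (s : Set (Fin (n + 1) → A)) := hs ▸ (LinearMap.mem_ker.2 hc)
      induction hc' using Submodule.span_induction with
      | mem c hc' => exact fun i => ha _ (Finset.mem_image.2 ⟨(c, i), Finset.mem_product.2 ⟨hc', Finset.mem_univ _⟩, rfl⟩)
      | zero => exact fun i => dvd_zero _
      | add c d h1 h2 ihc ihd =>
        have e1 : φ c = 0 := LinearMap.mem_ker.1 (hs ▸ h1 : c ∈ LinearMap.ker φ)
        have e2 : φ d = 0 := LinearMap.mem_ker.1 (hs ▸ h2 : d ∈ LinearMap.ker φ)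
        exact fun i => dvd_add (ihc e1 i) (ihd e2 i)
      | smul r c h1 ihc =>
        exact fun i => Dvd.dvd.mul_left (ihc (LinearMap.mem_ker.1 (hs ▸ h1 : c ∈ LinearMap.ker φ)) i) r
    have hk0 : φ k = 0 := LinearMap.mem_ker.1 (hs ▸ Submodule.subset_span hks : k ∈ LinearMap.ker φ)
    choose v₀ hv₀ using hdvd k hk0
    let v : Fin (n + 1) → A := Function.update v₀ j 1
    have hv : ∀ i, k i = k j * v i := fun i => by
      by_cases hi : i = j
      · subst hi; simp [v]
      · simp [v, hi, hv₀ i]
    have hvj : v j = 1 := by simp [v]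
    let y' : M := ∑ i, v i • y i
    have hy' : k j • y' = 0 := by
      rw [Finset.smul_sum, ← hk0]
      simp only [φ, Fintype.linearCombination_apply, smul_smul, ← hv]
    let z : Fin n → M := fun l => y (j.succAbove l)
    have key : ∀ (c₀ : A), ∀ w ∈ Submodule.span A (Set.range z), c₀ • y' + w = 0 → k j ∣ c₀ ∧ w = 0 := by
      intro c₀ w hw h0
      obtain ⟨d, rfl⟩ := (Submodule.mem_span_range_iff_exists_fun A).1 hw
      let c : Fin (n + 1) → A := fun i => c₀ * v i + Fin.insertNth (α := fun _ => A) j 0 d i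
      have hc : φ c = 0 := by
        rw [← h0]
        simp only [φ, Fintype.linearCombination_apply, c, add_smul, Finset.sum_add_distrib, y', Finset.smul_sum, smul_smul]
        rw [add_right_inj, Fin.sum_univ_succAbove _ j]
        simp [z]
      have h1 : k j ∣ c₀ := by simpa [c, hvj] using hdvd c hc j
      obtain ⟨r, hr⟩ := h1
      refine ⟨⟨r, hr⟩, ?_⟩
      rwa [hr, mul_comm, mul_smul, hy', smul_zero, zero_add] at h0
    have hspan : ∀ m : M, ∃ c₀ : A, ∃ w ∈ Submodule.span A (Set.range z), m = c₀ • y' + w := by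
      intro m
      have hm : m ∈ Submodule.span A {y'} ⊔ Submodule.span A (Set.range z) := by
        suffices Submodule.span A {y'} ⊔ Submodule.span A (Set.range z) = ⊤ from this ▸ Submodule.mem_top
        rw [eq_top_iff, ← hy, Submodule.span_le]
        rintro _ ⟨i, rfl⟩
        by_cases hi : i = j
        · subst hi
          have : y i = y' - ∑ l, v (i.succAbove l) • z l := by
            simp only [y', Fin.sum_univ_succAbove _ i, hvj, one_smul, z, add_sub_cancel_right]
          rw [this]
          exact sub_mem (Submodule.mem_sup_left (Submodule.mem_span_singleton_self _))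
            (Submodule.mem_sup_right (Submodule.sum_mem _ fun l _ => Submodule.smul_mem _ _ (Submodule.subset_span ⟨l, rfl⟩)))
        · obtain ⟨l, rfl⟩ := Fin.exists_succAbove_eq hi
          exact Submodule.mem_sup_right (Submodule.subset_span ⟨l, rfl⟩)
      obtain ⟨p, hp, w, hw, rfl⟩ := Submodule.mem_sup.1 hm
      obtain ⟨c₀, rfl⟩ := Submodule.mem_span_singleton.1 hp
      exact ⟨c₀, w, hw, rfl⟩
    let N : Submodule A M := Submodule.span A {y'}
    haveI : Module.FinitePresentation A (M ⧸ N) := Module.finitePresentation_of_surjective N.mkQ N.mkQ_surjective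
      (by rw [Submodule.ker_mkQ]; exact Submodule.fg_span_singleton _)
    have hNy : N.mkQ y' = 0 := (Submodule.Quotient.mk_eq_zero N).2 (Submodule.mem_span_singleton_self _)
    obtain ⟨m, x', f, hf, hx', hrel⟩ := ih (M ⧸ N) (N.mkQ ∘ z) (eq_top_iff.2 fun q _ => by
      obtain ⟨q, rfl⟩ := N.mkQ_surjective q
      obtain ⟨c₀, w, hw, rfl⟩ := hspan q
      rw [map_add, map_smul, hNy, smul_zero, zero_add, Set.range_comp, Submodule.span_image]
      exact Submodule.mem_map_of_mem hw)
    have hlift : ∀ i, ∃ w ∈ Submodule.span A (Set.range z), N.mkQ w = x' i := fun i => by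
      obtain ⟨q, hq⟩ := N.mkQ_surjective (x' i)
      obtain ⟨c₀, w, hw, rfl⟩ := hspan q
      exact ⟨w, hw, by rw [← hq, map_add, map_smul, hNy, smul_zero, zero_add]⟩
    choose x hxz hx using hlift
    refine ⟨m + 1, Fin.cons y' x, Fin.cons (k j) f, fun i => ?_, eq_top_iff.2 fun q _ => ?_, fun c hc => ?_⟩
    · refine Fin.cases ?_ ?_ i
      · simpa using hy'
      · intro l
        have h1 : N.mkQ (f l • x l) = 0 := by rw [map_smul, hx, hf]
        obtain ⟨r, hr⟩ := Submodule.mem_span_singleton.1 ((Submodule.Quotient.mk_eq_zero N).1 h1)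
        simpa using (key (-r) (f l • x l) (Submodule.smul_mem _ _ (hxz l)) (by rw [neg_smul, hr, neg_add_cancel])).2
    · obtain ⟨d, hd⟩ := (Submodule.mem_span_range_iff_exists_fun A).1 (hx' ▸ Submodule.mem_top : N.mkQ q ∈ Submodule.span A (Set.range x'))
      have h1 : N.mkQ (q - ∑ i, d i • x i) = 0 := by
        rw [map_sub, map_sum, ← hd, sub_eq_zero]
        exact Finset.sum_congr rfl fun i _ => by rw [map_smul, hx]
      obtain ⟨r, hr⟩ := Submodule.mem_span_singleton.1 ((Submodule.Quotient.mk_eq_zero N).1 h1)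
      rw [show q = r • y' + ∑ i, d i • x i by rw [hr, sub_add_cancel]]
      exact add_mem (Submodule.smul_mem _ _ (Submodule.subset_span ⟨0, Fin.cons_zero _ _⟩))
        (Submodule.sum_mem _ fun i _ => Submodule.smul_mem _ _ (Submodule.subset_span ⟨i.succ, Fin.cons_succ _ _ i⟩))
    · rw [Fin.sum_univ_succ] at hc
      simp only [Fin.cons_zero, Fin.cons_succ] at hc
      obtain ⟨h1, h2⟩ := key (c 0) _ (Submodule.sum_mem _ fun i _ => Submodule.smul_mem _ (c i.succ) (hxz i)) hc
      have h3 : ∑ i, c i.succ • x' i = 0 := by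
        rw [← map_zero N.mkQ, ← h2, map_sum]
        exact Finset.sum_congr rfl fun i _ => by rw [map_smul, hx]
      intro i
      refine Fin.cases ?_ ?_ i
      · simpa using h1
      · intro l; simpa using hrel _ h3 l

theorem exists_local_section (R : Type u) [CommRing R] (M : Type u) [AddCommGroup M] [Module R M]
    [Module.FinitePresentation R M] (m : Ideal R) [m.IsPrime]
    (h : ∀ a b : Localization.AtPrime m, a ∣ b ∨ b ∣ a) :
    ∃ u ∉ m, ∃ (n : ℕ) (f : Fin n → R) (Φ : ((i : Fin n) → R ⧸ Ideal.span {f i}) →ₗ[R] M)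
      (g : M →ₗ[R] ((i : Fin n) → R ⧸ Ideal.span {f i})), Φ ∘ₗ g = u • LinearMap.id := by
  classical
  let A := Localization.AtPrime m
  let Mm := LocalizedModule m.primeCompl M
  let ι := LocalizedModule.mkLinearMap m.primeCompl M
  haveI : Module.FinitePresentation A Mm := inferInstance
  obtain ⟨n₀, y, hy⟩ := Module.Finite.exists_fin (R := A) (M := Mm)
  obtain ⟨n, x, fA, hfx, hx, hrel⟩ := exists_cyclic_decomp h n₀ Mm y hy
  choose zs hzs using fun i => IsLocalizedModule.surj m.primeCompl ι (x i)
  choose fs hfs using fun i => IsLocalization.surj m.primeCompl (fA i)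
  -- annihilators in `R`
  have hkill : ∀ i, ∃ t : m.primeCompl, (t : R) • ((fs i).1 • (zs i).1) = 0 := fun i => by
    have h1 : ι ((fs i).1 • (zs i).1) = 0 := by
      rw [map_smul, ← hzs i, ← algebraMap_smul A (fs i).1, ← hfs i, Submonoid.smul_def, ← algebraMap_smul A (((zs i).2 : R)),
        smul_smul, mul_comm, mul_comm (fA i), ← mul_assoc, mul_smul, hfx, smul_zero]
    obtain ⟨t, ht⟩ := (IsLocalizedModule.eq_zero_iff m.primeCompl ι).1 h1
    exact ⟨t, ht⟩
  choose t ht using hkill
  let f : Fin n → R := fun i => (t i : R) * (fs i).1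
  have hfz : ∀ i, f i • (zs i).1 = 0 := fun i => by simp [f, mul_smul, ht]
  let q : ∀ i, (R ⧸ Ideal.span {f i}) →ₗ[R] M := fun i =>
    Submodule.liftQ (Ideal.span {f i}) (LinearMap.toSpanSingleton R M (zs i).1) (by
      rw [Ideal.span, Submodule.span_le, Set.singleton_subset_iff]
      simp [hfz])
  let P := (i : Fin n) → R ⧸ Ideal.span {f i}
  let Φ : P →ₗ[R] M := ∑ i, q i ∘ₗ LinearMap.proj i
  have hΦ : ∀ c : Fin n → R, Φ (fun i => Ideal.Quotient.mk _ (c i)) = ∑ i, c i • (zs i).1 := fun c => by
    simp only [Φ, LinearMap.coe_sum, Finset.sum_apply]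
    rfl
  let ιP := LocalizedModule.mkLinearMap m.primeCompl P
  let Φm : LocalizedModule m.primeCompl P →ₗ[R] Mm := IsLocalizedModule.map m.primeCompl ιP ι Φ
  have hΦm : Function.Bijective Φm := by
    constructor
    · rw [← LinearMap.ker_eq_bot, LinearMap.ker_eq_bot']
      intro p hp
      obtain ⟨⟨p, s⟩, hps⟩ := IsLocalizedModule.surj m.primeCompl ιP p
      obtain ⟨c, rfl⟩ : ∃ c : Fin n → R, (fun i => Ideal.Quotient.mk (Ideal.span {f i}) (c i)) = p := by
        choose c hc using fun i => Ideal.Quotient.mk_surjective (p i)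
        exact ⟨c, funext hc⟩
      simp only at hps
      have h1 : ι (Φ fun i => Ideal.Quotient.mk (Ideal.span {f i}) (c i)) = 0 := by
        rw [← IsLocalizedModule.map_apply m.primeCompl ιP ι Φ, ← hps, LinearMap.map_smul_of_tower]
        exact (congrArg (s • ·) hp).trans (smul_zero _)
      rw [hΦ, map_sum] at h1
      have h2 : ∑ i, (algebraMap R A (c i) * algebraMap R A ((zs i).2 : R)) • x i = 0 := by
        rw [← h1]
        refine Finset.sum_congr rfl fun i _ => ?_
        rw [map_smul, ← hzs i, mul_smul, algebraMap_smul, algebraMap_smul]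
        rfl
      have hkill : ∀ i, ∃ u ∈ m.primeCompl, u * c i ∈ Ideal.span {f i} := by
        intro i
        have h3 := hrel _ h2 i
        rw [(IsLocalization.map_units A (zs i).2).dvd_mul_right] at h3
        have h4 : algebraMap R A (f i) ∣ algebraMap R A (c i) := by
          refine dvd_trans ?_ h3
          rw [map_mul, ← hfs i]
          exact ((IsLocalization.map_units A (t i)).mul_left_dvd).2 ((IsLocalization.map_units A (fs i).2).mul_right_dvd.2 dvd_rfl)
        obtain ⟨w, hw⟩ := h4
        obtain ⟨⟨w, r⟩, hr⟩ := IsLocalization.surj m.primeCompl w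
        have h5 : algebraMap R A ((r : R) * c i) = algebraMap R A (f i * w) := by
          rw [map_mul, map_mul, hw, ← hr]; ring
        obtain ⟨e, he⟩ := (IsLocalization.eq_iff_exists m.primeCompl A).1 h5
        refine ⟨e * r, mul_mem e.2 r.2, Ideal.mem_span_singleton.2 ⟨(e : R) * w, ?_⟩⟩
        rw [mul_assoc, he]; ring
      choose u hu hum using hkill
      have hU : (∏ i, u i) • (fun i => Ideal.Quotient.mk (Ideal.span {f i}) (c i)) = (0 : P) := by
        funext i
        rw [Pi.smul_apply, Pi.zero_apply, ← Finset.prod_erase_mul _ _ (Finset.mem_univ i), mul_smul]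
        have : u i • Ideal.Quotient.mk (Ideal.span {f i}) (c i) = 0 := by
          show Ideal.Quotient.mk (Ideal.span {f i}) (u i * c i) = 0
          exact Ideal.Quotient.eq_zero_iff_mem.2 (hum i)
        rw [this, smul_zero]
      have h6 : ((⟨∏ i, u i, prod_mem fun i _ => hu i⟩ : m.primeCompl) * s) • p = 0 := by
        rw [mul_smul, hps, Submonoid.smul_def, ← map_smul, hU, map_zero]
      exact IsLocalizedModule.smul_injective ιP _ (h6.trans (smul_zero _).symm)
    · intro v
      obtain ⟨c, rfl⟩ := (Submodule.mem_span_range_iff_exists_fun A).1 (hx ▸ Submodule.mem_top : v ∈ Submodule.span A (Set.range x))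
      let ΦA := LinearMap.extendScalarsOfIsLocalization m.primeCompl A Φm
      refine LinearMap.mem_range.1 (show (∑ i, c i • x i) ∈ LinearMap.range ΦA from
        Submodule.sum_mem _ fun i _ => Submodule.smul_mem _ _ ?_)
      have hz : ι (zs i).1 ∈ LinearMap.range ΦA := by
        refine ⟨ιP (Pi.single i (Ideal.Quotient.mk (Ideal.span {f i}) 1)), ?_⟩
        show Φm (ιP _) = _
        rw [IsLocalizedModule.map_apply]
        congr 1
        simp only [Φ, LinearMap.coe_sum, Finset.sum_apply, LinearMap.comp_apply, LinearMap.proj_apply]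
        rw [Finset.sum_eq_single i (fun b _ hb => by show q b (Pi.single (M := fun i => R ⧸ Ideal.span {f i}) i _ b) = 0; rw [Pi.single_eq_of_ne hb, map_zero]) (by simp)]
        show q i (Pi.single (M := fun i => R ⧸ Ideal.span {f i}) i _ i) = _
        rw [Pi.single_eq_same]
        exact one_smul R _
      have hu := IsLocalization.map_units A (zs i).2
      rw [← Submodule.smul_mem_iff_of_isUnit _ hu, algebraMap_smul]
      exact (hzs i).symm ▸ hz
  obtain ⟨g, s, hg⟩ := Module.FinitePresentation.exists_lift_of_isLocalizedModule m.primeCompl ιP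
    ((LinearEquiv.ofBijective Φm hΦm).symm.toLinearMap ∘ₗ ι)
  obtain ⟨G, hG⟩ := Module.Finite.fg_top (R := R) (M := M)
  have hloc : ∀ w, ∃ e : m.primeCompl, (e : R) • (Φ (g w) - (s : R) • w) = 0 := fun w => by
    have h1 := congrArg Φm (LinearMap.congr_fun hg w)
    simp only [LinearMap.comp_apply, LinearMap.smul_apply] at h1
    rw [IsLocalizedModule.map_apply, LinearMap.map_smul_of_tower, LinearEquiv.coe_coe, show ∀ v, Φm ((LinearEquiv.ofBijective Φm hΦm).symm v) = v from fun v => (LinearEquiv.ofBijective Φm hΦm).apply_symm_apply v] at h1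
    have h2 : ι (Φ (g w) - (s : R) • w) = 0 := by rw [map_sub, map_smul, h1, Submonoid.smul_def, sub_self]
    obtain ⟨e, he⟩ := (IsLocalizedModule.eq_zero_iff m.primeCompl ι).1 h2
    exact ⟨e, he⟩
  choose e he using hloc
  let E : m.primeCompl := ∏ w ∈ G, e w
  refine ⟨(E : R) * s, (E * s).2, n, f, Φ, (E : R) • g, LinearMap.ext fun w => ?_⟩
  rw [LinearMap.comp_apply, LinearMap.smul_apply, map_smul, LinearMap.smul_apply, LinearMap.id_apply, mul_smul, ← sub_eq_zero, ← smul_sub]
  have hw : w ∈ Submodule.span R (G : Set M) := hG ▸ Submodule.mem_top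
  induction hw using Submodule.span_induction with
  | mem w hw =>
    rw [show (E : R) = ((∏ v ∈ G.erase w, e v : m.primeCompl) : R) * (e w : R) by
      rw [← Submonoid.coe_mul, Finset.prod_erase_mul _ _ hw], mul_smul, he, smul_zero]
  | zero => simp
  | add a b _ _ ha hb => rw [map_add, map_add, smul_add, add_sub_add_comm, smul_add, ha, hb, add_zero]
  | smul r a _ ha => rw [map_smul, map_smul, smul_comm (s : R), ← smul_sub, smul_comm, ha, smul_zero]

/-- Elements `u` such that `u • id` factors through a finite sum of cyclic modules. -/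
def factorIdeal (R : Type u) [CommRing R] (M : Type u) [AddCommGroup M] [Module R M] : Ideal R where
  carrier := {u | ∃ (ι : Type) (_ : Fintype ι) (f : ι → R) (Φ : ((i : ι) → R ⧸ Ideal.span {f i}) →ₗ[R] M)
    (g : M →ₗ[R] ((i : ι) → R ⧸ Ideal.span {f i})), Φ ∘ₗ g = u • LinearMap.id}
  zero_mem' := ⟨Fin 0, inferInstance, Fin.elim0, 0, 0, by simp⟩
  add_mem' := by
    rintro u u' ⟨ι, _, f, Φ, g, h⟩ ⟨ι', _, f', Φ', g', h'⟩
    refine ⟨ι ⊕ ι', inferInstance, Sum.elim f f',
      Φ ∘ₗ LinearMap.pi (fun i => LinearMap.proj (Sum.inl i)) + Φ' ∘ₗ LinearMap.pi (fun i => LinearMap.proj (Sum.inr i)),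
      LinearMap.pi (fun | Sum.inl i => LinearMap.proj i ∘ₗ g | Sum.inr i => LinearMap.proj i ∘ₗ g'), ?_⟩
    rw [add_smul, ← h, ← h']
    exact LinearMap.ext fun w => rfl
  smul_mem' := by
    rintro c u ⟨ι, _, f, Φ, g, h⟩
    exact ⟨ι, inferInstance, f, Φ, c • g, by rw [LinearMap.comp_smul, h, smul_smul]; rfl⟩

/-- Let R be a ring such that for every maximal ideal m and all a, b in R_m, either a divides b or b
divides a in R_m. Then each finitely presented R-module is a direct summand of a direct sum of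
finitely many cyclic modules R/fR. -/
theorem result (R : Type u) [CommRing R]
    (h : ∀ (m : Ideal R) [m.IsMaximal], ∀ a b : Localization.AtPrime m, a ∣ b ∨ b ∣ a)
    (M : Type u) [AddCommGroup M] [Module R M] [Module.FinitePresentation R M] :
    ∃ (n : ℕ) (f : Fin n → R) (N : Type u) (_ : AddCommGroup N) (_ : Module R N),
      Nonempty ((M × N) ≃ₗ[R] ((i : Fin n) → R ⧸ Ideal.span {f i})) := by
  classical
  have htop : factorIdeal R M = ⊤ := by
    by_contra hne
    obtain ⟨m, hm, hle⟩ := Ideal.exists_le_maximal _ hne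
    haveI := hm
    obtain ⟨u, hu, n, f, Φ, g, hg⟩ := exists_local_section R M m (h m)
    exact hu (hle ⟨Fin n, inferInstance, f, Φ, g, hg⟩)
  obtain ⟨ι, _, f, Φ, g, hg⟩ := (Ideal.eq_top_iff_one _).1 htop
  have hgw : ∀ w, Φ (g w) = w := fun w => by simpa using LinearMap.congr_fun hg w
  let e := (Fintype.equivFin ι).symm
  refine ⟨Fintype.card ι, fun i => f (e i), LinearMap.ker Φ, inferInstance, inferInstance, ⟨?_⟩⟩
  let e₀ : (M × LinearMap.ker Φ) ≃ₗ[R] ((i : ι) → R ⧸ Ideal.span {f i}) := LinearEquiv.ofLinear (g.coprod (LinearMap.ker Φ).subtype)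
    (LinearMap.prod Φ ((LinearMap.id - g ∘ₗ Φ).codRestrict _ fun p => by simp [hgw])) (LinearMap.ext fun p => ?_) ?_
  exact e₀.trans (LinearEquiv.piCongrLeft R (fun i => R ⧸ Ideal.span {f i}) e).symm
  · simp
  · refine LinearMap.prod_ext (LinearMap.ext fun w => Prod.ext ?_ (Subtype.ext ?_)) (LinearMap.ext fun w => Prod.ext ?_ (Subtype.ext ?_))
    · simp [hgw]
    · simp [hgw]
    · simpa using LinearMap.mem_ker.1 w.2
    · simp [LinearMap.mem_ker.1 w.2]

end Groth.Agent.S2016
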