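import Groth.Statements.S2017
import Groth.Agent.EtaleAlgebra.FibreProductFT

set_option autoImplicit false
universe u
open EtAlg

namespace Groth.Agent.S2017

/-- Let R be a Noetherian ring, A, B, C R-algebras of finite type, f : A -> B a surjective R-algebra map
and g : C -> B an R-algebra map making B a finite C-module. Then the fibre product A ×_B C (the
equalizer of f ∘ pr₁ and g ∘ pr₂ in A × C) is an R-algebra of finite type. -/
theorem result (R A B C : Type u) [CommRing R] [IsNoetherianRing R] [CommRing A] [CommRing B]
    [CommRing C] [Algebra R A] [Algebra R B] [Algebra R C] [Algebra.FiniteType R A] [Algebra.FiniteType R B]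
    [Algebra.FiniteType R C] (f : A →ₐ[R] B) (hf : Function.Surjective f) (g : C →ₐ[R] B)
    (hg : (g.toRingHom).Finite) :
    Algebra.FiniteType R ↥(AlgHom.equalizer (f.comp (AlgHom.fst R A C)) (g.comp (AlgHom.snd R A C))) := by
  refine Groth.EtaleAlgebra.finiteType_of_fibreProduct f hf g hg
    ((AlgHom.fst R A C).comp (Subalgebra.val _)) ((AlgHom.snd R A C).comp (Subalgebra.val _))
    (fun a b h => Subtype.ext h) (fun e => e.2) (fun a c h => ⟨⟨(a, c), h⟩, rfl, rfl⟩)

end Groth.Agent.S2017
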