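import Groth.Statements.S2018
import Mathlib.Algebra.Polynomial.Monic
import Mathlib.RingTheory.Polynomial.Basic

set_option autoImplicit false
universe u
open EtAlg

namespace Groth.Agent.S2018

/-- Let g : A' -> A be a surjective ring map and f : B -> A an integral ring map. Then the projection
from the fibre product B ×_A A' (the equalizer of f ∘ pr₁ and g ∘ pr₂ in B × A') to A' is integral. -/
theorem result (A A' B : Type u) [CommRing A] [CommRing A'] [CommRing B] (g : A' →+* A)
    (hg : Function.Surjective g) (f : B →+* A) (hf : f.IsIntegral) :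
    ((RingHom.snd B A').comp ((f.comp (RingHom.fst B A')).eqLocus (g.comp (RingHom.snd B A'))).subtype).IsIntegral := by
  intro a'
  rcases subsingleton_or_nontrivial B with hB | hB
  · have hA : Subsingleton A := by
      refine subsingleton_of_zero_eq_one ?_
      rw [← map_zero f, ← map_one f, Subsingleton.elim (0 : B) 1]
    let z : ↥((f.comp (RingHom.fst B A')).eqLocus (g.comp (RingHom.snd B A'))) :=
      ⟨(0, a'), Subsingleton.elim (α := A) _ _⟩
    exact ⟨Polynomial.X - Polynomial.C z, Polynomial.monic_X_sub_C z, by simp [z]⟩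
  let S := (f.comp (RingHom.fst B A')).eqLocus (g.comp (RingHom.snd B A'))
  let φ : S →+* A' := (RingHom.snd B A').comp S.subtype
  obtain ⟨P, hP, hPa⟩ := hf (g a')
  let Q := P * Polynomial.X
  have hQ : Q.Monic := hP.mul Polynomial.monic_X
  have hQa : Polynomial.eval₂ f (g a') Q = 0 := by simp [Q, Polynomial.eval₂_mul, hPa]
  choose lift hlift using fun b : B => hg (f b)
  let S0 : ℕ → S := fun i => ⟨(Q.coeff i, lift (Q.coeff i)), (hlift _).symm⟩
  let Ψ : Polynomial S :=
    Polynomial.X ^ Q.natDegree + ∑ i ∈ Finset.range Q.natDegree, Polynomial.C (S0 i) * Polynomial.X ^ i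
  have hr : g (Polynomial.eval₂ φ a' Ψ) = 0 := by
    rw [Polynomial.hom_eval₂]
    conv_rhs => rw [← hQa]
    conv_rhs => rw [hQ.as_sum]
    simp only [Ψ, Polynomial.eval₂_add, Polynomial.eval₂_finset_sum, Polynomial.eval₂_mul,
      Polynomial.eval₂_C, Polynomial.eval₂_X_pow]
    simp [φ, S0, hlift]
  let c : S := ⟨(0, Polynomial.eval₂ φ a' Ψ), by
    show f 0 = g _
    rw [map_zero]; exact hr.symm⟩
  have hdeg : (∑ i ∈ Finset.range Q.natDegree, Polynomial.C (S0 i) * Polynomial.X ^ i - Polynomial.C c).degree
      < (Q.natDegree : ℕ) := by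
    refine lt_of_le_of_lt (Polynomial.degree_sub_le _ _) (max_lt ?_ ?_)
    · refine lt_of_le_of_lt (Polynomial.degree_sum_le _ _) ?_
      refine (Finset.sup_lt_iff (WithBot.bot_lt_coe _)).2 fun i hi => ?_
      exact lt_of_le_of_lt (Polynomial.degree_C_mul_X_pow_le _ _) (by exact_mod_cast Finset.mem_range.1 hi)
    · refine lt_of_le_of_lt Polynomial.degree_C_le ?_
      have : 0 < Q.natDegree := by
        rw [hP.natDegree_mul Polynomial.monic_X, Polynomial.natDegree_X]
        omega
      exact_mod_cast this
  refine ⟨Ψ - Polynomial.C c, ?_, ?_⟩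
  · rw [add_sub_assoc]
    exact (Polynomial.monic_X_pow _).add_of_left (hdeg.trans_le (by simp))
  · show Polynomial.eval₂ φ a' (Ψ - Polynomial.C c) = 0
    rw [Polynomial.eval₂_sub, Polynomial.eval₂_C]
    exact sub_self _

end Groth.Agent.S2018
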