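import Groth.Statements.S2032
-- import your own Groth.Agent.* helpers here

set_option autoImplicit false
universe u
open Smoothing

namespace Groth.Agent.S2032.Aux
open MvPolynomial Algebra

lemma det_trick {P : Type*} [CommRing P] (I J : Ideal P) (hI : I.FG) (a : P)
    (h : ∀ i ∈ I, a * i ∈ J ⊔ I ^ 2) :
    ∃ (g : P) (k : ℕ), g - a ^ k ∈ I ∧ ∀ i ∈ I, g * i ∈ J := by
  classical
  let N : Submodule P (P ⧸ J) := Submodule.map J.mkQ I
  have : Module.Finite P N := Module.Finite.iff_fg.mpr (Submodule.FG.map _ hI)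
  let f : Module.End P N := algebraMap P _ a
  have hf : LinearMap.range f ≤ I • ⊤ := by
    rintro y ⟨⟨x, hx⟩, rfl⟩
    rw [← Submodule.comap_map_eq_of_injective N.injective_subtype (I • ⊤), Submodule.mem_comap,
      Submodule.map_smul'', Submodule.map_top, Submodule.range_subtype]
    obtain ⟨i, hi, rfl⟩ := hx
    obtain ⟨j, hj, q, hq, hjq⟩ := Submodule.mem_sup.1 (h i hi)
    show a • J.mkQ i ∈ I • N
    rw [← map_smul, smul_eq_mul, ← hjq, map_add, show J.mkQ j = 0 from (Submodule.Quotient.mk_eq_zero J).2 hj, zero_add, ← Submodule.map_smul'']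
    exact Submodule.mem_map_of_mem (by simpa [sq] using hq)
  obtain ⟨p, hp, -, hc, he⟩ :=
    LinearMap.exists_monic_and_natDegree_eq_and_coeff_mem_pow_and_aeval_eq_zero P f I hf
  refine ⟨p.eval a, p.natDegree, ?_, fun i hi => ?_⟩
  · rw [Polynomial.eval_eq_sum_range, Finset.sum_range_succ, hp.coeff_natDegree, one_mul, add_sub_cancel_right]
    refine Ideal.sum_mem _ fun k hk => I.mul_mem_right _ ?_
    have hk' : p.natDegree - k ≠ 0 := by have := Finset.mem_range.1 hk; omega
    exact Ideal.pow_le_self hk' (hc k)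
  · have h1 := LinearMap.congr_fun he ⟨J.mkQ i, Submodule.mem_map_of_mem hi⟩
    rw [Polynomial.aeval_algebraMap_apply_eq_algebraMap_eval] at h1
    have h2 := congrArg Subtype.val h1
    simp only [Module.algebraMap_end_apply, LinearMap.zero_apply, Submodule.coe_smul,
      Submodule.coe_zero] at h2
    rw [← map_smul] at h2
    exact (Submodule.Quotient.mk_eq_zero J).1 h2

lemma isStandardSmooth_of_presentation {R A L : Type*} [CommRing R] [CommRing A] [Algebra R A]
    [CommRing L] [Algebra R L] [Algebra A L] [IsScalarTower R A L]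
    {n c : ℕ} (hom : MvPolynomial (Fin n) R →ₐ[R] A) (hsurj : Function.Surjective hom)
    (J : Fin c → MvPolynomial (Fin n) R) (cols : Fin c → Fin n) (hcols : Function.Injective cols)
    (hJ : ∀ j, hom (J j) = 0) (G : MvPolynomial (Fin n) R) (a : A) [IsLocalization.Away a L]
    (hker : ∀ i, hom i = 0 → G * i ∈ Ideal.span (Set.range J))
    (k : ℕ) (hGa : hom G = a ^ k) (a' : MvPolynomial (Fin n) R) (ha' : hom a' = a) (hdvd : a' ∣ G)
    (hdet : (Matrix.of fun i j => pderiv (cols i) (J j)).det ∣ G) :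
    Algebra.IsStandardSmooth R L := by
  classical
  let ι := Fin n ⊕ Unit
  let r : MvPolynomial (Fin n) R →ₐ[R] MvPolynomial ι R := rename Sum.inl
  let v : Fin c ⊕ Unit → MvPolynomial ι R :=
    Sum.elim (fun j => r (J j)) (fun _ => r G * X (Sum.inr ()) - 1)
  let amap : Fin c ⊕ Unit → ι := Sum.map cols id
  have hamap : Function.Injective amap := hcols.sumMap Function.injective_id
  let P₀ := PreSubmersivePresentation.naive (v := v) amap hamap
  let Q := MvPolynomial ι R ⧸ Ideal.span (Set.range v)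
  let π : MvPolynomial ι R →ₐ[R] Q := Ideal.Quotient.mkₐ R _
  have hv : ∀ x, π (v x) = 0 := fun x => Ideal.Quotient.eq_zero_iff_mem.2 (Ideal.subset_span ⟨x, rfl⟩)
  have hG : π (r G) * π (X (Sum.inr ())) = 1 := by
    have := hv (Sum.inr ())
    simpa [v, sub_eq_zero] using this
  have hGu : IsUnit (π (r G)) := .of_mul_eq_one _ hG
  have hju : IsUnit P₀.jacobian := by
    have hπ : aeval P₀.val = π := algHom_ext fun i => by simp [P₀, π]
    rw [PreSubmersivePresentation.jacobian_eq_jacobiMatrix_det]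
    have : P₀.jacobiMatrix = Matrix.fromBlocks (r.toRingHom.mapMatrix (Matrix.of fun i j => pderiv (cols i) (J j)))
        (Matrix.of fun i _ => pderiv (Sum.inl (cols i)) (r G * X (Sum.inr ()) - 1)) 0 (Matrix.of fun _ _ => r G) := by
      ext i j
      have hpd0 : ∀ q, pderiv (Sum.inr () : ι) (r q) = 0 := fun q => by
        refine pderiv_eq_zero_of_notMem_vars fun hh => ?_
        have := vars_rename (Sum.inl : Fin n → ι) q hh
        simp at this
      rcases i with i | i <;> rcases j with j | j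
      · simp only [P₀, PreSubmersivePresentation.jacobiMatrix_naive]
        simp [v, amap, r, pderiv_rename Sum.inl_injective]
      · simp [P₀, v, amap]
      · simp [P₀, v, amap, hpd0]
      · simp [P₀, v, amap, hpd0]
    rw [this, Matrix.det_fromBlocks_zero₂₁, map_mul, ← RingHom.map_det]
    rw [Algebra.Generators.algebraMap_eq, hπ]
    refine IsUnit.mul ?_ ?_
    · obtain ⟨d, hd⟩ := hdet
      have hGu' := hGu
      rw [hd, map_mul, map_mul] at hGu'
      exact isUnit_of_mul_isUnit_left hGu'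
    · simpa using hGu
  let S : SubmersivePresentation R Q ι (Fin c ⊕ Unit) := { P₀ with jacobian_isUnit := hju }
  suffices e : Nonempty (Q ≃ₐ[R] L) by
    obtain ⟨e⟩ := e
    exact (S.ofAlgEquiv e).isStandardSmooth
  obtain ⟨e⟩ : IsUnit (algebraMap A L (a ^ k)) := by
    rw [map_pow]; exact (IsLocalization.Away.algebraMap_isUnit a).pow k
  let Φ : MvPolynomial ι R →ₐ[R] L :=
    aeval (Sum.elim (fun i => algebraMap A L (hom (X i))) (fun _ => ((e⁻¹ : Lˣ) : L)))
  have hΦr : Φ.comp r = (IsScalarTower.toAlgHom R A L).comp hom := by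
    ext i; simp [Φ, r]
  have hΦr' : ∀ q, Φ (r q) = algebraMap A L (hom q) := AlgHom.congr_fun hΦr
  have hΦv : ∀ x ∈ Ideal.span (Set.range v), Φ x = 0 := by
    intro x hx
    refine (Ideal.span_le (I := RingHom.ker Φ)).2 ?_ hx
    rintro _ ⟨j | j, rfl⟩ <;> show Φ _ = 0
    · simp [v, hΦr', hJ]
    · have hy : Φ (X (Sum.inr ())) = ((e⁻¹ : Lˣ) : L) := by simp [Φ]
      simp [v, hΦr', hGa, ← ‹(e : L) = _›, hy]
  let F : Q →ₐ[R] L := Ideal.Quotient.liftₐ _ Φ hΦv
  let ψ : MvPolynomial (Fin n) R →ₐ[R] Q := π.comp r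
  have hψ : ∀ i ∈ RingHom.ker hom.toRingHom, ψ i = 0 := fun i hi => by
    have : ψ (G * i) = 0 := by
      refine (Ideal.span_le (I := RingHom.ker ψ)).2 ?_ (hker i hi)
      rintro _ ⟨j, rfl⟩; exact hv (Sum.inl j)
    rw [map_mul] at this
    exact hGu.mul_right_eq_zero.1 this
  let B : A →ₐ[R] Q := (Ideal.Quotient.liftₐ _ ψ hψ).comp
    (Ideal.quotientKerAlgEquivOfSurjective hsurj).symm.toAlgHom
  have hB : ∀ q, B (hom q) = ψ q := fun q => by
    have : (Ideal.quotientKerAlgEquivOfSurjective hsurj).symm (hom q) = Ideal.Quotient.mk _ q := by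
      apply (Ideal.quotientKerAlgEquivOfSurjective hsurj).injective
      rw [AlgEquiv.apply_symm_apply]; rfl
    show Ideal.Quotient.liftₐ _ ψ hψ ((Ideal.quotientKerAlgEquivOfSurjective hsurj).symm (hom q)) = ψ q
    exact (congrArg (Ideal.Quotient.liftₐ _ ψ hψ) this).trans rfl
  have hBu : IsUnit (B a) := by
    obtain ⟨d, hd⟩ := hdvd
    have hGu' : IsUnit (ψ G) := hGu
    rw [hd, map_mul] at hGu'
    rw [← ha', hB]; exact isUnit_of_mul_isUnit_left hGu'
  let Bk : L →ₐ[R] Q :=
    { IsLocalization.Away.lift a (g := B.toRingHom) hBu with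
      commutes' := fun x => by
        rw [IsScalarTower.algebraMap_apply R A L]
        exact (IsLocalization.Away.lift_eq a hBu _).trans (B.commutes x) }
  have hBk : ∀ x, Bk (algebraMap A L x) = B x := fun x => IsLocalization.Away.lift_eq a hBu x
  have hFψ : ∀ q, F (ψ q) = algebraMap A L (hom q) := fun q => hΦr' q
  refine ⟨AlgEquiv.ofAlgHom F Bk ?_ ?_⟩
  · apply AlgHom.coe_ringHom_injective
    refine IsLocalization.ringHom_ext (Submonoid.powers a) ?_
    ext x
    obtain ⟨q, rfl⟩ := hsurj x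
    simpa [hBk, hB] using hFψ q
  · apply Ideal.Quotient.algHom_ext
    ext i
    rcases i with i | i
    · show Bk (Φ (X (Sum.inl i))) = π (X (Sum.inl i))
      simp [Φ, hBk, hB, ψ, r]
    · show Bk (Φ (X (Sum.inr i))) = π (X (Sum.inr i))
      have h1 : Bk (Φ (X (Sum.inr i))) * π (r G) = 1 := by
        have hGk : π (r G) = Bk (e : L) := by
          rw [‹(e : L) = _›, hBk, ← hGa, hB]; rfl
        rw [hGk, ← map_mul]
        simp [Φ]
      exact hGu.mul_right_cancel (h1.trans (by rw [mul_comm]; exact hG.symm))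

end Groth.Agent.S2032.Aux

namespace Groth.Agent.S2032

/-- For a finitely presented `R`-algebra `A` and `a ∈ A`, if `a` is elementary standard then `A_a` is
standard smooth over `R`. (Part (f), the converse for large powers of `a`, is not stated: as
published it fails, for example for the nodal cubic `A = {g ∈ ℚ[u] : g(0) = g(1)}` and `a =
u(u-1)`.) -/
theorem result {R A : Type u} [CommRing R] [CommRing A]
    [Algebra R A] [Algebra.FinitePresentation R A] (a : A)
    (ha : Smoothing.IsElementaryStandard R A a) : Algebra.IsStandardSmooth R (Localization.Away a) := by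
  classical
  obtain ⟨P, ⟨b, hb⟩, hkill⟩ := ha
  obtain ⟨b', rfl⟩ := P.surj b
  let d := Smoothing.jacobianMinor P.rel (Fin.castLE P.hcm) (Fin.castLE P.hcn)
  let I := Ideal.span (Set.range P.rel)
  let Jv : Fin P.c → MvPolynomial (Fin P.n) R := fun j => P.rel (Fin.castLE P.hcm j)
  have hI : ∀ x, P.hom x = 0 ↔ x ∈ I := fun x => by
    show _ ↔ x ∈ Ideal.span _
    rw [← P.ker_eq]; exact RingHom.mem_ker.symm
  have hJ : ∀ j : Fin P.m, (j : ℕ) < P.c → P.rel j ∈ Ideal.span (Set.range Jv) := fun j hj =>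
    Ideal.subset_span ⟨⟨j, hj⟩, by simp [Jv]⟩
  have ha' : P.hom (b' * d) = a := by rw [map_mul]; exact hb.symm
  have hall : ∀ i ∈ I, b' * d * i ∈ Ideal.span (Set.range Jv) ⊔ I ^ 2 := by
    intro i hi
    induction hi using Submodule.span_induction with
    | mem x hx =>
      obtain ⟨j, rfl⟩ := hx
      by_cases hj : (j : ℕ) < P.c
      · exact Ideal.mem_sup_left (Ideal.mul_mem_left _ _ (hJ j hj))
      · have hle : Ideal.span (P.rel '' {j' : Fin P.m | (j' : ℕ) < P.c}) ≤ Ideal.span (Set.range Jv) := by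
          rw [Ideal.span_le]
          rintro _ ⟨j', hj', rfl⟩
          exact hJ j' hj'
        exact (sup_le_sup hle le_rfl : _ ≤ Ideal.span (Set.range Jv) ⊔ I ^ 2) (hkill _ ha' j (not_lt.1 hj))
    | zero => simp
    | add x y _ _ hx hy => rw [mul_add]; exact add_mem hx hy
    | smul r x _ hx => rw [smul_eq_mul, mul_left_comm]; exact Ideal.mul_mem_left _ r hx
  obtain ⟨g, k, hgk, hg⟩ := Aux.det_trick I _ ⟨Finset.univ.image P.rel, by simp [I]⟩ (b' * d) hall
  have hga : P.hom g = a ^ k := by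
    rw [← sub_eq_zero, ← ha', ← map_pow, ← map_sub]
    exact (hI _).2 hgk
  refine Aux.isStandardSmooth_of_presentation P.hom P.surj Jv (Fin.castLE P.hcn)
    (Fin.castLE_injective _) (fun j => (hI _).2 (Ideal.subset_span ⟨_, rfl⟩))
    (b' * d * g) a (fun i hi => ?_) (k + 1) ?_ (b' * d) ha' (dvd_mul_right _ _) ?_
  · rw [mul_assoc]; exact Ideal.mul_mem_left _ _ (hg i ((hI i).1 hi))
  · rw [map_mul, ha', hga, pow_succ']
  · have : (Matrix.of fun i j => MvPolynomial.pderiv (Fin.castLE P.hcn i) (Jv j)).det = d := by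
      rw [← Matrix.det_transpose]; rfl
    rw [this]
    exact Dvd.dvd.mul_right (dvd_mul_left _ _) _

end Groth.Agent.S2032
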