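import Groth.Statements.S2040
import Groth.Agent.Ega4Algebra2.GenericFS
import Groth.Agent.S2487
-- import your own Groth.Agent.* helpers here

set_option autoImplicit false
universe u
open CAlg

namespace Groth.Agent.S2040

/-- For a complete Noetherian local ring `A` with residue field `k`, and a complete Noetherian local
`k`-algebra `B` which is formally smooth over `k` for the adic topology of its maximal ideal, there
is a Noetherian complete local ring `C` with a local homomorphism `A → C`, formally smooth for the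
adic topology of the maximal ideal of `C`, whose special fibre `C ⊗ k` is isomorphic to `B` over
`k`. -/
theorem result {A B : Type u} [CommRing A] [IsLocalRing A]
    [IsNoetherianRing A] [IsAdicComplete (IsLocalRing.maximalIdeal A) A] [CommRing B] [IsLocalRing B]
    [IsNoetherianRing B] [IsAdicComplete (IsLocalRing.maximalIdeal B) B]
    [Algebra (IsLocalRing.maximalIdeal A).ResidueField B]
    (hB : CAlgX.IsAdicFormallySmooth (IsLocalRing.maximalIdeal A).ResidueField B (IsLocalRing.maximalIdeal B)) :
    ∃ (C : Type u) (_ : CommRing C) (_ : IsLocalRing C) (_ : Algebra A C),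
      IsNoetherianRing C ∧ IsAdicComplete (IsLocalRing.maximalIdeal C) C ∧ IsLocalHom (algebraMap A C) ∧
        CAlgX.IsAdicFormallySmooth A C (IsLocalRing.maximalIdeal C) ∧
        Nonempty ((IsLocalRing.maximalIdeal A).Fiber C ≃ₐ[(IsLocalRing.maximalIdeal A).ResidueField] B) := by
  classical
  let κ := (IsLocalRing.maximalIdeal A).ResidueField
  let m := IsLocalRing.maximalIdeal A
  let e : (A ⧸ m) ≃+* κ := RingEquiv.ofBijective _ m.bijective_algebraMap_quotient_residueField
  letI : Algebra (A ⧸ m) B := ((algebraMap κ B).comp e.toRingHom).toAlgebra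
  letI : Field (A ⧸ m) := Ideal.Quotient.field m
  haveI : IsLocalRing (A ⧸ m) := inferInstance
  haveI : IsLocalHom (algebraMap (A ⧸ m) B) := ⟨fun a ha => by
    refine isUnit_iff_ne_zero.mpr fun h0 => ?_
    rw [h0, map_zero] at ha
    exact not_isUnit_zero ha⟩
  have hm0 : IsLocalRing.maximalIdeal (A ⧸ m) = ⊥ :=
    IsLocalRing.eq_maximalIdeal Ideal.bot_isMaximal |>.symm
  have hfs : EGA41.IsFormallySmoothAdic (A ⧸ m) (IsLocalRing.maximalIdeal (A ⧸ m)) B
      (IsLocalRing.maximalIdeal B) := by
    rw [hm0]
    exact Groth.Ega4b.isFormallySmoothAdic_of_base_equiv e (fun _ => rfl) Ideal.map_bot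
      (Groth.Ega41Adic.isAdicFormallySmooth_iff.mp hB)
  obtain ⟨C, _, _, _, _, hloc, hCc, hCflat, ⟨w⟩⟩ := (Groth.Agent.S2487.result m le_rfl B hfs).1
  haveI := hCc; haveI := hCflat; haveI := hloc
  letI : Algebra A B := ((algebraMap (A ⧸ m) B).comp (Ideal.Quotient.mk m)).toAlgebra
  haveI : IsScalarTower A (A ⧸ m) B := IsScalarTower.of_algebraMap_eq fun _ => rfl
  let incR : C →ₐ[A] TensorProduct A (A ⧸ m) C := Algebra.TensorProduct.includeRight
  let p : C →ₐ[A] B := ((w : TensorProduct A (A ⧸ m) C →ₐ[A ⧸ m] B).restrictScalars A).comp incR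
  have hp : Function.Surjective p :=
    w.surjective.comp (Algebra.TensorProduct.includeRight_surjective C Ideal.Quotient.mk_surjective)
  have hker : RingHom.ker p.toRingHom ≤ m.map (algebraMap A C) := fun x hx => by
    rw [← Ideal.Quotient.eq_zero_iff_mem]
    refine (Algebra.TensorProduct.quotIdealMapEquivQuotTensor C m).injective ?_
    rw [map_zero, Algebra.TensorProduct.quotIdealMapEquivQuotTensor_mk]
    exact w.injective (hx.trans (map_zero w).symm)
  refine ⟨C, inferInstance, inferInstance, inferInstance, inferInstance, hCc, hloc, ?_, ⟨?_⟩⟩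
  · exact Groth.Ega41Flat.isAdicFormallySmooth_iff_local.mpr
      (Groth.Ega41Flat.isFormallySmoothAdic_of_flat (Groth.Ega41Flat.isFormallySmoothAdic_fibre m le_rfl p hp
        hker (IsLocalRing.map_maximalIdeal_of_surjective _ hp) (by rwa [Ideal.map_quotient_self, ← hm0])))
  · let ψ : (A ⧸ m) ≃ₐ[A] κ := AlgEquiv.ofBijective (IsScalarTower.toAlgHom A (A ⧸ m) κ)
      m.bijective_algebraMap_quotient_residueField
    refine AlgEquiv.ofRingEquiv (f := ((Algebra.TensorProduct.congr ψ (AlgEquiv.refl : C ≃ₐ[A] C)).symm.toRingEquiv.trans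
      w.toRingEquiv)) fun x => ?_
    obtain ⟨y, rfl⟩ := e.surjective x
    show w ((Algebra.TensorProduct.congr ψ (AlgEquiv.refl : C ≃ₐ[A] C)).symm (TensorProduct.tmul A (e y) (1 : C))) = _
    rw [show (Algebra.TensorProduct.congr ψ (AlgEquiv.refl : C ≃ₐ[A] C)).symm (TensorProduct.tmul A (e y) (1 : C)) =
      algebraMap (A ⧸ m) _ y from (AlgEquiv.symm_apply_eq _).mpr rfl, w.commutes]
    rfl

end Groth.Agent.S2040
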