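import Groth.Statements.S2043
import Groth.Agent.Hensel1.NbhdPoint
import Groth.Agent.Hensel1.SmoothLift

set_option autoImplicit false
universe u
open CAlg

namespace Groth.Agent.S2043

/-- Let `I ⊆ A` be an ideal, `B` a smooth `A`-algebra and `B → A/I` an `A`-algebra map. Then there is an
étale `A`-algebra `A'` with `A/I → A'/IA'` bijective and an `A`-algebra map `B → A'` lifting the
given map. -/
theorem result {A B : Type u} [CommRing A] [CommRing B] [Algebra A B]
    [Algebra.Smooth A B] (I : Ideal A) (σ : B →ₐ[A] A ⧸ I) :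
    ∃ (A' : Type u) (_ : CommRing A') (_ : Algebra A A'), Algebra.Etale A A' ∧
      Function.Bijective (algebraMap (A ⧸ I) (A' ⧸ I.map (algebraMap A A'))) ∧
      ∃ τ : B →ₐ[A] A', ∀ b : B,
        Ideal.Quotient.mk (I.map (algebraMap A A')) (τ b) =
          algebraMap (A ⧸ I) (A' ⧸ I.map (algebraMap A A')) (σ b) := by
  obtain ⟨E, _, _, τ, ρ, _, hρ⟩ := Groth.Hensel1.exists_etale_factor I σ
  obtain ⟨g, σ', hN, hσ'⟩ := Groth.Hensel1.exists_isNbhd_of_point I ρ
  refine ⟨Localization.Away g, inferInstance, inferInstance, hN.etale, hN.bijective,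
    (IsScalarTower.toAlgHom A E (Localization.Away g)).comp τ, fun b => ?_⟩
  set x := (IsScalarTower.toAlgHom A E (Localization.Away g)).comp τ b
  obtain ⟨a, ha⟩ := hN.surj x
  have h1 := Groth.HensPair.algHom_quotient_eq_zero σ' ha
  rw [map_sub, AlgHom.commutes, sub_eq_zero] at h1
  have h2 : σ b = Ideal.Quotient.mk I a := by
    rw [← hρ, ← hσ']
    exact h1
  rw [h2]
  exact Ideal.Quotient.eq.mpr ha

end Groth.Agent.S2043
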