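import Groth.Statements.S2044
import Groth.Agent.Hensel1.MatrixLift
import Groth.Agent.HensPair.Colimit
import Mathlib.RingTheory.Finiteness.Projective
import Mathlib.LinearAlgebra.Matrix.ToLin
import Mathlib.LinearAlgebra.TensorProduct.Pi

set_option autoImplicit false
universe u
open CAlg

namespace Groth.Agent.S2044

open TensorProduct in
/-- Let `I ⊆ A` be an ideal and `P` a finite projective `A/I`-module. Then there is an étale `A`-algebra
`A'` with `A/I → A'/IA'` bijective and a finite projective `A'`-module whose reduction modulo `IA'`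
is the base change of `P`. -/
theorem result {A : Type u} [CommRing A] (I : Ideal A) (P : Type u)
    [AddCommGroup P] [Module (A ⧸ I) P] [Module.Finite (A ⧸ I) P] [Module.Projective (A ⧸ I) P] :
    ∃ (A' : Type u) (_ : CommRing A') (_ : Algebra A A'), Algebra.Etale A A' ∧
      Function.Bijective (algebraMap (A ⧸ I) (A' ⧸ I.map (algebraMap A A'))) ∧
      ∃ (P' : Type u) (_ : AddCommGroup P') (_ : Module A' P'), Module.Finite A' P' ∧
        Module.Projective A' P' ∧
        Nonempty (((A' ⧸ I.map (algebraMap A A')) ⊗[A'] P') ≃ₗ[A' ⧸ I.map (algebraMap A A')]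
          ((A' ⧸ I.map (algebraMap A A')) ⊗[A ⧸ I] P)) := by
  classical
  obtain ⟨n, π, s, -, -, hπs⟩ := Module.Finite.exists_comp_eq_id_of_projective (A ⧸ I) P
  let M₀ : Matrix (Fin n) (Fin n) (A ⧸ I) := LinearMap.toMatrix' (s ∘ₗ π)
  choose M hM using fun i j => Ideal.Quotient.mk_surjective (I := I) (M₀ i j)
  have hidem : IsIdempotentElem M₀ := by
    show M₀ * M₀ = M₀
    rw [← LinearMap.toMatrix'_comp]
    congr 1
    refine LinearMap.ext fun v => ?_
    show s (π (s (π v))) = s (π v)
    rw [show π (s (π v)) = π v from LinearMap.congr_fun hπs (π v)]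
  let Jz := I.map (algebraMap A (Groth.HensPair.Hz I))
  have := Groth.HensPair.henselianRing I
  have hidz : IsIdempotentElem
      (((Matrix.of M).map (algebraMap A (Groth.HensPair.Hz I))).map (Ideal.Quotient.mk Jz)) := by
    have : ((Matrix.of M).map (algebraMap A (Groth.HensPair.Hz I))).map (Ideal.Quotient.mk Jz) =
        M₀.map (algebraMap (A ⧸ I) (Groth.HensPair.Hz I ⧸ Jz)) := by
      ext i j
      show _ = algebraMap (A ⧸ I) _ (M₀ i j)
      rw [← hM i j]
      rfl
    rw [this]
    exact hidem.map (algebraMap (A ⧸ I) (Groth.HensPair.Hz I ⧸ Jz)).mapMatrix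
  obtain ⟨Qz, hQz, hQzM⟩ := Groth.Hensel1.exists_matrix_idempotent_lift Jz
    ((Matrix.of M).map (algebraMap A (Groth.HensPair.Hz I))) hidz
  obtain ⟨i, y, hy⟩ := Groth.HensPair.exists_of_fintype (fun k : Fin n × Fin n => Qz k.1 k.2)
  have step : ∀ t : Finset (Fin n × Fin n), ∃ (j : Groth.HensPair.Idx I) (f : i.Obj →ₐ[A] j.Obj),
      ∀ k ∈ t, f (∑ l, y (k.1, l) * y (l, k.2)) = f (y k) := by
    intro t
    induction t using Finset.induction with
    | empty => exact ⟨i, AlgHom.id A _, by simp⟩
    | insert a t ha ih =>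
      obtain ⟨j, f, hf⟩ := ih
      have h1 : Groth.HensPair.of I j (f (∑ l, y (a.1, l) * y (l, a.2))) =
          Groth.HensPair.of I j (f (y a)) := by
        rw [← AlgHom.comp_apply, ← AlgHom.comp_apply, Groth.HensPair.of_comp, map_sum]
        simp only [map_mul, hy]
        exact (Matrix.mul_apply.symm.trans (congr_fun (congr_fun hQz.eq a.1) a.2))
      obtain ⟨k, g, hg⟩ := Groth.HensPair.of_eq_of h1
      refine ⟨k, g.comp f, fun c hc => ?_⟩
      rcases Finset.mem_insert.mp hc with rfl | hc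
      · exact hg
      · exact congr_arg g (hf c hc)
  obtain ⟨j, f, hf⟩ := step Finset.univ
  have hbij := j.isNbhd.bijective
  refine ⟨j.Obj, inferInstance, inferInstance, j.isNbhd.etale, hbij, ?_⟩
  let J := I.map (algebraMap A j.Obj)
  let Q : Matrix (Fin n) (Fin n) j.Obj := Matrix.of fun a b => f (y (a, b))
  have hQ : IsIdempotentElem Q := by
    show Q * Q = Q
    ext a b
    rw [Matrix.mul_apply]
    simp only [Q, Matrix.of_apply, ← map_mul, ← map_sum]
    exact hf (a, b) (Finset.mem_univ _)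
  have hQM : Q.map (Ideal.Quotient.mk J) = M₀.map (algebraMap (A ⧸ I) (j.Obj ⧸ J)) := by
    ext a b
    show Ideal.Quotient.mk J (f (y (a, b))) = algebraMap (A ⧸ I) (j.Obj ⧸ J) (M₀ a b)
    obtain ⟨c, hc⟩ := j.isNbhd.surj (f (y (a, b)))
    have h1 := Groth.HensPair.algHom_map_le (Groth.HensPair.of I j) hc
    rw [map_sub, AlgHom.commutes, ← AlgHom.comp_apply, Groth.HensPair.of_comp, hy] at h1
    have h2 : Ideal.Quotient.mk Jz (Qz a b) = Ideal.Quotient.mk Jz (algebraMap A _ (M a b)) :=
      congr_fun (congr_fun hQzM a) b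
    have h3 : Ideal.Quotient.mk I c = Ideal.Quotient.mk I (M a b) := by
      refine (Groth.HensPair.quotientMap_bijective I).1 ?_
      rw [Ideal.quotientMap_mk, Ideal.quotientMap_mk, ← h2]
      exact (Ideal.Quotient.eq.mpr h1).symm
    rw [← hM a b, ← h3]
    exact Ideal.Quotient.eq.mpr hc
  let C := j.Obj ⧸ J
  let ε := TensorProduct.piScalarRight (A ⧸ I) C C (Fin n)
  refine Groth.Hensel1.exists_projective_of_idempotent J hQ
    (π.baseChange C ∘ₗ ε.symm.toLinearMap) (ε.toLinearMap ∘ₗ s.baseChange C) ?_ fun v => ?_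
  · refine LinearMap.ext fun x => ?_
    show π.baseChange C (ε.symm (ε (s.baseChange C x))) = x
    rw [ε.symm_apply_apply, ← LinearMap.comp_apply, ← LinearMap.baseChange_comp, hπs,
      LinearMap.baseChange_id]
    rfl
  · show ε (s.baseChange C (π.baseChange C (ε.symm v))) = _
    rw [← LinearMap.comp_apply (s.baseChange C), ← LinearMap.baseChange_comp, hQM]
    have h1 : (ε.toLinearMap ∘ₗ (s ∘ₗ π).baseChange C ∘ₗ ε.symm.toLinearMap) =
        (M₀.map (algebraMap (A ⧸ I) C)).mulVecLin := by
      refine LinearMap.pi_ext' fun k => LinearMap.ext_ring ?_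
      funext l
      show ε ((s ∘ₗ π).baseChange C (ε.symm (Pi.single k 1))) l =
        (M₀.map (algebraMap (A ⧸ I) C)).mulVec (Pi.single k 1) l
      rw [show ε.symm (Pi.single k 1) = (1 : C) ⊗ₜ[A ⧸ I] (Pi.single k (1 : A ⧸ I)) from by
        rw [LinearEquiv.symm_apply_eq]; ext m; rcases eq_or_ne m k with rfl | h <;> simp [ε, *]]
      simp [ε, M₀, LinearMap.toMatrix'_apply, Algebra.algebraMap_eq_smul_one]
    exact LinearMap.congr_fun h1 v

end Groth.Agent.S2044
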