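import Groth.Statements.S2048
import Groth.Agent.Calg1.SeparatingDerivation
import Groth.Agent.Calg2.CompleteStructure

set_option autoImplicit false
universe u
open CAlg

namespace Groth.Agent.S2048

/-- Let `p` be a prime and `B` a domain of characteristic `p`, finitely generated as an algebra over
some complete Noetherian local ring. If `f ∈ B` has no `p`-th root in the fraction field of `B`,
then some derivation `D : B → B` has `D(f) ≠ 0`. -/
theorem result {R B : Type u} [CommRing R] [IsLocalRing R]
    [IsNoetherianRing R] [IsAdicComplete (IsLocalRing.maximalIdeal R) R] [CommRing B] [IsDomain B]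
    [Algebra R B] [Algebra.FiniteType R B] (p : ℕ) [Fact p.Prime] [CharP B p] (f : B)
    (hf : ∀ x : FractionRing B, x ^ p ≠ algebraMap B (FractionRing B) f) :
    ∃ D : Derivation ℤ B B, D f ≠ 0 := by
  classical
  let P := RingHom.ker (algebraMap R B)
  haveI : P.IsPrime := RingHom.ker_isPrime _
  let D := R ⧸ P
  haveI : IsLocalRing D := IsLocalRing.of_surjective' (Ideal.Quotient.mk P) Ideal.Quotient.mk_surjective
  haveI : IsAdicComplete (IsLocalRing.maximalIdeal D) D := by
    have hm : (IsLocalRing.maximalIdeal R).map (Ideal.Quotient.mk P) = IsLocalRing.maximalIdeal D := by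
      have hmax : ((IsLocalRing.maximalIdeal R).map (Ideal.Quotient.mk P)).IsMaximal :=
        Ideal.IsMaximal.map_of_surjective_of_ker_le Ideal.Quotient.mk_surjective
          (by rw [Ideal.mk_ker]; exact IsLocalRing.le_maximalIdeal (Ideal.IsPrime.ne_top inferInstance))
      exact IsLocalRing.eq_maximalIdeal hmax
    have hs : Function.Surjective (AdicCompletion.of (IsLocalRing.maximalIdeal R) D) := fun z => by
      obtain ⟨w, rfl⟩ := AdicCompletion.map_surjective (IsLocalRing.maximalIdeal R) (Submodule.mkQ_surjective P) z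
      obtain ⟨c, rfl⟩ := AdicCompletion.of_surjective (IsLocalRing.maximalIdeal R) R w
      exact ⟨Submodule.mkQ P c, (AdicCompletion.map_of (IsLocalRing.maximalIdeal R) (Submodule.mkQ P) c).symm⟩
    haveI : IsAdicComplete (IsLocalRing.maximalIdeal R) D :=
      AdicCompletion.of_bijective_iff.1 ⟨AdicCompletion.of_injective _ _, hs⟩
    rw [← hm]
    exact (IsAdicComplete.map_algebraMap_iff (IsLocalRing.maximalIdeal R) D (S := D)).2 inferInstance
  letI : Algebra D B := (RingHom.kerLift (algebraMap R B)).toAlgebra
  haveI : IsScalarTower R D B := IsScalarTower.of_algebraMap_eq (R := R) (S := D) (A := B) fun r =>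
    (RingHom.kerLift_mk _ r).symm
  haveI : Algebra.FiniteType D B := Algebra.FiniteType.of_restrictScalars_finiteType R D B
  have hDinj : Function.Injective (algebraMap D B) := RingHom.kerLift_injective _
  haveI : CharP D p := RingHom.charP (algebraMap D B) hDinj p
  obtain ⟨Λ, _, d, g, hcase, hg, hgfin, -⟩ := Groth.Calg2.CompleteStructure.exists_finite_injective D
  have hF : IsField Λ := by
    refine hcase.resolve_right ?_
    rintro ⟨_, hdvr, -, q, hq, hmax⟩
    have h0 : (p : Λ) = 0 := by
      refine (MvPowerSeries.C_injective (σ := Fin d)) (hg ?_)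
      rw [map_natCast, map_natCast, CharP.cast_eq_zero, map_zero, map_zero]
    have hne : IsLocalRing.maximalIdeal Λ ≠ ⊥ := fun h =>
      IsDiscreteValuationRing.not_a_field Λ h
    have hqp : q = p := by
      by_contra hne'
      have hco : Nat.Coprime q p := (Nat.coprime_primes hq Fact.out).2 hne'
      obtain ⟨a, b, hab⟩ := Int.isCoprime_iff_gcd_eq_one.2 (by exact_mod_cast hco : Int.gcd (q : ℤ) p = 1)
      refine (IsLocalRing.maximalIdeal.isMaximal Λ).ne_top ((Ideal.eq_top_iff_one _).2 ?_)
      rw [hmax, Ideal.mem_span_singleton']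
      refine ⟨(a : Λ), ?_⟩
      have := congrArg (fun z : ℤ => (z : Λ)) hab
      push_cast at this
      rwa [h0, mul_zero, add_zero] at this
    refine hne ?_
    rw [hmax, hqp, h0, Ideal.span_singleton_eq_bot]
  letI : Field Λ := hF.toField
  haveI : CharP Λ p := by
    haveI : CharP (MvPowerSeries (Fin d) Λ) p := RingHom.charP g hg p
    exact RingHom.charP (MvPowerSeries.C : Λ →+* MvPowerSeries (Fin d) Λ) MvPowerSeries.C_injective p
  letI : Algebra (MvPowerSeries (Fin d) Λ) D := g.toAlgebra
  haveI : Module.Finite (MvPowerSeries (Fin d) Λ) D := hgfin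
  letI : Algebra (MvPowerSeries (Fin d) Λ) B := ((algebraMap D B).comp g).toAlgebra
  haveI : IsScalarTower (MvPowerSeries (Fin d) Λ) D B := IsScalarTower.of_algebraMap_eq fun _ => rfl
  haveI : Algebra.FiniteType (MvPowerSeries (Fin d) Λ) B :=
    Algebra.FiniteType.trans (inferInstance : Algebra.FiniteType (MvPowerSeries (Fin d) Λ) D) ‹_›
  exact Groth.Calg1.SepDer.exists_derivation (k := Λ) (d := d) p (hDinj.comp hg) f hf

end Groth.Agent.S2048
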