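import Groth.Statements.S2050
import Mathlib
import Groth.Agent.FlatMorOne.FlatLocusOpen
-- import your own Groth.Agent.* helpers here

set_option autoImplicit false
universe u
open CAlg

namespace Groth.Agent.S2050

theorem exists_fg_at {R P M : Type u} [CommRing R] [CommRing P] [Algebra R P] [AddCommGroup M] [Module P M]
    {r : ℕ} (π : (Fin r → P) →ₗ[P] M) (hπ : Function.Surjective π) (p : Ideal R) [p.IsPrime]
    [Module.FinitePresentation (Localization (Algebra.algebraMapSubmonoid P p.primeCompl))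
      (LocalizedModule (Algebra.algebraMapSubmonoid P p.primeCompl) M)] :
    ∃ T : Finset (Fin r → P), (T : Set (Fin r → P)) ⊆ LinearMap.ker π ∧
      ∀ k ∈ LinearMap.ker π, ∃ c ∉ p, algebraMap R P c • k ∈ Submodule.span P (T : Set (Fin r → P)) := by
  classical
  let S₀ := Algebra.algebraMapSubmonoid P p.primeCompl
  let A := Localization S₀
  let ι := LocalizedModule.mkLinearMap S₀ (Fin r → P)
  let ιM := LocalizedModule.mkLinearMap S₀ M
  let πS : LocalizedModule S₀ (Fin r → P) →ₗ[A] LocalizedModule S₀ M := LocalizedModule.map S₀ π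
  have hπι : ∀ v, πS (ι v) = ιM (π v) := fun v => IsLocalizedModule.map_apply S₀ ι ιM π v
  haveI : Module.Finite A (LocalizedModule S₀ (Fin r → P)) := Module.Finite.of_isLocalizedModule S₀ ι
  obtain ⟨G, hG⟩ := Module.FinitePresentation.fg_ker πS (LocalizedModule.map_surjective S₀ π hπ)
  have hgen : ∀ g : G, ∃ v ∈ LinearMap.ker π, ∃ w : A, (g : LocalizedModule S₀ (Fin r → P)) = w • ι v := by
    intro g
    obtain ⟨⟨v, s⟩, hvs⟩ := IsLocalizedModule.surj S₀ ι (g : LocalizedModule S₀ (Fin r → P))
    have h1 : πS (g : LocalizedModule S₀ (Fin r → P)) = 0 := LinearMap.mem_ker.1 (hG ▸ Submodule.subset_span g.2)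
    have h2 : ιM (π v) = 0 := by
      rw [← hπι, ← hvs, Submonoid.smul_def, ← algebraMap_smul A (s : P), map_smul, h1, smul_zero]
    obtain ⟨t, ht⟩ := (IsLocalizedModule.eq_zero_iff S₀ ιM).1 h2
    obtain ⟨w, hw⟩ := (IsLocalization.map_units A (t * s)).exists_left_inv
    refine ⟨(t : P) • v, LinearMap.mem_ker.2 ((π.map_smul _ _).trans ht), w, ?_⟩
    rw [map_smul, ← hvs, Submonoid.smul_def, smul_smul, ← algebraMap_smul A ((t : P) * (s : P)), smul_smul,
      ← Submonoid.coe_mul, hw, one_smul]
  choose v hv w hw using hgen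
  refine ⟨Finset.univ.image v, fun x hx => ?_, fun k hk => ?_⟩
  · obtain ⟨g, -, rfl⟩ := Finset.mem_image.1 (Finset.mem_coe.1 hx)
    exact hv g
  have h1 : ι k ∈ Submodule.span A (Set.range (ι ∘ v)) := by
    have h2 : ι k ∈ LinearMap.ker πS := by rw [LinearMap.mem_ker, hπι, LinearMap.mem_ker.1 hk, map_zero]
    rw [← hG] at h2
    refine (Submodule.span_le.2 ?_) h2
    intro g hg
    rw [SetLike.mem_coe, show g = w ⟨g, hg⟩ • ι (v ⟨g, hg⟩) from hw ⟨g, hg⟩]
    exact Submodule.smul_mem _ _ (Submodule.subset_span ⟨⟨g, hg⟩, rfl⟩)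
  obtain ⟨c, hc⟩ := (Submodule.mem_span_range_iff_exists_fun A).1 h1
  obtain ⟨b, hb⟩ := IsLocalization.exist_integer_multiples_of_finite S₀ c
  choose a ha using hb
  have h3 : ι ((b : P) • k - ∑ g, a g • v g) = 0 := by
    rw [map_sub, map_smul, map_sum, ← hc, Finset.smul_sum, sub_eq_zero]
    refine Finset.sum_congr rfl fun g _ => ?_
    rw [map_smul, ← algebraMap_smul A (b : P), smul_smul, ← algebraMap_smul A (a g), ha g, Algebra.smul_def]
    rfl
  obtain ⟨t, ht⟩ := (IsLocalizedModule.eq_zero_iff S₀ ι).1 h3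
  obtain ⟨u, hu, hu'⟩ := (t * b).2
  refine ⟨u, hu, ?_⟩
  rw [hu', Submonoid.coe_mul, mul_smul]
  rw [Submonoid.smul_def, smul_sub, sub_eq_zero] at ht
  rw [ht]
  exact Submodule.smul_mem _ _ (Submodule.sum_mem _ fun g _ => Submodule.smul_mem _ _
    (Submodule.subset_span (Finset.mem_coe.2 (Finset.mem_image_of_mem v (Finset.mem_univ _)))))

theorem eq_zero_of_flat {R N : Type u} [CommRing R] [AddCommGroup N] [Module R N] [Module.Flat R N]
    (s : Finset (PrimeSpectrum R))
    (hs : Function.Injective fun r : R => fun p : s => algebraMap R (Localization.AtPrime p.1.asIdeal) r)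
    (z : N) (hz : ∀ p ∈ s, ∃ c ∉ (p : PrimeSpectrum R).asIdeal, c • z = 0) : z = 0 := by
  classical
  let φ : R →ₗ[R] ((p : s) → Localization.AtPrime p.1.asIdeal) :=
    LinearMap.pi fun p => Algebra.linearMap R _
  have h1 := Module.Flat.lTensor_preserves_injective_linearMap (M := N) φ hs
  have h2 : φ.lTensor N (z ⊗ₜ[R] (1 : R)) = 0 := by
    apply (TensorProduct.piRight R R N fun p : s => Localization.AtPrime p.1.asIdeal).injective
    rw [map_zero]
    funext p
    obtain ⟨c, hc, hcz⟩ := hz p.1 p.2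
    obtain ⟨w, hw⟩ := (IsLocalization.map_units (Localization.AtPrime p.1.asIdeal) (⟨c, hc⟩ : p.1.asIdeal.primeCompl)).exists_right_inv
    simp only [LinearMap.lTensor_tmul, φ]
    show z ⊗ₜ[R] (algebraMap R (Localization.AtPrime p.1.asIdeal) 1) = 0
    rw [map_one, ← hw, ← Algebra.smul_def, ← TensorProduct.smul_tmul, hcz, TensorProduct.zero_tmul]
  have h3 : z ⊗ₜ[R] (1 : R) = 0 := h1 (h2.trans (map_zero _).symm)
  simpa using congrArg (TensorProduct.rid R N) h3

theorem main {R P M : Type u} [CommRing R] [CommRing P] [Algebra R P] [Algebra.FinitePresentation R P]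
    [AddCommGroup M] [Module P M] [Module R M] [IsScalarTower R P M] [Module.Finite P M] [Module.Flat R M]
    (s : Finset (PrimeSpectrum R))
    (hs : Function.Injective fun r : R => fun p : s => algebraMap R (Localization.AtPrime p.1.asIdeal) r)
    (hloc : ∀ (p : Ideal R) [p.IsPrime],
      Module.FinitePresentation (Localization (Algebra.algebraMapSubmonoid P p.primeCompl))
        (LocalizedModule (Algebra.algebraMapSubmonoid P p.primeCompl) M)) :
    Module.FinitePresentation P M := by
  classical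
  obtain ⟨r, π, hπ⟩ := Module.Finite.exists_fin' P M
  have hat : ∀ p : PrimeSpectrum R, ∃ T : Finset (Fin r → P), (T : Set (Fin r → P)) ⊆ LinearMap.ker π ∧
      ∀ k ∈ LinearMap.ker π, ∃ c ∉ p.asIdeal, algebraMap R P c • k ∈ Submodule.span P (T : Set (Fin r → P)) :=
    fun p => haveI := hloc p.asIdeal; exists_fg_at π hπ p.asIdeal
  choose T hTK hT using hat
  -- near every prime of `P`
  have hnear : ∀ q : PrimeSpectrum P, ∃ (g : P) (T' : Finset (Fin r → P)), g ∉ q.asIdeal ∧
      (T' : Set (Fin r → P)) ⊆ LinearMap.ker π ∧ ∀ q' : PrimeSpectrum P, g ∉ q'.asIdeal → ∀ k ∈ LinearMap.ker π,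
        ∃ e ∉ q'.asIdeal, e • k ∈ Submodule.span P (T' : Set (Fin r → P)) := by
    intro q
    let p : PrimeSpectrum R := PrimeSpectrum.comap (algebraMap R P) q
    let T' := s.biUnion T ∪ T p
    have hT'K : (T' : Set (Fin r → P)) ⊆ LinearMap.ker π := by
      intro x hx
      rw [Finset.mem_coe, Finset.mem_union, Finset.mem_biUnion] at hx
      rcases hx with ⟨p', -, hx⟩ | hx
      · exact hTK p' hx
      · exact hTK p hx
    let K₁ := Submodule.span P (T' : Set (Fin r → P))
    let M₁ := (Fin r → P) ⧸ K₁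
    haveI : Module.FinitePresentation P M₁ := Module.finitePresentation_of_surjective K₁.mkQ K₁.mkQ_surjective
      (by rw [Submodule.ker_mkQ]; exact Submodule.fg_span T'.finite_toSet)
    let π₁ : M₁ →ₗ[P] M := K₁.liftQ π (Submodule.span_le.2 hT'K)
    have hπ₁ : Function.Surjective π₁ := fun x => by
      obtain ⟨v, rfl⟩ := hπ x
      exact ⟨K₁.mkQ v, rfl⟩
    have hbij : Function.Bijective (IsLocalizedModule.map q.asIdeal.primeCompl (LocalizedModule.mkLinearMap q.asIdeal.primeCompl M₁)
        (LocalizedModule.mkLinearMap q.asIdeal.primeCompl M) π₁) := by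
      refine ⟨?_, IsLocalizedModule.map_surjective _ _ _ _ hπ₁⟩
      rw [← LinearMap.ker_eq_bot, LinearMap.ker_eq_bot']
      intro x hx
      obtain ⟨⟨m₁, e⟩, he⟩ := IsLocalizedModule.surj q.asIdeal.primeCompl (LocalizedModule.mkLinearMap q.asIdeal.primeCompl M₁) x
      have h1 : LocalizedModule.mkLinearMap q.asIdeal.primeCompl M (π₁ m₁) = 0 := by
        rw [← IsLocalizedModule.map_apply q.asIdeal.primeCompl (LocalizedModule.mkLinearMap q.asIdeal.primeCompl M₁), ← he,
          LinearMap.map_smul_of_tower, hx, smul_zero]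
      obtain ⟨d, hd⟩ := (IsLocalizedModule.eq_zero_iff q.asIdeal.primeCompl _).1 h1
      obtain ⟨v, rfl⟩ := K₁.mkQ_surjective m₁
      obtain ⟨c, hc, hck⟩ := hT p ((d : P) • v) (LinearMap.mem_ker.2 ((π.map_smul _ _).trans hd))
      have hce : algebraMap R P c * (d : P) ∈ q.asIdeal.primeCompl := mul_mem (show algebraMap R P c ∈ q.asIdeal.primeCompl from hc) d.2
      have h2 : (⟨_, hce⟩ : q.asIdeal.primeCompl) • K₁.mkQ v = 0 := by
        rw [Submonoid.smul_def, ← map_smul, Submodule.mkQ_apply, Submodule.Quotient.mk_eq_zero, mul_smul]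
        exact Submodule.span_mono (Finset.coe_subset.2 Finset.subset_union_right) hck
      have h3 : ((⟨_, hce⟩ : q.asIdeal.primeCompl) * e) • x = 0 := by
        rw [mul_smul, he, ← LinearMap.map_smul_of_tower, h2, map_zero]
      exact IsLocalizedModule.smul_injective (LocalizedModule.mkLinearMap q.asIdeal.primeCompl M₁) _ (h3.trans (smul_zero _).symm)
    haveI : Module.Flat R (LocalizedModule q.asIdeal.primeCompl M) :=
      Module.Flat.iff_lTensor_injective.mpr fun I _ =>
        Groth.FlatMorOne.lTensor_localizedModule_injective q.asIdeal.primeCompl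
          (Module.Flat.lTensor_preserves_injective_linearMap I.subtype Subtype.val_injective)
    have hq : Module.Flat R (LocalizedModule q.asIdeal.primeCompl M₁) :=
      Module.Flat.of_linearEquiv ((LinearEquiv.ofBijective _ hbij).restrictScalars R)
    obtain ⟨_, ⟨g, rfl⟩, hqg, hsub⟩ := PrimeSpectrum.isTopologicalBasis_basic_opens.exists_subset_of_mem_open
      (show q ∈ {x : PrimeSpectrum P | Module.Flat R (LocalizedModule x.asIdeal.primeCompl M₁)} from hq)
      (Groth.FlatMorOne.isOpen_flatLocus R P M₁)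
    refine ⟨g, T', hqg, hT'K, fun q' hq' k hk => ?_⟩
    haveI : Module.Flat R (LocalizedModule q'.asIdeal.primeCompl M₁) := hsub hq'
    have h0 : LocalizedModule.mkLinearMap q'.asIdeal.primeCompl M₁ (K₁.mkQ k) = 0 := by
      refine eq_zero_of_flat s hs _ fun p' hp' => ?_
      obtain ⟨c, hc, hck⟩ := hT p' k hk
      refine ⟨c, hc, ?_⟩
      rw [← algebraMap_smul P c, ← map_smul, ← map_smul, Submodule.mkQ_apply, (Submodule.Quotient.mk_eq_zero K₁).2
        (Submodule.span_mono (Finset.coe_subset.2 ((Finset.subset_biUnion_of_mem T hp').trans Finset.subset_union_left)) hck), map_zero]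
    obtain ⟨e, he⟩ := (IsLocalizedModule.eq_zero_iff q'.asIdeal.primeCompl _).1 h0
    refine ⟨e, e.2, ?_⟩
    rw [← Submodule.Quotient.mk_eq_zero, Submodule.Quotient.mk_smul]
    exact he
  choose g T' hg hT'K hT' using hnear
  obtain ⟨F, hF⟩ := isCompact_univ.elim_finite_subcover (fun q : PrimeSpectrum P => (PrimeSpectrum.basicOpen (g q) : Set (PrimeSpectrum P)))
    (fun q => (PrimeSpectrum.basicOpen (g q)).isOpen) (fun q _ => Set.mem_iUnion.2 ⟨q, hg q⟩)
  refine Module.finitePresentation_of_surjective π hπ ⟨F.biUnion T', le_antisymm (Submodule.span_le.2 ?_) fun k hk => ?_⟩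
  · intro x hx
    obtain ⟨q, -, hx⟩ := Finset.mem_biUnion.1 (Finset.mem_coe.1 hx)
    exact hT'K q hx
  · let J : Ideal P := (Submodule.span P (F.biUnion T' : Set (Fin r → P))).comap (LinearMap.toSpanSingleton P _ k)
    suffices J = ⊤ by simpa [J] using ((Ideal.eq_top_iff_one _).1 this : (1 : P) ∈ J)
    by_contra hne
    obtain ⟨m, hm, hle⟩ := Ideal.exists_le_maximal _ hne
    obtain ⟨q, hqF, hgq⟩ := Set.mem_iUnion₂.1 (hF (Set.mem_univ (⟨m, hm.isPrime⟩ : PrimeSpectrum P)))
    obtain ⟨e, he, hek⟩ := hT' q ⟨m, hm.isPrime⟩ hgq k hk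
    exact he (hle (Submodule.span_mono (Finset.coe_subset.2 (Finset.subset_biUnion_of_mem T' hqF)) hek))

/-- Let `S = R[x_1, …, x_n]` and `M` a finite `S`-module, flat over `R`, such that for every prime `𝔭`
of `R` the localization `M_𝔭` is finitely presented over `S_𝔭`. If `R` embeds into the product of
finitely many of its local rings, then `M` is finitely presented over `S`. -/
theorem result {R : Type u} [CommRing R] (n : ℕ)
    {M : Type u} [AddCommGroup M] [Module (MvPolynomial (Fin n) R) M] [Module R M]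
    [IsScalarTower R (MvPolynomial (Fin n) R) M] [Module.Finite (MvPolynomial (Fin n) R) M] [Module.Flat R M]
    (s : Finset (PrimeSpectrum R))
    (hs : Function.Injective fun r : R => fun p : s => algebraMap R (Localization.AtPrime p.1.asIdeal) r)
    (hloc : ∀ (p : Ideal R) [p.IsPrime],
      Module.FinitePresentation
        (Localization (Algebra.algebraMapSubmonoid (MvPolynomial (Fin n) R) p.primeCompl))
        (LocalizedModule (Algebra.algebraMapSubmonoid (MvPolynomial (Fin n) R) p.primeCompl) M)) :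
    Module.FinitePresentation (MvPolynomial (Fin n) R) M := by
  exact main s hs hloc

end Groth.Agent.S2050
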