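import Groth.Statements.S2456
import Groth.Agent.Calg2.CohenRing
import Groth.Agent.Calg1.CoefficientField

set_option autoImplicit false
universe u
open EGA41

namespace Groth.Agent.S2456

open IsLocalRing in
/-- Let W be a Cohen ring (a field of characteristic zero, or a complete discrete valuation ring with
maximal ideal generated by the residue characteristic), C a complete Noetherian local ring and J ≠ C
an ideal of C. Then every local homomorphism u : W → C/J is induced by a local homomorphism v : W →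
C. -/
theorem result {W C : Type u} [CommRing W] [IsLocalRing W] (hW : EGA41.IsCohenRingEGA W)
    [CommRing C] [IsLocalRing C] [IsNoetherianRing C] [IsAdicComplete (maximalIdeal C) C]
    (J : Ideal C) (hJ : J ≠ ⊤) [IsLocalRing (C ⧸ J)] (u : W →+* C ⧸ J) [IsLocalHom u] :
    ∃ v : W →+* C, IsLocalHom v ∧ (Ideal.Quotient.mk J).comp v = u := by
  classical
  let m := IsLocalRing.maximalIdeal C
  let F : ℕ → Ideal C := fun n => J ⊓ m ^ n
  have hF0 : F 0 = J := by simp [F]
  have hdec : ∀ n, F (n + 1) ≤ F n := fun n => inf_le_inf_left _ (Ideal.pow_le_pow_right (by omega))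
  have hJm : J ≤ m := IsLocalRing.le_maximalIdeal hJ
  have hsq : ∀ n, F n * F n ≤ F (n + 1) := fun n => by
    rw [Ideal.mul_le]
    intro x hx y hy
    refine ⟨J.mul_mem_right _ hx.1, ?_⟩
    rw [pow_succ']
    exact Ideal.mul_mem_mul (hJm hx.1) hy.2
  let g₀ : W →+* C ⧸ F 0 := (Ideal.quotEquivOfEq hF0.symm).toRingHom.comp u
  suffices h : ∃ v : W →+* C, ∀ n l c, Ideal.Quotient.mk (F 0) c = g₀ l → v l - c ∈ m ^ n ⊔ F 0 by
    obtain ⟨v, hv⟩ := h
    have hvu : (Ideal.Quotient.mk J).comp v = u := RingHom.ext fun l => by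
      obtain ⟨c, hc⟩ := Ideal.Quotient.mk_surjective (u l)
      rw [RingHom.comp_apply, ← hc, Ideal.Quotient.eq, ← Ideal.Quotient.eq_zero_iff_mem,
        ← Submodule.mem_bot C, ← Ideal.iInf_pow_smul_eq_bot_of_le_jacobson (M := C ⧸ J) m
          (IsLocalRing.jacobson_eq_maximalIdeal (⊥ : Ideal C) bot_ne_top).ge, Submodule.mem_iInf]
      intro n
      have hmem := hv n l c (by
        change _ = Ideal.quotEquivOfEq hF0.symm (u l)
        rw [← hc, Ideal.quotEquivOfEq_mk])
      rw [hF0, Submodule.mem_sup] at hmem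
      obtain ⟨a, ha, b, hb, hab⟩ := hmem
      rw [← hab, map_add, Ideal.Quotient.eq_zero_iff_mem.2 hb, add_zero, ← mul_one a, map_mul]
      exact Submodule.smul_mem_smul ha (Submodule.mem_top (x := Ideal.Quotient.mk J 1))
    refine ⟨v, ⟨fun a ha => ?_⟩, hvu⟩
    have h2 : IsUnit (u a) := by
      rw [← hvu]
      exact ha.map (Ideal.Quotient.mk J)
    exact isUnit_of_map_unit u a h2
  rcases hW with ⟨hF, hchar⟩ | hC
  · letI := hF.toField
    haveI : CharZero W := hchar
    haveI : CharZero (IsLocalRing.ResidueField (C ⧸ J)) :=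
      charZero_of_injective_ringHom ((IsLocalRing.residue (C ⧸ J)).comp u).injective
    have hunit : ∀ y : nonZeroDivisors ℤ, IsUnit ((y : ℤ) : C) := fun y => by
      by_contra h
      have h0 : IsLocalRing.residue (C ⧸ J) (Ideal.Quotient.mk J ((y : ℤ) : C)) = 0 := by
        rw [IsLocalRing.residue_eq_zero_iff]
        intro hu'
        haveI : IsLocalHom (Ideal.Quotient.mk J) := ⟨fun a ha => by
          by_contra hna
          obtain ⟨b, hb⟩ := ha.exists_right_inv
          obtain ⟨b, rfl⟩ := Ideal.Quotient.mk_surjective b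
          rw [← map_mul, ← map_one (Ideal.Quotient.mk J), Ideal.Quotient.eq] at hb
          have h3 := sub_mem (Ideal.mul_mem_right b _ (show a ∈ m from hna)) (hJm hb)
          rw [sub_sub_cancel] at h3
          exact (IsLocalRing.maximalIdeal.isMaximal C).ne_top ((Ideal.eq_top_iff_one _).2 h3)⟩
        exact h (isUnit_of_map_unit (Ideal.Quotient.mk J) _ hu')
      rw [map_intCast, map_intCast, Int.cast_eq_zero] at h0
      exact nonZeroDivisors.ne_zero y.2 h0
    let φ : ℚ →+* C := IsLocalization.lift (M := nonZeroDivisors ℤ) (g := Int.castRingHom C) hunit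
    letI : Algebra ℚ C := φ.toAlgebra
    haveI : Algebra.FormallySmooth ℚ W := Groth.Calg1.formallySmooth_rat W
    refine Calg2.CohenRing.exists_lift_filtration_of_step m F hdec (fun n => inf_le_right) (fun n g => ?_) g₀
    let ga : W →ₐ[ℚ] C ⧸ F n := g.toRatAlgHom
    let fa : (C ⧸ F (n + 1)) →ₐ[ℚ] C ⧸ F n := (Ideal.Quotient.factor (hdec n)).toRatAlgHom
    have hnil : IsNilpotent (RingHom.ker (fa : (C ⧸ F (n + 1)) →+* C ⧸ F n)) := by
      refine ⟨2, ?_⟩
      rw [show (2 : ℕ) = 1 + 1 from rfl, Submodule.pow_succ, Submodule.pow_one, Ideal.zero_eq_bot,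
        eq_bot_iff, Ideal.mul_le]
      intro a ha b hb
      obtain ⟨a, rfl⟩ := Ideal.Quotient.mk_surjective a
      obtain ⟨b, rfl⟩ := Ideal.Quotient.mk_surjective b
      have ha' : a ∈ F n := Ideal.Quotient.eq_zero_iff_mem.1 ha
      have hb' : b ∈ F n := Ideal.Quotient.eq_zero_iff_mem.1 hb
      rw [Ideal.mem_bot, ← map_mul, Ideal.Quotient.eq_zero_iff_mem]
      exact hsq n (Ideal.mul_mem_mul ha' hb')
    refine ⟨(Algebra.FormallySmooth.liftOfSurjective ga fa (Ideal.Quotient.factor_surjective (hdec n)) hnil).toRingHom,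
      RingHom.ext fun x => ?_⟩
    exact Algebra.FormallySmooth.liftOfSurjective_apply ga fa _ hnil x
  · obtain ⟨hdom, hdvr, hcomp, p, hp, hm⟩ := hC
    haveI := Fact.mk hp
    haveI : (Ideal.span {(p : W)}).IsMaximal := hm ▸ IsLocalRing.maximalIdeal.isMaximal W
    have hp0 : (p : W) ≠ 0 := fun h0 => hdvr.not_a_field' (by rw [hm, h0]; exact Ideal.span_singleton_eq_bot.2 rfl)
    have hpm : (p : C) ∈ m := by
      intro hu
      have h2 : IsUnit (u (p : W)) := by rw [map_natCast, ← map_natCast (Ideal.Quotient.mk J)]; exact hu.map _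
      exact (IsLocalRing.mem_maximalIdeal _).1 (hm ▸ Ideal.mem_span_singleton_self (p : W)) (isUnit_of_map_unit u _ h2)
    exact Calg2.CohenRing.exists_lift_filtration (p := p) (fun x hx => (mul_eq_zero.1 hx).resolve_left hp0) m F hdec
      (fun n => inf_le_right) hsq
      (fun n x hx => ⟨J.mul_mem_left _ hx.1, by rw [pow_succ']; exact Ideal.mul_mem_mul hpm hx.2⟩) g₀

end Groth.Agent.S2456
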