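import Groth.Statements.S2053
import Groth.Agent.S2456
import Groth.Agent.S2470
import Groth.Agent.Ega41Flat.PowerSeries
import Groth.Agent.Ega4Algebra2.GRing
import Groth.Agent.FibreDim.LocalRing

set_option autoImplicit false
universe u
open CAlg

namespace Groth.Agent.S2053

open IsLocalRing MvPowerSeries Groth.SGA7.PS Groth.Calg2.CompleteStructure

/-- A coefficient field or Cohen ring with its surjection to the residue field. -/
theorem exists_coeff (A : Type u) [CommRing A] [IsLocalRing A] [IsNoetherianRing A]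
    [IsAdicComplete (maximalIdeal A) A] (q : ℕ) [CharP (ResidueField A) q] :
    ∃ (W : Type u) (_ : CommRing W) (_ : IsRegularLocalRing W) (ι : W →+* A),
      IsAdicComplete (maximalIdeal W) W ∧ IsLocalHom ι ∧ EGA41.IsCohenRingEGA W ∧
      Function.Surjective ((residue A).comp ι) ∧ maximalIdeal W = Ideal.span {(q : W)} ∧
      ringKrullDim W = ((if q = 0 then 0 else 1 : ℕ) : WithBot ℕ∞) ∧
      ((q = 0 ∧ IsField W) ∨ (q ≠ 0 ∧ CAlg.IsCohenRing W)) := by
  rcases CharP.char_is_prime_or_zero (ResidueField A) q with hq | rfl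
  · haveI := Fact.mk hq
    obtain ⟨W, _, _, hW, ⟨e⟩⟩ := Groth.Calg2.CohenRing.exists_cohenRing q (ResidueField A)
    have hW' := hW
    obtain ⟨hdom, hdvr, hcomp, p, hp, hm⟩ := hW
    have hpq : p = q := by
      have hq0 : (p : ResidueField A) = 0 := by
        have h0 : residue W (p : W) = 0 :=
          (residue_eq_zero_iff _).2 (hm ▸ Ideal.mem_span_singleton_self _)
        rw [← map_natCast e p, ← map_natCast (residue W) p, h0, map_zero]
      exact ((Nat.prime_dvd_prime_iff_eq hq hp).1
        ((CharP.cast_eq_zero_iff (ResidueField A) q p).1 hq0)).symm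
    subst hpq
    haveI : IsLocalRing (A ⧸ maximalIdeal A) :=
      IsLocalRing.of_surjective' (Ideal.Quotient.mk _) Ideal.Quotient.mk_surjective
    let u : W →+* A ⧸ maximalIdeal A := e.toRingHom.comp (residue W)
    haveI : IsLocalHom u := ⟨fun a ha => by
      by_contra h
      have h0 : residue W a = 0 := (residue_eq_zero_iff _).2 h
      have h1 : u a = 0 := (congrArg e h0).trans (map_zero e)
      exact not_isUnit_zero (h1 ▸ ha)⟩
    obtain ⟨ι, hι, hιu⟩ := Groth.Agent.S2456.result (W := W) (C := A) (Or.inr hW') (maximalIdeal A)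
      (maximalIdeal.isMaximal A).ne_top u
    refine ⟨W, inferInstance, inferInstance, ι, hcomp, hι, Or.inr hW', fun y => ?_, hm, ?_,
      Or.inr ⟨hq.ne_zero, hW'⟩⟩
    · obtain ⟨w, hw⟩ := residue_surjective (e.symm y)
      refine ⟨w, ?_⟩
      show ((Ideal.Quotient.mk (maximalIdeal A)).comp ι) w = y
      rw [hιu]
      exact (congrArg e hw).trans (e.apply_symm_apply y)
    · rw [if_neg hq.ne_zero, IsDiscreteValuationRing.ringKrullDim_eq_one W]
      rfl
  · haveI := CharP.charP_to_charZero (ResidueField A)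
    obtain ⟨s, hs⟩ := Groth.Calg1.exists_section A
    have hb : maximalIdeal (ResidueField A) = ⊥ :=
      IsLocalRing.isField_iff_maximalIdeal_eq.1 (Field.toIsField _)
    refine ⟨ResidueField A, inferInstance, inferInstance, s, ?_, ?_,
      Or.inl ⟨Field.toIsField _, inferInstance⟩, fun y => ⟨y, RingHom.congr_fun hs y⟩, ?_, ?_,
      Or.inl ⟨rfl, Field.toIsField _⟩⟩
    · rw [hb]; infer_instance
    · refine ⟨fun a ha => isUnit_iff_ne_zero.2 fun h0 => ?_⟩
      rw [h0, map_zero] at ha
      exact not_isUnit_zero ha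
    · rw [hb, Nat.cast_zero, eq_comm, Ideal.span_singleton_eq_bot]
    · rw [if_pos rfl, ringKrullDim_eq_zero_of_field]
      rfl

theorem ps_hom_ext {σ : Type*} [Fintype σ] {W : Type u} [CommRing W] {B : Type u} [CommRing B] (I : Ideal B)
    [IsHausdorff I B] (f g : MvPowerSeries σ W →+* B) (hC : ∀ w, f (C w) = g (C w))
    (hX : ∀ i, f (X i) = g (X i)) (hI : (varIdeal σ W).map f ≤ I) : f = g := by
  refine RingHom.ext fun p => sub_eq_zero.1 (IsHausdorff.haus' (I := I) _ fun n => ?_)
  rw [SModEq.zero, smul_eq_mul, Ideal.mul_top]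
  have hP : f.comp MvPolynomial.coeToMvPowerSeries.ringHom =
      g.comp MvPolynomial.coeToMvPowerSeries.ringHom :=
    MvPolynomial.ringHom_ext (fun w => by
        show f (MvPolynomial.C w : MvPolynomial σ W) = g (MvPolynomial.C w : MvPolynomial σ W)
        rw [MvPolynomial.coe_C]; exact hC w) fun i => by
        show f (MvPolynomial.X i : MvPolynomial σ W) = g (MvPolynomial.X i : MvPolynomial σ W)
        rw [MvPolynomial.coe_X]; exact hX i
  have hr : p - (truncTotal n p : MvPowerSeries σ W) ∈ varIdeal σ W ^ n :=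
    mem_varIdeal_pow n _ fun d hd => by
      rw [map_sub, MvPolynomial.coeff_coe, coeff_truncTotal _ hd, sub_self]
  have hfg : ∀ φ : MvPowerSeries σ W →+* B, (varIdeal σ W).map φ ≤ I →
      φ p - φ (truncTotal n p : MvPowerSeries σ W) ∈ I ^ n := fun φ hφ => by
    rw [← map_sub]
    have := Ideal.mem_map_of_mem φ hr
    rw [Ideal.map_pow] at this
    exact Ideal.pow_right_mono hφ n this
  have hgI : (varIdeal σ W).map g ≤ I := by
    refine le_trans (le_of_eq ?_) hI
    rw [varIdeal, Ideal.map_span, Ideal.map_span, ← Set.range_comp, ← Set.range_comp]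
    congr 2
    funext i
    exact (hX i).symm
  have h1 : f (truncTotal n p : MvPowerSeries σ W) = g (truncTotal n p : MvPowerSeries σ W) :=
    RingHom.congr_fun hP (truncTotal n p)
  have := sub_mem (hfg f hI) (hfg g hgI)
  rw [h1, sub_sub_sub_cancel_right] at this
  exact this

theorem maximalIdeal_ps {W : Type u} [CommRing W] [IsLocalRing W] {q : ℕ}
    (hm : maximalIdeal W = Ideal.span {(q : W)}) (n : ℕ) :
    maximalIdeal (MvPowerSeries (Fin n) W) = Ideal.span {C (q : W)} ⊔ varIdeal (Fin n) W := by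
  refine le_antisymm (fun g hg => ?_) ?_
  · have hcc : constantCoeff g ∈ maximalIdeal W := fun hu => hg (isUnit_iff_constantCoeff.2 hu)
    rw [show g = C (constantCoeff g) + (g - C (constantCoeff g)) by ring]
    refine Submodule.add_mem_sup ?_
      ((mem_varIdeal_iff _).2 (by rw [map_sub, constantCoeff_C, sub_self]))
    rw [hm] at hcc
    have := Ideal.mem_map_of_mem (C (σ := Fin n) (R := W)) hcc
    rwa [Ideal.map_span, Set.image_singleton] at this
  · refine sup_le ((Ideal.span_singleton_le_iff_mem _).2 ?_) (Ideal.span_le.2 ?_)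
    · rw [mem_maximalIdeal, mem_nonunits_iff, isUnit_iff_constantCoeff, constantCoeff_C]
      exact fun h => (maximalIdeal.isMaximal W).ne_top
        (hm.trans (Ideal.span_singleton_eq_top.2 h))
    · rintro _ ⟨i, rfl⟩
      rw [SetLike.mem_coe, mem_maximalIdeal, mem_nonunits_iff, isUnit_iff_constantCoeff,
        constantCoeff_X]
      exact not_isUnit_zero

theorem flat_and_regular_fibre {W W' : Type u} [CommRing W] [CommRing W'] [IsRegularLocalRing W]
    [IsRegularLocalRing W'] {q d : ℕ} (hm : maximalIdeal W = Ideal.span {(q : W)})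
    (hm' : maximalIdeal W' = Ideal.span {(q : W')}) (hd : ringKrullDim W = (d : WithBot ℕ∞))
    (hd' : ringKrullDim W' = (d : WithBot ℕ∞)) (n m : ℕ)
    (τ : MvPowerSeries (Fin n) W →+* MvPowerSeries (Fin (m + n)) W')
    (hτ : ∀ i, τ (X i) = X (Fin.natAdd m i)) :
    τ.Flat ∧ IsRegularRing (MvPowerSeries (Fin (m + n)) W' ⧸
      (maximalIdeal (MvPowerSeries (Fin n) W)).map τ) := by
  haveI := Groth.LocDual.isRegularLocalRing_mvPowerSeries W n
  haveI := Groth.LocDual.isRegularLocalRing_mvPowerSeries W' (m + n)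
  let : Algebra (MvPowerSeries (Fin n) W) (MvPowerSeries (Fin (m + n)) W') := τ.toAlgebra
  have hmax : (maximalIdeal (MvPowerSeries (Fin n) W)).map τ =
      Ideal.span {C (q : W')} ⊔ Ideal.span (Set.range fun i => X (Fin.natAdd m i)) := by
    rw [maximalIdeal_ps hm n, Ideal.map_sup, Ideal.map_span, varIdeal, Ideal.map_span,
      Set.image_singleton, map_natCast C, map_natCast τ, ← map_natCast (C (σ := Fin (m + n))),
      ← Set.range_comp]
    congr 2
    exact congrArg Set.range (funext hτ)
  have hle : (maximalIdeal (MvPowerSeries (Fin n) W)).map τ ≤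
      maximalIdeal (MvPowerSeries (Fin (m + n)) W') := by
    rw [hmax, maximalIdeal_ps hm' (m + n)]
    refine sup_le_sup le_rfl (Ideal.span_mono ?_)
    rintro _ ⟨i, rfl⟩
    exact ⟨_, rfl⟩
  haveI : IsLocalHom (algebraMap (MvPowerSeries (Fin n) W) (MvPowerSeries (Fin (m + n)) W')) :=
    ((local_hom_TFAE τ).out 0 2 rfl rfl).2 hle
  let I := (maximalIdeal (MvPowerSeries (Fin n) W)).map
    (algebraMap (MvPowerSeries (Fin n) W) (MvPowerSeries (Fin (m + n)) W'))
  have : Nontrivial (MvPowerSeries (Fin (m + n)) W' ⧸ I) :=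
    Ideal.Quotient.nontrivial_iff.2 fun h =>
      (maximalIdeal.isMaximal (MvPowerSeries (Fin (m + n)) W')).ne_top (top_le_iff.1 (h.ge.trans hle))
  have : IsLocalRing (MvPowerSeries (Fin (m + n)) W' ⧸ I) :=
    IsLocalRing.of_surjective' (Ideal.Quotient.mk I) Ideal.Quotient.mk_surjective
  have hsp : (maximalIdeal (MvPowerSeries (Fin (m + n)) W' ⧸ I)).spanFinrank ≤ m := by
    classical
    let T : Finset (MvPowerSeries (Fin (m + n)) W' ⧸ I) :=
      Finset.univ.image fun i : Fin m => Ideal.Quotient.mk I (X (Fin.castAdd n i))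
    have hT : maximalIdeal (MvPowerSeries (Fin (m + n)) W' ⧸ I) = Ideal.span (T : Set _) := by
      rw [← IsLocalRing.map_maximalIdeal_of_surjective _ Ideal.Quotient.mk_surjective,
        maximalIdeal_ps hm' (m + n)]
      refine le_antisymm ?_ (Ideal.span_le.2 ?_)
      · rw [Ideal.map_sup, Ideal.map_span, varIdeal, Ideal.map_span, Set.image_singleton]
        refine sup_le ((Ideal.span_singleton_le_iff_mem _).2 ?_) (Ideal.span_le.2 ?_)
        · rw [Ideal.Quotient.eq_zero_iff_mem.2 (show C (q : W') ∈ I by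
            show _ ∈ (maximalIdeal (MvPowerSeries (Fin n) W)).map τ
            rw [hmax]; exact Ideal.mem_sup_left (Ideal.mem_span_singleton_self _))]
          exact zero_mem _
        · rintro _ ⟨_, ⟨i, rfl⟩, rfl⟩
          refine Fin.addCases (fun j => ?_) (fun j => ?_) i
          · exact Ideal.subset_span (by simp [T])
          · rw [Ideal.Quotient.eq_zero_iff_mem.2 (show X (Fin.natAdd m j) ∈ I by
              show _ ∈ (maximalIdeal (MvPowerSeries (Fin n) W)).map τ
              rw [hmax]; exact Ideal.mem_sup_right (Ideal.subset_span ⟨j, rfl⟩))]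
            exact zero_mem _
      · intro z hz
        obtain ⟨i, -, rfl⟩ := Finset.mem_image.1 (Finset.mem_coe.1 hz)
        exact Ideal.mem_map_of_mem _ (Ideal.mem_sup_right (Ideal.subset_span ⟨_, rfl⟩))
    rw [hT]
    refine (Submodule.spanFinrank_span_le_ncard_of_finite T.finite_toSet).trans ?_
    rw [Set.ncard_coe_finset]
    exact Finset.card_image_le.trans (Finset.card_fin _).le
  have hR : ringKrullDim (MvPowerSeries (Fin n) W) = ((d + n : ℕ) : WithBot ℕ∞) := by
    rw [Groth.Ega41Flat.ringKrullDim_mvPowerSeries_eq, hd]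
    push_cast
    rfl
  have hS : ringKrullDim (MvPowerSeries (Fin (m + n)) W') = ((d + (m + n) : ℕ) : WithBot ℕ∞) := by
    rw [Groth.Ega41Flat.ringKrullDim_mvPowerSeries_eq, hd']
    push_cast
    rfl
  have hsum : ringKrullDim (MvPowerSeries (Fin (m + n)) W') ≤
      ringKrullDim (MvPowerSeries (Fin n) W) + ringKrullDim (MvPowerSeries (Fin (m + n)) W' ⧸ I) :=
    Groth.FibreDim.ringKrullDim_le_add_fibre _ _
  have hF1 := ringKrullDim_le_spanFinrank_maximalIdeal (MvPowerSeries (Fin (m + n)) W' ⧸ I)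
  obtain ⟨c, hc⟩ := Groth.Agent.S2470.exists_nat_dim (MvPowerSeries (Fin (m + n)) W' ⧸ I)
  rw [hR, hS, hc] at hsum
  rw [hc] at hF1
  norm_cast at hsum hF1
  have hreg : IsRegularLocalRing (MvPowerSeries (Fin (m + n)) W' ⧸ I) := by
    refine IsRegularLocalRing.of_spanFinrank_maximalIdeal_le _ ?_
    rw [hc]
    exact_mod_cast (by omega : (maximalIdeal (MvPowerSeries (Fin (m + n)) W' ⧸ I)).spanFinrank ≤ c)
  have hflat : IsRegularLocalRing (MvPowerSeries (Fin n) W) ∧
      IsRegularLocalRing (MvPowerSeries (Fin (m + n)) W' ⧸ I) ∧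
      Module.Flat (MvPowerSeries (Fin n) W) (MvPowerSeries (Fin (m + n)) W') := by
    refine ((Groth.Agent.S2470.result (A := MvPowerSeries (Fin n) W)
      (B := MvPowerSeries (Fin (m + n)) W')).out 2 3 rfl rfl).2 ⟨inferInstance, hreg, ?_⟩
    show _ = _ + ringKrullDim (MvPowerSeries (Fin (m + n)) W' ⧸ I)
    rw [hR, hS, hc]
    norm_cast
    omega
  exact ⟨hflat.2.2, Groth.Ega4b.isRegularRing_of_isRegularLocalRing
    (MvPowerSeries (Fin (m + n)) W' ⧸ I)⟩

theorem main {A B : Type u} [CommRing A] [CommRing B]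
    [IsLocalRing A] [IsLocalRing B] [IsNoetherianRing A] [IsNoetherianRing B]
    [IsAdicComplete (maximalIdeal A) A] [IsAdicComplete (maximalIdeal B) B]
    [Algebra A B] [IsLocalHom (algebraMap A B)] :
    ∃ (Λ Λ' : Type u) (_ : CommRing Λ) (_ : CommRing Λ') (_ : IsLocalRing Λ) (n m : ℕ)
      (ρ : MvPowerSeries (Fin n) Λ →+* A) (σ : MvPowerSeries (Fin m) Λ' →+* B)
      (τ : MvPowerSeries (Fin n) Λ →+* MvPowerSeries (Fin m) Λ'),
      ((CharZero (ResidueField A) ∧ IsField Λ ∧ IsField Λ') ∨
        (¬ CharZero (ResidueField A) ∧ CAlg.IsCohenRing Λ ∧ CAlg.IsCohenRing Λ')) ∧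
        Function.Surjective ρ ∧ Function.Surjective σ ∧ σ.comp τ = (algebraMap A B).comp ρ ∧
        τ.Flat ∧ IsRegularRing (MvPowerSeries (Fin m) Λ' ⧸
          (maximalIdeal (MvPowerSeries (Fin n) Λ)).map τ) := by
  obtain ⟨q, hq⟩ := CharP.exists (ResidueField A)
  haveI : CharP (ResidueField B) q :=
    charP_of_injective_ringHom (ResidueField.map (algebraMap A B)).injective q
  obtain ⟨W, _, _, ι, hWc, hι, hWE, hιs, hWm, hWd, hWcase⟩ := exists_coeff A q
  obtain ⟨W', _, _, ι', hWc', -, -, hιs', hWm', hWd', hWcase'⟩ := exists_coeff B q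
  haveI := hι
  obtain ⟨n, hn⟩ : ∃ n : ℕ, (maximalIdeal A).spanFinrank = n := ⟨_, rfl⟩
  obtain ⟨m, hm⟩ : ∃ m : ℕ, (maximalIdeal B).spanFinrank = m := ⟨_, rfl⟩
  obtain ⟨a, ha⟩ := Groth.Ega4Algebra1.exists_span_eq_maximalIdeal (R := A) hn
  obtain ⟨b, hb⟩ := Groth.Ega4Algebra1.exists_span_eq_maximalIdeal (R := B) hm
  have ham : ∀ i, a i ∈ maximalIdeal A := fun i => ha ▸ Ideal.subset_span ⟨i, rfl⟩
  let c : Fin (m + n) → B := Fin.append b fun i => algebraMap A B (a i)
  have hcm : ∀ i, c i ∈ maximalIdeal B := fun i => by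
    refine Fin.addCases (fun j => ?_) (fun j => ?_) i
    · simp only [c, Fin.append_left]
      exact hb ▸ Ideal.subset_span ⟨j, rfl⟩
    · simp only [c, Fin.append_right]
      exact map_nonunit (algebraMap A B) _ (ham j)
  have hcgen : Ideal.span (Set.range c) = maximalIdeal B := by
    refine le_antisymm (Ideal.span_le.2 ?_) ?_
    · rintro _ ⟨i, rfl⟩; exact hcm i
    · rw [← hb]
      refine Ideal.span_mono ?_
      rintro _ ⟨j, rfl⟩
      exact ⟨Fin.castAdd n j, by simp [c]⟩
  let σ := ev ι' c hcm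
  have hσ : Function.Surjective σ := surjective_ev ι' hιs' c hcm hcgen
  haveI := Groth.LocDual.isRegularLocalRing_mvPowerSeries W' (m + n)
  haveI := Groth.Ega41Flat.isAdicComplete_mvPowerSeries (C := W') (m + n)
  let E := RingHom.quotientKerEquivOfSurjective hσ
  haveI : IsLocalRing (MvPowerSeries (Fin (m + n)) W' ⧸ RingHom.ker σ) := E.symm.isLocalRing
  let u : W →+* MvPowerSeries (Fin (m + n)) W' ⧸ RingHom.ker σ :=
    E.symm.toRingHom.comp ((algebraMap A B).comp ι)
  haveI : IsLocalHom u := ⟨fun x hx => by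
    have h1 := hx.map E.toRingHom
    have h2 : IsUnit (algebraMap A B (ι x)) := by simpa [u] using h1
    exact isUnit_of_map_unit ι x (isUnit_of_map_unit (algebraMap A B) _ h2)⟩
  obtain ⟨h, -, hhu⟩ := Groth.Agent.S2456.result (W := W) (C := MvPowerSeries (Fin (m + n)) W') hWE
    (RingHom.ker σ) (RingHom.ker_ne_top σ) u
  have hXm : ∀ i : Fin n, (X (Fin.natAdd m i) : MvPowerSeries (Fin (m + n)) W') ∈
      maximalIdeal (MvPowerSeries (Fin (m + n)) W') := fun i => by
    rw [mem_maximalIdeal, mem_nonunits_iff, isUnit_iff_constantCoeff, constantCoeff_X]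
    exact not_isUnit_zero
  let τ : MvPowerSeries (Fin n) W →+* MvPowerSeries (Fin (m + n)) W' :=
    ev h (fun i => X (Fin.natAdd m i)) hXm
  have hσh : ∀ w, σ (h w) = algebraMap A B (ι w) := fun w => by
    have h1 := congrArg E (RingHom.congr_fun hhu w)
    simpa [u, E] using h1
  have hcomp : σ.comp τ = (algebraMap A B).comp (ev ι a ham) := by
    refine ps_hom_ext (maximalIdeal B) _ _ (fun w => ?_) (fun i => ?_) ?_
    · simp only [RingHom.comp_apply, τ, ev_C, hσh]
    · simp only [RingHom.comp_apply, τ, σ, ev_X, c, Fin.append_right]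
    · rw [varIdeal, Ideal.map_span, Ideal.span_le]
      rintro _ ⟨_, ⟨i, rfl⟩, rfl⟩
      simp only [RingHom.comp_apply, τ, σ, ev_X]
      exact hcm _
  obtain ⟨hflat, hfib⟩ := flat_and_regular_fibre hWm hWm' hWd hWd' n m τ fun i => ev_X _ _ hXm i
  refine ⟨W, W', inferInstance, inferInstance, inferInstance, n, m + n, ev ι a ham, σ, τ, ?_,
    surjective_ev ι hιs a ham ha, hσ, hcomp, hflat, hfib⟩
  rcases hWcase with ⟨hq0, hF⟩ | ⟨hq0, hF⟩ <;> rcases hWcase' with ⟨hq0', hF'⟩ | ⟨hq0', hF'⟩
  · exact Or.inl ⟨@CharP.charP_to_charZero _ _ (hq0 ▸ hq), hF, hF'⟩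
  · exact absurd hq0 hq0'
  · exact absurd hq0' hq0
  · refine Or.inr ⟨fun h0 => hq0 ?_, hF, hF'⟩
    haveI := h0
    exact CharP.eq (ResidueField A) hq (CharP.ofCharZero _)

/-- Consider a local homomorphism `A → B` between complete Noetherian local rings. Then there are power
series rings `R`, `S` in finitely many variables over coefficient rings which are both fields (when
the residue characteristic of `A` is zero) or both Cohen rings (when it is positive), surjections `R
→ A`, `S → B` and a ring map `R → S` making the square commute, such that `R → S` is flat and `S/𝔪_R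
S` is a regular ring. (The published statement also arranges that a regular system of parameters
maps into one; that is not asserted here.) -/
theorem result {A B : Type u} [CommRing A] [CommRing B]
    [IsLocalRing A] [IsLocalRing B] [IsNoetherianRing A] [IsNoetherianRing B]
    [IsAdicComplete (IsLocalRing.maximalIdeal A) A] [IsAdicComplete (IsLocalRing.maximalIdeal B) B]
    [Algebra A B] [IsLocalHom (algebraMap A B)] :
    ∃ (Λ Λ' : Type u) (_ : CommRing Λ) (_ : CommRing Λ') (_ : IsLocalRing Λ) (n m : ℕ)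
      (ρ : MvPowerSeries (Fin n) Λ →+* A) (σ : MvPowerSeries (Fin m) Λ' →+* B)
      (τ : MvPowerSeries (Fin n) Λ →+* MvPowerSeries (Fin m) Λ'),
      ((CharZero (IsLocalRing.ResidueField A) ∧ IsField Λ ∧ IsField Λ') ∨
        (¬ CharZero (IsLocalRing.ResidueField A) ∧ CAlg.IsCohenRing Λ ∧ CAlg.IsCohenRing Λ')) ∧
        Function.Surjective ρ ∧ Function.Surjective σ ∧ σ.comp τ = (algebraMap A B).comp ρ ∧
        τ.Flat ∧ IsRegularRing (MvPowerSeries (Fin m) Λ' ⧸
          (IsLocalRing.maximalIdeal (MvPowerSeries (Fin n) Λ)).map τ) := by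
  exact main

end Groth.Agent.S2053
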