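import Groth.Statements.S2054
import Groth.Agent.Calg3.DualTF
import Groth.Agent.Calg1.DepthTwo
import Groth.Agent.Ega4Algebra1.PureClosed
import Groth.Agent.RefRank.Algebra
import Mathlib.RingTheory.DiscreteValuationRing.TFAE

set_option autoImplicit false
universe u
open CAlg

namespace Groth.Agent.S2054

open Module

/-- A free module at a prime gives maps to and from a free module composing to a scalar outside the prime. -/
theorem exists_pair {R M : Type u} [CommRing R] [IsDomain R] [IsNoetherianRing R] [AddCommGroup M] [Module R M]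
    [Module.Finite R M] [IsTorsionFree R M] (p : Ideal R) [p.IsPrime]
    [IsPrincipalIdealRing (Localization.AtPrime p)] :
    ∃ (k : ℕ) (g : (Fin k → R) →ₗ[R] M) (h : M →ₗ[R] (Fin k → R)) (d : R), d ∉ p ∧ ∀ x, g (h x) = d • x := by
  classical
  let A := Localization.AtPrime p
  let Mp := LocalizedModule p.primeCompl M
  let mk := LocalizedModule.mkLinearMap p.primeCompl M
  have hne : ∀ s : p.primeCompl, (s : R) ≠ 0 := fun s h => s.2 (h ▸ zero_mem p)
  have hmk : Function.Injective mk := fun a b hab => by
    obtain ⟨c, hc⟩ := (IsLocalizedModule.eq_iff_exists p.primeCompl mk).1 hab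
    exact smul_right_injective M (hne c) (by simpa [Submonoid.smul_def] using hc)
  have : IsTorsionFree A Mp := Groth.Calg3.isTorsionFree_of_smul_eq_zero fun c x hc h => by
    obtain ⟨a, s, rfl⟩ := IsLocalization.exists_mk'_eq p.primeCompl c
    obtain ⟨⟨m, t⟩, rfl⟩ := IsLocalizedModule.mk'_surjective p.primeCompl mk x
    have ha : a ≠ 0 := fun h0 => hc (by rw [h0]; exact IsLocalization.mk'_zero s)
    simp only [Function.uncurry_apply_pair, IsLocalizedModule.mk'_smul_mk', IsLocalizedModule.mk'_eq_zero'] at h
    obtain ⟨u, hu⟩ := h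
    rw [Submonoid.smul_def] at hu
    have hm : m = 0 := Groth.Calg3.eq_zero_of_smul_eq_zero ha (Groth.Calg3.eq_zero_of_smul_eq_zero (hne u) hu)
    simp [hm]
  have : Module.Finite A Mp := inferInstance
  have : Module.Free A Mp := Module.free_of_finite_type_torsion_free'
  let β := Module.finBasis A Mp
  choose mt hmt using fun i => IsLocalizedModule.surj p.primeCompl mk (β i)
  obtain ⟨t, ht⟩ : ∃ t : p.primeCompl, ∀ i, ∃ m, mk m = (t : R) • β i := by
    refine ⟨∏ i, (mt i).2, fun i => ⟨(∏ j ∈ Finset.univ.erase i, ((mt j).2 : R)) • (mt i).1, ?_⟩⟩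
    rw [map_smul, ← hmt i, Submonoid.smul_def, smul_smul, Submonoid.coe_finset_prod,
      Finset.prod_erase_mul _ (fun j => ((mt j).2 : R)) (Finset.mem_univ i)]
  choose gm hgm using ht
  let co : Fin (Module.finrank A Mp) → M →ₗ[R] A := fun i => ((β.coord i).restrictScalars R).comp mk
  obtain ⟨G, hG⟩ := (Module.Finite.fg_top : (⊤ : Submodule R M).FG)
  obtain ⟨s, hs⟩ := IsLocalization.exist_integer_multiples_of_finite p.primeCompl
    (fun q : Fin (Module.finrank A Mp) × G => co q.1 q.2)
  have hint : ∀ (i : Fin (Module.finrank A Mp)) (x : M), ((s : R) • co i) x ∈ LinearMap.range (Algebra.linearMap R A) := by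
    intro i x
    have hx : x ∈ Submodule.span R (G : Set M) := hG ▸ Submodule.mem_top
    induction hx using Submodule.span_induction with
    | mem m hm => exact hs (i, ⟨m, hm⟩)
    | zero => rw [map_zero]; exact zero_mem _
    | add a b _ _ ha hb => rw [map_add]; exact add_mem ha hb
    | smul a b _ hb => rw [map_smul]; exact Submodule.smul_mem _ _ hb
  have hinj : Function.Injective (Algebra.linearMap R A) :=
    IsLocalization.injective A p.primeCompl_le_nonZeroDivisors
  let h : M →ₗ[R] (Fin (Module.finrank A Mp) → R) := LinearMap.pi fun i =>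
    (LinearEquiv.ofInjective _ hinj).symm.toLinearMap.comp (((s : R) • co i).codRestrict _ (hint i))
  have hh : ∀ i x, algebraMap R A (h x i) = (s : R) • co i x := fun i x =>
    congrArg Subtype.val ((LinearEquiv.ofInjective (Algebra.linearMap R A) hinj).apply_symm_apply ⟨_, hint i x⟩)
  refine ⟨_, Fintype.linearCombination R gm, h, (s : R) * t, (s * t).2, fun x => hmk ?_⟩
  rw [Fintype.linearCombination_apply, map_sum, map_smul]
  conv_rhs => rw [← β.sum_repr (mk x), Finset.smul_sum]
  refine Finset.sum_congr rfl fun i _ => ?_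
  rw [map_smul, hgm, ← algebraMap_smul A (h x i), hh, smul_assoc, smul_comm (co i x), ← mul_smul]
  rfl

/-- An element outside a prime brings a bidual element into the module. -/
theorem smul_mem_range_eval {R M : Type u} [CommRing R] [AddCommGroup M] [Module R M] {k : ℕ}
    (g : (Fin k → R) →ₗ[R] M) (h : M →ₗ[R] (Fin k → R)) (d : R) (h1 : ∀ x, g (h x) = d • x)
    (y : Dual R (Dual R M)) : d • y ∈ LinearMap.range (Dual.eval R M) := by
  obtain ⟨v, hv⟩ := (Module.bijective_dual_eval R (Fin k → R)).2 (h.dualMap.dualMap y)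
  refine ⟨g v, LinearMap.ext fun φ => ?_⟩
  have h2 := LinearMap.congr_fun hv (g.dualMap φ)
  simp only [Dual.eval_apply, LinearMap.dualMap_apply, LinearMap.smul_apply] at h2 ⊢
  rw [h2, show h.dualMap (g.dualMap φ) = d • φ from LinearMap.ext fun x => by simp [h1]]
  simp

theorem isPrincipalIdealRing_atPrime {R : Type u} [CommRing R] [IsDomain R] [IsNoetherianRing R]
    [IsIntegrallyClosed R] (p : Ideal R) [p.IsPrime] (hp : p.height ≤ 1) :
    IsPrincipalIdealRing (Localization.AtPrime p) := by
  have hd : Ring.KrullDimLE 1 (Localization.AtPrime p) := Ring.krullDimLE_iff.mpr (by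
    rw [IsLocalization.AtPrime.ringKrullDim_eq_height p]
    exact_mod_cast hp)
  have : Ring.DimensionLEOne (Localization.AtPrime p) := ⟨fun {P} hP hP' => by
    obtain ⟨m, hm, hle⟩ := Ideal.exists_le_maximal P hP'.ne_top
    rcases eq_or_lt_of_le hle with rfl | hlt
    · exact hm
    exfalso
    have h1 : (⊥ : Ideal (Localization.AtPrime p)).height < P.height :=
      Ideal.height_strict_mono_of_isPrime (bot_lt_iff_ne_bot.2 hP)
    have h2 : P.height < m.height := Ideal.height_strict_mono_of_isPrime hlt
    have h3 : (m.height : WithBot ℕ∞) ≤ 1 := (Ideal.height_le_ringKrullDim_of_ne_top hm.ne_top).trans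
      (Ring.krullDimLE_iff.mp hd)
    have h4 : m.height ≤ 1 := by exact_mod_cast h3
    exact absurd (lt_of_lt_of_le h2 h4) (not_lt.2 (Order.one_le_iff_pos.2 (lt_of_le_of_lt zero_le h1)))⟩
  by_cases hf : IsField (Localization.AtPrime p)
  · let := hf.toField
    infer_instance
  · have hDR : IsDedekindRing (Localization.AtPrime p) :=
      (isDedekindRing_iff (Localization.AtPrime p) (FractionRing R)).mpr
        ⟨inferInstance, inferInstance, fun hx => by
          haveI : IsIntegrallyClosed (Localization.AtPrime p) :=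
            isIntegrallyClosed_of_isLocalization _ p.primeCompl p.primeCompl_le_nonZeroDivisors
          exact IsIntegrallyClosed.isIntegral_iff.mp hx⟩
    have hDD : IsDedekindDomain (Localization.AtPrime p) := IsDedekindDomain.mk
    have : IsDiscreteValuationRing (Localization.AtPrime p) :=
      ((IsDiscreteValuationRing.TFAE _ hf).out 2 0).mp hDD
    infer_instance

/-- Let `R` be a Noetherian normal domain and `M` a finite `R`-module. Then `M` is reflexive (the map to
its double dual is bijective) if and only if `M` is torsion free and satisfies Serre's condition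
`(S_2)`. -/
theorem result {R M : Type u} [CommRing R] [IsDomain R] [IsNoetherianRing R]
    [IsIntegrallyClosed R] [AddCommGroup M] [Module R M] [Module.Finite R M] :
    Module.IsReflexive R M ↔ NoZeroSMulDivisors R M ∧ LocCoh.HasSk 2 R M := by
  classical
  rcases subsingleton_or_nontrivial M with hM | hM
  · refine ⟨fun _ => ⟨⟨fun {c x} _ => Or.inr (Subsingleton.elim _ _)⟩, fun q _ => ?_⟩,
      fun _ => ⟨⟨fun a b _ => Subsingleton.elim a b, fun y => ⟨0, LinearMap.ext fun φ => by
        rw [show φ = 0 from LinearMap.ext fun x => by rw [Subsingleton.elim x 0, map_zero]; rfl, map_zero, map_zero]⟩⟩⟩⟩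
    refine le_trans le_top (le_of_eq ?_)
    rw [LocCoh.depth, Groth.LocCohBase.idealDepth_eq_top_of_smul_top_eq_top (Subsingleton.elim _ _)]
    rfl
  have hass : IsTorsionFree R M → ∀ (N : Type u) [AddCommGroup N] [Module R N] [IsTorsionFree R N],
      ∀ q ∈ associatedPrimes R N, q = ⊥ := by
    intro _ N _ _ _ q hq
    obtain ⟨hqp, x, hx⟩ := isAssociatedPrime_iff.mp hq
    refine eq_bot_iff.2 fun c hc => by_contra fun hc0 => hqp.ne_top ((Ideal.eq_top_iff_one q).2 ?_)
    rw [hx, Submodule.mem_colon_singleton, Submodule.mem_bot] at hc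
    rw [hx, Submodule.mem_colon_singleton, Submodule.mem_bot,
      Groth.Calg3.eq_zero_of_smul_eq_zero hc0 hc, smul_zero]
  have hannih : IsTorsionFree R M → Module.annihilator R M = ⊥ := fun _ => by
    obtain ⟨x, hx⟩ := exists_ne (0 : M)
    exact eq_bot_iff.2 fun c hc => by_contra fun hc0 =>
      hx (Groth.Calg3.eq_zero_of_smul_eq_zero hc0 (Module.mem_annihilator.1 hc x))
  have hdim : IsTorsionFree R M → ∀ (q : Ideal R) [q.IsPrime],
      Module.supportDim (Localization.AtPrime q) (LocalizedModule q.primeCompl M) = q.height := by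
    intro _ q _
    have hinj : Function.Injective (LocalizedModule.mkLinearMap q.primeCompl M) := fun a b hab => by
      obtain ⟨c, hc⟩ := (IsLocalizedModule.eq_iff_exists q.primeCompl (LocalizedModule.mkLinearMap q.primeCompl M)).1 hab
      exact smul_right_injective M (show (c : R) ≠ 0 from fun h => c.2 (h ▸ zero_mem q)) (by simpa [Submonoid.smul_def] using hc)
    rw [← IsLocalization.AtPrime.ringKrullDim_eq_height q (Localization.AtPrime q),
      Module.supportDim_eq_ringKrullDim_quotient_annihilator]
    refine ringKrullDim_eq_of_ringEquiv ((Ideal.quotEquivOfEq ?_).trans (RingEquiv.quotientBot _))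
    refine eq_bot_iff.2 fun c hc => ?_
    obtain ⟨a, s, rfl⟩ := IsLocalization.exists_mk'_eq q.primeCompl c
    have : a ∈ Module.annihilator R M := Module.mem_annihilator.2 fun x => hinj (by
      rw [map_zero, map_smul, ← algebraMap_smul (Localization.AtPrime q) a,
        ← IsLocalization.mk'_spec' (Localization.AtPrime q) a s, mul_smul,
        Module.mem_annihilator.1 hc, smul_zero])
    rw [hannih ‹_›, Ideal.mem_bot] at this
    rw [this, IsLocalization.mk'_zero]
    exact zero_mem _
  constructor
  · intro hrefl
    obtain ⟨n, f, hf, hsat⟩ := Groth.Calg3.exists_saturated_embedding (R := R) M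
    haveI : IsTorsionFree R M := Groth.Calg3.isTorsionFree_of_injective f hf
    refine ⟨⟨fun {c x} h => or_iff_not_imp_left.2 fun hc => Groth.Calg3.eq_zero_of_smul_eq_zero hc h⟩,
      fun q _ => ?_⟩
    rw [hdim ‹_›, ← WithBot.coe_natCast, ← WithBot.coe_min, WithBot.coe_le_coe]
    rcases eq_or_ne q.height 0 with h0 | h0
    · rw [h0]; simp
    have hq0 : q ≠ ⊥ := fun h => h0 (by
      rw [Ideal.height_eq_zero_iff, IsDomain.minimalPrimes_eq_singleton_bot]; exact h)
    by_cases h1 : q.height = 1
    · rw [h1]
      exact (min_le_right _ _).trans ((Groth.LocCohBase.one_le_depth_localized_iff q M).2 fun ha => hq0 (hass ‹_› M q ha))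
    obtain ⟨x, hxq, hx0⟩ := Submodule.exists_mem_ne_zero_of_ne_bot hq0
    refine (min_le_left _ _).trans (Groth.Ega4Algebra1.two_le_depth_localized q hxq
      (fun a b hab => smul_right_injective M hx0 hab) fun ha => ?_)
    obtain ⟨hqp, z, hz⟩ := isAssociatedPrime_iff.mp ha
    obtain ⟨m, rfl⟩ := Submodule.Quotient.mk_surjective _ z
    refine hqp.one_notMem ?_
    rw [hz, Submodule.mem_colon_singleton, Submodule.mem_bot, one_smul, Submodule.Quotient.mk_eq_zero,
      Submodule.mem_smul_pointwise_iff_exists]
    have hdvd : ∀ i, x ∣ f m i := fun i => by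
      by_contra hni
      refine h1 (Groth.RefRank.height_eq_one_of_colon hq0 hx0 hni fun t ht => ?_)
      rw [hz, Submodule.mem_colon_singleton, Submodule.mem_bot, ← Submodule.Quotient.mk_smul,
        Submodule.Quotient.mk_eq_zero, Submodule.mem_smul_pointwise_iff_exists] at ht
      obtain ⟨m', -, hm'⟩ := ht
      exact ⟨f m' i, by simpa using (congrFun (congrArg f hm') i).symm⟩
    choose zc hzc using hdvd
    obtain ⟨m', hm'⟩ := hsat x zc hx0 ⟨m, funext fun i => hzc i⟩
    exact ⟨m', trivial, hf (by rw [map_smul, hm']; exact funext fun i => (hzc i).symm)⟩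
  · rintro ⟨hnz, hS⟩
    haveI : IsTorsionFree R M := Groth.Calg3.isTorsionFree_of_smul_eq_zero fun c x hc h =>
      (eq_zero_or_eq_zero_of_smul_eq_zero h).resolve_left hc
    haveI : IsTorsionFree R (Dual R (Dual R M)) := Groth.Calg3.linearMap_torsionFree
    refine ⟨Groth.Calg1.bijective_of_forall_depth _ fun q _ => ?_⟩
    by_cases h1 : q.height ≤ 1
    · refine Or.inl ⟨LocalizedModule.map_injective _ _ (Groth.Calg3.eval_injective_of_torsionFree R M), fun y => ?_⟩
      haveI := isPrincipalIdealRing_atPrime q h1
      obtain ⟨k, g, h, d, hd, hgh⟩ := exists_pair (M := M) q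
      induction y using LocalizedModule.induction_on with
      | h y s =>
        obtain ⟨m, hm⟩ := smul_mem_range_eval g h d hgh y
        refine ⟨LocalizedModule.mk m (s * ⟨d, hd⟩), ?_⟩
        rw [LocalizedModule.map_mk, hm, LocalizedModule.mk_eq]
        exact ⟨1, by simp [Submonoid.smul_def, smul_smul]⟩
    · refine Or.inr ⟨?_, fun ha => h1 ?_⟩
      · have := hS q
        rw [hdim ‹_›, ← WithBot.coe_natCast, ← WithBot.coe_min, WithBot.coe_le_coe] at this
        refine le_trans (le_min le_rfl ?_) this
        rcases eq_or_ne q.height ⊤ with e | e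
        · rw [e]; exact le_top
        · lift q.height to ℕ using e with n hn
          norm_cast at h1 ⊢
          omega
      · rw [hass ‹_› _ q ha]
        simp

end Groth.Agent.S2054
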