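import Groth.Statements.S2055
import Groth.Agent.Calg1.Tensor

set_option autoImplicit false
universe u
open CAlg

namespace Groth.Agent.S2055

open TensorProduct in
/-- Let `R → S` be flat and `I ⊆ R` a finitely generated ideal with `R/I → S/IS` bijective. If one of
the `R`-modules `M`, `N` has every element killed by a power of `I`, then base change of linear maps
`Hom_R(M, N) → Hom_S(S ⊗ M, S ⊗ N)` is bijective. -/
theorem result {R S M N : Type u} [CommRing R] [CommRing S]
    [Algebra R S] [Module.Flat R S] (I : Ideal R) (hI : I.FG)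
    (hq : Function.Bijective (algebraMap (R ⧸ I) (S ⧸ I.map (algebraMap R S))))
    [AddCommGroup M] [Module R M] [AddCommGroup N] [Module R N]
    (hMN : (∀ x : M, ∃ n : ℕ, ∀ a ∈ I ^ n, a • x = 0) ∨ (∀ y : N, ∃ n : ℕ, ∀ a ∈ I ^ n, a • y = 0)) :
    Function.Bijective (fun f : M →ₗ[R] N => LinearMap.baseChange S f) := by
  exact Groth.Calg1.baseChange_hom_bijective I hI hq hMN

end Groth.Agent.S2055
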