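import Groth.Statements.S2058
import Groth.Agent.LocCohBase.DepthLocal
import Groth.Agent.LocCohBase.CM

set_option autoImplicit false
universe u
open CAlg

namespace Groth.Agent.S2058

/-- Let R be a Noetherian local ring which is not Artinian, is not a regular local ring of dimension
one, and has depth at most one. Then there is a finite ring map R → R' with R' ≠ 0, not bijective,
whose kernel and cokernel are killed by a power of the maximal ideal of R, such that the maximal
ideal of R is not an associated prime of the R-module R'. (This says that the four cases for a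
Noetherian local ring — Artinian, regular of dimension one, depth at least two, or admitting such a
map — cover everything; that they are mutually exclusive is not asserted.) -/
theorem result {R : Type u} [CommRing R] [IsLocalRing R] [IsNoetherianRing R]
    (h1 : ¬ IsArtinianRing R) (h2 : ¬ (IsRegularLocalRing R ∧ ringKrullDim R = 1))
    (h3 : LocCoh.depth R R ≤ 1) :
    ∃ (R' : Type u) (_ : CommRing R') (_ : Algebra R R'), Nontrivial R' ∧ Module.Finite R R' ∧
      ¬ Function.Bijective (algebraMap R R') ∧
      (∃ n : ℕ, (∀ x : R, algebraMap R R' x = 0 → ∀ a ∈ IsLocalRing.maximalIdeal R ^ n, a * x = 0) ∧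
        (∀ y : R', ∀ a ∈ IsLocalRing.maximalIdeal R ^ n, a • y ∈ Set.range (algebraMap R R'))) ∧
      IsLocalRing.maximalIdeal R ∉ associatedPrimes R R' := by
  classical
  let m := IsLocalRing.maximalIdeal R
  have hnilR : ∀ n : ℕ, m ^ n ≠ ⊥ := fun n hn => h1 (isArtinianRing_iff_krullDimLE_zero.2
    (Ring.krullDimLE_zero_iff.2 fun P hP => by
      have : m ≤ P := hP.le_of_pow_le (hn ▸ bot_le)
      exact (IsLocalRing.maximalIdeal.isMaximal R).eq_of_le hP.ne_top this ▸ IsLocalRing.maximalIdeal.isMaximal R))
  by_cases hm : m ∈ associatedPrimes R R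
  · -- kill the torsion
    let I : Ideal R :=
      { carrier := {x | ∃ n, ∀ a ∈ m ^ n, a * x = 0}
        add_mem' := fun {x y} ⟨n, hx⟩ ⟨k, hy⟩ => ⟨n + k, fun a ha => by
          rw [mul_add, hx a (Ideal.pow_le_pow_right (Nat.le_add_right n k) ha),
            hy a (Ideal.pow_le_pow_right (Nat.le_add_left k n) ha), add_zero]⟩
        zero_mem' := ⟨0, fun a _ => mul_zero a⟩
        smul_mem' := fun c x ⟨n, hx⟩ => ⟨n, fun a ha => by rw [smul_eq_mul, mul_left_comm, hx a ha, mul_zero]⟩ }
    obtain ⟨G, hG⟩ := IsNoetherian.noetherian I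
    choose nf hnf using fun g : G => (hG ▸ Submodule.subset_span g.2 : g.1 ∈ I)
    let N := Finset.univ.sup nf
    have hN : ∀ x ∈ I, ∀ a ∈ m ^ N, a * x = 0 := by
      intro x hx
      have hx' : x ∈ Submodule.span R (G : Set R) := by rw [hG]; exact hx
      clear hx
      induction hx' using Submodule.span_induction with
      | mem y hy => exact fun a ha => hnf ⟨y, hy⟩ a (Ideal.pow_le_pow_right (Finset.le_sup (Finset.mem_univ _)) ha)
      | zero => exact fun a _ => mul_zero a
      | add y z _ _ ihy ihz =>
        intro a ha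
        rw [mul_add, ihy a ha, ihz a ha, add_zero]
      | smul c y _ ihy =>
        intro a ha
        rw [smul_eq_mul, mul_left_comm, ihy a ha, mul_zero]
    have hI : I ≠ ⊤ := fun h => hnilR N (eq_bot_iff.2 fun a ha => by
      rw [Ideal.mem_bot, ← mul_one a]
      exact hN 1 (h ▸ Submodule.mem_top) a ha)
    obtain ⟨hmp, z, hz⟩ := isAssociatedPrime_iff.mp hm
    have hzI : z ∈ I := ⟨1, fun a ha => by
      rw [pow_one] at ha
      change a ∈ m at ha
      rwa [hz, Submodule.mem_colon_singleton, Submodule.mem_bot] at ha⟩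
    have hz0 : z ≠ 0 := fun h0 => hmp.ne_top (by rw [hz, h0]; simp)
    refine ⟨R ⧸ I, inferInstance, inferInstance, Ideal.Quotient.nontrivial_iff.2 hI, inferInstance, fun hb => ?_,
      ⟨N, fun x hx a ha => hN x (Ideal.Quotient.eq_zero_iff_mem.1 hx) a ha, fun y a _ => ?_⟩, fun hass => ?_⟩
    · exact hz0 (hb.1 ((Ideal.Quotient.eq_zero_iff_mem.2 hzI).trans (map_zero _).symm))
    · obtain ⟨r, rfl⟩ := Ideal.Quotient.mk_surjective y
      exact ⟨a * r, (map_mul (Ideal.Quotient.mk I) a r).trans (Algebra.smul_def a _).symm⟩
    · obtain ⟨-, w, hw⟩ := isAssociatedPrime_iff.mp hass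
      obtain ⟨x, rfl⟩ := Ideal.Quotient.mk_surjective w
      have hxI : x ∈ I := by
        refine ⟨N + 1, fun a ha => ?_⟩
        rw [pow_succ] at ha
        refine Submodule.mul_induction_on ha (fun b hb t ht => ?_) (fun b c hb hc => ?_)
        · change t ∈ IsLocalRing.maximalIdeal R at ht
          rw [hw, Submodule.mem_colon_singleton, Submodule.mem_bot, Algebra.smul_def] at ht
          have : t * x ∈ I := Ideal.Quotient.eq_zero_iff_mem.1 ((map_mul _ t x).trans ht)
          rw [mul_assoc]
          exact hN _ this b hb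
        · rw [add_mul, hb, hc, add_zero]
      refine (IsLocalRing.maximalIdeal.isMaximal R).ne_top ?_
      rw [hw, Ideal.Quotient.eq_zero_iff_mem.2 hxI]
      simp
  · -- a regular element with the maximal ideal associated to its quotient
    have hd : (1 : ℕ∞) ≤ LocCoh.idealDepth m R := (Groth.LocCohBase.one_le_idealDepth_iff m R).2 fun q hq hle =>
      hm ((show m = q from (IsLocalRing.maximalIdeal.isMaximal R).eq_of_le hq.isPrime.ne_top hle) ▸ hq)
    have hIM := Groth.LocCohBase.smul_maximalIdeal_ne_top (R := R) R (IsLocalRing.maximalIdeal.isMaximal R).ne_top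
    obtain ⟨x, hxm, hx⟩ := Groth.LocCohBase.exists_regular_of_one_le hIM hd
    have hQ : m ∈ associatedPrimes R (QuotSMulTop x R) := by
      by_contra hno
      have h4 : (1 : ℕ∞) ≤ LocCoh.idealDepth m (QuotSMulTop x R) := (Groth.LocCohBase.one_le_idealDepth_iff m _).2
        fun q hq hle => hno ((show m = q from (IsLocalRing.maximalIdeal.isMaximal R).eq_of_le hq.isPrime.ne_top hle) ▸ hq)
      have h5 : (2 : ℕ∞) ≤ LocCoh.depth R R := by
        rw [LocCoh.depth, ← Groth.LocCohBase.idealDepth_quotSMulTop_add_one _ R hIM hxm hx]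
        calc (2 : ℕ∞) = 1 + 1 := by norm_num
          _ ≤ _ := add_le_add h4 le_rfl
      exact absurd (h5.trans h3) (by norm_num)
    obtain ⟨hmp, w, hw⟩ := isAssociatedPrime_iff.mp hQ
    obtain ⟨y, rfl⟩ := Submodule.Quotient.mk_surjective _ w
    have hcol : ∀ t : R, t ∈ m ↔ x ∣ t * y := fun t => by
      show t ∈ IsLocalRing.maximalIdeal R ↔ _
      rw [show IsLocalRing.maximalIdeal R = _ from hw, Submodule.mem_colon_singleton, Submodule.mem_bot, ← Submodule.Quotient.mk_smul,
        Submodule.Quotient.mk_eq_zero, Submodule.mem_smul_pointwise_iff_exists]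
      exact ⟨fun ⟨c, _, hc⟩ => ⟨c, hc.symm⟩, fun ⟨c, hc⟩ => ⟨c, trivial, hc.symm⟩⟩
    let L := Localization.Away x
    have hnzd : Submonoid.powers x ≤ nonZeroDivisors R :=
      Submonoid.powers_le.2 (mem_nonZeroDivisors_iff_right.2 fun a ha => hx.right_eq_zero_of_smul
        (by rwa [smul_eq_mul, mul_comm]))
    have hinj : Function.Injective (algebraMap R L) := IsLocalization.injective L hnzd
    have hu : IsUnit (algebraMap R L x) := IsLocalization.Away.algebraMap_isUnit x
    let z : L := algebraMap R L y * (↑hu.unit⁻¹ : L)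
    have hzx : z * algebraMap R L x = algebraMap R L y := by
      rw [mul_assoc, IsUnit.val_inv_mul hu, mul_one]
    have hzt : ∀ t ∈ m, ∃ c : R, z * algebraMap R L t = algebraMap R L c := fun t ht => by
      obtain ⟨c, hc⟩ := (hcol t).1 ht
      refine ⟨c, hu.mul_left_cancel ?_⟩
      rw [← map_mul, ← hc, map_mul, ← hzx]
      ring
    -- multiplication by `z` preserves the maximal ideal
    have hzm : ∀ t ∈ m, ∃ c ∈ m, z * algebraMap R L t = algebraMap R L c := by
      intro t ht
      obtain ⟨c, hc⟩ := hzt t ht
      by_cases hcm : c ∈ m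
      · exact ⟨c, hcm, hc⟩
      exfalso
      have hcu : IsUnit c := IsLocalRing.notMem_maximalIdeal.1 hcm
      refine h2 ?_
      have hspan : m ≤ Ideal.span {t} := fun a ha => by
        obtain ⟨b, hb⟩ := hzt a ha
        have : c * a = b * t := hinj (by rw [map_mul, map_mul, ← hc, ← hb]; ring)
        obtain ⟨e, he⟩ := hcu.exists_left_inv
        exact Ideal.mem_span_singleton'.2 ⟨e * b, by rw [mul_assoc, ← this, ← mul_assoc, he, one_mul]⟩
      have h6 : m.spanFinrank ≤ 1 := by
        have : m = Ideal.span {t} := le_antisymm hspan ((Ideal.span_singleton_le_iff_mem _).2 ht)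
        rw [this]
        exact (Submodule.spanFinrank_span_le_ncard_of_finite (Set.finite_singleton t)).trans (Set.ncard_singleton t).le
      have h7 : (1 : WithBot ℕ∞) ≤ ringKrullDim R := by
        by_contra hlt
        refine h1 (isArtinianRing_iff_krullDimLE_zero.2 (Ring.krullDimLE_iff.2 ?_))
        have h8 : ringKrullDim R < 1 := not_le.1 hlt
        obtain ⟨d, hd'⟩ : ∃ d : ℕ∞, ringKrullDim R = d := ⟨_, (WithBot.coe_unbot _ (ne_bot_of_le_ne_bot (by simp) ringKrullDim_nonneg_of_nontrivial)).symm⟩
        rw [hd'] at h8 ⊢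
        have : d < 1 := by exact_mod_cast h8
        rw [show d = 0 from Order.lt_one_iff.1 this]
        rfl
      have hle := ringKrullDim_le_spanFinrank_maximalIdeal R
      have h9 : ((IsLocalRing.maximalIdeal R).spanFinrank : WithBot ℕ∞) ≤ 1 := by exact_mod_cast h6
      exact ⟨IsRegularLocalRing.of_spanFinrank_maximalIdeal_le R (h9.trans h7), le_antisymm (hle.trans h9) h7⟩
    -- integrality
    have hint : IsIntegral R z := by
      choose c hcm hc using hzm
      have hcadd : ∀ s t : m, c (s + t).1 (s + t).2 = c s.1 s.2 + c t.1 t.2 := fun s t => by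
        apply hinj
        rw [← hc, map_add, ← hc, ← hc, Submodule.coe_add, map_add, mul_add]
      have hcsmul : ∀ (r : R) (t : m), c (r • t).1 (r • t).2 = r * c t.1 t.2 := fun r t => by
        apply hinj
        rw [← hc, map_mul, ← hc, SetLike.val_smul, smul_eq_mul, map_mul]
        ring
      let φ : Module.End R (IsLocalRing.maximalIdeal R) :=
        { toFun := fun t => ⟨c t.1 t.2, hcm t.1 t.2⟩
          map_add' := fun s t => Subtype.ext (hcadd s t)
          map_smul' := fun r t => Subtype.ext (hcsmul r t) }
      have hφ : ∀ t : m, algebraMap R L (φ t : R) = z * algebraMap R L t := fun t => (hc t.1 t.2).symm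
      obtain ⟨P, hP, hPφ⟩ := Algebra.IsIntegral.isIntegral (R := R) (A := Module.End R (IsLocalRing.maximalIdeal R)) φ
      refine ⟨P, hP, ?_⟩
      have hev : ∀ (Q : Polynomial R) (t : m),
          algebraMap R L ((Polynomial.aeval φ Q) t : R) = Polynomial.aeval z Q * algebraMap R L t := by
        intro Q
        induction Q using Polynomial.induction_on' with
        | add a b ha hb => intro t; simp [ha, hb, add_mul]
        | monomial k c =>
          intro t
          induction k generalizing t with
          | zero =>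
            rw [Polynomial.aeval_monomial, Polynomial.aeval_monomial, pow_zero, pow_zero, mul_one, mul_one]
            show algebraMap R L (c * (t : R)) = _
            rw [map_mul]
          | succ k ih =>
            rw [Polynomial.aeval_monomial, Polynomial.aeval_monomial, pow_succ φ, ← mul_assoc,
              Module.End.mul_apply, ← Polynomial.aeval_monomial, ← Polynomial.aeval_monomial, ih, hφ]
            simp only [Polynomial.aeval_monomial]
            ring
      have h10 := hev P ⟨x, hxm⟩
      rw [← Polynomial.aeval_def] at hPφ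
      rw [hPφ, LinearMap.zero_apply, Submodule.coe_zero, map_zero] at h10
      rw [← Polynomial.aeval_def]
      exact (hu.mul_left_eq_zero).1 h10.symm
    let R' : Subalgebra R L := Algebra.adjoin R {z}
    have hstab : ∀ w ∈ R', ∀ t ∈ m, ∃ c ∈ m, w * algebraMap R L t = algebraMap R L c := by
      intro w hw
      induction hw using Algebra.adjoin_induction with
      | mem v hv => rw [Set.mem_singleton_iff] at hv; exact hv ▸ hzm
      | algebraMap r => exact fun t ht => ⟨r * t, m.mul_mem_left r ht, (map_mul _ r t).symm⟩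
      | add u v _ _ hu hv =>
        intro t ht
        obtain ⟨a, ha, ha'⟩ := hu t ht
        obtain ⟨b, hb, hb'⟩ := hv t ht
        exact ⟨a + b, add_mem ha hb, by rw [add_mul, ha', hb', map_add]⟩
      | mul u v _ _ hu hv =>
        intro t ht
        obtain ⟨b, hb, hb'⟩ := hv t ht
        obtain ⟨a, ha, ha'⟩ := hu b hb
        exact ⟨a, ha, by rw [mul_assoc, hb', ha']⟩
    have hinj' : Function.Injective (algebraMap R R') := fun a b hab => hinj (congrArg Subtype.val hab)
    refine ⟨R', inferInstance, inferInstance, hinj'.nontrivial, Module.Finite.of_fg (hint.fg_adjoin_singleton), fun hb => ?_,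
      ⟨1, fun a ha b _ => by rw [hinj' (ha.trans (map_zero _).symm), mul_zero], fun v a ha => ?_⟩, fun hass => ?_⟩
    · obtain ⟨r, hr⟩ := hb.2 ⟨z, Algebra.subset_adjoin rfl⟩
      refine hmp.one_notMem ?_
      refine (hcol 1).2 ⟨r, hinj ?_⟩
      rw [one_mul, ← hzx, map_mul, mul_comm (algebraMap R L x)]
      exact congrArg (· * algebraMap R L x) (congrArg Subtype.val hr).symm
    · rw [pow_one] at ha
      obtain ⟨c, -, hc⟩ := hstab v.1 v.2 a ha
      exact ⟨c, Subtype.ext (by rw [SetLike.val_smul, Algebra.smul_def, mul_comm, hc]; rfl)⟩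
    · obtain ⟨hp', v, hv⟩ := isAssociatedPrime_iff.mp hass
      have : x • v = 0 := by
        have : x ∈ IsLocalRing.maximalIdeal R := hxm
        rwa [hv, Submodule.mem_colon_singleton, Submodule.mem_bot] at this
      have hv0 : v = 0 := Subtype.ext (by
        have h11 := congrArg Subtype.val this
        rw [SetLike.val_smul, Algebra.smul_def] at h11
        exact (hu.mul_right_eq_zero).1 h11)
      exact hp'.ne_top (by rw [hv, hv0]; simp)

end Groth.Agent.S2058
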