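import Groth.Statements.S2059
import Mathlib


set_option autoImplicit false
universe u
open CAlg

namespace Groth.Agent.S2059

/-- Let `k` be a field and `S` a `k`-algebra generated by a set of cardinality smaller than that of `k`.
Then for every maximal ideal `𝔪` of `S` the residue field `S/𝔪` is algebraic over `k`, and `S` is a
Jacobson ring. -/
theorem result {k S : Type u} [Field k] [CommRing S] [Algebra k S]
    (s : Set S) (hs : Algebra.adjoin k s = ⊤) (hcard : Cardinal.mk s < Cardinal.mk k) :
    (∀ (m : Ideal S) [m.IsMaximal], Algebra.IsAlgebraic k (S ⧸ m)) ∧ IsJacobsonRing S := by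
  have key : ∀ (L : Type u) [Field L] [Algebra k L] (t : Set L), Cardinal.mk t < Cardinal.mk k →
      Algebra.adjoin k t = ⊤ → Algebra.IsAlgebraic k L := by
    intro L _ _ t ht htop
    rcases t.finite_or_infinite with hfin | hinf
    · haveI : Algebra.FiniteType k L := ⟨⟨hfin.toFinset, by rw [hfin.coe_toFinset, htop]⟩⟩
      haveI : Module.Finite k L := finite_of_finite_type_of_isJacobsonRing k L
      infer_instance
    · refine ⟨fun x => by_contra fun hx => ?_⟩
      haveI := hinf.to_subtype
      have hx' : Transcendental k x := hx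
      have h1 : Cardinal.mk k ≤ Module.rank k L := by
        simpa using (Transcendental.linearIndependent_sub_inv hx').cardinal_lift_le_rank
      have hsurj : Function.Surjective (MvPolynomial.aeval (R := k) (fun i : t => (i : L))) := by
        rw [← AlgHom.range_eq_top, ← Algebra.adjoin_range_eq_range_aeval, Subtype.range_coe, htop]
      have h2 := LinearMap.rank_le_of_surjective
        (MvPolynomial.aeval (R := k) (fun i : t => (i : L))).toLinearMap hsurj
      rw [MvPolynomial.rank_eq_lift, Cardinal.mk_finsupp_nat] at h2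
      simp only [Cardinal.lift_id] at h2
      refine absurd (h1.trans h2) (not_le.mpr (max_lt ht ?_))
      exact (Cardinal.aleph0_le_mk t).trans_lt ht
  have alg : ∀ (m : Ideal S) [m.IsMaximal], Algebra.IsAlgebraic k (S ⧸ m) := fun m _ => by
    letI := Ideal.Quotient.field m
    refine key (S ⧸ m) (Ideal.Quotient.mkₐ k m '' s) (Cardinal.mk_image_le.trans_lt hcard) ?_
    rw [← AlgHom.map_adjoin, hs, Algebra.map_top, AlgHom.range_eq_top]
    exact Ideal.Quotient.mk_surjective
  refine ⟨alg, isJacobsonRing_iff_prime_eq.mpr fun P hP => le_antisymm (fun f hf => ?_) Ideal.le_jacobson⟩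
  by_contra hfP
  let T := Localization.Away f
  let ι : S →+* T := algebraMap S T
  have hd : Disjoint (Submonoid.powers f : Set S) P := Set.disjoint_left.mpr fun x ⟨n, hn⟩ hxP =>
    hfP (hP.mem_of_pow_mem n (show f ^ n ∈ P from (show f ^ n = x from hn) ▸ hxP))
  have hPT := IsLocalization.isPrime_of_isPrime_disjoint (Submonoid.powers f) T P hP hd
  obtain ⟨M, hM, hPM⟩ := Ideal.exists_le_maximal _ hPT.ne_top
  letI := Ideal.Quotient.field M
  let g : S →ₐ[k] T ⧸ M := (Ideal.Quotient.mkₐ k M).comp (IsScalarTower.toAlgHom k S T)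
  haveI halgL : Algebra.IsAlgebraic k (T ⧸ M) := by
    by_cases hfin : s.Finite
    · haveI : Algebra.FiniteType k S := ⟨⟨hfin.toFinset, by rw [hfin.coe_toFinset, hs]⟩⟩
      haveI : Algebra.FiniteType S T := IsLocalization.finiteType_of_monoid_fg (Submonoid.powers f) T
      haveI : Algebra.FiniteType k T := Algebra.FiniteType.trans (S := S) inferInstance inferInstance
      haveI : Module.Finite k (T ⧸ M) := finite_of_finite_type_of_isJacobsonRing k (T ⧸ M)
      infer_instance
    haveI : Infinite s := Set.infinite_coe_iff.mpr hfin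
    refine key (T ⧸ M) (insert (g f)⁻¹ (g '' s)) ?_ ?_
    · refine lt_of_le_of_lt Cardinal.mk_insert_le ?_
      refine Cardinal.add_lt_of_lt ?_ (Cardinal.mk_image_le.trans_lt hcard) ?_
      · exact (Cardinal.aleph0_le_mk s).trans hcard.le
      · exact lt_of_lt_of_le Cardinal.one_lt_aleph0 ((Cardinal.aleph0_le_mk s).trans hcard.le)
    · refine eq_top_iff.mpr fun z _ => ?_
      obtain ⟨z, rfl⟩ := Ideal.Quotient.mk_surjective z
      obtain ⟨a, ⟨_, n, rfl⟩, rfl⟩ := IsLocalization.exists_mk'_eq (Submonoid.powers f) z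
      have hg : ∀ a, g a ∈ Algebra.adjoin k (insert (g f)⁻¹ (g '' s)) := fun a => by
        have : g a ∈ (Algebra.adjoin k s).map g := ⟨a, hs ▸ Algebra.mem_top, rfl⟩
        rw [AlgHom.map_adjoin] at this
        exact Algebra.adjoin_mono (Set.subset_insert _ _) this
      have hgf : g f ≠ 0 := ((IsLocalization.Away.algebraMap_isUnit f).map (Ideal.Quotient.mk M)).ne_zero
      have heq : Ideal.Quotient.mk M (IsLocalization.mk' T a (⟨f ^ n, n, rfl⟩ : Submonoid.powers f)) =
          g a * (g f)⁻¹ ^ n := by
        rw [inv_pow, eq_mul_inv_iff_mul_eq₀ (pow_ne_zero n hgf), ← map_pow]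
        show Ideal.Quotient.mk M _ * Ideal.Quotient.mk M (algebraMap S T (f ^ n)) = _
        rw [← map_mul]
        exact congrArg _ (IsLocalization.mk'_spec T a _)
      rw [heq]
      exact mul_mem (hg a) (pow_mem (Algebra.subset_adjoin (Set.mem_insert _ _)) n)
  let q := RingHom.ker g.toRingHom
  have hq : q.IsMaximal := by
    refine Ideal.Quotient.maximal_of_isField q ?_
    have e := RingHom.quotientKerEquivRange g.toRingHom
    refine MulEquiv.isField (?_ : IsField g.range) e.toMulEquiv
    exact Subalgebra.isField_of_algebraic g.range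
  have hle : P ≤ q := fun x hx => RingHom.mem_ker.mpr
    (Ideal.Quotient.eq_zero_iff_mem.mpr (hPM (Ideal.mem_map_of_mem _ hx)))
  have hfq : f ∈ q := Ideal.mem_sInf.mp hf ⟨hle, hq⟩
  exact ((IsLocalization.Away.algebraMap_isUnit f).map (Ideal.Quotient.mk M)).ne_zero hfq

end Groth.Agent.S2059
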