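import Groth.Statements.S2061
import Groth.Agent.Ega4Algebra1.RegularParams

set_option autoImplicit false
universe u
open CategoryTheory
open CAlg

namespace Groth.Agent.S2061

/-- For a Noetherian local ring `R` write `𝔪` for its maximal ideal and `κ` for its residue field. The
projective dimension of `κ` as an `R`-module is at least the `κ`-dimension of `𝔪/𝔪²`: if `κ` has
projective dimension less than `d` then `dim_κ 𝔪/𝔪² < d`. -/
theorem result {R : Type u} [CommRing R] [IsLocalRing R]
    [IsNoetherianRing R] (d : ℕ)
    (hd : HasProjectiveDimensionLT (ModuleCat.of R (IsLocalRing.ResidueField R)) d) :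
    Module.finrank (IsLocalRing.ResidueField R) (IsLocalRing.CotangentSpace R) < d := by
  have hk : Groth.Ega4Algebra1.PdLT R (R ⧸ IsLocalRing.maximalIdeal R) d := hd
  have : IsRegularLocalRing R := by
    refine Groth.Ega4Algebra1.isRegularLocalRing_of_pdLT R (R ⧸ IsLocalRing.maximalIdeal R) (fun y hy z => ?_) d
      (Groth.Ega4Algebra1.PdLT.mono (Nat.le_succ d) hk)
    obtain ⟨z, rfl⟩ := Ideal.Quotient.mk_surjective z
    exact Ideal.Quotient.eq_zero_iff_mem.mpr ((IsLocalRing.maximalIdeal R).mul_mem_right z hy)
  rw [← IsLocalRing.spanFinrank_maximalIdeal_eq_finrank_cotangentSpace]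
  exact Groth.Ega4Algebra1.spanFinrank_lt_of_pdLT R d hk

end Groth.Agent.S2061
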