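import Groth.Statements.S2064
import Groth.Agent.Calg1.AcyclicityDepth

set_option autoImplicit false
universe u
open CategoryTheory
open CAlg

namespace Groth.Agent.S2064

/-- Let `R` be a Noetherian local ring and `0 → M_e → M_{e-1} → … → M_0` a complex of finite `R`-modules
with `depth(M_j) ≥ j`. If `i > 0` is the largest index at which the complex is not exact, then the
homology at `M_i` has depth at least one. -/
theorem result {R : Type u} [CommRing R] [IsLocalRing R] [IsNoetherianRing R]
    (C : ChainComplex (ModuleCat.{u} R) ℕ) (e : ℕ) (hzero : ∀ j, e < j → Limits.IsZero (C.X j))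
    (hfin : ∀ j, Module.Finite R (C.X j)) (hdepth : ∀ j, j ≤ e → (j : ℕ∞) ≤ LocCoh.depth R (C.X j))
    (i : ℕ) (hi : 0 < i) (hnot : ¬ C.ExactAt i) (habove : ∀ j, i < j → C.ExactAt j) :
    1 ≤ LocCoh.depth R (C.homology i) := by
  exact Groth.Calg1.one_le_depth_homology C e hzero hfin hdepth i hi hnot habove

end Groth.Agent.S2064
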