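import Groth.Statements.S2071
import Groth.Agent.Calg1.Misc2

set_option autoImplicit false
universe u
open CAlg

namespace Groth.Agent.S2071

/-- For a field extension `k'/k`, every element of `k'` has a positive power in `k` if and only if
either `k' = k`, or the characteristic is a prime `p` and either `k'/k` is purely inseparable or
`k'` is algebraic over its prime field. -/
theorem result {k k' : Type u} [Field k] [Field k'] [Algebra k k'] :
    (∀ x : k', ∃ n : ℕ, 0 < n ∧ x ^ n ∈ Set.range (algebraMap k k')) ↔
      Function.Surjective (algebraMap k k') ∨
        ∃ p : ℕ, p.Prime ∧ CharP k' p ∧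
          (IsPurelyInseparable k k' ∨ Algebra.IsAlgebraic (⊥ : Subfield k') k') := by
  constructor
  · intro h
    by_cases hs : Function.Surjective (algebraMap k k')
    · exact Or.inl hs
    · exact Or.inr (Groth.Calg1.purelyInseparable_or_algebraic_of_pow_mem h hs)
  · rintro (hs | ⟨p, hp, hc, h⟩) x
    · exact ⟨1, one_pos, by rw [pow_one]; exact hs x⟩
    · exact Groth.Calg1.pow_mem_range_of_purelyInseparable_or_algebraic p hp h x

end Groth.Agent.S2071
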