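import Groth.Statements.S2076
import Groth.Agent.Limits.DescentStage

set_option autoImplicit false
universe u
open CategoryTheory AlgebraicGeometry
open Lim

namespace Groth.Agent.S2076

/-- Let `X = lim X_i` be a cofiltered limit of quasi-compact schemes over `S` with affine transition
morphisms and `h : Y → X` a closed immersion with `Y → S` locally of finite type. Then `Y → X_i` is
a closed immersion for some `i`. -/
theorem result {I : Type u} [SmallCategory I] [IsCofiltered I] (S : Scheme.{u})
    (D : I ⥤ Over S) (c : Limits.Cone D) (hc : Limits.IsLimit c)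
    [∀ (i j : I) (f : i ⟶ j), IsAffineHom (D.map f).left] [∀ i, CompactSpace (D.obj i).left]
    {Y : Scheme.{u}} (h : Y ⟶ c.pt.left) [IsClosedImmersion h] [LocallyOfFiniteType (h ≫ c.pt.hom)] :
    ∃ i : I, IsClosedImmersion (h ≫ (c.π.app i).left) := by
  have : IsConnected I := IsCofiltered.isConnected I
  have : ∀ i j (m : i ⟶ j), IsAffineHom ((D ⋙ Over.forget S).map m) := fun i j m ↦
    inferInstanceAs (IsAffineHom (D.map m).left)
  have : ∀ i, CompactSpace ((D ⋙ Over.forget S).obj i) := fun i ↦
    inferInstanceAs (CompactSpace (D.obj i).left)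
  refine Groth.Limits.exists_isClosedImmersion_comp_π (c := (Over.forget S).mapCone c)
    (Limits.isLimitOfPreserves (Over.forget S) hc) h ‹IsClosedImmersion h› (fun i ↦ ?_)
  have : LocallyOfFiniteType ((h ≫ (c.π.app i).left) ≫ (D.obj i).hom) := by
    rw [Category.assoc, Over.w]
    assumption
  exact locallyOfFiniteType_of_comp (h ≫ (c.π.app i).left) (D.obj i).hom

end Groth.Agent.S2076
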