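import Groth.Statements.S2080
import Mathlib
import Groth.Agent.PropsBasic.GenericFinite

set_option autoImplicit false
universe u
open CategoryTheory AlgebraicGeometry
open Mor

namespace Groth.Agent.S2080

set_option backward.isDefEq.respectTransparency.types false

/-- Let `f : X → Y` be locally of finite type, quasi-compact and quasi-separated, and `η` a generic
point of an irreducible component of `Y`. Then `f⁻¹{η}` is finite if and only if there is an affine
open `V ∋ η` such that `f⁻¹(V) → V` is finite. -/
theorem result {X Y : Scheme.{u}} (f : X ⟶ Y) [LocallyOfFiniteType f]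
    [QuasiCompact f] [QuasiSeparated f] (η : Y) (hη : closure {η} ∈ irreducibleComponents (Y : Type u)) :
    (f.base ⁻¹' {η}).Finite ↔ ∃ V : Y.Opens, IsAffineOpen V ∧ η ∈ V ∧ IsFinite (f ∣_ V) := by
  constructor
  · exact fun h => Groth.PropsBasic.GenericFinite.exists_affine_nhd_isFinite f hη h
  · rintro ⟨V, -, hηV, hV⟩
    refine (((f ∣_ V).finite_preimage_singleton ⟨η, hηV⟩).image Subtype.val).subset ?_
    intro x hx
    refine ⟨⟨x, show f x ∈ V by rw [show f x = η from hx]; exact hηV⟩,
      Subtype.ext (by rw [morphismRestrict_base]; exact hx), rfl⟩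

end Groth.Agent.S2080
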