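import Groth.Statements.S2083
import Groth.Agent.LocCohBase.CM

set_option autoImplicit false
universe u
open CAlg

namespace Groth.Agent.S2083

/-- Let `R` be a Noetherian local ring, `M` a finite Cohen–Macaulay `R`-module and `g` a member of the
maximal ideal for which the support of `M/gM` has dimension exactly one less than that of `M`. Then
`g` is a nonzerodivisor on `M`, and the quotient `M/gM` is again Cohen–Macaulay, with depth one
smaller than that of `M`. -/
theorem result {R M : Type u} [CommRing R] [IsLocalRing R] [IsNoetherianRing R]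
    [AddCommGroup M] [Module R M] [Module.Finite R M] (hM : LocCoh.IsCohenMacaulayModule R M) (g : R)
    (hg : g ∈ IsLocalRing.maximalIdeal R)
    (hdim : Module.supportDim R (M ⧸ Ideal.span {g} • (⊤ : Submodule R M)) + 1 = Module.supportDim R M) :
    IsSMulRegular M g ∧ LocCoh.IsCohenMacaulayModule R (M ⧸ Ideal.span {g} • (⊤ : Submodule R M)) ∧
      LocCoh.depth R (M ⧸ Ideal.span {g} • (⊤ : Submodule R M)) + 1 = LocCoh.depth R M := by
  have : Nontrivial M := Groth.LocCohBase.nontrivial_of_CM hM
  obtain ⟨n, hn⟩ := Groth.LocCohBase.exists_depth_eq (R := R) M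
  have hreg : IsSMulRegular M g := by
    rw [isSMulRegular_iff_right_eq_zero_of_smul]
    intro m hm
    by_contra hm0
    have hmem : g ∈ ⋃ p ∈ associatedPrimes R M, (p : Set R) := by
      rw [biUnion_associatedPrimes_eq_zero_divisors]
      exact ⟨m, hm0, hm⟩
    obtain ⟨p, hp, hgp⟩ := Set.mem_iUnion₂.mp hmem
    have hann : Module.annihilator R M ≤ p :=
      le_of_eq_of_le Submodule.annihilator_top.symm (IsAssociatedPrime.annihilator_le hp)
    have hle : Module.supportDim R M ≤ Module.supportDim R (M ⧸ Ideal.span {g} • (⊤ : Submodule R M)) := by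
      rw [← Groth.LocCohBase.ringKrullDim_quotient_eq_of_CM hM hp,
        ← Module.supportDim_quotient_eq_ringKrullDim]
      refine Order.krullDim_le_of_strictMono (fun q => ⟨q.1, ?_⟩) fun a b hab => hab
      have hq : p ≤ q.1.asIdeal :=
        SetLike.coe_subset_coe.1 ((PrimeSpectrum.mem_zeroLocus _ _).1
          ((Set.ext_iff.1 (Groth.LocCohBase.support_quotient_eq p) _).1 q.2))
      rw [Module.support_quotient, Set.mem_inter_iff, Module.mem_support_iff_of_finite,
        PrimeSpectrum.mem_zeroLocus, SetLike.coe_subset_coe, Ideal.span_singleton_le_iff_mem]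
      exact ⟨hann.trans hq, hq hgp⟩
    have hd : Module.supportDim R M = ((n : ℕ∞) : WithBot ℕ∞) := by
      rw [show Module.supportDim R M = _ from hM, hn]
    rw [← hdim] at hle
    rw [hd] at hdim
    revert hle hdim
    generalize Module.supportDim R (M ⧸ Ideal.span {g} • (⊤ : Submodule R M)) = a
    intro hdim hle
    cases a with
    | bot => rw [WithBot.bot_add] at hdim; exact WithBot.bot_ne_coe hdim
    | coe d =>
      rw [← WithBot.coe_one, ← WithBot.coe_add, WithBot.coe_inj] at hdim
      rw [← WithBot.coe_one, ← WithBot.coe_add, WithBot.coe_le_coe] at hle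
      cases d with
      | top => exact ENat.natCast_ne_top n (hdim.symm.trans (top_add 1))
      | coe d =>
        change ((d + 1 : ℕ) : ℕ∞) ≤ (d : ℕ∞) at hle
        norm_cast at hle
        omega
  refine ⟨hreg, ?_⟩
  rw [Submodule.ideal_span_singleton_smul]
  refine ⟨Groth.LocCohBase.isCM_quotSMulTop hM hg hreg, ?_⟩
  exact Groth.LocCohBase.idealDepth_quotSMulTop_add_one _ M
    (Groth.LocCohBase.smul_maximalIdeal_ne_top M (IsLocalRing.maximalIdeal.isMaximal R).ne_top) hg hreg

end Groth.Agent.S2083
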