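import Groth.Statements.S2086
import Groth.Agent.Ega4Algebra2.SkFlat

set_option autoImplicit false
universe u
open CAlg

namespace Groth.Agent.S2086

/-- Let `R → S` be a flat map of Noetherian rings such that `R` and all fibre rings `S ⊗ κ(𝔭)` satisfy
Serre's condition `(S_k)`. Then `S` satisfies `(S_k)`. -/
theorem result {R S : Type u} [CommRing R] [CommRing S] [IsNoetherianRing R] [IsNoetherianRing S]
    [Algebra R S] [Module.Flat R S] (k : ℕ) (hR : LocCoh.HasSk k R R)
    (hfib : ∀ (p : Ideal R) [p.IsPrime], LocCoh.HasSk k (p.Fiber S) (p.Fiber S)) :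
    LocCoh.HasSk k S S := by
  classical
  rw [Groth.Ega4b.hasSk_self_iff] at hR ⊢
  intro Q _
  let p := Q.comap (algebraMap R S)
  let Rp := Localization.AtPrime p
  let SQ := Localization.AtPrime Q
  letI : Algebra Rp SQ := (Localization.localRingHom p Q (algebraMap R S) rfl).toAlgebra
  haveI : IsScalarTower R Rp SQ := IsScalarTower.of_algebraMap_eq fun a => by
    rw [RingHom.algebraMap_toAlgebra, Localization.localRingHom_to_map,
      IsScalarTower.algebraMap_apply R S SQ]
  haveI : IsLocalHom (algebraMap Rp SQ) := Localization.isLocalHom_localRingHom p Q (algebraMap R S) rfl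
  haveI : Module.Flat R SQ := Module.Flat.trans R S SQ
  haveI : Module.Flat Rp SQ := (Module.flat_iff_of_isLocalization Rp p.primeCompl _).mpr inferInstance
  haveI := Groth.Ega4b.fibLocRing_isLocalRing R S Q
  have hI : (IsLocalRing.maximalIdeal Rp).map (algebraMap Rp SQ) = p.map (algebraMap R SQ) := by
    rw [← Localization.AtPrime.map_eq_maximalIdeal, Ideal.map_map, ← IsScalarTower.algebraMap_eq]
  let e : (SQ ⧸ (IsLocalRing.maximalIdeal Rp).map (algebraMap Rp SQ)) ≃+* EGA4.FibLocRing R S Q :=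
    Ideal.quotEquivOfEq hI
  haveI : IsLocalRing (SQ ⧸ (IsLocalRing.maximalIdeal Rp).map (algebraMap Rp SQ)) := e.symm.isLocalRing
  have h1 := hR p
  have h2 := (Groth.Ega4b.skLoc_of_ringEquiv e).mpr ((Groth.Ega4b.hasSk_fiber_iff R S k p).1 (hfib p) Q rfl)
  unfold Groth.Ega4b.SkLoc at h1 h2 ⊢
  rw [Groth.Ega4b.depth_eq_add_of_flat Rp SQ, Groth.Calg4.ringKrullDim_eq_add_of_flat Rp SQ]
  exact Groth.Ega4b.min_le_add_of_min_le h1 h2

end Groth.Agent.S2086
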