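import Groth.Statements.S2088
import Groth.Agent.Calg1.InflateGeneral

set_option autoImplicit false
universe u
open CAlg

namespace Groth.Agent.S2088

/-- Let `(R, 𝔪, k)` be a local ring and `K/k` a field extension. Then there is a flat local homomorphism
of local rings `R → R'` with `𝔪R' = 𝔪_{R'}` whose residue field is isomorphic to `K` over `k`. -/
theorem result {R K : Type u} [CommRing R] [IsLocalRing R] [Field K]
    [Algebra (IsLocalRing.ResidueField R) K] :
    ∃ (R' : Type u) (_ : CommRing R') (_ : IsLocalRing R') (_ : Algebra R R') (_ : IsLocalHom (algebraMap R R')),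
      Module.Flat R R' ∧ (IsLocalRing.maximalIdeal R).map (algebraMap R R') = IsLocalRing.maximalIdeal R' ∧
      Nonempty (IsLocalRing.ResidueField R' ≃ₐ[IsLocalRing.ResidueField R] K) := by
  classical
  letI : Algebra R K := ((algebraMap (IsLocalRing.ResidueField R) K).comp (IsLocalRing.residue R)).toAlgebra
  haveI : IsScalarTower R (IsLocalRing.ResidueField R) K := IsScalarTower.of_algebraMap_eq fun _ => rfl
  obtain ⟨ι, x, hx⟩ := exists_isTranscendenceBasis' (IsLocalRing.ResidueField R) K
  obtain ⟨R₁, _, _, _, ρ, hlh1, hflat1, hmax1, hρA, hρx⟩ :=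
    Groth.Calg2.exists_inflation_transcendental' R K x hx.1
  letI : Algebra (IsLocalRing.ResidueField R₁) K := ρ.toAlgebra
  haveI : Algebra.IsAlgebraic (IsLocalRing.ResidueField R₁) K := by
    haveI := hx.isAlgebraic_field
    let F := IntermediateField.adjoin (IsLocalRing.ResidueField R) (Set.range x)
    have hF : ∀ z ∈ F, z ∈ ρ.range := by
      intro z hz
      induction hz using IntermediateField.adjoin_induction with
      | mem z hz => obtain ⟨i, rfl⟩ := hz; exact hρx i
      | algebraMap c =>
        obtain ⟨a, rfl⟩ := IsLocalRing.residue_surjective c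
        exact ⟨_, hρA a⟩
      | add y z _ _ hy hz => exact ρ.range.add_mem hy hz
      | inv y _ hy =>
        obtain ⟨w, rfl⟩ := hy
        exact ⟨w⁻¹, map_inv₀ ρ w⟩
      | mul y z _ _ hy hz => exact ρ.range.mul_mem hy hz
    refine ⟨fun z => ?_⟩
    obtain ⟨p, hp0, hpz⟩ := Algebra.IsAlgebraic.isAlgebraic (R := F) z
    have hlift : p.map (algebraMap F K) ∈ Polynomial.lifts ρ := by
      rw [Polynomial.lifts_iff_coeff_lifts]
      intro j
      rw [Polynomial.coeff_map]
      exact hF _ (p.coeff j).2
    obtain ⟨q, hq⟩ := (Polynomial.mem_lifts _).1 hlift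
    refine ⟨q, fun h => hp0 ?_, ?_⟩
    · rw [h, Polynomial.map_zero] at hq
      exact (Polynomial.map_eq_zero _).1 hq.symm
    · rw [Polynomial.aeval_def, show algebraMap (IsLocalRing.ResidueField R₁) K = ρ from rfl,
        Polynomial.eval₂_eq_eval_map, hq, ← Polynomial.eval₂_eq_eval_map]
      exact hpz
  obtain ⟨B, _, _, hloc, hlh, hflat, e, he⟩ := Groth.Calg2.exists_inflation_algebraic' R₁ K
  letI : Algebra R B := ((algebraMap R₁ B).comp (algebraMap R R₁)).toAlgebra
  haveI : IsScalarTower R R₁ B := IsScalarTower.of_algebraMap_eq fun _ => rfl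
  haveI : IsLocalHom (algebraMap R B) := ⟨fun a ha => hlh1.map_nonunit a (hlh.map_nonunit _ ha)⟩
  have hmap : (IsLocalRing.maximalIdeal R).map (algebraMap R B) =
      (IsLocalRing.maximalIdeal R₁).map (algebraMap R₁ B) := by
    rw [← hmax1, Ideal.map_map, ← IsScalarTower.algebraMap_eq]
  let e' : (B ⧸ (IsLocalRing.maximalIdeal R).map (algebraMap R B)) ≃+* K := (Ideal.quotEquivOfEq hmap).trans e
  have hm : (IsLocalRing.maximalIdeal R).map (algebraMap R B) = IsLocalRing.maximalIdeal B :=
    IsLocalRing.eq_maximalIdeal (Ideal.Quotient.maximal_of_isField _ (e'.toMulEquiv.isField (Field.toIsField K)))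
  refine ⟨B, inferInstance, hloc, inferInstance, inferInstance, Module.Flat.trans R R₁ B, hm,
    ⟨AlgEquiv.ofRingEquiv (f := (Ideal.quotEquivOfEq hm.symm).trans e') fun c => ?_⟩⟩
  obtain ⟨a, rfl⟩ := IsLocalRing.residue_surjective c
  exact (he (algebraMap R R₁ a)).trans (hρA a)

end Groth.Agent.S2088
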