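import Groth.Statements.S2093
import Groth.Agent.Calg1.AnalyticUnramified
import Groth.Agent.Calg1.SerreConditions

set_option autoImplicit false
universe u
open CAlg

namespace Groth.Agent.S2093

/-- Let `(R, 𝔪)` be a Noetherian local domain and `x ∈ 𝔪` nonzero such that `R/xR` has no embedded
associated primes, and for every associated prime `𝔭` of `R/xR` the local ring `R_𝔭` is regular and
the completion of `R/𝔭` is reduced. Then the completion of `R` is reduced. -/
theorem result {R : Type u} [CommRing R] [IsDomain R] [IsLocalRing R]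
    [IsNoetherianRing R] (x : R) (hx : x ≠ 0) (hxm : x ∈ IsLocalRing.maximalIdeal R)
    (hemb : ∀ p ∈ associatedPrimes R (R ⧸ Ideal.span {x}), p ∈ (Ideal.span {x}).minimalPrimes)
    (hreg : ∀ p ∈ associatedPrimes R (R ⧸ Ideal.span {x}), ∀ (_ : p.IsPrime),
      IsRegularLocalRing (Localization.AtPrime p) ∧
        IsReduced (AdicCompletion ((IsLocalRing.maximalIdeal R).map (Ideal.Quotient.mk p)) (R ⧸ p))) :
    IsReduced (AdicCompletion (IsLocalRing.maximalIdeal R) R) := by
  classical
  refine Groth.Calg1.isReduced_of_flat x hx (Groth.Calg1.eq_zero_of_forall_mem_span_pow hxm) fun p hp => ?_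
  haveI hpp : p.IsPrime := hp.1
  obtain ⟨hR, hred⟩ := hreg p hp hpp
  haveI := hR
  refine ⟨?_, ?_⟩
  · haveI : Nontrivial (R ⧸ p) := Ideal.Quotient.nontrivial_iff.2 hpp.ne_top
    haveI : IsLocalRing (R ⧸ p) :=
      IsLocalRing.of_surjective' (Ideal.Quotient.mk p) Ideal.Quotient.mk_surjective
    refine Groth.Calg1.isRadical_map_of_isReduced_completion p ?_
    rwa [← Groth.Ega4b.map_maximalIdeal_quotient]
  · have hdim : ringKrullDim (Localization.AtPrime p) ≤ 1 := by
      rw [IsLocalization.AtPrime.ringKrullDim_eq_height p]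
      exact_mod_cast Ideal.height_le_one_of_isPrincipal_of_mem_minimalPrimes _ _ (hemb p hp)
    obtain ⟨g, hg⟩ := (Groth.Calg1.isPrincipal_maximalIdeal hdim).principal
    rw [Ideal.submodule_span_eq] at hg
    obtain ⟨π, s₀, rfl⟩ := IsLocalization.exists_mk'_eq p.primeCompl g
    have hπ : π ∈ p := by
      refine (IsLocalization.AtPrime.mk'_mem_maximal_iff (Localization.AtPrime p) p π s₀).1 ?_
      rw [hg]; exact Ideal.mem_span_singleton_self _
    refine ⟨π, hπ, ?_⟩
    have hy : ∀ y ∈ p, ∃ s, s ∉ p ∧ ∃ t, s * y = π * t := by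
      intro y hy
      have : algebraMap R (Localization.AtPrime p) y ∈ IsLocalRing.maximalIdeal (Localization.AtPrime p) :=
        (IsLocalization.AtPrime.to_map_mem_maximal_iff (Localization.AtPrime p) p y).2 hy
      rw [hg, Ideal.mem_span_singleton'] at this
      obtain ⟨c, hc⟩ := this
      obtain ⟨t, s₁, rfl⟩ := IsLocalization.exists_mk'_eq p.primeCompl c
      rw [← IsLocalization.mk'_mul, IsLocalization.mk'_eq_iff_eq_mul, ← map_mul] at hc
      obtain ⟨u, hu⟩ := (IsLocalization.eq_iff_exists p.primeCompl _).1 hc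
      exact ⟨(u : R) * ((s₁ * s₀ : p.primeCompl) : R), (p.primeCompl.mul_mem u.2 (s₁ * s₀).2),
        (u : R) * t, by linear_combination -hu⟩
    obtain ⟨G, hG⟩ := IsNoetherian.noetherian p
    have hGy : ∀ y : (↑G : Set R), ∃ s, s ∉ p ∧ ∃ t, s * (y : R) = π * t := fun y =>
      hy y (hG ▸ Submodule.subset_span y.2)
    choose S hS T hT using hGy
    refine ⟨∏ y, S y, fun hmem => ?_, fun y hyp => ?_⟩
    · obtain ⟨y, -, hyS⟩ := (Ideal.IsPrime.prod_mem_iff (p := p)).1 hmem
      exact hS y hyS
    · rw [← hG] at hyp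
      induction hyp using Submodule.span_induction with
      | mem a ha =>
        obtain ⟨c, hc⟩ := Finset.dvd_prod_of_mem S (Finset.mem_univ (⟨a, ha⟩ : (↑G : Set R)))
        exact ⟨T ⟨a, ha⟩ * c, by rw [hc]; linear_combination c * hT ⟨a, ha⟩⟩
      | zero => exact ⟨0, by simp⟩
      | add a b _ _ ha hb =>
        obtain ⟨ta, ha⟩ := ha
        obtain ⟨tb, hb⟩ := hb
        exact ⟨ta + tb, by linear_combination ha + hb⟩
      | smul r a _ ha =>
        obtain ⟨ta, ha⟩ := ha
        exact ⟨r * ta, by rw [smul_eq_mul]; linear_combination r * ha⟩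

end Groth.Agent.S2093
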