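import Groth.Statements.S2094
import Groth.Agent.NeronArea.SymSmooth
import Mathlib.Algebra.TrivSqZeroExt.Basic

set_option autoImplicit false
universe u
open CAlg

namespace Groth.Agent.S2094

/-- The symmetric algebra of an `A`-module is a smooth `A`-algebra exactly when the module is finite
projective. -/
theorem result {A M : Type u} [CommRing A] [AddCommGroup M] [Module A M] :
    Algebra.Smooth A (SymmetricAlgebra A M) ↔ Module.Finite A M ∧ Module.Projective A M := by
  classical
  constructor
  · intro hS
    letI : Module Aᵐᵒᵖ M := Module.compHom M ((RingHom.id A).fromOpposite mul_comm)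
    haveI : IsCentralScalar A M := ⟨fun a m => rfl⟩
    let ψ : SymmetricAlgebra A M →ₐ[A] TrivSqZeroExt A M :=
      SymmetricAlgebra.lift ((TrivSqZeroExt.inrHom A M).restrictScalars A)
    have hψι : ∀ m, ψ (SymmetricAlgebra.ι A M m) = TrivSqZeroExt.inr m := fun m =>
      SymmetricAlgebra.lift_ι_apply _ m
    haveI hfin : Module.Finite A M := by
      obtain ⟨G, hG⟩ := (inferInstance : Algebra.FiniteType A (SymmetricAlgebra A M)).out
      refine ⟨⟨G.image fun x => (ψ x).snd, eq_top_iff.2 fun m _ => ?_⟩⟩
      have key : ∀ x, (ψ x).snd ∈ Submodule.span A ((G.image fun x => (ψ x).snd : Finset M) : Set M) := by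
        intro x
        have hx : x ∈ Algebra.adjoin A (G : Set (SymmetricAlgebra A M)) := hG ▸ Algebra.mem_top
        induction hx using Algebra.adjoin_induction with
        | mem x hx => exact Submodule.subset_span (Finset.mem_image_of_mem _ hx)
        | algebraMap r => simp [TrivSqZeroExt.algebraMap_eq_inl']
        | add x y _ _ hx hy => rw [map_add, TrivSqZeroExt.snd_add]; exact add_mem hx hy
        | mul x y _ _ hx hy =>
          rw [map_mul, TrivSqZeroExt.snd_mul, op_smul_eq_smul]
          exact add_mem (Submodule.smul_mem _ _ hy) (Submodule.smul_mem _ _ hx)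
      simpa [hψι] using key (SymmetricAlgebra.ι A M m)
    refine ⟨hfin, ?_⟩
    obtain ⟨n, p, hp⟩ := Module.Finite.exists_fin' A M
    let q : TrivSqZeroExt A (Fin n → A) →ₐ[A] TrivSqZeroExt A M := TrivSqZeroExt.map p
    have hq : Function.Surjective q := fun x => by
      obtain ⟨w, hw⟩ := hp x.snd
      exact ⟨TrivSqZeroExt.inl x.fst + TrivSqZeroExt.inr w, TrivSqZeroExt.ext (by simp [q]) (by simp [q, hw])⟩
    have hnil : IsNilpotent (RingHom.ker (q : TrivSqZeroExt A (Fin n → A) →+* TrivSqZeroExt A M)) := by
      refine ⟨2, ?_⟩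
      rw [show (2 : ℕ) = 1 + 1 from rfl, Submodule.pow_succ, Submodule.pow_one, Submodule.zero_eq_bot, eq_bot_iff, Ideal.mul_le]
      intro a ha b hb
      have hfa : a.fst = 0 := by simpa [q] using congrArg TrivSqZeroExt.fst (RingHom.mem_ker.1 ha)
      have hfb : b.fst = 0 := by simpa [q] using congrArg TrivSqZeroExt.fst (RingHom.mem_ker.1 hb)
      exact (Submodule.mem_bot _).2 (TrivSqZeroExt.ext (by simp [hfa]) (by simp [hfa, hfb]))
    let χ := Algebra.FormallySmooth.liftOfSurjective ψ q hq hnil
    have hχ : ∀ x, q (χ x) = ψ x := fun x => Algebra.FormallySmooth.liftOfSurjective_apply ψ q hq hnil x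
    let s : M →ₗ[A] (Fin n → A) :=
      { toFun := fun m => (χ (SymmetricAlgebra.ι A M m)).snd
        map_add' := fun a b => by simp
        map_smul' := fun r a => by simp }
    refine Module.Projective.of_split s p (LinearMap.ext fun m => ?_)
    have := congrArg TrivSqZeroExt.snd (hχ (SymmetricAlgebra.ι A M m))
    rw [hψι] at this
    simpa [q, s] using this
  · rintro ⟨_, _⟩
    infer_instance

end Groth.Agent.S2094
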