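import Groth.Statements.S2095
import Groth.Agent.Calg1.Misc2

set_option autoImplicit false
universe u
open CAlg

namespace Groth.Agent.S2095

open TensorProduct in
/-- Let `R → S` be a ring map, `𝔫 ⊆ S` an ideal and `R → R'` a ring map admitting an `R`-linear
retraction. If `R' → R' ⊗ S` is formally smooth for the adic topology of the extension of `𝔫`, then
`R → S` is formally smooth for the `𝔫`-adic topology. -/
theorem result {R S R' : Type u} [CommRing R] [CommRing S] [Algebra R S]
    (𝔫 : Ideal S) [CommRing R'] [Algebra R R'] (ρ : R' →ₗ[R] R) (hρ : ∀ r : R, ρ (algebraMap R R' r) = r)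
    (h : CAlgX.IsAdicFormallySmooth R' (R' ⊗[R] S)
      (𝔫.map (Algebra.TensorProduct.includeRight : S →ₐ[R] R' ⊗[R] S))) :
    CAlgX.IsAdicFormallySmooth R S 𝔫 := by
  exact Groth.Calg1.adicFormallySmooth_descent 𝔫 ρ hρ h

end Groth.Agent.S2095
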