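import Groth.Statements.S2097
import Groth.Agent.Calg1.Misc

set_option autoImplicit false
universe u
open CAlg

namespace Groth.Agent.S2097

/-- Let `R → S` be smooth, `A` an `R`-algebra and `I ⊆ A` an ideal all of whose elements are nilpotent.
Every `R`-algebra map `S → A/I` lifts to an `R`-algebra map `S → A`. -/
theorem result {R S A : Type u} [CommRing R] [CommRing S] [Algebra R S] [Algebra.Smooth R S]
    [CommRing A] [Algebra R A] (I : Ideal A) (hI : ∀ x ∈ I, IsNilpotent x) (g : S →ₐ[R] A ⧸ I) :
    ∃ f : S →ₐ[R] A, (Ideal.Quotient.mkₐ R I).comp f = g := by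
  exact Groth.Calg1.smooth_lift_of_isNilpotent I hI g

end Groth.Agent.S2097
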