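import Groth.Statements.S2099
import Groth.Agent.Calg1.SmoothCompletion

set_option autoImplicit false
universe u
open CAlg

namespace Groth.Agent.S2099

/-- Let `R → S` be smooth with an `R`-algebra retraction `σ : S → R` and `I = ker σ`. If `I/I²` is free
of rank `d` over `R`, then the `I`-adic completion of `S` is isomorphic as an `R`-algebra to the
power series ring in `d` variables over `R`. -/
theorem result {R S : Type u} [CommRing R] [CommRing S] [Algebra R S]
    [Algebra.Smooth R S] (σ : S →ₐ[R] R) (d : ℕ)
    (e : (RingHom.ker σ.toRingHom).Cotangent ≃ₗ[R] (Fin d → R)) :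
    Nonempty (AdicCompletion (RingHom.ker σ.toRingHom) S ≃ₐ[R] MvPowerSeries (Fin d) R) := by
  exact Groth.Calg1.nonempty_completion_equiv_powerSeries σ e

end Groth.Agent.S2099
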