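import Groth.Statements.S2100
import Groth.Agent.Variety2.AdaptedNormalization
import Groth.Agent.Variety2.DimAffine

set_option autoImplicit false
universe u
open CAlg

namespace Groth.Agent.S2100

/-- Let `k` be a field, `𝔮` a prime of `k[x_1, …, x_n]` and `r` the transcendence degree of `κ(𝔮)` over
`k`. Then there is a finite `k`-algebra map `φ : k[y_1, …, y_n] → k[x_1, …, x_n]` with `φ⁻¹(𝔮) =
(y_{r+1}, …, y_n)`. -/
theorem result {k : Type u} [Field k] (n r : ℕ) (q : Ideal (MvPolynomial (Fin n) k))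
    [q.IsPrime] (hr : Algebra.trdeg k q.ResidueField = r) :
    ∃ φ : MvPolynomial (Fin n) k →ₐ[k] MvPolynomial (Fin n) k, φ.toRingHom.Finite ∧
      q.comap φ = Ideal.span (Set.range fun i : {i : Fin n // r ≤ (i : ℕ)} => MvPolynomial.X (i : Fin n)) := by
  obtain ⟨m, hm, hd, -⟩ := Groth.Variety2.Dim.exists_dim (k := k) (A := MvPolynomial (Fin n) k ⧸ q)
  have hmr : m = r := by
    have e := ((FractionRing.algEquiv (MvPolynomial (Fin n) k ⧸ q) q.ResidueField).restrictScalars k).trdeg_eq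
    rwa [hm, hr, Nat.cast_inj] at e
  subst hmr
  have hle : m ≤ n := by
    have h1 := ringKrullDim_quotient_le q
    rw [show ringKrullDim (MvPolynomial (Fin n) k ⧸ q) = (m : WithBot ℕ∞) from hd,
      Groth.Variety2.Adapted.dim_mvPolynomial] at h1
    exact_mod_cast h1
  obtain ⟨φ, hφ, -, hc⟩ := Groth.Variety2.Adapted.exists_adapted (k := k) n
    (fun _ : Fin 1 => q) (fun _ => inferInstance) (fun _ _ => Or.inl le_rfl) (fun _ => n - m)
    (fun _ => Nat.sub_le _ _) (fun _ => by rw [Nat.sub_sub_self hle]; exact hd)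
  let e : MvPolynomial (Fin n) k ≃ₐ[k] MvPolynomial (Fin n) k := MvPolynomial.renameEquiv k Fin.revPerm
  refine ⟨φ.comp e.toAlgHom, hφ.comp (RingHom.Finite.of_surjective _ e.surjective), ?_⟩
  rw [← Ideal.comap_comapₐ, hc 0]
  apply le_antisymm
  · intro x hx
    have h1 : e.symm (e x) ∈ (Groth.Variety2.Adapted.J k n (n - m)).map (e.symm : MvPolynomial (Fin n) k ≃ₐ[k] _).toAlgHom :=
      Ideal.mem_map_of_mem _ hx
    rw [AlgEquiv.symm_apply_apply, Ideal.map_span] at h1
    refine Ideal.span_mono ?_ h1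
    rintro _ ⟨_, ⟨l, hl, rfl⟩, rfl⟩
    have hl' : (l : ℕ) < n - m := hl
    refine ⟨⟨Fin.rev l, by rw [Fin.val_rev]; omega⟩, ?_⟩
    show MvPolynomial.X (Fin.rev l) = e.symm (MvPolynomial.X l)
    simp [e, MvPolynomial.renameEquiv]
  · rw [Ideal.span_le]
    rintro _ ⟨⟨i, hi⟩, rfl⟩
    show e.toAlgHom (MvPolynomial.X i) ∈ Groth.Variety2.Adapted.J k n (n - m)
    refine Ideal.subset_span ⟨Fin.rev i, ?_, ?_⟩
    · show (Fin.rev i : ℕ) < n - m
      have := i.2
      rw [Fin.val_rev]; omega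
    · simp [e, MvPolynomial.renameEquiv]

end Groth.Agent.S2100
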