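import Groth.Statements.S2101
import Mathlib.RingTheory.Regular.RegularSequence
import Mathlib.Tactic.LinearCombination
import Mathlib.RingTheory.MvPolynomial.Ideal

set_option autoImplicit false
universe u
open CAlg

namespace Groth.Agent.S2101

/-- For elements `f_1, …, f_r` generating a proper ideal, all reorderings are regular sequences in `R`
if and only if the products `f_i x_i` form a regular sequence in `R[x_1, …, x_r]`. -/
theorem result {R : Type u} [CommRing R] {r : ℕ} (f : Fin r → R)
    (hf : Ideal.span (Set.range f) ≠ ⊤) :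
    (∀ σ : Equiv.Perm (Fin r), RingTheory.Sequence.IsRegular R (List.ofFn (f ∘ σ))) ↔
      RingTheory.Sequence.IsRegular (MvPolynomial (Fin r) R)
        (List.ofFn fun i => MvPolynomial.C (f i) * MvPolynomial.X i) := by
  classical
  let I : Finset (Fin r) → Ideal R := fun J => Ideal.span (f '' J)
  -- membership in the monomial ideals
  let MI : Finset (Fin r) → Ideal (MvPolynomial (Fin r) R) := fun S =>
    Ideal.span ((fun i => MvPolynomial.C (f i) * MvPolynomial.X i) '' S)
  have hImono : ∀ {J J' : Finset (Fin r)}, J ⊆ J' → I J ≤ I J' := fun h =>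
    Ideal.span_mono (Set.image_mono (Finset.coe_subset.2 h))
  have hMI : ∀ S p, p ∈ MI S ↔ ∀ a : Fin r →₀ ℕ, MvPolynomial.coeff a p ∈ I (S.filter fun j => a j ≠ 0) := by
    intro S p
    constructor
    · intro hp
      induction hp using Submodule.span_induction with
      | mem x hx =>
        obtain ⟨j, hj, rfl⟩ := hx
        intro a
        rw [MvPolynomial.coeff_C_mul, MvPolynomial.coeff_X]
        split_ifs with h
        · subst h
          rw [mul_one]
          exact Ideal.subset_span ⟨j, Finset.mem_filter.2 ⟨hj, by simp⟩, rfl⟩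
        · rw [mul_zero]; exact Ideal.zero_mem _
      | zero => intro a; rw [MvPolynomial.coeff_zero]; exact Ideal.zero_mem _
      | add x y _ _ hx hy => intro a; rw [MvPolynomial.coeff_add]; exact Ideal.add_mem _ (hx a) (hy a)
      | smul c x _ hx =>
        intro a
        rw [smul_eq_mul, MvPolynomial.coeff_mul]
        refine Ideal.sum_mem _ fun uv huv => Ideal.mul_mem_left _ _ (hImono ?_ (hx uv.2))
        intro j hj
        rw [Finset.mem_filter] at hj ⊢
        refine ⟨hj.1, fun h0 => hj.2 ?_⟩
        have h := DFunLike.congr_fun (Finset.mem_antidiagonal.1 huv) j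
        rw [Finsupp.add_apply] at h
        omega
    · intro hp
      rw [p.as_sum]
      refine Ideal.sum_mem _ fun a _ => ?_
      have : ∀ c ∈ I (S.filter fun j => a j ≠ 0), MvPolynomial.monomial a c ∈ MI S := fun c hc => by
        induction hc using Submodule.span_induction with
        | mem x hx =>
          obtain ⟨j, hj, rfl⟩ := hx
          rw [Finset.coe_filter] at hj
          obtain ⟨d, rfl⟩ : ∃ d, a = Finsupp.single j 1 + d := ⟨a - Finsupp.single j 1,
            (add_tsub_cancel_of_le (Finsupp.single_le_iff.2 (Nat.one_le_iff_ne_zero.2 hj.2))).symm⟩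
          have h : MvPolynomial.monomial (Finsupp.single j 1 + d) (f j) =
              MvPolynomial.monomial d 1 * (MvPolynomial.C (f j) * MvPolynomial.X j) := by
            rw [MvPolynomial.X, MvPolynomial.C_mul_monomial, MvPolynomial.monomial_mul, one_mul, mul_one, add_comm]
          rw [h]
          exact Ideal.mul_mem_left _ _ (Ideal.subset_span ⟨j, hj.1, rfl⟩)
        | zero => rw [map_zero]; exact Ideal.zero_mem _
        | add x y _ _ hx hy => rw [map_add]; exact Ideal.add_mem _ hx hy
        | smul c x _ hx =>
          rw [smul_eq_mul, ← MvPolynomial.C_mul_monomial]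
          exact Ideal.mul_mem_left _ _ hx
      exact this _ (hp a)
  -- the two conditions
  let Reg : Fin r → Finset (Fin r) → Prop := fun i J => ∀ x, f i * x ∈ I J → x ∈ I J
  let low : Fin r → Finset (Fin r) := fun i => Finset.univ.filter (· < i)
  have hpoly : ∀ i : Fin r, (∀ p, MvPolynomial.C (f i) * MvPolynomial.X i * p ∈ MI (low i) → p ∈ MI (low i)) ↔
      ∀ J ⊆ low i, Reg i J := by
    intro i
    constructor
    · intro h J hJ x hx
      let a : Fin r →₀ ℕ := Finsupp.indicator J fun _ _ => 1
      have ha : (low i).filter (fun j => a j ≠ 0) = J := by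
        ext j
        rw [Finset.mem_filter]
        by_cases hj : j ∈ J
        · simp [a, hj, hJ hj]
        · simp [a, hj]
      have h1 := h (MvPolynomial.monomial a x) ((hMI _ _).2 fun b => by
        rw [MvPolynomial.X, MvPolynomial.C_mul_monomial, mul_one, MvPolynomial.monomial_mul,
          MvPolynomial.coeff_monomial]
        split_ifs with hb
        · subst hb
          refine hImono ?_ hx
          intro j hj
          rw [Finset.mem_filter]
          exact ⟨hJ hj, by simp [a, hj]⟩
        · exact Ideal.zero_mem _)
      have h2 := (hMI _ _).1 h1 a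
      rwa [MvPolynomial.coeff_monomial, if_pos rfl, ha] at h2
    · intro h p hp
      rw [hMI] at hp ⊢
      intro a
      have h1 := hp (Finsupp.single i 1 + a)
      rw [MvPolynomial.X, MvPolynomial.C_mul_monomial, mul_one, MvPolynomial.coeff_monomial_mul] at h1
      have heq : (low i).filter (fun j => ((Finsupp.single i 1 + a : Fin r →₀ ℕ)) j ≠ 0) = (low i).filter (fun j => a j ≠ 0) :=
        Finset.filter_congr fun j hj => by
          rw [Finset.mem_filter] at hj
          simp [Finsupp.single_eq_of_ne hj.2.ne]
      rw [heq] at h1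
      exact h _ (Finset.filter_subset _ _) _ h1
  have hswap : (∀ i : Fin r, ∀ J ⊆ low i, Reg i J) → ∀ i J, i ∉ J → Reg i J := by
    intro h
    suffices ∀ (n : ℕ) (J : Finset (Fin r)), J.card = n → ∀ i, i ∉ J → Reg i J from fun i J hi => this _ J rfl i hi
    intro n
    induction n using Nat.strong_induction_on with
    | _ n ih =>
      intro J hn i hi
      by_cases hle : J ⊆ low i
      · exact h i J hle
      obtain ⟨j, hj, hjm⟩ : ∃ j ∈ J, ∀ j' ∈ J, j' ≤ j := by
        have hne : J.Nonempty := Finset.nonempty_iff_ne_empty.2 fun h0 => hle (h0 ▸ Finset.empty_subset _)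
        exact ⟨J.max' hne, J.max'_mem hne, fun _ => J.le_max' _⟩
      have hij : i < j := by
        obtain ⟨j', hj', hnot⟩ := Finset.not_subset.1 hle
        have h1 : i ≤ j' := by simpa [low] using hnot
        exact lt_of_le_of_ne (h1.trans (hjm j' hj')) (fun he => hi (he ▸ hj))
      set J' := J.erase j with hJ'
      have hJI : I J = I J' ⊔ Ideal.span {f j} := by
        show Ideal.span _ = Ideal.span _ ⊔ _
        rw [← Ideal.span_union, ← Set.image_singleton, ← Set.image_union]
        congr 2
        rw [Finset.coe_erase, Set.sdiff_union_self, Set.union_eq_left.2 (Set.singleton_subset_iff.2 (Finset.mem_coe.2 hj))]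
      have hA : Reg i J' := ih _ (hn ▸ Finset.card_erase_lt_of_mem hj) J' rfl i
        (fun hh => hi (Finset.mem_of_mem_erase hh))
      have hB : Reg j (insert i J') := h j _ fun j' hj' => by
        simp only [low, Finset.mem_filter, Finset.mem_univ, true_and]
        rcases Finset.mem_insert.1 hj' with rfl | hj''
        · exact hij
        · exact lt_of_le_of_ne (hjm _ (Finset.mem_of_mem_erase hj'')) (Finset.ne_of_mem_erase hj'')
      have hII : I (insert i J') = I J' ⊔ Ideal.span {f i} := by
        show Ideal.span _ = Ideal.span _ ⊔ _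
        rw [← Ideal.span_union, ← Set.image_singleton, ← Set.image_union]
        congr 2
        rw [Finset.coe_insert, Set.union_singleton]
      intro x hx
      rw [hJI] at hx ⊢
      obtain ⟨u, hu, w, hw, huw⟩ := Submodule.mem_sup.1 hx
      obtain ⟨y, rfl⟩ := Ideal.mem_span_singleton'.1 hw
      have hy : y ∈ I (insert i J') := hB y <| by
        rw [hII]
        refine Submodule.mem_sup.2 ⟨-u, Submodule.neg_mem _ hu, f i * x,
          Ideal.mul_mem_right _ _ (Ideal.mem_span_singleton_self _), ?_⟩
        linear_combination -huw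
      rw [hII] at hy
      obtain ⟨u', hu', w', hw', huw'⟩ := Submodule.mem_sup.1 hy
      obtain ⟨z, rfl⟩ := Ideal.mem_span_singleton'.1 hw'
      have hx' : x - z * f j ∈ I J' := hA _ <| by
        have : f i * (x - z * f j) = u + u' * f j := by linear_combination -huw - f j * huw'
        rw [this]
        exact Ideal.add_mem _ hu (Ideal.mul_mem_right _ _ hu')
      exact Submodule.mem_sup.2 ⟨_, hx', z * f j, Ideal.mul_mem_left _ _ (Ideal.mem_span_singleton_self _), sub_add_cancel _ _⟩
  -- translating lists
  have htake : ∀ {B : Type u} [CommRing B] (h : Fin r → B) (k : Fin r),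
      Ideal.ofList ((List.ofFn h).take k) = Ideal.span (h '' (low k : Set (Fin r))) := by
    intro B _ h k
    show Ideal.span {x | x ∈ (List.ofFn h).take k} = _
    congr 1
    ext x
    simp only [Set.mem_ofPred_eq, List.mem_take_iff_getElem, List.getElem_ofFn, List.length_ofFn, Set.mem_image,
      Finset.mem_coe, low, Finset.mem_filter, Finset.mem_univ, true_and]
    constructor
    · rintro ⟨j, hj, rfl⟩
      exact ⟨⟨j, by omega⟩, Fin.lt_def.2 (by show j < k.val; omega), rfl⟩
    · rintro ⟨j, hj, rfl⟩
      exact ⟨j.val, by omega, rfl⟩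
  have hweak : ∀ {B : Type u} [CommRing B] (h : Fin r → B), RingTheory.Sequence.IsWeaklyRegular B (List.ofFn h) ↔
      ∀ k : Fin r, ∀ x, h k * x ∈ Ideal.span (h '' (low k : Set (Fin r))) →
        x ∈ Ideal.span (h '' (low k : Set (Fin r))) := by
    intro B _ h
    rw [RingTheory.Sequence.isWeaklyRegular_iff]
    constructor
    · intro H k x hx
      have := H k (by rw [List.length_ofFn]; exact k.2)
      rw [isSMulRegular_quotient_iff_mem_of_smul_mem, List.getElem_ofFn, htake, smul_eq_mul, Ideal.mul_top] at this
      exact this x hx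
    · intro H k hk
      rw [List.length_ofFn] at hk
      rw [isSMulRegular_quotient_iff_mem_of_smul_mem, List.getElem_ofFn, htake h ⟨k, hk⟩, smul_eq_mul, Ideal.mul_top]
      exact H ⟨k, hk⟩
  have htop : ∀ {B : Type u} [CommRing B] (h : Fin r → B),
      ((⊤ : Submodule B B) ≠ Ideal.ofList (List.ofFn h) • ⊤) ↔ Ideal.span (Set.range h) ≠ ⊤ := by
    intro B _ h
    rw [smul_eq_mul, Ideal.mul_top, ne_comm]
    rw [show Ideal.ofList (List.ofFn h) = Ideal.span (Set.range h) from by
      show Ideal.span {x | x ∈ List.ofFn h} = _
      congr 1; ext x; simp [List.mem_ofFn]]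
  have hnt : Ideal.span (Set.range fun i => MvPolynomial.C (f i) * MvPolynomial.X i) ≠ ⊤ := fun h1 => by
    have h2 := congrArg (Ideal.map (MvPolynomial.constantCoeff (R := R) (σ := Fin r))) h1
    rw [Ideal.map_span, Ideal.map_top] at h2
    refine hf (top_le_iff.1 (h2 ▸ Ideal.span_le.2 ?_))
    rintro _ ⟨_, ⟨i, rfl⟩, rfl⟩
    simp
  constructor
  · intro H
    rw [RingTheory.Sequence.isRegular_iff, htop, hweak]
    refine ⟨fun i => (hpoly i).2 fun J hJ => ?_, hnt⟩
    -- a permutation putting `J` first and then `i`
    have hiJ : i ∉ J := fun h => lt_irrefl i (Finset.mem_filter.1 (hJ h)).2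
    have hk : J.card < r := by
      have := Finset.card_lt_univ_of_notMem hiJ
      rwa [Fintype.card_fin] at this
    let k : Fin r := ⟨J.card, hk⟩
    have hcard : Fintype.card {x // x ∈ low k} = Fintype.card {x // x ∈ J} := by
      rw [Fintype.card_coe, Fintype.card_coe, show low k = Finset.Iio k by ext; simp [low], Fin.card_Iio]
    let σ₀ : Equiv.Perm (Fin r) := (Fintype.equivOfCardEq hcard).extendSubtype
    let σ : Equiv.Perm (Fin r) := (Equiv.swap k (σ₀.symm i)).trans σ₀
    have hσk : σ k = i := by simp [σ]
    have hσim : σ '' (low k : Set (Fin r)) = J := by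
      have h0 : ∀ j, σ₀ j ∈ J ↔ j ∈ low k := fun j => by
        constructor
        · intro hj
          by_contra hjl
          exact Equiv.extendSubtype_not_mem _ j hjl hj
        · exact fun hj => Equiv.extendSubtype_mem _ j hj
      have h1 : ∀ j ∈ low k, σ j = σ₀ j := fun j hj => by
        show σ₀ (Equiv.swap k (σ₀.symm i) j) = σ₀ j
        have hjk : j ≠ k := ne_of_lt (Finset.mem_filter.1 hj).2
        rw [Equiv.swap_apply_of_ne_of_ne hjk (fun h => hiJ (by simpa [h] using (h0 j).2 hj))]
      ext y
      constructor
      · rintro ⟨j, hj, rfl⟩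
        rw [h1 j hj]; exact (h0 j).2 hj
      · intro hy
        have hy' := (h0 (σ₀.symm y)).1 (by simpa using hy)
        exact ⟨σ₀.symm y, hy', by rw [h1 _ hy', Equiv.apply_symm_apply]⟩
    have := (hweak _).1 (H σ).toIsWeaklyRegular k
    intro x hx
    have e : Ideal.span ((f ∘ σ) '' (low k : Set (Fin r))) = I J := by
      show _ = Ideal.span (f '' (J : Set (Fin r)))
      rw [Set.image_comp, hσim]
    rw [Function.comp_apply, hσk, e] at this
    exact this x hx
  · intro H σ
    rw [RingTheory.Sequence.isRegular_iff, htop, hweak] at H ⊢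
    have hall := hswap fun i => (hpoly i).1 (H.1 i)
    refine ⟨fun k x hx => ?_, by rwa [Set.range_comp, σ.surjective.range_eq, Set.image_univ]⟩
    have e : Ideal.span ((f ∘ σ) '' (low k : Set (Fin r))) = I ((low k).image σ) := by
      show _ = Ideal.span _
      rw [Set.image_comp, Finset.coe_image]
    rw [e] at hx ⊢
    refine hall _ _ ?_ x hx
    intro h
    obtain ⟨j, hj, hjk⟩ := Finset.mem_image.1 h
    exact lt_irrefl k (σ.injective hjk ▸ (Finset.mem_filter.1 hj).2)

end Groth.Agent.S2101
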