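import Groth.Statements.S2107
import Groth.Agent.Calg1.InjModMaximalEssFP

set_option autoImplicit false
universe u
open CAlg

namespace Groth.Agent.S2107

/-- Let `R → S` be a local homomorphism of local rings with `S` essentially of finite presentation over
`R`, `M`, `N` finitely presented `S`-modules with `N` flat over `R`, and `u : M → N` an `S`-linear
map which is injective modulo `𝔪_R`. Then `u` is injective and its cokernel is flat over `R`. -/
theorem result {R S M N : Type u} [CommRing R] [CommRing S] [IsLocalRing R]
    [IsLocalRing S] [Algebra R S] [IsLocalHom (algebraMap R S)] (hS : CAlgX.IsEssFinitePresentation R S)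
    [AddCommGroup M] [Module S M] [Module R M] [IsScalarTower R S M] [Module.FinitePresentation S M]
    [AddCommGroup N] [Module S N] [Module R N] [IsScalarTower R S N] [Module.FinitePresentation S N] [Module.Flat R N]
    (u : M →ₗ[S] N)
    (hu : ∀ x : M, u x ∈ (IsLocalRing.maximalIdeal R).map (algebraMap R S) • (⊤ : Submodule S N) →
      x ∈ (IsLocalRing.maximalIdeal R).map (algebraMap R S) • (⊤ : Submodule S M)) :
    Function.Injective u ∧ Module.Flat R (N ⧸ LinearMap.range u) := by
  have hP := fun (P : Type u) [AddCommGroup P] [Module R P] =>
    Groth.Calg1.rTensor_injective_of_injective_mod hS u hu P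
  have hinj : Function.Injective u := by
    intro x y hxy
    apply (TensorProduct.rid R M).symm.injective
    apply hP R
    simp [hxy]
  refine ⟨hinj, ?_⟩
  haveI : Module.Flat R (N ⧸ LinearMap.range (u.restrictScalars R)) :=
    Module.Flat.iff_lTensor_injective.mpr fun J _ =>
      lTensor_injective_of_exact_of_exact_of_rTensor_injective
        (LinearMap.exact_map_mkQ_range (u.restrictScalars R)) (Submodule.mkQ_surjective _)
        (LinearMap.exact_subtype_mkQ J) (Submodule.mkQ_surjective J) (hP (R ⧸ J))
        (Module.Flat.lTensor_preserves_injective_linearMap _ Subtype.val_injective)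
  haveI : Module.Flat R (N ⧸ (LinearMap.range u).restrictScalars R) :=
    Module.Flat.of_linearEquiv (Submodule.quotEquivOfEq _ (LinearMap.range (u.restrictScalars R))
      (SetLike.ext fun _ => Iff.rfl))
  exact Module.Flat.of_linearEquiv (Submodule.Quotient.restrictScalarsEquiv R (LinearMap.range u)).symm

end Groth.Agent.S2107
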