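import Groth.Statements.S2114
import Groth.Agent.Calg4.Japanese
import Mathlib

set_option autoImplicit false
universe u
open CAlg

namespace Groth.Agent.S2114

/-- Let `R ⊆ S` be an extension of domains which is of finite type and quasi-finite, with `R` Noetherian
and N-2 (integral closures in finite extensions of the fraction field are finite). Then `S` is N-2. -/
theorem result {R S : Type u} [CommRing R] [IsDomain R] [IsNoetherianRing R] [CommRing S]
    [IsDomain S] [Algebra R S] (hinj : Function.Injective (algebraMap R S)) [Algebra.FiniteType R S]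
    [Algebra.QuasiFinite R S] (hR : CAlg.IsN2 R) : CAlg.IsN2 S := by
  classical
  intro L _ _ _ _ hfin
  let K := FractionRing R
  let Ω := FractionRing S
  haveI : IsNoetherianRing S := Algebra.FiniteType.isNoetherianRing R S
  letI : Algebra R L := ((algebraMap S L).comp (algebraMap R S)).toAlgebra
  haveI : IsScalarTower R S L := IsScalarTower.of_algebraMap_eq' rfl
  have hinjSL : Function.Injective (algebraMap S L) := by
    rw [IsScalarTower.algebraMap_eq S Ω L]
    exact (algebraMap Ω L).injective.comp (IsFractionRing.injective S Ω)
  haveI : FaithfulSMul R Ω := (faithfulSMul_iff_algebraMap_injective R Ω).2 (by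
    rw [IsScalarTower.algebraMap_eq R S Ω]; exact (IsFractionRing.injective S Ω).comp hinj)
  haveI : FaithfulSMul R L := (faithfulSMul_iff_algebraMap_injective R L).2 (by
    rw [IsScalarTower.algebraMap_eq R S L]; exact hinjSL.comp hinj)
  letI : Algebra K Ω := FractionRing.liftAlgebra R Ω
  letI : Algebra K L := FractionRing.liftAlgebra R L
  -- every element of `S` is algebraic over `R`
  haveI : FiniteDimensional K Ω := by
    obtain ⟨r, hr0, hrint, hr⟩ := Algebra.zariskisMainProperty_iff.1
      (Algebra.ZariskisMainProperty.of_finiteType (R := R) (⊥ : Ideal S))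
    have hr0' : algebraMap S Ω r ≠ 0 :=
      (map_ne_zero_iff _ (IsFractionRing.injective S Ω)).2 fun h => hr0 (Ideal.mem_bot.2 h)
    have halgS : ∀ s : S, IsIntegral K (algebraMap S Ω s) := fun s => by
      obtain ⟨m, hm⟩ := hr s
      have h1 : IsIntegral K (algebraMap S Ω (r ^ m * s)) :=
        (hm.map (IsScalarTower.toAlgHom R S Ω)).tower_top
      have h2 : IsIntegral K (algebraMap S Ω r) := (hrint.map (IsScalarTower.toAlgHom R S Ω)).tower_top
      have h3 := (h2.inv.pow m).mul h1
      rwa [map_mul, map_pow, ← mul_assoc, ← mul_pow, inv_mul_cancel₀ hr0', one_pow, one_mul] at h3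
    haveI : Algebra.IsAlgebraic K Ω := ⟨fun z => by
      obtain ⟨a, b, -, rfl⟩ := IsFractionRing.div_surjective S z
      rw [div_eq_mul_inv]
      exact ((halgS a).mul (halgS b).inv).isAlgebraic⟩
    haveI : Algebra.EssFiniteType S Ω := Algebra.EssFiniteType.of_isLocalization Ω (nonZeroDivisors S)
    haveI : Algebra.EssFiniteType R Ω := Algebra.EssFiniteType.comp R S Ω
    haveI : Algebra.EssFiniteType K Ω := Algebra.EssFiniteType.of_comp R K Ω
    exact Algebra.finite_of_essFiniteType_of_isAlgebraic
  haveI : IsScalarTower K Ω L := IsScalarTower.of_algebraMap_eq' (IsLocalization.ringHom_ext (nonZeroDivisors R)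
    (RingHom.ext fun r => by
      simp only [RingHom.comp_apply]
      rw [← IsScalarTower.algebraMap_apply R K L, ← IsScalarTower.algebraMap_apply R K Ω,
        IsScalarTower.algebraMap_apply R S Ω, ← IsScalarTower.algebraMap_apply S Ω L,
        ← IsScalarTower.algebraMap_apply R S L]))
  haveI : FiniteDimensional K L := Module.Finite.trans Ω L
  haveI : Module.Finite R (integralClosure R L) := Groth.Calg4.finite_ic_of_isN2 hR K L
  obtain ⟨T, hT⟩ := Module.Finite.fg_top (R := R) (M := integralClosure R L)
  let B : Subalgebra S L := Algebra.adjoin S ((↑) '' (T : Set (integralClosure R L)))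
  haveI hfinB : Module.Finite S B := Module.Finite.iff_fg.2 (fg_adjoin_of_finite (T.finite_toSet.image _) (by
    rintro _ ⟨z, -, rfl⟩
    exact (z.2 : IsIntegral R (z : L)).tower_top))
  have hRB : ∀ z : integralClosure R L, (z : L) ∈ B := fun z => by
    have hz : z ∈ Submodule.span R (T : Set (integralClosure R L)) := hT ▸ Submodule.mem_top
    induction hz using Submodule.span_induction with
    | mem w hw => exact Algebra.subset_adjoin ⟨w, hw, rfl⟩
    | zero => exact zero_mem _
    | add w w' _ _ h1 h2 => exact add_mem h1 h2
    | smul r w _ h1 =>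
      change r • (w : L) ∈ B
      rw [Algebra.smul_def, IsScalarTower.algebraMap_apply R S L]
      exact mul_mem (B.algebraMap_mem _) h1
  haveI : Algebra.QuasiFinite R B := Algebra.QuasiFinite.trans R S B
  haveI : Algebra.FiniteType R B := Algebra.FiniteType.trans (R := R) (S := S) (A := B) inferInstance inferInstance
  haveI : IsFractionRing (integralClosure R L) L := integralClosure.isFractionRing_of_finite_extension K L
  -- `B` is already integrally closed in `L`
  have hB : ∀ z : L, IsIntegral B z → z ∈ B := by
    intro z hz
    let J : Ideal B :=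
      { carrier := {b | (b : L) * z ∈ B}
        add_mem' := fun {a b} ha hb => by
          simp only [Set.mem_setOf_eq] at ha hb ⊢
          rw [Subalgebra.coe_add, add_mul]; exact add_mem ha hb
        zero_mem' := by simp
        smul_mem' := fun r a ha => by
          simp only [Set.mem_setOf_eq, smul_eq_mul] at ha ⊢
          rw [Subalgebra.coe_mul, mul_assoc]; exact mul_mem r.2 ha }
    suffices (1 : B) ∈ J by simpa [J] using this
    by_contra h1
    obtain ⟨q, hq, hle⟩ := Ideal.exists_le_maximal J (fun h => h1 (h ▸ Submodule.mem_top))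
    haveI := hq
    obtain ⟨r, hrq, hrint, hr⟩ :=
      Algebra.zariskisMainProperty_iff.1 (Algebra.ZariskisMainProperty.of_finiteType (R := R) q)
    obtain ⟨p, hpm, hpz⟩ := hz
    -- the coefficients become integral after multiplying with a power of `r`
    have hcoef : ∃ N, ∀ i, IsIntegral R (r ^ N * p.coeff i) := by
      choose m hm using hr
      refine ⟨p.support.sup fun i => m (p.coeff i), fun i => ?_⟩
      by_cases hi : i ∈ p.support
      · rw [← Nat.sub_add_cancel (Finset.le_sup (f := fun i => m (p.coeff i)) hi), pow_add, mul_assoc]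
        exact (hrint.pow _).mul (hm _)
      · rw [Polynomial.notMem_support_iff.1 hi, mul_zero]; exact isIntegral_zero
    obtain ⟨N, hN⟩ := hcoef
    let ι : B →ₐ[R] L := IsScalarTower.toAlgHom R B L
    let s : L := ((r ^ N : B) : L)
    have hsz : IsIntegral (integralClosure R L) (s * z) := by
      refine ⟨Polynomial.X ^ p.natDegree + ∑ i ∈ Finset.range p.natDegree,
        Polynomial.C (⟨s * ((p.coeff i : B) : L) * s ^ (p.natDegree - 1 - i), ?_⟩ : integralClosure R L) *
          Polynomial.X ^ i, ?_, ?_⟩
      · exact ((hN i).map ι).mul (((hrint.pow N).map ι).pow _)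
      · refine Polynomial.monic_X_pow_add ?_
        refine lt_of_le_of_lt (Polynomial.degree_sum_le _ _) ?_
        rw [Finset.sup_lt_iff (WithBot.bot_lt_coe _)]
        intro i hi
        exact lt_of_le_of_lt (Polynomial.degree_C_mul_X_pow_le _ _) (by exact_mod_cast Finset.mem_range.1 hi)
      · rw [Polynomial.eval₂_add, Polynomial.eval₂_X_pow, Polynomial.eval₂_finset_sum]
        have h2 := congrArg (fun w => s ^ p.natDegree * w) hpz
        simp only [mul_zero] at h2
        rw [← h2, Polynomial.eval₂_eq_sum_range, Finset.sum_range_succ, mul_add, Finset.mul_sum,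
          hpm.coeff_natDegree, map_one, one_mul, mul_pow, add_comm]
        congr 1
        refine Finset.sum_congr rfl fun i hi => ?_
        have hi' : i < p.natDegree := Finset.mem_range.1 hi
        rw [Polynomial.eval₂_mul, Polynomial.eval₂_C, Polynomial.eval₂_X_pow,
          show p.natDegree = 1 + (p.natDegree - 1 - i) + i by omega,
          show 1 + (p.natDegree - 1 - i) + i - 1 - i = p.natDegree - 1 - i by omega]
        change s * (p.coeff i : L) * s ^ _ * (s * z) ^ i = s ^ _ * ((p.coeff i : L) * z ^ i)
        ring
    have hzR : IsIntegral R (s * z) := isIntegral_trans (A := integralClosure R L) _ hsz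
    have : r ^ N ∈ J := hRB ⟨_, hzR⟩
    exact hrq (Ideal.IsPrime.mem_of_pow_mem inferInstance _ (hle this))
  haveI : IsNoetherian S B := isNoetherian_of_isNoetherianRing_of_finite S B
  exact Module.Finite.of_injective
    ({ toFun := fun z => ⟨(z : L), hB _ (z.2 : IsIntegral S (z : L)).tower_top⟩
       map_add' := fun _ _ => rfl
       map_smul' := fun _ _ => rfl } : integralClosure S L →ₗ[S] B)
    fun z w h => Subtype.ext (congrArg Subtype.val h :)

end Groth.Agent.S2114
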