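import Groth.Statements.S2116
import Groth.Agent.Calg4.SmoothRegularField

set_option autoImplicit false
universe u
open CAlg

namespace Groth.Agent.S2116

/-- Let `k` be algebraically closed, `S` of finite type over `k` and `𝔪` a maximal ideal of `S`. Then
the local ring `S_𝔪` is regular if and only if `S` is smooth over `k` at `𝔪`. -/
theorem result {k S : Type u} [Field k] [IsAlgClosed k] [CommRing S] [Algebra k S]
    [Algebra.FiniteType k S] (m : Ideal S) [m.IsMaximal] :
    IsRegularLocalRing (Localization.AtPrime m) ↔ Algebra.IsSmoothAt k m := by
  haveI : Algebra.FormallySmooth k m.ResidueField := by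
    haveI : Module.Finite k m.ResidueField := by
      let := Ideal.Quotient.field m
      haveI : Module.Finite k (S ⧸ m) := finite_of_finite_type_of_isJacobsonRing k (S ⧸ m)
      exact Module.Finite.of_surjective (IsScalarTower.toAlgHom k (S ⧸ m) m.ResidueField).toLinearMap
        (Ideal.bijective_algebraMap_quotient_residueField m).2
    haveI : Algebra.IsIntegral k m.ResidueField := Algebra.IsIntegral.of_finite k _
    exact Algebra.FormallySmooth.of_equiv (AlgEquiv.ofBijective (Algebra.ofId k m.ResidueField)
      IsAlgClosed.algebraMap_bijective_of_isIntegral)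
  exact ⟨fun _ => Groth.Calg4.isSmoothAt_of_isRegularLocalRing m,
    fun _ => Groth.Calg4.isRegularLocalRing_of_isSmoothAt (k := k) m⟩

end Groth.Agent.S2116
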