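import Groth.Statements.S2117
import Groth.Agent.Ega41Sep.Separable
open Groth.Ega41Sep

set_option autoImplicit false
universe u
open CAlg

namespace Groth.Agent.S2117

/-- Let k be a field of characteristic p > 0 and K a field extension of k. Then K is geometrically
reduced over k (equivalently, K/k is separable: every finitely generated subextension is separably
generated) if and only if the natural base-change map K ⊗_k Ω_{k/ℤ} → Ω_{K/ℤ} on absolute Kähler
differentials is injective. -/
theorem result {k K : Type u} [Field k] [Field K] [Algebra k K] (p : ℕ)
    [Fact p.Prime] [CharP k p] :
    Algebra.IsGeometricallyReduced k K ↔ Function.Injective (KaehlerDifferential.mapBaseChange ℤ k K) := by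
  exact isGeometricallyReduced_iff_injective k K

end Groth.Agent.S2117
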