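import Groth.Statements.S2120
import Mathlib

set_option autoImplicit false
universe u
open CategoryTheory AlgebraicGeometry
open Mor

namespace Groth.Agent.S2120

open CategoryTheory.Limits

/-- Let `f : X → Y` be surjective and universally closed. If `X` is quasi-separated then so is `Y`; if
`X` is separated then so is `Y`. -/
theorem result {X Y : Scheme.{u}} (f : X ⟶ Y) [Surjective f] [UniversallyClosed f] :
    (QuasiSeparatedSpace X → QuasiSeparatedSpace Y) ∧ (X.IsSeparated → Y.IsSeparated) := by
  let m : pullback (terminal.from X) (terminal.from X) ⟶
      pullback (terminal.from Y) (terminal.from Y) :=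
    pullback.lift (pullback.fst _ _ ≫ f) (pullback.snd _ _ ≫ f) (terminal.hom_ext _ _)
  have hm : pullback.diagonal (terminal.from X) ≫ m = f ≫ pullback.diagonal (terminal.from Y) := by
    apply pullback.hom_ext
    · simp only [m, Category.assoc]
      rw [pullback.lift_fst, pullback.diagonal_fst, pullback.diagonal_fst_assoc, Category.comp_id]
    · simp only [m, Category.assoc]
      rw [pullback.lift_snd, pullback.diagonal_snd, pullback.diagonal_snd_assoc, Category.comp_id]
  have hm₁ : UniversallyClosed m := MorphismProperty.pullbackMap (P := @UniversallyClosed)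
    inferInstance inferInstance (terminal.comp_from f).symm (terminal.comp_from f).symm
  constructor
  · intro hX
    haveI := ((quasiSeparatedSpace_iff_quasiSeparated X).mp hX).quasiCompact_diagonal
    rw [quasiSeparatedSpace_iff_quasiSeparated]
    refine ⟨⟨fun U hU hc => ?_⟩⟩
    have := ((pullback.diagonal (terminal.from X) ≫ m).isCompact_preimage
      (U := ⟨U, hU⟩) hc).image f.continuous
    rw [hm] at this
    convert this using 1
    rw [Scheme.Hom.coe_preimage, Scheme.Hom.comp_base, TopCat.coe_comp, Set.preimage_comp]
    exact (Set.image_preimage_eq _ f.surjective).symm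
  · intro hX
    haveI := hX.isSeparated_terminal_from.isClosedImmersion_diagonal
    haveI : UniversallyClosed m := hm₁
    refine ⟨⟨.of_isPreimmersion _ ?_⟩⟩
    have := (pullback.diagonal (terminal.from X) ≫ m).isClosedMap.isClosed_range
    rw [hm, Scheme.Hom.comp_base, TopCat.coe_comp, f.surjective.range_comp] at this
    exact this

end Groth.Agent.S2120
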