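import Groth.Statements.S2121
import Mathlib

set_option autoImplicit false
set_option linter.style.haveILetI false
universe u
open CategoryTheory AlgebraicGeometry
open Mor

namespace Groth.Agent.S2121

/-- A point in the closure of the image of a quasi-compact morphism has a generization
in the image. -/
theorem exists_specializes {X Y : Scheme.{u}} (f : X ⟶ Y) [QuasiCompact f] (z : Y)
    (hz : z ∈ closure (Set.range f)) : ∃ x : X, f x ⤳ z := by
  obtain ⟨V, hV, hzV, -⟩ :=
    TopologicalSpace.Opens.isBasis_iff_nbhd.mp Y.isBasis_affineOpens (TopologicalSpace.Opens.mem_top z)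
  change IsAffineOpen V at hV
  obtain ⟨R, g, hg⟩ := isCompact_iff_exists.mp
    (show IsCompact ((f ⁻¹ᵁ V : X.Opens) : Set X) from f.isCompact_preimage hV.isCompact)
  have hrange : Set.range (g ≫ f) ⊆ Set.range hV.fromSpec := by
    rw [hV.range_fromSpec]
    rintro _ ⟨r, rfl⟩
    have : g r ∈ (f ⁻¹ᵁ V : Set X) := hg ▸ ⟨r, rfl⟩
    exact this
  obtain ⟨φ, hφ⟩ := Spec.map_surjective (IsOpenImmersion.lift hV.fromSpec (g ≫ f) hrange)
  have hfac : Spec.map φ ≫ hV.fromSpec = g ≫ f := by rw [hφ, IsOpenImmersion.lift_fac]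
  obtain ⟨p, rfl⟩ : ∃ p, hV.fromSpec p = z := by
    have : z ∈ Set.range hV.fromSpec := by rw [hV.range_fromSpec]; exact hzV
    exact this
  have hp : p ∈ closure (Set.range (Spec.map φ)) := by
    rw [hV.fromSpec.isEmbedding.isInducing.closure_eq_preimage_closure_image, Set.mem_preimage]
    rw [mem_closure_iff] at hz ⊢
    intro o ho hpo
    obtain ⟨y, ⟨hyo, hyV⟩, x, rfl⟩ := hz (o ∩ V) (ho.inter V.isOpen) ⟨hpo, hzV⟩
    have : x ∈ (f ⁻¹ᵁ V : Set X) := hyV
    rw [← show Set.range g = _ from hg] at this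
    obtain ⟨r, rfl⟩ := this
    refine ⟨f (g r), hyo, Spec.map φ r, ⟨r, rfl⟩, ?_⟩
    exact (Scheme.Hom.comp_apply _ _ _).symm.trans (by rw [hfac]; rfl)
  change p ∈ closure (Set.range (PrimeSpectrum.comap φ.hom)) at hp
  rw [PrimeSpectrum.closure_range_comap] at hp
  replace hp : (RingHom.ker φ.hom : Ideal _) ≤ p.asIdeal := hp
  haveI := p.isPrime
  obtain ⟨q, hq, hqp⟩ := Ideal.exists_minimalPrimes_le (I := RingHom.ker φ.hom) (J := p.asIdeal) hp
  obtain ⟨q', hq', -, rfl⟩ := Ideal.exists_comap_eq_of_mem_minimalPrimes (I := ⊥) φ.hom q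
    (by rwa [← RingHom.ker_eq_comap_bot])
  refine ⟨g ⟨q', hq'⟩, ?_⟩
  have h0 : f (g ⟨q', hq'⟩) = hV.fromSpec (Spec.map φ ⟨q', hq'⟩) := by
    refine ((Scheme.Hom.comp_apply g f _).symm.trans ?_).trans (Scheme.Hom.comp_apply _ _ _)
    rw [hfac]
  rw [h0]
  have h1 : PrimeSpectrum.comap φ.hom ⟨q', hq'⟩ ⤳ p :=
    (PrimeSpectrum.le_iff_specializes _ _).mp hqp
  have h2 := h1.map hV.fromSpec.continuous
  exact h2

/-- Let `f : X → Y` be quasi-compact and `z` a point in the closure of `f(X)` (the underlying set of the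
scheme theoretic image). Then there are a valuation ring `A` with fraction field `K` and morphisms
`Spec K → X`, `Spec A → Y` forming a commutative square with `f` and `Spec K → Spec A`, such that
the closed point of `Spec A` maps to `z`. -/
theorem result {X Y : Scheme.{u}} (f : X ⟶ Y) [QuasiCompact f] (z : Y)
    (hz : z ∈ closure (Set.range f.base)) :
    ∃ (A : Type u) (_ : CommRing A) (_ : IsDomain A) (_ : ValuationRing A)
      (x : Spec (CommRingCat.of (FractionRing A)) ⟶ X) (y : Spec (CommRingCat.of A) ⟶ Y),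
      x ≫ f = Spec.map (CommRingCat.ofHom (algebraMap A (FractionRing A))) ≫ y ∧
      y.base (IsLocalRing.closedPoint A) = z := by
  obtain ⟨x', h⟩ := exists_specializes f z hz
  let ψ : Y.presheaf.stalk z ⟶ X.residueField x' :=
    Y.presheaf.stalkSpecializes h ≫ f.stalkMap x' ≫ X.residue x'
  obtain ⟨A, hA, hA_local⟩ := IsLocalRing.exists_factor_valuationRing ψ.hom
  let t : Y.presheaf.stalk z ⟶ .of A := CommRingCat.ofHom (ψ.hom.codRestrict _ hA)
  let e : FractionRing A ≃+* X.residueField x' :=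
    (FractionRing.algEquiv A (X.residueField x')).toRingEquiv
  refine ⟨A, inferInstance, inferInstance, inferInstance,
    Spec.map (CommRingCat.ofHom e.symm.toRingHom) ≫ X.fromSpecResidueField x',
    Spec.map t ≫ Y.fromSpecStalk z, ?_, ?_⟩
  · rw [Scheme.fromSpecResidueField, Category.assoc, Category.assoc,
      ← Scheme.SpecMap_stalkMap_fromSpecStalk, ← Scheme.SpecMap_stalkSpecializes_fromSpecStalk h]
    simp_rw [← Spec.map_comp_assoc]
    congr 2
    ext a
    change e.symm (ψ a) = algebraMap A (FractionRing A) (t a)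
    rw [RingEquiv.symm_apply_eq]
    exact ((FractionRing.algEquiv A (X.residueField x')).commutes (t a)).symm
  · change Y.fromSpecStalk z (Spec.map t (IsLocalRing.closedPoint A)) = z
    have : Spec.map t (IsLocalRing.closedPoint A) = IsLocalRing.closedPoint (Y.presheaf.stalk z) :=
      IsLocalRing.comap_closedPoint (S := A) (ψ.hom.codRestrict A.toSubring hA)
    rw [this, Y.fromSpecStalk_closedPoint]

end Groth.Agent.S2121
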