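import Mathlib
import Groth.Statements.S2123


set_option autoImplicit false
universe u
open CategoryTheory AlgebraicGeometry
open Mor

namespace Groth.Agent.S2123

/-- Let `X` be an integral separated scheme and `x, y` points such that the closure of `x` is not
contained in the closure of `y`. Then, inside the function field of `X`, the local ring at `x` is
not contained in the local ring at `y`. -/
theorem result (X : Scheme.{u}) [IsIntegral X] [X.IsSeparated] (x y : X)
    (h : ¬ closure ({x} : Set X) ⊆ closure {y}) :
    ¬ Set.range (X.presheaf.stalkSpecializes (genericPoint_specializes x)) ⊆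
        Set.range (X.presheaf.stalkSpecializes (genericPoint_specializes y)) := by
  intro hsub
  apply h
  have hinj : ∀ z : X, Function.Injective
      (X.presheaf.stalkSpecializes (genericPoint_specializes (α := X) z)) := fun z => by
    rw [injective_iff_map_eq_zero]
    intro a ha
    obtain ⟨U, hzU, s, rfl⟩ := X.presheaf.exists_germ_eq a
    haveI : Nonempty U := ⟨⟨z, hzU⟩⟩
    rw [← ConcreteCategory.comp_apply, X.presheaf.germ_stalkSpecializes] at ha
    have := X.germToFunctionField_injective U (show X.germToFunctionField U s = X.germToFunctionField U 0 from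
      ha.trans (map_zero _).symm)
    rw [this, map_zero]
  let e (z : X) : X.presheaf.stalk z ⟶ X.presheaf.stalk (genericPoint X) :=
    X.presheaf.stalkSpecializes (genericPoint_specializes (α := X) z)
  -- the inclusion of local rings
  have hφ : ∀ a, ∃ b, e y b = e x a := fun a => hsub ⟨a, rfl⟩
  choose φ hφ using hφ
  let φ' : X.presheaf.stalk x ⟶ X.presheaf.stalk y := CommRingCat.ofHom
    { toFun := φ
      map_one' := hinj y ((hφ 1).trans ((map_one (e x).hom).trans (map_one (e y).hom).symm))
      map_mul' := fun a b => hinj y ((hφ (a * b)).trans (((map_mul (e x).hom a b).trans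
        (congrArg₂ (· * ·) (hφ a).symm (hφ b).symm)).trans (map_mul (e y).hom (φ a) (φ b)).symm))
      map_zero' := hinj y ((hφ 0).trans ((map_zero (e x).hom).trans (map_zero (e y).hom).symm))
      map_add' := fun a b => hinj y ((hφ (a + b)).trans (((map_add (e x).hom a b).trans
        (congrArg₂ (· + ·) (hφ a).symm (hφ b).symm)).trans (map_add (e y).hom (φ a) (φ b)).symm)) }
  have hcomp : φ' ≫ e y = e x := CommRingCat.hom_ext (RingHom.ext hφ)
  haveI : IsDomain (X.presheaf.stalk y) := (hinj y).isDomain (e y).hom
  haveI : IsReduced (Spec (X.presheaf.stalk y)) := inferInstance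
  have hdom : IsDominant (Spec.map (e y)) := by
    refine ⟨?_⟩
    exact (PrimeSpectrum.denseRange_comap_iff_ker_le_nilRadical (e y).hom).mpr
      (((RingHom.injective_iff_ker_eq_bot (e y).hom).mp (hinj y)).trans_le bot_le)
  have hg : Spec.map φ' ≫ X.fromSpecStalk x = X.fromSpecStalk y := by
    refine ext_of_isDominant (Spec.map (e y)) ?_
    rw [← Spec.map_comp_assoc, hcomp]
    exact (Scheme.SpecMap_stalkSpecializes_fromSpecStalk _).trans
      (Scheme.SpecMap_stalkSpecializes_fromSpecStalk _).symm
  have hy : y ⤳ x := by
    have : y ∈ Set.range (X.fromSpecStalk x) :=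
      ⟨Spec.map φ' (IsLocalRing.closedPoint (X.presheaf.stalk y)), by
        refine (Scheme.Hom.comp_apply _ _ _).symm.trans ?_
        rw [hg]; exact Scheme.fromSpecStalk_closedPoint⟩
    rwa [Scheme.range_fromSpecStalk] at this
  exact closure_minimal (Set.singleton_subset_iff.mpr hy.mem_closure) isClosed_closure

end Groth.Agent.S2123
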