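import Groth.Statements.S2126
import Mathlib
import Groth.Agent.PropsBasic.AmpleBasis

set_option autoImplicit false
universe u
open CategoryTheory AlgebraicGeometry
open Mor

namespace Groth.Agent.S2126

/-- Let `X` be a quasi-compact scheme and `L` an invertible `O_X`-module. Then `L` is ample if and only
if the opens `X_s`, for `s` a global section of some positive tensor power of `L`, form a basis for
the topology of `X`. -/
theorem result {X : Scheme.{u}} [CompactSpace X] (L : X.Modules) (hL : PicF.IsInvertible L) :
    CohB1.IsAmple L ↔
      TopologicalSpace.Opens.IsBasis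
        {U : X.Opens | ∃ (n : ℕ) (s : Coh.structureModule X ⟶ CohB1.tensorPow L (n + 1)), U = CohB1.genLocus _ s} := by
  exact ⟨Groth.PropsBasic.Ample.isBasis_of_isAmple,
    Groth.PropsBasic.Ample.isAmple_of_isBasis hL⟩

end Groth.Agent.S2126
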