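import Groth.Statements.S2129
import Groth.Agent.Hensel1.SmoothBranches

set_option autoImplicit false
universe u
open CAlg

namespace Groth.Agent.S2129

/-- Let `R → S` be a smooth ring map, `𝔮` a prime of `S` over `𝔭`, and `A = R_𝔭 → B = S_𝔮` the induced
local homomorphism. Then strict henselizations of `A` and `B` have the same number of minimal prime
ideals (the same number of geometric branches, counted in ℕ∞, infinite counting as ∞). -/
theorem result {R S Ash Bsh : Type u} [CommRing R] [CommRing S] [Algebra R S]
    [Algebra.Smooth R S] (q : Ideal S) [q.IsPrime] (p : Ideal R) [p.IsPrime] [q.LiesOver p]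
    [CommRing Ash] [IsLocalRing Ash] [Algebra (Localization.AtPrime p) Ash]
    [IsLocalHom (algebraMap (Localization.AtPrime p) Ash)] [Hensel.IsStrictHenselization (Localization.AtPrime p) Ash]
    [CommRing Bsh] [IsLocalRing Bsh] [Algebra (Localization.AtPrime q) Bsh]
    [IsLocalHom (algebraMap (Localization.AtPrime q) Bsh)] [Hensel.IsStrictHenselization (Localization.AtPrime q) Bsh] :
    (minimalPrimes Ash).encard = (minimalPrimes Bsh).encard := by
  let A := Localization.AtPrime p
  let B := Localization.AtPrime q
  let _ : Algebra A B := (Localization.localRingHom p q (algebraMap R S) (q.over_def p)).toAlgebra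
  have : IsLocalHom (algebraMap A B) := Localization.isLocalHom_localRingHom _ _ _ (q.over_def p)
  have : IsScalarTower R A B := .of_algebraMap_eq fun r => by
    show _ = Localization.localRingHom p q (algebraMap R S) (q.over_def p) (algebraMap R A r)
    rw [Localization.localRingHom_to_map, ← IsScalarTower.algebraMap_apply]
  rw [Set.encard, Set.encard,
    Groth.Hensel1.card_minimalPrimes_strictHenselization_eq_numGeomBranches A Ash,
    Groth.Hensel1.card_minimalPrimes_strictHenselization_eq_numGeomBranches B Bsh,
    Groth.Hensel1.numGeomBranches_eq_of_smooth (A := A) (B := B) p.primeCompl q.primeCompl]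

end Groth.Agent.S2129
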