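import Groth.Statements.S2130
import Groth.Agent.Hensel1.SmoothBranches

set_option autoImplicit false
universe u
open CAlg

namespace Groth.Agent.S2130

/-- Let `R → S` be smooth, `𝔮` a prime of `S` over `𝔭` with `κ(𝔮)/κ(𝔭)` purely inseparable, and `A = R_𝔭
→ B = S_𝔮`. Then henselizations of `A` and `B` have the same number of minimal prime ideals (the
same number of branches). -/
theorem result {R S Ah Bh : Type u} [CommRing R] [CommRing S]
    [Algebra R S] [Algebra.Smooth R S] (q : Ideal S) [q.IsPrime] (p : Ideal R) [p.IsPrime] [q.LiesOver p]
    (hpi : @IsPurelyInseparable p.ResidueField q.ResidueField _ _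
      (Ideal.ResidueField.mapₐ p q (Algebra.ofId R S) (q.over_def p)).toRingHom.toAlgebra)
    [CommRing Ah] [IsLocalRing Ah] [Algebra (Localization.AtPrime p) Ah]
    [IsLocalHom (algebraMap (Localization.AtPrime p) Ah)] [Hensel.IsHenselization (Localization.AtPrime p) Ah]
    [CommRing Bh] [IsLocalRing Bh] [Algebra (Localization.AtPrime q) Bh]
    [IsLocalHom (algebraMap (Localization.AtPrime q) Bh)] [Hensel.IsHenselization (Localization.AtPrime q) Bh] :
    (minimalPrimes Ah).encard = (minimalPrimes Bh).encard := by
  let A := Localization.AtPrime p
  let B := Localization.AtPrime q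
  let _ : Algebra A B := (Localization.localRingHom p q (algebraMap R S) (q.over_def p)).toAlgebra
  have : IsLocalHom (algebraMap A B) := Localization.isLocalHom_localRingHom _ _ _ (q.over_def p)
  have : IsScalarTower R A B := .of_algebraMap_eq fun r => by
    show _ = Localization.localRingHom p q (algebraMap R S) (q.over_def p) (algebraMap R A r)
    rw [Localization.localRingHom_to_map, ← IsScalarTower.algebraMap_apply]
  have := Groth.Hensel1.flat_of_smooth_localization (A := A) (B := B) p.primeCompl q.primeCompl
  have : IsPurelyInseparable (IsLocalRing.ResidueField A) (IsLocalRing.ResidueField B) := by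
    rw [← RingHom.isPurelyInseparable_algebraMap_iff,
      show algebraMap (IsLocalRing.ResidueField A) (IsLocalRing.ResidueField B) =
        (Ideal.ResidueField.mapₐ p q (Algebra.ofId R S) (q.over_def p)).toRingHom from
      (RingHom.cancel_right IsLocalRing.residue_surjective).mp (RingHom.ext fun a => rfl)]
    exact hpi
  rw [Set.encard, Set.encard,
    Groth.Hensel1.card_minimalPrimes_henselization_eq_numBranches A Ah,
    Groth.Hensel1.card_minimalPrimes_henselization_eq_numBranches_of_normal
      (fun C _ _ _ _ => Groth.Hensel1.isNormalRing_tensor_of_smooth_localization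
        (R := R) (S := S) (A := A) (B := B) p.primeCompl q.primeCompl C) Bh]

end Groth.Agent.S2130
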