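import Groth.Statements.S2131
import Groth.Agent.Calg1.Misc

set_option autoImplicit false
universe u
open CAlg

namespace Groth.Agent.S2131

/-- For an `R`-linear map from a finite module to a finitely presented module, the primes at which its
localization is bijective form an open subset of `Spec R`. -/
theorem result {R M N : Type u} [CommRing R] [AddCommGroup M] [Module R M] [Module.Finite R M]
    [AddCommGroup N] [Module R N] [Module.FinitePresentation R N] (φ : M →ₗ[R] N) :
    IsOpen {p : PrimeSpectrum R | Function.Bijective (LocalizedModule.map p.asIdeal.primeCompl φ)} := by
  exact Groth.Calg1.isOpen_bijective_locus φ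

end Groth.Agent.S2131
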