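import Groth.Statements.S2133
import Mathlib.RingTheory.Derivation.Basic
import Mathlib.RingTheory.FiniteType
import Mathlib.Tactic.LinearCombination

set_option autoImplicit false
universe u
open CAlg

namespace Groth.Agent.S2133

/-- Let `R → R'` be an injective ring map of finite type and `g ∈ R` a nonzerodivisor on `R'` such that
every element of `R'` lands in `R` after multiplication by a power of `g` (so `R_g = R'_g`). Then
for every derivation `D` of `R` there is `N` such that `g^N D` extends to a derivation of `R'`. -/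
theorem result {R R' : Type u} [CommRing R] [CommRing R'] [Algebra R R'] [Algebra.FiniteType R R']
    (hinj : Function.Injective (algebraMap R R')) (g : R) (hg : IsSMulRegular R' (algebraMap R R' g))
    (hloc : ∀ x : R', ∃ n : ℕ, (algebraMap R R' g) ^ n * x ∈ Set.range (algebraMap R R')) (D : Derivation ℤ R R) :
    ∃ (N : ℕ) (D' : Derivation ℤ R' R'), ∀ r : R, D' (algebraMap R R' r) = algebraMap R R' (g ^ N * D r) := by
  classical
  set a := algebraMap R R' with ha
  set t := a g with ht
  obtain ⟨s, hs⟩ := ‹Algebra.FiniteType R R'›.out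
  choose n r hr using hloc
  let N := s.sup n + 1
  let δ : R' := t ^ N * a (D g)
  let E : R' → R' → ℕ → R → Prop := fun x y m c =>
    t ^ (m + 1) * y + m * t ^ m * x * δ = t ^ (N + 1) * a (D c)
  have hreg : ∀ (k : ℕ) {u v : R'}, t ^ k * u = t ^ k * v → u = v := fun k u v h => (hg.pow k) h
  have hDpow : ∀ m : ℕ, g * D (g ^ m) = m * g ^ m * D g := by
    intro m
    induction m with
    | zero => simp
    | succ m ih =>
      rw [pow_succ, D.leibniz, smul_eq_mul, smul_eq_mul]
      push_cast
      linear_combination g * ih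
  have htrans : ∀ x y m c m' c', t ^ m * x = a c → t ^ m' * x = a c' → E x y m c → E x y m' c' := by
    intro x y m c m' c' hc hc' hE
    have heq : g ^ m' * c = g ^ m * c' := hinj (by
      rw [map_mul, map_mul, map_pow, map_pow, ← hc, ← hc']; ring)
    have hd := congrArg (fun z => a (g * D z)) heq
    simp only [D.leibniz, smul_eq_mul, mul_add, map_add, map_mul, map_pow, ← ht] at hd
    have e1 := congrArg a (hDpow m)
    have e2 := congrArg a (hDpow m')
    simp only [map_mul, map_pow, map_natCast, ← ht] at e1 e2
    refine hreg m ?_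
    simp only [E, δ] at hE ⊢
    linear_combination t ^ m' * hE + t ^ N * hd - t ^ N * a c * e2 + t ^ N * a c' * e1
      + (t ^ N * m' * t ^ m' * a (D g)) * hc - (t ^ N * m * t ^ m * a (D g)) * hc'
  let G : R' → R' → Prop := fun x y => ∀ m c, t ^ m * x = a c → E x y m c
  have hG : ∀ x y m c, t ^ m * x = a c → E x y m c → G x y :=
    fun x y m c h hE m' c' h' => htrans x y m c m' c' h h' hE
  have huniq : ∀ x y y', G x y → G x y' → y = y' := fun x y y' h h' =>
    hreg (n x + 1) (add_right_cancel ((h _ _ (hr x).symm).trans (h' _ _ (hr x).symm).symm))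
  have halg : ∀ c : R, G (a c) (a (g ^ N * D c)) := fun c => hG _ _ 0 c (by simp) (by
    simp [E, map_mul, map_pow, ← ht]; ring)
  have hadd : ∀ x x' y y', G x y → G x' y' → G (x + x') (y + y') := by
    intro x x' y y' h h'
    have e := h (n x + n x') (g ^ n x' * r x) (by rw [map_mul, map_pow, ← ht, hr x]; ring)
    have e' := h' (n x + n x') (g ^ n x * r x') (by rw [map_mul, map_pow, ← ht, hr x']; ring)
    refine hG _ _ (n x + n x') (g ^ n x' * r x + g ^ n x * r x') ?_ ?_
    · simp only [map_add, map_mul, map_pow, ← ht, hr x, hr x']; ring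
    · simp only [E, map_add] at e e' ⊢
      linear_combination e + e'
  have hmul : ∀ x x' y y', G x y → G x' y' → G (x * x') (x * y' + x' * y) := by
    intro x x' y y' h h'
    have e := h (n x) (r x) (hr x).symm
    have e' := h' (n x') (r x') (hr x').symm
    refine hG _ _ (n x + n x') (r x * r x') ?_ ?_
    · rw [map_mul, hr x, hr x']; ring
    · simp only [E, D.leibniz, smul_eq_mul, map_add, map_mul, hr x, hr x', Nat.cast_add] at e e' ⊢
      linear_combination t ^ n x' * x' * e + t ^ n x * x * e'
  have hex : ∀ x : R', ∃ y, G x y := by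
    intro x
    have hx : x ∈ Algebra.adjoin R (s : Set R') := hs ▸ trivial
    induction hx using Algebra.adjoin_induction with
    | mem x hx =>
      have hle : n x + 1 ≤ N := Nat.succ_le_succ (Finset.le_sup hx)
      obtain ⟨d, hd⟩ := Nat.exists_eq_add_of_le hle
      refine ⟨t ^ (d + 1) * a (D (r x)) - n x * x * t ^ (n x + d) * a (D g), hG _ _ (n x) (r x) (hr x).symm ?_⟩
      simp only [E, δ, hd]
      ring
    | algebraMap c => exact ⟨_, halg c⟩
    | add x x' _ _ hx hx' => exact ⟨_, hadd _ _ _ _ hx.choose_spec hx'.choose_spec⟩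
    | mul x x' _ _ hx hx' => exact ⟨_, hmul _ _ _ _ hx.choose_spec hx'.choose_spec⟩
  choose y hy using hex
  let L : R' →ₗ[ℤ] R' := (AddMonoidHom.mk' y fun x x' =>
    huniq _ _ _ (hy _) (hadd _ _ _ _ (hy x) (hy x'))).toIntLinearMap
  exact ⟨N, Derivation.mk' L fun x x' => huniq _ _ _ (hy _) (hmul _ _ _ _ (hy x) (hy x')),
    fun c => huniq _ _ _ (hy _) (halg c)⟩

end Groth.Agent.S2133
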