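import Groth.Statements.S2134
import Mathlib.FieldTheory.IntermediateField.Adjoin.Defs
import Mathlib.Data.Fintype.Powerset

set_option autoImplicit false
universe u
open CAlg

namespace Groth.Agent.S2134

/-- Let `K/k` be a field extension and `(K_α)` a nonempty family of intermediate fields, directed
downwards, with intersection `k`. For a `K`-subspace `V` of `K^n` (`n ≥ 1`), `V` contains a nonzero
vector with all coordinates in `k` if and only if for every `α` it contains a nonzero vector with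
all coordinates in `K_α`. -/
theorem result {k K : Type u} [Field k] [Field K] [Algebra k K] {ι : Type u} [Nonempty ι]
    (F : ι → IntermediateField k K) (hdir : ∀ a b : ι, ∃ c, F c ≤ F a ⊓ F b) (hinf : ⨅ a, F a = ⊥) (n : ℕ) (hn : 1 ≤ n)
    (V : Submodule K (Fin n → K)) :
    (∃ v ∈ V, v ≠ 0 ∧ ∀ i, v i ∈ Set.range (algebraMap k K)) ↔
      ∀ a, ∃ v ∈ V, v ≠ 0 ∧ ∀ i, v i ∈ F a := by
  classical
  constructor
  · rintro ⟨v, hv, hne, hk⟩ a
    refine ⟨v, hv, hne, fun i => ?_⟩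
    obtain ⟨c, hc⟩ := hk i
    exact hc ▸ (F a).algebraMap_mem c
  intro h
  let P : ι → Finset (Fin n) → Prop := fun a σ =>
    ∃ v ∈ V, v ≠ 0 ∧ (∀ i, v i ∈ F a) ∧ ∀ i, i ∉ σ → v i = 0
  have hmono : ∀ a b σ, F a ≤ F b → P a σ → P b σ :=
    fun a b σ hab ⟨v, h1, h2, h3, h4⟩ => ⟨v, h1, h2, fun i => hab (h3 i), h4⟩
  have hall : ∀ s : Finset (Finset (Fin n)), ∀ a : ι,
      ∃ c, F c ≤ F a ∧ ∀ σ ∈ s, P c σ → ∀ b, P b σ := by
    intro s
    induction s using Finset.induction with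
    | empty => exact fun a => ⟨a, le_rfl, by simp⟩
    | insert σ s _ ih =>
      intro a
      obtain ⟨c, hca, hc⟩ := ih a
      by_cases hσ : ∀ b, P b σ
      · exact ⟨c, hca, fun τ hτ => (Finset.mem_insert.1 hτ).elim (fun e _ => e ▸ hσ) (hc τ)⟩
      · push Not at hσ
        obtain ⟨b, hb⟩ := hσ
        obtain ⟨d, hd⟩ := hdir c b
        refine ⟨d, (hd.trans inf_le_left).trans hca, fun τ hτ hP => (Finset.mem_insert.1 hτ).elim ?_ ?_⟩
        · rintro rfl; exact absurd (hmono d b _ (hd.trans inf_le_right) hP) hb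
        · exact fun hτs => hc τ hτs (hmono d c _ (hd.trans inf_le_left) hP)
  obtain ⟨c, -, hc⟩ := hall Finset.univ (Classical.arbitrary ι)
  have hne : (Finset.univ.filter fun σ => P c σ).Nonempty := by
    obtain ⟨v, h1, h2, h3⟩ := h c
    exact ⟨Finset.univ, Finset.mem_filter.2 ⟨Finset.mem_univ _, v, h1, h2, h3, fun i hi => absurd (Finset.mem_univ i) hi⟩⟩
  obtain ⟨σ, hσ, hσmin⟩ := Finset.exists_min_image _ Finset.card hne
  simp only [Finset.mem_filter, Finset.mem_univ, true_and] at hσ hσmin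
  obtain ⟨v, hvV, hv0, hvF, hvσ⟩ := hσ
  obtain ⟨i₀, hi₀⟩ : ∃ i, v i ≠ 0 := Function.ne_iff.1 hv0
  have hi₀σ : i₀ ∈ σ := by_contra fun hh => hi₀ (hvσ i₀ hh)
  let w := (v i₀)⁻¹ • v
  have hwV : w ∈ V := V.smul_mem _ hvV
  have hw1 : w i₀ = 1 := inv_mul_cancel₀ hi₀
  have hwσ : ∀ i, i ∉ σ → w i = 0 := fun i hi => by simp [w, hvσ i hi]
  have hwc : ∀ i, w i ∈ F c := fun i => (F c).mul_mem ((F c).inv_mem (hvF i₀)) (hvF i)
  refine ⟨w, hwV, fun h0 => one_ne_zero (hw1.symm.trans (congrFun h0 i₀)), fun i => ?_⟩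
  rw [← IntermediateField.mem_bot, ← hinf, ← SetLike.mem_coe, IntermediateField.coe_iInf, Set.mem_iInter]
  intro a
  obtain ⟨d, hd⟩ := hdir c a
  obtain ⟨u, huV, hu0, huF, huσ⟩ := hc σ (Finset.mem_univ _) ⟨v, hvV, hv0, hvF, hvσ⟩ d
  have hlt : ∀ x ∈ V, x ≠ 0 → (∀ i, x i ∈ F c) → (∀ i, i ∉ σ.erase i₀ → x i = 0) → False := by
    intro x hx hx0 hxF hxσ
    have := hσmin (σ.erase i₀) ⟨x, hx, hx0, hxF, hxσ⟩
    have := Finset.card_erase_lt_of_mem hi₀σ
    omega
  have hui₀ : u i₀ ≠ 0 := fun hh => hlt u huV hu0 (fun i => hd.trans inf_le_left (huF i)) fun j hj => by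
    by_cases hj' : j = i₀
    · exact hj' ▸ hh
    · exact huσ j fun hm => hj (Finset.mem_erase.2 ⟨hj', hm⟩)
  have hwu : w = (u i₀)⁻¹ • u := sub_eq_zero.1 <| by_contra fun hne0 =>
    hlt _ (V.sub_mem hwV (V.smul_mem _ huV)) hne0
      (fun j => (F c).sub_mem (hwc j) ((F c).mul_mem ((F c).inv_mem (hd.trans inf_le_left (huF i₀)))
        (hd.trans inf_le_left (huF j)))) fun j hj => by
        by_cases hj' : j = i₀
        · subst hj'; simp [hw1, inv_mul_cancel₀ hui₀]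
        · have hjσ : j ∉ σ := fun hm => hj (Finset.mem_erase.2 ⟨hj', hm⟩)
          simp [hwσ j hjσ, huσ j hjσ]
  rw [hwu]
  exact hd.trans inf_le_right ((F d).mul_mem ((F d).inv_mem (huF i₀)) (huF i))

end Groth.Agent.S2134
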