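import Groth.Statements.S2138
import Mathlib

set_option autoImplicit false
universe u
open CAlg

namespace Groth.Agent.S2138

open TensorProduct

variable {R S : Type u} [CommRing R] [CommRing S] [Algebra R S]

theorem mem_map_comap_iff [Module.Flat R S] {A : Type u} [CommRing A] [Algebra R A] (J : Ideal A) (x : S) :
    x ∈ (J.comap (algebraMap R A)).map (algebraMap R S) ↔ x ⊗ₜ[R] (1 : A ⧸ J) = 0 := by
  let I := J.comap (algebraMap R A)
  let q : R →ₗ[R] A ⧸ J := Algebra.linearMap R (A ⧸ J)
  have hq : ∀ r : R, q r = Ideal.Quotient.mk J (algebraMap R A r) := fun r =>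
    IsScalarTower.algebraMap_apply R A (A ⧸ J) r
  have hex : Function.Exact I.subtype q := LinearMap.exact_iff.2 (by
    rw [Submodule.range_subtype]; ext r
    rw [LinearMap.mem_ker, hq, Ideal.Quotient.eq_zero_iff_mem]
    rfl)
  have hexS := Module.Flat.lTensor_exact S hex (x ⊗ₜ[R] (1 : R))
  rw [LinearMap.lTensor_tmul, show q 1 = 1 by rw [hq, map_one, map_one]] at hexS
  rw [hexS]
  clear hexS
  constructor
  · intro hx
    induction hx using Submodule.span_induction with
    | mem y hy =>
      obtain ⟨r, hr, rfl⟩ := hy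
      exact ⟨1 ⊗ₜ ⟨r, hr⟩, by rw [LinearMap.lTensor_tmul, Submodule.subtype_apply,
        Algebra.algebraMap_eq_smul_one, TensorProduct.smul_tmul, smul_eq_mul, mul_one]⟩
    | zero => exact ⟨0, by simp⟩
    | add y z _ _ hy hz =>
      obtain ⟨a, ha⟩ := hy; obtain ⟨b, hb⟩ := hz
      exact ⟨a + b, by rw [map_add, ha, hb, TensorProduct.add_tmul]⟩
    | smul c y _ hy =>
      obtain ⟨a, ha⟩ := hy
      refine ⟨c • a, ?_⟩
      have : I.subtype.lTensor S (c • a) = c • I.subtype.lTensor S a := by
        clear ha
        induction a with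
        | zero => simp
        | tmul u v => simp [TensorProduct.smul_tmul']
        | add a b h1 h2 => simp only [smul_add, map_add, h1, h2]
      rw [this, ha, TensorProduct.smul_tmul']
  · rintro ⟨z, hz⟩
    have key : ∀ z : S ⊗[R] I, TensorProduct.rid R S (I.subtype.lTensor S z) ∈ I.map (algebraMap R S) := by
      intro z
      induction z with
      | zero => simp
      | tmul u v =>
        simp only [LinearMap.lTensor_tmul, TensorProduct.rid_tmul, Algebra.smul_def, Submodule.subtype_apply]
        exact Ideal.mul_mem_right _ _ (Ideal.mem_map_of_mem _ v.2)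
      | add a b h1 h2 => rw [map_add, map_add]; exact Ideal.add_mem _ h1 h2
    simpa [hz] using key z

theorem reg [Module.Flat R S] (p : Ideal R) [p.IsPrime] [(p.map (algebraMap R S)).IsPrime]
    (hQp : (p.map (algebraMap R S)).comap (algebraMap R S) = p) (s : S) (hs : s ∉ p.map (algebraMap R S))
    (n : ℕ) : ∀ (T : Type u) [AddCommGroup T] [Module R T] [Module (Localization.AtPrime p) T]
      [IsScalarTower R (Localization.AtPrime p) T],
      IsLocalRing.maximalIdeal (Localization.AtPrime p) ^ n • (⊤ : Submodule (Localization.AtPrime p) T) = ⊥ →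
      ∀ z : S ⊗[R] T, s • z = 0 → z = 0 := by
  let A := Localization.AtPrime p
  let m := IsLocalRing.maximalIdeal A
  have hfield : ∀ z : S ⊗[R] (A ⧸ m), s • z = 0 → z = 0 := by
    intro z hz
    obtain ⟨t, ht, x, hx⟩ : ∃ t : R, t ∉ p ∧ ∃ x : S, t • z = x ⊗ₜ[R] (1 : A ⧸ m) := by
      clear hz
      induction z with
      | zero => exact ⟨1, p.one_notMem, 0, by simp⟩
      | tmul u v =>
        obtain ⟨v, rfl⟩ := Ideal.Quotient.mk_surjective v
        obtain ⟨⟨r, t⟩, h⟩ := IsLocalization.surj p.primeCompl v
        refine ⟨t, t.2, r • u, ?_⟩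
        rw [← TensorProduct.tmul_smul, TensorProduct.smul_tmul, Algebra.smul_def (r : R) (1 : A ⧸ m),
          Algebra.smul_def, mul_one, IsScalarTower.algebraMap_apply R A (A ⧸ m),
          IsScalarTower.algebraMap_apply R A (A ⧸ m) r, Ideal.Quotient.algebraMap_eq, ← map_mul, ← h,
          mul_comm]
      | add a b h1 h2 =>
        obtain ⟨t1, ht1, x1, e1⟩ := h1; obtain ⟨t2, ht2, x2, e2⟩ := h2
        refine ⟨t2 * t1, p.primeCompl.mul_mem ht2 ht1, t2 • x1 + t1 • x2, ?_⟩
        rw [smul_add, mul_smul, e1, mul_comm, mul_smul, e2, TensorProduct.add_tmul]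
        simp [TensorProduct.smul_tmul']
    have hm : m.comap (algebraMap R A) = p := Localization.AtPrime.comap_maximalIdeal
    have h0 : (s * x) ⊗ₜ[R] (1 : A ⧸ m) = 0 := by
      rw [← smul_eq_mul, ← TensorProduct.smul_tmul', ← hx, smul_comm, hz, smul_zero]
    have hxp : x ∈ p.map (algebraMap R S) := by
      have := (mem_map_comap_iff m (s * x)).2 h0
      rw [hm] at this
      exact (Ideal.IsPrime.mem_or_mem inferInstance this).resolve_left hs
    have h1 : t • z = 0 := by
      rw [hx]; exact (mem_map_comap_iff m x).1 (by rwa [hm])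
    obtain ⟨w, hw⟩ := (IsLocalization.map_units A (⟨t, ht⟩ : p.primeCompl))
    let L : (A ⧸ m) →ₗ[R] (A ⧸ m) := LinearMap.mulLeft R (Ideal.Quotient.mk m (↑w⁻¹ : A))
    have hu : Ideal.Quotient.mk m (↑w⁻¹ : A) * algebraMap R (A ⧸ m) t = 1 := by
      rw [IsScalarTower.algebraMap_apply R A (A ⧸ m), Ideal.Quotient.algebraMap_eq, ← map_mul,
        show algebraMap R A t = (w : A) from hw.symm, Units.inv_mul, map_one]
    have hL : L ∘ₗ (t • LinearMap.id) = LinearMap.id := by
      refine LinearMap.ext fun v => ?_
      show Ideal.Quotient.mk m (↑w⁻¹ : A) * (t • v) = v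
      rw [Algebra.smul_def, ← mul_assoc, hu, one_mul]
    have h2 : L.lTensor S ((t • LinearMap.id : (A ⧸ m) →ₗ[R] (A ⧸ m)).lTensor S z) = z := by
      rw [← LinearMap.lTensor_comp_apply, hL, LinearMap.lTensor_id, LinearMap.id_apply]
    rw [← h2]
    simp [LinearMap.lTensor_smul, h1]
  induction n with
  | zero =>
    intro T _ _ _ _ hT z _
    haveI : Subsingleton T := by
      rw [pow_zero, Ideal.one_eq_top, Submodule.top_smul] at hT
      exact ⟨fun a b => sub_eq_zero.1 ((Submodule.mem_bot A).1 (hT ▸ Submodule.mem_top))⟩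
    exact Subsingleton.elim _ _
  | succ n ih =>
    intro T _ _ _ _ hT z hz
    let T' : Submodule A T := m • ⊤
    let K := T ⧸ T'
    letI : Module (A ⧸ m) K := Module.IsTorsionBySet.module (I := m) (M := K) (by
      rintro v ⟨a, ha⟩
      obtain ⟨v, rfl⟩ := Submodule.Quotient.mk_surjective T' v
      exact (Submodule.Quotient.mk_eq_zero T').2 (Submodule.smul_mem_smul ha Submodule.mem_top))
    haveI : IsScalarTower R (A ⧸ m) K := ⟨fun r a v => by
      obtain ⟨a, rfl⟩ := Ideal.Quotient.mk_surjective a
      show (Ideal.Quotient.mk m (r • a)) • v = r • (a • v)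
      show (r • a) • v = r • (a • v)
      exact smul_assoc r a v⟩
    letI : Field (A ⧸ m) := Ideal.Quotient.field m
    let b := Module.Free.chooseBasis (A ⧸ m) K
    have hq : ((T'.mkQ).restrictScalars R).lTensor S z = 0 := by
      classical
      set w := ((T'.mkQ).restrictScalars R).lTensor S z with hw
      have hsw : s • w = 0 := by
        have : s • w = ((T'.mkQ).restrictScalars R).lTensor S (s • z) := by
          rw [hw]; clear hz hw w
          induction z with
          | zero => simp
          | tmul u v => simp [TensorProduct.smul_tmul']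
          | add a b h1 h2 => simp only [smul_add, map_add, h1, h2]
        rw [this, hz, map_zero]
      let e : S ⊗[R] K ≃ₗ[S] (Module.Free.ChooseBasisIndex (A ⧸ m) K →₀ S ⊗[R] (A ⧸ m)) :=
        TensorProduct.AlgebraTensorModule.congr (LinearEquiv.refl S S) (b.repr.restrictScalars R) ≪≫ₗ
          TensorProduct.finsuppRight R S S (A ⧸ m) _
      refine e.injective (Finsupp.ext fun i => ?_)
      rw [map_zero, Finsupp.zero_apply]
      exact hfield _ (by rw [← Finsupp.smul_apply, ← map_smul, hsw, map_zero, Finsupp.zero_apply])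
    have hex : Function.Exact (T'.subtype.restrictScalars R) (T'.mkQ.restrictScalars R) :=
      LinearMap.exact_subtype_mkQ T'
    obtain ⟨y, hy⟩ := (Module.Flat.lTensor_exact S hex z).1 hq
    have hsy : s • y = 0 := by
      refine Module.Flat.lTensor_preserves_injective_linearMap (M := S) (T'.subtype.restrictScalars R)
        (Submodule.injective_subtype T') ?_
      have : ∀ y : S ⊗[R] T', (T'.subtype.restrictScalars R).lTensor S (s • y) =
          s • (T'.subtype.restrictScalars R).lTensor S y := by
        intro y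
        induction y with
        | zero => simp
        | tmul u v => simp [TensorProduct.smul_tmul']
        | add a b h1 h2 => simp only [smul_add, map_add, h1, h2]
      rw [map_zero, this, hy, hz]
    have hT' : m ^ n • (⊤ : Submodule A T') = ⊥ := by
      refine Submodule.map_injective_of_injective (f := T'.subtype) (Submodule.injective_subtype T') ?_
      rw [Submodule.map_smul'', Submodule.map_top, Submodule.range_subtype, Submodule.map_bot]
      show m ^ n • m • (⊤ : Submodule A T) = ⊥
      rw [← Submodule.mul_smul, ← pow_succ]; exact hT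
    rw [← hy, ih T' hT' y hsy, map_zero]


/-- Let `R → S` be flat and `𝔭` a prime of `R` whose extension `𝔮 = 𝔭S` is prime. Then for every `n` the
extension to `S` of the symbolic power `𝔭^{(n)}` (the contraction of `𝔭ⁿR_𝔭`) equals the symbolic
power `𝔮^{(n)}`. -/
theorem result {R S : Type u} [CommRing R] [CommRing S] [Algebra R S] [Module.Flat R S]
    (p : Ideal R) [p.IsPrime] [(p.map (algebraMap R S)).IsPrime] (n : ℕ) :
    (((p ^ n).map (algebraMap R (Localization.AtPrime p))).comap (algebraMap R (Localization.AtPrime p))).map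
        (algebraMap R S) =
      (((p.map (algebraMap R S)) ^ n).map (algebraMap S (Localization.AtPrime (p.map (algebraMap R S))))).comap
        (algebraMap S (Localization.AtPrime (p.map (algebraMap R S)))) := by
  let Q := p.map (algebraMap R S)
  have hQp : Q.comap (algebraMap R S) = p := by
    refine le_antisymm ?_ Ideal.le_comap_map
    obtain ⟨q', hq', hq'p, hq''⟩ := Q.exists_ideal_le_liesOver_of_le (p := p)
      (q := Q.comap (algebraMap R S)) (R := R) Ideal.le_comap_map
    have : Q ≤ q' := Ideal.map_le_iff_le_comap.2 (hq''.over.le)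
    rw [le_antisymm hq' this] at hq''
    exact hq''.over.ge
  refine le_antisymm ?_ ?_
  · rw [Ideal.map_le_iff_le_comap]
    intro r hr
    rw [Ideal.mem_comap, IsLocalization.algebraMap_mem_map_algebraMap_iff p.primeCompl] at hr
    obtain ⟨s, hs, hsr⟩ := hr
    rw [Ideal.mem_comap, Ideal.mem_comap, IsLocalization.algebraMap_mem_map_algebraMap_iff Q.primeCompl]
    refine ⟨algebraMap R S s, fun h => hs (hQp ▸ h), ?_⟩
    rw [← map_mul, ← Ideal.map_pow]
    exact Ideal.mem_map_of_mem _ hsr
  · intro x hx
    rw [Ideal.mem_comap, IsLocalization.algebraMap_mem_map_algebraMap_iff Q.primeCompl] at hx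
    obtain ⟨s, hs, hsx⟩ := hx
    let A := Localization.AtPrime p
    let J := (p ^ n).map (algebraMap R A)
    have hmem : s * x ∈ (J.comap (algebraMap R A)).map (algebraMap R S) := by
      rw [← Ideal.map_pow] at hsx
      exact Ideal.map_mono Ideal.le_comap_map hsx
    refine (mem_map_comap_iff J x).2 ?_
    have h0 := (mem_map_comap_iff J (s * x)).1 hmem
    have hn : IsLocalRing.maximalIdeal A ^ n • (⊤ : Submodule A (A ⧸ J)) = ⊥ := by
      rw [eq_bot_iff, Submodule.smul_le]
      intro a ha m _
      obtain ⟨m, rfl⟩ := Ideal.Quotient.mk_surjective m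
      rw [← Localization.AtPrime.map_eq_maximalIdeal, ← Ideal.map_pow] at ha
      exact (Submodule.Quotient.mk_eq_zero J).2 (J.mul_mem_right m ha)
    refine reg p hQp s hs n (A ⧸ J) hn _ ?_
    rw [← h0, TensorProduct.smul_tmul', smul_eq_mul]

end Groth.Agent.S2138
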