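import Groth.Statements.S2139
import Groth.Agent.ReducedNormal.Basic
import Groth.Agent.S6278
import Mathlib
-- import your own Groth.Agent.* helpers here

set_option autoImplicit false
universe u
open CAlg

namespace Groth.Agent.S2139

open nonZeroDivisors in
theorem normal_of_closed {R : Type u} [CommRing R] [IsReduced R] (hfin : (minimalPrimes R).Finite)
    (h : IsIntegrallyClosedIn R (FractionRing R)) (p : Ideal R) [p.IsPrime] :
    IsDomain (Localization.AtPrime p) ∧ IsIntegrallyClosed (Localization.AtPrime p) := by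
  classical
  haveI := hfin.to_subtype
  haveI := Fintype.ofFinite (minimalPrimes R)
  have hzero : ∀ x : R, (∀ P ∈ minimalPrimes R, x ∈ P) → x = 0 := fun x hx => by
    have : x ∈ nilradical R := by
      rw [nilradical, ← Ideal.sInf_minimalPrimes, Submodule.mem_sInf]
      exact hx
    rwa [nilradical_eq_zero] at this
  have hnzd : ∀ t : R, (∀ P ∈ minimalPrimes R, t ∉ P) → t ∈ R⁰ := fun t ht => by
    rw [mem_nonZeroDivisors_iff_right]
    exact fun x hx => hzero x fun P hP =>
      ((Ideal.minimalPrimes_isPrime hP).mem_or_mem (hx ▸ P.zero_mem)).resolve_right (ht P hP)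
  have hsep : ∀ P : minimalPrimes R, ∃ a : R, ∀ Q : minimalPrimes R, a ∈ Q.1 ↔ P ≠ Q := by
    intro P
    have hP := Ideal.minimalPrimes_isPrime P.2
    choose b hbQ hbP using fun Q : {Q : minimalPrimes R // P ≠ Q} =>
      Set.not_subset.mp (fun h : (Q.1.1 : Set R) ⊆ P.1 => Q.2 (Subtype.ext
        (le_antisymm (P.2.2 ⟨Ideal.minimalPrimes_isPrime Q.1.2, bot_le⟩ h) h)))
    refine ⟨∏ Q, b Q, fun Q => ⟨fun h hPQ => ?_, fun h => ?_⟩⟩
    · subst hPQ
      obtain ⟨Q', -, h'⟩ := (hP.prod_mem_iff).mp h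
      exact hbP Q' h'
    · exact Ideal.mem_of_dvd _ (Finset.dvd_prod_of_mem b (Finset.mem_univ ⟨Q, h⟩)) (hbQ ⟨Q, h⟩)
  choose a ha using hsep
  have hsumQ : ∀ (P Q : minimalPrimes R), P ≠ Q → ∀ s : Finset (minimalPrimes R), P ∉ s → ∑ i ∈ s, a i ∈ P.1 :=
    fun P Q _ s hs => P.1.sum_mem fun i hi => (ha i P).2 (fun e => hs (e ▸ hi))
  have hS : ∀ Q : minimalPrimes R, ∑ i, a i - a Q ∈ Q.1 := fun Q => by
    rw [← Finset.add_sum_erase _ _ (Finset.mem_univ Q), add_sub_cancel_left]
    exact Q.1.sum_mem fun i hi => (ha i Q).2 (Finset.mem_erase.1 hi).1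
  have hSn : ∑ i, a i ∈ R⁰ := hnzd _ fun Q hQ hm => (ha ⟨Q, hQ⟩ ⟨Q, hQ⟩).1
    (by simpa using Q.sub_mem hm (hS ⟨Q, hQ⟩)) rfl
  have hidem : ∀ P, ∃ r : R, r * ∑ i, a i = a P := by
    intro P
    let y : FractionRing R := IsLocalization.mk' _ (a P) ⟨_, hSn⟩
    have hy : y * algebraMap R _ (∑ i, a i) = algebraMap R _ (a P) := IsLocalization.mk'_spec _ _ _
    have hz : a P * (a P - ∑ i, a i) = 0 := hzero _ fun Q hQ => by
      by_cases e : P = ⟨Q, hQ⟩
      · subst e
        exact Q.mul_mem_left _ (by simpa using Q.neg_mem (hS ⟨Q, hQ⟩))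
      · exact Q.mul_mem_right _ ((ha P ⟨Q, hQ⟩).2 e)
    have hint : IsIntegral R y := by
      haveI : Nontrivial R := ⟨1, 0, fun e => (Ideal.minimalPrimes_isPrime P.2).ne_top
        ((Ideal.eq_top_iff_one _).mpr (e ▸ P.1.zero_mem))⟩
      refine ⟨Polynomial.X ^ 2 - Polynomial.X, Polynomial.monic_X_pow_sub (by rw [Polynomial.degree_X]; norm_num), ?_⟩
      rw [← Polynomial.aeval_def, map_sub, map_pow, Polynomial.aeval_X]
      have hu := IsLocalization.map_units (FractionRing R) (⟨_, hSn⟩ : R⁰)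
      refine (hu.mul hu).mul_left_eq_zero.1 ?_
      have h2 := congrArg (algebraMap R (FractionRing R)) hz
      rw [map_mul, map_sub, map_zero, ← hy] at h2
      linear_combination h2
    obtain ⟨r, hr⟩ := (isIntegrallyClosedIn_iff.1 h).2 hint
    exact ⟨r, IsFractionRing.injective R (FractionRing R) (by rw [map_mul, hr, hy])⟩
  choose e he using hidem
  have heP : ∀ P : minimalPrimes R, e P ∉ P.1 := fun P hm =>
    (ha P P).1 (he P ▸ P.1.mul_mem_right _ hm) rfl
  have heQ : ∀ P Q : minimalPrimes R, P ≠ Q → e P ∈ Q.1 := fun P Q hne => by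
    refine ((Ideal.minimalPrimes_isPrime Q.2).mem_or_mem (he P ▸ (ha P Q).2 hne)).resolve_right fun hm => ?_
    exact (ha Q Q).1 (by simpa using Q.1.sub_mem hm (hS Q)) rfl
  have hesum : ∑ P, e P = 1 := by
    have h1 : (∑ P, e P) * ∑ i, a i = 1 * ∑ i, a i := by
      rw [Finset.sum_mul, one_mul]; exact Finset.sum_congr rfl fun P _ => he P
    exact (mul_cancel_right_mem_nonZeroDivisors hSn).1 h1
  obtain ⟨P, hP⟩ : ∃ P, e P ∉ p := by
    by_contra hc
    push Not at hc
    exact (Ideal.ne_top_iff_one _).1 (Ideal.IsPrime.ne_top ‹_›) (hesum ▸ p.sum_mem fun P _ => hc P)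
  haveI hPp := Ideal.minimalPrimes_isPrime P.2
  obtain ⟨q, hq, ⟨eq'⟩⟩ := Groth.ReducedNormal.nonempty_localization_equiv (Ideal.Quotient.mk P.1)
    Ideal.Quotient.mk_surjective p (e P) hP (fun z hz => hzero _ fun Q hQ => by
      by_cases hPQ : P = ⟨Q, hQ⟩
      · subst hPQ
        exact Q.mul_mem_left _ (Ideal.Quotient.eq_zero_iff_mem.1 hz)
      · exact Q.mul_mem_right _ (heQ P ⟨Q, hQ⟩ hPQ))
  haveI : IsIntegrallyClosed (R ⧸ P.1) := by
    refine (isIntegrallyClosed_iff (FractionRing (R ⧸ P.1))).2 fun {x} hx => ?_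
    obtain ⟨xa, xb, hxb, rfl⟩ := IsFractionRing.div_surjective (A := R ⧸ P.1) x
    obtain ⟨xa, rfl⟩ := Ideal.Quotient.mk_surjective xa
    obtain ⟨xb, rfl⟩ := Ideal.Quotient.mk_surjective xb
    have hbP : xb ∉ P.1 := fun hm => nonZeroDivisors.ne_zero hxb (Ideal.Quotient.eq_zero_iff_mem.2 hm)
    let t := xb * e P + (1 - e P)
    have h1e : 1 - e P ∈ P.1 := by
      have := Ideal.minimalPrimes_isPrime P.2
      rw [← hesum, ← Finset.add_sum_erase _ _ (Finset.mem_univ P), add_sub_cancel_left]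
      exact P.1.sum_mem fun i hi => heQ i P (Finset.mem_erase.1 hi).1
    have ht : t ∈ R⁰ := hnzd _ fun Q hQ hm => by
      by_cases hPQ : P = ⟨Q, hQ⟩
      · subst hPQ
        exact ((Ideal.minimalPrimes_isPrime hQ).mem_or_mem ((Ideal.add_mem_iff_left Q h1e).1 hm)).elim hbP (heP ⟨Q, hQ⟩)
      · have h1 := heQ P ⟨Q, hQ⟩ hPQ
        have h2 := (Ideal.add_mem_iff_right Q (Q.mul_mem_left xb h1)).1 hm
        exact (Ideal.ne_top_iff_one _).1 (Ideal.minimalPrimes_isPrime hQ).ne_top (by simpa using Q.add_mem h2 h1)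
    let w : FractionRing R := IsLocalization.mk' _ (xa * e P) ⟨t, ht⟩
    obtain ⟨F, hFm, hF⟩ := (hx : IsIntegral (R ⧸ P.1) _)
    obtain ⟨G, hG, -, hGm⟩ := Polynomial.lifts_and_degree_eq_and_monic
      (Polynomial.map_surjective (Ideal.Quotient.mk P.1) Ideal.Quotient.mk_surjective F |>.elim
        fun G hG => (Polynomial.mem_lifts F).2 ⟨G, hG⟩) hFm
    let φ : ∀ Q : minimalPrimes R, haveI := Ideal.minimalPrimes_isPrime Q.2; FractionRing R →ₐ[R] FractionRing (R ⧸ Q.1) :=
      fun Q => haveI := Ideal.minimalPrimes_isPrime Q.2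
      IsLocalization.liftAlgHom (M := R⁰) (f := IsScalarTower.toAlgHom R R (FractionRing (R ⧸ Q.1)))
        (fun y => by
          refine isUnit_iff_ne_zero.mpr fun h => ?_
          have h1 : algebraMap (R ⧸ Q.1) (FractionRing (R ⧸ Q.1)) (Ideal.Quotient.mk Q.1 y) = 0 := by
            rw [← Ideal.Quotient.algebraMap_eq, ← IsScalarTower.algebraMap_apply]; simpa using h
          rw [IsFractionRing.to_map_eq_zero_iff, Ideal.Quotient.eq_zero_iff_mem] at h1
          exact Set.disjoint_left.mp (Ideal.disjoint_nonZeroDivisors_of_mem_minimalPrimes Q.2) h1 y.2)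
    have halg : ∀ (Q : minimalPrimes R) (r : R), (haveI := Ideal.minimalPrimes_isPrime Q.2; algebraMap R (FractionRing (R ⧸ Q.1)) r = 0 ↔ r ∈ Q.1) := fun Q r => by
      haveI := Ideal.minimalPrimes_isPrime Q.2
      rw [IsScalarTower.algebraMap_apply R (R ⧸ Q.1), IsFractionRing.to_map_eq_zero_iff,
        Ideal.Quotient.algebraMap_eq, Ideal.Quotient.eq_zero_iff_mem]
    have hwt : w * algebraMap R _ t = algebraMap R _ (xa * e P) := IsLocalization.mk'_spec _ _ _
    have hwQ : ∀ Q : minimalPrimes R, P ≠ Q → φ Q w = 0 := fun Q hne => by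
      haveI := Ideal.minimalPrimes_isPrime Q.2
      have h1 := congrArg (φ Q) hwt
      rw [map_mul, AlgHom.commutes, AlgHom.commutes, (halg Q _).2 (Q.1.mul_mem_left xa (heQ P Q hne))] at h1
      refine (mul_eq_zero.1 h1).resolve_right fun h2 => ?_
      exact Set.disjoint_left.1 (Ideal.disjoint_nonZeroDivisors_of_mem_minimalPrimes Q.2) ((halg Q _).1 h2) ht
    have hwP : φ P w = algebraMap (R ⧸ P.1) _ (Ideal.Quotient.mk P.1 xa) / algebraMap (R ⧸ P.1) _ (Ideal.Quotient.mk P.1 xb) := by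
      have he1 : algebraMap R (FractionRing (R ⧸ P.1)) (e P) = 1 := by
        rw [← sub_eq_zero, ← map_one (algebraMap R (FractionRing (R ⧸ P.1))), ← map_sub, halg P]
        simpa using P.1.neg_mem h1e
      have htt : algebraMap R (FractionRing (R ⧸ P.1)) t = algebraMap R (FractionRing (R ⧸ P.1)) xb := by
        simp only [t, map_add, map_mul, he1, mul_one, (halg P _).2 h1e, add_zero]
      have h1 := congrArg (φ P) hwt
      rw [map_mul, AlgHom.commutes, AlgHom.commutes, htt, map_mul, he1, mul_one] at h1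
      rw [eq_div_iff (fun h2 => nonZeroDivisors.ne_zero hxb ((IsFractionRing.to_map_eq_zero_iff).1 h2))]
      rw [← Ideal.Quotient.algebraMap_eq, ← IsScalarTower.algebraMap_apply, ← IsScalarTower.algebraMap_apply]
      exact h1
    have hint : IsIntegral R w := by
      refine ⟨Polynomial.X * G, Polynomial.monic_X.mul hGm, ?_⟩
      rw [← Polynomial.aeval_def]
      obtain ⟨u, s, hus⟩ := IsLocalization.exists_mk'_eq R⁰ (Polynomial.aeval w (Polynomial.X * G))
      rw [← hus]
      have hu0 : u = 0 := hzero u fun Q hQ => by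
        haveI := Ideal.minimalPrimes_isPrime hQ
        refine (halg ⟨Q, hQ⟩ u).1 ?_
        rw [← AlgHom.commutes (φ ⟨Q, hQ⟩), ← IsLocalization.mk'_spec (FractionRing R) u s, hus, map_mul,
          ← Polynomial.aeval_algHom_apply]
        by_cases hPQ : P = ⟨Q, hQ⟩
        · subst hPQ
          rw [hwP, map_mul (Polynomial.aeval _), ← Polynomial.aeval_map_algebraMap (R ⧸ Q) _ G]
          rw [show G.map (algebraMap R (R ⧸ Q)) = F from hG]
          rw [Polynomial.aeval_def (R := R ⧸ Q), hF, mul_zero, zero_mul]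
        · rw [hwQ _ hPQ, map_mul (Polynomial.aeval _), Polynomial.aeval_X, zero_mul, zero_mul]
      rw [hu0, IsLocalization.mk'_zero]
    obtain ⟨r, hr⟩ := (isIntegrallyClosedIn_iff.1 h).2 hint
    refine ⟨Ideal.Quotient.mk P.1 r, ?_⟩
    rw [← hwP, ← hr, AlgHom.commutes, IsScalarTower.algebraMap_apply R (R ⧸ P.1), Ideal.Quotient.algebraMap_eq]
  haveI := hq
  haveI : IsDomain (Localization.AtPrime q) :=
    IsLocalization.isDomain_localization q.primeCompl_le_nonZeroDivisors
  haveI : IsIntegrallyClosed (Localization.AtPrime q) :=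
    isIntegrallyClosed_of_isLocalization _ q.primeCompl q.primeCompl_le_nonZeroDivisors
  exact ⟨eq'.symm.toMulEquiv.isDomain, .of_equiv eq'⟩

/-- Let `R` be a reduced ring with finitely many minimal primes. Then every localization of `R` at a
prime is an integrally closed domain if and only if `R` is integrally closed in its total ring of
fractions. -/
theorem result {R : Type u} [CommRing R] [IsReduced R] (hfin : (minimalPrimes R).Finite) :
    (∀ (p : Ideal R) [p.IsPrime], IsDomain (Localization.AtPrime p) ∧ IsIntegrallyClosed (Localization.AtPrime p)) ↔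
      IsIntegrallyClosedIn R (FractionRing R) := by
  refine ⟨fun h => Groth.Agent.S6278.result R h, fun h p hp => ?_⟩
  exact normal_of_closed hfin h p

end Groth.Agent.S2139
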