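import Groth.Statements.S2140
import Mathlib

set_option autoImplicit false
universe u
open CAlg

namespace Groth.Agent.S2140

open Polynomial

theorem monogenic (R S : Type u) [CommRing R] [IsDomain R] [CommRing S] [IsDomain S] [Algebra R S]
    (hinj : Function.Injective (algebraMap R S)) (x : S) (hx : Algebra.adjoin R {x} = ⊤) :
    ∃ g : S, g ≠ 0 ∧ Algebra.FinitePresentation R (Localization.Away g) := by
  classical
  have hsurj : Function.Surjective (aeval x : R[X] →ₐ[R] S) := fun y => by
    have : y ∈ Algebra.adjoin R {x} := hx ▸ Algebra.mem_top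
    rwa [Algebra.adjoin_singleton_eq_range_aeval] at this
  by_cases h : ∀ p : R[X], aeval x p = 0 → p = 0
  · let e : R[X] ≃ₐ[R] S := AlgEquiv.ofBijective (aeval x) ⟨(injective_iff_map_eq_zero _).2 h, hsurj⟩
    haveI : Algebra.FinitePresentation R S := Algebra.FinitePresentation.equiv e
    exact ⟨1, one_ne_zero, inferInstance⟩
  · push Not at h
    have hex : ∃ d, ∃ p : R[X], aeval x p = 0 ∧ p ≠ 0 ∧ p.natDegree = d := by
      obtain ⟨p, hp, hp0⟩ := h; exact ⟨_, p, hp, hp0, rfl⟩
    obtain ⟨p, hp, hp0, hpd⟩ := Nat.find_spec hex
    have hmin : ∀ q : R[X], aeval x q = 0 → q.natDegree < p.natDegree → q = 0 := by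
      intro q hq hd
      by_contra hq0
      exact Nat.find_min hex (hpd ▸ hd) ⟨q, hq, hq0, rfl⟩
    have hc0 : algebraMap R S p.leadingCoeff ≠ 0 := fun h' =>
      hp0 (leadingCoeff_eq_zero.1 (hinj (h'.trans (map_zero _).symm)))
    let T := Localization.Away (algebraMap R S p.leadingCoeff)
    have hker : ∀ f : R[X], aeval x f = 0 → ∃ k : ℕ, p ∣ C p.leadingCoeff ^ k * f := by
      intro f
      induction hn : f.natDegree using Nat.strong_induction_on generalizing f with
      | _ n ih =>
        intro hf
        by_cases hlt : n < p.natDegree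
        · exact ⟨0, by rw [hmin f hf (hn ▸ hlt)]; simp⟩
        · let f' := C p.leadingCoeff * f - C f.leadingCoeff * X ^ (n - p.natDegree) * p
          have hf' : aeval x f' = 0 := by simp [f', hf, hp]
          by_cases hf0 : f' = 0
          · refine ⟨1, C f.leadingCoeff * X ^ (n - p.natDegree), ?_⟩
            rw [pow_one]; linear_combination hf0
          · have hdeg : f'.natDegree < n := by
              have hle : f'.natDegree ≤ n := by
                refine (natDegree_sub_le _ _).trans (max_le ((natDegree_C_mul_le _ _).trans hn.le) ?_)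
                refine natDegree_mul_le.trans ?_
                have := natDegree_C_mul_X_pow_le f.leadingCoeff (n - p.natDegree)
                omega
              refine lt_of_le_of_ne hle fun heq => hf0 (leadingCoeff_eq_zero.1 ?_)
              rw [leadingCoeff, heq]
              have h1 : (C f.leadingCoeff * X ^ (n - p.natDegree) * p).coeff n =
                  f.leadingCoeff * p.leadingCoeff := by
                rw [mul_assoc, coeff_C_mul, coeff_X_pow_mul', if_pos (Nat.sub_le _ _)]
                congr 1
                rw [leadingCoeff]; congr 1; omega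
              simp only [f', coeff_sub, coeff_C_mul, h1]
              rw [← hn, ← leadingCoeff, mul_comm, sub_self]
            obtain ⟨k, q, hq⟩ := ih _ hdeg f' rfl hf'
            refine ⟨k + 1, q + C p.leadingCoeff ^ k * C f.leadingCoeff * X ^ (n - p.natDegree), ?_⟩
            simp only [f'] at hq
            linear_combination hq
    refine ⟨algebraMap R S p.leadingCoeff, hc0, ?_⟩
    let φ : AdjoinRoot p →ₐ[R] S := AdjoinRoot.liftAlgHom p (Algebra.ofId R S) x (by simpa [aeval_def] using hp)
    have hφ : ∀ f, φ (AdjoinRoot.mk p f) = aeval x f := fun f => by simp [φ, aeval_def]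
    letI : Algebra (AdjoinRoot p) T := ((algebraMap S T).comp φ.toRingHom).toAlgebra
    haveI : IsScalarTower R (AdjoinRoot p) T := IsScalarTower.of_algebraMap_eq fun r => by
      show algebraMap R T r = algebraMap S T (φ (algebraMap R (AdjoinRoot p) r))
      rw [φ.commutes, ← IsScalarTower.algebraMap_apply]
    let c : AdjoinRoot p := algebraMap R _ p.leadingCoeff
    have hφc : φ c = algebraMap R S p.leadingCoeff := φ.commutes _
    haveI : IsLocalization.Away c T := by
      refine IsLocalization.Away.mk _ ?_ (fun z => ?_) fun a b hab => ?_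
      · show IsUnit (algebraMap S T (φ c))
        rw [hφc]; exact IsLocalization.Away.algebraMap_isUnit _
      · obtain ⟨n, a, ha⟩ := IsLocalization.Away.surj (algebraMap R S p.leadingCoeff) z
        obtain ⟨f, rfl⟩ := hsurj a
        refine ⟨n, AdjoinRoot.mk p f, ?_⟩
        show z * (algebraMap S T (φ c)) ^ n = algebraMap S T (φ (AdjoinRoot.mk p f))
        rw [hφc, hφ, ha]
      · have hab' : algebraMap S T (φ a) = algebraMap S T (φ b) := hab
        obtain ⟨n, hn⟩ := IsLocalization.Away.exists_of_eq (algebraMap R S p.leadingCoeff) hab'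
        obtain ⟨f, hf⟩ := AdjoinRoot.mk_surjective (a - b)
        have h0 : aeval x (C p.leadingCoeff ^ n * f) = 0 := by
          rw [map_mul, map_pow, aeval_C, ← hφ f, hf, map_sub, mul_sub, hn, sub_self]
        obtain ⟨k, hk⟩ := hker _ h0
        refine ⟨k + n, ?_⟩
        have h1 : c ^ (k + n) * (a - b) = 0 := by
          rw [← hf, show c = AdjoinRoot.mk p (C p.leadingCoeff) from rfl, ← map_pow, ← map_mul,
            AdjoinRoot.mk_eq_zero, pow_add, mul_assoc]
          exact hk
        rwa [mul_sub, sub_eq_zero] at h1
    exact Algebra.FinitePresentation.of_isLocalizationAway c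

theorem combine (R A S : Type u) [CommRing R] [CommRing A] [CommRing S] [Algebra R A] [Algebra R S]
    [Algebra A S] [IsScalarTower R A S] (c : A) (g : S)
    (hc : Algebra.FinitePresentation R (Localization.Away c))
    (hg : Algebra.FinitePresentation A (Localization.Away g)) :
    Algebra.FinitePresentation R (Localization.Away (g * algebraMap A S c)) := by
  let T := Localization.Away (algebraMap A (Localization.Away g) c)
  haveI : IsLocalization.Away (algebraMap S (Localization.Away g) (algebraMap A S c)) T := by
    rw [← IsScalarTower.algebraMap_apply]; infer_instance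
  haveI : IsLocalization.Away (g * algebraMap A S c) T := IsLocalization.Away.mul' (Localization.Away g) T _ _
  haveI : Algebra.FinitePresentation A T :=
    Algebra.FinitePresentation.of_isLocalizationAway (algebraMap A (Localization.Away g) c)
  let ψ : Localization.Away c →+* T := IsLocalization.Away.lift (g := algebraMap A T) c (by
    rw [IsScalarTower.algebraMap_apply A (Localization.Away g) T]
    exact IsLocalization.Away.algebraMap_isUnit _)
  letI : Algebra (Localization.Away c) T := ψ.toAlgebra
  haveI : IsScalarTower A (Localization.Away c) T :=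
    IsScalarTower.of_algebraMap_eq fun a => (IsLocalization.Away.lift_eq c _ a).symm
  haveI : IsScalarTower R (Localization.Away c) T := IsScalarTower.of_algebraMap_eq fun r => by
    rw [IsScalarTower.algebraMap_apply R A T, IsScalarTower.algebraMap_apply R A (Localization.Away c),
      ← IsScalarTower.algebraMap_apply A (Localization.Away c) T]
  haveI : Algebra.FinitePresentation (Localization.Away c) T :=
    Algebra.FinitePresentation.of_restrict_scalars_finitePresentation A (Localization.Away c) T
  haveI : Algebra.FinitePresentation R T := Algebra.FinitePresentation.trans R (Localization.Away c) T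
  let e : T ≃ₐ[S] Localization.Away (g * algebraMap A S c) :=
    IsLocalization.algEquiv (Submonoid.powers (g * algebraMap A S c)) _ _
  exact Algebra.FinitePresentation.equiv (e.restrictScalars R)

theorem main (n : ℕ) : ∀ (R S : Type u) [CommRing R] [IsDomain R] [CommRing S] [IsDomain S] [Algebra R S],
    Function.Injective (algebraMap R S) → ∀ x : Fin n → S, Algebra.adjoin R (Set.range x) = ⊤ →
      ∃ g : S, g ≠ 0 ∧ Algebra.FinitePresentation R (Localization.Away g) := by
  classical
  induction n with
  | zero =>
    intro R S _ _ _ _ _ hinj x hx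
    have : Function.Surjective (Algebra.ofId R S) := fun y => by
      have hy : y ∈ Algebra.adjoin R (Set.range x) := hx ▸ Algebra.mem_top
      rw [Set.range_eq_empty, Algebra.adjoin_empty, Algebra.mem_bot] at hy
      exact hy
    haveI : Algebra.FinitePresentation R S :=
      Algebra.FinitePresentation.equiv (AlgEquiv.ofBijective (Algebra.ofId R S) ⟨hinj, this⟩)
    exact ⟨1, one_ne_zero, inferInstance⟩
  | succ n ih =>
    intro R S _ _ _ _ _ hinj x hx
    let A := Algebra.adjoin R ((({x 0} : Finset S)) : Set S)
    have hA : Algebra.adjoin R ({⟨x 0, Algebra.subset_adjoin (Finset.mem_coe.2 (Finset.mem_singleton_self _))⟩} : Set A) = ⊤ := by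
      refine eq_top_iff.2 fun y _ => ?_
      obtain ⟨y, hy⟩ := y
      obtain ⟨f, hf⟩ : ∃ f : R[X], aeval (x 0) f = y := by
        have hy' := hy
        simp only [A, Finset.coe_singleton, Algebra.adjoin_singleton_eq_range_aeval] at hy'
        exact hy'
      rw [Algebra.adjoin_singleton_eq_range_aeval]
      exact ⟨f, Subtype.ext ((Polynomial.aeval_algHom_apply A.val _ f).symm.trans hf)⟩
    have hinjA : Function.Injective (algebraMap R A) := fun a b h => hinj (congrArg Subtype.val h)
    obtain ⟨c, hc, hcfp⟩ := monogenic R A hinjA _ hA
    have hx' : Algebra.adjoin A (Set.range fun i : Fin n => x i.succ) = ⊤ := by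
      refine eq_top_iff.2 fun y _ => ?_
      have hy : y ∈ Algebra.adjoin R (Set.range x) := hx ▸ Algebra.mem_top
      have hle : Algebra.adjoin R (Set.range x) ≤
          (Algebra.adjoin A (Set.range fun i : Fin n => x i.succ)).restrictScalars R := by
        refine Algebra.adjoin_le ?_
        rintro _ ⟨i, rfl⟩
        induction i using Fin.cases with
        | zero =>
          let a0 : A := ⟨x 0, Algebra.subset_adjoin (Finset.mem_coe.2 (Finset.mem_singleton_self _))⟩
          have h0 : algebraMap A S a0 = x 0 := rfl
          show x 0 ∈ Algebra.adjoin A (Set.range fun i : Fin n => x i.succ)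
          exact h0 ▸ Subalgebra.algebraMap_mem _ a0
        | succ i =>
          show x i.succ ∈ Algebra.adjoin A (Set.range fun i : Fin n => x i.succ)
          exact Algebra.subset_adjoin (Set.mem_range_self (f := fun i : Fin n => x i.succ) i)
      exact hle hy
    obtain ⟨g, hg, hgfp⟩ := ih A S (fun a b h => Subtype.ext h) _ hx'
    have hc' : algebraMap A S c ≠ 0 := fun h => hc (Subtype.ext h)
    exact ⟨g * algebraMap A S c, mul_ne_zero hg hc', combine R A S c g hcfp hgfp⟩

/-- Let `R → S` be an injective ring map of finite type between domains. Then there are nonzero `f ∈ R`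
and `g ∈ S` such that `S_{fg}` is a finitely presented `R_f`-algebra. -/
theorem result {R S : Type u} [CommRing R] [IsDomain R] [CommRing S] [IsDomain S]
    [Algebra R S] [Algebra.FiniteType R S] (hinj : Function.Injective (algebraMap R S)) :
    ∃ (f : R) (g : S), f ≠ 0 ∧ g ≠ 0 ∧
      ∀ (Rf Sfg : Type u) [CommRing Rf] [CommRing Sfg] [Algebra R Rf] [IsLocalization.Away f Rf]
        [Algebra S Sfg] [IsLocalization.Away (algebraMap R S f * g) Sfg] [Algebra Rf Sfg] [Algebra R Sfg]
        [IsScalarTower R S Sfg] [IsScalarTower R Rf Sfg], Algebra.FinitePresentation Rf Sfg := by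
  classical
  obtain ⟨s, hs⟩ := (inferInstance : Algebra.FiniteType R S).out
  obtain ⟨g, hg, hfp⟩ := main s.card R S hinj (fun i => (s.equivFin.symm i : S)) (by
    rw [← hs]; congr 1; ext x
    exact ⟨fun ⟨i, hi⟩ => hi ▸ (s.equivFin.symm i).2, fun hx => ⟨s.equivFin ⟨x, hx⟩, by simp⟩⟩)
  refine ⟨1, g, one_ne_zero, hg, fun Rf Sfg => ?_⟩
  intros
  haveI : IsLocalization.Away g Sfg := by
    have h : IsLocalization.Away (algebraMap R S 1 * g) Sfg := inferInstance
    simpa using h
  let e : Localization.Away g ≃ₐ[S] Sfg := IsLocalization.algEquiv (Submonoid.powers g) _ _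
  haveI : Algebra.FinitePresentation R Sfg := Algebra.FinitePresentation.equiv (e.restrictScalars R)
  haveI : Algebra.FiniteType R Rf := IsLocalization.finiteType_of_monoid_fg (Submonoid.powers (1 : R)) Rf
  exact Algebra.FinitePresentation.of_restrict_scalars_finitePresentation R Rf Sfg

end Groth.Agent.S2140
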