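import Groth.Statements.S2143
import Groth.Agent.FibreDim.BaseChange

set_option autoImplicit false
universe u
open CAlg

namespace Groth.Agent.S2143

/-- (1) = (3): let `S` be of finite type over a field `k` and `𝔭` a prime of `S`. The local dimension of
`Spec S` at `𝔭` is the infimum of `dim S_𝔪` over the maximal ideals `𝔪 ⊇ 𝔭`. -/
theorem result {k S : Type u} [Field k] [CommRing S] [Algebra k S] [Algebra.FiniteType k S]
    (p : Ideal S) [p.IsPrime] :
    FlatMor.localDim (PrimeSpectrum S) ⟨p, inferInstance⟩ =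
      ⨅ m : {m : Ideal S // m.IsMaximal ∧ p ≤ m}, ringKrullDim (Localization.AtPrime (hp := m.2.1.isPrime') m.1) := by
  open AlgebraicGeometry CategoryTheory TopologicalSpace in
    let str := Spec.map (CommRingCat.ofHom (algebraMap k S))
    have hstr : LocallyOfFiniteType str := (HasRingHomProperty.Spec_iff (P := @LocallyOfFiniteType)).mpr
      (RingHom.finiteType_algebraMap.mpr ‹_›)
    letI : (Spec (CommRingCat.of S)).Over (Spec (CommRingCat.of k)) := ⟨str⟩
    haveI : LocallyOfFiniteType ((Spec (CommRingCat.of S)) ↘ Spec (CommRingCat.of k)) := hstr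
    have hmax : ∀ (m : Ideal S) [m.IsMaximal], FlatMor.localDim (PrimeSpectrum S) ⟨m, inferInstance⟩ =
        ringKrullDim (Localization.AtPrime m) := fun m hm => by
      have h := Groth.VarietyBC.localDim_eq_height_add k (X := Spec (CommRingCat.of S)) ⟨m, inferInstance⟩
      refine h.trans ?_
      rw [Groth.FibreDim.height_spec_eq (⟨m, inferInstance⟩ : PrimeSpectrum S)]
      letI := Ideal.Quotient.field m
      rw [ringKrullDim_eq_zero_of_field, zero_add]
      exact ringKrullDim_eq_of_ringEquiv (StructureSheaf.stalkIso S ⟨m, inferInstance⟩).toRingEquiv.symm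
    refine le_antisymm (le_iInf fun m => ?_) ?_
    · haveI := m.2.1
      rw [← hmax m.1]
      obtain ⟨U, hU, hd⟩ := Groth.SpectralTopology.exists_localDim_eq (⟨m.1, inferInstance⟩ : PrimeSpectrum S)
      rw [← hd]
      exact Groth.SpectralTopology.localDim_le_of_mem
        (((PrimeSpectrum.le_iff_specializes ⟨p, inferInstance⟩ ⟨m.1, inferInstance⟩).1 m.2.2).mem_open U.isOpen hU)
    · obtain ⟨U, hU, hd⟩ := Groth.SpectralTopology.exists_localDim_eq (⟨p, inferInstance⟩ : PrimeSpectrum S)
      haveI : IsJacobsonRing S := isJacobsonRing_of_finiteType (A := k)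
      obtain ⟨m, ⟨hmU, hmp⟩, hmc⟩ := nonempty_inter_closedPoints
        (Z := (U : Set (PrimeSpectrum S)) ∩ closure {(⟨p, inferInstance⟩ : PrimeSpectrum S)})
        ⟨_, hU, subset_closure rfl⟩ (U.isOpen.isLocallyClosed.inter isClosed_closure.isLocallyClosed)
      haveI : m.asIdeal.IsMaximal := (PrimeSpectrum.isClosed_singleton_iff_isMaximal m).1 hmc
      refine (iInf_le _ ⟨m.asIdeal, inferInstance,
        (PrimeSpectrum.le_iff_specializes ⟨p, inferInstance⟩ m).2 (specializes_iff_mem_closure.2 hmp)⟩).trans ?_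
      rw [← hmax m.asIdeal, ← hd]
      exact Groth.SpectralTopology.localDim_le_of_mem hmU

end Groth.Agent.S2143
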