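import Groth.Statements.S2144
import Mathlib
import Groth.Agent.GitQuot.FppfSource
-- import your own Groth.Agent.* helpers here

set_option autoImplicit false
universe u
open CAlg

namespace Groth.Agent.S2144

open TensorProduct in
theorem comap_surjective_baseChange {Z A₀ C₀ : Type u} [CommRing Z] [CommRing A₀] [CommRing C₀] [Algebra Z A₀] [Algebra Z C₀]
    (J : Ideal Z) (hJ : ∀ p : PrimeSpectrum Z, ¬ J ≤ p.asIdeal → p ∈ Set.range (PrimeSpectrum.comap (algebraMap Z C₀)))
    (hJA : J.map (algebraMap Z A₀) = ⊤) :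
    Function.Surjective (PrimeSpectrum.comap (algebraMap A₀ (A₀ ⊗[Z] C₀))) := by
  intro q
  let q₀ : PrimeSpectrum Z := PrimeSpectrum.comap (algebraMap Z A₀) q
  have hq₀ : q₀ ∈ Set.range (PrimeSpectrum.comap (algebraMap Z C₀)) := hJ q₀ fun hle => q.2.ne_top (top_le_iff.1 (by
    rw [← hJA]; exact Ideal.map_le_iff_le_comap.2 hle))
  rw [← PrimeSpectrum.nontrivial_iff_mem_rangeComap] at hq₀
  letI : Algebra q₀.asIdeal.ResidueField q.asIdeal.ResidueField :=
    (Ideal.ResidueField.map q₀.asIdeal q.asIdeal (algebraMap Z A₀) rfl).toAlgebra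
  haveI : IsScalarTower Z q₀.asIdeal.ResidueField q.asIdeal.ResidueField :=
    IsScalarTower.of_algebraMap_eq fun z => by
      exact (IsScalarTower.algebraMap_apply Z A₀ q.asIdeal.ResidueField z).trans
        (Ideal.ResidueField.map_algebraMap (I := q₀.asIdeal) (J := q.asIdeal) (f := algebraMap Z A₀) (hf := rfl) z).symm
  haveI := hq₀
  haveI : Nontrivial (q.asIdeal.ResidueField ⊗[q₀.asIdeal.ResidueField] (q₀.asIdeal.ResidueField ⊗[Z] C₀)) :=
    Module.FaithfullyFlat.lTensor_nontrivial _ _ _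
  haveI : Nontrivial (q.asIdeal.ResidueField ⊗[Z] C₀) :=
    (Algebra.TensorProduct.cancelBaseChange Z q₀.asIdeal.ResidueField q₀.asIdeal.ResidueField q.asIdeal.ResidueField C₀).symm.toEquiv.nontrivial
  haveI : Nontrivial (q.asIdeal.ResidueField ⊗[A₀] (A₀ ⊗[Z] C₀)) :=
    (Algebra.TensorProduct.cancelBaseChange Z A₀ A₀ q.asIdeal.ResidueField C₀).toEquiv.nontrivial
  exact (PrimeSpectrum.nontrivial_iff_mem_rangeComap q).1 this

open TensorProduct in
theorem exists_fp_cover (K : Type) {R Q A : Type u} [CommRing K] [CommRing R] [CommRing Q] [CommRing A] [Algebra K R]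
    [Algebra K Q] [Algebra.FinitePresentation K Q] [Algebra R A] (ψ : Q →+* A)
    (h : ψ.comp (algebraMap K Q) = (algebraMap R A).comp (algebraMap K R)) :
    ∃ (A₀ : Type u) (_ : CommRing A₀) (_ : Algebra R A₀), Algebra.FinitePresentation R A₀ ∧
      ∃ (ρ : Q →+* A₀) (Φ : A₀ →ₐ[R] A), Φ.toRingHom.comp ρ = ψ := by
  letI : Algebra K A := ((algebraMap R A).comp (algebraMap K R)).toAlgebra
  haveI : IsScalarTower K R A := IsScalarTower.of_algebraMap_eq fun _ => rfl
  let ψ' : Q →ₐ[K] A := { ψ with commutes' := fun k => RingHom.congr_fun h k }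
  exact ⟨R ⊗[K] Q, inferInstance, inferInstance, inferInstance, (Algebra.TensorProduct.includeRight : Q →ₐ[K] _).toRingHom,
    Algebra.TensorProduct.lift (Algebra.ofId R A) ψ' fun _ _ => Commute.all _ _,
    RingHom.ext fun q => by simp [ψ']⟩

open TensorProduct in
/-- Let `R → A → B` be ring maps with `A → B` faithfully flat and of finite presentation. Then there are
an `R`-algebra `A₀` of finite presentation mapping to `A` and a faithfully flat finitely presented
`A₀`-algebra `B₀` with `B ≅ A ⊗_{A₀} B₀` as `A`-algebras. -/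
theorem result {R A B : Type u} [CommRing R] [CommRing A] [CommRing B] [Algebra R A]
    [Algebra A B] [Algebra.FinitePresentation A B] [Module.FaithfullyFlat A B] :
    ∃ (A₀ B₀ : Type u) (_ : CommRing A₀) (_ : CommRing B₀) (_ : Algebra R A₀) (_ : Algebra A₀ A) (_ : IsScalarTower R A₀ A)
      (_ : Algebra A₀ B₀), Algebra.FinitePresentation R A₀ ∧ Algebra.FinitePresentation A₀ B₀ ∧ Module.FaithfullyFlat A₀ B₀ ∧
      Nonempty (B ≃ₐ[A] A ⊗[A₀] B₀) := by
  classical
  obtain ⟨Z, _, _, C₀, _, _, hflat, hfp, hZ, ⟨e⟩⟩ := Groth.GitQuot.FppfSource.exists_flat_model A B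
  obtain ⟨J, hJ⟩ := Groth.DescentBase.exists_ideal_range Z C₀
  have htop := Groth.GitQuot.FppfSource.map_eq_top_of_ff A B e J (fun p hp => (hJ p).mp hp)
  haveI : IsNoetherianRing Z := Algebra.FiniteType.isNoetherianRing ℤ Z
  obtain ⟨m, g, hg⟩ := Submodule.fg_iff_exists_fin_generating_family.1 (IsNoetherian.noetherian J)
  have h1 : (1 : A) ∈ Ideal.span (Set.range (algebraMap Z A ∘ g)) := by
    rw [Set.range_comp, ← Ideal.map_span]
    show (1 : A) ∈ Ideal.map (algebraMap Z A) (Submodule.span Z (Set.range g))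
    rw [hg, htop]; trivial
  obtain ⟨w, hw⟩ := (Submodule.mem_span_range_iff_exists_fun A).1 h1
  let I : Ideal (MvPolynomial (Fin m) Z) :=
    Ideal.span {(∑ i, MvPolynomial.X i * MvPolynomial.C (g i)) - 1}
  let ψ : (MvPolynomial (Fin m) Z ⧸ I) →ₐ[Z] A := Ideal.Quotient.liftₐ I (MvPolynomial.aeval w) (fun z hz => by
    obtain ⟨c, rfl⟩ := Ideal.mem_span_singleton.1 hz
    have : (∑ i, w i * algebraMap Z A (g i)) = 1 := by simpa [smul_eq_mul] using hw
    rw [map_mul, map_sub, map_sum, map_one]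
    simp [this])
  let Q := MvPolynomial (Fin m) Z ⧸ I
  haveI : Algebra.FiniteType ℤ Q := Algebra.FiniteType.trans hZ (inferInstance : Algebra.FiniteType Z Q)
  haveI : Algebra.FinitePresentation ℤ Q := Algebra.FinitePresentation.of_finiteType.1 inferInstance
  obtain ⟨A₀, _, _, hA₀, ρ, Φ, hΦ⟩ := exists_fp_cover ℤ (R := R) ψ.toRingHom (RingHom.ext_int _ _)
  letI : Algebra A₀ A := Φ.toRingHom.toAlgebra
  haveI : IsScalarTower R A₀ A := IsScalarTower.of_algebraMap_eq fun r => (Φ.commutes r).symm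
  letI : Algebra Z A₀ := (ρ.comp (algebraMap Z Q)).toAlgebra
  haveI : IsScalarTower Z A₀ A := IsScalarTower.of_algebraMap_eq fun z => by
    show _ = Φ (ρ (algebraMap Z Q z))
    exact (ψ.commutes z).symm.trans (RingHom.congr_fun hΦ _).symm
  have hJA : J.map (algebraMap Z A₀) = ⊤ := by
    rw [Ideal.eq_top_iff_one]
    let incl : Q →+* A₀ := ρ
    have h2 : (∑ i, incl (Ideal.Quotient.mk I (MvPolynomial.X i)) * algebraMap Z A₀ (g i)) = 1 := by
      rw [← map_one incl, ← map_one (Ideal.Quotient.mk I)]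
      show ∑ i, _ * incl (Ideal.Quotient.mk I (MvPolynomial.C (g i))) = _
      simp only [← map_mul, ← map_sum]
      congr 1
      rw [Ideal.Quotient.eq]
      exact Ideal.mem_span_singleton_self _
    rw [← h2]
    exact Ideal.sum_mem _ fun i _ => Ideal.mul_mem_left _ _ (Ideal.mem_map_of_mem _ (hg ▸ Submodule.subset_span ⟨i, rfl⟩))
  haveI : Module.FaithfullyFlat A₀ (A₀ ⊗[Z] C₀) :=
    Module.FaithfullyFlat.of_comap_surjective (comap_surjective_baseChange J (fun p => (hJ p).mpr) hJA)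
  exact ⟨A₀, A₀ ⊗[Z] C₀, inferInstance, inferInstance, inferInstance, inferInstance, inferInstance, inferInstance,
    inferInstance, inferInstance, inferInstance,
    ⟨e.trans (Algebra.TensorProduct.cancelBaseChange Z A₀ A A C₀).symm⟩⟩

end Groth.Agent.S2144
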