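import Groth.Statements.S2145
import Groth.Agent.Calg2.SpreadAlg

set_option autoImplicit false
universe u
open CAlg

namespace Groth.Agent.S2145

open Groth.Calg2.SpreadAlg

theorem exists_iso {R S T : Type u} [CommRing R] [CommRing S] [CommRing T] [Algebra R S]
    [Algebra R T] [Algebra.FinitePresentation R S] [Algebra.FinitePresentation R T] (q : Ideal S) [q.IsPrime]
    (q' : Ideal T) [q'.IsPrime] (e : Localization.AtPrime q ≃ₐ[R] Localization.AtPrime q') :
    ∃ (g : S) (g' : T), g ∉ q ∧ g' ∉ q' ∧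
      Nonempty (Localization.Away g ≃ₐ[R] Localization.Away g') := by
  obtain ⟨g₀, hg₀, ψ₀, hψ₀⟩ := exists_lift (T := T) (q := q')
    (e.toAlgHom.comp (IsScalarTower.toAlgHom R S _))
  obtain ⟨h, hh, χ, hχ⟩ := exists_lift (T := S) (q := q)
    (e.symm.toAlgHom.comp (IsScalarTower.toAlgHom R T _))
  -- step 1
  have hue : ∀ g : S, g ∉ q → IsUnit (e (algebraMap S _ g)) := fun g hg =>
    (IsLocalization.map_units (Localization.AtPrime q) (⟨g, hg⟩ : q.primeCompl)).map e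
  obtain ⟨b₁, m₁, hb₁, hnum₁⟩ := exists_num hg₀ (ψ₀ h) (by rw [hψ₀]; exact hue h hh)
  have hu₁ := fun k hk hbk => isUnit_res_of_num (k := k) hnum₁ hk hbk
  let g₁ := g₀ * b₁
  have hg₁ : g₁ ∉ q' := q'.primeCompl.mul_mem hg₀ hb₁
  have d₁ : g₀ ∣ g₁ := dvd_mul_right _ _
  let ψ₁ : S →ₐ[R] Localization.Away g₁ := ((res d₁).restrictScalars R).comp ψ₀
  have hψ₁ : ∀ s, toStalk hg₁ (ψ₁ s) = e (algebraMap S _ s) := fun s =>
    (toStalk_res d₁ hg₁ hg₀ _).trans (hψ₀ s)
  let ψ₁' : Localization.Away h →ₐ[R] Localization.Away g₁ :=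
    IsLocalization.liftAlgHom (M := Submonoid.powers h) (f := ψ₁) (by
      rintro ⟨_, m, rfl⟩
      rw [map_pow]
      exact (hu₁ g₁ d₁ (dvd_mul_left _ _)).pow m)
  have hψ₁' : ∀ x, toStalk hg₁ (ψ₁' x) = e (toStalk hh x) := by
    intro x
    have : ((toStalk hg₁).restrictScalars R).comp ψ₁' =
        e.toAlgHom.comp ((toStalk hh).restrictScalars R) := by
      refine IsLocalization.algHom_ext (Submonoid.powers h) (AlgHom.ext fun s => ?_)
      change toStalk hg₁ (ψ₁' (algebraMap S _ s)) = e (toStalk hh (algebraMap S _ s))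
      rw [AlgHom.commutes, show ψ₁' (algebraMap S _ s) = ψ₁ s from IsLocalization.lift_eq _ s,
        hψ₁]
    exact DFunLike.congr_fun this x
  -- step 2: `ψ₁' ∘ χ` is the identity near `q'`
  obtain ⟨c, hc, hceq⟩ := exists_comp_eq (S := T) hg₁ (ψ₁'.comp χ)
    (IsScalarTower.toAlgHom R T (Localization.Away g₁)) (fun t => by
      change toStalk hg₁ (ψ₁' (χ t)) = toStalk hg₁ (algebraMap T _ t)
      rw [hψ₁', hχ, AlgHom.commutes]
      exact e.apply_symm_apply _)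
  let g₂ := g₁ * c
  have hg₂ : g₂ ∉ q' := q'.primeCompl.mul_mem hg₁ hc
  have d₂ : g₁ ∣ g₂ := dvd_mul_right _ _
  let ψ₂ : S →ₐ[R] Localization.Away g₂ := ((res d₂).restrictScalars R).comp ψ₁
  have hψ₂ : ∀ s, toStalk hg₂ (ψ₂ s) = e (algebraMap S _ s) := fun s =>
    (toStalk_res d₂ hg₂ hg₁ _).trans (hψ₁ s)
  -- step 3: shrink `D(h)`
  obtain ⟨n₁, m₂, hn₁, hnum₂⟩ := exists_num hh (χ g₂) (by
    rw [hχ]
    exact (IsLocalization.map_units (Localization.AtPrime q') (⟨g₂, hg₂⟩ : q'.primeCompl)).map e.symm)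
  have hu₂ := fun k hk hbk => isUnit_res_of_num (k := k) hnum₂ hk hbk
  let h₁ := h * n₁
  have hh₁ : h₁ ∉ q := q.primeCompl.mul_mem hh hn₁
  have e₁ : h ∣ h₁ := dvd_mul_right _ _
  let χ₁ : T →ₐ[R] Localization.Away h₁ := ((res e₁).restrictScalars R).comp χ
  have hχ₁ : ∀ t, toStalk hh₁ (χ₁ t) = e.symm (algebraMap T _ t) := fun t =>
    (toStalk_res e₁ hh₁ hh _).trans (hχ t)
  let χ₁' : Localization.Away g₂ →ₐ[R] Localization.Away h₁ :=
    IsLocalization.liftAlgHom (M := Submonoid.powers g₂) (f := χ₁) (by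
      rintro ⟨_, m, rfl⟩
      rw [map_pow]
      exact (hu₂ h₁ e₁ (dvd_mul_left _ _)).pow m)
  have hχ₁' : ∀ y, toStalk hh₁ (χ₁' y) = e.symm (toStalk hg₂ y) := by
    intro y
    have : ((toStalk hh₁).restrictScalars R).comp χ₁' =
        e.symm.toAlgHom.comp ((toStalk hg₂).restrictScalars R) := by
      refine IsLocalization.algHom_ext (Submonoid.powers g₂) (AlgHom.ext fun t => ?_)
      change toStalk hh₁ (χ₁' (algebraMap T _ t)) = e.symm (toStalk hg₂ (algebraMap T _ t))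
      rw [AlgHom.commutes, show χ₁' (algebraMap T _ t) = χ₁ t from IsLocalization.lift_eq _ t,
        hχ₁]
    exact DFunLike.congr_fun this y
  -- step 4: `χ₁' ∘ ψ₂` is the identity near `q`
  obtain ⟨c', hc', hc'eq⟩ := exists_comp_eq (S := S) hh₁ (χ₁'.comp ψ₂)
    (IsScalarTower.toAlgHom R S (Localization.Away h₁)) (fun s => by
      change toStalk hh₁ (χ₁' (ψ₂ s)) = toStalk hh₁ (algebraMap S _ s)
      rw [hχ₁', hψ₂, AlgHom.commutes]
      exact e.symm_apply_apply _)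
  let h₂ := h₁ * c'
  have hh₂ : h₂ ∉ q := q.primeCompl.mul_mem hh₁ hc'
  have e₂ : h₁ ∣ h₂ := dvd_mul_right _ _
  -- step 5
  obtain ⟨b₃, m, hb₃', hspec⟩ := exists_num hg₂ (ψ₂ h₂) (by rw [hψ₂]; exact hue h₂ hh₂)
  let g₃ := g₂ * b₃
  have hg₃ : g₃ ∉ q' := q'.primeCompl.mul_mem hg₂ hb₃'
  have d₃ : g₂ ∣ g₃ := dvd_mul_right _ _
  let Ψ₀ : S →ₐ[R] Localization.Away g₃ := ((res d₃).restrictScalars R).comp ψ₂
  let Ψ : Localization.Away h₂ →ₐ[R] Localization.Away g₃ :=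
    IsLocalization.liftAlgHom (M := Submonoid.powers h₂) (f := Ψ₀) (by
      rintro ⟨_, k, rfl⟩
      rw [map_pow]
      refine IsUnit.pow k ?_
      exact isUnit_res_of_num hspec d₃ (dvd_mul_left _ _))
  let Χ₀ : T →ₐ[R] Localization.Away h₂ := ((res e₂).restrictScalars R).comp χ₁
  have hcomp : ∀ s, res e₂ (χ₁' (ψ₂ s)) = algebraMap S (Localization.Away h₂) s := fun s =>
    (hc'eq h₂ e₂ (dvd_mul_left _ _) s).trans (AlgHom.commutes _ _)
  have hχalg : ∀ t, χ₁' (algebraMap T _ t) = χ₁ t := fun t => IsLocalization.lift_eq _ t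
  let Χ : Localization.Away g₃ →ₐ[R] Localization.Away h₂ :=
    IsLocalization.liftAlgHom (M := Submonoid.powers g₃) (f := Χ₀) (by
      rintro ⟨_, k, rfl⟩
      rw [map_pow]
      refine IsUnit.pow k ?_
      change IsUnit (Χ₀ (g₂ * b₃))
      rw [map_mul]
      refine IsUnit.mul ((hu₂ h₁ e₁ (dvd_mul_left _ _)).map (res e₂)) ?_
      change IsUnit (res e₂ (χ₁ b₃))
      have h2 := congrArg (fun y => res e₂ (χ₁' y)) hspec
      simp only [map_mul, hχalg, hcomp] at h2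
      rw [← h2]
      refine IsUnit.mul (IsLocalization.Away.algebraMap_isUnit h₂) ?_
      rw [map_pow, map_pow]
      exact ((hu₂ h₁ e₁ (dvd_mul_left _ _)).map (res e₂)).pow m)
  have hΨ : ∀ s, Ψ (algebraMap S _ s) = res d₃ (ψ₂ s) := fun s => IsLocalization.lift_eq _ s
  have hΧ : ∀ t, Χ (algebraMap T _ t) = res e₂ (χ₁ t) := fun t => IsLocalization.lift_eq _ t
  have hΧres : Χ.comp ((res d₃).restrictScalars R) = ((res e₂).restrictScalars R).comp χ₁' := by
    refine IsLocalization.algHom_ext (Submonoid.powers g₂) (AlgHom.ext fun t => ?_)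
    change Χ (res d₃ (algebraMap T _ t)) = res e₂ (χ₁' (algebraMap T _ t))
    rw [AlgHom.commutes, hΧ, hχalg]
  have hΨres : Ψ.comp (((res e₂).restrictScalars R).comp ((res e₁).restrictScalars R)) =
      ((res d₃).restrictScalars R).comp (((res d₂).restrictScalars R).comp ψ₁') := by
    refine IsLocalization.algHom_ext (Submonoid.powers h) (AlgHom.ext fun s => ?_)
    change Ψ (res e₂ (res e₁ (algebraMap S _ s))) = res d₃ (res d₂ (ψ₁' (algebraMap S _ s)))
    rw [AlgHom.commutes, AlgHom.commutes, hΨ, show ψ₁' (algebraMap S _ s) = ψ₁ s from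
      IsLocalization.lift_eq _ s]
    rfl
  refine ⟨h₂, g₃, hh₂, hg₃, ⟨AlgEquiv.ofAlgHom Ψ Χ ?_ ?_⟩⟩
  · refine IsLocalization.algHom_ext (Submonoid.powers g₃) (AlgHom.ext fun t => ?_)
    change Ψ (Χ (algebraMap T _ t)) = algebraMap T _ t
    rw [hΧ]
    refine (DFunLike.congr_fun hΨres (χ t)).trans ?_
    change res d₃ (res d₂ (ψ₁' (χ t))) = _
    rw [show res d₂ (ψ₁' (χ t)) = algebraMap T _ t from
      (hceq g₂ d₂ (dvd_mul_left _ _) t).trans (AlgHom.commutes _ _), AlgHom.commutes]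
  · refine IsLocalization.algHom_ext (Submonoid.powers h₂) (AlgHom.ext fun s => ?_)
    change Χ (Ψ (algebraMap S _ s)) = algebraMap S _ s
    rw [hΨ]
    refine (DFunLike.congr_fun hΧres (ψ₂ s)).trans (hcomp s)

/-- Let `S`, `S'` be finitely presented `R`-algebras and `𝔮 ⊆ S`, `𝔮' ⊆ S'` primes with `S_𝔮 ≅ S'_{𝔮'}`
as `R`-algebras. Then `S_g ≅ S'_{g'}` as `R`-algebras for some `g ∉ 𝔮`, `g' ∉ 𝔮'`. -/
theorem result {R S S' : Type u} [CommRing R] [CommRing S] [CommRing S'] [Algebra R S]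
    [Algebra R S'] [Algebra.FinitePresentation R S] [Algebra.FinitePresentation R S'] (q : Ideal S) [q.IsPrime]
    (q' : Ideal S') [q'.IsPrime] (e : Localization.AtPrime q ≃ₐ[R] Localization.AtPrime q') :
    ∃ (g : S) (g' : S'), g ∉ q ∧ g' ∉ q' ∧ Nonempty (Localization.Away g ≃ₐ[R] Localization.Away g') := by
  exact exists_iso q q' e

end Groth.Agent.S2145
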