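import Groth.Statements.S2146
import Groth.Agent.S2145

set_option autoImplicit false
universe u
open CAlg

namespace Groth.Agent.S2146

theorem split {R S : Type u} [CommRing R] [CommRing S] [Algebra R S] (f : R) (g : S)
    (e : Localization.Away g ≃ₐ[R] Localization.Away f)
    (Rf Sf : Type u) [CommRing Rf] [CommRing Sf] [Algebra R Rf] [IsLocalization.Away f Rf]
    [Algebra S Sf] [IsLocalization.Away (algebraMap R S f) Sf] [Algebra Rf Sf] [Algebra R Sf]
    [IsScalarTower R S Sf] [IsScalarTower R Rf Sf] :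
    ∃ (C : Type u) (_ : CommRing C) (_ : Algebra Rf C), Nonempty (Sf ≃ₐ[Rf] (Rf × C)) := by
  let ε : Localization.Away g ≃ₐ[R] Rf :=
    e.trans (IsLocalization.algEquiv (Submonoid.powers f) (Localization.Away f) Rf)
  let π : S →ₐ[R] Rf := ε.toAlgHom.comp (IsScalarTower.toAlgHom R S (Localization.Away g))
  let σ₀ : Sf →ₐ[R] Rf := IsLocalization.liftAlgHom (M := Submonoid.powers (algebraMap R S f))
    (f := π) (by
      rintro ⟨_, n, rfl⟩
      rw [map_pow, AlgHom.commutes]
      exact (IsLocalization.Away.algebraMap_isUnit f).pow n)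
  let σ : Sf →ₐ[Rf] Rf :=
    { σ₀.toRingHom with
      commutes' := fun r => by
        have : σ₀.comp (IsScalarTower.toAlgHom R Rf Sf) = AlgHom.id R Rf :=
          IsLocalization.algHom_ext (Submonoid.powers f) (Subsingleton.elim _ _)
        exact DFunLike.congr_fun this r }
  have hσ : ∀ s, σ (algebraMap S Sf s) = ε (algebraMap S _ s) := fun s =>
    IsLocalization.lift_eq _ s
  -- the kernel of `σ` is killed by a power of `g`
  let g' := algebraMap S Sf g
  have hker : ∀ x, σ x = 0 → ∃ N : ℕ, g' ^ N * x = 0 := by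
    intro x hx
    obtain ⟨⟨s, t⟩, hst⟩ := IsLocalization.surj (Submonoid.powers (algebraMap R S f)) x
    have h1 : σ (algebraMap S Sf s) = 0 := by rw [← hst, map_mul, hx, zero_mul]
    rw [hσ, EmbeddingLike.map_eq_zero_iff] at h1
    obtain ⟨⟨_, N, rfl⟩, hN⟩ :=
      (IsLocalization.map_eq_zero_iff (Submonoid.powers g) _ _).1 h1
    refine ⟨N, (IsLocalization.map_units Sf t).mul_left_eq_zero.1 ?_⟩
    rw [mul_assoc, hst, ← map_pow, ← map_mul]
    exact (congrArg _ hN).trans (map_zero _)
  have hgu : IsUnit (σ g') := by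
    rw [hσ]; exact (IsLocalization.Away.algebraMap_isUnit g).map ε
  obtain ⟨u, hu⟩ := hgu
  let y : Sf := algebraMap Rf Sf ↑u⁻¹
  obtain ⟨n, hn⟩ := hker (g' * y - 1) (by
    rw [map_sub, map_mul, map_one, ← hu, AlgHom.commutes]
    exact sub_eq_zero.2 u.mul_inv)
  rw [mul_sub, mul_one, sub_eq_zero] at hn
  have hpow : ∀ j : ℕ, g' ^ n * (g' * y) ^ j = g' ^ n := by
    intro j
    induction j with
    | zero => rw [pow_zero, mul_one]
    | succ j ih => rw [pow_succ, ← mul_assoc, ih, hn]
  let E : Sf := (g' * y) ^ n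
  have hEE : IsIdempotentElem E := by
    change (g' * y) ^ n * (g' * y) ^ n = (g' * y) ^ n
    nth_rw 1 [mul_pow]
    rw [mul_assoc, mul_comm (y ^ n), ← mul_assoc, hpow, ← mul_pow]
  have hσE : σ E = 1 := by
    rw [map_pow, map_mul, ← hu, AlgHom.commutes]
    change ((u : Rf) * ↑u⁻¹) ^ n = 1
    rw [Units.mul_inv, one_pow]
  have hEx : ∀ x, σ x = 0 → E * x = 0 := by
    intro x hx
    obtain ⟨N, hN⟩ := hker x hx
    have hE' : E = g' ^ n * y ^ n := mul_pow _ _ _
    have : E ^ (N + 1) = E := IsIdempotentElem.pow_succ_eq N hEE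
    rw [← this, hE', mul_pow, ← pow_mul, mul_right_comm,
      show n * (N + 1) = n * (N + 1) from rfl]
    rcases Nat.eq_zero_or_pos n with h0 | h0
    · subst h0
      have hone : (1 : Sf) = g' * y := by simpa using hn.symm
      have : x = (g' * y) ^ N * x := by rw [← hone, one_pow, one_mul]
      rw [this, mul_pow]
      rw [show g' ^ N * y ^ N * x = y ^ N * (g' ^ N * x) by ring, hN]
      simp
    · obtain ⟨c, hc⟩ : ∃ c, n * (N + 1) = N + c :=
        ⟨n * (N + 1) - N, (Nat.add_sub_cancel' (by nlinarith)).symm⟩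
      rw [hc, pow_add, mul_right_comm (g' ^ N), hN, zero_mul, zero_mul]
  let I : Ideal Sf := Ideal.span {E}
  refine ⟨Sf ⧸ I, inferInstance, inferInstance, ⟨AlgEquiv.ofBijective (σ.prod (Ideal.Quotient.mkₐ Rf I)) ⟨?_, ?_⟩⟩⟩
  · rw [injective_iff_map_eq_zero]
    intro x hx
    have h1 : σ x = 0 := congrArg Prod.fst hx
    have h2 : Ideal.Quotient.mk I x = 0 := congrArg Prod.snd hx
    rw [Ideal.Quotient.eq_zero_iff_mem, Ideal.mem_span_singleton'] at h2
    obtain ⟨z, rfl⟩ := h2
    rw [← hEE.eq, ← mul_assoc, mul_comm _ E]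
    exact hEx _ h1
  · rintro ⟨a, c⟩
    obtain ⟨t, rfl⟩ := Ideal.Quotient.mk_surjective c
    refine ⟨E * algebraMap Rf Sf a + (1 - E) * t, Prod.ext ?_ ?_⟩
    · change σ (E * algebraMap Rf Sf a + (1 - E) * t) = a
      rw [map_add, map_mul, map_mul, map_sub, map_one, hσE, AlgHom.commutes, one_mul, sub_self,
        zero_mul, add_zero]
      rfl
    · refine (Ideal.Quotient.mk_eq_mk_iff_sub_mem _ _).2 (Ideal.mem_span_singleton'.2
        ⟨algebraMap Rf Sf a - t, ?_⟩)
      ring

/-- Let `S` be a finitely presented `R`-algebra and `𝔮` a prime of `S` over `𝔭` such that the induced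
map `R_𝔭 → S_𝔮` is bijective. Then for some `f ∉ 𝔭` there is an `R_f`-algebra `C` with `S_f ≅ R_f ×
C` as `R_f`-algebras. -/
theorem result {R S : Type u} [CommRing R] [CommRing S] [Algebra R S]
    [Algebra.FinitePresentation R S] (q : Ideal S) [q.IsPrime] (p : Ideal R) [p.IsPrime] [q.LiesOver p]
    (h : Function.Bijective (Localization.localRingHom p q (algebraMap R S) (q.over_def p))) :
    ∃ f : R, f ∉ p ∧ ∀ (Rf Sf : Type u) [CommRing Rf] [CommRing Sf] [Algebra R Rf] [IsLocalization.Away f Rf]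
      [Algebra S Sf] [IsLocalization.Away (algebraMap R S f) Sf] [Algebra Rf Sf] [Algebra R Sf] [IsScalarTower R S Sf]
      [IsScalarTower R Rf Sf],
      ∃ (C : Type u) (_ : CommRing C) (_ : Algebra Rf C), Nonempty (Sf ≃ₐ[Rf] (Rf × C)) := by
  let φ : Localization.AtPrime p ≃ₐ[R] Localization.AtPrime q :=
    AlgEquiv.ofBijective { Localization.localRingHom p q (algebraMap R S) (q.over_def p) with
      commutes' := fun r => by
        refine (Localization.localRingHom_to_map _ _ _ _ r).trans ?_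
        exact (IsScalarTower.algebraMap_apply R S (Localization.AtPrime q) r).symm } h
  obtain ⟨g, f, _, hf, ⟨e⟩⟩ := Groth.Agent.S2145.exists_iso (R := R) (S := S) (T := R) q p φ.symm
  refine ⟨f, hf, fun Rf Sf => ?_⟩
  intros
  exact split f g e Rf Sf

end Groth.Agent.S2146
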