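import Groth.Statements.S2147
import Groth.Agent.Limits.ProperApprox

set_option autoImplicit false
universe u
open CategoryTheory AlgebraicGeometry
open Lim

namespace Groth.Agent.S2147

/-- Let `f : X → S` be proper with `S` quasi-compact and quasi-separated. Then `f` is a limit of proper
morphisms `f_i : X_i → S_i` with `S_i` of finite type over `ℤ`: there are cofiltered diagrams of
schemes `X_i`, `S_i` with affine transition morphisms, a natural transformation with proper
components, and limit cones identified with `X` and `S` compatibly with `f`. -/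
theorem result {X S : Scheme.{u}} (f : X ⟶ S) [IsProper f] [CompactSpace S]
    [QuasiSeparatedSpace S] :
    ∃ (I : Type u) (_ : SmallCategory I) (_ : IsCofiltered I) (DX DS : I ⥤ Scheme.{u}) (φ : DX ⟶ DS)
      (cX : Limits.Cone DX) (cS : Limits.Cone DS) (_ : Limits.IsLimit cX) (_ : Limits.IsLimit cS)
      (eX : cX.pt ≅ X) (eS : cS.pt ≅ S),
      (∀ (i j : I) (a : i ⟶ j), IsAffineHom (DX.map a) ∧ IsAffineHom (DS.map a)) ∧
      (∀ i, IsProper (φ.app i) ∧ CompactSpace (DS.obj i) ∧
        LocallyOfFiniteType (Limits.IsTerminal.from specULiftZIsTerminal (DS.obj i))) ∧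
      (∀ i, cX.π.app i ≫ φ.app i = eX.hom ≫ f ≫ eS.inv ≫ cS.π.app i) := by
  obtain ⟨M⟩ := Groth.Limits.exists_properModel f
  exact ⟨M.Iᵒᵖ, inferInstance, inferInstance, M.DX, M.DS, M.φ, ⟨X, M.πX⟩, ⟨S, M.πS⟩, M.isLimitX, M.isLimitS,
    Iso.refl _, Iso.refl _, fun i j a => ⟨M.affineX i j a, M.affineS i j a⟩,
    fun i => ⟨M.proper i, M.compact i, M.locallyOfFiniteType i⟩,
    fun i => by simpa using M.w i⟩

end Groth.Agent.S2147
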