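import Groth.Statements.S2149
import Mathlib.RingTheory.LocalProperties.Basic
import Mathlib.RingTheory.Localization.BaseChange

set_option autoImplicit false
universe u
open CAlg

namespace Groth.Agent.S2149

open TensorProduct

/-- Let `R → S` be a ring map and `u : M → M'` a map of `S`-modules. Then `u`, viewed as an `R`-linear
map, is universally injective exactly when, for every maximal ideal `𝔪` of `S`, the localized map
`M_𝔪 → M'_𝔪` is also universally injective as an `R`-linear map. -/
theorem result {R S M M' : Type u} [CommRing R] [CommRing S] [Algebra R S]
    [AddCommGroup M] [Module S M] [Module R M] [IsScalarTower R S M] [AddCommGroup M'] [Module S M'] [Module R M']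
    [IsScalarTower R S M'] (u : M →ₗ[S] M') :
    CAlgX.UniversallyInjective R (u.restrictScalars R) ↔
      ∀ (m : Ideal S) [m.IsMaximal],
        CAlgX.UniversallyInjective R ((LocalizedModule.map m.primeCompl u).restrictScalars R) := by
  have hsq : ∀ (T : Submonoid S) (Q : Type u) [AddCommGroup Q] [Module R Q] (w : M ⊗[R] Q),
      ((LocalizedModule.map T u).restrictScalars R).rTensor Q
        (AlgebraTensorModule.rTensor R Q (LocalizedModule.mkLinearMap T M) w) =
      AlgebraTensorModule.rTensor R Q (LocalizedModule.mkLinearMap T M')
        ((u.restrictScalars R).rTensor Q w) := by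
    intro T Q _ _ w
    induction w using TensorProduct.induction_on with
    | zero => simp
    | tmul m q => simp [LocalizedModule.map_mk]
    | add p q hp hq => simp only [map_add, hp, hq]
  constructor
  · intro h m _ Q _ _
    rw [injective_iff_map_eq_zero]
    intro z hz
    let g := AlgebraTensorModule.rTensor R Q (LocalizedModule.mkLinearMap m.primeCompl M)
    obtain ⟨⟨w, t⟩, hwt⟩ := IsLocalizedModule.surj m.primeCompl g z
    have h1 : AlgebraTensorModule.rTensor R Q (LocalizedModule.mkLinearMap m.primeCompl M')
        ((u.restrictScalars R).rTensor Q w) = 0 := by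
      rw [← hsq, ← hwt, Submonoid.smul_def]
      have key : ∀ (s : S) (v : LocalizedModule m.primeCompl M ⊗[R] Q),
          ((LocalizedModule.map m.primeCompl u).restrictScalars R).rTensor Q (s • v) =
            s • ((LocalizedModule.map m.primeCompl u).restrictScalars R).rTensor Q v := by
        intro s v
        induction v using TensorProduct.induction_on with
        | zero => simp
        | tmul a b =>
          rw [TensorProduct.smul_tmul', LinearMap.rTensor_tmul, LinearMap.rTensor_tmul,
            TensorProduct.smul_tmul', LinearMap.restrictScalars_apply, LinearMap.restrictScalars_apply,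
            LinearMap.map_smul_of_tower]
        | add p q hp hq => simp only [smul_add, map_add, hp, hq]
      rw [key, hz, smul_zero]
    obtain ⟨r, hr⟩ := (IsLocalizedModule.eq_zero_iff m.primeCompl _).1 h1
    have key : ∀ (s : S) (v : M ⊗[R] Q),
        (u.restrictScalars R).rTensor Q (s • v) = s • (u.restrictScalars R).rTensor Q v := by
      intro s v
      induction v using TensorProduct.induction_on with
      | zero => simp
      | tmul a b => simp [TensorProduct.smul_tmul']
      | add p q hp hq => simp only [smul_add, map_add, hp, hq]
    have hw : (r : S) • w = 0 := h Q (by rw [key, map_zero]; exact hr)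
    have hu := IsLocalizedModule.smul_injective g (r * t)
    refine hu ?_
    show (r * t) • z = (r * t) • 0
    rw [smul_zero, mul_smul, hwt, Submonoid.smul_def, ← map_smul, hw, map_zero]
  · intro h Q _ _
    rw [injective_iff_map_eq_zero]
    intro z hz
    by_contra hne
    let J : Ideal S := LinearMap.ker (LinearMap.toSpanSingleton S _ z)
    have hJ : J ≠ ⊤ := fun hJ => hne (by simpa [J] using hJ.ge (Submodule.mem_top (x := (1 : S))))
    obtain ⟨m, hm, hle⟩ := Ideal.exists_le_maximal J hJ
    have h1 : AlgebraTensorModule.rTensor R Q (LocalizedModule.mkLinearMap m.primeCompl M) z = 0 :=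
      h m Q (by rw [hsq, hz, map_zero, map_zero])
    obtain ⟨r, hr⟩ := (IsLocalizedModule.eq_zero_iff m.primeCompl _).1 h1
    exact r.2 (hle (show (r : S) ∈ J by rw [LinearMap.mem_ker, LinearMap.toSpanSingleton_apply]; exact hr))

end Groth.Agent.S2149
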