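import Groth.Statements.S2151
import Groth.Agent.Limits.Existence

set_option autoImplicit false
universe u
open CategoryTheory AlgebraicGeometry
open Lim

namespace Groth.Agent.S2151

/-- Existence of the limit and part (1): a diagram of schemes indexed by a small cofiltered category all
of whose transition morphisms are affine has a limit in the category of schemes, and every
projection from the limit is an affine morphism. -/
theorem result {I : Type u} [SmallCategory I] [IsCofiltered I] (D : I ⥤ Scheme.{u})
    [∀ (i j : I) (f : i ⟶ j), IsAffineHom (D.map f)] :
    ∃ (c : Limits.Cone D) (_ : Limits.IsLimit c), ∀ i, IsAffineHom (c.π.app i) := by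
  exact Groth.Limits.exists_limit_of_isAffineHom D

end Groth.Agent.S2151
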