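import Groth.Statements.S2158
import Groth.Agent.OmegaSheaf.Universal
import Mathlib.RingTheory.Unramified.LocalRing
import Mathlib.RingTheory.Kaehler.TensorProduct

set_option autoImplicit false
universe u
open CategoryTheory AlgebraicGeometry
open Mor

namespace Groth.Agent.S2158

/-- Let `f : X → S` be locally of finite type and quasi-separated (so that the diagonal is quasi-compact
and the prelude's sheaf of differentials is the conormal sheaf of the diagonal near every point), `x
∈ X`, `s = f(x)`. Then the stalk `Ω_{X/S,x}` vanishes if and only if `𝔪_s O_{X,x} = 𝔪_x` and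
`κ(x)/κ(s)` is a finite separable extension. -/
theorem result {X S : Scheme.{u}} (f : X ⟶ S) [LocallyOfFiniteType f] [QuasiSeparated f] (x : X) :
    Subsingleton ((Omega.sheaf f).presheaf.stalk x) ↔
      ((IsLocalRing.maximalIdeal (S.presheaf.stalk (f.base x))).map (f.stalkMap x).hom =
          IsLocalRing.maximalIdeal (X.presheaf.stalk x) ∧
        (f.residueFieldMap x).hom.Finite ∧
        @Algebra.IsSeparable (S.residueField (f.base x)) (X.residueField x) _ _ (f.residueFieldMap x).hom.toAlgebra) := by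
  obtain ⟨c, hx, -⟩ := Groth.OmegaSheaf.exists_chart f (x := x) (W := ⊤) trivial
  let _ := Groth.OmegaSheaf.chartAlg f c.e
  have : Algebra.FiniteType Γ(S, c.V) Γ(X, c.U) := f.finiteType_appLE c.hV c.hU c.e
  have hy : f x ∈ c.V := c.e hx
  let _ : Algebra Γ(X, c.U) (X.presheaf.stalk x) :=
    TopCat.Presheaf.algebra_section_stalk X.presheaf ⟨x, hx⟩
  have hlocX : IsLocalization.AtPrime (X.presheaf.stalk x) (c.hU.primeIdealOf ⟨x, hx⟩).asIdeal :=
    c.hU.isLocalization_stalk ⟨x, hx⟩
  let _ : Algebra Γ(S, c.V) (S.presheaf.stalk (f x)) :=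
    TopCat.Presheaf.algebra_section_stalk S.presheaf ⟨f x, hy⟩
  have hlocS : IsLocalization.AtPrime (S.presheaf.stalk (f x)) (c.hV.primeIdealOf ⟨f x, hy⟩).asIdeal :=
    c.hV.isLocalization_stalk ⟨f x, hy⟩
  let _ : Algebra (S.presheaf.stalk (f x)) (X.presheaf.stalk x) := (f.stalkMap x).hom.toAlgebra
  let _ : Algebra Γ(S, c.V) (X.presheaf.stalk x) :=
    ((algebraMap Γ(X, c.U) (X.presheaf.stalk x)).comp (algebraMap Γ(S, c.V) Γ(X, c.U))).toAlgebra
  have : IsScalarTower Γ(S, c.V) Γ(X, c.U) (X.presheaf.stalk x) :=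
    IsScalarTower.of_algebraMap_eq fun _ ↦ rfl
  have : IsScalarTower Γ(S, c.V) (S.presheaf.stalk (f x)) (X.presheaf.stalk x) := by
    refine IsScalarTower.of_algebraMap_eq fun r ↦ ?_
    change X.presheaf.germ c.U x hx (f.appLE c.V c.U c.e r) =
      f.stalkMap x (S.presheaf.germ c.V (f x) hy r)
    rw [Scheme.Hom.germ_stalkMap_apply]
    exact TopCat.Presheaf.germ_res_apply X.presheaf (homOfLE c.e) x hx _
  have : IsLocalHom (algebraMap (S.presheaf.stalk (f x)) (X.presheaf.stalk x)) :=
    inferInstanceAs (IsLocalHom (f.stalkMap x).hom)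
  have : Algebra.EssFiniteType Γ(X, c.U) (X.presheaf.stalk x) :=
    .of_isLocalization _ (c.hU.primeIdealOf ⟨x, hx⟩).asIdeal.primeCompl
  have : Algebra.EssFiniteType Γ(S, c.V) (X.presheaf.stalk x) := .comp _ Γ(X, c.U) _
  have : Algebra.EssFiniteType (S.presheaf.stalk (f x)) (X.presheaf.stalk x) :=
    .of_comp Γ(S, c.V) _ _
  let _ := Groth.QCohMod.stalkModule (Omega.sheaf f) x hx
  have := Groth.QCohMod.isLocalizedModule_germ (Omega.sheaf f) c.hU x hx
  let E := Groth.OmegaSheaf.chartEquiv f c.e c.hV c.hU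
  let Sp := (c.hU.primeIdealOf ⟨x, hx⟩).asIdeal.primeCompl
  have hiff : Subsingleton ((Omega.sheaf f).presheaf.stalk x) ↔
      Algebra.FormallyUnramified (S.presheaf.stalk (f x)) (X.presheaf.stalk x) := by
    have e1 := IsLocalizedModule.iso Sp (Groth.QCohMod.germₗ (Omega.sheaf f) x hx ∘ₗ E.toLinearMap)
    have e2 := IsLocalizedModule.iso Sp
      (KaehlerDifferential.map Γ(S, c.V) Γ(S, c.V) Γ(X, c.U) (X.presheaf.stalk x))
    rw [← e1.subsingleton_congr, e2.subsingleton_congr, ← Algebra.formallyUnramified_iff]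
    have : Algebra.FormallyUnramified Γ(S, c.V) (S.presheaf.stalk (f x)) :=
      .of_isLocalization (c.hV.primeIdealOf ⟨f x, hy⟩).asIdeal.primeCompl
    exact ⟨fun _ ↦ .of_restrictScalars Γ(S, c.V) _ _,
      fun _ ↦ .comp _ (S.presheaf.stalk (f x)) _⟩
  rw [hiff]
  have halg : (f.residueFieldMap x).hom.toAlgebra =
      (inferInstance : Algebra (IsLocalRing.ResidueField (S.presheaf.stalk (f x)))
        (IsLocalRing.ResidueField (X.presheaf.stalk x))) := by
    apply Algebra.algebra_ext
    intro r
    obtain ⟨r, rfl⟩ := IsLocalRing.residue_surjective r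
    exact congr($(Scheme.residue_residueFieldMap f x) r)
  constructor
  · intro h
    refine ⟨Algebra.FormallyUnramified.map_maximalIdeal, ?_, ?_⟩
    · unfold RingHom.Finite
      rw [halg]
      exact inferInstanceAs (Module.Finite (IsLocalRing.ResidueField (S.presheaf.stalk (f x)))
        (IsLocalRing.ResidueField (X.presheaf.stalk x)))
    · rw [halg]
      exact inferInstanceAs (Algebra.IsSeparable (IsLocalRing.ResidueField (S.presheaf.stalk (f x)))
        (IsLocalRing.ResidueField (X.presheaf.stalk x)))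
  · rintro ⟨hmap, -, hsep⟩
    rw [halg] at hsep
    have : Algebra.IsSeparable (IsLocalRing.ResidueField (S.presheaf.stalk (f x)))
        (IsLocalRing.ResidueField (X.presheaf.stalk x)) := hsep
    exact Algebra.FormallyUnramified.of_map_maximalIdeal hmap

end Groth.Agent.S2158
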