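import Groth.Statements.S2159
import Mathlib

set_option autoImplicit false
universe u
open CAlg

namespace Groth.Agent.S2159

/-- Given surjections `p₁ : P₁ → M` and `p₂ : P₂ → M` from projective modules, with kernels `K` and `L`,
there is an isomorphism `K ⊕ P₂ ≅ L ⊕ P₁`. -/
theorem result {R M P₁ P₂ : Type u} [CommRing R] [AddCommGroup M] [Module R M] [AddCommGroup P₁] [Module R P₁]
    [Module.Projective R P₁] [AddCommGroup P₂] [Module R P₂] [Module.Projective R P₂] (p₁ : P₁ →ₗ[R] M) (p₂ : P₂ →ₗ[R] M)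
    (h₁ : Function.Surjective p₁) (h₂ : Function.Surjective p₂) :
    Nonempty ((LinearMap.ker p₁ × P₂) ≃ₗ[R] (LinearMap.ker p₂ × P₁)) := by
  obtain ⟨s, hs⟩ := Module.projective_lifting_property p₁ p₂ h₁
  obtain ⟨t, ht⟩ := Module.projective_lifting_property p₂ p₁ h₂
  have hs' : ∀ b, p₁ (s b) = p₂ b := fun b => LinearMap.congr_fun hs b
  have ht' : ∀ a, p₂ (t a) = p₁ a := fun a => LinearMap.congr_fun ht a
  let S : LinearMap.ker p₁ × P₂ →ₗ[R] P₁ :=
    (LinearMap.ker p₁).subtype ∘ₗ LinearMap.fst R _ _ + s ∘ₗ LinearMap.snd R _ _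
  let T : LinearMap.ker p₂ × P₁ →ₗ[R] P₂ :=
    (LinearMap.ker p₂).subtype ∘ₗ LinearMap.fst R _ _ + t ∘ₗ LinearMap.snd R _ _
  let F : LinearMap.ker p₁ × P₂ →ₗ[R] LinearMap.ker p₂ × P₁ :=
    (LinearMap.codRestrict _ (LinearMap.snd R _ _ - t ∘ₗ S)
      (fun x => by have := x.1.2; simp [S, hs', ht'] at *)).prod S
  let G : LinearMap.ker p₂ × P₁ →ₗ[R] LinearMap.ker p₁ × P₂ :=
    (LinearMap.codRestrict _ (LinearMap.snd R _ _ - s ∘ₗ T)
      (fun x => by have := x.1.2; simp [T, hs', ht'] at *)).prod T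
  refine ⟨LinearEquiv.ofLinearMap F G ?_ ?_⟩ <;>
  · refine LinearMap.ext fun x => ?_
    ext <;> simp [F, G, S, T]

end Groth.Agent.S2159
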