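import Groth.Statements.S2160
import Mathlib.RingTheory.Ideal.KrullsHeightTheorem

set_option autoImplicit false
universe u
open CAlg

namespace Groth.Agent.S2160

/-- Let `R` be a Noetherian local domain of Krull dimension at least `2`. Then every nonempty open
subset of `Spec R` is infinite. -/
theorem result {R : Type u} [CommRing R] [IsDomain R] [IsLocalRing R] [IsNoetherianRing R]
    (hdim : 2 ≤ ringKrullDim R) (U : Set (PrimeSpectrum R)) (hU : IsOpen U) (hne : U.Nonempty) : U.Infinite := by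
  classical
  obtain ⟨q, hq⟩ := hne
  obtain ⟨_, ⟨f, rfl⟩, hqf, hfU⟩ :=
    PrimeSpectrum.isTopologicalBasis_basic_opens.exists_subset_of_mem_open hq hU
  have hf0 : f ≠ 0 := fun h => hqf (h ▸ zero_mem _)
  intro hfin
  let T : Set (Ideal R) := (Ideal.span {f}).minimalPrimes ∪
    (PrimeSpectrum.asIdeal '' {P | P ∈ U ∧ P.asIdeal.height ≤ 1})
  have hTfin : T.Finite := ((Ideal.span {f}).finite_minimalPrimes_of_isNoetherianRing R).union
    ((hfin.subset fun P hP => hP.1).image _)
  have hTp : ∀ P ∈ T, P.IsPrime ∧ P.height ≤ 1 := by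
    rintro P (hP | ⟨P', hP', rfl⟩)
    · exact ⟨hP.1.1, Ideal.height_le_one_of_isPrincipal_of_mem_minimalPrimes _ _ hP⟩
    · exact ⟨P'.isPrime, hP'.2⟩
  have hcov : ((IsLocalRing.maximalIdeal R : Ideal R) : Set R) ⊆
      ⋃ P ∈ (hTfin.toFinset : Set (Ideal R)), (P : Set R) := by
    intro x hx
    obtain ⟨P, hP, -⟩ := Ideal.exists_minimalPrimes_le (I := Ideal.span {x})
      (J := IsLocalRing.maximalIdeal R) ((Ideal.span_singleton_le_iff_mem _).2 hx)
    have hPp : P.IsPrime := hP.1.1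
    have hxP : x ∈ P := hP.1.2 (Ideal.mem_span_singleton_self x)
    have hP1 : P.height ≤ 1 := Ideal.height_le_one_of_isPrincipal_of_mem_minimalPrimes _ _ hP
    refine Set.mem_biUnion (x := P) ?_ hxP
    rw [Finset.mem_coe, Set.Finite.mem_toFinset]
    by_cases hfP : f ∈ P
    · refine Or.inl ?_
      obtain ⟨Q, hQ, hQP⟩ := Ideal.exists_minimalPrimes_le (I := Ideal.span {f}) (J := P)
        ((Ideal.span_singleton_le_iff_mem _).2 hfP)
      have hQp : Q.IsPrime := hQ.1.1
      rcases eq_or_lt_of_le hQP with h | h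
      · exact h ▸ hQ
      · have hQ0 : (⊥ : Ideal R) < Q := bot_lt_iff_ne_bot.2 fun h0 =>
          hf0 (by simpa [h0] using hQ.1.2 (Ideal.mem_span_singleton_self f))
        have h1 := (add_le_add ((zero_le (a := (⊥ : Ideal R).height))) le_rfl).trans
          (Ideal.height_add_one_le_of_lt_of_isPrime hQ0)
        have h2 := (add_le_add h1 le_rfl).trans (Ideal.height_add_one_le_of_lt_of_isPrime h)
        have h3 := h2.trans hP1
        norm_cast at h3
    · exact Or.inr ⟨⟨P, hPp⟩, ⟨hfU hfP, hP1⟩, rfl⟩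
  obtain ⟨P, hP, hle⟩ := (Ideal.subset_union_prime (⊥ : Ideal R) ⊥
    (fun P hP _ _ => (hTp P (hTfin.mem_toFinset.1 hP)).1)).1 hcov
  have h1 : (IsLocalRing.maximalIdeal R).height ≤ 1 :=
    (Ideal.height_mono hle).trans (hTp P (hTfin.mem_toFinset.1 hP)).2
  rw [← IsLocalRing.maximalIdeal_height_eq_ringKrullDim] at hdim
  have h2 : ((2 : ℕ∞) : WithBot ℕ∞) ≤ ((1 : ℕ∞) : WithBot ℕ∞) :=
    hdim.trans (WithBot.coe_le_coe.2 h1)
  rw [WithBot.coe_le_coe] at h2
  norm_cast at h2

end Groth.Agent.S2160
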