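import Groth.Statements.S2161
import Mathlib.RingTheory.Spectrum.Prime.Homeomorph
import Mathlib.LinearAlgebra.Basis.VectorSpace
import Mathlib.RingTheory.LocalRing.ResidueField.Ideal
import Mathlib.Algebra.Polynomial.Lifts
import Mathlib.RingTheory.TensorProduct.Maps

set_option autoImplicit false
universe u
open CAlg

namespace Groth.Agent.S2161

open scoped TensorProduct

/-- Let R → S be a ring map whose kernel consists of nilpotent elements, and suppose S is generated as
an R-algebra by elements x for which some power (T − x)ⁿ, n > 0, is the image of a polynomial over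
R. Then Spec S → Spec R is a homeomorphism, and for every prime 𝔮 of S over 𝔭 the extension
κ(𝔮)/κ(𝔭) is purely inseparable. -/
theorem result {R S : Type u} [CommRing R] [CommRing S] [Algebra R S]
    (hker : ∀ r : R, algebraMap R S r = 0 → IsNilpotent r) (G : Set S) (hG : Algebra.adjoin R G = ⊤)
    (hpow : ∀ x ∈ G, ∃ (n : ℕ) (P : Polynomial R), 0 < n ∧
      Polynomial.map (algebraMap R S) P = (Polynomial.X - Polynomial.C x) ^ n) :
    IsHomeomorph (PrimeSpectrum.comap (algebraMap R S)) ∧
      ∀ (q : Ideal S) [q.IsPrime] (p : Ideal R) [p.IsPrime] [q.LiesOver p],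
        @IsPurelyInseparable p.ResidueField q.ResidueField _ _
          (Ideal.ResidueField.mapₐ p q (Algebra.ofId R S) (q.over_def p)).toRingHom.toAlgebra := by
  have hagree : ∀ {L : Type u} [Field L] (f g : S →+* L),
      f.comp (algebraMap R S) = g.comp (algebraMap R S) → f = g := by
    intro L _ f g hfg
    let := (f.comp (algebraMap R S)).toAlgebra
    let F : S →ₐ[R] L := ⟨f, fun r => rfl⟩
    let G' : S →ₐ[R] L := ⟨g, fun r => (RingHom.congr_fun hfg r).symm⟩
    have : F = G' := AlgHom.ext_of_adjoin_eq_top hG fun x hx => by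
      obtain ⟨n, P, hn, hP⟩ := hpow x hx
      have h1 := congrArg (fun q => (q.map f).eval (g x)) hP
      have h2 := congrArg (fun q => (q.map g).eval (g x)) hP
      simp only [Polynomial.map_map, hfg, Polynomial.map_pow, Polynomial.map_sub, Polynomial.map_X,
        Polynomial.map_C, Polynomial.eval_pow, Polynomial.eval_sub, Polynomial.eval_X, Polynomial.eval_C,
        sub_self, zero_pow hn.ne'] at h1 h2
      rw [h2] at h1
      exact (sub_eq_zero.1 (pow_eq_zero_iff hn.ne' |>.1 h1.symm)).symm
    exact congrArg AlgHom.toRingHom this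
  have hint : Algebra.IsIntegral R S := by
    have htop : (⊤ : Subalgebra R S) ≤ integralClosure R S := hG ▸ Algebra.adjoin_le fun x hx => by
      rcases subsingleton_or_nontrivial S with hS | hS
      · exact ⟨1, Polynomial.monic_one, Subsingleton.elim _ _⟩
      obtain ⟨n, P, hn, hP⟩ := hpow x hx
      obtain ⟨Q, hQ, -, hQm⟩ := Polynomial.lifts_and_degree_eq_and_monic (f := algebraMap R S)
        (p := (Polynomial.X - Polynomial.C x) ^ n) ⟨P, hP⟩ ((Polynomial.monic_X_sub_C x).pow n)
      exact ⟨Q, hQm, by rw [← Polynomial.eval_map, hQ]; simp [hn.ne']⟩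
    exact ⟨fun s => htop trivial⟩
  have hinj : Function.Injective (PrimeSpectrum.comap (algebraMap R S)) := by
    intro q₁ q₂ he
    let p := PrimeSpectrum.comap (algebraMap R S) q₁
    let f₁ : p.asIdeal.ResidueField →ₐ[R] q₁.asIdeal.ResidueField :=
      Ideal.ResidueField.mapₐ _ _ (Algebra.ofId R S) rfl
    let f₂ : p.asIdeal.ResidueField →ₐ[R] q₂.asIdeal.ResidueField :=
      Ideal.ResidueField.mapₐ _ _ (Algebra.ofId R S) (congrArg PrimeSpectrum.asIdeal he)
    let := f₁.toRingHom.toAlgebra
    let := f₂.toRingHom.toAlgebra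
    have : Nontrivial (q₁.asIdeal.ResidueField ⊗[p.asIdeal.ResidueField] q₂.asIdeal.ResidueField) :=
      TensorProduct.nontrivial_of_linearMap_injective_of_flat_left _ _ _
        (Algebra.linearMap p.asIdeal.ResidueField q₂.asIdeal.ResidueField) (RingHom.injective _)
    obtain ⟨m, hm⟩ := Ideal.exists_maximal (q₁.asIdeal.ResidueField ⊗[p.asIdeal.ResidueField] q₂.asIdeal.ResidueField)
    let := Ideal.Quotient.field m
    let i₁ : q₁.asIdeal.ResidueField →+* _ ⧸ m := (Ideal.Quotient.mk m).comp Algebra.TensorProduct.includeLeftRingHom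
    let i₂ : q₂.asIdeal.ResidueField →+* _ ⧸ m :=
      (Ideal.Quotient.mk m).comp Algebra.TensorProduct.includeRight.toRingHom
    have hc : i₁.comp f₁.toRingHom = i₂.comp f₂.toRingHom := RingHom.ext fun c => by
      show Ideal.Quotient.mk m (algebraMap _ q₁.asIdeal.ResidueField c ⊗ₜ 1) =
        Ideal.Quotient.mk m (1 ⊗ₜ algebraMap _ q₂.asIdeal.ResidueField c)
      rw [Algebra.algebraMap_eq_smul_one, Algebra.algebraMap_eq_smul_one, TensorProduct.smul_tmul]
    have hfin := hagree (i₁.comp (algebraMap S _)) (i₂.comp (algebraMap S _)) (RingHom.ext fun r => by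
      have := RingHom.congr_fun hc (algebraMap R _ r)
      simpa [← IsScalarTower.algebraMap_apply] using this)
    have hker := congrArg RingHom.ker hfin
    rw [RingHom.ker_comp_of_injective _ i₁.injective, RingHom.ker_comp_of_injective _ i₂.injective,
      Ideal.ker_algebraMap_residueField, Ideal.ker_algebraMap_residueField] at hker
    exact PrimeSpectrum.ext hker
  refine ⟨?_, ?_⟩
  · have hint' : (algebraMap R S).IsIntegral := fun s => Algebra.IsIntegral.isIntegral s
    have hle : RingHom.ker (algebraMap R S) ≤ nilradical R := fun r hr => mem_nilradical.2 (hker r hr)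
    have hsurj : Function.Surjective (PrimeSpectrum.comap (algebraMap R S)) := by
      have hk : (algebraMap R S).kerLift.IsIntegral :=
        RingHom.IsIntegral.tower_top (Ideal.Quotient.mk _) _ (show (algebraMap R S).IsIntegral from hint')
      exact (PrimeSpectrum.comap_quotientMk_bijective_of_le_nilradical hle).2.comp
        (hk.comap_surjective (RingHom.kerLift_injective _))
    exact (Equiv.toHomeomorphOfContinuousClosed (Equiv.ofBijective _ ⟨hinj, hsurj⟩)
      (PrimeSpectrum.continuous_comap _) (PrimeSpectrum.isClosedMap_comap_of_isIntegral _ hint')).isHomeomorph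
  · intro q _ p _ _
    let φ := Ideal.ResidueField.mapₐ p q (Algebra.ofId R S) (q.over_def p)
    let := φ.toRingHom.toAlgebra
    have : Nonempty (q.ResidueField →+* AlgebraicClosure q.ResidueField) := ⟨algebraMap _ _⟩
    refine IsPurelyInseparable.of_injective_comp_algebraMap p.ResidueField q.ResidueField
      (AlgebraicClosure q.ResidueField) fun f g hfg => ?_
    refine Ideal.ResidueField.ringHom_ext (hagree _ _ (RingHom.ext fun r => ?_))
    have := RingHom.congr_fun hfg (algebraMap R p.ResidueField r)
    simpa [RingHom.algebraMap_toAlgebra, φ, ← IsScalarTower.algebraMap_apply] using this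

end Groth.Agent.S2161
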