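import Groth.Statements.S2163
import Mathlib.RingTheory.Flat.EquationalCriterion
import Mathlib.Algebra.Module.FinitePresentation
-- import your own Groth.Agent.* helpers here

set_option autoImplicit false
universe u
open CAlg

namespace Groth.Agent.S2163

/-- A ring `R` is coherent — every finitely generated ideal is a finitely presented module — if and only
if for every index set `A` (in the same universe) the product module `R^A` is flat. -/
theorem result {R : Type u} [CommRing R] :
    (∀ I : Ideal R, I.FG → Module.FinitePresentation R I) ↔ ∀ (A : Type u), Module.Flat R (A → R) := by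
  constructor
  · intro hcoh A
    refine Module.Flat.of_forall_isTrivialRelation fun {l f x} hx => ?_
    let φ : (Fin l → R) →ₗ[R] Ideal.span (Set.range f) :=
      (Fintype.linearCombination R f).codRestrict _ fun c => by
        rw [Ideal.span, ← Fintype.range_linearCombination]
        exact LinearMap.mem_range_self _ c
    have hsurj : Function.Surjective φ := by
      rintro ⟨y, hy⟩
      rw [Ideal.span, ← Fintype.range_linearCombination] at hy
      obtain ⟨c, hc⟩ := hy
      exact ⟨c, Subtype.ext hc⟩
    have := hcoh _ (Submodule.fg_span (Set.finite_range f))
    obtain ⟨s, hs⟩ := Module.FinitePresentation.fg_ker φ hsurj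
    have hmem : ∀ a, (fun i => x i a) ∈ Submodule.span R (Set.range fun j : s => (j : Fin l → R)) := by
      intro a
      have h1 : (fun i => x i a) ∈ LinearMap.ker φ := by
        rw [LinearMap.mem_ker]
        refine Subtype.ext ?_
        show Fintype.linearCombination R f (fun i => x i a) = 0
        rw [Fintype.linearCombination_apply]
        have := congrFun hx a
        simpa [Finset.sum_apply, mul_comm] using this
      rw [← hs] at h1
      simpa using h1
    choose c hc using fun a => (Submodule.mem_span_range_iff_exists_fun R).mp (hmem a)
    let e := Fintype.equivFin s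
    refine ⟨Fintype.card s, fun i j => (e.symm j : Fin l → R) i, fun j a => c a (e.symm j), fun i => ?_, fun j => ?_⟩
    · funext a
      have := congrFun (hc a) i
      rw [Finset.sum_apply] at this ⊢
      rw [← e.symm.sum_comp] at this
      rw [← this]
      refine Finset.sum_congr rfl fun j _ => ?_
      simp [mul_comm]
    · have h1 : (e.symm j : Fin l → R) ∈ LinearMap.ker φ := hs ▸ Submodule.subset_span (e.symm j).2
      rw [LinearMap.mem_ker] at h1
      have := congrArg Subtype.val h1
      change Fintype.linearCombination R f (e.symm j : Fin l → R) = 0 at this
      simpa [Fintype.linearCombination_apply, mul_comm] using this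
  · intro hflat I hI
    classical
    obtain ⟨n, g, hg⟩ := Submodule.fg_iff_exists_fin_generating_family.mp hI
    let φ : (Fin n → R) →ₗ[R] I := (Fintype.linearCombination R g).codRestrict _ fun c => by
      rw [← hg, ← Fintype.range_linearCombination]
      exact LinearMap.mem_range_self _ c
    have hsurj : Function.Surjective φ := by
      rintro ⟨y, hy⟩
      rw [← hg, ← Fintype.range_linearCombination] at hy
      obtain ⟨c, hc⟩ := hy
      exact ⟨c, Subtype.ext hc⟩
    refine Module.finitePresentation_of_surjective φ hsurj ?_
    have := hflat (LinearMap.ker φ)
    have hrel : ∑ i, g i • (fun v : LinearMap.ker φ => v.1 i) = 0 := by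
      funext v
      have := congrArg Subtype.val (LinearMap.mem_ker.mp v.2)
      change Fintype.linearCombination R g v.1 = 0 at this
      simpa [Fintype.linearCombination_apply, Finset.sum_apply, mul_comm] using this
    obtain ⟨k, a, y, hy, ha⟩ := Module.Flat.isTrivialRelation_of_sum_smul_eq_zero hrel
    refine ⟨Finset.univ.image fun j : Fin k => fun i => a i j, le_antisymm ?_ fun v hv => ?_⟩
    · rw [Submodule.span_le]
      intro w hw
      simp only [Finset.coe_image, Finset.coe_univ, Set.image_univ, Set.mem_range] at hw
      obtain ⟨j, rfl⟩ := hw
      refine LinearMap.mem_ker.mpr (Subtype.ext ?_)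
      show Fintype.linearCombination R g (fun i => a i j) = 0
      simpa [Fintype.linearCombination_apply, mul_comm] using ha j
    · have hv' : v = ∑ j, y j ⟨v, hv⟩ • (fun i => a i j) := by
        funext i
        have := congrFun (hy i) ⟨v, hv⟩
        simp only [Finset.sum_apply, Pi.smul_apply, smul_eq_mul] at this ⊢
        rw [this]
        exact Finset.sum_congr rfl fun j _ => mul_comm _ _
      rw [hv']
      exact Submodule.sum_mem _ fun j _ => Submodule.smul_mem _ _ (Submodule.subset_span (by simp))

end Groth.Agent.S2163
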