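import Groth.Statements.S2165
import Groth.Agent.CI.Criterion
-- import your own Groth.Agent.* helpers here

set_option autoImplicit false
universe u
open LCI

namespace Groth.Agent.S2165

/-- Let R be a regular ring, p a prime ideal of R and f_1, ..., f_r a regular sequence of R contained in
p. Then the local ring R_p/(f_1, ..., f_r) is a complete intersection: its completion is a regular
local ring modulo a regular sequence. The instance hypothesis that the quotient is local always
holds. -/
theorem result {R : Type u} [CommRing R] [IsRegularRing R]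
    (p : Ideal R) [p.IsPrime] (rs : List R) (hmem : ∀ r ∈ rs, r ∈ p)
    (hreg : RingTheory.Sequence.IsRegular R rs)
    [IsLocalRing (Localization.AtPrime p ⧸
      Ideal.map (algebraMap R (Localization.AtPrime p)) (Ideal.ofList rs))] :
    Pi1.IsCompleteIntersection (Localization.AtPrime p ⧸
      Ideal.map (algebraMap R (Localization.AtPrime p)) (Ideal.ofList rs)) := by
  have hle : Ideal.map (algebraMap R (Localization.AtPrime p)) (Ideal.ofList rs) ≠ ⊤ :=
    ne_top_of_le_ne_top (IsLocalRing.maximalIdeal.isMaximal _).ne_top
      ((Ideal.map_mono (Ideal.span_le.mpr hmem)).trans Localization.AtPrime.map_eq_maximalIdeal.le)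
  refine (Groth.CI.isCompleteIntersection_quotient_iff _ hle).mpr
    ⟨rs.map (algebraMap R (Localization.AtPrime p)), (Ideal.map_ofList _ _).symm, ?_⟩
  refine (IsLocalRing.isRegular_iff_isWeaklyRegular_of_subset_maximalIdeal ?_).mpr hreg.toIsWeaklyRegular.of_flat
  intro x hx
  obtain ⟨r, hr, rfl⟩ := List.mem_map.mp hx
  rw [← Localization.AtPrime.map_eq_maximalIdeal]
  exact Ideal.mem_map_of_mem _ (hmem r hr)

end Groth.Agent.S2165
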