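import Groth.Statements.S2167
import Groth.Agent.CI.Criterion
-- import your own Groth.Agent.* helpers here

set_option autoImplicit false
universe u
open LCI

namespace Groth.Agent.S2167

/-- Equivalence of (2) and (3), special case with R already a regular local ring: for a regular local
ring R and a proper ideal I, the ideal I is generated by a regular sequence if and only if the
conormal module I/I^2 can be generated by (dim R - dim R/I) elements, the inequality below being the
additive form of that count. -/
theorem result {R : Type u} [CommRing R] [IsRegularLocalRing R]
    (I : Ideal R) (hI : I ≠ ⊤) :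
    (∃ rs : List R, Ideal.ofList rs = I ∧ RingTheory.Sequence.IsRegular R rs) ↔
      (((⊤ : Submodule (R ⧸ I) I.Cotangent).spanFinrank : WithBot ℕ∞) + ringKrullDim (R ⧸ I)
        ≤ ringKrullDim R) := by
  have hne : Nontrivial (R ⧸ I) := Ideal.Quotient.nontrivial_iff.mpr hI
  rw [Groth.CI.exists_regular_iff I hI]
  have hm : I ≤ IsLocalRing.maximalIdeal R := IsLocalRing.le_maximalIdeal hI
  have key : (⊤ : Submodule (R ⧸ I) I.Cotangent).spanFinrank = I.spanFinrank := by
    classical
    have fgI : I.FG := IsNoetherian.noetherian I
    have : Module.Finite R I := Module.Finite.iff_fg.mpr fgI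
    have : Module.Finite R I.Cotangent := Module.Finite.of_surjective I.toCotangent I.toCotangent_surjective
    have : Module.Finite (R ⧸ I) I.Cotangent := Module.Finite.of_restrictScalars_finite R _ _
    have fgC : (⊤ : Submodule (R ⧸ I) I.Cotangent).FG := Module.Finite.fg_top
    refine le_antisymm ?_ ?_
    · have hfin := Submodule.FG.finite_generators fgI
      let g : Submodule.generators I → I.Cotangent :=
        fun x => I.toCotangent ⟨x.1, (Submodule.span_generators I).le (Submodule.subset_span x.2)⟩
      have : Finite (Submodule.generators I) := hfin
      have hspan : Submodule.span (R ⧸ I) (Set.range g) = ⊤ := by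
        refine top_unique fun c _ => ?_
        obtain ⟨⟨x, hx⟩, rfl⟩ := I.toCotangent_surjective c
        have : ∀ x (hx : x ∈ Submodule.span R (Submodule.generators I)) (hx' : x ∈ I),
            I.toCotangent ⟨x, hx'⟩ ∈ Submodule.span (R ⧸ I) (Set.range g) := by
          intro x hx
          induction hx using Submodule.span_induction with
          | mem x hx => exact fun _ => Submodule.subset_span ⟨⟨x, hx⟩, rfl⟩
          | zero => intro h; rw [show (⟨0, h⟩ : I) = 0 from rfl, map_zero]; exact zero_mem _
          | add a b ha hb iha ihb =>
            intro h
            have ha' : a ∈ I := Submodule.span_generators I ▸ ha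
            have hb' : b ∈ I := Submodule.span_generators I ▸ hb
            rw [show (⟨a + b, h⟩ : I) = ⟨a, ha'⟩ + ⟨b, hb'⟩ from rfl, map_add]
            exact add_mem (iha _) (ihb _)
          | smul r a ha iha =>
            intro h
            have ha' : a ∈ I := Submodule.span_generators I ▸ ha
            rw [show (⟨r • a, h⟩ : I) = r • ⟨a, ha'⟩ from rfl, map_smul, ← algebraMap_smul (R ⧸ I) r]
            exact Submodule.smul_mem _ _ (iha _)
        exact this x (Submodule.span_generators I |>.symm ▸ hx) hx
      rw [← hspan, ← Submodule.FG.generators_ncard fgI]
      refine (Submodule.spanFinrank_span_le_ncard_of_finite (Set.finite_range g)).trans ?_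
      rw [← Set.image_univ, ← Nat.card_coe_set_eq (Submodule.generators I), ← Set.ncard_univ]
      exact Set.ncard_image_le Set.finite_univ
    · have hfin := Submodule.FG.finite_generators fgC
      rw [← Submodule.FG.generators_ncard fgC]
      choose y hy using fun c => I.toCotangent_surjective c
      let T : Set R := (fun c => (y c : R)) '' Submodule.generators (⊤ : Submodule (R ⧸ I) I.Cotangent)
      have hT : Ideal.span T = I := by
        refine le_antisymm (Ideal.span_le.mpr ?_) ?_
        · rintro _ ⟨c, -, rfl⟩
          exact (y c).2
        refine Submodule.le_of_le_smul_of_le_jacobson_bot fgI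
          (hm.trans (IsLocalRing.maximalIdeal_le_jacobson _)) fun x hx => ?_
        have h1 : I.toCotangent ⟨x, hx⟩ ∈ (Submodule.span R
            (Submodule.generators (⊤ : Submodule (R ⧸ I) I.Cotangent))) := by
          have h0 : I.toCotangent ⟨x, hx⟩ ∈ Submodule.span (R ⧸ I)
              (Submodule.generators (⊤ : Submodule (R ⧸ I) I.Cotangent)) := by
            rw [Submodule.span_generators]; trivial
          rwa [← Submodule.restrictScalars_mem R, Submodule.restrictScalars_span R (R ⧸ I)
            Ideal.Quotient.mk_surjective] at h0
        have h2 : I.toCotangent ⟨x, hx⟩ ∈ Submodule.map I.toCotangent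
            (Submodule.span R (y '' Submodule.generators (⊤ : Submodule (R ⧸ I) I.Cotangent))) := by
          rw [Submodule.map_span, Set.image_image]
          simpa [hy] using h1
        obtain ⟨z, hz, hzx⟩ := h2
        rw [Ideal.toCotangent_eq] at hzx
        have hzT : (z : R) ∈ Ideal.span T := by
          have := Submodule.mem_map_of_mem (f := I.subtype) hz
          rw [Submodule.map_span, Set.image_image] at this
          exact this
        rw [show x = (z : R) + (x - z) by ring]
        refine Submodule.add_mem_sup hzT ?_
        rw [smul_eq_mul, ← pow_two]
        rw [← neg_sub]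
        exact neg_mem hzx
      calc I.spanFinrank = (Ideal.span T).spanFinrank := by rw [hT]
        _ ≤ T.ncard := Submodule.spanFinrank_span_le_ncard_of_finite (hfin.image _)
        _ ≤ _ := Set.ncard_image_le hfin
  rw [key]

end Groth.Agent.S2167
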