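import Groth.Statements.S2168
import Groth.Agent.FrobLCI.Avramov.Flat
import Groth.Agent.CI.Locus
import Groth.Agent.S2473

set_option autoImplicit false
universe u
open LCI

namespace Groth.Agent.S2168

/-- Let A be a Noetherian local ring which is a complete intersection (its completion is a regular local
ring modulo a regular sequence) and let p be a prime ideal of A. Then the localization A_p is a
complete intersection as well. -/
theorem result {A : Type u} [CommRing A] [IsNoetherianRing A]
    [IsLocalRing A] (hA : Pi1.IsCompleteIntersection A) (p : Ideal A) [p.IsPrime] :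
    Pi1.IsCompleteIntersection (Localization.AtPrime p) := by
  obtain ⟨C, _, _, rs, hmem, hreg, ⟨e⟩⟩ := hA
  have := Groth.Ega4b.isNoetherianRing_cpl A
  have := Groth.Ega4Algebra1.isLocalRing_cpl_complete A
  have : IsLocalHom (algebraMap A (EGA4.Cpl A)) := inferInstance
  have : Module.FaithfullyFlat A (EGA4.Cpl A) := Module.FaithfullyFlat.of_flat_of_isLocalHom
  have : IsRegularRing C := (Groth.Agent.S2473.isRegularRing_iff_local C).mpr inferInstance
  obtain ⟨P, hP⟩ := PrimeSpectrum.comap_surjective_of_faithfullyFlat (A := A) (B := EGA4.Cpl A)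
    ⟨p, inferInstance⟩
  have hPp : P.asIdeal.comap (algebraMap A (EGA4.Cpl A)) = p := congrArg PrimeSpectrum.asIdeal hP
  let π : C →+* EGA4.Cpl A := e.symm.toRingHom.comp (Ideal.Quotient.mk _)
  have hπ : Function.Surjective π := e.symm.surjective.comp Ideal.Quotient.mk_surjective
  have hker : RingHom.ker π = Ideal.ofList rs := by
    rw [RingHom.ker_equiv_comp, Ideal.mk_ker]
  have hCI : Pi1.IsCompleteIntersection (Localization.AtPrime P.asIdeal) := by
    refine (Groth.CI.isCompleteIntersection_atPrime_iff π hπ P.asIdeal).mpr
      ⟨rs.map (algebraMap C _), by rw [← Ideal.map_ofList, hker],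
        (IsLocalRing.isRegular_iff_isWeaklyRegular_of_subset_maximalIdeal fun x hx => ?_).mpr
          hreg.toIsWeaklyRegular.of_flat⟩
    obtain ⟨y, hy, rfl⟩ := List.mem_map.mp hx
    rw [← Localization.AtPrime.map_eq_maximalIdeal]
    refine Ideal.mem_map_of_mem _ (Ideal.ker_le_comap π ?_)
    rw [hker]
    exact Ideal.subset_span hy
  let φ := Localization.localRingHom p P.asIdeal (algebraMap A (EGA4.Cpl A)) hPp.symm
  letI := φ.toAlgebra
  have : IsLocalHom (algebraMap (Localization.AtPrime p) (Localization.AtPrime P.asIdeal)) :=
    Localization.isLocalHom_localRingHom _ _ _ _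
  have : IsScalarTower A (Localization.AtPrime p) (Localization.AtPrime P.asIdeal) :=
    IsScalarTower.of_algebraMap_eq fun x => by
      rw [RingHom.algebraMap_toAlgebra, Localization.localRingHom_to_map, ← IsScalarTower.algebraMap_apply]
  have : Module.Flat A (Localization.AtPrime P.asIdeal) := Module.Flat.trans A (EGA4.Cpl A) _
  have : Module.Flat (Localization.AtPrime p) (Localization.AtPrime P.asIdeal) :=
    (Module.flat_iff_of_isLocalization (R := A) (Localization.AtPrime p) p.primeCompl _).mpr inferInstance
  have hne : (IsLocalRing.maximalIdeal (Localization.AtPrime p)).map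
      (algebraMap (Localization.AtPrime p) (Localization.AtPrime P.asIdeal)) ≠ ⊤ :=
    ne_top_of_le_ne_top (IsLocalRing.maximalIdeal.isMaximal _).ne_top (IsLocalRing.map_maximalIdeal_le _)
  have := Ideal.Quotient.nontrivial_iff.mpr hne
  have := IsLocalRing.of_surjective' _ (Ideal.Quotient.mk_surjective (I := (IsLocalRing.maximalIdeal (Localization.AtPrime p)).map
      (algebraMap (Localization.AtPrime p) (Localization.AtPrime P.asIdeal))))
  exact ((Groth.FrobLCI.Avramov.isCompleteIntersection_iff_of_flat _ _).mp hCI).1

end Groth.Agent.S2168
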