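import Groth.Statements.S2169
import Groth.Agent.CI.Criterion
-- import your own Groth.Agent.* helpers here

set_option autoImplicit false
universe u
open LCI

namespace Groth.Agent.S2169

/-- Let A be a complete Noetherian local ring whose completion is a regular local ring modulo a regular
sequence. Then for every surjection R -> A from a regular local ring R, the kernel is generated by a
regular sequence of R. -/
theorem result {A R : Type u} [CommRing A] [CommRing R]
    [IsNoetherianRing A] [IsLocalRing A] [IsAdicComplete (IsLocalRing.maximalIdeal A) A]
    [IsRegularLocalRing R] (f : R →+* A) (hf : Function.Surjective f)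
    (hA : Pi1.IsCompleteIntersection A) :
    ∃ rs : List R, Ideal.ofList rs = RingHom.ker f ∧ RingTheory.Sequence.IsRegular R rs := by
  obtain ⟨B, _, _, rs, hmem, hrs, ⟨e⟩⟩ := hA
  let o := (AdicCompletion.ofAlgEquiv (IsLocalRing.maximalIdeal A) (S := A)).toRingEquiv
  let π : B →+* A := (e.symm.trans o.symm).toRingHom.comp (Ideal.Quotient.mk _)
  have hπ : Function.Surjective π := (e.symm.trans o.symm).surjective.comp Ideal.Quotient.mk_surjective
  refine Groth.CI.exists_regular_ker_congr π hπ f hf ⟨rs, ?_, hrs⟩
  rw [show π = (e.symm.trans o.symm).toRingHom.comp (Ideal.Quotient.mk _) from rfl,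
    RingHom.ker_comp_of_injective _ (e.symm.trans o.symm).injective, Ideal.mk_ker]

end Groth.Agent.S2169
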