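import Groth.Statements.S2170
import Groth.Agent.ModelsGraphs.NT

set_option autoImplicit false
open Finset
open Models

namespace Groth.Agent.S2170

/-- Let A be a symmetric real n × n matrix with non-negative off-diagonal entries and m a vector with
positive entries such that for every i, ∑_{j ≠ i} A_{ij} m_j ≤ −A_{ii} m_i. Then the kernel of A is
the span of the vectors equal to m on an index set I and zero off I, for those I such that A_{ij} =
0 whenever i ∈ I and j ∉ I and such that equality holds in the above inequality for every i ∈ I. The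
published statement omits the symmetry of A (without which it fails) and applies it only to
symmetric matrices; stated here with A symmetric. -/
theorem result {n : ℕ} (A : Matrix (Fin n) (Fin n) ℝ) (m : Fin n → ℝ)
    (hsymm : A.IsSymm) (hA : ∀ i j, i ≠ j → 0 ≤ A i j) (hm : ∀ i, 0 < m i)
    (hle : ∀ i, ∑ j ∈ univ.erase i, A i j * m j ≤ -(A i i * m i)) :
    LinearMap.ker (Matrix.mulVecLin A) = Submodule.span ℝ
      {x : Fin n → ℝ | ∃ I : Finset (Fin n), (∀ i ∈ I, ∀ j ∉ I, A i j = 0) ∧
        (∀ i ∈ I, ∑ j ∈ univ.erase i, A i j * m j = -(A i i * m i)) ∧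
        x = fun i => if i ∈ I then m i else 0} := by
  classical
  have hrow : ∀ i, (A.mulVec m) i = A i i * m i + ∑ j ∈ univ.erase i, A i j * m j := fun i =>
    (add_sum_erase univ (fun j => A i j * m j) (mem_univ i)).symm
  have hAm : ∀ i, (A.mulVec m) i ≤ 0 := fun i => by rw [hrow]; linarith [hle i]
  apply le_antisymm
  · intro x hx
    rw [LinearMap.mem_ker, Matrix.mulVecLin_apply] at hx
    obtain ⟨h1, h2⟩ := (Groth.ModelsGraphs.form_nonpos hsymm hA hm hAm x).2 (by rw [hx, dotProduct_zero])
    set y : Fin n → ℝ := fun i => x i / m i with hy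
    let Q := (univ.image y).erase 0
    have hI : ∀ q ∈ Q, (fun i => if i ∈ univ.filter (fun j => y j = q) then m i else 0) ∈
        {x : Fin n → ℝ | ∃ I : Finset (Fin n), (∀ i ∈ I, ∀ j ∉ I, A i j = 0) ∧
        (∀ i ∈ I, ∑ j ∈ univ.erase i, A i j * m j = -(A i i * m i)) ∧
        x = fun i => if i ∈ I then m i else 0} := by
      intro q hq
      refine ⟨univ.filter (fun j => y j = q), fun i hi j hj => ?_, fun i hi => ?_, rfl⟩
      · by_contra h
        exact hj (mem_filter.2 ⟨mem_univ j, (h2 i j h).symm.trans (mem_filter.1 hi).2⟩)
      · have hxi : x i ≠ 0 := by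
          intro h
          have hyi := (mem_filter.1 hi).2
          simp [hy, h] at hyi
          exact (mem_erase.1 hq).1 hyi.symm
        have := h1 i hxi
        rw [hrow] at this
        linarith
    have hsum : x = ∑ q ∈ Q, q • (fun i => if i ∈ univ.filter (fun j => y j = q) then m i else 0) := by
      funext i
      simp only [Finset.sum_apply, Pi.smul_apply, smul_eq_mul, mem_filter, mem_univ, true_and,
        mul_ite, mul_zero, sum_ite_eq]
      have hxy : x i = y i * m i := by simp [hy, (hm i).ne']
      split_ifs with h
      · exact hxy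
      · have : y i = 0 := by simpa [Q] using h
        rw [hxy, this, zero_mul]
    rw [hsum]
    exact Submodule.sum_mem _ fun q hq => Submodule.smul_mem _ q (Submodule.subset_span (hI q hq))
  · rw [Submodule.span_le]
    rintro _ ⟨I, hI, hI2, rfl⟩
    rw [SetLike.mem_coe, LinearMap.mem_ker, Matrix.mulVecLin_apply]
    funext i
    simp only [Matrix.mulVec, dotProduct, Pi.zero_apply, mul_ite, mul_zero, sum_ite_mem, univ_inter]
    by_cases hi : i ∈ I
    · rw [sum_subset (subset_univ I) (fun j _ hj => by rw [hI i hi j hj, zero_mul])]
      have := hI2 i hi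
      rw [← add_sum_erase univ _ (mem_univ i), this]
      ring
    · exact sum_eq_zero fun j hj => by rw [← hsymm.apply, hI j hj i hi, zero_mul]

end Groth.Agent.S2170
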