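import Groth.Statements.S2178
import Groth.Agent.ModelsGraphs.Pic

set_option autoImplicit false
set_option linter.unusedSimpArgs false
open Finset
open Models Models.NumericalType

namespace Groth.Agent.S2178

/-- The Picard group of a numerical type (the cokernel of the matrix (a i j / w i) acting on Z^n) has
free rank one: its rank as a Z-module is 1. -/
theorem result {n : ℕ} (T : Models.NumericalType n) : Module.finrank ℤ T.Pic = 1 := by
  exact Groth.ModelsGraphs.finrank_pic T

end Groth.Agent.S2178
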