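import Groth.Statements.S2179
import Groth.Agent.ModelsGraphs.Pic

set_option autoImplicit false
set_option linter.unusedSimpArgs false
open Finset
open Models Models.NumericalType

namespace Groth.Agent.S2179

/-- For a numerical type T, the map Z^n -> Z^n multiplying the i-th coordinate by w i induces a
well-defined injective homomorphism from Pic(T), the cokernel of (a i j / w i), to the cokernel of
the matrix a. -/
theorem result {n : ℕ} (T : Models.NumericalType n) :
    ∃ f : T.Pic →+ T.CokerA, Function.Injective f ∧
      ∀ x : Fin n → ℤ, f (Submodule.Quotient.mk x) = Submodule.Quotient.mk (fun i => T.w i * x i) := by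
  exact Groth.ModelsGraphs.pic_embeds T

end Groth.Agent.S2179
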