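import Groth.Statements.S2187
import Groth.Agent.FrobLCI.Vasconcelos

set_option autoImplicit false
universe u
open CategoryTheory
open LCI

namespace Groth.Agent.S2187

/-- Let R be a Noetherian local ring and I an ideal of finite projective dimension as an R-module. If F
is a direct summand of the conormal module I/I^2 which is isomorphic to R/I, then there is a
nonzerodivisor x in I whose class in I/I^2 generates F. -/
theorem result {R : Type u} [CommRing R]
    [IsNoetherianRing R] [IsLocalRing R] (I : Ideal R) (n : ℕ)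
    (hpd : HasProjectiveDimensionLT (ModuleCat.of R I) n)
    (F G : Submodule (R ⧸ I) I.Cotangent) (hFG : IsCompl F G) (e : F ≃ₗ[R ⧸ I] (R ⧸ I)) :
    ∃ (x : R) (hx : x ∈ I), x ∈ nonZeroDivisors R ∧
      Submodule.span (R ⧸ I) {I.toCotangent ⟨x, hx⟩} = F := by
  by_cases hI : I = ⊤
  · subst hI
    have : Subsingleton (R ⧸ (⊤ : Ideal R)) := Ideal.Quotient.subsingleton_iff.2 rfl
    have : Subsingleton (Ideal.Cotangent (⊤ : Ideal R)) := Module.subsingleton (R ⧸ (⊤ : Ideal R)) _
    exact ⟨1, trivial, one_mem _, Subsingleton.elim _ _⟩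
  have : Nontrivial (R ⧸ I) := Ideal.Quotient.nontrivial_iff.2 hI
  set b : I.Cotangent := (e.symm 1).1 with hb
  obtain ⟨y, hy⟩ := I.toCotangent_surjective b
  have hne : I ≠ ⊥ := fun h => by
    have h0 : (e.symm 1) = 0 := Subtype.ext (show b = 0 from hy ▸ by
      rw [show y = 0 from Subtype.ext ((Submodule.eq_bot_iff I).1 h _ y.2), map_zero])
    exact one_ne_zero (e.symm.map_eq_zero_iff.1 h0)
  obtain ⟨z, hz, hnzd⟩ := Groth.FrobLCI.Vasconcelos.exists_add_mem_nonZeroDivisors I hne n hpd (y : R)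
  refine ⟨(y : R) + z, add_mem y.2 (Ideal.pow_le_self two_ne_zero hz), hnzd, ?_⟩
  have hcls : I.toCotangent ⟨(y : R) + z, add_mem y.2 (Ideal.pow_le_self two_ne_zero hz)⟩ = b := by
    rw [← hy, Ideal.toCotangent_eq]
    simpa using hz
  rw [hcls]
  refine le_antisymm (Submodule.span_le.2 fun v hv => Set.mem_singleton_iff.1 hv ▸ (e.symm 1).2) fun v hv => ?_
  refine Submodule.mem_span_singleton.2 ⟨e ⟨v, hv⟩, congrArg Subtype.val (?_ : e ⟨v, hv⟩ • e.symm 1 = ⟨v, hv⟩)⟩
  rw [← map_smul, smul_eq_mul, mul_one, LinearEquiv.symm_apply_apply]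

end Groth.Agent.S2187
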