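import Groth.Statements.S2188
import Groth.Agent.FrobLCI.Vasconcelos

set_option autoImplicit false
universe u
open CategoryTheory
open LCI

namespace Groth.Agent.S2188

/-- Let R be a Noetherian local ring and I an ideal of finite projective dimension as an R-module. If F
is a direct summand of I/I^2 which is free of rank r over R/I, then there is a regular sequence x_1,
..., x_r of R inside I whose classes in I/I^2 generate F. -/
theorem result {R : Type u} [CommRing R]
    [IsNoetherianRing R] [IsLocalRing R] (I : Ideal R) (hI : I ≠ ⊤) (n : ℕ)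
    (hpd : HasProjectiveDimensionLT (ModuleCat.of R I) n)
    (F G : Submodule (R ⧸ I) I.Cotangent) (hFG : IsCompl F G) (r : ℕ)
    (e : F ≃ₗ[R ⧸ I] (Fin r → R ⧸ I)) :
    ∃ (x : Fin r → R) (hx : ∀ i, x i ∈ I), RingTheory.Sequence.IsRegular R (List.ofFn x) ∧
      Submodule.span (R ⧸ I) (Set.range fun i => I.toCotangent ⟨x i, hx i⟩) = F := by
  classical
  have : Nontrivial (R ⧸ I) := Ideal.Quotient.nontrivial_iff.2 hI
  choose y hy using fun i : Fin r => I.toCotangent_surjective (e.symm (Pi.single i 1)).1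
  let φ : I →ₗ[R] (Fin r → R ⧸ I) :=
    (((e : F →ₗ[R ⧸ I] (Fin r → R ⧸ I)).comp (Submodule.projectionOnto F G hFG)).restrictScalars R).comp
      I.toCotangent
  have hφ : ∀ i, φ (y i) = Pi.single i 1 := fun i => by
    show e (Submodule.projectionOnto F G hFG (I.toCotangent (y i))) = _
    rw [hy, Submodule.projectionOnto_apply_left, LinearEquiv.apply_symm_apply]
  obtain ⟨x, hx, hreg⟩ := Groth.FrobLCI.Vasconcelos.exists_isWeaklyRegular r R I hI n hpd y φ hφ
  have hxI : ∀ i, x i ∈ I := fun i => by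
    simpa using add_mem (Ideal.pow_le_self two_ne_zero (hx i)) (y i).2
  refine ⟨x, hxI, RingTheory.Sequence.IsRegular.of_isWeaklyRegular_of_mem_maximalIdeal R (fun a ha => ?_) hreg, ?_⟩
  · obtain ⟨i, rfl⟩ := List.mem_ofFn.1 ha
    exact IsLocalRing.le_maximalIdeal hI (hxI i)
  have hcls : (fun i => I.toCotangent ⟨x i, hxI i⟩) =
      fun i => F.subtype (e.symm (Pi.basisFun (R ⧸ I) (Fin r) i)) := funext fun i => by
    rw [Pi.basisFun_apply, Submodule.subtype_apply, ← hy, Ideal.toCotangent_eq]
    exact hx i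
  rw [hcls]
  refine le_antisymm (Submodule.span_le.2 ?_) fun v hv => ?_
  · rintro _ ⟨i, rfl⟩
    exact (e.symm (Pi.basisFun (R ⧸ I) (Fin r) i)).2
  · have h1 := congrArg (fun w => F.subtype (e.symm w)) ((Pi.basisFun (R ⧸ I) (Fin r)).sum_repr (e ⟨v, hv⟩))
    simp only [map_sum, map_smul, LinearEquiv.symm_apply_apply, Submodule.subtype_apply] at h1
    rw [← h1]
    exact Submodule.sum_mem _ fun i _ => Submodule.smul_mem _ _ (Submodule.subset_span ⟨i, rfl⟩)

end Groth.Agent.S2188
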