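import Groth.Statements.S2189
import Groth.Agent.FrobLCI.Vasconcelos
import Groth.Agent.FrobLCI.RegularSpread

set_option autoImplicit false
universe u
open CategoryTheory
open LCI
open scoped TensorProduct

namespace Groth.Agent.S2189

/-- Localisation of a finite projective conormal module. -/
theorem projective_cotangent_map {R B : Type u} [CommRing R] [CommRing B] [Algebra R B] (I : Ideal R)
    [Module.Finite (R ⧸ I) I.Cotangent] [Module.Projective (R ⧸ I) I.Cotangent]
    (J : Ideal B) (hJ : ∀ a ∈ I, algebraMap R B a ∈ J) (ε : (B ⊗[R] I) ≃ₗ[B] J)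
    (hε : ∀ a : I, (ε (1 ⊗ₜ a) : B) = algebraMap R B a) :
    Module.Projective (B ⧸ J) J.Cotangent := by
  classical
  obtain ⟨k, f, g, hf, -, hfg⟩ := Module.Finite.exists_comp_eq_id_of_projective (R ⧸ I) I.Cotangent
  choose y hy using fun j : Fin k => I.toCotangent_surjective (f (Pi.single j 1))
  let π : (R ⧸ I) →ₗ[R] (B ⧸ J) := Submodule.liftQ I
    ((Ideal.Quotient.mkₐ R J).toLinearMap.comp (Algebra.linearMap R B))
    fun c hc => Ideal.Quotient.eq_zero_iff_mem.2 (hJ _ hc)
  have hπ : ∀ c : R, π (Ideal.Quotient.mk I c) = Ideal.Quotient.mk J (algebraMap R B c) := fun c => rfl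
  let g0 : I →ₗ[R] (Fin k → R ⧸ I) := (g.restrictScalars R).comp I.toCotangent
  let g1 : I →ₗ[R] (Fin k → B ⧸ J) := (LinearMap.pi fun j => π.comp (LinearMap.proj j)).comp g0
  let g2 : J →ₗ[B] (Fin k → B ⧸ J) := (g1.liftBaseChange B).comp ε.symm.toLinearMap
  let σ₀ : J.Cotangent →ₗ[B] (Fin k → B ⧸ J) := Submodule.liftQ _ g2 (Submodule.smul_le.2 fun c hc v _ => by
    rw [LinearMap.mem_ker, map_smul]
    funext j
    rw [Pi.smul_apply, Algebra.smul_def, show algebraMap B (B ⧸ J) c = 0 from
      Ideal.Quotient.eq_zero_iff_mem.2 hc, zero_mul, Pi.zero_apply])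
  let σ : J.Cotangent →ₗ[B ⧸ J] (Fin k → B ⧸ J) := σ₀.extendScalarsOfSurjective Ideal.Quotient.mk_surjective
  let cls : Fin k → J.Cotangent := fun j =>
    J.toCotangent ⟨algebraMap R B (y j), hJ _ (y j).2⟩
  let P : (Fin k → B ⧸ J) →ₗ[B ⧸ J] J.Cotangent := Fintype.linearCombination (B ⧸ J) cls
  refine Module.Projective.of_split σ P (LinearMap.ext fun v => ?_)
  obtain ⟨w, rfl⟩ := J.toCotangent_surjective v
  obtain ⟨z, rfl⟩ := ε.surjective w
  change P (g2 (ε z)) = J.toCotangent (ε z)
  simp only [g2, LinearMap.comp_apply, LinearEquiv.coe_coe, LinearEquiv.symm_apply_apply]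
  induction z using TensorProduct.induction_on with
  | zero => simp
  | add a b ha hb => simp only [map_add, ha, hb]
  | tmul b a =>
    rw [show b ⊗ₜ[R] a = b • ((1 : B) ⊗ₜ[R] a) by rw [TensorProduct.smul_tmul', smul_eq_mul, mul_one]]
    simp only [map_smul, LinearMap.map_smul_of_tower]
    congr 1
    rw [LinearMap.liftBaseChange_tmul, one_smul]
    choose c hc using fun j => Ideal.Quotient.mk_surjective (g0 a j)
    have h0 : I.toCotangent a = ∑ j, c j • I.toCotangent (y j) := by
      have h1 : f (g0 a) = I.toCotangent a := LinearMap.congr_fun hfg _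
      rw [← h1]
      conv_lhs => rw [← (Pi.basisFun (R ⧸ I) (Fin k)).sum_repr (g0 a)]
      rw [map_sum]
      refine Finset.sum_congr rfl fun j _ => ?_
      rw [map_smul, Pi.basisFun_repr, Pi.basisFun_apply, ← hy, ← hc]
      rfl
    let m := Ideal.mapCotangent I J (Algebra.ofId R B) (fun x hx => hJ x hx)
    have h1 := congrArg m h0
    rw [map_sum] at h1
    simp only [map_smul, m, Ideal.mapCotangent_toCotangent] at h1
    rw [show ε ((1 : B) ⊗ₜ[R] a) = (⟨algebraMap R B a, hJ _ a.2⟩ : J) from Subtype.ext (hε a)]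
    refine Eq.trans ?_ h1.symm
    rw [Fintype.linearCombination_apply]
    refine Finset.sum_congr rfl fun j _ => ?_
    change π (g0 a j) • cls j = _
    rw [← hc, hπ, ← Ideal.Quotient.algebraMap_eq, algebraMap_smul, algebraMap_smul]
    rfl


/-- Let R be a Noetherian ring and I an ideal which has finite projective dimension as an R-module and
whose conormal module I/I^2 is finite locally free (projective) over R/I. Then I is a regular ideal:
for every prime p containing I there is g outside p such that the extension of I to R_g is generated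
by a regular sequence of R_g. -/
theorem result {R : Type u} [CommRing R]
    [IsNoetherianRing R] (I : Ideal R) (n : ℕ)
    (hpd : HasProjectiveDimensionLT (ModuleCat.of R I) n)
    [Module.Projective (R ⧸ I) I.Cotangent] (p : Ideal R) [p.IsPrime] (hIp : I ≤ p) :
    ∃ g : R, g ∉ p ∧ ∃ rs : List (Localization.Away g),
      RingTheory.Sequence.IsRegular (Localization.Away g) rs ∧
        Ideal.ofList rs = I.map (algebraMap R (Localization.Away g)) := by
  classical
  let B := Localization.AtPrime p
  set J := I.map (algebraMap R B) with hJ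
  let j : B ⊗[R] I →ₗ[B] B := ((Algebra.linearMap R B).comp I.subtype).liftBaseChange B
  have hrange : LinearMap.range j = J := by
    refine le_antisymm ?_ (Ideal.span_le.2 ?_)
    · rintro _ ⟨z, rfl⟩
      induction z using TensorProduct.induction_on with
      | zero => simp
      | tmul b a =>
        rw [LinearMap.liftBaseChange_tmul, smul_eq_mul]
        exact J.mul_mem_left _ (Ideal.mem_map_of_mem _ a.2)
      | add a b ha hb => rw [map_add]; exact add_mem ha hb
    · rintro _ ⟨a, ha, rfl⟩
      exact ⟨1 ⊗ₜ ⟨a, ha⟩, by simp [j]⟩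
  have hj : Function.Injective j := by
    have h1 : Function.Injective (I.subtype.baseChange B) :=
      Module.Flat.lTensor_preserves_injective_linearMap _ (Submodule.subtype_injective _)
    have h2 : j = (TensorProduct.AlgebraTensorModule.rid R B B).toLinearMap.comp (I.subtype.baseChange B) := by
      refine TensorProduct.AlgebraTensorModule.ext fun b a => ?_
      simp [j, Algebra.smul_def, mul_comm]
    rw [h2]
    exact (TensorProduct.AlgebraTensorModule.rid R B B).injective.comp h1
  let ε : (B ⊗[R] I) ≃ₗ[B] J := (LinearEquiv.ofInjective j hj).trans (LinearEquiv.ofEq _ _ hrange)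
  have hε : ∀ a : I, (ε (1 ⊗ₜ a) : B) = algebraMap R B a := fun a => by
    simp [ε, j]
  have hpdJ : Groth.Ega4Algebra1.PdLT B J n :=
    Groth.Ega4Algebra1.PdLT.of_equiv ε (Groth.Ega4Algebra1.PdLT.baseChange B n hpd)
  have : Module.Finite R I.Cotangent := Module.Finite.of_surjective _ I.toCotangent_surjective
  have : Module.Finite (R ⧸ I) I.Cotangent := Module.Finite.of_restrictScalars_finite R _ _
  have := projective_cotangent_map I J (fun a ha => Ideal.mem_map_of_mem _ ha) ε hε
  have hJle : J ≤ IsLocalRing.maximalIdeal B := by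
    rw [← IsLocalization.AtPrime.map_eq_maximalIdeal p B]
    exact Ideal.map_mono hIp
  have hJtop : J ≠ ⊤ := fun h => (IsLocalRing.maximalIdeal.isMaximal B).ne_top (top_le_iff.1 (h ▸ hJle))
  have : Nontrivial (B ⧸ J) := Ideal.Quotient.nontrivial_iff.2 hJtop
  have : IsLocalRing (B ⧸ J) := IsLocalRing.of_surjective' _ Ideal.Quotient.mk_surjective
  have : Module.Finite B J.Cotangent := Module.Finite.of_surjective _ J.toCotangent_surjective
  have : Module.Finite (B ⧸ J) J.Cotangent := Module.Finite.of_restrictScalars_finite B _ _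
  have : Module.Free (B ⧸ J) J.Cotangent := Module.free_of_flat_of_isLocalRing
  obtain ⟨r, ⟨bas⟩⟩ : ∃ r : ℕ, Nonempty (Module.Basis (Fin r) (B ⧸ J) J.Cotangent) :=
    ⟨_, ⟨Module.finBasis (B ⧸ J) J.Cotangent⟩⟩
  choose y hy using fun i => J.toCotangent_surjective (bas i)
  let φ : J →ₗ[B] (Fin r → B ⧸ J) := (bas.equivFun.toLinearMap.restrictScalars B).comp J.toCotangent
  have hφ : ∀ i, φ (y i) = Pi.single i 1 := fun i => by
    show bas.equivFun (J.toCotangent (y i)) = _
    funext k
    rw [hy, Module.Basis.equivFun_self]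
    simp [Pi.single_apply, eq_comm]
  obtain ⟨x, hx, hreg⟩ := Groth.FrobLCI.Vasconcelos.exists_isWeaklyRegular r B J hJtop n hpdJ y φ hφ
  have hxJ : ∀ i, x i ∈ J := fun i => by
    simpa using add_mem (Ideal.pow_le_self two_ne_zero (hx i)) (y i).2
  have hgen : J ≤ Ideal.span (Set.range x) := by
    refine Submodule.le_of_le_smul_of_le_jacobson_bot (I := J) (IsNoetherian.noetherian _)
      (hJle.trans (IsLocalRing.maximalIdeal_le_jacobson _)) fun v hv => ?_
    have hsum := congrArg id (bas.sum_equivFun (J.toCotangent ⟨v, hv⟩))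
    choose c hc using fun i => Ideal.Quotient.mk_surjective (bas.equivFun (J.toCotangent ⟨v, hv⟩) i)
    have h1 : J.toCotangent (∑ i, c i • (⟨x i, hxJ i⟩ : J)) = J.toCotangent ⟨v, hv⟩ := by
      rw [map_sum]
      refine Eq.trans ?_ hsum
      refine Finset.sum_congr rfl fun i _ => ?_
      rw [map_smul, ← hy, show J.toCotangent ⟨x i, hxJ i⟩ = J.toCotangent (y i) from
        J.toCotangent_eq.2 (hx i), ← hc, ← Ideal.Quotient.algebraMap_eq, algebraMap_smul]
    rw [Ideal.toCotangent_eq] at h1
    simp only [Submodule.coe_sum, Submodule.coe_smul, smul_eq_mul] at h1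
    rw [← sub_sub_cancel (∑ i, c i * x i) v]
    refine Submodule.mem_sup.2 ⟨_, Ideal.sum_mem _ fun i _ => Ideal.mul_mem_left _ _ (Ideal.subset_span ⟨i, rfl⟩),
      -((∑ i, c i * x i) - v), neg_mem ?_, by rw [← sub_eq_add_neg]⟩
    rw [smul_eq_mul, ← sq]
    exact h1
  choose a ha using fun i => (IsLocalization.mem_map_algebraMap_iff p.primeCompl B).1 (hxJ i)
  let as : List R := List.ofFn fun i => ((a i).1 : R)
  have hassoc : List.Forall₂ Associated (List.ofFn x) (as.map (algebraMap R B)) := by
    rw [List.map_ofFn, List.forall₂_iff_get]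
    refine ⟨by simp, fun i h1 h2 => ?_⟩
    simp only [List.get_eq_getElem, List.getElem_ofFn, Function.comp_apply]
    exact ⟨(IsLocalization.map_units B (a ⟨i, by simpa using h1⟩).2).unit, ha _⟩
  obtain ⟨t, ht, haway⟩ := Groth.FrobLCI.RegularSpread.exists_away p as
    (Groth.FrobLCI.RegularSpread.isWeaklyRegular_of_forall₂ hassoc hreg)
  have hofList : ∀ {S : Type u} [CommRing S] (k : ℕ) (z : Fin k → S),
      Ideal.ofList (List.ofFn z) = Ideal.span (Set.range z) := fun k z => by
    simp [Ideal.ofList, List.mem_ofFn, Set.range]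
  have hmem : ∀ c ∈ I, ∃ s ∉ p, s * c ∈ Ideal.ofList as := fun c hc => by
    have h1 : algebraMap R B c ∈ Ideal.ofList (as.map (algebraMap R B)) := by
      rw [← Groth.FrobLCI.RegularSpread.ofList_eq_of_forall₂ hassoc, hofList]
      exact hgen (Ideal.mem_map_of_mem _ hc)
    rw [← Ideal.map_ofList, IsLocalization.algebraMap_mem_map_algebraMap_iff p.primeCompl] at h1
    obtain ⟨s, hs, hsc⟩ := h1
    exact ⟨s, hs, hsc⟩
  obtain ⟨s, hs, hsI⟩ := Groth.FrobLCI.RegularSpread.exists_notMem_mul_mem p _ (IsNoetherian.noetherian I) hmem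
  refine ⟨t * s, fun h => (Ideal.IsPrime.mem_or_mem inferInstance h).elim ht hs, as.map (algebraMap R _), ?_, ?_⟩
  rotate_left
  · rw [← Ideal.map_ofList]
    refine le_antisymm (Ideal.map_mono (Ideal.span_le.2 fun z hz => ?_)) ?_
    · obtain ⟨i, rfl⟩ := List.mem_ofFn.1 hz
      exact (a i).1.2
    · refine Ideal.map_le_iff_le_comap.2 fun c hc => ?_
      rw [Ideal.mem_comap, IsLocalization.algebraMap_mem_map_algebraMap_iff (Submonoid.powers (t * s))]
      exact ⟨t * s, Submonoid.mem_powers _, by rw [mul_assoc]; exact Ideal.mul_mem_left _ _ (hsI c hc)⟩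
  refine ⟨haway _ (dvd_mul_right t s), ?_⟩
  rw [smul_eq_mul, Ideal.mul_top, ← Ideal.map_ofList]
  intro htop
  have h1 : (1 : Localization.Away (t * s)) ∈ (Ideal.ofList as).map (algebraMap R _) := htop ▸ trivial
  rw [← map_one (algebraMap R (Localization.Away (t * s))),
    IsLocalization.algebraMap_mem_map_algebraMap_iff (Submonoid.powers (t * s))] at h1
  obtain ⟨m, ⟨l, rfl⟩, hm⟩ := h1
  have hle : Ideal.ofList as ≤ p := Ideal.span_le.2 fun z hz => by
    obtain ⟨i, rfl⟩ := List.mem_ofFn.1 hz
    exact hIp (a i).1.2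
  rw [mul_one] at hm
  exact (Ideal.IsPrime.mem_or_mem inferInstance (Ideal.IsPrime.mem_of_pow_mem inferInstance l (hle hm))).elim ht hs

end Groth.Agent.S2189
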