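import Groth.Statements.S2194
import Groth.Agent.AdicLinTop.DP.PolyAlg
import Mathlib.RingTheory.MvPolynomial.Basic
import Mathlib.RingTheory.Flat.Basic

set_option autoImplicit false
universe u
open DPow

namespace Groth.Agent.S2194

/-- Let (A, I) be a ring with a divided power structure on I, B an A-algebra and J an ideal of B
containing I B. Then there is a divided power ring (D, J') with a ring map B -> D carrying J into J'
whose composite with A -> B is a homomorphism of divided power rings, universal for such data: for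
every divided power ring (C, K) with a divided power homomorphism A -> C and every A-algebra map B
-> C carrying J into K there is exactly one divided power homomorphism D -> C compatible with the
maps from B. -/
theorem result {A B : Type u} [CommRing A] [CommRing B] [Algebra A B] {I : Ideal A}
    (γ : DividedPowers I) (J : Ideal B) (hIJ : I.map (algebraMap A B) ≤ J) :
    ∃ (D : Type u) (_ : CommRing D) (_ : Algebra B D) (JD : Ideal D) (γD : DividedPowers JD),
      J.map (algebraMap B D) ≤ JD ∧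
      γ.IsDPMorphism γD ((algebraMap B D).comp (algebraMap A B)) ∧
      ∀ (C : Type u) [CommRing C] [Algebra A C] (K : Ideal C) (δ : DividedPowers K),
        γ.IsDPMorphism δ (algebraMap A C) →
        ∀ ψ : B →ₐ[A] C, J.map ψ ≤ K →
          ∃! χ : D →+* C, χ.comp (algebraMap B D) = ψ ∧ γD.IsDPMorphism δ χ := by
  classical
  let R := MvPolynomial B A
  let ρ : R →ₐ[A] B := MvPolynomial.aeval id
  have hρ : Function.Surjective ρ.toRingHom := fun r => ⟨MvPolynomial.X r, MvPolynomial.aeval_X _ r⟩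
  obtain ⟨γR, hγR⟩ := Groth.AdicLinTop.DP.exists_dp_ext_of_flat (B := R) γ
  obtain ⟨b, hP⟩ := Groth.AdicLinTop.DP.exists_alg_basis ↥J R
  let P := Groth.AdicLinTop.DP.Alg R ↥J
  let x := Groth.AdicLinTop.DP.algX ↥J R
  obtain ⟨δ, hδ, hδx⟩ := hP.exists_dp_total γR
  let K : Ideal P := (I.map (algebraMap A R)).map (algebraMap R P) ⊔ Groth.AdicLinTop.DP.plus x
  let rel : Set P := (algebraMap R P) '' (RingHom.ker ρ.toRingHom) ∪
    Set.range (fun j : J => x j 1 - algebraMap R P (MvPolynomial.X (j : B)))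
  let N : Ideal P := sInf {N : Ideal P | rel ⊆ N ∧ δ.IsSubDPIdeal (N ⊓ K)}
  have hrel : rel ⊆ N := fun z hz => Submodule.mem_sInf.mpr fun M hM => hM.1 hz
  have hN : δ.IsSubDPIdeal (N ⊓ K) := ⟨inf_le_right, fun n hn a ha => ⟨Submodule.mem_sInf.mpr fun M hM =>
    (hM.2.dpow_mem n hn ⟨Submodule.mem_sInf.mp ha.1 M hM, ha.2⟩).1, δ.dpow_mem hn ha.2⟩⟩
  let mkN : P →+* P ⧸ N := Ideal.Quotient.mk N
  let γD := DividedPowers.Quotient.dividedPowers δ hN
  have hmk : δ.IsDPMorphism γD mkN := DividedPowers.Quotient.isDPMorphism δ hN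
  have hf : RingHom.ker ρ.toRingHom ≤ RingHom.ker (mkN.comp (algebraMap R P)) := fun r hr =>
    Ideal.Quotient.eq_zero_iff_mem.mpr (hrel (Or.inl ⟨r, hr, rfl⟩))
  let ι : B →+* P ⧸ N := (ρ.toRingHom.liftOfSurjective hρ) ⟨mkN.comp (algebraMap R P), hf⟩
  have hι : ∀ r, ι (ρ r) = mkN (algebraMap R P r) := fun r =>
    RingHom.liftOfSurjective_comp_apply _ hρ _ r
  have hιj : ∀ j : J, ι j = mkN (x j 1) := fun j => by
    rw [show (j : B) = ρ (MvPolynomial.X (j : B)) from (MvPolynomial.aeval_X (id : B → B) (j : B)).symm, hι, eq_comm,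
      Ideal.Quotient.eq]
    exact hrel (Or.inr ⟨j, rfl⟩)
  refine ⟨P ⧸ N, inferInstance, ι.toAlgebra, K.map mkN, γD, ?_, ?_, ?_⟩
  · refine Ideal.map_le_iff_le_comap.mpr fun j hj => ?_
    show ι j ∈ K.map mkN
    rw [hιj ⟨j, hj⟩]
    exact Ideal.mem_map_of_mem _ (Groth.AdicLinTop.DP.mem_total x _)
  · have he : ι.comp (algebraMap A B) = mkN.comp ((algebraMap R P).comp (algebraMap A R)) := by
      refine RingHom.ext fun a => ?_
      show ι (algebraMap A B a) = _
      rw [← ρ.commutes a, hι]
      rfl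
    show γ.IsDPMorphism γD (ι.comp (algebraMap A B))
    rw [he]
    exact DividedPowers.IsDPMorphism.comp γD hmk (DividedPowers.IsDPMorphism.comp δ hδ hγR)
  · intro C _ _ KC ε hε ψ hψ
    letI : Algebra R C := (ψ.toRingHom.comp ρ.toRingHom).toAlgebra
    have hC : ∀ r, algebraMap R C r = ψ (ρ r) := fun r => rfl
    have hεR : γR.IsDPMorphism ε (algebraMap R C) := by
      refine DividedPowers.IsDPMorphism.of_comp γ γR ε (algebraMap A R) (algebraMap R C) rfl hγR ?_
      rw [show (algebraMap R C).comp (algebraMap A R) = algebraMap A C from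
        RingHom.ext fun a => by rw [RingHom.comp_apply, hC, ρ.commutes, ψ.commutes]]
      exact hε
    obtain ⟨φ, hφ, hφ'⟩ := hP.exists_dpHom γR hδ hδx ε hεR (fun j : J => ψ (j : B))
      (fun j => hψ (Ideal.mem_map_of_mem ψ j.2))
    have hNle : N ≤ RingHom.ker φ.toRingHom := by
      refine sInf_le ⟨?_, DividedPowers.isSubDPIdeal_ker δ ε hφ'⟩
      rintro z (⟨r, hr, rfl⟩ | ⟨j, rfl⟩)
      · show φ (algebraMap R P r) = 0
        erw [φ.commutes]
        rw [hC, (show ρ r = 0 from hr), map_zero]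
      · show φ (x j 1 - algebraMap R P (MvPolynomial.X (j : B))) = 0
        rw [map_sub, hφ]
        erw [φ.commutes]
        rw [hC]
        show ψ (j : B) - ψ (MvPolynomial.aeval (id : B → B) (MvPolynomial.X (j : B))) = 0
        rw [MvPolynomial.aeval_X, id, sub_self]
    let χ : P ⧸ N →+* C := Ideal.Quotient.lift N φ.toRingHom hNle
    have hχ : ∀ z, χ (mkN z) = φ z := fun z => rfl
    refine ⟨χ, ⟨?_, ?_⟩, ?_⟩
    · refine RingHom.ext fun c => ?_
      obtain ⟨r, rfl⟩ := hρ c
      show χ (ι (ρ r)) = ψ (ρ r)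
      rw [hι, hχ]
      erw [φ.commutes]
      rw [hC]
    · exact DividedPowers.IsDPMorphism.of_comp δ γD ε mkN χ rfl hmk hφ'
    · rintro χ' ⟨hχ'1, hχ'2⟩
      let φ' : P →ₐ[R] C :=
        { χ'.comp mkN with
          commutes' := fun r => by
            show χ' (mkN (algebraMap R P r)) = _
            rw [← hι, hC]
            exact RingHom.congr_fun hχ'1 (ρ r) }
      have : φ' = φ := hP.dpHom_unique hδx (DividedPowers.IsDPMorphism.comp ε hχ'2 hmk) hφ' fun j => by
        show χ' (mkN (x j 1)) = _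
        rw [hφ, ← hιj]
        exact RingHom.congr_fun hχ'1 (j : B)
      refine Ideal.Quotient.ringHom_ext (RingHom.ext fun z => ?_)
      exact AlgHom.congr_fun this z

end Groth.Agent.S2194
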