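import Groth.Statements.S2201
import Groth.Agent.FrobLCI.Avramov.MapComplete
import Groth.Agent.KoszulLCI.TorFactor

set_option autoImplicit false
universe u
open LCI IsLocalRing RingTheory.Sequence
open scoped TensorProduct

namespace Groth.Agent.S2201

variable {R S : Type u} [CommRing R] [CommRing S] [IsNoetherianRing R]
    [IsNoetherianRing S] [IsLocalRing R] [IsLocalRing S] [Algebra R S] [IsLocalHom (algebraMap R S)]
    [Module.Flat R S]
    [IsRegularLocalRing (S ⧸ Ideal.map (algebraMap R S) (IsLocalRing.maximalIdeal R))]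
    (I : Ideal R) (J : Ideal S) (hI : I ≠ ⊤) (hJ : J ≠ ⊤) (hIJ : I.map (algebraMap R S) ≤ J)
    [Algebra (R ⧸ I) (S ⧸ J)] [IsScalarTower R (R ⧸ I) (S ⧸ J)]

include hI hJ hIJ in
theorem forward (hJreg : ∃ rs : List S, Ideal.ofList rs = J ∧ IsRegular S rs) (n : ℕ)
    (hn : ∀ p, n < p → Subsingleton (DRing.Tor (R ⧸ I) p (S ⧸ J)
      ((R ⧸ I) ⧸ (maximalIdeal R).map (Ideal.Quotient.mk I)))) :
    (∃ rs : List R, Ideal.ofList rs = I ∧ IsRegular R rs) ∧
      ∃ rs' : List (S ⧸ I.map (algebraMap R S)),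
        Ideal.ofList rs' = J.map (Ideal.Quotient.mk (I.map (algebraMap R S))) ∧
          IsRegular (S ⧸ I.map (algebraMap R S)) rs' := by
  set I' := I.map (algebraMap R S) with hI'
  have hI'top : I' ≠ ⊤ := ne_top_of_le_ne_top hJ hIJ
  have : Nontrivial (R ⧸ I) := Ideal.Quotient.nontrivial_iff.mpr hI
  have : IsLocalRing (R ⧸ I) := IsLocalRing.of_surjective' (Ideal.Quotient.mk I) Ideal.Quotient.mk_surjective
  have : Nontrivial (S ⧸ I') := Ideal.Quotient.nontrivial_iff.mpr hI'top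
  have : IsLocalRing (S ⧸ I') := IsLocalRing.of_surjective' (Ideal.Quotient.mk I') Ideal.Quotient.mk_surjective
  have hmA : maximalIdeal (R ⧸ I) = (maximalIdeal R).map (Ideal.Quotient.mk I) :=
    (IsLocalRing.map_maximalIdeal_of_surjective _ Ideal.Quotient.mk_surjective).symm
  have hn' : ∀ p, n < p → Subsingleton (DRing.Tor (R ⧸ I) p (S ⧸ J) (ResidueField (R ⧸ I))) := by
    rw [← hmA] at hn
    exact hn
  let algSJ : Algebra (S ⧸ I') (S ⧸ J) := (Ideal.Quotient.factor hIJ).toAlgebra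
  have : IsScalarTower R (S ⧸ I') (S ⧸ J) := IsScalarTower.of_algebraMap_eq fun r => rfl
  have : IsScalarTower (R ⧸ I) (S ⧸ I') (S ⧸ J) := IsScalarTower.of_algebraMap_eq fun a => by
    obtain ⟨r, rfl⟩ := Ideal.Quotient.mk_surjective a
    rw [← Ideal.Quotient.algebraMap_eq, ← IsScalarTower.algebraMap_apply,
      ← IsScalarTower.algebraMap_apply R (R ⧸ I) (S ⧸ I'), ← IsScalarTower.algebraMap_apply R (S ⧸ I') (S ⧸ J)]
  have hflatS : Module.Flat (R ⧸ I) (S ⧸ I') := Groth.Ega4b.flat_quotient_map I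
  have hmS : (maximalIdeal (R ⧸ I)).map (algebraMap (R ⧸ I) (S ⧸ I')) =
      ((maximalIdeal R).map (algebraMap R S)).map (Ideal.Quotient.mk I') := by
    rw [hmA, Ideal.map_map, Ideal.map_map]
    rfl
  have hloc : IsLocalHom (algebraMap (R ⧸ I) (S ⧸ I')) := by
    refine ((IsLocalRing.local_hom_TFAE (algebraMap (R ⧸ I) (S ⧸ I'))).out 2 0).mp ?_
    rw [hmS]
    exact (Ideal.map_mono (IsLocalRing.map_maximalIdeal_le _)).trans
      (IsLocalRing.map_maximalIdeal_of_surjective _ Ideal.Quotient.mk_surjective).le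
  have hle : I' ≤ (maximalIdeal R).map (algebraMap R S) := Ideal.map_mono (IsLocalRing.le_maximalIdeal hI)
  let eF : ((S ⧸ I') ⧸ (maximalIdeal (R ⧸ I)).map (algebraMap (R ⧸ I) (S ⧸ I'))) ≃+*
      S ⧸ (maximalIdeal R).map (algebraMap R S) :=
    (Ideal.quotEquivOfEq hmS).trans (DoubleQuot.quotQuotEquivQuotOfLE hle)
  let k := ResidueField (R ⧸ I)
  let algF : Algebra (S ⧸ I') (k ⊗[R ⧸ I] (S ⧸ I')) := Algebra.TensorProduct.rightAlgebra
  let e₁ : ((S ⧸ I') ⧸ (maximalIdeal (R ⧸ I)).map (algebraMap (R ⧸ I) (S ⧸ I'))) ≃+* k ⊗[R ⧸ I] (S ⧸ I') :=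
    (Algebra.TensorProduct.quotIdealMapEquivTensorQuot (S ⧸ I') (maximalIdeal (R ⧸ I))).toRingEquiv.trans
      (Algebra.TensorProduct.comm (R ⧸ I) (S ⧸ I') ((R ⧸ I) ⧸ maximalIdeal (R ⧸ I))).toRingEquiv
  have : IsRegularLocalRing (k ⊗[R ⧸ I] (S ⧸ I')) := IsRegularLocalRing.of_ringEquiv (eF.symm.trans e₁)
  have hsurj : Function.Surjective (algebraMap (S ⧸ I') (k ⊗[R ⧸ I] (S ⧸ I'))) :=
    Algebra.TensorProduct.includeRight_surjective _ residue_surjective
  have hSB : Function.Surjective (algebraMap (S ⧸ I') (S ⧸ J)) := fun b => by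
    obtain ⟨x, rfl⟩ := Ideal.Quotient.mk_surjective b
    exact ⟨Ideal.Quotient.mk I' x, rfl⟩
  have : Module.Finite (S ⧸ I') (S ⧸ J) := Module.Finite.of_surjective (Algebra.linearMap _ _) hSB
  obtain ⟨m, hm⟩ := Groth.FrobLCI.Avramov.exists_pdLT_of_tor (R ⧸ I) (S ⧸ I') (k ⊗[R ⧸ I] (S ⧸ I')) hsurj
    n (S ⧸ J) hn'
  obtain ⟨fs, hfs, hfreg⟩ := hJreg
  have hker : RingHom.ker (algebraMap (S ⧸ I') (S ⧸ J)) = (Ideal.ofList fs).map (Ideal.Quotient.mk I') := by
    rw [hfs]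
    exact Ideal.Quotient.factor_ker hIJ
  have htor : DRing.HasFiniteTorDim (S ⧸ I') ((S ⧸ I') ⧸ (Ideal.ofList fs).map (Ideal.Quotient.mk I')) :=
    ⟨m, Groth.FrobLCI.Avramov.hasTorDimLE_of_equiv
      (((Submodule.quotEquivOfEq _ _ hker.symm).trans
        ((Algebra.linearMap (S ⧸ I') (S ⧸ J)).quotKerEquivOfSurjective hSB)).symm)
      (Groth.FrobLCI.Avramov.hasTorDimLE_of_pdLT _ m (S ⧸ J) hm)⟩
  obtain ⟨⟨gs, hgsreg, hgs⟩, ts, htsreg, hts⟩ := Groth.KoszulLCI.tor_factor _ S (S ⧸ I')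
    (Ideal.Quotient.mk I') Ideal.Quotient.mk_surjective fs rfl hfreg.toIsWeaklyRegular (by rwa [hfs])
    (by rw [Ideal.mk_ker, hfs]; exact hIJ) htor
  rw [Ideal.mk_ker] at hgs
  refine ⟨Groth.FrobLCI.Avramov.exists_regular_of_map R S I hI ⟨gs, hgs,
    (isRegular_iff_isWeaklyRegular_of_subset_maximalIdeal fun x hx =>
      le_maximalIdeal hI'top (hgs.le (Ideal.subset_span hx))).mpr hgsreg⟩, ts, ?_, ?_⟩
  · rw [hts, hfs]
  · refine (isRegular_iff_isWeaklyRegular_of_subset_maximalIdeal fun x hx => ?_).mpr htsreg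
    have : Nontrivial (S ⧸ J) := Ideal.Quotient.nontrivial_iff.mpr hJ
    exact le_maximalIdeal (RingHom.ker_ne_top (algebraMap (S ⧸ I') (S ⧸ J)))
      ((hts.trans hker.symm).le (Ideal.subset_span hx))

omit [IsRegularLocalRing (S ⧸ Ideal.map (algebraMap R S) (IsLocalRing.maximalIdeal R))] in
include hI hJ hIJ in
theorem backward (h₁ : ∃ rs : List R, Ideal.ofList rs = I ∧ IsRegular R rs)
    (h₂ : ∃ rs' : List (S ⧸ I.map (algebraMap R S)),
        Ideal.ofList rs' = J.map (Ideal.Quotient.mk (I.map (algebraMap R S))) ∧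
          IsRegular (S ⧸ I.map (algebraMap R S)) rs') :
    (∃ rs : List S, Ideal.ofList rs = J ∧ IsRegular S rs) ∧ DRing.HasFiniteTorDim (R ⧸ I) (S ⧸ J) := by
  obtain ⟨as, has, hasreg⟩ := h₁
  set I' := I.map (algebraMap R S) with hI'
  obtain ⟨bs', hbs', hbsreg⟩ := h₂
  obtain ⟨bs, rfl⟩ : ∃ bs : List S, bs.map (Ideal.Quotient.mk I') = bs' :=
    List.map_surjective_iff.mpr Ideal.Quotient.mk_surjective bs'
  have hgen : Ideal.ofList (as.map (algebraMap R S) ++ bs) = J := by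
    rw [Ideal.ofList_append, ← Ideal.map_ofList, has, ← hI']
    have h : ((Ideal.ofList bs).map (Ideal.Quotient.mk I')).comap (Ideal.Quotient.mk I') =
        (J.map (Ideal.Quotient.mk I')).comap (Ideal.Quotient.mk I') := by rw [Ideal.map_ofList]; exact congrArg _ hbs'
    rw [Ideal.comap_map_quotientMk, Ideal.comap_map_quotientMk, sup_eq_right.mpr hIJ] at h
    exact h
  have hw : IsWeaklyRegular S (as.map (algebraMap R S) ++ bs) := by
    rw [isWeaklyRegular_append_iff]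
    refine ⟨hasreg.toIsWeaklyRegular.of_flat, ?_⟩
    have e : (Ideal.ofList (as.map (algebraMap R S)) • ⊤ : Submodule S S) = I' := by
      rw [smul_eq_mul, Ideal.mul_top, ← Ideal.map_ofList, has]
    rw [(Submodule.quotEquivOfEq _ _ e).isWeaklyRegular_congr]
    exact (isWeaklyRegular_map_algebraMap_iff (S ⧸ I') (S ⧸ I') bs).mp hbsreg.toIsWeaklyRegular
  refine ⟨⟨_, hgen, (isRegular_iff_isWeaklyRegular_of_subset_maximalIdeal fun x hx =>
    le_maximalIdeal hJ (hgen.le (Ideal.subset_span hx))).mpr hw⟩, ?_⟩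
  let algSJ : Algebra (S ⧸ I') (S ⧸ J) := (Ideal.Quotient.factor hIJ).toAlgebra
  have : IsScalarTower R (S ⧸ I') (S ⧸ J) := IsScalarTower.of_algebraMap_eq fun r => rfl
  have : IsScalarTower (R ⧸ I) (S ⧸ I') (S ⧸ J) := IsScalarTower.of_algebraMap_eq fun a => by
    obtain ⟨r, rfl⟩ := Ideal.Quotient.mk_surjective a
    rw [← Ideal.Quotient.algebraMap_eq, ← IsScalarTower.algebraMap_apply,
      ← IsScalarTower.algebraMap_apply R (R ⧸ I) (S ⧸ I'), ← IsScalarTower.algebraMap_apply R (S ⧸ I') (S ⧸ J)]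
  have hflatS : Module.Flat (R ⧸ I) (S ⧸ I') := Groth.Ega4b.flat_quotient_map I
  have h0 : DRing.HasTorDimLE (R ⧸ I) 0 (S ⧸ I') := Groth.EtaleAlgebra.hasTorDimLE_of_flat 0 _
  have h1 := Groth.FrobLCI.Avramov.hasTorDimLE_quotient_regular (R ⧸ I) (S ⧸ I')
    (bs.map (Ideal.Quotient.mk I')) 0 (S ⧸ I') hbsreg.toIsWeaklyRegular h0
  have hSB : Function.Surjective (algebraMap (S ⧸ I') (S ⧸ J)) := fun b => by
    obtain ⟨x, rfl⟩ := Ideal.Quotient.mk_surjective b
    exact ⟨Ideal.Quotient.mk I' x, rfl⟩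
  have hker : LinearMap.ker (Algebra.linearMap (S ⧸ I') (S ⧸ J)) =
      (Ideal.ofList (bs.map (Ideal.Quotient.mk I')) • ⊤ : Submodule (S ⧸ I') (S ⧸ I')) := by
    rw [smul_eq_mul, Ideal.mul_top, hbs']
    exact Ideal.Quotient.factor_ker hIJ
  exact ⟨_, Groth.FrobLCI.Avramov.hasTorDimLE_of_equiv
    (((Submodule.quotEquivOfEq _ _ hker.symm).trans
      ((Algebra.linearMap (S ⧸ I') (S ⧸ J)).quotKerEquivOfSurjective hSB)).restrictScalars (R ⧸ I)) h1⟩

/-- Let R -> S be a flat local homomorphism of Noetherian local rings with S/m_R S regular, and let I in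
R and J in S be proper ideals with I S inside J; give S/J its canonical R/I-algebra structure.
Equivalent: (1) J is cut out by a regular sequence while S/J, as an R/I-module, has finite
Tor-dimension; (2) the same with only finitely many nonzero Tor_p^{R/I}(S/J, k), k the residue field
of R/I; (3) I and J/IS are each cut out by regular sequences (in R, resp. S/IS). Stated as (1) iff
(3) and (2) iff (3). -/
theorem result {R S : Type u} [CommRing R] [CommRing S] [IsNoetherianRing R]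
    [IsNoetherianRing S] [IsLocalRing R] [IsLocalRing S] [Algebra R S] [IsLocalHom (algebraMap R S)]
    [Module.Flat R S]
    [IsRegularLocalRing (S ⧸ Ideal.map (algebraMap R S) (IsLocalRing.maximalIdeal R))]
    (I : Ideal R) (J : Ideal S) (hI : I ≠ ⊤) (hJ : J ≠ ⊤) (hIJ : I.map (algebraMap R S) ≤ J)
    [Algebra (R ⧸ I) (S ⧸ J)] [IsScalarTower R (R ⧸ I) (S ⧸ J)] :
    let P3 := (∃ rs : List R, Ideal.ofList rs = I ∧ RingTheory.Sequence.IsRegular R rs) ∧
      ∃ rs' : List (S ⧸ I.map (algebraMap R S)),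
        Ideal.ofList rs' = J.map (Ideal.Quotient.mk (I.map (algebraMap R S))) ∧
          RingTheory.Sequence.IsRegular (S ⧸ I.map (algebraMap R S)) rs'
    let Jreg := ∃ rs : List S, Ideal.ofList rs = J ∧ RingTheory.Sequence.IsRegular S rs
    ((Jreg ∧ DRing.HasFiniteTorDim (R ⧸ I) (S ⧸ J)) ↔ P3) ∧
      ((Jreg ∧ Set.Finite {p : ℕ | ¬Subsingleton (DRing.Tor (R ⧸ I) p (S ⧸ J)
        ((R ⧸ I) ⧸ (IsLocalRing.maximalIdeal R).map (Ideal.Quotient.mk I)))}) ↔ P3) := by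
  intro P3 Jreg
  refine ⟨⟨fun ⟨h1, n, hn⟩ => forward I J hI hJ hIJ h1 n fun p hp => hn _ p hp,
    fun h => backward I J hI hJ hIJ h.1 h.2⟩, ⟨fun ⟨h1, hfin⟩ => ?_, fun h => ?_⟩⟩
  · obtain ⟨n, hn⟩ := hfin.bddAbove
    exact forward I J hI hJ hIJ h1 n fun p hp => not_not.mp fun h => (lt_irrefl p) ((hn h).trans_lt hp)
  · obtain ⟨h1, n, hn⟩ := backward I J hI hJ hIJ h.1 h.2
    exact ⟨h1, (Set.finite_le_nat n).subset fun p hp => le_of_not_gt fun (hlt : n < p) => hp (hn _ p hlt)⟩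

end Groth.Agent.S2201
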