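import Groth.Statements.S2202
import Groth.Agent.FrobLCI.Avramov.MapComplete
import Groth.Agent.KoszulLCI.TorFactor

set_option autoImplicit false
universe u
open LCI IsLocalRing RingTheory.Sequence
open scoped TensorProduct

namespace Groth.Agent.S2202

/-- The presentation ring of a map of complete local rings with complete intersection target of finite
tor dimension. -/
theorem forward {A B : Type u} [CommRing A] [CommRing B] [IsNoetherianRing A]
    [IsNoetherianRing B] [IsLocalRing A] [IsLocalRing B]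
    [IsAdicComplete (maximalIdeal A) A] [IsAdicComplete (maximalIdeal B) B]
    [Algebra A B] [IsLocalHom (algebraMap A B)] (hB : Pi1.IsCompleteIntersection B) (n : ℕ)
    (hn : ∀ p, n < p → Subsingleton (DRing.Tor A p B (ResidueField A))) :
    Pi1.IsCompleteIntersection A ∧
      ∃ (S : Type u) (_ : CommRing S) (_ : IsNoetherianRing S) (_ : IsLocalRing S) (_ : Algebra A S)
        (_ : Module.Flat A S)
        (_ : IsRegularLocalRing (S ⧸ Ideal.map (algebraMap A S) (maximalIdeal A)))
        (g : S →ₐ[A] B), Function.Surjective g ∧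
          ∃ rs : List S, Ideal.ofList rs = RingHom.ker g ∧ IsRegular S rs := by
  obtain ⟨R, R', _, _, _, _, _, _, π, π', hflat, hπ, hπ', hcomm, hregF⟩ :=
    Groth.FrobLCI.Avramov.exists_presentation (algebraMap A B)
  set I := RingHom.ker π with hI
  set J := RingHom.ker π' with hJ
  set I' := I.map (algebraMap R R') with hI'
  have hI'J : I' ≤ J := Ideal.map_le_iff_le_comap.mpr fun x hx => by
    rw [Ideal.mem_comap, hJ, RingHom.mem_ker, ← RingHom.comp_apply, hcomm, RingHom.comp_apply,
      RingHom.mem_ker.mp hx, map_zero]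
  have hItop : I ≠ ⊤ := RingHom.ker_ne_top π
  have hJtop : J ≠ ⊤ := RingHom.ker_ne_top π'
  have hI'top : I' ≠ ⊤ := ne_top_of_le_ne_top hJtop hI'J
  have : IsLocalRing (R' ⧸ I') :=
    have : Nontrivial (R' ⧸ I') := Ideal.Quotient.nontrivial_iff.mpr hI'top
    IsLocalRing.of_surjective' (Ideal.Quotient.mk I') Ideal.Quotient.mk_surjective
  let ψ : A →+* R' ⧸ I' :=
    (Ideal.quotientMap I' (algebraMap R R') Ideal.le_comap_map).comp
      (RingHom.quotientKerEquivOfSurjective hπ).symm.toRingHom
  have hψ : ∀ r, ψ (π r) = Ideal.Quotient.mk I' (algebraMap R R' r) := fun r => by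
    simp only [ψ, RingHom.comp_apply, RingEquiv.toRingHom_eq_coe, RingEquiv.coe_toRingHom]
    rw [show (RingHom.quotientKerEquivOfSurjective hπ).symm (π r) = Ideal.Quotient.mk I r from
      (RingEquiv.symm_apply_eq _).mpr rfl]
    rfl
  let algS : Algebra A (R' ⧸ I') := ψ.toAlgebra
  let algSB : Algebra (R' ⧸ I') B := (Ideal.Quotient.lift I' π' fun x hx => hI'J hx).toAlgebra
  have hSB : Function.Surjective (algebraMap (R' ⧸ I') B) := fun b => by
    obtain ⟨x, rfl⟩ := hπ' b
    exact ⟨Ideal.Quotient.mk I' x, rfl⟩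
  have : IsScalarTower A (R' ⧸ I') B := IsScalarTower.of_algebraMap_eq fun a => by
    obtain ⟨r, rfl⟩ := hπ a
    rw [RingHom.algebraMap_toAlgebra ψ, hψ, ← RingHom.comp_apply, ← hcomm]
    rfl
  have hlocπ : IsLocalHom π := IsLocalHom.of_surjective π hπ
  have hmA : (maximalIdeal A).map (algebraMap A (R' ⧸ I')) =
      ((maximalIdeal R).map (algebraMap R R')).map (Ideal.Quotient.mk I') := by
    rw [← IsLocalRing.map_maximalIdeal_of_surjective π hπ, Ideal.map_map, Ideal.map_map,
      RingHom.algebraMap_toAlgebra ψ]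
    exact congrArg (fun g => (maximalIdeal R).map g) (RingHom.ext hψ)
  have hlocS : IsLocalHom (algebraMap A (R' ⧸ I')) := by
    refine ((IsLocalRing.local_hom_TFAE (algebraMap A (R' ⧸ I'))).out 2 0).mp ?_
    rw [hmA]
    refine (Ideal.map_mono (IsLocalRing.map_maximalIdeal_le _)).trans ?_
    exact (IsLocalRing.map_maximalIdeal_of_surjective _ Ideal.Quotient.mk_surjective).le
  have hflatS : Module.Flat A (R' ⧸ I') := by
    have := Groth.Ega4b.flat_quotient_map (R := R) (S := R') I
    let σ := RingHom.quotientKerEquivOfSurjective hπ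
    exact Groth.Ega4b.flat_of_semilinear σ (AddEquiv.refl (R' ⧸ I')) fun r x => by
      obtain ⟨r, rfl⟩ := Ideal.Quotient.mk_surjective r
      obtain ⟨x, rfl⟩ := Ideal.Quotient.mk_surjective x
      show Ideal.Quotient.mk I r • Ideal.Quotient.mk I' x = ψ (π r) * Ideal.Quotient.mk I' x
      rw [hψ, Algebra.smul_def, Ideal.Quotient.algebraMap_quotient_map_quotient]
  have hle : I' ≤ (maximalIdeal R).map (algebraMap R R') := Ideal.map_mono (IsLocalRing.le_maximalIdeal hItop)
  let eF : ((R' ⧸ I') ⧸ (maximalIdeal A).map (algebraMap A (R' ⧸ I'))) ≃+*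
      R' ⧸ (maximalIdeal R).map (algebraMap R R') :=
    (Ideal.quotEquivOfEq hmA).trans (DoubleQuot.quotQuotEquivQuotOfLE hle)
  have hregS : IsRegularLocalRing ((R' ⧸ I') ⧸ (maximalIdeal A).map (algebraMap A (R' ⧸ I'))) :=
    IsRegularLocalRing.of_ringEquiv eF.symm
  let algF : Algebra (R' ⧸ I') (ResidueField A ⊗[A] (R' ⧸ I')) := Algebra.TensorProduct.rightAlgebra
  let e₁ : ((R' ⧸ I') ⧸ (maximalIdeal A).map (algebraMap A (R' ⧸ I'))) ≃+* ResidueField A ⊗[A] (R' ⧸ I') :=
    (Algebra.TensorProduct.quotIdealMapEquivTensorQuot (R' ⧸ I') (maximalIdeal A)).toRingEquiv.trans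
      (Algebra.TensorProduct.comm A (R' ⧸ I') (A ⧸ maximalIdeal A)).toRingEquiv
  have : IsRegularLocalRing (ResidueField A ⊗[A] (R' ⧸ I')) := IsRegularLocalRing.of_ringEquiv e₁
  have hsurj : Function.Surjective (algebraMap (R' ⧸ I') (ResidueField A ⊗[A] (R' ⧸ I'))) :=
    Algebra.TensorProduct.includeRight_surjective _ residue_surjective
  have : Module.Finite (R' ⧸ I') B := Module.Finite.of_surjective (Algebra.linearMap _ B) hSB
  obtain ⟨m, hm⟩ := Groth.FrobLCI.Avramov.exists_pdLT_of_tor A (R' ⧸ I') (ResidueField A ⊗[A] (R' ⧸ I')) hsurj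
    n B hn
  obtain ⟨fs, hfs, hfreg⟩ := (Groth.CI.isCompleteIntersection_iff_of_surjective π' hπ').mp hB
  have hker : RingHom.ker (algebraMap (R' ⧸ I') B) = (Ideal.ofList fs).map (Ideal.Quotient.mk I') := by
    rw [hfs]
    exact Ideal.ker_quotient_lift _ _
  have htor : DRing.HasFiniteTorDim (R' ⧸ I') ((R' ⧸ I') ⧸ (Ideal.ofList fs).map (Ideal.Quotient.mk I')) :=
    ⟨m, Groth.FrobLCI.Avramov.hasTorDimLE_of_equiv
      (((Submodule.quotEquivOfEq _ _ hker.symm).trans
        ((Algebra.linearMap (R' ⧸ I') B).quotKerEquivOfSurjective hSB)).symm)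
      (Groth.FrobLCI.Avramov.hasTorDimLE_of_pdLT _ m B hm)⟩
  obtain ⟨⟨gs, hgsreg, hgs⟩, ts, htsreg, hts⟩ := Groth.KoszulLCI.tor_factor _ R' (R' ⧸ I')
    (Ideal.Quotient.mk I') Ideal.Quotient.mk_surjective fs rfl hfreg.toIsWeaklyRegular (by rwa [hfs])
    (by rw [Ideal.mk_ker, hfs]; exact hI'J) htor
  rw [Ideal.mk_ker] at hgs
  refine ⟨(Groth.CI.isCompleteIntersection_iff_of_surjective π hπ).mpr
    (Groth.FrobLCI.Avramov.exists_regular_of_map R R' I hItop ⟨gs, hgs,
      (isRegular_iff_isWeaklyRegular_of_subset_maximalIdeal fun x hx =>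
        le_maximalIdeal hI'top (hgs.le (Ideal.subset_span hx))).mpr hgsreg⟩),
    R' ⧸ I', inferInstance, inferInstance, inferInstance, algS, hflatS, hregS,
    IsScalarTower.toAlgHom A (R' ⧸ I') B, hSB, ts, ?_, ?_⟩
  · rw [hts, ← hker]
    rfl
  · refine (isRegular_iff_isWeaklyRegular_of_subset_maximalIdeal fun x hx => ?_).mpr htsreg
    exact le_maximalIdeal (RingHom.ker_ne_top (algebraMap (R' ⧸ I') B)) ((hts.trans hker.symm).le (Ideal.subset_span hx))

/-- Special case: A and B complete. For a local homomorphism A -> B of complete Noetherian local rings,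
the following are equivalent: B is a complete intersection with only finitely many nonzero
Tor^A_p(B, k_A); A is a complete intersection and A -> B factors as A -> S -> B with S Noetherian
local, A -> S flat with regular closed fibre S/m_A S, and S -> B surjective with kernel cut out by a
regular sequence (a complete intersection homomorphism). -/
theorem result {A B : Type u} [CommRing A] [CommRing B] [IsNoetherianRing A]
    [IsNoetherianRing B] [IsLocalRing A] [IsLocalRing B]
    [IsAdicComplete (IsLocalRing.maximalIdeal A) A] [IsAdicComplete (IsLocalRing.maximalIdeal B) B]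
    [Algebra A B] [IsLocalHom (algebraMap A B)] :
    (Pi1.IsCompleteIntersection B ∧
        Set.Finite {p : ℕ | ¬Subsingleton (DRing.Tor A p B (IsLocalRing.ResidueField A))}) ↔
      (Pi1.IsCompleteIntersection A ∧
        ∃ (S : Type u) (_ : CommRing S) (_ : IsNoetherianRing S) (_ : IsLocalRing S) (_ : Algebra A S)
          (_ : Module.Flat A S)
          (_ : IsRegularLocalRing (S ⧸ Ideal.map (algebraMap A S) (IsLocalRing.maximalIdeal A)))
          (g : S →ₐ[A] B), Function.Surjective g ∧
            ∃ rs : List S, Ideal.ofList rs = RingHom.ker g ∧ RingTheory.Sequence.IsRegular S rs) := by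
  constructor
  · rintro ⟨hB, hfin⟩
    obtain ⟨n, hn⟩ := hfin.bddAbove
    exact forward hB n fun p hp => not_not.mp fun h => (lt_irrefl p) ((hn h).trans_lt hp)
  · rintro ⟨hA, S, _, _, _, _, _, hF, g, hg, rs, hrs, hreg⟩
    have : IsLocalHom (algebraMap A S) := ⟨fun a ha => isUnit_of_map_unit (algebraMap A B) a
      (by rw [← g.commutes]; exact ha.map g)⟩
    let e := RingHom.quotientKerEquivOfSurjective (f := g.toRingHom) hg
    have : IsLocalRing (S ⧸ RingHom.ker g) := e.symm.isLocalRing
    have : IsLocalRing (S ⧸ Ideal.ofList rs) := hrs ▸ this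
    have hS : Pi1.IsCompleteIntersection S :=
      (Groth.FrobLCI.Avramov.isCompleteIntersection_iff_of_flat A S).mpr
        ⟨hA, Groth.CI.isCompleteIntersection_of_isRegularLocalRing⟩
    refine ⟨Groth.CI.isCompleteIntersection_of_ringEquiv ((Ideal.quotEquivOfEq hrs).trans e)
      (Groth.FrobLCI.Avramov.isCompleteIntersection_quotient_regular S hS rs hreg),
      (Set.finite_le_nat rs.length).subset fun p hp => le_of_not_gt fun (hlt : rs.length < p) => hp ?_⟩
    have h0 : DRing.HasTorDimLE A 0 S := Groth.EtaleAlgebra.hasTorDimLE_of_flat 0 S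
    have h1 := Groth.FrobLCI.Avramov.hasTorDimLE_quotient_regular A S rs 0 S hreg.toIsWeaklyRegular h0
    rw [Nat.zero_add] at h1
    let e' : (S ⧸ (Ideal.ofList rs • ⊤ : Submodule S S)) ≃ₗ[A] B :=
      ((Submodule.quotEquivOfEq _ _ (by rw [smul_eq_mul, Ideal.mul_top, hrs])).restrictScalars A).trans
        (Ideal.quotientKerAlgEquivOfSurjective hg).toLinearEquiv
    exact Groth.FrobLCI.Avramov.hasTorDimLE_of_equiv e' h1 (ResidueField A) p hlt

end Groth.Agent.S2202
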