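import Groth.Statements.S2203
import Mathlib.CategoryTheory.Equivalence
import Mathlib.Algebra.Category.ModuleCat.Biproducts
import Mathlib.CategoryTheory.Preadditive.AdditiveFunctor
import Mathlib.CategoryTheory.Adjunction.Limits

set_option autoImplicit false
universe u
open CategoryTheory
open QCohCat

namespace Groth.Agent.S2203

open Limits

section
variable {A B : Type u} [CommRing A] [CommRing B]

/-- Multiplication by a scalar. -/
noncomputable def sc (a : A) (M : ModuleCat.{u} A) : M ⟶ M :=
  ModuleCat.ofHom (a • LinearMap.id)

lemma sc_apply (a : A) (M : ModuleCat.{u} A) (m : M) : sc a M m = a • m := rfl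

lemma sc_naturality (a : A) {M N : ModuleCat.{u} A} (f : M ⟶ N) : f ≫ sc a N = sc a M ≫ f :=
  ModuleCat.hom_ext (LinearMap.ext fun m => (f.hom.map_smul a m).symm)

lemma eq_sc (w : ∀ M : ModuleCat.{u} A, M ⟶ M)
    (h : ∀ {M N : ModuleCat.{u} A} (f : M ⟶ N), f ≫ w N = w M ≫ f) (M : ModuleCat.{u} A) :
    w M = sc (show A from w (ModuleCat.of A A) (1 : A)) M := by
  refine ModuleCat.hom_ext (LinearMap.ext fun m => ?_)
  have := congr($(h (ModuleCat.ofHom (LinearMap.toSpanSingleton A M m) : ModuleCat.of A A ⟶ M)) (1 : A))
  simp only [ConcreteCategory.comp_apply] at this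
  change w M ((1 : A) • m) = (show A from w (ModuleCat.of A A) (1 : A)) • m at this
  rwa [one_smul] at this

variable (F : ModuleCat.{u} A ≌ ModuleCat.{u} B)

/-- The endomorphism of `N` induced by a scalar of `A`. -/
noncomputable def w (a : A) (N : ModuleCat.{u} B) : N ⟶ N :=
  F.counitInv.app N ≫ F.functor.map (sc a (F.inverse.obj N)) ≫ F.counit.app N

lemma w_naturality (a : A) {M N : ModuleCat.{u} B} (f : M ⟶ N) :
    f ≫ w F a N = w F a M ≫ f := by
  have h1 := F.counitInv.naturality f
  have h2 := F.counit.naturality f
  simp only [Functor.id_map, Functor.comp_map] at h1 h2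
  simp only [w, Category.assoc, ← h2]
  rw [reassoc_of% h1, ← F.functor.map_comp_assoc, sc_naturality, F.functor.map_comp_assoc]

/-- The induced map of rings. -/
noncomputable def T (a : A) : B := w F a (ModuleCat.of B B) (1 : B)

lemma w_eq (a : A) (N : ModuleCat.{u} B) : w F a N = sc (T F a) N :=
  eq_sc (w F a) (w_naturality F a) N

lemma exists_ringHom : ∃ φ : A →+* B, ∀ a, φ a = T F a := by
  haveI : PreservesBinaryBiproducts F.functor := preservesBinaryBiproducts_of_preservesBinaryProducts _
  haveI : F.functor.Additive := Functor.additive_of_preservesBinaryBiproducts _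
  refine ⟨{ toFun := T F, map_one' := ?_, map_mul' := ?_, map_zero' := ?_, map_add' := ?_ },
    fun _ => rfl⟩
  · have : w F 1 (ModuleCat.of B B) = 𝟙 _ := by
      simp [w, sc, show ModuleCat.ofHom (LinearMap.id : F.inverse.obj (ModuleCat.of B B) →ₗ[A] _) = 𝟙 _ from rfl]
    exact congr($this (1 : B))
  · intro a a'
    have : w F (a * a') (ModuleCat.of B B) = w F a' (ModuleCat.of B B) ≫ w F a (ModuleCat.of B B) := by
      have hs : sc (a * a') (F.inverse.obj (ModuleCat.of B B)) = sc a' _ ≫ sc a _ :=
        ModuleCat.hom_ext (LinearMap.ext fun m => mul_smul a a' m)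
      simp [w, hs]
    rw [w_eq F a, w_eq F a'] at this
    have h := congr($this (1 : B))
    exact h.trans (by change T F a * (T F a' * 1) = _; rw [mul_one])
  · have : w F 0 (ModuleCat.of B B) = 0 := by simp [w, sc]
    exact congr($this (1 : B))
  · intro a a'
    have : w F (a + a') (ModuleCat.of B B) = w F a (ModuleCat.of B B) + w F a' (ModuleCat.of B B) := by
      have hs : sc (a + a') (F.inverse.obj (ModuleCat.of B B)) = sc a _ + sc a' _ :=
        ModuleCat.hom_ext (LinearMap.ext fun m => add_smul a a' m)
      simp [w, hs, Preadditive.add_comp, Preadditive.comp_add]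
    exact congr($this (1 : B))

end

/-- Ring-isomorphism part of the statement: let A and B be commutative rings whose categories of modules
are equivalent. Then A and B are isomorphic as rings. (The source moreover describes the equivalence
as base change followed by tensoring with an invertible module.) -/
theorem result (A B : Type u) [CommRing A] [CommRing B]
    (F : ModuleCat.{u} A ≌ ModuleCat.{u} B) : Nonempty (A ≃+* B) := by
  obtain ⟨φ, hφ⟩ := exists_ringHom F
  haveI : PreservesBinaryBiproducts F.functor := preservesBinaryBiproducts_of_preservesBinaryProducts _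
  haveI : F.functor.Additive := Functor.additive_of_preservesBinaryBiproducts _
  refine ⟨RingEquiv.ofBijective φ ⟨(injective_iff_map_eq_zero φ).mpr fun a ha => ?_, fun b => ?_⟩⟩
  · rw [hφ] at ha
    have hw : ∀ N, F.functor.map (sc a (F.inverse.obj N)) = 0 := fun N => by
      have h0 : w F a N = 0 := by
        rw [w_eq, ha]; exact ModuleCat.hom_ext (LinearMap.ext fun m => zero_smul B m)
      rw [← cancel_epi (F.counitInv.app N), ← cancel_mono (F.counit.app N)]
      simpa [w] using h0
    have h1 : sc a (F.inverse.obj (F.functor.obj (ModuleCat.of A A))) = 0 :=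
      F.functor.map_injective ((hw _).trans (F.functor.map_zero _ _).symm)
    have h2 : sc a (ModuleCat.of A A) = 0 := by
      rw [← cancel_mono (F.unit.app (ModuleCat.of A A)), zero_comp]
      exact (sc_naturality a (F.unit.app (ModuleCat.of A A))).symm.trans (by simp only [Functor.comp_obj, h1, comp_zero])
    have h3 := congr($h2 (1 : A))
    change a * 1 = 0 at h3
    rwa [mul_one] at h3
  · refine ⟨w F.symm b (ModuleCat.of A A) (1 : A), ?_⟩
    rw [hφ, T]
    have h1 : sc (show A from w F.symm b (ModuleCat.of A A) (1 : A))
        (F.inverse.obj (ModuleCat.of B B)) = F.inverse.map (sc b (ModuleCat.of B B)) := by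
      rw [← eq_sc (w F.symm b) (w_naturality F.symm b)]
      change F.unit.app _ ≫ F.inverse.map (sc b _) ≫ F.unitInv.app _ = _
      have h := sc_naturality b (F.counit.app (ModuleCat.of B B))
      have h' : sc b (F.functor.obj (F.inverse.obj (ModuleCat.of B B))) =
          F.counit.app (ModuleCat.of B B) ≫ sc b _ ≫ F.counitInv.app _ := by
        rw [← Category.assoc, h]; simp
      rw [h', F.inverse.map_comp, F.inverse.map_comp]
      simp
    have key : w F (show A from w F.symm b (ModuleCat.of A A) (1 : A)) (ModuleCat.of B B) =
        sc b (ModuleCat.of B B) := by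
      rw [w, h1]
      have := F.counit.naturality (sc b (ModuleCat.of B B))
      simp only [Functor.comp_map, Functor.id_map] at this
      rw [this, Iso.inv_hom_id_app_assoc]
    exact (congr($key (1 : B))).trans (mul_one b)

end Groth.Agent.S2203
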