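import Groth.Statements.S2204
import Mathlib.Algebra.Category.ModuleCat.EpiMono
import Mathlib.Algebra.Category.ModuleCat.Biproducts
import Mathlib.Algebra.Category.ModuleCat.Abelian
import Mathlib.Algebra.Homology.ShortComplex.ModuleCat
import Mathlib.CategoryTheory.Preadditive.AdditiveFunctor
import Mathlib.CategoryTheory.Abelian.Exact
import Mathlib.LinearAlgebra.DirectSum.Finsupp
import Mathlib.LinearAlgebra.TensorProduct.RightExactness

set_option autoImplicit false
universe u
open CategoryTheory CategoryTheory.Limits TensorProduct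
open QCohCat

namespace Groth.Agent.S2204

section

variable {A B : Type u} [CommRing A] [CommRing B] (F : ModuleCat.{u} A ⥤ ModuleCat.{u} B)

/-- The underlying type of the kernel bimodule `F(A)`. -/
abbrev Ker : Type u := F.obj (ModuleCat.of A A)

/-- `a ↦ a • m`. -/
noncomputable abbrev th {M : ModuleCat.{u} A} (m : M) : ModuleCat.of A A ⟶ M :=
  ModuleCat.ofHom (LinearMap.toSpanSingleton A M m)

variable [F.Additive]

lemma th_comp {M N : ModuleCat.{u} A} (g : M ⟶ N) (m : M) : th m ≫ g = th (g m) :=
  ModuleCat.hom_ext (LinearMap.ext_ring (by simp))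

/-- The action of `A` on `F(A)`. -/
@[reducible]
noncomputable def kerModule : Module A (Ker F) where
  smul a k := F.map (th (M := ModuleCat.of A A) a) k
  one_smul k := by
    change F.map (th (M := ModuleCat.of A A) (1 : A)) k = k
    rw [show th (M := ModuleCat.of A A) (1 : A) = 𝟙 _ from
      ModuleCat.hom_ext (LinearMap.ext_ring (by simp)), F.map_id]
    rfl
  mul_smul a b k := by
    change F.map (th (M := ModuleCat.of A A) (a * b)) k =
      F.map (th (M := ModuleCat.of A A) a) (F.map (th (M := ModuleCat.of A A) b) k)
    rw [← ConcreteCategory.comp_apply, ← F.map_comp, th_comp]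
    congr 4
    change a * b = b * a
    exact mul_comm a b
  smul_zero a := map_zero _
  smul_add a := map_add _
  add_smul a b k := by
    change F.map (th (M := ModuleCat.of A A) (a + b)) k =
      F.map (th (M := ModuleCat.of A A) a) k + F.map (th (M := ModuleCat.of A A) b) k
    rw [show th (M := ModuleCat.of A A) (a + b) = th a + th b from
      ModuleCat.hom_ext (LinearMap.ext_ring (by simp)), F.map_add]
    rfl
  zero_smul k := by
    change F.map (th (M := ModuleCat.of A A) (0 : A)) k = 0
    rw [show th (M := ModuleCat.of A A) (0 : A) = 0 from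
      ModuleCat.hom_ext (LinearMap.ext_ring (by simp)), F.map_zero]
    rfl

attribute [local instance] kerModule

instance kerCommClass : SMulCommClass A B (Ker F) where
  smul_comm a b k := (F.map (th (M := ModuleCat.of A A) a)).hom.map_smul b k

lemma map_th_smul {M : ModuleCat.{u} A} (a : A) (k : Ker F) (m : M) :
    F.map (th m) (a • k) = F.map (th (a • m)) k := by
  change F.map (th m) (F.map (th (M := ModuleCat.of A A) a) k) = _
  rw [← ConcreteCategory.comp_apply, ← F.map_comp, th_comp]
  rfl

/-- The comparison map. -/
noncomputable def ηA (M : ModuleCat.{u} A) : Ker F ⊗[A] M →+ F.obj M :=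
  TensorProduct.liftAddHom
    (AddMonoidHom.mk' (fun k => AddMonoidHom.mk' (fun m => F.map (th m) k) fun m m' => by
        rw [show th (m + m') = th m + th m' from
          ModuleCat.hom_ext (LinearMap.ext_ring (by simp)), F.map_add]
        rfl) fun k k' => AddMonoidHom.ext fun m => by simp)
    fun a k m => map_th_smul F a k m

@[simp]
lemma ηA_tmul (M : ModuleCat.{u} A) (k : Ker F) (m : M) : ηA F M (k ⊗ₜ m) = F.map (th m) k := rfl

/-- The comparison map, `B`-linearly. -/
noncomputable def ηB (M : ModuleCat.{u} A) : Ker F ⊗[A] M →ₗ[B] F.obj M where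
  toFun := ηA F M
  map_add' := map_add _
  map_smul' b z := by
    induction z using TensorProduct.induction_on with
    | zero => simp
    | add x y hx hy => simp only [smul_add, map_add, hx, hy]
    | tmul k m =>
      rw [TensorProduct.smul_tmul', ηA_tmul, ηA_tmul]
      exact (F.map (th m)).hom.map_smul b k

lemma ηA_natural {M N : ModuleCat.{u} A} (g : M ⟶ N) (z : Ker F ⊗[A] M) :
    ηA F N (g.hom.lTensor _ z) = F.map g (ηA F M z) := by
  induction z using TensorProduct.induction_on with
  | zero => simp
  | add x y hx hy => simp only [map_add, hx, hy]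
  | tmul k m =>
    rw [LinearMap.lTensor_tmul, ηA_tmul, ηA_tmul, ← ConcreteCategory.comp_apply, ← F.map_comp,
      th_comp]

variable (hsum : ∀ J : Type u, PreservesColimitsOfShape (Discrete J) F)

/-- The free module on a type. -/
noncomputable abbrev free (κ : Type u) : ModuleCat.{u} A := ModuleCat.of A (κ →₀ A)

include hsum in
lemma ηA_free_bijective (κ : Type u) : Function.Bijective (ηA F (free κ)) := by
  classical
  let ι : ∀ _ : κ, ModuleCat.of A A ⟶ free κ := fun i => ModuleCat.ofHom (Finsupp.lsingle i)
  have hth : ∀ i, th (M := free κ) (Finsupp.single i (1 : A)) = ι i := fun i =>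
    ModuleCat.hom_ext (LinearMap.ext_ring (by simp [ι]))
  constructor
  · refine (injective_iff_map_eq_zero _).mpr fun z hz => ?_
    let e := TensorProduct.finsuppScalarRight A A (Ker F) κ
    suffices h : e z = 0 from e.map_eq_zero_iff.1 h
    ext i
    have key : ∀ z, F.map (ModuleCat.ofHom (Finsupp.lapply i) : free κ ⟶ ModuleCat.of A A)
        (ηA F (free κ) z) = e z i := by
      intro z
      induction z using TensorProduct.induction_on with
      | zero => simp
      | add a b ha hb => simp only [map_add, ha, hb, Finsupp.add_apply]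
      | tmul k f =>
        rw [ηA_tmul, ← ConcreteCategory.comp_apply, ← F.map_comp, th_comp]
        refine Eq.trans ?_ (TensorProduct.finsuppScalarRight_apply_tmul_apply k f i).symm
        rfl
    rw [← key z, hz, map_zero, Finsupp.coe_zero, Pi.zero_apply]
  · have hc : IsColimit (Cofan.mk (free κ) ι) :=
      mkCofanColimit _ (fun c => ModuleCat.ofHom (Finsupp.lsum A fun i => (c.inj i).hom))
        (fun c i => ModuleCat.hom_ext (LinearMap.ext fun a => by simp [ι]))
        (fun c m hm => ModuleCat.hom_ext (Finsupp.lhom_ext fun i a => by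
          have := congr($(hm i) a)
          simpa [ι] using this))
    haveI := hsum κ
    have hc' := isColimitOfPreserves F hc
    let S : Submodule B (F.obj (free κ)) := LinearMap.range (ηB F (free κ))
    have h0 : ModuleCat.ofHom S.mkQ = (0 : F.obj (free κ) ⟶ _) := hc'.hom_ext fun ⟨i⟩ => by
      refine ModuleCat.hom_ext (LinearMap.ext fun k => ?_)
      refine (Submodule.Quotient.mk_eq_zero S).mpr ⟨k ⊗ₜ Finsupp.single i 1, ?_⟩
      refine Eq.trans (ηA_tmul F (free κ) k (Finsupp.single i 1)) ?_
      rw [hth]
      rfl
    intro x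
    obtain ⟨z, hz⟩ : x ∈ S := (Submodule.Quotient.mk_eq_zero S).mp congr($h0 x)
    exact ⟨z, hz⟩

/-- The free cover of a module. -/
noncomputable abbrev cover (M : ModuleCat.{u} A) : free (M : Type u) ⟶ M :=
  ModuleCat.ofHom (Finsupp.linearCombination A id)

include hsum in
lemma ηA_bijective [PreservesFiniteColimits F] (M : ModuleCat.{u} A) :
    Function.Bijective (ηA F M) := by
  have hepi : ∀ N : ModuleCat.{u} A, Epi (cover N) := fun N =>
    (ModuleCat.epi_iff_surjective _).mpr (Finsupp.linearCombination_id_surjective A N)
  have hsurj : ∀ N : ModuleCat.{u} A, Function.Surjective (ηA F N) := fun N x => by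
    haveI := hepi N
    obtain ⟨y, rfl⟩ := (ModuleCat.epi_iff_surjective (F.map (cover N))).mp inferInstance x
    obtain ⟨w, rfl⟩ := (ηA_free_bijective F hsum _).2 y
    exact ⟨_, ηA_natural F (cover N) w⟩
  refine ⟨(injective_iff_map_eq_zero _).mpr fun z hz => ?_, hsurj M⟩
  haveI := hepi M
  obtain ⟨z', rfl⟩ := LinearMap.lTensor_surjective (Ker F) (g := (cover M).hom)
    (Finsupp.linearCombination_id_surjective A M) z
  rw [ηA_natural] at hz
  let S := ShortComplex.mk (kernel.ι (cover M)) (cover M) (kernel.condition _)
  have hS : S.Exact := ShortComplex.exact_of_f_is_kernel _ (kernelIsKernel _)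
  haveI : Epi S.g := hepi M
  have htfae : PreservesFiniteColimits F ↔
      ∀ (T : ShortComplex (ModuleCat.{u} A)), T.Exact ∧ Epi T.g → (T.map F).Exact ∧ Epi (F.map T.g) :=
    (Functor.preservesFiniteColimits_tfae F).out 3 1
  have hFS : (S.map F).Exact := (htfae.mp inferInstance S ⟨hS, ‹Epi S.g›⟩).1
  obtain ⟨x, hx⟩ := (ShortComplex.moduleCat_exact_iff _).mp hFS (ηA F _ z') hz
  obtain ⟨w, rfl⟩ := hsurj (kernel (cover M)) x
  have hw : (kernel.ι (cover M)).hom.lTensor _ w = z' :=
    (ηA_free_bijective F hsum _).1 ((ηA_natural F _ w).trans hx)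
  rw [← hw, ← LinearMap.comp_apply, ← LinearMap.lTensor_comp, ← ModuleCat.hom_comp,
    kernel.condition, ModuleCat.hom_zero, LinearMap.lTensor_zero, LinearMap.zero_apply]

end

/-- The implication (2) to (1): for commutative rings A and B, any functor from A-modules to B-modules
preserving finite colimits and arbitrary direct sums is given by tensoring: there is a module K over
both A and B with commuting actions and B-linear isomorphisms K tensor_A M = F(M), natural in the
A-module M. -/
theorem result (A B : Type u) [CommRing A]
    [CommRing B] (F : ModuleCat.{u} A ⥤ ModuleCat.{u} B) [PreservesFiniteColimits F]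
    (hsum : ∀ J : Type u, PreservesColimitsOfShape (Discrete J) F) :
    ∃ (K : Type u) (_ : AddCommGroup K) (_ : Module A K) (_ : Module B K) (_ : SMulCommClass A B K)
      (η : ∀ M : ModuleCat.{u} A, (K ⊗[A] M) ≃ₗ[B] F.obj M),
      ∀ (M N : ModuleCat.{u} A) (f : M ⟶ N) (x : K ⊗[A] M),
        η N (LinearMap.lTensor K f.hom x) = F.map f (η M x) := by
  haveI : PreservesBinaryBiproducts F := preservesBinaryBiproducts_of_preservesBinaryCoproducts _
  haveI : F.Additive := Functor.additive_of_preservesBinaryBiproducts _
  letI := kerModule F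
  exact ⟨Ker F, inferInstance, inferInstance, inferInstance, kerCommClass F,
    fun M => LinearEquiv.ofBijective (ηB F M) (ηA_bijective F hsum M),
    fun M N f x => ηA_natural F f x⟩

end Groth.Agent.S2204
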