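import Groth.Statements.S2209
import Groth.Agent.ModelsGraphs.InterConnected

set_option autoImplicit false
set_option linter.unusedSimpArgs false
universe u
open CategoryTheory AlgebraicGeometry
open Models

namespace Groth.Agent.S2209

/-- Let R be a discrete valuation ring with fraction field K, C a smooth proper curve over K whose ring
of global functions is K (the map K -> H^0(C, O_C) is an isomorphism), and X a regular proper model
of C over R. Then the special fibre of X is connected. -/
theorem result (R : Type u) [CommRing R] [IsDomain R]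
    [IsDiscreteValuationRing R] (C X : Scheme.{u})
    (f : C ⟶ Spec (CommRingCat.of (FractionRing R))) (p : X ⟶ Spec (CommRingCat.of R))
    (hC : Curve.IsSmoothProperCurve (FractionRing R) C f) (hH0 : IsIso f.appTop)
    (hX : Models.IsRegularProperModel R X p C f) :
    ConnectedSpace ↥(Models.specialFibre R X p) := by
  obtain ⟨⟨hflat, -, -, g, hg⟩, hp, -⟩ := hX
  obtain ⟨-, -, hCint, -⟩ := hC
  haveI := hflat
  haveI := hp
  haveI : IsIso f.appTop := hH0
  have hpre := Groth.ModelsGraphs.Connected.isPreconnected_closedFibre p
    (Groth.ModelsGraphs.GlobalFun.toGlobal_bijective_of_appTop p g f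
      (ConcreteCategory.bijective_of_isIso _) hg)
  let i := Spec.map (CommRingCat.ofHom (algebraMap R (IsLocalRing.ResidueField R)))
  haveI : IsClosedImmersion i :=
    IsClosedImmersion.spec_of_surjective _ IsLocalRing.residue_surjective
  have hi : Set.range i = {(IsLocalRing.closedPoint R : PrimeSpectrum R)} := by
    ext y
    constructor
    · rintro ⟨z, rfl⟩
      refine PrimeSpectrum.ext ((IsLocalRing.maximalIdeal.isMaximal R).eq_of_le (i z).isPrime.ne_top ?_).symm
      intro r hr
      change algebraMap R (IsLocalRing.ResidueField R) r ∈ z.asIdeal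
      rw [show algebraMap R (IsLocalRing.ResidueField R) r = 0 from
        (IsLocalRing.residue_eq_zero_iff r).2 hr]
      exact zero_mem _
    · rintro rfl
      exact ⟨IsLocalRing.closedPoint (IsLocalRing.ResidueField R),
        (IsLocalRing.comap_closedPoint (IsLocalRing.residue R) :)⟩
  have hr : Set.range (Limits.pullback.fst p i) = p ⁻¹' {(IsLocalRing.closedPoint R : PrimeSpectrum R)} := by
    rw [Scheme.Pullback.range_fst, hi]
  obtain ⟨c⟩ : Nonempty C := hCint.nonempty
  have hne : (IsLocalRing.closedPoint R : PrimeSpectrum R) ∈ Set.range p :=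
    (IsLocalRing.specializes_closedPoint (p (g c))).mem_closed p.isClosedMap.isClosed_range ⟨g c, rfl⟩
  haveI : Nonempty ↥(Models.specialFibre R X p) := by
    obtain ⟨x, hx⟩ := hne
    obtain ⟨z, -⟩ : x ∈ Set.range (Limits.pullback.fst p i) := by rw [hr]; exact hx
    exact ⟨z⟩
  haveI : PreconnectedSpace ↥(Limits.pullback p i) := ⟨by
    rw [← (Limits.pullback.fst p i).isClosedEmbedding.isInducing.isPreconnected_image, Set.image_univ, hr]
    exact hpre⟩
  exact { toPreconnectedSpace := ‹_›, toNonempty := ‹_› }

end Groth.Agent.S2209
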