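import Groth.Statements.S2210
import Groth.Agent.Calg5.DiagonalAnn
import Groth.Agent.Calg5.RelGCIFlat

set_option autoImplicit false
universe u
open Disc

namespace Groth.Agent.S2210

/-- A nonzero finite algebra over a field has dimension zero. -/
theorem dim_eq_zero_of_finite (k R : Type u) [Field k] [CommRing R] [Algebra k R] [Module.Finite k R]
    [Nontrivial R] : ringKrullDim R = 0 := by
  haveI : IsArtinianRing R := IsArtinianRing.of_finite k R
  exact ringKrullDimZero_iff_ringKrullDim_eq_zero.mp inferInstance

/-- Parts (1) (flatness) and (3), in the case h = 1: let A be a ring, n at least 1, f_1, ..., f_n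
polynomials in A[x_1, ..., x_n] and B = A[x_1, ..., x_n]/(f_1, ..., f_n). When B is quasi-finite
over A, it is A-flat, and its Noether different over A is the principal ideal generated by the image
of the Jacobian determinant det(d f_i / d x_j). -/
theorem result {A : Type u} [CommRing A] {n : ℕ}
    (hn : 1 ≤ n) (f : Fin n → MvPolynomial (Fin n) A)
    [Algebra.QuasiFinite A (MvPolynomial (Fin n) A ⧸ Ideal.span (Set.range f))] :
    Module.Flat A (MvPolynomial (Fin n) A ⧸ Ideal.span (Set.range f)) ∧
      Disc.noetherDifferent A (MvPolynomial (Fin n) A ⧸ Ideal.span (Set.range f)) =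
        Ideal.span {Ideal.Quotient.mk (Ideal.span (Set.range f))
          (Matrix.det (Matrix.of fun i j => MvPolynomial.pderiv j (f i)))} := by
  have h : Synt.IsRelGCI A n n f := by
    refine fun p hp => ⟨le_rfl, ?_⟩
    haveI := hp
    rw [Nat.sub_self, Nat.cast_zero]
    exact dim_eq_zero_of_finite p.asIdeal.ResidueField (p.asIdeal.Fiber (Synt.RelGCIRing A n n f))
  haveI := Groth.Calg5.RelGCI.flat_of_isRelGCI h
  exact ⟨inferInstance, Groth.Calg5.Diagonal.noetherDifferent_eq (Ideal.Quotient.mkₐ A _) f
    (Ideal.Quotient.mkₐ_surjective A _) (Ideal.Quotient.mkₐ_ker A _)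
    (Groth.Calg5.RelGCI.isKoszulRegularSeq_of_isRelGCI h)⟩

end Groth.Agent.S2210
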