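import Groth.Statements.S2213
import Groth.Agent.AdicLinTop.DP.PolyAlg

set_option autoImplicit false
universe u
open DPow

namespace Groth.Agent.S2213

/-- Let (A, I) be a ring with divided powers and t a natural number. There is a divided power ring (D,
J) with an A-algebra structure making A -> D a divided power homomorphism and elements x_1, ..., x_t
of J, such that for every divided power ring (C, K) with a divided power homomorphism A -> C and
every choice of k_1, ..., k_t in K there is exactly one divided power homomorphism D -> C over A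
sending x_i to k_i (the divided power polynomial algebra). -/
theorem result {A : Type u} [CommRing A] {I : Ideal A} (γ : DividedPowers I) (t : ℕ) :
    ∃ (D : Type u) (_ : CommRing D) (_ : Algebra A D) (J : Ideal D) (δ : DividedPowers J)
      (x : Fin t → D), (∀ i, x i ∈ J) ∧ γ.IsDPMorphism δ (algebraMap A D) ∧
      ∀ (C : Type u) [CommRing C] [Algebra A C] (K : Ideal C) (ε : DividedPowers K),
        γ.IsDPMorphism ε (algebraMap A C) → ∀ k : Fin t → C, (∀ i, k i ∈ K) →
          ∃! φ : D →ₐ[A] C, (∀ i, φ (x i) = k i) ∧ δ.IsDPMorphism ε φ.toRingHom := by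
  obtain ⟨b, hP⟩ := Groth.AdicLinTop.DP.exists_alg_basis (Fin t) A
  obtain ⟨δ, h1, h2⟩ := hP.exists_dp_total γ
  refine ⟨Groth.AdicLinTop.DP.Alg A (Fin t), inferInstance, inferInstance, _, δ,
    fun i => Groth.AdicLinTop.DP.algX (Fin t) A i 1, fun i => Groth.AdicLinTop.DP.mem_total _ i, h1, ?_⟩
  intro C _ _ K ε hε k hk
  obtain ⟨φ, hφ, hφ'⟩ := hP.exists_dpHom γ h1 h2 ε hε k hk
  exact ⟨φ, ⟨hφ, hφ'⟩, fun ψ ⟨hψ, hψ'⟩ => hP.dpHom_unique h2 hψ' hφ' fun l => (hψ l).trans (hφ l).symm⟩

end Groth.Agent.S2213
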