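import Groth.Statements.S2215
import Groth.Agent.Misc1.NoetherDiff

set_option autoImplicit false
universe u v
open Disc

namespace Groth.Agent.S2215

/-- Special case: B finite free over A (the source allows flat quasi-finite maps of Noetherian rings).
Let omega = Hom_A(B, A) with its B-module structure through the argument and tau in omega the trace.
Then an element of B lies in the Noether different of B over A exactly when it is of the form
phi(tau) for some B-linear map phi : omega -> B. -/
theorem result {A : Type u} {B : Type v} [CommRing A]
    [CommRing B] [Algebra A B] [IsNoetherianRing A] [Module.Finite A B] [Module.Free A B] :
    (Disc.noetherDifferent A B : Set B) =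
      Set.range (fun φ : Disc.Omega A B →ₗ[B] B => φ (Disc.Omega.trace A B)) := by
  ext x
  exact Groth.Misc1.ND.mem_noether_iff x

end Groth.Agent.S2215
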