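import Groth.Statements.S2217
import Groth.Agent.Calg5.GorensteinFinite
import Groth.Agent.Duality.QFBaseChange

set_option autoImplicit false
universe u
open Disc

open TensorProduct

namespace Groth.Agent.S2217

theorem isNoetherianRing_of_finite' (A B : Type u) [CommRing A] [CommRing B] [Algebra A B]
    [IsNoetherianRing A] [Module.Finite A B] : IsNoetherianRing B :=
  isNoetherianRing_iff.mpr (isNoetherian_of_tower A inferInstance)

theorem finite_omega (A B : Type u) [CommRing A] [CommRing B] [Algebra A B]
    [Module.Finite A B] [Module.Free A B] : Module.Finite B (Disc.Omega A B) :=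
  Groth.Duality.QF.finite_omega

variable {A B : Type u} [CommRing A] [CommRing B] [Algebra A B] [Module.Finite A B] [Module.Free A B]

/-- If the fibre at a maximal ideal is Gorenstein, some functional generates up to an element outside it. -/
theorem exists_almost_generator (p : Ideal A) [p.IsMaximal] [LocCoh.IsGorensteinRing (p.Fiber B)] :
    ∃ (m : Disc.Omega A B) (s : A), s ∉ p ∧ (∀ y, ∃ v : B, v • m = algebraMap A B s • y) ∧
      ∀ v : B, v • m = 0 → algebraMap A B s * v = 0 := by
  classical
  letI : Algebra B (p.Fiber B) := Algebra.TensorProduct.rightAlgebra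
  have h : Algebra.IsPushout A p.ResidueField B (p.Fiber B) := inferInstance
  obtain ⟨e⟩ := Groth.Calg5.GorensteinFinite.exists_omega_equiv_of_isGorensteinRing
    (k := p.ResidueField) (B := p.Fiber B)
  have hres : Function.Surjective (algebraMap A p.ResidueField) := Ideal.algebraMap_residueField_surjective p
  let b := Module.Free.chooseBasis A B
  choose a ha using fun j => hres ((e 1).toLinearMap (algebraMap B (p.Fiber B) (b j)))
  let m : Disc.Omega A B := ⟨b.constr A a⟩
  have hm : QFDual.bcFin h m = e 1 := by
    refine Disc.Omega.ext ((h.out.basis b).ext fun j => ?_)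
    rw [IsBaseChange.basis_apply]
    change (QFDual.bcFin h m).toLinearMap (algebraMap B (p.Fiber B) (b j)) = _
    rw [QFDual.bcFin_apply_algebraMap, show m.toLinearMap (b j) = a j from b.constr_basis A a j]
    exact ha j
  have hB : Function.Surjective (algebraMap B (p.Fiber B)) := by
    intro z
    induction z using TensorProduct.induction_on with
    | zero => exact ⟨0, map_zero _⟩
    | add x y hx hy => obtain ⟨x, rfl⟩ := hx; obtain ⟨y, rfl⟩ := hy; exact ⟨x + y, map_add _ _ _⟩
    | tmul c x =>
      obtain ⟨c, rfl⟩ := hres c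
      refine ⟨c • x, ?_⟩
      rw [Algebra.TensorProduct.right_algebraMap_apply, TensorProduct.tmul_smul, TensorProduct.smul_tmul',
        Algebra.smul_def, mul_one]
  have hl : ∀ l, ∃ v : B, ∀ j, (v • m).toLinearMap (b j) - b.coord l (b j) ∈ p := by
    intro l
    obtain ⟨v, hv⟩ := hB (e.symm (QFDual.bcFin h ⟨b.coord l⟩))
    refine ⟨v, fun j => ?_⟩
    rw [← Ideal.algebraMap_residueField_eq_zero, map_sub, sub_eq_zero]
    have h1 : QFDual.bcFin h (v • m) = QFDual.bcFin h ⟨b.coord l⟩ := by
      rw [LinearMap.map_smulₛₗ, hm, hv, ← map_smul, smul_eq_mul, mul_one, LinearEquiv.apply_symm_apply]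
    have h2 := congrArg (fun w => w.toLinearMap (algebraMap B (p.Fiber B) (b j))) h1
    simpa only [QFDual.bcFin_apply_algebraMap] using h2
  choose v hv using hl
  let J : Matrix _ _ A := Matrix.of fun i j => m.toLinearMap (b i * b j)
  have hJ : ∀ (x : B) j, (x • m).toLinearMap (b j) = Matrix.vecMul (b.repr x) J j := fun x j => by
    rw [Disc.Omega.smul_toLinearMap_apply]
    conv_lhs => rw [← b.sum_repr x, Finset.sum_mul, map_sum]
    exact Finset.sum_congr rfl fun i _ => by rw [smul_mul_assoc, map_smul, smul_eq_mul]; rfl
  refine ⟨m, J.det, ?_, fun y => ?_, fun x hx => ?_⟩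
  · let V : Matrix _ _ A := Matrix.of fun l i => b.repr (v l) i
    have h1 : (V * J).map (algebraMap A p.ResidueField) = 1 := by
      refine Matrix.ext fun l j => ?_
      rw [Matrix.map_apply, show (V * J) l j = (v l • m).toLinearMap (b j) from (hJ (v l) j).symm,
        sub_eq_zero.mp (show algebraMap A p.ResidueField ((v l • m).toLinearMap (b j)) -
          algebraMap A p.ResidueField (b.coord l (b j)) = 0 by
          rw [← map_sub, Ideal.algebraMap_residueField_eq_zero]; exact hv l j),
        Module.Basis.coord_apply, Module.Basis.repr_self, Finsupp.single_apply, Matrix.one_apply]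
      split_ifs <;> simp_all
    intro hs
    have h2 := congrArg Matrix.det h1
    rw [← RingHom.mapMatrix_apply, ← RingHom.map_det, Matrix.det_mul, map_mul,
      Ideal.algebraMap_residueField_eq_zero.mpr hs, mul_zero, Matrix.det_one] at h2
    exact zero_ne_one h2
  · refine ⟨b.equivFun.symm (Matrix.vecMul (fun j => y.toLinearMap (b j)) J.adjugate), ?_⟩
    refine Disc.Omega.ext (b.ext fun j => ?_)
    rw [hJ, Disc.Omega.smul_toLinearMap_apply, ← Algebra.smul_def, map_smul, smul_eq_mul]
    rw [show ⇑(b.repr (b.equivFun.symm (Matrix.vecMul (fun j => y.toLinearMap (b j)) J.adjugate))) =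
      b.equivFun (b.equivFun.symm (Matrix.vecMul (fun j => y.toLinearMap (b j)) J.adjugate)) from rfl,
      LinearEquiv.apply_symm_apply, Matrix.vecMul_vecMul, Matrix.adjugate_mul, Matrix.vecMul_smul,
      Matrix.vecMul_one, Pi.smul_apply, smul_eq_mul]
  · have h1 : Matrix.vecMul (b.repr x) J = 0 := funext fun j => by rw [← hJ, hx]; rfl
    have h2 := congrArg (fun w => Matrix.vecMul w J.adjugate) h1
    simp only [Matrix.vecMul_vecMul, Matrix.mul_adjugate, Matrix.vecMul_smul, Matrix.vecMul_one,
      Matrix.zero_vecMul] at h2
    rw [← Algebra.smul_def]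
    refine b.ext_elem fun i => ?_
    rw [map_smul, Finsupp.smul_apply, map_zero, Finsupp.zero_apply]
    exact congrFun h2 i

/-- A functional generating up to a unit at `Q` gives freeness of rank one at `Q`. -/
theorem exists_equiv_of_almost {C M : Type u} [CommRing C] [AddCommGroup M] [Module C M]
    (Q : Ideal C) [Q.IsPrime] {m : M} {s : C} (hs : s ∉ Q) (hsurj : ∀ y, ∃ v : C, v • m = s • y)
    (hinj : ∀ v : C, v • m = 0 → s * v = 0) :
    Nonempty (Localization.AtPrime Q ⊗[C] M ≃ₗ[Localization.AtPrime Q] Localization.AtPrime Q) := by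
  let μ := TensorProduct.mk C (Localization.AtPrime Q) M 1
  let f : C →ₗ[C] Localization.AtPrime Q ⊗[C] M := μ ∘ₗ LinearMap.toSpanSingleton C M m
  haveI : IsLocalizedModule Q.primeCompl f := by
    constructor
    · intro c
      exact IsLocalizedModule.map_units μ c
    · intro z
      obtain ⟨⟨y, t⟩, hyt⟩ := IsLocalizedModule.surj Q.primeCompl μ z
      obtain ⟨v, hv⟩ := hsurj y
      refine ⟨⟨v, ⟨s, hs⟩ * t⟩, ?_⟩
      rw [mul_smul, hyt]
      change s • μ y = μ (v • m)
      rw [hv, map_smul]
    · intro x y hxy
      obtain ⟨c, hc⟩ := IsLocalizedModule.exists_of_eq (S := Q.primeCompl) (f := μ) hxy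
      refine ⟨⟨s, hs⟩ * c, ?_⟩
      have h1 : ((c : C) * (x - y)) • m = 0 := by
        rw [mul_smul, sub_smul, smul_sub, sub_eq_zero]
        exact hc
      have h2 := hinj _ h1
      rw [mul_sub, mul_sub, sub_eq_zero] at h2
      rw [Submonoid.smul_def, Submonoid.smul_def, Submonoid.coe_mul, smul_eq_mul, smul_eq_mul, mul_assoc,
        mul_assoc]
      exact h2
  exact ⟨(IsLocalizedModule.linearEquiv Q.primeCompl f
    (Algebra.linearMap C (Localization.AtPrime Q))).extendScalarsOfIsLocalization Q.primeCompl _⟩


/-- Equivalence of (2) and (4) in the affine finite free case: let A be a Noetherian ring and B an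
A-algebra which is finite free as an A-module (so A -> B is flat and quasi-finite). Then all fibre
rings kappa(p) tensor_A B are Gorenstein if and only if omega_{B/A} = Hom_A(B, A), with its B-module
structure through the argument, is an invertible B-module. -/
theorem result {A B : Type u} [CommRing A] [CommRing B]
    [Algebra A B] [IsNoetherianRing A] [Module.Finite A B] [Module.Free A B] :
    (∀ (p : Ideal A) [p.IsPrime], LocCoh.IsGorensteinRing (p.Fiber B)) ↔
      Module.Invertible B (Disc.Omega A B) := by
  classical
  haveI : IsNoetherianRing B := isNoetherianRing_of_finite' A B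
  haveI : Module.Finite B (Disc.Omega A B) := finite_omega A B
  constructor
  · intro hG
    haveI : Module.FinitePresentation B (Disc.Omega A B) := Module.finitePresentation_of_finite B _
    refine Groth.Calg5.InvertibleCrit.invertible_of_atPrime fun Q _ => ?_
    haveI : Algebra.IsIntegral A B := Algebra.IsIntegral.of_finite A B
    set p := Q.comap (algebraMap A B) with hp
    haveI : p.IsMaximal := Ideal.isMaximal_comap_of_isIntegral_of_isMaximal Q
    haveI := hG p
    obtain ⟨m, s, hs, hsurj, hinj⟩ := exists_almost_generator (A := A) (B := B) p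
    exact exists_equiv_of_almost Q (m := m) (s := algebraMap A B s) (fun h => hs h) hsurj hinj
  · intro hI p _
    letI : Algebra B (p.Fiber B) := Algebra.TensorProduct.rightAlgebra
    have h : Algebra.IsPushout A p.ResidueField B (p.Fiber B) := inferInstance
    haveI : Module.Invertible (p.Fiber B) (Disc.Omega p.ResidueField (p.Fiber B)) :=
      Module.Invertible.congr (Groth.Duality.QF.omegaEquiv h (Groth.Duality.QF.isBaseChange_toDual_of_free h))
    exact Groth.Calg5.GorensteinFinite.isGorensteinRing_of_invertible (k := p.ResidueField)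

end Groth.Agent.S2217
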