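import Groth.Statements.S2223
import Groth.Agent.ModelsGraphs.PicTorsionDVR

set_option autoImplicit false
set_option linter.unusedSimpArgs false
universe u
open CategoryTheory AlgebraicGeometry
open Models

namespace Groth.Agent.S2223

/-- Weakened form (special fibre instead of its reduction, which follows from the source): let R be a
discrete valuation ring with fraction field K and residue field k, C a smooth proper curve over K
with H^0(C, O_C) = K, and X a regular proper model of C. Let h be a positive integer prime to the
characteristic of k and L an invertible O_X-module whose h-th tensor power is trivial. If the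
pullback of L to the special fibre is trivial then L is trivial; i.e. Pic(X)[h] -> Pic(X_k)[h] is
injective. -/
theorem result (R : Type u) [CommRing R] [IsDomain R]
    [IsDiscreteValuationRing R] (C X : Scheme.{u})
    (f : C ⟶ Spec (CommRingCat.of (FractionRing R))) (p : X ⟶ Spec (CommRingCat.of R))
    (hC : Curve.IsSmoothProperCurve (FractionRing R) C f) (hH0 : IsIso f.appTop)
    (hX : Models.IsRegularProperModel R X p C f) (h : ℕ) (hh : 0 < h)
    (hchar : ∀ q : ℕ, q.Prime → CharP (IsLocalRing.ResidueField R) q → ¬ q ∣ h)
    (L : X.Modules) (hL : PicF.IsInvertible L)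
    (htors : Nonempty (CohB1.tensorPow L h ≅ Coh.structureModule X))
    (htriv : Nonempty ((Scheme.Modules.pullback
        (Limits.pullback.fst p (Spec.map (CommRingCat.ofHom
          (algebraMap R (IsLocalRing.ResidueField R)))))).obj L ≅
        Coh.structureModule (Models.specialFibre R X p))) :
    Nonempty (L ≅ Coh.structureModule X) := by
  obtain ⟨⟨hfl, -, -, g, hg⟩, hp, -⟩ := hX
  haveI := hfl
  haveI := hp
  haveI := hH0
  have hR := (Groth.ModelsGraphs.GlobalFun.toGlobal_bijective_of_appTop p g f
    (ConcreteCategory.bijective_of_isIso _) hg).2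
  have hu := Groth.ModelsGraphs.PicTorsion.isUnit_natCast (R := R) h hh hchar
  let i := Limits.pullback.fst p (Spec.map (CommRingCat.ofHom (algebraMap R (IsLocalRing.ResidueField R))))
  haveI : IsClosedImmersion (Spec.map (CommRingCat.ofHom (algebraMap R (IsLocalRing.ResidueField R)))) :=
    IsClosedImmersion.spec_of_surjective _ IsLocalRing.residue_surjective
  haveI : IsClosedImmersion i := MorphismProperty.pullback_fst _ _ inferInstance
  refine Groth.ModelsGraphs.PicTorsion.nonempty_iso_of_torsion p hR i.ker ?_ h hu L hL htors ?_
  · rw [Scheme.Hom.support_ker, i.isClosedEmbedding.isClosed_range.closure_eq, Scheme.Pullback.range_fst]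
    congr 1
    refine Set.Subset.antisymm (Set.range_subset_iff.2 fun z => ?_)
      (Set.singleton_subset_iff.2 ⟨IsLocalRing.closedPoint _, IsLocalRing.comap_closedPoint (IsLocalRing.residue R)⟩)
    rw [Subsingleton.elim z (IsLocalRing.closedPoint (IsLocalRing.ResidueField R))]
    exact IsLocalRing.comap_closedPoint (IsLocalRing.residue R)
  · obtain ⟨e⟩ := htriv
    let b := IsClosedImmersion.lift i i.ker.subschemeι (Scheme.IdealSheafData.ker_subschemeι i.ker).ge
    exact ⟨(Scheme.Modules.pullbackCongr (IsClosedImmersion.lift_fac i i.ker.subschemeι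
        (Scheme.IdealSheafData.ker_subschemeι i.ker).ge)).symm.app L ≪≫
      ((Scheme.Modules.pullbackComp b i).app L).symm ≪≫ (Scheme.Modules.pullback b).mapIso e ≪≫
      @asIso _ _ _ _ (Groth.PicAux.pullUnit b) (Groth.PicAux.isIso_pullUnit b)⟩

end Groth.Agent.S2223
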