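import Groth.Statements.S2224
import Groth.Agent.Misc4.FMKernel

set_option autoImplicit false
universe u
open CategoryTheory AlgebraicGeometry
attribute [local instance] HasDerivedCategory.standard
open QCohCat

namespace Groth.Agent.S2224

/-- Case (2) with the kernel a single coherent module: let S be a Noetherian scheme, X -> S and Y -> S
of finite type, and K a coherent module on X x_S Y which is flat over X and whose support is proper
over Y. Assuming the derived functors L pr_1^*, - tensor^L K and R pr_2,* exist (assumed as unproved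
hypotheses), the Fourier-Mukai transform R pr_2,* (L pr_1^* M tensor^L K) of any bounded object M of
D(O_X) with coherent cohomology sheaves is a bounded object of D(O_Y) with coherent cohomology
sheaves. -/
theorem result {S X Y : Scheme.{u}} [IsNoetherian S]
    (a : X ⟶ S) (b : Y ⟶ S) [LocallyOfFiniteType a] [QuasiCompact a] [LocallyOfFiniteType b]
    [QuasiCompact b] (K : (Limits.pullback a b).Modules) (hK : Coh.IsCoh K)
    (hflat : FlatMod.IsFlatOver (Limits.pullback.fst a b) K)
    (hsupp : ClSub.IsProperOver (Limits.pullback.snd a b) (CohB1.support K))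
    [DCoh.HasLpull (Limits.pullback.fst a b)] [DCoh.HasLTensorMod K]
    [DCoh.HasRpush (Limits.pullback.snd a b)]
    (M : DCoh.D X) (hM : DCoh.IsCohD M) (m n : ℤ) (hMge : DerivedCategory.IsGE M m)
    (hMle : DerivedCategory.IsLE M n) :
    DCoh.IsCohD ((DCoh.Rpush (Limits.pullback.snd a b)).obj
        ((DCoh.LTensorMod K).obj ((DCoh.Lpull (Limits.pullback.fst a b)).obj M))) ∧
      ∃ m' n' : ℤ, DerivedCategory.IsGE ((DCoh.Rpush (Limits.pullback.snd a b)).obj
          ((DCoh.LTensorMod K).obj ((DCoh.Lpull (Limits.pullback.fst a b)).obj M))) m' ∧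
        DerivedCategory.IsLE ((DCoh.Rpush (Limits.pullback.snd a b)).obj
          ((DCoh.LTensorMod K).obj ((DCoh.Lpull (Limits.pullback.fst a b)).obj M))) n' := by
  haveI : IsLocallyNoetherian X := LocallyOfFiniteType.isLocallyNoetherian a
  haveI : IsLocallyNoetherian Y := LocallyOfFiniteType.isLocallyNoetherian b
  haveI : CompactSpace Y := QuasiCompact.compactSpace_of_compactSpace b
  haveI : IsNoetherian Y := { }
  haveI : IsLocallyNoetherian (Limits.pullback a b) :=
    LocallyOfFiniteType.isLocallyNoetherian (Limits.pullback.snd a b)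
  obtain ⟨hc, m₀, n₀, hz⟩ := Groth.Misc4.FMKernel.good_g (Limits.pullback.fst a b) K
    (q := Limits.pullback.snd a b) hK hflat hsupp M hM m n
  set Z := (DCoh.LTensorMod K).obj ((DCoh.Lpull (Limits.pullback.fst a b)).obj M) with hZ
  haveI : Z.IsGE m₀ := (DerivedCategory.isGE_iff _ _).2 fun i hi => hz i (.inl hi)
  haveI : Z.IsLE n₀ := (DerivedCategory.isLE_iff _ _).2 fun i hi => hz i (.inr hi)
  obtain ⟨h1, n', h2⟩ := Groth.DerivedCoh.PerfPush.rpush_bounded (Limits.pullback.snd a b) Z m₀ n₀ hc
  exact ⟨h1, m₀, n', Groth.DerivedCoh.PerfPush.isGE_Rpush (Limits.pullback.snd a b) Z m₀, h2⟩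

end Groth.Agent.S2224
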