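import Groth.Statements.S2225
import Groth.Agent.ModelsGraphs.InterBasic
import Groth.Agent.ModelsGraphs.DVRFibre
import Groth.Agent.Misc15.GorLoc

set_option autoImplicit false
set_option linter.unusedSimpArgs false
universe u
open CategoryTheory AlgebraicGeometry
open Models

namespace Groth.Agent.S2225

/-- Part (1), for the closed fibre: let R be a discrete valuation ring with fraction field K, C a smooth
proper curve over K and X a regular model of C over R (flat, of finite type, all local rings
regular). Then every local ring of the special fibre X_k is a Gorenstein local ring; together with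
flatness and regularity of the generic fibre this says X -> Spec R is a Gorenstein morphism. -/
theorem result (R : Type u) [CommRing R] [IsDomain R]
    [IsDiscreteValuationRing R] (C X : Scheme.{u})
    (f : C ⟶ Spec (CommRingCat.of (FractionRing R))) (p : X ⟶ Spec (CommRingCat.of R))
    (hC : Curve.IsSmoothProperCurve (FractionRing R) C f) (hX : Models.IsModel R X p C f)
    (hreg : Models.IsRegularScheme X) (x : ↥(Models.specialFibre R X p)) :
    LocCoh.IsGorensteinLocalRing ((Models.specialFibre R X p).presheaf.stalk x) := by
  obtain ⟨hflat, hft, -, -⟩ := hX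
  haveI := hflat
  haveI := hft
  haveI : IsLocallyNoetherian X := LocallyOfFiniteType.isLocallyNoetherian p
  obtain ⟨π, hπ⟩ := IsDiscreteValuationRing.exists_irreducible R
  let i := Spec.map (CommRingCat.ofHom (IsLocalRing.residue R))
  haveI : IsClosedImmersion i :=
    IsClosedImmersion.spec_of_surjective _ IsLocalRing.residue_surjective
  let gs := Limits.pullback.fst p i
  let q := Limits.pullback.snd p i
  have hs : IsPullback gs q p i := IsPullback.of_hasPullback p i
  haveI : IsClosedImmersion gs := MorphismProperty.of_isPullback hs.flip inferInstance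
  let y : X := gs.base x
  haveI := hreg y
  let t : X.presheaf.stalk y := Models.stalkHom R (Over.mk p) y π
  let S := X.presheaf.stalk y
  let φ : S →+* (Models.specialFibre R X p).presheaf.stalk x := (gs.stalkMap x).hom
  have hsurj : Function.Surjective φ := gs.stalkMap_surjective x
  have hzero : φ t = 0 := by
    have h0 : gs.appTop (Coh.toGlobal p π) = 0 := by
      have h1 : gs ≫ p = q ≫ i := hs.w
      have h2 := congr(($h1).appTop ((Scheme.ΓSpecIso (CommRingCat.of R)).inv π))
      rw [Scheme.Hom.comp_appTop, Scheme.Hom.comp_appTop] at h2
      refine h2.trans ?_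
      have h3 : i.appTop ((Scheme.ΓSpecIso (CommRingCat.of R)).inv π) =
          (Scheme.ΓSpecIso (CommRingCat.of (IsLocalRing.ResidueField R))).inv
            (IsLocalRing.residue R π) :=
        (ConcreteCategory.congr_hom
          (Scheme.ΓSpecIso_inv_naturality (CommRingCat.ofHom (IsLocalRing.residue R))) π).symm
      have h4 : IsLocalRing.residue R π = 0 :=
        (IsLocalRing.residue_eq_zero_iff π).2 (hπ.maximalIdeal_eq ▸ Ideal.mem_span_singleton_self π)
      change q.appTop (i.appTop _) = 0
      rw [h3, h4, map_zero, map_zero]
    refine (Scheme.Hom.germ_stalkMap_apply gs ⊤ x trivial _).trans ?_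
    exact (congrArg _ h0).trans (map_zero _)
  have hker : RingHom.ker φ = Ideal.span {t} := by
    refine le_antisymm (fun b hb => Ideal.mem_span_singleton.2 ?_) ?_
    · exact Groth.ModelsGraphs.DVRFibre.dvd_of_stalkMap_eq_zero p hs hπ.maximalIdeal_eq x b hb
    · rw [Ideal.span_le, Set.singleton_subset_iff]
      exact hzero
  have ht : IsSMulRegular S t := by
    haveI : IsDomain S := Groth.Ega4Algebra1.isDomain_of_isRegularLocalRing _
    haveI : Flat (Over.mk p).hom := hflat
    exact fun a b h => mul_left_cancel₀
      (Groth.ModelsGraphs.Inter.stalkHom_ne_zero (X := Over.mk p) hπ.ne_zero y) h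
  have htm : t ∈ IsLocalRing.maximalIdeal S := fun h => not_isUnit_zero (hzero ▸ h.map φ)
  let e : (S ⧸ Ideal.span {t}) ≃+* (Models.specialFibre R X p).presheaf.stalk x :=
    (Ideal.quotEquivOfEq hker.symm).trans (RingHom.quotientKerEquivOfSurjective hsurj)
  haveI : IsLocalRing (S ⧸ Ideal.span {t}) := e.symm.isLocalRing
  haveI : IsNoetherianRing ((Models.specialFibre R X p).presheaf.stalk x) :=
    isNoetherianRing_of_surjective S _ φ hsurj
  exact (GrothGoren.isGorenstein_iff _).2 ((GrothGoren.exists_injLT_iff_of_ringEquiv e).1
    ((GrothGoren.exists_injLT_quotient_iff S htm ht).1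
      ((GrothGoren.isGorenstein_iff S).1 (Groth.Misc15.GorLoc.gor_of_regular S))))

end Groth.Agent.S2225
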