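import Groth.Statements.S2227
import Groth.Agent.PlaneCurve.NodeNormal.Local
import Groth.Agent.Curves1.Node.NodalMax
import Groth.Agent.ModelsGraphs.NodalDVR.Ring

set_option autoImplicit false
set_option linter.unusedSimpArgs false
universe u
open CategoryTheory CategoryTheory.Limits AlgebraicGeometry
open Models

namespace Groth.Agent.S2227

attribute [local instance] Curv2.resAlgebra Curv2.stalkAlgebra

/-- Let R be a discrete valuation ring with uniformizer ϖ and X → Spec R an at-worst-nodal family of
relative dimension one. For every point x of X lying over the closed point of Spec R there are: a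
discrete valuation ring R' with an étale ring map R → R' sending ϖ to a uniformizer of R', an
element h of R'[u, v] which is either 0 or the constant ϖⁿ for some n (via R → R'), a scheme U with
an étale morphism e : U → X whose image contains x, and an étale morphism g : U → Spec(R'[u, v]/(uv
− h)), such that the two composites U → Spec R (through g and through e) agree. (The étaleness of g
is part of the statement here; the published display leaves it implicit.) -/
theorem result (R : Type u) [CommRing R] [IsDomain R]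
    [IsDiscreteValuationRing R] (ϖ : R) (hϖ : Irreducible ϖ) (X : Scheme.{u})
    (p : X ⟶ Spec (CommRingCat.of R)) (hp : Curv2.IsNodalFamily p) (x : X)
    (hx : p.base x = IsLocalRing.closedPoint R) :
    ∃ (R' : Type u) (_ : CommRing R') (_ : IsDomain R') (_ : IsDiscreteValuationRing R')
      (_ : Algebra R R') (_ : Algebra.Etale R R') (_ : Irreducible (algebraMap R R' ϖ))
      (h : MvPolynomial (Fin 2) R') (_ : h = 0 ∨ ∃ n : ℕ, h = MvPolynomial.C (algebraMap R R' ϖ ^ n))
      (U : Scheme.{u}) (e : U ⟶ X) (_ : Etale e) (x' : U) (_ : e.base x' = x)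
      (g : U ⟶ Spec (CommRingCat.of (MvPolynomial (Fin 2) R' ⧸
        Ideal.span {MvPolynomial.X 0 * MvPolynomial.X 1 - h}))) (_ : Etale g),
      g ≫ Spec.map (CommRingCat.ofHom ((Ideal.Quotient.mk _).comp
          (MvPolynomial.C.comp (algebraMap R R')))) = e ≫ p := by
  classical
  have hp' := hp
  obtain ⟨hflat, hlfp, -⟩ := hp'
  have htop : ∀ V : (Spec (CommRingCat.of R)).Opens, p x ∈ V → V = ⊤ := fun V hV =>
    (TopologicalSpace.Opens.ext <| Set.eq_univ_of_forall fun P =>
      (IsLocalRing.specializes_closedPoint P).mem_open V.2 (hx ▸ hV))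
  have hT : IsAffineOpen (⊤ : (Spec (CommRingCat.of R)).Opens) := isAffineOpen_top _
  let σ : CommRingCat.of R ⟶ Γ(Spec (CommRingCat.of R), ⊤) := (Scheme.ΓSpecIso (CommRingCat.of R)).inv
  have hσ : hT.fromSpec = Spec.map σ := by
    rw [IsAffineOpen.fromSpec_top, Scheme.isoSpec_Spec_inv]
  have key : ∀ (U : X.Opens) (hU : IsAffineOpen U) (_ : x ∈ U) (T : Type u) (_ : CommRing T)
      (j : Γ(X, U) →+* T) (_ : j.Etale) (z : PrimeSpectrum T)
      (_ : Spec.map (CommRingCat.ofHom j) z = hU.primeIdealOf ⟨x, ‹x ∈ U›⟩)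
      (R' : Type u) [CommRing R'] [Algebra R R'] (h : MvPolynomial (Fin 2) R')
      (g : (MvPolynomial (Fin 2) R' ⧸ Ideal.span {MvPolynomial.X 0 * MvPolynomial.X 1 - h}) →+* T)
      (_ : g.Etale) (_ : ∀ r, g (Ideal.Quotient.mk _ (MvPolynomial.C (algebraMap R R' r))) =
        j (p.appLE ⊤ U (by simp) (σ r))),
      ∃ (W : Scheme.{u}) (e : W ⟶ X) (_ : Etale e) (x' : W) (_ : e.base x' = x)
      (g : W ⟶ Spec (CommRingCat.of (MvPolynomial (Fin 2) R' ⧸
        Ideal.span {MvPolynomial.X 0 * MvPolynomial.X 1 - h}))) (_ : Etale g),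
      g ≫ Spec.map (CommRingCat.ofHom ((Ideal.Quotient.mk _).comp
          (MvPolynomial.C.comp (algebraMap R R')))) = e ≫ p := by
    intro U hU hxU T _ j hj z hz R' _ _ h g hg hcomm
    have : Etale (Spec.map (CommRingCat.ofHom j)) := HasRingHomProperty.Spec_iff.2 hj
    refine ⟨Spec (CommRingCat.of T), Spec.map (CommRingCat.ofHom j) ≫ hU.fromSpec, inferInstance, z, ?_,
      Spec.map (CommRingCat.ofHom g), HasRingHomProperty.Spec_iff.2 hg, ?_⟩
    · show hU.fromSpec (Spec.map (CommRingCat.ofHom j) z) = x
      rw [hz]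
      exact hU.fromSpec_primeIdealOf _
    · rw [Category.assoc, ← hT.SpecMap_appLE_fromSpec p hU (by simp), hσ, ← Spec.map_comp,
        ← Spec.map_comp, ← Spec.map_comp]
      exact congrArg Spec.map (CommRingCat.hom_ext (RingHom.ext hcomm))
  rcases ((Groth.Curves1.Node.isNodalFamily_iff_nodalSet p).1 hp x) with hsm | hnode
  · obtain ⟨V, hV, U, hU, hxU, e, hstd⟩ := hsm
    obtain rfl := htop V (e hxU)
    obtain ⟨t, ht, g, hg, hgc⟩ := Groth.ModelsGraphs.NodalDVR.exists_smooth_form
      (p.appLE ⊤ U e).hom hstd (hU.primeIdealOf ⟨x, hxU⟩).asIdeal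
    let P := (hU.primeIdealOf ⟨x, hxU⟩).asIdeal
    let T := Localization.Away t
    have hdisj : Disjoint (Submonoid.powers t : Set Γ(X, U)) (P : Set Γ(X, U)) := Set.disjoint_left.2 fun y hy hy' => by
      obtain ⟨n, rfl⟩ := hy
      exact ht (PrimeSpectrum.isPrime _ |>.mem_of_pow_mem n hy')
    have hj : (algebraMap Γ(X, U) T).Etale := by
      have : Algebra.Etale Γ(X, U) T := Algebra.Etale.of_isLocalizationAway t
      exact RingHom.etale_algebraMap.2 this
    let z : PrimeSpectrum T := ⟨P.map (algebraMap _ T),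
      IsLocalization.isPrime_of_isPrime_disjoint (Submonoid.powers t) T P inferInstance hdisj⟩
    have hz : Spec.map (CommRingCat.ofHom (algebraMap Γ(X, U) T)) z = hU.primeIdealOf ⟨x, hxU⟩ :=
      PrimeSpectrum.ext (IsLocalization.comap_map_of_isPrime_disjoint (Submonoid.powers t) T
        (inferInstanceAs P.IsPrime) hdisj)
    have hbij : Function.Bijective σ.hom := ConcreteCategory.bijective_of_isIso σ
    let w : Γ(Spec (CommRingCat.of R), ⊤) →+* R := (Scheme.ΓSpecIso (CommRingCat.of R)).hom.hom
    have hw : ∀ r, w (σ r) = r := fun r =>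
      congrArg (fun φ => φ.hom r) (Scheme.ΓSpecIso (CommRingCat.of R)).inv_hom_id
    have hw' : ∀ r, σ (w r) = r := fun r =>
      congrArg (fun φ => φ.hom r) (Scheme.ΓSpecIso (CommRingCat.of R)).hom_inv_id
    let E : R ≃+* Γ(Spec (CommRingCat.of R), ⊤) := RingEquiv.ofBijective σ.hom hbij
    let P' := MvPolynomial.mapEquiv (Fin 2) E
    let Q : Groth.ModelsGraphs.NodalDVR.NF (1 : MvPolynomial (Fin 2) R) ≃+*
        Groth.ModelsGraphs.NodalDVR.NF (1 : MvPolynomial (Fin 2) Γ(Spec (CommRingCat.of R), ⊤)) :=
      Ideal.quotientEquiv _ _ P' (by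
        rw [Ideal.map_span, Set.image_singleton]
        congr 1
        simp [P'])
    refine ⟨R, inferInstance, inferInstance, inferInstance, Algebra.id R, inferInstance, hϖ, 1,
      Or.inr ⟨0, by simp⟩, key U hU hxU T inferInstance (algebraMap _ T) hj z hz R 1
        (g.comp Q.toRingHom) ?_ fun r => ?_⟩
    · exact RingHom.Etale.stableUnderComposition _ _ (RingHom.Etale.of_bijective Q.bijective) hg
    · refine Eq.trans ?_ (RingHom.congr_fun hgc (σ r))
      show g (Ideal.Quotient.mk _ (P' (MvPolynomial.C r))) = g (Ideal.Quotient.mk _ _)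
      congr 2
      exact MvPolynomial.map_C _ _
  · obtain ⟨_, ⟨U, hU : IsAffineOpen U, rfl⟩, hxU, -⟩ :=
      X.isBasis_affineOpens.exists_subset_of_mem_open (Set.mem_univ x) isOpen_univ
    have e : U ≤ p ⁻¹ᵁ ⊤ := by simp
    let := (p.appLE ⊤ U e).hom.toAlgebra
    have : Module.Flat Γ(Spec (CommRingCat.of R), ⊤) Γ(X, U) := p.flat_appLE hT hU e
    have : Algebra.FinitePresentation Γ(Spec (CommRingCat.of R), ⊤) Γ(X, U) :=
      p.finitePresentation_appLE hT hU e
    let : (p.fiber (p x)).Over (Spec (CommRingCat.of ((Spec (CommRingCat.of R)).residueField (p x)))) :=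
      ⟨p.fiberToSpecResidueField (p x)⟩
    have hw : p.fiberι (p x) (p.asFiber x) ∈ U := by rwa [p.fiberι_asFiber]
    have hlft : LocallyOfFiniteType ((p.fiber (p x)) ↘
        (Spec (CommRingCat.of ((Spec (CommRingCat.of R)).residueField (p x))))) :=
      inferInstanceAs (LocallyOfFiniteType (pullback.snd p ((Spec (CommRingCat.of R)).fromSpecResidueField (p x))))
    have : IsNoetherianRing ((p.fiber (p x)).presheaf.stalk (p.asFiber x)) :=
      Groth.Curves1.Node.isNoetherianRing_stalk (k := (Spec (CommRingCat.of R)).residueField (p x))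
        (p.asFiber x)
    obtain ⟨A, X', a, gV, gU, e', hgV, hgU, he, hcomm, z, hz⟩ :=
      Groth.PlaneCurve.NodeNormal.exists_normalForm
        (Groth.Curves1.Node.isFibreLocal_toFibreStalk p hT hU e (by trivial) _ hw)
        ((Groth.Curves1.Node.isFibreNode_iff_isNodeRing p _).1 hnode)
    have h1 : Spec.map (CommRingCat.ofHom gU) z = hU.primeIdealOf ⟨x, hxU⟩ := by
      have hx0 : (⟨x, hxU⟩ : U) = ⟨p.fiberι (p x) (p.asFiber x), hw⟩ :=
        Subtype.ext (p.fiberι_asFiber x).symm
      rw [hx0]
      refine PrimeSpectrum.ext (hz.trans ?_)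
      rw [hU.primeIdealOf_eq_map_closedPoint]
      show Ideal.comap _ _ = Ideal.comap _ _
      rw [Groth.Curves1.Node.toFibreStalk, CommRingCat.hom_comp, ← Ideal.comap_comap]
      congr 1
      have : IsLocalHom ((p.fiberι (p x)).stalkMap (p.asFiber x)).hom := inferInstance
      exact ((IsLocalRing.local_hom_TFAE ((p.fiberι (p x)).stalkMap (p.asFiber x)).hom).out 0 4).1 this
    let emb : A →+* X' := e'.comp (algebraMap A (Groth.PlaneCurve.NodeNormal.NodalRing a))
    let gR : R →+* A := gV.comp σ.hom
    let := gR.toAlgebra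
    have hgR : gR.Etale := RingHom.Etale.stableUnderComposition _ _
      (RingHom.Etale.of_bijective (ConcreteCategory.bijective_of_isIso σ)) hgV
    have : Algebra.Etale R A := hgR
    have hcomm' : ∀ r, gU (p.appLE ⊤ U e (σ r)) = emb (gR r) := fun r => hcomm (σ r)
    have hq : IsLocalRing.maximalIdeal R ≤ (z.asIdeal.comap emb).comap (algebraMap R A) := by
      have hpt : p ((hU.fromSpec) (Spec.map (CommRingCat.ofHom gU) z)) = IsLocalRing.closedPoint R := by
        rw [h1]
        exact (congrArg p (hU.fromSpec_primeIdealOf _)).trans hx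
      have hmor : Spec.map (CommRingCat.ofHom gU) ≫ hU.fromSpec ≫ p =
          Spec.map (CommRingCat.ofHom (emb.comp gR)) := by
        rw [← hT.SpecMap_appLE_fromSpec p hU e, hσ, ← Spec.map_comp, ← Spec.map_comp]
        exact congrArg Spec.map (CommRingCat.hom_ext (RingHom.ext hcomm'))
      have hpt' : Spec.map (CommRingCat.ofHom (emb.comp gR)) z = IsLocalRing.closedPoint R := by
        rw [← hmor]
        exact hpt
      exact (congrArg PrimeSpectrum.asIdeal hpt').ge
    obtain ⟨f, hf, hdom, hdvr, het, hirr⟩ :=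
      Groth.ModelsGraphs.NodalDVR.exists_away_dvr ϖ hϖ (z.asIdeal.comap emb) hq
    obtain ⟨lam, h0, hh0, hrel⟩ := Groth.ModelsGraphs.NodalDVR.exists_normal_parameter
      (algebraMap R (Localization.Away f) ϖ) hirr (algebraMap A (Localization.Away f) a)
    obtain ⟨g, hg, hgC⟩ := Groth.ModelsGraphs.NodalDVR.exists_node_form a e' he f lam
      (MvPolynomial.C h0) h0 rfl hrel
    let T := Localization.Away (e' (algebraMap A (Groth.PlaneCurve.NodeNormal.NodalRing a) f))
    have hj : ((algebraMap X' T).comp gU).Etale := by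
      have : Algebra.Etale X' T := Algebra.Etale.of_isLocalizationAway
        (e' (algebraMap A (Groth.PlaneCurve.NodeNormal.NodalRing a) f))
      exact RingHom.Etale.stableUnderComposition _ _ hgU (RingHom.etale_algebraMap.2 this)
    have hdisj : Disjoint (Submonoid.powers (emb f) : Set X') z.asIdeal :=
      Set.disjoint_left.2 fun y hy hy' => by
        obtain ⟨n, rfl⟩ := hy
        exact hf (z.isPrime.mem_of_pow_mem n hy')
    let z' : PrimeSpectrum T := ⟨z.asIdeal.map (algebraMap X' T),
      IsLocalization.isPrime_of_isPrime_disjoint (Submonoid.powers (emb f)) T z.asIdeal z.isPrime hdisj⟩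
    have hz' : Spec.map (CommRingCat.ofHom ((algebraMap X' T).comp gU)) z' =
        hU.primeIdealOf ⟨x, hxU⟩ := by
      rw [← h1]
      refine PrimeSpectrum.ext ?_
      show (z'.asIdeal).comap ((algebraMap X' T).comp gU) = z.asIdeal.comap gU
      rw [← Ideal.comap_comap]
      congr 1
      exact IsLocalization.comap_map_of_isPrime_disjoint (Submonoid.powers (emb f)) T z.isPrime hdisj
    refine ⟨Localization.Away f, inferInstance, hdom, hdvr, inferInstance, het, hirr, MvPolynomial.C h0, ?_,
      key U hU hxU T inferInstance _ hj z' hz' (Localization.Away f) (MvPolynomial.C h0) g hg fun r => ?_⟩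
    · rcases hh0 with rfl | ⟨n, rfl⟩
      · exact Or.inl MvPolynomial.C_0
      · exact Or.inr ⟨n, rfl⟩
    · rw [IsScalarTower.algebraMap_apply R A (Localization.Away f)]
      refine (hgC _).trans ?_
      exact congrArg (algebraMap X' T) (hcomm' r).symm

end Groth.Agent.S2227
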