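import Groth.Statements.S2231
import Groth.Agent.DerivedCoh.PerfFP.Main
import Groth.Agent.DerivedCoh.PCoh.Pullback
import Groth.Agent.DerivedCoh.PCoh.TensorPerfect
import Groth.Agent.Misc4.RHomTensor
-- import your own Groth.Agent.* helpers here

set_option autoImplicit false
universe u
open CategoryTheory AlgebraicGeometry
attribute [local instance] HasDerivedCategory.standard
open QCohCat

namespace Groth.Agent.S2231

/-- Case (3): let X -> S be proper, flat and of finite presentation, Y -> S arbitrary, and K a complex
of modules on X x_S Y which is perfect. Assuming the derived functors L pr_1^*, - tensor^L K and R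
pr_2,* exist (unproved hypotheses carried as binders), the Fourier-Mukai transform of a perfect
object of D(O_X) is a perfect object of D(O_Y). -/
theorem result {S X Y : Scheme.{u}} (a : X ⟶ S)
    (b : Y ⟶ S) [IsProper a] [Flat a] [LocallyOfFinitePresentation a]
    (K : CochainComplex (Limits.pullback a b).Modules ℤ)
    (hK : DCoh.IsPerfect (DCoh.toD (Limits.pullback a b) K))
    [DCoh.HasLpull (Limits.pullback.fst a b)] [DCoh.HasLTensorCx K]
    [DCoh.HasRpush (Limits.pullback.snd a b)] (M : DCoh.D X) (hM : DCoh.IsPerfect M) :
    DCoh.IsPerfect ((DCoh.Rpush (Limits.pullback.snd a b)).obj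
        ((DCoh.LTensorCx K).obj ((DCoh.Lpull (Limits.pullback.fst a b)).obj M))) := by
  haveI : IsProper (Limits.pullback.snd a b) := inferInstance
  haveI : Flat (Limits.pullback.snd a b) := inferInstance
  haveI : LocallyOfFinitePresentation (Limits.pullback.snd a b) := inferInstance
  haveI := Groth.DerivedCoh.KFlat.hasLTensorCx
    ((Groth.DerivedCoh.KFlat.flatResolution (Limits.pullback a b)).obj K)
  haveI := Groth.DerivedCoh.KFlat.flatResolution_quasiIso K
  haveI := (DerivedCategory.isIso_Q_map_iff_quasiIso _
    ((Groth.DerivedCoh.KFlat.flatResolutionAug (Limits.pullback a b)).app K)).2 inferInstance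
  refine Groth.DerivedCoh.PerfFP.isPerfect_Rpush_of_proper_flat _ _ (Groth.KTheory.Perf.isPerfect_of_iso
    ((Groth.Misc4.RHomTensor.ltcxResolutionIso K).app _) ?_)
  exact Groth.DerivedCoh.PCoh.isPerfect_LTensor _ (Groth.DerivedCoh.KFlat.flatResolution_isKFlat K)
    (Groth.KTheory.Perf.isPerfect_of_iso (asIso (DerivedCategory.Q.map
      ((Groth.DerivedCoh.KFlat.flatResolutionAug (Limits.pullback a b)).app K))).symm hK)
    _ (Groth.DerivedCoh.PCoh.isPerfect_Lpull (Limits.pullback.fst a b) hM)

end Groth.Agent.S2231
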