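import Groth.Statements.S2232
import Groth.Agent.Misc4.FMPerfect
import Groth.Agent.KTheory.PerfRegular
import Groth.Agent.HTor.FlatCoh
import Groth.Agent.DerivedCoh.PerfPush.ProperSupp
import Groth.Agent.S0791

set_option autoImplicit false
universe u
open CategoryTheory AlgebraicGeometry
attribute [local instance] HasDerivedCategory.standard
open QCohCat

namespace Groth.Agent.S2232

/-- Case (3): let S be Noetherian, X -> S and Y -> S of finite type with all local rings of X regular,
and K a bounded complex of modules on X x_S Y with coherent cohomology sheaves whose supports are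
proper over Y. Assuming the derived functors L pr_1^*, - tensor^L K and R pr_2,* exist (unproved
hypotheses carried as binders), the Fourier-Mukai transform of a bounded object of D(O_X) with
coherent cohomology sheaves is a bounded object of D(O_Y) with coherent cohomology sheaves. -/
theorem result {S X Y : Scheme.{u}} [IsNoetherian S]
    (a : X ⟶ S) (b : Y ⟶ S) [LocallyOfFiniteType a] [QuasiCompact a] [LocallyOfFiniteType b]
    [QuasiCompact b] (hreg : Models.IsRegularScheme X)
    (K : CochainComplex (Limits.pullback a b).Modules ℤ)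
    (hKcoh : DCoh.IsCohD (DCoh.toD (Limits.pullback a b) K)) (kₗ kᵤ : ℤ)
    (hKge : DerivedCategory.IsGE (DCoh.toD (Limits.pullback a b) K) kₗ)
    (hKle : DerivedCategory.IsLE (DCoh.toD (Limits.pullback a b) K) kᵤ)
    (hsupp : ∀ i : ℤ, ClSub.IsProperOver (Limits.pullback.snd a b)
      (CohB1.support (DCoh.HD (DCoh.toD (Limits.pullback a b) K) i)))
    [DCoh.HasLpull (Limits.pullback.fst a b)] [DCoh.HasLTensorCx K]
    [DCoh.HasRpush (Limits.pullback.snd a b)]
    (M : DCoh.D X) (hM : DCoh.IsCohD M) (m n : ℤ) (hMge : DerivedCategory.IsGE M m)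
    (hMle : DerivedCategory.IsLE M n) :
    DCoh.IsCohD ((DCoh.Rpush (Limits.pullback.snd a b)).obj
        ((DCoh.LTensorCx K).obj ((DCoh.Lpull (Limits.pullback.fst a b)).obj M))) ∧
      ∃ m' n' : ℤ, DerivedCategory.IsGE ((DCoh.Rpush (Limits.pullback.snd a b)).obj
        ((DCoh.LTensorCx K).obj ((DCoh.Lpull (Limits.pullback.fst a b)).obj M))) m' ∧
        DerivedCategory.IsLE ((DCoh.Rpush (Limits.pullback.snd a b)).obj
        ((DCoh.LTensorCx K).obj ((DCoh.Lpull (Limits.pullback.fst a b)).obj M))) n' := by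
  haveI : IsLocallyNoetherian X := LocallyOfFiniteType.isLocallyNoetherian a
  haveI : IsLocallyNoetherian Y := LocallyOfFiniteType.isLocallyNoetherian b
  haveI : CompactSpace X := QuasiCompact.compactSpace_of_compactSpace a
  haveI : CompactSpace Y := QuasiCompact.compactSpace_of_compactSpace b
  haveI : IsNoetherian Y := { }
  set p := Limits.pullback.fst a b
  set q := Limits.pullback.snd a b
  haveI : IsLocallyNoetherian (Limits.pullback a b) := LocallyOfFiniteType.isLocallyNoetherian q
  have hperf : DCoh.IsPerfect M := Groth.KTheory.Perf.isPerfect_of_regular hreg M m n hMge hMle hM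
  obtain ⟨lo, hi, hamp⟩ := Groth.DerivedCoh.PCohDescent.exists_flatAmp_of_isPerfect hperf
  obtain ⟨hPc, hPb⟩ := Groth.HTor.FlatCoh.isCohD_Lpull p hM (b := n) fun i hi =>
    DerivedCategory.isZero_of_isLE _ n i hi
  obtain ⟨hz, hs⟩ := Groth.Misc4.FMPerfect.bounded_ltcx _ (Groth.DerivedCoh.KFlat.flatAmp_Lpull p hamp)
    K kₗ kᵤ hKge hKle
  obtain ⟨hT, -⟩ := Groth.IntMult.CohDTensor.isCohD_LTensorCx K hPc (a := n) hPb hKcoh (b := kᵤ)
    fun i hi => DerivedCategory.isZero_of_isLE _ kᵤ i hi
  set Z := (DCoh.LTensorCx K).obj ((DCoh.Lpull p).obj M)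
  haveI : Z.IsGE (lo + kₗ) := (DerivedCategory.isGE_iff _ _).2 fun i h => hz i (.inl h)
  haveI : Z.IsLE (hi + kᵤ) := (DerivedCategory.isLE_iff _ _).2 fun i h => hz i (.inr h)
  have hU : ClSub.IsProperOver q
      (Set.iUnion fun j : {j : ℤ // j ∈ Set.Icc kₗ kᵤ} =>
        CohB1.support (DCoh.HD (DCoh.toD _ K) j.1)) :=
    Groth.Agent.S0791.result q _ _ fun j => hsupp j.1
  have hsub : (⋃ j : ℤ, CohB1.support (DCoh.HD (DCoh.toD _ K) j)) ⊆
      Set.iUnion fun j : {j : ℤ // j ∈ Set.Icc kₗ kᵤ} =>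
        CohB1.support (DCoh.HD (DCoh.toD _ K) j.1) := by
    refine Set.iUnion_subset fun j x hx => ?_
    by_cases hj : j ∈ Set.Icc kₗ kᵤ
    · exact Set.mem_iUnion.2 ⟨⟨j, hj⟩, hx⟩
    · refine absurd hx ((Groth.CohTwo.notMem_support_iff _ x).2
        (AddCommGrpCat.subsingleton_of_isZero ((Groth.QCohMod.stalk x).map_isZero ?_)))
      simp only [Set.mem_Icc, not_and_or, not_le] at hj
      rcases hj with hj | hj
      · exact DerivedCategory.isZero_of_isGE _ kₗ j hj
      · exact DerivedCategory.isZero_of_isLE _ kᵤ j hj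
  obtain ⟨h1, n', h2⟩ := Groth.DerivedCoh.PerfPush.rpush_bounded q Z (lo + kₗ) (hi + kᵤ) fun i =>
    ⟨hT i, Groth.CohDev.isProperOver_mono q hU (Groth.CohC3.isClosed_support_of_isCoh _ (hT i))
      ((hs i).trans hsub)⟩
  exact ⟨h1, lo + kₗ, n', Groth.DerivedCoh.PerfPush.isGE_Rpush q Z (lo + kₗ), h2⟩

end Groth.Agent.S2232
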