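import Groth.Statements.S2234
import Groth.Agent.FrobLCI.NLFlat.Amp
import Groth.Agent.S2189
import Groth.Agent.CI.Locus
import Groth.Agent.Syntomic.Main
import Groth.Agent.Syntomic.CIField
import Groth.Agent.Syntomic.CotangentProj
import Groth.Agent.KoszulLCI.RegularTorDim
import Mathlib.RingTheory.RegularLocalRing.Polynomial
import Mathlib.RingTheory.TensorProduct.MvPolynomial

set_option autoImplicit false
universe u
open LCI
open scoped TensorProduct
attribute [local instance] HasDerivedCategory.standard

namespace Groth.Agent.S2234

open Groth.FrobLCI.NLFlat RingTheory.Sequence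

variable {A B : Type u} [CommRing A] [CommRing B] [Algebra A B]

/-- The conormal module for the generators given by a surjection. -/
theorem flat_cotangent_of_surjection {n : ℕ} (φ : MvPolynomial (Fin n) A →ₐ[A] B) (hφ : Function.Surjective φ) :
    Module.Flat B (Algebra.Generators.self A B).toExtension.Cotangent ↔
      Module.Flat (MvPolynomial (Fin n) A ⧸ RingHom.ker φ.toRingHom) (RingHom.ker φ.toRingHom).Cotangent := by
  have hφ' : MvPolynomial.aeval (fun i => φ (MvPolynomial.X i)) = φ := (MvPolynomial.aeval_unique φ).symm
  let G : Algebra.Generators A B (Fin n) := Algebra.Generators.ofSurjective (fun i => φ (MvPolynomial.X i))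
    (by rw [hφ']; exact hφ)
  have hker : G.toExtension.ker = RingHom.ker φ.toRingHom :=
    Ideal.ext fun x => Iff.of_eq (congrArg (· = 0) ((G.algebraMap_apply x).trans (AlgHom.congr_fun hφ' x)))
  constructor
  · intro h
    have h1 : Module.Flat B G.toExtension.Cotangent := flat_cotangent_of_hom _ _
      (Algebra.Generators.defaultHom G (Algebra.Generators.self A B)).toExtensionHom
      (Algebra.Generators.defaultHom (Algebra.Generators.self A B) G).toExtensionHom
    have h2 := (flat_cotangent_iff G.toExtension).mp h1
    exact hker ▸ h2
  · intro h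
    have h1 : Module.Flat B G.toExtension.Cotangent := (flat_cotangent_iff G.toExtension).mpr (hker.symm ▸ h)
    exact flat_cotangent_of_hom _ _
      (Algebra.Generators.defaultHom (Algebra.Generators.self A B) G).toExtensionHom
      (Algebra.Generators.defaultHom G (Algebra.Generators.self A B)).toExtensionHom

/-- The fibres of a flat algebra with flat conormal module are complete intersections. -/
theorem isLCIOver_fiber [Module.Flat A B] {n : ℕ} (φ : MvPolynomial (Fin n) A →ₐ[A] B)
    (hφ : Function.Surjective φ)
    [Module.Flat (MvPolynomial (Fin n) A ⧸ RingHom.ker φ.toRingHom) (RingHom.ker φ.toRingHom).Cotangent]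
    (p : Ideal A) [p.IsPrime] : Synt.IsLCIOver p.ResidueField (p.Fiber B) := by
  let κ := p.ResidueField
  set I := RingHom.ker φ.toRingHom
  have : Module.Flat A (MvPolynomial (Fin n) A ⧸ I) :=
    Module.Flat.of_linearEquiv (Ideal.quotientKerAlgEquivOfSurjective hφ).toLinearEquiv
  let P' := MvPolynomial (Fin n) A ⊗[A] κ
  let e : P' ≃+* MvPolynomial (Fin n) κ :=
    (Algebra.TensorProduct.comm A (MvPolynomial (Fin n) A) κ).toRingEquiv.trans
      (MvPolynomial.algebraTensorAlgEquiv A κ).toRingEquiv
  have hreg : IsRegularRing P' := IsRegularRing.of_ringEquiv e.symm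
  set J := I.map (algebraMap (MvPolynomial (Fin n) A) P') with hJ
  have hflat := flat_cotangent_baseChange (A := A) I κ
  have : Module.Finite P' J.Cotangent := Module.Finite.of_surjective _ J.toCotangent_surjective
  have : Module.Finite (P' ⧸ J) J.Cotangent := Module.Finite.of_restrictScalars_finite P' _ _
  have : Module.FinitePresentation (P' ⧸ J) J.Cotangent := Module.finitePresentation_of_finite _ _
  have : Module.Projective (P' ⧸ J) J.Cotangent := @Module.Flat.projective_of_finitePresentation (P' ⧸ J) J.Cotangent _ _ _ _ _
  have hdim : ringKrullDim P' ≤ (n : WithBot ℕ∞) := by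
    rw [ringKrullDim_eq_of_ringEquiv e, MvPolynomial.ringKrullDim_of_isNoetherianRing,
      ringKrullDim_eq_zero_of_field, zero_add, Nat.card_eq_fintype_card, Fintype.card_fin]
  have hpd : CategoryTheory.HasProjectiveDimensionLT (ModuleCat.of P' J) (n + 1) :=
    Groth.KoszulLCI.pdLT_of_isRegularRing hdim _
  let π : P' →+* p.Fiber B :=
    (Algebra.TensorProduct.comm A B κ).toRingEquiv.toRingHom.comp
      (Algebra.TensorProduct.map φ (AlgHom.id A κ)).toRingHom
  have hπ : Function.Surjective π :=
    (Algebra.TensorProduct.comm A B κ).surjective.comp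
      (Algebra.TensorProduct.map_surjective φ (AlgHom.id A κ) hφ Function.surjective_id)
  have hker : RingHom.ker π = J := by
    rw [RingHom.ker_equiv_comp]
    exact Algebra.TensorProduct.rTensor_ker φ hφ
  have : Algebra.FiniteType A B := Algebra.FiniteType.of_surjective φ hφ
  refine Groth.Syntomic.isLCIOver_iff_isCompleteIntersection.mpr fun Q _ => ?_
  let q := Q.comap π
  have hJq : J ≤ q := hker ▸ Ideal.ker_le_comap π
  obtain ⟨g, hg, rs, hrs, hrsJ⟩ := Groth.Agent.S2189.result J (n + 1) hpd q hJq
  have hu : IsUnit (algebraMap P' (Localization.AtPrime q) g) :=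
    IsLocalization.map_units (Localization.AtPrime q) (⟨g, hg⟩ : q.primeCompl)
  let θ : Localization.Away g →+* Localization.AtPrime q := IsLocalization.Away.lift g hu
  have hθ : θ.comp (algebraMap P' _) = algebraMap P' _ := IsLocalization.Away.lift_comp g hu
  let _ := θ.toAlgebra
  have : IsScalarTower P' (Localization.Away g) (Localization.AtPrime q) := .of_algebraMap_eq' hθ.symm
  have : Module.Flat P' (Localization.AtPrime q) := IsLocalization.flat _ q.primeCompl
  have : Module.Flat (Localization.Away g) (Localization.AtPrime q) :=
    (Module.flat_iff_of_isLocalization (R := P') (Localization.Away g) (Submonoid.powers g) _).mpr inferInstance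
  refine (Groth.CI.isCompleteIntersection_atPrime_iff π hπ Q).mpr ⟨rs.map θ, ?_,
    (IsLocalRing.isRegular_iff_isWeaklyRegular_of_subset_maximalIdeal fun x hx => ?_).mpr
      hrs.toIsWeaklyRegular.of_flat⟩
  · rw [hker, ← Ideal.map_ofList, hrsJ, Ideal.map_map, hθ]
  · obtain ⟨y, hy, rfl⟩ := List.mem_map.mp hx
    have h1 : θ y ∈ (J.map (algebraMap P' (Localization.Away g))).map θ :=
      Ideal.mem_map_of_mem θ (hrsJ ▸ Ideal.subset_span hy)
    rw [Ideal.map_map, hθ] at h1
    exact ((Ideal.map_mono hJq).trans Localization.AtPrime.map_eq_maximalIdeal.le) h1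

/-- Equivalence of (1) and (4): take a ring map A -> B that is flat and of finite presentation. The
naive cotangent complex NL_{B/A} has tor-amplitude in [-1, 0] (it is isomorphic in D(B) to a
two-term complex of flat modules in those degrees) if and only if A -> B is a local complete
intersection homomorphism (some presentation has Koszul-regular kernel ideal). -/
theorem result {A B : Type u} [CommRing A] [CommRing B] [Algebra A B]
    [Module.Flat A B] [Algebra.FinitePresentation A B] :
    DRing.HasTorAmplitudeIn B (-1) 0 (LCI.NL A B) ↔ LCI.IsLCI A B := by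
  have : Module.Flat B (ModuleCat.of B (Algebra.Generators.self A B).toExtension.CotangentSpace) :=
    flat_cotangentSpace (Algebra.Generators.self A B)
  constructor
  · intro h
    have hC : Module.Flat B (Algebra.Generators.self A B).toExtension.Cotangent := flat_of_torAmp _ h
    obtain ⟨n, φ, hφ, -⟩ := Algebra.FinitePresentation.out (R := A) (A := B)
    have := (flat_cotangent_of_surjection φ hφ).mp hC
    exact ((Groth.Syntomic.isSyntomic_iff (R := A) (S := B)).mp
      ⟨inferInstance, inferInstance, fun p => isLCIOver_fiber φ hφ p.asIdeal⟩).2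
  · rintro ⟨-, n, φ, hφ, hreg⟩
    obtain ⟨_, _⟩ := Groth.Syntomic.finite_projective_cotangent _ hreg
    have hC : Module.Flat B (Algebra.Generators.self A B).toExtension.Cotangent :=
      (flat_cotangent_of_surjection φ hφ).mpr inferInstance
    have : Module.Flat B (ModuleCat.of B (Algebra.Generators.self A B).toExtension.Cotangent) := hC
    exact torAmp_double _

end Groth.Agent.S2234
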