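import Groth.Statements.S2235
import Groth.Agent.Calg5.KoszulColon
import Groth.Agent.KoszulReg.Basic

set_option autoImplicit false
universe u
open TensorProduct
open Disc

namespace Groth.Agent.S2235

/-- Let A -> P be a ring map, f_1, ..., f_n a Koszul-regular sequence in P with B = P/(f_1, ..., f_n)
flat over A, and g_1, ..., g_n a Koszul-regular sequence in P tensor_A B generating the kernel of
the multiplication map P tensor_A B -> B. Write f_i tensor 1 = sum_j c_ij g_j. Then the annihilator
of the kernel of B tensor_A B -> B is the principal ideal generated by the image of det(c_ij). -/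
theorem result {A P : Type u} [CommRing A] [CommRing P] [Algebra A P]
    {n : ℕ} (f : Fin n → P) (hf : LCI.IsKoszulRegularSeq P (List.ofFn f))
    [Module.Flat A (P ⧸ Ideal.span (Set.range f))]
    (g : Fin n → P ⊗[A] (P ⧸ Ideal.span (Set.range f)))
    (hg : LCI.IsKoszulRegularSeq (P ⊗[A] (P ⧸ Ideal.span (Set.range f))) (List.ofFn g))
    (hgker : Ideal.span (Set.range g) = RingHom.ker (Algebra.TensorProduct.productMap
      (Ideal.Quotient.mkₐ A (Ideal.span (Set.range f))) (AlgHom.id A (P ⧸ Ideal.span (Set.range f)))))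
    (c : Matrix (Fin n) (Fin n) (P ⊗[A] (P ⧸ Ideal.span (Set.range f))))
    (hc : ∀ i, f i ⊗ₜ[A] (1 : P ⧸ Ideal.span (Set.range f)) = ∑ j, c i j * g j) :
    Submodule.annihilator (RingHom.ker
        (Algebra.TensorProduct.lmul' (S := P ⧸ Ideal.span (Set.range f)) A)) =
      Ideal.span {Algebra.TensorProduct.map (Ideal.Quotient.mkₐ A (Ideal.span (Set.range f)))
        (AlgHom.id A (P ⧸ Ideal.span (Set.range f))) (Matrix.det c)} := by
  have hsurj : Function.Surjective (Algebra.TensorProduct.map (Ideal.Quotient.mkₐ A (Ideal.span (Set.range f))) (AlgHom.id A (P ⧸ (Ideal.span (Set.range f))))) :=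
    Algebra.TensorProduct.map_surjective _ _ (Ideal.Quotient.mkₐ_surjective A (Ideal.span (Set.range f))) Function.surjective_id
  have hkerπ : RingHom.ker (Algebra.TensorProduct.map (Ideal.Quotient.mkₐ A (Ideal.span (Set.range f))) (AlgHom.id A (P ⧸ (Ideal.span (Set.range f))))) =
      Ideal.span (Set.range fun i => f i ⊗ₜ[A] (1 : P ⧸ (Ideal.span (Set.range f)))) := by
    rw [Algebra.TensorProduct.map_ker _ _ (Ideal.Quotient.mkₐ_surjective A (Ideal.span (Set.range f))) Function.surjective_id]
    have h1 : RingHom.ker (Ideal.Quotient.mkₐ A (Ideal.span (Set.range f))) = (Ideal.span (Set.range f)) := Ideal.Quotient.mkₐ_ker A (Ideal.span (Set.range f))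
    have h2 : RingHom.ker (AlgHom.id A (P ⧸ (Ideal.span (Set.range f)))) = ⊥ :=
      (RingHom.injective_iff_ker_eq_bot _).mp Function.injective_id
    rw [h1, h2, Ideal.map_bot, sup_bot_eq, Ideal.map_span, ← Set.range_comp]
    rfl
  have hflat : (algebraMap P (P ⊗[A] (P ⧸ (Ideal.span (Set.range f))))).Flat := RingHom.flat_algebraMap_iff.mpr inferInstance
  have hf' : LCI.IsKoszulRegularSeq (P ⊗[A] (P ⧸ (Ideal.span (Set.range f)))) (List.ofFn fun i => f i ⊗ₜ[A] (1 : P ⧸ (Ideal.span (Set.range f)))) := by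
    have h := Groth.KoszulReg.isKoszulRegularSeq_map _ hflat _ hf
    rw [List.map_ofFn] at h
    exact h
  set π := Algebra.TensorProduct.map (Ideal.Quotient.mkₐ A (Ideal.span (Set.range f))) (AlgHom.id A (P ⧸ (Ideal.span (Set.range f)))) with hπ
  have hcomp : Algebra.TensorProduct.productMap (Ideal.Quotient.mkₐ A (Ideal.span (Set.range f))) (AlgHom.id A (P ⧸ (Ideal.span (Set.range f)))) =
      (Algebra.TensorProduct.lmul' (S := P ⧸ (Ideal.span (Set.range f))) A).comp π := by
    ext x <;> simp [hπ]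
  have hJ : RingHom.ker (Algebra.TensorProduct.lmul' (S := P ⧸ (Ideal.span (Set.range f))) A) =
      Ideal.span (π '' Set.range g) := by
    rw [← Ideal.map_span π (Set.range g), hgker, hcomp]
    ext z
    constructor
    · intro hz
      obtain ⟨y, rfl⟩ := hsurj z
      exact Ideal.mem_map_of_mem π (by rw [RingHom.mem_ker, AlgHom.comp_apply]; exact hz)
    · refine fun hz => Ideal.map_le_iff_le_comap.mpr (fun y hy => ?_) hz
      rw [RingHom.mem_ker, AlgHom.comp_apply] at hy
      exact hy
  refine le_antisymm (fun z hz => ?_) ?_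
  · obtain ⟨x, rfl⟩ := hsurj z
    have hx : ∀ j, x * g j ∈ Ideal.span (Set.range fun i => f i ⊗ₜ[A] (1 : P ⧸ (Ideal.span (Set.range f)))) := fun j => by
      rw [← hkerπ, RingHom.mem_ker, map_mul]
      exact Submodule.mem_annihilator.mp hz _
        (hJ ▸ Ideal.subset_span ⟨g j, Set.mem_range_self j, rfl⟩)
    obtain ⟨y, hy, w, hw, rfl⟩ := Submodule.mem_sup.mp
      (Groth.Calg5.KoszulColon.mem_of_forall_mul_mem c hc hf' hx)
    rw [← hkerπ, RingHom.mem_ker] at hy
    rw [map_add, hy, zero_add]
    obtain ⟨a, rfl⟩ := Ideal.mem_span_singleton'.mp hw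
    exact Ideal.mem_span_singleton'.mpr ⟨π a, (map_mul π a c.det).symm⟩
  · rw [Ideal.span_le, Set.singleton_subset_iff, SetLike.mem_coe, hJ]
    refine (Submodule.mem_annihilator_span _ _).mpr ?_
    rintro ⟨_, _, ⟨j, rfl⟩, rfl⟩
    rw [smul_eq_mul, ← map_mul, ← RingHom.mem_ker, hkerπ]
    exact Groth.Calg5.KoszulColon.det_mul_mem c hc j

end Groth.Agent.S2235
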