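import Groth.Statements.S2236
import Groth.Agent.S2234
import Groth.Agent.FrobLCI.Diag.SmoothLocal
import Groth.Agent.KoszulLCI.TorPolynomial
-- import your own Groth.Agent.* helpers here

set_option autoImplicit false
universe u
attribute [local instance] HasDerivedCategory.standard
open LCI
attribute [local instance] HasDerivedCategory.standard

namespace Groth.Agent.S2236

/-- Equivalence of (1) and (3): let A be a Noetherian ring and B an A-algebra of finite type which has
finite Tor-dimension as an A-module (so that A -> B is a perfect ring map). Then NL_{B/A} has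
tor-amplitude in [-1, 0] if and only if A -> B is a local complete intersection homomorphism (some
presentation has Koszul-regular kernel ideal). -/
theorem result {A B : Type u} [CommRing A] [CommRing B]
    [Algebra A B] [IsNoetherianRing A] [Algebra.FiniteType A B] (hB : DRing.HasFiniteTorDim A B) :
    DRing.HasTorAmplitudeIn B (-1) 0 (LCI.NL A B) ↔ LCI.IsLCI A B := by
  have : Module.Flat B (ModuleCat.of B (Algebra.Generators.self A B).toExtension.CotangentSpace) :=
    Groth.FrobLCI.NLFlat.flat_cotangentSpace (Algebra.Generators.self A B)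
  constructor
  · intro h
    have hC : Module.Flat B (Algebra.Generators.self A B).toExtension.Cotangent :=
      Groth.FrobLCI.NLFlat.flat_of_torAmp _ h
    obtain ⟨n, φ, hφ⟩ := Algebra.FiniteType.iff_quotient_mvPolynomial''.mp ‹Algebra.FiniteType A B›
    have := (Groth.Agent.S2234.flat_cotangent_of_surjection φ hφ).mp hC
    set I := RingHom.ker φ.toRingHom
    let P := MvPolynomial (Fin n) A
    have : Module.Finite P I.Cotangent := Module.Finite.of_surjective _ I.toCotangent_surjective
    have : Module.Finite (P ⧸ I) I.Cotangent := Module.Finite.of_restrictScalars_finite P _ _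
    have : Module.FinitePresentation (P ⧸ I) I.Cotangent := Module.finitePresentation_of_finite _ _
    have : Module.Projective (P ⧸ I) I.Cotangent :=
      @Module.Flat.projective_of_finitePresentation (P ⧸ I) I.Cotangent _ _ _ _ _
    let _ := φ.toRingHom.toAlgebra
    have : IsScalarTower A P B := IsScalarTower.of_algebraMap_eq fun a => (φ.commutes a).symm
    obtain ⟨d, hd⟩ := Groth.KoszulLCI.hasFiniteTorDim_mvPolynomial (B := A) (m := n) B hB
    have : Module.Finite P B := Module.Finite.of_surjective (Algebra.linearMap P B) hφ
    have h1 := Groth.Ega4Algebra1.PdLT.mono (Nat.le_succ (d + 1))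
      (Groth.FrobLCI.Diag.pdLT_of_hasTorDimLE P d B hd)
    have h2 : Groth.Ega4Algebra1.PdLT P (LinearMap.ker (Algebra.linearMap P B)) (d + 1) :=
      (Groth.Ega4Algebra1.PdLT.ker_iff _ hφ d).mp h1
    have hpd : Groth.Ega4Algebra1.PdLT P I (d + 1) :=
      Groth.Ega4Algebra1.PdLT.of_equiv (LinearEquiv.ofEq _ _ rfl) h2
    refine ⟨inferInstance, n, φ, hφ, fun q hq => ?_⟩
    obtain ⟨g, hg, rs, hrs, hI⟩ := Groth.Agent.S2189.result I (d + 1) hpd q.asIdeal hq
    exact ⟨g, hg, rs, Groth.KoszulLCI.isKoszulRegularSeq_of_isWeaklyRegular hrs.toIsWeaklyRegular, hI.symm⟩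
  · rintro ⟨-, n, φ, hφ, hreg⟩
    obtain ⟨_, _⟩ := Groth.Syntomic.finite_projective_cotangent _ hreg
    have hC : Module.Flat B (Algebra.Generators.self A B).toExtension.Cotangent :=
      (Groth.Agent.S2234.flat_cotangent_of_surjection φ hφ).mpr inferInstance
    have : Module.Flat B (ModuleCat.of B (Algebra.Generators.self A B).toExtension.Cotangent) := hC
    exact Groth.FrobLCI.NLFlat.torAmp_double _

end Groth.Agent.S2236
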