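import Groth.Statements.S2237
import Groth.Agent.Syntomic.Main

set_option autoImplicit false
universe u
attribute [local instance] HasDerivedCategory.standard
open LCI

namespace Groth.Agent.S2237

/-- Implication (2) to (5), affine form: let A -> B be flat, quasi-finite and a local complete
intersection homomorphism (finite type with a Koszul-regular presentation). Then for every prime q
of B there are g in B outside q, a natural number n and polynomials f_1, ..., f_n in A[x_1, ...,
x_n] such that B_g is isomorphic as an A-algebra to A[x_1, ..., x_n]/(f_1, ..., f_n). -/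
theorem result {A B : Type u} [CommRing A]
    [CommRing B] [Algebra A B] [Module.Flat A B] [Algebra.QuasiFinite A B] (hlci : LCI.IsLCI A B)
    (q : Ideal B) [q.IsPrime] :
    ∃ g : B, g ∉ q ∧ ∃ (n : ℕ) (f : Fin n → MvPolynomial (Fin n) A),
      Nonempty (Localization.Away g ≃ₐ[A]
        (MvPolynomial (Fin n) A ⧸ Ideal.span (Set.range f))) := by
  obtain ⟨t, ht, n, c, F, hF, ⟨e⟩⟩ := Groth.Syntomic.isLocRelGCI_of_isSyntomic
    (Groth.Syntomic.isSyntomic_iff.mpr ⟨inferInstance, hlci⟩) q inferInstance
  let p := q.comap (algebraMap A B)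
  have : Algebra.QuasiFinite A (Localization.Away t) :=
    Algebra.QuasiFinite.of_isLocalization (R := A) (T := Localization.Away t) (Submonoid.powers t)
  have : Module.Finite p.ResidueField (p.Fiber (Localization.Away t)) := inferInstance
  have hne : Nontrivial (p.Fiber (Localization.Away t)) := by
    have hdisj : Disjoint (Submonoid.powers t : Set B) q :=
      Set.disjoint_left.mpr fun x ⟨k, hk⟩ hxq => ht (‹q.IsPrime›.mem_of_pow_mem k (by subst hk; exact hxq))
    let Q : PrimeSpectrum (Localization.Away t) := ⟨q.map (algebraMap B _),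
      IsLocalization.isPrime_of_isPrime_disjoint _ _ q inferInstance hdisj⟩
    let P := PrimeSpectrum.preimageEquivFiber A (Localization.Away t) ⟨p, inferInstance⟩ ⟨Q, by
      refine PrimeSpectrum.ext ?_
      change (q.map (algebraMap B (Localization.Away t))).comap (algebraMap A (Localization.Away t)) = p
      rw [IsScalarTower.algebraMap_eq A B (Localization.Away t), ← Ideal.comap_comap]
      exact congrArg (Ideal.comap (algebraMap A B))
        (IsLocalization.under_map_of_isPrime_disjoint _ _ ‹q.IsPrime› hdisj)⟩
    exact ⟨⟨0, 1, fun h => P.isPrime.ne_top ((Ideal.eq_top_iff_one _).mpr (h ▸ zero_mem _))⟩⟩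
  let E := Algebra.TensorProduct.congr (AlgEquiv.refl (R := p.ResidueField) (A₁ := p.ResidueField)) e
  obtain ⟨hcn, hdim⟩ := hF ⟨p, inferInstance⟩ E.toEquiv.nontrivial
  have : IsArtinianRing (p.Fiber (Localization.Away t)) := IsArtinianRing.of_finite p.ResidueField _
  have h0 : ringKrullDim (p.Fiber (Localization.Away t)) = 0 :=
    ringKrullDimZero_iff_ringKrullDim_eq_zero.mp inferInstance
  rw [ringKrullDim_eq_of_ringEquiv E.toRingEquiv, h0] at hdim
  have hnc : n - c = 0 := by exact_mod_cast hdim.symm
  obtain rfl : c = n := by omega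
  exact ⟨t, ht, c, F, ⟨e.symm⟩⟩

end Groth.Agent.S2237
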