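import Groth.Statements.S2329
import Groth.Agent.Ega2Proj.TwistExtend
import Groth.Agent.Ega2Proj.RelAmple
import Groth.Agent.S2328

set_option autoImplicit false
universe u
open CategoryTheory CategoryTheory.Limits AlgebraicGeometry
open EGA2

namespace Groth.Agent.S2329

/-- Let X be a quasi-compact separated scheme, L an ample invertible module and L' an invertible module.
Then there is n₀ > 0 such that L^{⊗n} ⊗ L' is ample and globally generated for every n ≥ n₀. -/
theorem result (X : Scheme.{u}) [CompactSpace X] [X.IsSeparated] (L L' : X.Modules) (hL : CohB1.IsAmple L) (hL' : PicF.IsInvertible L') :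
    ∃ n₀ : ℕ, 0 < n₀ ∧ ∀ n, n₀ ≤ n →
      CohB1.IsAmple (CohB1.tensorMod (CohB1.tensorPow L n) L') ∧ Curv2.IsGloballyGenerated (CohB1.tensorMod (CohB1.tensorPow L n) L') := by
  open Groth.PicAux in
  have := isQCoh_of_isInvertible hL'
  obtain ⟨n₀, h⟩ := Groth.Ega2Proj.exists_spans_twist hL L' (Groth.Ega2Proj.isFT_of_isInvertible hL')
  refine ⟨n₀ + 1, Nat.succ_pos _, fun n hn => ?_⟩
  obtain ⟨b, -⟩ := Groth.PicAux.exists_braiding L' (CohB1.tensorPow L n)
  refine ⟨?_, ((h n (by omega)).of_iso b).isGloballyGenerated⟩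
  obtain ⟨k, rfl⟩ : ∃ k, n = k + 1 := ⟨n - 1, by omega⟩
  open Groth.PicAux in
  have hG := isInvertible_tensorMod hL' (isInvertible_tensorPow hL.1 k)
  have hspan := h k (by omega)
  open Groth.PicAux in
  obtain ⟨a, -⟩ := exists_associator (CohB1.tensorPow L k) L L'
  open Groth.PicAux in
  obtain ⟨c, -⟩ := exists_braiding L L'
  open Groth.PicAux in
  obtain ⟨a', -⟩ := exists_associator (CohB1.tensorPow L k) L' L
  open Groth.PicAux in
  obtain ⟨c', -⟩ := exists_braiding (CohB1.tensorPow L k) L'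
  open Groth.PicAux in
  obtain ⟨c'', -⟩ := exists_braiding (CohB1.tensorMod L' (CohB1.tensorPow L k)) L
  refine Groth.Ega2Proj.isAmple_of_iso ?_ (Groth.Agent.S2328.result X L
    (CohB1.tensorMod L' (CohB1.tensorPow L k)) hL hG fun x => ?_)
  · open Groth.PicAux in
    exact c''.symm ≪≫ PicGrp.tensorModIso c'.symm (Iso.refl _) ≪≫ a' ≪≫
      PicGrp.tensorModIso (Iso.refl _) c.symm ≪≫ a.symm
  · obtain ⟨t, ht⟩ := hspan.exists_mem_gloc hG x
    obtain ⟨e⟩ := Groth.PicAux.tensorPow_one (CohB1.tensorMod L' (CohB1.tensorPow L k))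
    exact ⟨0, Groth.PicAux.homOfSection (e.inv.app ⊤ t),
      (Groth.PropsBasic.Ample.gloc_map e.inv t).ge ht⟩

end Groth.Agent.S2329
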