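import Groth.Statements.S2330
import Groth.Agent.Chow.VeryAmplePn

set_option autoImplicit false
universe u
open CategoryTheory CategoryTheory.Limits AlgebraicGeometry
open EGA2

namespace Groth.Agent.S2330

/-- Let Y be affine, q : X → Y separated and of finite type, and L an invertible O_X-module. Then L is
ample if and only if some L^{⊗n} (n > 0) is very ample relative to q, in the sense that it is the
pullback of O(1) along an immersion of X into some P^m_Y over Y; moreover, if L is ample this holds
for all n beyond some n₀. ('Very ample relative to q' in general means this with P(E) for a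
quasi-coherent O_Y-module E in place of P^m_Y; for q of finite type over an affine base the two
agree, and the P^m_Y form is the one used here.) -/
theorem result {X Y : Scheme.{u}} [IsAffine Y] (q : X ⟶ Y) [IsSeparated q]
    [QuasiCompact q] [LocallyOfFiniteType q] (L : X.Modules) (hL : PicF.IsInvertible L) :
    (CohB1.IsAmple L ↔ ∃ n : ℕ, 0 < n ∧ RelAmple.IsRelVeryAmplePn q (CohB1.tensorPow L n)) ∧
      (CohB1.IsAmple L → ∃ n₀ : ℕ, ∀ n, n₀ ≤ n → RelAmple.IsRelVeryAmplePn q (CohB1.tensorPow L n)) := by
    haveI : CompactSpace X := QuasiCompact.compactSpace_of_compactSpace q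
    refine ⟨⟨fun h => ?_, fun ⟨n, hn, m, i, hi, _, ⟨e⟩⟩ => ?_⟩, fun h => Groth.Chow.exists_isRelVeryAmplePn q h⟩
    · obtain ⟨n₀, hn₀⟩ := Groth.Chow.exists_isRelVeryAmplePn q h
      exact ⟨n₀ + 1, Nat.succ_pos _, hn₀ _ (Nat.le_succ _)⟩
    · exact Groth.Chow.isAmple_of_tensorPow hL hn (Groth.Chow.isAmple_of_immersion q _ m i e)

end Groth.Agent.S2330
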