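import Groth.Statements.S2333
import Groth.Agent.Ega2Proj.RelAmple

set_option autoImplicit false
universe u
open CategoryTheory CategoryTheory.Limits AlgebraicGeometry
open EGA2

namespace Groth.Agent.S2333

/-- Let f : X → Y and g : Y → Z be morphisms of schemes with f quasi-compact, and L an O_X-module which
is ample relative to the composite g ∘ f. Then L is ample relative to f. (No separatedness
hypothesis on g is imposed.) -/
theorem result {X Y Z : Scheme.{u}} (f : X ⟶ Y) (g : Y ⟶ Z) [QuasiCompact f]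
    (L : X.Modules) (hL : RelAmple.IsRelAmple (f ≫ g) L) : RelAmple.IsRelAmple f L := by
  refine Groth.Ega2Proj.isRelAmple_of_local f fun x => ?_
  obtain ⟨V, hV, hxV, -⟩ := exists_isAffineOpen_mem_and_subset (x := g (f x)) (U := (⊤ : Z.Opens)) trivial
  exact ⟨g ⁻¹ᵁ V, _, ((f ≫ g) ⁻¹ᵁ V).ι, inferInstance, hxV, fun y hy => ⟨⟨y, hy⟩, rfl⟩, hL.2 ⟨V, hV⟩⟩

end Groth.Agent.S2333
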