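import Groth.Statements.S2335
import Groth.Agent.Limits.DVRCriteria

set_option autoImplicit false
universe u
open CategoryTheory CategoryTheory.Limits AlgebraicGeometry
open EGA2

namespace Groth.Agent.S2335

/-- Let Y be locally Noetherian and f : X → Y of finite type. Then f is proper if and only if for every
discrete valuation ring A with fraction field K and every commutative square Spec K → X, Spec A → Y,
there is exactly one morphism Spec A → X making both triangles commute. -/
theorem result {X Y : Scheme.{u}} [IsLocallyNoetherian Y] (f : X ⟶ Y) [LocallyOfFiniteType f] [QuasiCompact f] :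
    IsProper f ↔ ∀ (A : Type u) [CommRing A] [IsDomain A] [IsDiscreteValuationRing A] (x : (Spec (CommRingCat.of (FractionRing A))) ⟶ X) (y : (Spec (CommRingCat.of A)) ⟶ Y),
      x ≫ f = (Spec.map (CommRingCat.ofHom (algebraMap A (FractionRing A)))) ≫ y → ∃! l : (Spec (CommRingCat.of A)) ⟶ X, l ≫ f = y ∧ (Spec.map (CommRingCat.ofHom (algebraMap A (FractionRing A)))) ≫ l = x := by
  constructor
  · intro _ A _ _ _ x y w
    obtain ⟨l, hl₁, hl₂⟩ := Groth.Limits.dvr_lift_of_universallyClosed f A x y w
    exact ⟨l, ⟨hl₁, hl₂⟩, fun l' hl' => Groth.Limits.dvr_lift_unique f A (FractionRing A) l' l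
      (hl'.1.trans hl₁.symm) (hl'.2.trans hl₂.symm)⟩
  · intro H
    have : IsSeparated f := by
      refine Groth.Limits.isSeparated_of_dvr f (𝟙 X) Set.univ
        (fun x => ⟨x, trivial, specializes_rfl⟩) fun A _ _ _ u _ e _ l₁ l₂ hl h₁ h₂ => ?_
      refine (H A (Spec.map e ≫ X.fromSpecResidueField u) (l₁ ≫ f) ?_).unique
        ⟨rfl, h₁.trans (Category.comp_id _)⟩ ⟨hl.symm, h₂.trans (Category.comp_id _)⟩
      rw [← Category.comp_id (Spec.map e ≫ X.fromSpecResidueField u), ← h₁, Category.assoc]
    have : UniversallyClosed f := Groth.Limits.universallyClosed_of_dvr f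
      fun A _ _ _ x y w => (H A x y w).exists
    exact {}

end Groth.Agent.S2335
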