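import Groth.Statements.S2338
import Groth.Agent.FlatMor2.IndQuasiAffine

set_option autoImplicit false
universe u
open CategoryTheory CategoryTheory.Limits AlgebraicGeometry
open EGA2

namespace Groth.Agent.S2338

/-- The composite of two quasi-affine morphisms is quasi-affine. -/
theorem result {X Y Z : Scheme.{u}} (f : X ⟶ Y) (g : Y ⟶ Z) (hf : Mor2.IsQuasiAffine f) (hg : Mor2.IsQuasiAffine g) :
    Mor2.IsQuasiAffine (f ≫ g) := by
  have h := Groth.FlatMor2.isIndQuasiAffineHom_comp
    (Groth.FlatMor2.isIndQuasiAffineHom_of_isQuasiAffineHom hf)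
    (Groth.FlatMor2.isIndQuasiAffineHom_of_isQuasiAffineHom hg)
  haveI := hf.1; haveI := hg.1
  refine ⟨inferInstance, fun V hV => ?_⟩
  exact Groth.FlatMor2.isIndQuasiAffineHom_def.mp h V hV _ le_rfl
    ((f ≫ g).isCompact_preimage hV.isCompact)

end Groth.Agent.S2338
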