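import Groth.Statements.S2341
import Mathlib.AlgebraicGeometry.QuasiAffine

set_option autoImplicit false
universe u
open CategoryTheory CategoryTheory.Limits AlgebraicGeometry
open EGA2

namespace Groth.Agent.S2341

/-- A quasi-compact morphism X → Y whose underlying map is a homeomorphism onto its image (for instance
a closed immersion) is quasi-affine. -/
theorem result {X Y : Scheme.{u}} (f : X ⟶ Y) [QuasiCompact f]
    (hf : Topology.IsEmbedding f.base) : Mor2.IsQuasiAffine f := by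
  refine ⟨inferInstance, fun V hV => ?_⟩
  haveI : IsAffine (V : Scheme.{u}) := hV
  haveI : CompactSpace (f ⁻¹ᵁ V : X.Opens) :=
    isCompact_iff_compactSpace.mp (f.isCompact_preimage hV.isCompact)
  haveI : CompactSpace ((f ⁻¹ᵁ V : X.Opens) : Scheme.{u}) := this
  refine Scheme.IsQuasiAffine.of_forall_exists_mem_basicOpen _ fun x => ?_
  let m := f ∣_ V
  obtain ⟨W, hW, hxW, -⟩ := exists_isAffineOpen_mem_and_subset
    (x := x) (U := (⊤ : ((f ⁻¹ᵁ V : X.Opens) : Scheme.{u}).Opens)) trivial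
  have hm : Topology.IsEmbedding m.base := by
    have h1 : Topology.IsEmbedding (V.ι.base ∘ m.base) := by
      have : V.ι.base ∘ m.base = f.base ∘ (f ⁻¹ᵁ V).ι.base :=
        funext fun z => congrArg (fun k : _ ⟶ Y => k.base z) (morphismRestrict_ι f V)
      rw [this]; exact hf.comp (f ⁻¹ᵁ V).ι.isOpenEmbedding.isEmbedding
    exact h1.of_comp m.base.hom.continuous V.ι.base.hom.continuous
  obtain ⟨O, hO, hWO⟩ := hm.isInducing.isOpen_iff.mp W.2
  have hxO : m.base x ∈ O := by
    have : x ∈ m.base ⁻¹' O := by rw [hWO]; exact hxW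
    exact this
  obtain ⟨_, ⟨_, ⟨s, rfl⟩, rfl⟩, hxs, hsO⟩ := (isBasis_basicOpen (V : Scheme.{u})).exists_subset_of_mem_open hxO hO
  refine ⟨m.appTop s, ?_, ?_⟩
  · rw [← Scheme.preimage_basicOpen_top]
    have hle : m ⁻¹ᵁ ((V : Scheme.{u}).basicOpen s) ≤ W := fun z hz => by
      have : z ∈ m.base ⁻¹' O := hsO hz
      rwa [hWO] at this
    have e : m ⁻¹ᵁ ((V : Scheme.{u}).basicOpen s) =
        ((f ⁻¹ᵁ V : X.Opens) : Scheme.{u}).basicOpen
          ((((f ⁻¹ᵁ V : X.Opens) : Scheme.{u}).presheaf.map (homOfLE (le_top : W ≤ ⊤)).op) (m.appTop s)) := by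
      rw [Scheme.basicOpen_res, ← Scheme.preimage_basicOpen_top, inf_eq_right.mpr hle]
    rw [e]; exact hW.basicOpen _
  · rw [← Scheme.preimage_basicOpen_top]; exact hxs

end Groth.Agent.S2341
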