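import Groth.Statements.S2342
import Groth.Agent.Ega2Proj.ValuationSection

set_option autoImplicit false
universe u
open CategoryTheory CategoryTheory.Limits AlgebraicGeometry
open EGA2

namespace Groth.Agent.S2342

/-- Let A be a valuation ring with Y = Spec A, X an integral separated scheme and f : X → Y a morphism
which is closed as a map of topological spaces, such that the fibre over the generic point of Y
consists of exactly one point x and the induced map from the residue field of the generic point of Y
to that of x is bijective. Then f is an isomorphism. -/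
theorem result (A : Type u) [CommRing A] [IsDomain A] [ValuationRing A]
    (X : Scheme.{u}) [IsIntegral X] [X.IsSeparated] (f : X ⟶ Spec (CommRingCat.of A)) (hf : IsClosedMap f.base)
    (x : X) (hx : f.base ⁻¹' {genericPoint (Spec (CommRingCat.of A))} = {x})
    (hres : Function.Bijective (f.residueFieldMap x).hom) : IsIso f := by
  classical
  haveI : IsSeparated f := inferInstance
  let η := genericPoint (Spec (CommRingCat.of A))
  have hfx : f.base x = η := by
    have : x ∈ f.base ⁻¹' {η} := by rw [hx]; rfl
    exact this
  have hgen : x = genericPoint X := by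
    have h1 : f.base (genericPoint X) ⤳ η := hfx ▸ ((genericPoint_spec X).specializes trivial).map f.base.hom.continuous
    have h2 : η ⤳ f.base (genericPoint X) := (genericPoint_spec _).specializes trivial
    have h3 : genericPoint X ∈ f.base ⁻¹' {η} := (h1.antisymm h2).eq
    rw [hx] at h3
    exact h3.symm
  let q : Spec (CommRingCat.of (FractionRing A)) ⟶ Spec (CommRingCat.of A) :=
    Spec.map (CommRingCat.ofHom (algebraMap A (FractionRing A)))
  have hq : q.base (IsLocalRing.closedPoint (FractionRing A)) = f.base x := by
    rw [hfx]
    refine ((genericPoint_spec _).specializes trivial).antisymm ?_ |>.eq.symm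
    refine (PrimeSpectrum.le_iff_specializes _ _).mp ?_
    intro a ha
    have ha' : algebraMap A (FractionRing A) a ∈ IsLocalRing.maximalIdeal (FractionRing A) := ha
    rw [IsLocalRing.maximalIdeal_eq_bot, Ideal.mem_bot, map_eq_zero_iff _ (IsFractionRing.injective A _)] at ha'
    rw [ha']; exact Ideal.zero_mem _
  haveI : IsIso (f.residueFieldMap x) := (ConcreteCategory.isIso_iff_bijective _).mpr hres
  have hfac : ∃ u : Spec (CommRingCat.of (FractionRing A)) ⟶ Spec ((Spec (CommRingCat.of A)).residueField (f.base x)),
      u ≫ (Spec (CommRingCat.of A)).fromSpecResidueField (f.base x) = q := by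
    have key : ∀ (y : Spec (CommRingCat.of A)), q.base (IsLocalRing.closedPoint (FractionRing A)) = y →
        ∃ u : Spec (CommRingCat.of (FractionRing A)) ⟶ Spec ((Spec (CommRingCat.of A)).residueField y),
          u ≫ (Spec (CommRingCat.of A)).fromSpecResidueField y = q := by
      rintro y rfl
      exact ⟨Spec.map ((Spec (CommRingCat.of A)).descResidueField (Scheme.stalkClosedPointTo q)), by
        rw [Scheme.descResidueField_fromSpecResidueField, Scheme.Spec_stalkClosedPointTo_fromSpecStalk]⟩
    exact key _ hq
  obtain ⟨u, hu⟩ := hfac
  let xK : Spec (CommRingCat.of (FractionRing A)) ⟶ X :=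
    u ≫ Spec.map (inv (f.residueFieldMap x)) ≫ X.fromSpecResidueField x
  have hxK : xK ≫ f = q := by
    rw [Category.assoc, Category.assoc, ← Scheme.Hom.SpecMap_residueFieldMap_fromSpecResidueField,
      ← Spec.map_comp_assoc, IsIso.hom_inv_id, Spec.map_id, Category.id_comp, hu]
  obtain ⟨s, hs1, hs2⟩ := Groth.Ega2Proj.exists_section_of_isClosedMap A (FractionRing A) X f hf xK hxK
  haveI : IsClosedImmersion (s ≫ f) := by rw [hs1]; infer_instance
  haveI : IsClosedImmersion s := IsClosedImmersion.of_comp s f
  have hxr : x ∈ Set.range s.base := by
    refine ⟨q.base (IsLocalRing.closedPoint (FractionRing A)), ?_⟩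
    refine Eq.trans (b := xK.base (IsLocalRing.closedPoint (FractionRing A))) ?_ ?_
    · exact congrArg (fun m : Spec (CommRingCat.of (FractionRing A)) ⟶ X =>
        m.base (IsLocalRing.closedPoint (FractionRing A))) hs2
    · exact Scheme.fromSpecResidueField_apply x _
  haveI : Surjective s := ⟨fun y => by
    have hc : closure ({x} : Set X) ⊆ Set.range s.base :=
      s.isClosedEmbedding.isClosed_range.closure_subset_iff.mpr (Set.singleton_subset_iff.mpr hxr)
    exact hc (by rw [hgen, (genericPoint_spec X).def]; trivial)⟩
  haveI : IsIso s := isIso_of_isClosedImmersion_of_surjective s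
  haveI : IsIso (s ≫ f) := by rw [hs1]; infer_instance
  exact IsIso.of_isIso_comp_left s f

end Groth.Agent.S2342
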