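import Groth.Statements.S2343
import Groth.Agent.Hensel1.QFSplit
import Groth.Agent.Calg6.BranchCount
import Groth.Agent.QCohMod.Affine

set_option autoImplicit false
universe u
open CategoryTheory CategoryTheory.Limits AlgebraicGeometry
open EGA2

namespace Groth.Agent.S2343

/-- Let A be a complete Noetherian local ring, X a separated scheme locally of finite type over Spec A,
and x a point of X over the closed point which is isolated in its fibre. Then the local ring of X at
x is a finite A-module and the canonical morphism Spec O_{X,x} → X is both an open and a closed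
immersion (X is the disjoint sum of Spec O_{X,x} and another open subscheme). -/
theorem result (A : Type u) [CommRing A] [IsLocalRing A] [IsNoetherianRing A]
    [IsAdicComplete (IsLocalRing.maximalIdeal A) A] (X : Scheme.{u}) (f : X ⟶ Spec (CommRingCat.of A)) [LocallyOfFiniteType f] [IsSeparated f]
    (x : X) (hx : f.base x = IsLocalRing.closedPoint A)
    (hisol : IsOpen ((Subtype.val : (f.base ⁻¹' {IsLocalRing.closedPoint A}) → X) ⁻¹' {x})) :
    ((Scheme.ΓSpecIso (CommRingCat.of A)).inv ≫ f.appTop ≫ X.presheaf.germ ⊤ x trivial).hom.Finite ∧ IsOpenImmersion (X.fromSpecStalk x) ∧ IsClosedImmersion (X.fromSpecStalk x) := by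
  classical
  haveI : HenselianLocalRing A := Groth.Calg6.Branch.henselianLocalRing_of_isAdicComplete A
  -- quasi-finite at `x`
  have hqf : f.QuasiFiniteAt x := by
    rw [Scheme.Hom.quasiFiniteAt_iff_isOpen_singleton_asFiber, ← (f.fiberHomeo (f x)).isOpen_image]
    simp only [Set.image_singleton, Scheme.Hom.asFiber, Homeomorph.apply_symm_apply]
    have key : ∀ (y : Spec (CommRingCat.of A)) (hy : f.base x = y),
        IsOpen ((Subtype.val : (f.base ⁻¹' {y}) → X) ⁻¹' {x}) →
          IsOpen ({⟨x, rfl⟩} : Set (f.base ⁻¹' {f.base x})) := by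
      rintro y rfl h
      convert h
      ext z
      simp [Subtype.ext_iff]
    exact key _ hx hisol
  obtain ⟨_, ⟨U, hU, rfl⟩, hxU, -⟩ :=
    X.isBasis_affineOpens.exists_subset_of_mem_open (Set.mem_univ x) isOpen_univ
  have hUT : U ≤ f ⁻¹ᵁ ⊤ := le_top
  let φ : CommRingCat.of A ⟶ Γ(X, U) := (Scheme.ΓSpecIso (CommRingCat.of A)).inv ≫ f.appLE ⊤ U hUT
  algebraize [φ.hom]
  let q : Ideal Γ(X, U) := (hU.primeIdealOf ⟨x, hxU⟩).asIdeal
  haveI : Algebra.QuasiFiniteAt A q := by
    have h0 := hqf.quasiFiniteAt hU (isAffineOpen_top _) hUT hxU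
    letI : Algebra A Γ(Spec (CommRingCat.of A), ⊤) := (Scheme.ΓSpecIso (CommRingCat.of A)).inv.hom.toAlgebra
    haveI : Algebra.QuasiFinite A Γ(Spec (CommRingCat.of A), ⊤) := RingHom.quasiFinite_algebraMap.mp
      (.of_finite (RingHom.Finite.of_surjective _
        (ConcreteCategory.bijective_of_isIso (Scheme.ΓSpecIso (CommRingCat.of A)).inv).2))
    letI : Algebra Γ(Spec (CommRingCat.of A), ⊤) Γ(X, U) := (f.appLE ⊤ U hUT).hom.toAlgebra
    haveI : IsScalarTower A Γ(Spec (CommRingCat.of A), ⊤) Γ(X, U) := .of_algebraMap_eq fun _ => rfl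
    haveI : Algebra.QuasiFinite Γ(Spec (CommRingCat.of A), ⊤) (Localization.AtPrime q) := h0
    exact Algebra.QuasiFinite.trans A Γ(Spec (CommRingCat.of A), ⊤) (Localization.AtPrime q)
  have hfs : Spec.map φ = hU.fromSpec ≫ f := by
    rw [← (isAffineOpen_top _).SpecMap_appLE_fromSpec f hU hUT, IsAffineOpen.fromSpec_top,
      Scheme.isoSpec_Spec_inv, Spec.map_comp]
  haveI : q.LiesOver (IsLocalRing.maximalIdeal A) := by
    refine ⟨?_⟩
    have : (Spec.map φ) (hU.primeIdealOf ⟨x, hxU⟩) = IsLocalRing.closedPoint A := by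
      rw [hfs]
      exact (congrArg f.base (hU.fromSpec_primeIdealOf ⟨x, hxU⟩)).trans hx
    exact congrArg PrimeSpectrum.asIdeal this.symm
  haveI : Algebra.FiniteType A Γ(X, U) :=
    (f.finiteType_appLE (isAffineOpen_top _) hU hUT).comp (RingHom.FiniteType.of_surjective _
      (ConcreteCategory.bijective_of_isIso (Scheme.ΓSpecIso (CommRingCat.of A)).inv).2)
  obtain ⟨g, hgq, hgfin, hgloc⟩ := Groth.Hensel1.exists_idempotent_of_quasiFiniteAt (R := A) q
  -- the local piece
  let U' : X.Opens := X.basicOpen g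
  have hU' : IsAffineOpen U' := hU.basicOpen g
  have hxU' : x ∈ U' := (Groth.QCohMod.mem_basicOpen_iff_notMem_primeIdealOf hU g x hxU).2 hgq
  letI algU : Algebra A Γ(X, U') := ((algebraMap Γ(X, U) Γ(X, U')).comp (algebraMap A Γ(X, U))).toAlgebra
  haveI : IsScalarTower A Γ(X, U) Γ(X, U') := .of_algebraMap_eq fun _ => rfl
  haveI := hU.isLocalization_basicOpen g
  haveI := IsLocalization.Away.quotient_of_isIdempotentElem hgfin.1
  let ε : (Γ(X, U) ⧸ Ideal.span {1 - g}) ≃ₐ[Γ(X, U)] Γ(X, U') :=
    IsLocalization.algEquiv (Submonoid.powers g) _ _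
  haveI : Module.Finite A (Γ(X, U) ⧸ Ideal.span {1 - g}) := hgfin.finite
  haveI : Module.Finite A Γ(X, U') := Module.Finite.equiv (ε.toLinearEquiv.restrictScalars A)
  haveI : IsLocalRing Γ(X, U') := ε.toRingEquiv.isLocalRing
  let q' : Ideal Γ(X, U') := (hU'.primeIdealOf ⟨x, hxU'⟩).asIdeal
  let φ' : CommRingCat.of A ⟶ Γ(X, U') := CommRingCat.ofHom (algebraMap A Γ(X, U'))
  have hfs' : Spec.map φ' = hU'.fromSpec ≫ f := by
    rw [← hU.map_fromSpec hU' (homOfLE (X.basicOpen_le g)).op, Category.assoc, ← hfs, ← Spec.map_comp]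
    rfl
  haveI : q'.LiesOver (IsLocalRing.maximalIdeal A) := by
    refine ⟨?_⟩
    have : (Spec.map φ') (hU'.primeIdealOf ⟨x, hxU'⟩) = IsLocalRing.closedPoint A := by
      rw [hfs']
      exact (congrArg f.base (hU'.fromSpec_primeIdealOf ⟨x, hxU'⟩)).trans hx
    exact congrArg PrimeSpectrum.asIdeal this.symm
  haveI : Algebra.IsIntegral A Γ(X, U') := Algebra.IsIntegral.of_finite A _
  haveI : q'.IsMaximal := Ideal.IsMaximal.of_liesOver_isMaximal q' (IsLocalRing.maximalIdeal A)
  have hbij : Function.Bijective (X.presheaf.germ U' x hxU').hom := by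
    letI := (X.presheaf.germ U' x hxU').hom.toAlgebra
    haveI : IsLocalization.AtPrime (X.presheaf.stalk x) q' := hU'.isLocalization_stalk ⟨x, hxU'⟩
    have hu : q'.primeCompl ≤ IsUnit.submonoid Γ(X, U') := fun z hz => by
      by_contra h
      exact hz ((IsLocalRing.eq_maximalIdeal (I := q') inferInstance).symm ▸ h)
    exact (IsLocalization.atUnits Γ(X, U') q'.primeCompl (S := X.presheaf.stalk x) hu).bijective
  haveI : IsIso (X.presheaf.germ U' x hxU') := (ConcreteCategory.isIso_iff_bijective _).mpr hbij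
  haveI hopen : IsOpenImmersion (X.fromSpecStalk x) := by
    rw [← hU'.fromSpecStalk_eq_fromSpecStalk hxU', IsAffineOpen.fromSpecStalk]
    infer_instance
  have hfinite : ((Scheme.ΓSpecIso (CommRingCat.of A)).inv ≫ f.appTop ≫ X.presheaf.germ ⊤ x trivial).hom.Finite := by
    have h1 : φ'.hom.Finite := RingHom.finite_algebraMap.mpr ‹_›
    have h2 : (X.presheaf.germ U' x hxU').hom.Finite := RingHom.Finite.of_surjective _ hbij.2
    have e : (Scheme.ΓSpecIso (CommRingCat.of A)).inv ≫ f.appTop ≫ X.presheaf.germ ⊤ x trivial =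
        φ' ≫ X.presheaf.germ U' x hxU' := by
      change _ = ((Scheme.ΓSpecIso (CommRingCat.of A)).inv ≫ f.app ⊤ ≫ X.presheaf.map _) ≫
        X.presheaf.map (homOfLE (X.basicOpen_le g)).op ≫ _
      simp only [Category.assoc]
      congr 2
      exact ((congrArg (X.presheaf.map _ ≫ ·) (X.presheaf.germ_res _ x hxU')).trans
        (X.presheaf.germ_res _ x hxU)).symm
    rw [e]
    exact h2.comp h1
  refine ⟨hfinite, hopen, ?_⟩
  haveI : IsFinite (X.fromSpecStalk x ≫ f) := by
    have e : X.fromSpecStalk x ≫ f = Spec.map (φ' ≫ X.presheaf.germ U' x hxU') := by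
      rw [Spec.map_comp, hfs', ← hU'.fromSpecStalk_eq_fromSpecStalk hxU', IsAffineOpen.fromSpecStalk,
        Category.assoc]
    rw [e, IsFinite.SpecMap_iff]
    have h1 : φ'.hom.Finite := RingHom.finite_algebraMap.mpr ‹_›
    exact (RingHom.Finite.of_surjective _ hbij.2).comp h1
  haveI : IsFinite (X.fromSpecStalk x) := IsFinite.of_comp (X.fromSpecStalk x) f
  exact (IsClosedImmersion.iff_isFinite_and_mono _).mpr ⟨inferInstance, inferInstance⟩

end Groth.Agent.S2343
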