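import Groth.Statements.S2344
import Groth.Agent.Ega2Proj.NormalCurve
import Mathlib.AlgebraicGeometry.Morphisms.Finite

set_option autoImplicit false
universe u
open CategoryTheory CategoryTheory.Limits AlgebraicGeometry
open EGA2

namespace Groth.Agent.S2344

/-- Let X be a normal algebraic curve over k (separated, of finite type, nonempty, local rings at closed
points of dimension one, all local rings integrally closed domains), Y proper over k, U a dense open
of X and g : U → Y a k-morphism. Then g extends uniquely to a k-morphism X → Y. -/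
theorem result (k : Type u) [Field k] (X Y : Scheme.{u}) [X.Over (Spec (CommRingCat.of k))] [Y.Over (Spec (CommRingCat.of k))]
    [LocallyOfFiniteType (X ↘ (Spec (CommRingCat.of k)))] [QuasiCompact (X ↘ (Spec (CommRingCat.of k)))] [IsSeparated (X ↘ (Spec (CommRingCat.of k)))] [Nonempty X] (hcurve : (∀ x : X, IsClosed ({x} : Set X) → ringKrullDim (X.presheaf.stalk x) = 1)) (hnorm : Pi1.IsNormalScheme X)
    [IsProper (Y ↘ (Spec (CommRingCat.of k)))] (U : X.Opens) (hU : Dense (U : Set X)) (g : (U : Scheme.{u}) ⟶ Y)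
    (hg : g ≫ (Y ↘ (Spec (CommRingCat.of k))) = U.ι ≫ (X ↘ (Spec (CommRingCat.of k)))) :
    ∃! g' : X ⟶ Y, U.ι ≫ g' = g ∧ g' ≫ (Y ↘ (Spec (CommRingCat.of k))) = X ↘ (Spec (CommRingCat.of k)) := by
  haveI : JacobsonSpace X := LocallyOfFiniteType.jacobsonSpace (X ↘ (Spec (CommRingCat.of k)))
  haveI : IsLocallyNoetherian X := LocallyOfFiniteType.isLocallyNoetherian (X ↘ (Spec (CommRingCat.of k)))
  exact Groth.Ega2Proj.existsUnique_extension hnorm hcurve _ _ U hU g hg

end Groth.Agent.S2344
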