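import Groth.Statements.S2345
import Groth.Agent.S4454
import Groth.Agent.Misc15.P1Stalk
-- import your own Groth.Agent.* helpers here

set_option autoImplicit false
universe u
open CategoryTheory CategoryTheory.Limits AlgebraicGeometry
attribute [local instance] Curv2.stalkAlgebra
open EGA2

namespace Groth.Agent.S2345

open IsLocalRing in
theorem exists_phi {X : Scheme.{u}} {R : CommRingCat.{u}} [IsLocalRing R] (h : Spec R ⟶ X)
    (y : X) (e : y = h (closedPoint R)) :
    ∃ φ : X.presheaf.stalk y ⟶ R, Spec.map φ ≫ X.fromSpecStalk y = h ∧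
      Set.range φ.hom = Set.range (Scheme.stalkClosedPointTo h).hom := by
  subst e
  exact ⟨_, Scheme.Spec_stalkClosedPointTo_fromSpecStalk h, rfl⟩

open IsLocalRing in
theorem stalkClosedPointTo_toGlobal {X : Scheme.{u}} {k L : Type u} [Field k] [Field L] [Algebra k L]
    (str : X ⟶ Spec (CommRingCat.of k)) (h : Spec (CommRingCat.of L) ⟶ X)
    (hh : h ≫ str = Spec.map (CommRingCat.ofHom (algebraMap k L))) (c : k) :
    (Scheme.stalkClosedPointTo h).hom ((X.presheaf.germ ⊤ (h (closedPoint L)) trivial).hom
      (Coh.toGlobal str c)) = algebraMap k L c := by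
  have e : str.appTop ≫ X.presheaf.germ ⊤ (h (closedPoint L)) trivial ≫ Scheme.stalkClosedPointTo h =
      (Scheme.ΓSpecIso (CommRingCat.of k)).hom ≫ CommRingCat.ofHom (algebraMap k L) := by
    have nat := Scheme.ΓSpecIso_naturality (CommRingCat.ofHom (algebraMap k L))
    rw [← nat, ← hh, Scheme.Hom.comp_appTop, Category.assoc]
    congr 1
    rw [Scheme.germ_stalkClosedPointTo]
    simp [Scheme.Hom.app_eq_appLE, Scheme.Hom.appTop]
  have := congrArg (fun m => CommRingCat.Hom.hom m ((Scheme.ΓSpecIso (CommRingCat.of k)).inv.hom c)) e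
  simp only [CommRingCat.comp_apply, CommRingCat.hom_comp, RingHom.comp_apply] at this
  have inv_hom : (Scheme.ΓSpecIso (CommRingCat.of k)).hom.hom
      ((Scheme.ΓSpecIso (CommRingCat.of k)).inv.hom c) = c :=
    congrArg (fun m => CommRingCat.Hom.hom m c) (Scheme.ΓSpecIso (CommRingCat.of k)).inv_hom_id
  rw [inv_hom] at this
  exact this

theorem maximal_height_one (k : Type u) [Field k] (m : Ideal (MvPolynomial (Fin 1) k)) [m.IsMaximal] :
    m.height = 1 := by
  have h := Ideal.height_le_ringKrullDim_of_isPrime (I := m)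
  rw [MvPolynomial.ringKrullDim_of_isNoetherianRing, ringKrullDim_eq_zero_of_field] at h
  simp at h
  refine le_antisymm (by exact_mod_cast h) ?_
  have hne : m ≠ ⊥ := by
    intro hm
    refine MvPolynomial.X_ne_zero (R := k) (0 : Fin 1) ?_
    have hfield : IsField (MvPolynomial (Fin 1) k) :=
      Ring.isField_iff_maximal_bot.2 (hm ▸ inferInstance)
    obtain ⟨v, hv⟩ := hfield.mul_inv_cancel (MvPolynomial.X_ne_zero (R := k) (0 : Fin 1))
    exfalso
    have := congrArg MvPolynomial.constantCoeff hv
    simp at this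
  have := Ideal.height_add_one_le_of_lt_of_isPrime
    (I := (⊥ : Ideal (MvPolynomial (Fin 1) k))) (J := m) (bot_lt_iff_ne_bot.2 hne)
  rwa [Ideal.height_bot, zero_add] at this

open Groth.Misc15.ProjPts in
theorem stalk_dim_P1 (k : Type u) [Field k] (x : CohB1.ProjSpaceOver 1 (Spec (CommRingCat.of k)))
    (hx : IsClosed ({x} : Set _)) :
    ringKrullDim ((CohB1.ProjSpaceOver 1 (Spec (CommRingCat.of k))).presheaf.stalk x) = 1 := by
  obtain ⟨i, y, rfl⟩ := exists_chart_mem k x
  let p : PrimeSpectrum (MvPolynomial (Fin 1) k) := y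
  have hy : IsClosed ({p} : Set (PrimeSpectrum _)) := by
    have := hx.preimage (chart i k).continuous
    rwa [← Set.image_singleton, Set.preimage_image_eq _ (chart i k).isOpenEmbedding.injective] at this
  haveI : p.asIdeal.IsMaximal := p.isClosed_singleton_iff_isMaximal.1 hy
  rw [ringKrullDim_eq_of_ringEquiv (asIso ((chart i k).stalkMap y)).commRingCatIsoToRingEquiv,
    ]
  let e : Localization.AtPrime p.asIdeal ≃+* (Spec (CommRingCat.of (MvPolynomial (Fin 1) k))).presheaf.stalk y :=
    (StructureSheaf.stalkIso (MvPolynomial (Fin 1) k) p).toRingEquiv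
  rw [← ringKrullDim_eq_of_ringEquiv e,
    IsLocalization.AtPrime.ringKrullDim_eq_height p.asIdeal (Localization.AtPrime p.asIdeal),
    maximal_height_one k p.asIdeal]
  rfl

/-- Let K be a finitely generated field extension of k of transcendence degree one. Then there is an
integral normal algebraic curve X, proper over k, whose function field is isomorphic to K compatibly
with the maps from k. -/
theorem result (k : Type u) [Field k] (K : Type u) [Field K] [Algebra k K]
    (hfg : (⊤ : IntermediateField k K).FG) (htr : Algebra.trdeg k K = 1) :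
    ∃ (X : Scheme.{u}) (_ : X.Over (Spec (CommRingCat.of k))) (_ : IsIntegral X), IsProper (X ↘ (Spec (CommRingCat.of k))) ∧ Pi1.IsNormalScheme X ∧
      (∀ x : X, IsClosed ({x} : Set X) → ringKrullDim (X.presheaf.stalk x) = 1) ∧
      ∃ e : X.presheaf.stalk (genericPoint X) ≃+* K, ∀ c : k, e (algebraMap k (X.presheaf.stalk (genericPoint X)) c) = algebraMap k K c := by
  classical
  open Groth.Misc15.ProjPts in
  -- a separating variable
  obtain ⟨B, hB⟩ := exists_isTranscendenceBasis k K
  have hB1 : Cardinal.mk B = 1 := by rw [hB.cardinalMk_eq_trdeg, htr]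
  obtain ⟨hsub, ⟨t⟩⟩ := Cardinal.eq_one_iff_unique.1 hB1
  let x : Fin 1 → K := fun _ => (t : K)
  have hx : IsTranscendenceBasis k x :=
    hB.comp_equiv ⟨fun _ => t, fun _ => 0, fun a => Subsingleton.elim _ _, fun b => hsub.elim _ _⟩
  let ψ : MvPolynomial (Fin 1) k →ₐ[k] K := MvPolynomial.aeval x
  have hψ : Function.Injective ψ := hx.1
  haveI hEF : Algebra.EssFiniteType k K := IntermediateField.fg_top_iff.1 hfg
  let E := IntermediateField.adjoin k (Set.range x)
  haveI : Algebra.IsAlgebraic E K := hx.isAlgebraic_field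
  haveI : Algebra.EssFiniteType E K := Algebra.EssFiniteType.of_comp k E K
  haveI : Module.Finite E K := Algebra.finite_of_essFiniteType_of_isAlgebraic
  -- the projective line and the point `Spec K → P¹`
  let c := chart (n := 1) 0 k
  let X₀ := CohB1.ProjSpaceOver 1 (Spec (CommRingCat.of k))
  let h : Spec (CommRingCat.of K) ⟶ X₀ := Spec.map (CommRingCat.ofHom ψ.toRingHom) ≫ c
  have hη : genericPoint X₀ = h (IsLocalRing.closedPoint K) := by
    have h1 : (Spec.map (CommRingCat.ofHom ψ.toRingHom)) (IsLocalRing.closedPoint K) =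
        genericPoint (Spec (CommRingCat.of (MvPolynomial (Fin 1) k))) := by
      rw [genericPoint_eq_bot_of_affine]
      refine PrimeSpectrum.ext ?_
      change Ideal.comap ψ.toRingHom (IsLocalRing.maximalIdeal K) = ⊥
      rw [IsLocalRing.maximalIdeal_eq_bot]
      exact Ideal.comap_bot_of_injective _ hψ
    rw [Scheme.Hom.comp_apply, h1]
    exact (genericPoint_eq_of_isOpenImmersion c).symm
  obtain ⟨φc, hφh, hφr⟩ := exists_phi h (genericPoint X₀) hη
  have hr : Set.range ψ ⊆ Set.range φc.hom := by
    rw [hφr]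
    have e : Scheme.stalkClosedPointTo h = c.stalkMap _ ≫
        Scheme.stalkClosedPointTo (Spec.map (CommRingCat.ofHom ψ.toRingHom)) :=
      Scheme.stalkClosedPointTo_comp _ _
    rintro _ ⟨a, rfl⟩
    obtain ⟨b, hb⟩ := (ConcreteCategory.bijective_of_isIso
      (c.stalkMap ((Spec.map (CommRingCat.ofHom ψ.toRingHom)) (IsLocalRing.closedPoint K)))).2
      (((Spec (CommRingCat.of (MvPolynomial (Fin 1) k))).presheaf.germ ⊤ _ trivial).hom
        ((Scheme.ΓSpecIso _).inv.hom a))
    refine ⟨b, ?_⟩
    rw [e]
    refine (congrArg (Scheme.stalkClosedPointTo (Spec.map (CommRingCat.ofHom ψ.toRingHom))).hom hb).trans ?_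
    have h2 := congrArg (fun m => CommRingCat.Hom.hom m ((Scheme.ΓSpecIso _).inv.hom a))
      (Scheme.germ_stalkClosedPointTo_Spec (CommRingCat.ofHom ψ.toRingHom))
    simp only [CommRingCat.comp_apply, CommRingCat.hom_comp, RingHom.comp_apply] at h2
    refine h2.trans ?_
    refine congrArg ψ ?_
    exact congrArg (fun m => CommRingCat.Hom.hom m a)
      (Scheme.ΓSpecIso (CommRingCat.of (MvPolynomial (Fin 1) k))).inv_hom_id
  let φ : X₀.functionField →+* K := φc.hom
  have hE : E ≤ φ.fieldRange.toIntermediateField fun a => hr ⟨MvPolynomial.C a, by simp [ψ]⟩ := by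
    rw [IntermediateField.adjoin_le_iff]
    rintro _ ⟨i, rfl⟩
    exact hr ⟨MvPolynomial.X i, by simp [ψ, x]⟩
  have hφfin : φ.Finite := by
    letI := φ.toAlgebra
    show Module.Finite X₀.functionField K
    obtain ⟨S, hS⟩ := Module.Finite.fg_top (R := E) (M := K)
    refine ⟨S, eq_top_iff.2 fun z _ => ?_⟩
    have hz : z ∈ Submodule.span E (S : Set K) := hS ▸ Submodule.mem_top
    induction hz using Submodule.span_induction with
    | mem w hw => exact Submodule.subset_span hw
    | zero => exact zero_mem _
    | add a b _ _ ha hb => exact add_mem (ha trivial) (hb trivial)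
    | smul r w _ hw =>
      obtain ⟨s, hs⟩ := hE r.2
      have : r • w = s • w := by
        rw [Algebra.smul_def, Algebra.smul_def]
        exact congrArg (· * w) hs.symm
      rw [this]
      exact Submodule.smul_mem _ _ (hw trivial)
  haveI : QuasiCompact h := inferInstance
  haveI : QuasiSeparated h := inferInstance
  let str := CohB1.ProjSpaceOver.toBase 1 (Spec (CommRingCat.of k))
  letI : X₀.Over (Spec (CommRingCat.of k)) := ⟨str⟩
  haveI : IsProper str := Groth.Variety2.isProper_projSpaceOver_toBase 1 _
  haveI : IsProper (X₀ ↘ Spec (CommRingCat.of k)) := ‹IsProper str›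
  obtain ⟨hfin, hnor, hdim⟩ := Groth.Agent.S4454.result k X₀ (stalk_dim_P1 k) K φ hφfin h hφh.symm
  haveI := hfin
  letI : h.normalization.Over (Spec (CommRingCat.of k)) := ⟨h.fromNormalization ≫ str⟩
  refine ⟨h.normalization, inferInstance, inferInstance,
    (inferInstanceAs (IsProper (h.fromNormalization ≫ str))), hnor, hdim, ?_⟩
  have hcl := Groth.Ega2Proj.toNormalization_closedPoint X₀ K h
  have hinj := Groth.Ega2Proj.stalkClosedPointTo_toNormalization_injective X₀ K h
  have hrange := Groth.Ega2Proj.range_stalkClosedPointTo X₀ K φ h hφh.symm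
  have hsurj : Function.Surjective (Scheme.stalkClosedPointTo h.toNormalization).hom := by
    rw [← Set.range_eq_univ, hrange, Set.eq_univ_iff_forall]
    intro y
    letI := φ.toAlgebra
    haveI : Module.Finite X₀.functionField K := hφfin
    exact IsIntegral.of_finite X₀.functionField y
  have key : ∀ (η : h.normalization) (eη : h.toNormalization (IsLocalRing.closedPoint K) = η),
      ∃ e : h.normalization.presheaf.stalk η ≃+* K, ∀ a : k,
        e ((h.normalization.presheaf.germ ⊤ η trivial).hom
          (Coh.toGlobal (h.normalization ↘ Spec (CommRingCat.of k)) a)) = algebraMap k K a := by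
    intro η eη
    subst eη
    refine ⟨RingEquiv.ofBijective _ ⟨hinj, hsurj⟩, fun a => ?_⟩
    refine stalkClosedPointTo_toGlobal (h.normalization ↘ Spec (CommRingCat.of k)) h.toNormalization ?_ a
    change h.toNormalization ≫ h.fromNormalization ≫ str = _
    rw [h.toNormalization_fromNormalization_assoc]
    change (Spec.map (CommRingCat.ofHom ψ.toRingHom) ≫ c) ≫ str = _
    rw [Category.assoc, chart_toBase, ← Spec.map_comp, ← CommRingCat.ofHom_comp]
    congr 2
    exact RingHom.ext fun a => by simp [ψ]
  exact key _ hcl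

end Groth.Agent.S2345
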