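import Groth.Statements.S2346
import Groth.Agent.Ega2Proj.Curve

set_option autoImplicit false
universe u
open CategoryTheory CategoryTheory.Limits AlgebraicGeometry
open EGA2

namespace Groth.Agent.S2346

/-- Let X and Y be irreducible algebraic curves over k (separated, of finite type, local rings at closed
points one-dimensional) and f : X → Y a k-morphism. Then f is dominant if and only if every fibre
f⁻¹(y) is a finite set. -/
theorem result (k : Type u) [Field k] (X Y : Scheme.{u}) [X.Over (Spec (CommRingCat.of k))] [Y.Over (Spec (CommRingCat.of k))]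
    [LocallyOfFiniteType (X ↘ (Spec (CommRingCat.of k)))] [QuasiCompact (X ↘ (Spec (CommRingCat.of k)))] [IsSeparated (X ↘ (Spec (CommRingCat.of k)))] [LocallyOfFiniteType (Y ↘ (Spec (CommRingCat.of k)))] [QuasiCompact (Y ↘ (Spec (CommRingCat.of k)))] [IsSeparated (Y ↘ (Spec (CommRingCat.of k)))] [IrreducibleSpace X] [IrreducibleSpace Y]
    (hX : (∀ x : X, IsClosed ({x} : Set X) → ringKrullDim (X.presheaf.stalk x) = 1)) (hY : (∀ x : Y, IsClosed ({x} : Set Y) → ringKrullDim (Y.presheaf.stalk x) = 1))
    (f : X ⟶ Y) (hf : f ≫ (Y ↘ (Spec (CommRingCat.of k))) = X ↘ (Spec (CommRingCat.of k))) :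
    IsDominant f ↔ ∀ y : Y, (f.base ⁻¹' {y}).Finite := by
  haveI : JacobsonSpace X := LocallyOfFiniteType.jacobsonSpace (X ↘ (Spec (CommRingCat.of k)))
  haveI : JacobsonSpace Y := LocallyOfFiniteType.jacobsonSpace (Y ↘ (Spec (CommRingCat.of k)))
  haveI : IsLocallyNoetherian X := LocallyOfFiniteType.isLocallyNoetherian (X ↘ (Spec (CommRingCat.of k)))
  haveI : CompactSpace X := QuasiCompact.compactSpace_of_compactSpace (X ↘ (Spec (CommRingCat.of k)))
  haveI : AlgebraicGeometry.IsNoetherian X := {}
  haveI : LocallyOfFiniteType f := by
    haveI : LocallyOfFiniteType (f ≫ (Y ↘ (Spec (CommRingCat.of k)))) := by rw [hf]; infer_instance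
    exact locallyOfFiniteType_of_comp f (Y ↘ (Spec (CommRingCat.of k)))
  have hclosed : ∀ x : X, IsClosed ({x} : Set X) → IsClosed ({f.base x} : Set Y) := fun x hx =>
    f.closePoints_subset_preimage_closedPoints hx
  constructor
  · intro _ y
    have hgp : f.base (genericPoint X) = genericPoint Y := by
      have hden : DenseRange f.base := f.denseRange
      apply ((genericPoint_spec Y).eq _).symm
      have := (genericPoint_spec X).image f.base.hom.continuous
      rw [Set.image_univ] at this
      unfold IsGenericPoint at this ⊢
      rw [this]; exact hden.closure_range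
    by_cases hy : IsClosed ({y} : Set Y)
    · refine ((Groth.Ega2Proj.isClosed_finite_iff hX (hy.preimage f.base.hom.continuous)).mp ?_).1
      intro huniv
      have : f.base (genericPoint X) = y := by
        have h : genericPoint X ∈ f.base ⁻¹' {y} := by rw [huniv]; trivial
        exact h
      rw [hgp] at this
      exact Groth.Ega2Proj.genericPoint_not_isClosed hY (this ▸ hy)
    · refine (Set.finite_singleton (genericPoint X)).subset fun x hx => ?_
      refine Groth.Ega2Proj.eq_genericPoint_of_not_isClosed hX fun hc => hy ?_
      have := hclosed x hc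
      rwa [show f.base x = y from hx] at this
  · intro hfin
    have hgp : f.base (genericPoint X) = genericPoint Y := by
      refine Groth.Ega2Proj.eq_genericPoint_of_not_isClosed hY fun hc => ?_
      have huniv : f.base ⁻¹' {f.base (genericPoint X)} = Set.univ := by
        refine Set.eq_univ_of_univ_subset ?_
        rw [← (genericPoint_spec X).def]
        exact (hc.preimage f.base.hom.continuous).closure_subset_iff.mpr (Set.singleton_subset_iff.mpr rfl)
      have hX' := hfin (f.base (genericPoint X))
      rw [huniv] at hX'
      haveI : Finite X := Set.finite_univ_iff.mp hX'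
      refine Groth.Ega2Proj.genericPoint_not_isClosed hX ?_
      have hall : ∀ x : X, x ≠ genericPoint X → IsClosed ({x} : Set X) := fun x hx => by
        by_contra h
        exact hx (Groth.Ega2Proj.eq_genericPoint_of_not_isClosed hX h)
      have hop : IsOpen ({genericPoint X} : Set X) := by
        have : IsClosed (({genericPoint X} : Set X)ᶜ) := by
          rw [← Set.biUnion_of_singleton (({genericPoint X} : Set X)ᶜ)]
          exact (Set.toFinite _).isClosed_biUnion fun x hx => hall x hx
        exact isClosed_compl_iff.mp this
      exact isClosed_singleton_of_isLocallyClosed_singleton hop.isLocallyClosed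
    refine ⟨?_⟩
    rw [DenseRange, dense_iff_closure_eq]
    refine Set.eq_univ_of_univ_subset ?_
    rw [← (genericPoint_spec Y).def, ← hgp]
    exact closure_mono (Set.singleton_subset_iff.mpr ⟨_, rfl⟩)

end Groth.Agent.S2346
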