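import Groth.Statements.S2347
import Groth.Agent.Ega2Proj.NormalExtend
import Mathlib.RingTheory.Ideal.GoingUp

set_option autoImplicit false
universe u
open CategoryTheory CategoryTheory.Limits AlgebraicGeometry
open EGA2

namespace Groth.Agent.S2347

/-- Let X be an integral normal scheme, X' an integral scheme and g : X' → X an integral morphism. If g
has a rational section (a morphism s from a dense open U of X to X' with g ∘ s the inclusion of U),
then g is an isomorphism. -/
theorem result {X X' : Scheme.{u}} [IsIntegral X] [IsIntegral X'] (hX : Pi1.IsNormalScheme X)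
    (g : X' ⟶ X) [IsIntegralHom g] (U : X.Opens) (hU : Dense (U : Set X)) (s : (U : Scheme.{u}) ⟶ X') (hs : s ≫ g = U.ι) :
    IsIso g := by
  classical
  obtain ⟨t, -, ht⟩ := Groth.Ega2Proj.exists_extension_of_integral hX g U hU s (𝟙 X)
    (by rw [hs, Category.comp_id])
  change MorphismProperty.isomorphisms Scheme g
  refine (IsZariskiLocalAtTarget.iff_of_iSup_eq_top (P := MorphismProperty.isomorphisms Scheme)
    (fun V : X.affineOpens => (V.1 : X.Opens)) (iSup_affineOpens_eq_top X)).mpr ?_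
  intro V
  haveI : IsAffine (V.1 : X.Opens) := V.2
  haveI : IsAffine (g ⁻¹ᵁ V.1 : X'.Opens) := V.2.preimage g
  suffices happ : IsIso (g ∣_ V.1).appTop by
    exact (MorphismProperty.arrow_mk_iso_iff (MorphismProperty.isomorphisms _)
      (arrowIsoSpecΓOfIsAffine (g ∣_ V.1))).mpr
      (inferInstance : IsIso (Spec.map (g ∣_ V.1).appTop))
  rw [← Scheme.Hom.resLE_eq_morphismRestrict]
  refine (MorphismProperty.arrow_mk_iso_iff (MorphismProperty.isomorphisms _)
    (arrowResLEAppIso g V.1 (g ⁻¹ᵁ V.1) le_rfl)).mpr ?_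
  rw [← Scheme.Hom.app_eq_appLE]
  change IsIso (g.app V.1)
  rcases isEmpty_or_nonempty (V.1 : Scheme.{u}) with hV | hV
  · have h1 : Subsingleton Γ(X, V.1) := by
      have : V.1 = ⊥ := TopologicalSpace.Opens.ext (Set.eq_empty_iff_forall_notMem.mpr fun z hz => hV.false ⟨z, hz⟩)
      rw [this]; infer_instance
    have h2 : Subsingleton Γ(X', g ⁻¹ᵁ V.1) := subsingleton_of_zero_eq_one (by
        rw [← map_zero (g.app V.1).hom, ← map_one (g.app V.1).hom]; exact congrArg _ (Subsingleton.elim _ _))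
    exact (ConcreteCategory.isIso_iff_bijective _).mpr
      ⟨fun a b _ => Subsingleton.elim _ _, fun b => ⟨0, Subsingleton.elim _ _⟩⟩
  · have hle : V.1 ≤ t ⁻¹ᵁ (g ⁻¹ᵁ V.1) := Groth.Ega2Proj.preimage_le_of_over g (𝟙 X) t ht V.1
    let r : Γ(X', g ⁻¹ᵁ V.1) →+* Γ(X, V.1) := (t.appLE (g ⁻¹ᵁ V.1) V.1 hle).hom
    have hr : ∀ a, r ((g.app V.1).hom a) = a := by
      intro a
      have e : g.app V.1 ≫ t.appLE (g ⁻¹ᵁ V.1) V.1 hle = 𝟙 _ := by
        refine (Scheme.Hom.comp_appLE t g V.1 V.1 hle).symm.trans ?_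
        have key : ∀ (k : X ⟶ X) (hk : k = 𝟙 X) (e : V.1 ≤ k ⁻¹ᵁ V.1), k.appLE V.1 V.1 e = 𝟙 _ := by
          rintro k rfl e
          simp only [Scheme.Hom.appLE, Scheme.Hom.id_app]
          exact (Category.id_comp _).trans (X.presheaf.map_id _)
        exact key _ ht _
      exact congrArg (fun m => CommRingCat.Hom.hom m a) e
    haveI : Nonempty ((g ⁻¹ᵁ V.1 : X'.Opens) : Scheme.{u}) :=
      ⟨⟨t.base (Classical.arbitrary (V.1 : Scheme.{u})).1, hle (Classical.arbitrary (V.1 : Scheme.{u})).2⟩⟩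
    letI := (g.app V.1).hom.toAlgebra
    haveI : Algebra.IsIntegral Γ(X, V.1) Γ(X', g ⁻¹ᵁ V.1) :=
      ⟨IsIntegralHom.isIntegral_app (f := g) V.1 V.2⟩
    have hker : RingHom.ker r = ⊥ := by
      refine Ideal.eq_bot_of_comap_eq_bot (R := Γ(X, V.1)) ?_
      rw [eq_bot_iff]
      intro a ha
      have ha' : r ((g.app V.1).hom a) = 0 := ha
      rw [hr] at ha'
      exact (Ideal.mem_bot).mpr ha'
    refine (ConcreteCategory.isIso_iff_bijective _).mpr ⟨fun a b hab => ?_, fun b => ⟨r b, ?_⟩⟩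
    · have := congrArg r hab
      rwa [hr, hr] at this
    · have : b - (g.app V.1).hom (r b) ∈ RingHom.ker r := by
        rw [RingHom.mem_ker, map_sub, hr, sub_self]
      rw [hker, Ideal.mem_bot, sub_eq_zero] at this
      exact this.symm

end Groth.Agent.S2347
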