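import Groth.Statements.S2349


set_option autoImplicit false
universe u
open CategoryTheory CategoryTheory.Limits AlgebraicGeometry
open EGA2

namespace Groth.Agent.S2349

/-- Let f : X → Y be separated and of finite type, and let j_i : X_i → X and h_i : Y_i → Y (i in a
finite index type) be closed immersions with morphisms f_i : X_i → Y_i satisfying j_i ≫ f = f_i ≫
h_i, such that the images of the j_i cover X. Then f is proper if and only if every f_i is proper. -/
theorem result {X Y : Scheme.{u}} (f : X ⟶ Y) [IsSeparated f] [LocallyOfFiniteType f] [QuasiCompact f]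
    (ι : Type u) [Finite ι] (Xi Yi : ι → Scheme.{u}) (j : ∀ i, Xi i ⟶ X) (h : ∀ i, Yi i ⟶ Y) (fi : ∀ i, Xi i ⟶ Yi i)
    [∀ i, IsClosedImmersion (j i)] [∀ i, IsClosedImmersion (h i)] (hcomm : ∀ i, j i ≫ f = fi i ≫ h i)
    (hcov : ∀ x : X, ∃ i, x ∈ Set.range (j i).base) : IsProper f ↔ ∀ i, IsProper (fi i) := by
  refine ⟨fun hf i => ?_, fun hfi => ?_⟩
  · haveI : IsProper (fi i ≫ h i) := by rw [← hcomm]; infer_instance
    exact IsProper.of_comp (fi i) (h i)
  · haveI : UniversallyClosed f := by
      constructor
      intro X' Y' i₁ i₂ f' hsq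
      intro Z hZ
      have hc : ∀ i, i₂ = i₂ ∧ UniversallyClosed (j i ≫ f) := fun i => ⟨rfl, by
        haveI := hfi i; rw [hcomm]; infer_instance⟩
      let P := fun i => pullback (j i ≫ f) i₂
      have w : ∀ i, i₂ = i₂ ∧ (pullback.fst (j i ≫ f) i₂ ≫ j i) ≫ f = pullback.snd (j i ≫ f) i₂ ≫ i₂ :=
        fun i => ⟨rfl, by rw [Category.assoc]; exact pullback.condition⟩
      let ι' : ∀ i, P i ⟶ X' := fun i =>
        hsq.lift (pullback.snd (j i ≫ f) i₂) (pullback.fst (j i ≫ f) i₂ ≫ j i) (w i).2.symm
      have hι : ∀ i, ι' i ≫ f' = pullback.snd (j i ≫ f) i₂ := fun i => hsq.lift_fst _ _ _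
      have hcl : ∀ i, IsClosed ((pullback.snd (j i ≫ f) i₂).base '' ((ι' i).base ⁻¹' Z)) := fun i => by
        haveI := (hc i).2
        exact (pullback.snd (j i ≫ f) i₂).isClosedMap _ (hZ.preimage (ι' i).base.hom.continuous)
      have heq : f'.base '' Z = ⋃ i, (pullback.snd (j i ≫ f) i₂).base '' ((ι' i).base ⁻¹' Z) := by
        ext z
        simp only [Set.mem_image, Set.mem_iUnion, Set.mem_preimage]
        constructor
        · rintro ⟨p, hp, rfl⟩
          obtain ⟨i, x, hx⟩ := hcov (i₁.base p)
          obtain ⟨q, -, hq⟩ := Scheme.Pullback.exists_preimage_pullback (f := j i) (g := i₁) x p hx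
          let l : pullback (j i) i₁ ⟶ P i := pullback.lift (pullback.fst _ _) (pullback.snd _ _ ≫ f')
            (by rw [Category.assoc, hsq.w, ← Category.assoc, pullback.condition, Category.assoc])
          have hl : l ≫ ι' i = pullback.snd (j i) i₁ := by
            apply hsq.hom_ext
            · rw [Category.assoc, hsq.lift_fst, pullback.lift_snd]
            · rw [Category.assoc, hsq.lift_snd, ← Category.assoc, pullback.lift_fst, pullback.condition]
          refine ⟨i, l.base q, ?_, ?_⟩
          · have : (ι' i).base (l.base q) = p := by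
              rw [← Scheme.Hom.comp_apply, hl]; exact hq
            rwa [this]
          · rw [← Scheme.Hom.comp_apply, pullback.lift_snd, Scheme.Hom.comp_apply]
            exact congrArg (fun z => f'.base z) hq
        · rintro ⟨i, q, hq, rfl⟩
          exact ⟨_, hq, by rw [← Scheme.Hom.comp_apply, hι]⟩
      rw [heq]; exact isClosed_iUnion_of_finite hcl
    exact {}

end Groth.Agent.S2349
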