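import Groth.Statements.S2455
import Groth.Agent.Ega41Flat.Cohen
open Groth.Ega41Flat

set_option autoImplicit false
universe u
open EGA41

namespace Groth.Agent.S2455

open IsLocalRing in
/-- Let A be a Noetherian local ring with residue field k and K a separable extension field of k. Then
there is a Cohen A-algebra B whose residue field is k-isomorphic to K; and two Cohen A-algebras
whose residue fields are k-isomorphic to K are isomorphic as A-algebras. -/
theorem result {A : Type u} [CommRing A] [IsLocalRing A] [IsNoetherianRing A]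
    (K : Type u) [Field K] [Algebra (ResidueField A) K] [Algebra.IsGeometricallyReduced (ResidueField A) K] :
    (∃ (B : Type u) (_ : CommRing B) (_ : IsLocalRing B) (_ : Algebra A B) (_ : IsLocalHom (algebraMap A B)),
      EGA41.IsCohenAlgebra A B ∧ Nonempty (ResidueField B ≃ₐ[ResidueField A] K)) ∧
    ∀ (B B' : Type u) [CommRing B] [IsLocalRing B] [Algebra A B] [IsLocalHom (algebraMap A B)]
      [CommRing B'] [IsLocalRing B'] [Algebra A B'] [IsLocalHom (algebraMap A B')],
      EGA41.IsCohenAlgebra A B → EGA41.IsCohenAlgebra A B' →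
      Nonempty (ResidueField B ≃ₐ[ResidueField A] K) → Nonempty (ResidueField B' ≃ₐ[ResidueField A] K) →
      Nonempty (B ≃ₐ[A] B') := by
  refine ⟨?_, fun B B' _ _ _ _ _ _ _ _ h h' ⟨e⟩ ⟨e'⟩ => ?_⟩
  · obtain ⟨B, _, _, _, _, hN, hc, hf, hm, ⟨e⟩⟩ := exists_cohen (A := A) K
    exact ⟨B, inferInstance, inferInstance, inferInstance, inferInstance,
      ⟨inferInstance, hN, hc, hf, hm, Algebra.IsGeometricallyReduced.of_injective e.toAlgHom e.injective⟩, ⟨e⟩⟩
  · obtain ⟨-, hN', hc', hf', hm', -⟩ := h'
    haveI := hN'; haveI := hc'; haveI := hf'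
    obtain ⟨v, -⟩ := exists_algEquiv_of_isCohenAlgebra (C := B') h hm' (e.trans e'.symm).toRingEquiv fun a => by
      have h1 : ∀ (C : Type u) [CommRing C] [IsLocalRing C] [Algebra A C] [IsLocalHom (algebraMap A C)],
          residue C (algebraMap A C a) = algebraMap (ResidueField A) (ResidueField C) (residue A a) :=
        fun C _ _ _ _ => (IsLocalRing.ResidueField.map_residue (algebraMap A C) a).symm
      show (e.trans e'.symm) (residue B (algebraMap A B a)) = _
      rw [h1 B, AlgEquiv.commutes, h1 B']
    exact ⟨v⟩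

end Groth.Agent.S2455
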