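import Groth.Statements.S2457
import Groth.Agent.Ega41Flat.CohenRing

set_option autoImplicit false
universe u
open EGA41

namespace Groth.Agent.S2457

open IsLocalRing in
/-- Let W and W' be Cohen rings with residue fields K and K' and u : K ≅ K' an isomorphism. Then u is
induced by some isomorphism v : W ≅ W'. -/
theorem result {W W' : Type u} [CommRing W] [IsLocalRing W] [CommRing W'] [IsLocalRing W']
    (hW : EGA41.IsCohenRingEGA W) (hW' : EGA41.IsCohenRingEGA W') (u : ResidueField W ≃+* ResidueField W') :
    ∃ v : W ≃+* W', ∀ x : W, residue W' (v x) = u (residue W x) := by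
  exact Groth.Ega41Flat.exists_ringEquiv_cohenRingEGA hW hW' u

end Groth.Agent.S2457
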