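import Groth.Statements.S2459
import Groth.Agent.Ega41Flat.Quotient

set_option autoImplicit false
universe u
open EGA41

namespace Groth.Agent.S2459

open IsLocalRing in
/-- Let A be an Artinian local ring with maximal ideal 𝔪 and residue field of characteristic p (p = 0
allowed). Then A is isomorphic to a quotient of a Cohen ring if and only if 𝔪 is generated by p·1. -/
theorem result {A : Type u} [CommRing A] [IsLocalRing A] [IsArtinianRing A]
    (p : ℕ) [CharP (ResidueField A) p] :
    (∃ (W : Type u) (_ : CommRing W) (I : Ideal W), EGA41.IsCohenRingEGA W ∧ Nonempty (A ≃+* W ⧸ I)) ↔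
      maximalIdeal A = Ideal.span {(p : A)} := by
  constructor
  · rintro ⟨W, _, I, hW, ⟨e⟩⟩
    let f : W →+* A := e.symm.toRingHom.comp (Ideal.Quotient.mk I)
    have hf : Function.Surjective f := e.symm.surjective.comp Ideal.Quotient.mk_surjective
    rcases hW with ⟨hF, hc⟩ | ⟨hdom, hdvr, hcomp, q, hq, hmq⟩
    · letI := hF.toField
      have hbij : Function.Bijective f := ⟨f.injective, hf⟩
      have hA : IsField A := (RingEquiv.ofBijective f hbij).symm.toMulEquiv.isField hF
      have hm := IsLocalRing.isField_iff_maximalIdeal_eq.mp hA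
      have hp : (p : A) = 0 := by
        have h1 : (p : A) ∈ maximalIdeal A := by
          rw [← residue_eq_zero_iff, map_natCast]; exact CharP.cast_eq_zero (ResidueField A) p
        rwa [hm, Ideal.mem_bot] at h1
      rw [hm, hp, Ideal.span_singleton_eq_bot.mpr rfl]
    · haveI : Fact q.Prime := ⟨hq⟩
      have h1 : maximalIdeal A = Ideal.span {(q : A)} := by
        rw [← IsLocalRing.map_maximalIdeal_of_surjective f hf, hmq, Ideal.map_span, Set.image_singleton, map_natCast]
      have h2 : (q : ResidueField A) = 0 := by
        rw [← map_natCast (residue A), residue_eq_zero_iff, h1]; exact Ideal.mem_span_singleton_self _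
      haveI : CharP (ResidueField A) q := (CharP.charP_iff_prime_eq_zero hq).2 h2
      rw [h1, CharP.eq (ResidueField A) ‹CharP (ResidueField A) p› ‹CharP (ResidueField A) q›]
  · intro hm
    obtain ⟨N, hN⟩ := IsArtinianRing.isNilpotent_jacobson_bot (R := A)
    rw [IsLocalRing.jacobson_eq_maximalIdeal ⊥ bot_ne_top] at hN
    haveI : IsAdicComplete (maximalIdeal A) A := Groth.Calg7.IdemLift.isAdicComplete_of_pow_eq_bot _ _ (N := N) hN
    rcases CharP.char_is_prime_or_zero (ResidueField A) p with hp | rfl
    · haveI := Fact.mk hp
      obtain ⟨W, _, _, hW, ⟨e⟩⟩ := Groth.Calg2.CohenRing.exists_cohenRing p (ResidueField A)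
      obtain ⟨g, hg⟩ := Groth.Ega41Flat.exists_lift_cohenRing (R := A) hW e.toRingHom
      have key : ∀ (n : ℕ) (x : A), ∃ w, x - g w ∈ maximalIdeal A ^ n := by
        intro n
        induction n with
        | zero => exact fun x => ⟨0, by simp⟩
        | succ n ih =>
          intro x
          obtain ⟨w, hw⟩ := residue_surjective (e.symm (residue A x))
          have h1 : x - g w ∈ maximalIdeal A := by
            rw [← residue_eq_zero_iff, map_sub, hg, hw]
            show residue A x - e (e.symm _) = 0
            rw [e.apply_symm_apply, sub_self]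
          obtain ⟨y, hy⟩ := Ideal.mem_span_singleton'.mp (hm ▸ h1)
          obtain ⟨w', hw'⟩ := ih y
          refine ⟨w + p * w', ?_⟩
          rw [map_add, map_mul, map_natCast, show x - (g w + p * g w') = (y - g w') * p by rw [sub_mul, hy]; ring, pow_succ]
          exact Ideal.mul_mem_mul hw' (hm ▸ Ideal.mem_span_singleton_self _)
      have hs : Function.Surjective g := fun x => by
        obtain ⟨w, hw⟩ := key N x
        rw [hN, Ideal.zero_eq_bot, Ideal.mem_bot, sub_eq_zero] at hw
        exact ⟨w, hw.symm⟩
      exact ⟨W, inferInstance, RingHom.ker g, Or.inr hW, ⟨(RingHom.quotientKerEquivOfSurjective hs).symm⟩⟩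
    · rw [Nat.cast_zero, Ideal.span_singleton_eq_bot.mpr rfl] at hm
      have hA : IsField A := IsLocalRing.isField_iff_maximalIdeal_eq.mpr hm
      haveI : CharZero (ResidueField A) := CharP.charP_to_charZero _
      haveI : CharZero A := charZero_of_injective_ringHom (f := Nat.castRingHom A) fun a b hab =>
        Nat.cast_injective (R := ResidueField A) (by
          rw [← map_natCast (residue A), ← map_natCast (residue A) b]; exact congrArg (residue A) hab)
      exact ⟨A, inferInstance, ⊥, Or.inl ⟨hA, inferInstance⟩, ⟨(RingEquiv.quotientBot A).symm⟩⟩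

end Groth.Agent.S2459
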