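import Groth.Statements.S2460
import Groth.Agent.Calg2.CompleteStructure
import Groth.Agent.S2470
open MvPowerSeries Groth.SGA7.PS

set_option autoImplicit false
universe u
open EGA41

namespace Groth.Agent.S2460

open IsLocalRing in
/-- Quotients by ideals containing a power of the maximal ideal are finite over a field over which the
residue field is finite. -/
theorem finite_quotient {k R : Type u} [Field k] [CommRing R] [IsLocalRing R] [IsNoetherianRing R] [Algebra k R]
    [Module.Finite k (ResidueField R)] (J : Ideal R) (N : ℕ) (hN : maximalIdeal R ^ N ≤ J) :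
    Module.Finite k (R ⧸ J) := by
  classical
  obtain ⟨r, s, hs⟩ := Module.Finite.exists_fin (R := k) (M := ResidueField R)
  choose t ht using fun i => residue_surjective (s i)
  have hres : ∀ x : R, ∃ c : Fin r → k, x - ∑ i, c i • t i ∈ maximalIdeal R := fun x => by
    obtain ⟨c, hc⟩ := (Submodule.mem_span_range_iff_exists_fun k).1 (hs ▸ Submodule.mem_top : residue R x ∈ Submodule.span k (Set.range s))
    refine ⟨c, ?_⟩
    rw [← residue_eq_zero_iff, map_sub, map_sum, sub_eq_zero, ← hc]
    refine Finset.sum_congr rfl fun i _ => ?_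
    rw [← ht]
    exact (map_smul (IsScalarTower.toAlgHom k R (ResidueField R)) (c i) (t i)).symm
  have key : ∀ N : ℕ, ∃ V : Submodule k R, V.FG ∧ ∀ x : R, ∃ v ∈ V, x - v ∈ maximalIdeal R ^ N := by
    intro N
    induction N with
    | zero => exact ⟨⊥, Submodule.fg_bot, fun x => ⟨0, zero_mem _, by simp⟩⟩
    | succ N ih =>
      obtain ⟨V, hV, h⟩ := ih
      obtain ⟨G, hG⟩ := (inferInstance : IsNoetherianRing R).noetherian (maximalIdeal R ^ N)
      let W := Submodule.span k ((fun q : R × Fin r => t q.2 * q.1) '' ((G : Set R) ×ˢ Set.univ))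
      refine ⟨V ⊔ W, hV.sup (Submodule.fg_span (Set.Finite.image _ ((G.finite_toSet).prod Set.finite_univ))), fun x => ?_⟩
      obtain ⟨v, hv, hxv⟩ := h x
      suffices hs : ∀ y ∈ maximalIdeal R ^ N, ∀ q : R, ∃ w ∈ W, q * y - w ∈ maximalIdeal R ^ (N + 1) by
        obtain ⟨w, hw, hw'⟩ := hs _ hxv 1
        exact ⟨v + w, add_mem (Submodule.mem_sup_left hv) (Submodule.mem_sup_right hw), by rw [← sub_sub]; simpa using hw'⟩
      intro y hy
      rw [← hG] at hy
      induction hy using Submodule.span_induction with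
      | mem g hg =>
        intro q
        obtain ⟨c, hc⟩ := hres q
        refine ⟨∑ i, c i • (t i * g), Submodule.sum_mem _ fun i _ => Submodule.smul_mem _ _
          (Submodule.subset_span ⟨(g, i), ⟨hg, Set.mem_univ i⟩, rfl⟩), ?_⟩
        rw [show q * g - ∑ i, c i • (t i * g) = (q - ∑ i, c i • t i) * g by
          rw [sub_mul, Finset.sum_mul]; simp only [smul_mul_assoc], pow_succ']
        exact Ideal.mul_mem_mul hc (hG ▸ Submodule.subset_span hg)
      | zero => exact fun q => ⟨0, zero_mem _, by simp⟩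
      | add a b _ _ ha hb =>
        intro q
        obtain ⟨wa, hwa, ha⟩ := ha q
        obtain ⟨wb, hwb, hb⟩ := hb q
        exact ⟨wa + wb, add_mem hwa hwb, by rw [mul_add, add_sub_add_comm]; exact add_mem ha hb⟩
      | smul e a _ ha =>
        intro q
        obtain ⟨w, hw, hw'⟩ := ha (q * e)
        exact ⟨w, hw, by rwa [smul_eq_mul, ← mul_assoc]⟩
  obtain ⟨V, hV, h⟩ := key N
  haveI := Module.Finite.iff_fg.2 hV
  refine Module.Finite.of_surjective ((Ideal.Quotient.mkₐ k J).toLinearMap.comp V.subtype) fun y => ?_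
  obtain ⟨x, rfl⟩ := Ideal.Quotient.mk_surjective y
  obtain ⟨v, hv, hxv⟩ := h x
  exact ⟨⟨v, hv⟩, (Ideal.Quotient.eq.2 (hN hxv)).symm⟩

open IsLocalRing in
/-- Let A be a complete Noetherian local domain containing a field k₀ such that the residue field of A
is a finite extension of k₀. Then there are n and an injective local k₀-algebra homomorphism from
the power series ring k₀[[T_1, …, T_n]] into A making A a finite module over it. -/
theorem result {k₀ A : Type u} [Field k₀] [CommRing A] [IsDomain A] [IsLocalRing A] [IsNoetherianRing A]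
    [IsAdicComplete (maximalIdeal A) A] [Algebra k₀ A] [Module.Finite k₀ (ResidueField A)] :
    ∃ (n : ℕ) (w : MvPowerSeries (Fin n) k₀ →ₐ[k₀] A), Function.Injective w ∧ IsLocalHom w.toRingHom ∧ w.toRingHom.Finite := by
  obtain ⟨n, a, hd, ha, N, hN⟩ := Groth.Calg2.CompleteStructure.exists_parameters A
  let w : MvPowerSeries (Fin n) k₀ →ₐ[k₀] A := Groth.Calg6.evalAdic (maximalIdeal A) a ha
  have hI : (varIdeal (Fin n) k₀).map w.toRingHom = Ideal.span (Set.range a) := by
    rw [varIdeal, Ideal.map_span, ← Set.range_comp]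
    congr 1
    exact congrArg Set.range (funext (Groth.Calg6.evalAdic_X _ a ha))
  have hle : Ideal.span (Set.range a) ≤ maximalIdeal A := Ideal.span_le.2 (by rintro _ ⟨i, rfl⟩; exact ha i)
  letI : Algebra (MvPowerSeries (Fin n) k₀) A := w.toRingHom.toAlgebra
  haveI : IsScalarTower k₀ (MvPowerSeries (Fin n) k₀) A := IsScalarTower.of_algebraMap_eq fun l => (w.commutes l).symm
  haveI : IsAdicComplete (varIdeal (Fin n) k₀) (MvPowerSeries (Fin n) k₀) := Groth.Calg6.isAdicComplete_varIdeal
  haveI : IsHausdorff ((varIdeal (Fin n) k₀).map (algebraMap (MvPowerSeries (Fin n) k₀) A)) A :=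
    IsHausdorff.of_le_jacobson _ _ (le_trans (hI.le.trans hle) (maximalIdeal_le_jacobson _))
  haveI : Module.Finite k₀ (A ⧸ (varIdeal (Fin n) k₀).map (algebraMap (MvPowerSeries (Fin n) k₀) A)) :=
    finite_quotient _ N (hN.trans hI.ge)
  haveI : Module.Finite (MvPowerSeries (Fin n) k₀)
      (A ⧸ (varIdeal (Fin n) k₀).map (algebraMap (MvPowerSeries (Fin n) k₀) A)) :=
    Module.Finite.of_restrictScalars_finite k₀ _ _
  have hfin : w.toRingHom.Finite := Groth.Calg2.CompleteStructure.finite_of_finite_quotient (varIdeal (Fin n) k₀)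
  refine ⟨n, w, ?_, ⟨fun f hf => ?_⟩, hfin⟩
  · haveI : IsRegularLocalRing (MvPowerSeries (Fin n) k₀) := Groth.Calg6.isRegularLocalRing_mvPowerSeries k₀ n
    haveI : IsDomain (MvPowerSeries (Fin n) k₀) := Groth.Ega4Algebra1.isDomain_of_isRegularLocalRing _
    by_contra hni
    obtain ⟨z, hz, hz0⟩ : ∃ z, z ∈ RingHom.ker w.toRingHom ∧ z ≠ 0 := by
      by_contra! h
      exact hni ((injective_iff_map_eq_zero _).2 fun z hz => h z hz)
    have h1 : ringKrullDim (MvPowerSeries (Fin n) k₀ ⧸ RingHom.ker w.toRingHom) + 1 ≤ ringKrullDim (MvPowerSeries (Fin n) k₀) :=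
      le_trans (add_le_add_left (ringKrullDim_le_of_surjective
        (Ideal.Quotient.factor ((Ideal.span_singleton_le_iff_mem _).2 hz)) (Ideal.Quotient.factor_surjective _)) 1)
        (ringKrullDim_quotient_succ_le_of_nonZeroDivisor (mem_nonZeroDivisors_of_ne_zero hz0))
    letI : Algebra (MvPowerSeries (Fin n) k₀ ⧸ RingHom.ker w.toRingHom) A := (RingHom.kerLift w.toRingHom).toAlgebra
    haveI : Module.Finite (MvPowerSeries (Fin n) k₀ ⧸ RingHom.ker w.toRingHom) A :=
      RingHom.Finite.of_comp_finite (f := Ideal.Quotient.mk (RingHom.ker w.toRingHom)) (g := RingHom.kerLift w.toRingHom) hfin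
    have h2 : ringKrullDim A ≤ ringKrullDim (MvPowerSeries (Fin n) k₀ ⧸ RingHom.ker w.toRingHom) :=
      Groth.Calg2.CompleteStructure.ringKrullDim_le_of_finite_injective
    rw [Groth.Calg6.ringKrullDim_mvPowerSeries] at h1
    obtain ⟨d, hd'⟩ := Groth.Agent.S2470.exists_nat_dim A
    have h3 := ((add_le_add_left h2 1).trans h1).trans hd
    rw [hd'] at h3
    have : d + 1 ≤ d := by exact_mod_cast h3
    omega
  · rw [MvPowerSeries.isUnit_iff_constantCoeff, isUnit_iff_ne_zero]
    intro h0
    have h1 : w f ∈ maximalIdeal A := hle (hI ▸ Ideal.mem_map_of_mem w.toRingHom ((mem_varIdeal_iff f).2 h0))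
    exact h1 hf

end Groth.Agent.S2460
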