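import Groth.Statements.S2462
import Groth.Agent.Ega41Adic.CompleteLift
import Mathlib.RingTheory.AdicCompletion.Noetherian
open Groth.Ega41Adic
open IsLocalRing

set_option autoImplicit false
universe u
open EGA41

namespace Groth.Agent.S2462

open IsLocalRing in
/-- Let A carry the 𝔞-adic and B the 𝔟-adic topology with B formally smooth over A; let C be a complete
Noetherian local A-algebra with 𝔞C inside the maximal ideal (continuity of A → C) and J ≠ C an
ideal. Then every A-algebra homomorphism u : B → C/J sending 𝔟 into the maximal ideal of C/J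
(continuity) is induced by an A-algebra homomorphism v : B → C sending 𝔟 into the maximal ideal of
C. -/
theorem result {A B C : Type u} [CommRing A] (𝔞 : Ideal A) [CommRing B] [Algebra A B] (𝔟 : Ideal B)
    (hB : EGA41.IsFormallySmoothAdic A 𝔞 B 𝔟)
    [CommRing C] [IsLocalRing C] [IsNoetherianRing C] [IsAdicComplete (maximalIdeal C) C] [Algebra A C]
    (hA : 𝔞.map (algebraMap A C) ≤ maximalIdeal C) (J : Ideal C) (hJ : J ≠ ⊤)
    (u : B →ₐ[A] C ⧸ J) (hu : 𝔟.map u.toRingHom ≤ (maximalIdeal C).map (Ideal.Quotient.mk J)) :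
    ∃ v : B →ₐ[A] C, 𝔟.map v.toRingHom ≤ maximalIdeal C ∧ (Ideal.Quotient.mkₐ A J).comp v = u := by
  haveI : IsHausdorff ((maximalIdeal C).map (Ideal.Quotient.mk J)) (C ⧸ J) := by
    haveI : Nontrivial (C ⧸ J) := Ideal.Quotient.nontrivial_iff.mpr hJ
    haveI : IsLocalRing (C ⧸ J) := .of_surjective' (Ideal.Quotient.mk J) Ideal.Quotient.mk_surjective
    refine IsHausdorff.of_isLocalRing ((maximalIdeal C).map (Ideal.Quotient.mk J)) (C ⧸ J) fun h => hJ ?_
    have hsup := congrArg (Ideal.comap (Ideal.Quotient.mk J)) h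
    rw [Ideal.comap_map_of_surjective _ Ideal.Quotient.mk_surjective, Ideal.comap_top, ← RingHom.ker,
      Ideal.mk_ker, sup_eq_left.mpr (IsLocalRing.le_maximalIdeal hJ)] at hsup
    exact ((IsLocalRing.maximalIdeal.isMaximal C).ne_top hsup).elim
  obtain ⟨v, -, hv⟩ := exists_lift_complete (𝔠 := maximalIdeal C) hB ⟨1, by rwa [pow_one]⟩
    ⟨1, by rw [pow_one]; exact IsLocalRing.le_maximalIdeal hJ⟩ u ⟨1, by rwa [pow_one]⟩
  refine ⟨v, Ideal.map_le_iff_le_comap.mpr fun x hx => ?_, hv⟩
  have h1 : u x ∈ (maximalIdeal C).map (Ideal.Quotient.mk J) := hu (Ideal.mem_map_of_mem u.toRingHom hx)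
  rw [Ideal.mem_map_iff_of_surjective _ Ideal.Quotient.mk_surjective] at h1
  obtain ⟨m, hm, hmx⟩ := h1
  rw [← AlgHom.congr_fun hv x, AlgHom.comp_apply, Ideal.Quotient.mkₐ_eq_mk, Ideal.Quotient.eq] at hmx
  rw [Ideal.mem_comap, AlgHom.toRingHom_eq_coe, RingHom.coe_coe, show v x = m - (m - v x) from by ring]
  exact sub_mem hm (IsLocalRing.le_maximalIdeal hJ hmx)

end Groth.Agent.S2462
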