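import Groth.Statements.S2464
import Groth.Agent.Ega41Sep.PBasisBase
open Groth.Ega41Sep

set_option autoImplicit false
universe u
open EGA41

namespace Groth.Agent.S2464

/-- Let p be a prime, B a ring of characteristic p and A → B an injective ring map whose image contains
every p-th power, and (x_α) a p-basis of B over A. Let E be an A-algebra and q : E → B a surjective
A-algebra homomorphism whose kernel K has K^p = 0. (i) q admits an A-algebra right inverse if and
only if, for all z ∈ E and a ∈ A with a ↦ q(z)^p in B, the image of a in E is z^p. (ii) When this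
holds, for every family (z_α) in E with q(z_α) = x_α there is a unique A-algebra homomorphism v : B
→ E with v(x_α) = z_α for all α, and q ∘ v is the identity. -/
theorem result (p : ℕ) [Fact p.Prime] {A B : Type u} [CommRing A] [CommRing B] [Algebra A B] [CharP B p]
    (hinj : Function.Injective (algebraMap A B)) (hpow : ∀ b : B, b ^ p ∈ Set.range (algebraMap A B))
    {ι : Type u} (x : ι → B) (hx : EGA41.IsPBasis p A x)
    {E : Type u} [CommRing E] [Algebra A E] (q : E →ₐ[A] B) (hq : Function.Surjective q) (hK : RingHom.ker q.toRingHom ^ p = ⊥) :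
    ((∃ v : B →ₐ[A] E, q.comp v = AlgHom.id A B) ↔ ∀ (z : E) (a : A), algebraMap A B a = q z ^ p → algebraMap A E a = z ^ p) ∧
    ((∀ (z : E) (a : A), algebraMap A B a = q z ^ p → algebraMap A E a = z ^ p) →
      ∀ z : ι → E, (∀ i, q (z i) = x i) →
        (∃! v : B →ₐ[A] E, ∀ i, v (x i) = z i) ∧ ∀ v : B →ₐ[A] E, (∀ i, v (x i) = z i) → q.comp v = AlgHom.id A B) := by
  have hp := (Fact.out : p.Prime)
  have hkey : (∀ (z : E) (a : A), algebraMap A B a = q z ^ p → algebraMap A E a = z ^ p) →
      ∀ z : ι → E, (∀ i, q (z i) = x i) →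
        (∃! v : B →ₐ[A] E, ∀ i, v (x i) = z i) ∧
          ∀ v : B →ₐ[A] E, (∀ i, v (x i) = z i) → q.comp v = AlgHom.id A B := by
    intro h z hz
    refine ⟨existsUnique_algHom hinj hpow hx z (fun i a ha => h (z i) a (by rw [hz, ha])), fun v hv => ?_⟩
    exact algHom_ext hpow hx.2 fun i => by simp [hv, hz]
  refine ⟨⟨fun ⟨v, hv⟩ z a ha => ?_, fun h => ?_⟩, hkey⟩
  · have hpE : (p : E) = 0 := by
      rw [← map_natCast (algebraMap A E), show (p : A) = 0 from hinj (by rw [map_natCast, CharP.cast_eq_zero, map_zero]), map_zero]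
    have hmem : (z - v (q z)) ^ p ∈ RingHom.ker q.toRingHom ^ p := by
      refine Ideal.pow_mem_pow ?_ p
      show q (z - v (q z)) = 0
      rw [map_sub, show q (v (q z)) = q z from AlgHom.congr_fun hv (q z), sub_self]
    rw [hK, Ideal.mem_bot] at hmem
    obtain ⟨r, hr⟩ := exists_add_pow_prime_eq hp (v (q z)) (z - v (q z))
    rw [add_sub_cancel, hmem, hpE] at hr
    rw [hr, ← map_pow, ← ha, AlgHom.commutes]
    ring
  · choose z hz using fun i => hq (x i)
    obtain ⟨⟨v, hv, -⟩, h2⟩ := hkey h z hz
    exact ⟨v, h2 v hv⟩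

end Groth.Agent.S2464
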