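import Groth.Statements.S2474
import Groth.Agent.Calg1.Completion
import Groth.Agent.Calg2.CompleteNagata
import Groth.Agent.SGA7.HenselVal
import Mathlib.RingTheory.AdicCompletion.LocalRing
import Mathlib.RingTheory.AdicCompletion.AsTensorProduct
import Mathlib.RingTheory.Localization.Submodule
import Mathlib.RingTheory.Ideal.MinimalPrime.Localization
import Mathlib.FieldTheory.IntermediateField.Adjoin.Algebra
import Mathlib.FieldTheory.AlgebraicClosure

set_option autoImplicit false
universe u
open EGA41

namespace Groth.Agent.S2474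

open IsLocalRing TensorProduct

/-- A field essentially of finite type and algebraic over a subfield is finite over it. -/
theorem finite_of_essFiniteType {K F : Type u} [Field K] [Field F] [Algebra K F] [Algebra.EssFiniteType K F]
    [Algebra.IsAlgebraic K F] : FiniteDimensional K F := by
  obtain ⟨s, hs⟩ := IntermediateField.fg_top K F
  haveI : FiniteDimensional K (IntermediateField.adjoin K (s : Set F)) :=
    IntermediateField.finiteDimensional_adjoin fun x _ => (Algebra.IsAlgebraic.isAlgebraic x).isIntegral
  exact ((IntermediateField.equivOfEq hs).trans IntermediateField.topEquiv).toLinearEquiv.finiteDimensional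

/-- In the integral closure of `R` in a field, with `R` Noetherian complete local and the field algebraic and
essentially of finite type over the image, everything is finite. -/
theorem finite_integralClosure {R F : Type u} [CommRing R] [IsLocalRing R] [IsNoetherianRing R]
    [IsAdicComplete (maximalIdeal R) R] [Field F] [Algebra R F] [Algebra.EssFiniteType R F]
    (hgen : Subfield.closure {x : F | IsIntegral R x} = ⊤) :
    Module.Finite R (integralClosure R F) := by
  let q : Ideal R := RingHom.ker (algebraMap R F)
  haveI : q.IsPrime := RingHom.ker_isPrime _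
  letI : Algebra (R ⧸ q) F := (Ideal.Quotient.lift q (algebraMap R F) fun a ha => ha).toAlgebra
  haveI : IsScalarTower R (R ⧸ q) F := IsScalarTower.of_algebraMap_eq fun r => rfl
  haveI : FaithfulSMul (R ⧸ q) F := (faithfulSMul_iff_algebraMap_injective (R ⧸ q) F).mpr
    (RingHom.lift_injective_of_ker_le_ideal q _ le_rfl)
  letI : Algebra (FractionRing (R ⧸ q)) F := FractionRing.liftAlgebra (R ⧸ q) F
  haveI : IsScalarTower R (FractionRing (R ⧸ q)) F := IsScalarTower.of_algebraMap_eq fun r => by
    rw [IsScalarTower.algebraMap_apply R (R ⧸ q) F, IsScalarTower.algebraMap_apply R (R ⧸ q) (FractionRing (R ⧸ q)),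
      ← IsScalarTower.algebraMap_apply (R ⧸ q) (FractionRing (R ⧸ q)) F]
  haveI : Algebra.EssFiniteType (FractionRing (R ⧸ q)) F := Algebra.EssFiniteType.of_comp R _ _
  haveI : Algebra.IsAlgebraic (FractionRing (R ⧸ q)) F := ⟨fun x => by
    have hle : Subfield.closure {x : F | IsIntegral R x} ≤ (algebraicClosure (FractionRing (R ⧸ q)) F).toSubfield :=
      Subfield.closure_le.mpr fun z hz => mem_algebraicClosure_iff'.mpr (hz.tower_top)
    exact (mem_algebraicClosure_iff'.mp (hle (hgen ▸ Subfield.mem_top x))).isAlgebraic⟩
  haveI : FiniteDimensional (FractionRing (R ⧸ q)) F := finite_of_essFiniteType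
  haveI : Module.Finite (R ⧸ q) (integralClosure (R ⧸ q) F) :=
    (Groth.Calg2.CompleteNagata.isNagata_of_isAdicComplete R).2 q F inferInstance
  haveI : Module.Finite R (integralClosure (R ⧸ q) F) := Module.Finite.trans (R ⧸ q) _
  let j : integralClosure R F →ₗ[R] integralClosure (R ⧸ q) F :=
    ((integralClosure R F).val.toLinearMap).codRestrict ((integralClosure (R ⧸ q) F).toSubmodule.restrictScalars R)
      fun x => (x.2 : IsIntegral R (x : F)).tower_top
  exact Module.Finite.of_injective j fun a b h => Subtype.ext (congrArg Subtype.val h :)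

theorem closure_integral_eq_top {A K' R F : Type u} [CommRing A] [IsDomain A] [Field K'] [Algebra A K']
    [Algebra (FractionRing A) K'] [IsScalarTower A (FractionRing A) K'] [FiniteDimensional (FractionRing A) K']
    [CommRing R] [Algebra A R] [Field F] [Algebra A F] [Algebra R F] [IsScalarTower A R F]
    (φ : R ⊗[A] K' →ₐ[R] F) (hφ : ∀ z : F, ∃ a b, z = φ a / φ b) :
    Subfield.closure {x : F | IsIntegral R x} = ⊤ := by
  let S := Subfield.closure {x : F | IsIntegral R x}
  let e : K' →ₐ[A] F := (φ.restrictScalars A).comp Algebra.TensorProduct.includeRight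
  haveI : Algebra.IsAlgebraic A (FractionRing A) := IsLocalization.isAlgebraic _ (nonZeroDivisors A)
  haveI : Algebra.IsAlgebraic A K' := Algebra.IsAlgebraic.trans A (FractionRing A) K'
  have hK : ∀ x : K', e x ∈ S := by
    intro x
    obtain ⟨y, hy0, hy⟩ := (Algebra.IsAlgebraic.isAlgebraic (R := A) x).exists_integral_multiple
    have h1 : e (y • x) ∈ S := Subfield.subset_closure ((hy.map e).tower_top)
    have h2 : algebraMap A F y ∈ S :=
      Subfield.subset_closure (show IsIntegral R _ from (isIntegral_algebraMap (R := A) (x := y)).tower_top)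
    have hne : algebraMap A K' y ≠ 0 := by
      rw [IsScalarTower.algebraMap_apply A (FractionRing A) K']
      exact (map_ne_zero _).mpr ((map_ne_zero_iff _ (IsFractionRing.injective A (FractionRing A))).mpr hy0)
    have hne' : algebraMap A F y ≠ 0 := e.commutes y ▸ (map_ne_zero e.toRingHom).mpr hne
    have : e x = (algebraMap A F y)⁻¹ * e (y • x) := by
      rw [map_smul, Algebra.smul_def, inv_mul_cancel_left₀ hne']
    exact this ▸ mul_mem (inv_mem h2) h1
  have hT : ∀ t, φ t ∈ S := by
    intro t
    induction t using TensorProduct.induction_on with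
    | zero => rw [map_zero]; exact zero_mem _
    | tmul r x =>
        have : r ⊗ₜ[A] x = r • ((1 : R) ⊗ₜ[A] x) := by rw [TensorProduct.smul_tmul', smul_eq_mul, mul_one]
        rw [this, map_smul, Algebra.smul_def]
        exact mul_mem (Subfield.subset_closure isIntegral_algebraMap) (hK x)
    | add a b ha hb => rw [map_add]; exact add_mem ha hb
  rw [eq_top_iff]
  intro z _
  obtain ⟨a, b, rfl⟩ := hφ z
  exact div_mem (hT a) (hT b)

/-- The unique maximal ideal above a point with values in a field. -/
theorem exists_local {R C F : Type u} [CommRing R] [IsLocalRing R] [IsNoetherianRing R]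
    [IsAdicComplete (maximalIdeal R) R] [CommRing C] [Algebra R C] [Algebra.IsIntegral R C] [Field F] [Algebra R F]
    [Algebra.EssFiniteType R F] (hgen : Subfield.closure {x : F | IsIntegral R x} = ⊤) (φ : C →ₐ[R] F) :
    ∃ (D : Type u) (_ : CommRing D) (_ : IsLocalRing D) (_ : Algebra R D) (_ : Module.Finite R D) (ψ : C →ₐ[R] D),
      ∀ N : Ideal C, N.IsMaximal → RingHom.ker φ ≤ N → N = (maximalIdeal D).comap ψ.toRingHom := by
  haveI hH : HenselianLocalRing R :=
    { is_henselian := fun f hf a h1 h2 =>
        (IsAdicComplete.henselianRing R (maximalIdeal R)).is_henselian f hf a h1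
          (h2.map (Ideal.Quotient.mk _)) }
  haveI := Groth.SGA7.HenselVal.isLocalRing_integralClosure R F
  let ψ : C →ₐ[R] integralClosure R F := φ.codRestrict _ fun c => (Algebra.IsIntegral.isIntegral c).map φ
  refine ⟨integralClosure R F, inferInstance, inferInstance, inferInstance, finite_integralClosure hgen, ψ,
    fun N hN hle => ?_⟩
  refine hN.eq_of_le (Ideal.comap_ne_top _ (maximalIdeal.isMaximal _).ne_top) fun c hc => ?_
  by_contra hu
  have hu : IsUnit (ψ c) := by
    by_contra h
    exact hu ((mem_maximalIdeal _).mpr h)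
  haveI : Algebra.IsIntegral R (integralClosure R F) :=
    ⟨fun x => (isIntegral_algHom_iff (integralClosure R F).val Subtype.val_injective).mp x.2⟩
  have hint : (algebraMap ψ.range (integralClosure R F)).IsIntegral :=
    algebraMap_isIntegral_iff.mpr ⟨fun x => (Algebra.IsIntegral.isIntegral (R := R) x).tower_top⟩
  obtain ⟨e, he⟩ := ((hint.isLocalHom (FaithfulSMul.algebraMap_injective _ _)).map_nonunit
    (⟨ψ c, c, rfl⟩ : ψ.range) hu).exists_right_inv
  obtain ⟨e', he'⟩ := e.2
  refine hN.ne_top ((Ideal.eq_top_iff_one _).mpr ?_)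
  have h1 : c * e' - 1 ∈ RingHom.ker φ := by
    have h : ψ (c * e' - 1) = 0 := by
      rw [map_sub, map_mul, map_one, sub_eq_zero]
      have := congrArg Subtype.val he
      rw [show ψ e' = (e : integralClosure R F) from he']
      exact this
    exact congrArg Subtype.val h
  have := Ideal.sub_mem N (Ideal.mul_mem_right e' N hc) (hle h1)
  rwa [sub_sub_cancel] at this

set_option synthInstance.maxHeartbeats 200000 in
set_option maxHeartbeats 1000000 in
theorem main {A K' : Type u} [CommRing A] [IsDomain A] [IsLocalRing A] [IsNoetherianRing A]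
    [Field K'] [Algebra A K'] [Algebra (FractionRing A) K'] [IsScalarTower A (FractionRing A) K']
    [FiniteDimensional (FractionRing A) K'] :
    {m : Ideal (integralClosure A K') | m.IsMaximal}.Finite ∧
      ∀ (m : Ideal (integralClosure A K')), m.IsMaximal → Module.Finite A (integralClosure A K' ⧸ m) := by
  classical
  let R := AdicCompletion (maximalIdeal A) A
  haveI : IsNoetherianRing R :=
    Groth.Calg1.isNoetherianRing_adicCompletion _ (IsNoetherian.noetherian (maximalIdeal A))
  let A' := integralClosure A K'
  let C := R ⊗[A] A'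
  let T := R ⊗[A] K'
  let ι : C →ₐ[R] T := Algebra.TensorProduct.map (AlgHom.id R R) A'.val
  have hι : Function.Injective ι := by
    have h := Module.Flat.lTensor_preserves_injective_linearMap (M := R) A'.val.toLinearMap Subtype.val_injective
    exact h
  haveI : Algebra.EssFiniteType A (FractionRing A) := Algebra.EssFiniteType.of_isLocalization _ (nonZeroDivisors A)
  haveI : Algebra.EssFiniteType A K' := Algebra.EssFiniteType.comp A (FractionRing A) K'
  haveI : IsNoetherianRing T := Algebra.EssFiniteType.isNoetherianRing R T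
  haveI : Algebra.IsIntegral A A' := ⟨fun x => (isIntegral_algHom_iff A'.val Subtype.val_injective).mp x.2⟩
  -- the residue map attached to a maximal ideal
  have hχ : ∀ n : Ideal A', n.IsMaximal → ∃ χ : C →+* A' ⧸ n, Function.Surjective χ ∧
      ∀ x, χ (Algebra.TensorProduct.includeRight x) = Ideal.Quotient.mk n x := by
    intro n hn
    haveI := hn
    have hmn : ∀ a ∈ maximalIdeal A, algebraMap A (A' ⧸ n) a = 0 := fun a ha => by
      have h := IsLocalRing.eq_maximalIdeal (Ideal.isMaximal_comap_of_isIntegral_of_isMaximal (R := A) n)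
      rw [IsScalarTower.algebraMap_apply A A' (A' ⧸ n)]
      exact Ideal.Quotient.eq_zero_iff_mem.mpr (h.symm ▸ ha : a ∈ n.comap (algebraMap A A'))
    let g : R →ₐ[A] A' ⧸ n :=
      (Ideal.Quotient.liftₐ (maximalIdeal A) (Algebra.ofId A (A' ⧸ n)) hmn).comp (AdicCompletion.evalOneₐ _)
    let χ : C →ₐ[A] A' ⧸ n := Algebra.TensorProduct.lift g (Ideal.Quotient.mkₐ A n) fun _ _ => Commute.all _ _
    have hx : ∀ x, χ (Algebra.TensorProduct.includeRight x) = Ideal.Quotient.mk n x := fun x => by
      show χ ((1 : R) ⊗ₜ[A] x) = _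
      rw [Algebra.TensorProduct.lift_tmul, map_one, one_mul]
      rfl
    exact ⟨χ.toRingHom, fun y => by
      obtain ⟨x, rfl⟩ := Ideal.Quotient.mk_surjective y
      exact ⟨_, hx x⟩, hx⟩
  choose χ hχs hχr using hχ
  let N : ∀ n : Ideal A', n.IsMaximal → Ideal C := fun n hn => RingHom.ker (χ n hn)
  have hNmax : ∀ n hn, (N n hn).IsMaximal := fun n hn => by
    haveI := hn
    letI := Ideal.Quotient.field n
    exact RingHom.ker_isMaximal_of_surjective _ (hχs n hn)
  have hNinj : ∀ n hn, n = (N n hn).comap Algebra.TensorProduct.includeRight.toRingHom := fun n hn => by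
    ext x
    show _ ↔ χ n hn (Algebra.TensorProduct.includeRight x) = 0
    rw [hχr, Ideal.Quotient.eq_zero_iff_mem]
  -- the minimal prime attached
  have hQ : ∀ n hn, ∃ Q ∈ minimalPrimes T, Q.comap ι.toRingHom ≤ N n hn := by
    intro n hn
    haveI := (hNmax n hn).isPrime
    obtain ⟨P, hP, hPN⟩ := Ideal.exists_minimalPrimes_le (bot_le : (⊥ : Ideal C) ≤ N n hn)
    obtain ⟨Q, hQp, hQ⟩ := Ideal.exists_comap_eq_of_mem_minimalPrimes_of_injective (f := ι.toRingHom) hι P hP
    haveI := hQp
    obtain ⟨Q', hQ', hle⟩ := Ideal.exists_minimalPrimes_le (bot_le : (⊥ : Ideal T) ≤ Q)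
    exact ⟨Q', hQ', (Ideal.comap_mono hle).trans (hQ.le.trans hPN)⟩
  choose Q hQm hQN using hQ
  -- the local ring attached to a minimal prime
  have key : ∀ (Q : Ideal T), Q.IsPrime → ∃ (D : Type u) (_ : CommRing D) (_ : IsLocalRing D) (_ : Algebra R D)
      (_ : Module.Finite R D) (ψ : C →ₐ[R] D), ∀ N : Ideal C, N.IsMaximal → Q.comap ι.toRingHom ≤ N →
      N = (maximalIdeal D).comap ψ.toRingHom := by
    intro Q hQp
    let F := FractionRing (T ⧸ Q)
    letI : Field F := inferInstance
    haveI : Algebra.EssFiniteType (T ⧸ Q) F := Algebra.EssFiniteType.of_isLocalization F (nonZeroDivisors (T ⧸ Q))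
    haveI : Algebra.EssFiniteType R F := Algebra.EssFiniteType.comp R (T ⧸ Q) F
    let φ : T →ₐ[R] F := (IsScalarTower.toAlgHom R (T ⧸ Q) F).comp (Ideal.Quotient.mkₐ R Q)
    haveI hCint : Algebra.IsIntegral R C := inferInstance
    have hgen := closure_integral_eq_top φ fun z => by
      obtain ⟨a, b, -, rfl⟩ := IsFractionRing.div_surjective (T ⧸ Q) z
      obtain ⟨a, rfl⟩ := Ideal.Quotient.mk_surjective a
      obtain ⟨b, rfl⟩ := Ideal.Quotient.mk_surjective b
      exact ⟨a, b, rfl⟩
    obtain ⟨D, _, _, _, _, ψ, hψ⟩ := exists_local hgen (φ.comp ι)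
    refine ⟨D, inferInstance, inferInstance, inferInstance, inferInstance, ψ, fun N hN hle => hψ N hN fun c hc => hle ?_⟩
    exact (Ideal.Quotient.eq_zero_iff_mem (I := Q)).mp
      (IsFractionRing.injective (T ⧸ Q) F ((RingHom.mem_ker.mp hc).trans (map_zero _).symm))
  constructor
  · have : Finite {n : Ideal A' // n.IsMaximal} := by
      haveI : Finite (minimalPrimes T) := (minimalPrimes.finite_of_isNoetherianRing T).to_subtype
      refine Finite.of_injective (fun n : {n : Ideal A' // n.IsMaximal} =>
        (⟨Q n.1 n.2, hQm n.1 n.2⟩ : minimalPrimes T)) fun n n' h => ?_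
      have h : Q n.1 n.2 = Q n'.1 n'.2 := congrArg Subtype.val h
      obtain ⟨D, _, _, _, _, ψ, hψ⟩ := key (Q n.1 n.2) (hQm n.1 n.2).1.1
      apply Subtype.ext
      rw [hNinj n.1 n.2, hNinj n'.1 n'.2, hψ _ (hNmax n.1 n.2) (hQN n.1 n.2),
        hψ _ (hNmax n'.1 n'.2) (h ▸ hQN n'.1 n'.2)]
    exact Set.finite_coe_iff.mp this
  · intro n hn
    obtain ⟨D, _, _, _, _, ψ, hψ⟩ := key (Q n hn) (hQm n hn).1.1
    have hcomap := (hNinj n hn).trans (congrArg (Ideal.comap _) (hψ _ (hNmax n hn) (hQN n hn)))
    letI : Algebra A D := ((algebraMap R D).comp (algebraMap A R)).toAlgebra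
    haveI : IsScalarTower A R D := IsScalarTower.of_algebraMap_eq fun a => rfl
    haveI : Algebra.IsIntegral R D := Algebra.IsIntegral.of_finite R D
    let L := D ⧸ maximalIdeal D
    have hkill : ∀ r ∈ maximalIdeal R, algebraMap R L r = 0 := fun r hr => by
      have h := IsLocalRing.eq_maximalIdeal (Ideal.isMaximal_comap_of_isIntegral_of_isMaximal (R := R) (maximalIdeal D))
      rw [IsScalarTower.algebraMap_apply R D L]
      exact Ideal.Quotient.eq_zero_iff_mem.mpr (h.symm ▸ hr : r ∈ (maximalIdeal D).comap (algebraMap R D))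
    haveI : Module.Finite A L := by
      obtain ⟨s, hs⟩ := Module.Finite.fg_top (R := R) (M := L)
      refine ⟨⟨s, eq_top_iff.mpr fun z _ => ?_⟩⟩
      have hz : z ∈ Submodule.span R (s : Set L) := hs ▸ Submodule.mem_top
      induction hz using Submodule.span_induction with
      | mem w hw => exact Submodule.subset_span hw
      | zero => exact zero_mem _
      | add a b _ _ ha hb => exact add_mem (ha trivial) (hb trivial)
      | smul r w _ hw =>
          obtain ⟨a, ha⟩ := Ideal.Quotient.mk_surjective (AdicCompletion.evalOneₐ (maximalIdeal A) r)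
          have hr : r - algebraMap A R a ∈ maximalIdeal R := by
            refine IsLocalRing.le_maximalIdeal (RingHom.ker_ne_top (AdicCompletion.evalOneₐ (maximalIdeal A))) ?_
            show AdicCompletion.evalOneₐ (maximalIdeal A) _ = 0
            rw [map_sub, AlgHom.commutes, ← ha]
            exact sub_self _
          have h : r • w = a • w := by
            rw [← IsScalarTower.algebraMap_smul R a w, ← sub_eq_zero, ← sub_smul, Algebra.smul_def, hkill _ hr,
              zero_mul]
          rw [h]
          exact Submodule.smul_mem _ a (hw trivial)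
    let φ₀ : A' →ₐ[A] L := ((Ideal.Quotient.mkₐ R (maximalIdeal D)).comp ψ).restrictScalars A |>.comp
      Algebra.TensorProduct.includeRight
    have hker : ∀ x, φ₀ x = 0 ↔ x ∈ n := fun x => by
      rw [hcomap]; exact Ideal.Quotient.eq_zero_iff_mem
    let φ₁ := Ideal.Quotient.liftₐ n φ₀ fun x hx => (hker x).mpr hx
    refine Module.Finite.of_injective φ₁.toLinearMap ?_
    exact RingHom.lift_injective_of_ker_le_ideal n (fun x hx => (hker x).mpr hx) fun x hx => (hker x).mp hx

/-- Let A be a Noetherian local domain with fraction field K, K' a finite extension of K and A' the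
integral closure of A in K'. Then A' has only finitely many maximal ideals, and for every maximal
ideal 𝔪' of A' the field A'/𝔪' is a finite extension of the residue field of A (equivalently a
finite A-module). -/
theorem result {A K' : Type u} [CommRing A] [IsDomain A] [IsLocalRing A] [IsNoetherianRing A]
    [Field K'] [Algebra A K'] [Algebra (FractionRing A) K'] [IsScalarTower A (FractionRing A) K'] [FiniteDimensional (FractionRing A) K'] :
    {m : Ideal (integralClosure A K') | m.IsMaximal}.Finite ∧
      ∀ (m : Ideal (integralClosure A K')), m.IsMaximal → Module.Finite A (integralClosure A K' ⧸ m) :=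
  main

end Groth.Agent.S2474
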