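import Groth.Statements.S2475
import Groth.Agent.Ega41Sep.Admissible


set_option autoImplicit false
universe u
open EGA41

namespace Groth.Agent.S2475

/-- Let K be a field of characteristic p > 0, k₀ ⊆ K a subfield and (k_α) a decreasing filtered family
of subfields of K containing k₀. Then ⋂_α k_α(K^p) = k₀(K^p) if and only if the canonical map
Ω_{K/k₀} → lim_α Ω_{K/k_α} is injective (an element of Ω_{K/k₀} whose image in every Ω_{K/k_α}
vanishes is zero). (Conditions (b), (b') of the source, on admissible subfields, are not stated.) -/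
theorem result (p : ℕ) [Fact p.Prime] {k₀ K : Type u} [Field k₀] [Field K] [Algebra k₀ K] [CharP K p]
    {ι : Type u} [Preorder ι] [IsDirected ι (· ≤ ·)] [Nonempty ι] (k : ι → IntermediateField k₀ K) (hk : Antitone k) :
    (⨅ i, k i ⊔ IntermediateField.adjoin k₀ (Set.range fun y : K => y ^ p)) = IntermediateField.adjoin k₀ (Set.range fun y : K => y ^ p) ↔
      ∀ ω : Ω[K⁄k₀], (∀ i, KaehlerDifferential.map k₀ (k i) K K ω = 0) → ω = 0 := by
  rw [Groth.Ega41Sep.Admissible.iInf_eq_iff k]
  refine ⟨fun h ω hω => ?_, fun h y hy => h _ fun i => ?_⟩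
  · obtain ⟨i, hi⟩ := Groth.Ega41Sep.Admissible.exists_map_injOn k hk
      ((Groth.Ega41Sep.Admissible.iInf_eq_iff (p := p) k).mpr h) (Submodule.span K {ω}) (Submodule.fg_span_singleton ω)
    exact hi ω (Submodule.mem_span_singleton_self ω) (hω i)
  · rw [KaehlerDifferential.map_D, Algebra.algebraMap_self, RingHom.id_apply]
    exact hy i

end Groth.Agent.S2475
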