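import Groth.Statements.S2481
import Groth.Agent.Ega41Adic.Basic
import Mathlib.RingTheory.MvPolynomial.Basic
import Mathlib.Algebra.MvPolynomial.Derivation
import Mathlib.RingTheory.Artinian.Module
import Mathlib.LinearAlgebra.Dual.Lemmas
import Mathlib.RingTheory.LocalRing.ResidueField.Basic
open Groth.Ega41Adic

set_option autoImplicit false
universe u
open EGA41

namespace Groth.Agent.S2481

/-- The pullback of `C → C ⧸ J` along `ū`. -/
def pb {A C B' : Type u} [CommRing A] [CommRing C] [CommRing B'] [Algebra A C] [Algebra A B'] (J : Ideal C)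
    (ū : B' →ₐ[A] C ⧸ J) : Subalgebra A (C × B') :=
  AlgHom.equalizer ((Ideal.Quotient.mkₐ A J).comp (AlgHom.fst A C B')) (ū.comp (AlgHom.snd A C B'))

/-- The pushout of the pullback extension along a functional. -/
theorem exists_ext {A C B' : Type u} [CommRing A] [CommRing C] [CommRing B'] [Algebra A C] [Algebra A B'] (J : Ideal C)
    (ū : B' →ₐ[A] C ⧸ J) {K : Type u} [AddCommGroup K] (φ : J →+ K)
    (hst : ∀ q : pb J ū, ∀ x : J, φ x = 0 → φ ⟨q.1.1 * x, Ideal.mul_mem_left J _ x.2⟩ = 0) :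
    ∃ (E : Type u) (_ : CommRing E) (_ : Algebra A E) (pr : E →ₐ[A] B') (q₀ : pb J ū →ₐ[A] E),
      Function.Surjective q₀ ∧ (∀ q, pr (q₀ q) = q.1.2) ∧
      ∀ q : pb J ū, q₀ q = 0 ↔ q.1.2 = 0 ∧ ∃ h : q.1.1 ∈ J, φ ⟨q.1.1, h⟩ = 0 := by
  let W : Ideal (pb J ū) :=
    { carrier := {q | q.1.2 = 0 ∧ ∃ h : q.1.1 ∈ J, φ ⟨q.1.1, h⟩ = 0}
      zero_mem' := ⟨rfl, zero_mem _, map_zero φ⟩
      add_mem' := by
        rintro a b ⟨ha, ha1, ha2⟩ ⟨hb, hb1, hb2⟩
        refine ⟨by simp [ha, hb], add_mem ha1 hb1, ?_⟩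
        rw [show (⟨(a + b).1.1, add_mem ha1 hb1⟩ : J) = ⟨a.1.1, ha1⟩ + ⟨b.1.1, hb1⟩ from rfl, map_add, ha2, hb2, add_zero]
      smul_mem' := by
        rintro q a ⟨ha, ha1, ha2⟩
        exact ⟨by simp [ha], Ideal.mul_mem_left J _ ha1, hst q ⟨a.1.1, ha1⟩ ha2⟩ }
  exact ⟨_ ⧸ W, inferInstance, inferInstance, Ideal.Quotient.liftₐ W ((AlgHom.snd A C B').comp (pb J ū).val) fun q hq => hq.1,
    Ideal.Quotient.mkₐ A W, Ideal.Quotient.mk_surjective, fun _ => rfl, fun _ => Ideal.Quotient.eq_zero_iff_mem⟩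

open IsLocalRing in
/-- Lifting through a small extension of a quotient by a power of the maximal ideal. -/
theorem exists_lift_small {A B : Type u} [CommRing A] [IsLocalRing A] [CommRing B] [IsLocalRing B]
    [Algebra A B] [IsLocalHom (algebraMap A B)]
    (H : ∀ (C : Type u) [CommRing C] [IsLocalRing C] [IsArtinianRing C] [Algebra A C] [IsLocalHom (algebraMap A C)]
        (J : Ideal C), IsNilpotent J → ∀ [IsLocalRing (C ⧸ J)] (u : B →ₐ[A] C ⧸ J) [IsLocalHom u.toRingHom],
        Function.Bijective (ResidueField.map u.toRingHom) →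
        ∃ f : B →ₐ[A] C, IsLocalHom f.toRingHom ∧ (Ideal.Quotient.mkₐ A J).comp f = u)
    (I : Ideal B) [Nontrivial (B ⧸ I)] [IsArtinianRing (B ⧸ I)] {E : Type u} [CommRing E] [Algebra A E]
    (pr : E →ₐ[A] B ⧸ I) (hprs : Function.Surjective pr)
    (hK₀ : ∀ z, pr z = 0 → ∀ z', pr z' = 0 → z * z' = 0) (e₁ : E) (he₁ : pr e₁ = 0)
    (hcyc : ∀ z, pr z = 0 → ∃ c, c * e₁ = z) :
    ∃ f : B →ₐ[A] E, ∀ b, pr (f b) = Ideal.Quotient.mk I b := by
  haveI : IsLocalRing (B ⧸ I) := IsLocalRing.of_surjective' _ Ideal.Quotient.mk_surjective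
  let K₀ : Ideal E := RingHom.ker pr.toRingHom
  have hnil : IsNilpotent K₀ := ⟨2, le_bot_iff.mp (by
    rw [pow_two, Ideal.mul_le]; exact fun z hz z' hz' => (Submodule.mem_bot E).mpr (hK₀ z hz z' hz'))⟩
  haveI hprloc : IsLocalHom pr.toRingHom := ⟨fun z hz => by
    obtain ⟨z', hz'⟩ := hprs (↑hz.unit⁻¹)
    have h1 : pr (z * z' - 1) = 0 := by
      rw [map_sub, map_mul, map_one, hz', sub_eq_zero]
      exact hz.mul_val_inv
    have h2 : IsNilpotent (z * z' - 1) := ⟨2, by rw [pow_two]; exact hK₀ _ h1 _ h1⟩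
    exact isUnit_of_mul_isUnit_left (by simpa using h2.isUnit_one_add : IsUnit (z * z'))⟩
  haveI : Nontrivial E := pr.toRingHom.domain_nontrivial
  haveI : IsLocalRing E := RingHom.domain_isLocalRing pr.toRingHom
  haveI : IsArtinianRing E := by
    letI : Algebra E (B ⧸ I) := pr.toRingHom.toAlgebra
    haveI : IsArtinian E (B ⧸ I) := isArtinian_of_surjective_algebraMap (R := B ⧸ I) hprs
    have hmem : e₁ ∈ K₀ := he₁
    let g : (B ⧸ I) →ₗ[E] K₀ :=
      { toFun := fun y => ⟨Classical.choose (hprs y) * e₁, Ideal.mul_mem_left _ _ hmem⟩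
        map_add' := fun y y' => Subtype.ext (by
          show _ = _ * e₁ + _ * e₁
          rw [← add_mul, ← sub_eq_zero, ← sub_mul]
          refine hK₀ _ ?_ _ hmem
          rw [map_sub, map_add, Classical.choose_spec (hprs _), Classical.choose_spec (hprs y),
            Classical.choose_spec (hprs y'), sub_self])
        map_smul' := fun e y => Subtype.ext (by
          show _ = e * (_ * e₁)
          rw [← mul_assoc, ← sub_eq_zero, ← sub_mul]
          refine hK₀ _ ?_ _ hmem
          rw [map_sub, map_mul, Classical.choose_spec (hprs _), Classical.choose_spec (hprs y)]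
          exact sub_self _) }
    haveI : IsArtinian E K₀ := isArtinian_of_surjective _ g fun ⟨z, hz⟩ => by
      obtain ⟨c, rfl⟩ := hcyc z hz
      refine ⟨pr c, Subtype.ext ?_⟩
      show Classical.choose (hprs (pr c)) * e₁ = c * e₁
      rw [← sub_eq_zero, ← sub_mul]
      exact hK₀ _ (by rw [map_sub, Classical.choose_spec (hprs (pr c)), sub_self]) _ hmem
    exact isArtinian_of_range_eq_ker K₀.subtype (Algebra.linearMap E (B ⧸ I)) (by
      rw [Submodule.range_subtype]; rfl)
  haveI : IsLocalHom (algebraMap A E) := ⟨fun a ha => by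
    have h1 := ha.map pr
    rw [AlgHom.commutes, IsScalarTower.algebraMap_apply A B (B ⧸ I)] at h1
    exact (isUnit_map_iff (algebraMap A B) a).mp
      ((IsLocalHom.of_surjective (Ideal.Quotient.mk I) Ideal.Quotient.mk_surjective).map_nonunit _ h1)⟩
  let e : (E ⧸ K₀) ≃ₐ[A] B ⧸ I := Ideal.quotientKerAlgEquivOfSurjective hprs
  haveI : Nontrivial (E ⧸ K₀) := e.toEquiv.nontrivial
  haveI : IsLocalRing (E ⧸ K₀) := IsLocalRing.of_surjective' _ Ideal.Quotient.mk_surjective
  let u' : B →ₐ[A] E ⧸ K₀ := e.symm.toAlgHom.comp (Ideal.Quotient.mkₐ A I)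
  have hu's : Function.Surjective u'.toRingHom := e.symm.surjective.comp Ideal.Quotient.mk_surjective
  haveI : IsLocalHom u'.toRingHom := IsLocalHom.of_surjective _ hu's
  obtain ⟨f, -, hf⟩ := H E K₀ hnil u' ⟨RingHom.injective _, fun y => by
    obtain ⟨z, rfl⟩ := residue_surjective y
    obtain ⟨b, rfl⟩ := hu's z
    exact ⟨residue B b, ResidueField.map_residue _ _⟩⟩
  refine ⟨f, fun b => ?_⟩
  have h1 : Ideal.Quotient.mk K₀ (f b) = e.symm (Ideal.Quotient.mk I b) := AlgHom.congr_fun hf b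
  rw [← e.apply_symm_apply (Ideal.Quotient.mk I b), ← h1]
  rfl

open IsLocalRing in
/-- Lifting along an ideal killed by the maximal ideal, from lifting into Artinian local rings. -/
theorem exists_lift_residue {A B : Type u} [CommRing A] [IsLocalRing A] [CommRing B] [IsLocalRing B] [IsNoetherianRing B]
    [Algebra A B] [IsLocalHom (algebraMap A B)]
    (H : ∀ (C : Type u) [CommRing C] [IsLocalRing C] [IsArtinianRing C] [Algebra A C] [IsLocalHom (algebraMap A C)]
        (J : Ideal C), IsNilpotent J → ∀ [IsLocalRing (C ⧸ J)] (u : B →ₐ[A] C ⧸ J) [IsLocalHom u.toRingHom],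
        Function.Bijective (ResidueField.map u.toRingHom) →
        ∃ f : B →ₐ[A] C, IsLocalHom f.toRingHom ∧ (Ideal.Quotient.mkₐ A J).comp f = u)
    {C : Type u} [CommRing C] [Algebra A C] (J : Ideal C) (hJ : J ^ 2 = ⊥) (u : B →ₐ[A] C ⧸ J)
    (N : ℕ) (hN : ∀ x ∈ maximalIdeal B ^ N, u x = 0) (M : Ideal C)
    (hM : ∀ b ∈ maximalIdeal B, ∀ c, Ideal.Quotient.mk J c = u b → c ∈ M) (hMJ : ∀ c ∈ M, ∀ x ∈ J, c * x = 0) :
    ∃ v : B →ₐ[A] C, (Ideal.Quotient.mkₐ A J).comp v = u := by
  classical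
  have hJJ : ∀ x ∈ J, ∀ y ∈ J, x * y = 0 := fun x hx y hy => by
    rw [← Ideal.mem_bot, ← hJ, sq]; exact Ideal.mul_mem_mul hx hy
  have hJM : J ≤ M := fun x hx => hM 0 (zero_mem _) x (by rw [map_zero, Ideal.Quotient.eq_zero_iff_mem.mpr hx])
  -- the vector space structure on `J`
  let K := ResidueField B
  let h : K →+* C ⧸ M := Ideal.Quotient.lift (maximalIdeal B)
    ((Ideal.Quotient.factor hJM).comp u.toRingHom) (fun b hb => by
      obtain ⟨c, hc⟩ := Ideal.Quotient.mk_surjective (u b)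
      show Ideal.Quotient.factor hJM (u b) = 0
      rw [← hc, Ideal.Quotient.factor_mk, Ideal.Quotient.eq_zero_iff_mem]
      exact hM b hb c hc)
  have htor : Module.IsTorsionBySet C J (M : Set C) := fun x c => Subtype.ext (hMJ c.1 c.2 x.1 x.2)
  letI : Module (C ⧸ M) J := htor.module
  letI : Module K J := Module.compHom J h
  have hsmul : ∀ (b : B) (c : C), Ideal.Quotient.mk J c = u b → ∀ x : J, ((residue B b • x : J) : C) = c * x := by
    intro b c hc x
    show ((Ideal.Quotient.factor hJM (u b) • x : J) : C) = _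
    rw [← hc, Ideal.Quotient.factor_mk, Module.IsTorsionBySet.mk_smul]
    rfl
  -- the presentation
  let π : MvPolynomial B A →ₐ[A] B := MvPolynomial.aeval id
  have hπ : Function.Surjective π := fun b => ⟨MvPolynomial.X b, MvPolynomial.aeval_X _ _⟩
  choose s hs using fun b => Ideal.Quotient.mk_surjective (u b)
  let σ : MvPolynomial B A →ₐ[A] C := MvPolynomial.aeval s
  have hσ : ∀ p, Ideal.Quotient.mk J (σ p) = u (π p) := fun p => by
    refine AlgHom.congr_fun (φ₁ := (Ideal.Quotient.mkₐ A J).comp σ) (φ₂ := u.comp π) (MvPolynomial.algHom_ext fun b => ?_) p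
    simp [σ, π, hs]
  letI : Algebra (MvPolynomial B A) K := ((residue B).comp π.toRingHom).toAlgebra
  haveI : IsScalarTower A (MvPolynomial B A) K := IsScalarTower.of_algebraMap_eq fun a => by
    show residue B (algebraMap A B a) = residue B (π (algebraMap A _ a))
    rw [π.commutes]
  let D₀ : Derivation A (MvPolynomial B A) (B →₀ K) := MvPolynomial.mkDerivation A fun b => Finsupp.single b 1
  have hD₀ : ∀ (p : MvPolynomial B A) (z : B →₀ K), p • z = residue B (π p) • z := fun p z =>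
    (algebraMap_smul K p z).symm
  -- for each functional
  have key : ∀ φ : J →ₗ[K] K, ∃ L : (B →₀ K) →ₗ[K] K,
      ∀ x (hx : π x = 0), φ ⟨σ x, Ideal.Quotient.eq_zero_iff_mem.mp (by rw [hσ, hx, map_zero])⟩ = L (D₀ x) := by
    intro φ
    -- the Artinian ring attached to `φ`
    let I := maximalIdeal B ^ (N + 1)
    have hI : ∀ x ∈ I, u x = 0 := fun x hx => hN x (Ideal.pow_le_pow_right (Nat.le_succ N) hx)
    let B' := B ⧸ I
    haveI : Nontrivial B' := Ideal.Quotient.nontrivial_iff.mpr fun h =>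
      (maximalIdeal.isMaximal B).ne_top (top_le_iff.mp (h ▸ Ideal.pow_le_self (Nat.succ_ne_zero N)))
    haveI : IsArtinianRing B' := by
      haveI : IsLocalRing B' := IsLocalRing.of_surjective' _ Ideal.Quotient.mk_surjective
      refine isArtinianRing_iff_isNilpotent_maximalIdeal B' |>.mpr ⟨N + 1, ?_⟩
      rw [← IsLocalRing.map_maximalIdeal_of_surjective _ Ideal.Quotient.mk_surjective, ← Ideal.map_pow,
        Ideal.map_quotient_self, Submodule.zero_eq_bot]
    haveI : IsLocalRing B' := IsLocalRing.of_surjective' _ Ideal.Quotient.mk_surjective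
    let ū : B' →ₐ[A] C ⧸ J := Ideal.Quotient.liftₐ I u hI
    have hS : ∀ q : pb J ū, Ideal.Quotient.mk J q.1.1 = ū q.1.2 := fun q => q.2
    obtain ⟨E, _, _, pr, q₀, hq₀, hpq, hq0⟩ := exists_ext J ū φ.toAddMonoidHom (fun q x hx => by
      obtain ⟨b, hb⟩ := Ideal.Quotient.mk_surjective q.1.2
      have h1 := hsmul b q.1.1 (by rw [hS, ← hb]; rfl) x
      rw [show (⟨q.1.1 * x, Ideal.mul_mem_left J _ x.2⟩ : J) = residue B b • x from Subtype.ext h1.symm]
      show φ _ = 0
      rw [map_smul, show φ x = 0 from hx, smul_zero])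
    let lift₀ : J → pb J ū := fun x => ⟨(x.1, 0), by
      show Ideal.Quotient.mk J x.1 = ū 0
      rw [map_zero, Ideal.Quotient.eq_zero_iff_mem]; exact x.2⟩
    let inc : J → E := fun x => q₀ (lift₀ x)
    have hinc : ∀ x, inc x = 0 ↔ φ x = 0 := fun x =>
      (hq0 _).trans ⟨fun ⟨_, _, h⟩ => h, fun h => ⟨rfl, x.2, h⟩⟩
    have hincadd : ∀ x y, inc (x + y) = inc x + inc y := fun x y => by
      show q₀ _ = q₀ _ + q₀ _
      rw [← map_add]
      exact congrArg q₀ (Subtype.ext (Prod.ext rfl (zero_add 0).symm))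
    have hprs : Function.Surjective pr := fun y => by
      obtain ⟨c, hc⟩ := Ideal.Quotient.mk_surjective (ū y)
      exact ⟨q₀ ⟨(c, y), hc⟩, hpq _⟩
    have hprinc : ∀ x, pr (inc x) = 0 := fun x => hpq _
    have hkpr : ∀ z, pr z = 0 → ∃ x, inc x = z := fun z hz => by
      obtain ⟨⟨⟨c, y⟩, hq⟩, rfl⟩ := hq₀ z
      rw [hpq] at hz
      obtain rfl : y = 0 := hz
      exact ⟨⟨c, Ideal.Quotient.eq_zero_iff_mem.mp ((hS ⟨(c, 0), hq⟩).trans (map_zero ū))⟩, rfl⟩
    have hmul : ∀ (z : E) (b : B) (x : J), pr z = Ideal.Quotient.mk I b → z * inc x = inc (residue B b • x) := fun z b x hz => by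
      obtain ⟨⟨⟨c, y⟩, hq⟩, rfl⟩ := hq₀ z
      rw [hpq] at hz
      obtain rfl : y = Ideal.Quotient.mk I b := hz
      show q₀ _ * q₀ _ = q₀ _
      rw [← map_mul]
      exact congrArg q₀ (Subtype.ext (Prod.ext (hsmul b c ((hS ⟨(c, _), hq⟩).trans rfl) x).symm (mul_zero _)))
    have hK₀ : ∀ z, pr z = 0 → ∀ z', pr z' = 0 → z * z' = 0 := fun z hz z' hz' => by
      obtain ⟨x, rfl⟩ := hkpr z' hz'
      rw [hmul z 0 x (by rw [hz, map_zero]), map_zero, zero_smul, hinc, map_zero]
    obtain ⟨x₁, hx₁⟩ : ∃ x₁ : J, ∀ x, ∃ r : K, φ x = r * φ x₁ := by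
      by_cases hφ : ∀ x, φ x = 0
      · exact ⟨0, fun x => ⟨0, by rw [zero_mul, hφ]⟩⟩
      · push Not at hφ
        obtain ⟨x₁, hx₁⟩ := hφ
        exact ⟨x₁, fun x => ⟨φ x * (φ x₁)⁻¹, by rw [mul_assoc, inv_mul_cancel₀ hx₁, mul_one]⟩⟩
    obtain ⟨f, hprf⟩ := exists_lift_small H I pr hprs hK₀ (inc x₁) (hprinc x₁) fun z hz => by
      obtain ⟨x, rfl⟩ := hkpr z hz
      obtain ⟨r, hr⟩ := hx₁ x
      obtain ⟨b, rfl⟩ := residue_surjective r
      obtain ⟨c, hc⟩ := hprs (Ideal.Quotient.mk I b)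
      refine ⟨c, ?_⟩
      rw [hmul c b x₁ hc]
      have h2 : φ (residue B b • x₁ - x) = 0 := by rw [map_sub, map_smul, smul_eq_mul, hr, sub_self]
      have h3 := hincadd (residue B b • x₁ - x) x
      rwa [(hinc _).mpr h2, zero_add, sub_add_cancel] at h3
    let σ' : MvPolynomial B A →ₐ[A] E := q₀.comp
      ((σ.prod ((Ideal.Quotient.mkₐ A I).comp π)).codRestrict (pb J ū) fun p => hσ p)
    have hprσ : ∀ p, pr (σ' p) = Ideal.Quotient.mk I (π p) := fun p => hpq _
    choose xb hxb using fun b : B => hkpr (f b - σ' (MvPolynomial.X b)) (by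
      rw [map_sub, hprf, hprσ, show π (MvPolynomial.X b) = b from MvPolynomial.aeval_X _ _, sub_self])
    refine ⟨-Finsupp.linearCombination K (fun b => φ (xb b)), fun x hx => ?_⟩
    have hind : ∀ p, ∃ y : J, inc y = f (π p) - σ' p ∧ φ y = Finsupp.linearCombination K (fun b => φ (xb b)) (D₀ p) := by
      intro p
      induction p using MvPolynomial.induction_on with
      | C a =>
        refine ⟨0, ?_, ?_⟩
        · rw [(hinc 0).mpr (map_zero φ), ← MvPolynomial.algebraMap_eq, π.commutes, f.commutes, σ'.commutes, sub_self]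
        · rw [show D₀ (MvPolynomial.C a) = 0 from D₀.map_algebraMap a, map_zero, map_zero]
      | add p q hp hq =>
        obtain ⟨y, hy, hy'⟩ := hp
        obtain ⟨z, hz, hz'⟩ := hq
        refine ⟨y + z, ?_, by rw [map_add, hy', hz', map_add D₀, map_add]⟩
        rw [hincadd, hy, hz, map_add π, map_add f, map_add σ']
        abel
      | mul_X p b hp =>
        obtain ⟨y, hy, hy'⟩ := hp
        refine ⟨residue B (π p) • xb b + residue B b • y, ?_, ?_⟩
        · have hpX : π (MvPolynomial.X b) = b := MvPolynomial.aeval_X _ _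
          have h1 : pr (σ' (MvPolynomial.X b)) = Ideal.Quotient.mk I b := by rw [hprσ, hpX]
          rw [hincadd, ← hmul (σ' p) _ (xb b) (hprσ p), ← hmul _ b y h1, map_mul π, map_mul f, map_mul σ', hpX, hxb, hy]
          have h0 : (f (π p) - σ' p) * (f b - σ' (MvPolynomial.X b)) = 0 := hy ▸ hxb b ▸ hK₀ _ (hprinc y) _ (hprinc (xb b))
          linear_combination -h0
        · rw [map_add, map_smul, map_smul, hy', D₀.leibniz, MvPolynomial.mkDerivation_X, hD₀, hD₀, map_add, map_smul,
            map_smul, Finsupp.linearCombination_single, one_smul, show π (MvPolynomial.X b) = b from MvPolynomial.aeval_X _ _]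
    obtain ⟨y, hy, hy'⟩ := hind x
    have hxJ : σ x ∈ J := Ideal.Quotient.eq_zero_iff_mem.mp (by rw [hσ, hx, map_zero])
    have h1 : inc (y + ⟨σ x, hxJ⟩) = 0 := by
      have h2 : inc ⟨σ x, hxJ⟩ = σ' x := by
        show q₀ _ = q₀ _
        congr 1
        exact Subtype.ext (Prod.ext rfl (by show (0 : B') = Ideal.Quotient.mk I (π x); rw [hx, map_zero]))
      rw [hincadd, hy, h2, hx, map_zero, zero_sub, neg_add_cancel]
    rw [hinc, map_add] at h1
    rw [LinearMap.neg_apply, ← hy']
    exact eq_neg_of_add_eq_zero_right h1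
  -- the common solution
  let ι := {x : MvPolynomial B A // π x = 0}
  let T : (ι →₀ K) →ₗ[K] (B →₀ K) := Finsupp.linearCombination K fun x : ι => D₀ x.1
  let δ : (ι →₀ K) →ₗ[K] J := Finsupp.linearCombination K fun x : ι =>
    (⟨σ x.1, Ideal.Quotient.eq_zero_iff_mem.mp (by rw [hσ, x.2, map_zero])⟩ : J)
  have hker : LinearMap.ker T ≤ LinearMap.ker δ := fun z hz => by
    rw [LinearMap.mem_ker] at hz ⊢
    refine (Module.forall_dual_apply_eq_zero_iff K _).mp fun φ => ?_
    obtain ⟨L, hL⟩ := key φ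
    have h1 : φ ∘ₗ δ = L ∘ₗ T := Finsupp.lhom_ext fun x c => by
      simp [T, δ, hL x.1 x.2]
    have h2 := LinearMap.congr_fun h1 z
    rw [LinearMap.comp_apply, LinearMap.comp_apply, hz, map_zero] at h2
    exact h2
  obtain ⟨v, hv⟩ := LinearMap.exists_extend (((LinearMap.ker T).liftQ δ hker).comp T.quotKerEquivRange.symm.toLinearMap)
  let D : MvPolynomial B A → C := fun p => (v (D₀ p) : J)
  have hvT : ∀ x : ι, σ x.1 = D x.1 := fun x => by
    have hm : D₀ x.1 ∈ LinearMap.range T := ⟨Finsupp.single x 1, by simp [T]⟩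
    have h1 := LinearMap.congr_fun hv ⟨D₀ x.1, hm⟩
    have h2 : T.quotKerEquivRange.symm ⟨D₀ x.1, hm⟩ = Submodule.Quotient.mk (Finsupp.single x 1) :=
      (LinearEquiv.symm_apply_eq _).mpr (Subtype.ext (by simp [T]))
    simp only [LinearMap.comp_apply, Submodule.subtype_apply, LinearEquiv.coe_coe, h2, Submodule.liftQ_apply] at h1
    show σ x.1 = (v (D₀ x.1) : C)
    rw [h1]
    simp [δ]
  let w : MvPolynomial B A →ₐ[A] C :=
    { toFun := fun p => σ p - D p
      map_one' := by simp [D]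
      map_zero' := by simp [D]
      map_add' := fun p q => by simp [D]; ring
      commutes' := fun a => by simp [D]
      map_mul' := fun p q => by
        have h1 : D (p * q) = σ p * D q + σ q * D p := by
          show ((v (D₀ (p * q)) : J) : C) = _
          rw [D₀.leibniz, hD₀, hD₀, map_add, map_smul, map_smul, Submodule.coe_add, hsmul _ _ (hσ p), hsmul _ _ (hσ q)]
        have h2 : D p * D q = 0 := hJJ _ (v (D₀ p)).2 _ (v (D₀ q)).2
        rw [map_mul, h1]
        linear_combination -h2 }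
  have hw : ∀ x ∈ RingHom.ker π.toRingHom, w x = 0 := fun x hx => sub_eq_zero.mpr (hvT ⟨x, hx⟩)
  let v' : B →ₐ[A] C := (Ideal.Quotient.liftₐ (RingHom.ker π.toRingHom) w hw).comp
    (Ideal.quotientKerAlgEquivOfSurjective hπ).symm.toAlgHom
  refine ⟨v', AlgHom.ext fun b => ?_⟩
  obtain ⟨p, rfl⟩ := hπ b
  have h1 : (Ideal.quotientKerAlgEquivOfSurjective hπ).symm (π p) = Ideal.Quotient.mk _ p :=
    (AlgEquiv.symm_apply_eq _).mpr rfl
  show Ideal.Quotient.mk J (Ideal.Quotient.liftₐ (RingHom.ker π.toRingHom) w hw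
    ((Ideal.quotientKerAlgEquivOfSurjective hπ).symm (π p))) = _
  rw [h1]
  show Ideal.Quotient.mk J (σ p - D p) = _
  rw [map_sub, Ideal.Quotient.eq_zero_iff_mem.mpr (v (D₀ p)).2, sub_zero, hσ]

open IsLocalRing in
/-- Let A → B be a local homomorphism of Noetherian local rings with the adic topologies, K the residue
field of B. Then B is formally smooth over A if and only if: for every Artinian local ring C with a
local homomorphism A → C, every nilpotent ideal J of C and every local A-algebra homomorphism u : B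
→ C/J inducing a bijection of residue fields (so that C has residue field K and u induces the
identity on it), u is induced by a local A-algebra homomorphism B → C. -/
theorem result {A B : Type u} [CommRing A] [IsLocalRing A] [IsNoetherianRing A] [CommRing B] [IsLocalRing B] [IsNoetherianRing B]
    [Algebra A B] [IsLocalHom (algebraMap A B)] :
    EGA41.IsFormallySmoothAdic A (maximalIdeal A) B (maximalIdeal B) ↔
      ∀ (C : Type u) [CommRing C] [IsLocalRing C] [IsArtinianRing C] [Algebra A C] [IsLocalHom (algebraMap A C)]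
        (J : Ideal C), IsNilpotent J → ∀ [IsLocalRing (C ⧸ J)] (u : B →ₐ[A] C ⧸ J) [IsLocalHom u.toRingHom],
        Function.Bijective (ResidueField.map u.toRingHom) →
        ∃ f : B →ₐ[A] C, IsLocalHom f.toRingHom ∧ (Ideal.Quotient.mkₐ A J).comp f = u := by
  refine ⟨fun h C _ _ _ _ _ J hJ _ u _ _ => ?_, fun H => ?_⟩
  · obtain ⟨k, hk⟩ := IsArtinianRing.isNilpotent_jacobson_bot (R := C)
    rw [IsLocalRing.jacobson_eq_maximalIdeal ⊥ bot_ne_top] at hk
    obtain ⟨f, hf⟩ := h C J hJ ⟨k, by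
      rw [eq_bot_iff, Ideal.map_pow]
      refine le_trans (Ideal.pow_right_mono ?_ k) hk.le
      exact Ideal.map_le_iff_le_comap.mpr fun a ha => by simpa [mem_maximalIdeal] using ha⟩ u ⟨k, fun x hx => by
      have h1 := Ideal.mem_map_of_mem u.toRingHom hx
      rw [Ideal.map_pow] at h1
      have h2 : (maximalIdeal B).map u.toRingHom ≤ maximalIdeal (C ⧸ J) :=
        ((IsLocalRing.local_hom_TFAE u.toRingHom).out 0 2).mp ‹_›
      have h3 := Ideal.pow_right_mono h2 k h1
      rw [← IsLocalRing.map_maximalIdeal_of_surjective (Ideal.Quotient.mk J) Ideal.Quotient.mk_surjective,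
        ← Ideal.map_pow, hk] at h3
      simpa using h3⟩
    refine ⟨f, ⟨fun b hb => ?_⟩, hf⟩
    refine (‹IsLocalHom u.toRingHom›).map_nonunit b ?_
    have h1 : u b = Ideal.Quotient.mk J (f b) := (AlgHom.congr_fun hf b).symm
    show IsUnit (u b)
    rw [h1]
    exact hb.map (Ideal.Quotient.mk J)
  · refine isFormallySmoothAdic_of_sq fun C _ _ J hJ _ u hu => ?_
    obtain ⟨N, hN⟩ := hu
    suffices ∀ (n : ℕ) (J : Ideal C) (u : B →ₐ[A] C ⧸ J) (N : ℕ) (M : Ideal C), J ^ 2 = ⊥ →
        (∀ x ∈ maximalIdeal B ^ N, u x = 0) → (∀ b ∈ maximalIdeal B, ∀ c, Ideal.Quotient.mk J c = u b → c ∈ M) →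
        M ^ n * J = ⊥ → ∃ v : B →ₐ[A] C, (Ideal.Quotient.mkₐ A J).comp v = u by
      refine this N J u N (((maximalIdeal B).map u.toRingHom).comap (Ideal.Quotient.mk J)) hJ hN
        (fun b hb c hc => ?_) ?_
      · rw [Ideal.mem_comap, hc]; exact Ideal.mem_map_of_mem u.toRingHom hb
      · rw [eq_bot_iff, ← hJ, sq]
        refine Ideal.mul_mono_left ?_
        refine (Ideal.le_comap_pow (Ideal.Quotient.mk J) N).trans ?_
        intro x hx
        rw [Ideal.mem_comap, ← Ideal.map_pow, show (maximalIdeal B ^ N).map u.toRingHom = ⊥ from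
          le_bot_iff.mp (Ideal.map_le_iff_le_comap.mpr fun y hy => by simpa using hN y hy), Ideal.mem_bot,
          Ideal.Quotient.eq_zero_iff_mem] at hx
        exact hx
    intro n
    induction n with
    | zero =>
      intro J u N M hJ hN hM hn
      rw [pow_zero, Ideal.one_eq_top, Ideal.top_mul] at hn
      exact exists_lift_residue H J hJ u N hN M hM fun c _ x hx => by
        rw [show x = 0 from (Submodule.mem_bot C).mp (hn ▸ hx), mul_zero]
    | succ n ih =>
      intro J u N M hJ hN hM hn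
      let L := M * J
      have hLJ : L ≤ J := Ideal.mul_le_right
      let e : ((C ⧸ L) ⧸ J.map (Ideal.Quotient.mk L)) ≃ₐ[A] C ⧸ J := DoubleQuot.quotQuotEquivQuotOfLEₐ A hLJ
      have hJ' : (J.map (Ideal.Quotient.mk L)) ^ 2 = ⊥ := by rw [← Ideal.map_pow, hJ, Ideal.map_bot]
      obtain ⟨g, hg⟩ := exists_lift_residue H (J.map (Ideal.Quotient.mk L)) hJ' (e.symm.toAlgHom.comp u) N
        (fun x hx => by simp [hN x hx]) (M.map (Ideal.Quotient.mk L)) (fun b hb c hc => by
          obtain ⟨c, rfl⟩ := Ideal.Quotient.mk_surjective c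
          refine Ideal.mem_map_of_mem _ (hM b hb c ?_)
          have h1 := congrArg e hc
          exact h1.trans (e.apply_symm_apply _))
        (fun c hc x hx => by
          obtain ⟨c', hc', rfl⟩ := (Ideal.mem_map_iff_of_surjective _ Ideal.Quotient.mk_surjective).mp hc
          obtain ⟨x', hx', rfl⟩ := (Ideal.mem_map_iff_of_surjective _ Ideal.Quotient.mk_surjective).mp hx
          rw [← map_mul, Ideal.Quotient.eq_zero_iff_mem]
          exact Ideal.mul_mem_mul hc' hx')
      obtain ⟨N', hN'⟩ := continuous_of_quotient ⟨2, hJ'⟩ g (maximalIdeal B) ⟨N, fun x hx => by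
        have := AlgHom.congr_fun hg x
        simp only [AlgHom.comp_apply, Ideal.Quotient.mkₐ_eq_mk] at this
        rw [this]
        simp [hN x hx]⟩
      have key : ∀ (b : B) (c : C), Ideal.Quotient.mk L c = g b → Ideal.Quotient.mk J c = u b := fun b c hc => by
        have h1 := congrArg e (AlgHom.congr_fun hg b)
        simp only [AlgHom.comp_apply, Ideal.Quotient.mkₐ_eq_mk, ← hc] at h1
        exact h1.trans (e.apply_symm_apply _)
      obtain ⟨f, hf⟩ := ih L g N' M (le_bot_iff.mp ((Ideal.pow_right_mono hLJ 2).trans hJ.le)) hN'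
        (fun b hb c hc => hM b hb c (key b c hc)) (by rw [← mul_assoc, ← pow_succ]; exact hn)
      exact ⟨f, AlgHom.ext fun b => key b (f b) (AlgHom.congr_fun hf b)⟩

end Groth.Agent.S2481
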