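import Groth.Statements.S2482
import Groth.Agent.Ega41Flat.Cohen
open Groth.Ega41Flat

set_option autoImplicit false
universe u
open EGA41

namespace Groth.Agent.S2482

open IsLocalRing in
/-- (a) ⟹ (b): let A, B be complete discrete valuation rings and u : A → B a ring homomorphism with
u(𝔪_A)B = 𝔪_B, such that the residue field L of B is separable over the residue field K of A. Then
for every complete discrete valuation ring B', every homomorphism u' : A → B' with u'(𝔪_A)B' =
𝔪_{B'} and every isomorphism σ of residue fields L ≅ L' compatible with the maps from K, there is an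
isomorphism w : B ≅ B' with u' = w ∘ u inducing σ on residue fields. -/
theorem result {A B B' : Type u} [CommRing A] [IsDomain A] [IsDiscreteValuationRing A] [IsAdicComplete (maximalIdeal A) A]
    [CommRing B] [IsDomain B] [IsDiscreteValuationRing B] [IsAdicComplete (maximalIdeal B) B]
    [CommRing B'] [IsDomain B'] [IsDiscreteValuationRing B'] [IsAdicComplete (maximalIdeal B') B']
    (u : A →+* B) [IsLocalHom u] (hu : (maximalIdeal A).map u = maximalIdeal B)
    (hsep : letI := (ResidueField.map u).toAlgebra; Algebra.IsGeometricallyReduced (ResidueField A) (ResidueField B))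
    (u' : A →+* B') [IsLocalHom u'] (hu' : (maximalIdeal A).map u' = maximalIdeal B')
    (σ : ResidueField B ≃+* ResidueField B') (hσ : (σ : ResidueField B →+* ResidueField B').comp (ResidueField.map u) = ResidueField.map u') :
    ∃ w : B ≃+* B', (w : B →+* B').comp u = u' ∧ ∀ b : B, residue B' (w b) = σ (residue B b) := by
  letI := u.toAlgebra
  letI := u'.toAlgebra
  haveI : IsLocalHom (algebraMap A B) := ‹IsLocalHom u›
  haveI : IsLocalHom (algebraMap A B') := ‹IsLocalHom u'›
  have hflat : ∀ (C : Type u) [CommRing C] [IsDomain C] [IsDiscreteValuationRing C] [Algebra A C],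
      (maximalIdeal A).map (algebraMap A C) = maximalIdeal C → Module.Flat A C := by
    intro C _ _ _ _ hC
    have hinj : Function.Injective (algebraMap A C) := by
      rw [RingHom.injective_iff_ker_eq_bot]
      by_contra hne
      have hker : RingHom.ker (algebraMap A C) = maximalIdeal A :=
        IsLocalRing.eq_maximalIdeal (Ideal.IsPrime.isMaximal (RingHom.ker_isPrime _) hne)
      apply IsDiscreteValuationRing.not_a_field C
      rw [← hC, Ideal.map_eq_bot_iff_le_ker, hker]
    rw [Module.Flat.flat_iff_torsion_eq_bot_of_isBezout, eq_bot_iff]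
    rintro x ⟨⟨r, hr⟩, hx⟩
    have hx' : algebraMap A C r * x = 0 := by rw [← Algebra.smul_def]; exact hx
    exact (mul_eq_zero.mp hx').resolve_left ((map_ne_zero_iff _ hinj).mpr (nonZeroDivisors.ne_zero hr))
  haveI := hflat B' hu'
  have hsep' : Algebra.IsGeometricallyReduced (ResidueField A) (ResidueField B) := by
    convert hsep using 2
    exact Algebra.algebra_ext _ _ fun x => by obtain ⟨a, rfl⟩ := residue_surjective x; rfl
  obtain ⟨v, hv⟩ := exists_algEquiv_of_isCohenAlgebra (A := A) (B := B) (C := B')
    ⟨inferInstance, inferInstance, inferInstance, hflat B hu, hu, hsep'⟩ hu' σ fun a => RingHom.congr_fun hσ (residue A a)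
  exact ⟨v.toRingEquiv, RingHom.ext v.commutes, hv⟩

end Groth.Agent.S2482
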