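import Groth.Statements.S2483
import Groth.Agent.Ega41SymGr.PrimeField
import Groth.Agent.Ega41Adic.CompleteLift
import Mathlib.RingTheory.Unramified.Basic

set_option autoImplicit false
universe u
open EGA41

namespace Groth.Agent.S2483

open KaehlerDifferential in
theorem D_eq_zero_of_any {K F : Type u} [CommRing K] [inst : Algebra ℤ K] [CommRing F] [Algebra F K]
    (h : ∀ x : F, @D ℤ K _ _ (Ring.toIntAlgebra K) (algebraMap F K x) = 0) (x : F) :
    D ℤ K (algebraMap F K x) = 0 := by
  cases Subsingleton.elim inst (Ring.toIntAlgebra K)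
  exact h x

open IsLocalRing KaehlerDifferential in
theorem exists_other_section {C : Type u} [CommRing C] [IsLocalRing C] [IsNoetherianRing C]
    [IsAdicComplete (maximalIdeal C) C] (hm : maximalIdeal C ≠ ⊥) (u : ResidueField C →+* C)
    (hu : ∀ x, residue C (u x) = x) [Nontrivial (Ω[ResidueField C⁄ℤ])] :
    ∃ v : ResidueField C →+* C, (∀ x, residue C (v x) = x) ∧ v ≠ u := by
  classical
  let K := ResidueField C
  let V := CotangentSpace C
  haveI : Nontrivial V := by
    by_contra hV
    rw [not_nontrivial_iff_subsingleton] at hV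
    refine hm (Submodule.eq_bot_of_le_smul_of_le_jacobson_bot _ _ (IsNoetherian.noetherian _) (fun x hx => ?_)
      (maximalIdeal_le_jacobson _))
    have := (Ideal.toCotangent_eq_zero _ ⟨x, hx⟩).mp (@Subsingleton.elim _ hV _ _)
    rwa [smul_eq_mul, ← pow_two]
  obtain ⟨ω, hω⟩ := exists_ne (0 : Ω[K⁄ℤ])
  obtain ⟨e, he⟩ := exists_ne (0 : V)
  obtain ⟨φ, hφ⟩ : ∃ φ : Ω[K⁄ℤ] →ₗ[K] V, φ ω ≠ 0 := by
    obtain ⟨f, hf⟩ := LinearMap.exists_leftInverse_of_injective (LinearMap.toSpanSingleton K _ ω)
      (LinearMap.ker_toSpanSingleton K hω)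
    refine ⟨(LinearMap.toSpanSingleton K V e) ∘ₗ f, ?_⟩
    have h1 : f ω = 1 := by simpa using LinearMap.congr_fun hf 1
    simp [h1, he]
  let d : K → V := fun x => φ (D ℤ K x)
  obtain ⟨a₀, ha₀⟩ : ∃ a, d a ≠ 0 := by
    by_contra! h
    refine hφ ?_
    have hle : (⊤ : Submodule K Ω[K⁄ℤ]) ≤ LinearMap.ker φ := by
      rw [← span_range_derivation, Submodule.span_le]
      rintro _ ⟨a, rfl⟩
      exact LinearMap.mem_ker.mpr (show φ (D ℤ K a) = 0 from h a)
    exact hle trivial
  choose y hy using fun x => Ideal.toCotangent_surjective (maximalIdeal C) (d x)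
  obtain ⟨F, _, _, hFK, hD, -⟩ := Groth.Ega41SymGr.exists_primeField_D K
  letI : Algebra F C := (u.comp (algebraMap F K)).toAlgebra
  have hsmul : ∀ (a : K) (z : maximalIdeal C),
      a • (maximalIdeal C).toCotangent z = (maximalIdeal C).toCotangent (u a • z) := fun a z => by
    conv_lhs => rw [← hu a]
    rw [map_smul, ← algebraMap_smul K (u a)]
    rfl
  have hlift : ∀ (x : K) (z : maximalIdeal C), d x = (maximalIdeal C).toCotangent z →
      (y x : C) - z ∈ maximalIdeal C ^ 2 := fun x z h => (Ideal.toCotangent_eq _).mp ((hy x).trans h)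
  let w : K →ₐ[F] C ⧸ maximalIdeal C ^ 2 :=
    { toFun := fun x => Ideal.Quotient.mk _ (u x + (y x : C))
      map_one' := by
        rw [map_one, ← map_one (Ideal.Quotient.mk (maximalIdeal C ^ 2)), Ideal.Quotient.eq, add_sub_cancel_left]
        exact (Ideal.toCotangent_eq_zero _ _).mp ((hy 1).trans (by simp [d]))
      map_mul' := fun a b => by
        rw [← map_mul (Ideal.Quotient.mk _), Ideal.Quotient.eq]
        have h1 := hlift (a * b) (u a • y b + u b • y a) (by
          rw [map_add, ← hsmul, ← hsmul, hy, hy]; simp [d])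
        have h2 : (y a : C) * y b ∈ maximalIdeal C ^ 2 := by
          rw [pow_two]; exact Ideal.mul_mem_mul (y a).2 (y b).2
        have h3 := sub_mem h1 h2
        simp only [Submodule.coe_add, Submodule.coe_smul, smul_eq_mul] at h3
        rw [map_mul]
        convert h3 using 1
        ring
      map_zero' := by
        rw [map_zero, zero_add, Ideal.Quotient.eq_zero_iff_mem]
        exact (Ideal.toCotangent_eq_zero _ _).mp ((hy 0).trans (by simp [d]))
      map_add' := fun a b => by
        rw [← map_add (Ideal.Quotient.mk _), Ideal.Quotient.eq, map_add]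
        have h1 := hlift (a + b) (y a + y b) (by rw [map_add, hy, hy]; simp [d])
        rw [Submodule.coe_add] at h1
        convert h1 using 1
        ring
      commutes' := fun c => by
        show Ideal.Quotient.mk _ _ = Ideal.Quotient.mk _ (u (algebraMap F K c))
        rw [Ideal.Quotient.eq, add_sub_cancel_left]
        refine (Ideal.toCotangent_eq_zero _ _).mp ((hy _).trans ?_)
        show φ (D ℤ K (algebraMap F K c)) = 0
        rw [D_eq_zero_of_any hD, map_zero] }
  haveI : IsHausdorff ((maximalIdeal C).map (Ideal.Quotient.mk (maximalIdeal C ^ 2))) (C ⧸ maximalIdeal C ^ 2) :=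
    ⟨fun x hx => by
      have h := hx 2
      rw [smul_eq_mul, Ideal.mul_top, ← Ideal.map_pow, Ideal.map_quotient_self] at h
      exact SModEq.bot.mp h⟩
  obtain ⟨v, -, hv⟩ := Groth.Ega41Adic.exists_lift_complete (J := maximalIdeal C ^ 2) (𝔠 := maximalIdeal C)
    (Groth.Ega41Adic.isFormallySmoothAdic_bot_of_formallySmooth (A := F) (B := K))
    ⟨1, by rw [pow_one, Ideal.map_bot]; exact bot_le⟩ ⟨1, by rw [pow_one]; exact Ideal.pow_le_self two_ne_zero⟩ w
    ⟨1, by rw [pow_one, Ideal.map_bot]; exact bot_le⟩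
  have hv' : ∀ x, v x - (u x + y x) ∈ maximalIdeal C ^ 2 := fun x => Ideal.Quotient.eq.mp (AlgHom.congr_fun hv x)
  refine ⟨v.toRingHom, fun x => ?_, fun h => ha₀ ?_⟩
  · have h1 := (residue_eq_zero_iff _).mpr (Ideal.pow_le_self two_ne_zero (hv' x))
    rw [map_sub, sub_eq_zero, map_add, hu, (residue_eq_zero_iff _).mpr (y x).2, add_zero] at h1
    exact h1
  · rw [← hy, Ideal.toCotangent_eq_zero]
    have h1 := hv' a₀
    rw [show v a₀ = u a₀ from RingHom.congr_fun h a₀, sub_add_cancel_left] at h1
    exact neg_mem_iff.mp h1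

open IsLocalRing in
/-- Let C be a complete Noetherian local ring with maximal ideal 𝔍 ≠ 0 and residue field K, and u : K →
C a ring homomorphism which is a section of the residue map. Then u is the only such section if and
only if Ω_{K/ℤ} = 0. -/
theorem result {C : Type u} [CommRing C] [IsLocalRing C] [IsNoetherianRing C] [IsAdicComplete (maximalIdeal C) C]
    (hm : maximalIdeal C ≠ ⊥) (u : ResidueField C →+* C) (hu : ∀ x, residue C (u x) = x) :
    (∀ v : ResidueField C →+* C, (∀ x, residue C (v x) = x) → v = u) ↔ Subsingleton (Ω[ResidueField C⁄ℤ]) := by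
  constructor
  · intro huniq
    by_contra hsub
    haveI : Nontrivial (Ω[ResidueField C⁄ℤ]) := not_subsingleton_iff_nontrivial.mp hsub
    obtain ⟨v, hv, hne⟩ := exists_other_section hm u hu
    exact hne (huniq v hv)
  · intro hΩ v hv
    haveI : Algebra.FormallyUnramified ℤ (ResidueField C) := ⟨hΩ⟩
    refine RingHom.ext fun x => sub_eq_zero.mp (IsHausdorff.haus ‹IsAdicComplete (maximalIdeal C) C›.toIsHausdorff _ fun n => ?_)
    rw [SModEq.zero, smul_eq_mul, Ideal.mul_top]
    rw [← Ideal.Quotient.eq_zero_iff_mem, map_sub, sub_eq_zero]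
    have hnil : IsNilpotent ((maximalIdeal C).map (Ideal.Quotient.mk (maximalIdeal C ^ n))) := ⟨n, by
      rw [Submodule.zero_eq_bot, ← Ideal.map_pow, Ideal.map_quotient_self]⟩
    have h := Algebra.FormallyUnramified.lift_unique (R := ℤ) (A := ResidueField C) _ hnil
      { (Ideal.Quotient.mk (maximalIdeal C ^ n)).comp v with commutes' := fun c => by simp }
      { (Ideal.Quotient.mk (maximalIdeal C ^ n)).comp u with commutes' := fun c => by simp } (AlgHom.ext fun z => by
        show Ideal.Quotient.mk _ (Ideal.Quotient.mk _ (v z)) = Ideal.Quotient.mk _ (Ideal.Quotient.mk _ (u z))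
        rw [Ideal.Quotient.eq, ← map_sub]
        refine Ideal.mem_map_of_mem _ ?_
        rw [← residue_eq_zero_iff, map_sub, hv, hu, sub_self])
    exact AlgHom.congr_fun h x

end Groth.Agent.S2483
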