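import Groth.Statements.S2486
import Groth.Agent.Ega41Sep.Separable
import Groth.Agent.Ega41Sep.PInseparable
open Groth.Ega41Sep

set_option autoImplicit false
universe u
open EGA41

namespace Groth.Agent.S2486

/-- Let p be a prime, B an A-algebra of characteristic p and (x_α) a family of elements of B. Then (a) B
is generated as an A[B^p]-algebra by the x_α if and only if (b) (x_α) is a system of p-generators of
B over A; these imply (c) Ω_{B/A} is generated by the d x_α; and if B is an A[B^p]-algebra of finite
type, (c) implies (a). -/
theorem result (p : ℕ) [Fact p.Prime] {A B : Type u} [CommRing A] [CommRing B] [Algebra A B] [CharP B p]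
    {ι : Type u} (x : ι → B) :
    (Algebra.adjoin (EGA41.pPowerSubalgebra p A B) (Set.range x) = ⊤ ↔ EGA41.IsPGenerating p A x) ∧
    (EGA41.IsPGenerating p A x → Submodule.span B (Set.range fun i => KaehlerDifferential.D A B (x i)) = ⊤) ∧
    (Algebra.FiniteType (EGA41.pPowerSubalgebra p A B) B →
      Submodule.span B (Set.range fun i => KaehlerDifferential.D A B (x i)) = ⊤ → EGA41.IsPGenerating p A x) := by
  have hspan : ∀ (s : Set B) (y : B), y ∈ Algebra.adjoin (EGA41.pPowerSubalgebra p A B) s →
      KaehlerDifferential.D A B y ∈ Submodule.span B (KaehlerDifferential.D A B '' s) := by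
    intro s y hy
    induction hy using Algebra.adjoin_induction with
    | mem z hz => exact Submodule.subset_span ⟨z, hz, rfl⟩
    | algebraMap r =>
        show KaehlerDifferential.D A B (r : B) ∈ _
        rw [derivation_vanish_pPower _ r.2]; exact zero_mem _
    | add a b _ _ ha hb => rw [map_add]; exact add_mem ha hb
    | mul a b _ _ ha hb =>
        rw [Derivation.leibniz]
        exact add_mem (Submodule.smul_mem _ _ hb) (Submodule.smul_mem _ _ ha)
  refine ⟨isPGenerating_iff_adjoin.symm, fun h => ?_, fun hft h => ?_⟩
  · rw [eq_top_iff, ← KaehlerDifferential.span_range_derivation A B, Submodule.span_le]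
    rintro _ ⟨y, rfl⟩
    have := hspan (Set.range x) y (isPGenerating_iff_adjoin.mp h ▸ trivial)
    rwa [← Set.range_comp] at this
  · let P := EGA41.pPowerSubalgebra p A B
    let C := Algebra.adjoin P (Set.range x)
    haveI : Algebra.FiniteType C B := Algebra.FiniteType.of_restrictScalars_finiteType P C B
    haveI : Subsingleton (Ω[B⁄C]) := by
      refine subsingleton_of_forall_eq 0 fun ω => ?_
      obtain ⟨ω, rfl⟩ := KaehlerDifferential.map_surjective A C B ω
      have hω : ω ∈ Submodule.span B (Set.range fun i => KaehlerDifferential.D A B (x i)) := h ▸ trivial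
      induction hω using Submodule.span_induction with
      | mem w hw =>
          obtain ⟨i, rfl⟩ := hw
          rw [KaehlerDifferential.map_D]
          exact (KaehlerDifferential.D C B).map_algebraMap ⟨x i, Algebra.subset_adjoin ⟨i, rfl⟩⟩
      | zero => exact map_zero _
      | add a b _ _ ha hb => rw [map_add, ha, hb, add_zero]
      | smul r a _ ha => rw [map_smul, ha, smul_zero]
    rw [isPGenerating_iff_adjoin]
    have hpow : ∀ b : B, b ^ p ∈ Set.range (algebraMap C B) := fun b =>
      ⟨⟨b ^ p, Subalgebra.algebraMap_mem C (pp p A b)⟩, rfl⟩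
    rw [eq_top_iff]
    intro b _
    obtain ⟨c, rfl⟩ := surjective_of_subsingleton_kaehler p (A := C) 1 (by simpa using hpow) b
    exact c.2

end Groth.Agent.S2486
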