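import Groth.Statements.S2552
import Mathlib
import Groth.Agent.Ega43FP2.DepthScheme
-- import your own Groth.Agent.* helpers here

set_option autoImplicit false
open CategoryTheory AlgebraicGeometry
universe u
open EGA43

namespace Groth.Agent.S2552


/-- Let f : X → Y be a morphism locally of finite presentation and F a finitely presented O_X-module
which is flat over Y. Then the set of points x ∈ X such that the stalk at x of the restriction of F
to the fibre X_{f(x)} is either zero or a Cohen–Macaulay module over the local ring of X_{f(x)} at x
is open in X. (A zero stalk counts as Cohen–Macaulay, as in the published statement, which is why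
the condition is stated as a disjunction; the published statement also has further parts, which are
not asserted here.) -/
theorem result {X Y : Scheme.{u}} (f : X ⟶ Y) [LocallyOfFinitePresentation f]
    (F : X.Modules) (hF : CohB1.IsFP F) (hflat : FlatMod.IsFlatOver f F) :
    IsOpen {x : X |
      Subsingleton (((Scheme.Modules.pullback (f.fiberι (f.base x))).obj F).presheaf.stalk (f.asFiber x)) ∨
      LocCoh.IsCohenMacaulayModule ((f.fiber (f.base x)).presheaf.stalk (f.asFiber x))
        (((Scheme.Modules.pullback (f.fiberι (f.base x))).obj F).presheaf.stalk (f.asFiber x))} := by
  have := Groth.Ega43FP2.isOpen_fibreLocus f F hF ⊤ (fun x _ => hflat x) Groth.Ega43FP2.openOverAffine_isCohenMacaulay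
  convert this using 1
  ext x
  refine ⟨fun h => ⟨trivial, h.imp (Module.supportDim_eq_bot_iff_subsingleton _ _).2 id⟩,
    fun h => h.2.imp (Module.supportDim_eq_bot_iff_subsingleton _ _).1 id⟩

end Groth.Agent.S2552
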