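import Groth.Statements.S2555
import Mathlib
import Groth.Agent.Ega43FP2.SkScheme
-- import your own Groth.Agent.* helpers here

set_option autoImplicit false
open CategoryTheory AlgebraicGeometry
universe u
open EGA43

namespace Groth.Agent.S2555


/-- Let f : X ⟶ Y be proper, flat and locally of finite presentation and k ≥ 1. The set of points y of Y
such that every local ring of the fibre X_y satisfies Serre's condition (S_k) is open in Y. -/
theorem result {X Y : Scheme.{u}} (f : X ⟶ Y) [IsProper f]
    [Flat f] [LocallyOfFinitePresentation f] (k : ℕ) (hk : 1 ≤ k) :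
    IsOpen {y : Y | ∀ x : ↥(f.fiber y), LocCoh.HasSk k ((f.fiber y).presheaf.stalk x) ((f.fiber y).presheaf.stalk x)} := by
  have h := (Groth.Ega43FP2.isOpen_flatAt_hasSk f k).isClosed_compl
  rw [← isClosed_compl_iff]
  convert f.isClosedMap _ h
  ext y
  simp only [Set.mem_compl_iff, Set.mem_ofPred_eq, not_forall, Set.mem_image]
  have key : ∀ (y : Y) (z : f.fiber y) (x : X), f.fiberι y z = x →
      (LocCoh.HasSk k ((f.fiber y).presheaf.stalk z) ((f.fiber y).presheaf.stalk z) ↔
        LocCoh.HasSk k ((f.fiber (f.base x)).presheaf.stalk (f.asFiber x)) ((f.fiber (f.base x)).presheaf.stalk (f.asFiber x))) := by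
    intro y z x hx
    obtain rfl : f.base x = y := hx ▸ Groth.FibreDim.apply_fiberι f y z
    rw [show z = f.asFiber x from (f.fiberι _).isEmbedding.injective (hx.trans (f.fiberι_asFiber x).symm)]
  constructor
  · rintro ⟨z, hz⟩
    exact ⟨f.fiberι y z, fun hc => hz ((key y z _ rfl).2 hc.2), Groth.FibreDim.apply_fiberι f y z⟩
  · rintro ⟨x, hx, rfl⟩
    exact ⟨f.asFiber x, fun hc => hx ⟨Flat.stalkMap f x, hc⟩⟩

end Groth.Agent.S2555
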