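import Groth.Statements.S2558
import Groth.Agent.FlatMor2.UnivOpen

set_option autoImplicit false
open CategoryTheory AlgebraicGeometry
universe u
open EGA43

namespace Groth.Agent.S2558

open CategoryTheory.Limits in
/-- Let f : X ⟶ Y be locally of finite presentation. Suppose that for every irreducible scheme Y' and
every morphism of finite type g : Y' ⟶ Y, each irreducible component of X ×_Y Y' has dense image in
Y'. Then f is universally open. -/
theorem result {X Y : Scheme.{u}} (f : X ⟶ Y) [LocallyOfFinitePresentation f]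
    (h : ∀ (Y' : Scheme.{u}) (g : Y' ⟶ Y) [IrreducibleSpace Y'] [LocallyOfFiniteType g] [QuasiCompact g],
      ∀ Z ∈ irreducibleComponents (↥(pullback f g) : Type u), Dense ((pullback.snd f g).base '' Z)) :
    UniversallyOpen f := by
  rw [Groth.FlatMor2.universallyOpen_iff_affineSpace]
  intro n
  set σ := ULift.{u} (Fin n)
  haveI : LocallyOfFinitePresentation (AffineSpace.map σ f) :=
    MorphismProperty.of_isPullback (AffineSpace.isPullback_map f).flip inferInstance
  refine AlgebraicGeometry.isOpenMap_of_generalizingMap _ ?_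
  intro x' z hz
  let C : TopologicalSpace.Closeds ↥(𝔸(σ; Y)) := ⟨closure {z}, isClosed_closure⟩
  let I := Scheme.IdealSheafData.vanishingIdeal C
  have hrange : Set.range I.subschemeι.base = closure {z} := by
    rw [Scheme.IdealSheafData.range_subschemeι]
    exact Scheme.IdealSheafData.coe_support_vanishingIdeal C
  obtain ⟨t₀, ht₀⟩ : z ∈ Set.range I.subschemeι.base := hrange ▸ subset_closure rfl
  haveI hT : IrreducibleSpace ↥I.subscheme := by
    haveI : Nonempty ↥I.subscheme := ⟨t₀⟩
    haveI : PreirreducibleSpace ↥I.subscheme := ⟨by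
      have h1 : IsPreirreducible (closure ({z} : Set ↥(𝔸(σ; Y)))) := isIrreducible_singleton.closure.2
      intro a b ha hb hna hnb
      obtain ⟨a', ha', rfl⟩ := I.subschemeι.isEmbedding.isInducing.isOpen_iff.1 ha
      obtain ⟨b', hb', rfl⟩ := I.subschemeι.isEmbedding.isInducing.isOpen_iff.1 hb
      obtain ⟨p, -, hp⟩ := hna
      obtain ⟨q, -, hq⟩ := hnb
      obtain ⟨_, hw, hw'⟩ := h1 a' b' ha' hb' ⟨_, hrange.le ⟨p, rfl⟩, hp⟩ ⟨_, hrange.le ⟨q, rfl⟩, hq⟩
      obtain ⟨r, rfl⟩ := hrange.ge hw
      exact ⟨r, trivial, hw'⟩⟩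
    exact ⟨inferInstance⟩
  have sq : IsPullback (pullback.fst (AffineSpace.map σ f) I.subschemeι ≫ (𝔸(σ; X) ↘ X))
      (pullback.snd (AffineSpace.map σ f) I.subschemeι) f (I.subschemeι ≫ (𝔸(σ; Y) ↘ Y)) :=
    (IsPullback.of_hasPullback (AffineSpace.map σ f) I.subschemeι).paste_horiz (AffineSpace.isPullback_map f).flip
  obtain ⟨t₁, ht₁⟩ : (AffineSpace.map σ f).base x' ∈ Set.range I.subschemeι.base :=
    hrange ▸ (specializes_iff_mem_closure.1 hz)
  obtain ⟨p, hp1, -⟩ := Scheme.Pullback.exists_preimage_pullback x' t₁ ht₁.symm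
  obtain ⟨Z, hZ, hpZ⟩ := exists_mem_irreducibleComponents_subset_of_isIrreducible
    {sq.isoPullback.hom.base p} isIrreducible_singleton
  have hd := h _ (I.subschemeι ≫ (𝔸(σ; Y) ↘ Y)) Z hZ
  obtain ⟨ζ, hζ⟩ := QuasiSober.sober hZ.1 (isClosed_of_mem_irreducibleComponents Z hZ)
  have hζp : ζ ⤳ sq.isoPullback.hom.base p := hζ.specializes (hpZ rfl)
  set w := (pullback.snd f (I.subschemeι ≫ (𝔸(σ; Y) ↘ Y))).base ζ with hw
  have hwgen : closure {w} = Set.univ := by
    refine Set.eq_univ_of_forall fun t => closure_minimal ?_ isClosed_closure (hd t)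
    rintro _ ⟨q, hq, rfl⟩
    exact specializes_iff_mem_closure.1 ((hζ.specializes hq).map (pullback.snd f _).continuous)
  have hwz : I.subschemeι.base w = z := by
    refine Specializes.antisymm ?_ ?_ |>.eq
    · rw [← ht₀]
      exact (specializes_iff_mem_closure.2 (hwgen.ge trivial)).map I.subschemeι.continuous
    · exact specializes_iff_mem_closure.2 (hrange.le ⟨w, rfl⟩)
  obtain ⟨q, hq⟩ : ∃ q, sq.isoPullback.hom.base q = ζ :=
    ⟨sq.isoPullback.inv.base ζ, by rw [← Scheme.Hom.comp_apply, Iso.inv_hom_id]; rfl⟩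
  refine ⟨(pullback.fst (AffineSpace.map σ f) I.subschemeι).base q, ?_, ?_⟩
  · show _ ⤳ x'
    rw [← hp1]
    refine Specializes.map ?_ (pullback.fst (AffineSpace.map σ f) I.subschemeι).continuous
    rw [← sq.isoPullback.hom.homeomorph.isInducing.specializes_iff]
    exact hq ▸ hζp
  · rw [← Scheme.Hom.comp_apply, pullback.condition, Scheme.Hom.comp_apply]
    have hqw : (pullback.snd (AffineSpace.map σ f) I.subschemeι).base q = w := by
      rw [hw, ← hq, ← Scheme.Hom.comp_apply sq.isoPullback.hom, sq.isoPullback_hom_snd]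
    rw [← hqw] at hwz
    exact hwz

end Groth.Agent.S2558
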