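import Groth.Statements.S2564
import Mathlib
import Groth.Agent.Calg3.IntegralDescent
import Groth.Agent.S0386
import Groth.Agent.FlatMor2.FlatComp

set_option autoImplicit false
open CategoryTheory AlgebraicGeometry
universe u
open EGA43

namespace Groth.Agent.S2564

open TensorProduct

theorem flat_at_of_comp {X Y Z : Scheme.{u}} (a : X ⟶ Y) (g : Y ⟶ Z) (x : X) (ha : (a.stalkMap x).hom.Flat)
    (h : ((a ≫ g).stalkMap x).hom.Flat) : (g.stalkMap (a x)).hom.Flat := by
  rw [Scheme.Hom.stalkMap_comp] at h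
  letI := (g.stalkMap (a x)).hom.toAlgebra
  letI := (a.stalkMap x).hom.toAlgebra
  letI : Algebra (Z.presheaf.stalk (g (a x))) (X.presheaf.stalk x) :=
    ((a.stalkMap x).hom.comp (g.stalkMap (a x)).hom).toAlgebra
  haveI : IsScalarTower (Z.presheaf.stalk (g (a x))) (Y.presheaf.stalk (a x)) (X.presheaf.stalk x) :=
    .of_algebraMap_eq' rfl
  haveI : Module.Flat (Y.presheaf.stalk (a x)) (X.presheaf.stalk x) := ha
  haveI : Module.Flat (Z.presheaf.stalk (g (a x))) (X.presheaf.stalk x) := h
  haveI : IsLocalHom (algebraMap (Y.presheaf.stalk (a x)) (X.presheaf.stalk x)) :=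
    inferInstanceAs (IsLocalHom (a.stalkMap x).hom)
  haveI : Module.FaithfullyFlat (Y.presheaf.stalk (a x)) (X.presheaf.stalk x) :=
    Module.FaithfullyFlat.of_flat_of_isLocalHom
  exact Groth.FlatMor2.flat_of_tower (Q := Z.presheaf.stalk (g (a x))) (S := X.presheaf.stalk x)

open CategoryTheory.Limits in
/-- Let A ⟶ A' be an injective ring homomorphism making A' integral over A, f : X ⟶ Spec A locally of
finite presentation, x a point of X, and X' = X ×_{Spec A} Spec A'. If X' ⟶ Spec A' is flat at every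
point of X' lying over x, then f is flat at x. -/
theorem result {A A' : Type u} [CommRing A] [CommRing A']
    [Algebra A A'] [Algebra.IsIntegral A A'] (hinj : Function.Injective (algebraMap A A'))
    {X : Scheme.{u}} (f : X ⟶ Spec (CommRingCat.of A)) [LocallyOfFinitePresentation f] (x : X)
    (h : ∀ x' : ↥(pullback f (Spec.map (CommRingCat.ofHom (algebraMap A A')))),
      (pullback.fst f _).base x' = x →
      ((pullback.snd f (Spec.map (CommRingCat.ofHom (algebraMap A A')))).stalkMap x').hom.Flat) :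
    (f.stalkMap x).hom.Flat := by
  let ι : CommRingCat.of A ⟶ CommRingCat.of A' := CommRingCat.ofHom (algebraMap A A')
  let p := Limits.pullback.fst f (Spec.map ι)
  let q := Limits.pullback.snd f (Spec.map ι)
  haveI hι : IsIntegralHom (Spec.map ι) := (IsIntegralHom.SpecMap_iff).mpr (algebraMap_isIntegral_iff.mpr ‹_›)
  haveI : IsIntegralHom p := MorphismProperty.pullback_fst _ _ hι
  let U := {z | (q.stalkMap z).hom.Flat}
  have hU : IsOpen U := Groth.Agent.S0386.result q
  have hc : IsClosed (p.base '' Uᶜ) := p.isClosedMap _ hU.isClosed_compl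
  have hxV : x ∈ (p.base '' Uᶜ)ᶜ := by
    rintro ⟨z, hz, hzx⟩
    exact hz (h z hzx)
  obtain ⟨_, ⟨W : X.Opens, hW, rfl⟩, hxW, hWV⟩ :=
    X.isBasis_affineOpens.exists_subset_of_mem_open hxV hc.isOpen_compl
  let g : Spec Γ(X, W) ⟶ X := hW.fromSpec
  let φ : CommRingCat.of A ⟶ Γ(X, W) := Spec.preimage (g ≫ f)
  have hgf : g ≫ f = Spec.map φ := (Spec.map_preimage _).symm
  letI : Algebra A Γ(X, W) := φ.hom.toAlgebra
  haveI : Algebra.FinitePresentation A Γ(X, W) := by
    have h1 : LocallyOfFinitePresentation (Spec.map φ) := hgf ▸ inferInstance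
    exact (HasRingHomProperty.Spec_iff (P := @LocallyOfFinitePresentation)).mp h1
  let σ : CommRingCat.of A ⟶ CommRingCat.of Γ(X, W) := CommRingCat.ofHom (algebraMap A Γ(X, W))
  have hσ : g ≫ f = Spec.map σ := hgf
  let m : Limits.pullback (Spec.map σ) (Spec.map ι) ⟶ Limits.pullback f (Spec.map ι) :=
    Limits.pullback.map _ _ _ _ g (𝟙 _) (𝟙 _) (by rw [Category.comp_id, hσ]) (by simp)
  have hm : m ≫ q = Limits.pullback.snd _ _ := by
    exact (Limits.pullback.lift_snd _ _ _).trans (Category.comp_id _)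
  haveI hflat : Flat (Limits.pullback.snd (Spec.map σ) (Spec.map ι)) := by
    rw [← hm]
    refine Flat.of_stalkMap _ fun z => ?_
    rw [Scheme.Hom.stalkMap_comp]
    refine RingHom.Flat.comp ?_ (Flat.stalkMap m z)
    show m z ∈ U
    by_contra hz
    refine hWV (show g ((Limits.pullback.fst (Spec.map σ) (Spec.map ι)) z) ∈ (W : Set X) from ?_) ⟨m z, hz, ?_⟩
    · rw [← hW.range_fromSpec]
      exact ⟨_, rfl⟩
    · rw [← Scheme.Hom.comp_apply, ← Scheme.Hom.comp_apply]
      exact congrArg (fun k : Limits.pullback (Spec.map σ) (Spec.map ι) ⟶ X => k.base z) (Limits.pullback.lift_fst _ _ _)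
  have hflat' : Flat (Spec.map (CommRingCat.ofHom (RingHomClass.toRingHom
      (Algebra.TensorProduct.includeRight : A' →ₐ[A] Γ(X, W) ⊗[A] A')))) := by
    rw [← pullbackSpecIso_inv_snd A Γ(X, W) A']
    infer_instance
  have hring := (HasRingHomProperty.Spec_iff (P := @Flat)).mp hflat'
  simp only [CommRingCat.hom_ofHom] at hring
  haveI : Module.Flat A' (A' ⊗[A] Γ(X, W)) := by
    rw [← RingHom.flat_algebraMap_iff]
    have h2 := hring.comp (RingHom.Flat.of_bijective
      (f := (Algebra.TensorProduct.comm A Γ(X, W) A').toRingEquiv.toRingHom)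
      (Algebra.TensorProduct.comm A Γ(X, W) A').bijective)
    have e : algebraMap A' (A' ⊗[A] Γ(X, W)) =
        (Algebra.TensorProduct.comm A Γ(X, W) A').toRingEquiv.toRingHom.comp
          (RingHomClass.toRingHom (Algebra.TensorProduct.includeRight : A' →ₐ[A] Γ(X, W) ⊗[A] A')) :=
      RingHom.ext fun a => by simp [Algebra.TensorProduct.algebraMap_apply]
    rw [e]
    exact h2
  haveI := Groth.Calg3.IntegralDescent.flat_of_flat_baseChange A A' Γ(X, W) Γ(X, W) hinj
  haveI : Flat (g ≫ f) := by
    rw [hσ, HasRingHomProperty.Spec_iff (P := @Flat)]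
    exact RingHom.flat_algebraMap_iff.mpr inferInstance
  obtain ⟨z, hz⟩ : x ∈ Set.range g.base := by rw [hW.range_fromSpec]; exact hxW
  subst hz
  exact Groth.Agent.S2564.flat_at_of_comp g f z (Flat.stalkMap g z) (Flat.stalkMap (g ≫ f) z)
end Groth.Agent.S2564
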