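import Groth.Statements.S2565
import Groth.Agent.EGA43Desc.Chart
import Mathlib
-- import your own Groth.Agent.* helpers here

set_option autoImplicit false
open CategoryTheory AlgebraicGeometry
universe u
open EGA43

namespace Groth.Agent.S2565

open CategoryTheory.Limits in
/-- Let A be a local domain which is geometrically unibranch, A' a local ring and A ⟶ A' an injective
local homomorphism. Let f : X ⟶ Spec A be locally of finite presentation, x a point of X over the
closed point, and X' = X ×_{Spec A} Spec A'. If there is a point x' of X' lying over x and over the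
closed point of Spec A' at which X' ⟶ Spec A' is flat, then f is flat at x. -/
theorem result {A A' : Type u} [CommRing A] [IsDomain A] [IsLocalRing A]
    (hA : CAlg2.IsGeomUnibranch A) [CommRing A'] [IsLocalRing A'] [Algebra A A'] [IsLocalHom (algebraMap A A')]
    (hinj : Function.Injective (algebraMap A A'))
    {X : Scheme.{u}} (f : X ⟶ Spec (CommRingCat.of A)) [LocallyOfFinitePresentation f] (x : X)
    (hx : f.base x = IsLocalRing.closedPoint A)
    (h : ∃ x' : ↥(pullback f (Spec.map (CommRingCat.ofHom (algebraMap A A')))),
      (pullback.fst f _).base x' = x ∧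
      (pullback.snd f (Spec.map (CommRingCat.ofHom (algebraMap A A')))).base x' = IsLocalRing.closedPoint A' ∧
      ((pullback.snd f (Spec.map (CommRingCat.ofHom (algebraMap A A')))).stalkMap x').hom.Flat) :
    (f.stalkMap x).hom.Flat := by
  obtain ⟨S, _, _, _, q, _, _, hout, j, hsurj, hj⟩ := Groth.EGA43Desc.exists_chart (A' := A') f x hx
  obtain ⟨x', hx1, hx2, hflat⟩ := h
  obtain ⟨P, rfl⟩ := hsurj x' hx1
  exact hout (Groth.EGA43Desc.flatAt_of_one hA hinj q P.asIdeal ((hj P).2.1.mp hx2) ((hj P).1.mp hx1)
    ((hj P).2.2.mp hflat))

end Groth.Agent.S2565
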