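import Groth.Statements.S2568
import Groth.Agent.EGA43Topo.UnibranchGeneralScheme

set_option autoImplicit false
open CategoryTheory AlgebraicGeometry
universe u
open EGA43

namespace Groth.Agent.S2568

/-- Chevalley's criterion in the case of irreducible source and base: let X and Y be irreducible
schemes, all local rings of Y geometrically unibranch, and f : X ⟶ Y a dominant morphism locally of
finite type such that for every point x the local dimension at x of the fibre through x equals the
dimension of the generic fibre (the fibre over the image of the generic point of X). Then f is
universally open. -/
theorem result {X Y : Scheme.{u}} [IrreducibleSpace X] [IrreducibleSpace Y]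
    (hY : ∀ y : Y, CAlg2.IsGeomUnibranch (Y.presheaf.stalk y)) (f : X ⟶ Y) [LocallyOfFiniteType f] [IsDominant f]
    (h : ∀ x : X, FlatMor.fibreDimAt f x = topologicalKrullDim ↥(f.fiber (f.base (genericPoint X)))) :
    UniversallyOpen f := by
  have hgen : f.base (genericPoint X) = genericPoint Y := by
    refine ((genericPoint_spec Y).eq ?_).symm
    show closure {f.base (genericPoint X)} = Set.univ
    refine Set.eq_univ_of_univ_subset ?_
    rw [← f.denseRange.closure_range]
    refine closure_minimal ?_ isClosed_closure
    rintro _ ⟨x, rfl⟩
    exact specializes_iff_mem_closure.1 ((genericPoint_specializes x).map f.continuous)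
  refine Groth.EGA43Topo.universallyOpen_of_irreducible hY f hgen fun x => ?_
  rw [h x, h (genericPoint X)]

end Groth.Agent.S2568
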