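import Groth.Statements.S2570
import Groth.Agent.Sga3.QuasiSection.Main
import Groth.Agent.HTopHyper.QfhRefine
import Groth.Agent.HTopHyper.StdV
import Groth.Agent.DescentBase.DimEtale
import Groth.Agent.EGA43Topo.DVRCriterion

set_option autoImplicit false
open CategoryTheory AlgebraicGeometry
universe u
open EGA43

namespace Groth.Agent.S2570

open CategoryTheory.Limits Groth.Sga3.QuasiSection Groth.FibreDim Groth.EGA43Topo in
/-- Through some point of every fibre of a universally open surjection there is a quasi-section. -/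
theorem exists_quasiSection {X Y : Scheme.{u}} (f : X ⟶ Y) [UniversallyOpen f] [Surjective f]
    [LocallyOfFinitePresentation f] (y : Y) :
    ∃ (S' S'' : Scheme.{u}) (w : S' ⟶ Y) (π : S'' ⟶ S') (h : S'' ⟶ X),
      Etale w ∧ IsFinite π ∧ Surjective π ∧ h ≫ f = π ≫ w ∧ y ∈ Set.range w.base := by
  obtain ⟨x₀, rfl⟩ := f.surjective y
  obtain ⟨z, hfz, -, hcoh, -⟩ := exists_maximal_fibre_point f x₀
  have hzmax := (isMax_asFiber_iff f z).1 (Order.coheight_eq_zero.1 hcoh)
  obtain ⟨D, hD⟩ := fibreDimAt_ne_top f z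
  let O : X.Opens := ⟨{a | FlatMor.fibreDimAt f a ≤ (D : WithBot ℕ∞)}, isOpen_fibreDimAt_le f D⟩
  let F := f.fiber (f.base z)
  let c : F := f.asFiber z
  have hc : (f.fiberι (f.base z)).base c = z := f.fiberι_asFiber z
  have : LocallyOfFiniteType (f.fiberToSpecResidueField (f.base z)) :=
    inferInstanceAs (LocallyOfFiniteType (pullback.snd f (Y.fromSpecResidueField (f.base z))))
  have : JacobsonSpace F := LocallyOfFiniteType.jacobsonSpace (f.fiberToSpecResidueField (f.base z))
  obtain ⟨x', ⟨hxO, hxc⟩, hxcl⟩ := nonempty_inter_closedPoints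
    (Z := (f.fiberι (f.base z)).base ⁻¹' (O : Set X) ∩ closure {c})
    ⟨c, by rw [Set.mem_preimage, hc]; exact hD.le, subset_closure rfl⟩
    ((O.2.preimage (f.fiberι (f.base z)).continuous).isLocallyClosed.inter
      isClosed_closure.isLocallyClosed)
  let x := (f.fiberι (f.base z)).base x'
  have hfx : f.base x = f.base z := (f.range_fiberι (f.base z)).le ⟨x', rfl⟩
  have hzx : z ⤳ x := hc ▸ (specializes_iff_mem_closure.2 hxc).map (f.fiberι (f.base z)).continuous
  have hclosed : ∀ a, f.base a = f.base x → x ⤳ a → a = x := by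
    intro a ha hxa
    obtain ⟨a', rfl⟩ := (f.range_fiberι (f.base z)).ge (show f.base a = f.base z from ha.trans hfx)
    have := ((f.fiberι (f.base z)).isEmbedding.toIsInducing.specializes_iff.1 hxa).mem_closed
      hxcl rfl
    rw [Set.mem_singleton_iff.1 this]
  obtain ⟨S', S'', -, w, π, h, hw, hπ, hπs, -, hcomm, s'', -, hs'', -⟩ :=
    exists_quasiSection_through f hclosed hzx hfx.symm hzmax
      ((show FlatMor.fibreDimAt f x ≤ D from hxO).trans hD.ge)
      ((Groth.EGA43Topo.universallyOpen_iff_forall_isUnivOpenAt f).1 inferInstance z)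
  refine ⟨S', S'', w, π, h, hw, hπ, hπs, hcomm, π.base s'', ?_⟩
  rw [← Scheme.Hom.comp_apply, ← hcomm, Scheme.Hom.comp_apply, hs'', hfx, hfz]

open CategoryTheory.Limits in
/-- Let Y be a Noetherian scheme and f : X ⟶ Y a universally open, surjective morphism locally of finite
type. Then there is a finite surjective morphism g : Y' ⟶ Y such that the base change X ×_Y Y' ⟶ Y'
admits a section over some open neighbourhood of every point of Y'. -/
theorem result {X Y : Scheme.{u}} [IsNoetherian Y] (f : X ⟶ Y)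
    [UniversallyOpen f] [Surjective f] [LocallyOfFiniteType f] :
    ∃ (Y' : Scheme.{u}) (g : Y' ⟶ Y), IsFinite g ∧ Surjective g ∧
      ∀ y' : Y', ∃ U : Y'.Opens, y' ∈ U ∧
        ∃ s : (↑U : Scheme.{u}) ⟶ pullback f g, s ≫ pullback.snd f g = U.ι := by
  choose S' S'' w π h hw hπ hπs hcomm hy using exists_quasiSection f
  let E₀ : PreZeroHypercover.{u} Y := { I₀ := Y, X := S', f := w }
  let F : ∀ j, PreZeroHypercover.{u} (E₀.X j) := fun j => PreZeroHypercover.singleton.{u} (π j)
  let E : PreZeroHypercover.{u} Y := E₀.bind F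
  have hF : ∀ j, HTop.HasValLift (F j) := fun j =>
    have := hπ j
    have := hπs j
    @Groth.HTopHyper.hasValLift_of_universallyClosed _ _ (F j) (π j) (fun _ => 𝟙 (S'' j))
      inferInstance inferInstance (fun _ => inferInstanceAs (IsOpenImmersion (𝟙 (S'' j))))
      (fun _ => Category.id_comp _) fun x => ⟨PUnit.unit, x, rfl⟩
  have h₀ : HTop.HasValLift E₀ := Groth.HTopHyper.hasValLift_of_flat E₀
    (fun j => have := hw j; (inferInstance : Flat (w j))) fun t => ⟨t, hy t⟩
  have hval : HTop.HasValLift E := Groth.HTopHyper.hasValLift_bind E₀ h₀ F hF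
  have : ∀ j, LocallyOfFiniteType (E.f j) := fun j =>
    have := hw j.1
    have := hπ j.1
    (inferInstance : LocallyOfFiniteType (π j.1 ≫ w j.1))
  have : ∀ j, LocallyQuasiFinite (E.f j) := fun j =>
    have := hw j.1
    have := hπ j.1
    have := Groth.DescentBase.locallyQuasiFinite_of_etale (w j.1)
    (inferInstance : LocallyQuasiFinite (π j.1 ≫ w j.1))
  obtain ⟨Y', p, n, V, hp, hps, hV, hfac⟩ :=
    Groth.HTopHyper.QfhRefine.exists_finite_refinement E hval
  refine ⟨Y', p, hp, hps, fun y' => ?_⟩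
  obtain ⟨i, hi⟩ := TopologicalSpace.Opens.mem_iSup.1 (hV.ge (show y' ∈ (⊤ : Y'.Opens) from trivial))
  obtain ⟨j, k, hk⟩ := hfac i
  exact ⟨V i, hi, pullback.lift (k ≫ h j.1) (V i).ι ((Category.assoc _ _ _).trans ((congrArg (k ≫ ·) (hcomm j.1)).trans hk)),
    pullback.lift_snd _ _ _⟩

end Groth.Agent.S2570
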