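import Groth.Statements.S2571
import Groth.Agent.S2570
import Groth.Agent.S0593

set_option autoImplicit false
open CategoryTheory AlgebraicGeometry
universe u
open EGA43

namespace Groth.Agent.S2571

open CategoryTheory.Limits in
/-- The case of an affine base. -/
theorem isAffine_source {X Y Y' : Scheme.{u}} [IsNoetherian Y] [IsAffine Y]
    (f : X ⟶ Y) (g : Y' ⟶ Y) [LocallyOfFiniteType g] [UniversallyOpen g] [Surjective g]
    [IsAffineHom (pullback.snd f g)] : IsAffine X := by
  obtain ⟨Y'', p, hp, hps, hsec⟩ := Groth.Agent.S2570.result g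
  choose U hU s hs using hsec
  have : IsAffine Y'' := isAffine_of_isAffineHom p
  have : IsAffineHom (pullback.snd f p) := by
    refine IsZariskiLocalAtTarget.of_iSup_eq_top (P := @IsAffineHom) U
      (top_le_iff.1 fun y _ => TopologicalSpace.Opens.mem_iSup.2 ⟨y, hU y⟩) fun y => ?_
    let k := s y ≫ pullback.fst g p
    have hk : k ≫ g = (U y).ι ≫ p := by
      simp only [k, Category.assoc, pullback.condition]
      rw [reassoc_of% (hs y)]
    have h1 : IsPullback ((pullback.snd f p ⁻¹ᵁ U y).ι ≫ pullback.fst f p)
        (pullback.snd f p ∣_ U y) f ((U y).ι ≫ p) :=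
      (isPullback_morphismRestrict (pullback.snd f p) (U y)).flip.paste_horiz
        (IsPullback.of_hasPullback f p)
    have h2 : IsPullback (pullback.fst (pullback.snd f g) k ≫ pullback.fst f g)
        (pullback.snd (pullback.snd f g) k) f ((U y).ι ≫ p) := hk ▸
      (IsPullback.of_hasPullback (pullback.snd f g) k).paste_horiz
        (IsPullback.of_hasPullback f g)
    rw [← h1.isoIsPullback_hom_snd _ _ h2]
    exact (MorphismProperty.cancel_left_of_respectsIso @IsAffineHom _ _).2
      (MorphismProperty.pullback_snd _ _ ‹IsAffineHom (pullback.snd f g)›)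
  have : IsAffine (pullback f p) := isAffine_of_isAffineHom (pullback.snd f p)
  exact Groth.Agent.S0593.result (pullback f p) X (pullback.fst f p)

open CategoryTheory.Limits in
/-- Let Y be locally Noetherian, f : X ⟶ Y locally of finite type, and g : Y' ⟶ Y locally of finite
type, universally open and surjective. If the base change X ×_Y Y' ⟶ Y' is an affine morphism, then
f is affine. -/
theorem result {X Y Y' : Scheme.{u}} [IsLocallyNoetherian Y]
    (f : X ⟶ Y) [LocallyOfFiniteType f] (g : Y' ⟶ Y) [LocallyOfFiniteType g] [UniversallyOpen g] [Surjective g]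
    [IsAffineHom (pullback.snd f g)] : IsAffineHom f := by
  refine isAffineHom_of_forall_exists_isAffineOpen f fun y => ?_
  obtain ⟨V, hV, hyV, -⟩ := exists_isAffineOpen_mem_and_subset (U := (⊤ : Y.Opens)) (x := y) trivial
  have : IsAffine (V : Scheme.{u}) := hV
  have : IsNoetherian (V : Scheme.{u}) :=
    { __ := (inferInstance : IsLocallyNoetherian (V : Scheme.{u})),
      __ := (inferInstance : CompactSpace (V : Scheme.{u})) }
  let f' := f ∣_ V
  let g' := g ∣_ V
  have : Surjective g' := IsZariskiLocalAtTarget.restrict ‹Surjective g› _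
  have : UniversallyOpen g' := IsZariskiLocalAtTarget.restrict ‹UniversallyOpen g› _
  have : IsAffineHom (pullback.snd f' g') := by
    have h1 : IsPullback (pullback.fst f' g' ≫ (f ⁻¹ᵁ V).ι) (pullback.snd f' g') f
        ((g ⁻¹ᵁ V).ι ≫ g) := by
      rw [← morphismRestrict_ι g V]
      exact (IsPullback.of_hasPullback f' g').paste_horiz (isPullback_morphismRestrict f V).flip
    have h2 := (IsPullback.of_hasPullback (pullback.snd f g) (g ⁻¹ᵁ V).ι).paste_horiz
      (IsPullback.of_hasPullback f g)
    rw [← h1.isoIsPullback_hom_snd _ _ h2]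
    exact (MorphismProperty.cancel_left_of_respectsIso @IsAffineHom _ _).2
      (MorphismProperty.pullback_snd _ _ ‹IsAffineHom (pullback.snd f g)›)
  exact ⟨V, hyV, hV, isAffine_source f' g'⟩

end Groth.Agent.S2571
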