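import Groth.Statements.S4945
import Groth.Agent.EGA43Topo.QuasiSection
import Groth.Agent.EGA43Topo.UnibranchApps
open CategoryTheory.Limits TopologicalSpace

set_option autoImplicit false
open CategoryTheory AlgebraicGeometry
universe u v w
open EGA43

namespace Groth.Agent.S4945

/-- Let Y be an irreducible locally Noetherian scheme with generic point η, f : X ⟶ Y a morphism locally
of finite type and y a geometrically unibranch point of Y. The following are equivalent: a) f is
universally open at every point of X_y; b) f is open at every point of X_y; c) for every maximal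
point z of X_y there is an irreducible component Z of X containing z and dominating Y with dim_z(Z ∩
X_y) = dim(Z ∩ X_η); d) for every point x closed in X_y there are an irreducible reduced scheme T
and an immersion T ⟶ X with image containing x such that T ⟶ Y is quasi-finite and dominant. -/
theorem result {X Y : Scheme.{u}} [IrreducibleSpace Y]
    [IsLocallyNoetherian Y] (f : X ⟶ Y) [LocallyOfFiniteType f] (y : Y) (hy : CAlg2.IsGeomUnibranch (Y.presheaf.stalk y)) :
    List.TFAE [∀ x : X, f.base x = y → EGA43.IsUnivOpenAt f x,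
      ∀ x : X, f.base x = y → EGA43.IsOpenAt f.base x,
      ∀ z : X, ∀ hzy : f.base z = y, (∀ z' : X, f.base z' = y → z ∈ closure {z'} → z' = z) →
        ∃ Z ∈ irreducibleComponents (X : Type u), ∃ hz : z ∈ Z, Dense (f.base '' Z) ∧
          FlatMor.localDim ↥(Z ∩ f.base ⁻¹' {y}) ⟨z, ⟨hz, hzy⟩⟩ = topologicalKrullDim ↥(Z ∩ f.base ⁻¹' {genericPoint Y}),
      ∀ x : X, f.base x = y → (∀ x' : X, f.base x' = y → x ⤳ x' → x' = x) →
        ∃ (T : Scheme.{u}) (i : T ⟶ X), IsImmersion i ∧ IrreducibleSpace ↥T ∧ IsReduced T ∧ x ∈ Set.range i.base ∧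
        LocallyOfFiniteType (i ≫ f) ∧ LocallyQuasiFinite (i ≫ f) ∧ QuasiCompact (i ≫ f) ∧ IsDominant (i ≫ f)] := by
  have hmaxgen : ∀ {η : Y}, IsMax η → η = genericPoint Y := fun {η} h =>
    ((show η ⤳ genericPoint Y from h (genericPoint_specializes η)).antisymm (genericPoint_specializes η)).eq
  tfae_have 1 → 2 := fun h x hx => Groth.EGA43Topo.isOpenAt_of_isUnivOpenAt (h x hx)
  tfae_have 2 → 3 := by
    intro h z hzy hzmax
    subst hzy
    have hz : ∀ z', f.base z' = f.base z → z' ⤳ z → z' = z := fun z' h1 h2 =>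
      hzmax z' h1 (specializes_iff_mem_closure.1 h2)
    obtain ⟨ξ, hξ, hξz, hfξ, hd⟩ := Groth.FibreDim.exists_component_of_isOpenAt f hz (h z rfl)
    have hgen := hmaxgen hfξ
    refine ⟨_, Groth.FibreDim.mem_irreducibleComponents_of_isMax hξ, specializes_iff_mem_closure.1 hξz, ?_, ?_⟩
    · exact Groth.FibreDim.dense_image_of_isMax f hfξ
    · rw [← hgen, Groth.FibreDim.localDim_closure_inter_fibre f hξz hz, Groth.FibreDim.dim_closure_inter_fibre,
        ← (Groth.FibreDim.fibreDimAt_eq_height_of_max f (z := ξ) fun w _ hw => (hw.antisymm (hξ hw)).eq).1]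
      rw [← (Groth.FibreDim.fibreDimAt_eq_height_of_max f hz).1]
      exact hd.symm
  tfae_have 3 → 4 := by
    intro h x hx hcl
    subst hx
    obtain ⟨z, hfz, hzx, h0, hzd⟩ := Groth.FibreDim.exists_maximal_fibre_point f x
    have hz := (Groth.FibreDim.isMax_asFiber_iff f z).1 (Order.coheight_eq_zero.1 h0)
    obtain ⟨Z, hZ, hzZ, hdense, hdim⟩ := h z hfz fun z' h1 h2 => hz z' (h1.trans hfz.symm)
      (specializes_iff_mem_closure.2 h2)
    have hu : (Set.univ : Set Y) ∈ irreducibleComponents (Y : Type u) :=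
      ⟨IrreducibleSpace.isIrreducible_univ Y, fun _ _ _ => Set.subset_univ _⟩
    have hg := hZ.1.isGenericPoint_genericPoint (isClosed_of_mem_irreducibleComponents Z hZ)
    generalize hZ.1.genericPoint = ξ at hg
    obtain rfl := hg.def
    have hξ : IsMax ξ := Groth.FibreDim.isMax_of_mem_genericPoints hZ
    have hξz : ξ ⤳ z := specializes_iff_mem_closure.2 hzZ
    have hfξ : f.base ξ = genericPoint Y := by
      refine ((genericPoint_spec Y).eq ?_).symm
      show closure {f.base ξ} = Set.univ
      rw [← Groth.EGA43Topo.closure_image_closure_singleton]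
      exact hdense.closure_eq
    have hξmax : ∀ w, f.base w = f.base ξ → w ⤳ ξ → w = ξ := fun w _ hw => (hw.antisymm (hξ hw)).eq
    have hle : FlatMor.fibreDimAt f x ≤ FlatMor.fibreDimAt f ξ := by
      rw [← hzd, ← (Groth.FibreDim.fibreDimAt_eq_height_of_max f hz).1,
        (Groth.FibreDim.fibreDimAt_eq_height_of_max f hξmax).1, ← Groth.FibreDim.dim_closure_inter_fibre, hfξ,
        ← hdim]
      generalize_proofs hp
      revert hp
      rw [← hfz]
      intro hp
      exact (Groth.FibreDim.localDim_closure_inter_fibre f hξz hz _).ge.trans_eq'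
        ((Groth.FibreDim.fibreDimAt_eq_height_of_max f hz).1 ▸ rfl)
    obtain ⟨T, i, hi, hT, hxi, hlft, hlqf, hqc, hr⟩ :=
      Groth.EGA43Topo.exists_quasiSection f hcl (hξz.trans hzx) hξmax hle
    refine ⟨T, i, hi, inferInstance, inferInstance, hxi, hlft, hlqf, hqc, ⟨?_⟩⟩
    rw [hfξ] at hr
    refine dense_iff_closure_eq.2 (Set.eq_univ_of_univ_subset ?_)
    rw [← (genericPoint_spec Y).def]
    exact closure_mono (Set.singleton_subset_iff.2 hr)
  tfae_have 4 → 1 := by
    intro h x hx
    subst hx
    refine Groth.EGA43Topo.isUnivOpenAt_of_closed_points f fun z hfz hcl => ?_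
    obtain ⟨T, i, _, _, _, ⟨w, rfl⟩, _, _, _, _⟩ := h z hfz fun z' h1 h2 => hcl z' (h1.trans hfz.symm) h2
    have hfib : ∀ (t : T) (t' : T), (i ≫ f).base t' = (i ≫ f).base t → t' ⤳ t → t' = t := fun t t' h1 h2 => by
      obtain ⟨a, ha⟩ : t ∈ Set.range ((i ≫ f).fiberι ((i ≫ f).base t)).base := ((i ≫ f).range_fiberι _).ge rfl
      obtain ⟨a', ha'⟩ : t' ∈ Set.range ((i ≫ f).fiberι ((i ≫ f).base t)).base :=
        ((i ≫ f).range_fiberι _).ge h1
      have h3 : a' ⤳ a := ((i ≫ f).fiberι _).isEmbedding.toIsInducing.specializes_iff.1 (by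
        rw [ha, ha']; exact h2)
      rw [← ha, ← ha', specializes_iff_eq.1 h3]
    have hzero : ∀ t : T, FlatMor.fibreDimAt (i ≫ f) t = (0 : WithBot ℕ∞) := fun t => by
      rw [(Groth.FibreDim.fibreDimAt_eq_height_of_max (i ≫ f) (hfib t)).1,
        Order.height_eq_zero.2 fun b hb => le_of_eq (specializes_iff_eq.1 hb)]
      rfl
    refine Groth.EGA43Topo.isUnivOpenAt_right_of_comp
      (Groth.EGA43Topo.isUnivOpenAt_of_component (i ≫ f) (hfib w) ?_ (genericPoint_specializes w) ?_
        (hfib _) (by rw [hzero, hzero]))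
    · rw [Scheme.Hom.comp_apply, hfz]; exact hy
    · have hgen : (i ≫ f).base (genericPoint T) = genericPoint Y := by
        refine ((genericPoint_spec Y).eq (Set.eq_univ_of_univ_subset ?_)).symm
        rw [← (i ≫ f).denseRange.closure_range]
        refine closure_minimal ?_ isClosed_closure
        rintro _ ⟨a, rfl⟩
        exact specializes_iff_mem_closure.1 ((genericPoint_specializes a).map (i ≫ f).continuous)
      rw [hgen]
      exact fun b hb => genericPoint_specializes b
  tfae_finish

end Groth.Agent.S4945
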