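import Groth.Statements.S4944
import Groth.Agent.Misc6.Equidim2

set_option autoImplicit false
open CategoryTheory AlgebraicGeometry
universe u v w
open EGA43

namespace Groth.Agent.S4944

/-- A point over the generic point, of fibre height zero, whose closure is quasi-finite at `x`. -/
theorem exists_quasiSection (e : ℕ) : ∀ {X Y : Scheme.{u}} [IrreducibleSpace Y] [IsLocallyNoetherian Y]
    (f : X ⟶ Y) [LocallyOfFiniteType f] (x : X), EGA43.IsEquidimAt f x →
    (∀ x' : X, f.base x' = f.base x → x ⤳ x' → x' = x) → FlatMor.fibreDimAt f x = e →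
    ∃ ζ : X, ζ ⤳ x ∧ f.base ζ = genericPoint Y ∧ Groth.Misc6.Equidim.fh f ζ = 0 ∧
      ∀ a : X, ζ ⤳ a → a ⤳ x → f.base a = f.base x → Groth.Misc6.Equidim.fh f a = 0 := by
  induction e with
  | zero =>
    intro X Y _ _ f _ x hf _ he
    obtain ⟨ξ, hξ, hξc⟩ := Groth.FibreDim.exists_genericPoint_specializes x
    obtain ⟨h1, h2⟩ := Groth.Misc6.Equidim.of_isEquidimAt f hf hξc hξ
    have hzero : ∀ a : X, a ⤳ x → Groth.Misc6.Equidim.fh f a = 0 := fun a ha => by
      obtain ⟨i, hi⟩ := Groth.Misc6.Equidim.exists_fh_nat f a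
      have := (Groth.Misc6.Equidim.fh_le_fibreDimAt f a).trans (Groth.Misc6.Equidim.fibreDimAt_mono f ha)
      rw [hi, he] at this
      rw [hi]
      have h3 : i ≤ 0 := by exact_mod_cast this
      rw [Nat.le_zero.1 h3]; rfl
    exact ⟨ξ, hξ, Groth.Misc6.Equidim.eq_genericPoint_of_component h1, hzero ξ hξ, fun a _ ha _ => hzero a ha⟩
  | succ e ih =>
    intro X Y _ _ f _ x hf hcl he
    have : IsLocallyNoetherian X := LocallyOfFiniteType.isLocallyNoetherian f
    obtain ⟨a, hax, hfa, hd⟩ := Groth.Misc6.Equidim.exists_fh_eq f x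
    rw [he] at hd
    have hane : a ≠ x := by
      intro h
      subst h
      have h0 : Groth.Misc6.Equidim.fh f a = 0 := by
        refine Order.height_eq_zero.2 fun b hb => Scheme.le_iff_specializes.2 ?_
        have := hcl ((f.fiberι _).base b) (Groth.FibreDim.apply_fiberι f _ b) (by
          have := (Scheme.le_iff_specializes.1 hb).map (f.fiberι (f.base a)).continuous
          rwa [f.fiberι_asFiber] at this)
        rw [(f.fiberι _).isEmbedding.injective (this.trans (f.fiberι_asFiber a).symm)]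
      rw [h0] at hd
      have : (0 : ℕ) = e + 1 := by exact_mod_cast hd
      omega
    obtain ⟨U, hU, hxU, g, hgx, hg⟩ := Groth.Misc6.Equidim.exists_section_avoiding f
      ⟨a, hfa, hane, specializes_iff_mem_closure.1 hax⟩
    let g' : Γ((U : Scheme.{u}), ⊤) := (U.ι.appLE U ⊤ (by simp)).hom g
    have hzl : ∀ z : (U : Scheme.{u}), z ∈ (U : Scheme.{u}).zeroLocus ({g'} : Set Γ((U : Scheme.{u}), ⊤)) ↔
        U.ι.base z ∉ X.basicOpen g := by
      intro z
      rw [Scheme.zeroLocus_singleton, Set.mem_compl_iff]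
      refine not_congr ?_
      rw [SetLike.mem_coe, show (U : Scheme.{u}).basicOpen g' = _ from Scheme.basicOpen_appLE U.ι ⊤ U (by simp) g]
      exact ⟨fun h => h.2, fun h => ⟨trivial, h⟩⟩
    have hf' : EGA43.IsEquidimAt (U.ι ≫ f) (⟨x, hxU⟩ : (U : Scheme.{u})) := by
      refine Groth.Misc6.Equidim.isEquidimAt_of_components _ (e + 1) (fun ξ hξ hξc => ?_) ?_
      · obtain ⟨g₁, hg₁, hg₁c⟩ := Groth.FibreDim.exists_genericPoint_specializes (U.ι.base ξ)
        have hg₁U : g₁ ∈ U := hg₁.mem_open U.isOpen ξ.2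
        have h1 : (⟨g₁, hg₁U⟩ : (U : Scheme.{u})) ⤳ ξ :=
          U.ι.isEmbedding.toIsInducing.specializes_iff.1 hg₁
        have h2 : U.ι.base ξ = g₁ := congrArg U.ι.base ((h1.antisymm (Scheme.le_iff_specializes.1
          (Groth.FibreDim.isMax_of_mem_genericPoints hξc (Scheme.le_iff_specializes.2 h1)))).eq).symm
        obtain ⟨h3, h4⟩ := Groth.Misc6.Equidim.of_isEquidimAt f hf hg₁c (hg₁.trans (hξ.map U.ι.continuous))
        refine ⟨by rw [Scheme.Hom.comp_apply, h2]; exact h3, ?_⟩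
        rw [Groth.Misc6.Equidim.fh_comp_preimmersion, h2]
        rw [he] at h4
        exact (WithBot.coe_inj.1 h4).symm
      · rw [Groth.FibreDim.fibreDimAt_openImmersion_comp]
        exact he.le
    have hgx' : (⟨x, hxU⟩ : (U : Scheme.{u})) ∈ (U : Scheme.{u}).zeroLocus ({g'} : Set Γ((U : Scheme.{u}), ⊤)) :=
      (hzl _).2 hgx
    obtain ⟨h1, h2, -⟩ := Groth.Misc6.Equidim.section_step (U.ι ≫ f) hf' g' hgx' fun z hz hzmax hzg => by
      refine (hzl z).1 hzg (hg (U.ι.base z) hz (fun z' hz' hc => ?_) z.2)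
      have hz'U : z' ∈ U := (specializes_iff_mem_closure.2 hc).mem_open U.isOpen z.2
      exact congrArg U.ι.base (hzmax ⟨z', hz'U⟩ hz' (specializes_iff_mem_closure.1
        (U.ι.isEmbedding.toIsInducing.specializes_iff.1 (specializes_iff_mem_closure.2 hc))))
    let Z : TopologicalSpace.Closeds (U : Scheme.{u}) :=
      ⟨(U : Scheme.{u}).zeroLocus ({g'} : Set Γ((U : Scheme.{u}), ⊤)), Scheme.zeroLocus_isClosed _ _⟩
    let ι' := (Scheme.IdealSheafData.vanishingIdeal Z).subschemeι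
    obtain ⟨w, hw⟩ := Groth.Misc6.Equidim.exists_sub_point Z hgx'
    have hwx : (ι' ≫ U.ι).base w = x := congrArg U.ι.base hw
    have hcl' : ∀ p, (ι' ≫ U.ι ≫ f).base p = (ι' ≫ U.ι ≫ f).base w → w ⤳ p → p = w := by
      intro p hp hwp
      have := hcl ((ι' ≫ U.ι).base p) (hp.trans (congrArg f.base hwx)) (hwx ▸ hwp.map (ι' ≫ U.ι).continuous)
      exact (ι' ≫ U.ι).isEmbedding.injective (this.trans hwx.symm)
    have hde : FlatMor.fibreDimAt (ι' ≫ U.ι ≫ f) w = e := by
      obtain ⟨c, -, -, hc⟩ := Groth.Misc6.Equidim.exists_fh_eq (ι' ≫ U.ι ≫ f) w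
      obtain ⟨d, hd'⟩ := Groth.Misc6.Equidim.exists_fh_nat (ι' ≫ U.ι ≫ f) c
      rw [hd'] at hc
      have heq := Groth.Misc6.Equidim.localDim_inter_eq (U.ι ≫ f) ι' w (Groth.Misc6.Equidim.range_sub Z) hw
        (x := (⟨x, hxU⟩ : (U : Scheme.{u}))) ⟨hgx', rfl⟩
      rw [Groth.FibreDim.fibreDimAt_openImmersion_comp, show FlatMor.fibreDimAt f (U.ι.base ⟨x, hxU⟩) = _ from he] at h2
      rw [← hc]
      have h3 := (congrArg (· + 1) (hc.trans heq.symm)).trans h2
      have h4 : d + 1 = e + 1 := by exact_mod_cast h3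
      rw [show d = e by omega]; rfl
    obtain ⟨ζ', hζ', hfζ, hζ0, hinter⟩ := ih (ι' ≫ U.ι ≫ f) w (h1 w hw) hcl' hde
    have hfh : ∀ p, Groth.Misc6.Equidim.fh (ι' ≫ U.ι ≫ f) p = Groth.Misc6.Equidim.fh f ((ι' ≫ U.ι).base p) := by
      intro p
      rw [Groth.Misc6.Equidim.fh_comp_preimmersion (U.ι ≫ f), Groth.Misc6.Equidim.fh_comp_preimmersion f]
      rfl
    refine ⟨(ι' ≫ U.ι).base ζ', hwx ▸ hζ'.map (ι' ≫ U.ι).continuous, hfζ, (hfh ζ').symm.trans hζ0,
      fun b hb hbx hfb => ?_⟩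
    have hbU : b ∈ U := hbx.mem_open U.isOpen hxU
    have h3 : ι'.base ζ' ⤳ (⟨b, hbU⟩ : (U : Scheme.{u})) := U.ι.isEmbedding.toIsInducing.specializes_iff.1 hb
    obtain ⟨p, hp⟩ := Groth.Misc6.Equidim.exists_sub_point Z (h3.mem_closed Z.isClosed
      ((Groth.Misc6.Equidim.range_sub Z).le ⟨ζ', rfl⟩))
    have hpb : (ι' ≫ U.ι).base p = b := congrArg U.ι.base hp
    rw [← hpb] at hb hbx hfb ⊢
    rw [← hfh]
    rw [← hwx] at hbx hfb
    exact hinter p ((ι' ≫ U.ι).isEmbedding.toIsInducing.specializes_iff.1 hb)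
      ((ι' ≫ U.ι).isEmbedding.toIsInducing.specializes_iff.1 hbx) hfb

/-- Suppose Y is an irreducible, locally Noetherian scheme and f : X ⟶ Y is locally of finite type. Take
a point x of X at which f is equidimensional and which is closed in its fibre f⁻¹(f x). Then one can
find an irreducible reduced scheme T together with an immersion i : T ⟶ X whose image contains x,
such that the composite T ⟶ Y is dominant and quasi-finite (meaning locally quasi-finite and of
finite type). -/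
theorem result {X Y : Scheme.{u}} [IrreducibleSpace Y]
    [IsLocallyNoetherian Y] (f : X ⟶ Y) [LocallyOfFiniteType f] (x : X) (hf : EGA43.IsEquidimAt f x)
    (hcl : ∀ x' : X, f.base x' = f.base x → x ⤳ x' → x' = x) :
    ∃ (T : Scheme.{u}) (i : T ⟶ X), IsImmersion i ∧ IrreducibleSpace ↥T ∧ IsReduced T ∧ x ∈ Set.range i.base ∧
        LocallyOfFiniteType (i ≫ f) ∧ LocallyQuasiFinite (i ≫ f) ∧ QuasiCompact (i ≫ f) ∧ IsDominant (i ≫ f) := by
  obtain ⟨b, -, -, hb⟩ := Groth.Misc6.Equidim.exists_fh_eq f x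
  obtain ⟨e, he⟩ := Groth.Misc6.Equidim.exists_fh_nat f b
  obtain ⟨ζ, hζx, hfζ, hζ0, hinter⟩ := exists_quasiSection e f x hf hcl (by rw [← hb, he]; rfl)
  have : IsLocallyNoetherian X := LocallyOfFiniteType.isLocallyNoetherian f
  let W : TopologicalSpace.Closeds X := ⟨closure {ζ}, isClosed_closure⟩
  let ι := (Scheme.IdealSheafData.vanishingIdeal W).subschemeι
  let g := ι ≫ f
  obtain ⟨w, hw⟩ := Groth.Misc6.Equidim.exists_sub_point W (specializes_iff_mem_closure.1 hζx)
  have hw0 : FlatMor.fibreDimAt g w ≤ (0 : ℕ) := by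
    obtain ⟨a, ha, hfa, hd⟩ := Groth.Misc6.Equidim.exists_fh_eq g w
    rw [← hd, Groth.Misc6.Equidim.fh_comp_preimmersion f ι,
      hinter _ (specializes_iff_mem_closure.2 ((Groth.Misc6.Equidim.range_sub W).le ⟨a, rfl⟩))
        (hw ▸ ha.map ι.continuous) (hw ▸ hfa)]
    rfl
  let O : (Scheme.IdealSheafData.vanishingIdeal W).subscheme.Opens := ⟨_, Groth.FibreDim.isOpen_fibreDimAt_le g 0⟩
  obtain ⟨O', hO', hwO', hO'O⟩ := exists_isAffineOpen_mem_and_subset (U := O) (x := w) hw0
  obtain ⟨v, hv⟩ := Groth.Misc6.Equidim.exists_sub_point W (subset_closure rfl : ζ ∈ closure {ζ})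
  have hvg : IsGenericPoint v Set.univ := by
    refine isGenericPoint_iff_specializes.2 fun p => iff_of_true ?_ trivial
    refine ι.isEmbedding.toIsInducing.specializes_iff.1 ?_
    rw [hv]
    exact specializes_iff_mem_closure.2 ((Groth.Misc6.Equidim.range_sub W).le ⟨p, rfl⟩)
  have hvO' : v ∈ O' := (hvg.specializes (Set.mem_univ w)).mem_open O'.isOpen hwO'
  have := Groth.BMCohLib.isReduced_vanishingIdeal W
  have : IrreducibleSpace ((Scheme.IdealSheafData.vanishingIdeal W).subscheme : Type u) :=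
    (irreducibleSpace_def _).2 hvg.isIrreducible
  have : IsLocallyNoetherian (Scheme.IdealSheafData.vanishingIdeal W).subscheme :=
    LocallyOfFiniteType.isLocallyNoetherian ι
  have hirr : IrreducibleSpace ((O' : Scheme.{u}) : Type u) := (isIrreducible_iff_irreducibleSpace).1
    ⟨⟨v, hvO'⟩, PreirreducibleSpace.isPreirreducible_univ.open_subset O'.2 (Set.subset_univ _)⟩
  have : IsAffine (O' : Scheme.{u}) := hO'
  have hqc : QuasiCompact ((O'.ι ≫ ι) ≫ f) := by
    have : QuasiSeparatedSpace Y := inferInstance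
    exact quasiCompact_of_compactSpace _
  refine ⟨(O' : Scheme.{u}), O'.ι ≫ ι, inferInstance, hirr, inferInstance, ?_, inferInstance, ?_, hqc, ⟨?_⟩⟩
  · exact ⟨⟨w, hwO'⟩, hw⟩
  · refine LocallyQuasiFinite.of_finite_preimage_singleton _ fun y => ?_
    let h := (O'.ι ≫ ι) ≫ f
    have hfh : ∀ a : h.fiber y, Order.height a = 0 := by
      intro a
      obtain ⟨i, hi⟩ := Groth.Misc6.Equidim.exists_fh_nat h ((h.fiberι y).base a)
      rw [← Groth.Misc6.Equidim.fh_fiberι h y a, hi]
      have h1 := Groth.Misc6.Equidim.fh_le_fibreDimAt h ((h.fiberι y).base a)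
      rw [hi] at h1
      have h2 : FlatMor.fibreDimAt h ((h.fiberι y).base a) ≤ (0 : ℕ) := by
        have key : ∀ (h' : (O' : Scheme.{u}) ⟶ Y), h' = O'.ι ≫ g → ∀ p, FlatMor.fibreDimAt h' p ≤ (0 : ℕ) := by
          rintro _ rfl p
          rw [Groth.FibreDim.fibreDimAt_openImmersion_comp]
          exact hO'O p.2
        exact key h (Category.assoc _ _ _) _
      have h3 : i ≤ 0 := by exact_mod_cast h1.trans h2
      rw [Nat.le_zero.1 h3]; rfl
    haveI : IsNoetherianRing Γ((Scheme.IdealSheafData.vanishingIdeal W).subscheme, O') := IsLocallyNoetherian.component_noetherian ⟨O', hO'⟩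
    have : TopologicalSpace.NoetherianSpace ↥O' := noetherianSpace_of_isAffineOpen O' hO'
    have : TopologicalSpace.NoetherianSpace ↥(O' : Scheme.{u}) := ‹TopologicalSpace.NoetherianSpace ↥O'›
    have : TopologicalSpace.NoetherianSpace (h.fiber y) := (h.fiberι y).isEmbedding.toIsInducing.noetherianSpace
    have hdim : topologicalKrullDim ↥(h.fiber y) ≤ 0 := by
      rw [Groth.Variety2.Dim.dim_eq_iSup_height]
      exact iSup_le fun a => by rw [hfh a]; rfl
    have : Finite (h.fiber y) := (Groth.SpectralTopology.finite_discrete_of_dim_nonpos hdim).1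
    rw [← h.range_fiberι y]
    exact Set.finite_range _
  · refine dense_iff_closure_eq.2 (Set.eq_univ_of_univ_subset ?_)
    rw [← (genericPoint_spec Y).def]
    refine closure_mono (Set.singleton_subset_iff.2 ⟨⟨v, hvO'⟩, ?_⟩)
    show f.base (ι.base v) = genericPoint Y
    rw [hv, hfζ]

end Groth.Agent.S4944
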