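import Groth.Statements.S4946
import Groth.Agent.S4944
import Groth.Agent.Flatmor4.FlatDedekind
import Groth.Agent.Ega4Algebra1.RegularLocal

set_option autoImplicit false
open CategoryTheory AlgebraicGeometry
universe u v w
open EGA43 CategoryTheory.Limits

namespace Groth.Agent.S4946

/-- Let Y be an irreducible locally Noetherian scheme which is regular of dimension 1 (all local rings
regular of dimension at most 1), f : X ⟶ Y a morphism locally of finite type and y a point of Y.
Then the following are equivalent: d) every irreducible component of X meeting the fibre X_y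
dominates Y; e) for every point x closed in X_y and every irreducible component X_i of X containing
x, there are an irreducible reduced scheme T and an immersion T ⟶ X with image containing x and
contained in X_i, such that T ⟶ Y is quasi-finite and dominant. -/
theorem result {X Y : Scheme.{u}} [IrreducibleSpace Y]
    [IsLocallyNoetherian Y] (hY : ∀ y : Y, IsRegularLocalRing (Y.presheaf.stalk y) ∧ ringKrullDim (Y.presheaf.stalk y) ≤ 1)
    (f : X ⟶ Y) [LocallyOfFiniteType f] (y : Y) :
    (∀ Z ∈ irreducibleComponents (X : Type u), (Z ∩ f.base ⁻¹' {y}).Nonempty → Dense (f.base '' Z)) ↔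
      ∀ x : X, f.base x = y → (∀ x' : X, f.base x' = y → x ⤳ x' → x' = x) →
        ∀ Xi ∈ irreducibleComponents (X : Type u), x ∈ Xi →
          ∃ (T : Scheme.{u}) (i : T ⟶ X), IsImmersion i ∧ IrreducibleSpace ↥T ∧ IsReduced T ∧ x ∈ Set.range i.base ∧
            Set.range i.base ⊆ Xi ∧
            LocallyOfFiniteType (i ≫ f) ∧ LocallyQuasiFinite (i ≫ f) ∧ QuasiCompact (i ≫ f) ∧ IsDominant (i ≫ f) := by
  constructor
  · intro hd x hxy hcl Xi hXi hxXi
    obtain ⟨ξ, hξ⟩ := QuasiSober.sober hXi.1 (isClosed_of_mem_irreducibleComponents Xi hXi)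
    obtain rfl : closure {ξ} = Xi := hξ.def
    have hfξ : f.base ξ = genericPoint Y := by
      have h1 := dense_iff_closure_eq.1 (hd _ hXi ⟨x, hxXi, hxy⟩)
      rw [closure_image_closure f.continuous, Set.image_singleton] at h1
      exact (show IsGenericPoint (f.base ξ) Set.univ from h1).eq (genericPoint_spec Y)
    let W : TopologicalSpace.Closeds X := ⟨closure {ξ}, isClosed_closure⟩
    let ι := (Scheme.IdealSheafData.vanishingIdeal W).subschemeι
    obtain ⟨w, hw⟩ := Groth.Misc6.Equidim.exists_sub_point W hxXi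
    obtain ⟨v, hv⟩ := Groth.Misc6.Equidim.exists_sub_point W (subset_closure rfl : ξ ∈ closure {ξ})
    have hvg : IsGenericPoint v Set.univ := by
      refine isGenericPoint_iff_specializes.2 fun p => iff_of_true ?_ trivial
      refine ι.isEmbedding.toIsInducing.specializes_iff.1 ?_
      rw [hv]
      exact specializes_iff_mem_closure.2 ((Groth.Misc6.Equidim.range_sub W).le ⟨p, rfl⟩)
    have : IrreducibleSpace ((Scheme.IdealSheafData.vanishingIdeal W).subscheme : Type u) :=
      (irreducibleSpace_def _).2 hvg.isIrreducible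
    have hvgen : genericPoint ((Scheme.IdealSheafData.vanishingIdeal W).subscheme : Type u) = v :=
      (genericPoint_spec _).eq hvg
    let g := ι ≫ f
    have hgv : g.base v = genericPoint Y := (congrArg f.base hv).trans hfξ
    have hgw : g.base w = y := (congrArg f.base hw).trans hxy
    have hvw : v ⤳ w := hvg.specializes (Set.mem_univ w)
    have hdim : FlatMor.fibreDimAt g w ≤ FlatMor.fibreDimAt g v := by
      obtain ⟨hreg, hle⟩ := hY y
      have := Groth.Ega4Algebra1.isDomain_of_isRegularLocalRing (Y.presheaf.stalk y)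
      have := Groth.Flatmor4.isBezout_of_regular_dim_le_one hle
      have : ValuationRing (Y.presheaf.stalk y) := ValuationRing.iff_local_bezout_domain.2 ⟨inferInstance, inferInstance⟩
      let s := Y.fromSpecStalk y
      let h := pullback.snd g s
      have : LocallyOfFiniteType h := inferInstanceAs (LocallyOfFiniteType (pullback.snd g s))
      have hc := IsPullback.of_hasPullback g s
      have hs : s.base (IsLocalRing.closedPoint (Y.presheaf.stalk y)) = y := Scheme.fromSpecStalk_closedPoint
      let b : Spec (Y.presheaf.stalk y) := (⟨⊥, Ideal.isPrime_bot⟩ : PrimeSpectrum (Y.presheaf.stalk y))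
      have hb : s.base b = genericPoint Y := by
        obtain ⟨p, hp⟩ : genericPoint Y ∈ Set.range s.base := by
          rw [Scheme.range_fromSpecStalk]
          exact genericPoint_specializes y
        have h1 : p ⤳ b := s.isEmbedding.toIsInducing.specializes_iff.1 (hp ▸ genericPoint_specializes _)
        have h2 : b ⤳ p := (PrimeSpectrum.le_iff_specializes (⟨⊥, Ideal.isPrime_bot⟩ : PrimeSpectrum (Y.presheaf.stalk y)) p).1 (bot_le : (⊥ : Ideal (Y.presheaf.stalk y)) ≤ p.asIdeal)
        rw [← (h1.antisymm h2).eq, hp]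
      obtain ⟨z, hz, hz'⟩ := Scheme.Pullback.exists_preimage_pullback (f := g) (g := s) w
        (IsLocalRing.closedPoint (Y.presheaf.stalk y)) (hgw.trans hs.symm)
      obtain ⟨z₁, hz₁, hhz₁, hd'⟩ := Groth.Misc6.Equidim.exists_fh_eq h z
      rw [Groth.FibreDim.fibreDimAt_baseChange g s h (pullback.fst g s) hc, hz] at hd'
      obtain ⟨z', hzv, hzb⟩ := Scheme.Pullback.exists_preimage_pullback (f := g) (g := s) v b (hgv.trans hb.symm)
      have hsp : z' ⤳ z₁ := by
        refine (pullback.fst g s).isEmbedding.toIsInducing.specializes_iff.1 ?_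
        rw [hzv]
        exact hvg.specializes (Set.mem_univ _)
      obtain ⟨n, hn, hn'⟩ := Groth.FibreDim.exists_relTrdeg_eq_height h z₁
      obtain ⟨m, hm, hm'⟩ := Groth.FibreDim.exists_relTrdeg_eq_height h z'
      have hle' := @Groth.FibreDim.relTrdeg_le_of_valuation (Y.presheaf.stalk y) _ ‹IsDomain (Y.presheaf.stalk y)› ‹ValuationRing (Y.presheaf.stalk y)› _ h _ _ hsp hzb (hhz₁.trans hz')
      rw [hn, hm, Nat.cast_le] at hle'
      rw [← hd', ← hzv, ← Groth.FibreDim.fibreDimAt_baseChange g s h (pullback.fst g s) hc]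
      refine le_trans (WithBot.coe_le_coe.2 ?_) (Groth.Misc6.Equidim.fh_le_fibreDimAt h z')
      show Order.height _ ≤ Order.height _
      rw [hn', hm']
      exact Nat.cast_le.2 hle'
    have heq : EGA43.IsEquidimAt g w := by
      refine Groth.Misc6.Equidim.isEquidimAt_of_irreducible g w ?_ (by rw [hvgen]; exact hdim)
      rw [hvgen, hgv]
      exact Groth.Misc6.Equidim.component_of_eq_genericPoint rfl
    obtain ⟨T, i, h1, h2, h3, ⟨t, ht⟩, h4, h5, h6, h7⟩ := Groth.Agent.S4944.result g w heq fun p hp hwp => by
      refine ι.isEmbedding.injective ((hcl (ι.base p) (hp.trans hgw) ?_).trans hw.symm)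
      exact hw ▸ hwp.map ι.continuous
    refine ⟨T, i ≫ ι, inferInstance, h2, h3, ⟨t, ?_⟩, ?_, ?_, ?_, ?_, ?_⟩
    · show ι.base (i.base t) = x
      rw [ht, hw]
    · rintro _ ⟨p, rfl⟩
      exact (Groth.Misc6.Equidim.range_sub W).le ⟨i.base p, rfl⟩
    all_goals (rw [Category.assoc]; assumption)
  · intro he Z hZ hne
    obtain ⟨z, hzZ, hzy⟩ := hne
    have hyz : f.base z = y := hzy
    let A : Set (f.fiber y) := (f.fiberι y).base ⁻¹' Z
    have hA : A.Nonempty := by
      obtain ⟨p, hp⟩ : z ∈ Set.range (f.fiberι y).base := (f.range_fiberι y).ge hyz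
      exact ⟨p, by show _ ∈ Z; rwa [hp]⟩
    have : JacobsonSpace (f.fiber y) := LocallyOfFiniteType.jacobsonSpace (f.fiberToSpecResidueField y)
    obtain ⟨p, hpA, hp⟩ := nonempty_inter_closedPoints hA
      ((isClosed_of_mem_irreducibleComponents Z hZ).preimage (f.fiberι y).continuous).isLocallyClosed
    have hpy : f.base ((f.fiberι y).base p) = y := Groth.FibreDim.apply_fiberι f y p
    obtain ⟨T, i, -, -, -, -, hsub, -, -, -, hdom⟩ := he _ hpy (fun x' hx' hs => by
      obtain ⟨q, rfl⟩ : x' ∈ Set.range (f.fiberι y).base := (f.range_fiberι y).ge hx'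
      have hpq : p ⤳ q := (f.fiberι y).isEmbedding.toIsInducing.specializes_iff.1 hs
      have : q ∈ closure ({p} : Set (f.fiber y)) := specializes_iff_mem_closure.1 hpq
      rw [(mem_closedPoints_iff.1 hp).closure_eq] at this
      rw [Set.mem_singleton_iff.1 this]) Z hZ hpA
    refine hdom.1.mono ?_
    rintro _ ⟨t, rfl⟩
    exact ⟨i.base t, hsub ⟨t, rfl⟩, rfl⟩

end Groth.Agent.S4946
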