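import Groth.Statements.S2572
import Groth.Agent.S4946
import Groth.Agent.S4945
import Groth.Agent.S9812
import Groth.Agent.Ega4Algebra1.RegularNormal
import Groth.Agent.EGA43Topo.DVRCriterion

set_option autoImplicit false
open CategoryTheory AlgebraicGeometry
universe u
open EGA43

namespace Groth.Agent.S2572

/-- A union of irreducible components of a locally Noetherian scheme is closed. -/
theorem isClosed_sUnion_of_subset_irreducibleComponents {X : Scheme.{u}} [IsLocallyNoetherian X]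
    {S : Set (Set X)} (hS : S ⊆ irreducibleComponents (X : Type u)) : IsClosed (⋃₀ S) := by
  rw [← isOpen_compl_iff, isOpen_iff_forall_mem_open]
  intro x hx
  obtain ⟨V, hV, hxV, -⟩ := exists_isAffineOpen_mem_and_subset (U := (⊤ : X.Opens)) (x := x) trivial
  have : IsNoetherian (V : Scheme.{u}) :=
    { __ := (inferInstance : IsLocallyNoetherian (V : Scheme.{u}))
      __ := isCompact_iff_compactSpace.mp hV.isCompact }
  have hV' := V.ι.isOpenEmbedding
  let T : Set (Set (V : Scheme.{u})) :=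
    {W | W ∈ irreducibleComponents (V : Scheme.{u}) ∧ ∃ Z ∈ S, W = V.ι.base ⁻¹' Z}
  have hT : IsClosed (⋃₀ T) := by
    rw [Set.sUnion_eq_biUnion]
    exact (TopologicalSpace.NoetherianSpace.finite_irreducibleComponents.subset
      fun W hW => hW.1).isClosed_biUnion fun W hW => isClosed_of_mem_irreducibleComponents W hW.1
  refine ⟨V.ι.base '' (⋃₀ T)ᶜ, ?_, hV'.isOpenMap _ hT.isOpen_compl, ⟨⟨x, hxV⟩, ?_, rfl⟩⟩
  · rintro _ ⟨v, hv, rfl⟩ ⟨Z, hZ, hvZ⟩
    exact hv ⟨_, ⟨preimage_mem_irreducibleComponents (hS hZ) hV' ⟨_, hvZ, v, rfl⟩,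
      Z, hZ, rfl⟩, hvZ⟩
  · rintro ⟨W, ⟨-, Z, hZ, rfl⟩, hW⟩
    exact hx ⟨Z, hZ, hW⟩

/-- Let Y be an irreducible locally Noetherian scheme whose local rings are regular of dimension at most
one, f : X ⟶ Y locally of finite type, and y a point of Y. If every irreducible component of X
meeting the fibre over y has dense image in Y, then there is an open subset U of X containing that
fibre such that the restriction of f to U is universally open. -/
theorem result {X Y : Scheme.{u}} [IsLocallyNoetherian Y]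
    [IrreducibleSpace Y]
    (hY : ∀ y : Y, IsRegularLocalRing (Y.presheaf.stalk y) ∧ ringKrullDim (Y.presheaf.stalk y) ≤ 1)
    (f : X ⟶ Y) [LocallyOfFiniteType f] (y : Y)
    (h : ∀ Z ∈ irreducibleComponents (X : Type u), (Z ∩ f.base ⁻¹' {y}).Nonempty → Dense (f.base '' Z)) :
    ∃ U : X.Opens, f.base ⁻¹' {y} ⊆ (U : Set X) ∧ UniversallyOpen (U.ι ≫ f) := by
  have : IsLocallyNoetherian X := LocallyOfFiniteType.isLocallyNoetherian f
  let S : Set (Set X) := {Z | Z ∈ irreducibleComponents (X : Type u) ∧ ¬ Dense (f.base '' Z)}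
  let U : X.Opens := ⟨(⋃₀ S)ᶜ,
    (isClosed_sUnion_of_subset_irreducibleComponents (S := S) fun _ hZ => hZ.1).isOpen_compl⟩
  refine ⟨U, fun x hx => ?_, ?_⟩
  · rintro ⟨Z, ⟨hZ, hnd⟩, hxZ⟩
    exact hnd (h Z hZ ⟨x, hxZ, hx⟩)
  rw [Groth.EGA43Topo.universallyOpen_iff_forall_isUnivOpenAt]
  intro x
  have hd : ∀ Z ∈ irreducibleComponents ((U : Scheme.{u}) : Type u), Dense ((U.ι ≫ f).base '' Z) := by
    intro Z hZ
    obtain ⟨Z', hZ', hsub⟩ := exists_mem_irreducibleComponents_subset_of_isIrreducible _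
      (hZ.1.image U.ι.base U.ι.continuous.continuousOn)
    obtain ⟨z, hz⟩ := hZ.1.nonempty
    have hzU : U.ι.base z ∈ U := U.range_ι.le ⟨z, rfl⟩
    have hdense : Dense (f.base '' Z') := by
      by_contra hnd
      exact hzU ⟨Z', ⟨hZ', hnd⟩, hsub ⟨z, hz, rfl⟩⟩
    have heq : U.ι.base ⁻¹' Z' = Z :=
      subset_antisymm (hZ.2 (preimage_mem_irreducibleComponents hZ' U.ι.isOpenEmbedding
          ⟨_, hsub ⟨z, hz, rfl⟩, z, rfl⟩).1 (fun w hw => hsub ⟨w, hw, rfl⟩))
        fun w hw => hsub ⟨w, hw, rfl⟩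
    have hcl : Z' ⊆ closure (U.ι.base '' Z) := by
      rw [← heq, Set.image_preimage_eq_inter_range]
      exact subset_closure_inter_of_isPreirreducible_of_isOpen hZ'.1.2 U.ι.isOpenEmbedding.isOpen_range
        ⟨_, hsub ⟨z, hz, rfl⟩, z, rfl⟩
    refine dense_closure.1 (hdense.mono ?_)
    rw [show ((U.ι ≫ f).base '' Z) = f.base '' (U.ι.base '' Z) by rw [← Set.image_comp]; rfl]
    exact (Set.image_mono hcl).trans (image_closure_subset_closure_image f.continuous)
  have := (hY ((U.ι ≫ f).base x)).1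
  have : IsDomain (Y.presheaf.stalk ((U.ι ≫ f).base x)) :=
    Groth.Ega4Algebra1.isDomain_of_isRegularLocalRing _
  have := Groth.Ega4Algebra1.isIntegrallyClosed_of_isRegularLocalRing
    (Y.presheaf.stalk ((U.ι ≫ f).base x))
  have key := (Groth.Agent.S4945.result (U.ι ≫ f) ((U.ι ≫ f).base x)
    (Groth.Agent.S9812.result _)).out 3 0
  refine key.1 (fun x' hx' hcl => ?_) x rfl
  have hmem := irreducibleComponent_mem_irreducibleComponents x'
  obtain ⟨T, i, h1, h2, h3, h4, -, h5, h6, h7, h8⟩ :=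
    (Groth.Agent.S4946.result hY (U.ι ≫ f) _).1 (fun Z hZ _ => hd Z hZ) x' hx' hcl _ hmem
      mem_irreducibleComponent
  exact ⟨T, i, h1, h2, h3, h4, h5, h6, h7, h8⟩

end Groth.Agent.S2572
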