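import Groth.Statements.S2573
import Groth.Agent.Calg2.FreeStrat


set_option autoImplicit false
universe u
open EGA43

namespace Groth.Agent.S2573

/-- Let A be a commutative ring whose spectrum is irreducible, with unique minimal prime p, let B be a
finitely presented A-algebra and M a finitely presented B-module. If the localization M_p is flat
over A_p, then there is t ∉ p such that M_t is a free A_t-module. -/
theorem result {A B : Type u} [CommRing A] [CommRing B] [Algebra A B]
    [Algebra.FinitePresentation A B] (p : Ideal A) [p.IsPrime] (hp : minimalPrimes A = {p})
    (M : Type u) [AddCommGroup M] [Module B M] [Module A M] [IsScalarTower A B M] [Module.FinitePresentation B M]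
    (hflat : Module.Flat (Localization.AtPrime p) (LocalizedModule p.primeCompl M)) :
    ∃ t : A, t ∉ p ∧ Module.Free (Localization.Away t) (LocalizedModule (Submonoid.powers t) M) := by
  exact Groth.Calg2.FreeStrat.exists_free_localization (B := B) hp hflat

end Groth.Agent.S2573
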