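import Groth.Statements.S2574
import Groth.Agent.EGA43Flat.Nilpotent
import Mathlib.RingTheory.Ideal.AssociatedPrime.Finiteness
import Mathlib.RingTheory.Flat.Localization
import Mathlib.RingTheory.Localization.BaseChange

set_option autoImplicit false
open TensorProduct
universe u
open EGA43

namespace Groth.Agent.S2574

/-- Let A be a Noetherian ring, J a nilpotent ideal of A and M an A-module. Then M is flat over A if and
only if (A/J) ⊗_A M is flat over A/J and, for every associated prime p of A, the localization M_p is
flat over A_p. -/
theorem result {A : Type u} [CommRing A] [IsNoetherianRing A]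
    (J : Ideal A) (hJ : IsNilpotent J) (M : Type u) [AddCommGroup M] [Module A M] :
    Module.Flat A M ↔
      Module.Flat (A ⧸ J) ((A ⧸ J) ⊗[A] M) ∧
        ∀ p : associatedPrimes A A,
          haveI : p.1.IsPrime := IsAssociatedPrime.isPrime p.2
          Module.Flat (Localization.AtPrime p.1) (LocalizedModule p.1.primeCompl M) := by
  constructor
  · intro h
    refine ⟨inferInstance, fun p => ?_⟩
    infer_instance
  · rintro ⟨hJf, hp⟩
    haveI : Finite (associatedPrimes A A) := (associatedPrimes.finite A A).to_subtype
    haveI hpr : ∀ p : associatedPrimes A A, p.1.IsPrime := fun p => IsAssociatedPrime.isPrime p.2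
    haveI : ∀ p : associatedPrimes A A,
        Module.Flat (Localization.AtPrime p.1) (Localization.AtPrime p.1 ⊗[A] M) := fun p =>
      haveI := hp p
      Module.Flat.of_linearEquiv
        (IsLocalizedModule.isBaseChange p.1.primeCompl (Localization.AtPrime p.1)
          (LocalizedModule.mkLinearMap p.1.primeCompl M)).equiv
    refine Groth.EGA43Flat.flat_of_flat_quotient_of_finite_family hJ
      (fun p : associatedPrimes A A => Localization.AtPrime p.1) fun a ha => ?_
    by_contra ha0
    obtain ⟨P, hP, hle⟩ := exists_le_isAssociatedPrime_of_isNoetherianRing A a ha0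
    haveI := hP.isPrime
    obtain ⟨s, hs⟩ := (IsLocalization.map_eq_zero_iff P.primeCompl
      (Localization.AtPrime P) a).1 (ha ⟨P, hP⟩)
    refine s.2 (hle ?_)
    simpa using hs

end Groth.Agent.S2574
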