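import Groth.Statements.S2586
import Groth.Agent.Calg4.FibreSliceList

set_option autoImplicit false
open TensorProduct
universe u
open EGA43

namespace Groth.Agent.S2586

/-- Let A ⟶ B be a ring map with B finitely presented over A, M a finitely presented B-module, q a prime
of B with contraction p, and g₁, …, gₙ elements of q. Suppose the localization M_q is flat over A
and the gᵢ form a regular sequence on the localization at q of the fibre module M ⊗_A κ(p). Then the
gᵢ form a regular sequence on M_q, and for every i the localization at q of M/(g₁, …, gᵢ)M is flat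
over A. -/
theorem result {A B : Type u} [CommRing A] [CommRing B] [Algebra A B]
    [Algebra.FinitePresentation A B] (M : Type u) [AddCommGroup M] [Module B M] [Module A M] [IsScalarTower A B M]
    [Module.FinitePresentation B M] (q : Ideal B) [q.IsPrime] (g : List B) (hg : ∀ b ∈ g, b ∈ q)
    (hflat : Module.Flat A (LocalizedModule q.primeCompl M))
    (hreg : RingTheory.Sequence.IsRegular
      (LocalizedModule q.primeCompl (M ⊗[A] (q.comap (algebraMap A B)).ResidueField)) g) :
    RingTheory.Sequence.IsRegular (LocalizedModule q.primeCompl M) g ∧
      ∀ i ≤ g.length, Module.Flat A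
        (LocalizedModule q.primeCompl (M ⧸ (Ideal.span {b | b ∈ g.take i} • (⊤ : Submodule B M)))) := by
  obtain ⟨h1, h2⟩ := Groth.Calg4.slice_list q g M hflat hreg.toIsWeaklyRegular
  refine ⟨⟨h1, ?_⟩, h2⟩
  intro htop
  let X := LocalizedModule q.primeCompl M
  let Bq := Localization.AtPrime q
  -- `M_q` is nonzero, as the fibre is
  have hne : Nontrivial X := by
    by_contra hX
    rw [not_nontrivial_iff_subsingleton] at hX
    obtain ⟨t, ht, htM⟩ : ∃ t ∉ q, ∀ m : M, t • m = 0 := by
      classical
      obtain ⟨G, hG⟩ := (Module.Finite.fg_top : (⊤ : Submodule B M).FG)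
      choose t ht htm using fun m : M => LocalizedModule.subsingleton_iff.mp hX m
      refine ⟨∏ m ∈ G, t m, fun h => ?_, fun m => ?_⟩
      · obtain ⟨m, -, hm⟩ := (Ideal.IsPrime.prod_mem_iff (hp := ‹q.IsPrime›)).mp h
        exact ht m hm
      · induction (hG ▸ Submodule.mem_top : m ∈ Submodule.span B (G : Set M)) using Submodule.span_induction with
        | mem x hx =>
          rw [← Finset.mul_prod_erase G t hx, mul_comm, mul_smul, htm, smul_zero]
        | zero => exact smul_zero _
        | add x y _ _ hx hy => rw [smul_add, hx, hy, add_zero]
        | smul c x _ hx => rw [smul_comm, hx, smul_zero]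
    have : Subsingleton (LocalizedModule q.primeCompl (M ⊗[A] (q.comap (algebraMap A B)).ResidueField)) :=
      LocalizedModule.subsingleton_iff.mpr fun z => ⟨t, ht, by
        induction z using TensorProduct.induction_on with
        | zero => exact smul_zero _
        | tmul m k => rw [TensorProduct.smul_tmul', htM, TensorProduct.zero_tmul]
        | add x y hx hy => rw [smul_add, hx, hy, add_zero]⟩
    exact hreg.top_ne_smul (Subsingleton.elim _ _)
  have : Module.Finite Bq X := inferInstance
  let I := (Ideal.ofList g).map (algebraMap B Bq)
  have hI : I ≤ IsLocalRing.maximalIdeal Bq := by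
    rw [← Localization.AtPrime.map_eq_maximalIdeal]
    exact Ideal.map_mono (Ideal.span_le.mpr hg)
  refine Submodule.top_ne_ideal_smul_of_le_jacobson_annihilator (M := X) (I := I)
    (hI.trans ((IsLocalRing.maximalIdeal_le_jacobson _).trans (Ideal.jacobson_mono le_rfl))) ?_
  refine le_antisymm (fun x _ => ?_) le_top
  have hx : x ∈ Ideal.ofList g • (⊤ : Submodule B X) := htop ▸ Submodule.mem_top
  induction hx using Submodule.smul_induction_on' with
  | smul r hr y _ =>
    rw [← algebraMap_smul Bq r y]
    exact Submodule.smul_mem_smul (Ideal.mem_map_of_mem _ hr) Submodule.mem_top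
  | add y _ z _ hy hz => exact add_mem (hy Submodule.mem_top) (hz Submodule.mem_top)

end Groth.Agent.S2586
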