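import Groth.Statements.S2594
import Groth.Agent.Misc6.Equidim2

set_option autoImplicit false
open CategoryTheory AlgebraicGeometry
universe u
open EGA43

namespace Groth.Agent.S2594

open CategoryTheory.Limits in
/-- Let f : X ⟶ Y be locally of finite type and equidimensional at a point x, and g : Y' ⟶ Y a flat
morphism with Y' locally Noetherian (the source states this for arbitrary Y', but its proof reduces
to the case where every irreducible component passes through the point, which needs the irreducible
components to be locally finite). Then the base change X ×_Y Y' ⟶ Y' is equidimensional at every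
point lying over x. -/
theorem result {X Y Y' : Scheme.{u}} (f : X ⟶ Y) [LocallyOfFiniteType f] (g : Y' ⟶ Y) [Flat g] [IsLocallyNoetherian Y']
    (x : X) (h : EGA43.IsEquidimAt f x) (x' : ↥(pullback f g)) (hx' : (pullback.fst f g).base x' = x) :
    EGA43.IsEquidimAt (pullback.snd f g) x' := by
  let f' := pullback.snd f g
  let q := pullback.fst f g
  have : LocallyOfFiniteType f' := inferInstanceAs (LocallyOfFiniteType (pullback.snd f g))
  have : Flat q := inferInstanceAs (Flat (pullback.fst f g))
  have : IsLocallyNoetherian (pullback f g) := LocallyOfFiniteType.isLocallyNoetherian f'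
  have hc := IsPullback.of_hasPullback f g
  obtain ⟨a, -, -, ha⟩ := Groth.Misc6.Equidim.exists_fh_eq f x
  obtain ⟨e, he⟩ := Groth.Misc6.Equidim.exists_fh_nat f a
  rw [he] at ha
  refine Groth.Misc6.Equidim.isEquidimAt_of_components f' e (fun ξ hξ hξc => ?_) ?_
  · have hξmax : ∀ p : ↥(pullback f g), p ⤳ ξ → p = ξ := fun p hp => (hp.antisymm (Scheme.le_iff_specializes.1
      (Groth.FibreDim.isMax_of_mem_genericPoints hξc (Scheme.le_iff_specializes.2 hp)))).eq
    -- the image in `X` is a maximal point
    obtain ⟨b, hb, hbc⟩ := Groth.FibreDim.exists_genericPoint_specializes (q.base ξ)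
    obtain ⟨b', hb', hb'e⟩ := Flat.generalizingMap q hb
    rw [hξmax b' hb'] at hb'e
    subst hb'e
    obtain ⟨hS, hfh⟩ := Groth.Misc6.Equidim.of_isEquidimAt f h hbc (hx' ▸ hξ.map q.continuous)
    have hsq : f.base (q.base ξ) = g.base (f'.base ξ) := congr(($(pullback.condition (f := f) (g := g))).base ξ)
    constructor
    · obtain ⟨η', hη', hη'c⟩ := Groth.FibreDim.exists_genericPoint_specializes (f'.base ξ)
      suffices f'.base ξ = η' by rwa [this]
      set η := f.base (q.base ξ) with hη
      have hgη' : g.base η' = η := by
        have h1 : g.base η' ⤳ η := hsq ▸ hη'.map g.continuous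
        exact (h1.antisymm (Scheme.le_iff_specializes.1
          (Groth.FibreDim.isMax_of_mem_genericPoints hS (Scheme.le_iff_specializes.2 h1)))).eq
      let j := g.fiberι η
      obtain ⟨w, hw⟩ : f'.base ξ ∈ Set.range j.base := (g.range_fiberι η).ge hsq.symm
      obtain ⟨v, hv⟩ : η' ∈ Set.range j.base := (g.range_fiberι η).ge hgη'
      have hflat : Flat (pullback.snd f' j) := by
        have h1 : Flat (pullback.snd f (g.fiberToSpecResidueField η ≫ Y.fromSpecResidueField η)) := by
          rw [← (Iso.inv_comp_eq _).2 (pullbackLeftPullbackSndIso_hom_snd f (Y.fromSpecResidueField η) (g.fiberToSpecResidueField η)).symm]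
          infer_instance
        rw [← Groth.FibreDim.fiberι_comp g η] at h1
        show Flat (pullback.snd (pullback.snd f g) j)
        rw [← pullbackLeftPullbackSndIso_hom_snd f g j]
        infer_instance
      obtain ⟨z, hz1, hz2⟩ := Scheme.Pullback.exists_preimage_pullback (f := f') (g := j) ξ w hw.symm
      have hvw : v ⤳ (pullback.snd f' j).base z := by
        rw [hz2]
        exact j.isEmbedding.toIsInducing.specializes_iff.1 (by rw [hv, hw]; exact hη')
      obtain ⟨z', hz', hz'v⟩ := Flat.generalizingMap (pullback.snd f' j) hvw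
      have hfst : (pullback.fst f' j).base z' = ξ := hξmax _ (hz1 ▸ hz'.map (pullback.fst f' j).continuous)
      rw [← hfst, ← hv, ← hz'v]
      exact congr(($(pullback.condition (f := f') (g := j))).base z')
    · have h1 := Groth.Misc6.Equidim.fibreDimAt_eq_fh_of_isMax f' (Groth.FibreDim.isMax_of_mem_genericPoints hξc)
      rw [Groth.FibreDim.fibreDimAt_baseChange f g f' q hc,
        Groth.Misc6.Equidim.fibreDimAt_eq_fh_of_isMax f (Groth.FibreDim.isMax_of_mem_genericPoints hbc),
        WithBot.coe_inj.1 (hfh.symm.trans ha.symm)] at h1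
      exact (WithBot.coe_inj.1 h1).symm
  · rw [Groth.FibreDim.fibreDimAt_baseChange f g f' q hc, hx', ← ha]
    rfl

end Groth.Agent.S2594
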