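import Groth.Statements.S2595
import Groth.Agent.EGA43Topo.EquidimFlatCM

set_option autoImplicit false
open CategoryTheory AlgebraicGeometry
universe u
open EGA43

namespace Groth.Agent.S2595

/-- Let Y be locally Noetherian, f : X ⟶ Y locally of finite type and x a point of X. If O_{Y,f x} ⟶
O_{X,x} is flat and the local ring at x of the fibre through x is Cohen–Macaulay, then f is
equidimensional at x. -/
theorem result {X Y : Scheme.{u}} [IsLocallyNoetherian Y] (f : X ⟶ Y)
    [LocallyOfFiniteType f] (x : X) (hflat : (f.stalkMap x).hom.Flat)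
    (hCM : LocCoh.IsCohenMacaulayLocalRing ((f.fiber (f.base x)).presheaf.stalk (f.asFiber x))) :
    EGA43.IsEquidimAt f x := by
  exact Groth.EGA43Topo.isEquidimAt_of_isCMAt f x ⟨hflat, hCM⟩

end Groth.Agent.S2595
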