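import Groth.Statements.S2596
import Groth.Agent.Valuative.ProperAt

set_option autoImplicit false
open CategoryTheory AlgebraicGeometry
universe u
open EGA43

namespace Groth.Agent.S2596

open CategoryTheory.Limits in
/-- Let Y be locally Noetherian, f : X ⟶ Y separated and of finite type, and y a point of Y. Suppose
that for every discrete valuation ring A with fraction field K and every morphism g : Spec A ⟶ Y
sending the closed point to y, every K-point σ of X ×_Y Spec A lying over the generic point Spec K ⟶
Spec A extends to a section of X ×_Y Spec A ⟶ Spec A. Then f is proper over some open neighbourhood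
of y. -/
theorem result {X Y : Scheme.{u}} [IsLocallyNoetherian Y]
    (f : X ⟶ Y) [IsSeparated f] [LocallyOfFiniteType f] [QuasiCompact f] (y : Y)
    (h : ∀ (A : Type u) [CommRing A] [IsDomain A] [IsDiscreteValuationRing A]
      (g : Spec (CommRingCat.of A) ⟶ Y), g.base (IsLocalRing.closedPoint A) = y →
      ∀ σ : Spec (CommRingCat.of (FractionRing A)) ⟶ pullback f g,
        σ ≫ pullback.snd f g = Spec.map (CommRingCat.ofHom (algebraMap A (FractionRing A))) →
        ∃ s : Spec (CommRingCat.of A) ⟶ pullback f g, s ≫ pullback.snd f g = 𝟙 _ ∧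
          Spec.map (CommRingCat.ofHom (algebraMap A (FractionRing A))) ≫ s = σ) :
    ∃ U : Y.Opens, y ∈ U ∧ IsProper (f ∣_ U) := by
  refine Groth.Valuative.exists_proper_nhd_of_through f Set.univ (fun c => ⟨c, trivial, specializes_rfl⟩) y
    fun V o _ u _ A hA a ha hsq => ?_
  let e : FractionRing A ≃ₐ[A] V.residueField u :=
    IsLocalization.algEquiv (nonZeroDivisors A) (FractionRing A) (V.residueField u)
  let ε : Spec (CommRingCat.of (FractionRing A)) ⟶ Spec (CommRingCat.of (V.residueField u)) :=
    Spec.map (CommRingCat.ofHom e.symm.toRingEquiv.toRingHom)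
  let ε' : Spec (CommRingCat.of (V.residueField u)) ⟶ Spec (CommRingCat.of (FractionRing A)) :=
    Spec.map (CommRingCat.ofHom e.toRingEquiv.toRingHom)
  have hinv : ε' ≫ ε = 𝟙 _ := by
    rw [← Spec.map_comp, ← Spec.map_id]
    exact congrArg Spec.map (CommRingCat.hom_ext (RingHom.ext fun r => e.apply_symm_apply r))
  have hε : ε ≫ Spec.map (CommRingCat.ofHom A.subtype) =
      Spec.map (CommRingCat.ofHom (algebraMap A (FractionRing A))) := by
    rw [← Spec.map_comp]
    exact congrArg Spec.map (CommRingCat.hom_ext (RingHom.ext fun r => e.symm.commutes r))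
  obtain ⟨s, hs1, hs2⟩ := h A a ha
    (pullback.lift (ε ≫ V.fromSpecResidueField u ≫ o) (Spec.map (CommRingCat.ofHom (algebraMap A (FractionRing A))))
      (by rw [← hε]; simp only [Category.assoc] at hsq ⊢; rw [hsq]))
    (pullback.lift_snd _ _ _)
  refine ⟨s ≫ pullback.fst f a, by rw [Category.assoc, pullback.condition, ← Category.assoc, hs1, Category.id_comp], ?_⟩
  have h3 : ε ≫ Spec.map (CommRingCat.ofHom A.subtype) ≫ s ≫ pullback.fst f a = ε ≫ V.fromSpecResidueField u ≫ o := by
    rw [← Category.assoc, hε, ← Category.assoc, hs2, pullback.lift_fst]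
  exact (reassoc_of% hinv) _ |>.symm.trans ((congrArg (ε' ≫ ·) h3).trans ((reassoc_of% hinv) _))

end Groth.Agent.S2596
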