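import Groth.Statements.S9565
import Groth.Agent.HensPair.StalkLocal

set_option autoImplicit false
universe u
open EtLocal

namespace Groth.Agent.S9565

open AlgebraicGeometry CategoryTheory in
/-- Let Y be a locally Noetherian scheme, f : X ⟶ Y locally of finite type and x a point of X with image
y. Then f is unramified on some open neighbourhood of x if and only if the map of local rings
O_{Y,y} → O_{X,x} is an unramified homomorphism of local rings: the maximal ideal of O_{Y,y}
generates that of O_{X,x}, and the residue field of x is a finite separable extension of that of y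
(O_{X,x} is automatically essentially of finite type over O_{Y,y}). -/
theorem result {X Y : Scheme.{u}} (f : X ⟶ Y)
    [LocallyOfFiniteType f] [IsLocallyNoetherian Y] (x : X) :
    (∃ U : X.Opens, x ∈ U ∧ FormallyUnramified (U.ι ≫ f)) ↔
      ((IsLocalRing.maximalIdeal (Y.presheaf.stalk (f.base x))).map (f.stalkMap x).hom =
          IsLocalRing.maximalIdeal (X.presheaf.stalk x) ∧
        letI := (f.residueFieldMap x).hom.toAlgebra
        Module.Finite (Y.residueField (f.base x)) (X.residueField x) ∧
          Algebra.IsSeparable (Y.residueField (f.base x)) (X.residueField x)) := by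
  constructor
  · rintro ⟨U, hxU, hF⟩
    let z : (U : Scheme.{u}) := ⟨x, hxU⟩
    have hFU : FormallyUnramified (U.ι ≫ f) := inferInstance
    have hs : (f.stalkMap x).hom.FormallyUnramified :=
      Groth.HensPair.stalkMap_of_opens f RingHom.FormallyUnramified.respectsIso U z
        (FormallyUnramified.stalkMap _ z)
    let : Algebra (Y.presheaf.stalk (f x)) (X.presheaf.stalk x) := (f.stalkMap x).hom.toAlgebra
    have : IsLocalHom (algebraMap (Y.presheaf.stalk (f x)) (X.presheaf.stalk x)) :=
      inferInstanceAs <| IsLocalHom (f.stalkMap x).hom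
    have : Algebra.EssFiniteType (Y.presheaf.stalk (f x)) (X.presheaf.stalk x) :=
      RingHom.essFiniteType_algebraMap.1 (LocallyOfFiniteType.stalkMap f x)
    have : Algebra.FormallyUnramified (Y.presheaf.stalk (f x)) (X.presheaf.stalk x) := hs
    refine ⟨Algebra.FormallyUnramified.map_maximalIdeal, ?_⟩
    rw [Groth.HensPair.residueFieldMap_toAlgebra f x rfl]
    exact ⟨(by infer_instance : Module.Finite (IsLocalRing.ResidueField (Y.presheaf.stalk (f x))) (IsLocalRing.ResidueField (X.presheaf.stalk x))),
      (inferInstance : Algebra.IsSeparable (IsLocalRing.ResidueField _) (IsLocalRing.ResidueField _))⟩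
  · rintro ⟨hm, hres⟩
    let : Algebra (Y.presheaf.stalk (f x)) (X.presheaf.stalk x) := (f.stalkMap x).hom.toAlgebra
    have : IsLocalHom (algebraMap (Y.presheaf.stalk (f x)) (X.presheaf.stalk x)) :=
      inferInstanceAs <| IsLocalHom (f.stalkMap x).hom
    have : Algebra.EssFiniteType (Y.presheaf.stalk (f x)) (X.presheaf.stalk x) :=
      RingHom.essFiniteType_algebraMap.1 (LocallyOfFiniteType.stalkMap f x)
    rw [Groth.HensPair.residueFieldMap_toAlgebra f x rfl] at hres
    have : Module.Finite (IsLocalRing.ResidueField (Y.presheaf.stalk (f x)))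
        (IsLocalRing.ResidueField (X.presheaf.stalk x)) := hres.1
    have : Algebra.IsSeparable (IsLocalRing.ResidueField (Y.presheaf.stalk (f x)))
        (IsLocalRing.ResidueField (X.presheaf.stalk x)) := hres.2
    have : Algebra.FormallyUnramified (Y.presheaf.stalk (f x)) (X.presheaf.stalk x) :=
      .of_map_maximalIdeal hm
    obtain ⟨V, W, e, hxW, hW⟩ := Groth.HensPair.exists_opens_of_stalk f x (P := @FormallyUnramified)
      (Q := RingHom.FormallyUnramified) (R' := fun {R S} _ _ φ => letI := RingHom.toAlgebra φ; Algebra.FormallyUnramified R S)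
      (fun A B S _ _ _ _ _ _ _ _ _ q _ _ h => by
        rw [toAlgebra_algebraMap] at h
        let ε := (IsLocalization.algEquiv q.primeCompl S (Localization.AtPrime q)).restrictScalars A
        have : Algebra.IsUnramifiedAt A q := Algebra.FormallyUnramified.of_equiv ε
        obtain ⟨g, hg, hg'⟩ := Algebra.exists_formallyUnramified_of_isUnramifiedAt (R := A) q
        exact ⟨g, hg, RingHom.formallyUnramified_algebraMap.2 hg'⟩
        ) (fun V hV hy => by
        let := Y.presheaf.algebra_section_stalk (⟨f x, hy⟩ : V)
        have := hV.isLocalization_stalk ⟨f x, hy⟩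
        let := (Y.presheaf.germ V (f x) hy ≫ f.stalkMap x).hom.toAlgebra
        have : IsScalarTower Γ(Y, V) (Y.presheaf.stalk (f x)) (X.presheaf.stalk x) := .of_algebraMap_eq' rfl
        have : Algebra.FormallyUnramified Γ(Y, V) (Y.presheaf.stalk (f x)) :=
          .of_isLocalization (hV.primeIdealOf ⟨f x, hy⟩).asIdeal.primeCompl
        exact Algebra.FormallyUnramified.comp Γ(Y, V) (Y.presheaf.stalk (f x)) (X.presheaf.stalk x))
    exact ⟨W, hxW, by rw [← Scheme.Hom.resLE_comp_ι f e]; exact MorphismProperty.comp_mem _ _ _ hW inferInstance⟩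

end Groth.Agent.S9565
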