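import Groth.Statements.S2903
import Groth.Agent.Pi1Eff.Proper
import Groth.Agent.Pi1Eff.Dictionary
import Groth.Agent.S14797

set_option backward.isDefEq.respectTransparency false

set_option autoImplicit false
open CategoryTheory CategoryTheory.Limits AlgebraicGeometry Opposite
universe u
open SGA1

namespace Groth.Agent.S2903

/-- Let g : S' ⟶ S be proper, surjective and locally of finite presentation. Then every descent datum
relative to g whose underlying scheme is a finite etale cover of S' is isomorphic to the canonical
descent datum of a finite etale cover of S. (Descent data relative to g are taken in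
functor-of-points form.) -/
theorem result {S' S : Scheme.{u}} (g : S' ⟶ S) [IsProper g] [Surjective g]
    [LocallyOfFinitePresentation g] (D : Desc.SchDD g) [IsFinite D.obj.hom] [Etale D.obj.hom] :
    ∃ U : Over S, IsFinite U.hom ∧ Etale U.hom ∧ Nonempty ((Desc.toDD g).obj U ≅ D) := by
  obtain ⟨U, -, -, hU, ⟨α⟩⟩ :=
    Groth.Pi1EtDesc.exists_sepqc_of_effAlong (Groth.Pi1EtDesc.effAlong_proper g) D
  obtain ⟨q, hpb, -⟩ := Groth.Pi1EtDesc.exists_quot_of_iso D U α
  haveI := hU
  haveI : IsFinite (CategoryTheory.Limits.pullback.snd U.hom g) := by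
    rw [← hpb.isoPullback_inv_snd]; infer_instance
  exact ⟨U, Groth.Agent.S14797.result g (Groth.Pi1EtDesc.IsUS.us) U.hom, hU, ⟨α⟩⟩

end Groth.Agent.S2903
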