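import Groth.Statements.S2906
import Groth.Agent.Pi1Desc.Separated
import Groth.Agent.DescentBase.DimEtale
import Groth.Agent.EtaleBase.FpqcDescent

set_option autoImplicit false
open CategoryTheory CategoryTheory.Limits AlgebraicGeometry Opposite
universe u
open SGA1

namespace Groth.Agent.S2906

/-- Let g : S' ⟶ S be flat, surjective and quasi-compact. Then every descent datum relative to g whose
underlying scheme is etale, separated and quasi-compact over S' is isomorphic to the canonical
descent datum of a scheme etale, separated and quasi-compact over S. (Descent data relative to g are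
taken in functor-of-points form.) -/
theorem result {S' S : Scheme.{u}} (g : S' ⟶ S) [Flat g] [Surjective g] [QuasiCompact g]
    (D : Desc.SchDD g) [QuasiCompact D.obj.hom] [IsSeparated D.obj.hom] [Etale D.obj.hom] :
    ∃ U : Over S, QuasiCompact U.hom ∧ IsSeparated U.hom ∧ Etale U.hom ∧ Nonempty ((Desc.toDD g).obj U ≅ D) := by
  haveI : LocallyQuasiFinite D.obj.hom := Groth.DescentBase.locallyQuasiFinite_of_etale _
  obtain ⟨U, q, hpb, hiso⟩ := Groth.Pi1Desc.exists_iso_of_eff D
    (Groth.Pi1Desc.Act.eff_of_isQuasiAffineHom (Groth.Pi1Desc.isQuasiAffineHom_of_locallyQuasiFinite D.obj.hom) _)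
  have hQ : (@Surjective ⊓ @Flat ⊓ @QuasiCompact : MorphismProperty Scheme.{u}) g :=
    ⟨⟨inferInstance, inferInstance⟩, inferInstance⟩
  exact ⟨U, MorphismProperty.of_isPullback_of_descendsAlong hpb.flip hQ ‹QuasiCompact D.obj.hom›,
    MorphismProperty.of_isPullback_of_descendsAlong hpb.flip hQ ‹IsSeparated D.obj.hom›,
    MorphismProperty.of_isPullback_of_descendsAlong hpb.flip hQ ‹Etale D.obj.hom›, hiso⟩

end Groth.Agent.S2906
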