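import Groth.Statements.S2910
import Groth.Agent.Pi1Quot.Free
import Groth.Agent.Pi1FEt.Points
import Groth.Agent.Pi1Etale.EqLocus

set_option autoImplicit false
open CategoryTheory CategoryTheory.Limits AlgebraicGeometry
universe u
open SGA1

namespace Groth.Agent.S2910

/-- Let a finite group G act faithfully on a connected scheme X, let p : X ⟶ Y be a quotient of X by G
with Y locally Noetherian and p finite, and suppose p is etale. Then G acts freely on the geometric
points of X (all inertia groups are trivial), and every automorphism of X over Y is the action of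
exactly one element of G. -/
theorem result {X Y : Scheme.{u}} {G : Type u} [Group G] [Finite G] (ρ : G →* Aut X)
    (p : X ⟶ Y) (hp : SGA1.IsQuot ρ p) [IsLocallyNoetherian Y] [IsFinite p] [ConnectedSpace X]
    (hfaith : Function.Injective ρ) [Etale p] :
    (∀ (K : Type u) [Field K] [IsAlgClosed K] (ξ : Spec (CommRingCat.of K) ⟶ X) (g : G), ξ ≫ (ρ g).hom = ξ → g = 1) ∧
    ∀ u : Aut X, u.hom ≫ p = p → ∃! g : G, ρ g = u := by
  have hfree : ∀ (K : Type u) [Field K] [IsAlgClosed K] (ξ : Spec (CommRingCat.of K) ⟶ X) (g : G),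
      ξ ≫ (ρ g).hom = ξ → g = 1 := by
    intro K _ _ ξ g hg
    have h1 : (ρ g).hom = 𝟙 X := Groth.Pi1Etale.eq_of_comp_eq_of_connected p _ _
      ((hp.inv g).trans (Category.id_comp p).symm) ξ (hg.trans (Category.comp_id ξ).symm)
    refine hfaith ?_
    rw [map_one]
    exact Iso.ext h1
  refine ⟨hfree, fun u hu => ?_⟩
  obtain ⟨x⟩ := (inferInstance : Nonempty X)
  obtain ⟨K, _, _, ξ, -⟩ := Groth.Pi1FEt.exists_geomPoint x
  obtain ⟨g, hg⟩ := Groth.Pi1Quot.exists_point_smul hp hfree ξ (ξ ≫ u.hom) (by rw [Category.assoc, hu])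
  refine ⟨g, Iso.ext (Groth.Pi1Etale.eq_of_comp_eq_of_connected p _ _
    ((hp.inv g).trans hu.symm) ξ hg), fun g' hg' => hfaith (hg'.trans (Iso.ext ?_))⟩
  exact (Groth.Pi1Etale.eq_of_comp_eq_of_connected p _ _ ((hp.inv g).trans hu.symm) ξ hg).symm

end Groth.Agent.S2910
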