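import Groth.Statements.S2911
import Groth.Agent.Pi1Quot.EtaleQuot

set_option autoImplicit false
open CategoryTheory CategoryTheory.Limits AlgebraicGeometry
universe u
open SGA1

namespace Groth.Agent.S2911

/-- With the existence of the quotient taken as a hypothesis: Let Y be locally Noetherian, f : X ⟶ Y
etale, separated and quasi-compact, G a finite group acting on X by Y-automorphisms, p : X ⟶ X' a
quotient of X by G and q : X' ⟶ Y the induced morphism. Then p and q are etale, and if f is finite
then q is finite. -/
theorem result {X X' Y : Scheme.{u}} {G : Type u} [Group G] [Finite G] (ρ : G →* Aut X)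
    [IsLocallyNoetherian Y] (f : X ⟶ Y) [Etale f] [IsSeparated f] [QuasiCompact f] (hρ : ∀ g : G, (ρ g).hom ≫ f = f)
    (p : X ⟶ X') (hp : SGA1.IsQuot ρ p) (q : X' ⟶ Y) (hq : p ≫ q = f) :
    Etale p ∧ Etale q ∧ (IsFinite f → IsFinite q) := by
  subst hq
  exact ⟨Groth.Pi1Quot.etale_quot hp q, Groth.Pi1Quot.etale_quot_snd hp q,
    fun _ => Groth.Pi1Quot.isFinite_quot_snd hp q⟩

end Groth.Agent.S2911
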