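import Groth.Statements.S2912
import Groth.Agent.Pi1Desc.Radicial

set_option autoImplicit false
open CategoryTheory CategoryTheory.Limits AlgebraicGeometry Opposite
universe u
open SGA1

namespace Groth.Agent.S2912

/-- Let g : S' ⟶ S be flat, surjective, quasi-compact and universally injective. Then every descent
datum relative to g (on an arbitrary S'-scheme) is isomorphic to the canonical descent datum of some
S-scheme. (Descent data relative to g are taken in functor-of-points form.) -/
theorem result {S' S : Scheme.{u}} (g : S' ⟶ S) [Flat g] [Surjective g] [QuasiCompact g]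
    [UniversallyInjective g] (D : Desc.SchDD g) : ∃ U : Over S, Nonempty ((Desc.toDD g).obj U ≅ D) := by
  obtain ⟨U, q, -, h⟩ := Groth.Pi1Desc.exists_iso_of_eff D (Groth.Pi1Desc.Act.eff_of_universallyInjective _)
  exact ⟨U, h⟩

end Groth.Agent.S2912
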