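import Groth.Statements.S2913


set_option autoImplicit false
open CategoryTheory CategoryTheory.Limits AlgebraicGeometry Opposite
universe u
open SGA1

namespace Groth.Agent.S2913

/-- Let g : S' ⟶ S be a surjective morphism of schemes such that for every open U of S the map O_S(U) →
O_{S'}(g⁻¹U) is injective. Then g is an epimorphism in the category of schemes. -/
theorem result {S' S : Scheme.{u}} (g : S' ⟶ S) [Surjective g]
    (hinj : ∀ U : S.Opens, Function.Injective (g.app U).hom) : Epi g := by
  refine ⟨fun {T} a b hab => ?_⟩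
  have hb : a.base = b.base := by
    ext s
    obtain ⟨s', rfl⟩ := g.surjective s
    rw [← Scheme.Hom.comp_apply, ← Scheme.Hom.comp_apply, hab]
  refine Scheme.Hom.ext hb fun U => ?_
  have h2 := Scheme.Hom.congr_app hab U
  rw [Scheme.Hom.comp_app, Scheme.Hom.comp_app] at h2
  have : Mono (g.app (b ⁻¹ᵁ U)) := ConcreteCategory.mono_of_injective _ (hinj _)
  rw [← cancel_mono (g.app (b ⁻¹ᵁ U)), Category.assoc, Scheme.Hom.naturality]
  refine (Category.assoc _ _ _).symm.trans ((congrArg (· ≫ _) h2).trans ?_)
  refine (Category.assoc _ _ _).trans ?_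
  refine (congrArg (_ ≫ ·) ?_).trans (Category.comp_id _)
  refine (Functor.map_comp _ _ _).symm.trans ?_
  exact (congrArg S'.presheaf.map (Subsingleton.elim _ (𝟙 _))).trans (CategoryTheory.Functor.map_id _ _)

end Groth.Agent.S2913
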