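import Groth.Statements.S2914
import Groth.Agent.Pi1Quot.Basic
import Mathlib.CategoryTheory.Sites.EffectiveEpimorphic

set_option backward.isDefEq.respectTransparency false
set_option linter.style.haveILetI false

set_option autoImplicit false
open CategoryTheory CategoryTheory.Limits AlgebraicGeometry Opposite
universe u
open SGA1

namespace Groth.Agent.S2914

/-- Let g : S' ⟶ S be a morphism of schemes whose underlying map is a quotient map, and such that for
every open U of S the sequence O_S(U) → O_{S'}(g⁻¹U) ⇉ O_{S''}(h⁻¹U) is an equalizer, where S'' = S'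
×_S S' with structure map h and the two arrows are restriction along the projections. Then g is an
effective epimorphism in the category of schemes. -/
theorem result {S' S : Scheme.{u}} (g : S' ⟶ S) (hq : Topology.IsQuotientMap g.base)
    (hinj : ∀ U : S.Opens, Function.Injective (g.app U).hom)
    (heq : ∀ (U : S.Opens) (s' : Γ(S', g ⁻¹ᵁ U)), (SGA1.overlapFstApp g U).hom s' = (SGA1.overlapSndApp g U).hom s' →
      s' ∈ Set.range (g.app U).hom) :
    EffectiveEpi g := by
  have hsurj : Function.Surjective g.base := hq.surjective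
  have key : ∀ {T : Scheme.{u}} (h : S' ⟶ T), pullback.fst g g ≫ h = pullback.snd g g ≫ h →
      ∃! u : S ⟶ T, g ≫ u = h := by
    intro T h hh
    have hconst : ∀ a b : S', g.base a = g.base b → h.base a = h.base b := by
      intro a b hab
      obtain ⟨z, hza, hzb⟩ := Scheme.Pullback.exists_preimage_pullback a b hab
      rw [← hza, ← hzb, ← Scheme.Hom.comp_apply, hh, Scheme.Hom.comp_apply]
    refine Groth.Pi1Quot.exists_desc g hsurj hinj h fun y => ?_
    obtain ⟨x, hx⟩ := hsurj y
    obtain ⟨W, hW, hxW, -⟩ := exists_isAffineOpen_mem_and_subset (X := T) (x := h.base x)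
      (U := ⊤) trivial
    have hsat : (g.base ⁻¹' (g.base '' (h ⁻¹ᵁ W : Set S'))) = (h ⁻¹ᵁ W : Set S') := by
      refine Set.Subset.antisymm ?_ (Set.subset_preimage_image _ _)
      rintro a ⟨b, hb, hab⟩
      show h.base a ∈ W
      rw [← hconst b a hab]
      exact hb
    let V : S.Opens := ⟨g.base '' (h ⁻¹ᵁ W : Set S'), by
      rw [← hq.isOpen_preimage, hsat]; exact (h ⁻¹ᵁ W).isOpen⟩
    have hle : g ⁻¹ᵁ V ≤ h ⁻¹ᵁ W := fun a ha =>
      show a ∈ (h ⁻¹ᵁ W : Set S') from hsat ▸ ha
    let ψ := h.appLE W (g ⁻¹ᵁ V) hle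
    have hψ : ∀ t, ψ.hom t ∈ Set.range (g.app V).hom := by
      intro t
      refine heq V _ ?_
      have e1 : pullback.fst g g ⁻¹ᵁ (g ⁻¹ᵁ V) ≤ pullback.fst g g ⁻¹ᵁ (g ⁻¹ᵁ V) := le_rfl
      have h1 := Scheme.Hom.appLE_comp_appLE (pullback.fst g g) h W (g ⁻¹ᵁ V) _ hle e1
      have h2 := Scheme.Hom.appLE_comp_appLE (pullback.snd g g) h W (g ⁻¹ᵁ V) _ hle
        (SGA1.fst_preimage_eq_snd_preimage g V).le
      have h3 := h1.trans ((Groth.Pi1Quot.appLE_congr_hom hh W
        (pullback.fst g g ⁻¹ᵁ (g ⁻¹ᵁ V)) _ _).trans h2.symm)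
      have h4 : (pullback.fst g g).appLE (g ⁻¹ᵁ V) _ e1 = (pullback.fst g g).app (g ⁻¹ᵁ V) :=
        Scheme.Hom.appLE_eq_app _
      have h5 := RingHom.congr_fun (congrArg CommRingCat.Hom.hom h3) t
      rw [h4] at h5
      exact h5
    choose φf hφf using hψ
    let φ : Γ(T, W) →+* Γ(S, V) :=
      { toFun := φf
        map_one' := hinj V (by simp [hφf])
        map_zero' := hinj V (by simp [hφf])
        map_add' := fun a b => hinj V (by simp [hφf])
        map_mul' := fun a b => hinj V (by simp [hφf]) }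
    have hφ : CommRingCat.ofHom φ ≫ g.app V = ψ := CommRingCat.hom_ext (RingHom.ext hφf)
    refine ⟨V, ⟨x, hxW, hx⟩, V.toSpecΓ ≫ Spec.map (CommRingCat.ofHom φ) ≫ hW.fromSpec, ?_⟩
    rw [← Category.assoc, ← Scheme.Opens.toSpecΓ_naturality, Category.assoc, ← Spec.map_comp_assoc,
      hφ]
    simp only [ψ, Scheme.Hom.appLE, Spec.map_comp, Category.assoc]
    rw [Scheme.Opens.toSpecΓ_SpecMap_presheaf_map_assoc, reassoc_of%
      (Scheme.Opens.toSpecΓ_naturality h W), hW.toSpecΓ_fromSpec, morphismRestrict_ι,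
      Scheme.homOfLE_ι_assoc]
  haveI : Epi g := ⟨fun a b hab => Groth.Pi1Quot.eq_of_comp_eq g hsurj hinj hab⟩
  refine ⟨⟨⟨fun {T} h hh => (key h ?_).exists.choose, fun {T} h hh => (key h ?_).exists.choose_spec,
    fun {T} h hh m hm => ?_⟩⟩⟩
  · exact hh _ _ pullback.condition
  · exact hh _ _ pullback.condition
  · rw [← cancel_epi g]
    exact hm.trans (key h (hh _ _ pullback.condition)).exists.choose_spec.symm

end Groth.Agent.S2914
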