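import Groth.Statements.S2915
import Groth.Agent.Pi1Split.Descent

set_option backward.isDefEq.respectTransparency false
set_option linter.style.haveILetI false

set_option autoImplicit false
universe u
open SGA1

namespace Groth.Agent.S2915

open AlgebraicGeometry CategoryTheory CategoryTheory.Limits in
/-- Let f : X ⟶ S be proper, surjective and locally of finite presentation, with geometrically connected
fibres: the base change of X along any point of S with values in an algebraically closed field is
connected. Let X′ be a finite étale cover of X such that for every such geometric point of S the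
pullback of X′ to the corresponding geometric fibre is split (isomorphic over the fibre to a finite
disjoint union of copies of it). Then X′ is isomorphic to the pullback along f of some finite étale
cover of S. -/
theorem result {X S : Scheme.{u}} (f : X ⟶ S) [IsProper f] [Surjective f]
    [LocallyOfFinitePresentation f]
    (hconn : ∀ (K : Type u) [Field K] [IsAlgClosed K] (ξ : Spec (CommRingCat.of K) ⟶ S), ConnectedSpace ↑(pullback f ξ))
    (X' : FEt.Cat X)
    (hsplit : ∀ (K : Type u) [Field K] [IsAlgClosed K] (ξ : Spec (CommRingCat.of K) ⟶ S),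
      Pi1.IsSplit ((FEt.restrict (pullback.fst f ξ)).obj X')) :
    ∃ S' : FEt.Cat S, Nonempty ((FEt.restrict f).obj S' ≅ X') := by
  haveI : IsFinite X'.hom := X'.prop.1
  haveI : Etale X'.hom := X'.prop.2
  have hs : ∀ (K : Type u) [Field K] [IsAlgClosed K] (σ : Spec (CommRingCat.of K) ⟶ S),
      ∃ (ι : Type u) (_ : Finite ι) (idx : ↥(pullback (X'.hom ≫ f) σ) → ι),
        Groth.Pi1Split.IsSplitting (Groth.Pi1Split.qMap f X'.hom σ) idx := by
    intro K _ _ σ
    obtain ⟨ι, hι, idx, hidx⟩ := Groth.Pi1Split.exists_splitting_of_isSplit _ (hsplit K σ)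
    let e := pullbackRightPullbackFstIso f σ X'.hom
    have hw : e.inv ≫ pullback.snd X'.hom (pullback.fst f σ) = Groth.Pi1Split.qMap f X'.hom σ := by
      apply pullback.hom_ext
      · rw [Category.assoc, ← pullback.condition, Groth.Pi1Split.qMap_fst]
        simp [e]
      · simp [e]
    have sq : IsPullback e.inv (Groth.Pi1Split.qMap f X'.hom σ)
        (pullback.snd X'.hom (pullback.fst f σ)) (𝟙 _) :=
      IsPullback.of_horiz_isIso ⟨by rw [hw, Category.comp_id]⟩
    exact ⟨ι, hι, fun z => idx (e.inv z), hidx.isLocallyConstant.comp_continuous e.inv.continuous,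
      fun L _ _ ξ => (Groth.Pi1Split.oneOverEach_iff sq idx ξ).2 (hidx.one L _)⟩
  obtain ⟨U, π, q, hπf, hπe, sq⟩ := Groth.Pi1Split.exists_descent (f := f) (h := X'.hom) hconn hs
  exact ⟨MorphismProperty.Over.mk ⊤ π ⟨hπf, hπe⟩,
    ⟨(MorphismProperty.Over.isoMk (IsPullback.isoPullback sq) (IsPullback.isoPullback_hom_snd sq)).symm⟩⟩

end Groth.Agent.S2915
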