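import Groth.Statements.S2916
import Groth.Agent.S3709
import Groth.Agent.DescentBase.DimEtale
import Mathlib

set_option autoImplicit false
set_option backward.isDefEq.respectTransparency false
open CategoryTheory CategoryTheory.Limits AlgebraicGeometry Opposite
universe u
open SGA1

namespace Groth.Agent.S2916

open AlgebraicGeometry CategoryTheory CategoryTheory.Limits

/-- Two morphisms to an étale scheme agreeing on all geometric points are equal. -/
theorem eq_of_geometric_points {T Y S : Scheme.{u}} (q : Y ⟶ S) [Etale q] (a b : T ⟶ Y) (hab : a ≫ q = b ≫ q)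
    (h : ∀ t : T, ∃ (K : Type u) (_ : Field K) (τ : Spec (CommRingCat.of K) ⟶ T),
      τ (IsLocalRing.closedPoint K) = t ∧ τ ≫ a = τ ≫ b) : a = b := by
  let δ := pullback.diagonal q
  let e := pullback.lift a b hab
  let j := pullback.snd δ e
  have : Surjective j := ⟨fun t => by
    obtain ⟨K, _, τ, ht, hτ⟩ := h t
    let k : Spec (CommRingCat.of K) ⟶ pullback δ e := pullback.lift (τ ≫ a) τ (by
      apply pullback.hom_ext <;> simp [δ, e, hτ])
    exact ⟨k (IsLocalRing.closedPoint K), by rw [← Scheme.Hom.comp_apply, pullback.lift_snd, ht]⟩⟩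
  have : IsIso j := Groth.Agent.S3709.isIso_of_isOpenImmersion_surjective j
  have h1 : pullback.fst δ e ≫ δ = j ≫ e := pullback.condition
  have h2 := h1 =≫ pullback.fst q q
  have h3 := h1 =≫ pullback.snd q q
  simp [δ, e] at h2 h3
  exact (cancel_epi j).1 (h2.symm.trans h3)


/-- Let g : S' ⟶ S be universally submersive with geometrically connected fibres (the base change of S'
to any algebraically closed field valued point of S is connected). Then S' is connected whenever S
is, and for schemes X, Y etale over S every S'-morphism between their base changes comes from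
exactly one S-morphism X ⟶ Y. -/
theorem result {S' S : Scheme.{u}} (g : S' ⟶ S)
    (hg : SGA1.UnivSubmersive g)
    (hconn : ∀ (K : Type u) [Field K] [IsAlgClosed K] (ξ : Spec (CommRingCat.of K) ⟶ S), ConnectedSpace ↑(pullback g ξ)) :
    (ConnectedSpace S → ConnectedSpace S') ∧
    ∀ (X Y : Over S) [Etale X.hom] [Etale Y.hom], Function.Bijective ((Over.pullback g).map : (X ⟶ Y) → _) := by
  have hqm : Topology.IsQuotientMap g.base := MorphismProperty.universally_le _ _ hg
  haveI : Surjective g := ⟨hqm.surjective⟩
  refine ⟨fun hS => ?_, fun X Y _ _ => ⟨fun u v huv => ?_, fun f => ?_⟩⟩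
  · have hfib : ∀ s : S, _root_.IsPreconnected (g.base ⁻¹' {s}) := by
      intro s
      let K := AlgebraicClosure (S.residueField s)
      let ξ : Spec (CommRingCat.of K) ⟶ S :=
        Spec.map (CommRingCat.ofHom (algebraMap (S.residueField s) K)) ≫ S.fromSpecResidueField s
      have hr : Set.range ξ = {s} := by
        refine Set.eq_singleton_iff_nonempty_unique_mem.2 ⟨Set.range_nonempty _, ?_⟩
        rintro _ ⟨z, rfl⟩
        rw [Scheme.Hom.comp_apply]
        exact Scheme.fromSpecResidueField_apply s _
      rw [← hr, ← Scheme.Pullback.range_fst]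
      haveI := hconn K ξ
      exact isPreconnected_range (pullback.fst g ξ).continuous
    haveI : Nonempty S' := by
      obtain ⟨s⟩ := hS.toNonempty
      exact ⟨(g.surjective s).choose⟩
    haveI : PreconnectedSpace S' := preconnectedSpace_iff_clopen.2 fun A hA => by
      have hsat : g.base ⁻¹' (g.base '' A) = A := by
        refine subset_antisymm ?_ (Set.subset_preimage_image _ _)
        rintro x ⟨y, hy, hxy⟩
        exact (hfib (g y)).subset_isClopen hA ⟨y, rfl, hy⟩ hxy.symm
      have hA' : IsClopen (g.base '' A) :=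
        ⟨hqm.isClosed_preimage.1 (by rw [hsat]; exact hA.1), hqm.isOpen_preimage.1 (by rw [hsat]; exact hA.2)⟩
      rcases isClopen_iff.1 hA' with h | h
      · exact Or.inl (by rw [← hsat, h, Set.preimage_empty])
      · exact Or.inr (by rw [← hsat, h, Set.preimage_univ])
    exact ⟨inferInstance⟩
  · have h1 := congrArg (fun w => w.left ≫ pullback.fst Y.hom g) huv
    simp only [Over.pullback_map_left, pullback.lift_fst] at h1
    refine Over.OverMorphism.ext (eq_of_geometric_points Y.hom u.left v.left (by rw [Over.w, Over.w]) fun x => ?_)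
    have : Surjective (pullback.fst X.hom g) := MorphismProperty.pullback_fst _ _ ‹Surjective g›
    obtain ⟨x', rfl⟩ := (pullback.fst X.hom g).surjective x
    refine ⟨_, inferInstance, (pullback X.hom g).fromSpecResidueField x' ≫ pullback.fst X.hom g, ?_, ?_⟩
    · exact (Scheme.Hom.comp_apply _ _ _).trans (congrArg _ (Scheme.fromSpecResidueField_apply x' _))
    · rw [Category.assoc, Category.assoc, h1]
  · let φ := f.left ≫ pullback.fst Y.hom g
    have hf : f.left ≫ pullback.snd Y.hom g = pullback.snd X.hom g := Over.w f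
    have hφ : φ ≫ Y.hom = pullback.fst X.hom g ≫ X.hom := by
      rw [Category.assoc, pullback.condition, ← Category.assoc, hf, pullback.condition]
    obtain ⟨u, ⟨hu, hu'⟩, -⟩ := Groth.Agent.S3709.result g hg X.hom Y.hom f.left hf (by
      let m₁ := pullback.map X.hom (pullback.fst g g ≫ g) X.hom g (𝟙 X.left) (pullback.fst g g) (𝟙 S)
        ((Category.comp_id _).trans (Category.id_comp _).symm) (Category.comp_id _)
      let m₂ := pullback.map X.hom (pullback.fst g g ≫ g) X.hom g (𝟙 X.left) (pullback.snd g g) (𝟙 S)
        ((Category.comp_id _).trans (Category.id_comp _).symm) ((Category.comp_id _).trans pullback.condition)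
      show m₁ ≫ φ = m₂ ≫ φ
      have hm : ∀ {T : Scheme.{u}} (t : T ⟶ pullback X.hom g), t ≫ φ ≫ Y.hom = t ≫ pullback.fst X.hom g ≫ X.hom :=
        fun t => by rw [hφ]
      refine eq_of_geometric_points Y.hom _ _ (by
        rw [Category.assoc m₁ φ, Category.assoc m₂ φ, hm, hm]; simp [m₁, m₂, pullback.map]) fun t => ?_
      let X'' := pullback X.hom (pullback.fst g g ≫ g)
      let K := AlgebraicClosure (X''.residueField t)
      let τ : Spec (CommRingCat.of K) ⟶ X'' :=
        Spec.map (CommRingCat.ofHom (algebraMap (X''.residueField t) K)) ≫ X''.fromSpecResidueField t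
      refine ⟨K, inferInstance, τ, ?_, ?_⟩
      · show (Spec.map _ ≫ _) _ = _
        rw [Scheme.Hom.comp_apply]
        exact Scheme.fromSpecResidueField_apply t _
      let xbar := τ ≫ pullback.fst X.hom (pullback.fst g g ≫ g)
      let ξ := xbar ≫ X.hom
      let C := pullback g ξ
      let cX : C ⟶ pullback X.hom g := pullback.lift (pullback.snd g ξ ≫ xbar) (pullback.fst g ξ) (by
        rw [Category.assoc]; exact pullback.condition.symm)
      let ψ : C ⟶ pullback Y.hom ξ := pullback.lift (cX ≫ φ) (pullback.snd g ξ) (by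
        rw [Category.assoc, hφ, pullback.lift_fst_assoc, Category.assoc])
      let s₁ := τ ≫ pullback.snd X.hom (pullback.fst g g ≫ g) ≫ pullback.fst g g
      let s₂ := τ ≫ pullback.snd X.hom (pullback.fst g g ≫ g) ≫ pullback.snd g g
      have hs₁ : s₁ ≫ g = ξ := by
        simp only [s₁, ξ, xbar, Category.assoc, pullback.condition]
      have hs₂ : s₂ ≫ g = ξ := by
        rw [← hs₁]; simp only [s₁, s₂, Category.assoc, pullback.condition]
      let c₁ : Spec (CommRingCat.of K) ⟶ C := pullback.lift s₁ (𝟙 _) (by rw [hs₁, Category.id_comp])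
      let c₂ : Spec (CommRingCat.of K) ⟶ C := pullback.lift s₂ (𝟙 _) (by rw [hs₂, Category.id_comp])
      haveI : ConnectedSpace C := hconn K ξ
      haveI := Groth.DescentBase.locallyQuasiFinite_of_etale (pullback.snd Y.hom ξ)
      haveI : IsLocallyArtinian (pullback Y.hom ξ) := IsLocallyArtinian.of_locallyQuasiFinite (pullback.snd Y.hom ξ)
      have hc : (c₁ ≫ ψ) (IsLocalRing.closedPoint K) = (c₂ ≫ ψ) (IsLocalRing.closedPoint K) := by
        rw [Scheme.Hom.comp_apply, Scheme.Hom.comp_apply]
        exact PreconnectedSpace.constant inferInstance ψ.continuous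
      have hd := ext_of_apply_closedPoint_eq (pullback.snd Y.hom ξ) (f := c₁ ≫ ψ) (g := c₂ ≫ ψ)
        (by simp [c₁, ψ]) (by simp [c₂, ψ]) hc
      have e₁ : c₁ ≫ cX = τ ≫ m₁ := by
        apply pullback.hom_ext <;> simp [c₁, cX, m₁, s₁, xbar, pullback.map] <;> erw [Category.id_comp]
      have e₂ : c₂ ≫ cX = τ ≫ m₂ := by
        apply pullback.hom_ext <;> simp [c₂, cX, m₂, s₂, xbar, pullback.map] <;> erw [Category.id_comp]
      have h' := hd =≫ pullback.fst Y.hom ξ
      simp only [ψ, Category.assoc, pullback.lift_fst] at h'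
      rw [← Category.assoc c₁, ← Category.assoc c₂, e₁, e₂] at h'
      simpa only [Category.assoc] using h')
    refine ⟨Over.homMk u hu, Over.OverMorphism.ext ?_⟩
    apply pullback.hom_ext
    · simpa using hu'.symm
    · simpa using hf.symm

end Groth.Agent.S2916
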