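import Groth.Statements.S2918
import Groth.Agent.S4440
import Groth.Agent.S0005
import Groth.Agent.Pi1FEt.Colimits
import Groth.Agent.Pi1Normal.DenseOpen

set_option backward.isDefEq.respectTransparency false
set_option linter.style.haveILetI false

set_option autoImplicit false
universe u
open SGA1

namespace Groth.Agent.S2918

open AlgebraicGeometry CategoryTheory CategoryTheory.Limits Groth.Pi1FEt in
/-- The functor on covers induced by a birational map. -/
theorem exists_transfer {k : Type u} [Field k] {X Y : Scheme.{u}}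
    (f : X ⟶ Spec (CommRingCat.of k)) (g : Y ⟶ Spec (CommRingCat.of k)) [IsProper f] [IsProper g]
    [IsLocallyNoetherian X] (hX : ∀ x : X, IsRegularLocalRing (X.presheaf.stalk x))
    (U : X.Opens) (hU : Dense (U : Set X)) (h : (U : Scheme.{u}) ⟶ Y) (hh : h ≫ g = U.ι ≫ f) :
    ∃ F : FEt.Cat Y ⥤ FEt.Cat X, Nonempty (F ⋙ FEt.restrict U.ι ≅ FEt.restrict h) := by
  haveI : CompactSpace X := QuasiCompact.compactSpace_of_compactSpace f
  haveI : IsNoetherian X := { }
  haveI : IsReduced X := by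
    haveI : ∀ x : X, _root_.IsReduced (X.presheaf.stalk x) := fun x => by
      haveI := hX x
      haveI := Groth.Ega4Algebra1.isDomain_of_isRegularLocalRing (X.presheaf.stalk x)
      infer_instance
    exact isReduced_of_isReduced_stalk X
  haveI : IsNoetherianRing k := inferInstance
  obtain ⟨U₁, hle, h₁, -, h₁U, hcodim⟩ :=
    Groth.Agent.S4440.result g f (fun x _ => hX x) U hU h hh
  have hdim : ∀ x : X, x ∉ U₁ → (2 : WithBot ℕ∞) ≤ ringKrullDim (X.presheaf.stalk x) := fun x hx => by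
    have h1 : ¬ ringKrullDim (X.presheaf.stalk x) ≤ 1 := fun h => hx (hcodim x h)
    cases hd : ringKrullDim (X.presheaf.stalk x) with
    | bot => exact absurd (hd ▸ bot_le) h1
    | coe d =>
      rw [hd] at h1
      have h2 : ¬ d ≤ 1 := fun h => h1 (WithBot.coe_le_coe.mpr h)
      exact WithBot.coe_le_coe.mpr ((one_add_one_eq_two (R := ℕ∞)).symm.trans_le
        (Order.add_one_le_of_lt (not_le.mp h2)))
  haveI := Groth.Agent.S0005.result X hX U₁ hdim
  refine ⟨FEt.restrict h₁ ⋙ (FEt.restrict U₁.ι).inv, ⟨?_⟩⟩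
  exact Functor.associator _ _ _ ≪≫
    Functor.isoWhiskerLeft (FEt.restrict h₁) (Functor.isoWhiskerLeft (FEt.restrict U₁.ι).inv
      (restrictCongr (X.homOfLE_ι hle).symm ≪≫ restrictCompIso _ _) ≪≫ (Functor.associator _ _ _).symm ≪≫
      Functor.isoWhiskerRight (FEt.restrict U₁.ι).asEquivalence.counitIso _ ≪≫ Functor.leftUnitor _) ≪≫
    (restrictCompIso _ _).symm ≪≫ restrictCongr h₁U

open AlgebraicGeometry CategoryTheory CategoryTheory.Limits in
/-- Birational invariance of the fundamental group, in terms of finite etale covers: Let X and Y be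
proper over a field k, locally Noetherian with all local rings regular, and birational over k: some
dense open of X is k-isomorphic to some dense open of Y. Then the categories of finite etale covers
of X and of Y are equivalent compatibly with restriction to the common dense open. -/
theorem result (k : Type u) [Field k] {X Y : Scheme.{u}}
    (f : X ⟶ Spec (CommRingCat.of k)) (g : Y ⟶ Spec (CommRingCat.of k)) [IsProper f] [IsProper g]
    [IsLocallyNoetherian X] [IsLocallyNoetherian Y]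
    (hX : ∀ x : X, IsRegularLocalRing (X.presheaf.stalk x)) (hY : ∀ y : Y, IsRegularLocalRing (Y.presheaf.stalk y))
    (U : X.Opens) (V : Y.Opens) (hU : Dense (U : Set X)) (hV : Dense (V : Set Y))
    (e : (U : Scheme.{u}) ≅ (V : Scheme.{u})) (he : e.hom ≫ V.ι ≫ g = U.ι ≫ f) :
    ∃ Φ : FEt.Cat X ≌ FEt.Cat Y, Nonempty (FEt.restrict U.ι ≅ Φ.functor ⋙ FEt.restrict V.ι ⋙ FEt.restrict e.hom) := by
  obtain ⟨F, ⟨ηF⟩⟩ := exists_transfer f g hX U hU (e.hom ≫ V.ι) (by rw [Category.assoc]; exact he)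
  obtain ⟨G, ⟨ηG⟩⟩ := exists_transfer g f hY V hV (e.inv ≫ U.ι) (by
    rw [Category.assoc, ← he, e.inv_hom_id_assoc])
  obtain ⟨_, _⟩ := Groth.Pi1Normal.restrict_open_full_faithful_of_regular hX U hU
  obtain ⟨_, _⟩ := Groth.Pi1Normal.restrict_open_full_faithful_of_regular hY V hV
  let cG : G ⋙ FEt.restrict V.ι ⋙ FEt.restrict e.hom ≅ FEt.restrict U.ι :=
    (Functor.associator _ _ _).symm ≪≫ Functor.isoWhiskerRight ηG _ ≪≫
      (Groth.Pi1FEt.restrictCompIso _ _).symm ≪≫ Groth.Pi1FEt.restrictCongr (e.hom_inv_id_assoc _)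
  let cF : F ⋙ FEt.restrict U.ι ⋙ FEt.restrict e.inv ≅ FEt.restrict V.ι :=
    (Functor.associator _ _ _).symm ≪≫ Functor.isoWhiskerRight ηF _ ≪≫
      (Groth.Pi1FEt.restrictCompIso _ _).symm ≪≫ Groth.Pi1FEt.restrictCongr (e.inv_hom_id_assoc _)
  let u : G ⋙ F ≅ 𝟭 (FEt.Cat X) := Functor.fullyFaithfulCancelRight (FEt.restrict U.ι)
    (Functor.associator _ _ _ ≪≫ Functor.isoWhiskerLeft G (ηF ≪≫ Groth.Pi1FEt.restrictCompIso _ _) ≪≫
      cG ≪≫ (Functor.leftUnitor _).symm)
  let c : F ⋙ G ≅ 𝟭 (FEt.Cat Y) := Functor.fullyFaithfulCancelRight (FEt.restrict V.ι)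
    (Functor.associator _ _ _ ≪≫ Functor.isoWhiskerLeft F (ηG ≪≫ Groth.Pi1FEt.restrictCompIso _ _) ≪≫
      cF ≪≫ (Functor.leftUnitor _).symm)
  exact ⟨CategoryTheory.Equivalence.mk G F u.symm c, ⟨cG.symm⟩⟩

end Groth.Agent.S2918
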