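import Groth.Statements.S2919
import Groth.Agent.Pi1Quot.Free
import Groth.Agent.Pi1FEt.Points

set_option autoImplicit false
open CategoryTheory CategoryTheory.Limits AlgebraicGeometry
universe u
open SGA1

namespace Groth.Agent.S2919

/-- Let a finite group G act on X, p : X ⟶ Y a quotient with Y locally Noetherian and p finite, G acting
freely on geometric points, and suppose p has a section. Then the morphism from the disjoint union
of copies of Y indexed by G to X which is s followed by the action of g on the g-th copy is an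
isomorphism. -/
theorem result {X Y : Scheme.{u}} {G : Type u} [Group G] [Finite G] (ρ : G →* Aut X)
    (p : X ⟶ Y) (hp : SGA1.IsQuot ρ p) [IsLocallyNoetherian Y] [IsFinite p]
    (hfree : (∀ (K : Type u) [Field K] [IsAlgClosed K] (ξ : Spec (CommRingCat.of K) ⟶ X) (g : G), ξ ≫ (ρ g).hom = ξ → g = 1)) (s : Y ⟶ X) (hs : s ≫ p = 𝟙 Y) :
    IsIso (Sigma.desc (fun g : G => s ≫ (ρ g).hom) : (∐ fun _ : G => Y) ⟶ X) := by
  obtain ⟨hfin, het, hfl, hsurj⟩ := Groth.Pi1Quot.finite_etale_of_free hp hfree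
  let σ : G → (Y ⟶ X) := fun g => s ≫ (ρ g).hom
  have hσ : ∀ g, σ g ≫ p = 𝟙 _ := fun g => by simp [σ, hp.inv, hs]
  have hinj : ∀ (Ω : Type u) [Field Ω] [IsAlgClosed Ω] (η : Spec (CommRingCat.of Ω) ⟶ Y),
      Function.Injective (Groth.Pi1FEt.pointsMap p σ hσ η) := by
    intro Ω _ _ η g h hgh
    have h1 : η ≫ s ≫ (ρ g).hom = η ≫ s ≫ (ρ h).hom := congrArg Subtype.val hgh
    have hm : (ρ h).hom ≫ (ρ (g * h⁻¹)).hom = (ρ g).hom := by
      rw [← Iso.trans_hom, ← Aut.Aut_mul_def, ← map_mul, inv_mul_cancel_right]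
    refine mul_inv_eq_one.1 (hfree Ω (η ≫ s ≫ (ρ h).hom) _ ?_)
    rw [Category.assoc, Category.assoc, hm, h1]
  refine (Groth.Pi1FEt.isIso_sigmaDesc_iff p σ hσ hinj).2 fun Ω _ _ η => ⟨hinj Ω η, fun q => ?_⟩
  let q₀ : Spec (CommRingCat.of Ω) ⟶ X := q.1
  have hq1 : q₀ ≫ p = η := q.2
  obtain ⟨g, hg⟩ := Groth.Pi1Quot.exists_point_smul hp hfree (η ≫ s) q₀
    (by rw [Category.assoc, hs, Category.comp_id, hq1])
  exact ⟨g, Subtype.ext ((Category.assoc _ _ _).symm.trans hg)⟩

end Groth.Agent.S2919
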