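import Groth.Statements.S2920
import Groth.Agent.Pi1Quot.Free
import Groth.Agent.Pi1FEt.Points

set_option autoImplicit false
open CategoryTheory CategoryTheory.Limits AlgebraicGeometry
universe u
open SGA1

namespace Groth.Agent.S2920

/-- (i) ⇒ (iii): Let a finite group G act on X, p : X ⟶ Y a quotient with Y locally Noetherian and p
finite, G acting freely on geometric points. Then the morphism from the disjoint union of copies of
X indexed by G to X ×_Y X given on the g-th copy by (id, g) is an isomorphism, and p is flat and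
surjective. -/
theorem result {X Y : Scheme.{u}} {G : Type u} [Group G] [Finite G] (ρ : G →* Aut X)
    (p : X ⟶ Y) (hp : SGA1.IsQuot ρ p) [IsLocallyNoetherian Y] [IsFinite p] (hfree : (∀ (K : Type u) [Field K] [IsAlgClosed K] (ξ : Spec (CommRingCat.of K) ⟶ X) (g : G), ξ ≫ (ρ g).hom = ξ → g = 1)) :
    IsIso (Sigma.desc (fun g : G => pullback.lift (𝟙 X) (ρ g).hom ((Category.id_comp p).trans (hp.inv g).symm)) :
      (∐ fun _ : G => X) ⟶ pullback p p) ∧ Flat p ∧ Surjective p := by
  obtain ⟨hfin, het, hfl, hsurj⟩ := Groth.Pi1Quot.finite_etale_of_free hp hfree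
  refine ⟨?_, hfl, hsurj⟩
  let s : G → (X ⟶ pullback p p) := fun g =>
    pullback.lift (𝟙 X) (ρ g).hom ((Category.id_comp p).trans (hp.inv g).symm)
  have hs : ∀ g, s g ≫ pullback.fst p p = 𝟙 _ := fun g => pullback.lift_fst _ _ _
  have hs2 : ∀ g, s g ≫ pullback.snd p p = (ρ g).hom := fun g => pullback.lift_snd _ _ _
  have hinj : ∀ (Ω : Type u) [Field Ω] [IsAlgClosed Ω] (η : Spec (CommRingCat.of Ω) ⟶ X),
      Function.Injective (Groth.Pi1FEt.pointsMap (pullback.fst p p) s hs η) := by
    intro Ω _ _ η g h hgh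
    have h0 : η ≫ s g = η ≫ s h := congrArg Subtype.val hgh
    have h1 : η ≫ (ρ g).hom = η ≫ (ρ h).hom := by
      rw [← hs2, ← hs2, ← Category.assoc, h0, Category.assoc]
    have hm : (ρ h).hom ≫ (ρ (g * h⁻¹)).hom = (ρ g).hom := by
      rw [← Iso.trans_hom, ← Aut.Aut_mul_def, ← map_mul, inv_mul_cancel_right]
    refine mul_inv_eq_one.1 (hfree Ω (η ≫ (ρ h).hom) _ ?_)
    rw [Category.assoc, hm, h1]
  refine (Groth.Pi1FEt.isIso_sigmaDesc_iff (pullback.fst p p) s hs hinj).2 fun Ω _ _ η => ⟨hinj Ω η, fun q => ?_⟩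
  let q₀ : Spec (CommRingCat.of Ω) ⟶ pullback p p := q.1
  have hq1 : q₀ ≫ pullback.fst p p = η := q.2
  obtain ⟨g, hg⟩ := Groth.Pi1Quot.exists_point_smul hp hfree η (q₀ ≫ pullback.snd p p)
    (by rw [← hq1, Category.assoc, Category.assoc, pullback.condition])
  refine ⟨g, Subtype.ext ?_⟩
  change η ≫ s g = q₀
  exact pullback.hom_ext (by rw [Category.assoc, hs, Category.comp_id, hq1])
    (by rw [Category.assoc, hs2, hg])

end Groth.Agent.S2920
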