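import Groth.Statements.S2921
import Groth.Agent.Pi1Tame.KummerAlg
import Groth.Agent.Pi1Tame.KummerValuation
import Groth.Agent.Pi1Tame.Params
import Mathlib.RingTheory.Smooth.Fiber
import Mathlib.RingTheory.Flat.Localization
import Mathlib.RingTheory.Finiteness.ModuleFinitePresentation

set_option autoImplicit false
universe u
open IsLocalRing
open SGA1

namespace Groth.Agent.S2921

/-- Regularity and etaleness; the tameness assertion is not stated: Let A be a regular local ring, f_1,
…, f_r elements of the maximal ideal whose images in the cotangent space are linearly independent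
(part of a regular system of parameters), and n_1, …, n_r ≥ 1. Then A' = A[T_1, …, T_r]/(T_i^{n_i} −
f_i) is a regular local ring; and if each n_i is invertible in the residue field of A, then A'
becomes etale over A after inverting f_1 ⋯ f_r. -/
theorem result (A : Type u) [CommRing A] [IsRegularLocalRing A] (r : ℕ) (f : Fin r → A)
    (hm : ∀ i, f i ∈ maximalIdeal A)
    (hf : LinearIndependent (ResidueField A) (fun i => (maximalIdeal A).toCotangent ⟨f i, hm i⟩))
    (n : Fin r → ℕ) (hn : ∀ i, 1 ≤ n i) :
    IsRegularLocalRing (SGA1.kummerAlg A f n) ∧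
    ((∀ i, IsUnit ((n i : ℕ) : ResidueField A)) →
      letI := (Localization.awayMap (algebraMap A (SGA1.kummerAlg A f n)) (∏ i, f i)).toAlgebra
      Algebra.Etale (Localization.Away (∏ i, f i)) (Localization.Away (algebraMap A (SGA1.kummerAlg A f n) (∏ i, f i)))) := by
  refine ⟨(Groth.Pi1Tame.kummer_regular_of_one_le hf hn).1, fun hu => ?_⟩
  letI := (Localization.awayMap (algebraMap A (SGA1.kummerAlg A f n)) (∏ i, f i)).toAlgebra
  let F₀ := ∏ i, f i
  let A' := SGA1.kummerAlg A f n
  let S := Localization.Away F₀
  let S' := Localization.Away (algebraMap A A' F₀)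
  haveI := Groth.Pi1Tame.module_finite (A := A) (f := f) hn
  haveI := Groth.Pi1Tame.module_free (A := A) (f := f) hn
  have hcomp : (algebraMap S S').comp (algebraMap A S) = (algebraMap A' S').comp (algebraMap A A') :=
    RingHom.ext fun a => by
      simp [RingHom.algebraMap_toAlgebra (Localization.awayMap (algebraMap A A') F₀), Localization.awayMap,
        IsLocalization.Away.map, S, S', F₀, A']
  haveI : IsScalarTower A S S' := IsScalarTower.of_algebraMap_eq fun a => by
    rw [IsScalarTower.algebraMap_apply A A' S']
    exact (RingHom.congr_fun hcomp a).symm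
  haveI : Algebra.FiniteType A S := IsLocalization.finiteType_of_monoid_fg (Submonoid.powers F₀) S
  haveI : Algebra.FinitePresentation A S := IsLocalization.Away.finitePresentation F₀
  haveI : Module.FinitePresentation A A' := Module.finitePresentation_of_projective A A'
  haveI : Algebra.FinitePresentation A A' := Algebra.FinitePresentation.of_finitePresentation A A'
  haveI : Algebra.FinitePresentation A' S' := IsLocalization.Away.finitePresentation (algebraMap A A' F₀)
  haveI : Algebra.FinitePresentation A S' := Algebra.FinitePresentation.trans A A' S'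
  haveI : Algebra.FinitePresentation S S' :=
    Algebra.FinitePresentation.of_restrict_scalars_finitePresentation A S S'
  haveI : Module.Flat A' S' := IsLocalization.flat S' (Submonoid.powers (algebraMap A A' F₀))
  haveI : Module.Flat A S' := Module.Flat.trans A A' S'
  haveI : Module.Flat S S' := (Module.flat_iff_of_isLocalization S (Submonoid.powers F₀) S').2 inferInstance
  -- unramified
  let y : Fin r → S' := fun i => algebraMap A' S' (Groth.Pi1Tame.root A f n i)
  have hfu : ∀ i, IsUnit (algebraMap A S (f i)) := fun i => by
    refine isUnit_of_dvd_unit (map_dvd _ (Finset.dvd_prod_of_mem f (Finset.mem_univ i))) ?_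
    exact IsLocalization.Away.algebraMap_isUnit F₀
  have hud : ∀ i, IsUnit (n i : S) := fun i => by
    simpa using (Groth.Pi1Tame.isUnit_natCast_of_residue (hu i)).map (algebraMap A S)
  have hy : ∀ i, y i ^ n i = algebraMap S S' ((hfu i).unit : S) := fun i => by
    rw [IsUnit.unit_spec, ← IsScalarTower.algebraMap_apply, IsScalarTower.algebraMap_apply A A' S', ← map_pow,
      Groth.Pi1Tame.root_pow]
  have hfu' := Groth.Pi1Tame.formallyUnramified_adjoin y n hud (fun i => (hfu i).unit) hy
  let C := Algebra.adjoin S (Set.range y)
  have hyC : ∀ i, (⟨y i, Algebra.subset_adjoin ⟨i, rfl⟩⟩ : C) ^ n i = algebraMap A C (f i) := fun i =>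
    Subtype.ext (by
      rw [SubmonoidClass.coe_pow]
      exact (hy i).trans (IsScalarTower.algebraMap_apply A S S' (f i)).symm)
  let τ : A' →ₐ[A] C :=
    { toRingHom := Groth.Pi1Tame.lift (algebraMap A C) (fun i => ⟨y i, Algebra.subset_adjoin ⟨i, rfl⟩⟩)
        hyC
      commutes' := fun a => Groth.Pi1Tame.lift_algebraMap _ _ _ a }
  have hτ : ((C.val.toRingHom).comp τ.toRingHom) = algebraMap A' S' := by
    refine Groth.Pi1Tame.hom_ext (fun a => ?_) (fun i => ?_)
    · change ((τ (algebraMap A A' a) : C) : S') = _
      rw [AlgHom.commutes, ← IsScalarTower.algebraMap_apply]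
      rfl
    · exact congrArg Subtype.val (Groth.Pi1Tame.lift_root (algebraMap A C) (fun i => ⟨y i, Algebra.subset_adjoin ⟨i, rfl⟩⟩) hyC i)
  have hC : C = ⊤ := by
    refine eq_top_iff.2 fun x _ => ?_
    obtain ⟨z, ⟨_, k, rfl⟩, rfl⟩ := IsLocalization.exists_mk'_eq (Submonoid.powers (algebraMap A A' F₀)) x
    have hz : algebraMap A' S' z ∈ C := by rw [← hτ]; exact (τ z).2
    obtain ⟨w, hw⟩ := (IsLocalization.Away.algebraMap_isUnit (S := S) F₀).pow k
    have : IsLocalization.mk' S' z (⟨algebraMap A A' F₀ ^ k, k, rfl⟩ : Submonoid.powers (algebraMap A A' F₀)) =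
        algebraMap A' S' z * algebraMap S S' ↑w⁻¹ := by
      rw [IsLocalization.mk'_eq_iff_eq_mul, mul_assoc]
      have h1 : algebraMap A' S' (algebraMap A A' F₀ ^ k) = algebraMap S S' (w : S) := by
        rw [hw, map_pow, map_pow, ← IsScalarTower.algebraMap_apply, IsScalarTower.algebraMap_apply A S S']
      rw [h1, ← map_mul, Units.inv_mul, map_one, mul_one]
    rw [this]
    exact mul_mem hz (C.algebraMap_mem _)
  haveI : Algebra.FormallyUnramified S S' :=
    Algebra.FormallyUnramified.of_equiv ((Subalgebra.equivOfEq C ⊤ hC).trans Subalgebra.topEquiv)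
  exact Algebra.Etale.of_formallyUnramified_of_flat

end Groth.Agent.S2921
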