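import Groth.Statements.S2924
import Groth.Agent.Pi1Tame.Dominated
import Groth.Agent.Pi1Tame.Params

set_option autoImplicit false
universe u
open IsLocalRing
open SGA1

namespace Groth.Agent.S2924

/-- Let A be a regular local ring, f_1, …, f_r part of a regular system of parameters and n_i ≥ 1
invertible in the residue field. Then the Kummer algebra A[T_1, …, T_r]/(T_i^{n_i} − f_i) is tamely
ramified along each f_i (at every point of its generic fibre, with respect to the discrete valuation
rings A_{(f_i)}). -/
theorem result (A : Type u) [CommRing A] [IsRegularLocalRing A] [IsDomain A] (r : ℕ) (f : Fin r → A)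
    (hm : ∀ i, f i ∈ maximalIdeal A)
    (hf : LinearIndependent (ResidueField A) (fun i => (maximalIdeal A).toCotangent ⟨f i, hm i⟩))
    [∀ i, (Ideal.span {f i}).IsPrime] (n : Fin r → ℕ) (hn : ∀ i, 1 ≤ n i) (hu : ∀ i, IsUnit ((n i : ℕ) : ResidueField A)) :
    SGA1.IsTameAlong f (algebraMap A (SGA1.kummerAlg A f n)) := by
  classical
  intro i q _ hq V hV
  letI : Algebra (Localization.AtPrime (Ideal.span {f i})) V := (RingHom.codRestrict _ V hV.1).toAlgebra
  intro _
  let R := Localization.AtPrime (Ideal.span {f i})
  set κ := q.ResidueField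
  let ψ : kummerAlg A f n →+* κ := algebraMap _ κ
  let g : A →+* κ := ψ.comp (algebraMap A (kummerAlg A f n))
  have hgR : ∀ a : A, genericResidueMap (algebraMap A (kummerAlg A f n)) (Ideal.span {f i}) q hq
      (algebraMap A R a) = g a := IsLocalization.lift_eq _
  have hg : Function.Injective g := by
    rw [injective_iff_map_eq_zero]
    intro a ha
    have h2 : algebraMap A (kummerAlg A f n) a ∈ q := Ideal.algebraMap_residueField_eq_zero.1 ha
    have h3 : a ∈ Ideal.comap (algebraMap A (kummerAlg A f n)) q := h2
    rwa [hq, Ideal.mem_bot] at h3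
  letI : Algebra (FractionRing A) κ := (IsFractionRing.lift hg).toAlgebra
  have hgK : ∀ a : A, algebraMap (FractionRing A) κ (algebraMap A _ a) = g a := IsFractionRing.lift_algebraMap hg
  obtain ⟨hD, hirr⟩ := Groth.Pi1Tame.isDVR_atPrime_span (Groth.Pi1Tame.param_ne_zero hf i)
  have hcomp : genericResidueMap (algebraMap A (kummerAlg A f n)) (Ideal.span {f i}) q hq =
      (algebraMap (FractionRing A) κ).comp (algebraMap R (FractionRing A)) := by
    refine IsLocalization.ringHom_ext (Ideal.span {f i}).primeCompl (RingHom.ext fun a => ?_)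
    change genericResidueMap (algebraMap A (kummerAlg A f n)) (Ideal.span {f i}) q hq (algebraMap A R a) =
      algebraMap (FractionRing A) κ (algebraMap R (FractionRing A) (algebraMap A R a))
    rw [hgR, ← IsScalarTower.algebraMap_apply A R (FractionRing A), hgK]
  have hV' : EtRam.Dominates R ((algebraMap (FractionRing A) κ).comp (algebraMap R (FractionRing A))) V :=
    hcomp ▸ hV
  let T : Fin r → κ := fun j => ψ (Ideal.Quotient.mk _ (MvPolynomial.X j))
  have hT : ∀ j, T j ^ n j = algebraMap (FractionRing A) κ (algebraMap R (FractionRing A) (algebraMap A R (f j))) := by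
    intro j
    rw [← IsScalarTower.algebraMap_apply A R (FractionRing A), hgK, ← map_pow, ← map_pow]
    exact congrArg ψ (Ideal.Quotient.eq.2 (Ideal.subset_span ⟨j, rfl⟩))
  have hTint : ∀ j, IsIntegral (FractionRing A) (T j) := fun j =>
    IsIntegral.of_pow (hn j) (by rw [hT j]; exact isIntegral_algebraMap)
  let y : {j // j ≠ i} → κ := fun j => T j
  have hgen : Algebra.adjoin (FractionRing A) (insert (T i) (Set.range y)) = ⊤ := by
    have hmem : ∀ j, T j ∈ Algebra.adjoin (FractionRing A) (insert (T i) (Set.range y)) := fun j => by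
      by_cases h : j = i
      · exact Algebra.subset_adjoin (Or.inl (congrArg T h))
      · exact Algebra.subset_adjoin (Or.inr ⟨⟨j, h⟩, rfl⟩)
    refine Groth.Pi1Tame.adjoin_eq_top_of_div ?_ fun z => ?_
    · rintro a (rfl | ⟨j, rfl⟩) <;> exact hTint _
    · have hψ : ∀ c, ψ c ∈ Algebra.adjoin (FractionRing A) (insert (T i) (Set.range y)) := by
        intro c
        obtain ⟨p, rfl⟩ := Ideal.Quotient.mk_surjective c
        induction p using MvPolynomial.induction_on with
        | C a =>
          rw [show ψ (Ideal.Quotient.mk _ (MvPolynomial.C a)) = g a from rfl, ← hgK]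
          exact Subalgebra.algebraMap_mem _ _
        | add p p' hp hp' => rw [map_add, map_add]; exact add_mem hp hp'
        | mul_X p j hp => rw [map_mul, map_mul]; exact mul_mem hp (hmem j)
      obtain ⟨a, b, hb, rfl⟩ := IsFractionRing.div_surjective (A := kummerAlg A f n ⧸ q) z
      obtain ⟨a, rfl⟩ := Ideal.Quotient.mk_surjective a
      obtain ⟨b, rfl⟩ := Ideal.Quotient.mk_surjective b
      exact ⟨_, hψ a, _, hψ b, rfl⟩
  have hb : ∀ j : {j // j ≠ i}, IsUnit (algebraMap A R (f j)) := fun j =>
    IsLocalization.map_units R (⟨f j, Groth.Pi1Tame.param_notMem_span hf j.2⟩ : (Ideal.span {f i}).primeCompl)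
  have hnu : ∀ j, IsUnit ((n j : ℕ) : R) := fun j => by
    simpa using (Groth.Pi1Tame.isUnit_natCast_of_residue (hu j)).map (algebraMap A R)
  obtain ⟨hsep, hxW, hmax, hpow, hram⟩ := Groth.Pi1Tame.kummer_dominated hV' y (fun j => n j)
    (fun j => hnu j) (fun j => (hb j).unit) (fun j => hT j) (algebraMap A R (f i)) hirr (T i) 1 (n i) (hn i)
    (by rw [hT i, mul_one]) (one_mem _) (map_one _) hgen
  have halg : (RingHom.codRestrict _ V hV.1).toAlgebra = (RingHom.codRestrict _ V hV'.1).toAlgebra :=
    Algebra.algebra_ext _ _ fun a => Subtype.ext (RingHom.congr_fun hcomp a)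
  refine ⟨?_, fun p hp hpc hdvd => ?_⟩
  · convert hsep using 2
  · have he : Ideal.ramificationIdx' (maximalIdeal R) (maximalIdeal V) = n i := by convert hram using 2
    rw [he] at hdvd
    have h0 : ((n i : ℕ) : ResidueField R) = 0 := (CharP.cast_eq_zero_iff (ResidueField R) p _).2 hdvd
    exact ((hnu i).map (residue R)).ne_zero (by rw [map_natCast, h0])

end Groth.Agent.S2924
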