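import Groth.Statements.S2928
import Groth.Agent.Duality.PnVanishLocal

set_option autoImplicit false
universe u
open CategoryTheory AlgebraicGeometry
open ProjDual

namespace Groth.Agent.S2928

/-- (i)⇔(ii): Let k be a field, X = P^r_k, F a coherent O_X-module and n ≥ 0. Then H^i(X, F(−m)) = 0 for
all i ≤ n and all sufficiently large m if and only if at every closed point x of X the stalk F_x has
depth greater than n over O_{X,x}. -/
theorem result (k : Type u) [Field k] (r : ℕ) (F : (CohB1.ProjSpace r k).Modules) (hF : Coh.IsCoh F) (n : ℕ) : (∃ m₀ : ℤ, ∀ m : ℤ, m₀ ≤ m → ∀ i : ℕ, i ≤ n → Subsingleton (Coh.HH (CohB1.ProjSpace r k) (Twist.twistBy _ F (-m)) i)) ↔ ∀ x : (CohB1.ProjSpace r k), IsClosed ({x} : Set (CohB1.ProjSpace r k)) → (n : ℕ∞) < LocCoh.depth ((CohB1.ProjSpace r k).presheaf.stalk x) (F.presheaf.stalk x) := by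
  have h := (Groth.Duality.Pn.forall_negVanish_iff F (n + 1)).symm.trans (Groth.Duality.Pn.forall_negVanish_iff_depth hF (n + 1))
  simp only [Nat.lt_succ_iff] at h
  refine h.trans (forall₂_congr fun x hx => ?_)
  push_cast
  exact ENat.add_one_le_iff (ENat.natCast_ne_top n)

end Groth.Agent.S2928
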