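import Groth.Statements.S2929
import Groth.Agent.LocFinite.Finiteness

set_option autoImplicit false
universe u
open LocCoh

namespace Groth.Agent.S2929

/-- Let A be a Noetherian ring which is a quotient of a regular ring, I an ideal, M a finite A-module
and i ≥ 0. For a prime p write c(p) for the codimension of V(p) ∩ V(I) in V(p). Suppose that for
every prime p not containing I with c(p) finite, the local cohomology H^{i−c(p)} of M_p with support
in the maximal ideal of A_p vanishes (no condition when c(p) > i). Then the local cohomology module
H^i_I(M) is a finite A-module. -/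
theorem result (R : Type u) [CommRing R] [IsRegularRing R] (A : Type u) [CommRing A] [IsNoetherianRing A] (π : R →+* A) (hπ : Function.Surjective π) (I : Ideal A) (M : Type u) [AddCommGroup M] [Module A M] [Module.Finite A M] (i : ℕ) (h : ∀ p : PrimeSpectrum A, ¬ I ≤ p.asIdeal → ∀ (c j : ℕ), SGA2.relCodim I p = c → j + c = i → Subsingleton (LocCoh.H (IsLocalRing.maximalIdeal (Localization.AtPrime p.asIdeal)) j (LocalizedModule p.asIdeal.primeCompl M))) : Module.Finite A (LocCoh.H I i M) := by
  letI := π.toAlgebra
  exact Groth.LocFinite.finite_H_of_covBy hπ I M i fun p hp hc j hj => h p hp 1 j hc hj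

end Groth.Agent.S2929
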