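import Groth.Statements.S2931
import Groth.Agent.LocFinite.CMOff

set_option autoImplicit false
universe u
open LocCoh

namespace Groth.Agent.S2931

/-- Affine form (coherence of R^p i_*(F) for p < n being finiteness of H^i_I for i ≤ n). Let A be a
Noetherian ring which is a quotient of a regular ring, I an ideal and M a finite A-module such that
M_p is zero or Cohen–Macaulay for every prime p not containing I. Then H^i_I(M) is a finite A-module
for every i ≤ n if and only if for every prime p not containing I which is minimal in the support of
M, the codimension of V(p) ∩ V(I) in V(p) is greater than n. -/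
theorem result (R : Type u) [CommRing R] [IsRegularRing R] (A : Type u) [CommRing A] [IsNoetherianRing A] (π : R →+* A) (hπ : Function.Surjective π) (I : Ideal A) (M : Type u) [AddCommGroup M] [Module A M] [Module.Finite A M] (hCM : ∀ p : PrimeSpectrum A, ¬ I ≤ p.asIdeal → Subsingleton (LocalizedModule p.asIdeal.primeCompl M) ∨ LocCoh.IsCohenMacaulayModule (Localization.AtPrime p.asIdeal) (LocalizedModule p.asIdeal.primeCompl M)) (n : ℕ) : (∀ i : ℕ, i ≤ n → Module.Finite A (LocCoh.H I i M)) ↔ ∀ p : PrimeSpectrum A, ¬ I ≤ p.asIdeal → p.asIdeal ∈ (Module.annihilator A M).minimalPrimes → (n : ℕ∞) < SGA2.relCodim I p := by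
  letI := π.toAlgebra
  exact Groth.LocFinite.finite_H_iff_lt_relCodim hπ I hCM n

end Groth.Agent.S2931
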