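import Groth.Statements.S2932
import Groth.Agent.ParaLift82.CIInduction
import Groth.Agent.S2823

set_option autoImplicit false
universe u
open ParaF

namespace Groth.Agent.S2932

open IsLocalRing AlgebraicGeometry

theorem ufd_of_ringEquiv {R S : Type u} [CommRing R] [CommRing S] (e : R ≃+* S)
    (h : IsDomain R ∧ UniqueFactorizationMonoid R) : IsDomain S ∧ UniqueFactorizationMonoid S := by
  obtain ⟨_, h2⟩ := h
  have : IsDomain S := e.symm.toMulEquiv.isDomain R
  exact ⟨inferInstance, e.toMulEquiv.uniqueFactorizationMonoid h2⟩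

theorem ufd_of_ciPres : ∀ (n : ℕ) (A : Type u) [CommRing A] [IsLocalRing A] [IsNoetherianRing A] (k : ℕ),
    Groth.ParaLift82.CIPres k A → ringKrullDim A ≤ (n : WithBot ℕ∞) →
    (∀ p : PrimeSpectrum A, ringKrullDim (Localization.AtPrime p.asIdeal) ≤ 3 →
      IsDomain (Localization.AtPrime p.asIdeal) ∧ UniqueFactorizationMonoid (Localization.AtPrime p.asIdeal)) →
    IsDomain A ∧ UniqueFactorizationMonoid A := by
  intro n
  induction n using Nat.strong_induction_on with
  | _ n ih =>
    intro A _ _ _ k hk hn h
    by_cases h3 : ringKrullDim A ≤ 3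
    · have hu : (maximalIdeal A).primeCompl ≤ IsUnit.submonoid A := fun x hx => notMem_maximalIdeal.1 hx
      let e : A ≃+* Localization.AtPrime (maximalIdeal A) :=
        (IsLocalization.atUnits A (maximalIdeal A).primeCompl hu).toRingEquiv
      refine ufd_of_ringEquiv e.symm (h (closedPoint A) ?_)
      exact (ringKrullDim_eq_of_ringEquiv e).symm.trans_le h3
    · obtain ⟨d, hd⟩ : ∃ d : ℕ, ringKrullDim A = d := by
        obtain ⟨a, ha⟩ := WithBot.ne_bot_iff_exists.1 (ne_bot_of_le_ne_bot (by simp) (ringKrullDim_nonneg_of_nontrivial (R := A)))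
        have : a ≠ ⊤ := by
          rintro rfl
          rw [← ha] at hn
          exact absurd (WithBot.coe_le_coe.1 hn) (by simp)
        obtain ⟨b, rfl⟩ := ENat.ne_top_iff_exists.1 this
        exact ⟨b, ha.symm⟩
      have hd4 : 4 ≤ d := by
        by_contra hc
        exact h3 (hd.trans_le (Nat.cast_le.2 (by omega : d ≤ 3)))
      have hdn : d ≤ n := by rw [hd] at hn; exact Nat.cast_le.1 hn
      have h4 : (4 : WithBot ℕ∞) ≤ ringKrullDim A := by rw [hd]; exact Nat.cast_le.2 hd4
      have hP := Groth.ParaLift82.isParafactorial_of_ciPres k A hk h4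
      refine (Groth.Agent.S2823.result A (le_trans (by norm_num) h4)).2
        ⟨((Groth.Agent.S2824.result A).1 hP).2, Groth.ParaLift82.two_le_depth_of_parafactorial hP,
          fun y hy => ?_⟩
      letI : Algebra A ((Spec (CommRingCat.of A)).presheaf.stalk y) := StructureSheaf.stalkAlgebra A y
      have : IsLocalization.AtPrime ((Spec (CommRingCat.of A)).presheaf.stalk y) y.asIdeal :=
        StructureSheaf.IsLocalization.to_stalk A y
      refine ufd_of_ringEquiv (IsLocalization.algEquiv y.asIdeal.primeCompl
        (Localization.AtPrime y.asIdeal) ((Spec (CommRingCat.of A)).presheaf.stalk y)).toRingEquiv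
        (ih (d - 1) (by omega) _ k (hk.atPrime y.asIdeal) ?_ fun q hq => ?_)
      · rw [IsLocalization.AtPrime.ringKrullDim_eq_height y.asIdeal]
        have hlt : y.asIdeal < maximalIdeal A :=
          lt_of_le_of_ne (le_maximalIdeal y.isPrime.ne_top) fun e => hy (PrimeSpectrum.ext e)
        have h1 := Ideal.height_strict_mono_of_isPrime_of_isPrime hlt
        have hm : (maximalIdeal A).height = (d : ℕ∞) := by
          have := (maximalIdeal_height_eq_ringKrullDim (R := A)).trans hd
          exact_mod_cast this
        rw [hm] at h1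
        obtain ⟨b, hb⟩ := ENat.ne_top_iff_exists.1 h1.ne_top
        rw [← hb] at h1 ⊢
        exact Nat.cast_le.2 (by have := Nat.cast_lt.1 h1; omega)
      · let e := (IsLocalization.localizationLocalizationAtPrimeIsoLocalization y.asIdeal.primeCompl
          q.asIdeal).toRingEquiv
        rw [← ringKrullDim_eq_of_ringEquiv e] at hq
        exact ufd_of_ringEquiv e (h ⟨_, Ideal.IsPrime.comap (algebraMap A _)⟩ hq)

/-- Let A be a Noetherian local ring which is a complete intersection (a quotient of a regular local
ring by a regular sequence) and which is factorial in codimension ≤ 3: for every prime p with dim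
A_p ≤ 3 the local ring A_p is a factorial domain. Then A is a factorial domain. -/
theorem result (A : Type u) [CommRing A] [IsLocalRing A] [IsNoetherianRing A] (hA : SGA2.IsAbsCompleteIntersection A) (h : ∀ p : PrimeSpectrum A, ringKrullDim (Localization.AtPrime p.asIdeal) ≤ 3 → IsDomain (Localization.AtPrime p.asIdeal) ∧ UniqueFactorizationMonoid (Localization.AtPrime p.asIdeal)) : IsDomain A ∧ UniqueFactorizationMonoid A := by
  obtain ⟨k, hk⟩ := Groth.ParaLift82.exists_ciPres A hA
  obtain ⟨n, hn⟩ : ∃ n : ℕ, ringKrullDim A ≤ (n : WithBot ℕ∞) :=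
    ⟨(IsLocalRing.maximalIdeal A).height.toNat, by
      rw [← IsLocalRing.maximalIdeal_height_eq_ringKrullDim]
      exact (congrArg WithBot.some (ENat.coe_toNat (Ideal.height_ne_top (IsLocalRing.maximalIdeal.isMaximal A).ne_top)).symm).le⟩
  exact ufd_of_ciPres n A k hk hn h

end Groth.Agent.S2932
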