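import Groth.Statements.S2933
import Groth.Agent.LocCohBase.ConnectedAt

set_option autoImplicit false
universe u
open LocCoh

namespace Groth.Agent.S2933

/-- Let A be a Noetherian ring with connected spectrum and d ≥ 1 an integer such that every prime p with
dim A_p ≥ d has depth A_p ≥ 2. Then for any two minimal primes p', p'' of A there is a finite
sequence of minimal primes starting at p' and ending at p'' such that any two consecutive members
are both contained in some prime of height at most d − 1 (Spec A is connected in codimension d − 1). -/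
theorem result (A : Type u) [CommRing A] [IsNoetherianRing A] [ConnectedSpace (PrimeSpectrum A)] (d : ℕ) (hd : 1 ≤ d) (h : ∀ p : PrimeSpectrum A, (d : ℕ∞) ≤ p.asIdeal.height → (2 : ℕ∞) ≤ LocCoh.depth (Localization.AtPrime p.asIdeal) (Localization.AtPrime p.asIdeal)) (p' p'' : PrimeSpectrum A) (hp' : p'.asIdeal ∈ minimalPrimes A) (hp'' : p''.asIdeal ∈ minimalPrimes A) : ∃ l : List (PrimeSpectrum A), l.head? = some p' ∧ l.getLast? = some p'' ∧ (∀ p ∈ l, p.asIdeal ∈ minimalPrimes A) ∧ List.IsChain (fun p q => ∃ r : PrimeSpectrum A, p ≤ r ∧ q ≤ r ∧ r.asIdeal.height ≤ (d - 1 : ℕ)) l := by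
  classical
  let adj : PrimeSpectrum A → PrimeSpectrum A → Prop := fun p q => p.asIdeal ∈ minimalPrimes A ∧
    q.asIdeal ∈ minimalPrimes A ∧ ∃ r : PrimeSpectrum A, p ≤ r ∧ q ≤ r ∧ r.asIdeal.height ≤ (d - 1 : ℕ)
  have hfin := minimalPrimes.finite_of_isNoetherianRing A
  set S₁ := hfin.toFinset.filter fun r : Ideal A =>
    ∃ hr : r.IsPrime, Relation.ReflTransGen adj p' ⟨r, hr⟩ with hS₁
  set S₂ := hfin.toFinset.filter fun r : Ideal A =>
    ¬ ∃ hr : r.IsPrime, Relation.ReflTransGen adj p' ⟨r, hr⟩ with hS₂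
  have hreach : Relation.ReflTransGen adj p' p'' := by
    by_contra hno
    set a := S₁.inf id with haI
    set b := S₂.inf id with hbI
    have hpa : a ≤ p'.asIdeal := Finset.inf_le (f := id) (Finset.mem_filter.2
      ⟨hfin.mem_toFinset.2 hp', p'.2, Relation.ReflTransGen.refl⟩)
    have hpb : b ≤ p''.asIdeal := Finset.inf_le (f := id) (Finset.mem_filter.2
      ⟨hfin.mem_toFinset.2 hp'', fun ⟨_, h'⟩ => hno h'⟩)
    have hcover : ∀ q : Ideal A, q.IsPrime → a * b ≤ q := by
      intro q hq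
      obtain ⟨s, hs, hsq⟩ := Ideal.exists_minimalPrimes_le (I := (⊥ : Ideal A)) (J := q) bot_le
      refine le_trans ?_ hsq
      by_cases hd' : ∃ hr : s.IsPrime, Relation.ReflTransGen adj p' ⟨s, hr⟩
      · exact Ideal.mul_le_left.trans (Finset.inf_le (f := id)
          (Finset.mem_filter.2 ⟨hfin.mem_toFinset.2 hs, hd'⟩))
      · exact Ideal.mul_le_right.trans (Finset.inf_le (f := id)
          (Finset.mem_filter.2 ⟨hfin.mem_toFinset.2 hs, hd'⟩))
    have hne : a ⊔ b ≠ ⊤ := by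
      intro htop
      have hconn : IsPreconnected (Set.univ : Set (PrimeSpectrum A)) := isPreconnected_univ
      obtain ⟨x, -, hxa, hxb⟩ := (isPreconnected_closed_iff.1 hconn)
        (PrimeSpectrum.zeroLocus a) (PrimeSpectrum.zeroLocus b)
        (PrimeSpectrum.isClosed_zeroLocus _) (PrimeSpectrum.isClosed_zeroLocus _)
        (fun x _ => (x.2.mul_le.1 (hcover _ x.2)).imp (fun h => h) (fun h => h))
        ⟨p', trivial, hpa⟩ ⟨p'', trivial, hpb⟩
      exact x.2.ne_top (top_le_iff.1 (htop.ge.trans (sup_le hxa hxb)))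
    obtain ⟨P, hP⟩ := Ideal.nonempty_minimalPrimes hne
    haveI := hP.1.1
    obtain ⟨p₁, hp₁, hp₁P⟩ := (Ideal.IsPrime.inf_le' inferInstance).1
      (le_sup_left.trans hP.1.2 : S₁.inf id ≤ P)
    obtain ⟨p₂, hp₂, hp₂P⟩ := (Ideal.IsPrime.inf_le' inferInstance).1
      (le_sup_right.trans hP.1.2 : S₂.inf id ≤ P)
    simp only [id] at hp₁P hp₂P
    rw [Finset.mem_filter, Set.Finite.mem_toFinset] at hp₁ hp₂
    obtain ⟨h1m, h1p, h1r⟩ := hp₁
    have h2p : p₂.IsPrime := hp₂.1.1.1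
    have hht : (d : ℕ∞) ≤ P.height := by
      by_contra hlt
      refine hp₂.2 ⟨h2p, h1r.tail ⟨h1m, hp₂.1, ⟨P, inferInstance⟩, hp₁P, hp₂P, ?_⟩⟩
      rw [not_le] at hlt
      show P.height ≤ ((d - 1 : ℕ) : ℕ∞)
      revert hlt
      cases P.height with
      | top => simp
      | coe t => intro ht; norm_cast at ht ⊢; omega
    have hne₁ : p₁ < P := lt_of_le_of_ne hp₁P fun e => by
      subst e
      obtain rfl : p₂ = p₁ := le_antisymm hp₂P (h1m.2 ⟨h2p, bot_le⟩ hp₂P)
      exact hp₂.2 ⟨h1p, h1r⟩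
    have hne₂ : p₂ < P := lt_of_le_of_ne hp₂P fun e => by
      subst e
      obtain rfl : p₁ = p₂ := le_antisymm hp₁P (hp₂.1.2 ⟨h1p, bot_le⟩ hp₁P)
      exact hp₂.2 ⟨h1p, h1r⟩
    exact Groth.LocCohBase.false_of_split_at (h ⟨P, inferInstance⟩ hht) hcover hP h1p h2p
      (Finset.inf_le (f := id) (Finset.mem_filter.2 ⟨hfin.mem_toFinset.2 h1m, h1p, h1r⟩))
      (Finset.inf_le (f := id) (Finset.mem_filter.2 ⟨hfin.mem_toFinset.2 hp₂.1, hp₂.2⟩)) hne₁ hne₂
  obtain ⟨l, hl, hlast⟩ := List.exists_isChain_cons_of_relationReflTransGen hreach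
  refine ⟨p' :: l, rfl, ?_, ?_, hl.imp fun _ _ h => h.2.2⟩
  · rw [List.getLast?_eq_some_getLast (List.cons_ne_nil _ _), hlast]
  · exact hl.induction (fun p => p.asIdeal ∈ minimalPrimes A) _ (fun _ _ h _ => h.2.1) fun _ => hp'

end Groth.Agent.S2933
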