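import Groth.Statements.S2936
import Groth.Agent.LocDual.SupportBound
import Groth.Agent.LocDual.CompleteQuotient
import Groth.Agent.Gorenstein.Regular

set_option autoImplicit false
universe u
open LocCoh

namespace Groth.Agent.S2936

/-- (iii), for a complete local ring. Let A be a complete Noetherian local ring with maximal ideal m, κ
→ E an injective hull of the residue field, and M a nonzero finite A-module whose support has
dimension n. Then for every i the A-module Hom_A(H^i_m(M), E) is finite with support of dimension at
most i; for i = n its support has dimension exactly n and its associated primes are exactly the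
associated primes p of M with dim A/p = n. -/
theorem result (A : Type u) [CommRing A] [IsLocalRing A] [IsNoetherianRing A] [IsAdicComplete (IsLocalRing.maximalIdeal A) A] (E : Type u) [AddCommGroup E] [Module A E] (f : IsLocalRing.ResidueField A →ₗ[A] E) (hf : InjHull.IsInjectiveHull f) (M : Type u) [AddCommGroup M] [Module A M] [Module.Finite A M] [Nontrivial M] (n : ℕ) (hn : Module.supportDim A M = n) : (∀ i : ℕ, Module.Finite A (LocCoh.H (IsLocalRing.maximalIdeal A) i M →ₗ[A] E) ∧ Module.supportDim A (LocCoh.H (IsLocalRing.maximalIdeal A) i M →ₗ[A] E) ≤ (i : WithBot ℕ∞)) ∧ Module.supportDim A (LocCoh.H (IsLocalRing.maximalIdeal A) n M →ₗ[A] E) = n ∧ associatedPrimes A (LocCoh.H (IsLocalRing.maximalIdeal A) n M →ₗ[A] E) = {p | p ∈ associatedPrimes A M ∧ ringKrullDim (A ⧸ p) = n} := by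
  classical
  obtain ⟨S, _, _, π, hπ⟩ := Groth.LocDual.exists_regularLocal_surjection A
  letI := π.toAlgebra
  have hS : ∃ m, GrothGoren.InjLT S S m := GrothGoren.exists_injLT_of_regular _ S le_rfl
  have hfin : ∀ i : ℕ, Module.Finite A (LocCoh.H (IsLocalRing.maximalIdeal A) i M →ₗ[A] E) :=
    fun i => by
      haveI := Groth.LocCohBase.isArtinian_H (R := A) M i
      exact (GrothMatlis.duality_artinian hf _).1
  have hbound : ∀ (i : ℕ), ∀ q ∈ Module.support A (LocCoh.H (IsLocalRing.maximalIdeal A) i M →ₗ[A] E),
      Order.coheight q ≤ i := fun i q hq => by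
    haveI := hfin i
    refine Groth.LocDual.coheight_le_of_annihilator_H_le hS hπ M q ?_
    rw [GrothMatlis.annihilator_dual_eq hf]
    exact Module.mem_support_iff_of_finite.1 hq
  have hdimle : ∀ i : ℕ, Module.supportDim A (LocCoh.H (IsLocalRing.maximalIdeal A) i M →ₗ[A] E) ≤
      (i : WithBot ℕ∞) := fun i => by
    haveI := hfin i
    exact (Groth.LocCohBase.supportDim_le_iff _ i).2 (hbound i)
  haveI := hfin n
  have hass := Groth.LocDual.mem_associatedPrimes_dual_top_iff hf M hn.le
  refine ⟨fun i => ⟨hfin i, hdimle i⟩, le_antisymm (hdimle n) ?_, Set.ext fun p => ?_⟩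
  · obtain ⟨q, hq, hco⟩ : ∃ q ∈ Module.support A M, Order.coheight q = n := by
      by_contra hno
      push Not at hno
      refine (lt_irrefl (n : WithBot ℕ∞)) (lt_of_le_of_lt hn.ge ((Groth.LocCohBase.supportDim_lt_iff M n).2
        fun q hq => lt_of_le_of_ne ((Groth.LocCohBase.supportDim_le_iff M n).1 hn.le q hq) (hno q hq)))
    by_contra hlt
    have h1 := (Groth.LocCohBase.supportDim_lt_iff _ n).1 (not_le.1 hlt) q
      (Module.mem_support_iff_of_finite.2
        (IsAssociatedPrime.annihilator_le ((hass q).2 ⟨hq, hco⟩) |>.trans'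
          (by rw [Submodule.annihilator_top])))
    rw [hco] at h1
    exact lt_irrefl _ h1
  · constructor
    · intro hp
      haveI := hp.isPrime
      obtain ⟨hq, hco⟩ := (hass ⟨p, inferInstance⟩).1 hp
      refine ⟨?_, ?_⟩
      · obtain ⟨P, hP, hPq⟩ := Ideal.exists_minimalPrimes_le (Module.mem_support_iff_of_finite.1 hq)
        haveI := hP.1.1
        have hPeq : P = p := by
          by_contra hne
          have h1 := Order.coheight_add_one_le (show (⟨P, inferInstance⟩ : PrimeSpectrum A) <
            ⟨p, inferInstance⟩ from lt_of_le_of_ne hPq fun h => hne (congrArg PrimeSpectrum.asIdeal h))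
          rw [hco] at h1
          have h2 := h1.trans ((Groth.LocCohBase.supportDim_le_iff M n).1 hn.le ⟨P, inferInstance⟩
            (Module.mem_support_iff_of_finite.2 hP.1.2))
          norm_cast at h2
          omega
        exact hPeq ▸ Module.associatedPrimes.minimalPrimes_annihilator_subset_associatedPrimes A M hP
      · rw [show ringKrullDim (A ⧸ p) = _ from
          Groth.Ega4Algebra1.ringKrullDim_quotient_eq_coheight A ⟨p, inferInstance⟩, hco]
        rfl
    · rintro ⟨hp, hdim⟩
      haveI := hp.isPrime
      rw [show ringKrullDim (A ⧸ p) = _ from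
        Groth.Ega4Algebra1.ringKrullDim_quotient_eq_coheight A ⟨p, inferInstance⟩] at hdim
      exact (hass ⟨p, inferInstance⟩).2 ⟨Module.mem_support_iff_of_finite.2
        (IsAssociatedPrime.annihilator_le hp |>.trans' (by rw [Submodule.annihilator_top])),
        WithBot.coe_injective hdim⟩

end Groth.Agent.S2936
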