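import Groth.Statements.S2937
import Groth.Agent.Pi1Purity.DescendPure
import Groth.Agent.Pi1Depth.Basic

set_option autoImplicit false
set_option backward.isDefEq.respectTransparency false
set_option backward.defeqAttrib.useBackward true
universe u
open CategoryTheory CategoryTheory.Limits AlgebraicGeometry
open Pi1

namespace Groth.Agent.S2937

/-- Let X be a locally Noetherian scheme and U an open subscheme such that O_X → i_*O_U is an
isomorphism, equivalently, every local ring of X at a point outside U has depth ≥ 2. Let f : X_1 → X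
be faithfully flat and quasi-compact. If the pair (X_1, X_1 − f⁻¹U) is pure (restriction of finite
étale covers from every open V to V ∩ f⁻¹U is an equivalence), then so is (X, X − U). -/
theorem result (X X₁ : Scheme.{u}) [IsLocallyNoetherian X] (U : X.Opens) (hU : ∀ x : X, x ∉ U → (2 : ℕ∞) ≤ LocCoh.depth (X.presheaf.stalk x) (X.presheaf.stalk x)) (f : X₁ ⟶ X) [Flat f] [Surjective f] [QuasiCompact f] (h : SGA2.IsPurePair X₁ (f ⁻¹ᵁ U)) : SGA2.IsPurePair X U := by
  intro V
  let U' : (V : Scheme.{u}).Opens := V.ι ⁻¹ᵁ U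
  have hbij₀ := Groth.Pi1Depth.bijective_app_of_two_le_depth U hU
  let ε : ((V ⊓ U : X.Opens) : Scheme.{u}) ≅ (U' : Scheme.{u}) :=
    IsOpenImmersion.isoOfRangeEq (V ⊓ U).ι (U'.ι ≫ V.ι) (by
      rw [Scheme.Hom.comp_base, TopCat.coe_comp, Set.range_comp, Scheme.Opens.range_ι, Scheme.Opens.range_ι]
      change _ = V.ι '' (V.ι ⁻¹' (U : Set X))
      rw [Set.image_preimage_eq_inter_range, Scheme.Opens.range_ι]
      exact Set.inter_comm _ _)
  have hε : ε.hom ≫ U'.ι = X.homOfLE (inf_le_left : V ⊓ U ≤ V) := by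
    rw [← cancel_mono V.ι, Category.assoc, IsOpenImmersion.isoOfRangeEq_hom_fac, Scheme.homOfLE_ι]
  have hbij : ∀ O : (V : Scheme.{u}).Opens, Function.Bijective (U'.ι.app O) :=
    Groth.Pi1Depth.bijective_app_of_affine U'.ι fun _ hV =>
      Groth.Misc7.DepthTwo.bijective_app (fun z hz => Groth.Pi1Depth.exists_pair_of_ringEquiv
        (asIso (V.ι.stalkMap z)).commRingCatIsoToRingEquiv (Groth.PicAux.exists_regular_pair (hU _ hz))) hV
  have hbij' : ∀ O : (V : Scheme.{u}).Opens, Function.Bijective ((X.homOfLE (inf_le_left : V ⊓ U ≤ V)).app O) := by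
    intro O
    rw [← hε, Scheme.Hom.comp_app]
    exact (ConcreteCategory.bijective_of_isIso (ε.hom.app (U'.ι ⁻¹ᵁ O))).comp (hbij O)
  obtain ⟨hfull, hfaith⟩ := Groth.Pi1FEt.restrict_full_faithful_of_bijective_app _ hbij'
  haveI := hfull
  haveI := hfaith
  let g := f ∣_ V
  haveI : Flat g := MorphismProperty.of_isPullback (isPullback_morphismRestrict f V).flip (inferInstance : Flat f)
  haveI : Surjective g := MorphismProperty.of_isPullback (isPullback_morphismRestrict f V).flip (inferInstance : Surjective f)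
  haveI : QuasiCompact g := MorphismProperty.of_isPullback (isPullback_morphismRestrict f V).flip (inferInstance : QuasiCompact f)
  have hext : Groth.Pi1Purity.ExtendsOnAffines g U' := by
    intro T i hi _ P a b hP W₀
    haveI := hi
    haveI : IsOpenImmersion b := MorphismProperty.of_isPullback hP (inferInstance : IsOpenImmersion U'.ι)
    let i' : T ⟶ X₁ := i ≫ (f ⁻¹ᵁ V).ι
    let R := i'.opensRange
    haveI : IsOpenImmersion (b ≫ i') := MorphismProperty.comp_mem _ _ _ inferInstance inferInstance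
    have hbrange : Set.range b = (i ≫ g) ⁻¹' (U' : Set (V : Scheme.{u})) := by
      rw [← Scheme.Opens.range_ι U']
      ext t
      refine ⟨?_, fun ⟨y, hy⟩ => ?_⟩
      · rintro ⟨p, rfl⟩
        exact ⟨a p, by rw [← Scheme.Hom.comp_apply, hP.w, Scheme.Hom.comp_apply]⟩
      · obtain ⟨p, -, hp⟩ := Scheme.exists_preimage_of_isPullback hP y t hy
        exact ⟨p, hp⟩
    have hrange : Set.range (b ≫ i') = Set.range (R ⊓ f ⁻¹ᵁ U).ι := by
      rw [Scheme.Hom.comp_base, TopCat.coe_comp, Set.range_comp, hbrange, Scheme.Opens.range_ι]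
      ext x
      constructor
      · rintro ⟨t, ht, rfl⟩
        refine ⟨⟨t, rfl⟩, ?_⟩
        change f ((f ⁻¹ᵁ V).ι (i t)) ∈ U
        rw [← Scheme.Hom.comp_apply, ← morphismRestrict_ι]
        exact ht
      · rintro ⟨⟨t, rfl⟩, ht⟩
        refine ⟨t, ?_, rfl⟩
        change V.ι (g (i t)) ∈ U
        rw [← Scheme.Hom.comp_apply, morphismRestrict_ι]
        exact ht
    let φ : P ≅ ((R ⊓ f ⁻¹ᵁ U : X₁.Opens) : Scheme.{u}) :=
      IsOpenImmersion.isoOfRangeEq (b ≫ i') (R ⊓ f ⁻¹ᵁ U).ι hrange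
    haveI : (FEt.restrict (X₁.homOfLE (inf_le_left : R ⊓ f ⁻¹ᵁ U ≤ R))).IsEquivalence := h R
    let W₀' : FEt.Cat ((R ⊓ f ⁻¹ᵁ U : X₁.Opens) : Scheme.{u}) :=
      MorphismProperty.Over.mk ⊤ (W₀.hom ≫ φ.hom)
        (MorphismProperty.comp_mem _ _ _ W₀.prop ⟨inferInstance, inferInstance⟩)
    let V' := (FEt.restrict (X₁.homOfLE (inf_le_left : R ⊓ f ⁻¹ᵁ U ≤ R))).objPreimage W₀'
    let eV := (FEt.restrict (X₁.homOfLE (inf_le_left : R ⊓ f ⁻¹ᵁ U ≤ R))).objObjPreimageIso W₀'
    let e : T ≅ (R : Scheme.{u}) := i'.isoOpensRange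
    have he : e.hom ≫ R.ι = i' := i'.isoOpensRange_hom_ι
    let eL : pullback V'.hom (X₁.homOfLE (inf_le_left : R ⊓ f ⁻¹ᵁ U ≤ R)) ≅ W₀.left :=
      (MorphismProperty.Over.forget _ _ _ ⋙ Over.forget _).mapIso eV
    have heL : eL.hom ≫ W₀.hom ≫ φ.hom = pullback.snd _ _ := MorphismProperty.Over.w eV.hom
    refine ⟨MorphismProperty.Over.mk ⊤ (V'.hom ≫ e.inv)
      (MorphismProperty.comp_mem _ _ _ V'.prop ⟨inferInstance, inferInstance⟩),
      eL.inv ≫ pullback.fst _ _, ?_⟩
    refine (IsPullback.of_hasPullback V'.hom (X₁.homOfLE (inf_le_left : R ⊓ f ⁻¹ᵁ U ≤ R))).flip.of_iso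
      eL φ.symm (Iso.refl _) e.symm ?_ ?_ ?_ ?_
    · rw [Iso.symm_hom, ← heL, Category.assoc, Category.assoc, Iso.hom_inv_id, Category.comp_id]
    · simp
    · rw [Iso.symm_hom, Iso.symm_hom, Iso.eq_inv_comp, ← Category.assoc, Iso.comp_inv_eq, ← cancel_mono R.ι]
      simp only [Category.assoc, he, Scheme.homOfLE_ι]
      exact IsOpenImmersion.isoOfRangeEq_hom_fac (b ≫ i') (R ⊓ f ⁻¹ᵁ U).ι hrange
    · simp
  haveI := Groth.Pi1Purity.essSurj_of_extendsOnAffines g hbij hext
  haveI : (FEt.restrict (X.homOfLE (inf_le_left : V ⊓ U ≤ V))).EssSurj := by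
    refine ⟨fun W => ?_⟩
    let W' : FEt.Cat (U' : Scheme.{u}) :=
      MorphismProperty.Over.mk ⊤ (W.hom ≫ ε.hom)
        (MorphismProperty.comp_mem _ _ _ W.prop ⟨inferInstance, inferInstance⟩)
    let Z := (FEt.restrict U'.ι).objPreimage W'
    let eZ := (FEt.restrict U'.ι).objObjPreimageIso W'
    let eL : pullback Z.hom U'.ι ≅ W.left := (MorphismProperty.Over.forget _ _ _ ⋙ Over.forget _).mapIso eZ
    have heL : eL.hom ≫ W.hom ≫ ε.hom = pullback.snd _ _ := MorphismProperty.Over.w eZ.hom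
    have H : IsPullback (eL.inv ≫ pullback.fst Z.hom U'.ι) W.hom Z.hom (X.homOfLE (inf_le_left : V ⊓ U ≤ V)) :=
      (IsPullback.of_hasPullback Z.hom U'.ι).of_iso eL (Iso.refl _) ε.symm (Iso.refl _) (by simp)
        (by rw [Iso.symm_hom, ← heL, Category.assoc, Category.assoc, Iso.hom_inv_id, Category.comp_id])
        (by simp) (by rw [Iso.symm_hom, Iso.refl_hom, Category.comp_id, ← hε, Iso.inv_hom_id_assoc])
    exact ⟨Z, ⟨MorphismProperty.Over.isoMk H.isoPullback.symm (by
      rw [Iso.symm_hom, Iso.inv_comp_eq]; exact H.isoPullback_hom_snd.symm)⟩⟩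
  exact { }

end Groth.Agent.S2937
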