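import Groth.Statements.S2942
import Groth.Agent.LefVanish.NegVanish
import Groth.Agent.PicAux.EffCartierLine
import Groth.Agent.EulerDeg.HLinear
import Groth.Agent.KTheory.LocFree
import Groth.Agent.LocFree.Basic
import Groth.Agent.CohTwo.PushStalkModule
import Groth.Agent.Divisors.EffCartier

set_option autoImplicit false
universe u
open CategoryTheory AlgebraicGeometry
open Lef

namespace Groth.Agent.S2942

/-- Over a field and for the structure sheaf. Let k be a field and X a proper k-scheme; let 𝓘 be a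
quasi-coherent ideal sheaf whose ideal module is invertible with an ample inverse L (so 𝓘 defines an
effective Cartier divisor Y with O_X(Y) = L ample), and suppose that at every closed point x the
local ring O_{X,x} has depth greater than n. Then there is m₀ such that for all m ≥ m₀ the map
H^i(X, O_X) → H^i(X, O_X/𝓘^{m+1}) induced by the quotient map is bijective for every i < n and
injective for i = n. -/
theorem result (k : Type u) [Field k] (X : Scheme.{u}) [X.Over (Spec (CommRingCat.of k))] [IsProper (X ↘ (Spec (CommRingCat.of k)))] (𝓘 : X.IdealSheafData) (L : X.Modules) (hL : ClSub.IsInverseOf L (ClSub.idealMod 𝓘)) (hamp : CohB1.IsAmple L) (n : ℕ) (hdepth : ∀ x : X, IsClosed ({x} : Set X) → (n : ℕ∞) < LocCoh.depth (X.presheaf.stalk x) (X.presheaf.stalk x)) : ∃ m₀ : ℕ, ∀ m : ℕ, m₀ ≤ m → (∀ i : ℕ, i < n → Function.Bijective (Sheaf.H.map ((SheafOfModules.toSheaf X.ringCatSheaf).map (ClSub.toSubscheme (𝓘 ^ (m + 1)))) i)) ∧ Function.Injective (Sheaf.H.map ((SheafOfModules.toSheaf X.ringCatSheaf).map (ClSub.toSubscheme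 (𝓘 ^ (m + 1)))) n) := by
  let f := X ↘ Spec (CommRingCat.of k)
  have hI : PicF.IsInvertible (ClSub.idealMod 𝓘) := Groth.PicAux.isInvertible_of_isInverseOf hamp.1 hL
  have hC := Groth.PicAux.isEffCartierIdeal_of_isInvertible hI
  have hpow : ∀ m : ℕ, Nonempty (CohB1.tensorPow (ClSub.idealMod 𝓘) (m + 1) ≅ ClSub.idealMod (𝓘 ^ (m + 1))) := by
    intro m
    induction m with
    | zero => rw [zero_add, pow_one]; exact Groth.PicAux.tensorPow_one _
    | succ m ih =>
      rw [pow_succ 𝓘 (m + 1)]
      exact ⟨PicGrp.tensorModIso ih.some (Iso.refl _) ≪≫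
        (Groth.PicAux.idealMod_mul (Groth.Divisors.isEffCartierIdeal_pow hC (m + 1)) hC).some⟩
  have : IsLocallyNoetherian X := LocallyOfFiniteType.isLocallyNoetherian f
  obtain ⟨m₀, hm⟩ := Groth.LefVanish.exists_subsingleton_negPow k f hamp hL (Coh.structureModule X)
    (Groth.KTheory.LocFree.isCoh (Groth.LocFree.isFinLocFree_unit X)) (n + 1) fun z hz => by
      have h := Order.add_one_le_of_lt (hdepth z hz)
      exact (le_of_eq (Nat.cast_add n 1)).trans (h.trans
        (Groth.LocCohBase.idealDepth_congr (LinearEquiv.ofBijective _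
          (Groth.CohTwo.bijective_toSpanSingleton_one z))).le)
  refine ⟨m₀, fun m hmm => ?_⟩
  have hv : ∀ i : ℕ, i < n + 1 → Subsingleton (Coh.HH X (ClSub.idealMod (𝓘 ^ (m + 1))) i) := fun i hi =>
    Groth.PnCoh.subsingleton_HH_of_iso f
      ((Groth.PicAux.exists_leftUnitor _).choose ≪≫ (hpow m).some) (hm (m + 1) (by omega) i hi)
  have hS := Groth.PicAux.shortExact_idealMod (𝓘 ^ (m + 1))
  have hinj : ∀ i : ℕ, i < n + 1 →
      Function.Injective (Groth.EulerDeg.hMap k (ClSub.toSubscheme (𝓘 ^ (m + 1))) i) := by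
    intro i hi
    have := hv i hi
    refine (injective_iff_map_eq_zero _).2 fun x hx => ?_
    obtain ⟨y, hy⟩ := (Groth.EulerDeg.exact_mid k hS i x).1 hx
    rw [← hy, Subsingleton.elim y 0, map_zero]
  refine ⟨fun i hi => ⟨hinj i (by omega), fun x => ?_⟩, hinj n (by omega)⟩
  have := hv (i + 1) (by omega)
  exact (Groth.EulerDeg.exact_right k hS i x).1 (Subsingleton.elim _ _)

end Groth.Agent.S2942
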