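import Groth.Statements.S2950
import Groth.Agent.ParaLift82.PurityLift

set_option autoImplicit false
universe u
open Pi1

namespace Groth.Agent.S2950

/-- Purity part, for the local rings. Let A → B be a flat local homomorphism of Noetherian local rings
and let B₀ = B/m_A B be the local ring of the closed fibre. If B₀ has depth ≥ 3 and every finite
étale cover of the punctured spectrum of B₀ extends to Spec B₀, then every finite étale cover of the
punctured spectrum of B extends to Spec B. -/
theorem result (A B : Type u) [CommRing A] [CommRing B] [IsLocalRing A] [IsLocalRing B] [IsNoetherianRing A] [IsNoetherianRing B] [Algebra A B] [IsLocalHom (algebraMap A B)] [Module.Flat A B] [IsLocalRing (B ⧸ (IsLocalRing.maximalIdeal A).map (algebraMap A B))] (hd : (3 : ℕ∞) ≤ LocCoh.depth (B ⧸ (IsLocalRing.maximalIdeal A).map (algebraMap A B)) (B ⧸ (IsLocalRing.maximalIdeal A).map (algebraMap A B))) (h0 : FEt.PurityHolds (B ⧸ (IsLocalRing.maximalIdeal A).map (algebraMap A B))) : FEt.PurityHolds B := by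
  letI := Ideal.Quotient.field (IsLocalRing.maximalIdeal A)
  have hgr : Groth.ParaLift82.FreeGr (IsLocalRing.maximalIdeal A) :=
    Groth.ParaLift82.freeGr_of_free (IsLocalRing.maximalIdeal_le_jacobson _) fun n => inferInstance
  exact (Groth.ParaLift82.purityHolds_of_freeGr (ne_top_of_le_ne_top (IsLocalRing.maximalIdeal.isMaximal B).ne_top
    (IsLocalRing.map_maximalIdeal_le _)) (hgr.map (B := B)) hd h0).2

end Groth.Agent.S2950
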