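import Groth.Statements.S2952
import Groth.Agent.RootData.IntDatum

set_option autoImplicit false
open RootPairing
open scoped Pointwise
universe u
open RootD

namespace Groth.Agent.S2952

/-- For a finite crystallographic reduced root pairing over a characteristic-zero domain with a base b:
(1) the Weyl group is generated by the reflections in the simple roots; (2) every root is the image
of a simple root under an element of the Weyl group (acting on the indexing type). (The published
statement also covers the non-reduced case.) -/
theorem result {ι R M N : Type*} [CommRing R] [CharZero R] [IsDomain R] [AddCommGroup M] [Module R M]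
    [AddCommGroup N] [Module R N] (P : RootPairing ι R M N) [Finite ι] [P.IsCrystallographic] [P.IsReduced]
    (b : P.Base) :
    Subgroup.closure ((fun i : ι => Equiv.reflection P i) '' (b.support : Set ι)) = P.weylGroup ∧
    ∀ i : ι, ∃ g : P.Aut, g ∈ P.weylGroup ∧ ∃ j ∈ b.support, g • j = i := by
  have hb := Groth.RootData.Base.isSimpleSys b
  refine ⟨Groth.RootData.closure_refl_simple hb, fun i ↦ ?_⟩
  have hind : RootD.IsIndiv P i := Groth.RootData.isIndiv_iff.mpr fun j e ↦ by
    have hdep : ¬ LinearIndependent R ![P.root i, P.root j] := fun h ↦ by
      have := LinearIndependent.pair_iff.mp h 1 (-2) (by rw [e]; module)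
      simp at this
    rcases RootPairing.IsReduced.eq_or_eq_neg i j hdep with h | h
    · exact P.ne_zero j (left_eq_add.mp (h.symm.trans e))
    · have h3 : (3 : ℤ) • P.root j = 0 := by linear_combination (norm := module) e.symm.trans h
      exact P.ne_zero j (Groth.RootData.zsmul_right_cancel P (three_ne_zero : (3:ℤ) ≠ 0)
        (h3.trans (smul_zero _).symm))
  obtain ⟨g, hg, h⟩ := Groth.RootData.exists_weyl_smul_simple hb hind
  exact ⟨g, Groth.RootData.closure_refl_le _ hg, h⟩

end Groth.Agent.S2952
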