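import Groth.Statements.S2955
import Groth.Agent.RootData.Domain

set_option autoImplicit false
open RootPairing
open scoped Pointwise Classical
universe u
open RootD

namespace Groth.Agent.S2955

/-- Let P be a finite crystallographic reduced root pairing over a domain of characteristic zero, with a
base b, and write 2ρ for the sum of the positive roots with respect to b. Then for every simple root
β (an index in the support of b) the reflection in β sends 2ρ to 2ρ − 2β (equivalently, the coroot
of β pairs to 1 with ρ; only the reflection identity is asserted). -/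
theorem result {ι R M N : Type*} [CommRing R] [CharZero R] [IsDomain R] [AddCommGroup M] [Module R M]
    [AddCommGroup N] [Module R N] (P : RootPairing ι R M N) [Finite ι] [P.IsCrystallographic] [P.IsReduced]
    [Fintype ι] (b : P.Base) (j : ι) (hj : j ∈ b.support) :
    P.reflection j (∑ i, if b.IsPos i then P.root i else 0) =
      (∑ i, if b.IsPos i then P.root i else 0) - (2 : R) • P.root j := by
  set S := Finset.univ.filter fun i ↦ b.IsPos i with hSdef
  have hb := Groth.RootData.Base.isSimpleSys b
  have hcoe : (S : Set ι) = RootD.posOf P (b.support : Set ι) := by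
    ext i; simp [hSdef, Groth.RootData.Base.mem_posOf_iff]
  have hS : RootD.IsPosSys P (S : Set ι) := hcoe.symm ▸ Groth.RootData.IsSimpleSys.isPosSys hb
  have hjs : j ∈ Groth.RootData.simpleOf P (S : Set ι) := by
    rw [hcoe, Groth.RootData.IsSimpleSys.simpleOf_posOf hb]; exact hj
  rw [← Finset.sum_filter, ← hSdef]
  have := Groth.RootData.isAddTorsionFree_weight P
  have hsum : ∑ k ∈ S \ {j}, (P.root (P.reflectionPerm j k) - P.root k) = 0 := by
    refine Groth.RootData.sum_pos_diff_eq_zero hS hjs (fun k _ ↦ ?_) _ (fun k ↦ ?_)
    · simp [Groth.RootData.isReduced_no_double]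
    · rw [P.reflectionPerm_self, neg_sub]
  rw [Finset.sum_sub_distrib, sub_eq_zero] at hsum
  rw [← Finset.sum_sdiff (Finset.singleton_subset_iff.mpr hjs.1), map_add, map_sum, map_sum,
    Finset.sum_singleton, Finset.sum_singleton, two_smul, P.reflection_apply_self]
  simp only [← P.root_reflectionPerm]
  rw [hsum]; abel

end Groth.Agent.S2955
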