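import Groth.Statements.S2957
import Groth.Agent.RootData.RankTwo
import Groth.Agent.RootData.Height
import Groth.Agent.RootData.IntDatum

set_option autoImplicit false
open RootPairing
open scoped Pointwise
universe u
open RootD

namespace Groth.Agent.S2957

/-- For a finite crystallographic reduced root pairing with a base b: let α, β be simple roots and w an
element of the Weyl group with w(α) = β. Then there are simple roots α = α_0, ..., α_m = β and Weyl
group elements w_0, ..., w_{m-1} with w = w_{m-1} ... w_0, w_i(α_i) = α_{i+1}, and each w_i lying in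
the subgroup generated by the reflections in α_i and in a simple root γ_i, where γ_i = α_{i+1}
whenever α_i ≠ α_{i+1}. -/
theorem result {ι R M N : Type*} [CommRing R] [CharZero R] [IsDomain R] [AddCommGroup M] [Module R M]
    [AddCommGroup N] [Module R N] (P : RootPairing ι R M N) [Finite ι] [P.IsCrystallographic] [P.IsReduced]
    (b : P.Base) (α β : ι) (hα : α ∈ b.support) (hβ : β ∈ b.support) (w : P.Aut) (hw : w ∈ P.weylGroup)
    (hwα : w • α = β) :
    ∃ (m : ℕ) (a : Fin (m + 1) → ι) (ws : Fin m → P.Aut),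
      (∀ i, a i ∈ b.support) ∧ a 0 = α ∧ a (Fin.last m) = β ∧
      (∀ i, ws i ∈ P.weylGroup) ∧
      w = (List.ofFn fun i : Fin m => ws (Fin.rev i)).prod ∧
      (∀ i : Fin m, ws i • a (Fin.castSucc i) = a (Fin.succ i)) ∧
      ∀ i : Fin m, ∃ γ ∈ b.support,
        ws i ∈ Subgroup.closure {Equiv.reflection P (a (Fin.castSucc i)), Equiv.reflection P γ} ∧
        (a (Fin.castSucc i) ≠ a (Fin.succ i) → γ = a (Fin.succ i)) := by
  classical
  have := Groth.RootData.isAddTorsionFree_weight P
  have hΔ := Groth.RootData.Base.isSimpleSys b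
  set Δ : Set ι := (b.support : Set ι) with hΔdef
  have hpos := Groth.RootData.IsSimpleSys.isPosSys hΔ
  have hli := Groth.RootData.linIndepOn_int hΔ.linInd
  let N : P.Aut → ℕ := fun g ↦ Set.ncard {k | k ∈ RootD.posOf P Δ ∧ g • k ∉ RootD.posOf P Δ}
  have hN : ∀ (g : P.Aut), ∀ i ∈ Δ, g • i ∉ RootD.posOf P Δ → N (g * Groth.RootData.refl P i) < N g := by
    intro g i hi hgi
    have hgni : g • Groth.RootData.neg P i ∈ RootD.posOf P Δ := by
      rw [Groth.RootData.smul_neg_index]
      exact (hpos.cover _).resolve_left hgi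
    have hss : ∀ k : ι, Groth.RootData.refl P i • Groth.RootData.refl P i • k = k := fun k ↦ by
      rw [smul_smul, Groth.RootData.refl_mul_self, one_smul]
    have hne : ∀ k ∈ RootD.posOf P Δ, g • Groth.RootData.refl P i • k ∉ RootD.posOf P Δ →
        k ≠ i ∧ Groth.RootData.refl P i • k ∈ RootD.posOf P Δ := fun k hk hgk ↦ by
      have hki : k ≠ i := fun e ↦ hgk (by rw [e, Groth.RootData.refl_smul_self]; exact hgni)
      refine ⟨hki, ?_⟩
      rw [Groth.RootData.refl_smul]
      exact Groth.RootData.refl_mem_posOf hΔ hi hk hki (Groth.RootData.isReduced_no_double i k)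
    calc N (g * Groth.RootData.refl P i)
        ≤ ({k | k ∈ RootD.posOf P Δ ∧ g • k ∉ RootD.posOf P Δ} \ {i}).ncard := by
          refine Set.ncard_le_ncard_of_injOn (fun k ↦ Groth.RootData.refl P i • k) ?_
            ((MulAction.injective (β := ι) (Groth.RootData.refl P i)).injOn) (Set.toFinite _)
          rintro k ⟨hk, hgk⟩
          rw [mul_smul] at hgk
          refine ⟨⟨(hne k hk hgk).2, hgk⟩, fun e ↦ ?_⟩
          have e' : k = Groth.RootData.neg P i := by
            rw [← Groth.RootData.refl_smul_self, ← hss k]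
            exact congrArg _ e
          exact hpos.disjoint (Groth.RootData.subset_posOf Δ hi) (show Groth.RootData.neg P i ∈ _ by rw [← e']; exact hk)
      _ < N g := Set.ncard_sdiff_singleton_lt_of_mem ⟨Groth.RootData.subset_posOf Δ hi, hgi⟩ (Set.toFinite _)
  -- a root in the span of two simple roots sent to a simple root is one of them
  have two : ∀ (g : P.Aut), ∀ a ∈ Δ, ∀ c ∈ Δ, ∀ t ∈ Δ, ∀ k : ι, a ≠ c →
      P.root k ∈ Submodule.span ℤ ({P.root a, P.root c} : Set M) → g • a ∈ RootD.posOf P Δ →
      g • c ∈ RootD.posOf P Δ → g • k = t → k = a ∨ k = c := by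
    intro g a ha c hc t ht k hac hk hga hgc hgk
    obtain ⟨x, y, hxy⟩ := Submodule.mem_span_pair.mp hk
    obtain ⟨A, hA, hA0, hAe⟩ := Groth.RootData.mem_natSpan_exists_int (hga : P.root (g • a) ∈ _)
    obtain ⟨C, hC, hC0, hCe⟩ := Groth.RootData.mem_natSpan_exists_int (hgc : P.root (g • c) ∈ _)
    have heq := Groth.RootData.eq_of_linearCombination_eq hli (c := x • A + y • C) (d := Finsupp.single t 1)
      (fun z hz ↦ (Finset.mem_union.mp (Finsupp.support_add hz)).elim
        (fun h ↦ hA (Finsupp.support_smul h)) (fun h ↦ hC (Finsupp.support_smul h)))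
      (fun z hz ↦ Finset.mem_singleton.mp (Finsupp.support_single_subset hz) ▸ ht)
      (by rw [map_add, map_smul, map_smul, hAe, hCe, Finsupp.linearCombination_single, one_smul, ← hgk,
            Groth.RootData.root_smul, Groth.RootData.root_smul, Groth.RootData.root_smul, ← hxy, smul_add,
            smul_comm g x, smul_comm g y])
    have hval : ∀ z, x * A z + y * C z = if t = z then 1 else 0 := fun z ↦ by
      have := DFunLike.congr_fun heq z
      simpa [Finsupp.single_apply] using this
    have hAt : 1 ≤ A t ∨ 1 ≤ C t := by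
      by_contra hh
      push Not at hh
      have h1 := hval t
      rw [if_pos rfl, show A t = 0 by have := hA0 t; omega, show C t = 0 by have := hC0 t; omega] at h1
      omega
    have hxy0 : ∀ (d : ι →₀ ℤ), ↑d.support ⊆ Δ → Finsupp.linearCombination ℤ P.root d = P.root k →
        d a = x ∧ d c = y := fun d hd hde ↦ by
      have := Groth.RootData.eq_of_linearCombination_eq hli (c := d) (d := Finsupp.single a x + Finsupp.single c y) hd
        (fun z hz ↦ (Finset.mem_union.mp (Finsupp.support_add hz)).elim
          (fun h ↦ Finset.mem_singleton.mp (Finsupp.support_single_subset h) ▸ ha)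
          (fun h ↦ Finset.mem_singleton.mp (Finsupp.support_single_subset h) ▸ hc))
        (by simp [hde, hxy])
      subst this
      simp [hac, Ne.symm hac]
    rcases hpos.cover k with hkp | hkp
    · obtain ⟨d, hd, hd0, hde⟩ := Groth.RootData.mem_natSpan_exists_int (hkp : P.root k ∈ _)
      obtain ⟨rfl, rfl⟩ := hxy0 d hd hde
      have hsingle : d a = 0 ∨ d c = 0 := by
        by_contra hh
        push Not at hh
        have hAz : ∀ z, z ≠ t → A z = 0 ∧ C z = 0 := fun z hz ↦ by
          have h1 := hval z
          rw [if_neg (Ne.symm hz)] at h1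
          have p1 := mul_nonneg (hd0 a) (hA0 z)
          have p2 := mul_nonneg (hd0 c) (hC0 z)
          exact ⟨(mul_eq_zero.mp (show d a * A z = 0 by omega)).resolve_left hh.1,
            (mul_eq_zero.mp (show d c * C z = 0 by omega)).resolve_left hh.2⟩
        have hnz : ∀ {B : ι →₀ ℤ} {e : ι}, (∀ z, z ≠ t → B z = 0) →
            Finsupp.linearCombination ℤ P.root B = P.root e → B t ≠ 0 := fun {B e} hB hBe h0 ↦ by
          have : B = 0 := Finsupp.ext fun z ↦ if h : z = t then h ▸ h0 else hB z h
          rw [this, map_zero] at hBe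
          exact P.ne_zero e hBe.symm
        have h1 := hval t
        rw [if_pos rfl] at h1
        have := hnz (fun z hz ↦ (hAz z hz).1) hAe
        have := hnz (fun z hz ↦ (hAz z hz).2) hCe
        have := hd0 a; have := hd0 c; have := hA0 t; have := hC0 t
        have p1 : 0 < d a * A t := mul_pos (by omega) (by omega)
        have p2 : 0 < d c * C t := mul_pos (by omega) (by omega)
        omega
      have fin : ∀ (e : ι) (v : ℤ), e ∈ Δ → (1 : ℤ) • P.root k = v • P.root e → k = e := fun e v he h ↦
        ((Groth.RootData.eq_or_neg_of_indiv one_ne_zero h (Groth.RootData.isIndiv_of_isReduced k)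
          (Groth.RootData.isIndiv_of_isReduced e)).resolve_right fun h' ↦
            hpos.disjoint (Groth.RootData.subset_posOf Δ he) (show Groth.RootData.neg P e ∈ _ by rw [← h']; exact hkp))
      rcases hsingle with e | e <;> rw [e] at hxy <;> simp only [zero_smul, zero_add, add_zero] at hxy
      · exact .inr (fin c (d c) hc (by rw [one_smul, hxy]))
      · exact .inl (fin a (d a) ha (by rw [one_smul, hxy]))
    · obtain ⟨d, hd, hd0, hde⟩ := Groth.RootData.mem_natSpan_exists_int (hkp : P.root _ ∈ _)
      rw [Groth.RootData.root_neg] at hde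
      obtain ⟨h1, h2⟩ := hxy0 (-d) (by simpa using hd) (by rw [map_neg, hde, neg_neg])
      have h3 := hval t
      rw [if_pos rfl, ← h1, ← h2, Finsupp.neg_apply, Finsupp.neg_apply] at h3
      have := hd0 a; have := hd0 c; have := hA0 t; have := hC0 t
      nlinarith
  have hstab : ∀ (a c : ι) (x : P.Aut), x ∈ Subgroup.closure ({Equiv.reflection P a, Equiv.reflection P c} : Set P.Aut) →
      ∀ k, P.root k ∈ Submodule.span ℤ ({P.root a, P.root c} : Set M) →
      P.root (x • k) ∈ Submodule.span ℤ ({P.root a, P.root c} : Set M) := by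
    intro a c x hx
    have hgen : ∀ y ∈ ({Equiv.reflection P a, Equiv.reflection P c} : Set P.Aut), ∀ k,
        P.root k ∈ Submodule.span ℤ ({P.root a, P.root c} : Set M) →
        P.root (y • k) ∈ Submodule.span ℤ ({P.root a, P.root c} : Set M) := by
      rintro y (rfl | rfl) k hk <;> rw [Groth.RootData.refl_smul, Groth.RootData.root_reflectionPerm_eq] <;>
        refine sub_mem hk (Submodule.smul_mem _ _ (Submodule.subset_span ?_))
      exacts [.inl rfl, .inr rfl]
    induction hx using Subgroup.closure_induction'' with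
    | one => intro k hk; rwa [one_smul]
    | mem y hy => exact hgen y hy
    | inv_mem y hy =>
      rcases hy with rfl | rfl <;> rw [Groth.RootData.refl_inv]
      exacts [hgen _ (.inl rfl), hgen _ (.inr rfl)]
    | mul y z _ _ hy hz => intro k hk; rw [mul_smul]; exact hy _ (hz k hk)
  induction hn : N w using Nat.strong_induction_on generalizing α w with
  | _ n ih =>
    by_cases hall : ∀ i ∈ Δ, w • i ∈ RootD.posOf P Δ
    · obtain rfl := Groth.RootData.eq_one_of_mapsTo_pos hΔ hw hall
      rw [one_smul] at hwα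
      subst hwα
      exact ⟨0, fun _ ↦ α, Fin.elim0, fun _ ↦ hα, rfl, rfl, fun i ↦ i.elim0, by simp, fun i ↦ i.elim0, fun i ↦ i.elim0⟩
    push Not at hall
    obtain ⟨γ, hγ, hwγ⟩ := hall
    have hαγ : α ≠ γ := fun e ↦ hwγ (by rw [← e, hwα]; exact Groth.RootData.subset_posOf Δ hβ)
    let W2 := Subgroup.closure ({Equiv.reflection P α, Equiv.reflection P γ} : Set P.Aut)
    obtain ⟨x, hx, hmin⟩ : ∃ x ∈ W2, ∀ y ∈ W2, N (w * x⁻¹) ≤ N (w * y⁻¹) := by
      have hne : {m | ∃ y ∈ W2, N (w * y⁻¹) = m}.Nonempty := ⟨_, 1, one_mem _, rfl⟩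
      obtain ⟨x, hx, hxm⟩ := Nat.sInf_mem hne
      exact ⟨x, hx, fun y hy ↦ hxm ▸ Nat.sInf_le ⟨y, hy, rfl⟩⟩
    have hgen : ∀ i, i = α ∨ i = γ → Groth.RootData.refl P i ∈ W2 := fun i hi ↦
      Subgroup.subset_closure (by rcases hi with rfl | rfl; exacts [.inl rfl, .inr rfl])
    have hp : ∀ i, i = α ∨ i = γ → (w * x⁻¹) • i ∈ RootD.posOf P Δ := fun i hi ↦ by
      by_contra hneg
      have h1 := hN (w * x⁻¹) i (by rcases hi with rfl | rfl; exacts [hα, hγ]) hneg
      have h2 := hmin _ (mul_mem (hgen i hi) hx)
      rw [mul_inv_rev, Groth.RootData.refl_inv, ← mul_assoc] at h2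
      omega
    have hlt : N (w * x⁻¹) < n := by
      have h1 := hN w γ hγ hwγ
      have h2 := hmin _ (hgen γ (.inr rfl))
      rw [Groth.RootData.refl_inv] at h2
      omega
    have hxW : x ∈ P.weylGroup := by
      refine (Subgroup.closure_le P.weylGroup).mpr ?_ hx
      rintro y (rfl | rfl) <;> exact Groth.RootData.refl_mem_weylGroup _
    have hxα : x • α = α ∨ x • α = γ := by
      refine two (w * x⁻¹) α hα γ hγ β hβ _ hαγ (hstab α γ x hx α (Submodule.subset_span (.inl rfl)))
        (hp α (.inl rfl)) (hp γ (.inr rfl)) ?_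
      rw [smul_smul, inv_mul_cancel_right, hwα]
    have hxΔ : x • α ∈ b.support := by rcases hxα with e | e <;> rw [e]; exacts [hα, hγ]
    obtain ⟨m, a, ws, ha, ha0, hal, hws, hprod, hstep, hspan⟩ := ih _ hlt (x • α) hxΔ (w * x⁻¹)
      (mul_mem hw (inv_mem hxW)) (by rw [smul_smul, inv_mul_cancel_right, hwα]) rfl
    refine ⟨m + 1, Fin.cons α a, Fin.cons x ws, ?_, rfl, ?_, ?_, ?_, ?_, ?_⟩
    · exact Fin.cases hα ha
    · rw [← Fin.succ_last, Fin.cons_succ]; exact hal
    · exact Fin.cases hxW hws
    · have : ∀ i : Fin m, (Fin.cons x ws : Fin (m + 1) → P.Aut) (Fin.rev i.castSucc) = ws i.rev := fun i ↦ by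
        rw [Fin.rev_castSucc, Fin.cons_succ]
      rw [List.ofFn_succ', List.concat_eq_append, List.prod_append]
      simp only [this, ← hprod, Fin.rev_last, Fin.cons_zero, List.prod_singleton, inv_mul_cancel_right]
    · refine Fin.cases ?_ fun i ↦ ?_
      · simp [ha0]
      · simpa [Fin.castSucc_succ] using hstep i
    · refine Fin.cases ?_ fun i ↦ ?_
      · refine ⟨γ, hγ, by simpa using hx, fun h ↦ ?_⟩
        simp [ha0] at h ⊢
        rcases hxα with e | e
        · exact absurd e.symm h
        · exact e.symm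
      · simpa [Fin.castSucc_succ] using hspan i

end Groth.Agent.S2957
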