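import Groth.Statements.S2961
import Groth.Agent.AlgGrp1.BorelRelative

set_option autoImplicit false
open CategoryTheory MonoidalCategory CartesianMonoidalCategory MonObj GrpObj AlgebraicGeometry
universe u
open RedX

namespace Groth.Agent.S2961

/-- Let G be a reductive group scheme over an arbitrary base scheme S and i : P → G a parabolic subgroup
(a smooth closed subgroup scheme whose geometric fibres contain a Borel subgroup). Then P is its own
normalizer in G: a point of G normalises P (after every base change) if and only if it lies in P.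
The algebraically-closed-field case is carried as the hypothesis hNormAlgClosed: over an
algebraically closed field K, a K-point of a reductive group which normalises a parabolic subgroup
scheme lies in it. -/
theorem result
    (hNormAlgClosed : ∀ (K : Type u) [Field K] [IsAlgClosed K] (H Q : Over (Spec (CommRingCat.of K))) [GrpObj H] [GrpObj Q]
      (j : Q ⟶ H), Red.IsReductive H → Red.IsParabolic j → ∀ g : 𝟙_ (Over (Spec (CommRingCat.of K))) ⟶ H,
        (∀ (Y : Over (Spec (CommRingCat.of K))) (q : Y ⟶ Q), ∃ q' : Y ⟶ Q,
          (toUnit Y ≫ g) * (q ≫ j) * (toUnit Y ≫ g)⁻¹ = q' ≫ j) →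
        ∃ q : 𝟙_ (Over (Spec (CommRingCat.of K))) ⟶ Q, q ≫ j = g)
    {S : Scheme.{u}} {G P : Over S} [GrpObj G] [GrpObj P] (hG : Red.IsReductive G)
    (i : P ⟶ G) (hP : Red.IsParabolic i) : Red.IsNormalizerOf i i := by
  obtain ⟨hm, hcl, hs, hgeo⟩ := hP
  haveI := hm; haveI := hcl; haveI := hs
  haveI : Mono i := Over.mono_of_mono_left i
  haveI := hG.1; haveI := hG.2.1
  haveI : QuasiCompact P.hom := by rw [← Over.w i]; infer_instance
  haveI : QuasiSeparated P.hom := by rw [← Over.w i]; infer_instance
  have hprops : ∀ s : S, ConnectedSpace (Red.geomFibre s P).left ∧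
      Red.IsNormalizerOf ((Over.pullback (Red.geomPt s)).map i) ((Over.pullback (Red.geomPt s)).map i) := fun s => by
    obtain ⟨ha, hsm, hc, -⟩ := hG.2.2 s
    exact Groth.AlgGrp1.parabolicOver_props (hgeo s)
  have hconnB : ∀ s : S, _root_.IsConnected (P.hom.base ⁻¹' {s}) := fun s => by
    haveI : ConnectedSpace ↥(Limits.pullback P.hom (Red.geomPt s)) := (hprops s).1
    have hr : P.hom.base ⁻¹' {s} = Set.range (Limits.pullback.fst P.hom (Red.geomPt s)).base := by
      rw [Scheme.Pullback.range_fst]
      refine congrArg (P.hom.base ⁻¹' ·) (Set.ext fun y => ⟨fun hy => ⟨IsLocalRing.closedPoint _, ?_⟩, ?_⟩)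
      · rw [Set.mem_singleton_iff] at hy
        rw [hy, Scheme.Hom.comp_apply, Scheme.fromSpecResidueField_apply]
      · rintro ⟨z, rfl⟩
        rw [Set.mem_singleton_iff, Scheme.Hom.comp_apply, Scheme.fromSpecResidueField_apply]
    rw [hr]
    exact isConnected_range (Limits.pullback.fst P.hom (Red.geomPt s)).continuous
  exact (Groth.AlgGrp1.isNormalizerOf_self_of_fibres i hconnB fun s => (hprops s).2).1

end Groth.Agent.S2961
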