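import Groth.Statements.S2962
import Groth.Agent.RedX.Centre
-- import your own Groth.Agent.* helpers here

set_option autoImplicit false
open CategoryTheory MonoidalCategory CartesianMonoidalCategory MonObj GrpObj AlgebraicGeometry
universe u
open RedX

namespace Groth.Agent.S2962

/-- Let G be a split reductive group scheme over S with splitting D (maximal torus T = D(M), roots in
M). A point g of G with values in X is central (commutes with every point of G after every base
change X' -> X) if and only if it factors through T and every root, viewed as a character T -> G_m,
is trivial on it; i.e. the centre of G is the intersection of the kernels of the roots. -/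
theorem result {S : Scheme.{u}} {G : Over S} [GrpObj G] (D : Red.SplitRed G)
    (X : Over S) (g : X ⟶ G) :
    (∀ (X' : Over S) (x : X' ⟶ X) (h : X' ⟶ G), (x ≫ g) * h = h * (x ≫ g)) ↔
      ∃ t : X ⟶ D.T, t ≫ D.i = g ∧ ∀ a : D.idx, t ≫ D.split.hom.hom.hom ≫ Red.chi S (D.P.root a) = 1 := by
  exact Groth.RedX.central_iff D g

end Groth.Agent.S2962
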