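import Groth.Statements.S2964
import Mathlib.Algebra.Lie.Engel


set_option autoImplicit false
universe u
open scoped TensorProduct
open SGA3t2b

namespace Groth.Agent.S2964

variable {A : Type u} [CommRing A] {L : Type u} [LieRing L] [LieAlgebra A L]

section Fibre

variable (P : Ideal A) [P.IsPrime]

lemma isLocalizedModule_quotient :
    IsLocalizedModule P.primeCompl
      (IsScalarTower.toAlgHom A (A ⧸ P) P.ResidueField).toLinearMap where
  map_units s := by
    have hs : IsUnit (algebraMap A P.ResidueField s) := by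
      rw [isUnit_iff_ne_zero, ne_eq, Ideal.algebraMap_residueField_eq_zero]
      exact s.2
    rw [Module.End.isUnit_iff]
    refine ⟨fun a b hab => ?_, fun b => ?_⟩
    · simp only [Module.algebraMap_end_apply, Algebra.smul_def] at hab
      exact hs.mul_left_cancel hab
    · obtain ⟨u, hu⟩ := hs
      exact ⟨↑u⁻¹ * b, by simp [Module.algebraMap_end_apply, Algebra.smul_def, ← hu]⟩
  surj y := by
    obtain ⟨⟨a, s, hs⟩, h⟩ := IsLocalization.surj (nonZeroDivisors (A ⧸ P)) y
    obtain ⟨s, rfl⟩ := Ideal.Quotient.mk_surjective s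
    refine ⟨⟨a, ⟨s, fun hsP => ?_⟩⟩, ?_⟩
    · exact nonZeroDivisors.ne_zero hs (Ideal.Quotient.eq_zero_iff_mem.mpr hsP)
    · rw [Submonoid.smul_def, Algebra.smul_def, mul_comm]
      exact h
  exists_of_eq h := ⟨1, congrArg _ (P.injective_algebraMap_quotient_residueField h)⟩

/-- The map `(A ⧸ P) ⊗ L → κ(P) ⊗ L`. -/
noncomputable def toFibre : (A ⧸ P) ⊗[A] L →ₗ[A] P.ResidueField ⊗[A] L :=
  TensorProduct.AlgebraTensorModule.rTensor A L
    (IsScalarTower.toAlgHom A (A ⧸ P) P.ResidueField).toLinearMap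

instance : IsLocalizedModule P.primeCompl (toFibre (L := L) P) :=
  @IsLocalizedModule.rTensor _ _ _ _ _ _ _ _ _ _ _ _ _ _ _ _ _ _ _ _
    (isLocalizedModule_quotient P)

omit [P.IsPrime] in
lemma exists_tmul_one (w : (A ⧸ P) ⊗[A] L) : ∃ x : L, (1 : A ⧸ P) ⊗ₜ[A] x = w := by
  induction w using TensorProduct.induction_on with
  | zero => exact ⟨0, by simp⟩
  | tmul a x =>
    obtain ⟨a, rfl⟩ := Ideal.Quotient.mk_surjective a
    exact ⟨a • x, by rw [TensorProduct.tmul_smul, TensorProduct.smul_tmul', ← Algebra.algebraMap_eq_smul_one]; rfl⟩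
  | add a b ha hb =>
    obtain ⟨x, rfl⟩ := ha
    obtain ⟨y, rfl⟩ := hb
    exact ⟨x + y, TensorProduct.tmul_add _ _ _⟩

lemma exists_smul_eq_tmul (z : P.ResidueField ⊗[A] L) :
    ∃ s ∉ P, ∃ x : L, s • z = (1 : P.ResidueField) ⊗ₜ[A] x := by
  obtain ⟨⟨w, s⟩, h⟩ := IsLocalizedModule.surj P.primeCompl (toFibre P) z
  obtain ⟨x, rfl⟩ := exists_tmul_one P w
  refine ⟨s, s.2, x, h.trans ?_⟩
  simp [toFibre]

lemma exists_smul_mem (x : L) (h : (1 : P.ResidueField) ⊗ₜ[A] x = 0) :
    ∃ s ∉ P, s • x ∈ P • (⊤ : Submodule A L) := by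
  have h1 : toFibre P ((1 : A ⧸ P) ⊗ₜ[A] x) = 0 := by simpa [toFibre] using h
  rw [IsLocalizedModule.eq_zero_iff P.primeCompl] at h1
  obtain ⟨s, hs⟩ := h1
  refine ⟨s, s.2, ?_⟩
  have h2 := congrArg (TensorProduct.quotTensorEquivQuotSMul L P) hs
  rw [Submonoid.smul_def, map_smul, map_zero, ← map_one (Ideal.Quotient.mk P),
    TensorProduct.quotTensorEquivQuotSMul_mk_tmul, one_smul, ← Submodule.Quotient.mk_smul,
    Submodule.Quotient.mk_eq_zero] at h2
  exact h2

end Fibre

/-- The bracket as a bilinear map. -/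
def br (A : Type u) [CommRing A] (L : Type u) [LieRing L] [LieAlgebra A L] : L →ₗ[A] L →ₗ[A] L :=
  LinearMap.mk₂ A (fun x y => ⁅x, y⁆) (fun a b c => add_lie a b c) (fun r a b => smul_lie r a b)
    (fun a b c => lie_add a b c) (fun r a b => lie_smul r a b)

/-- The lower central series as `A`-submodules. -/
def C (A : Type u) [CommRing A] (L : Type u) [LieRing L] [LieAlgebra A L] : ℕ → Submodule A L
  | 0 => ⊤
  | k + 1 => Submodule.map₂ (br A L) ⊤ (C A L k)

lemma coe_lcs (k : ℕ) : (LieModule.lowerCentralSeries A L L k).toSubmodule = C A L k := by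
  induction k with
  | zero => rfl
  | succ k ih =>
    rw [LieModule.lowerCentralSeries_succ, LieSubmodule.lieIdeal_oper_eq_linear_span', C]
    apply le_antisymm
    · rw [Submodule.span_le]
      rintro _ ⟨x, -, y, hy, rfl⟩
      refine Submodule.apply_mem_map₂ (br A L)
        (Submodule.mem_top (x := x)) ?_
      rw [← ih]
      exact hy
    · rw [Submodule.map₂_le]
      intro x _ y hy
      rw [← ih] at hy
      exact Submodule.subset_span ⟨x, LieSubmodule.mem_top x, y, hy, rfl⟩

lemma fg_C [Module.Finite A L] (k : ℕ) : (C A L k).FG := by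
  induction k with
  | zero => exact Module.Finite.fg_top
  | succ k ih => exact Submodule.FG.map₂ _ Module.Finite.fg_top ih

lemma C_add_le {I : Ideal A} {N : ℕ} (h : C A L N ≤ I • (⊤ : Submodule A L)) (j : ℕ) :
    C A L (N + j) ≤ I • C A L j := by
  induction j with
  | zero => simpa [C] using h
  | succ j ih =>
    rw [← add_assoc, C, C, Submodule.map₂_le]
    intro x hx y hy
    refine Submodule.smul_induction_on (ih hy) (fun a ha m hm => ?_) (fun a b ha hb => ?_)
    · rw [map_smul]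
      exact Submodule.smul_mem_smul ha (Submodule.apply_mem_map₂ _ hx hm)
    · rw [map_add]
      exact add_mem ha hb

lemma tmul_mem_lcs (K : Type u) [CommRing K] [Algebra A K] (k : ℕ) {x : L} (hx : x ∈ C A L k) :
    (1 : K) ⊗ₜ[A] x ∈ LieModule.lowerCentralSeries K (K ⊗[A] L) (K ⊗[A] L) k := by
  induction k generalizing x with
  | zero => simp
  | succ k ih =>
    let q : Submodule A L :=
      ((LieModule.lowerCentralSeries K (K ⊗[A] L) (K ⊗[A] L) (k + 1)).toSubmodule.restrictScalars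
        A).comap (TensorProduct.mk A K L 1)
    have hle : Submodule.map₂ (br A L) ⊤ (C A L k) ≤ q := by
      rw [Submodule.map₂_le]
      intro a _ b hb
      change (1 : K) ⊗ₜ[A] ⁅a, b⁆ ∈ LieModule.lowerCentralSeries K (K ⊗[A] L) (K ⊗[A] L) (k + 1)
      rw [LieModule.lowerCentralSeries_succ]
      have h1 : ⁅(1 : K) ⊗ₜ[A] a, (1 : K) ⊗ₜ[A] b⁆ = (1 : K) ⊗ₜ[A] ⁅a, b⁆ := by
        rw [LieAlgebra.ExtendScalars.bracket_tmul, one_mul]
      rw [← h1]
      exact LieSubmodule.lie_mem_lie (LieSubmodule.mem_top _) (ih hb)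
    exact hle hx

lemma isNilpotent_of_fibres [Module.FinitePresentation A L]
    (hfib : ∀ p : PrimeSpectrum A, LieRing.IsNilpotent (p.asIdeal.ResidueField ⊗[A] L)) :
    LieRing.IsNilpotent L := by
  by_contra hL
  let S : Set (Ideal A) := {I | ∀ N, ¬ C A L N ≤ I • (⊤ : Submodule A L)}
  have hbot : (⊥ : Ideal A) ∈ S := by
    intro N hN
    apply hL
    rw [LieRing.IsNilpotent, LieModule.isNilpotent_iff A L L]
    refine ⟨N, LieSubmodule.toSubmodule_injective ?_⟩
    rw [coe_lcs]
    simpa using hN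
  obtain ⟨P, -, hP⟩ := zorn_le_nonempty₀ S (fun c hc hchain y hy => by
    refine ⟨sSup c, fun N hN => ?_, fun I hI => le_sSup hI⟩
    have hdir : DirectedOn (· ≤ ·) c := hchain.directedOn
    have h1 : sSup c • (⊤ : Submodule A L) ≤
        ⨆ I : c, (I : Ideal A) • (⊤ : Submodule A L) := by
      rw [Submodule.smul_le]
      intro a ha m hm
      rw [Submodule.mem_sSup_of_directed ⟨y, hy⟩ hdir] at ha
      obtain ⟨I, hI, haI⟩ := ha
      exact Submodule.mem_iSup_of_mem ⟨I, hI⟩ (Submodule.smul_mem_smul haI hm)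
    have : Nonempty c := ⟨⟨y, hy⟩⟩
    have hdir' : Directed (· ≤ ·) fun I : c => (I : Ideal A) • (⊤ : Submodule A L) := by
      intro I J
      obtain ⟨K, hK, hIK, hJK⟩ := hdir I I.2 J J.2
      exact ⟨⟨K, hK⟩, Submodule.smul_mono_left hIK, Submodule.smul_mono_left hJK⟩
    obtain ⟨t, ht⟩ := fg_C (A := A) (L := L) N
    have hmem : ∀ x ∈ (t : Set L), ∃ I : c, x ∈ (I : Ideal A) • (⊤ : Submodule A L) := fun x hx =>
      (Submodule.mem_iSup_of_directed _ hdir').mp
        (h1 (hN (ht ▸ Submodule.subset_span hx)))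
    choose f hf using hmem
    classical
    let g : {x // x ∈ t} → c := fun x => f x.1 x.2
    obtain ⟨J, hJ⟩ := hdir'.finset_le (t.attach.image g)
    refine hc J.2 N ?_
    rw [← ht, Submodule.span_le]
    intro x hx
    exact hJ _ (Finset.mem_image.mpr ⟨⟨x, hx⟩, Finset.mem_attach _ _, rfl⟩) (hf x hx)) ⊥ hbot
  have hbig : ∀ J, P < J → ∃ M, C A L M ≤ J • (⊤ : Submodule A L) := by
    intro J hJ
    by_contra hcon
    push Not at hcon
    exact hJ.not_ge (hP.2 hcon hJ.le)
  have hlt : ∀ a ∉ P, P < P ⊔ Ideal.span {a} := fun a ha =>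
    left_lt_sup.mpr fun h => ha (h (Ideal.mem_span_singleton_self a))
  have hprime : P.IsPrime := by
    refine ⟨fun htop => hP.1 0 (by simp [htop]), fun {a b} hab => ?_⟩
    by_contra hcon
    push Not at hcon
    obtain ⟨N, hN⟩ := hbig _ (hlt a hcon.1)
    obtain ⟨M, hM⟩ := hbig _ (hlt b hcon.2)
    apply hP.1 (N + M)
    refine (C_add_le hN M).trans ((Submodule.smul_mono le_rfl hM).trans ?_)
    rw [← Submodule.smul_assoc, smul_eq_mul]
    refine Submodule.smul_mono_left ?_
    rw [Ideal.sup_mul, Ideal.mul_sup, Ideal.mul_sup, Ideal.span_singleton_mul_span_singleton]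
    refine sup_le (sup_le Ideal.mul_le_right Ideal.mul_le_left) (sup_le ?_ ?_)
    · exact Ideal.mul_le_right
    · exact (Ideal.span_singleton_le_iff_mem _).mpr hab
  obtain ⟨N, hN⟩ := (LieModule.isNilpotent_iff P.ResidueField _ _).mp (hfib ⟨P, hprime⟩)
  have hx : ∀ x ∈ C A L N, ∃ s ∉ P, s • x ∈ P • (⊤ : Submodule A L) := fun x hx => by
    refine exists_smul_mem P x ?_
    have := tmul_mem_lcs P.ResidueField N hx
    rwa [hN, LieSubmodule.mem_bot] at this
  obtain ⟨t, ht⟩ := fg_C (A := A) (L := L) N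
  choose f hf1 hf2 using fun x (hx' : x ∈ (t : Set L)) => hx x (ht ▸ Submodule.subset_span hx')
  let g : {x // x ∈ t} → A := fun x => f x.1 x.2
  let s := ∏ x ∈ t.attach, g x
  have hs : s ∉ P := by
    intro h
    obtain ⟨x, -, hxP⟩ := (Ideal.IsPrime.prod_mem_iff).mp h
    exact hf1 _ _ hxP
  have hsC : ∀ x ∈ C A L N, s • x ∈ P • (⊤ : Submodule A L) := by
    intro x hx
    rw [← ht] at hx
    refine (Submodule.span_le (p := (P • (⊤ : Submodule A L)).comap (LinearMap.lsmul A L s))).mpr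
      ?_ hx
    intro y hy
    classical
    obtain ⟨r, hr⟩ : f y hy ∣ s :=
      Finset.dvd_prod_of_mem g (Finset.mem_attach t (⟨y, hy⟩ : {x // x ∈ t}))
    change s • y ∈ P • (⊤ : Submodule A L)
    rw [hr, mul_comm, mul_smul]
    exact Submodule.smul_mem _ _ (hf2 y hy)
  obtain ⟨M, hM⟩ := hbig _ (hlt s hs)
  apply hP.1 (M + N)
  refine (C_add_le hM N).trans ?_
  rw [Submodule.sup_smul]
  refine sup_le (Submodule.smul_mono le_rfl le_top) ?_
  rw [Submodule.smul_le]
  intro a ha m hm
  obtain ⟨r, rfl⟩ := Ideal.mem_span_singleton'.mp ha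
  rw [mul_smul]
  exact Submodule.smul_mem _ _ (hsC m hm)


/-- (i) ⇒ (iii): let d be a Lie algebra over a commutative ring A which is finitely presented as an
A-module. If for every prime p of A the fibre Lie algebra κ(p) ⊗_A d is nilpotent, then d is
nilpotent (its lower central series vanishes, i.e. there is N with ad(x_1) ⋯ ad(x_N) = 0 for all
x_i); and the same conclusion holds if ad(x) is nilpotent for every x in d. -/
theorem result {A : Type u} [CommRing A] {L : Type u} [LieRing L] [LieAlgebra A L]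
    [Module.FinitePresentation A L] :
    ((∀ p : PrimeSpectrum A, LieRing.IsNilpotent (p.asIdeal.ResidueField ⊗[A] L)) → LieRing.IsNilpotent L) ∧
    ((∀ x : L, IsNilpotent (LieAlgebra.ad A L x)) → LieRing.IsNilpotent L) := by
  refine ⟨isNilpotent_of_fibres (A := A), fun h => isNilpotent_of_fibres (A := A) fun p => ?_⟩
  rw [LieAlgebra.isNilpotent_iff_forall (R := p.asIdeal.ResidueField)]
  intro z
  obtain ⟨s, hs, x, hx⟩ := exists_smul_eq_tmul p.asIdeal z
  obtain ⟨n, hn⟩ := h x
  have h1 : (LieAlgebra.ad p.asIdeal.ResidueField _ ((1 : p.asIdeal.ResidueField) ⊗ₜ[A] x)) ^ n = 0 := by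
    refine LinearMap.ext fun w => ?_
    induction w using TensorProduct.induction_on with
    | zero => simp
    | add a b ha hb => simp [map_add, ha, hb]
    | tmul c y =>
      have key : ∀ m : ℕ, ((LieAlgebra.ad p.asIdeal.ResidueField _
          ((1 : p.asIdeal.ResidueField) ⊗ₜ[A] x)) ^ m) (c ⊗ₜ[A] y) =
          c ⊗ₜ[A] ((LieAlgebra.ad A L x ^ m) y) := by
        intro m
        induction m with
        | zero => simp
        | succ m ih =>
          rw [pow_succ', Module.End.mul_apply, ih, pow_succ', Module.End.mul_apply,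
            LieAlgebra.ad_apply, LieAlgebra.ad_apply, LieAlgebra.ExtendScalars.bracket_tmul, one_mul]
      simp [key, hn]
  have h2 : IsUnit (algebraMap A p.asIdeal.ResidueField s) := by
    rw [isUnit_iff_ne_zero, ne_eq, Ideal.algebraMap_residueField_eq_zero]
    exact hs
  obtain ⟨u, hu⟩ := h2
  have h3 : z = (↑u⁻¹ : p.asIdeal.ResidueField) • ((1 : p.asIdeal.ResidueField) ⊗ₜ[A] x) := by
    rw [← hx, ← algebraMap_smul p.asIdeal.ResidueField s z, ← hu, smul_smul, Units.inv_mul, one_smul]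
  refine ⟨n, ?_⟩
  rw [h3, map_smul, smul_pow, h1, smul_zero]

end Groth.Agent.S2964
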