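import Groth.Statements.S2965
open Polynomial

set_option autoImplicit false
universe u
open SGA3t2b

namespace Groth.Agent.S2965

open Polynomial in
/-- Implication (iv) ⇒ (i) (global form, finite free module): let u be an endomorphism of a finite free
module M over a commutative ring A whose characteristic polynomial is X^r · Q with Q(0) invertible.
Then M is the direct sum of two u-stable submodules M', M'' such that u is nilpotent on M' and
bijective on M''. -/
theorem result {A : Type u} [CommRing A] {M : Type u} [AddCommGroup M] [Module A M]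
    [Module.Free A M] [Module.Finite A M] (u : M →ₗ[A] M) (r : ℕ) (Q : A[X]) (hQ : IsUnit (Q.coeff 0))
    (h : u.charpoly = X ^ r * Q) :
    ∃ M' M'' : Submodule A M, IsCompl M' M'' ∧ (∀ x ∈ M', u x ∈ M') ∧ (∀ x ∈ M'', u x ∈ M'') ∧
      (∃ n : ℕ, ∀ x ∈ M', (u ^ n) x = 0) ∧ Set.BijOn u M'' M'' := by
  obtain ⟨a, ha⟩ := hQ
  obtain ⟨Q₁, hQ₁⟩ : X ∣ Q - C (Q.coeff 0) := by
    simp [Polynomial.X_dvd_iff]
  have hcop0 : IsCoprime X Q := by
    refine ⟨-(Q₁ * C (↑a⁻¹ : A)), C (↑a⁻¹ : A), ?_⟩
    have : C (↑a⁻¹ : A) * C (Q.coeff 0) = 1 := by rw [← C_mul, ← ha, Units.inv_mul, map_one]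
    linear_combination this + C (↑a⁻¹ : A) * hQ₁
  have hcop : IsCoprime (X ^ r) Q := hcop0.pow_left
  have hstab : ∀ (P : A[X]), ∀ x ∈ LinearMap.ker (aeval u P), u x ∈ LinearMap.ker (aeval u P) := by
    intro P x hx
    rw [LinearMap.mem_ker] at hx ⊢
    have : aeval u (P * X) x = aeval u (X * P) x := by rw [mul_comm]
    simpa [hx] using this
  refine ⟨LinearMap.ker (aeval u (X ^ r : A[X])), LinearMap.ker (aeval u Q),
    ⟨disjoint_ker_aeval_of_isCoprime u hcop, ?_⟩, hstab _, hstab _, ⟨r, ?_⟩, ?_⟩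
  · rw [codisjoint_iff, sup_ker_aeval_eq_ker_aeval_mul_of_coprime u hcop, ← h,
      LinearMap.aeval_self_charpoly, LinearMap.ker_zero]
  · intro x hx
    simpa using hx
  · let w : M →ₗ[A] M := aeval u (-(Q₁ * C (↑a⁻¹ : A)))
    have hw1 : ∀ x ∈ LinearMap.ker (aeval u Q), u (w x) = x := by
      intro x hx
      have hid : X * -(Q₁ * C (↑a⁻¹ : A)) = 1 - C (↑a⁻¹ : A) * Q := by
        have : C (↑a⁻¹ : A) * C (Q.coeff 0) = 1 := by rw [← C_mul, ← ha, Units.inv_mul, map_one]
        linear_combination C (↑a⁻¹ : A) * hQ₁ + this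
      have h2 := congrArg (fun P : A[X] => aeval u P x) hid
      simp only [map_mul, map_sub, map_one, aeval_X, Module.End.mul_apply, LinearMap.sub_apply,
        Module.End.one_apply] at h2
      rw [LinearMap.mem_ker] at hx
      simpa [w, hx] using h2
    have hcomm : ∀ x, w (u x) = u (w x) := by
      intro x
      have := congrArg (fun P : A[X] => aeval u P x)
        (mul_comm (-(Q₁ * C (↑a⁻¹ : A))) X)
      simpa [w] using this
    refine ⟨hstab Q, fun x hx y hy hxy => ?_, fun x hx => ?_⟩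
    · rw [← hw1 x hx, ← hw1 y hy, ← hcomm, ← hcomm, hxy]
    · refine ⟨w x, ?_, hw1 x hx⟩
      rw [SetLike.mem_coe, LinearMap.mem_ker] at hx ⊢
      have := congrArg (fun P : A[X] => aeval u P x)
        (mul_comm Q (-(Q₁ * C (↑a⁻¹ : A))))
      simpa [w, hx] using this

end Groth.Agent.S2965
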