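import Groth.Statements.S2966
import Groth.Agent.Misc1.Unip.MultType
-- import your own Groth.Agent.* helpers here

set_option autoImplicit false
universe u
open scoped TensorProduct
open SGA3t2b

namespace Groth.Agent.S2966

/-- In Hopf-algebra form (with unipotent taken in the representation-theoretic sense: affine and every
non-zero finite-dimensional representation has a non-zero fixed vector): let k be a field, A_M the
coordinate Hopf algebra of an affine k-group M of finite type which is of multiplicative type in the
sense that it becomes diagonalisable over an algebraic closure of k, and A_U that of a unipotent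
affine k-group U of finite type. Then (i) every homomorphism M -> U and (ii) every homomorphism U ->
M is trivial: every bialgebra map A_U -> A_M, resp. A_M -> A_U, factors through the counit. -/
theorem result {k : Type u} [Field k] {AM AU : Type u} [CommRing AM] [CommRing AU]
    [HopfAlgebra k AM] [HopfAlgebra k AU] [Algebra.FiniteType k AM] [Algebra.FiniteType k AU]
    (hM : HopfRep.IsDiagonalizable (AlgebraicClosure k) (AlgebraicClosure k ⊗[k] AM)) (hU : HopfRep.IsUnipotent k AU) :
    (∀ φ : AU →ₐc[k] AM, SGA3t2b.IsTrivialBialgHom φ) ∧ (∀ ψ : AM →ₐc[k] AU, SGA3t2b.IsTrivialBialgHom ψ) := by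
  have hex : ∀ a : AU, ∃ m, a ∈ Groth.ComodLib.fixSeries k AU AU m :=
    fun a => Groth.ComodLib.exists_mem_fixSeries hU a
  refine ⟨fun φ a => ?_, fun ψ a => ?_⟩
  · have h := Groth.Misc1.Unip.hom_trivial hex
      (Groth.Misc1.Unip.primDefect_injective_of_multType (AlgebraicClosure k) hM)
      (φ.comp (Bialgebra.TensorProduct.lid k AU).toBialgHom) ((1 : k) ⊗ₜ[k] a)
    simpa using h
  · let K := AlgebraicClosure k
    let F : K ⊗[k] AM →ₐc[K] K ⊗[k] AU := Bialgebra.TensorProduct.map (BialgHom.id K K) ψ
    have hF : (F : K ⊗[k] AM →ₗ[K] K ⊗[k] AU) =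
        Algebra.linearMap K (K ⊗[k] AU) ∘ₗ CoalgebraStruct.counit := by
      refine LinearMap.ext_on hM fun g hg => ?_
      have hg' : IsGroupLikeElem K g := hg
      change F g = algebraMap K (K ⊗[k] AU) (CoalgebraStruct.counit (R := K) g)
      rw [hg'.counit_eq_one, map_one]
      exact Groth.Misc1.Unip.groupLike_eq_one (Groth.Misc1.Unip.exhaustive_baseChange K hex) (hg'.map F)
    have h := LinearMap.congr_fun hF ((1 : K) ⊗ₜ[k] a)
    change (1 : K) ⊗ₜ[k] ψ a = algebraMap K (K ⊗[k] AU) (CoalgebraStruct.counit (R := K) ((1 : K) ⊗ₜ[k] a)) at h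
    refine (Algebra.TensorProduct.includeRight_injective (algebraMap k K).injective :
      Function.Injective (Algebra.TensorProduct.includeRight : AU →ₐ[k] K ⊗[k] AU)) ?_
    rw [Algebra.TensorProduct.includeRight_apply, h, AlgHom.commutes, ← Groth.Misc1.Unip.incl_apply,
      Groth.Misc1.Unip.counit_incl]
    exact (IsScalarTower.algebraMap_apply k K (K ⊗[k] AU) _).symm

end Groth.Agent.S2966
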