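import Groth.Statements.S2967


set_option autoImplicit false
universe u
open SGA3t2b

namespace Groth.Agent.S2967

/-- A commutative p-Lie algebra over a field k of characteristic p is recorded as a k-vector space g
together with its p-th power map φ, which is additive and Frobenius-semilinear. Let g be
finite-dimensional and non-zero, and assume every element of g is killed by some iterate of φ (g is
unipotent). Then the k-subspace of g spanned by the image φ(g) is a proper subspace. -/
theorem result {k : Type u} [Field k] (p : ℕ) [Fact p.Prime] [CharP k p]
    {V : Type u} [AddCommGroup V] [Module k V] [FiniteDimensional k V] [Nontrivial V]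
    (φ : V →ₛₗ[frobenius k p] V) (hφ : ∀ x : V, ∃ n : ℕ, φ^[n] x = 0) :
    Submodule.span k (Set.range φ) ≠ ⊤ := by
  intro htop
  have hsub : ∀ n : ℕ, Submodule.span k (Set.range φ^[n]) = ⊤ := by
    intro n
    induction n with
    | zero => simp
    | succ n ih =>
      rw [eq_top_iff, ← htop, Submodule.span_le]
      rintro _ ⟨x, rfl⟩
      have hx : x ∈ Submodule.span k (Set.range φ^[n]) := ih ▸ Submodule.mem_top
      induction hx using Submodule.span_induction with
      | mem y hy =>
        obtain ⟨z, rfl⟩ := hy
        exact Submodule.subset_span ⟨z, Function.iterate_succ_apply' φ n z⟩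
      | zero => simp
      | add y z _ _ hy hz => simpa using Submodule.add_mem _ hy hz
      | smul c y _ hy => simpa using Submodule.smul_mem _ (frobenius k p c) hy
  have hzero : ∀ n : ℕ, φ^[n] 0 = 0 := fun n => Function.iterate_fixed (map_zero φ) n
  let b := Module.finBasis k V
  choose N hN using fun i => hφ (b i)
  let m := Finset.univ.sup N
  have hm : ∀ x, φ^[m] x = 0 := by
    intro x
    have hx : x ∈ Submodule.span k (Set.range b) := by simp [b.span_eq]
    induction hx using Submodule.span_induction with
    | mem y hy =>
      obtain ⟨i, rfl⟩ := hy
      obtain ⟨d, hd⟩ := Nat.exists_eq_add_of_le (Finset.le_sup (f := N) (Finset.mem_univ i))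
      change φ^[Finset.univ.sup N] (b i) = 0
      rw [hd, add_comm, Function.iterate_add_apply, hN, hzero]
    | zero => exact hzero m
    | add y z _ _ hy hz =>
      have : ∀ n, φ^[n] (y + z) = φ^[n] y + φ^[n] z := by
        intro n; induction n with
        | zero => simp
        | succ n ih => simp only [Function.iterate_succ_apply', ih, map_add]
      rw [this, hy, hz, add_zero]
    | smul c y _ hy =>
      have : ∀ n, φ^[n] (c • y) = ((frobenius k p)^[n] c) • φ^[n] y := by
        intro n; induction n with
        | zero => simp
        | succ n ih => simp only [Function.iterate_succ_apply', ih, map_smulₛₗ]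
      rw [this, hy, smul_zero]
  have := hsub m
  have hr : Set.range φ^[m] = {0} := by
    ext y
    constructor
    · rintro ⟨x, rfl⟩; exact hm x
    · rintro rfl; exact ⟨0, hm 0⟩
  rw [hr, Submodule.span_singleton_eq_bot.mpr rfl] at this
  exact bot_ne_top this

end Groth.Agent.S2967
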