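import Groth.Statements.S2968
import Groth.Agent.Hopf.Comod
import Groth.Agent.S12067
import Mathlib.RingTheory.Bialgebra.TensorProduct

set_option autoImplicit false
universe u
open SGA3t2b

namespace Groth.Agent.S2968

open TensorProduct WithConv Groth.ComodLib

variable {k : Type u} [Field k] {A : Type u} [CommRing A] [HopfAlgebra k A]

/-- the pairing of two forms as a form on `A ⊗ A` -/
noncomputable def pairF (f g : WithConv (A →ₗ[k] k)) : WithConv (A ⊗[k] A →ₗ[k] k) :=
  toConv (LinearMap.mul' k k ∘ₗ TensorProduct.map f.ofConv g.ofConv)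

theorem pairF_apply (f g : WithConv (A →ₗ[k] k)) (a b : A) :
    pairF f g (a ⊗ₜ[k] b) = f a * g b := rfl

theorem pairF_mul (f g h l : WithConv (A →ₗ[k] k)) :
    pairF f g * pairF h l = pairF (f * h) (g * l) := by
  apply WithConv.ofConv_injective
  have h1 := LinearMap.algHom_comp_convMul_distrib (Algebra.TensorProduct.lmul' k (S := k))
    (toConv (TensorProduct.map f.ofConv g.ofConv)) (toConv (TensorProduct.map h.ofConv l.ofConv))
  rw [TensorProduct.map_convMul_map] at h1
  exact h1.symm

theorem pairF_one : pairF (A := A) (k := k) 1 1 = 1 := by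
  apply WithConv.ofConv_injective
  ext a b
  simp [pairF, LinearMap.convOne_def, mul_comm]

theorem pairF_pow (f g : WithConv (A →ₗ[k] k)) (n : ℕ) : pairF f g ^ n = pairF (f ^ n) (g ^ n) := by
  induction n with
  | zero => simp [pairF_one]
  | succ n ih => rw [pow_succ, ih, pairF_mul, ← pow_succ, ← pow_succ]

/-- pulling a form back along the multiplication -/
noncomputable def pullMul (f : WithConv (A →ₗ[k] k)) : WithConv (A ⊗[k] A →ₗ[k] k) :=
  toConv (f.ofConv ∘ₗ LinearMap.mul' k A)

theorem pullMul_apply (f : WithConv (A →ₗ[k] k)) (a b : A) : pullMul f (a ⊗ₜ[k] b) = f (a * b) := rfl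

theorem pullMul_mul (f g : WithConv (A →ₗ[k] k)) : pullMul (f * g) = pullMul f * pullMul g :=
  WithConv.ofConv_injective (LinearMap.convMul_comp_coalgHom_distrib f g (Bialgebra.mulCoalgHom k A))

theorem pullMul_pow (f : WithConv (A →ₗ[k] k)) (n : ℕ) : pullMul f ^ n = pullMul (f ^ n) := by
  induction n with
  | zero =>
    apply WithConv.ofConv_injective
    ext a b
    simp [pullMul, LinearMap.convOne_def, mul_comm]
  | succ n ih => rw [pow_succ, ih, ← pullMul_mul, ← pow_succ]

theorem leibniz_pow (p : ℕ) [hp : Fact p.Prime] [CharP k p] (f : WithConv (A →ₗ[k] k))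
    (hf : ∀ a b : A, f (a * b) = f a * Coalgebra.counit (R := k) b + Coalgebra.counit (R := k) a * f b)
    (n : ℕ) (a b : A) :
    (f ^ p ^ n) (a * b) = (f ^ p ^ n) a * Coalgebra.counit (R := k) b +
      Coalgebra.counit (R := k) a * (f ^ p ^ n) b := by
  have h1 : pullMul f = pairF f 1 + pairF 1 f := by
    apply WithConv.ofConv_injective
    ext a b
    simpa [pullMul, pairF, LinearMap.convOne_def] using hf a b
  have hc : Commute (pairF f 1) (pairF (1 : WithConv (A →ₗ[k] k)) f) := by
    simp [Commute, SemiconjBy, pairF_mul]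
  obtain ⟨r, hr⟩ := hc.exists_add_pow_prime_pow_eq hp.out n
  have hp0 : (p : WithConv (A ⊗[k] A →ₗ[k] k)) = 0 := by
    rw [← map_natCast (algebraMap k _) p, CharP.cast_eq_zero, map_zero]
  simp only [hp0, zero_mul, add_zero] at hr
  rw [← h1, pullMul_pow, pairF_pow, pairF_pow, one_pow] at hr
  have := congrArg (fun F : WithConv (A ⊗[k] A →ₗ[k] k) => F (a ⊗ₜ[k] b)) hr
  simpa [pullMul, pairF, LinearMap.convOne_def] using this

theorem convPow_eq (D : A →ₗ[k] k) (n : ℕ) : LieHopf.convPow D n = (toConv D ^ n).ofConv := by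
  induction n with
  | zero => ext a; simp [LieHopf.convPow, LinearMap.convOne_def]
  | succ n ih => rw [LieHopf.convPow, ih, pow_succ]; rfl

theorem counit_op (φ : A →ₗ[k] k) (a : A) : Coalgebra.counit (R := k) (op φ a) = φ a := by
  change Coalgebra.counit (R := k) (slice φ (Coalgebra.comul (R := k) a)) = φ a
  rw [← slice_rTensor, Coalgebra.rTensor_counit_comul]
  simp

/-- In characteristic p, in Hopf-algebra form (with unipotent in the representation-theoretic sense
`HopfRep.IsUnipotent`): let k be a field of characteristic p > 0 and A a finite-type commutative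
Hopf algebra over k (the coordinate Hopf algebra of an affine algebraic k-group) which is unipotent.
Then the Lie algebra of the group is a unipotent p-Lie algebra: for every ε-derivation D : A -> k
there is n > 0 such that the iterated p-operation of D, computed here as the p^n-fold convolution
power of D (this is how the p-operation is rendered in this statement; its axioms are not proved
here), vanishes. -/
theorem result {k : Type u} [Field k] (p : ℕ) [Fact p.Prime] [CharP k p] {A : Type u} [CommRing A]
    [HopfAlgebra k A] [Algebra.FiniteType k A] (hU : HopfRep.IsUnipotent k A) (D : LieHopf.Lie k A) :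
    ∃ n : ℕ, 0 < n ∧ LieHopf.convPow (D.toLinearMap.restrictScalars k ∘ₗ LinearMap.id) (p ^ n) = 0 := by
  set d : A →ₗ[k] k := D.toLinearMap.restrictScalars k ∘ₗ LinearMap.id with hd
  have hdl : ∀ a b : A, (toConv d) (a * b) =
      (toConv d) a * Coalgebra.counit (R := k) b + Coalgebra.counit (R := k) a * (toConv d) b := by
    intro a b
    refine ((D.leibniz a b).trans ?_)
    rw [LieHopf.smul_def, LieHopf.smul_def, add_comm]
    exact congrArg₂ (· + ·) (mul_comm (Bialgebra.counitAlgHom k A b) (d a)) rfl
  obtain ⟨s, hs⟩ := (inferInstance : Algebra.FiniteType k A).out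
  obtain ⟨V, hVfin, hsV, hV⟩ := exists_finite_subcomod_span (k := k) (A := A) s.finite_toSet
  letI cV : HopfRep.Comod k A V := ComodSub.Comod.restr inferInstance V hV
  obtain ⟨F, hF0, hFl, hFs, hFst⟩ := Groth.Agent.S12067.result k A hU V
  have hd1 : d 1 = 0 := D.map_one_eq_zero
  have hnil : ∀ i : Fin (Module.finrank k V + 1), ∀ x ∈ F i, (rho k A V (toConv d) ^ (i : ℕ)) x = 0 := by
    intro i
    induction i using Fin.induction with
    | zero => intro x hx; rw [hF0, Submodule.mem_bot] at hx; simp [hx]
    | succ i ih =>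
      intro x hx
      have h1 := (hFst i).2.2 x hx
      rw [mem_range_rTensor_iff] at h1
      have h2 : slice d (HopfRep.Comod.coact (k := k) (A := A) x) ∈ F i.castSucc := by
        simpa [hd1] using h1 d
      rw [Fin.val_succ, pow_succ, Module.End.mul_apply]
      exact ih _ h2
  obtain ⟨n, hn⟩ : ∃ n, Module.finrank k V ≤ p ^ n ∧ 0 < n :=
    ⟨Module.finrank k V + 1, (Nat.lt_pow_self (Fact.out : p.Prime).one_lt).le.trans
      (Nat.pow_le_pow_right (Fact.out : p.Prime).pos (Nat.le_succ _)), Nat.succ_pos _⟩
  refine ⟨n, hn.2, ?_⟩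
  rw [convPow_eq]
  have hzero : rho k A V (toConv d ^ p ^ n) = 0 := by
    rw [map_pow]
    refine pow_eq_zero_of_le hn.1 (LinearMap.ext fun x => ?_)
    simpa using hnil (Fin.last _) x (hFl ▸ Submodule.mem_top)
  have hgen : ∀ g ∈ (s : Set A), (toConv d ^ p ^ n) g = 0 := by
    intro g hg
    have h1 : op (toConv d ^ p ^ n).ofConv (⟨g, hsV hg⟩ : V) = 0 :=
      LinearMap.congr_fun hzero _
    have h2 := isComodHom_op (ComodSub.isComodHom_subtype inferInstance V hV)
      (toConv d ^ p ^ n).ofConv (⟨g, hsV hg⟩ : V)
    rw [h1, map_zero] at h2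
    have h3 := counit_op (toConv d ^ p ^ n).ofConv g
    rw [show op (toConv d ^ p ^ n).ofConv g = 0 from h2.symm, map_zero] at h3
    exact h3.symm
  have h1 : (toConv d ^ p ^ n) (1 : A) = 0 := by
    simpa using leibniz_pow p (toConv d) hdl n 1 1
  refine LinearMap.ext fun a => ?_
  have ha : a ∈ Algebra.adjoin k (s : Set A) := hs ▸ Algebra.mem_top
  induction ha using Algebra.adjoin_induction with
  | mem x hx => exact hgen x hx
  | algebraMap r =>
    rw [Algebra.algebraMap_eq_smul_one]
    simp only [map_smul, LinearMap.zero_apply]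
    rw [show (toConv d ^ p ^ n).ofConv 1 = 0 from h1, smul_zero]
  | add x y _ _ hx hy => simp only [LinearMap.zero_apply] at *; rw [map_add, hx, hy, add_zero]
  | mul x y _ _ hx hy =>
    refine (leibniz_pow p (toConv d) hdl n x y).trans ?_
    simp only [LinearMap.zero_apply] at *
    change (toConv d ^ p ^ n).ofConv x * _ + _ * (toConv d ^ p ^ n).ofConv y = 0
    rw [hx, hy, zero_mul, mul_zero, add_zero]

end Groth.Agent.S2968
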