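import Groth.Statements.S2971
import Groth.Agent.Sga3.NilIsotrivial

set_option autoImplicit false
universe u
open TensorProduct SGA3b
open SGA3b

namespace Groth.Agent.S2971

/-- Let R be a ring, I an ideal consisting of nilpotent elements and H = Spec A an R-group of
multiplicative type. If the base change of H to R/I is isotrivial (resp. quasi-isotrivial), so is H.
(Affine group schemes over an affine base are taken in Hopf-algebra form; base change is the tensor
product.) -/
theorem result (R : Type u) [CommRing R] (A : Type u) [CommRing A] [HopfAlgebra R A] (I : Ideal R) (hI : ∀ x ∈ I, IsNilpotent x) (h : IsMultType R A) :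
    (IsIsotrivial (R ⧸ I) ((R ⧸ I) ⊗[R] A) → IsIsotrivial R A) ∧
    (IsQuasiIsotrivial (R ⧸ I) ((R ⧸ I) ⊗[R] A) → IsQuasiIsotrivial R A) := by
  exact ⟨Groth.Sga3.MultType.isIsotrivial_of_nil h hI,
    Groth.Sga3.MultType.isQuasiIsotrivial_of_nil h hI⟩

end Groth.Agent.S2971
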