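import Groth.Statements.S2975
import Groth.Agent.Sga3.FibreCrit

set_option autoImplicit false
universe u
open TensorProduct SGA3b
open SGA3b

namespace Groth.Agent.S2975

/-- Let H = Spec A be an R-group with A flat and of finite presentation over R, such that for every
prime p of R the fibre of H over κ(p) is of multiplicative type and connected. Then H is of
multiplicative type (its type being locally constant on Spec R). (Affine group schemes over an
affine base are taken in Hopf-algebra form; base change is the tensor product.) -/
theorem result (R : Type u) [CommRing R] (A : Type u) [CommRing A] [HopfAlgebra R A] [Module.Flat R A] (hfp : Algebra.FinitePresentation R A)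
    (hfib : ∀ (p : Ideal R) [p.IsPrime], IsMultType p.ResidueField (p.ResidueField ⊗[R] A) ∧
      ConnectedSpace (PrimeSpectrum (p.ResidueField ⊗[R] A))) :
    IsMultType R A := by
  haveI := hfp
  exact Groth.Sga3.FibreCrit.isMultType_of_fibres (fun p _ => (hfib p).1)
    (fun T _ _ _ => Groth.Sga3.FibreCrit.crit_of_connected (fun p _ => (hfib p).2) T)

end Groth.Agent.S2975
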