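import Groth.Statements.S2976
import Groth.Agent.Sga3.FibreCrit
import Groth.Agent.Sga3.AdicTorus
import Groth.Agent.Sga3.TypeSplit

set_option autoImplicit false
universe u
open TensorProduct SGA3b
open SGA3b

namespace Groth.Agent.S2976

open Groth.Sga3 Groth.Sga3.MultType

theorem exists_field_split {k : Type u} [Field k] {X : Type u} [CommRing X] [HopfAlgebra k X]
    (h : IsTorus k X) :
    ∃ (K : Type u) (_ : Field K) (_ : Algebra k K) (n : ℕ),
      Nonempty (K ⊗[k] X ≃ₐc[K] MonoidAlgebra K (ULift.{u} (Multiplicative (Fin n → ℤ)))) := by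
  obtain ⟨s, hs, hloc⟩ := h
  obtain ⟨f, hf, hu⟩ : ∃ f ∈ s, f ≠ 0 := by
    by_contra hne
    push Not at hne
    have h1 : Ideal.span s ≤ ⊥ := Ideal.span_le.2 fun x hx => hne x hx
    rw [hs] at h1
    exact one_ne_zero (h1 Submodule.mem_top : (1 : k) = 0)
  obtain ⟨R', _, _, hff, n, ⟨e⟩⟩ := hloc f hf
  let L := Localization.Away f
  haveI : Nontrivial L := by
    refine not_subsingleton_iff_nontrivial.1 fun hL => hu ?_
    obtain ⟨⟨_, j, rfl⟩, hj⟩ := (IsLocalization.map_eq_zero_iff (Submonoid.powers f) L 1).1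
      (Subsingleton.elim _ _)
    exact eq_zero_of_pow_eq_zero (by simpa using hj : f ^ j = 0)
  haveI : Nontrivial R' := (RingHom.FaithfullyFlat.injective
    (RingHom.faithfullyFlat_algebraMap_iff.2 hff)).nontrivial
  obtain ⟨m, hm⟩ := Ideal.exists_maximal R'
  letI := Ideal.Quotient.field m
  letI : Algebra k R' := ((algebraMap L R').comp (algebraMap k L)).toAlgebra
  haveI : IsScalarTower k L R' := IsScalarTower.of_algebraMap_eq' rfl
  exact ⟨R' ⧸ m, inferInstance, inferInstance, n,
    ⟨(cancelBC k R' (R' ⧸ m) X).symm.trans ((AdicCrit.congrBC' (R' ⧸ m)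
      ((cancelBC k L R' X).symm.trans e)).trans ((AdicCrit.monAlgBC' R' (R' ⧸ m) _).trans
        (AdicCrit.mapEquiv (R' ⧸ m) MulEquiv.ulift.symm)))⟩⟩

theorem connected_of_torus {k : Type u} [Field k] {X : Type u} [CommRing X] [HopfAlgebra k X]
    (h : IsTorus k X) : ConnectedSpace (PrimeSpectrum X) := by
  obtain ⟨K, _, _, n, ⟨e⟩⟩ := exists_field_split h
  let G := Multiplicative (Fin n → ℤ)
  let e' := e.trans (AdicCrit.mapEquiv K (MulEquiv.ulift : ULift.{u} G ≃* G))
  haveI : IsDomain (MonoidAlgebra K G) := NoZeroDivisors.to_isDomain _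
  haveI : IsDomain (K ⊗[k] X) := Function.Injective.isDomain
    (e' : K ⊗[k] X ≃ₐ[K] MonoidAlgebra K G).toAlgHom.toRingHom e'.injective
  haveI : IsDomain X := Function.Injective.isDomain
    (Algebra.TensorProduct.includeRight : X →ₐ[k] K ⊗[k] X).toRingHom
    (Algebra.TensorProduct.includeRight_injective (algebraMap k K).injective)
  infer_instance

theorem isMultType_of_torus {k : Type u} [Field k] {X : Type u} [CommRing X] [HopfAlgebra k X]
    (h : IsTorus k X) : IsMultType k X := by
  obtain ⟨K, _, _, n, e⟩ := exists_field_split h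
  exact isMultType_of_field_isDiag K ⟨_, _, e⟩

/-- Let H = Spec A be an R-group with A flat and of finite presentation over R, such that for every
prime p of R the fibre of H over κ(p) is a torus. Then H is a torus (of locally constant rank).
(Affine group schemes over an affine base are taken in Hopf-algebra form; base change is the tensor
product.) -/
theorem result (R : Type u) [CommRing R] (A : Type u) [CommRing A] [HopfAlgebra R A] [Module.Flat R A] (hfp : Algebra.FinitePresentation R A)
    (hfib : ∀ (p : Ideal R) [p.IsPrime], IsTorus p.ResidueField (p.ResidueField ⊗[R] A)) : IsTorus R A := by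
  haveI := hfp
  refine ⟨{f | IsTorusConst (Localization.Away f) (Localization.Away f ⊗[R] A)}, ?_, fun f hf => hf⟩
  by_contra hne
  obtain ⟨p, hp, hsp⟩ := Ideal.exists_le_maximal _ hne
  haveI := hp.isPrime
  obtain ⟨f, hf, M, _, -, R', _, _, hff, ⟨e⟩⟩ := FibreCrit.exists_nbhd_of_fibres
    (fun q _ => isMultType_of_torus (hfib q))
    (fun T _ _ _ => FibreCrit.crit_of_connected (fun q _ => connected_of_torus (hfib q)) T) p
  refine hf (hsp (Ideal.subset_span ?_))
  obtain ⟨K, _, _, n, ⟨eK⟩⟩ := exists_field_split (hfib p)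
  letI : Algebra R R' :=
    ((algebraMap (Localization.Away f) R').comp (algebraMap R (Localization.Away f))).toAlgebra
  haveI : IsScalarTower R (Localization.Away f) R' := IsScalarTower.of_algebraMap_eq' rfl
  letI : Algebra R K := ((algebraMap p.ResidueField K).comp (algebraMap R p.ResidueField)).toAlgebra
  haveI : IsScalarTower R p.ResidueField K := IsScalarTower.of_algebraMap_eq' rfl
  let e₁ := (cancelBC R (Localization.Away f) R' A).symm.trans e
  let e₂ := (cancelBC R p.ResidueField K A).symm.trans eK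
  have hR' : (⟨p, inferInstance⟩ : PrimeSpectrum R) ∈ Set.range (PrimeSpectrum.comap (algebraMap R R')) := by
    obtain ⟨q, hq⟩ : (⟨p, inferInstance⟩ : PrimeSpectrum R) ∈
        Set.range (PrimeSpectrum.comap (algebraMap R (Localization.Away f))) := by
      rw [PrimeSpectrum.localization_away_comap_range (Localization.Away f) f]
      exact hf
    obtain ⟨P, hP⟩ := PrimeSpectrum.comap_surjective_of_faithfullyFlat
      (A := Localization.Away f) (B := R') q
    exact ⟨P, by rw [← hq, ← hP, ← PrimeSpectrum.comap_comp_apply]; rfl⟩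
  have hK : (⟨p, inferInstance⟩ : PrimeSpectrum R) ∈ Set.range (PrimeSpectrum.comap (algebraMap R K)) := by
    refine ⟨⊥, PrimeSpectrum.ext ?_⟩
    ext r
    change algebraMap p.ResidueField K (algebraMap R p.ResidueField r) ∈ (⊥ : Ideal K) ↔ r ∈ p
    rw [Ideal.mem_bot, map_eq_zero_iff _ (algebraMap p.ResidueField K).injective,
      Ideal.algebraMap_residueField_eq_zero]
  obtain ⟨σ⟩ := TypeSplit.nonempty_mulEquiv_of_point e₁ e₂ ⟨p, inferInstance⟩ hR' hK
  exact ⟨R', _, _, hff, n, ⟨e.trans (AdicCrit.mapEquiv R' (σ.trans MulEquiv.ulift))⟩⟩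

end Groth.Agent.S2976
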