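import Groth.Statements.S2978


set_option autoImplicit false
universe u
open SGA3b

namespace Groth.Agent.S2978

/-- Let A be a Noetherian ring, M a set and a : M × M → A a family vanishing off the diagonal which is a
finite sum of decomposable families: a(m, m') = Σ_i b_i(m) c_i(m') for finitely many b_i, c_i : M →
A. Then a has finite support. -/
theorem result (A : Type u) [CommRing A] [IsNoetherianRing A] (M : Type u)
    (a : M × M → A) (hdiag : ∀ m m', m ≠ m' → a (m, m') = 0)
    (ι : Type u) [Fintype ι] (b c : ι → M → A) (hdec : ∀ m m', a (m, m') = ∑ i, b i m * c i m') :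
    Set.Finite {p : M × M | a p ≠ 0} := by
  classical
  let V : M → (ι → A) := fun m' i => c i m'
  have hfg : (Submodule.span A (Set.range V)).FG := IsNoetherian.noetherian _
  obtain ⟨t, hts, hspan⟩ := (Submodule.fg_span_iff_fg_span_finset_subset _).mp hfg
  choose g hg using fun v : (t : Set (ι → A)) => hts v.2
  refine Set.Finite.subset ((Set.finite_range g).image fun m => (m, m)) ?_
  rintro ⟨m, m'⟩ hp
  have hmm : m = m' := by
    by_contra hne
    exact hp (hdiag _ _ hne)
  subst hmm
  refine ⟨m, ?_, rfl⟩
  by_contra hm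
  apply hp
  let L : (ι → A) →ₗ[A] A := ∑ i, b i m • LinearMap.proj i
  have hL : ∀ m', L (V m') = a (m, m') := by
    intro m'
    simp [L, V, hdec]
  have hker : Submodule.span A (t : Set (ι → A)) ≤ LinearMap.ker L := by
    rw [Submodule.span_le]
    intro v hv
    have h1 : a (m, g ⟨v, hv⟩) = 0 := hdiag _ _ fun he => hm ⟨⟨v, hv⟩, he.symm⟩
    rw [← hL, hg] at h1
    exact h1
  rw [← hL]
  exact hker (hspan ▸ Submodule.subset_span ⟨m, rfl⟩)

end Groth.Agent.S2978
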