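import Groth.Statements.S2980
import Groth.Agent.Sga3.DescendIsotrivial

set_option autoImplicit false
universe u
open TensorProduct SGA3b
open SGA3b

namespace Groth.Agent.S2980

/-- Let R be a Noetherian ring, separated and complete for the I-adic topology. Every isotrivial
(R/I)-group of multiplicative type Spec A₀ is the base change of some isotrivial R-group of
multiplicative type Spec A. (Affine group schemes over an affine base are taken in Hopf-algebra
form; base change is the tensor product.) -/
theorem result (R : Type u) [CommRing R] [IsNoetherianRing R] (I : Ideal R) [IsAdicComplete I R]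
    (A₀ : Type u) [CommRing A₀] [HopfAlgebra (R ⧸ I) A₀] (h0 : IsIsotrivial (R ⧸ I) A₀) :
    ∃ (A : Type u) (_ : CommRing A) (_ : HopfAlgebra R A), IsIsotrivial R A ∧ Nonempty (((R ⧸ I) ⊗[R] A) ≃ₐc[R ⧸ I] A₀) := by
  exact Groth.Sga3.Descend.exists_isotrivial_lift I A₀ h0

end Groth.Agent.S2980
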