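import Groth.Statements.S2983
import Groth.Agent.Sga3.GroupAlg
import Groth.Agent.Sga3.MultTypeModule

set_option autoImplicit false
universe u
open TensorProduct SGA3b
open SGA3b

namespace Groth.Agent.S2983

open Groth.Sga3 in
/-- the coefficients of a group-like element of a group algebra are orthogonal idempotents -/
theorem coeff_mul {S : Type u} [CommRing S] {N : Type u} [CommGroup N] [DecidableEq N]
    {h : MonoidAlgebra S N} (hh : IsGroupLikeElem S h) (n m : N) :
    GroupAlg.cf n h * GroupAlg.cf m h = if n = m then GroupAlg.cf n h else 0 := by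
  have h1 := congrArg (fun f : WithConv (MonoidAlgebra S N →ₗ[S] S) => f h) (GroupAlg.cf_mul_cf (R := S) n m)
  simp only [LinearMap.convMul_apply, hh.comul_eq_tmul_self, TensorProduct.map_tmul,
    LinearMap.mul'_apply] at h1
  refine h1.trans ?_
  split_ifs <;> simp

open Groth.Sga3 Groth.Sga3.MultType in
/-- two group-like elements over a connected base are equal or disjoint -/
theorem eq_or_disjoint {R : Type u} [CommRing R] {B : Type u} [CommRing B] [HopfAlgebra R B]
    (hconn : ∀ e : R, IsIdempotentElem e → e = 0 ∨ e = 1) (hB : IsMultType R B) {a b : B}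
    (ha : IsGroupLikeElem R a) (hb : IsGroupLikeElem R b) (hne : a ≠ b)
    (S : Type u) [CommRing S] [Algebra R S] (N : Type u) [CommGroup N]
    (e : S ⊗[R] B ≃ₐc[S] MonoidAlgebra S N) (n : N) :
    GroupAlg.cf n (e ((1 : S) ⊗ₜ[R] a)) * GroupAlg.cf n (e ((1 : S) ⊗ₜ[R] b)) = 0 := by
  classical
  have := projective_of_isMultType hB
  -- the content of `a - b`
  let C : Ideal R := LinearMap.range (LinearMap.applyₗ (R := R) (M₂ := R) (a - b))
  have hsmul : a - b ∈ C • (⊤ : Submodule R B) := by
    obtain ⟨i, hi⟩ := Module.projective_def'.mp this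
    rw [show a - b = Finsupp.linearCombination R id (i (a - b)) from
      (LinearMap.congr_fun hi _).symm, Finsupp.linearCombination_apply]
    exact Submodule.sum_mem _ fun x _ =>
      Submodule.smul_mem_smul (show i (a - b) x ∈ C from ⟨Finsupp.lapply x ∘ₗ i, rfl⟩) Submodule.mem_top
  have hgl : ∀ {S : Type u} [CommRing S] [Algebra R S] {c : B}, IsGroupLikeElem R c →
      IsGroupLikeElem S ((1 : S) ⊗ₜ[R] c) := fun {S} _ _ c hc => by
    refine ⟨?_, ?_⟩
    · rw [TensorProduct.counit_tmul, hc.counit_eq_one, CommSemiring.counit_apply, one_smul]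
    · rw [TensorProduct.comul_tmul, hc.comul_eq_tmul_self, CommSemiring.comul_apply]; rfl
  have hcoeff : ∀ (S : Type u) [CommRing S] [Algebra R S] (N : Type u) [CommGroup N]
      (e : S ⊗[R] B ≃ₐc[S] MonoidAlgebra S N) (m : N),
      GroupAlg.cf m (e ((1 : S) ⊗ₜ[R] a)) - GroupAlg.cf m (e ((1 : S) ⊗ₜ[R] b)) ∈
        C.map (algebraMap R S) := by
    intro S _ _ N _ e m
    let f : B →ₗ[R] S := ((GroupAlg.cf m).restrictScalars R ∘ₗ
      ((e : S ⊗[R] B ≃ₐ[S] MonoidAlgebra S N).toLinearMap.restrictScalars R)) ∘ₗ TensorProduct.mk R S B 1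
    have h1 : f (a - b) ∈ C.map (algebraMap R S) := by
      refine Submodule.smul_induction_on hsmul (fun r hr x _ => ?_) fun x y hx hy => ?_
      · rw [map_smul, Algebra.smul_def]
        exact Ideal.mul_mem_right _ _ (Ideal.mem_map_of_mem _ hr)
      · rw [map_add]; exact add_mem hx hy
    rw [map_sub] at h1
    exact h1
  have hsq : C ≤ C * C := by
    intro r hr
    have h0 : (C * C).mkQ r = 0 := by
      refine eq_zero_of_forall hB fun S _ _ hS => ?_
      obtain ⟨N, _, ⟨e⟩⟩ := hS
      obtain ⟨φ, rfl⟩ := hr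
      have hmem : algebraMap R S (φ (a - b)) ∈ (C * C).map (algebraMap R S) := by
        rw [Ideal.map_mul]
        let fS : MonoidAlgebra S N →ₗ[S] S := (Algebra.TensorProduct.rid R S S).toLinearMap ∘ₗ
          φ.baseChange S ∘ₗ (e.symm : MonoidAlgebra S N ≃ₐ[S] S ⊗[R] B).toLinearMap
        have h1 : algebraMap R S (φ (a - b)) = fS (e ((1 : S) ⊗ₜ[R] (a - b))) := by
          simp [fS, Algebra.algebraMap_eq_smul_one, sub_smul]
        rw [h1, ← MonoidAlgebra.sum_coeff_single (e _), Finsupp.sum, map_sum]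
        refine sum_mem fun m _ => ?_
        rw [show MonoidAlgebra.single m ((e ((1 : S) ⊗ₜ[R] (a - b))).coeff m) =
          (e ((1 : S) ⊗ₜ[R] (a - b))).coeff m • MonoidAlgebra.single m (1 : S) by simp,
          map_smul, smul_eq_mul]
        refine Ideal.mul_mem_right _ _ ?_
        change GroupAlg.cf m (e ((1 : S) ⊗ₜ[R] (a - b))) ∈ _
        rw [TensorProduct.tmul_sub, map_sub, map_sub]
        set p := GroupAlg.cf m (e ((1 : S) ⊗ₜ[R] a))
        set q := GroupAlg.cf m (e ((1 : S) ⊗ₜ[R] b))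
        have hp : p * p = p := by simpa using coeff_mul ((hgl ha).map (e : S ⊗[R] B →ₐc[S] _)) m m
        have hq : q * q = q := by simpa using coeff_mul ((hgl hb).map (e : S ⊗[R] B →ₐc[S] _)) m m
        have hd : p - q = (p - q) * (p - q) * (p - q) := by
          linear_combination (-p - 1 + 3 * q) * hp + (1 - 3 * p + q) * hq
        rw [hd]
        exact Ideal.mul_mem_right _ _ (Ideal.mul_mem_mul (hcoeff S N e m) (hcoeff S N e m))
      rw [Submodule.mkQ_apply]
      change (1 : S) ⊗ₜ[R] (Ideal.Quotient.mk (C * C) (φ (a - b))) = 0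
      have h2 : ∀ z : R, (1 : S) ⊗ₜ[R] (Ideal.Quotient.mk (C * C) z) =
          algebraMap R S z • ((1 : S) ⊗ₜ[R] (1 : R ⧸ C * C)) := fun z => by
        rw [show Ideal.Quotient.mk (C * C) z = z • (1 : R ⧸ C * C) by simp [Algebra.smul_def],
          ← TensorProduct.smul_tmul, TensorProduct.smul_tmul', Algebra.smul_def, smul_eq_mul]
      rw [h2]
      refine Submodule.span_induction (p := fun s _ => s • ((1 : S) ⊗ₜ[R] (1 : R ⧸ C * C)) = 0)
        ?_ (zero_smul _ _) (fun x y _ _ hx hy => by rw [add_smul, hx, hy, add_zero])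
        (fun t x _ hx => by rw [smul_assoc, hx, smul_zero]) hmem
      rintro _ ⟨z, hz, rfl⟩
      rw [← h2, Ideal.Quotient.eq_zero_iff_mem.2 hz, TensorProduct.tmul_zero]
    exact (Submodule.Quotient.mk_eq_zero _).1 h0
  have hfg : C.FG := by
    obtain ⟨i, hi⟩ := Module.projective_def'.mp this
    refine ⟨(i (a - b)).support.image fun x => i (a - b) x, le_antisymm (Ideal.span_le.2 ?_) ?_⟩
    · intro r hr
      obtain ⟨x, -, rfl⟩ := Finset.mem_image.1 (Finset.mem_coe.1 hr)
      exact ⟨Finsupp.lapply x ∘ₗ i, rfl⟩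
    · rintro _ ⟨φ, rfl⟩
      change φ (a - b) ∈ Ideal.span _
      rw [show φ (a - b) = φ (Finsupp.linearCombination R id (i (a - b))) from
        congrArg φ (LinearMap.congr_fun hi _).symm, Finsupp.linearCombination_apply, Finsupp.sum, map_sum]
      refine sum_mem fun x hx => ?_
      rw [map_smul, smul_eq_mul]
      exact Ideal.mul_mem_right _ _
        (Ideal.subset_span (Finset.mem_coe.2 (Finset.mem_image_of_mem _ hx)))
  have hidem : IsIdempotentElem C := le_antisymm Ideal.mul_le_left hsq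
  obtain ⟨ε, hε, hC⟩ := (Ideal.isIdempotentElem_iff_of_fg C hfg).1 hidem
  have htop : C = ⊤ := by
    rcases hconn ε hε with h | h
    · exfalso
      refine hne (sub_eq_zero.1 (eq_zero_of_forall_dual (R := R) fun φ => ?_))
      have : φ (a - b) ∈ C := ⟨φ, rfl⟩
      rw [hC, h, Ideal.submodule_span_eq, Ideal.span_singleton_zero, Ideal.mem_bot] at this
      exact this
    · rw [hC, h, Ideal.submodule_span_eq, Ideal.span_singleton_one]
  set p := GroupAlg.cf n (e ((1 : S) ⊗ₜ[R] a)) * GroupAlg.cf n (e ((1 : S) ⊗ₜ[R] b)) with hp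
  have hann : ∀ m, p * (GroupAlg.cf m (e ((1 : S) ⊗ₜ[R] a)) - GroupAlg.cf m (e ((1 : S) ⊗ₜ[R] b))) = 0 := by
    intro m
    have h1 := coeff_mul ((hgl ha).map (e : S ⊗[R] B →ₐc[S] _)) n m
    have h2 := coeff_mul ((hgl hb).map (e : S ⊗[R] B →ₐc[S] _)) n m
    change GroupAlg.cf n (e _) * GroupAlg.cf m (e _) = ite _ (GroupAlg.cf n (e _)) 0 at h1 h2
    rw [hp]
    split_ifs at h1 h2 with hnm
    · subst hnm; linear_combination (GroupAlg.cf n (e ((1 : S) ⊗ₜ[R] b))) * h1 -
        (GroupAlg.cf n (e ((1 : S) ⊗ₜ[R] a))) * h2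
    · linear_combination (GroupAlg.cf n (e ((1 : S) ⊗ₜ[R] b))) * h1 -
        (GroupAlg.cf n (e ((1 : S) ⊗ₜ[R] a))) * h2
  -- `1` is a combination of the coefficients of `a - b`
  obtain ⟨φ, hφ⟩ : (1 : R) ∈ C := htop ▸ Submodule.mem_top
  change φ (a - b) = 1 at hφ
  let fS : MonoidAlgebra S N →ₗ[S] S := (Algebra.TensorProduct.rid R S S).toLinearMap ∘ₗ
    φ.baseChange S ∘ₗ (e.symm : MonoidAlgebra S N ≃ₐ[S] S ⊗[R] B).toLinearMap
  have h1 : fS (e ((1 : S) ⊗ₜ[R] (a - b))) = 1 := by
    have : fS (e ((1 : S) ⊗ₜ[R] (a - b))) = algebraMap R S (φ (a - b)) := by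
      simp [fS, Algebra.algebraMap_eq_smul_one, sub_smul]
    rw [this, hφ, map_one]
  have h0 : p • e ((1 : S) ⊗ₜ[R] (a - b)) = 0 := GroupAlg.ext_cf fun m => by
    rw [map_smul, map_zero, smul_eq_mul, TensorProduct.tmul_sub, map_sub, map_sub]
    exact hann m
  have := congrArg fS h0
  rwa [map_smul, h1, map_zero, smul_eq_mul, mul_one] at this

/-- Let R be a ring with connected spectrum (no idempotents other than 0 and 1), G = Spec A a
diagonalisable R-group of finite type, and H = Spec (A/J) a closed subgroup (J a Hopf ideal) which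
is of multiplicative type. Then H is diagonalisable. (Affine group schemes over an affine base are
taken in Hopf-algebra form; base change is the tensor product.) -/
theorem result (R : Type u) [CommRing R] (A : Type u) [CommRing A] [HopfAlgebra R A] [Nontrivial R] (hconn : ∀ e : R, IsIdempotentElem e → e = 0 ∨ e = 1)
    (hG : IsDiagFT R A) (J : Ideal A) [J.IsHopfIdeal R] (hH : IsMultType R (A ⧸ J)) : IsDiag R (A ⧸ J) := by
  classical
  open Groth.Sga3 Groth.Sga3.MultType in
  obtain ⟨M, _, -, ⟨e⟩⟩ := hG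
  let ψ : MonoidAlgebra R M →ₐc[R] A ⧸ J :=
    (Bialgebra.Quotient.mkBialgHom (R := R) J).comp (e.symm : MonoidAlgebra R M →ₐc[R] A)
  let g : M →* GroupLike R (A ⧸ J) :=
    { toFun := fun m => ⟨ψ (MonoidAlgebra.single m 1),
        (MonoidAlgebra.isGroupLikeElem_single_one m).map ψ⟩
      map_one' := GroupLike.val_injective <| by simp [← MonoidAlgebra.one_def]
      map_mul' := fun a b => GroupLike.val_injective <| by
        simp [← map_mul, MonoidAlgebra.single_mul_single] }
  let F : MonoidAlgebra R (M ⧸ g.ker) →ₐc[R] A ⧸ J :=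
    MonoidAlgebra.liftGroupLikeBialgHom.comp
      (MonoidAlgebra.mapDomainBialgHom R (QuotientGroup.kerLift g))
  have hF : ∀ m : M, F (MonoidAlgebra.single (QuotientGroup.mk' g.ker m) 1) =
      ψ (MonoidAlgebra.single m 1) := by
    intro m
    simp [F, g, MonoidAlgebra.liftGroupLikeBialgHom]
  refine ⟨M ⧸ g.ker, inferInstance, ⟨(BialgEquiv.ofBijective F ⟨?_, ?_⟩).symm⟩⟩
  · refine (injective_iff_map_eq_zero F).2 fun x hx => ?_
    open Groth.Sga3 Groth.Sga3.MultType in
    refine GroupAlg.ext_cf fun q => ?_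
    rw [map_zero]
    open Groth.Sga3 Groth.Sga3.MultType in
    refine eq_zero_of_forall hH fun S _ _ hS => ?_
    obtain ⟨N, _, ⟨eS⟩⟩ := hS
    suffices h : algebraMap R S (Groth.Sga3.GroupAlg.cf q x) = 0 by
      rw [← mul_one (Groth.Sga3.GroupAlg.cf q x), ← smul_eq_mul, ← TensorProduct.smul_tmul,
        Algebra.smul_def, h, zero_mul, TensorProduct.zero_tmul]
    let v : (M ⧸ g.ker) → MonoidAlgebra S N := fun r => eS ((1 : S) ⊗ₜ[R] F (MonoidAlgebra.single r 1))
    have hv : ∀ r, IsGroupLikeElem S (v r) := by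
      intro r
      refine IsGroupLikeElem.map (eS : S ⊗[R] (A ⧸ J) →ₐc[S] MonoidAlgebra S N) ⟨?_, ?_⟩
      · rw [TensorProduct.counit_tmul, CommSemiring.counit_apply,
          ((MonoidAlgebra.isGroupLikeElem_single_one r).map F).counit_eq_one, one_smul]
      · rw [TensorProduct.comul_tmul, CommSemiring.comul_apply,
          ((MonoidAlgebra.isGroupLikeElem_single_one r).map F).comul_eq_tmul_self]
        rfl
    have hdisj : ∀ r r', r ≠ r' → ∀ n, Groth.Sga3.GroupAlg.cf n (v r) * Groth.Sga3.GroupAlg.cf n (v r') = 0 := by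
      intro r r' hne n
      refine eq_or_disjoint hconn hH ((MonoidAlgebra.isGroupLikeElem_single_one r).map F)
        ((MonoidAlgebra.isGroupLikeElem_single_one r').map F) (fun h => hne ?_) S N eS n
      obtain ⟨a, rfl⟩ := QuotientGroup.mk'_surjective _ r
      obtain ⟨b, rfl⟩ := QuotientGroup.mk'_surjective _ r'
      rw [hF, hF] at h
      exact QuotientGroup.kerLift_injective g (GroupLike.val_injective h)
    have hsum : ∑ r ∈ x.coeff.support, algebraMap R S (x.coeff r) • v r = 0 := by
      have h1 : eS ((1 : S) ⊗ₜ[R] F x) = 0 := by rw [hx, TensorProduct.tmul_zero, map_zero]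
      rw [← h1]
      conv_rhs => rw [← MonoidAlgebra.sum_coeff_single x]
      simp only [Finsupp.sum, map_sum, TensorProduct.tmul_sum, v]
      refine Finset.sum_congr rfl fun r _ => ?_
      rw [show MonoidAlgebra.single r (x.coeff r) = x.coeff r • MonoidAlgebra.single r (1 : R) by simp,
        map_smul, TensorProduct.tmul_smul, ← algebraMap_smul S (x.coeff r) ((1 : S) ⊗ₜ[R] _),
        map_smul]
    have key : ∀ n, algebraMap R S (x.coeff q) * Groth.Sga3.GroupAlg.cf n (v q) = 0 := by
      intro n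
      have h2 := congrArg (fun z => Groth.Sga3.GroupAlg.cf n z * Groth.Sga3.GroupAlg.cf n (v q)) hsum
      simp only [map_sum, map_smul, map_zero, zero_mul, Finset.sum_mul, smul_eq_mul] at h2
      rw [Finset.sum_eq_single q] at h2
      · have h3 := coeff_mul (hv q) n n
        rw [if_pos rfl] at h3
        rwa [mul_assoc, h3] at h2
      · intro r _ hr
        rw [mul_assoc, hdisj r q hr n, mul_zero]
      · intro hq
        simp [Finsupp.notMem_support_iff.1 hq]
    have h0 : algebraMap R S (x.coeff q) • v q = 0 := Groth.Sga3.GroupAlg.ext_cf fun n => by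
      rw [map_smul, map_zero]; exact key n
    have h4 := congrArg (Coalgebra.counit (R := S)) h0
    rwa [map_smul, (hv q).counit_eq_one, map_zero, smul_eq_mul, mul_one] at h4
  · intro b
    obtain ⟨a, rfl⟩ := Ideal.Quotient.mk_surjective b
    obtain ⟨z, rfl⟩ : ∃ z, (e.symm : MonoidAlgebra R M →ₐc[R] A) z = a := e.symm.surjective a
    change ∃ y, F y = ψ z
    induction z using MonoidAlgebra.induction_linear with
    | zero => exact ⟨0, by rw [map_zero, map_zero]⟩
    | add p q hp hq =>
      obtain ⟨p', hp'⟩ := hp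
      obtain ⟨q', hq'⟩ := hq
      exact ⟨p' + q', by rw [map_add, map_add, hp', hq']⟩
    | single m r =>
      refine ⟨r • MonoidAlgebra.single (QuotientGroup.mk' g.ker m) 1, ?_⟩
      rw [map_smul, hF, ← map_smul]
      simp

end Groth.Agent.S2983
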