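import Groth.Statements.S2984
import Groth.Agent.Sga3.TorsionIdeal
import Groth.Agent.Sga3.MultTypeModule

set_option autoImplicit false
universe u
open TensorProduct SGA3b
open SGA3b

namespace Groth.Agent.S2984

/-- Let R be a ring and G = Spec A an R-group scheme of multiplicative type and of finite type, with A a
Hopf algebra over R. Then A is finite over R if and only if the n-th power map of G is trivial for
some n > 0 (the kernel ₙG is all of G). (Affine group schemes over an affine base are taken in
Hopf-algebra form; base change is the tensor product.) -/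
theorem result (R : Type u) [CommRing R] (A : Type u) [CommRing A] [HopfAlgebra R A] (hft : Algebra.FiniteType R A) (h : IsMultType R A) :
    Module.Finite R A ↔ ∃ n : ℕ, 0 < n ∧ torsionIdeal R A n = ⊥ := by
  open Groth.Sga3.MultType in
  open TensorProduct in
  constructor
  · intro hfin
    classical
    obtain ⟨N, gen, hgen⟩ := Module.Finite.exists_fin (R := R) (M := A)
    refine ⟨Nat.factorial N, Nat.factorial_pos N, eq_bot_iff.2 fun x hx => ?_⟩
    rw [Ideal.mem_bot]
    refine eq_zero_of_forall h fun S _ _ hS => ?_
    rcases subsingleton_or_nontrivial S with hsub | hnt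
    · have : Subsingleton (S ⊗[R] A) := Module.subsingleton S _
      exact Subsingleton.elim _ _
    obtain ⟨M, _, ⟨e⟩⟩ := hS
    haveI : Module.Finite S (MonoidAlgebra S M) :=
      Module.Finite.equiv (e : S ⊗[R] A ≃ₐ[S] MonoidAlgebra S M).toLinearEquiv
    let b : Module.Basis M S (MonoidAlgebra S M) :=
      Module.Basis.ofRepr (MonoidAlgebra.coeffLinearEquiv S)
    haveI : Finite M := Module.Finite.finite_basis b
    haveI : Fintype M := Fintype.ofFinite M
    have hcard : Fintype.card M ≤ N := by
      let e' : (S ⊗[R] A) ≃ₗ[S] MonoidAlgebra S M := (e : S ⊗[R] A ≃ₐ[S] MonoidAlgebra S M).toLinearEquiv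
      have hspan : Submodule.span S (Set.range fun i : Fin N =>
          e' ((1 : S) ⊗ₜ[R] gen i)) = ⊤ := by
        rw [eq_top_iff]
        rintro y -
        obtain ⟨z, rfl⟩ := e'.surjective y
        induction z using TensorProduct.induction_on with
        | zero => rw [map_zero]; exact zero_mem _
        | add p q hp hq => rw [map_add]; exact add_mem hp hq
        | tmul s a =>
          have ha : a ∈ Submodule.span R (Set.range gen) := hgen ▸ Submodule.mem_top
          induction ha using Submodule.span_induction with
          | mem a ha =>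
            obtain ⟨i, rfl⟩ := ha
            rw [show s ⊗ₜ[R] gen i = s • ((1 : S) ⊗ₜ[R] gen i) by simp [TensorProduct.smul_tmul'],
              map_smul]
            exact Submodule.smul_mem _ _ (Submodule.subset_span ⟨i, rfl⟩)
          | zero => rw [TensorProduct.tmul_zero, map_zero]; exact zero_mem _
          | add p q _ _ hp hq => rw [TensorProduct.tmul_add, map_add]; exact add_mem hp hq
          | smul c p _ hp =>
            rw [show s ⊗ₜ[R] (c • p) = algebraMap R S c • (s ⊗ₜ[R] p) by
              rw [← TensorProduct.smul_tmul, TensorProduct.smul_tmul', Algebra.smul_def, smul_eq_mul],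
              map_smul]
            exact Submodule.smul_mem _ _ hp
      have hle := finrank_range_le_card (R := S) (fun i : Fin N => e' ((1 : S) ⊗ₜ[R] gen i))
      rw [Set.finrank, hspan, finrank_top, Module.finrank_eq_card_basis b, Fintype.card_fin] at hle
      exact hle
    have hbot : torsionIdeal S (MonoidAlgebra S M) (Nat.factorial N) = ⊥ :=
      (torsionIdeal_monoidAlgebra_eq_bot_iff M _).2 fun m => orderOf_dvd_iff_pow_eq_one.1
        ((orderOf_dvd_card).trans (Nat.dvd_factorial Fintype.card_pos hcard))
    have h1 : e ((1 : S) ⊗ₜ[R] x) ∈ torsionIdeal S (MonoidAlgebra S M) (Nat.factorial N) := by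
      rw [← map_torsionIdeal e]
      refine Ideal.mem_map_of_mem (e : S ⊗[R] A →ₐc[S] MonoidAlgebra S M) ?_
      rw [torsionIdeal_baseChange]
      exact Ideal.mem_map_of_mem
        (Algebra.TensorProduct.includeRight : A →ₐ[R] S ⊗[R] A) hx
    rw [hbot, Ideal.mem_bot] at h1
    exact e.injective (h1.trans (map_zero e).symm)
  · rintro ⟨n, hn, hbot⟩
    refine finite_of_forall h fun S _ _ hS => ?_
    rcases subsingleton_or_nontrivial S with hsub | hnt
    · have : Subsingleton (S ⊗[R] A) := Module.subsingleton S _
      infer_instance
    obtain ⟨M, _, ⟨e⟩⟩ := hS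
    have h1 : torsionIdeal S (MonoidAlgebra S M) n = ⊥ := by
      rw [← map_torsionIdeal e, torsionIdeal_baseChange, hbot, Ideal.map_bot, Ideal.map_bot]
    have hM := (torsionIdeal_monoidAlgebra_eq_bot_iff M n).1 h1
    haveI : Group.FG M := group_fg_of_finiteType (inferInstance : Algebra.FiniteType S (S ⊗[R] A)) e
    haveI : Finite M := CommGroup.finite_of_fg_isMulTorsion _ fun m =>
      isOfFinOrder_iff_pow_eq_one.2 ⟨n, hn, hM m⟩
    haveI : Module.Finite S (MonoidAlgebra S M) :=
      Module.Finite.of_basis (Module.Basis.ofRepr (MonoidAlgebra.coeffLinearEquiv S))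
    exact Module.Finite.equiv (e : S ⊗[R] A ≃ₐ[S] MonoidAlgebra S M).toLinearEquiv.symm

end Groth.Agent.S2984
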