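import Groth.Statements.S2986
import Groth.Agent.SmoothWeil.Core
import Groth.Agent.Reductive.CentralDescent

set_option autoImplicit false
universe u
open TensorProduct
open SGA3b

namespace Groth.Agent.S2986

/-- Let R be a ring, B a smooth R-algebra whose geometric fibres are connected (for every algebraically
closed field K under R, Spec (K ⊗_R B) is connected), e : B → R an R-algebra section with kernel 𝔪,
and J a finitely generated ideal of B (a finitely presented closed subscheme Y of X = Spec B). Then
there is n ≥ 0 such that for every R-algebra R': the base change of X to R' lies in Y (every element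
of J becomes zero in R' ⊗_R B) if and only if the base change of the n-th infinitesimal
neighbourhood Spec (B/𝔪^(n+1)) of the section lies in Y. (The published statement is for a general
base and X; this is the affine case.) -/
theorem result (R B : Type u) [CommRing R] [CommRing B] [Algebra R B]
    [Algebra.Smooth R B]
    (hconn : ∀ (K : Type u) [Field K] [IsAlgClosed K] [Algebra R K], ConnectedSpace (PrimeSpectrum (K ⊗[R] B)))
    (e : B →ₐ[R] R) (J : Ideal B) (hJ : J.FG) :
    ∃ n : ℕ, ∀ (R' : Type u) [CommRing R'] [Algebra R R'],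
      (∀ x ∈ J, (1 : R') ⊗ₜ[R] x = (0 : R' ⊗[R] B)) ↔
        (∀ x ∈ J, (1 : R') ⊗ₜ[R] (Ideal.Quotient.mk (RingHom.ker e ^ (n + 1)) x) = (0 : R' ⊗[R] (B ⧸ RingHom.ker e ^ (n + 1)))) := by
  let f := AlgebraicGeometry.Spec.map (CommRingCat.ofHom (algebraMap R B))
  haveI : AlgebraicGeometry.Smooth f :=
    (AlgebraicGeometry.HasRingHomProperty.Spec_iff (P := @AlgebraicGeometry.Smooth)).mpr
      (RingHom.smooth_algebraMap.mpr inferInstance)
  haveI : AlgebraicGeometry.GeometricallyConnected f := by
    refine Groth.Reductive.FreeDiag.geometricallyConnected_of_geomPt f fun s ↦ ?_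
    let K := AlgebraicClosure ((AlgebraicGeometry.Spec (CommRingCat.of R)).residueField s)
    let φ : CommRingCat.of R ⟶ CommRingCat.of K := AlgebraicGeometry.Spec.preimage (Red.geomPt s)
    letI : Algebra R K := φ.hom.toAlgebra
    haveI : IsAlgClosed K := inferInstance
    haveI h1 : ConnectedSpace ↥(AlgebraicGeometry.Spec (CommRingCat.of (K ⊗[R] B))) := hconn K
    have hφ : Red.geomPt s = AlgebraicGeometry.Spec.map (CommRingCat.ofHom (algebraMap R K)) :=
      (AlgebraicGeometry.Spec.map_preimage _).symm
    exact (CategoryTheory.Limits.pullback.congrHom rfl hφ ≪≫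
      CategoryTheory.Limits.pullbackSymmetry _ _ ≪≫
      AlgebraicGeometry.pullbackSpecIso R K B).hom.homeomorph.connectedSpace_iff.mpr h1
  haveI : AlgebraicGeometry.GeometricallyIrreducible f :=
    Groth.SmoothWeil.geometricallyIrreducible_of_connected f
  obtain ⟨n, hn⟩ := Groth.SmoothWeil.exists_level e hJ
  refine ⟨n, fun R' _ _ ↦ ⟨fun h x hx ↦ ?_, fun h ↦ ?_⟩⟩
  · have := congrArg (Algebra.TensorProduct.map (AlgHom.id R R')
      (Ideal.Quotient.mkₐ R (RingHom.ker e ^ (n + 1)))) (h x hx)
    simpa using this
  · exact (Groth.SmoothWeil.forall_tmul_iff e J R').mpr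
      (hn.trans ((Groth.SmoothWeil.forall_level_iff e J (n + 1) R').mp h))

end Groth.Agent.S2986
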