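import Groth.Statements.S2987
import Groth.Agent.Sga3.FlatDeformQuasi

set_option autoImplicit false
universe u
open TensorProduct SGA3b
open SGA3b

namespace Groth.Agent.S2987

/-- Let R be a ring, I a nilpotent ideal, and H = Spec A an affine R-group with A flat over R. If the
base change of H to R/I is a quasi-isotrivial group of multiplicative type, then so is H. (Affine
group schemes over an affine base are taken in Hopf-algebra form; base change is the tensor
product.) -/
theorem result (R : Type u) [CommRing R] (A : Type u) [CommRing A] [HopfAlgebra R A] [Module.Flat R A] (I : Ideal R) (hI : IsNilpotent I)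
    (h0 : IsQuasiIsotrivial (R ⧸ I) ((R ⧸ I) ⊗[R] A)) : IsQuasiIsotrivial R A := by
  exact Groth.Sga3.MultType.isQuasiIsotrivial_of_nilpotent hI h0

end Groth.Agent.S2987
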