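import Groth.Statements.S2989
import Groth.Agent.Agf2.TorusGen
import Groth.Agent.S15878
import Groth.Agent.Reductive2.GaSmooth

set_option autoImplicit false
open CategoryTheory MonoidalCategory CartesianMonoidalCategory MonObj GrpObj AlgebraicGeometry
universe u
open Red

namespace Groth.Agent.S2989

/-- First assertion (H¹(G, k) = 0 for k with trivial action). Let k be a field and G a reductive
k-group. Then every homomorphism of k-groups from G to the additive group is trivial. -/
theorem result (k : Type u) [Field k] (G : Over (Spec (CommRingCat.of k))) [GrpObj G]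
    (hG : Red.IsReductive G) (φ : G ⟶ Red.Ga (Spec (CommRingCat.of k))) [IsMonHom φ] :
    φ = toUnit G ≫ η[Red.Ga (Spec (CommRingCat.of k))] := by
  let ψ := Red.geomPt (Groth.AlgGrp1.spt k)
  obtain ⟨hh1, hh2⟩ := Groth.AlgGrp1.fpqc_fieldMap ψ
  haveI := hh1.1; haveI := hh1.2; haveI := hh2
  haveI := Groth.Abvar.isMonHom_map (f := ψ) φ
  haveI := Groth.Reductive2.smooth_Ga (Spec (CommRingCat.of k))
  haveI : QuasiCompact (Red.Ga (Spec (CommRingCat.of k))).hom :=
    haveI := (Groth.AlgGrpIsog.isUnip_Ga (k := k)).isAffine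
    inferInstance
  haveI : LocallyOfFiniteType (Red.bc ψ (Red.Ga (Spec (CommRingCat.of k)))).hom :=
    inferInstanceAs (LocallyOfFiniteType (Limits.pullback.snd _ ψ))
  haveI : QuasiCompact (Red.bc ψ (Red.Ga (Spec (CommRingCat.of k)))).hom :=
    inferInstanceAs (QuasiCompact (Limits.pullback.snd _ ψ))
  have h := Groth.Agf2.TorusGen.hom_unip_eq_one (hG.2.2 (Groth.AlgGrp1.spt k))
    (Groth.URad.isUnip_bc ψ Groth.AlgGrpIsog.isUnip_Ga) ((Over.pullback ψ).map φ)
  apply Groth.Agent.S15878.map_injective ψ
  rw [h, show toUnit G ≫ η[Red.Ga (Spec (CommRingCat.of k))] = 1 from rfl, Functor.map_one]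

end Groth.Agent.S2989
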