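import Groth.Statements.S3003
import Groth.Agent.Reductive.SelfCentNhd
-- import your own Groth.Agent.* helpers here

set_option autoImplicit false
universe u
open CategoryTheory MonoidalCategory CartesianMonoidalCategory MonObj GrpObj AlgebraicGeometry
open Red

namespace Groth.Agent.S3003

/-- Let S be a scheme, G an S-group scheme which is smooth and affine over S with connected fibres, and
s₀ ∈ S such that every maximal torus of the geometric fibre G_{s̄₀} is its own centralizer (every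
point of G_{s̄₀} commuting with all points of the torus lies in it). Then there exist an étale
morphism v : Spec B → S whose image contains s₀ and a maximal torus of the base change of G to Spec
B which is split. -/
theorem result (S : Scheme.{u}) (G : Over S) [GrpObj G] [IsAffineHom G.hom] [Smooth G.hom] (hconn : ∀ s : S, _root_.IsConnected (G.hom.base ⁻¹' {s})) (s₀ : S) (hc : ∀ (T : Over (Spec (CommRingCat.of (AlgebraicClosure (S.residueField s₀))))) [GrpObj T] (i : T ⟶ Red.geomFibre s₀ G), Red.IsMaximalTorus i → ∀ (X : Over _) (g : X ⟶ Red.geomFibre s₀ G), (∀ (X' : Over _) (x : X' ⟶ X) (t : X' ⟶ T), (x ≫ g) * (t ≫ i) = (t ≫ i) * (x ≫ g)) → ∃ t : X ⟶ T, g = t ≫ i) : ∃ (B : Type u) (_ : CommRing B) (v : Spec (CommRingCat.of B) ⟶ S), Etale v ∧ s₀ ∈ Set.range v.base ∧ ∃ (T : Over (Spec (CommRingCat.of B))) (_ : GrpObj T) (i : T ⟶ Red.bc v G), Red.IsMaximalTorus i ∧ ∃ r : ℕ, Red.IsSplitTorusWith (Fin r → ℤ) T := by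
  obtain ⟨W, p, w, r, T, _, i, hp, hw, hi, hmono, hT, O, hwO, hmax⟩ :=
    Groth.Reductive.RedRank.exists_selfCent_nhd hconn s₀ hc
  haveI := hp; haveI := hi; haveI := hmono
  obtain ⟨_, ⟨V : W.Opens, hV, rfl⟩, hwV, hVO⟩ :=
    W.isBasis_affineOpens.exists_subset_of_mem_open hwO O.2
  let q : Spec Γ(W, V) ⟶ W := hV.fromSpec
  haveI : IsAffineHom (Red.bc p G).hom := MorphismProperty.pullback_snd (P := @IsAffineHom) _ _ inferInstance
  haveI : Smooth (Red.bc p G).hom := MorphismProperty.pullback_snd (P := @Smooth) _ _ inferInstance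
  obtain ⟨e⟩ := hT
  obtain ⟨d⟩ := Groth.Reductive.RedRank.isSplit_DS_bc q (Fin r → ℤ)
  have hTt : Red.IsTorus T := by
    refine ⟨W, 𝟙 _, inferInstance, inferInstance, fun V hV => ⟨V, hV.isCompact, by simp⟩, fun x => ?_⟩
    obtain ⟨d'⟩ := Groth.Reductive.RedRank.isSplit_DS_bc ((⊤ : W.Opens).ι ≫ 𝟙 W) (Fin r → ℤ)
    exact ⟨⊤, trivial, r, ⟨Groth.Reductive.RedRank.bcIso _ e ≪≫ d'⟩⟩
  obtain ⟨h1, h2, h3, h4⟩ := Groth.Reductive.RedRank.isMaximalTorus_bc_of_forall i hTt q fun y => hmax _ (hVO (by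
    have := hV.range_fromSpec.le ⟨y, rfl⟩
    exact this))
  haveI := h1; haveI := h2
  let c := Groth.Reductive.RedRank.isoS (Groth.Reductive.RedRank.bcTwo q p (q ≫ p) rfl G)
  refine ⟨Γ(W, V), inferInstance, q ≫ p, inferInstance, ?_, Red.bc q T, inferInstance,
    (Over.pullback q).map i ≫ c.hom, ⟨Groth.Abvar.isMonHom_comp h1 inferInstance, inferInstance, h3, ?_⟩,
    r, ⟨Groth.Reductive.RedRank.bcIso q e ≪≫ d⟩⟩
  · obtain ⟨y, hy⟩ : w ∈ Set.range q.base := hV.range_fromSpec.ge hwV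
    exact ⟨y, by rw [Scheme.Hom.comp_apply, hy, hw]⟩
  · intro t T' _ j _ _ v hT' hv
    haveI : IsMonHom (j ≫ (Over.pullback (Red.geomPt t)).map c.inv) :=
      Groth.Abvar.isMonHom_comp inferInstance (Groth.Abvar.isMonHom_map (f := Red.geomPt t) c.inv)
    exact h4 t T' (j ≫ (Over.pullback (Red.geomPt t)).map c.inv) v hT' (by
      rw [← Category.assoc, hv, ← Functor.map_comp, Category.assoc, Iso.hom_inv_id, Category.comp_id]
      rfl)
end Groth.Agent.S3003
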