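import Groth.Statements.S3014
import Groth.Agent.Reductive2.DescendAlgClosed

set_option autoImplicit false
universe u
open CategoryTheory MonoidalCategory CartesianMonoidalCategory MonObj GrpObj AlgebraicGeometry
open Red

namespace Groth.Agent.S3014

/-- Base change in two steps, as groups. -/
noncomputable def bcTwo {S₁ S₂ S₃ : Scheme.{u}} (f : S₁ ⟶ S₂) (g : S₂ ⟶ S₃) (h : S₁ ⟶ S₃) (e : f ≫ g = h)
    (A : Over S₃) [GrpObj A] : Grp.mk (Red.bc f (Red.bc g A)) ≅ Grp.mk (Red.bc h A) := by
  subst e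
  let e : Red.bc f (Red.bc g A) ≅ Red.bc (f ≫ g) A := ((Over.pullbackComp f g).app A).symm
  have : IsMonHom e.hom := (Groth.Abvar.isMonHom_pullbackComp f g A).1
  exact Grp.mkIso' e

/-- Base change of an isomorphism of groups. -/
noncomputable def bcIso {S₁ S₂ : Scheme.{u}} (f : S₁ ⟶ S₂) {A B : Over S₂} [GrpObj A] [GrpObj B]
    (w : Grp.mk A ≅ Grp.mk B) : Grp.mk (Red.bc f A) ≅ Grp.mk (Red.bc f B) := by
  let e0 : A ≅ B := (Grp.forget _).mapIso w
  have : IsMonHom e0.hom := inferInstanceAs (IsMonHom w.hom.hom.hom)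
  let e : Red.bc f A ≅ Red.bc f B := (Over.pullback f).mapIso e0
  have : IsMonHom e.hom := Groth.Abvar.isMonHom_map (f := f) e0.hom
  exact Grp.mkIso' e


/-- (i)⇒(ii): Let G and G' be reductive S-groups and f : S' → S a surjective morphism such that the base
changes of G and G' to S' are isomorphic as group schemes. Then for every s ∈ S the geometric fibres
G_{s̄} and G'_{s̄} are isomorphic. -/
theorem result (S : Scheme.{u}) (G G' : Over S) [GrpObj G] [GrpObj G'] (hG : Red.IsReductive G) (hG' : Red.IsReductive G') (S' : Scheme.{u}) (f : S' ⟶ S) [Surjective f] (hiso : Nonempty (Grp.mk (Red.bc f G) ≅ Grp.mk (Red.bc f G'))) (s : S) : Nonempty (Grp.mk (Red.geomFibre s G) ≅ Grp.mk (Red.geomFibre s G')) := by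
  obtain ⟨w⟩ := hiso
  obtain ⟨s', rfl⟩ := Surjective.surj (f := f) s
  obtain ⟨ι', hι⟩ : ∃ ι' : AlgebraicClosure (S.residueField (f.base s')) →+* AlgebraicClosure (S'.residueField s'),
      ι'.comp (algebraMap _ _) = (algebraMap (S'.residueField s') _).comp (f.residueFieldMap s').hom := by
    letI : Algebra (S.residueField (f.base s')) (AlgebraicClosure (S'.residueField s')) :=
      ((algebraMap (S'.residueField s') _).comp (f.residueFieldMap s').hom).toAlgebra
    let L : AlgebraicClosure (S.residueField (f.base s')) →ₐ[S.residueField (f.base s')]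
      AlgebraicClosure (S'.residueField s') := IsAlgClosed.lift
    exact ⟨L.toRingHom, RingHom.ext fun x => L.commutes x⟩
  have hpt : Spec.map (CommRingCat.ofHom ι') ≫ Red.geomPt (f.base s') = Red.geomPt s' ≫ f := by
    rw [Red.geomPt, Red.geomPt, ← Category.assoc, ← Spec.map_comp, ← CommRingCat.ofHom_comp, hι,
      CommRingCat.ofHom_comp, CommRingCat.ofHom_hom, Spec.map_comp, Category.assoc, Category.assoc,
      Scheme.Hom.SpecMap_residueFieldMap_fromSpecResidueField]
  letI : Algebra (AlgebraicClosure (S.residueField (f.base s'))) (AlgebraicClosure (S'.residueField s')) :=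
    ι'.toAlgebra
  obtain ⟨hGa, hGs, -, -⟩ := hG.2.2 (f.base s')
  obtain ⟨hGa', hGs', -, -⟩ := hG'.2.2 (f.base s')
  exact Groth.Reductive2.nonempty_iso_of_bc (Ω := AlgebraicClosure (S'.residueField s')) _ _
    ⟨bcTwo _ _ _ hpt G ≪≫ (bcTwo (Red.geomPt s') f _ rfl G).symm ≪≫ bcIso (Red.geomPt s') w ≪≫
      bcTwo (Red.geomPt s') f _ rfl G' ≪≫ (bcTwo _ _ _ hpt G').symm⟩

end Groth.Agent.S3014
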