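import Groth.Statements.S3015
import Groth.Agent.GrpschSep.HomogeneousFibre

set_option autoImplicit false
universe u
open CategoryTheory MonoidalCategory CartesianMonoidalCategory MonObj GrpObj AlgebraicGeometry TensorProduct
open SGA3

namespace Groth.Agent.S3015

/-- Let A be a local artinian ring, G a group scheme over A, and U, V dense open subsets of G. Then U ·
V, the image of U ×_A V under the multiplication, is the whole underlying space of G: every point of
G is the product of a point of G ×_A G whose two projections lie in U and V. -/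
theorem result (A : Type u) [CommRing A] [IsArtinianRing A] [IsLocalRing A]
    (G : Over (Spec (CommRingCat.of A))) [GrpObj G] (U V : G.left.Opens)
    (hU : Dense (U : Set G.left)) (hV : Dense (V : Set G.left)) (g : G.left) :
    ∃ z : ↥(G ⊗ G).left, (fst G G).left.base z ∈ U ∧ (snd G G).left.base z ∈ V ∧ μ[G].left.base z = g := by
  let K := AlgebraicClosure (G.left.residueField g)
  let P : Spec (CommRingCat.of K) ⟶ G.left :=
    Spec.map (CommRingCat.ofHom (algebraMap (G.left.residueField g) K)) ≫ G.left.fromSpecResidueField g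
  let t : Spec (CommRingCat.of K) ⟶ Spec (CommRingCat.of A) := P ≫ G.hom
  let gT : Over.mk t ⟶ G := Over.homMk P rfl
  let s : Spec (CommRingCat.of A) := t (IsLocalRing.closedPoint K)
  obtain ⟨φ, hφ⟩ : ∃ σ : Spec (CommRingCat.of K) ⟶ Spec ((Spec (CommRingCat.of A)).residueField s),
      σ ≫ (Spec (CommRingCat.of A)).fromSpecResidueField s = t :=
    ⟨Spec.map (Scheme.descResidueField (Scheme.stalkClosedPointTo t)),
      Scheme.descResidueField_stalkClosedPointTo_fromSpecResidueField _ _ _⟩
  obtain ⟨q, hq, -, -, hqo⟩ := Groth.GrpschSep.exists_toFibre G t s φ hφ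
  haveI : Subsingleton ↥(Spec (CommRingCat.of A)) := inferInstanceAs (Subsingleton (PrimeSpectrum A))
  have hι : IsOpenMap (G.hom.fiberι s) :=
    (G.hom.fiberι s).isEmbedding.isOpenEmbedding_of_surjective (fun z => by
      have : z ∈ Set.range (G.hom.fiberι s) := by
        rw [Scheme.Hom.range_fiberι]; exact Subsingleton.elim (G.hom z) s
      exact this) |>.isOpenMap
  have hfst : IsOpenMap (fst G (Over.mk t)).left := by
    rw [← hq]
    exact hι.comp q.isOpenMap
  let b : G ⊗ Over.mk t ⟶ G := (fst _ _)⁻¹ * (snd _ _ ≫ gT)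
  let L : G ⊗ Over.mk t ≅ G ⊗ Over.mk t :=
    { hom := lift b (snd _ _)
      inv := lift ((snd _ _ ≫ gT) * (fst _ _)⁻¹) (snd _ _)
      hom_inv_id := by
        apply CartesianMonoidalCategory.hom_ext <;> simp [b, MonObj.comp_mul, GrpObj.comp_inv]
      inv_hom_id := by
        apply CartesianMonoidalCategory.hom_ext <;> simp [b, MonObj.comp_mul, GrpObj.comp_inv] }
  haveI : IsIso L.hom.left := ((Over.forget _).mapIso L).isIso_hom
  have hb : b = L.hom ≫ fst _ _ := (lift_fst _ _).symm
  have hbo : IsOpenMap b.left := by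
    rw [hb, Over.comp_left]
    exact hfst.comp L.hom.left.isOpenEmbedding.isOpenMap
  obtain ⟨w, hwU, hwV⟩ := (hV.preimage hbo).inter_open_nonempty _
    (U.2.preimage (fst G (Over.mk t)).left.continuous) (by
      haveI : Nonempty (G ⊗ Over.mk t).left :=
        ⟨(lift gT (𝟙 _)).left (IsLocalRing.closedPoint K)⟩
      exact (hU.preimage hfst).nonempty)
  let y : G ⊗ Over.mk t ⟶ G ⊗ G := lift (fst _ _) b
  refine ⟨y.left w, ?_, ?_, ?_⟩
  · rw [← Scheme.Hom.comp_apply, ← Over.comp_left, lift_fst]; exact hwU
  · rw [← Scheme.Hom.comp_apply, ← Over.comp_left, lift_snd]; exact hwV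
  · have h : y ≫ μ[G] = snd _ _ ≫ gT := by
      rw [show y ≫ μ[G] = fst _ _ * b from rfl]; simp [b]
    rw [← Scheme.Hom.comp_apply, ← Over.comp_left, h, Over.comp_left, Scheme.Hom.comp_apply]
    exact Scheme.fromSpecResidueField_apply g _

end Groth.Agent.S3015
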