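import Groth.Statements.S3016
import Groth.Agent.ArtinQuot.Image

set_option autoImplicit false
universe u
open CategoryTheory MonoidalCategory CartesianMonoidalCategory MonObj GrpObj AlgebraicGeometry TensorProduct
open SGA3

namespace Groth.Agent.S3016

/-- Let A be a local artinian ring and u : G → H a quasi-compact homomorphism between group schemes
locally of finite type over A. Then the image u(G) is a closed subset of H, and dim G = dim u(G) +
dim Ker u (dimensions of the underlying topological spaces; Ker u is the fibre of u over the unit
section). -/
theorem result (A : Type u) [CommRing A] [IsArtinianRing A] [IsLocalRing A]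
    (G H : Over (Spec (CommRingCat.of A))) [GrpObj G] [GrpObj H] [LocallyOfFiniteType G.hom] [LocallyOfFiniteType H.hom]
    (u : G ⟶ H) [IsMonHom u] [QuasiCompact u.left] :
    IsClosed (Set.range u.left.base) ∧
    topologicalKrullDim G.left =
      topologicalKrullDim (Set.range u.left.base) +
        topologicalKrullDim ↥(Limits.pullback u.left (η[H] : 𝟙_ (Over (Spec (CommRingCat.of A))) ⟶ H).left) := by
  exact Groth.ArtinQuot.image_dim_artin u

end Groth.Agent.S3016
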