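import Groth.Statements.S3021
import Groth.Agent.Sga3.ComodProj
open Groth.Sga3

set_option autoImplicit false
universe u
open CategoryTheory MonoidalCategory CartesianMonoidalCategory MonObj GrpObj AlgebraicGeometry TensorProduct
open SGA3

namespace Groth.Agent.S3021

/-- Let A be a commutative ring, C an A-coalgebra which is projective as an A-module, V a C-comodule and
M an A-submodule of V. Then there is a smallest subcomodule of V containing M, and it is finitely
generated over A when M is. -/
theorem result (A : Type u) [CommRing A] (C : Type u) [AddCommGroup C] [Module A C]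
    [Coalgebra A C] [Module.Projective A C] (V : Type u) [AddCommGroup V] [Module A V] [HopfRep.Comod A C V]
    (M : Submodule A V) :
    ∃ W : Submodule A V, HopfRep.IsSubcomod (k := A) (A := C) W ∧ M ≤ W ∧
      (∀ W' : Submodule A V, HopfRep.IsSubcomod (k := A) (A := C) W' → M ≤ W' → W ≤ W') ∧
      (M.FG → W.FG) := by
  let g : V → Submodule A V := fun x =>
    LinearMap.range (Groth.ComodLib.sliceL C (HopfRep.Comod.coact (k := A) (A := C) x))
  have hg_self : ∀ x, x ∈ g x := fun x =>
    ⟨Coalgebra.counit (R := A) (A := C), Groth.ComodLib.op_counit x⟩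
  refine ⟨⨆ x : M, g x.1, ComodProj.isSubcomod_iSup _ fun x => ComodProj.isSubcomod_gen _,
    fun x hx => Submodule.mem_iSup_of_mem (⟨x, hx⟩ : M) (hg_self x), fun W' hW' hMW' => ?_,
    fun hM => ?_⟩
  · refine iSup_le fun x => ?_
    rintro _ ⟨φ, rfl⟩
    exact (ComodProj.isSubcomod_iff W').1 hW' φ x.1 (hMW' x.2)
  · obtain ⟨s, hs⟩ := hM
    have hU : HopfRep.IsSubcomod (k := A) (A := C) (⨆ x : {x // x ∈ s}, g x.1) :=
      ComodProj.isSubcomod_iSup _ fun x => ComodProj.isSubcomod_gen _
    have hMU : M ≤ ⨆ x : {x // x ∈ s}, g x.1 := by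
      rw [← hs, Submodule.span_le]
      exact fun x hx => Submodule.mem_iSup_of_mem (⟨x, hx⟩ : {x // x ∈ s}) (hg_self x)
    have heq : (⨆ x : M, g x.1) = ⨆ x : {x // x ∈ s}, g x.1 := by
      refine le_antisymm (iSup_le fun x => ?_) (iSup_le fun x => ?_)
      · rintro _ ⟨φ, rfl⟩
        exact (ComodProj.isSubcomod_iff _).1 hU φ x.1 (hMU x.2)
      · exact le_iSup (fun y : M => g y.1) ⟨x.1, hs ▸ Submodule.subset_span x.2⟩
    rw [heq]
    exact Submodule.fg_iSup _ fun x => ComodProj.fg_range_sliceL _

end Groth.Agent.S3021
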