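import Groth.Statements.S3024
import Groth.Agent.Agf.ImageSubgroup
import Groth.Agent.Flatmor4.ImageDom

set_option autoImplicit false
universe u
open CategoryTheory MonoidalCategory CartesianMonoidalCategory MonObj GrpObj AlgebraicGeometry TensorProduct
open SGA3

namespace Groth.Agent.S3024

/-- Let f : H → G be a quasi-compact homomorphism of group schemes over a field k. Then f factors as a
homomorphism f' : H → H' followed by a homomorphism i : H' → G which is a closed immersion (H' is
the schematic image of f, a closed subgroup scheme of G), with f' schematically dominant,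
quasi-compact and surjective. -/
theorem result (k : Type u) [Field k] (H G : Over (Spec (CommRingCat.of k))) [GrpObj H] [GrpObj G]
    (f : H ⟶ G) [IsMonHom f] [QuasiCompact f.left] :
    ∃ (H' : Over (Spec (CommRingCat.of k))) (_ : GrpObj H') (i : H' ⟶ G) (f' : H ⟶ H'),
      IsMonHom i ∧ IsMonHom f' ∧ f' ≫ i = f ∧ IsClosedImmersion i.left ∧
      f'.left.ker = ⊥ ∧ QuasiCompact f'.left ∧ Surjective f'.left := by
  have : IsSchemeTheoreticallyDominant f.left.toImage := Groth.Flatmor4.isSchemeTheoreticallyDominant_toImage f.left
  let K : Over (Spec (CommRingCat.of k)) := Over.mk (f.left.imageι ≫ G.hom)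
  let i : K ⟶ G := Over.homMk f.left.imageι rfl
  let g : H ⟶ K := Over.homMk f.left.toImage (by
    show f.left.toImage ≫ f.left.imageι ≫ G.hom = H.hom
    rw [Scheme.Hom.toImage_imageι_assoc, Over.w])
  have hgi : g ≫ i = f := Over.OverMorphism.ext f.left.toImage_imageι
  have : IsClosedImmersion i.left := inferInstanceAs (IsClosedImmersion f.left.imageι)
  have : IsSchemeTheoreticallyDominant g.left := ‹IsSchemeTheoreticallyDominant f.left.toImage›
  have : QuasiCompact (g.left ≫ i.left) := by rw [← Over.comp_left, hgi]; infer_instance
  have : QuasiCompact g.left := QuasiCompact.of_comp g.left i.left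
  obtain ⟨inst, hi, hg⟩ := Groth.Agf.exists_grpObj_image f i g hgi
  exact ⟨K, inst, i, g, hi, hg, hgi, inferInstance, g.left.ker_eq_bot, inferInstance,
    Groth.Agf.surjective_of_dominant g⟩

end Groth.Agent.S3024
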