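import Groth.Statements.S3026
import Groth.Agent.AlgGrp1.NilpotentSection
import Groth.Agent.AlgGrp1.KPoints
import Groth.Agent.S19702

set_option autoImplicit false
universe u
open CategoryTheory MonoidalCategory CartesianMonoidalCategory MonObj GrpObj AlgebraicGeometry TensorProduct
open SGA3

namespace Groth.Agent.S3026

open Groth.AlgGrp1 Groth.AlgGrp1.Nil

attribute [local instance] Groth.AlgGrp1.Nil.algU

/-- An antiaffine algebraic group over an algebraically closed field is reduced. -/
theorem isReduced_of_hasConst {k : Type u} [Field k] [IsAlgClosed k]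
    (N : Over (Spec (CommRingCat.of k))) [GrpObj N] [LocallyOfFiniteType N.hom] [QuasiCompact N.hom]
    (hO : Function.Bijective ((Scheme.ΓSpecIso (CommRingCat.of k)).inv ≫ N.hom.appTop).hom) :
    IsReduced N.left := by
  have := isLocallyNoetherian_left N
  have : CompactSpace N.left := QuasiCompact.compactSpace_of_compactSpace N.hom
  -- the nilradical is nilpotent, with a uniform exponent
  obtain ⟨M, hM⟩ : ∃ M, ∀ U : N.left.affineOpens, nilradical Γ(N.left, U.1) ^ M = ⊥ := by
    have hnil : ∀ U : N.left.affineOpens, ∃ n, nilradical Γ(N.left, U.1) ^ n = ⊥ := fun U => by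
      have := IsLocallyNoetherian.component_noetherian U
      exact IsNoetherianRing.isNilpotent_nilradical _
    choose n hn using hnil
    obtain ⟨t, ht⟩ := isCompact_univ.elim_finite_subcover (fun U : N.left.affineOpens => (U.1 : Set N.left))
      (fun U => U.1.2) (fun x _ => by
        obtain ⟨W, hW, hx, -⟩ := exists_isAffineOpen_mem_and_subset (x := x) (U := (⊤ : N.left.Opens)) trivial
        exact Set.mem_iUnion.2 ⟨⟨W, hW⟩, hx⟩)
    refine ⟨t.sup n, fun U => eq_bot_iff.2 fun f hf => Ideal.mem_bot.2 ?_⟩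
    refine TopCat.Sheaf.eq_of_locally_eq' N.left.sheaf
      (fun W : {W : N.left.affineOpens // W.1 ≤ U.1 ∧
        ∃ U' ∈ t, ∃ g : Γ(N.left, U'.1), W.1 = N.left.basicOpen g} => W.1.1)
      U.1 (fun W => homOfLE W.2.1) ?_ f 0 fun W => ?_
    · intro z hz
      obtain ⟨U', hU', hzU'⟩ : ∃ U' ∈ t, z ∈ U'.1 := by simpa using ht (Set.mem_univ z)
      obtain ⟨g, g', hgg, hzg⟩ := exists_basicOpen_le_affine_inter U.2 U'.2 z ⟨hz, hzU'⟩
      exact TopologicalSpace.Opens.mem_iSup.2
        ⟨⟨⟨_, U.2.basicOpen g⟩, N.left.basicOpen_le g, U', hU', g', hgg⟩, hzg⟩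
    · obtain ⟨⟨W, hW⟩, hle, U', hU', g, hg⟩ := W
      have hle' : W ≤ U'.1 := (le_of_eq hg).trans (N.left.basicOpen_le g)
      let : Algebra Γ(N.left, U'.1) Γ(N.left, W) := (res (k := k) hle').toRingHom.toAlgebra
      have : IsLocalization.Away g Γ(N.left, W) := U'.2.isLocalization_of_eq_basicOpen g (homOfLE hle') hg
      have h0 : nilradical Γ(N.left, W) ^ t.sup n = ⊥ := map_pow_eq_zero (Submonoid.powers g)
        (le_bot_iff.1 ((Ideal.pow_le_pow_right (Finset.le_sup hU')).trans (hn U').le))
      have h1 := map_mem_nilradical_pow (res (k := k) hle).toRingHom hf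
      rw [h0, Ideal.mem_bot] at h1
      exact h1.trans (map_zero _).symm
  classical
  have hex : ∃ n, ∀ U : N.left.affineOpens, nilradical Γ(N.left, U.1) ^ n = ⊥ := ⟨M, hM⟩
  by_cases hone : Nat.find hex ≤ 1
  · have hred : ∀ U : N.left.affineOpens, _root_.IsReduced Γ(N.left, U.1) := fun U => by
      have h1 : nilradical Γ(N.left, U.1) ^ 1 = ⊥ :=
        le_bot_iff.1 ((Ideal.pow_le_pow_right hone).trans (Nat.find_spec hex U).le)
      exact ⟨fun x hx => Ideal.mem_bot.1 (h1 ▸ (pow_one (nilradical Γ(N.left, U.1))).symm ▸ mem_nilradical.2 hx)⟩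
    have : ∀ x, _root_.IsReduced (N.left.presheaf.stalk x) := fun x => by
      obtain ⟨W, hW, hx, -⟩ := exists_isAffineOpen_mem_and_subset (x := x) (U := (⊤ : N.left.Opens)) trivial
      let := TopCat.Presheaf.algebra_section_stalk N.left.presheaf (⟨x, hx⟩ : W)
      have := hW.isLocalization_stalk ⟨x, hx⟩
      exact isReduced_localizationPreserves (hW.primeIdealOf ⟨x, hx⟩).asIdeal.primeCompl _ (hred ⟨W, hW⟩)
    exact isReduced_of_isReduced_stalk N.left
  · exfalso
    obtain ⟨m, hm⟩ : ∃ m, Nat.find hex = m + 1 := ⟨Nat.find hex - 1, by omega⟩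
    have hm1 : ∀ U : N.left.affineOpens, nilradical Γ(N.left, U.1) ^ (m + 1) = ⊥ :=
      hm ▸ Nat.find_spec hex
    obtain ⟨V, hV⟩ := not_forall.1 (Nat.find_min hex (m := m) (by omega))
    apply hV
    have hne : (V.1 : Set N.left).Nonempty := by
      refine Set.nonempty_iff_ne_empty.2 fun h => hV ?_
      have hV0 : V.1 = ⊥ := TopologicalSpace.Opens.ext h
      have : Subsingleton Γ(N.left, V.1) := by rw [hV0]; infer_instance
      exact Subsingleton.elim _ _
    obtain ⟨c₀, hc₀⟩ := exists_point_mem_open (K := k) (X := N) (V.1 : Set N.left) V.1.2 hne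
    let j : 𝟙_ (Over (Spec (CommRingCat.of k))) ⟶ specAlg k k := Over.homMk (𝟙 _) (by
      show 𝟙 _ ≫ Spec.map (CommRingCat.ofHom (algebraMap k k)) = 𝟙 _
      rw [Algebra.algebraMap_self, CommRingCat.ofHom_id, Spec.map_id, Category.id_comp])
    let c := j ≫ c₀
    have hc : c.left.base (IsLocalRing.closedPoint k) ∈ V.1 := hc₀
    refine pow_eq_bot_of_vals_eq_zero V.2 hc fun f hf x hx => ?_
    obtain ⟨σ, hσ⟩ := exists_global hm1 V.2 hc hf
    have hx' : x = res (k := k) (le_top : V.1 ≤ ⊤) σ := val_unique V.2 hf V.2 (hm1 V) hx (hσ V)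
    have hm0 : m ≠ 0 := by omega
    obtain ⟨e, υ, -, -, hval⟩ := hσ V
    have hnil : IsNilpotent (res (k := k) (le_top : V.1 ≤ ⊤) σ) := by
      rw [← hval]
      exact (mem_nilradical.1 (Ideal.pow_le_self hm0 hf)).map υ
    obtain ⟨a, rfl⟩ := hO.2 σ
    have e0 : res (k := k) (le_top : V.1 ≤ ⊤) (((Scheme.ΓSpecIso (CommRingCat.of k)).inv ≫ N.hom.appTop).hom a) =
        algebraMap k Γ(N.left, V.1) a := by
      show ((Scheme.ΓSpecIso (CommRingCat.of k)).inv ≫ N.hom.appTop ≫ N.left.presheaf.map (homOfLE le_top).op).hom a = _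
      erw [Scheme.Hom.appTop, Scheme.Hom.app_eq_appLE, Scheme.Hom.appLE_map]
      rfl
    rw [e0] at hx' hnil
    have : Nonempty V.1.toScheme := ⟨⟨_, hc⟩⟩
    have : Nontrivial Γ(N.left, V.1) := inferInstance
    have ha : IsNilpotent a := (IsNilpotent.map_iff (algebraMap k Γ(N.left, V.1)).injective).1 hnil
    rw [hx', ha.eq_zero, map_zero]

/-- Let N be a group scheme of finite type over a field k such that the structure map identifies k with
the ring of global functions of N. Then N is smooth over k. (The same lemma also gives connectedness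
and commutativity.) -/
theorem result (k : Type u) [Field k] (N : Over (Spec (CommRingCat.of k))) [GrpObj N]
    [LocallyOfFiniteType N.hom] [QuasiCompact N.hom]
    (hO : Function.Bijective ((Scheme.ΓSpecIso (CommRingCat.of k)).inv ≫ N.hom.appTop).hom) :
    Smooth N.hom := by
  let g := Spec.map (CommRingCat.ofHom (algebraMap k (AlgebraicClosure k)))
  have : LocallyOfFiniteType (Red.bc g N).hom := inferInstanceAs (LocallyOfFiniteType (Limits.pullback.snd N.hom g))
  have : QuasiCompact (Red.bc g N).hom := inferInstanceAs (QuasiCompact (Limits.pullback.snd N.hom g))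
  have hred := isReduced_of_hasConst (Red.bc g N) ((Groth.Agent.S19702.result k (AlgebraicClosure k) N).1 hO)
  let : GrpObj (Over.mk (Red.bc g N).hom) := (inferInstance : GrpObj (Red.bc g N))
  have hs : Smooth (Red.bc g N).hom := Groth.GrpschAbsch.smooth_of_perfectField_of_isReduced (Red.bc g N).hom
  exact MorphismProperty.of_pullback_snd_of_descendsAlong (P := @Smooth)
    (Q := @Surjective ⊓ @Flat ⊓ @QuasiCompact) (g := g) ⟨⟨inferInstance, inferInstance⟩, inferInstance⟩ hs

end Groth.Agent.S3026
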