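import Groth.Statements.S3027
import Groth.Agent.AlgGrp1.CentreQuotient

set_option autoImplicit false
universe u
open CategoryTheory MonoidalCategory CartesianMonoidalCategory MonObj GrpObj AlgebraicGeometry TensorProduct
open SGA3

namespace Groth.Agent.S3027

/-- Let G be a connected group scheme of finite type over a field k. Then the centre of G (the
subfunctor of points g such that g commutes with every point of G after every base change) is
represented by a closed subgroup scheme Z of G, and the quotient G/Z is an affine k-group: there are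
an affine group scheme Q and a faithfully flat homomorphism q : G → Q with kernel Z. -/
theorem result (k : Type u) [Field k] (G : Over (Spec (CommRingCat.of k))) [GrpObj G]
    [LocallyOfFiniteType G.hom] [QuasiCompact G.hom] [ConnectedSpace G.left] :
    ∃ (Z : Over (Spec (CommRingCat.of k))) (_ : GrpObj Z) (i : Z ⟶ G), IsMonHom i ∧ IsClosedImmersion i.left ∧
      (∀ (T : Over (Spec (CommRingCat.of k))) (g : T ⟶ G),
        (∃ z : T ⟶ Z, z ≫ i = g) ↔ ∀ (T' : Over (Spec (CommRingCat.of k))) (t : T' ⟶ T) (h : T' ⟶ G), (t ≫ g) * h = h * (t ≫ g)) ∧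
      ∃ (Q : Over (Spec (CommRingCat.of k))) (_ : GrpObj Q) (q : G ⟶ Q), IsMonHom q ∧ IsAffine Q.left ∧ LocallyOfFiniteType Q.hom ∧
        Flat q.left ∧ Surjective q.left ∧ AlgGrp.IsKernel i q := by
  obtain ⟨Z, hZg, i, hm, hc, -, hpts, Q, hQg, q, hq, ha, hl, -, hf, hs, hk⟩ :=
    Groth.AlgGrp1.exists_centre_quotient G
  exact ⟨Z, hZg, i, hm, hc, hpts, Q, hQg, q, hq, ha, hl, hf, hs, hk⟩

end Groth.Agent.S3027
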