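import Groth.Statements.S9142
import Groth.Agent.Syntomic.CIField
import Groth.Agent.Gorenstein.LCI
import Groth.Agent.GrMod.Veronese.Gorenstein

set_option autoImplicit false
universe u
open Synt

namespace Groth.Agent.S9142

/-- A local complete intersection over a field is a Cohen–Macaulay ring. -/
theorem result (k S : Type u) [Field k] [CommRing S] [Algebra k S]
    (h : Synt.IsLCIOver k S) : LocCoh.IsCohenMacaulayRing S := by
  obtain ⟨-, n, f, hf, hI⟩ := Groth.Syntomic.isLCIOver_iff_isLCI.mp h
  have : LocCoh.IsGorensteinRing k :=
    { isGorensteinLocalRing_localization := fun p _ => (GrothGoren.isGorenstein_iff _).mpr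
        (GrothGoren.exists_injLT_of_regular _ (Localization.AtPrime p) le_rfl) }
  have := GrothGoren.isGorensteinRing_of_presentation f hf hI
  exact GrothGr.isCohenMacaulayRing_of_gorenstein S

end Groth.Agent.S9142
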