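import Groth.Statements.S3029
import Groth.Agent.S9142
import Groth.Agent.GrpLCI.Group
import Groth.Agent.PropsBasic.CMLocalize

set_option autoImplicit false
universe u
open CategoryTheory MonoidalCategory CartesianMonoidalCategory MonObj GrpObj AlgebraicGeometry TensorProduct
open SGA3

namespace Groth.Agent.S3029

/-- Let G be a group scheme locally of finite type over a field k and x a point of G. Then the local
ring of G at x is Cohen–Macaulay. (This is the case of a base field; the published statement treats
flat groups over a local Artinian ring.) -/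
theorem result (k : Type u) [Field k] (G : Over (Spec (CommRingCat.of k))) [GrpObj G]
    [LocallyOfFiniteType G.hom] (x : G.left) :
    LocCoh.IsCohenMacaulayLocalRing (G.left.presheaf.stalk x) := by
  obtain ⟨B, _, _, u, hu, hB, ⟨y, rfl⟩⟩ := Groth.GrpLCI.exists_chart x
  let e : ∀ z, G.left.presheaf.stalk (u.left z) ≃+* Localization.AtPrime z.asIdeal := fun z =>
    ((asIso (u.left.stalkMap z)) ≪≫ Spec.stalkIso (CommRingCat.of B) z).commRingCatIsoToRingEquiv
  have hlci : Synt.IsLCIOver k B := Groth.Syntomic.isLCIOver_iff_isCompleteIntersection.mpr fun Q hQ =>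
    Groth.CI.isCompleteIntersection_of_ringEquiv (e ⟨Q, hQ⟩)
      (Groth.GrpLCI.isCompleteIntersection_stalk G _)
  haveI := Groth.Agent.S9142.result k B hlci
  exact Groth.Ega4b.isCohenMacaulayLocalRing_of_ringEquiv (e y).symm
    (LocCoh.IsCohenMacaulayRing.isCohenMacaulayLocalRing_localization y.asIdeal)

end Groth.Agent.S3029
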