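import Groth.Statements.S3031
import Groth.Agent.GenSub.Word

set_option autoImplicit false
universe u
open CategoryTheory MonoidalCategory CartesianMonoidalCategory MonObj GrpObj AlgebraicGeometry TensorProduct
open SGA3

namespace Groth.Agent.S3031

/-- With X connected and possessing a rational point over the identity, a case of 'geometrically
connected with e ∈ f(X)': let G be a group scheme over a field k, X a connected, geometrically
reduced k-scheme, x a k-point of X and f : X → G a k-morphism with f(x) the identity. Then the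
smallest closed subgroup scheme of G through which f factors is connected. -/
theorem result (k : Type u) [Field k] (G X : Over (Spec (CommRingCat.of k))) [GrpObj G]
    [GeometricallyReduced X.hom] [ConnectedSpace X.left] (x : 𝟙_ (Over (Spec (CommRingCat.of k))) ⟶ X) (f : X ⟶ G)
    (hx : x ≫ f = η[G])
    (Γ : Over (Spec (CommRingCat.of k))) [GrpObj Γ] (i : Γ ⟶ G) [IsMonHom i] [IsClosedImmersion i.left]
    (hf : ∃ f' : X ⟶ Γ, f' ≫ i = f)
    (hmin : ∀ (Γ' : Over (Spec (CommRingCat.of k))) (_ : GrpObj Γ') (i' : Γ' ⟶ G), IsMonHom i' → IsClosedImmersion i'.left →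
        (∃ f'' : X ⟶ Γ', f'' ≫ i' = f) → ∃ j : Γ ⟶ Γ', j ≫ i' = i) :
    ConnectedSpace Γ.left := by
  obtain ⟨Γ₀, _, i₀, d, _, hc, _, hd, hdense, hf₀, hmin₀⟩ := Groth.GenSub.exists_generated f
  obtain ⟨j, hj⟩ := hmin Γ₀ inferInstance i₀ inferInstance hc hf₀
  obtain ⟨j', hj'⟩ := hmin₀ Γ inferInstance i inferInstance inferInstance hf
  haveI : Mono i := Over.mono_of_mono_left i
  have hjj : j ≫ j' = 𝟙 Γ := by rw [← cancel_mono i, Category.assoc, hj', hj, Category.id_comp]
  have hsurj : Function.Surjective j'.left := fun z =>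
    ⟨j.left z, congrArg (fun φ => φ.left z) hjj⟩
  haveI := Groth.GenSub.geometricallyConnected_of_point x
  have hx' : x ≫ f = 1 := by rw [hx, Hom.one_def, toUnit_unique (toUnit _) (𝟙 _), Category.id_comp]
  let pt := η[Γ₀].left (IsLocalRing.closedPoint k)
  have hpre : _root_.IsPreconnected (⋃ l, Set.range (d l).left) := by
    refine isPreconnected_iUnion ⟨pt, Set.mem_iInter.2 fun l => ?_⟩ fun l => ?_
    · obtain ⟨w, hw⟩ := Groth.GenSub.word_unit f x hx' l
      haveI : Mono i₀ := Over.mono_of_mono_left i₀
      have e : w ≫ d l = η[Γ₀] := by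
        rw [← cancel_mono i₀, Category.assoc, hd, hw, IsMonHom.one_hom, Hom.one_def,
          toUnit_unique (toUnit _) (𝟙 _), Category.id_comp]
      exact ⟨w.left (IsLocalRing.closedPoint k), congrArg (fun φ => φ.left (IsLocalRing.closedPoint k)) e⟩
    · haveI := Groth.GenSub.connectedSpace_word (X := X) l
      exact isPreconnected_range (d l).left.continuous
  have : ConnectedSpace Γ₀.left := by
    rw [connectedSpace_iff_univ, ← hdense.closure_eq]
    exact ⟨⟨pt, by rw [hdense.closure_eq]; trivial⟩, hpre.closure⟩
  exact hsurj.connectedSpace j'.left.continuous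

end Groth.Agent.S3031
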