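import Groth.Statements.S3032
import Groth.Agent.Hopf.Comod

set_option autoImplicit false
universe u
open CategoryTheory MonoidalCategory CartesianMonoidalCategory MonObj GrpObj AlgebraicGeometry TensorProduct
open SGA3

namespace Groth.Agent.S3032

/-- Let R be a Noetherian commutative ring, C an R-coalgebra which is flat as an R-module, V a
C-comodule and M a finitely generated R-submodule of V. Then M is contained in a subcomodule of V
which is finitely generated over R. -/
theorem result (R : Type u) [CommRing R] [IsNoetherianRing R] (C : Type u) [AddCommGroup C]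
    [Module R C] [Coalgebra R C] [Module.Flat R C] (V : Type u) [AddCommGroup V] [Module R V] [HopfRep.Comod R C V]
    (M : Submodule R V) (hM : M.FG) :
    ∃ W : Submodule R V, HopfRep.IsSubcomod (k := R) (A := C) W ∧ M ≤ W ∧ W.FG := by
  classical
  obtain ⟨t, ht⟩ := hM
  choose S hS using fun v : V => TensorProduct.exists_finset (HopfRep.Comod.coact (k := R) (A := C) v)
  let W₀ : Submodule R V := Submodule.span R ↑(t.biUnion fun v => (S v).image Prod.fst)
  let q : V →ₗ[R] V ⧸ W₀ := W₀.mkQ
  let f : V →ₗ[R] (V ⧸ W₀) ⊗[R] C := q.rTensor C ∘ₗ HopfRep.Comod.coact (k := R) (A := C)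
  let W : Submodule R V := LinearMap.ker f
  have hMW : M ≤ W := by
    rw [← ht, Submodule.span_le]
    intro v hv
    change q.rTensor C (HopfRep.Comod.coact (k := R) (A := C) v) = 0
    rw [hS v, map_sum]
    refine Finset.sum_eq_zero fun i hi => ?_
    rw [LinearMap.rTensor_tmul]
    have : i.1 ∈ W₀ := Submodule.subset_span (Finset.mem_coe.2
      (Finset.mem_biUnion.2 ⟨v, hv, Finset.mem_image_of_mem _ hi⟩))
    simp [q, (Submodule.Quotient.mk_eq_zero _).2 this]
  have hWW₀ : W ≤ W₀ := by
    intro v hv
    obtain ⟨y, hy⟩ := ((_root_.rTensor_exact C (LinearMap.exact_subtype_mkQ W₀)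
      W₀.mkQ_surjective) (HopfRep.Comod.coact (k := R) (A := C) v)).1 hv
    have h1 := Groth.ComodLib.op_counit (k := R) (A := C) v
    rw [Groth.ComodLib.op_apply, ← hy, Groth.ComodLib.slice_rTensor] at h1
    rw [← h1]
    exact Subtype.property _
  refine ⟨W, ?_, hMW, Submodule.FG.of_le (Submodule.fg_span (Finset.finite_toSet _)) hWW₀⟩
  intro w hw
  have hex := Module.Flat.rTensor_exact C (LinearMap.exact_subtype_ker_map f)
  refine (hex _).1 ?_
  have h0 : q.rTensor C (HopfRep.Comod.coact (k := R) (A := C) w) = 0 := hw
  apply (TensorProduct.assoc R (V ⧸ W₀) C C).injective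
  rw [map_zero]
  have e1 : ∀ z : V ⊗[R] C, TensorProduct.assoc R (V ⧸ W₀) C C (f.rTensor C z) =
      q.rTensor (C ⊗[R] C) (TensorProduct.assoc R V C C
        ((HopfRep.Comod.coact (k := R) (A := C)).rTensor C z)) := by
    intro z
    induction z using TensorProduct.induction_on with
    | zero => simp
    | tmul a b =>
      simp only [LinearMap.rTensor_tmul, f, LinearMap.comp_apply]
      induction HopfRep.Comod.coact (k := R) (A := C) a using TensorProduct.induction_on with
      | zero => simp
      | tmul x y => simp
      | add x y hx hy => simp only [map_add, TensorProduct.add_tmul, hx, hy]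
    | add x y hx hy => simp only [map_add, hx, hy]
  have h := LinearMap.congr_fun (HopfRep.Comod.coassoc (k := R) (A := C) (V := V)) w
  simp only [LinearMap.comp_apply, LinearEquiv.coe_coe] at h
  rw [e1, h, ← LinearMap.comp_apply, LinearMap.rTensor_comp_lTensor, ← LinearMap.lTensor_comp_rTensor,
    LinearMap.comp_apply, h0, map_zero]

end Groth.Agent.S3032
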