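import Groth.Statements.S3033
import Groth.Agent.ArtinQuot.Image

set_option autoImplicit false
universe u
open CategoryTheory MonoidalCategory CartesianMonoidalCategory MonObj GrpObj AlgebraicGeometry TensorProduct
open SGA3

namespace Groth.Agent.S3033

/-- Let A be a local artinian ring and G a group scheme locally of finite type over A acting on a
nonempty A-scheme X locally of finite type, such that the morphism G ×_A X → X ×_A X, (g, x) ↦ (g·x,
x), is surjective. Then all connected components of X have the same dimension. The published
statement also asserts that the connected components are irreducible; that is not asserted here (it
is stated separately). -/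
theorem result (A : Type u) [CommRing A] [IsArtinianRing A] [IsLocalRing A]
    (G X : Over (Spec (CommRingCat.of A))) [GrpObj G] [LocallyOfFiniteType G.hom] [LocallyOfFiniteType X.hom] [Nonempty X.left]
    (a : AlgGrp.Action G X) (hΦ : Surjective (lift a.act (snd G X)).left) (x y : X.left) :
    topologicalKrullDim ↥(connectedComponent x) = topologicalKrullDim ↥(connectedComponent y) := by
  haveI := hΦ
  exact Groth.ArtinQuot.dim_component_artin a x y

end Groth.Agent.S3033
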