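import Groth.Statements.S3037
import Groth.Agent.GrpschLoci.FiniteHomLft
import Groth.Agent.GrpschLoci.SpecThickening
import Groth.Agent.Flatmor4.ThickFT
import Groth.Agent.FlatMor2.Deform

set_option autoImplicit false
universe u
open CategoryTheory MonoidalCategory CartesianMonoidalCategory MonObj GrpObj AlgebraicGeometry TensorProduct
open SGA3

namespace Groth.Agent.S3037

/-- (iii) ⟺ (v): let A be a local artinian ring and u : G → H a quasi-compact homomorphism between group
schemes locally of finite type over A. Then u is finite if and only if the kernel of u (the fibre of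
u over the unit section) is a discrete space. -/
theorem result (A : Type u) [CommRing A] [IsArtinianRing A] [IsLocalRing A]
    (G H : Over (Spec (CommRingCat.of A))) [GrpObj G] [GrpObj H] [LocallyOfFiniteType G.hom] [LocallyOfFiniteType H.hom]
    (u : G ⟶ H) [IsMonHom u] [QuasiCompact u.left] :
    IsFinite u.left ↔ DiscreteTopology ↥(Limits.pullback u.left (η[H] : 𝟙_ (Over (Spec (CommRingCat.of A))) ⟶ H).left) := by
  haveI : Subsingleton ↥(Spec (CommRingCat.of A)) := inferInstanceAs (Subsingleton (PrimeSpectrum A))
  let eH : H.left := η[H].left (IsLocalRing.closedPoint A)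
  haveI : IsImmersion (η[H] : 𝟙_ (Over (Spec (CommRingCat.of A))) ⟶ H).left := by
    haveI : IsImmersion (η[H].left ≫ H.hom) := by
      rw [Over.w η[H]]; show IsImmersion (𝟙 _); infer_instance
    exact IsImmersion.of_comp η[H].left H.hom
  have hfst : Set.range (Limits.pullback.fst u.left η[H].left) = u.left ⁻¹' {eH} := by
    rw [Scheme.Pullback.range_fst]
    congr 1
    refine Set.Subset.antisymm ?_ (fun _ hy => ⟨IsLocalRing.closedPoint A, hy.symm⟩)
    rintro _ ⟨p, rfl⟩
    exact congrArg η[H].left (Subsingleton.elim (α := ↥(Spec (CommRingCat.of A))) _ _)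
  haveI : LocallyOfFiniteType u.left :=
    haveI : LocallyOfFiniteType (u.left ≫ H.hom) := by rw [Over.w]; infer_instance
    locallyOfFiniteType_of_comp u.left H.hom
  constructor
  · intro hfin
    haveI : DiscreteTopology ↥(u.left ⁻¹' {eH}) :=
      isDiscrete_iff_discreteTopology.mp (u.left.isDiscrete_preimage_singleton eH)
    haveI : DiscreteTopology ↥(Set.range (Limits.pullback.fst u.left η[H].left)) := by rw [hfst]; infer_instance
    exact (Limits.pullback.fst u.left η[H].left).isEmbedding.toHomeomorph.discreteTopology_iff.mpr inferInstance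
  intro hdisc
  have hds : _root_.IsDiscrete (u.left ⁻¹' {eH}) := by
    rw [← hfst, isDiscrete_iff_discreteTopology]
    exact (Limits.pullback.fst u.left η[H].left).isEmbedding.toHomeomorph.discreteTopology_iff.mp hdisc
  let i : Spec (CommRingCat.of (IsLocalRing.ResidueField A)) ⟶ Spec (CommRingCat.of A) :=
    Spec.map (CommRingCat.ofHom (IsLocalRing.residue A))
  have hi : MoreMor.IsFiniteOrderThickening i := by
    refine Groth.GrpschLoci.isFiniteOrderThickening_specMap _ IsLocalRing.residue_surjective ?_
    have e : RingHom.ker (IsLocalRing.residue A) = IsLocalRing.maximalIdeal A := Ideal.mk_ker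
    rw [CommRingCat.hom_ofHom, e]
    exact IsArtinianRing.isNilpotent_jacobson_bot (R := A) |> fun h => by
      rwa [IsLocalRing.jacobson_eq_maximalIdeal ⊥ bot_ne_top] at h
  let u' : Red.bc i G ⟶ Red.bc i H := (Over.pullback i).map u
  haveI : IsMonHom u' := inferInstanceAs (IsMonHom ((Over.pullback i).map u))
  haveI : LocallyOfFiniteType (Red.bc i G).hom :=
    MorphismProperty.pullback_snd (P := @LocallyOfFiniteType) _ _ ‹LocallyOfFiniteType G.hom›
  haveI : LocallyOfFiniteType (Red.bc i H).hom :=
    MorphismProperty.pullback_snd (P := @LocallyOfFiniteType) _ _ ‹LocallyOfFiniteType H.hom›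
  have sq := Groth.GrpschAbsch.FibreFlat.isPullback_map i u
  have sqG : IsPullback (Limits.pullback.fst G.hom i) (Limits.pullback.snd G.hom i) G.hom i := .of_hasPullback _ _
  have sqH : IsPullback (Limits.pullback.fst H.hom i) (Limits.pullback.snd H.hom i) H.hom i := .of_hasPullback _ _
  have hiG := Groth.FlatMor2.isFiniteOrderThickening_of_isPullback hi sqG
  have hiH := Groth.FlatMor2.isFiniteOrderThickening_of_isPullback hi sqH
  haveI := hiG.1.1
  haveI := hiH.1.1
  haveI : QuasiCompact u'.left := MorphismProperty.of_isPullback (P := @QuasiCompact) sq ‹_›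
  haveI : LocallyQuasiFinite u'.left := by
    refine Groth.GrpschLoci.lqf_of_discrete_kernel u' ?_
    refine hds.preimage' (Limits.pullback.fst G.hom i).continuous.continuousOn ?_ |>.mono ?_
    · intro y
      exact (Set.subsingleton_singleton.preimage (Limits.pullback.fst G.hom i).isEmbedding.injective).isDiscrete
    · intro z hz
      show u.left (Limits.pullback.fst G.hom i z) = eH
      have hw : u.left (Limits.pullback.fst G.hom i z) = Limits.pullback.fst H.hom i (u'.left z) :=
        congr(($(sq.w)).base z)
      rw [hw]
      have hz' : u'.left z = η[Red.bc i H].left (IsLocalRing.closedPoint _) := hz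
      rw [hz']
      have hp : H.hom (Limits.pullback.fst H.hom i (η[Red.bc i H].left (IsLocalRing.closedPoint _))) =
          IsLocalRing.closedPoint A := Subsingleton.elim _ _
      have hone : η[Red.bc i H].left ≫ Limits.pullback.fst H.hom i = i ≫ η[H].left := by
        rw [Functor.obj.η_def, Over.comp_left, Category.assoc]
        show _ ≫ ((Over.pullback i).map η[H]).left ≫ Limits.pullback.fst H.hom i = _
        rw [← (Groth.GrpschAbsch.FibreFlat.isPullback_map i η[H]).w, ← Category.assoc]
        congr 1
        have h1 := Over.w (Functor.LaxMonoidal.ε (Over.pullback i))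
        have h2 : Limits.pullback.fst (𝟙_ (Over (Spec (CommRingCat.of A)))).hom i =
            Limits.pullback.snd (𝟙_ (Over (Spec (CommRingCat.of A)))).hom i ≫ i := by
          rw [← Limits.pullback.condition]; exact (Category.comp_id _).symm
        rw [h2, ← Category.assoc]
        exact (congrArg (· ≫ i) h1).trans (Category.id_comp i)
      refine (congr(($hone).base (IsLocalRing.closedPoint _))).trans ?_
      exact congrArg η[H].left (Subsingleton.elim (α := ↥(Spec (CommRingCat.of A))) _ _)
  haveI := Groth.GrpschLoci.isFinite_of_discrete_kernel u'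
  exact Groth.Flatmor4.isFinite_of_thickening u.left u'.left (Limits.pullback.fst G.hom i) (Limits.pullback.fst H.hom i)
    hiG.1 hiH.1 (Groth.FlatMor2.ideal_isNilpotent hiG) (fun U => by
      haveI := hi.1.1
      haveI : LocallyOfFinitePresentation i := Groth.Flatmor4.lfp_of_ker_fg i fun U => by
        haveI := IsLocallyNoetherian.component_noetherian (X := Spec (CommRingCat.of A)) U
        exact IsNoetherian.noetherian _
      exact Groth.Flatmor4.ker_fg_of_lfp (Limits.pullback.fst H.hom i) U)
    sq.flip

end Groth.Agent.S3037
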