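import Groth.Statements.S5350
import Groth.Agent.GrpschSep.AnyTypeField
import Groth.Agent.PropsBasic2.SchTop

set_option autoImplicit false
universe u
open CategoryTheory CategoryTheory.Limits MonoidalCategory CartesianMonoidalCategory MonObj GrpObj AlgebraicGeometry
open SGA3

namespace Groth.Agent.S5350

/-- Points in the closure of a retrocompact open are specializations of its points. -/
theorem exists_specializes_of_mem_closure {X : Scheme.{u}} (U : X.Opens) (hU : IsRetrocompact (U : Set X))
    (y : X) (hy : y ∈ closure (U : Set X)) : ∃ u ∈ U, u ⤳ y := by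
  haveI : QuasiCompact U.ι := ⟨fun W hW hWc => by
    rw [U.ι.isOpenEmbedding.isInducing.isCompact_iff, Set.image_preimage_eq_inter_range,
      Scheme.Opens.range_ι, Set.inter_comm]
    exact hU hWc hW⟩
  obtain ⟨u, hu⟩ := Groth.PropsBasic2.exists_specializes_of_mem_closure_range U.ι
    (by rwa [Scheme.Opens.range_ι])
  exact ⟨U.ι u, u.2, hu⟩

/-- Let G be a group scheme over a field k (not assumed of finite type) acting on a k-scheme X so that G
×_k X → X ×_k X, (g, x) ↦ (gx, x), is surjective; let C⁰ be an irreducible component of G containing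
the unit point and U an open subset of X. Let C⁰·U be the image under the action of the set of
points of G ×_k X whose projections lie in C⁰ and in U. Then (i) C⁰·U is open in X and equals the
union of the irreducible components of X whose generic point lies in U; (ii) if U is retrocompact in
X then C⁰·U is the closure of U (so is open and closed). -/
theorem result (k : Type u) [Field k] (G X : Over (Spec (CommRingCat.of k))) [GrpObj G] (a : AlgGrp.Action G X) (hΦ : Surjective (lift a.act (snd G X)).left)
    (pt : ↥(𝟙_ (Over (Spec (CommRingCat.of k)))).left) (C0 : Set G.left) (hC0 : C0 ∈ irreducibleComponents ↥G.left)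
    (he : η[G].left.base pt ∈ C0) (U : X.left.Opens) :
    letI V : Set X.left := a.act.left.base '' {z : ↥(G ⊗ X).left | (fst G X).left.base z ∈ C0 ∧ (snd G X).left.base z ∈ U}
    IsOpen V ∧ V = ⋃₀ {Z : Set X.left | Z ∈ irreducibleComponents ↥X.left ∧ ∃ ξ ∈ U, closure {ξ} = Z} ∧
    (IsRetrocompact (U : Set X.left) → V = closure (U : Set X.left)) := by
  obtain ⟨m₀, hm₀, hC0m⟩ := Groth.GrpschSep.exists_maxPt_of_irreducibleComponent hC0
  have hm₀e : m₀ ⤳ η[G].left pt := specializes_iff_mem_closure.mpr (hC0m.symm ▸ he)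
  set V := a.act.left.base '' {z : ↥(G ⊗ X).left | (fst G X).left.base z ∈ C0 ∧ (snd G X).left.base z ∈ U}
  -- every point of `V` has its maximal generalisation in `U`
  have key₁ : ∀ y ∈ V, ∃ ξ ∈ U, Groth.GrpschSep.IsMaxPt ξ ∧ ξ ⤳ y := by
    rintro _ ⟨z, ⟨hzc, hzu⟩, rfl⟩
    obtain ⟨K, _, _, t, P, hP⟩ := Groth.GrpschSep.exists_geomPoint (G ⊗ X) z
    let g : Over.mk t ⟶ G := P ≫ fst _ _
    let x : Over.mk t ⟶ X := P ≫ snd _ _
    obtain ⟨m, hmg, hm⟩ := Groth.GrpschSep.exists_isMaxPt
      ((lift g (𝟙 (Over.mk t))).left (IsLocalRing.closedPoint K))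
    have hfg : (fst G (Over.mk t)).left ((lift g (𝟙 (Over.mk t))).left (IsLocalRing.closedPoint K)) =
        (fst G X).left z := by
      rw [← Scheme.Hom.comp_apply, ← Over.comp_left, lift_fst, Over.comp_left, Scheme.Hom.comp_apply, hP]
    have hfm : (fst G (Over.mk t)).left m = m₀ :=
      Groth.GrpschSep.uniqueMax_grp _ _ _ (hm.map_flat _) hm₀
        ((hmg.map (fst G (Over.mk t)).left.continuous).trans (specializes_of_eq hfg))
        (specializes_iff_mem_closure.mpr (hC0m.symm ▸ hzc))
    have hme : m ⤳ Groth.GrpschSep.unitPt G t :=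
      Groth.GrpschSep.specializes_unitPt hm pt (hfm.symm ▸ hm₀e)
    obtain ⟨hmax, hsp⟩ := Groth.GrpschSep.orb_unit_specializes a hΦ x hm hme
    refine ⟨_, hsp.mem_open U.2 ?_, hmax, ?_⟩
    · rw [Over.comp_left, Scheme.Hom.comp_apply, hP]; exact hzu
    · refine ((hmg.map (Groth.GrpschSep.orb a x).left.continuous).map
        (fst X (Over.mk t)).left.continuous).trans (specializes_of_eq ?_)
      have h : lift g (𝟙 (Over.mk t)) ≫ Groth.GrpschSep.orb a x ≫ fst X (Over.mk t) = P ≫ a.act := by
        simp only [Groth.GrpschSep.orb, lift_fst]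
        rw [← Category.assoc, comp_lift, lift_fst, lift_snd_assoc, Category.id_comp]
        simp only [g, x, ← comp_lift, lift_fst_snd, Category.comp_id]
      rw [← hP]
      exact congr(($h).left.base (IsLocalRing.closedPoint K))
  -- conversely
  have key₂ : ∀ y ξ, ξ ∈ U → Groth.GrpschSep.IsMaxPt ξ → ξ ⤳ y → y ∈ V := by
    intro y ξ hξU hξ hξy
    obtain ⟨K, _, _, t, x, hx⟩ := Groth.GrpschSep.exists_geomPoint X y
    obtain ⟨m, hme, hm⟩ := Groth.GrpschSep.exists_isMaxPt (Groth.GrpschSep.unitPt G t)
    obtain ⟨hmax, hsp⟩ := Groth.GrpschSep.orb_unit_specializes a hΦ x hm hme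
    have hfe : (fst X (Over.mk t)).left ((Groth.GrpschSep.orb a x).left m) = ξ :=
      Groth.GrpschSep.uniqueMax_action a hΦ y _ _ hmax hξ (hx ▸ hsp) hξy
    let I : G ⊗ Over.mk t ≅ G ⊗ Over.mk t :=
      { hom := lift (fst _ _)⁻¹ (snd _ _)
        inv := lift (fst _ _)⁻¹ (snd _ _)
        hom_inv_id := by
          apply CartesianMonoidalCategory.hom_ext <;> simp [GrpObj.comp_inv]
        inv_hom_id := by
          apply CartesianMonoidalCategory.hom_ext <;> simp [GrpObj.comp_inv] }
    haveI : IsIso I.hom.left := ((Over.forget _).mapIso I).isIso_hom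
    have hI : I.hom.left m ⤳ Groth.GrpschSep.unitPt G t := by
      refine (hme.map I.hom.left.continuous).trans (specializes_of_eq ?_)
      have h : lift (1 : Over.mk t ⟶ G) (𝟙 _) ≫ I.hom = lift (1 : Over.mk t ⟶ G) (𝟙 _) := by
        apply CartesianMonoidalCategory.hom_ext <;> simp [I, GrpObj.comp_inv]
      exact congr(($h).left.base (IsLocalRing.closedPoint K))
    have hunit : (fst G (Over.mk t)).left (Groth.GrpschSep.unitPt G t) = η[G].left pt := by
      rw [show Groth.GrpschSep.unitPt G t = (lift (1 : Over.mk t ⟶ G) (𝟙 _)).left _ from rfl,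
        ← Scheme.Hom.comp_apply, ← Over.comp_left, lift_fst, Hom.one_def, Over.comp_left,
        Scheme.Hom.comp_apply]
      exact congrArg η[G].left (Subsingleton.elim (α := ↥(Spec (CommRingCat.of k))) _ _)
    let pair : G ⊗ Over.mk t ⟶ G ⊗ X :=
      lift (I.hom ≫ fst _ _) (Groth.GrpschSep.orb a x ≫ fst _ _)
    refine ⟨pair.left m, ⟨?_, ?_⟩, ?_⟩
    · show (fst G X).left (pair.left m) ∈ C0
      rw [← Scheme.Hom.comp_apply, ← Over.comp_left, lift_fst, Over.comp_left, Scheme.Hom.comp_apply,
        Groth.GrpschSep.uniqueMax_grp _ _ _ ((hm.map_flat I.hom.left).map_flat (fst G (Over.mk t)).left) hm₀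
          ((hI.map (fst G (Over.mk t)).left.continuous).trans (specializes_of_eq hunit)) hm₀e,
        ← hC0m]
      exact subset_closure rfl
    · show (snd G X).left (pair.left m) ∈ U
      rw [← Scheme.Hom.comp_apply, ← Over.comp_left, lift_snd, Over.comp_left, Scheme.Hom.comp_apply, hfe]
      exact hξU
    · have h : pair ≫ a.act = snd _ _ ≫ x := by
        simp only [pair, I, lift_fst, Groth.GrpschSep.orb]
        exact Groth.AlgGrp2.lift_inv_act _ _ _
      show a.act.left (pair.left m) = y
      rw [← Scheme.Hom.comp_apply, ← Over.comp_left, h, ← hx, Over.comp_left, Scheme.Hom.comp_apply]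
      exact congrArg x.left (Subsingleton.elim (α := ↥(Spec (CommRingCat.of K))) _ _)
  refine ⟨?_, ?_, fun hU => ?_⟩
  · -- openness: a union of translates of `U`
    rw [isOpen_iff_forall_mem_open]
    rintro _ ⟨z, ⟨hzc, hzu⟩, rfl⟩
    let c := (fst G X).left z
    let t : Spec (G.left.residueField c) ⟶ Spec (CommRingCat.of k) :=
      G.left.fromSpecResidueField c ≫ G.hom
    let T : Over (Spec (CommRingCat.of k)) := Over.mk t
    let gc : T ⟶ G := Over.homMk (G.left.fromSpecResidueField c) rfl
    let Λ : X ⊗ T ≅ X ⊗ T :=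
      { hom := lift (lift (snd _ _ ≫ gc) (fst _ _) ≫ a.act) (snd _ _)
        inv := lift (lift (snd _ _ ≫ gc)⁻¹ (fst _ _) ≫ a.act) (snd _ _)
        hom_inv_id := by
          apply CartesianMonoidalCategory.hom_ext
          · simp only [Category.assoc, lift_fst, Category.id_comp]
            rw [← Category.assoc, comp_lift, lift_fst, GrpObj.comp_inv, ← Category.assoc (lift _ _),
              lift_snd, Groth.AlgGrp2.lift_inv_act]
          · simp
        inv_hom_id := by
          apply CartesianMonoidalCategory.hom_ext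
          · simp only [Category.assoc, lift_fst, Category.id_comp]
            rw [← Category.assoc, comp_lift, lift_fst, ← Category.assoc (lift _ _),
              lift_snd, Groth.AlgGrp2.lift_act_inv]
          · simp }
    haveI : IsIso Λ.hom.left := ((Over.forget _).mapIso Λ).isIso_hom
    haveI : UniversallyOpen T.hom := inferInstance
    haveI : UniversallyOpen (fst X T).left :=
      MorphismProperty.of_isPullback (P := @UniversallyOpen)
        (Groth.AlgGrp2.isPullback_fst_snd X T).flip ‹_›
    let W : Set (X ⊗ T).left := (fst X T).left ⁻¹' (U : Set X.left)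
    let pair : X ⊗ T ⟶ G ⊗ X := lift (snd _ _ ≫ gc) (fst _ _)
    have hpair : pair ≫ a.act = Λ.hom ≫ fst _ _ := (lift_fst _ _).symm
    refine ⟨(Λ.hom ≫ fst _ _).left '' W, ?_, ?_, ?_⟩
    · rintro _ ⟨w, hw, rfl⟩
      refine ⟨pair.left w, ⟨?_, ?_⟩, congr(($hpair).left.base w)⟩
      · show (fst G X).left (pair.left w) ∈ C0
        rw [← Scheme.Hom.comp_apply, ← Over.comp_left, lift_fst, Over.comp_left, Scheme.Hom.comp_apply,
          show gc.left ((snd X T).left w) = c from Scheme.fromSpecResidueField_apply c _]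
        exact hzc
      · show (snd G X).left (pair.left w) ∈ U
        rw [← Scheme.Hom.comp_apply, ← Over.comp_left, lift_snd]
        exact hw
    · rw [Over.comp_left]
      exact (Λ.hom.left ≫ (fst X T).left).isOpenMap _ (U.2.preimage (fst X T).left.continuous)
    · -- the point itself
      have hz : z ∈ Set.range pair.left := by
        have hsq : IsPullback pair.left (snd X T).left (fst G X).left gc.left := by
          refine IsPullback.of_iso (Groth.AlgGrp2.isPullback_whiskerLeft_snd X gc)
            (Iso.refl _) ((Over.forget _).mapIso (β_ X G)) (Iso.refl _) (Iso.refl _) ?_ ?_ ?_ ?_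
          · show (X ◁ gc).left ≫ (β_ X G).hom.left = _
            rw [Iso.refl_hom, Category.id_comp, ← Over.comp_left]
            congr 1
            apply CartesianMonoidalCategory.hom_ext <;> simp [pair]
          · simp
          · show (snd X G).left ≫ 𝟙 _ = (β_ X G).hom.left ≫ (fst G X).left
            rw [Category.comp_id, ← Over.comp_left]
            congr 1
            simp
          · simp
        obtain ⟨q, hq, -⟩ := Groth.GrpschSep.exists_preimage_of_isPullback hsq z
          (IsLocalRing.closedPoint (G.left.residueField c))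
          (Scheme.fromSpecResidueField_apply c _).symm
        exact ⟨q, hq⟩
      obtain ⟨w, hw⟩ := hz
      refine ⟨w, ?_, (congr(($hpair).left.base w)).symm.trans (congrArg a.act.left hw)⟩
      show (fst X T).left w ∈ U
      rw [← show pair ≫ snd G X = fst X T from lift_snd _ _, Over.comp_left, Scheme.Hom.comp_apply, hw]
      exact hzu
  · ext y
    constructor
    · intro hy
      obtain ⟨ξ, hξU, hξ, hξy⟩ := key₁ y hy
      exact ⟨closure {ξ}, ⟨hξ.closure_mem_irreducibleComponents, ξ, hξU, rfl⟩,
        specializes_iff_mem_closure.mp hξy⟩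
    · rintro ⟨Z, ⟨hZ, ξ, hξU, rfl⟩, hy⟩
      obtain ⟨ξ', hξ', he'⟩ := Groth.GrpschSep.exists_maxPt_of_irreducibleComponent hZ
      have h1 : ξ' ⤳ ξ := specializes_iff_mem_closure.mpr (he'.symm ▸ subset_closure rfl)
      exact key₂ y ξ' (h1.mem_open U.2 hξU) hξ'
        (h1.trans (specializes_iff_mem_closure.mpr hy))
  · refine Set.Subset.antisymm (fun y hy => ?_) (fun y hy => ?_)
    · obtain ⟨ξ, hξU, -, hξy⟩ := key₁ y hy
      exact hξy.mem_closed isClosed_closure (subset_closure hξU)
    · obtain ⟨u, hu, huy⟩ := exists_specializes_of_mem_closure U hU y hy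
      obtain ⟨ξ, hξu, hξ⟩ := Groth.GrpschSep.exists_isMaxPt u
      exact key₂ y ξ (hξu.mem_open U.2 hu) hξ (hξu.trans huy)

end Groth.Agent.S5350
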