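import Groth.Statements.S3039
import Groth.Agent.GrpschSep.AnyTypeField
import Groth.Agent.S5350

set_option autoImplicit false
universe u
open CategoryTheory MonoidalCategory CartesianMonoidalCategory MonObj GrpObj AlgebraicGeometry TensorProduct
open SGA3

namespace Groth.Agent.S3039

/-- Let G be a group scheme over a field k acting on a quasi-separated k-scheme X in such a way that the
morphism G ×_k X → X ×_k X, (g, x) ↦ (g·x, x) is surjective. Then every connected component of X is
irreducible. -/
theorem result (k : Type u) [Field k] (G X : Over (Spec (CommRingCat.of k))) [GrpObj G]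
    [QuasiSeparatedSpace X.left] (a : AlgGrp.Action G X) (hΦ : Surjective (lift a.act (snd G X)).left) (x : X.left) :
    IsPreirreducible (connectedComponent x) := by
  obtain ⟨ξ, hξx, hξ⟩ := Groth.GrpschSep.exists_isMaxPt x
  let pt : ↥(𝟙_ (Over (Spec (CommRingCat.of k)))).left := IsLocalRing.closedPoint k
  have hC0 := irreducibleComponent_mem_irreducibleComponents (η[G].left pt)
  suffices h : connectedComponent x = closure {ξ} by
    rw [h]; exact isIrreducible_singleton.closure.isPreirreducible
  refine Set.Subset.antisymm (fun y hy => ?_) ?_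
  · obtain ⟨ξ', hξ'y, hξ'⟩ := Groth.GrpschSep.exists_isMaxPt y
    by_cases he : ξ' = ξ
    · exact specializes_iff_mem_closure.mp (he ▸ hξ'y)
    exfalso
    have hns : ¬ ξ' ⤳ ξ := fun h => he (hξ _ h)
    obtain ⟨O, hO, hξO, hξ'O⟩ := not_specializes_iff_exists_open.mp hns
    obtain ⟨_, ⟨U : X.left.Opens, hU, rfl⟩, hξU, hUO⟩ :=
      X.left.isBasis_affineOpens.exists_subset_of_mem_open hξO hO
    have hret : IsRetrocompact (U : Set X.left) := fun W hW hWo =>
      QuasiSeparatedSpace.inter_isCompact _ _ U.2 hU.isCompact hWo hW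
    obtain ⟨hopen, huni, hclo⟩ :=
      Groth.Agent.S5350.result k G X a hΦ pt _ hC0 mem_irreducibleComponent U
    have hclopen : IsClopen (closure (U : Set X.left)) := ⟨isClosed_closure, hclo hret ▸ hopen⟩
    have hxU : x ∈ closure (U : Set X.left) := hξx.mem_closed isClosed_closure (subset_closure hξU)
    have hyU := hclopen.connectedComponent_subset hxU hy
    rw [← hclo hret, huni] at hyU
    obtain ⟨Z, ⟨hZ, z, hzU, rfl⟩, hyZ⟩ := hyU
    obtain ⟨w, hw, hwe⟩ := Groth.GrpschSep.exists_maxPt_of_irreducibleComponent hZ
    have h1 : w ⤳ z := specializes_iff_mem_closure.mpr (hwe.symm ▸ subset_closure rfl)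
    have h2 : w = ξ' := Groth.GrpschSep.uniqueMax_action a hΦ y _ _ hw hξ'
      (h1.trans (specializes_iff_mem_closure.mpr hyZ)) hξ'y
    exact hξ'O (hUO (h2 ▸ h1.mem_open U.2 hzU))
  · exact isIrreducible_singleton.closure.isConnected.isPreconnected.subset_connectedComponent
      (specializes_iff_mem_closure.mp hξx)

end Groth.Agent.S3039
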