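import Groth.Statements.S3042
import Groth.Agent.Reductive.UnramFibre
import Groth.Agent.SpectralTopology.ConsLemmas
-- import your own Groth.Agent.* helpers here

set_option autoImplicit false
universe u
open CategoryTheory MonoidalCategory CartesianMonoidalCategory MonObj GrpObj AlgebraicGeometry TensorProduct
open SGA3

namespace Groth.Agent.S3042

/-- Let f : X → Y be a morphism of schemes locally of finite type. Then f is a monomorphism if and only
if, for every point y of Y, the fibre X_y → Spec κ(y) is a monomorphism. -/
theorem result (X Y : Scheme.{u}) (f : X ⟶ Y) [LocallyOfFiniteType f] :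
    Mono f ↔ ∀ y : Y, Mono (f.fiberToSpecResidueField y) := by

  refine ⟨fun hm y => ?_, fun h => ?_⟩
  · exact MorphismProperty.of_isPullback (P := MorphismProperty.monomorphisms Scheme.{u})
      (Groth.SpectralTopology.isPullback_fiber f y) hm
  · have hu : FormallyUnramified f := Groth.Reductive.formallyUnramified_of_fibres f fun y => by
      have := h y
      have : IsIso (Limits.pullback.diagonal (f.fiberToSpecResidueField y)) :=
        (Limits.pullback.isIso_diagonal_iff _).mpr inferInstance
      infer_instance
    have : Surjective (Limits.pullback.diagonal f) := ⟨fun t =>
      (Groth.SpectralTopology.universallyInjective_fiber_iff f ((Limits.pullback.fst f f ≫ f) t)).mp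
        (by have := h ((Limits.pullback.fst f f ≫ f) t); infer_instance) t rfl⟩
    have : IsOpenImmersion (Limits.pullback.diagonal f) := inferInstance
    exact (Limits.pullback.isIso_diagonal_iff f).mp
      ((isIso_iff_isOpenImmersion_and_surjective _).mpr ⟨inferInstance, inferInstance⟩)

end Groth.Agent.S3042
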