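import Groth.Statements.S3043


set_option autoImplicit false
universe u
open CategoryTheory MonoidalCategory CartesianMonoidalCategory MonObj GrpObj AlgebraicGeometry TensorProduct
open SGA3

namespace Groth.Agent.S3043

/-- Let π : X → S be a morphism of schemes admitting a section ε (ε followed by π is the identity). If π
is injective on underlying points, then π is an integral morphism. -/
theorem result (X S : Scheme.{u}) (π : X ⟶ S) (ε : S ⟶ X) (hε : ε ≫ π = 𝟙 S)
    (hinj : Function.Injective π.base) : IsIntegralHom π := by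
  have hinv : ∀ x, ε (π x) = x := fun x => hinj (by
    change (ε ≫ π) (π x) = π x
    rw [hε]
    rfl)
  have hsurj : Function.Surjective π := fun s => ⟨ε s, by
    change (ε ≫ π) s = s
    rw [hε]
    rfl⟩
  let e : (X : Type u) ≃ₜ (S : Type u) :=
    { toFun := π, invFun := ε, left_inv := hinv,
      right_inv := fun s => by change (ε ≫ π) s = s; rw [hε]; rfl
      continuous_toFun := π.continuous, continuous_invFun := ε.continuous }
  have haff : IsAffineHom π := isAffineHom_of_isInducing π e.isInducing (by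
    rw [hsurj.range_eq]; exact isClosed_univ)
  refine ⟨fun U hU => ?_⟩
  have hU' : ε ⁻¹ᵁ π ⁻¹ᵁ U = U := by rw [← Scheme.Hom.comp_preimage, hε]; rfl
  set s := ε.appLE (π ⁻¹ᵁ U) U hU'.ge with hs
  have hsec : π.app U ≫ s = 𝟙 _ := by
    have key : ∀ (g : S ⟶ S), g = 𝟙 S → ∀ h : U ≤ g ⁻¹ᵁ U,
        g.appLE U U h = 𝟙 Γ(S, U) := by
      rintro g rfl h
      simp [Scheme.Hom.appLE]
      exact S.presheaf.map_id _
    rw [Scheme.Hom.app_eq_appLE, hs, Scheme.Hom.appLE_comp_appLE]
    exact key _ hε _
  intro b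
  let f := (π.app U).hom
  let := f.toAlgebra
  change IsIntegral Γ(S, U) b
  have hx : s (b - f (s b)) = 0 := by
    rw [map_sub]
    have := ConcreteCategory.congr_hom hsec (s b)
    simp only [CommRingCat.comp_apply] at this
    change s b - s (π.app U (s b)) = 0
    rw [this]
    simp
  have hnil : IsNilpotent (b - f (s b)) := by
    set x := b - f (s b)
    rw [Scheme.isNilpotent_iff_basicOpen_eq_bot_of_isCompact
      (IsAffineOpen.isCompact (hU.preimage π))]
    have h1 : S.basicOpen (s x) = U ⊓ S.basicOpen (ε.app (π ⁻¹ᵁ U) x) := by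
      rw [hs, Scheme.Hom.appLE, CommRingCat.comp_apply]
      exact Scheme.basicOpen_res _ _ _
    rw [hx, Scheme.basicOpen_zero, ← Scheme.preimage_basicOpen] at h1
    ext z
    refine ⟨fun hz => ?_, False.elim⟩
    have hz2 : π z ∈ U ⊓ ε ⁻¹ᵁ X.basicOpen x :=
      ⟨X.basicOpen_le x hz, show ε (π z) ∈ X.basicOpen x by rw [hinv]; exact hz⟩
    rw [← h1] at hz2
    exact hz2.elim
  obtain ⟨n, hn⟩ := hnil
  have h2 : IsIntegral Γ(S, U) (b - f (s b)) := by
    refine IsIntegral.of_pow (n := n + 1) n.succ_pos ?_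
    rw [pow_succ, hn, zero_mul]
    exact isIntegral_zero
  have h3 := h2.add (isIntegral_algebraMap (R := Γ(S, U)) (A := Γ(X, π ⁻¹ᵁ U)) (x := s b))
  rwa [show algebraMap Γ(S, U) Γ(X, π ⁻¹ᵁ U) (s b) = f (s b) from rfl, sub_add_cancel] at h3

end Groth.Agent.S3043
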