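import Groth.Statements.S3045
import Groth.Agent.Sga3.ConvPoints
open Groth.Sga3.ConvPoints

set_option autoImplicit false
universe u
open TensorProduct
open SGA3

namespace Groth.Agent.S3045

/-- The tangent vector as a linear map. -/
noncomputable def tangentLin {k : Type u} [CommRing k] {A : Type u} [CommRing A] [HopfAlgebra k A]
    (χ : LieHopf.LiePts k A) : A →ₗ[k] k :=
  (TrivSqZeroExt.sndHom k k) ∘ₗ χ.1.toLinearMap


/-- Let A be a commutative Hopf algebra over a commutative ring k (the coordinate ring of an affine
group G = Spec A) and φ, ψ two k[ε]-valued points of G reducing to the unit point modulo ε (tangent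
vectors at the identity). Then for every a ∈ A the ε-component of the product point φ · ψ at a — the
product of points being convolution, formed here as the triple convolution of φ, ψ and the unit
point — is the sum of the ε-components of φ(a) and ψ(a): on tangent vectors at the identity the
group law of G induces addition. -/
theorem result (k : Type u) [CommRing k] (A : Type u) [CommRing A] [HopfAlgebra k A]
    (φ ψ : LieHopf.LiePts k A) (a : A) :
    TrivSqZeroExt.snd (Dyn.conv3 k A φ.1 ψ.1 ((Algebra.ofId k (DualNumber k)).comp (Bialgebra.counitAlgHom k A)) a) =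
      LieHopf.LiePts.tangent k A φ a + LieHopf.LiePts.tangent k A ψ a := by
  have hlin : ∀ χ : LieHopf.LiePts k A, lin χ.1 = 1 + scal DualNumber.eps (tangentLin χ) := by
    intro χ
    refine WithConv.ext (LinearMap.ext fun b => ?_)
    change χ.1 b = algebraMap k (DualNumber k) (Coalgebra.counit b) +
      TrivSqZeroExt.snd (χ.1 b) • DualNumber.eps
    refine TrivSqZeroExt.ext ?_ ?_
    · rw [χ.2 b]
      simp [TrivSqZeroExt.algebraMap_eq_inl]
    · simp [TrivSqZeroExt.algebraMap_eq_inl]
  have h := lin_conv3 φ.1 ψ.1 ((Algebra.ofId k (DualNumber k)).comp (Bialgebra.counitAlgHom k A))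
  rw [lin_unit, mul_one, hlin, hlin, add_mul, one_mul, mul_add, mul_one, scal_mul_scal,
    DualNumber.eps_mul_eps, scal_zero, add_zero] at h
  have h2 := congrArg (fun p : WithConv (A →ₗ[k] DualNumber k) => TrivSqZeroExt.snd (p a)) h
  change TrivSqZeroExt.snd (Dyn.conv3 k A φ.1 ψ.1
      ((Algebra.ofId k (DualNumber k)).comp (Bialgebra.counitAlgHom k A)) a) =
    TrivSqZeroExt.snd ((algebraMap k (DualNumber k) (Coalgebra.counit a) +
      TrivSqZeroExt.snd (ψ.1 a) • DualNumber.eps) + TrivSqZeroExt.snd (φ.1 a) • DualNumber.eps) at h2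
  rw [h2]
  simp [LieHopf.LiePts.tangent, add_comm, TrivSqZeroExt.algebraMap_eq_inl]

end Groth.Agent.S3045
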