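import Groth.Statements.S3046
import Groth.Agent.Sga3.ConvPoints
import Mathlib.Tactic.NoncommRing
open Groth.Sga3.ConvPoints

set_option autoImplicit false
universe u
open TensorProduct
open SGA3

namespace Groth.Agent.S3046

/-- Let A be a commutative Hopf algebra over a commutative ring k, D and E two ε-derivations A → k
(tangent vectors at the identity of G = Spec A), R a commutative k-algebra and t, t' ∈ R with t² = 0
= t'². Let x = e + tD and y = e + t'E be the corresponding R-points of G. Then the commutator x y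
x⁻¹ y⁻¹ (product of points; the inverse of a point is its composite with the antipode) is the point
a ↦ ε(a) + [D, E](a) · t t', where [D, E] = D ⋆ E − E ⋆ D is the convolution commutator. -/
theorem result (k : Type u) [CommRing k] (A : Type u) [CommRing A] [HopfAlgebra k A]
    (D E : LieHopf.Lie k A) (R : Type u) [CommRing R] [Algebra k R] (t t' : R) (ht : t * t = 0) (ht' : t' * t' = 0)
    (a : A) :
    Dyn.conv3 k A
        (Dyn.conv3 k A (LieHopf.ptOfLie D R t ht) (LieHopf.ptOfLie E R t' ht')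
          ((LieHopf.ptOfLie D R t ht).comp (HopfAlgebra.antipodeAlgHom k A)))
        ((LieHopf.ptOfLie E R t' ht').comp (HopfAlgebra.antipodeAlgHom k A))
        ((Algebra.ofId k R).comp (Bialgebra.counitAlgHom k A)) a =
      algebraMap k R (Bialgebra.counitAlgHom k A a) + algebraMap k R (LieHopf.bracketLin D E a) * (t * t') := by
  set a₁ := scal t (LieHopf.dlin D) with ha₁
  set b₁ := scal t' (LieHopf.dlin E) with hb₁
  have hx : lin (LieHopf.ptOfLie D R t ht) = 1 + a₁ := by
    refine WithConv.ext (LinearMap.ext fun b => ?_)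
    change algebraMap k R (Bialgebra.counitAlgHom k A b) + algebraMap k R (LieHopf.dlin D b) * t = _
    rw [← Algebra.smul_def]
    rfl
  have hy : lin (LieHopf.ptOfLie E R t' ht') = 1 + b₁ := by
    refine WithConv.ext (LinearMap.ext fun b => ?_)
    change algebraMap k R (Bialgebra.counitAlgHom k A b) + algebraMap k R (LieHopf.dlin E b) * t' = _
    rw [← Algebra.smul_def]
    rfl
  have haa : a₁ * a₁ = 0 := by rw [ha₁, scal_mul_scal, ht, scal_zero]
  have hbb : b₁ * b₁ = 0 := by rw [hb₁, scal_mul_scal, ht', scal_zero]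
  have haba : a₁ * b₁ * a₁ = 0 := by
    rw [ha₁, hb₁, scal_mul_scal, scal_mul_scal, mul_right_comm, ht, zero_mul, scal_zero]
  have hbab : b₁ * a₁ * b₁ = 0 := by
    rw [ha₁, hb₁, scal_mul_scal, scal_mul_scal, mul_right_comm, ht', zero_mul, scal_zero]
  have hxi : lin ((LieHopf.ptOfLie D R t ht).comp (HopfAlgebra.antipodeAlgHom k A)) = 1 - a₁ := by
    refine (left_inv_eq_right_inv (a := lin (LieHopf.ptOfLie D R t ht)) ?_ (lin_mul_antipode _)).symm
    rw [hx]
    linear_combination (norm := noncomm_ring) -haa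
  have hyi : lin ((LieHopf.ptOfLie E R t' ht').comp (HopfAlgebra.antipodeAlgHom k A)) = 1 - b₁ := by
    refine (left_inv_eq_right_inv (a := lin (LieHopf.ptOfLie E R t' ht')) ?_ (lin_mul_antipode _)).symm
    rw [hy]
    linear_combination (norm := noncomm_ring) -hbb
  have h : (1 + a₁) * (1 + b₁) * (1 - a₁) * (1 - b₁) = 1 + (a₁ * b₁ - b₁ * a₁) := by
    have e1 : (1 + a₁) * (1 + b₁) * (1 - a₁) * (1 - b₁) - (1 + (a₁ * b₁ - b₁ * a₁)) =
        -(a₁ * a₁) - b₁ * b₁ + a₁ * a₁ * b₁ - a₁ * b₁ * b₁ + b₁ * a₁ * b₁ - a₁ * b₁ * a₁ +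
          a₁ * b₁ * a₁ * b₁ := by noncomm_ring
    rw [haba, hbab, haa, hbb, mul_assoc a₁ b₁ b₁, hbb] at e1
    simp only [neg_zero, sub_zero, zero_mul, mul_zero, add_zero] at e1
    exact sub_eq_zero.mp e1
  have h2 := congrArg (fun p : WithConv (A →ₗ[k] R) => p a)
    ((lin_conv3 (Dyn.conv3 k A (LieHopf.ptOfLie D R t ht) (LieHopf.ptOfLie E R t' ht')
      ((LieHopf.ptOfLie D R t ht).comp (HopfAlgebra.antipodeAlgHom k A)))
      ((LieHopf.ptOfLie E R t' ht').comp (HopfAlgebra.antipodeAlgHom k A))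
      ((Algebra.ofId k R).comp (Bialgebra.counitAlgHom k A))).trans
      (by rw [lin_conv3, lin_unit, mul_one, hx, hy, hxi, hyi, h]))
  refine h2.trans ?_
  rw [ha₁, hb₁, scal_mul_scal, scal_mul_scal, mul_comm t' t]
  change algebraMap k R (Coalgebra.counit a) +
    (LieHopf.conv (LieHopf.dlin D) (LieHopf.dlin E) a • (t * t') -
      LieHopf.conv (LieHopf.dlin E) (LieHopf.dlin D) a • (t * t')) = _
  rw [← sub_smul, Algebra.smul_def]
  rfl

end Groth.Agent.S3046
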