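import Groth.Statements.S3057
import Groth.Agent.SitesTopoi.Topos.QC

set_option autoImplicit false
open CategoryTheory CategoryTheory.Limits Opposite
universe u
open ToposFin

namespace Groth.Agent.S3057

/-- For a topos of sheaves of sets on a small site: if a finite family of morphisms F_k -> X with
quasi-compact sources is jointly epimorphic, then X is quasi-compact. -/
theorem result {C : Type u} [SmallCategory C] {J : GrothendieckTopology C}
    {X : ToposFin.Sh J} {n : ℕ} (F : Fin n → ToposFin.Sh J) (π : ∀ k, F k ⟶ X)
    (hπ : Epi (Sigma.desc π)) (hF : ∀ k, ToposFin.IsQC (F k)) : ToposFin.IsQC X := by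
  exact Groth.SitesTopoi.Topos.isQC_of_finite_covers (π := fun k : ULift.{u} (Fin n) => π k.down)
    (Groth.SitesTopoi.Topos.covers_of_ext fun Z a b h =>
      (hπ.left_cancellation a b (Sigma.hom_ext _ _ fun k => by
        rw [← Category.assoc, ← Category.assoc, Sigma.ι_desc]; exact h ⟨k⟩)))
    fun k => hF k.down

end Groth.Agent.S3057
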