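import Groth.Statements.S3058
import Groth.Agent.SitesTopoi.Topos.QC

set_option autoImplicit false
open CategoryTheory CategoryTheory.Limits Opposite
universe u
open ToposFin

namespace Groth.Agent.S3058

/-- For a topos of sheaves of sets on a small site: the coproduct of a small family of objects is
quasi-compact if and only if every member is quasi-compact and all but finitely many members are
initial (empty) objects. -/
theorem result {C : Type u} [SmallCategory C] {J : GrothendieckTopology C} {ι : Type u}
    (F : ι → ToposFin.Sh J) :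
    ToposFin.IsQC (∐ F) ↔ (∀ i, ToposFin.IsQC (F i)) ∧ {i | IsEmpty (F i ≅ ⊥_ (ToposFin.Sh J))}.Finite := by
  classical
  have hd := Groth.SitesTopoi.Topos.isDisjointCover_of_isColimit_cofan (coproductIsCoproduct F)
  constructor
  · intro h
    obtain ⟨s, -, hs⟩ := hd.finite_nonempty h
    refine ⟨fun i => hd.isQC_member h i, s.finite_toSet.subset fun i hi => ?_⟩
    by_contra his
    exact hi.false ((hs i his).isInitial.uniqueUpToIso initialIsInitial)
  · rintro ⟨hqc, hfin⟩
    have : Finite {i | IsEmpty (F i ≅ ⊥_ (ToposFin.Sh J))} := hfin.to_subtype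
    refine Groth.SitesTopoi.Topos.isQC_of_finite_covers
      (π := fun i : {i | IsEmpty (F i ≅ ⊥_ (ToposFin.Sh J))} => Sigma.ι F i.1) (fun U s => ?_) fun i => hqc i.1
    refine J.transitive (hd.covers U s) _ ?_
    rintro V g ⟨i, t, ht⟩
    by_cases hi : IsEmpty (F i ≅ ⊥_ (ToposFin.Sh J))
    · refine J.superset_covering (fun W g' _ => ?_) (J.top_mem V)
      refine ⟨⟨i, hi⟩, Groth.SitesTopoi.Topos.rs (F i) g' t, ?_⟩
      rw [Groth.SitesTopoi.Topos.ap_rs]
      exact (congrArg _ ht).trans (Groth.SitesTopoi.Topos.rs_rs _ _ _ _)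
    · obtain ⟨e⟩ := not_isEmpty_iff.1 hi
      exact J.superset_covering bot_le
        (Groth.SitesTopoi.Topos.isEmptySheaf_of_isInitial (initialIsInitial.ofIso e.symm) V t)

end Groth.Agent.S3058
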