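import Groth.Statements.S3059
import Groth.Agent.SitesTopoi.Topos.HomColimit

set_option autoImplicit false
open CategoryTheory CategoryTheory.Limits Opposite
universe u
open ToposFin

namespace Groth.Agent.S3059

/-- For a topos of sheaves of sets on a small site: an object X is quasi-compact if and only if, for
every small filtered diagram (Y_i), the natural map colim Hom(X, Y_i) -> Hom(X, colim Y_i) is
injective. -/
theorem result {C : Type u} [SmallCategory C] {J : GrothendieckTopology C}
    (X : ToposFin.Sh J) :
    ToposFin.IsQC X ↔ ∀ (I : Type u) [SmallCategory I] [IsFiltered I] (D : I ⥤ ToposFin.Sh J),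
      Function.Injective (colimit.post D (coyoneda.obj (op X))) := by
  exact ⟨fun h I _ _ D => Groth.SitesTopoi.Topos.injective_post_of_isQC D X h,
    fun h => Groth.SitesTopoi.Topos.isQC_of_forall_injective h⟩

end Groth.Agent.S3059
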