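import Groth.Statements.S3069
import Groth.Agent.SitesTopoi.Topos.Eps

set_option autoImplicit false
open CategoryTheory CategoryTheory.Limits Opposite
universe u
open ToposFin

namespace Groth.Agent.S3069

/-- Let (C, J) be a small site with fibre products in which every object is quasi-compact. Then for
every object X of C the associated sheaf of the representable presheaf of X is a coherent object
(quasi-compact and quasi-separated) of the topos of sheaves of sets. -/
theorem result {C : Type u} [SmallCategory C] [HasPullbacks C]
    (J : GrothendieckTopology C) (hC : ∀ X : C, ToposFin.IsQCSite J X) (X : C) :
    ToposFin.IsCoherent (ToposFin.eps J X) := by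
  exact Groth.SitesTopoi.Topos.isCoherent_eps hC X

end Groth.Agent.S3069
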