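import Groth.Statements.S3073
import Groth.Agent.DescentBase.HenselCoh

set_option autoImplicit false
open CategoryTheory CategoryTheory.Limits AlgebraicGeometry Opposite
universe u
open EtDesc

namespace Groth.Agent.S3073

/-- Let A be a henselian local ring, Y = Spec A with closed point y, and F an abelian sheaf on Y_et (not
necessarily torsion). Then for every n the restriction map H^n(Y, F) -> H^n(Spec k(y), F|_{k(y)})
along the closed point is bijective. (Left exactness of the pullback functor carried as a binder.) -/
theorem result (A : Type u) [CommRing A] [HenselianLocalRing A]
    (F : EtCoh.Ab (Spec (CommRingCat.of A)))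
    [PreservesFiniteLimits (EtCoh.pull
      (Spec.map (CommRingCat.ofHom (IsLocalRing.residue A))))] (n : ℕ) :
    Function.Bijective (EtCore.Hpull (Spec.map (CommRingCat.ofHom (IsLocalRing.residue A))) F n) := by
  exact Groth.DescentBase.HenselCoh.bijective_Hpull F n

end Groth.Agent.S3073
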