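import Groth.Statements.S3075
import Groth.Agent.SitesTopoi.Topos.QS

set_option autoImplicit false
open CategoryTheory CategoryTheory.Limits Opposite
universe u
open ToposFin

namespace Groth.Agent.S3075

/-- For a topos of sheaves of sets on a small site admitting a generating family of quasi-compact
objects: if (g_i : Y_i -> Y) is a jointly epimorphic family with every Y_i quasi-separated and every
g_i quasi-compact, then Y is quasi-separated. -/
theorem result {C : Type u} [SmallCategory C] {J : GrothendieckTopology C} (hE : ToposFin.HasQCGenerators J) {Y : ToposFin.Sh J}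
    {ι : Type u} (Yi : ι → ToposFin.Sh J) (g : ∀ i, Yi i ⟶ Y) (hg : Epi (Sigma.desc g))
    (hqs : ∀ i, ToposFin.IsQS (Yi i)) (hqc : ∀ i, ToposFin.IsQCHom (g i)) : ToposFin.IsQS Y := by
  exact Groth.SitesTopoi.Topos.isQS_of_covers_qcHom (Groth.SitesTopoi.Topos.genBy_of_hasQCGenerators hE)
    (fun _ h => h) (Groth.SitesTopoi.Topos.covers_iff_epi_desc.2 hg) hqs hqc

end Groth.Agent.S3075
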