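import Groth.Statements.S3078
import Groth.Agent.SitesTopoi.Topos.GiraudTheorem

set_option autoImplicit false
universe v u
open CategoryTheory
open SGA4

namespace Groth.Agent.S3078

open CategoryTheory.Limits in
/-- Implication ii) ⇒ i): let E be a category whose hom sets are u-small. Assume (a) E has finite
limits, (b) every u-small family of objects has a coproduct which is disjoint and stable under base
change, (c) every equivalence relation in E is effective with a universally effective-epimorphic
quotient map, and (d) E has a u-small family of objects which detects isomorphisms (a generating
family). Then E is equivalent to the category of sheaves of u-small sets on some u-small site. -/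
theorem result {E : Type v} [Category.{u} E] [HasFiniteLimits E]
    (hb : SGA4.HasDisjointUniversalCoproducts.{v, u} E)
    (hc : ∀ (R A : E) (p₁ p₂ : R ⟶ A), SGA4.IsEquivRel p₁ p₂ → SGA4.IsEffectiveUniversalEquivRel p₁ p₂)
    (hd : ∃ P : ObjectProperty E, ObjectProperty.Small.{u} P ∧ P.IsDetecting) :
    SGA4.IsTopos.{v, u} E := by
  exact Groth.SitesTopoi.Topos.isTopos_of_giraud hb hc hd

end Groth.Agent.S3078
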