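import Groth.Statements.S3082
import Groth.Agent.SitesTopoi.Topos.SheafifiedCofan

set_option autoImplicit false
universe u
open CategoryTheory
open SGA4

namespace Groth.Agent.S3082

/-- Let (C, J) be a small site and G a set of objects of C such that each object of C has a covering
family whose members all lie in G. Then the sheafifications of the presheaves represented by the
members of G form a detecting family in the category Sh(C, J) of set-valued sheaves on (C, J): any
morphism of sheaves that is bijective on sections over each member of G is an isomorphism. -/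
theorem result {C : Type u} [SmallCategory C] (J : GrothendieckTopology C) (G : Set C)
    (hG : ∀ X : C, ∃ (ι : Type u) (Y : ι → C) (f : ∀ i, Y i ⟶ X), Sieve.ofArrows Y f ∈ J X ∧ ∀ i, Y i ∈ G) :
    (ObjectProperty.ofObj fun X : G => (presheafToSheaf J (Type u)).obj (yoneda.obj (X : C))).IsDetecting := by
  intro A B f hf
  refine Groth.SitesTopoi.Topos.isIso_of_bijective f fun U => ?_
  obtain ⟨ι, Y, p, hp, hY⟩ := hG U
  have key : ∀ (V : C), V ∈ G → ∀ b : B.obj.obj (Opposite.op V), ∃! a : A.obj.obj (Opposite.op V), Groth.SitesTopoi.Topos.ap f a = b := by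
    intro V hV b
    obtain ⟨h', h₁, h₂⟩ := hf _ (ObjectProperty.ofObj_apply
      (fun X : G => (presheafToSheaf J (Type u)).obj (yoneda.obj (X : C))) ⟨V, hV⟩)
      (Groth.SitesTopoi.Topos.epsLift b)
    refine ⟨Groth.SitesTopoi.Topos.ap h' (Groth.SitesTopoi.Topos.epsSec (𝟙 V)), ?_, fun a ha => ?_⟩
    · refine (Groth.SitesTopoi.Topos.ap_comp _ f _).symm.trans ?_
      exact (congrArg (fun φ => Groth.SitesTopoi.Topos.ap φ (Groth.SitesTopoi.Topos.epsSec (𝟙 V))) h₁).trans
        ((Groth.SitesTopoi.Topos.ap_epsLift b (𝟙 V)).trans (Groth.SitesTopoi.Topos.rs_id B b))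
    · have := h₂ (Groth.SitesTopoi.Topos.epsLift a) (Groth.SitesTopoi.Topos.eps_hom_ext (by
        rw [Groth.SitesTopoi.Topos.ap_comp, Groth.SitesTopoi.Topos.ap_epsLift, Groth.SitesTopoi.Topos.ap_epsLift,
          Groth.SitesTopoi.Topos.rs_id, Groth.SitesTopoi.Topos.rs_id, ha]))
      exact ((Groth.SitesTopoi.Topos.ap_epsLift a (𝟙 V)).trans (Groth.SitesTopoi.Topos.rs_id A a)).symm.trans
        (congrArg (fun φ => Groth.SitesTopoi.Topos.ap φ (Groth.SitesTopoi.Topos.epsSec (𝟙 V))) this)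
  refine ⟨fun a a' e => ?_, fun b => ?_⟩
  · refine Groth.SitesTopoi.Topos.sec_ext A hp fun W g hg => ?_
    obtain ⟨i, l, rfl⟩ := (Sieve.mem_ofArrows_iff Y p g).1 hg
    rw [← Groth.SitesTopoi.Topos.rs_rs, ← Groth.SitesTopoi.Topos.rs_rs]
    refine congrArg (Groth.SitesTopoi.Topos.rs A l) ((key _ (hY i) _).unique rfl ?_)
    rw [Groth.SitesTopoi.Topos.ap_rs, Groth.SitesTopoi.Topos.ap_rs]
    exact congrArg (Groth.SitesTopoi.Topos.rs B (p i)) e.symm
  · have hinj : ∀ (W : C) (a a' : A.obj.obj (Opposite.op W)), Groth.SitesTopoi.Topos.ap f a = Groth.SitesTopoi.Topos.ap f a' →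
        a = a' := by
      intro W a a' e
      obtain ⟨ι', Y', p', hp', hY'⟩ := hG W
      refine Groth.SitesTopoi.Topos.sec_ext A hp' fun V g hg => ?_
      obtain ⟨i, l, rfl⟩ := (Sieve.mem_ofArrows_iff Y' p' g).1 hg
      rw [← Groth.SitesTopoi.Topos.rs_rs, ← Groth.SitesTopoi.Topos.rs_rs]
      refine congrArg (Groth.SitesTopoi.Topos.rs A l) ((key _ (hY' i) _).unique rfl ?_)
      rw [Groth.SitesTopoi.Topos.ap_rs, Groth.SitesTopoi.Topos.ap_rs]
      exact congrArg (Groth.SitesTopoi.Topos.rs B (p' i)) e.symm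
    choose a ha _ using fun i => key _ (hY i) (Groth.SitesTopoi.Topos.rs B (p i) b)
    have hP : Presieve.IsSheafFor A.obj (Presieve.ofArrows Y p) :=
      (Presieve.isSheafFor_iff_generate _).2 (Groth.SitesTopoi.Topos.isSheafFor hp)
    obtain ⟨t, ht, -⟩ := (Presieve.isSheafFor_arrows_iff _ _).1 hP a (fun i j Z gi gj e => hinj Z _ _ (by
      change Groth.SitesTopoi.Topos.ap f (Groth.SitesTopoi.Topos.rs A gi (a i)) =
        Groth.SitesTopoi.Topos.ap f (Groth.SitesTopoi.Topos.rs A gj (a j))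
      rw [Groth.SitesTopoi.Topos.ap_rs, Groth.SitesTopoi.Topos.ap_rs, ha, ha, Groth.SitesTopoi.Topos.rs_rs,
        Groth.SitesTopoi.Topos.rs_rs, e]))
    refine ⟨t, Groth.SitesTopoi.Topos.sec_ext B hp fun W g hg => ?_⟩
    obtain ⟨i, l, rfl⟩ := (Sieve.mem_ofArrows_iff Y p g).1 hg
    rw [← Groth.SitesTopoi.Topos.rs_rs, ← Groth.SitesTopoi.Topos.rs_rs, ← ha i, ← ht i,
      Groth.SitesTopoi.Topos.ap_rs]

end Groth.Agent.S3082
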