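import Groth.Statements.S3085
import Groth.Agent.SitesTopoi.Topos.OpenClosed
import Mathlib.CategoryTheory.Adjunction.Triple
import Mathlib.CategoryTheory.Adjunction.Limits

set_option autoImplicit false
universe u
open CategoryTheory
open SGA4

namespace Groth.Agent.S3085

open CategoryTheory.Limits in
open Groth.SitesTopoi.Topos in
theorem glue_equivalence {C : Type u} [SmallCategory C] {J : GrothendieckTopology C} {U : Sheaf J (Type u)}
    (hU : SGA4.IsOpen U) [(Over.star U).IsLeftAdjoint]
    {L : Sheaf J (Type u) ⥤ (SGA4.closedCompl U).FullSubcategory} (adj : L ⊣ (SGA4.closedCompl U).ι) :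
    Nonempty (Sheaf J (Type u) ≌
      Comma (𝟭 (SGA4.closedCompl U).FullSubcategory) ((Over.star U).rightAdjoint ⋙ L)) := by
  let j := Over.star U
  let R := j.rightAdjoint
  let a : j ⊣ R := Adjunction.ofIsLeftAdjoint j
  let ι := (SGA4.closedCompl U).ι
  have hmono : Mono (terminal.from U) := hU
  have huniq : ∀ {Z : Sheaf J (Type u)} (p q : Z ⟶ U), p = q := fun p q =>
    (cancel_mono (terminal.from U)).1 (terminal.hom_ext _ _)
  have : (Over.forget U).Full := ⟨fun {A B} h => ⟨Over.homMk h (huniq _ _), rfl⟩⟩
  let t : Adjunction.Triple (Over.forget U) j R := { adj₁ := Over.forgetAdjStar U, adj₂ := a }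
  have hε : IsIso a.counit := t.isIso_unit_iff_isIso_counit.1 inferInstance
  have hε' : IsIso adj.counit := inferInstance
  have : PreservesFiniteLimits L := by
    have := Groth.SitesTopoi.Topos.closedPartFunctor_preservesFiniteLimits hU
    exact ⟨fun K _ _ => preservesLimitsOfShape_of_natIso
      (adj.leftAdjointUniq (Groth.SitesTopoi.Topos.closedPartAdjunction hU)).symm⟩
  have : PreservesLimitsOfSize.{0, 0} j := (Over.forgetAdjStar U).rightAdjoint_preservesLimits
  have hterm : ∀ Y : (SGA4.closedCompl U).FullSubcategory, ∀ Z : Over U, ∀ p q : Z ⟶ j.obj (ι.obj Y), p = q := by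
    intro Y Z p q
    refine Over.OverMorphism.ext ?_
    have : IsIso (prod.fst : U ⨯ ι.obj Y ⟶ U) := Y.property
    exact (cancel_mono (prod.fst : U ⨯ ι.obj Y ⟶ U)).1 (huniq _ _)
  have hiso : ∀ {X Y : Sheaf J (Type u)} (m : X ⟶ Y), IsIso (j.map m) → IsIso (L.map m) → IsIso m := by
    intro X Y m h₁ h₂
    have h₃ : IsIso ((Groth.SitesTopoi.Topos.closedPartFunctor hU).map m) :=
      (NatIso.isIso_map_iff (adj.leftAdjointUniq (Groth.SitesTopoi.Topos.closedPartAdjunction hU)) m).1 h₂
    exact Groth.SitesTopoi.Topos.isIso_of_open_closed hU m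
      ((Groth.SitesTopoi.Topos.isIso_left_star_map_iff m).1 h₁)
      (Functor.map_isIso (SGA4.closedCompl U).ι ((Groth.SitesTopoi.Topos.closedPartFunctor hU).map m))
  -- the pullback attached to a glued triple
  have hstar : ∀ {Y : (SGA4.closedCompl U).FullSubcategory} {Z : Over U} {P : Sheaf J (Type u)}
      {φ : Y ⟶ L.obj (R.obj Z)} {p₁ : P ⟶ ι.obj Y} {p₂ : P ⟶ R.obj Z},
      IsPullback p₁ p₂ (ι.map φ) (adj.unit.app (R.obj Z)) → IsIso (j.map p₂) ∧ IsIso (L.map p₁) := by
    intro Y Z P φ p₁ p₂ sq
    have : IsIso (j.map (ι.map φ)) := by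
      have : IsIso (prod.fst : U ⨯ ι.obj Y ⟶ U) := Y.property
      refine ⟨⟨Over.homMk ((prod.fst : U ⨯ ι.obj (L.obj (R.obj Z)) ⟶ U) ≫
          (@asIso _ _ _ _ (prod.fst : U ⨯ ι.obj Y ⟶ U) Y.property).inv)
        (huniq _ _), hterm _ _ _ _, hterm _ _ _ _⟩⟩
    have : IsIso (L.map (adj.unit.app (R.obj Z))) := by
      have h := adj.left_triangle_components (R.obj Z)
      have : IsIso (L.map (adj.unit.app (R.obj Z)) ≫ adj.counit.app (L.obj (R.obj Z))) := by
        rw [h]; exact ⟨𝟙 _, Category.id_comp _, Category.id_comp _⟩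
      exact IsIso.of_isIso_comp_right _ (adj.counit.app (L.obj (R.obj Z)))
    exact ⟨(sq.map j).isIso_snd_of_isIso, (sq.map L).isIso_fst_of_isIso⟩
  let Φ : Sheaf J (Type u) ⥤ Comma (𝟭 (SGA4.closedCompl U).FullSubcategory) (R ⋙ L) :=
    { obj := fun X => { left := L.obj X, right := j.obj X, hom := L.map (a.unit.app X) }
      map := fun {X X'} f => ⟨L.map f, j.map f, by
        change L.map f ≫ L.map (a.unit.app X') = L.map (a.unit.app X) ≫ L.map (R.map (j.map f))
        rw [← L.map_comp, ← L.map_comp]
        exact congrArg L.map (a.unit.naturality f)⟩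
      map_id := fun X => CommaMorphism.ext (L.map_id X) (j.map_id X)
      map_comp := fun f g => CommaMorphism.ext (L.map_comp f g) (j.map_comp f g) }
  have hX : ∀ X : Sheaf J (Type u),
      IsPullback (adj.unit.app X) (a.unit.app X) (ι.map (L.map (a.unit.app X))) (adj.unit.app (R.obj (j.obj X))) := by
    intro X
    let sq := IsPullback.of_hasPullback (ι.map (L.map (a.unit.app X))) (adj.unit.app (R.obj (j.obj X)))
    have w : adj.unit.app X ≫ ι.map (L.map (a.unit.app X)) = a.unit.app X ≫ adj.unit.app (R.obj (j.obj X)) :=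
      adj.unit_naturality (a.unit.app X)
    let m := sq.lift _ _ w
    obtain ⟨h₁, h₂⟩ := hstar sq
    have : IsIso m := by
      refine hiso m ?_ ?_
      · have e : j.map m ≫ j.map (pullback.snd _ _) = j.map (a.unit.app X) := by
          rw [← j.map_comp, sq.lift_snd]
        have : IsIso (j.map (a.unit.app X)) := by
          have : IsIso (j.map (a.unit.app X) ≫ a.counit.app (j.obj X)) := by
            rw [a.left_triangle_components X]; exact ⟨𝟙 _, Category.id_comp _, Category.id_comp _⟩
          exact IsIso.of_isIso_comp_right _ (a.counit.app (j.obj X))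
        exact IsIso.of_isIso_fac_right e
      · have e : L.map m ≫ L.map (pullback.fst _ _) = L.map (adj.unit.app X) := by
          rw [← L.map_comp, sq.lift_fst]
        have : IsIso (L.map (adj.unit.app X)) := by
          have : IsIso (L.map (adj.unit.app X) ≫ adj.counit.app (L.obj X)) := by
            rw [adj.left_triangle_components X]; exact ⟨𝟙 _, Category.id_comp _, Category.id_comp _⟩
          exact IsIso.of_isIso_comp_right _ (adj.counit.app (L.obj X))
        exact IsIso.of_isIso_fac_right e
    exact IsPullback.of_iso_pullback ⟨w⟩ (asIso m) (sq.lift_fst _ _ _) (sq.lift_snd _ _ _)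
  have : Φ.Faithful := ⟨fun {X X' f g} h => (hX X').hom_ext
    (((adj.unit_naturality f).symm.trans (congrArg (fun q : Φ.obj X ⟶ Φ.obj X' => adj.unit.app X ≫ ι.map q.left) h)).trans
      (adj.unit_naturality g))
    (((a.unit_naturality f).symm.trans (congrArg (fun q : Φ.obj X ⟶ Φ.obj X' => a.unit.app X ≫ R.map q.right) h)).trans
      (a.unit_naturality g))⟩
  have : Φ.Full := by
    refine ⟨fun {X X'} q => ?_⟩
    have hw : q.left ≫ L.map (a.unit.app X') = L.map (a.unit.app X) ≫ L.map (R.map q.right) := q.w
    obtain ⟨f, hf₁, hf₂⟩ := (hX X').exists_lift (adj.unit.app X ≫ ι.map q.left) (a.unit.app X ≫ R.map q.right) (by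
      rw [Category.assoc, ← ι.map_comp, hw, ← L.map_comp]
      exact adj.unit_naturality (a.unit.app X ≫ R.map q.right))
    refine ⟨f, CommaMorphism.ext ((adj.homEquiv _ _).injective ?_) ((a.homEquiv _ _).injective ?_)⟩
    · rw [adj.homEquiv_unit, adj.homEquiv_unit]
      exact (adj.unit_naturality f).trans hf₁
    · rw [a.homEquiv_unit, a.homEquiv_unit]
      exact (a.unit_naturality f).trans hf₂
  have : Φ.EssSurj := by
    refine ⟨fun T => ?_⟩
    let φ : T.left ⟶ L.obj (R.obj T.right) := T.hom
    let sq := IsPullback.of_hasPullback (ι.map φ) (adj.unit.app (R.obj T.right))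
    obtain ⟨h₁, h₂⟩ := hstar sq
    refine ⟨pullback (ι.map φ) (adj.unit.app (R.obj T.right)), ⟨Comma.isoMk
      (asIso (L.map (pullback.fst (ι.map φ) (adj.unit.app (R.obj T.right))) ≫ adj.counit.app T.left))
      (asIso (j.map (pullback.snd (ι.map φ) (adj.unit.app (R.obj T.right))) ≫ a.counit.app T.right)) ?_⟩⟩
    change (L.map _ ≫ adj.counit.app T.left) ≫ φ =
      L.map (a.unit.app _) ≫ L.map (R.map (j.map _ ≫ a.counit.app T.right))
    have e : a.unit.app (pullback (ι.map φ) (adj.unit.app (R.obj T.right))) ≫
        R.map (j.map (pullback.snd (ι.map φ) (adj.unit.app (R.obj T.right))) ≫ a.counit.app T.right) =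
          pullback.snd (ι.map φ) (adj.unit.app (R.obj T.right)) := by
      rw [R.map_comp, ← Category.assoc]
      refine (congrArg (· ≫ R.map (a.counit.app T.right)) (a.unit_naturality _)).trans ?_
      rw [Category.assoc]
      exact (congrArg (_ ≫ ·) (a.right_triangle_components T.right)).trans (Category.comp_id _)
    refine Eq.trans ?_ (L.map_comp _ _)
    refine Eq.trans ?_ (congrArg L.map e).symm
    rw [Category.assoc, ← adj.counit_naturality φ, ← Category.assoc, ← L.map_comp, sq.w,
      L.map_comp, Category.assoc]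
    exact (congrArg (L.map _ ≫ ·) (adj.left_triangle_components (R.obj T.right))).trans (Category.comp_id _)
  have : Φ.IsEquivalence := {}
  exact ⟨Φ.asEquivalence⟩


open CategoryTheory.Limits in
/-- Gluing a topos from an open subtopos and its closed complement, for sheaves of sets on a small site:
let E be the category of sheaves of sets on a small site, U an open of E (a subobject of the final
object) with restriction functor j^* : E → E/U, X ↦ U × X; assume j^* has a right adjoint j_* (true
in any topos; taken as an instance hypothesis), and let i^* be a left adjoint of the inclusion of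
the closed complement F of U. With ρ = i^* ∘ j_* : E/U → F, the category E is equivalent to the
glued category of triples (Y in F, X in E/U, Y → ρX). (Only the existence of an equivalence is
asserted; the published statement gives it explicitly as X ↦ (i^*X, j^*X, i^*(X → j_*j^*X)).) -/
theorem result {C : Type u} [SmallCategory C] (J : GrothendieckTopology C)
    (U : Sheaf J (Type u)) (hU : SGA4.IsOpen U) [(Over.star U).IsLeftAdjoint]
    (L : Sheaf J (Type u) ⥤ (SGA4.closedCompl U).FullSubcategory) (adj : L ⊣ (SGA4.closedCompl U).ι) :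
    Nonempty (Sheaf J (Type u) ≌
      Comma (𝟭 (SGA4.closedCompl U).FullSubcategory) ((Over.star U).rightAdjoint ⋙ L)) := by
  exact glue_equivalence hU adj

end Groth.Agent.S3085
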