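import Groth.Statements.S3086
import Groth.Agent.SitesTopoi.Topos.GluedTopos

set_option autoImplicit false
universe u
open CategoryTheory
open SGA4

namespace Groth.Agent.S3086

open CategoryTheory.Limits in
/-- For sheaf topoi on small sites): let ρ be a functor from sheaves of sets on (C, J) to sheaves of
sets on (D, K) which preserves finite limits and is accessible. Then the glued category of triples
(Y, X, Y -> ρ X) is a topos. -/
theorem result {C D : Type u} [SmallCategory C] [SmallCategory D] (J : GrothendieckTopology C)
    (K : GrothendieckTopology D) (ρ : Sheaf J (Type u) ⥤ Sheaf K (Type u)) [PreservesFiniteLimits ρ]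
    [ρ.IsAccessible.{u}] :
    SGA4.IsTopos.{u + 1, u} (Comma (𝟭 (Sheaf K (Type u))) ρ) := by
  exact Groth.SitesTopoi.Topos.isTopos_glued ρ

end Groth.Agent.S3086
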