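import Groth.Statements.S3091
import Groth.Agent.HTopHyper.Hyper.TrivFibHypercovering

set_option autoImplicit false
universe u
open CategoryTheory
open Hyper

namespace Groth.Agent.S3091

open Opposite CategoryTheory.Limits in
/-- Let (C, J) be a small site with fibre products and binary products, and K a hypercovering of the
final object of its topos, given as a simplicial object in formal coproducts of objects of C
(coskeleta of truncated simplicial objects in such formal coproducts being assumed to exist):
writing F(K_n) for the coproduct of representable sheaves given by K_n, the maps F(K₀) → * and F(K₁)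
→ F(K₀) × F(K₀) are locally surjective and, for n ≥ 1, so is F(K_{n+1}) → F((cosk_n sk_n K)_{n+1}).
Then the chain complex of abelian sheaves ℤ[F(K)]^# — in degree n the sheafification of the free
abelian presheaf on F(K_n), with differential the alternating sum of the faces — has vanishing
homology sheaves in all positive degrees, and its degree-zero homology sheaf is isomorphic to the
constant sheaf ℤ. -/
theorem result {C : Type u} [SmallCategory C] [HasPullbacks C] [HasBinaryProducts C]
    (J : GrothendieckTopology C) (K : SimplicialObject (FormalCoproduct.{u} C))
    [∀ (n : ℕ) (F : (SimplexCategory.Truncated n)ᵒᵖ ⥤ Limits.FormalCoproduct.{u} C),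
      (SimplexCategory.Truncated.inclusion n).op.HasRightKanExtension F]
    (hK : Hyper.IsHypercoveringSite J K) :
    (∀ n : ℕ, IsZero ((Hyper.freeChainCx J K).homology (n + 1))) ∧
    Nonempty ((Hyper.freeChainCx J K).homology 0 ≅ (constantSheaf J AddCommGrpCat.{u}).obj (AddCommGrpCat.of (ULift.{u} ℤ))) := by
  obtain ⟨h1, ⟨e⟩⟩ := Groth.HyperLib.freeChainCx_of_isTrivFib K (Groth.HyperLib.isTrivFib_site K hK)
  exact ⟨h1, ⟨e ≪≫ Groth.HyperLib.constSheafPointIso J⟩⟩

end Groth.Agent.S3091
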