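import Groth.Statements.S3093
import Groth.Agent.SiteCohomology.CompactSep

set_option autoImplicit false
universe u
open CohTop

namespace Groth.Agent.S3093

/-- Let X be a topological space and K ⊆ X a compact subset such that any two distinct points of K have
disjoint open neighbourhoods in X. If A and B are subsets of K that are closed in K and W is an open
subset of X containing A ∩ B, then there are open subsets U ⊇ A and V ⊇ B of X with U ∩ V ⊆ W. -/
theorem result {X : Type u} [TopologicalSpace X] {K : Set X} (hK : IsCompact K)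
    (hsep : ∀ x ∈ K, ∀ y ∈ K, x ≠ y → ∃ U V : Set X, IsOpen U ∧ IsOpen V ∧ x ∈ U ∧ y ∈ V ∧ Disjoint U V)
    {A B W : Set X} (hA : A ⊆ K) (hB : B ⊆ K) (hAc : IsClosed (Subtype.val ⁻¹' A : Set K))
    (hBc : IsClosed (Subtype.val ⁻¹' B : Set K)) (hW : IsOpen W) (hABW : A ∩ B ⊆ W) :
    ∃ U V : Set X, IsOpen U ∧ IsOpen V ∧ A ⊆ U ∧ B ⊆ V ∧ U ∩ V ⊆ W := by
  exact Groth.SiteCohomology.exists_open_inter_subset hK hsep hA hB hAc hBc hW hABW

end Groth.Agent.S3093
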