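import Groth.Statements.S3104
import Groth.Agent.EtPbc.NormalOpenConst

set_option autoImplicit false
universe u
open CategoryTheory CategoryTheory.Limits AlgebraicGeometry Opposite
open EtPBC

namespace Groth.Agent.S3104

/-- Let X be a normal scheme, j : U → X a quasi-compact open immersion with dense image, and M an
abelian group. Then the natural map from the constant sheaf M_X on X_ét to j_* j^* M_X (the unit of
the adjunction) is an isomorphism. The published statement is more general, allowing X geometrically
unibranch and sheaves of sets; stated here for X normal, j an open immersion and constant abelian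
sheaves. -/
theorem result (X U : Scheme.{u}) (hX : Pi1.IsNormalScheme X)
    (j : U ⟶ X) [IsOpenImmersion j] [QuasiCompact j] (hj : Dense (Set.range j)) [EtCoh.BCCont j]
    (M : Type) [AddCommGroup M] :
    IsIso ((EtCoh.pullPushAdj j).unit.app (EtCoh.const X M)) := by
  exact Groth.EtPbc.NormalOpen.isIso_unit j (EtCoh.const X M) _ hX hj
    (Groth.EtaleBase.LocConst.exists_stalkBij_const (EtCoh.top X) (ULift.{u + 1} M))

end Groth.Agent.S3104
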