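import Groth.Statements.S3107
import Groth.Agent.Pi1Formal.CodimGeneral

set_option autoImplicit false
universe u
open CategoryTheory CategoryTheory.Limits AlgebraicGeometry
open Pi1

namespace Groth.Agent.S3107
set_option backward.isDefEq.respectTransparency false
set_option linter.style.haveILetI false

/-- Let f : X -> S be smooth and j : U -> X an open immersion such that for every point s of S, every
point of the fibre X_s not lying over the image of j has local ring in X_s of Krull dimension at
least 2 (the complement of U has codimension at least 2 in every fibre). Then restriction of finite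
etale covers from X to U is an equivalence of categories. -/
theorem result {X U S : Scheme.{u}} (f : X ⟶ S) [Smooth f]
    (j : U ⟶ X) [IsOpenImmersion j]
    (hcodim : ∀ (s : S) (z : f.fiber s), (f.fiberι s).base z ∉ Set.range j →
      (2 : WithBot ℕ∞) ≤ ringKrullDim ((f.fiber s).presheaf.stalk z)) :
    (FEt.restrict j).IsEquivalence := by
  haveI := Groth.Pi1Formal.isEquivalence_of_fibCodimTwo f j.opensRange fun x hx =>
    hcodim (f x) (f.asFiber x) (by rw [f.fiberι_asFiber]; exact hx)
  haveI : (FEt.restrict j.isoOpensRange.hom).IsEquivalence := by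
    exact Functor.IsEquivalence.mk' (FEt.restrict j.isoOpensRange.inv)
      ((Groth.Pi1FEt.restrictIdIso _).symm ≪≫
        Groth.Pi1FEt.restrictCongr j.isoOpensRange.inv_hom_id.symm ≪≫
        Groth.Pi1FEt.restrictCompIso j.isoOpensRange.inv j.isoOpensRange.hom)
      ((Groth.Pi1FEt.restrictCompIso j.isoOpensRange.hom j.isoOpensRange.inv).symm ≪≫
        Groth.Pi1FEt.restrictCongr j.isoOpensRange.hom_inv_id ≪≫ Groth.Pi1FEt.restrictIdIso _)
  exact Functor.isEquivalence_of_iso
    ((Groth.Pi1FEt.restrictCompIso j.isoOpensRange.hom j.opensRange.ι).symm ≪≫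
      Groth.Pi1FEt.restrictCongr j.isoOpensRange_hom_ι)

end Groth.Agent.S3107
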