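import Groth.Statements.S3116
import Groth.Agent.EtaleDeep.Cons.AbCriteria
-- import your own Groth.Agent.* helpers here

set_option autoImplicit false
set_option backward.isDefEq.respectTransparency.types false
universe u
open CategoryTheory CategoryTheory.Limits AlgebraicGeometry Opposite
open EtPBC

namespace Groth.Agent.S3116

/-- For abelian sheaves: let X be locally noetherian and F an abelian sheaf on the small etale site of X
whose geometric stalks (at all geometric points with separably closed residue field) are finite.
Then F is constructible if and only if for every natural number n the set of points x of X such that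
the stalk of F at some geometric point over x has exactly n elements is locally constructible. -/
theorem result (X : Scheme.{u}) [IsLocallyNoetherian X] (F : EtCoh.Ab X)
    (hfin : ∀ (Ω : Type u) [Field Ω] [IsSepClosed Ω] (ξ : Spec (CommRingCat.of Ω) ⟶ X),
      Finite ((EtCoh.stalk ξ).obj F)) :
    EtPBC.IsConstructible F ↔ ∀ n : ℕ, Topology.IsLocallyConstructible
      {x : X | ∃ (Ω : Type u) (_ : Field Ω) (_ : IsSepClosed Ω) (ξ : Spec (CommRingCat.of Ω) ⟶ X),
        Set.range ξ = {x} ∧ Nat.card ((EtCoh.stalk ξ).obj F) = n} := by
  have hset : ∀ n : ℕ, {x : X | ∃ (Ω : Type u) (_ : Field Ω) (_ : IsSepClosed Ω)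
      (ξ : Spec (CommRingCat.of Ω) ⟶ X),
        Set.range ξ = {x} ∧ Nat.card ((EtCoh.stalk ξ).obj F) = n} =
      {x : X | Nat.card ((EtCoh.stalk (Groth.EtaleBase.geomPoint x)).obj F) = n} := fun n => by
    ext x
    refine ⟨?_, fun h => ⟨_, inferInstance, inferInstance, Groth.EtaleBase.geomPoint x,
      Groth.EtaleDeep.Cons.range_eq_singleton (Groth.EtaleBase.geomPoint_apply _ _), h⟩⟩
    rintro ⟨Ω, _, _, ξ, hξ, hn⟩
    have := hfin _ ξ
    exact (Groth.EtaleDeep.Cons.card_stalk_eq F (η := ξ) (ξ := Groth.EtaleBase.geomPoint x)
      ((Groth.EtaleDeep.Cons.base_default_of_range hξ).trans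
        (Groth.EtaleBase.geomPoint_apply _ _).symm)).trans hn
  simp only [hset]
  refine ⟨fun hF n => Groth.EtaleDeep.Cons.isLocallyConstructible_stalk hF (fun A => Nat.card A = n) ?_,
    Groth.EtaleDeep.Cons.isConstructible_of_card F hfin⟩
  intro A B e h
  exact (Nat.card_congr e.addCommGroupIsoToAddEquiv.toEquiv).symm.trans h

end Groth.Agent.S3116
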