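import Groth.Statements.S3120
import Groth.Agent.EtaleBase.ExtZeroProps

set_option autoImplicit false
universe u
open CategoryTheory CategoryTheory.Limits AlgebraicGeometry Opposite
open EtDual

namespace Groth.Agent.S3120

/-- Let f : X → Y be a morphism of schemes, j : V → Y an open immersion, and U = X ×_Y V with
projections f' : U → V and j' : U → X (an open immersion). Then for every abelian sheaf G on the
small étale site of V, the sheaves f^*(j_!G) and j'_!(f'^*G) on X are isomorphic. (The published
statement gives a unique isomorphism compatible with the base change map for j_*; only the existence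
of an isomorphism is stated here. The prelude's instances for the inverse image functors along f and
f' are carried as binders.) -/
theorem result {X Y V : Scheme.{u}} (f : X ⟶ Y) (j : V ⟶ Y) [IsOpenImmersion j]
    [EtCoh.BCCont f] [EtCoh.BCCont (pullback.snd f j)] (G : EtCoh.Ab V) :
    Nonempty ((EtCoh.pull f).obj ((EtShriek.extZero j).obj G) ≅
      (EtShriek.extZero (pullback.fst f j)).obj ((EtCoh.pull (pullback.snd f j)).obj G)) := by
  let j' := pullback.fst f j
  let f' := pullback.snd f j
  let A := (EtShriek.extZero j).obj G
  haveI := Groth.EtaleBase.isIso_extZero_unit j G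
  refine Groth.EtaleBase.nonempty_iso_extZero j' _ ((EtCoh.pull f).obj A) ⟨?_⟩ fun Ω _ _ ξ hξ => ?_
  · exact ((Groth.EtaleBase.pullRestrIso j').app _).symm ≪≫ ((EtCore.pullComp j' f).app A).symm ≪≫
      (EtCore.pullCongr pullback.condition).app A ≪≫ (EtCore.pullComp f' j).app A ≪≫
      (EtCoh.pull f').mapIso ((Groth.EtaleBase.pullRestrIso j).app A ≪≫
        (asIso ((EtShriek.extZeroAdj j).unit.app G)).symm)
  · refine IsZero.of_iso (Groth.EtaleBase.isZero_stalk_extZero j (ξ ≫ f) ?_ G)
      ((Groth.EtaleBase.stalkPullIso f ξ).app A).symm
    intro h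
    refine hξ ⟨default, rfl⟩ ?_
    rw [IsOpenImmersion.range_pullbackFst]
    exact h

end Groth.Agent.S3120
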