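import Groth.Statements.S3133
import Mathlib

set_option autoImplicit false
open Polynomial
open SGA4h

namespace Groth.Agent.S3133

/-- The companion of `y` scaled by `t`. -/
def cycM {S : Type} [CommRing S] (n : ℕ) (t y : S) : Matrix (Fin n) (Fin n) S :=
  Matrix.of fun i j => (if i = j then 1 else 0) -
    t * (if i.val = 0 then (if j.val = n - 1 then y else 0) else (if j.val + 1 = i.val then 1 else 0))

lemma cycM_of_eq_zero {S : Type} [CommRing S] {n : ℕ} (t y : S) {i j : Fin (n + 1)} (hi : i.val = 0) :
    cycM (n + 1) t y i j = (if j.val = 0 then 1 else 0) - t * (if j.val = n then y else 0) := by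
  unfold cycM
  rw [Matrix.of_apply, if_pos hi, Nat.add_sub_cancel]
  congr 1
  exact if_congr ⟨fun h => h ▸ hi, fun h => Fin.ext (hi.trans h.symm)⟩ rfl rfl

lemma cycM_of_ne_zero {S : Type} [CommRing S] {n : ℕ} (t y : S) {i j : Fin (n + 1)} (hi : i.val ≠ 0) :
    cycM (n + 1) t y i j =
      (if i.val = j.val then 1 else 0) - t * (if j.val + 1 = i.val then 1 else 0) := by
  unfold cycM
  rw [Matrix.of_apply, if_neg hi]
  congr 1
  exact if_congr Fin.ext_iff rfl rfl

lemma det_cycM {S : Type} [CommRing S] (n : ℕ) (hn : 1 ≤ n) (t y : S) :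
    (cycM n t y).det = 1 - t ^ n * y := by
  obtain ⟨n, rfl⟩ : ∃ k, n = k + 1 := ⟨n - 1, by omega⟩
  rcases n with _ | n
  · simp [cycM]
  have hlast : ((Fin.last (n + 1)).succAbove : Fin (n + 1) → Fin (n + 2)) = Fin.castSucc :=
    Fin.succAbove_last
  rw [Matrix.det_succ_row_zero, Finset.sum_eq_add_of_mem 0 (Fin.last (n + 1)) (Finset.mem_univ _)
    (Finset.mem_univ _) (fun h => by have := congrArg Fin.val h; simp at this) fun j _ hj => by
      have h1 : ¬ ((j : ℕ) = 0) := fun h => hj.1 (Fin.ext h)
      have h2 : ¬ ((j : ℕ) = n + 1) := fun h => hj.2 (Fin.ext h)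
      rw [cycM_of_eq_zero t y (i := 0) rfl, if_neg h1, if_neg h2]
      simp]
  have hs : ∀ i : Fin (n + 1), (i.succ : Fin (n + 2)).val ≠ 0 := fun i => by simp
  have hL : ((cycM (n + 1 + 1) t y).submatrix Fin.succ (0 : Fin (n + 2)).succAbove).det = 1 := by
    rw [Matrix.det_of_isLowerTriangular]
    · refine Finset.prod_eq_one fun i _ => ?_
      rw [Matrix.submatrix_apply, Fin.succAbove_zero, cycM_of_ne_zero t y (hs i), if_pos rfl,
        if_neg (Nat.succ_ne_self _), mul_zero, sub_zero]
    · intro i j hij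
      have hij' : (i : ℕ) < j := hij
      rw [Matrix.submatrix_apply, Fin.succAbove_zero, cycM_of_ne_zero t y (hs i),
        if_neg (by simp only [Fin.val_succ]; omega), if_neg (by simp only [Fin.val_succ]; omega),
        mul_zero, sub_zero]
  have hU : ((cycM (n + 1 + 1) t y).submatrix Fin.succ (Fin.last (n + 1)).succAbove).det =
      (-t) ^ (n + 1) := by
    rw [Matrix.det_of_isUpperTriangular]
    · rw [Finset.prod_congr rfl fun i _ => ?_, Finset.prod_const, Finset.card_univ, Fintype.card_fin]
      rw [Matrix.submatrix_apply, hlast, cycM_of_ne_zero t y (hs i),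
        if_neg (by simp only [Fin.val_succ, Fin.val_castSucc]; omega), if_pos (by simp), mul_one, zero_sub]
    · intro i j hij
      have hij' : (j : ℕ) < i := hij
      rw [Matrix.submatrix_apply, hlast, cycM_of_ne_zero t y (hs i),
        if_neg (by simp only [Fin.val_succ, Fin.val_castSucc]; omega),
        if_neg (by simp only [Fin.val_succ, Fin.val_castSucc]; omega), mul_zero, sub_zero]
  rw [hL, hU, cycM_of_eq_zero t y (i := 0) rfl, cycM_of_eq_zero t y (i := 0) rfl]
  simp only [Fin.val_zero, Fin.val_last, pow_zero, ↓reduceIte, Nat.add_one_ne_zero,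
    if_neg (Nat.succ_ne_zero n).symm, mul_zero, sub_zero, zero_sub, mul_one]
  rw [neg_pow t (n + 1)]
  have h : ((-1 : S) ^ (n + 1)) * (-1) ^ (n + 1) = 1 := by rw [← pow_add, ← two_mul, pow_mul]; simp
  linear_combination (-(t ^ (n + 2) * y)) * h

/-- Let A be a square matrix over a commutative ring and n ≥ 1, and let B be the matrix on n blocks of
the endomorphism (x_1, …, x_n) ↦ (A x_n, x_1, …, x_{n-1}). Then det(1 − B·T) = det(1 − A·Tⁿ), i.e.
the reverse characteristic polynomial of B is that of A expanded by n. -/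
theorem result (R : Type) [CommRing R] (m : Type) [Fintype m] [DecidableEq m]
    (A : Matrix m m R) (n : ℕ) (hn : 1 ≤ n) :
    (Matrix.of fun (p q : Fin n × m) =>
        if p.1.val = 0 then (if q.1.val = n - 1 then A p.2 q.2 else 0)
        else (if q.1.val + 1 = p.1.val ∧ p.2 = q.2 then 1 else 0)).charpolyRev =
      Polynomial.expand R n A.charpolyRev := by
  let Q := Polynomial (Polynomial R)
  let Am : Matrix m m (Polynomial R) := A.map Polynomial.C
  let f : Q →+* Matrix m m (Polynomial R) := (Polynomial.aeval Am).toRingHom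
  have key := Matrix.det_det (cycM n (Polynomial.C (Polynomial.X : R[X])) (Polynomial.X : Q)) f
  have hfX : f Polynomial.X = Am := Polynomial.aeval_X _
  have hfC : ∀ c : R[X], f (Polynomial.C c) = c • (1 : Matrix m m R[X]) := fun c => by
    show Polynomial.aeval Am (Polynomial.C c) = _
    rw [Polynomial.aeval_C, Algebra.algebraMap_eq_smul_one]
  have hL : (Matrix.of fun (p q : Fin n × m) =>
        if p.1.val = 0 then (if q.1.val = n - 1 then A p.2 q.2 else 0)
        else (if q.1.val + 1 = p.1.val ∧ p.2 = q.2 then 1 else 0)).charpolyRev =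
      (((cycM n (Polynomial.C (Polynomial.X : R[X])) (Polynomial.X : Q)).map f).comp
        (Fin n) (Fin n) m m R[X]).det := by
    rw [Matrix.charpolyRev]
    congr 1
    ext ⟨i, a⟩ ⟨j, b⟩ : 1
    simp only [cycM, Matrix.comp_apply, Matrix.map_apply, Matrix.of_apply, map_sub, map_mul, hfC,
      Matrix.sub_apply, Matrix.smul_apply, Matrix.smul_mul, Matrix.one_mul, smul_eq_mul,
      Matrix.one_apply, Prod.mk.injEq]
    split_ifs <;> simp_all [Am, map_zero, map_one]
  rw [hL, ← key, det_cycM n hn, map_sub, map_mul, map_pow, map_one, hfX, hfC, _root_.smul_pow, one_pow,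
    Matrix.smul_mul, Matrix.one_mul, Matrix.charpolyRev]
  show _ = (Polynomial.expand R n).toRingHom (Matrix.det _)
  rw [RingHom.map_det]
  congr 1
  ext a b : 1
  simp only [Matrix.sub_apply, Matrix.smul_apply, RingHom.mapMatrix_apply, Matrix.map_apply,
    smul_eq_mul, map_sub, map_mul, Am]
  rw [Matrix.one_apply]
  split_ifs with h <;> simp [h]

end Groth.Agent.S3133
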