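import Groth.Statements.S3134
import Groth.Agent.Misc10.TraceExp

set_option autoImplicit false
open Polynomial
open SGA4h

namespace Groth.Agent.S3134

open PowerSeries in
/-- Jacobi's formula for `det(1 - t A)`. -/
lemma derivative_charpolyRev {K : Type} [CommRing K] {n : Type} [Fintype n] [DecidableEq n]
    (A : Matrix n n K) :
    d⁄dX K (A.charpolyRev : K⟦X⟧) =
      -(mk fun m => (A ^ (m + 1)).trace) * (A.charpolyRev : K⟦X⟧) := by
  classical
  let M : Matrix n n K⟦X⟧ := 1 - (PowerSeries.X : K⟦X⟧) • A.map PowerSeries.C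
  let N : Matrix n n K⟦X⟧ := Matrix.of fun i j => mk fun m => (A ^ m) i j
  have hdet : (A.charpolyRev : K⟦X⟧) = M.det := by
    rw [Matrix.charpolyRev]
    show Polynomial.coeToPowerSeries.ringHom (Matrix.det _) = _
    rw [RingHom.map_det]
    congr 1
    ext i j : 1
    by_cases h : i = j
    · subst h; simp [M]; exact mul_comm _ _
    · simp [M, h]; exact mul_comm _ _
  have hMN : M * N = 1 := by
    ext i j m
    have hexp : (M * N) i j = N i j - PowerSeries.X * ((A.map PowerSeries.C) * N) i j := by
      rw [show M * N = 1 * N - ((PowerSeries.X : K⟦X⟧) • A.map PowerSeries.C) * N from Matrix.sub_mul _ _ _, Matrix.one_mul,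
        Matrix.smul_mul]
      rfl
    rw [hexp]
    cases m with
    | zero =>
      simp only [map_sub, coeff_zero_X_mul, sub_zero, N, Matrix.of_apply, coeff_mk, pow_zero]
      by_cases h : i = j
      · subst h; simp
      · simp [Matrix.one_apply_ne h]
    | succ m =>
      rw [map_sub, coeff_succ_X_mul, Matrix.mul_apply, map_sum]
      simp only [N, Matrix.of_apply, coeff_mk, pow_succ', Matrix.mul_apply, Matrix.map_apply,
        PowerSeries.coeff_C_mul, sub_self]
      by_cases h : i = j
      · subst h; simp [PowerSeries.coeff_one]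
      · simp [Matrix.one_apply_ne h]
  have hadj : M.adjugate = M.det • N := by
    calc M.adjugate = M.adjugate * (M * N) := by rw [hMN, Matrix.mul_one]
      _ = (M.adjugate * M) * N := (Matrix.mul_assoc _ _ _).symm
      _ = _ := by rw [Matrix.adjugate_mul, Matrix.smul_mul, Matrix.one_mul]
  have hD : M.map (d⁄dX K) = -(A.map PowerSeries.C) := by
    ext i j : 1
    by_cases h : i = j
    · subst h; simp [M]
    · simp [M, h]
  rw [hdet, Groth.Misc10.TraceExp.derivation_det, hadj, hD, Matrix.smul_mul, Matrix.mul_neg,
    Matrix.trace_smul, Matrix.trace_neg, smul_eq_mul, neg_mul, mul_neg, mul_comm M.det]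
  congr 2
  ext m
  simp only [coeff_mk, Matrix.trace, Matrix.diag, map_sum, Matrix.mul_apply, Matrix.map_apply,
    Matrix.of_apply, PowerSeries.coeff_mul_C, N, pow_succ]

/-- For a square matrix A over a commutative ring, with P(T) = det(1 − A·T), one has −T·P′(T) = P(T) ·
Σ_{n ≥ 1} Tr(Aⁿ) Tⁿ as formal power series (equivalently T d/dT log P(T)⁻¹ = Σ_{n≥1} Tr(Aⁿ) Tⁿ). -/
theorem result (R : Type) [CommRing R] (m : Type) [Fintype m] [DecidableEq m]
    (A : Matrix m m R) :
    ((-(X * Polynomial.derivative A.charpolyRev) : R[X]) : PowerSeries R) =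
      (A.charpolyRev : PowerSeries R) * PowerSeries.mk (fun n => if n = 0 then 0 else (A ^ n).trace) := by
  have h := derivative_charpolyRev A
  rw [PowerSeries.derivative_coe] at h
  ext j
  cases j with
  | zero => simp [PowerSeries.coeff_mul]
  | succ j =>
    have hj := congrArg (PowerSeries.coeff j) h
    have hsplit : (PowerSeries.mk fun n => if n = 0 then 0 else (A ^ n).trace) =
        PowerSeries.X * PowerSeries.mk fun n => (A ^ (n + 1)).trace := by
      ext i
      cases i with
      | zero => simp
      | succ i => simp [PowerSeries.coeff_succ_X_mul]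
    rw [hsplit, ← mul_assoc, mul_comm (A.charpolyRev : PowerSeries R), mul_assoc,
      PowerSeries.coeff_succ_X_mul, mul_comm (A.charpolyRev : PowerSeries R)]
    simp only [neg_mul, map_neg] at hj
    rw [Polynomial.coeff_coe] at hj ⊢
    rw [Polynomial.coeff_neg, Polynomial.coeff_X_mul, hj, neg_neg]

end Groth.Agent.S3134
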