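import Groth.Statements.S3139
import Mathlib
import Groth.Agent.CharSeries.ContractibleDet

set_option autoImplicit false
universe u
open CategoryTheory
attribute [local instance] HasDerivedCategory.standard
open SGA4h

namespace Groth.Agent.S3139

/-- Let A be a commutative ring, K and K' bounded cochain complexes of finite free A-modules with
endomorphisms u and u', and suppose (K, u) and (K', u') are isomorphic in the derived category D(A):
there is an isomorphism K ≅ K' in D(A) intertwining the images of u and u'. Then det(1 - u t, K) =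
det(1 - u' t, K'), where det(1 - u t, K) = ∏ᵢ det(1 - u t, Kⁱ)^{(-1)^i}; the equality is stated
cross-multiplied, as ∏_{i even} det(1 - u t, Kⁱ) · ∏_{i odd} det(1 - u' t, K'ⁱ) = ∏_{i odd} det(1 -
u t, Kⁱ) · ∏_{i even} det(1 - u' t, K'ⁱ) in A[t]. (The source works with finite projective modules;
finite free is the special case stated here.) -/
theorem result (A : Type u) [CommRing A]
    (K K' : CochainComplex (ModuleCat.{u} A) ℤ) (a b : ℤ) [K.IsStrictlyGE a] [K.IsStrictlyLE b] [K'.IsStrictlyGE a] [K'.IsStrictlyLE b]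
    (hK : ∀ i : ℤ, Module.Finite A (K.X i) ∧ Module.Free A (K.X i)) (hK' : ∀ i : ℤ, Module.Finite A (K'.X i) ∧ Module.Free A (K'.X i))
    (u : K ⟶ K) (u' : K' ⟶ K') (φ : DerivedCategory.Q.obj K ≅ DerivedCategory.Q.obj K')
    (hφ : DerivedCategory.Q.map u ≫ φ.hom = φ.hom ≫ DerivedCategory.Q.map u') :
    SGA4h.detEven K u * SGA4h.detOdd K' u' = SGA4h.detOdd K u * SGA4h.detEven K' u' := by
  have : ∀ i, Module.Finite A (K.X i) := fun i => (hK i).1
  have : ∀ i, Module.Free A (K.X i) := fun i => (hK i).2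
  have : ∀ i, Module.Finite A (K'.X i) := fun i => (hK' i).1
  have : ∀ i, Module.Free A (K'.X i) := fun i => (hK' i).2
  have : ∀ i, Projective (K.X i) := fun i =>
    ModuleCat.projective_of_free (Module.Free.chooseBasis A (K.X i))
  have : ∀ i, Projective (K'.X i) := fun i =>
    ModuleCat.projective_of_free (Module.Free.chooseBasis A (K'.X i))
  have : K.IsKProjective := CochainComplex.isKProjective_of_projective K b
  have : K'.IsKProjective := CochainComplex.isKProjective_of_projective K' b
  -- lift the isomorphism to a homotopy equivalence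
  obtain ⟨f, g, hgf, hfg, hfu⟩ : ∃ (f : K ⟶ K') (g : K' ⟶ K), Nonempty (Homotopy (f ≫ g) (𝟙 K)) ∧
      Nonempty (Homotopy (g ≫ f) (𝟙 K')) ∧ Nonempty (Homotopy (f ≫ u') (u ≫ f)) := by
    let q := HomotopyCategory.quotient (ModuleCat.{u} A) (ComplexShape.up ℤ)
    let θ := DerivedCategory.quotientCompQhIso (ModuleCat.{u} A)
    obtain ⟨f₁, hf₁⟩ := (CochainComplex.IsKProjective.Qh_map_bijective K (q.obj K')).surjective
      (θ.hom.app K ≫ φ.hom ≫ θ.inv.app K')
    obtain ⟨g₁, hg₁⟩ := (CochainComplex.IsKProjective.Qh_map_bijective K' (q.obj K)).surjective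
      (θ.hom.app K' ≫ φ.inv ≫ θ.inv.app K)
    obtain ⟨f, rfl⟩ := q.map_surjective f₁
    obtain ⟨g, rfl⟩ := q.map_surjective g₁
    refine ⟨f, g, ⟨HomotopyCategory.homotopyOfEq _ _ ?_⟩, ⟨HomotopyCategory.homotopyOfEq _ _ ?_⟩,
      ⟨HomotopyCategory.homotopyOfEq _ _ ?_⟩⟩
    · refine (CochainComplex.IsKProjective.Qh_map_bijective K (q.obj K)).injective ?_
      simp only [q, Functor.map_comp] at hf₁ hg₁ ⊢
      simp [hf₁, hg₁, θ]
    · refine (CochainComplex.IsKProjective.Qh_map_bijective K' (q.obj K')).injective ?_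
      simp only [q, Functor.map_comp] at hf₁ hg₁ ⊢
      simp [hf₁, hg₁, θ]
    · refine (CochainComplex.IsKProjective.Qh_map_bijective K (q.obj K')).injective ?_
      simp only [q, Functor.map_comp] at hf₁ hg₁ ⊢
      rw [hf₁, Category.assoc, Category.assoc,
        ← DerivedCategory.quotientCompQhIso_inv_naturality u', ← reassoc_of% hφ,
        DerivedCategory.quotientCompQhIso_hom_naturality_assoc]
  obtain ⟨hgf⟩ := hgf
  obtain ⟨hfg⟩ := hfg
  obtain ⟨hfu⟩ := hfu
  let bc : ∀ {M N : ModuleCat.{u} A}, (M ⟶ N) →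
      (TensorProduct A (Polynomial A) M →ₗ[Polynomial A] TensorProduct A (Polynomial A) N) :=
    fun m => m.hom.baseChange (Polynomial A)
  have bcc : ∀ {M N P : ModuleCat.{u} A} (m : M ⟶ N) (n : N ⟶ P) (x), bc (m ≫ n) x = bc n (bc m x) := by
    intro M N P m n x
    simp [bc, LinearMap.baseChange_comp]
  have hom : ∀ {L L' : CochainComplex (ModuleCat.{u} A) ℤ} {p p' : L ⟶ L'} (H : Homotopy p p')
      (i : ℤ) (x), bc (p.f (i + 1)) x = bc (H.hom (i + 1 + 1) (i + 1)) (bc (L.d (i + 1) (i + 1 + 1)) x) +
        bc (L'.d i (i + 1)) (bc (H.hom (i + 1) i) x) + bc (p'.f (i + 1)) x := by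
    intro L L' p p' H i x
    rw [← bcc, ← bcc, H.comm (i + 1),
      dNext_eq H.hom (show (ComplexShape.up ℤ).Rel (i + 1) (i + 1 + 1) from rfl),
      prevD_eq H.hom (show (ComplexShape.up ℤ).Rel i (i + 1) from rfl)]
    simp [bc, LinearMap.baseChange_add]
  have nat : ∀ {L L' : CochainComplex (ModuleCat.{u} A) ℤ} (p : L ⟶ L') (i : ℤ) (x),
      bc (p.f (i + 1)) (bc (L.d i (i + 1)) x) = bc (L'.d i (i + 1)) (bc (p.f i) x) := by
    intro L L' p i x
    rw [← bcc, ← bcc, p.comm]
  have hd : ∀ (L : CochainComplex (ModuleCat.{u} A) ℤ) (i : ℤ) (x),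
      bc (L.d (i + 1) (i + 1 + 1)) (bc (L.d i (i + 1)) x) = 0 := by
    intro L i x
    rw [← bcc, L.d_comp_d]
    simp [bc]
  have bcid : ∀ {L : CochainComplex (ModuleCat.{u} A) ℤ} (i : ℤ) (x),
      bc ((𝟙 L : L ⟶ L).f i) x = x := by
    intro L i x
    simp [bc, LinearMap.baseChange_id]
  have fin : ∀ (L : CochainComplex (ModuleCat.{u} A) ℤ) [L.IsStrictlyGE a] [L.IsStrictlyLE b],
      {i : ℤ | ¬ Subsingleton (TensorProduct A (Polynomial A) (L.X i))}.Finite := by
    intro L _ _
    refine (Set.finite_Icc a b).subset fun i hi => ?_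
    by_contra hcon
    apply hi
    have hz : Limits.IsZero (L.X i) := by
      rcases not_and_or.1 (Set.mem_Icc.not.1 hcon) with h | h
      · exact L.isZero_of_isStrictlyGE a i (by omega)
      · exact L.isZero_of_isStrictlyLE b i (by omega)
    have : Subsingleton (L.X i) := ModuleCat.subsingleton_of_isZero hz
    refine ⟨fun p q => ?_⟩
    have h0 : ∀ z : TensorProduct A (Polynomial A) (L.X i), z = 0 := fun z => by
      induction z using TensorProduct.induction_on with
      | zero => rfl
      | tmul r m => rw [Subsingleton.elim m 0, TensorProduct.tmul_zero]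
      | add s t hs ht => rw [hs, ht, add_zero]
    rw [h0 p, h0 q]
  have key := Groth.Agent.CharSeries.det_invariant (R := Polynomial A)
    (fun i => TensorProduct A (Polynomial A) (K.X i)) (fun i => TensorProduct A (Polynomial A) (K'.X i))
    (fun i => bc (K.d i (i + 1))) (fun i => bc (K'.d i (i + 1)))
    (fun i => bc (f.f i)) (fun i => bc (g.f i))
    (fun i => bc (hgf.hom (i + 1) i)) (fun i => bc (hfg.hom (i + 1) i))
    (fun i => -((Polynomial.X : Polynomial A) • bc (hfu.hom (i + 1) i)))
    (fun i => -((Polynomial.X : Polynomial A) • bc (u.f i)))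
    (fun i => -((Polynomial.X : Polynomial A) • bc (u'.f i)))
    (hd K) (hd K') (nat f) (nat g)
    (fun i x => by
      have h := hom hgf i x
      rw [HomologicalComplex.comp_f, bcc, bcid] at h
      exact h)
    (fun i x => by
      have h := hom hfg i x
      rw [HomologicalComplex.comp_f, bcc, bcid] at h
      exact h)
    (fun i x => by simp [nat u i x])
    (fun i x => by simp [nat u' i x])
    (fun i x => by
      have h := hom hfu i x
      rw [HomologicalComplex.comp_f, bcc, HomologicalComplex.comp_f, bcc] at h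
      simp only [LinearMap.neg_apply, LinearMap.smul_apply, map_neg, map_smul, h, smul_add]
      abel)
    (fin K) (fin K')
  simp only [SGA4h.detEven, SGA4h.detOdd, SGA4h.detOneSub, sub_eq_add_neg]
  exact key

end Groth.Agent.S3139
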