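import Groth.Statements.S3140
import Groth.Agent.KoszulLCI.Local
import Groth.Agent.KoszulLCI.RegularFactor
import Groth.Agent.KoszulLCI.Regular

set_option autoImplicit false
universe u
open RingTheory.Sequence
open SGA4h

namespace Groth.Agent.S3140

open Groth.KoszulLCI in
/-- Two regular generating sequences with a common beginning are connected by elementary steps. -/
theorem reflTransGen_step {A : Type u} [CommRing A] [IsLocalRing A] (P : List A → Prop) {I : Ideal A}
    (hPI : ∀ w, P w → Ideal.ofList w = I) (hI : I ≠ ⊤)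
    (hPK : ∀ w, P w → LCI.IsKoszulRegularSeq A w) {r : ℕ} (hlen : ∀ w, P w → w.length = r)
    (hP : ∀ w : List A, Ideal.ofList w = I → w.length = r → P w) :
    ∀ (n : ℕ) (f p q : List A), f.length = n → P (p ++ f) → P (p ++ q) →
      Relation.ReflTransGen (fun w w' : List A => P w' ∧ (w.Perm w' ∨ (w.length = w'.length ∧ w.dropLast = w'.dropLast)))
        (p ++ f) (p ++ q)
  | 0, f, p, q, hn, hf, hq => by
    have h1 := hlen _ hf
    have h2 := hlen _ hq
    rw [List.length_append] at h1 h2
    rw [List.length_eq_zero_iff.mp hn, List.length_eq_zero_iff.mp (show q.length = 0 by omega)]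
  | n + 1, f, p, q, hn, hf, hq => by
    obtain ⟨a, haq, ha⟩ : ∃ a ∈ q, a ∉ IsLocalRing.maximalIdeal A • Ideal.ofList f ⊔ Ideal.ofList p := by
      by_contra! hall
      have h1 : Ideal.ofList f ≤ Ideal.ofList p := by
        refine Submodule.le_of_le_smul_of_le_jacobson_bot (fg_ofList f)
          (IsLocalRing.maximalIdeal_le_jacobson _) ?_
        refine le_trans ?_ (le_of_eq (sup_comm _ _))
        refine le_trans (le_sup_right : _ ≤ Ideal.ofList p ⊔ Ideal.ofList f) ?_
        rw [← Ideal.ofList_append, hPI _ hf, ← hPI _ hq, Ideal.ofList_append]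
        exact sup_le le_sup_right (Ideal.span_le.mpr fun a ha => hall a ha)
      match f, hn with
      | b :: f₀, _ =>
        have hperm : (p ++ b :: f₀).Perm (b :: (p ++ f₀)) := List.perm_middle
        refine notMem_tail ((isKoszulRegularSeq_perm hperm).mp (hPK _ hf))
          (by rw [← ofList_eq_of_perm hperm, hPI _ hf]; exact hI) ?_
        rw [Ideal.ofList_append]
        exact Ideal.mem_sup_left (h1 (mem_ofList (List.mem_cons_self ..)))
    have haI : a ∈ Ideal.ofList f ⊔ Ideal.ofList p := by
      rw [sup_comm, ← Ideal.ofList_append, hPI _ hf, ← hPI _ hq]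
      exact mem_ofList (List.mem_append_right _ haq)
    obtain ⟨b, c, y, f', hp, hc, hy, hay⟩ := exists_unit_coeff _ f a haI ha
    obtain ⟨q', hq'⟩ : ∃ q', q.Perm (a :: q') := by
      classical exact ⟨_, List.perm_cons_erase haq⟩
    have hlenf : f'.length = n := by
      have := hp.length_eq
      simp at this
      omega
    have hr : p.length + (n + 1) = r := by rw [← hlen _ hf, List.length_append, hn]
    -- the four intermediate sequences
    have hp1 : (p ++ f).Perm (p ++ f' ++ [b]) :=
      (hp.append_left p).trans (List.perm_middle.trans (List.perm_append_singleton b _).symm)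
    have P1 : P (p ++ f' ++ [b]) := hP _ ((ofList_eq_of_perm hp1).symm.trans (hPI _ hf)) (by simp [hlenf]; omega)
    have P2 : P (p ++ f' ++ [a]) := by
      refine hP _ ?_ (by simp [hlenf]; omega)
      rw [← hPI _ P1, Ideal.ofList_append (p ++ f') [a], Ideal.ofList_append (p ++ f') [b],
        Ideal.ofList_append p f', Ideal.ofList_singleton, Ideal.ofList_singleton]
      have hy' : y ∈ Ideal.ofList p ⊔ Ideal.ofList f' := by rwa [sup_comm]
      refine le_antisymm (sup_le le_sup_left ?_) (sup_le le_sup_left ?_) <;>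
        rw [Ideal.span_le, Set.singleton_subset_iff, SetLike.mem_coe]
      · rw [hay]
        exact add_mem (Ideal.mem_sup_right (Ideal.mem_span_singleton'.mpr ⟨c, rfl⟩)) (Ideal.mem_sup_left hy')
      · obtain ⟨c, rfl⟩ := hc
        rw [show b = (↑c⁻¹ : A) * a - (↑c⁻¹ : A) * y by rw [hay, mul_add, ← mul_assoc, Units.inv_mul]; ring]
        exact sub_mem (Ideal.mem_sup_right (Ideal.mem_span_singleton'.mpr ⟨_, rfl⟩))
          (Ideal.mem_sup_left (Ideal.mul_mem_left _ _ hy'))
    have hp3 : (p ++ f' ++ [a]).Perm ((p ++ [a]) ++ f') := by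
      rw [List.append_assoc, List.append_assoc]
      exact (List.perm_append_comm).append_left p
    have P3 : P ((p ++ [a]) ++ f') := hP _ ((ofList_eq_of_perm hp3).symm.trans (hPI _ P2)) (by simp [hlenf]; omega)
    have hp4 : ((p ++ [a]) ++ q').Perm (p ++ q) := by
      rw [List.append_assoc]
      exact hq'.symm.append_left p
    have P4 : P ((p ++ [a]) ++ q') :=
      hP _ ((ofList_eq_of_perm hp4).trans (hPI _ hq)) (hp4.length_eq.trans (hlen _ hq))
    refine Relation.ReflTransGen.head ⟨P1, Or.inl hp1⟩ (Relation.ReflTransGen.head ⟨P2, Or.inr ⟨by simp, by simp⟩⟩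
      (Relation.ReflTransGen.head ⟨P3, Or.inl hp3⟩ ?_))
    exact (reflTransGen_step P hPI hI hPK hlen hP n f' (p ++ [a]) q' hlenf P3 P4).tail ⟨hq, Or.inl hp4⟩

/-- Let A be a Noetherian local ring and u, v two regular sequences of elements of A generating the same
ideal. Then there is a finite chain of regular sequences generating that same ideal, starting at u
and ending at v, in which each sequence is obtained from the previous one either by a permutation or
by changing only its last element. -/
theorem result (A : Type u) [CommRing A] [IsLocalRing A] [IsNoetherianRing A]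
    (u v : List A) (hu : IsRegular A u) (hv : IsRegular A v) (huv : Ideal.span {x | x ∈ u} = Ideal.span {x | x ∈ v}) :
    ∃ ws : List (List A), ws.head? = some u ∧ ws.getLast? = some v ∧
      (∀ w ∈ ws, IsRegular A w ∧ Ideal.span {x | x ∈ w} = Ideal.span {x | x ∈ u}) ∧
      List.IsChain (fun w w' : List A => w.Perm w' ∨ (w.length = w'.length ∧ w.dropLast = w'.dropLast)) ws := by
  classical
  change Ideal.ofList u = Ideal.ofList v at huv
  have hne : Ideal.ofList u ≠ ⊤ := fun h => hu.top_ne_smul (by rw [h, smul_eq_mul, Ideal.mul_top])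
  let P : List A → Prop := fun w => Ideal.ofList w = Ideal.ofList u ∧ w.length = u.length
  have hK : LCI.IsKoszulRegularSeq A u := Groth.KoszulLCI.isKoszulRegularSeq_of_isWeaklyRegular hu.toIsWeaklyRegular
  have hK' : LCI.IsKoszulRegularSeq A v := Groth.KoszulLCI.isKoszulRegularSeq_of_isWeaklyRegular hv.toIsWeaklyRegular
  have hPK : ∀ w, P w → LCI.IsKoszulRegularSeq A w := fun w hw =>
    Groth.KoszulLCI.isKoszulRegularSeq_of_ofList_eq hK hw.1 hw.2
  have hPv : P v := ⟨huv.symm, le_antisymm (Groth.KoszulLCI.length_le_of_regular hK' (huv ▸ hne) huv)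
    (Groth.KoszulLCI.length_le_of_regular hK hne huv.symm)⟩
  have h := reflTransGen_step P (I := Ideal.ofList u) (fun w hw => hw.1) hne hPK (fun w hw => hw.2)
    (fun w h1 h2 => ⟨h1, h2⟩) u.length u [] v rfl ⟨rfl, rfl⟩ hPv
  obtain ⟨l, hl, hlast⟩ := List.exists_isChain_cons_of_relationReflTransGen h
  refine ⟨u :: l, rfl, by rw [List.getLast?_eq_some_getLast (List.cons_ne_nil _ _)]; exact congrArg some hlast,
    fun w hw => ?_, hl.imp fun _ _ h => h.2⟩
  have hw' : P w := hl.induction P _ (fun _ _ h _ => h.1) (fun _ => ⟨rfl, rfl⟩) w hw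
  refine ⟨⟨Groth.KoszulLCI.isWeaklyRegular_of_isKoszulRegularSeq
    (Groth.KoszulLCI.mem_maximalIdeal_of_ne_top (hw'.1.symm ▸ hne)) (hPK w hw'), ?_⟩, hw'.1⟩
  rw [hw'.1, smul_eq_mul, Ideal.mul_top]
  exact hne.symm

end Groth.Agent.S3140
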