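import Groth.Statements.S3141
import Groth.Agent.EtaleBase.DivisorPurity
-- import your own Groth.Agent.* helpers here

set_option autoImplicit false
set_option backward.isDefEq.respectTransparency.types false
universe u
open CategoryTheory CategoryTheory.Limits AlgebraicGeometry Opposite
open EtDual

namespace Groth.Agent.S3141

/-- Let X be a Noetherian separated scheme all of whose local rings are regular, n an integer invertible
on X, i : D ⟶ X a closed immersion with D regular and of codimension 1 at each of its points (a
regular divisor), and j : U ⟶ X the open immersion of the complement. Then the local cohomology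
sheaves H^p_D(X, μ_n) (right derived functors of sections supported off U, applied to the sheaf of
n-th roots of unity) vanish for p = 0 and p = 1, and H^2_D(X, μ_n) is isomorphic to i_*(ℤ/n). (The
source adds that H^2_D(X, μ_n) is generated by the class of D.) -/
theorem result {X D U : Scheme.{u}} [IsNoetherian X] [X.IsSeparated]
    (hXreg : ∀ x : X, IsRegularLocalRing (X.presheaf.stalk x))
    (n : ℕ) (hn : IsUnit (n : Γ(X, ⊤)))
    (i : D ⟶ X) [IsClosedImmersion i] (hDreg : ∀ y : D, IsRegularLocalRing (D.presheaf.stalk y))
    (hcodim : ∀ y : D, ringKrullDim (X.presheaf.stalk (i.base y)) = ringKrullDim (D.presheaf.stalk y) + 1)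
    (j : U ⟶ X) [IsOpenImmersion j] (hU : Set.range j = (Set.range i)ᶜ) [EtCoh.BCCont j] [EtCoh.BCCont i] :
    IsZero ((EtDual.locCoh j 0).obj (EtCoh.mu X n)) ∧ IsZero ((EtDual.locCoh j 1).obj (EtCoh.mu X n)) ∧
      Nonempty ((EtDual.locCoh j 2).obj (EtCoh.mu X n) ≅ (EtCoh.push i).obj (EtCoh.const D (ZMod n))) := by
  by_cases hn0 : n = 0
  · have := Groth.EtaleBase.DivisorClass.isEmpty_of_isUnit_zero hn hn0
    exact ⟨Groth.EtaleBase.DivisorClass.isZero_of_isEmpty _, Groth.EtaleBase.DivisorClass.isZero_of_isEmpty _,
      ⟨(Groth.EtaleBase.DivisorClass.isZero_of_isEmpty _).iso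
        (Groth.EtaleBase.DivisorClass.isZero_of_isEmpty _)⟩⟩
  exact Groth.EtaleBase.DivisorClass.purity j i hU hXreg hDreg hcodim n hn hn0

end Groth.Agent.S3141
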