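import Groth.Statements.S3142
import Groth.Agent.EtaleBase.TateLocal
import Groth.Agent.EtaleBase.LocCohTransfer
import Groth.Agent.SiteCohomology.LeftExactEdge
-- import your own Groth.Agent.* helpers here

set_option autoImplicit false
set_option backward.isDefEq.respectTransparency.types false
universe u
open CategoryTheory CategoryTheory.Limits AlgebraicGeometry Opposite
open EtDual Groth Groth.EtaleBase

namespace Groth.Agent.S3142

/-- Let X be a Noetherian separated scheme, n an integer invertible on X, j : U ⟶ X an open immersion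
with closed complement Y, and c a natural number. If the local cohomology sheaves H^p_Y(X, ℤ/n)
vanish for all p < 2c, then the local cohomology group H^{2c}_Y(X, ℤ/n(c)) is isomorphic to the
group of global sections of the local cohomology sheaf H^{2c}_Y(X, ℤ/n(c)). (The source's
isomorphism is the edge map of the spectral sequence H^p(Y, R^q i^!) ⇒ H^{p+q}_Y; here only the
existence of an isomorphism is asserted.) -/
theorem result {X U : Scheme.{u}} [IsNoetherian X] [X.IsSeparated] (j : U ⟶ X) [IsOpenImmersion j] [EtCoh.BCCont j]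
    (n : ℕ) (hn : IsUnit (n : Γ(X, ⊤))) (c : ℕ) (h : ∀ p : ℕ, p < 2 * c → IsZero ((EtDual.locCoh j p).obj (EtCoh.const X (ZMod n)))) :
    Nonempty ((EtDual.HY j (2 * c)).obj (EtDual.tate X n c) ≅
      ((EtDual.locCoh j (2 * c)).obj (EtDual.tate X n c)).obj.obj (op (EtCoh.top X))) := by
  let F := EtDual.tate X n c
  have hz : ∀ p, p < 2 * c → IsZero ((EtDual.locCoh j p).obj F) := by
    intro p hp
    refine Supp.isZero_locCoh_of_locally_iso j (EtCoh.const X (ZMod n)) F (fun x => ?_) p (h p hp)
    have : NeZero n := ⟨by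
      rintro rfl
      have h0 := hn.map (X.presheaf.germ ⊤ x trivial).hom
      rw [map_natCast, Nat.cast_zero] at h0
      exact not_isUnit_zero h0⟩
    obtain ⟨W, hW, ⟨_, hs⟩, ⟨_, ht⟩⟩ := TateLocal.exists_stalkBij_tate hn c x
    exact ⟨W, hW, ⟨ht.iso.some ≪≫ hs.iso.some.symm⟩⟩
  let I : InjectiveResolution F := injectiveResolution F
  let G := sheafToPresheaf X.smallEtaleTopology AddCommGrpCat.{u + 1} ⋙
    (evaluation X.Etaleᵒᵖ AddCommGrpCat.{u + 1}).obj (op (EtCoh.top X))
  let K := ((EtDual.secSupp j).mapHomologicalComplex (ComplexShape.up ℕ)).obj I.cocomplex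
  have hK : ∀ k, Injective (K.X k) := fun k => Supp.injective_secSupp j (I.cocomplex.X k)
  obtain ⟨e⟩ := SiteCohomology.LeftExactEdge.nonempty_homology_iso K G (2 * c) fun q hq =>
    (Supp.isZero_locCoh_iff j I q).1 (hz q hq)
  exact ⟨I.isoRightDerivedObj (EtDual.gammaSupp j) (2 * c) ≪≫ e ≪≫
    G.mapIso (I.isoRightDerivedObj (EtDual.secSupp j) (2 * c)).symm⟩

end Groth.Agent.S3142
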