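import Groth.Statements.S3143
import Groth.Agent.EtaleBase.TateRestr
import Groth.Agent.EtaleBase.LocCohTransfer
import Groth.Agent.EtaleBase.SuppNested
import Groth.Agent.SiteCohomology.LeftExactEdge
-- import your own Groth.Agent.* helpers here

set_option autoImplicit false
set_option backward.isDefEq.respectTransparency.types false
universe u
open CategoryTheory CategoryTheory.Limits AlgebraicGeometry Opposite
open EtDual Groth Groth.EtaleBase

namespace Groth.Agent.S3143
attribute [local instance] Groth.EtaleBase.InjCoh.jCont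

/-- Let X be a Noetherian separated scheme, n a natural number invertible on X, c a natural number, Y ⊆
X a closed subset with open complement j : U → X, and Z ⊆ Y a closed subset of X with open
complement k' : X' → X, so that U ⊆ X' through an open immersion j' : U → X' with k' ∘ j' = j, and V
= Y ∩ X' is closed in X' with complement U. If the local cohomology sheaves H^p_Z(ℤ/n) on X vanish
for all p ≤ 2c + 1, then H^{2c}_Y(X, ℤ/n(c)) and H^{2c}_V(X', ℤ/n(c)) are isomorphic. Only the
existence of an isomorphism is asserted; the published statement is that the restriction map is an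
isomorphism (and that it is injective under vanishing for p ≤ 2c only). -/
theorem result {X X' U : Scheme.{u}} [IsNoetherian X] [X.IsSeparated]
    (n : ℕ) (hn : IsUnit (n : Γ(X, ⊤))) (c : ℕ)
    (j : U ⟶ X) [IsOpenImmersion j] (k' : X' ⟶ X) [IsOpenImmersion k'] (j' : U ⟶ X') [IsOpenImmersion j']
    (hfac : j' ≫ k' = j) [EtCoh.BCCont j] [EtCoh.BCCont k'] [EtCoh.BCCont j']
    (hZ : ∀ p : ℕ, p ≤ 2 * c + 1 → IsZero ((EtDual.locCoh k' p).obj (EtCoh.const X (ZMod n)))) :
    Nonempty ((EtDual.HY j (2 * c)).obj (EtDual.tate X n c) ≅ (EtDual.HY j' (2 * c)).obj (EtDual.tate X' n c)) := by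
  let F := EtDual.tate X n c
  have hz : ∀ p, p ≤ 2 * c + 1 → IsZero ((EtDual.locCoh k' p).obj F) := by
    intro p hp
    refine Supp.isZero_locCoh_of_locally_iso k' (EtCoh.const X (ZMod n)) F (fun x => ?_) p (hZ p hp)
    have : NeZero n := ⟨by
      rintro rfl
      have h0 := hn.map (X.presheaf.germ ⊤ x trivial).hom
      rw [map_natCast, Nat.cast_zero] at h0
      exact not_isUnit_zero h0⟩
    obtain ⟨W, hW, ⟨_, hs⟩, ⟨_, ht⟩⟩ := TateLocal.exists_stalkBij_tate hn c x
    exact ⟨W, hW, ⟨ht.iso.some ≪≫ hs.iso.some.symm⟩⟩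
  let I : InjectiveResolution F := injectiveResolution F
  let G := Supp.gTop X
  let K := ((EtDual.secSupp k').mapHomologicalComplex (ComplexShape.up ℕ)).obj I.cocomplex
  have hK : ∀ k, Injective (K.X k) := fun k => Supp.injective_secSupp k' (I.cocomplex.X k)
  have hHY : ∀ q, q ≤ 2 * c + 1 → IsZero ((EtDual.HY k' q).obj F) := fun q hq => by
    obtain ⟨e⟩ := SiteCohomology.LeftExactEdge.nonempty_homology_iso K G q fun p hp =>
      (Supp.isZero_locCoh_iff k' I p).1 (hz p (by omega))
    exact (G.map_isZero ((hz q hq).of_iso (I.isoRightDerivedObj (EtDual.secSupp k') q).symm)).of_iso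
      (I.isoRightDerivedObj (EtDual.gammaSupp k') q ≪≫ e)
  obtain ⟨φ⟩ := Supp.nonempty_iso_HY j k' j' hfac F (2 * c) (hHY _ (by omega)) (hHY _ le_rfl)
  obtain ⟨ψ⟩ := TateLocal.nonempty_restrAlong_tate k' n c
  exact ⟨φ ≪≫ (EtDual.HY j' (2 * c)).mapIso ψ.symm⟩

end Groth.Agent.S3143
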