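import Groth.Statements.S3192
import Groth.Agent.KTheory.OpenLocalization
-- import your own Groth.Agent.* helpers here

set_option autoImplicit false
universe u
open CategoryTheory CategoryTheory.Limits AlgebraicGeometry
attribute [local instance] HasDerivedCategory.standard
open SGA6

namespace Groth.Agent.S3192

/-- Let X be a Noetherian scheme, i : X' ⟶ X a closed immersion and j : U ⟶ X the open immersion of the
complement. With K_•(−) = K₀ of coherent modules, i_* (exact; carried as instance hypotheses, and
sending coherent modules to coherent modules — hypothesis hi) and j^* (exact, preserving coherence —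
hypothesis hj) induce homomorphisms K_•(X') ⟶ K_•(X) ⟶ K_•(U); then j^* is surjective and its kernel
is the image of i_*. -/
theorem result {X X' U : Scheme.{u}} [IsNoetherian X] (i : X' ⟶ X) [IsClosedImmersion i]
    (j : U ⟶ X) [IsOpenImmersion j] (hU : Set.range j = (Set.range i)ᶜ)
    [(Scheme.Modules.pushforward i).Additive] [PreservesFiniteLimits (Scheme.Modules.pushforward i)] [PreservesFiniteColimits (Scheme.Modules.pushforward i)]
    [PreservesFiniteLimits (Scheme.Modules.restrictFunctor j)]
    (hi : ∀ M : X'.Modules, Coh.IsCoh M → Coh.IsCoh ((Scheme.Modules.pushforward i).obj M))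
    (hj : ∀ M : X.Modules, Coh.IsCoh M → Coh.IsCoh ((Scheme.Modules.restrictFunctor j).obj M)) :
    Function.Surjective (SGA6.mapSub (Scheme.Modules.restrictFunctor j) (fun M : (X).Modules => Coh.IsCoh M) (fun M : (U).Modules => Coh.IsCoh M) hj) ∧
      (SGA6.mapSub (Scheme.Modules.restrictFunctor j) (fun M : (X).Modules => Coh.IsCoh M) (fun M : (U).Modules => Coh.IsCoh M) hj).ker =
        (SGA6.mapSub (Scheme.Modules.pushforward i) (fun M : (X').Modules => Coh.IsCoh M) (fun M : (X).Modules => Coh.IsCoh M) hi).range := by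
  refine ⟨Groth.KTheory.OpenLoc.surjective_res j hj,
    (Groth.KTheory.OpenLoc.ker_res j (Set.range i) hU hj).trans ?_⟩
  apply le_antisymm
  · rw [Groth.Misc13.KNilp.supSub, AddSubgroup.closure_le]
    rintro c ⟨G, hG, hs, rfl⟩
    have hR : ∀ M : X'.Modules, Coh.IsCoh M →
        Groth.Misc6.DevissageSupp.suppProp i ((Scheme.Modules.pushforward i).obj M) := fun M hM =>
      ⟨hi M hM, fun x hx => Groth.CohTwo.support_push_subset i M (not_subsingleton_iff_nontrivial.mpr hx)⟩
    have hGs : Groth.Misc6.DevissageSupp.suppProp i G :=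
      ⟨hG, fun x hx => hs (not_subsingleton_iff_nontrivial.mpr hx)⟩
    obtain ⟨y, hy⟩ := (Groth.Misc6.DevissageSupp.bijective_mapSub_supp i hR).2
      (KZero.clSub (Groth.Misc6.DevissageSupp.suppProp i) G)
    let forget : KZero.K0sub (Groth.Misc6.DevissageSupp.suppProp i) →+ SGA6.Kcoh X :=
      Groth.KTheory.liftSub _ (fun M => Groth.Misc13.KNilp.kc M)
        fun S hS h1 h2 h3 => Groth.KTheory.clSub_rel S hS h1.1 h2.1 h3.1
    refine ⟨y, ?_⟩
    have h := congrArg forget hy
    rw [Groth.KTheory.liftSub_clSub _ _ hGs] at h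
    rw [← h]
    refine DFunLike.congr_fun (Groth.KTheory.k0sub_hom_ext (f := SGA6.mapSub
      (Scheme.Modules.pushforward i) _ (fun M : X.Modules => Coh.IsCoh M) hi)
      (g := forget.comp (SGA6.mapSub (Scheme.Modules.pushforward i) _ _ hR)) fun M hM => ?_) y
    rw [AddMonoidHom.comp_apply, Groth.KTheory.clSub_of hM]
    exact ((Groth.KTheory.liftSub_clSub _ _ (hR M hM)).trans
      (Groth.KTheory.clSub_of (P := fun M : X.Modules => Coh.IsCoh M) (hi M hM))).symm.trans
      (congrArg forget (Groth.KTheory.clSub_of (hR M hM)))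
  · rintro c ⟨y, rfl⟩
    induction y using Groth.KTheory.k0sub_induction with
    | h0 => simp
    | hcl M hM =>
      rw [Groth.KTheory.clSub_of hM]
      have := Groth.Misc13.KNilp.mem_supSub (hi M hM) (Groth.CohTwo.support_push_subset i M)
      unfold Groth.Misc13.KNilp.kc at this
      rw [Groth.KTheory.clSub_of (P := fun M : X.Modules => Coh.IsCoh M) (hi M hM)] at this
      exact this
    | hadd a b ha hb => rw [map_add]; exact add_mem ha hb
    | hneg a ha => rw [map_neg]; exact neg_mem ha

end Groth.Agent.S3192
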