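import Groth.Statements.S3194
import Groth.Agent.KTheory.Basic
import Mathlib.Algebra.Homology.ShortComplex.ModuleCat
import Mathlib.LinearAlgebra.FreeModule.PID
import Mathlib.LinearAlgebra.Dimension.Localization
import Mathlib.LinearAlgebra.Dimension.Free
import Mathlib.LinearAlgebra.Dimension.RankNullity

set_option autoImplicit false
universe u
open CategoryTheory
open SGA6

namespace Groth.Agent.S3194

/-- Let A be a principal ideal domain and K_•(Spec A) = K₀ of the category of finitely generated
A-modules (free abelian group on finitely generated modules modulo short exact sequences). The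
homomorphism ℤ ⟶ K_•(Spec A) sending k to k·[A] is bijective. -/
theorem result (A : Type u) [CommRing A] [IsDomain A] [IsPrincipalIdealRing A] :
    Function.Bijective (fun k : ℤ => k • KZero.clSub (fun M : ModuleCat.{u} A => Module.Finite A M) (ModuleCat.of A A)) := by
  classical
  let P : CategoryTheory.ObjectProperty (ModuleCat.{u} A) := fun M => Module.Finite A M
  have hA : P (ModuleCat.of A A) := inferInstanceAs (Module.Finite A A)
  let rk : KZero.K0sub P →+ ℤ := Groth.KTheory.liftSub P (fun M => (Module.finrank A M : ℤ))
    fun S hS _ h₂ _ => by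
      haveI : Module.Finite A S.X₂ := h₂
      have hinj := hS.moduleCat_injective_f
      have hsurj := hS.moduleCat_surjective_g
      have hex := LinearMap.exact_iff.1 ((ShortComplex.ShortExact.moduleCat_exact_iff_function_exact S).1 hS.exact)
      have h := Submodule.finrank_quotient_add_finrank (LinearMap.range S.f.hom)
      rw [← hex, (S.g.hom.quotKerEquivOfSurjective hsurj).finrank_eq, hex,
        LinearMap.finrank_range_of_inj hinj] at h
      rw [← h]
      push_cast
      ring
  have rk_one : rk (KZero.clSub P (ModuleCat.of A A)) = 1 := by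
    rw [Groth.KTheory.liftSub_clSub _ _ hA]
    simp
  let B := AddSubgroup.zmultiples (KZero.clSub P (ModuleCat.of A A))
  have key : ∀ (n : ℕ) (M : ModuleCat.{u} A), ((Fin n → A) ≃ₗ[A] M) → KZero.clSub P M ∈ B := by
    intro n
    induction n with
    | zero =>
      intro M e
      have : Subsingleton M := e.symm.toEquiv.subsingleton
      have hz := ModuleCat.isZero_of_subsingleton M
      rw [Groth.KTheory.clSub_zero (P := P) hz (Module.Finite.equiv e)]
      exact B.zero_mem
    | succ n ih =>
      intro M e
      let i : (Fin n → A) →ₗ[A] M := e.toLinearMap ∘ₗ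
        LinearMap.pi (fun j : Fin (n + 1) => Fin.lastCases (0 : (Fin n → A) →ₗ[A] A) (fun k => LinearMap.proj k) j)
      let p : M →ₗ[A] A := LinearMap.proj (Fin.last n) ∘ₗ e.symm.toLinearMap
      have hpi : p ∘ₗ i = 0 := by ext; simp [p, i]
      let S : ShortComplex (ModuleCat.{u} A) :=
        ShortComplex.mk (ModuleCat.ofHom i) (ModuleCat.ofHom (X := M) p) (by ext : 1; exact hpi)
      have hS : S.ShortExact := by
        refine ShortComplex.ShortExact.mk' ((ShortComplex.moduleCat_exact_iff S).2 fun x hx => ?_)
          ((ModuleCat.mono_iff_injective _).2 fun a b h => funext fun k => ?_)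
          ((ModuleCat.epi_iff_surjective _).2 fun a => ⟨e (fun _ => a), by simp [S, p]⟩)
        · refine ⟨fun k => e.symm x k.castSucc, e.symm.injective (funext fun j => ?_)⟩
          induction j using Fin.lastCases with
          | last => simpa [S, p, i] using hx.symm
          | cast k => simp [S, i]
        · simpa [S, i] using congr_fun (e.symm.injective.eq_iff.2 h) k.castSucc
      rw [show KZero.clSub P M = _ from Groth.KTheory.clSub_rel (P := P) S hS
        (inferInstanceAs (Module.Finite A (Fin n → A))) (Module.Finite.equiv e) hA]
      exact B.add_mem (ih _ (LinearEquiv.refl A _)) (AddSubgroup.mem_zmultiples _)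
  have surj : ∀ x : KZero.K0sub P, x ∈ B := by
    intro x
    induction x using Groth.KTheory.k0sub_induction with
    | h0 => exact B.zero_mem
    | hadd a b ha hb => exact B.add_mem ha hb
    | hneg a ha => exact B.neg_mem ha
    | hcl M hM =>
      haveI : Module.Finite A M := hM
      obtain ⟨n, g, hg⟩ := Module.Finite.exists_fin' A M
      let K := LinearMap.ker g
      let S : ShortComplex (ModuleCat.{u} A) :=
        ShortComplex.mk (ModuleCat.ofHom K.subtype) (ModuleCat.ofHom (Y := M) g)
          (by ext : 1; exact LinearMap.ext fun x => x.2)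
      have hS : S.ShortExact := ShortComplex.ShortExact.mk'
        ((ShortComplex.moduleCat_exact_iff S).2 fun x hx => ⟨⟨x, hx⟩, rfl⟩)
        ((ModuleCat.mono_iff_injective _).2 K.injective_subtype)
        ((ModuleCat.epi_iff_surjective _).2 hg)
      obtain ⟨m, b⟩ := Submodule.basisOfPid (Pi.basisFun A (Fin n)) K
      have h := Groth.KTheory.clSub_rel (P := P) S hS (Module.Finite.of_basis b)
        (inferInstanceAs (Module.Finite A (Fin n → A))) hM
      rw [eq_sub_of_add_eq' h.symm]
      exact B.sub_mem (key n _ (LinearEquiv.refl A _)) (key m _ b.equivFun.symm)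
  refine ⟨fun a b h => ?_, fun x => ?_⟩
  · simpa [map_zsmul, rk_one] using (show rk (a • KZero.clSub P _) = rk (b • KZero.clSub P _) from congrArg rk h)
  · obtain ⟨k, hk⟩ := AddSubgroup.mem_zmultiples_iff.1 (surj x)
    exact ⟨k, hk⟩

end Groth.Agent.S3194
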