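import Groth.Statements.S3196
import Groth.Agent.Calg6.KoszulTor
import Groth.Agent.SGA7.TorSeq
import Groth.Agent.KoszulLCI.Kinds
import Groth.Agent.Calg1.QuasiRegular
import Groth.Agent.EGA41Two.QuasiRegular


set_option autoImplicit false
universe u
open CategoryTheory CategoryTheory.Limits
open SGA6

namespace Groth.Agent.S3196

namespace TorPow

open MonoidalCategory MvPolynomial
open Groth.Calg6.KoszulTor (quasiIso_restrictionMap singleRestrictionIso homologyIso)

variable {A : Type u} [CommRing A]

theorem koszul_projective (l : List A) (i : ℤ) : Module.Projective A ((Koszul.koszul A l).X i) := by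
  induction l generalizing i with
  | nil =>
    by_cases hi : i = 0
    · subst hi
      let e := (HomologicalComplex.singleObjXSelf (ComplexShape.up ℤ) (0 : ℤ)
        (ModuleCat.of A A)).toLinearEquiv.symm
      exact Module.Projective.of_equiv e
    · have hz : IsZero ((Koszul.koszul A []).X i) :=
        HomologicalComplex.isZero_single_obj_X _ _ _ _ hi
      have := ModuleCat.subsingleton_of_isZero hz
      infer_instance
  | cons f l ih =>
    let φ := f • 𝟙 (Koszul.koszul A l)
    let e : (CochainComplex.mappingCone φ).X i ≅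
        ModuleCat.of A ((Koszul.koszul A l).X (i + 1) × (Koszul.koszul A l).X i) :=
      HomologicalComplex.homotopyCofiber.XIsoBiprod φ i (i + 1) (by simp) ≪≫ ModuleCat.biprodIsoProd _ _
    have := ih i
    have := ih (i + 1)
    exact Module.Projective.of_equiv e.toLinearEquiv.symm

noncomputable def res (l : List A) (hl : LCI.IsKoszulRegularSeq A l) :
    ProjectiveResolution (ModuleCat.of A (A ⧸ Ideal.ofList l)) where
  complex := (Koszul.koszul A l).restriction ComplexShape.embeddingDownNat
  projective n := (IsProjective.iff_projective _).1 (koszul_projective l _)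
  π := HomologicalComplex.restrictionMap (Groth.KoszulReg.aug l) ComplexShape.embeddingDownNat ≫
    (singleRestrictionIso _).hom
  quasiIso := by
    have := Groth.KoszulReg.quasiIso_aug l hl
    have := quasiIso_restrictionMap (Groth.KoszulReg.aug l) (Groth.KoszulReg.isZero_koszul_X l)
      (fun i hi => HomologicalComplex.isZero_single_obj_X _ _ _ _ hi.ne')
    infer_instance

open Groth.KoszulReg in
theorem isZero_tor_quot (A' : Type u) [CommRing A'] [Algebra A A'] (l : List A)
    (hl : LCI.IsKoszulRegularSeq A l) (hl' : LCI.IsKoszulRegularSeq A' (l.map (algebraMap A A'))) (n : ℕ)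
    (hn : 1 ≤ n) :
    IsZero (((Tor (ModuleCat.{u} A) n).obj (ModuleCat.of A (A ⧸ Ideal.ofList l))).obj (ModuleCat.of A A')) := by
  let M := ModuleCat.of A A'
  obtain ⟨e⟩ := Groth.HTorLib.tor_iso_homology _ M (res l hl) n
  refine IsZero.of_iso ?_ (e ≪≫ homologyIso (DRing.tensorCx (Koszul.koszul A l) M)
    (fun i hi => (tensorRight M).map_isZero (Groth.KoszulReg.isZero_koszul_X l i hi)) n)
  let θ := algebraMap A A'
  let F := ModuleCat.extendScalars.{u, u, u} θ
  let G := ModuleCat.restrictScalars.{u} θ
  have : F.Additive := (ModuleCat.extendRestrictScalarsAdj θ).left_adjoint_additive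
  let prs : List (A × A') := l.map fun a => (a, θ a)
  have hF : ∀ q ∈ prs, ∀ {M N : ModuleCat.{u} A} (φ : M ⟶ N), F.map (q.1 • φ) = q.2 • F.map φ := by
    intro q hq M N φ
    obtain ⟨a, -, rfl⟩ := List.mem_map.mp hq
    let _ := θ.toAlgebra
    apply ModuleCat.hom_ext
    refine LinearMap.ext fun z => ?_
    induction z using TensorProduct.induction_on with
    | zero => exact (map_zero _).trans (map_zero _).symm
    | add x y hx hy => exact (map_add _ x y).trans ((congrArg₂ (· + ·) hx hy).trans (map_add _ x y).symm)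
    | tmul b m =>
      change TensorProduct.tmul A b (a • φ.hom m) =
        TensorProduct.tmul A (@HMul.hMul A' A' A' _ (θ a) b) (φ.hom m)
      rw [← TensorProduct.smul_tmul]
      rfl
  let eA : F.obj (ModuleCat.of A A) ≅ ModuleCat.of A' A' :=
    letI := θ.toAlgebra
    let e : TensorProduct A A' A ≃ₗ[A'] A' := TensorProduct.AlgebraTensorModule.rid A A' A'
    LinearEquiv.toModuleIso (X₁ := F.obj (ModuleCat.of A A)) (X₂ := ModuleCat.of A' A') e
  have hl₁ : prs.map Prod.fst = l := by simp [prs, Function.comp_def]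
  have hl₂ : prs.map Prod.snd = l.map θ := by simp [prs, Function.comp_def]
  let φ := (HomologicalComplex.singleMapHomologicalComplex F (ComplexShape.up ℤ) 0).hom.app
    (ModuleCat.of A A) ≫ (HomologicalComplex.single (ModuleCat.{u} A') (ComplexShape.up ℤ) 0).map eA.hom
  have := quasiIso_kzMap φ (l.map θ)
  have h1 : IsZero (((F.mapHomologicalComplex (ComplexShape.up ℤ)).obj (Koszul.koszul A l)).homology
      (-(n : ℤ))) := by
    rw [koszul_eq_kz A l, ← hl₁]
    refine isZero_homology_congr (kzFunctorIso F _ prs hF) _ ?_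
    rw [hl₂]
    refine IsZero.of_iso ?_ (asIso (HomologicalComplex.homologyMap (kzMap φ (l.map θ)) (-(n : ℤ))))
    refine isZero_homology_congr (eqToIso (koszul_eq_kz A' _).symm) _ ?_
    exact hl' (-(n : ℤ)) (by omega)
  have h2 := isZero_homology_map G _ (-(n : ℤ)) h1
  let idE : A' ≃ₗ[A] ((ModuleCat.restrictScalars.{u} θ).obj (ModuleCat.of A' A') : Type u) :=
    { toFun := fun b => b
      invFun := fun b => b
      left_inv := fun _ => rfl
      right_inv := fun _ => rfl
      map_add' := fun _ _ => rfl
      map_smul' := fun a b => Algebra.smul_def a b }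
  let cm : ∀ N : ModuleCat.{u} A, TensorProduct A N A' ≃+
      TensorProduct A ((ModuleCat.restrictScalars.{u} θ).obj (ModuleCat.of A' A') : Type u) N :=
    fun N => ((TensorProduct.comm A N A').trans (TensorProduct.congr idE (LinearEquiv.refl A N))).toAddEquiv
  let η : tensorRight M ≅ F ⋙ G :=
    NatIso.ofComponents (fun N =>
      ((show ((tensorRight M).obj N : Type u) ≃+ ((F ⋙ G).obj N : Type u) from cm N).toLinearEquiv
        (fun a x => by
          induction x using TensorProduct.induction_on with
          | zero =>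
            refine (congrArg (cm N) (smul_zero a)).trans ?_
            refine (map_zero (cm N)).trans ?_
            exact ((congrArg _ (map_zero (cm N))).trans (smul_zero a)).symm
          | add x y hx hy =>
            refine (congrArg (cm N) (smul_add a x y)).trans ((map_add (cm N) _ _).trans ?_)
            refine (congrArg₂ (· + ·) hx hy).trans ?_
            exact ((smul_add a _ _).symm.trans (congrArg _ (map_add (cm N) x y).symm))
          | tmul m b =>
            change TensorProduct.tmul A (idE b) (a • m) =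
              TensorProduct.tmul A (show ((ModuleCat.restrictScalars.{u} θ).obj (ModuleCat.of A' A') : Type u) from θ a * b) m
            rw [← TensorProduct.smul_tmul]
            rfl)).toModuleIso)
      (fun {N N'} g => by
        apply ModuleCat.hom_ext
        refine TensorProduct.ext' fun m b => ?_
        rfl)
  exact isZero_homology_congr ((NatIso.mapHomologicalComplex η (ComplexShape.up ℤ)).app _) _ h2

theorem isZero_tor_pi {M Y : ModuleCat.{u} A} (i : ℕ) (hi : 0 < i)
    (h : IsZero (((Tor (ModuleCat.{u} A) i).obj M).obj Y)) :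
    ∀ n : ℕ, IsZero (((Tor (ModuleCat.{u} A) i).obj (ModuleCat.of A (Fin n → M))).obj Y) := by
  intro n
  induction n with
  | zero => exact Groth.SGA7.TorSeq.isZero_tor_of_flat _ Y i hi
  | succ n ih =>
    let e : ModuleCat.of A (Fin (n + 1) → M) ≅ ModuleCat.of A (M × (Fin n → M)) :=
      (Fin.consLinearEquiv A (fun _ : Fin (n + 1) => (M : Type u))).symm.toModuleIso
    refine IsZero.of_iso ?_ (((Tor (ModuleCat.{u} A) i).mapIso e).app Y)
    let S := ShortComplex.mk (X₁ := M) (X₂ := ModuleCat.of A (M × (Fin n → M))) (X₃ := ModuleCat.of A (Fin n → M))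
      (ModuleCat.ofHom (LinearMap.inl A M (Fin n → M))) (ModuleCat.ofHom (LinearMap.snd A M (Fin n → M)))
      (ModuleCat.hom_ext (LinearMap.ext fun x => rfl))
    have hS : S.ShortExact :=
      { exact := by
          rw [ShortComplex.moduleCat_exact_iff]
          rintro ⟨a, b⟩ (hb : b = 0)
          exact ⟨a, by subst hb; rfl⟩
        mono_f := (ModuleCat.mono_iff_injective _).2 LinearMap.inl_injective
        epi_g := (ModuleCat.epi_iff_surjective _).2 LinearMap.snd_surjective }
    exact Groth.SGA7.TorSeq.isZero_tor_X₂ hS Y i h ih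

variable {c : ℕ} (f : Fin c → A)

theorem exists_gr_equiv (hf : CAlgX.IsQuasiRegular f) (n : ℕ) :
    ∃ m : ℕ, Nonempty ((↥(Ideal.span (Set.range f) ^ n) ⧸
        Submodule.comap (Ideal.span (Set.range f) ^ n).subtype (Ideal.span (Set.range f) ^ (n + 1))) ≃ₗ[A]
      (Fin m → A ⧸ Ideal.span (Set.range f))) := by
  classical
  set J := Ideal.span (Set.range f) with hJ
  let D := {d : Fin c →₀ ℕ // d.degree = n}
  have hDfin : Finite D := Finite.of_injective (fun d : D => fun i : Fin c =>
    (⟨d.1 i, Nat.lt_succ_of_le ((Finsupp.le_degree i d.1).trans d.2.le)⟩ : Fin (n + 1)))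
    fun a b h => Subtype.ext (Finsupp.ext fun i => congrArg Fin.val (congrFun h i))
  have : Fintype D := Fintype.ofFinite D
  let m := Fintype.card D
  let ed : Fin m ≃ D := (Fintype.equivFin D).symm
  let poly : (Fin m → A) →ₗ[A] MvPolynomial (Fin c) A :=
    ∑ j, (MvPolynomial.monomial (ed j).1).comp (LinearMap.proj j)
  have hpoly : ∀ a, poly a = ∑ j, MvPolynomial.monomial (ed j).1 (a j) := fun a => by simp [poly]
  have hhom : ∀ a, (poly a).IsHomogeneous n := fun a => by
    rw [hpoly]
    exact IsHomogeneous.sum _ _ _ fun j _ => isHomogeneous_monomial _ (ed j).2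
  have hcoef : ∀ a j, (poly a).coeff (ed j).1 = a j := fun a j => by
    rw [hpoly, coeff_sum, Finset.sum_eq_single j]
    · simp
    · intro j' _ hj'
      rw [coeff_monomial, if_neg fun h => hj' (ed.injective (Subtype.ext h))]
    · simp
  have hmem : ∀ a, eval f (poly a) ∈ J ^ n := fun a => by
    rw [hpoly, map_sum]
    refine sum_mem fun j _ => ?_
    rw [eval_monomial]
    refine Ideal.mul_mem_left _ _ ?_
    have hd := (ed j).2
    rw [Finsupp.degree_apply] at hd
    change ∏ i ∈ (ed j).1.support, f i ^ (ed j).1 i ∈ J ^ n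
    conv =>
      enter [1]
      rw [← hd]
    rw [← Finset.prod_pow_eq_pow_sum]
    exact Ideal.prod_mem_prod fun i _ => Ideal.pow_mem_pow (Ideal.subset_span (Set.mem_range_self i)) _
  let ψ : (Fin m → A) →ₗ[A] (↥(J ^ n) ⧸ Submodule.comap (J ^ n).subtype (J ^ (n + 1))) :=
    (Submodule.mkQ _).comp (LinearMap.codRestrict (J ^ n) ((MvPolynomial.aeval f).toLinearMap.comp poly)
      fun a => hmem a)
  let π : (Fin m → A) →ₗ[A] (Fin m → A ⧸ J) := LinearMap.pi fun j => J.mkQ.comp (LinearMap.proj j)
  have hπs : Function.Surjective π := fun y => ⟨fun j => (Submodule.mkQ_surjective J (y j)).choose,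
    funext fun j => (Submodule.mkQ_surjective J (y j)).choose_spec⟩
  have hψs : Function.Surjective ψ := by
    intro y
    obtain ⟨x, rfl⟩ := Submodule.mkQ_surjective _ y
    obtain ⟨P, hP, -, hPe⟩ := Groth.EGA41Two.exists_form f ⊤ c n x.1
      (by rw [Groth.EGA41Two.headSpan_self, Ideal.top_mul]; exact x.2)
    refine ⟨fun j => P.coeff (ed j).1, congrArg (Submodule.mkQ _) (Subtype.ext ?_)⟩
    have hPp : poly (fun j => P.coeff (ed j).1) = P := by
      ext d
      by_cases hd : d.degree = n
      · obtain ⟨j, hj⟩ := ed.surjective ⟨d, hd⟩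
        rw [show d = (ed j).1 by rw [hj], hcoef]
      · rw [(hhom _).coeff_eq_zero hd, hP.1.coeff_eq_zero hd]
    show MvPolynomial.aeval f (poly fun j => P.coeff (ed j).1) = x.1
    rw [hPp, ← hPe]
    rfl
  have hker : LinearMap.ker π = LinearMap.ker ψ := by
    ext a
    have hψ : ψ a = 0 ↔ eval f (poly a) ∈ J ^ (n + 1) := (Submodule.Quotient.mk_eq_zero _).trans Iff.rfl
    rw [LinearMap.mem_ker, LinearMap.mem_ker, hψ]
    constructor
    · intro h
      have ha : ∀ j, a j ∈ J := fun j => (Submodule.Quotient.mk_eq_zero J).1 (congrFun h j)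
      rw [hpoly, map_sum]
      refine sum_mem fun j _ => ?_
      rw [eval_monomial, pow_succ']
      refine Ideal.mul_mem_mul (ha j) ?_
      have := hmem (Pi.single j 1)
      rw [hpoly, map_sum, Finset.sum_eq_single j] at this
      · simpa [eval_monomial] using this
      · intro j' _ hj'; simp [hj']
      · simp
    · intro h
      refine funext fun j => (Submodule.Quotient.mk_eq_zero J).2 ?_
      have := hf n (poly a) (hhom a) h (ed j).1
      rwa [hcoef] at this
  exact ⟨m, ⟨(LinearMap.quotKerEquivOfSurjective ψ hψs).symm.trans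
    ((Submodule.quotEquivOfEq _ _ hker.symm).trans (LinearMap.quotKerEquivOfSurjective π hπs))⟩⟩

end TorPow


/-- Let A be a commutative ring, fs a Koszul-regular sequence in A generating the ideal J, and A' a
commutative A-algebra in which the image of fs is again Koszul-regular. Then for every n ≥ 0 and i ≥
1, Tor_i^A(Jⁿ, A') = 0 and Tor_i^A(Jⁿ/Jⁿ⁺¹, A') = 0 (Mathlib's Tor on A-modules). (The source also
derives Jⁿ ⊗_A A' ≅ J'ⁿ and Jⁿ/Jⁿ⁺¹ ⊗_A A' ≅ J'ⁿ/J'ⁿ⁺¹ for J' = JA', and works with a regular
homomorphism from any finite projective module.) -/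
theorem result (A : Type u) [CommRing A] (A' : Type u) [CommRing A'] [Algebra A A']
    (fs : List A) (hfs : LCI.IsKoszulRegularSeq A fs) (hfs' : LCI.IsKoszulRegularSeq A' (fs.map (algebraMap A A')))
    (n : ℕ) (i : ℕ) (hi : 1 ≤ i) :
    IsZero (((Tor (ModuleCat.{u} A) i).obj (ModuleCat.of A ↥(Ideal.span {x | x ∈ fs} ^ n))).obj (ModuleCat.of A A')) ∧
    IsZero (((Tor (ModuleCat.{u} A) i).obj (ModuleCat.of A
      (↥(Ideal.span {x | x ∈ fs} ^ n) ⧸ Submodule.comap (Ideal.span {x | x ∈ fs} ^ n).subtype (Ideal.span {x | x ∈ fs} ^ (n + 1))))).obj (ModuleCat.of A A')) := by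
  set J := Ideal.span {x | x ∈ fs} with hJ
  let Y := ModuleCat.of A A'
  have hq := TorPow.isZero_tor_quot A' fs hfs hfs'
  have hqr : CAlgX.IsQuasiRegular fs.get :=
    Groth.Calg1.isQuasiRegular_of_isH1Regular _ (Groth.KoszulLCI.isH1Regular_of_isKoszulRegularSeq hfs)
  have hrange : Ideal.span (Set.range fs.get) = J := by
    rw [hJ]; congr 1
    ext x; simp [List.mem_iff_get]
  have hgr : ∀ (n i : ℕ), 1 ≤ i → IsZero (((Tor (ModuleCat.{u} A) i).obj (ModuleCat.of A
      (↥(J ^ n) ⧸ Submodule.comap (J ^ n).subtype (J ^ (n + 1))))).obj Y) := by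
    intro n i hi
    obtain ⟨m, ⟨e⟩⟩ := TorPow.exists_gr_equiv fs.get hqr n
    rw [hrange] at e
    refine IsZero.of_iso ?_ (((Tor (ModuleCat.{u} A) i).mapIso e.toModuleIso).app Y)
    exact TorPow.isZero_tor_pi (M := ModuleCat.of A (A ⧸ J)) i hi (hq i hi) m
  have hpow : ∀ (n i : ℕ), 1 ≤ i →
      IsZero (((Tor (ModuleCat.{u} A) i).obj (ModuleCat.of A ↥(J ^ n))).obj Y) := by
    intro n
    induction n with
    | zero =>
      intro i hi
      have : Module.Flat A ↥(J ^ 0) :=
        Module.Flat.of_linearEquiv ((LinearEquiv.ofEq _ _ (by rw [pow_zero, Ideal.one_eq_top])).trans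
          (Submodule.topEquiv : (⊤ : Submodule A A) ≃ₗ[A] A))
      exact Groth.SGA7.TorSeq.isZero_tor_of_flat _ Y i hi
    | succ n ih =>
      intro i hi
      let S := ShortComplex.mk (X₁ := ModuleCat.of A ↥(J ^ (n + 1))) (X₂ := ModuleCat.of A ↥(J ^ n))
        (X₃ := ModuleCat.of A (↥(J ^ n) ⧸ Submodule.comap (J ^ n).subtype (J ^ (n + 1))))
        (ModuleCat.ofHom (Submodule.inclusion (Ideal.pow_le_pow_right n.le_succ)))
        (ModuleCat.ofHom (Submodule.mkQ _))
        (ModuleCat.hom_ext (LinearMap.ext fun x => (Submodule.Quotient.mk_eq_zero _).2 x.2))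
      have hS : S.ShortExact :=
        { exact := by
            rw [ShortComplex.moduleCat_exact_iff]
            intro x hx
            exact ⟨⟨x.1, (Submodule.Quotient.mk_eq_zero (Submodule.comap (J ^ n).subtype (J ^ (n + 1)))).1 hx⟩, rfl⟩
          mono_f := (ModuleCat.mono_iff_injective _).2 (Submodule.inclusion_injective (Ideal.pow_le_pow_right n.le_succ))
          epi_g := (ModuleCat.epi_iff_surjective _).2 (Submodule.mkQ_surjective _) }
      exact Groth.SGA7.TorSeq.isZero_tor_X₁ hS Y i (hgr n (i + 1) (Nat.le_add_left 1 i)) (ih i hi)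
  exact ⟨hpow n i hi, hgr n i hi⟩


end Groth.Agent.S3196
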