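import Groth.Statements.S3197
import Groth.Agent.KTheory.ProjPushBasic

set_option autoImplicit false
universe u
open CategoryTheory CategoryTheory.Limits AlgebraicGeometry
attribute [local instance] HasDerivedCategory.standard
open SGA6

namespace Groth.Agent.S3197

section
open Groth.KTheory Groth.KTheory.RegKoszul Groth.KTheory.ProjPush Groth.KTheory.LambdaVb

variable {r : ℕ} {S : Scheme.{u}}

theorem mapSub_cl' {A B : Scheme.{u}} (G : A.Modules ⥤ B.Modules) [G.Additive] [PreservesFiniteLimits G]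
    [PreservesFiniteColimits G] (hG : ∀ M, FlatMod.IsFinLocFree M → FlatMod.IsFinLocFree (G.obj M))
    {L : A.Modules} (hL : FlatMod.IsFinLocFree L) :
    SGA6.mapSub G (KRR.vbP A) (KRR.vbP B) hG (KRR.cl A L) = KRR.cl B (G.obj L) := by
  rw [KRR.cl, KRR.cl, clSub_of hL, clSub_of (P := KRR.vbP B) (hG L hL)]
  rfl

/-- Tensoring classes with `O(a)`. -/
theorem exists_w (a : ℤ) : ∃ w : SGA6.Kvb (KRR.PY r S) →+ SGA6.Kvb (KRR.PY r S),
    ∀ M, FlatMod.IsFinLocFree M → w (KRR.cl (KRR.PY r S) M) = KRR.cl (KRR.PY r S) (KRR.twF r S a M) := by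
  have hO := RegSheaf.isFinLocFree_twistOver r S a
  haveI := Groth.ProjFormula.additive_tF (Twist.twistOver r S a)
  haveI := (Groth.ProjFormula.preservesFinite_tF hO).1
  haveI := (Groth.ProjFormula.preservesFinite_tF hO).2
  exact ⟨SGA6.mapSub (Groth.CohTwo.SheafHomIso.tF (Twist.twistOver r S a)) (KRR.vbP _) (KRR.vbP _)
    (fun M hM => Groth.LocFree.isFinLocFree_tensorMod hO hM), fun M hM => mapSub_cl' _ _ hM⟩

theorem twist_basis [CompactSpace S] (μ : Fin (r + 1) → (SGA6.Kvb S →+ SGA6.Kvb (KRR.PY r S)))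
    (hμ : ∀ i M, FlatMod.IsFinLocFree M → μ i (KRR.cl S M) = KRR.cl (KRR.PY r S)
      (KRR.twF r S ((i : ℕ) : ℤ) ((Scheme.Modules.pullback (KRR.pr r S)).obj M))) :
    Function.Bijective (fun x : Fin (r + 1) → SGA6.Kvb S => ∑ i, μ i (x i)) := by
  obtain ⟨h, hh⟩ := exists_pushHom_pr r S
  choose w hw using exists_w (r := r) (S := S)
  have hP : ∀ M : S.Modules, FlatMod.IsFinLocFree M →
      FlatMod.IsFinLocFree ((Scheme.Modules.pullback (KRR.pr r S)).obj M) :=
    fun M hM => Groth.LocFree.isFinLocFree_pullback _ hM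
  have hwμ : ∀ (a : ℤ) (i : Fin (r + 1)) (M : S.Modules), FlatMod.IsFinLocFree M →
      w a (μ i (KRR.cl S M)) = KRR.cl (KRR.PY r S)
        (KRR.twF r S (a + (i : ℕ)) ((Scheme.Modules.pullback (KRR.pr r S)).obj M)) := by
    intro a i M hM
    rw [hμ i M hM, hw a _ (isFinLocFree_twF _ (hP M hM))]
    exact LambdaVb.kcl_iso (RegSheaf.nonempty_twF_twF r S a _ _ rfl _).some
      (isFinLocFree_twF _ (isFinLocFree_twF _ (hP M hM)))
  have key : ∀ (j i : Fin (r + 1)), (i : ℕ) ≤ j → ∀ x, h (w (-((j : ℕ) : ℤ)) (μ i x)) =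
      if i = j then x else 0 := by
    intro j i hij x
    induction x using k0sub_induction with
    | h0 => simp
    | hadd p q hp hq => simp only [map_add, hp, hq]; split_ifs <;> simp
    | hneg p hp => simp only [map_neg, hp]; split_ifs <;> simp
    | hcl M hM =>
      have e : (-((j : ℕ) : ℤ)) + (i : ℕ) = -(((j : ℕ) - i : ℕ) : ℤ) := by omega
      refine (congrArg h ((hwμ _ i M hM).trans (by rw [e]))).trans ?_
      rw [hh.twist_pullback hM (i := (j : ℕ) - i) (by omega)]
      by_cases hji : i = j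
      · subst hji; rw [if_pos (Nat.sub_self _), if_pos rfl]
      · rw [if_neg hji, if_neg]
        intro h0
        exact hji (Fin.ext (by omega))
  refine ⟨?_, ?_⟩
  · suffices H : ∀ x : Fin (r + 1) → SGA6.Kvb S, ∑ i, μ i (x i) = 0 → x = 0 by
      intro x y hxy
      refine sub_eq_zero.1 (H (x - y) ?_)
      simp only [Pi.sub_apply, map_sub, Finset.sum_sub_distrib]
      exact sub_eq_zero.2 hxy
    intro x hx
    have H : ∀ (e : ℕ) (j : Fin (r + 1)), r + 1 ≤ (j : ℕ) + e → x j = 0 := by
      intro e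
      induction e with
      | zero => exact fun j hj => absurd j.isLt (by omega)
      | succ e ih =>
        intro j hj
        have h0 := congrArg (fun z => h (w (-((j : ℕ) : ℤ)) z)) hx
        simp only [map_sum, map_zero] at h0
        rw [Finset.sum_eq_single j (fun i _ hij => ?_) (by simp), key j j le_rfl, if_pos rfl] at h0
        · exact h0
        · rcases le_or_gt (i : ℕ) j with hle | hlt
          · rw [key j i hle, if_neg hij]
          · rw [ih i (by omega), map_zero, map_zero, map_zero]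
    exact funext fun j => H (r + 1) j (by omega)
  · let F : (Fin (r + 1) → SGA6.Kvb S) →+ SGA6.Kvb (KRR.PY r S) :=
      ∑ i, (μ i).comp (Pi.evalAddMonoidHom (fun _ : Fin (r + 1) => SGA6.Kvb S) i)
    have hF : ∀ x, F x = ∑ i, μ i (x i) := fun x => by simp [F]
    let R := F.range
    have hz : ((QuotientAddGroup.mk' R).comp (w (r : ℤ))) = 0 := by
      refine gen_ext fun M hM k hk => ?_
      rw [AddMonoidHom.comp_apply, AddMonoidHom.zero_apply, hw _ _ (isFinLocFree_twF _ (hP M hM))]
      refine (QuotientAddGroup.eq_zero_iff _).2 ⟨Pi.single ⟨r - k, by omega⟩ (KRR.cl S M), ?_⟩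
      rw [hF, Finset.sum_eq_single (⟨r - k, by omega⟩ : Fin (r + 1))
        (fun i _ hi => by rw [Pi.single_eq_of_ne hi, map_zero]) (by simp), Pi.single_eq_same, hμ _ M hM]
      exact LambdaVb.kcl_iso (RegSheaf.nonempty_twF_twF r S (r : ℤ) (-(k : ℤ)) _
        (by simp only []; omega) _).some.symm (isFinLocFree_twF _ (hP M hM))
    have hsurj : ∀ z, w (r : ℤ) (w (-(r : ℤ)) z) = z := by
      intro z
      induction z using k0sub_induction with
      | h0 => simp
      | hadd p q hp hq => simp only [map_add, hp, hq]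
      | hneg p hp => simp only [map_neg, hp]
      | hcl M hM =>
        change w _ (w _ (KRR.cl (KRR.PY r S) M)) = KRR.cl (KRR.PY r S) M
        rw [hw _ _ hM, hw _ _ (isFinLocFree_twF _ hM)]
        exact LambdaVb.kcl_iso ((RegSheaf.nonempty_twF_twF r S _ _ 0 (by omega) M).some ≪≫
          (RegSheaf.nonempty_twF_zero r S M).some) (isFinLocFree_twF _ (isFinLocFree_twF _ hM))
    intro z
    have := congr($hz (w (-(r : ℤ)) z))
    rw [AddMonoidHom.comp_apply, hsurj, AddMonoidHom.zero_apply, QuotientAddGroup.mk'_apply,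
      QuotientAddGroup.eq_zero_iff] at this
    obtain ⟨x, hx⟩ := this
    exact ⟨x, (hF x).symm.trans hx⟩

end

/-- For the trivial bundle E = O_S^{r+1}: let S be a quasi-compact scheme, P = P^r_S with structure
morphism f : P ⟶ S, and K^•(−) = K₀ of finite locally free modules. Pullback along the flat morphism
f and tensoring with the invertible modules O_P(i) are exact (carried as instance hypotheses) and
preserve finite locally free modules (hypotheses hf, ht), so induce additive maps f^* : K^•(S) ⟶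
K^•(P) and (− · [O_P(i)]) : K^•(P) ⟶ K^•(P). Then K^•(P) is free over K^•(S) with basis the classes
of O_P(i), 0 ≤ i ≤ r: the map (x_0, …, x_r) ↦ Σ_i f^*(x_i)·[O_P(i)] from K^•(S)^{r+1} to K^•(P) is
bijective. (The source treats P(E) for any locally free E of rank r + 1.) -/
theorem result (S : Scheme.{u}) [CompactSpace ↥S] (r : ℕ)
    [(Scheme.Modules.pullback (CohB1.ProjSpaceOver.toBase r S)).Additive] [PreservesFiniteLimits (Scheme.Modules.pullback (CohB1.ProjSpaceOver.toBase r S))]
    [PreservesFiniteColimits (Scheme.Modules.pullback (CohB1.ProjSpaceOver.toBase r S))]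
    (hf : ∀ M : S.Modules, FlatMod.IsFinLocFree M → FlatMod.IsFinLocFree ((Scheme.Modules.pullback (CohB1.ProjSpaceOver.toBase r S)).obj M))
    [∀ i : ℕ, PreservesFiniteLimits ((DCoh.tensorBi (X := CohB1.ProjSpaceOver r S)).obj (Twist.twistOver r S (i : ℤ)))]
    [∀ i : ℕ, PreservesFiniteColimits ((DCoh.tensorBi (X := CohB1.ProjSpaceOver r S)).obj (Twist.twistOver r S (i : ℤ)))]
    (ht : ∀ (i : ℕ) (M : (CohB1.ProjSpaceOver r S).Modules), FlatMod.IsFinLocFree M →
      FlatMod.IsFinLocFree (((DCoh.tensorBi (X := CohB1.ProjSpaceOver r S)).obj (Twist.twistOver r S (i : ℤ))).obj M)) :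
    Function.Bijective (fun x : Fin (r + 1) → SGA6.Kvb S =>
      ∑ i : Fin (r + 1), (SGA6.mapSub ((DCoh.tensorBi (X := CohB1.ProjSpaceOver r S)).obj (Twist.twistOver r S ((i : ℕ) : ℤ))) (fun M : (CohB1.ProjSpaceOver r S).Modules => FlatMod.IsFinLocFree M) (fun M : (CohB1.ProjSpaceOver r S).Modules => FlatMod.IsFinLocFree M) (ht i))
        ((SGA6.mapSub (Scheme.Modules.pullback (CohB1.ProjSpaceOver.toBase r S)) (fun M : (S).Modules => FlatMod.IsFinLocFree M) (fun M : (CohB1.ProjSpaceOver r S).Modules => FlatMod.IsFinLocFree M) hf) (x i))) := by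
  refine twist_basis (fun i => (SGA6.mapSub ((DCoh.tensorBi (X := CohB1.ProjSpaceOver r S)).obj (Twist.twistOver r S ((i : ℕ) : ℤ))) _ _ (ht i)).comp
    (SGA6.mapSub (Scheme.Modules.pullback (CohB1.ProjSpaceOver.toBase r S)) _ _ hf)) fun i M hM => ?_
  rw [AddMonoidHom.comp_apply, mapSub_cl' _ hf hM]
  exact mapSub_cl' _ (ht i) (hf M hM)

end Groth.Agent.S3197
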