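import Groth.Statements.S3201
import Groth.Agent.KTheory.DbEuler

set_option autoImplicit false
universe w v u
open CategoryTheory CategoryTheory.Limits
open SGA6

namespace Groth.Agent.S3201

/-- Let C be an abelian category (with a derived category) and P a thick ('épaisse') class of objects of
C: a full subcategory closed under isomorphisms, containing zero, and closed under kernels,
cokernels and extensions. Let K₀(P) be the free abelian group on the objects of P modulo the short
exact sequences of C with terms in P, and D^b_P(C) the full triangulated subcategory of D(C) on
bounded objects all of whose cohomology objects lie in P. Then the homomorphism K₀(P) → K₀(D^b_P(C))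
induced by X ↦ X[0] is an isomorphism: there is an isomorphism of groups carrying the class of each
X in P to the class of X placed in degree 0. -/
theorem result {C : Type u} [Category.{v} C] [Abelian C] [HasDerivedCategory.{w} C]
    (P : ObjectProperty C) [P.IsClosedUnderIsomorphisms] [P.ContainsZero] [P.IsClosedUnderKernels] [P.IsClosedUnderCokernels] [P.IsClosedUnderExtensions] :
    ∃ φ : KZero.K0sub P ≃+ KZero.K0tr (fun K : DerivedCategory C =>
        (∀ i : ℤ, P ((DerivedCategory.homologyFunctor C i).obj K)) ∧ ∃ a b : ℤ, (DerivedCategory.TStructure.t (C := C)).IsGE K a ∧ (DerivedCategory.TStructure.t (C := C)).IsLE K b),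
      ∀ X : C, P X → φ (KZero.clSub P X) =
        KZero.clTr (fun K : DerivedCategory C => (∀ i : ℤ, P ((DerivedCategory.homologyFunctor C i).obj K)) ∧ ∃ a b : ℤ, (DerivedCategory.TStructure.t (C := C)).IsGE K a ∧ (DerivedCategory.TStructure.t (C := C)).IsLE K b)
          ((DerivedCategory.singleFunctor C 0).obj X) :=
  Groth.KTheory.exists_k0sub_equiv_dbProp P

end Groth.Agent.S3201
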