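import Groth.Statements.S3204
import Groth.Agent.TorSelf.EulerClass
import Groth.Agent.TorSelf.WithModule
import Groth.Agent.DerivedCoh.ClassGen.Bounds
import Groth.Agent.DerivedCoh.PCoh.ModuleFP
import Groth.Agent.DerivedCoh.KFlat.Lpull
import Groth.Agent.LocFree.Tensor
import Groth.Agent.KTheory.KvbModel

set_option autoImplicit false
universe u
open CategoryTheory CategoryTheory.Limits AlgebraicGeometry
attribute [local instance] HasDerivedCategory.standard
open SGA6

namespace Groth.Agent.S3204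

theorem mapTr_clTr {X Y : Scheme.{u}} (F : DCoh.D X ⥤ DCoh.D Y) [F.CommShift ℤ] [F.IsTriangulated]
    (h : ∀ K, SGA6.perfP X K → SGA6.perfP Y (F.obj K)) {K : DCoh.D X} (hK : SGA6.perfP X K) :
    SGA6.mapTr F (SGA6.perfP X) (SGA6.perfP Y) h (KZero.clTr (SGA6.perfP X) K) =
      KZero.clTr (SGA6.perfP Y) (F.obj K) := by
  rw [Groth.KTheory.clTr_of hK, Groth.KTheory.clTr_of (h K hK)]
  rfl

/-- Self-intersection formula for a regular closed immersion, on generators of K^•: let X be a scheme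
and i : Y ⟶ X a regular closed immersion whose conormal module N is finite locally free of constant
rank c, and let L_0, …, L_c be exterior powers of N, L_p = Λ^p N (ExtPow.IsExtPow p N L_p). Let i_*
: K^•(Y) ⟶ K^•(X) be the map on Grothendieck groups of perfect complexes induced by the direct image
functor on modules, assumed exact (instance hypotheses) and to carry perfect complexes to perfect
ones (hypothesis hi), and i^* : K^•(X) ⟶ K^•(Y) the map induced by the derived pullback Li^*,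
assumed to exist as a triangulated functor and to carry perfect complexes to perfect ones
(hypothesis hi′). Then for every finite locally free O_Y-module M, i^*(i_*[M]) = Σ_{p=0}^{c} (−1)^p
[M ⊗ L_p] in K^•(Y). (The published statement lets the rank of N vary locally, assumes that X has an
ample invertible module, and asserts i^* i_*(x) = x · λ_{−1}(N) for all x ∈ K^•(Y); here the
identity is stated only on the classes [M] of finite locally free modules, where no ampleness is
needed.) -/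
theorem result {X Y : Scheme.{u}}
    (i : Y ⟶ X) (hi₀ : Mor2.IsRegularClosedImmersion i) [IsClosedImmersion i] (c : ℕ) (hN : FlatMod.IsFinLocFreeOfRank c (Omega.conormal i))
    (L : ℕ → Y.Modules) (hL : ∀ p : ℕ, p ≤ c → ExtPow.IsExtPow p (Omega.conormal i) (L p))
    [(Scheme.Modules.pushforward i).Additive] [PreservesFiniteLimits (Scheme.Modules.pushforward i)] [PreservesFiniteColimits (Scheme.Modules.pushforward i)]
    (hi : ∀ K : DCoh.D Y, DCoh.IsPerfect K → DCoh.IsPerfect ((Scheme.Modules.pushforward i).mapDerivedCategory.obj K))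
    [DCoh.HasLpull i] [(DCoh.Lpull i).CommShift ℤ] [(DCoh.Lpull i).IsTriangulated]
    (hi' : ∀ K : DCoh.D X, DCoh.IsPerfect K → DCoh.IsPerfect ((DCoh.Lpull i).obj K))
    (M : Y.Modules) (hM : FlatMod.IsFinLocFree M) :
    SGA6.mapTr (DCoh.Lpull i) (SGA6.perfP X) (SGA6.perfP Y) hi'
      (SGA6.mapTr ((Scheme.Modules.pushforward i).mapDerivedCategory) (SGA6.perfP Y) (SGA6.perfP X) hi (KZero.clTr (SGA6.perfP Y) (DCoh.inD Y M))) =
    ∑ p ∈ Finset.range (c + 1), (-1 : ℤ) ^ p • KZero.clTr (SGA6.perfP Y) (DCoh.inD Y (((DCoh.tensorBi (X := Y)).obj M).obj (L p))) := by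
  have hreg := Groth.TorSelf.stalkRegular_of_mor2 i hi₀
  have hC := Groth.LocFree.isFinLocFree_of_rank hN
  haveI := Groth.KTheory.LocFree.isQCoh hC
  let F := (Scheme.Modules.pushforward i).obj M
  obtain ⟨G, α, hzero, hflat, hepi, hqiso⟩ := Groth.TorSelf.exists_flatCx F
  haveI := hqiso
  have hG := Groth.TorSelf.isKFlat_of_flatCx hzero hflat
  haveI : IsIso (DerivedCategory.Q.map α) := (DerivedCategory.isIso_Q_map_iff_quasiIso _ α).2 inferInstance
  let g : DCoh.toD X G ≅ DCoh.inD X F :=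
    asIso (DerivedCategory.Q.map α) ≪≫ ((DerivedCategory.singleFunctorIsoCompQ X.Modules 0).app F).symm
  have hz0 : ∀ j : ℤ, 0 < j → IsZero (((Groth.DerivedCoh.KFlat.pullCx i).obj G).X j) := fun j hj =>
    (Scheme.Modules.pullback i).map_isZero (hzero j hj)
  let P : ObjectProperty (DCoh.D Y) := fun K => DCoh.IsPerfect K
  have hMP : P (DCoh.inD Y M) := Groth.DerivedCoh.PCoh.isPerfect_inD hM
  let e₀ : (Scheme.Modules.pushforward i).mapDerivedCategory.obj (DCoh.inD Y M) ≅ DCoh.inD X F :=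
    (Functor.mapDerivedCategorySingleFunctor (Scheme.Modules.pushforward i) 0).app M
  let e : (DCoh.Lpull i).obj ((Scheme.Modules.pushforward i).mapDerivedCategory.obj (DCoh.inD Y M)) ≅
      DCoh.toD Y ((Groth.DerivedCoh.KFlat.pullCx i).obj G) :=
    (DCoh.Lpull i).mapIso (e₀ ≪≫ g.symm) ≪≫ Groth.DerivedCoh.KFlat.lpullQIso i G hG
  let K := (DCoh.Lpull i).obj ((Scheme.Modules.pushforward i).mapDerivedCategory.obj (DCoh.inD Y M))
  have hH : ∀ p : ℕ, Nonempty (DCoh.HD K (-(p : ℤ)) ≅
      ((Groth.DerivedCoh.KFlat.T Y).obj M).obj (Groth.LocFree.extPow p (Omega.conormal i))) := fun p => by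
    obtain ⟨h⟩ := Groth.TorSelf.nonempty_homology_pull_push i hreg hC hM G hG g p
    exact ⟨(DerivedCategory.homologyFunctor Y.Modules (-(p : ℤ))).mapIso e ≪≫
      Groth.DerivedCoh.KFlat.hdIso _ _ ≪≫ h⟩
  have hvan : ∀ p : ℕ, c < p → IsZero (DCoh.HD K (-(p : ℤ))) := fun p hp => by
    obtain ⟨h⟩ := hH p
    refine IsZero.of_iso (((Groth.DerivedCoh.KFlat.T Y).obj M).map_isZero ?_) h
    have := Groth.LocFree.isFinLocFreeOfRank_extPow hN p
    rw [Nat.choose_eq_zero_of_lt hp] at this
    exact Groth.KTheory.KvbModel.isZero_of_rank_zero this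
  haveI hle : K.IsLE 0 := by
    rw [DerivedCategory.isLE_iff]
    intro j hj
    refine Groth.DerivedCoh.KFlat.isZero_hd_of_iso e ?_
    rw [Groth.DerivedCoh.KFlat.isZero_hd_toD_iff]
    exact HomologicalComplex.ExactAt.of_isZero (hz0 j hj)
  haveI hge : K.IsGE (-(c : ℤ)) := by
    rw [DerivedCategory.isGE_iff]
    intro j hj
    obtain ⟨p, rfl⟩ : ∃ p : ℕ, j = -(p : ℤ) := ⟨(-j).toNat, by omega⟩
    exact hvan p (by omega)
  let Lp := fun p => ((DCoh.tensorBi (X := Y)).obj M).obj (L p)
  have hiso : ∀ p : ℕ, p ≤ c → Nonempty (DCoh.inD Y (DCoh.HD K (-(p : ℤ))) ≅ DCoh.inD Y (Lp p)) := fun p hp => by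
    obtain ⟨h⟩ := hH p
    obtain ⟨ε⟩ := Groth.LocFree.nonempty_iso_extPow (hL p hp)
    exact ⟨(DerivedCategory.singleFunctor Y.Modules 0).mapIso
      (h ≪≫ ((Groth.DerivedCoh.KFlat.T Y).obj M).mapIso ε)⟩
  have hPp : ∀ p : ℕ, p ≤ c → P (DCoh.inD Y (DCoh.HD K (-(p : ℤ)))) := fun p hp => by
    obtain ⟨h⟩ := hH p
    exact Groth.DerivedCoh.PCoh.isPerfect_inD (Groth.KTheory.LocFree.isFinLocFree_of_iso h.symm
      (Groth.LocFree.isFinLocFree_tensorMod hM (Groth.LocFree.isFinLocFree_extPow hC p)))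
  have hsum := (Groth.TorSelf.clTr_eq_sum_homology P c K hge hle hPp).2
  rw [mapTr_clTr _ hi hMP, mapTr_clTr _ hi' (hi _ hMP)]
  refine hsum.trans (Finset.sum_congr rfl fun p hp => ?_)
  have hpc : p ≤ c := by rw [Finset.mem_range] at hp; omega
  obtain ⟨h⟩ := hiso p hpc
  exact congrArg _ (Groth.TorSelf.clTr_iso' P h (hPp p hpc))

end Groth.Agent.S3204
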