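import Groth.Statements.S3205
import Groth.Agent.KTheory.ExtFiltSheaf

set_option autoImplicit false
universe u
open CategoryTheory CategoryTheory.Limits AlgebraicGeometry
attribute [local instance] HasDerivedCategory.standard
open SGA6

namespace Groth.Agent.S3205

/-- Let X be a scheme and 0 → E' → E → E'' → 0 a short exact sequence of finite locally free
O_X-modules. Let L'_i, L_n, L''_j be finite locally free exterior powers of E', E, E'' (in the sense
of the affine-local predicate ExtPow.IsExtPow). Then in K₀ of finite locally free modules, [L_n] =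
Σ_{i=0}^{n} [L'_i ⊗ L''_{n-i}] for every n. (The source constructs a filtration of Λⁿ E with
successive quotients Λ^i E' ⊗ Λ^{n-i} E''; the equality of classes is its consequence in K₀.) -/
theorem result (X : Scheme.{u}) (S : ShortComplex X.Modules) (hS : S.ShortExact)
    (h₁ : FlatMod.IsFinLocFree S.X₁) (h₂ : FlatMod.IsFinLocFree S.X₂) (h₃ : FlatMod.IsFinLocFree S.X₃)
    (L' L L'' : ℕ → X.Modules)
    (hL' : ∀ i, FlatMod.IsFinLocFree (L' i) ∧ ExtPow.IsExtPow i S.X₁ (L' i))
    (hL : ∀ i, FlatMod.IsFinLocFree (L i) ∧ ExtPow.IsExtPow i S.X₂ (L i))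
    (hL'' : ∀ i, FlatMod.IsFinLocFree (L'' i) ∧ ExtPow.IsExtPow i S.X₃ (L'' i)) (n : ℕ) :
    KZero.clSub (fun M : X.Modules => FlatMod.IsFinLocFree M) (L n) =
      ∑ i ∈ Finset.range (n + 1), KZero.clSub (fun M : X.Modules => FlatMod.IsFinLocFree M) (((DCoh.tensorBi (X := X)).obj (L' i)).obj (L'' (n - i))) := by
  have := Groth.KTheory.LocFree.isQCoh h₁
  have := Groth.KTheory.LocFree.isQCoh h₂
  have := Groth.KTheory.LocFree.isQCoh h₃
  have hz := Groth.KTheory.LocFree.isFinLocFree_zero (Limits.isZero_zero X.Modules)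
  obtain ⟨e⟩ := Groth.LocFree.nonempty_iso_extPow (hL n).2
  rw [← Groth.KTheory.clSub_iso (P := fun M : X.Modules => FlatMod.IsFinLocFree M) e
    (Groth.LocFree.isFinLocFree_extPow h₂ n) (hL n).1 (Limits.isZero_zero _) hz,
    Groth.KTheory.ExtFilt.clSub_extPow_extension S hS h₁ h₂ h₃ n]
  refine Finset.sum_congr rfl fun i _ => ?_
  obtain ⟨a⟩ := Groth.LocFree.nonempty_iso_extPow (hL' i).2
  obtain ⟨b⟩ := Groth.LocFree.nonempty_iso_extPow (hL'' (n - i)).2
  let c : CohB1.tensorMod (Groth.LocFree.extPow i S.X₁) (Groth.LocFree.extPow (n - i) S.X₃) ≅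
      ((DCoh.tensorBi (X := X)).obj (L' i)).obj (L'' (n - i)) :=
    (show CohB1.tensorMod (Groth.LocFree.extPow i S.X₁) (Groth.LocFree.extPow (n - i) S.X₃) ≅
      ((DCoh.tensorBi (X := X)).obj (Groth.LocFree.extPow i S.X₁)).obj
        (Groth.LocFree.extPow (n - i) S.X₃) from Iso.refl _) ≪≫
    ((DCoh.tensorBi (X := X)).mapIso a).app (Groth.LocFree.extPow (n - i) S.X₃) ≪≫
      ((DCoh.tensorBi (X := X)).obj (L' i)).mapIso b
  have hT := Groth.LocFree.isFinLocFree_tensorMod (Groth.LocFree.isFinLocFree_extPow h₁ i)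
    (Groth.LocFree.isFinLocFree_extPow h₃ (n - i))
  exact Groth.KTheory.clSub_iso (P := fun M : X.Modules => FlatMod.IsFinLocFree M) c hT
    (Groth.KTheory.LocFree.isFinLocFree_of_iso c hT) (Limits.isZero_zero _) hz

end Groth.Agent.S3205
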