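import Groth.Statements.S3206
import Groth.Agent.SGA7.Morse
import Groth.Agent.SGA7.PowerSeries

set_option autoImplicit false
open SGA7

namespace Groth.Agent.S3206

/-- Let k be a field and f a formal power series in n variables over k without constant term whose
partial derivatives ∂f/∂x_1, …, ∂f/∂x_n generate the maximal ideal of k[[x_1, …, x_n]]. Then there
are power series ε_1, …, ε_n with no terms of degree < 2 and a quadratic form q such that f = q(x_1
+ ε_1, …, x_n + ε_n). -/
theorem result (k : Type) [Field k] (n : ℕ) (f : MvPowerSeries (Fin n) k)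
    (hf0 : MvPowerSeries.constantCoeff f = 0)
    (hJ : Ideal.span (Set.range fun i : Fin n => MvPowerSeries.pderiv k i f) = IsLocalRing.maximalIdeal (MvPowerSeries (Fin n) k)) :
    ∃ (ε : Fin n → MvPowerSeries (Fin n) k) (_ : ∀ i (m : Fin n →₀ ℕ), m.degree < 2 → MvPowerSeries.coeff m (ε i) = 0)
      (q : MvPolynomial (Fin n) k) (_ : q.IsHomogeneous 2)
      (_ : MvPowerSeries.HasSubst (fun i : Fin n => MvPowerSeries.X i + ε i)),
      f = MvPowerSeries.subst (fun i : Fin n => MvPowerSeries.X i + ε i) (q : MvPowerSeries (Fin n) k) := by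
  classical
  set a := VanCyc.quadPart f with ha
  have h1 : ∀ i, MvPowerSeries.coeff (Finsupp.single i 1) f = 0 := fun i => by
    rw [← Groth.SGA7.PS.coeff_add_single_eq]
    have : MvPowerSeries.pderiv k i f ∈ IsLocalRing.maximalIdeal (MvPowerSeries (Fin n) k) :=
      hJ ▸ Ideal.subset_span ⟨i, rfl⟩
    rwa [Groth.SGA7.PS.maximalIdeal_eq_ker, RingHom.mem_ker] at this
  have hlin : ∀ i j, MvPowerSeries.coeff (Finsupp.single j 1) (MvPowerSeries.pderiv k i f) = VanCyc.polarMatrix a i j := by
    intro i j
    rw [MvPowerSeries.coeff_pderiv]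
    unfold VanCyc.polarMatrix
    simp only [ha, VanCyc.quadPart]
    rcases lt_trichotomy i j with h | h | h
    · simp [h.ne, h, Finsupp.single_eq_of_ne h.ne, add_comm (Finsupp.single j 1)]
    · subst h
      simp [← Finsupp.single_add, one_add_one_eq_two, mul_comm]
    · simp [h.ne', h.not_gt, h, h.ne, Finsupp.single_eq_of_ne h.ne']
  -- linear parts of the derivatives span, so the Gram matrix is invertible
  have hdet : VanCyc.QuadNondeg a := by
    refine (Matrix.isUnit_iff_isUnit_det _).mp (Matrix.vecMul_surjective_iff_isUnit.mp fun v => ?_)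
    let g : MvPowerSeries (Fin n) k := ∑ j, MvPowerSeries.C (v j) * MvPowerSeries.X j
    have hg : g ∈ Ideal.span (Set.range fun i : Fin n => MvPowerSeries.pderiv k i f) := by
      rw [hJ, Groth.SGA7.PS.maximalIdeal_eq_ker, RingHom.mem_ker]
      simp [g]
    obtain ⟨c, hc⟩ := (Submodule.mem_span_range_iff_exists_fun _).mp hg
    refine ⟨fun i => MvPowerSeries.constantCoeff (c i), funext fun j => ?_⟩
    have := congrArg (fun p => MvPowerSeries.coeff (Finsupp.single j 1) p) hc
    simp only [map_sum, smul_eq_mul] at this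
    have hmul : ∀ i, MvPowerSeries.coeff (Finsupp.single j 1) (c i * MvPowerSeries.pderiv k i f) =
        MvPowerSeries.constantCoeff (c i) * VanCyc.polarMatrix a i j := by
      intro i
      rw [← Groth.SGA7.PS.coeff_add_single_eq, Derivation.leibniz, smul_eq_mul, smul_eq_mul, map_add, map_mul, map_mul,
        Groth.SGA7.PS.coeff_add_single_eq, hlin, Groth.SGA7.PS.coeff_add_single_eq f i, h1, zero_mul, add_zero]
    simp only [hmul] at this
    refine Eq.trans ?_ (this.trans ?_)
    · rfl
    · simp [g, MvPowerSeries.coeff_C_mul, MvPowerSeries.coeff_X, Finsupp.single_left_inj]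
  have hF : ∀ e : Fin n →₀ ℕ, e.degree ≤ 2 → MvPowerSeries.coeff e f = MvPowerSeries.coeff e
      ((VanCyc.quadPoly a + MvPolynomial.C 0 : MvPolynomial (Fin n) k) : MvPowerSeries (Fin n) k) := by
    intro e he
    have hquad : ∀ e : Fin n →₀ ℕ, MvPolynomial.coeff e (VanCyc.quadPoly a) =
        ∑ i, ∑ j, if i ≤ j ∧ Finsupp.single i 1 + Finsupp.single j 1 = e then a i j else 0 := by
      intro e
      simp only [VanCyc.quadPoly, MvPolynomial.coeff_sum]
      refine Finset.sum_congr rfl fun i _ => Finset.sum_congr rfl fun j _ => ?_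
      by_cases hij : i ≤ j
      · rw [if_pos hij, MvPolynomial.C_mul_X_eq_monomial, MvPolynomial.X, MvPolynomial.monomial_mul, mul_one,
          MvPolynomial.coeff_monomial]
        simp [hij]
      · simp [hij]
    rw [map_zero, add_zero, MvPolynomial.coeff_coe, hquad]
    rcases Nat.lt_or_ge e.degree 2 with hlt | hge
    · rw [Finset.sum_eq_zero fun i _ => Finset.sum_eq_zero fun j _ => if_neg fun h => by
        have := congrArg Finsupp.degree h.2
        simp at this; omega]
      by_cases h0 : e = 0
      · rw [h0, MvPowerSeries.coeff_zero_eq_constantCoeff_apply, hf0]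
      · obtain ⟨i, hi⟩ : ∃ i, e i ≠ 0 := not_forall.mp fun h => h0 (Finsupp.ext h)
        obtain ⟨e', rfl⟩ := exists_add_of_le (Finsupp.single_le_iff.mpr (Nat.one_le_iff_ne_zero.mpr hi))
        have : e' = 0 := by rw [← Finsupp.degree_eq_zero_iff]; simp at hlt ⊢; omega
        rw [this, add_zero, h1]
    · obtain ⟨i, j, hij, rfl⟩ : ∃ i j, i ≤ j ∧ Finsupp.single i 1 + Finsupp.single j 1 = e := by
        obtain ⟨i, hi⟩ : ∃ i, e i ≠ 0 := not_forall.mp fun h => by
          have : e = 0 := Finsupp.ext h
          subst this; simp at hge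
        obtain ⟨e', rfl⟩ := exists_add_of_le (Finsupp.single_le_iff.mpr (Nat.one_le_iff_ne_zero.mpr hi))
        obtain ⟨j, hj⟩ : ∃ j, e' j ≠ 0 := not_forall.mp fun h => by
          have : e' = 0 := Finsupp.ext h
          subst this; simp at hge
        obtain ⟨e'', rfl⟩ := exists_add_of_le (Finsupp.single_le_iff.mpr (Nat.one_le_iff_ne_zero.mpr hj))
        have : e'' = 0 := by rw [← Finsupp.degree_eq_zero_iff]; simp at he ⊢; omega
        subst this
        rcases le_total i j with h | h
        · exact ⟨i, j, h, by rw [add_zero]⟩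
        · exact ⟨j, i, h, by rw [add_zero, add_comm]⟩
      have huniq : ∀ i' j', i' ≤ j' → Finsupp.single i' 1 + Finsupp.single j' 1 =
          (Finsupp.single i 1 + Finsupp.single j 1 : Fin n →₀ ℕ) → i' = i ∧ j' = j := by
        intro i' j' h' he'
        have e1 := congrArg (fun d : Fin n →₀ ℕ => d i') he'
        have e2 := congrArg (fun d : Fin n →₀ ℕ => d j') he'
        simp [Finsupp.single_apply] at e1 e2
        constructor <;> (split_ifs at e1 e2 <;> subst_vars <;> first | rfl | omega)
      rw [Finset.sum_eq_single i (fun i' _ hi' => Finset.sum_eq_zero fun j' _ => if_neg fun h =>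
        hi' (huniq i' j' h.1 h.2).1) (by simp), Finset.sum_eq_single j (fun j' _ hj' => if_neg fun h =>
        hj' (huniq i j' h.1 h.2).2) (by simp), if_pos ⟨hij, rfl⟩]
      show MvPowerSeries.coeff (Finsupp.single i 1 + Finsupp.single j 1) f = VanCyc.quadPart f i j
      unfold VanCyc.quadPart
      rcases hij.lt_or_eq with h | h
      · rw [if_neg h.ne, if_pos h]
      · subst h; rw [if_pos rfl, ← Finsupp.single_add]
  obtain ⟨h, hh, hs, he⟩ := Groth.SGA7.Morse.exists_subst_eq 2 le_rfl a hdet 0 f hF
  rw [map_zero, add_zero] at he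
  obtain ⟨g, hg, hgf⟩ := Groth.EtaleDeep.PSInverse.exists_leftInverse (fun i => MvPowerSeries.X i + h i)
    (fun i => by rw [add_sub_cancel_left]; exact_mod_cast hh i)
  refine ⟨fun i => g i - MvPowerSeries.X i, fun i m hm => MvPowerSeries.coeff_of_lt_order
    (lt_of_lt_of_le (by exact_mod_cast hm) (hg i)), VanCyc.quadPoly a, ?_, ?_, ?_⟩
  · refine MvPolynomial.IsHomogeneous.sum _ _ _ fun i _ => MvPolynomial.IsHomogeneous.sum _ _ _ fun j _ => ?_
    split_ifs
    · exact ((MvPolynomial.isHomogeneous_C_mul_X _ _).mul (MvPolynomial.isHomogeneous_X _ _))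
    · exact MvPolynomial.isHomogeneous_zero _ _ _
  · simp only [add_sub_cancel]
    exact Groth.EtaleDeep.PSInverse.hasSubst_of_two_le g hg
  · simp only [add_sub_cancel]
    rw [← he, hgf]

end Groth.Agent.S3206
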