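import Groth.Statements.S3207
import Mathlib
import Groth.Agent.PropsBasic2.SchTop
-- import your own Groth.Agent.* helpers here

set_option autoImplicit false
universe u
open CategoryTheory CategoryTheory.Limits AlgebraicGeometry
open SGA7

namespace Groth.Agent.S3207


/-- Let g : T -> S be locally quasi-finite, of finite presentation, separated and flat. If for every
maximal point s of S (a point with no proper generization) the fibre of g over s is either empty or
mapped isomorphically onto Spec κ(s) (rank at most 1), then g is an open immersion. -/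
theorem result {T S : Scheme.{u}} (g : T ⟶ S) [LocallyQuasiFinite g]
    [LocallyOfFinitePresentation g] [QuasiCompact g] [IsSeparated g] [Flat g]
    (h : ∀ s : S, (∀ t : S, t ⤳ s → t = s) →
      IsEmpty ↑(pullback g (S.fromSpecResidueField s)) ∨ IsIso (pullback.snd g (S.fromSpecResidueField s))) :
    IsOpenImmersion g := by
  have hgm : ∀ z : ↥(pullback g g), ∃ w : ↥(pullback g g), w ⤳ z ∧
      ∀ t : S, t ⤳ (pullback.fst g g ≫ g) w → t = (pullback.fst g g ≫ g) w := by
    intro z
    obtain ⟨s, hs, hsz⟩ := Groth.PropsBasic2.exists_genericPoint_specializes ((pullback.fst g g ≫ g) z)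
    obtain ⟨w, hw, hw'⟩ := Flat.generalizingMap (pullback.fst g g ≫ g) hsz
    exact ⟨w, hw, fun t ht => by
      rw [hw'] at ht ⊢
      exact (Groth.PropsBasic2.closure_mem_irreducibleComponents_iff s).mp hs t ht⟩
  have hsurj : Surjective (pullback.diagonal g) := by
    refine ⟨fun z => ?_⟩
    obtain ⟨w, hwz, hw⟩ := hgm z
    have hcl : IsClosed (Set.range (pullback.diagonal g)) :=
      (pullback.diagonal g).isClosedEmbedding.isClosed_range
    refine hwz.mem_closed hcl ?_
    let s := (pullback.fst g g ≫ g) w
    rcases h s hw with he | hi
    · obtain ⟨t, -, -⟩ := Scheme.Pullback.exists_preimage_pullback (f := g)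
        (g := S.fromSpecResidueField s) (pullback.fst g g w) (IsLocalRing.closedPoint (S.residueField s))
        (by rw [Scheme.fromSpecResidueField_apply]; rfl)
      exact he.elim t
    · let q := (pullback g g).fromSpecResidueField w
      let c := Spec.map ((pullback.fst g g ≫ g).residueFieldMap w)
      have hc : c ≫ S.fromSpecResidueField s = q ≫ pullback.fst g g ≫ g :=
        Scheme.Hom.SpecMap_residueFieldMap_fromSpecResidueField _ w
      let l₁ : _ ⟶ pullback g (S.fromSpecResidueField s) :=
        pullback.lift (q ≫ pullback.fst g g) c (by rw [Category.assoc, hc])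
      let l₂ : _ ⟶ pullback g (S.fromSpecResidueField s) :=
        pullback.lift (q ≫ pullback.snd g g) c (by rw [Category.assoc, hc, pullback.condition])
      have hl : l₁ = l₂ := by
        rw [← cancel_mono (pullback.snd g (S.fromSpecResidueField s)), pullback.lift_snd, pullback.lift_snd]
      have heq : q ≫ pullback.fst g g = q ≫ pullback.snd g g := by
        have := congrArg (fun l => l ≫ pullback.fst g (S.fromSpecResidueField s)) hl
        rw [pullback.lift_fst, pullback.lift_fst] at this
        exact this
      refine ⟨(q ≫ pullback.fst g g) (IsLocalRing.closedPoint _), ?_⟩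
      rw [← Scheme.Hom.comp_apply, show (q ≫ pullback.fst g g) ≫ pullback.diagonal g = q from ?_]
      · exact Scheme.fromSpecResidueField_apply _ _
      · apply pullback.hom_ext
        · simp
        · simp [heq]
  have : UniversallyInjective g := (UniversallyInjective.iff_diagonal g).mpr hsurj
  let U : S.Opens := ⟨Set.range g, g.isOpenMap.isOpen_range⟩
  let g' : T ⟶ U := IsOpenImmersion.lift U.ι g (by rw [Scheme.Opens.range_ι]; exact le_rfl)
  have hg : g' ≫ U.ι = g := IsOpenImmersion.lift_fac _ _ _
  have hsq : IsPullback (𝟙 T) g' g U.ι :=
    IsPullback.of_isLimit' ⟨by simp [hg]⟩ (PullbackCone.IsLimit.mk _ (fun c => c.fst)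
      (fun c => Category.comp_id _)
      (fun c => by rw [← cancel_mono U.ι, Category.assoc, hg]; exact c.condition)
      (fun c m h₁ _ => by simpa using h₁))
  have : Surjective g' := ⟨fun u => by
    obtain ⟨t, ht⟩ := u.2
    exact ⟨t, Subtype.ext ((congr($(hg) t)).trans ht)⟩⟩
  have : Flat g' := MorphismProperty.of_isPullback hsq inferInstance
  have : LocallyOfFinitePresentation g' := MorphismProperty.of_isPullback hsq inferInstance
  have : UniversallyInjective g' := MorphismProperty.of_isPullback hsq inferInstance
  have : IsSeparated g' := MorphismProperty.of_isPullback hsq inferInstance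
  have : LocallyQuasiFinite g' := MorphismProperty.of_isPullback hsq inferInstance
  have : QuasiCompact g' := MorphismProperty.of_isPullback hsq inferInstance
  have : UniversallyClosed g' := by
    refine ⟨fun {X' Y'} i₁ i₂ f' hf => ?_⟩
    have : UniversallyInjective f' := MorphismProperty.of_isPullback hf.flip inferInstance
    have : Surjective f' := MorphismProperty.of_isPullback hf.flip inferInstance
    have : UniversallyOpen f' := MorphismProperty.of_isPullback hf.flip inferInstance
    intro C hC
    have : f' '' C = (f' '' Cᶜ)ᶜ := by
      rw [Set.image_compl_eq ⟨f'.injective, f'.surjective⟩, compl_compl]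
    rw [this]
    exact (f'.isOpenMap _ hC.isOpen_compl).isClosed_compl
  have : IsProper g' := {}
  have : IsFinite g' := IsFinite.of_isProper_of_locallyQuasiFinite g'
  have hrk : g'.finrank = 1 := by
    ext u
    obtain ⟨s, hs, hsu⟩ := Groth.PropsBasic2.exists_genericPoint_specializes (U.ι u)
    have hsU : s ∈ U := hsu.mem_open U.2 u.2
    have hsu' : (⟨s, hsU⟩ : U) ⤳ u := U.ι.isOpenEmbedding.isInducing.specializes_iff.mp hsu
    obtain ⟨O, hO, huO, hconst⟩ := g'.isLocallyConstant_finrank.exists_open u
    rw [← hconst _ (hsu'.mem_open hO huO)]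
    rcases h s (fun t ht => (Groth.PropsBasic2.closure_mem_irreducibleComponents_iff s).mp hs t ht)
      with he | hi
    · obtain ⟨t₀, ht₀⟩ := hsU
      obtain ⟨t, -, -⟩ := Scheme.Pullback.exists_preimage_pullback (f := g)
        (g := S.fromSpecResidueField s) t₀ (IsLocalRing.closedPoint (S.residueField s))
        (by rw [Scheme.fromSpecResidueField_apply]; exact ht₀)
      exact he.elim t
    · let l : Spec (S.residueField s) ⟶ U := IsOpenImmersion.lift U.ι (S.fromSpecResidueField s) (by
        rw [Scheme.range_fromSpecResidueField, Scheme.Opens.range_ι]; simpa using hsU)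
      have hl : l (IsLocalRing.closedPoint (S.residueField s)) = ⟨s, hsU⟩ := by
        apply U.ι.isOpenEmbedding.injective
        rw [← Scheme.Hom.comp_apply, IsOpenImmersion.lift_fac, Scheme.fromSpecResidueField_apply]
        rfl
      rw [← hl, ← Scheme.Hom.finrank_pullback_snd g' l]
      have hbig := (IsPullback.of_hasPullback g' l).paste_horiz hsq
      rw [IsOpenImmersion.lift_fac] at hbig
      have : IsIso (pullback.snd g' l) := by
        rw [← hbig.isoPullback_hom_snd]; infer_instance
      rw [Scheme.Hom.finrank_eq_one_of_isIso]; rfl
  have : IsIso g' := g'.isIso_iff_finrank_eq.mpr hrk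
  rw [← hg]
  infer_instance

end Groth.Agent.S3207
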