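import Groth.Statements.S3208
import Mathlib.Algebra.CharP.Lemmas
import Mathlib.Algebra.Polynomial.Derivative
import Mathlib.LinearAlgebra.FreeModule.PID
import Mathlib.Tactic

set_option autoImplicit false
open SGA7

namespace Groth.Agent.S3208
variable {E : Type} [CommRing E] [NoZeroSMulDivisors ℤ E] [Module.Finite ℤ E]

omit [Module.Finite ℤ E] in
private theorem cancel {d : ℕ} (hd : d ≠ 0) {x : E} (hx : (d : E) * x = 0) : x = 0 :=
  (smul_eq_zero.mp (show (d : ℤ) • x = 0 by rw [zsmul_eq_mul]; exact_mod_cast hx)).resolve_left (by exact_mod_cast hd)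

private theorem eq_zero_of_forall_dvd {q : ℕ} (hq : 2 ≤ q) {x : E} (h : ∀ j : ℕ, ∃ y : E, x = (q : E) ^ j * y) : x = 0 := by
  have : Module.Free ℤ E := Module.free_of_finite_type_torsion_free'
  let b := Module.Free.chooseBasis ℤ E
  refine b.repr.map_eq_zero_iff.mp (Finsupp.ext fun i => ?_)
  obtain ⟨j, hj⟩ := pow_unbounded_of_one_lt |b.repr x i| (show (1 : ℤ) < q by exact_mod_cast hq)
  obtain ⟨y, hy⟩ := h j
  have hy' : b.repr x i = (q : ℤ) ^ j * b.repr y i := by
    have : x = ((q : ℤ) ^ j) • y := by rw [zsmul_eq_mul, hy]; push_cast; rfl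
    conv_lhs => rw [this, map_zsmul, Finsupp.smul_apply, smul_eq_mul]
  simpa using Int.eq_zero_of_abs_lt_dvd ⟨_, hy'⟩ hj

private theorem eq_zero_of_mul_eq {d q : ℕ} (hq : 2 ≤ q) (hdq : Nat.Coprime d q) {w a : E}
    (h : (d : E) * w = (q : E) * (w * a)) : w = 0 := by
  refine eq_zero_of_forall_dvd hq fun j => ?_
  have hj : (d : E) ^ j * w = (q : E) ^ j * (w * a ^ j) := by
    induction j with
    | zero => simp
    | succ j ih => linear_combination (d : E) * ih + (q : E) ^ j * a ^ j * h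
  obtain ⟨s, t, hst⟩ := (Int.isCoprime_iff_nat_coprime.mpr (by simpa using Nat.Coprime.pow j j hdq) :
    IsCoprime ((d ^ j : ℕ) : ℤ) ((q ^ j : ℕ) : ℤ))
  have hst' : (s : E) * (d : E) ^ j + (t : E) * (q : E) ^ j = 1 := by exact_mod_cast congrArg (Int.cast (R := E)) hst
  exact ⟨(s : E) * (w * a ^ j) + (t : E) * w, by linear_combination (s : E) * hj - w * hst'⟩

omit [NoZeroSMulDivisors ℤ E] [Module.Finite ℤ E] in
private theorem binom_split (p : ℕ) (hp : p.Prime) :
    ∃ s : Polynomial ℤ, ∀ x : E, (1 + x) ^ p = 1 + x ^ p + (p : E) * x * (1 + x * Polynomial.aeval x s) := by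
  obtain ⟨r, hr⟩ := exists_add_pow_prime_eq hp (1 : Polynomial ℤ) Polynomial.X
  have h0 : r.eval 0 = 1 := by
    have := congrArg (fun f : Polynomial ℤ => (Polynomial.derivative f).eval 0) hr
    simp [Polynomial.derivative_pow, Polynomial.derivative_mul, Polynomial.derivative_natCast,
      zero_pow (by have := hp.two_le; omega : p - 1 ≠ 0), hp.ne_zero] at this
    exact this
  obtain ⟨s, hs⟩ : Polynomial.X ∣ r - 1 := Polynomial.X_dvd_iff.mpr (by
    rw [Polynomial.coeff_zero_eq_eval_zero]; simp [h0])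
  refine ⟨s, fun x => ?_⟩
  have hr' := congrArg (Polynomial.aeval x) hr
  have hs' := congrArg (Polynomial.aeval x) hs
  simp only [map_add, map_pow, map_mul, map_one, map_sub, map_natCast, Polynomial.aeval_X, one_pow, mul_one] at hr' hs'
  linear_combination hr' + (p : E) * x * hs'

private theorem step (p : ℕ) (hp : p.Prime) (n : ℕ) (hn : 3 ≤ n) (w : E)
    (hpow : (1 + (n : E) * w) ^ p = 1) : 1 + (n : E) * w = 1 := by
  suffices w = 0 by simp [this]
  obtain ⟨s, hs⟩ := binom_split (E := E) p hp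
  have h0 := hs ((n : E) * w)
  rw [hpow] at h0
  generalize Polynomial.aeval ((n : E) * w) s = σ at h0
  obtain ⟨l, rfl⟩ : ∃ l, p = l + 2 := ⟨p - 2, by have := hp.two_le; omega⟩
  have h1 : ((l + 2 : ℕ) : E) * w = (n : E) * (w * (-(((l + 2 : ℕ) : E) * w * σ) - (n : E) ^ l * w ^ (l + 1))) := by
    refine sub_eq_zero.mp (cancel (d := n) (by omega) ?_)
    linear_combination -h0
  by_cases hex : ∃ q, q.Prime ∧ q ∣ n ∧ q ≠ l + 2
  · obtain ⟨q, hq, ⟨c, rfl⟩, hne⟩ := hex
    refine eq_zero_of_mul_eq hq.two_le ((Nat.coprime_primes hp hq).mpr (Ne.symm hne))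
      (a := (c : E) * (-(((l + 2 : ℕ) : E) * w * σ) - ((q * c : ℕ) : E) ^ l * w ^ (l + 1))) ?_
    push_cast at h1 ⊢
    linear_combination h1
  · have hn2 : n = (l + 2) ^ n.primeFactorsList.length := by
      refine Nat.eq_prime_pow_of_unique_prime_dvd (by omega) fun {d} hd hdn => ?_
      by_contra hne
      exact hex ⟨d, hd, hdn, hne⟩
    generalize n.primeFactorsList.length = k at hn2
    subst hn2
    obtain ⟨k, rfl⟩ : ∃ k', k = k' + 1 := ⟨k - 1, by rcases k with _ | k <;> simp at hn ⊢⟩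
    -- the last term is divisible by `p ^ 2`
    obtain ⟨e, he⟩ : (l + 2) ^ 2 ∣ ((l + 2) ^ (k + 1)) ^ (l + 1) := by
      rw [← pow_mul]
      refine pow_dvd_pow _ ?_
      rcases k with _ | k
      · rcases l with _ | l
        · simp at hn
        · simp
      · calc 2 ≤ k + 2 := by omega
          _ ≤ (k + 1 + 1) * (l + 1) := Nat.le_mul_of_pos_right _ (by omega)
    have he' : (((l + 2 : ℕ) : E) ^ (k + 1)) ^ (l + 1) = ((l + 2 : ℕ) : E) ^ 2 * (e : E) := by
      exact_mod_cast congrArg (Nat.cast (R := E)) he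
    push_cast at h1
    have h2 : w = ((l + 2 : ℕ) : E) * (w * (-((((l + 2 : ℕ) : E)) ^ k * w * σ) - (e : E) * w ^ (l + 1))) := by
      refine sub_eq_zero.mp (cancel (d := l + 2) (by omega) ?_)
      push_cast at he' ⊢
      linear_combination h1 - w ^ (l + 2) * he'
    exact eq_zero_of_mul_eq hp.two_le (Nat.coprime_one_left (l + 2)) (by simpa using h2)


/-- Let E be a commutative ring which is finitely generated and torsion-free as an additive group, u an
element of E of finite multiplicative order (u^m = 1 for some m > 0), and n ≥ 2 an integer with u ≡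
1 modulo nE (i.e. 1 - u = n·v for some v ∈ E). Then u² = 1, and if n ≥ 3 then u = 1. -/
theorem result (E : Type) [CommRing E] [NoZeroSMulDivisors ℤ E] [Module.Finite ℤ E] (u : E) (m : ℕ) (hm : 0 < m)
    (hu : u ^ m = 1) (n : ℕ) (hn : 2 ≤ n) (hcong : ∃ v : E, 1 - u = (n : E) * v) :
    u ^ 2 = 1 ∧ (3 ≤ n → u = 1) := by
  classical
  have hmain : ∀ (m : ℕ) (u : E) (n : ℕ), 0 < m → u ^ m = 1 → 3 ≤ n → (∃ w : E, u = 1 + (n : E) * w) → u = 1 := by
    intro m
    induction m using Nat.strong_induction_on with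
    | _ m ih =>
      rintro u n hm hu hn ⟨w, rfl⟩
      by_cases hm1 : m = 1
      · subst hm1; simpa using hu
      obtain ⟨p, hp, hdvd⟩ := Nat.exists_prime_and_dvd hm1
      obtain ⟨m', rfl⟩ := hdvd
      have hpow : (1 + (n : E) * w) ^ p = 1 := by
        refine ih m' ?_ _ n (Nat.pos_of_mul_pos_left hm) (by rwa [← pow_mul]) hn ?_
        · exact lt_mul_of_one_lt_left (Nat.pos_of_mul_pos_left hm) hp.one_lt
        · obtain ⟨c, hc⟩ := sub_one_dvd_pow_sub_one (1 + (n : E) * w) p
          refine ⟨w * c, ?_⟩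
          linear_combination hc
      exact step p hp n hn w hpow
  obtain ⟨v, hv⟩ := hcong
  have h1 : 3 ≤ n → u = 1 := fun h3 => hmain m u n hm hu h3 ⟨-v, by linear_combination -hv⟩
  refine ⟨?_, h1⟩
  rcases Nat.lt_or_ge n 3 with hlt | hge
  · obtain rfl : n = 2 := by omega
    refine hmain m (u ^ 2) 4 hm (by rw [← pow_mul, mul_comm, pow_mul, hu, one_pow]) (by omega) ⟨v ^ 2 - v, ?_⟩
    push_cast at hv ⊢
    linear_combination (-u - 1 + 2 * v) * hv
  · rw [h1 hge, one_pow]

end Groth.Agent.S3208
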