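import Groth.Statements.S3209
import Mathlib.LinearAlgebra.TensorProduct.RightExactness

set_option autoImplicit false
universe u
open TensorProduct
open SGA7

namespace Groth.Agent.S3209

/-- Let f : B' → B be a surjective map of R-algebras with kernel J, g : C → B a map of R-algebras, P =
B' ×_B C their fibre product (the equalizer of f ∘ pr₁ and g ∘ pr₂ in B' × C) and S an R-algebra
such that S ⊗_R J → S ⊗_R B' is injective (this holds when Tor_1^R(B, S) = 0, the published
hypothesis, and in particular when S is flat). Then the canonical map S ⊗_R P → (S ⊗_R B') ×_{S ⊗_R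
B} (S ⊗_R C) is bijective: it is injective, and every pair with the same image in S ⊗_R B comes from
S ⊗_R P. -/
theorem result (R B' B C S : Type u) [CommRing R] [CommRing B'] [CommRing B] [CommRing C]
    [CommRing S] [Algebra R B'] [Algebra R B] [Algebra R C] [Algebra R S]
    (f : B' →ₐ[R] B) (hf : Function.Surjective f) (g : C →ₐ[R] B)
    (hJ : Function.Injective (LinearMap.lTensor S (LinearMap.ker f.toLinearMap).subtype)) :
    letI P := AlgHom.equalizer (f.comp (AlgHom.fst R B' C)) (g.comp (AlgHom.snd R B' C))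
    letI φ₁ := Algebra.TensorProduct.map (AlgHom.id R S) ((AlgHom.fst R B' C).comp P.val)
    letI φ₂ := Algebra.TensorProduct.map (AlgHom.id R S) ((AlgHom.snd R B' C).comp P.val)
    Function.Injective (fun z : S ⊗[R] ↥P => (φ₁ z, φ₂ z)) ∧
    ∀ (x : S ⊗[R] B') (y : S ⊗[R] C),
      Algebra.TensorProduct.map (AlgHom.id R S) f x = Algebra.TensorProduct.map (AlgHom.id R S) g y →
        ∃ z : S ⊗[R] ↥P, φ₁ z = x ∧ φ₂ z = y := by
  show Function.Injective _ ∧ _
  let P := AlgHom.equalizer (f.comp (AlgHom.fst R B' C)) (g.comp (AlgHom.snd R B' C))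
  let φ₁ := Algebra.TensorProduct.map (AlgHom.id R S) ((AlgHom.fst R B' C).comp P.val)
  let φ₂ := Algebra.TensorProduct.map (AlgHom.id R S) ((AlgHom.snd R B' C).comp P.val)
  change Function.Injective (fun z : S ⊗[R] ↥P => (φ₁ z, φ₂ z)) ∧
    ∀ (x : S ⊗[R] B') (y : S ⊗[R] C),
      Algebra.TensorProduct.map (AlgHom.id R S) f x = Algebra.TensorProduct.map (AlgHom.id R S) g y →
        ∃ z : S ⊗[R] ↥P, φ₁ z = x ∧ φ₂ z = y
  let J := LinearMap.ker f.toLinearMap
  let π : ↥P →ₗ[R] C := ((AlgHom.snd R B' C).comp P.val).toLinearMap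
  let π₁ : ↥P →ₗ[R] B' := ((AlgHom.fst R B' C).comp P.val).toLinearMap
  let ι : ↥J →ₗ[R] ↥P := LinearMap.codRestrict (Subalgebra.toSubmodule P)
    ((LinearMap.inl R B' C).comp J.subtype) (fun j => by
      show f (j : B') = g 0
      rw [map_zero]; exact j.2)
  have hπ : Function.Surjective π := fun c => by
    obtain ⟨b, hb⟩ := hf (g c)
    exact ⟨⟨(b, c), hb⟩, rfl⟩
  have hexP : Function.Exact ι π := by
    intro x
    constructor
    · intro hx
      have hx2 : ((x : B' × C)).2 = 0 := hx
      refine ⟨⟨(x : B' × C).1, ?_⟩, ?_⟩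
      · show f _ = 0
        have h : f (x : B' × C).1 = g (x : B' × C).2 := x.2
        rw [h, hx2, map_zero]
      · apply Subtype.ext
        exact Prod.ext rfl hx2.symm
    · rintro ⟨j, rfl⟩; rfl
  have e1 : ∀ z, φ₁ z = π₁.lTensor S z := fun z => by
    induction z using TensorProduct.induction_on with
    | zero => simp
    | tmul s p => rfl
    | add x y hx hy => simp only [map_add, hx, hy]
  have e2 : ∀ z, φ₂ z = π.lTensor S z := fun z => by
    induction z using TensorProduct.induction_on with
    | zero => simp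
    | tmul s p => rfl
    | add x y hx hy => simp only [map_add, hx, hy]
  have hcomp : ∀ w, π₁.lTensor S (ι.lTensor S w) = J.subtype.lTensor S w := fun w => by
    rw [← LinearMap.lTensor_comp_apply]; rfl
  have hzero : ∀ w, π.lTensor S (ι.lTensor S w) = 0 := fun w =>
    ((lTensor_exact S hexP hπ) _).mpr ⟨w, rfl⟩
  constructor
  · intro z z' h
    rw [← sub_eq_zero]
    simp only [Prod.mk.injEq, e1, e2] at h
    obtain ⟨w, hw⟩ := ((lTensor_exact S hexP hπ) (z - z')).mp (by rw [map_sub, h.2, sub_self])
    have : J.subtype.lTensor S w = 0 := by rw [← hcomp, hw, map_sub, h.1, sub_self]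
    rw [← hw, hJ (a₁ := w) (a₂ := 0) (by rw [this, map_zero]), map_zero]
  · intro x y hxy
    obtain ⟨z₀, hz₀⟩ := LinearMap.lTensor_surjective S hπ y
    have hfg : ∀ z, Algebra.TensorProduct.map (AlgHom.id R S) f (φ₁ z) =
        Algebra.TensorProduct.map (AlgHom.id R S) g (φ₂ z) := fun z => by
      induction z using TensorProduct.induction_on with
      | zero => simp
      | tmul s p =>
        show s ⊗ₜ[R] f _ = s ⊗ₜ[R] g _
        congr 1
        exact p.2
      | add a b ha hb => simp only [map_add, ha, hb]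
    have hfl : ∀ u, Algebra.TensorProduct.map (AlgHom.id R S) f u = f.toLinearMap.lTensor S u := fun u => by
      induction u using TensorProduct.induction_on with
      | zero => simp
      | tmul s p => rfl
      | add a b ha hb => simp only [map_add, ha, hb]
    have hex : Function.Exact J.subtype f.toLinearMap := LinearMap.exact_subtype_ker_map f.toLinearMap
    obtain ⟨w, hw⟩ := ((lTensor_exact S hex hf) (x - φ₁ z₀)).mp (by
      rw [← hfl, map_sub, hfg, hxy, e2, hz₀, sub_self])
    refine ⟨z₀ + ι.lTensor S w, ?_, ?_⟩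
    · rw [e1, map_add, hcomp, hw, ← e1, add_sub_cancel]
    · rw [e2, map_add, hzero, add_zero, hz₀]

end Groth.Agent.S3209
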