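import Groth.Statements.S3211
import Groth.Agent.S18483
import Groth.Agent.S11098
import Groth.Agent.S17449
import Groth.Agent.NeronArea.ModelGroup

set_option backward.isDefEq.respectTransparency false

set_option autoImplicit false
universe u
open CategoryTheory CategoryTheory.Limits AlgebraicGeometry MonObj
open SGA7

namespace Groth.Agent.S3211

/-- (i) ⟺ (iv): let R be a discrete valuation ring with fraction field K, A an abelian variety over K (a
proper, geometrically integral group scheme) and N a Néron model of A over Spec R. Then A extends to
an abelian scheme over R (a proper smooth group scheme with connected geometric fibres and generic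
fibre K-isomorphic to A) if and only if N is proper over Spec R. -/
theorem result (R : Type u) [CommRing R] [IsDomain R] [IsDiscreteValuationRing R]
    (A : Over (Spec (CommRingCat.of (FractionRing R)))) [GrpObj A] [IsProper A.hom] [GeometricallyIntegral A.hom]
    (N : Over (Spec (CommRingCat.of R))) (e : (Neron.genericFibre R).obj N ≅ A) (hN : Neron.IsNeronModelOf R N A e) :
    (∃ (B : Over (Spec (CommRingCat.of R))) (_ : GrpObj B), IsProper B.hom ∧ Smooth B.hom ∧
        (∀ (k' : Type u) [Field k'] (t : Spec (CommRingCat.of k') ⟶ Spec (CommRingCat.of R)), ConnectedSpace ↑(pullback B.hom t)) ∧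
        Nonempty ((Over.pullback (Spec.map (CommRingCat.ofHom (algebraMap R (FractionRing R))))).obj B ≅ A)) ↔ IsProper N.hom := by
  constructor
  · rintro ⟨B, hB, hp, hs, -, ⟨i⟩⟩
    obtain ⟨a1, a2, a3, a4, hb⟩ := Groth.Agent.S18483.result R B
    have hB' : Neron.IsNeronModelOf R B A i := ⟨a1, a2, a3, a4, fun Y hY => by
      have h := ((Iso.homToEquiv i).bijective).comp (hb Y hY)
      have he : (fun g : Y ⟶ B => (Neron.genericFibre R).map g ≫ i.hom) =
          ⇑(Iso.homToEquiv i (Z := (Neron.genericFibre R).obj Y)) ∘
            fun g : Y ⟶ B => (Neron.genericFibre R).map g ≫ (Iso.refl _).hom := by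
        funext g; simp [Iso.homToEquiv]
      rw [he]; exact h⟩
    obtain ⟨⟨ψ, hψ, -⟩, hiso⟩ := Groth.Agent.S11098.result R A N B e i hN hB'
    haveI := hiso ψ hψ
    haveI : IsIso ψ.left := inferInstanceAs (IsIso ((Over.forget _).map ψ))
    rw [← Over.w ψ]
    infer_instance
  · intro hp
    obtain ⟨hs, -, -, -, hb⟩ := hN
    obtain ⟨hG, -⟩ := Groth.NeronArea.exists_grpObj_neronModel (Neron.genericFibre R) N e.hom hb
    haveI hK : GeometricallyConnected
        (pullback.snd N.hom (Spec.map (CommRingCat.ofHom (algebraMap R (FractionRing R))))) := by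
      have hA : GeometricallyConnected A.hom := by
        rw [GeometricallyConnected.eq_geometrically]
        intro K _ y Z fst snd hsq
        haveI : IsIntegral Z := GeometricallyIntegral.geometrically_isIntegral _ _ _ hsq
        infer_instance
      have hw : e.hom.left ≫ A.hom = pullback.snd N.hom (Neron.genPt R) := Over.w e.hom
      haveI : IsIso e.hom.left := inferInstanceAs (IsIso ((Over.forget _).map e.hom))
      show GeometricallyConnected (pullback.snd N.hom (Neron.genPt R))
      rw [← hw]
      exact (MorphismProperty.cancel_left_of_respectsIso @GeometricallyConnected _ _).2 hA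
    haveI := Groth.Agent.S17449.geometricallyConnected_dvr N.hom
      (MorphismProperty.pullback_snd _ _ hs) hK
    exact ⟨N, hG, hp, hs, fun k' _ t =>
      GeometricallyConnected.geometrically_connectedSpace t _ _ (IsPullback.of_hasPullback _ _), ⟨e⟩⟩

end Groth.Agent.S3211
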