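import Groth.Statements.S3214
import Mathlib.RingTheory.MvPolynomial.Symmetric.Defs
import Mathlib.RingTheory.Polynomial.Vieta
import Mathlib.Tactic

set_option autoImplicit false
open Polynomial
universe u
open SGA7II

namespace Groth.Agent.S3214

/-- In the recursive form established in its proof: let A = Z[X_1, ..., X_a] (a >= 1), P = prod_i (T -
X_i) in A[T] and S_i the i-th elementary symmetric function. Writing a_j for the coefficient of
T^{a-1} in the remainder of T^{a-1+j} modulo P, one has a_0 = 1 and sum_{i=0}^{a} (-1)^i S_i a_{j-i}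
= 0 for every j > 0 (with a_m = 0 for m < 0); equivalently sum_j (-1)^j a_j is the inverse of sum_i
S_i. (The source works in formal power series; the identity involves only polynomials.) -/
theorem result (a : ℕ) (ha : 0 < a) :
    let P : (MvPolynomial (Fin a) ℤ)[X] := ∏ i : Fin a, (X - C (MvPolynomial.X i))
    let coef : ℤ → MvPolynomial (Fin a) ℤ := fun j =>
      if j < 0 then 0 else ((X : (MvPolynomial (Fin a) ℤ)[X]) ^ (a - 1 + j.toNat) %ₘ P).coeff (a - 1)
    coef 0 = 1 ∧ ∀ j : ℕ, 0 < j →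
      (∑ i ∈ Finset.range (a + 1), (-1 : MvPolynomial (Fin a) ℤ) ^ i * MvPolynomial.esymm (Fin a) ℤ i *
        coef ((j : ℤ) - i)) = 0 := by
  intro P coef
  classical
  nontriviality MvPolynomial (Fin a) ℤ
  have hP : P.Monic := monic_prod_of_monic _ _ fun i _ => monic_X_sub_C _
  have hdeg : P.natDegree = a := by
    simp only [P]
    rw [natDegree_prod_of_monic _ _ fun i _ => monic_X_sub_C _]
    simp
  have hsmall : ∀ e, e < a → (X : (MvPolynomial (Fin a) ℤ)[X]) ^ e %ₘ P = X ^ e := fun e he =>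
    (modByMonic_eq_self_iff hP).mpr (by rw [degree_X_pow, degree_eq_natDegree hP.ne_zero, hdeg]; exact_mod_cast he)
  refine ⟨?_, fun j hj => ?_⟩
  · show (if (0 : ℤ) < 0 then _ else _) = _
    rw [if_neg (lt_irrefl _), Int.toNat_zero, add_zero, hsmall _ (by omega), coeff_X_pow, if_pos rfl]
  have hexp : P = ∑ i ∈ Finset.range (a + 1), C ((-1) ^ i * MvPolynomial.esymm (Fin a) ℤ i) * X ^ (a - i) := by
    have h := Multiset.prod_X_sub_X_eq_sum_esymm ((Finset.univ : Finset (Fin a)).val.map
      (fun i => (MvPolynomial.X i : MvPolynomial (Fin a) ℤ)))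
    rw [Multiset.map_map] at h
    simp only [Multiset.card_map, Finset.card_val, Finset.card_univ, Fintype.card_fin] at h
    refine h.trans (Finset.sum_congr rfl fun i _ => ?_)
    rw [MvPolynomial.esymm_eq_multiset_esymm]
    simp only [map_mul, map_pow, map_neg, map_one]
    ring
  have hzero : (X ^ (j - 1) * P) %ₘ P = 0 := (modByMonic_eq_zero_iff_dvd hP).mpr (dvd_mul_left _ _)
  have h := congrArg (fun p => Polynomial.coeff p (a - 1)) hzero
  nth_rewrite 1 [hexp] at h
  simp only [Finset.mul_sum, coeff_zero] at h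
  rw [show (∑ i ∈ Finset.range (a + 1), X ^ (j - 1) * (C ((-1) ^ i * MvPolynomial.esymm (Fin a) ℤ i) * X ^ (a - i))) %ₘ P
    = ∑ i ∈ Finset.range (a + 1), (X ^ (j - 1) * (C ((-1) ^ i * MvPolynomial.esymm (Fin a) ℤ i) * X ^ (a - i))) %ₘ P
    from map_sum (modByMonicHom P) _ _, finset_sum_coeff] at h
  refine Eq.trans (Finset.sum_congr rfl fun i hi => ?_) h
  rw [Finset.mem_range] at hi
  have hij : (X : (MvPolynomial (Fin a) ℤ)[X]) ^ (j - 1) * (C ((-1) ^ i * MvPolynomial.esymm (Fin a) ℤ i) * X ^ (a - i))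
      = ((-1) ^ i * MvPolynomial.esymm (Fin a) ℤ i) • X ^ (j - 1 + (a - i)) := by
    rw [smul_eq_C_mul, pow_add]; ring
  rw [hij, smul_modByMonic, coeff_smul, smul_eq_mul]
  congr 1
  show (if ((j : ℤ) - i) < 0 then _ else _) = _
  split_ifs with hneg
  · rw [hsmall _ (by omega), coeff_X_pow, if_neg (by omega)]
  · congr 3
    omega

end Groth.Agent.S3214
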