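import Groth.Statements.S3240
import Groth.Agent.EtPbc.FieldPush
-- import your own Groth.Agent.* helpers here

set_option autoImplicit false
set_option backward.isDefEq.respectTransparency.types false
universe u
open CategoryTheory AlgebraicGeometry
open Dix

namespace Groth.Agent.S3240

/-- Let X be quasi-compact and quasi-separated, x a point of X with i_x : Spec κ(x) → X, and F an
abelian étale sheaf on Spec κ(x). Then for every q ≥ 1 the sheaf R^q i_{x*} F is a torsion sheaf on
X_ét and the group H^q(X_ét, i_{x*} F) is a torsion group. -/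
theorem result (X : Scheme.{u}) [CompactSpace X] [QuasiSeparatedSpace X] (x : X) (F : EtCoh.Ab (Spec (X.residueField x))) (q : ℕ) (hq : 1 ≤ q) : EtCoh.IsTorsion ((EtCoh.Rpush (X.fromSpecResidueField x) q).obj F) ∧ IsAddTorsion (EtCoh.H X ((Dix.skyPush X x).obj F) q) := by
  haveI := Groth.EtaleBase.pull_preservesFiniteLimits (X.fromSpecResidueField x)
  obtain ⟨q, rfl⟩ : ∃ n, q = n + 1 := ⟨q - 1, by omega⟩
  exact ⟨Groth.FieldPush.isTorsion_Rpush (K := X.residueField x) (X.fromSpecResidueField x) q F,
    Groth.FieldPush.isAddTorsion_H_push (K := X.residueField x) (X.fromSpecResidueField x) q F⟩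

end Groth.Agent.S3240
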