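import Groth.Statements.S3246
import Groth.Agent.Misc1.Kummer.Basic


set_option autoImplicit false
universe u
open CategoryTheory AlgebraicGeometry
open Dix

namespace Groth.Agent.S3246

open CategoryTheory CategoryTheory.Limits Abelian Groth.Misc1.Kummer

/-- Let X be a scheme, ℓ a prime and n an integer with cd_ℓ(X) ≤ n (étale cohomology of ℓ-primary
torsion sheaves vanishes above degree n). Then the ℓ-primary torsion of H^i(X_ét, G_m) is zero for i
> n + 1; if moreover ℓ is invertible on X, it is zero for i > n. -/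
theorem result (X : Scheme.{u}) (ℓ : ℕ) (hℓ : ℓ.Prime) (n : ℕ) (hcd : Dix.CohDimLEAt X ℓ n) : (∀ i : ℕ, n + 1 < i → ∀ ξ : EtCoh.H X (EtCoh.Gm X) i, (∃ k : ℕ, ℓ ^ k • ξ = 0) → ξ = 0) ∧ (Dix.InvertibleOn X ℓ → ∀ i : ℕ, n < i → ∀ ξ : EtCoh.H X (EtCoh.Gm X) i, (∃ k : ℕ, ℓ ^ k • ξ = 0) → ξ = 0) := by
  let ι := EtCoh.muι X ℓ
  let φ := EtCoh.powMap X ℓ
  have hφ : φ = ℓ • 𝟙 _ := rfl
  let I := cokernel ι
  let π : EtCoh.Gm X ⟶ I := cokernel.π ι
  let j : I ⟶ EtCoh.Gm X := cokernel.desc ι φ (kernel.condition _)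
  have hπj : π ≫ j = φ := cokernel.π_desc _ _ _
  have : Mono j := inferInstanceAs (Mono (Abelian.factorThruCoimage (EtCoh.powMap X ℓ)))
  let C := cokernel j
  let π' : EtCoh.Gm X ⟶ C := cokernel.π j
  have hφπ : φ ≫ π' = 0 := by rw [← hπj, Category.assoc, cokernel.condition, comp_zero]
  have hC : ℓ • 𝟙 C = 0 := by
    rw [← cancel_epi π', comp_zero, Preadditive.comp_nsmul, Category.comp_id, ← hφπ, hφ,
      Preadditive.nsmul_comp, Category.id_comp]
  have hse₁ : (ShortComplex.mk ι π (cokernel.condition _)).ShortExact :=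
    { exact := ShortComplex.exact_of_g_is_cokernel _ (cokernelIsCokernel ι)
      mono_f := inferInstanceAs (Mono (kernel.ι _))
      epi_g := inferInstanceAs (Epi (cokernel.π ι)) }
  have hse₂ : (ShortComplex.mk j π' (cokernel.condition _)).ShortExact :=
    { exact := ShortComplex.exact_of_g_is_cokernel _ (cokernelIsCokernel j)
      mono_f := ‹Mono j›
      epi_g := inferInstanceAs (Epi (cokernel.π j)) }
  have key : ∀ i : ℕ, 1 ≤ i → n < i → (∀ y : EtCoh.H X C (i - 1), y = 0) →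
      ∀ ξ : EtCoh.H X (EtCoh.Gm X) i, (∃ k : ℕ, ℓ ^ k • ξ = 0) → ξ = 0 := by
    intro i hi1 hi hC0
    have h1 : ∀ η : EtCoh.H X (EtCoh.Gm X) i, ℓ • η = 0 → η = 0 := by
      intro η hη
      rw [← comp_mk₀_powMap] at hη
      change η.comp (Ext.mk₀ φ) _ = 0 at hη
      rw [← hπj, ← Ext.mk₀_comp_mk₀, ← Ext.comp_assoc_of_third_deg_zero] at hη
      obtain ⟨y, hy⟩ := Ext.covariant_sequence_exact₁ _ hse₂ _ hη (Nat.sub_add_cancel hi1)
      rw [hC0 y, Ext.zero_comp] at hy
      obtain ⟨z, hz⟩ := Ext.covariant_sequence_exact₂ _ hse₁ η hy.symm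
      have := hcd (EtCoh.mu X ℓ) (isPrimaryTorsion_of_nsmul_id (nsmul_id_mu ℓ)) i hi
      rw [Subsingleton.elim z 0, Ext.zero_comp] at hz
      exact hz.symm
    rintro ξ ⟨k, hk⟩
    induction k generalizing ξ with
    | zero => simpa using hk
    | succ k ih => exact h1 ξ (ih _ (by rw [← mul_smul, ← pow_succ, hk]))
  refine ⟨fun i hi => key i (by omega) (by omega) fun y => ?_, fun hinv i hi => ?_⟩
  · have := hcd C (isPrimaryTorsion_of_nsmul_id hC) (i - 1) (by omega)
    exact Subsingleton.elim _ _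
  · refine key i (by omega) hi fun y => ?_
    have : Epi φ := epi_powMap hinv
    have : Epi j := epi_of_epi_fac hπj
    have h0 : 𝟙 C = 0 := (cancel_epi π').1 (by
      have e : π' = 0 := cokernel.π_of_epi j
      simp [e])
    rw [← y.comp_mk₀_id, h0, Ext.mk₀_zero, Ext.comp_zero]

end Groth.Agent.S3246
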