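import Groth.Statements.S3248
import Groth.Agent.Misc1.Azumaya.RightModule

set_option autoImplicit false
universe u
open TensorProduct
open Dix

namespace Groth.Agent.S3248

/-- Stated for a commutative subalgebra: let A be a central simple algebra of dimension r² over a field
k and L a commutative k-algebra embedded in A by an injective k-algebra homomorphism ι, such that A
is free of rank r for the right L-module structure a · l = a ι(l) (given here as a module structure
together with that compatibility). Then L ⊗_k A is isomorphic as an L-algebra to the matrix algebra
M_r(L). (Only the existence of an isomorphism is stated; the text names the map a ⊗ l ↦ (y ↦ a y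
l).) -/
theorem result (k : Type u) [Field k] (A : Type u) [Ring A] [Algebra k A] [Algebra.IsCentral k A] [IsSimpleRing A] [FiniteDimensional k A] (L : Type u) [CommRing L] [Algebra k L] (ι : L →ₐ[k] A) (hι : Function.Injective ι) [Module L A] (hmod : ∀ (l : L) (a : A), l • a = a * ι l) [Module.Free L A] (r : ℕ) (hr : 0 < r) (hA : Module.finrank k A = r ^ 2) (hrank : Module.finrank L A = r) : Nonempty ((L ⊗[k] A) ≃ₐ[L] Matrix (Fin r) (Fin r) L) := by
  have := Groth.Azum.isScalarTower_right k ι hmod
  have hbij := Groth.CSA.mulLeftRight_bijective k A
  have hLfin : Module.Finite k L := Module.Finite.of_injective ι.toLinearMap hι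
  have : Nontrivial L := ι.toRingHom.domain_nontrivial
  have : Module.Finite L A := Module.Finite.of_restrictScalars_finite k L A
  have hL : Module.finrank k L = r := by
    have h := Module.finrank_mul_finrank k L A
    rw [hrank, hA, sq] at h
    exact Nat.eq_of_mul_eq_mul_right hr h
  let ψ := Groth.Azum.rightHom ι hmod
  have hinj : Function.Injective ψ :=
    Groth.Azum.rightHom_injective ι hmod (Groth.Azum.toDouble_injective ι hι) hbij.1
  have : IsScalarTower k L (Module.End L A) := inferInstance
  have hsurj : Function.Surjective ψ := by
    have : Module.Finite k (Module.End L A) := Module.Finite.trans L _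
    refine (LinearMap.injective_iff_surjective_of_finrank_eq_finrank (f := ψ.toLinearMap.restrictScalars k) ?_).1 hinj
    rw [Module.finrank_tensorProduct, hL, hA, ← Module.finrank_mul_finrank k L (Module.End L A),
      show Module.finrank L (Module.End L A) = Module.finrank L A * Module.finrank L A from
        Module.finrank_linearMap L L A A, hrank, hL]
    ring
  exact ⟨(AlgEquiv.ofBijective ψ ⟨hinj, hsurj⟩).trans
    (algEquivMatrix (Module.finBasisOfFinrankEq L A hrank))⟩

end Groth.Agent.S3248
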