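import Groth.Statements.S3252
import Mathlib.LinearAlgebra.PerfectPairing.Basic
import Mathlib.LinearAlgebra.Determinant

set_option autoImplicit false
set_option linter.style.haveILetI false
universe u
open Zeta

namespace Groth.Agent.S3252

/-- Let V and W be finite-dimensional vector spaces over a field L, B : V × W -> L a perfect pairing, F
an endomorphism of V and G an endomorphism of W with B(F v, G w) = c · B(v, w) for all v, w, where c
is a scalar (in the application, V = H^i, W = H^{2d-i}, F and G Frobenius, c = q^d). Then det F ·
det G = c ^ dim V. -/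
theorem result (L : Type u) [Field L] (V W : Type u)
    [AddCommGroup V] [Module L V] [FiniteDimensional L V] [AddCommGroup W] [Module L W] [FiniteDimensional L W]
    (B : V →ₗ[L] W →ₗ[L] L) [B.IsPerfPair] (F : V →ₗ[L] V) (G : W →ₗ[L] W) (c : L)
    (hFG : ∀ (v : V) (w : W), B (F v) (G w) = c * B v w) :
    LinearMap.det F * LinearMap.det G = c ^ Module.finrank L V := by
  let e : W ≃ₗ[L] Module.Dual L V := B.flip.toPerfPair
  let G' : Module.Dual L V →ₗ[L] Module.Dual L V := e.toLinearMap ∘ₗ G ∘ₗ e.symm.toLinearMap
  have h : F.dualMap ∘ₗ G' = c • LinearMap.id := by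
    refine LinearMap.ext fun φ => LinearMap.ext fun v => ?_
    have := hFG v (e.symm φ)
    simp only [G', LinearMap.comp_apply, LinearEquiv.coe_coe, LinearMap.dualMap_apply,
      LinearMap.smul_apply, LinearMap.id_apply, smul_eq_mul]
    show B (F v) (G (e.symm φ)) = c * φ v
    rw [this]
    congr 1
    exact LinearMap.apply_toPerfPair_flip B φ v
  have hd := congrArg LinearMap.det h
  rw [LinearMap.det_comp, LinearMap.det_dualMap, LinearMap.det_smul, LinearMap.det_id, mul_one,
    Subspace.dual_finrank_eq, show LinearMap.det G' = LinearMap.det G from LinearMap.det_conj G e] at hd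
  exact hd

end Groth.Agent.S3252
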