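import Groth.Statements.S3257
import Groth.Agent.ArSurfBasics.PointRecognition
import Groth.Agent.Variety2.ProjBasics

set_option autoImplicit false
set_option backward.isDefEq.respectTransparency.types false
universe u
open AlgebraicGeometry CategoryTheory CategoryTheory.Limits
open ArSurf

namespace Groth.Agent.S3257

/-- Let R be a Dedekind domain, X and Y arithmetic surfaces over Spec R, f : X -> Y an R-morphism and y
a closed point of Y such that f restricts to an isomorphism over Y minus y while the fibre of f over
y is irreducible and has more than one point (so the exceptional locus of the birational morphism f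
is irreducible). Then f is the blowing-up of Y at y: it has the universal property of the blow-up
along the ideal of the reduced closed point y (BlowUp.IsBlowUp). (The factorization result of the
source says more generally that every birational morphism of regular fibered surfaces is a finite
sequence of blow-ups of closed points.) -/
theorem result {R : Type u} [CommRing R] [IsDedekindDomain R]
    (X Y : Over (Spec (CommRingCat.of R))) (hX : ArSurf.IsArithSurface R X) (hY : ArSurf.IsArithSurface R Y)
    (f : X ⟶ Y) (y : Y.left) (hy : IsClosed ({y} : Set Y.left))
    (hiso : IsIso (f.left ∣_ (⟨{y}ᶜ, hy.isOpen_compl⟩ : Y.left.Opens)))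
    (hirr : IsPreirreducible (f.left.base ⁻¹' {y}))
    (hbig : ∃ x x' : X.left, x ≠ x' ∧ f.left.base x = y ∧ f.left.base x' = y) :
    BlowUp.IsBlowUp f.left (Scheme.IdealSheafData.vanishingIdeal ⟨{y}, hy⟩) := by
  haveI := hX.2.1
  haveI := hY.2.1
  have hproper : ∀ Z : Over (Spec (CommRingCat.of R)), ArSurf.IsArithSurface R Z → IsProper Z.hom := by
    intro Z hZ
    obtain ⟨-, -, -, -, n, i, hi, hic⟩ := hZ
    rw [← hic]
    haveI := hi
    haveI := Groth.Variety2.isProper_projSpaceOver_toBase n (Spec (CommRingCat.of R))
    infer_instance
  haveI := hproper X hX
  haveI := hproper Y hY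
  haveI : IsLocallyNoetherian X.left := LocallyOfFiniteType.isLocallyNoetherian X.hom
  haveI : IsLocallyNoetherian Y.left := LocallyOfFiniteType.isLocallyNoetherian Y.hom
  haveI : CompactSpace X.left := QuasiCompact.compactSpace_of_compactSpace X.hom
  haveI : IsProper (f.left ≫ Y.hom) := by rw [Over.w f]; infer_instance
  haveI : IsProper f.left := IsProper.of_comp f.left Y.hom
  have hgen : y ≠ genericPoint Y.left := fun e => by
    haveI : Subsingleton Y.left := ⟨fun a b => by
      have h : ∀ c : Y.left, c = y := fun c => by
        have := ((genericPoint_spec Y.left).specializes (Set.mem_univ c))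
        rw [← e, specializes_iff_mem_closure, hy.closure_eq] at this
        exact this
      rw [h a, h b]⟩
    have h0 : topologicalKrullDim Y.left ≤ 0 := by
      haveI : Subsingleton (TopologicalSpace.IrreducibleCloseds Y.left) := ⟨fun s t => TopologicalSpace.IrreducibleCloseds.ext
        ((Subsingleton.eq_univ_of_nonempty s.isIrreducible.1).trans
          (Subsingleton.eq_univ_of_nonempty t.isIrreducible.1).symm)⟩
      exact Order.krullDim_nonpos_of_subsingleton
    rw [hY.2.2.1] at h0
    exact absurd h0 (by norm_num)
  exact Groth.ArSurfBasics.PointRecognition.isBlowUp_of_irreducible_fibre f.left hX.1 hY.1 hX.2.2.1.le hY.2.2.1.le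
    hy hgen hiso hirr hbig

end Groth.Agent.S3257
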