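import Groth.Statements.S3259
import Groth.Agent.Flatmor4.ImageDom
import Groth.Agent.Misc15.P1Stalk
import Groth.Agent.ArSurfBasics.Fibre
import Groth.Prelude.Def_FGA

set_option autoImplicit false
universe u
open AlgebraicGeometry CategoryTheory CategoryTheory.Limits
open ArSurf

namespace Groth.Agent.S3259

/-- Projective space over `T` is the base change of projective space over `S`. -/
theorem isPullback_projMap (n : ℕ) {T S : Scheme.{u}} (φ : T ⟶ S) :
    IsPullback (FGA.projMap n φ) (CohB1.ProjSpaceOver.toBase n T) (CohB1.ProjSpaceOver.toBase n S) φ := by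
  have h₂ := IsPullback.of_hasPullback (CohB1.ProjSpace.toSpec n (ULift.{u} ℤ))
    (specULiftZIsTerminal.from S)
  refine IsPullback.of_right ?_ (pullback.lift_snd _ _ _) h₂
  have e1 : FGA.projMap n φ ≫ pullback.fst (CohB1.ProjSpace.toSpec n (ULift.{u} ℤ))
      (specULiftZIsTerminal.from S) = pullback.fst (CohB1.ProjSpace.toSpec n (ULift.{u} ℤ))
        (specULiftZIsTerminal.from T) :=
    (pullback.lift_fst _ _ _).trans (Category.comp_id _)
  rw [e1, show φ ≫ specULiftZIsTerminal.from S = specULiftZIsTerminal.from T from
    specULiftZIsTerminal.hom_ext _ _]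
  exact IsPullback.of_hasPullback _ _


/-- Let R be a Dedekind domain with fraction field K and C a smooth projective curve over K (smooth,
proper, of dimension 1, admitting a closed immersion into some P^n_K). Then there are a non-empty
open subscheme U of Spec R containing the generic point and a smooth proper morphism 𝒞 -> U whose
fibre over the generic point is K-isomorphic to C. In particular C has good reduction at every
closed point of U, that is, at all but finitely many closed points. (Stated in the form the
published proof gives.) -/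
theorem result {R : Type u} [CommRing R] [IsDedekindDomain R]
    (C : Over (Spec (CommRingCat.of (FractionRing R)))) [Smooth C.hom] [IsProper C.hom]
    (hdim : topologicalKrullDim C.left = 1) (hproj : Neron.IsProjectiveOver (FractionRing R) C) :
    ∃ (U : (Spec (CommRingCat.of R)).Opens) (ξ : Spec (CommRingCat.of (FractionRing R)) ⟶ (U : Scheme.{u}))
      (𝒞 : Scheme.{u}) (π : 𝒞 ⟶ (U : Scheme.{u})),
      ξ ≫ U.ι = Neron.genPt R ∧ Smooth π ∧ IsProper π ∧
      Nonempty (Over.mk (pullback.snd π ξ) ≅ C) := by
  obtain ⟨n, i, hi, hiw⟩ := hproj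
  haveI : IsClosedImmersion i := hi
  let b := Neron.genPt R
  let K := FractionRing R
  let S := Spec (CommRingCat.of R)
  haveI : Flat b := (HasRingHomProperty.Spec_iff (P := @Flat)).2
    (RingHom.flat_algebraMap_iff.2 (IsLocalization.flat _ (nonZeroDivisors R)))
  haveI : IsPreimmersion b := IsPreimmersion.of_isLocalization (nonZeroDivisors R)
  haveI : QuasiCompact b := inferInstance
  have sqP := isPullback_projMap n b
  let j := FGA.projMap n b
  haveI : Flat j := MorphismProperty.of_isPullback sqP.flip ‹Flat b›
  haveI : QuasiCompact j := MorphismProperty.of_isPullback sqP.flip ‹QuasiCompact b›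
  let g := i ≫ j
  haveI := Groth.Flatmor4.isSchemeTheoreticallyDominant_toImage g
  -- the closure of `C` in projective space over `R`
  let X := g.image
  let p : X ⟶ S := g.imageι ≫ CohB1.ProjSpaceOver.toBase n S
  haveI : IsProper p := by
    haveI := Groth.Variety2.isProper_projSpaceOver_toBase n S
    infer_instance
  have sqX : IsPullback g.toImage i g.imageι j := by
    let u : C.left ⟶ pullback g.imageι j := pullback.lift g.toImage i g.toImage_imageι
    have hu1 : u ≫ pullback.fst _ _ = g.toImage := pullback.lift_fst _ _ _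
    have hu2 : u ≫ pullback.snd _ _ = i := pullback.lift_snd _ _ _
    haveI : IsClosedImmersion (u ≫ pullback.snd g.imageι j) := by rw [hu2]; infer_instance
    haveI : IsClosedImmersion u := .of_comp u (pullback.snd g.imageι j)
    have hsq : IsPullback u (𝟙 C.left) (pullback.fst g.imageι j) g.toImage := by
      refine IsPullback.of_isLimit' ⟨by rw [hu1, Category.id_comp]⟩
        (PullbackCone.IsLimit.mk _ (fun c => c.snd) (fun c => ?_) (fun c => Category.comp_id _)
          fun c l _ hl => by simpa using hl)
      haveI : Flat (pullback.fst g.imageι j) := inferInstance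
      haveI : Mono b := inferInstance
      haveI : Mono j := MorphismProperty.of_isPullback (P := MorphismProperty.monomorphisms Scheme.{u})
        sqP.flip ‹Mono b›
      rw [← cancel_mono (pullback.fst g.imageι j), Category.assoc, hu1]
      exact c.condition.symm
    haveI : IsSchemeTheoreticallyDominant u := .of_isPullback hsq.flip
    haveI : IsIso u := IsClosedImmersion.isIso_of_ker_eq u (𝟙 _) u (Category.comp_id _)
      (by rw [u.ker_eq_bot, Scheme.Hom.ker_eq_bot (𝟙 _)])
    exact IsPullback.of_iso_pullback ⟨g.toImage_imageι⟩ (asIso u) hu1 hu2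
  have sq : IsPullback g.toImage C.hom p b := by
    rw [← hiw]
    exact sqX.paste_vert sqP
  -- the generic fibre lies in the smooth locus
  haveI : Flat g.toImage := MorphismProperty.of_isPullback sq.flip ‹Flat b›
  haveI : IsPreimmersion g.toImage := MorphismProperty.of_isPullback sq.flip ‹IsPreimmersion b›
  haveI : IsLocallyNoetherian S := inferInstance
  haveI : LocallyOfFinitePresentation p := inferInstance
  have hsm : ∀ c, g.toImage c ∈ p.smoothLocus := fun c => by
    rw [Scheme.Hom.mem_smoothLocus]
    haveI : IsIso (g.toImage.stalkMap c) := (ConcreteCategory.isIso_iff_bijective _).2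
      (Groth.Misc15.P1Stalk.stalkMap_bijective g.toImage c)
    haveI : IsIso (b.stalkMap (C.hom c)) := (ConcreteCategory.isIso_iff_bijective _).2
      (Groth.Misc15.P1Stalk.stalkMap_bijective b _)
    have hC : (C.hom.stalkMap c).hom.FormallySmooth := by
      rw [← Scheme.Hom.mem_smoothLocus, Scheme.Hom.smoothLocus_eq_top]
      trivial
    have h2 : ((C.hom ≫ b).stalkMap c).hom.FormallySmooth := by
      rw [Scheme.Hom.stalkMap_comp]
      exact (RingHom.FormallySmooth.respectsIso.cancel_left_isIso (b.stalkMap (C.hom c))
        (C.hom.stalkMap c)).2 hC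
    have key : ∀ q : C.left ⟶ S, q = C.hom ≫ b → (q.stalkMap c).hom.FormallySmooth := by
      intro q hq
      subst hq
      exact h2
    have h3 := key _ sq.w
    rw [Scheme.Hom.stalkMap_comp] at h3
    exact (RingHom.FormallySmooth.respectsIso.cancel_right_isIso (p.stalkMap (g.toImage c))
      (g.toImage.stalkMap c)).1 h3
  -- remove the image of the non-smooth locus
  let U : S.Opens := ⟨_, (p.isClosedMap _ p.smoothLocus.isOpen.isClosed_compl).isOpen_compl⟩
  have hbU : Set.range b ⊆ (U : Set S) := by
    rintro _ ⟨e, rfl⟩ ⟨x, hx, hxe⟩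
    obtain ⟨c, rfl⟩ : x ∈ Set.range g.toImage := by
      rw [← sq.isoPullback_hom_fst, Scheme.Hom.comp_base, TopCat.coe_comp, Set.range_comp,
        sq.isoPullback.hom.surjective.range_eq, Set.image_univ, Scheme.Pullback.range_fst]
      exact ⟨e, hxe.symm⟩
    exact hx (hsm c)
  let ξ := IsOpenImmersion.lift U.ι b (by rw [Scheme.Opens.range_ι]; exact hbU)
  have hξ : ξ ≫ U.ι = b := IsOpenImmersion.lift_fac _ _ _
  let π := p ∣_ U
  haveI : IsProper π := IsZariskiLocalAtTarget.restrict ‹IsProper p› U
  have hsmπ : Smooth π := by
    haveI : LocallyOfFinitePresentation ((p ⁻¹ᵁ U).ι ≫ p) := inferInstance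
    have h1 : Smooth ((p ⁻¹ᵁ U).ι ≫ p) := by
      refine Scheme.Hom.smoothLocus_eq_top_iff.1 ?_
      rw [← Scheme.Hom.preimage_smoothLocus_eq]
      refine top_le_iff.1 fun x _ => ?_
      by_contra hx
      exact (show p x.1 ∈ U from x.2) ⟨x.1, hx, rfl⟩
    have sq0 : IsPullback (𝟙 _) π (π ≫ U.ι) U.ι := by
      refine IsPullback.of_isLimit' ⟨by rw [Category.id_comp]⟩
        (PullbackCone.IsLimit.mk _ (fun c => c.fst) (fun c => Category.comp_id _) (fun c => ?_)
          fun c l hl _ => by simpa using hl)
      rw [← cancel_mono U.ι, Category.assoc]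
      exact c.condition
    refine MorphismProperty.of_isPullback sq0 ?_
    rw [morphismRestrict_ι]
    exact h1
  have sqU := (isPullback_morphismRestrict p U).flip
  let l := sqU.lift g.toImage (C.hom ≫ ξ) (by rw [sq.w, Category.assoc, hξ])
  have sqC : IsPullback l C.hom π ξ :=
    IsPullback.of_right (by rw [hξ, sqU.lift_fst]; exact sq) (sqU.lift_snd _ _ _) sqU
  exact ⟨U, ξ, _, π, hξ, hsmπ, inferInstance,
    ⟨(Over.isoMk sqC.isoPullback (by simp)).symm⟩⟩

end Groth.Agent.S3259
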