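import Groth.Statements.S3286
import Groth.Agent.LambdaCore.Congruence
import Groth.Agent.MilnorKLambda.LamPre

set_option autoImplicit false
universe u
open Finset
open LambdaRing

open Groth.LambdaCore

namespace Groth.Agent.S3286

/-- In a λ-ring with positive structure having the splitting property, ψ^i (ψ^j (x)) = ψ^(i j) (x) for
all i, j and x. -/
theorem result (K : Type u) [CommRing K] [LambdaRing.LambdaOps K] (P : LambdaRing.PosStructure K) (hK : LambdaRing.HasSplitting K P) (i j : ℕ) (x : K) :
    LambdaRing.adams P i (LambdaRing.adams P j x) = LambdaRing.adams P (i * j) x := by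
  have key : ∀ e ∈ P.pos, LambdaRing.adams P i (LambdaRing.adams P j e) = LambdaRing.adams P (i * j) e := by
    intro e he
    obtain ⟨L, f, hf, -, w, hw, hfe⟩ := exists_split hK he
    apply hf.injective
    rw [map_adams hf, map_adams hf, map_adams hf, hfe, adams_sum_lines hw, adams_sum_lines hw,
      adams_sum_lines (w := fun l => w l ^ j) (fun l => IsLine.pow (hw l) j)]
    exact Finset.sum_congr rfl fun l _ => by rw [← pow_mul, mul_comm]
  obtain ⟨a, b, ha, hb, rfl⟩ := P.exists_sub x
  simp only [← adamsHom_apply hK, map_sub]
  simp only [adamsHom_apply, key a ha, key b hb]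

end Groth.Agent.S3286
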