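import Groth.Statements.S3290
import Groth.Agent.LambdaCore.Congruence
import Groth.Agent.MilnorKLambda.LamPre

set_option autoImplicit false
universe u
open Finset
open LambdaRing

open Groth.LambdaCore

namespace Groth.Agent.S3290

/-- For a positive element e of augmentation m in a λ-ring with positive structure, the polynomials
Σ_{i=0}^{m} γ^i(e − m) t^(m−i) and Σ_{i=0}^{m} λ^i(e) (t − 1)^(m−i) are equal. -/
theorem result (K : Type u) [CommRing K] [LambdaRing.LambdaOps K] (P : LambdaRing.PosStructure K) (e : K) (he : e ∈ P.pos) :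
    (∑ i ∈ range ((P.aug e).toNat + 1),
        Polynomial.C (LambdaRing.gamma i (e - ((P.aug e).toNat : K))) * Polynomial.X ^ ((P.aug e).toNat - i)) =
      ∑ i ∈ range ((P.aug e).toNat + 1),
        Polynomial.C (LambdaRing.LambdaOps.lam i e) * (Polynomial.X - 1) ^ ((P.aug e).toNat - i) := by
  set m := (P.aug e).toNat with hm
  have hrs : ∀ f : ℕ → Polynomial K, Polynomial.reflect m (∑ i ∈ range (m + 1), f i) =
      ∑ i ∈ range (m + 1), Polynomial.reflect m (f i) := by
    intro f
    induction range (m + 1) using Finset.induction_on with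
    | empty => simp
    | insert a s ha ih => rw [Finset.sum_insert ha, Finset.sum_insert ha, Polynomial.reflect_add, ih]
  have h1 : ∀ k : ℕ, 2 ≤ k → LambdaRing.LambdaOps.lam k (1 : K) = 0 :=
    fun k hk => IsLine.lam_eq_zero (isLine_one (P := P)) hk
  have h := Groth.MilnorKLambda.Lam.gammaSeries_sub_rank (y := e) (m := m) h1
    (fun i hi => lam_eq_zero_of_toNat_lt he hi)
  set Q : Polynomial K := ∑ i ∈ range (m + 1), Polynomial.C (LambdaRing.LambdaOps.lam i e) *
    (Polynomial.X ^ i * (1 - Polynomial.X) ^ (m - i)) with hQ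
  have hL : Polynomial.reflect m Q = ∑ i ∈ range (m + 1),
      Polynomial.C (LambdaRing.gamma i (e - (m : K))) * Polynomial.X ^ (m - i) := by
    have hd : Q.natDegree ≤ m := by
      refine Polynomial.natDegree_sum_le_of_forall_le _ _ fun i hi => ?_
      rw [Finset.mem_range] at hi
      refine (Polynomial.natDegree_C_mul_le _ _).trans (Polynomial.natDegree_mul_le.trans ?_)
      have h3 : ((1 : Polynomial K) - Polynomial.X).natDegree ≤ 1 :=
        (Polynomial.natDegree_sub_le _ _).trans (max_le (by simp) Polynomial.natDegree_X_le)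
      have := Polynomial.natDegree_pow_le_of_le (m - i) h3
      have := Polynomial.natDegree_X_pow_le (R := K) i
      omega
    conv_lhs => rw [Q.as_sum_range' (m + 1) (by omega)]
    rw [hrs]
    refine Finset.sum_congr rfl fun i hi => ?_
    rw [Finset.mem_range] at hi
    rw [← Polynomial.C_mul_X_pow_eq_monomial, Polynomial.reflect_C_mul_X_pow, Polynomial.revAt_le (by omega)]
    congr 2
    rw [← Polynomial.coeff_coe, ← h, coeff_gammaSeries]
  rw [← hL, hQ, hrs]
  refine Finset.sum_congr rfl fun i hi => ?_
  rw [Finset.mem_range] at hi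
  rw [Polynomial.reflect_C_mul]
  congr 1
  have hp : ∀ l : ℕ, Polynomial.reflect l ((1 - Polynomial.X : Polynomial K) ^ l) = (Polynomial.X - 1) ^ l := by
    intro l
    have h3 : ((1 : Polynomial K) - Polynomial.X).natDegree ≤ 1 :=
      (Polynomial.natDegree_sub_le _ _).trans (max_le (by simp) Polynomial.natDegree_X_le)
    induction l with
    | zero => rw [pow_zero, pow_zero]; exact (Polynomial.reflect_C (1 : K) 0).trans (by simp)
    | succ l ih =>
      rw [pow_succ, Polynomial.reflect_mul _ _ ((Polynomial.natDegree_pow_le_of_le l h3).trans (by omega)) h3, ih,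
        pow_succ]
      congr 1
      rw [Polynomial.reflect_sub, ← Polynomial.C_1, Polynomial.reflect_C]
      rw [show (Polynomial.X : Polynomial K) = Polynomial.X ^ 1 from (pow_one _).symm, Polynomial.reflect_monomial,
        Polynomial.revAt_le le_rfl]
      simp
  have h3 : ((1 : Polynomial K) - Polynomial.X).natDegree ≤ 1 :=
    (Polynomial.natDegree_sub_le _ _).trans (max_le (by simp) Polynomial.natDegree_X_le)
  conv_lhs => rw [show m = i + (m - i) by omega]
  rw [Nat.add_sub_cancel_left, Polynomial.reflect_mul _ _ (Polynomial.natDegree_X_pow_le i)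
    ((Polynomial.natDegree_pow_le_of_le (m - i) h3).trans (by omega)), hp, Polynomial.reflect_monomial,
    Polynomial.revAt_le le_rfl, Nat.sub_self, pow_zero, one_mul]

end Groth.Agent.S3290
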