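import Groth.Statements.S3296
import Groth.Agent.MilnorKLambda.LamPos

set_option autoImplicit false
universe u
open Finset
open TensorProduct
open LambdaRing

namespace Groth.Agent.S3296

open Groth.MilnorKLambda.Lam

/-- Let K be a λ-ring with positive structure having the splitting property, whose γ-filtration
satisfies F^(d+1) K = 0. For j ≥ 2 let Ψ_j be the ℚ-linear endomorphism of ℚ ⊗ K induced by ψ^j.
Then ℚ ⊗ K is the sum of the eigenspaces of Ψ_j for the eigenvalues j^m, 0 ≤ m ≤ d, and the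
eigenspace for j^m does not depend on j. -/
theorem result (K : Type u) [CommRing K] [LambdaRing.LambdaOps K] (P : LambdaRing.PosStructure K) (hK : LambdaRing.HasSplitting K P) (d : ℕ)
    (hd : LambdaRing.gammaFiltration P (d + 1) = ⊥)
    (j l : ℕ) (hj : 2 ≤ j) (hl : 2 ≤ l)
    (Ψj Ψl : ℚ ⊗[ℤ] K →ₗ[ℚ] ℚ ⊗[ℤ] K)
    (hΨj : ∀ x : K, Ψj (1 ⊗ₜ[ℤ] x) = 1 ⊗ₜ[ℤ] LambdaRing.adams P j x)
    (hΨl : ∀ x : K, Ψl (1 ⊗ₜ[ℤ] x) = 1 ⊗ₜ[ℤ] LambdaRing.adams P l x) :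
    (⨆ m ∈ range (d + 1), Module.End.eigenspace Ψj ((j : ℚ) ^ m)) = ⊤ ∧
    ∀ m : ℕ, Module.End.eigenspace Ψj ((j : ℚ) ^ m) = Module.End.eigenspace Ψl ((l : ℚ) ^ m) := by
  have hQ : ∀ n, LambdaRing.gammaFiltration P n = ⊥ → ratFil P n = ⊥ := fun n h => ratFil_eq_bot h
  have hinjj := pow_nat_injective hj
  have hinjl := pow_nat_injective hl
  have hTj : ∀ n, ∀ v ∈ ratFil P n, Ψj v - ((j : ℚ) ^ n) • v ∈ ratFil P (n + 1) := psi_sub_mem_ratFil hΨj hK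
  have hTl : ∀ n, ∀ v ∈ ratFil P n, Ψl v - ((l : ℚ) ^ n) • v ∈ ratFil P (n + 1) := psi_sub_mem_ratFil hΨl hK
  have hcomm : ∀ v, Ψj (Ψl v) = Ψl (Ψj v) := fun v =>
    ratLinear_ext (f := Ψj.comp Ψl) (g := Ψl.comp Ψj)
      (fun x => by simp only [LinearMap.comp_apply, hΨl, hΨj, adams_comm hK]) v
  refine ⟨iSup_eigen (ratFil P) Ψj _ d ratFil_antitone (hQ _ hd) hinjj hTj ratFil_zero, fun m => le_antisymm ?_ ?_⟩
  · exact eigen_le_eigen_of_commute (ratFil P) Ψj _ d (hQ _ hd) hTj ratFil_zero ratFil_antitone hinjj hTl hcomm m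
  · exact eigen_le_eigen_of_commute (ratFil P) Ψl _ d (hQ _ hd) hTl ratFil_zero ratFil_antitone hinjl hTj
      (fun v => (hcomm v).symm) m

end Groth.Agent.S3296
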