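import Groth.Statements.S3314
import Groth.Agent.ModelsGraphs.InterPic

set_option autoImplicit false
set_option linter.unusedSimpArgs false
universe u
open CategoryTheory CategoryTheory.Limits AlgebraicGeometry
open Models

namespace Groth.Agent.S3314

/-- Let R be a discrete valuation ring with fraction field K, C a smooth proper curve over K with H⁰(C,
O_C) = K, X a regular proper model of C over R, Γ_1, …, Γ_n the irreducible components of the closed
fibre with multiplicities m_i, and L_i invertible O_X-modules with L_i ⊗ I(Γ_i) ≅ O_X (that is, L_i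
= O_X(Γ_i)). For exponent vectors a, b with natural-number entries, the modules L_1^{a_1} ⊗ ⋯ ⊗
L_n^{a_n} and L_1^{b_1} ⊗ ⋯ ⊗ L_n^{b_n} are isomorphic if and only if a − b is an integer multiple
of (m_1, …, m_n). (Equivalently: the kernel of ℤⁿ → Pic(X), e_i ↦ [O_X(Γ_i)], is generated by (m_1,
…, m_n).) -/
theorem result (R : Type u) [CommRing R] [IsDomain R] [IsDiscreteValuationRing R]
    (C X : Scheme.{u}) (f : C ⟶ Spec (CommRingCat.of (FractionRing R))) (p : X ⟶ Spec (CommRingCat.of R))
    (hC : Curve.IsSmoothProperCurve (FractionRing R) C f) (hH0 : IsIso f.appTop)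
    (hX : Models.IsRegularProperModel R X p C f)
    {n : ℕ} (Γ : Fin n → ArSurf.VertComp R (Over.mk p)) (hΓ : Models.IsComponentList R (Over.mk p) Γ)
    (L : Fin n → X.Modules) (hL : ∀ i, ClSub.IsInverseOf (L i) (ClSub.idealMod (Γ i).ι.ker)) (a b : Fin n → ℕ) :
    Nonempty (FGA.multiTwist L a ≅ FGA.multiTwist L b) ↔
      ∃ c : ℤ, ∀ i, (a i : ℤ) - (b i : ℤ) = c * (Models.mult R (Over.mk p) (Γ i) : ℤ) := by
  obtain ⟨⟨h1, h2, h3, g, hg⟩, h4, hreg⟩ := hX
  haveI : Flat (Over.mk p).hom := h1
  haveI : IsProper (Over.mk p).hom := h4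
  haveI : IsIso f.appTop := hH0
  have hgl : Function.Bijective (Coh.toGlobal (Over.mk p).hom) :=
    Groth.ModelsGraphs.GlobalFun.toGlobal_bijective_of_appTop p g f
      (ConcreteCategory.bijective_of_isIso _) hg
  refine ⟨fun ⟨e⟩ => Groth.ModelsGraphs.InterPic.exists_eq_mul_of_iso hreg hΓ hL hgl a b e, ?_⟩
  rintro ⟨c, hc⟩
  rcases le_total 0 c with h0 | h0
  · refine Groth.ModelsGraphs.InterPic.nonempty_iso_of_eq_add hreg hΓ hL a b c.toNat fun i => ?_
    have h5 := hc i
    rw [← Int.toNat_of_nonneg h0] at h5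
    zify
    linarith
  · refine (Groth.ModelsGraphs.InterPic.nonempty_iso_of_eq_add hreg hΓ hL b a (-c).toNat fun i => ?_).map Iso.symm
    have h5 := hc i
    rw [show c = -((-c).toNat : ℤ) by rw [Int.toNat_of_nonneg (neg_nonneg.2 h0), neg_neg]] at h5
    zify
    linarith

end Groth.Agent.S3314
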