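import Groth.Statements.S3317
import Groth.Agent.ModelsGraphs.InterForm

set_option autoImplicit false
set_option linter.unusedSimpArgs false
universe u
open CategoryTheory CategoryTheory.Limits AlgebraicGeometry
open Models

namespace Groth.Agent.S3317

/-- In the following situation (R a discrete valuation ring, C a smooth proper curve over its fraction
field with H^0(C, O_C) = K, X a regular proper model, Γ_1, …, Γ_n the irreducible components of the
closed fibre, L_j ⊗ I(Γ_j) ≅ O_X), for i ≠ j the intersection number (Γ_i · Γ_j) = deg_k(L_j|Γ_i) is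
non-negative, and it vanishes if and only if Γ_i and Γ_j do not meet. -/
theorem result (R : Type u) [CommRing R] [IsDomain R] [IsDiscreteValuationRing R]
    (C X : Scheme.{u}) (f : C ⟶ Spec (CommRingCat.of (FractionRing R))) (p : X ⟶ Spec (CommRingCat.of R))
    (hC : Curve.IsSmoothProperCurve (FractionRing R) C f) (hH0 : IsIso f.appTop)
    (hX : Models.IsRegularProperModel R X p C f)
    {n : ℕ} (Γ : Fin n → ArSurf.VertComp R (Over.mk p)) (hΓ : Models.IsComponentList R (Over.mk p) Γ)
    (L : Fin n → X.Modules) (hL : ∀ i, ClSub.IsInverseOf (L i) (ClSub.idealMod (Γ i).ι.ker)) (i j : Fin n) (hij : i ≠ j) :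
    0 ≤ ArSurf.inter R (Over.mk p) (L j) (Γ i) ∧
      (ArSurf.inter R (Over.mk p) (L j) (Γ i) = 0 ↔
        Disjoint (Set.range ((Γ i).ι.base : (Γ i).curve.left → X))
          (Set.range ((Γ j).ι.base : (Γ j).curve.left → X))) := by
  obtain ⟨⟨h1, h2, h3, g, hg⟩, h4, hreg⟩ := hX
  haveI : Flat (Over.mk p).hom := h1
  haveI : IsProper (Over.mk p).hom := h4
  haveI : CompactSpace (Over.mk p).left := QuasiCompact.compactSpace_of_compactSpace p
  exact Groth.ModelsGraphs.InterForm.inter_nonneg_and_eq_zero_iff hreg hΓ hL hij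

end Groth.Agent.S3317
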