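import Groth.Statements.S3324
import Groth.Agent.ModelsGraphs.FieldChain
import Groth.Agent.ModelsGraphs.ChiDivided

set_option autoImplicit false
set_option linter.unusedSimpArgs false
universe u
open CategoryTheory CategoryTheory.Limits AlgebraicGeometry
open Models

namespace Groth.Agent.S3324

/-- In the following situation (R a discrete valuation ring with residue field k, C a smooth proper
curve over its fraction field K with H^0(C, O_C) = K, X a regular proper model, Γ_1, …, Γ_n the
irreducible components of the closed fibre with multiplicities m_i) let d = gcd(m_1, …, m_n) and let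
D be the closed subscheme Σ (m_i/d) Γ_i, with ideal sheaf Π I(Γ_i)^{m_i/d}. Then κ = H^0(D, O_D) is
a field and 1 - g_C = d [κ : k] (1 - g_D), where g_C = dim_K H^1(C, O_C) and g_D = dim_κ H^1(D,
O_D). Here the right hand side is written as d (dim_k H^0(D, O_D) - dim_k H^1(D, O_D)), the
k-dimensions being computed as R-lengths of the cohomology groups of O_D on X. -/
theorem result (R : Type u) [CommRing R] [IsDomain R] [IsDiscreteValuationRing R]
    (C X : Scheme.{u}) (f : C ⟶ Spec (CommRingCat.of (FractionRing R))) (p : X ⟶ Spec (CommRingCat.of R))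
    (hC : Curve.IsSmoothProperCurve (FractionRing R) C f) (hH0 : IsIso f.appTop)
    (hX : Models.IsRegularProperModel R X p C f)
    {n : ℕ} (Γ : Fin n → ArSurf.VertComp R (Over.mk p)) (hΓ : Models.IsComponentList R (Over.mk p) Γ) :
    IsField ↑(Γ((∏ i, (Γ i).ι.ker ^ (Models.mult R (Over.mk p) (Γ i) / Models.multGcd R (Over.mk p) Γ)).subscheme, ⊤)) ∧
      (1 : ℤ) - (Models.curveGenus (FractionRing R) C f : ℤ) =
        (Models.multGcd R (Over.mk p) Γ : ℤ) * ((Models.lengthH R (Over.mk p) (ClSub.quotMod (∏ i, (Γ i).ι.ker ^ (Models.mult R (Over.mk p) (Γ i) / Models.multGcd R (Over.mk p) Γ))) 0 : ℤ) -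
          (Models.lengthH R (Over.mk p) (ClSub.quotMod (∏ i, (Γ i).ι.ker ^ (Models.mult R (Over.mk p) (Γ i) / Models.multGcd R (Over.mk p) Γ))) 1 : ℤ)) := by
  obtain ⟨L, hL⟩ := Groth.ModelsGraphs.InterLattice.exists_inverses f p hX Γ hΓ
  obtain ⟨S, hSΓ, -⟩ := Groth.ModelsGraphs.InterLattice.exists_sit f p hH0 hX Γ hΓ L hL
  obtain ⟨⟨h1, h2, h3, g, hg⟩, h4, hreg⟩ := id hX
  haveI : Flat (Over.mk p).hom := h1
  haveI : IsProper (Over.mk p).hom := h4
  haveI : IsIntegral C := hC.2.2.1
  have hn : 0 < n := S.n_pos g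
  subst hSΓ
  have hb : ∀ i, Models.mult R (Over.mk p) (S.Γs i) = Models.multGcd R (Over.mk p) S.Γs *
      (Models.mult R (Over.mk p) (S.Γs i) / Models.multGcd R (Over.mk p) S.Γs) :=
    fun i => (Nat.mul_div_cancel' (S.gcd_dvd i)).symm
  have hb1 : ∀ i, 1 ≤ Models.mult R (Over.mk p) (S.Γs i) / Models.multGcd R (Over.mk p) S.Γs := fun i =>
    Nat.div_pos (Nat.le_of_dvd (S.m_pos i) (S.gcd_dvd i))
      (by
        have h : 0 < Models.mult R (Over.mk p) (S.Γs i) := S.m_pos i
        rw [hb i] at h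
        exact Nat.pos_of_mul_pos_right h)
  obtain ⟨s, a, ha0, has, hstep, hfld⟩ := Groth.ModelsGraphs.FieldChain.exists_chain hreg hΓ hL S.glob hb
    _ (fun _ => 1) (fun _ => le_rfl) hb1 le_rfl
    (Groth.ModelsGraphs.FieldChain.isFieldSub_one hreg hΓ hL S.glob hn)
  have hF := hfld (Fin.last s)
  rw [has] at hF
  haveI : IsProper f := hC.1
  exact ⟨hF, Groth.ModelsGraphs.ChiDivided.one_sub_genus_eq hreg hΓ hL f (le_of_eq hC.2.2.2) hH0 g hg _ _ hb⟩

end Groth.Agent.S3324
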