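import Groth.Statements.S3327
import Groth.Agent.ModelsGraphs.ExcPair
import Groth.Agent.ModelsGraphs.RedFibre
import Groth.Agent.S3326

set_option autoImplicit false
set_option linter.unusedSimpArgs false
universe u
open CategoryTheory CategoryTheory.Limits AlgebraicGeometry
open Models

namespace Groth.Agent.S3327

/-- In the following situation (R a discrete valuation ring with residue field k, C a smooth proper
curve over its fraction field K with H^0(C, O_C) = K, X a regular proper model, Γ_1, …, Γ_n the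
irreducible components of the closed fibre with multiplicities m_l), suppose Γ_i and Γ_j (i ≠ j) are
exceptional curves of the first kind which meet. Then n = 2, all multiplicities are 1, every
component is k-isomorphic to the projective line over k, Γ_i and Γ_j meet in a single point x with
residue field k, scheme-theoretically (I(Γ_i) + I(Γ_j) is the ideal of the reduced point x), and C
has genus zero. -/
theorem result (R : Type u) [CommRing R] [IsDomain R] [IsDiscreteValuationRing R]
    (C X : Scheme.{u}) (f : C ⟶ Spec (CommRingCat.of (FractionRing R))) (p : X ⟶ Spec (CommRingCat.of R))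
    (hC : Curve.IsSmoothProperCurve (FractionRing R) C f) (hH0 : IsIso f.appTop)
    (hX : Models.IsRegularProperModel R X p C f)
    {n : ℕ} (Γ : Fin n → ArSurf.VertComp R (Over.mk p)) (hΓ : Models.IsComponentList R (Over.mk p) Γ)
    (i j : Fin n) (hij : i ≠ j) (hi : Models.IsExcCurve (Γ i).ι) (hj : Models.IsExcCurve (Γ j).ι)
    (hmeet : ¬ Disjoint (Set.range ((Γ i).ι.base : (Γ i).curve.left → X))
      (Set.range ((Γ j).ι.base : (Γ j).curve.left → X))) :
    n = 2 ∧ (∀ l, Models.mult R (Over.mk p) (Γ l) = 1) ∧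
      (∀ l, ∃ e : (Γ l).curve.left ≅ CohB1.ProjSpace 1 (IsLocalRing.ResidueField R),
        e.hom ≫ CohB1.ProjSpace.toSpec 1 (IsLocalRing.ResidueField R) = (Γ l).curve.hom) ∧
      (∃ x : X, Set.range ((Γ i).ι.base : (Γ i).curve.left → X) ∩ Set.range ((Γ j).ι.base : (Γ j).curve.left → X) = {x} ∧
        (Γ i).ι.ker ⊔ (Γ j).ι.ker =
          Scheme.IdealSheafData.vanishingIdeal ⟨closure {x}, isClosed_closure⟩ ∧
        Function.Surjective ((X.residue x).hom.comp (Models.stalkHom R (Over.mk p) x))) ∧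
      Models.curveGenus (FractionRing R) C f = 0 := by
  obtain ⟨L, hL⟩ := Groth.ModelsGraphs.InterLattice.exists_inverses f p hX Γ hΓ
  obtain ⟨S, rfl, -⟩ := Groth.ModelsGraphs.InterLattice.exists_sit f p hH0 hX Γ hΓ L hL
  obtain ⟨hi1, hi2⟩ := (Groth.Agent.S3326.result R C X f p hC hH0 hX S.Γs hΓ L hL i).1 hi
  obtain ⟨hj1, hj2⟩ := (Groth.Agent.S3326.result R C X f p hC hH0 hX S.Γs hΓ L hL j).1 hj
  obtain ⟨⟨h1, h2, h3, g, hg⟩, h4, hreg⟩ := id hX
  haveI : Flat (Over.mk p).hom := h1
  haveI : IsProper (Over.mk p).hom := h4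
  haveI : IsProper f := hC.1
  haveI : IsIntegral C := hC.2.2.1
  haveI : IsLocallyNoetherian (Over.mk p).left :=
    LocallyOfFiniteType.isLocallyNoetherian (Over.mk p).hom
  haveI : CompactSpace (Over.mk p).left := QuasiCompact.compactSpace_of_compactSpace (Over.mk p).hom
  let A : Fin n → Fin n → ℤ := fun a b => ArSurf.inter R (Over.mk p) (L b) (S.Γs a)
  let w : Fin n → ℤ := fun a => (Models.wdeg R (Over.mk p) (S.Γs a) : ℤ)
  have hAe : ∀ a b, A a b = A b a := fun a b =>
    Groth.ModelsGraphs.InterForm.inter_symm hreg hΓ hL a b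
  have he : 0 < A i j := lt_of_le_of_ne
    (Groth.ModelsGraphs.InterForm.inter_nonneg_and_eq_zero_iff hreg hΓ hL hij).1
    (fun h => hmeet ((Groth.ModelsGraphs.InterForm.inter_nonneg_and_eq_zero_iff hreg hΓ hL hij).2.1 h.symm))
  have hwi : w i ≤ A i j := Int.le_of_dvd he (Groth.ModelsGraphs.RedFibre.wdeg_dvd_inter (X := Over.mk p) _ _)
  have hwj : w j ≤ A i j := by
    rw [hAe i j]
    exact Int.le_of_dvd (hAe i j ▸ he) (Groth.ModelsGraphs.RedFibre.wdeg_dvd_inter (X := Over.mk p) _ _)
  let z : Fin n → ℤ := Pi.single i 1 + Pi.single j 1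
  obtain ⟨hle, hiff⟩ := Groth.ModelsGraphs.InterForm.quadratic_nonpos A S.m S.m_pos hAe
    (fun a b hab => (Groth.ModelsGraphs.InterForm.inter_nonneg_and_eq_zero_iff hreg hΓ hL hab).1)
    (fun b => Groth.ModelsGraphs.InterForm.sum_mult_mul_inter hreg hΓ hL b)
    (Groth.ModelsGraphs.InterForm.inter_connected hreg hΓ hL S.glob) z
  have hQ : (∑ q : Fin n × Fin n, z q.1 * z q.2 * A q.1 q.2) = 2 * A i j - w i - w j := by
    rw [Fintype.sum_prod_type]
    simp only [z, Pi.add_apply, add_mul, mul_add, Finset.sum_add_distrib, Pi.single_apply, ite_mul,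
      mul_ite, one_mul, mul_one, zero_mul, mul_zero, Finset.sum_ite_eq', Finset.mem_univ, if_true]
    simp only [A, w] at hAe ⊢
    rw [hi2, hj2, hAe j i]
    ring
  have hwe : A i j = w i ∧ A i j = w j := ⟨by omega, by omega⟩
  obtain ⟨c, hc⟩ := hiff.1 (by omega)
  have hzi : z i = 1 := by simp [z, hij]
  have hzj : z j = 1 := by simp [z, hij.symm]
  have hc0 : c ≠ 0 := fun h => by
    have h' := hc i
    rw [hzi, h] at h'
    simp at h'
  have hall : ∀ l, l = i ∨ l = j := fun l => by
    by_contra hl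
    rw [not_or] at hl
    have h' := hc l
    rw [show z l = 0 by simp [z, hl.1, hl.2]] at h'
    exact mul_ne_zero hc0 (Nat.cast_ne_zero.2 (S.m_pos l).ne') (by simpa using h'.symm)
  have huniv : (Finset.univ : Finset (Fin n)) = {i, j} := by
    ext l
    simpa using hall l
  have hn : n = 2 := by
    rw [← Fintype.card_fin n, ← Finset.card_univ, huniv, Finset.card_pair hij]
  have hmij : Models.mult R (Over.mk p) (S.Γs i) = Models.mult R (Over.mk p) (S.Γs j) := by
    have h' := (hc i).symm.trans ((by rw [hzi, hzj] : (z i : ℚ) = z j).trans (hc j))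
    exact_mod_cast mul_left_cancel₀ hc0 h'
  have hgen := Groth.ModelsGraphs.GenusFormula.genus_formula hreg hΓ hL f (le_of_eq hC.2.2.2) hH0 g hg
  rw [huniv, Finset.sum_pair hij, hi1, hj1, hi2, hj2, ← hmij] at hgen
  push_cast at hgen
  have hwpos : 0 < w i := by omega
  simp only [A, w] at hwe hwpos
  rw [← hwe.2, hwe.1] at hgen
  have hmul : (Models.mult R (Over.mk p) (S.Γs i) : ℤ) * (Models.wdeg R (Over.mk p) (S.Γs i) : ℤ) = 1 := by
    have hm : (0 : ℤ) < Models.mult R (Over.mk p) (S.Γs i) := Int.natCast_pos.2 (S.m_pos i)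
    have h' := mul_pos hm hwpos
    have hgg : (0 : ℤ) ≤ Models.curveGenus (FractionRing R) C f := Int.natCast_nonneg _
    nlinarith
  have hg0 : Models.curveGenus (FractionRing R) C f = 0 := by
    exact_mod_cast (by linarith : (Models.curveGenus (FractionRing R) C f : ℤ) = 0)
  obtain ⟨hmi, hwi1⟩ : Models.mult R (Over.mk p) (S.Γs i) = 1 ∧ Models.wdeg R (Over.mk p) (S.Γs i) = 1 :=
    mul_eq_one.1 (by exact_mod_cast hmul)
  have hwj1 : Models.wdeg R (Over.mk p) (S.Γs j) = 1 := by omega
  have hl : ∀ l, Models.mult R (Over.mk p) (S.Γs l) = 1 ∧ Models.wdeg R (Over.mk p) (S.Γs l) = 1 ∧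
      Models.h1 R (Over.mk p) (S.Γs l) = 0 ∧
      ArSurf.inter R (Over.mk p) (L l) (S.Γs l) = -(Models.wdeg R (Over.mk p) (S.Γs l) : ℤ) := fun l => by
    rcases hall l with rfl | rfl
    · exact ⟨hmi, hwi1, hi1, hi2⟩
    · exact ⟨hmij ▸ hmi, hwj1, hj1, hj2⟩
  have hAij : A i j = 1 := by simp only [A]; omega
  refine ⟨hn, fun l => (hl l).1, fun l => ?_,
    Groth.ModelsGraphs.ExcPair.meet_point hreg hΓ hL hij hAij, hg0⟩
  obtain ⟨-, hwl, h1l, h2l⟩ := hl l
  refine Groth.ModelsGraphs.ExcPair.iso_P1 (X := Over.mk p) (S.Γs l) hwl h1l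
    (Groth.PicAux.isInvertible_idealMod (Groth.ModelsGraphs.Inter.isEffCartier hreg
      (Groth.ModelsGraphs.Inter.range_mem hΓ l))) ?_
  rw [Groth.ModelsGraphs.InterForm.δ_eq_inter, Groth.ModelsGraphs.InterForm.δ_inverse _ (hL l), hwl] at h2l
  simpa using h2l

end Groth.Agent.S3327
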