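import Groth.Statements.S3330
import Groth.Agent.CurveExtend.Unique

set_option autoImplicit false
universe u
open CategoryTheory CategoryTheory.Limits AlgebraicGeometry
open Models

namespace Groth.Agent.S3330

/-- Let R be a discrete valuation ring with fraction field K and C a smooth proper curve over K with
H^0(C, O_C) = K and positive genus dim_K H^1(C, O_C) > 0. If X₁ and X₂ are minimal models of C with
generic-fibre inclusions g₁, g₂, then there is a unique isomorphism X₁ ≅ X₂ of models (over R,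
carrying g₁ to g₂). -/
theorem result (R : Type u) [CommRing R] [IsDomain R] [IsDiscreteValuationRing R]
    (C X₁ X₂ : Scheme.{u}) (f : C ⟶ Spec (CommRingCat.of (FractionRing R)))
    (p₁ : X₁ ⟶ Spec (CommRingCat.of R)) (p₂ : X₂ ⟶ Spec (CommRingCat.of R))
    (hC : Curve.IsSmoothProperCurve (FractionRing R) C f) (hH0 : IsIso f.appTop)
    (hg : 0 < Models.curveGenus (FractionRing R) C f)
    (h₁ : Models.IsMinimalModel R X₁ p₁ C f) (h₂ : Models.IsMinimalModel R X₂ p₂ C f)
    (g₁ : C ⟶ X₁) (hg₁ : IsPullback g₁ f p₁ (Spec.map (CommRingCat.ofHom (algebraMap R (FractionRing R)))))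
    (g₂ : C ⟶ X₂) (hg₂ : IsPullback g₂ f p₂ (Spec.map (CommRingCat.ofHom (algebraMap R (FractionRing R))))) :
    ∃! e : X₁ ≅ X₂, e.hom ≫ p₂ = p₁ ∧ g₁ ≫ e.hom = g₂ := by
  have hX₁ := Groth.CurveExtend.Unique.isSurf_of_model hC hH0 h₁.1 hg₁
  have hX₂ := Groth.CurveExtend.Unique.isSurf_of_model hC hH0 h₂.1 hg₂
  obtain ⟨a, ha, hag⟩ := Groth.CurveExtend.Unique.exists_hom hC hH0 hg hX₂ hX₁ h₂.2
  obtain ⟨b, hb, hbg⟩ := Groth.CurveExtend.Unique.exists_hom hC hH0 hg hX₁ hX₂ h₁.2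
  have hab : a ≫ b = 𝟙 X₁ := Groth.CurveExtend.Unique.hom_ext hC hX₁ hX₁
    (by rw [Category.assoc, hb, ha]) (Category.id_comp _)
    (by rw [← Category.assoc, hag, hbg, Category.comp_id])
  have hba : b ≫ a = 𝟙 X₂ := Groth.CurveExtend.Unique.hom_ext hC hX₂ hX₂
    (by rw [Category.assoc, ha, hb]) (Category.id_comp _)
    (by rw [← Category.assoc, hbg, hag, Category.comp_id])
  refine ⟨⟨a, b, hab, hba⟩, ⟨ha, hag⟩, fun e he => Iso.ext ?_⟩
  exact Groth.CurveExtend.Unique.hom_ext hC hX₂ hX₁ he.1 ha (he.2.trans hag.symm)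

end Groth.Agent.S3330
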