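import Groth.Statements.S3331
import Groth.Agent.CurveExtend.Unique

set_option autoImplicit false
universe u
open CategoryTheory CategoryTheory.Limits AlgebraicGeometry
open Models

namespace Groth.Agent.S3331

/-- Let R be a discrete valuation ring with fraction field K, C a smooth proper curve over K with H^0(C,
O_C) = K and positive genus, X a minimal model of C and Y a regular proper model of C, with
generic-fibre inclusions g_X, g_Y. Then there is exactly one morphism of models Y → X, and it is a
finite composite of contractions of exceptional curves of the first kind. -/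
theorem result (R : Type u) [CommRing R] [IsDomain R] [IsDiscreteValuationRing R]
    (C X Y : Scheme.{u}) (f : C ⟶ Spec (CommRingCat.of (FractionRing R)))
    (p : X ⟶ Spec (CommRingCat.of R)) (q : Y ⟶ Spec (CommRingCat.of R))
    (hC : Curve.IsSmoothProperCurve (FractionRing R) C f) (hH0 : IsIso f.appTop)
    (hg : 0 < Models.curveGenus (FractionRing R) C f)
    (hX : Models.IsMinimalModel R X p C f) (hY : Models.IsRegularProperModel R Y q C f)
    (gX : C ⟶ X) (hgX : IsPullback gX f p (Spec.map (CommRingCat.ofHom (algebraMap R (FractionRing R)))))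
    (gY : C ⟶ Y) (hgY : IsPullback gY f q (Spec.map (CommRingCat.ofHom (algebraMap R (FractionRing R))))) :
    (∃! b : Y ⟶ X, b ≫ p = q ∧ gY ≫ b = gX) ∧
      ∀ b : Y ⟶ X, b ≫ p = q → gY ≫ b = gX → Models.IsContractionSeq b := by
  have hX' := Groth.CurveExtend.Unique.isSurf_of_model hC hH0 hX.1 hgX
  have hY' := Groth.CurveExtend.Unique.isSurf_of_model hC hH0 hY hgY
  haveI : IsIntegral C := hC.2.2.1
  obtain ⟨b, hb, hbg⟩ := Groth.CurveExtend.Unique.exists_hom hC hH0 hg hX' hY' hX.2
  exact ⟨⟨b, ⟨hb, hbg⟩, fun b' h' =>
      Groth.CurveExtend.Unique.hom_ext hC hX' hY' h'.1 hb (h'.2.trans hbg.symm)⟩,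
    fun b' hb' hbg' => Groth.CurveExtend.Unique.isContractionSeq_of_hom hX' hY' b' hb' hbg'⟩

end Groth.Agent.S3331
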