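import Groth.Statements.S3339
import Groth.Agent.ModelsGraphs.NodalContract
import Groth.Agent.Variety2.ProjDim

set_option autoImplicit false
set_option linter.unusedSimpArgs false
universe u
open CategoryTheory CategoryTheory.Limits AlgebraicGeometry
open Models

open Groth.Divisors

namespace Groth.Agent.S3339

/-- Let R be a discrete valuation ring and p : X → Spec R an at-worst-nodal family of curves (flat,
locally of finite presentation, every fibre having all irreducible components of dimension one and
at-worst-nodal singularities). Let ι : E → X be a closed subscheme which is an exceptional curve of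
the first kind, and b : X → X' a contraction of E: X' is Noetherian, b is proper, maps E onto a
single closed point x' whose local ring is regular of dimension 2, and is a blowing up of X' in x'.
Let p' : X' → Spec R be a morphism locally of finite type with p = p' ∘ b. Then p' is again an
at-worst-nodal family of curves. (The published statement does not list the hypothesis that p' is
locally of finite type separately, its contractions being projective over R; it is assumed
explicitly here.) -/
theorem result (R : Type u) [CommRing R] [IsDomain R] [IsDiscreteValuationRing R]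
    (X X' E : Scheme.{u}) (p : X ⟶ Spec (CommRingCat.of R)) (p' : X' ⟶ Spec (CommRingCat.of R))
    (hp : Curv2.IsNodalFamily p) (ι : E ⟶ X) [IsClosedImmersion ι] (hE : Models.IsExcCurve ι)
    (b : X ⟶ X') (hb : Models.IsContractionOf ι b) (hcomm : b ≫ p' = p) [LocallyOfFiniteType p'] :
    Curv2.IsNodalFamily p' := by
  obtain ⟨_, hbp, x', hx', hrange, hreg, hd, hbl⟩ := hb
  haveI := hbp
  haveI : IsRegularLocalRing (X'.presheaf.stalk x') := hreg
  haveI : LocallyOfFinitePresentation p' := Groth.ModelsGraphs.NodalContract.locallyOfFinitePresentation p'
  obtain ⟨-, k, _, e, -⟩ := hE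
  let η : CohB1.ProjSpace 1 k := Groth.Variety2.PSpace.eta 1 k
  have h1 : Order.height η = 1 := Groth.Variety2.PSpace.ht_eta
  have hmin : ¬ IsMin η := fun h => by
    rw [Order.height_eq_zero.2 h] at h1
    exact zero_ne_one h1
  obtain ⟨c, hc⟩ := not_isMin_iff.1 hmin
  have hs : η ⤳ c := Scheme.le_iff_specializes.1 hc.le
  haveI := isIso_morphismRestrict_compl hbl
  refine Groth.ModelsGraphs.NodalContract.isNodalFamily p p' b hcomm hp x' hx'
    (Groth.Divisors.complOpens (Scheme.IdealSheafData.vanishingIdeal ⟨{x'}, hx'⟩)) (fun y => ?_) hd
    (e₁ := ι (e.hom η)) (e₂ := ι (e.hom c)) ((hs.map e.hom.continuous).map ι.continuous) ?_ ?_ ?_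
  · rw [← SetLike.mem_coe, TopologicalSpace.Closeds.coe_compl, Scheme.IdealSheafData.coe_support_vanishingIdeal]
    exact Iff.rfl
  · intro h
    exact hc.ne' (e.hom.homeomorph.injective (ι.isEmbedding.injective h))
  · exact hrange.subset ⟨e.hom η, rfl⟩
  · exact hrange.subset ⟨e.hom c, rfl⟩

end Groth.Agent.S3339
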