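import Groth.Statements.S3340
import Groth.Agent.ModelsGraphs.InterTorsion

set_option autoImplicit false
set_option linter.unusedSimpArgs false
universe u
open CategoryTheory CategoryTheory.Limits AlgebraicGeometry
open Models

namespace Groth.Agent.S3340

/-- In the following situation (R a discrete valuation ring, C a smooth proper curve over its fraction
field K with H^0(C, O_C) = K, X a regular proper model with generic-fibre inclusion g, Γ_1, …, Γ_n
the irreducible components of the closed fibre with multiplicities m_i) let d = gcd(m_1, …, m_n). If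
M is an invertible O_X-module whose pullback to C is trivial and whose degree on each Γ_i is zero,
then the d-th tensor power of M is trivial. -/
theorem result (R : Type u) [CommRing R] [IsDomain R] [IsDiscreteValuationRing R]
    (C X : Scheme.{u}) (f : C ⟶ Spec (CommRingCat.of (FractionRing R))) (p : X ⟶ Spec (CommRingCat.of R))
    (hC : Curve.IsSmoothProperCurve (FractionRing R) C f) (hH0 : IsIso f.appTop)
    (hX : Models.IsRegularProperModel R X p C f)
    {n : ℕ} (Γ : Fin n → ArSurf.VertComp R (Over.mk p)) (hΓ : Models.IsComponentList R (Over.mk p) Γ)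
    (g : C ⟶ X) (hg : IsPullback g f p (Spec.map (CommRingCat.ofHom (algebraMap R (FractionRing R))))) (M : X.Modules) (hM : PicF.IsInvertible M)
    (htriv : Nonempty ((Scheme.Modules.pullback g).obj M ≅ Coh.structureModule C))
    (hdeg : ∀ i, ArSurf.inter R (Over.mk p) M (Γ i) = 0) :
    Nonempty (CohB1.tensorPow M (Models.multGcd R (Over.mk p) Γ) ≅ Coh.structureModule X) := by
  obtain ⟨L, hL⟩ := Groth.ModelsGraphs.InterLattice.exists_inverses f p hX Γ hΓ
  obtain ⟨S, rfl, rfl⟩ := Groth.ModelsGraphs.InterLattice.exists_sit f p hH0 hX Γ hΓ L hL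
  have h := Groth.ModelsGraphs.InterTorsion.pow_gcd_eq_one S f g hg hM
    (by rw [Groth.Abvar.PicCalc.pull_cls, ← Groth.Abvar.PicCalc.nonempty_iso_structure_iff]; exact htriv) hdeg
  rw [← Groth.Abvar.PicCalc.cls_tensorPow hM] at h
  exact (Groth.Abvar.PicCalc.nonempty_iso_structure_iff _).2 h

end Groth.Agent.S3340
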