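import Groth.Statements.S3342
import Groth.Agent.ModelsGraphs.InterTorsion

set_option autoImplicit false
set_option linter.unusedSimpArgs false
universe u
open CategoryTheory CategoryTheory.Limits AlgebraicGeometry
open Models

open scoped Groth.Abvar.PicCalc
namespace Groth.Agent.S3342

/-- In the following situation (R a discrete valuation ring with residue field k, C a smooth proper
curve over its fraction field K with H^0(C, O_C) = K, X a regular proper model with generic-fibre
inclusion g, Γ_1, …, Γ_n the irreducible components of the closed fibre with multiplicities m_i, L_j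
⊗ I(Γ_j) ≅ O_X, a_ij = deg_k(L_j|Γ_i), w_i = dim_k H^0(Γ_i, O)) let d = gcd(m_i) and h ≥ 1 prime to
d. Let N be an invertible O_C-module with N^{⊗h} ≅ O_C which is the restriction of an invertible
O_X-module M whose degree vector (deg_k(M|Γ_i) / w_i)_i lies in the image of the matrix (a_ij / w_i)
(that is, the class of N maps to zero in the Picard group of the numerical type). Then N is the
restriction of an invertible O_X-module M' with M'^{⊗h} ≅ O_X. -/
theorem result (R : Type u) [CommRing R] [IsDomain R] [IsDiscreteValuationRing R]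
    (C X : Scheme.{u}) (f : C ⟶ Spec (CommRingCat.of (FractionRing R))) (p : X ⟶ Spec (CommRingCat.of R))
    (hC : Curve.IsSmoothProperCurve (FractionRing R) C f) (hH0 : IsIso f.appTop)
    (hX : Models.IsRegularProperModel R X p C f)
    {n : ℕ} (Γ : Fin n → ArSurf.VertComp R (Over.mk p)) (hΓ : Models.IsComponentList R (Over.mk p) Γ)
    (g : C ⟶ X) (hg : IsPullback g f p (Spec.map (CommRingCat.ofHom (algebraMap R (FractionRing R))))) (L : Fin n → X.Modules) (hL : ∀ i, ClSub.IsInverseOf (L i) (ClSub.idealMod (Γ i).ι.ker))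
    (h : ℕ) (hh : 0 < h) (hcop : Nat.Coprime h (Models.multGcd R (Over.mk p) Γ))
    (N : C.Modules) (hN : PicF.IsInvertible N) (hNt : Nonempty (CohB1.tensorPow N h ≅ Coh.structureModule C))
    (M : X.Modules) (hM : PicF.IsInvertible M) (hMN : Nonempty ((Scheme.Modules.pullback g).obj M ≅ N))
    (v : Fin n → ℤ)
    (hv : ∀ i, ArSurf.inter R (Over.mk p) M (Γ i) = ∑ j, ArSurf.inter R (Over.mk p) (L j) (Γ i) * v j) :
    ∃ M' : X.Modules, PicF.IsInvertible M' ∧ Nonempty (CohB1.tensorPow M' h ≅ Coh.structureModule X) ∧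
      Nonempty ((Scheme.Modules.pullback g).obj M' ≅ N) := by
  obtain ⟨S, rfl, rfl⟩ := Groth.ModelsGraphs.InterLattice.exists_sit f p hH0 hX Γ hΓ L hL
  have hpow : ∀ {M' : X.Modules} (h' : PicF.IsInvertible M'),
      (Nonempty (CohB1.tensorPow M' h ≅ Coh.structureModule X) ↔ Groth.Abvar.PicCalc.cls h' ^ h = 1) :=
    fun h' => by
      rw [Groth.Abvar.PicCalc.nonempty_iso_structure_iff (Groth.Abvar.PicCalc.isInvertible_tensorPow h' h),
        Groth.Abvar.PicCalc.cls_tensorPow h' h]
  have hpull : ∀ {M' : X.Modules} (h' : PicF.IsInvertible M'),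
      (Nonempty ((Scheme.Modules.pullback g).obj M' ≅ N) ↔
        Groth.Abvar.PicCalc.pull g (Groth.Abvar.PicCalc.cls h') = Groth.Abvar.PicCalc.pull g (Groth.Abvar.PicCalc.cls hM)) :=
    fun h' => by
      rw [Groth.Abvar.PicCalc.pull_cls, Groth.Abvar.PicCalc.pull_cls, ← Groth.Abvar.PicCalc.nonempty_iso_iff]
      exact ⟨fun ⟨e⟩ => ⟨e ≪≫ hMN.some.symm⟩, fun ⟨e⟩ => ⟨e ≪≫ hMN.some⟩⟩
  have htors : Groth.Abvar.PicCalc.pull g (Groth.Abvar.PicCalc.cls hM) ^ h = 1 := by
    rw [Groth.Abvar.PicCalc.pull_cls, ← Groth.Abvar.PicCalc.cls_tensorPow, ← Groth.Abvar.PicCalc.nonempty_iso_structure_iff]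
    exact ⟨(Groth.PicAux.nonempty_tensorPow_iso hMN.some h).some ≪≫ hNt.some⟩
  obtain ⟨c, hc, hp⟩ := Groth.ModelsGraphs.InterTorsion.torsion_lift S f g hg hcop hM htors ⟨v, hv⟩
  obtain ⟨M', h', rfl⟩ := PicGrp.exists_eq_cls c
  exact ⟨M', h', (hpow h').2 hc, (hpull h').2 hp⟩

end Groth.Agent.S3342
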