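import Groth.Statements.S3343
import Groth.Agent.ModelsGraphs.PicTorsionDVR

set_option autoImplicit false
set_option linter.unusedSimpArgs false
universe u
open CategoryTheory CategoryTheory.Limits AlgebraicGeometry
open Models

namespace Groth.Agent.S3343

/-- Let R be a discrete valuation ring with fraction field K and residue field k, C a smooth proper
curve over K with H^0(C, O_C) = K and X a regular proper model of C. Let h ≥ 1 be an integer prime
to the characteristic of k and M an invertible O_X-module with M^{⊗h} ≅ O_X. If the pullback of M to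
the reduced closed fibre (X_k)_red is trivial, then M is trivial. -/
theorem result (R : Type u) [CommRing R] [IsDomain R] [IsDiscreteValuationRing R]
    (C X : Scheme.{u}) (f : C ⟶ Spec (CommRingCat.of (FractionRing R))) (p : X ⟶ Spec (CommRingCat.of R))
    (hC : Curve.IsSmoothProperCurve (FractionRing R) C f) (hH0 : IsIso f.appTop)
    (hX : Models.IsRegularProperModel R X p C f) (h : ℕ) (hh : 0 < h)
    (hchar : ∀ q : ℕ, q.Prime → CharP (IsLocalRing.ResidueField R) q → ¬ q ∣ h)
    (M : X.Modules) (hM : PicF.IsInvertible M)
    (htors : Nonempty (CohB1.tensorPow M h ≅ Coh.structureModule X))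
    (htriv : Nonempty ((Scheme.Modules.pullback (Models.redFibreIdeal R (Over.mk p)).subschemeι).obj M ≅
      Coh.structureModule (Models.redFibreIdeal R (Over.mk p)).subscheme)) :
    Nonempty (M ≅ Coh.structureModule X) := by
  obtain ⟨⟨hfl, -, -, g, hg⟩, hp, -⟩ := hX
  haveI := hfl
  haveI := hp
  haveI := hH0
  have hR := (Groth.ModelsGraphs.GlobalFun.toGlobal_bijective_of_appTop p g f
    (ConcreteCategory.bijective_of_isIso _) hg).2
  have hu := Groth.ModelsGraphs.PicTorsion.isUnit_natCast (R := R) h hh hchar
  exact Groth.ModelsGraphs.PicTorsion.nonempty_iso_of_torsion p hR (Models.redFibreIdeal R (Over.mk p))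
    (Scheme.IdealSheafData.coe_support_vanishingIdeal _) h hu M hM htors htriv

end Groth.Agent.S3343
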