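import Groth.Statements.S3344
import Groth.Agent.ModelsGraphs.RationalPoint
import Groth.Agent.ModelsGraphs.ChiDivided
import Groth.Agent.S19912

set_option autoImplicit false
set_option linter.unusedSimpArgs false
universe u
open CategoryTheory CategoryTheory.Limits AlgebraicGeometry
open Models

namespace Groth.Agent.S3344

/-- In the following situation (R a discrete valuation ring with residue field k, C a smooth proper
curve over its fraction field K with H^0(C, O_C) = K, X a regular proper model, Γ_1, …, Γ_n the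
irreducible components of the closed fibre X_k with multiplicities m_i) assume C has a K-rational
point. Then (1) some closed point x of X on the closed fibre has residue field k (R → κ(x)
surjective) and the local ring of X_k at x, namely O_{X,x}/𝔪_R O_{X,x}, is regular (x is a smooth
point of X_k over k); (2) the component Γ_i through x has H^0(Γ_i, O) = k and m_i = 1; (3) H^0(X_k,
O_{X_k}) = k and dim_k H^1(X_k, O_{X_k}) = dim_K H^1(C, O_C) (k-dimensions as R-lengths of the
cohomology of O_{X_k} on X). -/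
theorem result (R : Type u) [CommRing R] [IsDomain R] [IsDiscreteValuationRing R]
    (C X : Scheme.{u}) (f : C ⟶ Spec (CommRingCat.of (FractionRing R))) (p : X ⟶ Spec (CommRingCat.of R))
    (hC : Curve.IsSmoothProperCurve (FractionRing R) C f) (hH0 : IsIso f.appTop)
    (hX : Models.IsRegularProperModel R X p C f)
    {n : ℕ} (Γ : Fin n → ArSurf.VertComp R (Over.mk p)) (hΓ : Models.IsComponentList R (Over.mk p) Γ)
    (s : Spec (CommRingCat.of (FractionRing R)) ⟶ C) (hs : s ≫ f = 𝟙 _) :
    (∃ (i : Fin n) (x : X), x ∈ Set.range ((Γ i).ι.base : (Γ i).curve.left → X) ∧ IsClosed ({x} : Set X) ∧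
        Function.Surjective ((X.residue x).hom.comp (Models.stalkHom R (Over.mk p) x)) ∧
        IsRegularLocalRing (X.presheaf.stalk x ⧸
          Ideal.map (Models.stalkHom R (Over.mk p) x) (IsLocalRing.maximalIdeal R)) ∧
        Models.wdeg R (Over.mk p) (Γ i) = 1 ∧ Models.mult R (Over.mk p) (Γ i) = 1) ∧
      Models.lengthH R (Over.mk p) (ClSub.quotMod (Models.specialFibreIdeal R (Over.mk p))) 0 = 1 ∧
      Models.lengthH R (Over.mk p) (ClSub.quotMod (Models.specialFibreIdeal R (Over.mk p))) 1 =
        Models.curveGenus (FractionRing R) C f := by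
  obtain ⟨L, hL⟩ := Groth.ModelsGraphs.InterLattice.exists_inverses f p hX Γ hΓ
  obtain ⟨S, rfl, -⟩ := Groth.ModelsGraphs.InterLattice.exists_sit f p hH0 hX Γ hΓ L hL
  obtain ⟨⟨h1, h2, h3, g, hg⟩, h4, hreg⟩ := id hX
  haveI : Flat (Over.mk p).hom := h1
  haveI : IsProper (Over.mk p).hom := h4
  haveI := h4
  haveI : IsProper f := hC.1
  haveI : IsIntegral C := hC.2.2.1
  haveI : IsLocallyNoetherian (Over.mk p).left :=
    LocallyOfFiniteType.isLocallyNoetherian (Over.mk p).hom
  haveI : CompactSpace (Over.mk p).left := QuasiCompact.compactSpace_of_compactSpace (Over.mk p).hom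
  -- extend the rational point to a section
  have hE : ValuativeCriterion.Existence p := by
    have h := h4
    rw [IsProper.eq_valuativeCriterion] at h
    exact h.1.1.1.existence
  have hw : (s ≫ g) ≫ p =
      Spec.map (CommRingCat.ofHom (algebraMap R (FractionRing R))) ≫ 𝟙 _ := by
    rw [Category.assoc, hg.w, ← Category.assoc, hs, Category.id_comp, Category.comp_id]
  let Sq : ValuativeCommSq p :=
    { R := R, K := FractionRing R, i₁ := s ≫ g, i₂ := 𝟙 _, commSq := ⟨hw⟩ }
  obtain ⟨σ, -, hσ⟩ := (hE Sq).exists_lift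
  let x : (Over.mk p).left := σ (IsLocalRing.closedPoint R)
  have hσ' : σ ≫ (Over.mk p).hom = 𝟙 _ := hσ
  haveI : IsClosedImmersion σ := by
    haveI : IsClosedImmersion (σ ≫ p) := by rw [show σ ≫ p = 𝟙 _ from hσ]; infer_instance
    exact IsClosedImmersion.of_comp σ p
  have hclosed : IsClosed ({x} : Set X) := by
    have h := σ.isClosedEmbedding.isClosedMap _ (PrimeSpectrum.isClosed_singleton_iff_isMaximal _ |>.2
      (IsLocalRing.maximalIdeal.isMaximal R) : IsClosed ({IsLocalRing.closedPoint R} : Set (PrimeSpectrum R)))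
    convert h using 1
    exact (Set.image_singleton (f := fun z => σ z)).symm
  have hres := Groth.ModelsGraphs.RationalPoint.residue_surjective (X := Over.mk p) σ hσ'
  have hxs : x ∈ Models.specialFibreSet R (Over.mk p) := by
    change p (σ (IsLocalRing.closedPoint R)) = IsLocalRing.closedPoint R
    rw [← Scheme.Hom.comp_apply, show σ ≫ p = 𝟙 _ from hσ]
    rfl
  obtain ⟨i, hi⟩ := Groth.ModelsGraphs.Inter.exists_specializes S.list hxs
  obtain ⟨c, hc⟩ := (Groth.ModelsGraphs.Inter.isGenericPoint_genPtOf (S.Γs i)).specializes_iff_mem.1 hi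
  have hfib : IsRegularLocalRing (X.presheaf.stalk x ⧸
      Ideal.map (Models.stalkHom R (Over.mk p) x) (IsLocalRing.maximalIdeal R)) :=
    Groth.Agent.S19912.result R (Over.mk p) R (by simp) σ (by
      rw [hσ']
      change 𝟙 _ = Spec.map (𝟙 (CommRingCat.of R))
      exact (Spec.map_id _).symm) x rfl (hreg x)
  have hmult : Models.mult R (Over.mk p) (S.Γs i) = 1 :=
    Groth.ModelsGraphs.RationalPoint.mult_eq_one hreg (Groth.ModelsGraphs.Inter.range_mem S.list i) hi hfib
  have hsurj := Groth.ModelsGraphs.RationalPoint.toGlobal_surjective_of_point (S.Γs i) c (by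
    rw [hc]
    exact hres)
  have hd : Models.multGcd R (Over.mk p) S.Γs = 1 := Nat.dvd_one.1 (hmult ▸ S.gcd_dvd i)
  have hb : ∀ j, Models.mult R (Over.mk p) (S.Γs j) =
      Models.multGcd R (Over.mk p) S.Γs * Models.mult R (Over.mk p) (S.Γs j) := fun j => by
    rw [hd, one_mul]
  obtain ⟨m, a, -, ham, -, hfld⟩ := Groth.ModelsGraphs.FieldChain.exists_chain hreg hΓ hL S.glob hb
    _ (fun _ => 1) (fun _ => le_rfl) (fun j => S.m_pos j) le_rfl
    (Groth.ModelsGraphs.FieldChain.isFieldSub_one hreg hΓ hL S.glob (S.n_pos g))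
  have hF := hfld (Fin.last m)
  rw [ham] at hF
  have hfibre := Groth.ModelsGraphs.Inter.specialFibreIdeal_eq (X := Over.mk p) hreg hΓ
  change Groth.ModelsGraphs.FieldChain.IsFieldSub (∏ j, (S.Γs j).ι.ker ^ _) at hF
  rw [← hfibre] at hF
  have hle : Models.specialFibreIdeal R (Over.mk p) ≤ (S.Γs i).ι.ker := by
    rw [hfibre, ← Finset.mul_prod_erase Finset.univ _ (Finset.mem_univ i), hmult, pow_one]
    intro W
    simp only [Scheme.IdealSheafData.ideal_mul, Pi.mul_apply]
    exact Ideal.mul_le_inf.trans inf_le_left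
  have h0 := Groth.ModelsGraphs.RationalPoint.lengthH_zero_eq_one _ hF (S.Γs i) hle hsurj
  refine ⟨⟨i, x, ⟨c, hc⟩, hclosed, hres, hfib,
    Groth.ModelsGraphs.RationalPoint.wdeg_eq_one _ hsurj, hmult⟩, h0, ?_⟩
  have hχ := Groth.ModelsGraphs.ChiDivided.one_sub_genus_eq hreg hΓ hL f (le_of_eq hC.2.2.2) hH0 g hg 1
    (fun j => Models.mult R (Over.mk p) (S.Γs j)) (fun j => (one_mul _).symm)
  rw [← hfibre, h0] at hχ
  push_cast at hχ
  omega

end Groth.Agent.S3344
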