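import Groth.Statements.S3345
import Groth.Agent.ModelsGraphs.RedFibre
import Groth.Agent.S3347

set_option autoImplicit false
set_option linter.unusedSimpArgs false
universe u
open CategoryTheory CategoryTheory.Limits AlgebraicGeometry
open Models

namespace Groth.Agent.S3345

/-- In the following situation (R a discrete valuation ring with residue field k, C a smooth proper
curve over its fraction field K with H^0(C, O_C) = K, X a regular proper model, Γ_1, …, Γ_n the
irreducible components of the closed fibre with multiplicities m_i) assume X is a minimal model,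
gcd(m_1, …, m_n) = 1 and H^0((X_k)_red, O) = k. Then dim_k H^1((X_k)_red, O) ≤ dim_k H^1(X_k, O),
and the inequality is strict when X_k is not reduced (k-dimensions computed as R-lengths of the
cohomology on X of the structure sheaves of the two closed subschemes). The published statement is
the stronger one that H^1(X_k, O_{X_k}) → H^1((X_k)_red, O) is surjective, with non-zero kernel when
X_k is not reduced; this is its form in terms of dimensions. -/
theorem result (R : Type u) [CommRing R] [IsDomain R] [IsDiscreteValuationRing R]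
    (C X : Scheme.{u}) (f : C ⟶ Spec (CommRingCat.of (FractionRing R))) (p : X ⟶ Spec (CommRingCat.of R))
    (hC : Curve.IsSmoothProperCurve (FractionRing R) C f) (hH0 : IsIso f.appTop)
    (hX : Models.IsRegularProperModel R X p C f)
    {n : ℕ} (Γ : Fin n → ArSurf.VertComp R (Over.mk p)) (hΓ : Models.IsComponentList R (Over.mk p) Γ)
    (hmin : Models.IsMinimalModel R X p C f) (hgcd : Models.multGcd R (Over.mk p) Γ = 1)
    (hH0k : Models.lengthH R (Over.mk p) (ClSub.quotMod (Models.redFibreIdeal R (Over.mk p))) 0 = 1) :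
    Models.lengthH R (Over.mk p) (ClSub.quotMod (Models.redFibreIdeal R (Over.mk p))) 1 ≤
        Models.lengthH R (Over.mk p) (ClSub.quotMod (Models.specialFibreIdeal R (Over.mk p))) 1 ∧
      (Models.specialFibreIdeal R (Over.mk p) ≠ Models.redFibreIdeal R (Over.mk p) →
        Models.lengthH R (Over.mk p) (ClSub.quotMod (Models.redFibreIdeal R (Over.mk p))) 1 <
          Models.lengthH R (Over.mk p) (ClSub.quotMod (Models.specialFibreIdeal R (Over.mk p))) 1) := by
  obtain ⟨L, hL⟩ := Groth.ModelsGraphs.InterLattice.exists_inverses f p hX Γ hΓ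
  obtain ⟨S, rfl, -⟩ := Groth.ModelsGraphs.InterLattice.exists_sit f p hH0 hX Γ hΓ L hL
  have hmin' := (Groth.Agent.S3347.result R C X f p hC hH0 hX S.Γs hΓ L hL).1 hmin
  obtain ⟨⟨h1, h2, h3, g, hg⟩, h4, hreg⟩ := id hX
  haveI : Flat (Over.mk p).hom := h1
  haveI : IsProper (Over.mk p).hom := h4
  haveI : IsIntegral C := hC.2.2.1
  haveI : IsLocallyNoetherian (Over.mk p).left :=
    LocallyOfFiniteType.isLocallyNoetherian (Over.mk p).hom
  haveI : CompactSpace (Over.mk p).left := QuasiCompact.compactSpace_of_compactSpace (Over.mk p).hom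
  have hb : ∀ j, Models.mult R (Over.mk p) (S.Γs j) =
      Models.multGcd R (Over.mk p) S.Γs * Models.mult R (Over.mk p) (S.Γs j) := fun j => by
    rw [hgcd, one_mul]
  have hred := Groth.ModelsGraphs.RedFibre.redFibreIdeal_eq (X := Over.mk p) hreg hΓ
  have hfibre := Groth.ModelsGraphs.Inter.specialFibreIdeal_eq (X := Over.mk p) hreg hΓ
  obtain ⟨m, a, -, ham, -, hfld⟩ := Groth.ModelsGraphs.FieldChain.exists_chain hreg hΓ hL S.glob hb
    _ (fun _ => 1) (fun _ => le_rfl) (fun j => S.m_pos j) le_rfl
    (Groth.ModelsGraphs.FieldChain.isFieldSub_one hreg hΓ hL S.glob (S.n_pos g))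
  have hF := hfld (Fin.last m)
  rw [ham] at hF
  change Groth.ModelsGraphs.FieldChain.IsFieldSub (∏ j, (S.Γs j).ι.ker ^ _) at hF
  rw [← hfibre] at hF
  have hmono : ∀ s : Finset (Fin n), (∏ j ∈ s, (S.Γs j).ι.ker ^ Models.mult R (Over.mk p) (S.Γs j)) ≤
      ∏ j ∈ s, (S.Γs j).ι.ker := by
    intro s
    induction s using Finset.induction_on with
    | empty => simp
    | insert j t hj ih =>
      rw [Finset.prod_insert hj, Finset.prod_insert hj]
      intro W
      simp only [Scheme.IdealSheafData.ideal_mul, Pi.mul_apply, Scheme.IdealSheafData.ideal_pow, Pi.pow_apply]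
      exact Ideal.mul_mono (Ideal.pow_le_self (S.m_pos j).ne') (ih W)
  have hle : Models.specialFibreIdeal R (Over.mk p) ≤ Models.redFibreIdeal R (Over.mk p) := by
    rw [hfibre, hred]
    exact hmono Finset.univ
  have h0 := Groth.ModelsGraphs.RedFibre.lengthH_zero_eq_one_of_le hle hF hH0k
  by_cases hone : (fun _ => 1) = fun j => Models.mult R (Over.mk p) (S.Γs j)
  · have heq : Models.specialFibreIdeal R (Over.mk p) = Models.redFibreIdeal R (Over.mk p) := by
      rw [hfibre, hred]
      exact Finset.prod_congr rfl fun j _ => by rw [← congrFun hone j, pow_one]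
    rw [heq]
    exact ⟨le_rfl, fun h => absurd rfl h⟩
  · have hlt := Groth.ModelsGraphs.RedFibre.chi_lt hreg hΓ hL S.glob hb hmin' _ (fun _ => 1) (fun _ => le_rfl)
      (fun j => S.m_pos j) le_rfl hone
    simp only [pow_one] at hlt
    rw [← hfibre, ← hred, Groth.ModelsGraphs.ChiStep.chi_eq_lengthH,
      Groth.ModelsGraphs.ChiStep.chi_eq_lengthH, h0, hH0k] at hlt
    exact ⟨by omega, fun _ => by omega⟩

end Groth.Agent.S3345
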