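import Groth.Statements.S3348
import Groth.Agent.ModelsGraphs.InterTorsion

set_option autoImplicit false
set_option linter.unusedSimpArgs false
universe u
open CategoryTheory CategoryTheory.Limits AlgebraicGeometry
open Models

namespace Groth.Agent.S3348

/-- In the following situation (R a discrete valuation ring with residue field k, C a smooth proper
curve over its fraction field K with H^0(C, O_C) = K, X a regular proper model with generic-fibre
inclusion g, Γ_1, …, Γ_n the irreducible components of the closed fibre, L_j ⊗ I(Γ_j) ≅ O_X, a_ij =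
deg_k(L_j|Γ_i), w_i = dim_k H^0(Γ_i, O)) let N be an invertible O_C-module and M an invertible
O_X-module restricting to N. Then the degree vector (deg_k(M|Γ_i))_i is of the form (Σ_j a_ij v_j)_i
for an integer vector v (the class (deg_k(M|Γ_i)/w_i)_i vanishes in the Picard group of the
numerical type, which does not depend on the choice of M) if and only if N is the restriction of an
invertible O_X-module M' with deg_k(M'|Γ_i) = 0 for all i. -/
theorem result (R : Type u) [CommRing R] [IsDomain R] [IsDiscreteValuationRing R]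
    (C X : Scheme.{u}) (f : C ⟶ Spec (CommRingCat.of (FractionRing R))) (p : X ⟶ Spec (CommRingCat.of R))
    (hC : Curve.IsSmoothProperCurve (FractionRing R) C f) (hH0 : IsIso f.appTop)
    (hX : Models.IsRegularProperModel R X p C f)
    {n : ℕ} (Γ : Fin n → ArSurf.VertComp R (Over.mk p)) (hΓ : Models.IsComponentList R (Over.mk p) Γ)
    (g : C ⟶ X) (hg : IsPullback g f p (Spec.map (CommRingCat.ofHom (algebraMap R (FractionRing R))))) (L : Fin n → X.Modules) (hL : ∀ i, ClSub.IsInverseOf (L i) (ClSub.idealMod (Γ i).ι.ker))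
    (N : C.Modules) (hN : PicF.IsInvertible N)
    (M : X.Modules) (hM : PicF.IsInvertible M) (hMN : Nonempty ((Scheme.Modules.pullback g).obj M ≅ N)) :
    (∃ v : Fin n → ℤ, ∀ i, ArSurf.inter R (Over.mk p) M (Γ i) = ∑ j, ArSurf.inter R (Over.mk p) (L j) (Γ i) * v j) ↔
      ∃ M' : X.Modules, PicF.IsInvertible M' ∧ Nonempty ((Scheme.Modules.pullback g).obj M' ≅ N) ∧
        ∀ i, ArSurf.inter R (Over.mk p) M' (Γ i) = 0 := by
  obtain ⟨S, rfl, rfl⟩ := Groth.ModelsGraphs.InterLattice.exists_sit f p hH0 hX Γ hΓ L hL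
  refine (Groth.ModelsGraphs.InterTorsion.degree_zero_lift_iff S f g hg hM).trans ?_
  refine exists_congr fun M' => ?_
  refine ⟨fun ⟨h', hp, hd⟩ => ⟨h', ?_, hd⟩, fun ⟨h', ⟨e⟩, hd⟩ => ⟨h', ?_, hd⟩⟩
  · rw [Groth.Abvar.PicCalc.pull_cls, Groth.Abvar.PicCalc.pull_cls, ← Groth.Abvar.PicCalc.nonempty_iso_iff] at hp
    exact ⟨hp.some ≪≫ hMN.some⟩
  · rw [Groth.Abvar.PicCalc.pull_cls, Groth.Abvar.PicCalc.pull_cls, ← Groth.Abvar.PicCalc.nonempty_iso_iff]
    exact ⟨e ≪≫ hMN.some.symm⟩

end Groth.Agent.S3348
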