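import Groth.Statements.S3349
import Groth.Agent.ModelsGraphs.NT

set_option autoImplicit false
open Finset
open Models Models.NumericalType

namespace Groth.Agent.S3349

/-- Let T be a numerical type with exactly one index. Then a_11 = 0 and the genus of T is g = 1 + m_1
w_1 (g_1 - 1). Consequently: if g < 0 then g_1 = 0 (and m_1 w_1 = 1 - g); if g = 0 then m_1 = w_1 =
1 and g_1 = 0; if g = 1 then g_1 = 1; if g > 1 then g_1 > 1 (and m_1 w_1 (g_1 - 1) = g - 1). -/
theorem result (T : Models.NumericalType 1) :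
    T.a 0 0 = 0 ∧ T.genus = 1 + T.m 0 * T.w 0 * (T.g 0 - 1) ∧
      (T.genus < 0 → T.g 0 = 0) ∧ (T.genus = 0 → T.m 0 = 1 ∧ T.w 0 = 1 ∧ T.g 0 = 0) ∧
      (T.genus = 1 → T.g 0 = 1) ∧ (1 < T.genus → 1 < T.g 0) := by
  obtain ⟨ha, hg⟩ := Groth.ModelsGraphs.single_index_aux T
  have hp := mul_pos (T.m_pos 0) (T.w_pos 0)
  have := T.g_nonneg 0
  refine ⟨ha, hg, fun h => ?_, fun h => ?_, fun h => ?_, fun h => ?_⟩
  · nlinarith
  · have hmin : T.IsMinimal := fun i hi => by
      obtain rfl : i = 0 := Subsingleton.elim _ _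
      have := T.w_pos 0
      have h2 := hi.2
      omega
    obtain ⟨-, h1⟩ := Groth.ModelsGraphs.eq_trivial_of_minimal_genus_zero T hmin h
    exact ⟨(h1 0).1, (h1 0).2.2.1, (h1 0).2.2.2⟩
  · rw [hg] at h
    have : T.g 0 - 1 = 0 := (mul_eq_zero.1 (by omega)).resolve_left hp.ne'
    omega
  · nlinarith

end Groth.Agent.S3349
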