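import Groth.Statements.S3354
import Groth.Agent.ParaLift82.Depth
import Groth.Agent.S2824
import Groth.Agent.ParaFormal.PairPhi

set_option autoImplicit false
universe u
open CategoryTheory CategoryTheory.Limits AlgebraicGeometry
open ParaF

namespace Groth.Agent.S3354

/-- Let A be a Noetherian local ring which is a quotient of a regular local ring, t an A-regular element
of the maximal ideal such that A is complete for the t-adic topology, X the punctured spectrum of A
and Y = V(t) ∩ X (the punctured spectrum of B = A/tA, as the closed subscheme of X cut out by t).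
Assume (a) A_p has depth ≥ 2 for every prime p with dim A/p = 1 (the closed points of X) and (b) B
has depth ≥ 3. Then the map Pic(X) → Pic(Y) has trivial kernel: an invertible O_X-module whose
pull-back to Y is trivial is trivial. In particular, if B is parafactorial then A is parafactorial. -/
theorem result (R : Type u) [CommRing R] [IsRegularLocalRing R] (A : Type u) [CommRing A] [IsLocalRing A] [IsNoetherianRing A] (π : R →+* A) (hπ : Function.Surjective π) (t : A) (ht : t ∈ IsLocalRing.maximalIdeal A) (hreg : IsSMulRegular A t) [IsAdicComplete (Ideal.span {t}) A] (ha : ∀ p : PrimeSpectrum A, ringKrullDim (A ⧸ p.asIdeal) = 1 → (2 : ℕ∞) ≤ LocCoh.depth (Localization.AtPrime p.asIdeal) (Localization.AtPrime p.asIdeal)) [IsLocalRing (A ⧸ Ideal.span {t})] (hb : (3 : ℕ∞) ≤ LocCoh.depth (A ⧸ Ideal.span {t}) (A ⧸ Ideal.span {t})) : Formal2.PicPullbackInjective (((Spec.map (CommRingCat.ofHom (Ideal.Quotient.mk (Ideal.span {t})))).ker.comap (FEt.puncturedSpec A).ι)).subschemeι ∧ (ParaF.IsParafactorialLocalRing (A ⧸ Ideal.span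 {t}) → ParaF.IsParafactorialLocalRing A) := by
  have hJt : Ideal.span {t} ≠ ⊤ := fun e => (IsLocalRing.maximalIdeal.isMaximal A).ne_top
    (top_le_iff.1 (e ▸ (Ideal.span_singleton_le_iff_mem _).2 ht))
  have hf : Groth.ParaLift82.FreeGr (Ideal.span {t}) := fun n => by
    refine ⟨1, fun _ => t ^ n, by rw [Set.range_const, Ideal.span_singleton_pow], fun c hc i => ?_⟩
    obtain rfl := Subsingleton.elim i 0
    rw [Fin.sum_univ_one, Ideal.span_singleton_pow] at hc
    obtain ⟨d, hd⟩ := Ideal.mem_span_singleton.1 hc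
    exact Ideal.mem_span_singleton.2 ⟨d, (IsSMulRegular.pow n hreg) (show t ^ n • c 0 = t ^ n • (t * d) by
      rw [smul_eq_mul, smul_eq_mul, mul_comm, hd]; ring)⟩
  obtain ⟨x, y, w, hx, hy, hw, h⟩ := Groth.ParaLift82.exists_regTriple hb
  refine ⟨fun L hL => fun ⟨i⟩ => Groth.ParaLift82.trivial_of_section hJt hf hx hy hw h L hL ?_, fun hB => ?_⟩
  · let f := Groth.ParaLift82.quotMap (Ideal.span {t})
    let U := FEt.puncturedSpec A
    let j : (↑(f ⁻¹ᵁ U) : Scheme.{u}) ⟶ (f.ker.comap U.ι).subscheme :=
      Limits.pullback.lift (f ∣_ U) ((f ⁻¹ᵁ U).ι ≫ f.toImage)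
        (by rw [morphismRestrict_ι, Category.assoc]; exact congrArg _ f.toImage_imageι.symm) ≫
        (f.ker.comapIso U.ι).inv
    have hj : j ≫ (f.ker.comap U.ι).subschemeι = f ∣_ U := by
      simp only [j, Category.assoc, Scheme.IdealSheafData.comapIso_inv_subschemeι]
      exact Limits.pullback.lift_fst _ _ _
    obtain ⟨i'⟩ := Groth.PicAux.pullback_structure_iso j
    exact ⟨((Scheme.Modules.pullbackCongr hj).app L).symm ≪≫
      ((Scheme.Modules.pullbackComp j _).app L).symm ≪≫ (Scheme.Modules.pullback j).mapIso i ≪≫ i'⟩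
  · rw [Groth.Agent.S2824.result] at hB ⊢
    have hbot := Groth.ParaLift82.three_le_depth hx hy hw (Groth.ParaLift82.regTriple_bot hf hJt hx hy h)
    obtain ⟨a, b, ha, hb', h1, h2, h3⟩ := Groth.ParaFormal.exists_pair (R := A) (le_trans (by norm_num) hbot)
    exact ⟨Groth.ParaFormal.bijective_restrict_of_pair ha hb' h1 h2 h3,
      Groth.ParaLift82.picTrivial_of_quotient hJt hf hx hy hw h hB.2⟩

end Groth.Agent.S3354
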