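import Groth.Statements.S3355
import Groth.Agent.ParaLift82.Hypersurface
import Groth.Agent.S3354

set_option autoImplicit false
universe u
open CategoryTheory CategoryTheory.Limits AlgebraicGeometry
open ParaF

namespace Groth.Agent.S3355

/-- Let A be a Noetherian local ring which is a quotient of a regular local ring, t an A-regular element
of the maximal ideal with A complete for the t-adic topology, X the punctured spectrum of A and Y =
V(t) ∩ X, and assume (a) depth A_p ≥ 2 for every prime p with dim A/p = 1. Assume moreover (c) depth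
A_p ≥ 3 for every prime p containing t with dim A/p = 1 (the closed points of Y), (d) depth A/tA ≥
4, and (e) A_p is parafactorial for every prime p not containing t with dim A/p = 1, i.e. at the
closed points of X outside Y (the published statement places this hypothesis at the points of Y;
here it is taken at the closed points of X outside Y; the letters (a), (c), (d), (e) match the names
of the hypotheses in the Lean statement). Then pull-back along Y → X induces a bijection Pic(X) →
Pic(Y) (trivial kernel and every invertible O_Y-module comes from an invertible O_X-module); in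
particular A is parafactorial if and only if A/tA is. -/
theorem result (R : Type u) [CommRing R] [IsRegularLocalRing R] (A : Type u) [CommRing A] [IsLocalRing A] [IsNoetherianRing A] (π : R →+* A) (hπ : Function.Surjective π) (t : A) (ht : t ∈ IsLocalRing.maximalIdeal A) (hreg : IsSMulRegular A t) [IsAdicComplete (Ideal.span {t}) A] (ha : ∀ p : PrimeSpectrum A, ringKrullDim (A ⧸ p.asIdeal) = 1 → (2 : ℕ∞) ≤ LocCoh.depth (Localization.AtPrime p.asIdeal) (Localization.AtPrime p.asIdeal)) (hc : ∀ p : PrimeSpectrum A, t ∈ p.asIdeal → ringKrullDim (A ⧸ p.asIdeal) = 1 → (3 : ℕ∞) ≤ LocCoh.depth (Localization.AtPrime p.asIdeal) (Localization.AtPrime p.asIdeal)) [IsLocalRing (A ⧸ Ideal.span {t})] (hd : (4 : ℕ∞) ≤ LocCoh.depth (A ⧸ Ideal.span {t}) (A ⧸ Ideal.span {t})) (he : ∀ p : PrimeSpectrum A, t ∉ p.asIdeal → ringKrullDim (A ⧸ p.asIdeal) = 1 → ParaF.IsParafactorialLocalRing (Localization.AtPrime p.asIdeal)) : (Formal2.PicPullbackInjective (((Spec.map (CommRingCat.ofHom (Ideal.Quotient.mk (Ideal.span {t})))).ker.comap (FEt.puncturedSpec A).ι)).subschemeι ∧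 Formal2.PicPullbackSurjective (((Spec.map (CommRingCat.ofHom (Ideal.Quotient.mk (Ideal.span {t})))).ker.comap (FEt.puncturedSpec A).ι)).subschemeι) ∧ (ParaF.IsParafactorialLocalRing A ↔ ParaF.IsParafactorialLocalRing (A ⧸ Ideal.span {t})) := by
  obtain ⟨hinj, hpara⟩ := Groth.Agent.S3354.result R A π hπ t ht hreg ha (le_trans (by norm_num) hd)
  have hiso := Groth.ParaLift82.isIso_toInter t
  refine ⟨⟨hinj, fun N hN => ?_⟩, fun hA => Groth.ParaLift82.isParafactorial_quotient ht hreg hd he hA, hpara⟩
  let j := Groth.ParaLift82.toInter t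
  obtain ⟨L, hL, ⟨i⟩⟩ := Groth.ParaLift82.exists_extension_of_depth ht hreg hd he
    ((Scheme.Modules.pullback j).obj N) (Groth.PicAux.isInvertible_pullback j hN)
  refine ⟨L, hL, ⟨?_⟩⟩
  let i' : (Scheme.Modules.pullback j).obj ((Scheme.Modules.pullback
      ((Groth.ParaLift82.quotMap (Ideal.span {t})).ker.comap (FEt.puncturedSpec A).ι).subschemeι).obj L) ≅
        (Scheme.Modules.pullback j).obj N :=
    (Scheme.Modules.pullbackComp j _).app L ≪≫
      (Scheme.Modules.pullbackCongr (Groth.ParaLift82.toInter_ι t)).app L ≪≫ i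
  exact ((Scheme.Modules.pullbackId _).app _).symm ≪≫
    ((Scheme.Modules.pullbackCongr (IsIso.inv_hom_id j)).app _).symm ≪≫
    (Groth.ParaFormal.pullbackPullback (inv j) j _).symm ≪≫ (Scheme.Modules.pullback (inv j)).mapIso i' ≪≫
    Groth.ParaFormal.pullbackPullback (inv j) j N ≪≫
    (Scheme.Modules.pullbackCongr (IsIso.inv_hom_id j)).app N ≪≫ (Scheme.Modules.pullbackId _).app N

end Groth.Agent.S3355
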