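import Groth.Statements.S3357
import Groth.Agent.LefPic.Global
import Groth.Agent.S2834
import Groth.Agent.S3353
import Groth.Agent.PicAux.RegularUFD

set_option autoImplicit false
universe u
open CategoryTheory CategoryTheory.Limits AlgebraicGeometry
open LefX

namespace Groth.Agent.S3357

/-- Let X be a locally Noetherian scheme, 𝓘 a coherent ideal with Y = V(𝓘), Y_p the closed subscheme
defined by 𝓘^(p+1), and n ≥ 0. Assume: (i) Leff(X, Y) holds; (ii) H^i(X, 𝓘^(p+1)/𝓘^(p+2)) = 0 for i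
= 1, 2 and every p ≥ n; (iii) for every open U ⊇ Y and every x outside U, the local ring O_{X,x} is
either regular of dimension ≥ 2 or a complete intersection (quotient of a regular local ring by a
regular sequence) of dimension ≥ 4. Then for every open U ⊇ Y and every p ≥ n the pull-back maps
Pic(X) → Pic(U) and Pic(U) → Pic(Y_p) are bijective. -/
theorem result (X : Scheme.{u}) [IsLocallyNoetherian X] (𝓘 : X.IdealSheafData) (n : ℕ) (h1 : LefX.LeffCond X 𝓘) (h2 : (∀ q : ℕ, n ≤ q → ∀ i : ℕ, (i = 1 ∨ i = 2) → Subsingleton (Coh.HH X (kernel (Lef.quotMap (Lef.pow_succ_le 𝓘 q))) i))) (h3 : ∀ U : X.Opens, (𝓘.support : Set X) ⊆ (U : Set X) → ∀ x : X, x ∉ U → (IsRegularLocalRing (X.presheaf.stalk x) ∧ (2 : WithBot ℕ∞) ≤ ringKrullDim (X.presheaf.stalk x)) ∨ (SGA2.IsAbsCompleteIntersection (X.presheaf.stalk x) ∧ (4 : WithBot ℕ∞) ≤ ringKrullDim (X.presheaf.stalk x))) (U : X.Opens) (hU : (𝓘.support : Set X) ⊆ (U : Set X)) (p : ℕ) (hp : n ≤ p) : (Formal2.PicPullbackInjective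 U.ι ∧ Formal2.PicPullbackSurjective U.ι) ∧ (Formal2.PicPullbackInjective ((𝓘.comap U.ι) ^ (p + 1)).subschemeι ∧ Formal2.PicPullbackSurjective ((𝓘.comap U.ι) ^ (p + 1)).subschemeι) := by
  have hpara : ∀ U : X.Opens, (𝓘.support : Set X) ⊆ (U : Set X) → ∀ x : X, x ∉ U →
      ParaF.IsParafactorialLocalRing (X.presheaf.stalk x) := fun U hU x hx => by
    rcases h3 U hU x hx with ⟨hreg, hd⟩ | ⟨hci, hd⟩
    · have := hreg
      have := Groth.Ega4Algebra1.isDomain_of_isRegularLocalRing (X.presheaf.stalk x)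
      exact Groth.Agent.S2834.result _ (Groth.PicAux.ufd_of_isRegularLocalRing _) hd
    · exact Groth.Agent.S3353.result _ hci hd
  exact ⟨Groth.LefPic.pic_open_of_parafactorial U (hpara U hU),
    Groth.LefPic.pic_thickening_of_open 𝓘 p h1 (fun m hm => h2 m (hp.trans hm) 1 (Or.inl rfl))
      (fun m hm => h2 m (hp.trans hm) 2 (Or.inr rfl)) hpara U hU⟩
end Groth.Agent.S3357
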