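import Groth.Statements.S3367
import Groth.Agent.ParaLift82.EtalePure
import Groth.Agent.Pi1Formal.Transport

set_option autoImplicit false
universe u
open CategoryTheory CategoryTheory.Limits AlgebraicGeometry Opposite
open EtDepth

namespace Groth.Agent.S3367

/-- Let X be a locally Noetherian scheme and j : U → X an open immersion with closed complement Y.
Assume either that every local ring of X is regular and dim O_{X,y} ≥ 2 for all y ∈ Y, or that every
local ring of X is a complete intersection (quotient of a regular local ring by a regular sequence)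
and dim O_{X,y} ≥ 3 for all y ∈ Y. Then the Y-homotopic depth of X is ≥ 3: for every scheme X' étale
over X, base change of finite étale covers from X' to X' ×_X U is an equivalence of categories. -/
theorem result {X U : Scheme.{u}} [IsLocallyNoetherian X] (j : U ⟶ X) [IsOpenImmersion j] (h : (∀ x : X, IsRegularLocalRing (X.presheaf.stalk x)) ∧ (∀ y : X, y ∉ Set.range j.base → (2 : WithBot ℕ∞) ≤ ringKrullDim (X.presheaf.stalk y)) ∨ (∀ x : X, SGA2.IsAbsCompleteIntersection (X.presheaf.stalk x)) ∧ (∀ y : X, y ∉ Set.range j.base → (3 : WithBot ℕ∞) ≤ ringKrullDim (X.presheaf.stalk y))) : EtDepth.HtpDepthGE3 j := by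
  intro X' g _
  have : IsLocallyNoetherian X' := LocallyOfFiniteType.isLocallyNoetherian g
  let p := pullback.snd j g
  have hpure : ∀ x : X', x ∉ p.opensRange → Groth.Pi1Formal.IsPureDeep (X'.presheaf.stalk x) := fun x hx => by
    have hy : g.base x ∉ Set.range j.base := fun ⟨u, hu⟩ => hx (by
      obtain ⟨z, -, hz⟩ := Scheme.Pullback.exists_preimage_pullback (f := j) (g := g) u x hu
      exact ⟨z, hz⟩)
    refine Groth.ParaLift82.isPureDeep_stalk_of_etale g x ?_
    rcases h with ⟨hr, hd⟩ | ⟨hc, hd⟩
    · exact Or.inl ⟨hr _, hd _ hy⟩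
    · exact Or.inr ⟨hc _, hd _ hy⟩
  have := Groth.Pi1Formal.isEquivalence_of_isPureDeep p.opensRange hpure
  rw [show pullback.snd j g = p.isoOpensRange.hom ≫ p.opensRange.ι from
    (p.isoOpensRange_hom_ι).symm]
  have : (FEt.restrict p.isoOpensRange.hom).IsEquivalence := inferInstance
  exact Functor.isEquivalence_of_iso (Groth.Pi1FEt.restrictCompIso p.isoOpensRange.hom p.opensRange.ι).symm

end Groth.Agent.S3367
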