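import Groth.Statements.S3372
import Groth.Agent.LocCohTransform.FormalDepth

set_option autoImplicit false
universe u
open CategoryTheory CategoryTheory.Limits AlgebraicGeometry
open Formal

namespace Groth.Agent.S3372

/-- Let A be a Noetherian local ring which is a quotient of a regular ring, and t a member of the
maximal ideal for which A is separated and complete in the t-adic topology; let X be the punctured
spectrum of A and F a coherent O_X-module on which multiplication by t is injective. Let n be a
natural number and assume that for every closed point x of X (the primes p with dim A/p = 1) the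
stalk F_x has depth ≥ n + 1 over O_{X,x}. Then the canonical map H^i(X, F) → lim_k H^i(X,
F/t^(k+1)F) is bijective for i < n and injective for i = n. -/
theorem result (R : Type u) [CommRing R] [IsRegularRing R] (A : Type u) [CommRing A] [IsLocalRing A] [IsNoetherianRing A] (π : R →+* A) (hπ : Function.Surjective π) (t : A) (ht : t ∈ IsLocalRing.maximalIdeal A) [IsAdicComplete (Ideal.span {t}) A] (F : (↑(FEt.puncturedSpec A) : Scheme.{u}).Modules) (hF : Coh.IsCoh F) (hreg : Mono (Formal.smulMod A F t)) (n : ℕ) (hdepth : ∀ x : (↑(FEt.puncturedSpec A) : Scheme.{u}), IsClosed ({x} : Set (↑(FEt.puncturedSpec A) : Scheme.{u})) → ((n + 1 : ℕ) : ℕ∞) ≤ LocCoh.depth ((↑(FEt.puncturedSpec A) : Scheme.{u}).presheaf.stalk x) (F.presheaf.stalk x)) (i : ℕ) : (i < n → Function.Bijective (Formal.toHHlim (Ideal.span {t}) F i)) ∧ (i = n → Function.Injective (Formal.toHHlim (Ideal.span {t}) F i)) := by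
  have hW : FEt.puncturedSpec A = LocCoh.puncturedOpen A (IsLocalRing.maximalIdeal A) := by
    ext x
    refine not_congr ⟨fun h => ?_, fun h => ?_⟩
    · rw [show x = IsLocalRing.closedPoint A from h]
      exact le_refl (IsLocalRing.maximalIdeal A)
    · exact PrimeSpectrum.ext ((IsLocalRing.maximalIdeal.isMaximal A).eq_of_le x.2.ne_top h).symm
  refine Groth.LocCohTransform.Punct.toHHlim_of_depth π hπ t (IsLocalRing.maximalIdeal A) _ hW F hF hreg n
    (fun x hx => hdepth x ?_) i
  rw [← closure_subset_iff_isClosed]
  intro y hy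
  by_contra hne
  let a : PrimeSpectrum A := (FEt.puncturedSpec A).ι.base x
  let b : PrimeSpectrum A := (FEt.puncturedSpec A).ι.base y
  have hs : x ⤳ y := specializes_iff_mem_closure.2 hy
  have hle : a ≤ b :=
    (PrimeSpectrum.le_iff_specializes _ _).2 (hs.map (FEt.puncturedSpec A).ι.continuous)
  have hlt : a < b :=
    lt_of_le_of_ne hle fun h => hne ((FEt.puncturedSpec A).ι.isOpenEmbedding.injective h).symm
  have hym : b < IsLocalRing.closedPoint A :=
    lt_of_le_of_ne (IsLocalRing.le_maximalIdeal (b).2.ne_top) y.2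
  obtain ⟨⟨q, hxq, hqm⟩, hq⟩ : ∃ q : {q : PrimeSpectrum A //
      a ≤ q ∧ IsLocalRing.maximalIdeal A ≤ q.asIdeal},
        Order.height (⟨q.1, q.2.1⟩ : Set.Ici (a)) ≤ 1 := by
    by_contra hcon
    push Not at hcon
    have h2 : (2 : ℕ∞) ≤ SGA2.relCodim (IsLocalRing.maximalIdeal A) (a) :=
      le_iInf fun q => by
        have := Order.add_one_le_of_lt (hcon q)
        simpa [one_add_one_eq_two] using this
    rw [show SGA2.relCodim (IsLocalRing.maximalIdeal A) a = 1 from hx] at h2
    exact absurd h2 (by decide)
  obtain rfl : q = IsLocalRing.closedPoint A :=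
    PrimeSpectrum.ext ((IsLocalRing.maximalIdeal.isMaximal A).eq_of_le q.2.ne_top hqm).symm
  have h1 : (⟨a, Set.self_mem_Ici⟩ : Set.Ici (a)) <
      ⟨b, hle⟩ := hlt
  have h2 : (⟨b, hle⟩ : Set.Ici (a)) <
      ⟨IsLocalRing.closedPoint A, hxq⟩ := hym
  have h3 := (Order.height_add_one_le h1).trans (le_refl _)
  have h5 := (add_le_add_left (le_add_self.trans h3) 1).trans ((Order.height_add_one_le h2).trans hq)
  exact absurd h5 (by decide)

end Groth.Agent.S3372
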