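import Groth.Statements.S3373
import Groth.Agent.CohDev.AlgzPrincipal.DepthTwo

set_option autoImplicit false
universe u
open CategoryTheory CategoryTheory.Limits AlgebraicGeometry
open FSch

namespace Groth.Agent.S3373

/-- Let A be a Noetherian local ring which is a quotient of a regular ring, t a member of the maximal
ideal for which A is separated and complete in the t-adic topology, X the punctured spectrum of A,
and 𝔉 a coherent module on the formal completion of X along V(t) ∩ X, given as a system (F_N) of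
coherent modules on the closed subschemes X_N = V(t^(N+1)) ∩ X with F_{N+1}|_{X_N} ≅ F_N. Assume (1)
t is 𝔉-regular, expressed on the system by: for every N ≥ 1 the kernel of multiplication by t^N on
F_N equals the image of multiplication by t; and (2) for every closed point y of X_0 the stalk of
F_0 at y has depth ≥ 2 over O_{X_0,y}. Then there is a coherent O_X-module F whose completion along
V(t) ∩ X is isomorphic to 𝔉. -/
theorem result (R : Type u) [CommRing R] [IsRegularRing R] (A : Type u) [CommRing A] [IsLocalRing A] [IsNoetherianRing A] (π : R →+* A) (hπ : Function.Surjective π) (t : A) (ht : t ∈ IsLocalRing.maximalIdeal A) [IsAdicComplete (Ideal.span {t}) A] (𝔐 : FSch.ModSys (FSch.completionAlong (↑(FEt.puncturedSpec A) : Scheme.{u}) ((Spec.map (CommRingCat.ofHom (Ideal.Quotient.mk (Ideal.span {t})))).ker.comap (FEt.puncturedSpec A).ι))) (hcoh : 𝔐.IsCoh) (hreg : ∀ N : ℕ, 1 ≤ N → kernelSubobject (Formal.smulModΓ (𝔐.F N) ((((FSch.completionToX (↑(FEt.puncturedSpec A) : Scheme.{u}) ((Spec.map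 (CommRingCat.ofHom (Ideal.Quotient.mk (Ideal.span {t})))).ker.comap (FEt.puncturedSpec A).ι) N) ≫ (FEt.puncturedSpec A).ι).appTop.hom ((Scheme.ΓSpecIso (CommRingCat.of A)).inv t)) ^ N)) = imageSubobject (Formal.smulModΓ (𝔐.F N) (((FSch.completionToX (↑(FEt.puncturedSpec A) : Scheme.{u}) ((Spec.map (CommRingCat.ofHom (Ideal.Quotient.mk (Ideal.span {t})))).ker.comap (FEt.puncturedSpec A).ι) N) ≫ (FEt.puncturedSpec A).ι).appTop.hom ((Scheme.ΓSpecIso (CommRingCat.of A)).inv t)))) (hdepth : ∀ y : ↥((FSch.completionAlong (↑(FEt.puncturedSpec A) : Scheme.{u}) ((Spec.map (CommRingCat.ofHom (Ideal.Quotient.mk (Ideal.span {t})))).ker.comap (FEt.puncturedSpec A).ι)).X 0), IsClosed ({y} : Set ↥((FSch.completionAlong (↑(FEt.puncturedSpec A) : Scheme.{u}) ((Spec.map (CommRingCat.ofHom (Ideal.Quotient.mk (Ideal.span {t})))).ker.comap (FEt.puncturedSpec A).ι)).X 0)) → (2 : ℕ∞) ≤ LocCoh.depth (((FSch.completionAlong (↑(FEt.puncturedSpec A) : Scheme.{u}) ((Spec.map (CommRingCat.ofHom (Ideal.Quotient.mk (Ideal.span {t})))).ker.comap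 (FEt.puncturedSpec A).ι)).X 0).presheaf.stalk y) ((𝔐.F 0).presheaf.stalk y)) : ∃ F : (↑(FEt.puncturedSpec A) : Scheme.{u}).Modules, Coh.IsCoh F ∧ Nonempty (FSch.completionMod ((Spec.map (CommRingCat.ofHom (Ideal.Quotient.mk (Ideal.span {t})))).ker.comap (FEt.puncturedSpec A).ι) F ≅ 𝔐) := by
  have hW : FEt.puncturedSpec A = LocCoh.puncturedOpen A (IsLocalRing.maximalIdeal A) := by
    ext x
    refine not_congr ⟨fun h => ?_, fun h => ?_⟩
    · rw [show x = IsLocalRing.closedPoint A from h]
      exact le_refl (IsLocalRing.maximalIdeal A)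
    · exact PrimeSpectrum.ext ((IsLocalRing.maximalIdeal.isMaximal A).eq_of_le x.2.ne_top h).symm
  refine Groth.CohDev.AlgzPrincipal.exists_algebraization_completionMod π hπ t (IsLocalRing.maximalIdeal A) _ hW
    𝔐 hcoh hreg (fun y hy => hdepth y ?_)
  rw [← closure_subset_iff_isClosed]
  intro z hz
  by_contra hne
  let g := FSch.completionToX (↑(FEt.puncturedSpec A) : Scheme.{u}) ((Spec.map (CommRingCat.ofHom (Ideal.Quotient.mk (Ideal.span {t})))).ker.comap (FEt.puncturedSpec A).ι) 0
  let a : PrimeSpectrum A := (FEt.puncturedSpec A).ι.base (g.base y)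
  let b : PrimeSpectrum A := (FEt.puncturedSpec A).ι.base (g.base z)
  have hs : g.base y ⤳ g.base z := (specializes_iff_mem_closure.2 hz).map g.continuous
  have hle : a ≤ b :=
    (PrimeSpectrum.le_iff_specializes _ _).2 (hs.map (FEt.puncturedSpec A).ι.continuous)
  have hlt : a < b :=
    lt_of_le_of_ne hle fun h => hne (g.isClosedEmbedding.injective ((FEt.puncturedSpec A).ι.isOpenEmbedding.injective h)).symm
  have hym : b < IsLocalRing.closedPoint A :=
    lt_of_le_of_ne (IsLocalRing.le_maximalIdeal (b).2.ne_top) (g.base z).2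
  obtain ⟨⟨q, hxq, hqm⟩, hq⟩ : ∃ q : {q : PrimeSpectrum A //
      a ≤ q ∧ IsLocalRing.maximalIdeal A ≤ q.asIdeal},
        Order.height (⟨q.1, q.2.1⟩ : Set.Ici (a)) ≤ 1 := by
    by_contra hcon
    push Not at hcon
    have h2 : (2 : ℕ∞) ≤ SGA2.relCodim (IsLocalRing.maximalIdeal A) (a) :=
      le_iInf fun q => by
        have := Order.add_one_le_of_lt (hcon q)
        simpa [one_add_one_eq_two] using this
    rw [show SGA2.relCodim (IsLocalRing.maximalIdeal A) a = 1 from hy] at h2
    exact absurd h2 (by decide)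
  obtain rfl : q = IsLocalRing.closedPoint A :=
    PrimeSpectrum.ext ((IsLocalRing.maximalIdeal.isMaximal A).eq_of_le q.2.ne_top hqm).symm
  have h1 : (⟨a, Set.self_mem_Ici⟩ : Set.Ici (a)) <
      ⟨b, hle⟩ := hlt
  have h2 : (⟨b, hle⟩ : Set.Ici (a)) <
      ⟨IsLocalRing.closedPoint A, hxq⟩ := hym
  have h3 := (Order.height_add_one_le h1).trans (le_refl _)
  have h5 := (add_le_add_left (le_add_self.trans h3) 1).trans ((Order.height_add_one_le h2).trans hq)
  exact absurd h5 (by decide)

end Groth.Agent.S3373
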