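import Groth.Statements.S3375
import Groth.Agent.GaloisBrauer.CdNorm
import Groth.Agent.EtaleDeep.Cons.AbBridge

set_option autoImplicit false
universe u
open CategoryTheory CategoryTheory.Limits AlgebraicGeometry Opposite
open EtDepth

namespace Groth.Agent.S3375

set_option backward.isDefEq.respectTransparency.types false

open CategoryTheory.Abelian Opposite Groth.GaloisBrauer.FieldTrace

theorem isTorsion_of_isLTorsion {K : Type u} [Field K] {ℓ : ℕ} (hℓ : 0 < ℓ)
    {F : EtCoh.Ab (Spec (CommRingCat.of K))} (hF : EtDepth.IsLTorsion ℓ F) : EtCoh.IsTorsion F := fun U s x => by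
  obtain ⟨V, g, hv, k, hk⟩ := hF U s x
  exact ⟨V, g, hv, isOfFinAddOrder_iff_nsmul_eq_zero.2 ⟨ℓ ^ k, pow_pos hℓ k, hk⟩⟩

theorem isLTorsion_of_killed {X : Scheme.{u}} {ℓ : ℕ} {F : EtCoh.Ab X} (h : ℓ • 𝟙 F = 0) :
    EtDepth.IsLTorsion ℓ F := fun U s x => ⟨U, 𝟙 U, ⟨x, rfl⟩, 1, by
  have hev : ∀ m : ℕ, ((m • 𝟙 F : F ⟶ F).hom.app (op U)) s = m • s := fun m => by
    induction m with
    | zero => simp
    | succ m ih => rw [succ_nsmul, succ_nsmul, ← ih]; rfl
  have h1 := hev ℓ
  rw [h] at h1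
  rw [pow_one, op_id, F.obj.map_id]
  exact h1.symm⟩

/-- The classes of an `ℓ`-torsion sheaf are `ℓ`-primary. -/
theorem eq_zero_of_prime_ne {K : Type u} [Field K] {ℓ p : ℕ} (hℓ : ℓ.Prime) (hp : p.Prime) (hne : p ≠ ℓ)
    {F : EtCoh.Ab (Spec (CommRingCat.of K))} (hF : EtDepth.IsLTorsion ℓ F) {q : ℕ}
    (y : EtCoh.H (Spec (CommRingCat.of K)) F q) (hy : p • y = 0) : y = 0 := by
  haveI : Mono (p • 𝟙 F) := mono_of_points _ fun N _ _ _ _ s hs => by
    rw [nsmul_id_app] at hs
    obtain ⟨V, g, ⟨v, -⟩, k, hk⟩ := hF (obj K N) s (default : PrimeSpectrum N)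
    refine map_injective F g v ((eq_zero_of_coprime (x := F.obj.map g.op s) (a := p) (b := ℓ ^ k) ?_ hk
      (Nat.Coprime.pow_right k ((Nat.coprime_primes hp hℓ).2 hne))).trans (map_zero _).symm)
    rw [← map_nsmul, hs, map_zero]
  haveI : Epi (p • 𝟙 F) := epi_of_points _ fun N _ _ _ _ s => by
    obtain ⟨V, g, ⟨v, -⟩, k, hk⟩ := hF (obj K N) s (default : PrimeSpectrum N)
    obtain ⟨N', i1, i2, i3, i4, a, z, -⟩ := exists_point_hom K V v
    have hk' : ℓ ^ k • F.obj.map (a ≫ g).op s = 0 := by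
      rw [op_comp, Functor.map_comp, ConcreteCategory.comp_apply, ← map_nsmul, hk, map_zero]
    obtain ⟨c, hc⟩ := exists_mul_eq_gcd_mul (A := F.obj.obj (op (obj K N'))) p (ℓ ^ k)
      (Nat.Coprime.pow_right k ((Nat.coprime_primes hp hℓ).2 hne)) _ hk'
    exact ⟨N', i1, i2, i3, i4, a ≫ g, c, (nsmul_id_app F p _ c).trans hc⟩
  haveI : IsIso (p • 𝟙 F) := isIso_of_mono_of_epi _
  refine (Ext.comp_mk₀_id y).symm.trans ?_
  show Ext.comp y (Ext.mk₀ (𝟙 F)) (add_zero q) = 0
  rw [← IsIso.hom_inv_id (p • 𝟙 F), ← Ext.mk₀_comp_mk₀, ← Ext.comp_assoc_of_third_deg_zero, comp_nsmul_id, hy]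
  exact Ext.zero_comp _ _ _ _ _
where
  exists_mul_eq_gcd_mul {A : Type (u + 1)} [AddCommGroup A] (a b : ℕ) (h : a.Coprime b) (s : A)
      (hb : b • s = 0) : ∃ c : A, a • c = s := by
    refine ⟨Nat.gcdA a b • s, ?_⟩
    have e := Nat.gcd_eq_gcd_ab a b
    rw [Nat.Coprime.gcd_eq_one h, Nat.cast_one] at e
    have e2 : ((a : ℤ) * Nat.gcdA a b + (b : ℤ) * Nat.gcdB a b) • s = s := by rw [← e, one_zsmul]
    rw [add_zsmul, mul_comm (b : ℤ), mul_zsmul, mul_zsmul, natCast_zsmul, natCast_zsmul, hb, smul_zero,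
      add_zero] at e2
    exact e2

/-- `cd_ℓ ≤ n` gives vanishing for `ℤ/ℓ` over finite separable extensions. -/
theorem subsingleton_zmod_of_cd {K : Type u} [Field K] {ℓ n : ℕ}
    (hcd : EtDepth.CohDimLLE (Spec (CommRingCat.of K)) ℓ n) (L : Type u) [Field L] [Algebra K L]
    [FiniteDimensional K L] [Algebra.IsSeparable K L] (q : ℕ) (hq : n < q) :
    Subsingleton (EtCoh.H (Spec (CommRingCat.of L)) (EtCoh.const _ (ZMod ℓ)) q) := by
  haveI := mor_isFinite K L
  haveI := (push_exact K L).1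
  haveI := (push_exact K L).2
  have h : Subsingleton (EtCoh.H (Spec (CommRingCat.of K))
      ((EtCoh.push (mor K L)).obj (EtCoh.const _ (ZMod ℓ))) q) := by
    refine hcd _ (isLTorsion_of_killed ?_) q hq
    rw [← CategoryTheory.Functor.map_id, ← Functor.map_nsmul, const_killed, Functor.map_zero]
  refine ((Equiv.ofBijective _ (Groth.EtaleBase.InjCoh.HofPush_bijective (mor K L)
    (EtCoh.const _ (ZMod ℓ)) (fun j hj => Groth.EtaleBase.isZero_Rpush (mor K L) _ j hj) q))).symm.subsingleton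

theorem nontrivial_H_zero {K : Type u} [Field K] {F : EtCoh.Ab (Spec (CommRingCat.of K))}
    (e : F.obj.obj (op (EtCoh.top _))) (he : e ≠ 0) : Nontrivial (EtCoh.H (Spec (CommRingCat.of K)) F 0) := by
  refine ⟨Ext.mk₀ ((Groth.EtaleBase.EtLimit.Resn.ev F).symm e), 0, fun h => he ?_⟩
  have h' : (Groth.EtaleBase.EtLimit.Resn.ev F).symm e = 0 :=
    (Ext.mk₀_bijective _ _).1 (h.trans (Ext.mk₀_zero _ _).symm)
  exact (Groth.EtaleBase.EtLimit.Resn.ev F).symm.injective (h'.trans (map_zero _).symm)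

/-- Top degree cohomology of a nonzero sheaf with `ℓ`-group Galois action. -/
theorem nontrivial_of_gen {L : Type u} [Field L] (M : Type u) [Field M] [Algebra L M] [FiniteDimensional L M]
    [IsGalois L M] (ℓ : ℕ) [Fact ℓ.Prime] {m : ℕ} (hdeg : Module.finrank L M = ℓ ^ m) (n : ℕ)
    (hz : Subsingleton (EtCoh.H (Spec (CommRingCat.of L)) (EtCoh.const _ (ZMod ℓ)) (n + 1)))
    (hz' : 0 < n → Nontrivial (EtCoh.H (Spec (CommRingCat.of L)) (EtCoh.const _ (ZMod ℓ)) n))
    (F : EtCoh.Ab (Spec (CommRingCat.of L))) (hgen : Gen F M) [Finite (F.obj.obj (op (obj L M)))]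
    [Nontrivial (F.obj.obj (op (obj L M)))] (hp : ∀ s : F.obj.obj (op (obj L M)), ∃ k : ℕ, ℓ ^ k • s = 0) :
    Nontrivial (EtCoh.H (Spec (CommRingCat.of L)) F n) := by
  induction h : Nat.card (F.obj.obj (op (obj L M))) using Nat.strong_induction_on generalizing F with
  | _ N ih =>
    have hdvd : ℓ ∣ Nat.card (F.obj.obj (op (obj L M))) := by
      obtain ⟨s, hs⟩ := exists_ne (0 : F.obj.obj (op (obj L M)))
      obtain ⟨k, hk⟩ := hp s
      obtain ⟨j, -, hj⟩ := (Nat.dvd_prime_pow Fact.out).1 (addOrderOf_dvd_of_nsmul_eq_zero hk)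
      refine dvd_trans ?_ (addOrderOf_dvd_natCard s)
      rw [hj]
      exact dvd_pow_self ℓ fun h0 => hs (AddMonoid.addOrderOf_eq_one_iff.1 (by rw [hj, h0, pow_zero]))
    obtain ⟨e, he, he0⟩ := exists_torsion_global ℓ hdeg hdvd
    rcases Nat.eq_zero_or_pos n with hn | hn
    · subst hn
      exact nontrivial_H_zero e he0
    haveI := mono_zmodMap e he he0
    let ι := zmodMap e he
    have hS := Groth.CohFin.cokerSeq_shortExact' ι
    have hsurj := hgen.surjective_app (cokernel.π ι)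
    haveI : Finite ((cokernel ι).obj.obj (op (obj L M))) := Finite.of_surjective _ hsurj
    rcases subsingleton_or_nontrivial ((cokernel ι).obj.obj (op (obj L M))) with hsub | hnon
    · haveI := hsub
      have h1 : 𝟙 (cokernel ι) = 0 := by
        have := card_nsmul_eq_zero_of_gen (hgen.of_epi (cokernel.π ι))
        rwa [Nat.card_of_subsingleton (0 : (cokernel ι).obj.obj (op (obj L M))), one_nsmul] at this
      haveI : Epi ι := Preadditive.epi_of_cokernel_zero ((Category.comp_id _).symm.trans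
        ((congrArg (cokernel.π ι ≫ ·) h1).trans comp_zero))
      haveI : IsIso ι := isIso_of_mono_of_epi _
      haveI := hz' hn
      refine Function.Injective.nontrivial (f := fun x : EtCoh.H (Spec (CommRingCat.of L))
        (EtCoh.const _ (ZMod ℓ)) n => (x.comp (Ext.mk₀ ι) (add_zero n) : EtCoh.H _ F n)) fun a b hab => ?_
      have := congrArg (fun z => Ext.comp z (Ext.mk₀ (inv ι)) (add_zero n)) hab
      simpa only [Ext.comp_assoc_of_third_deg_zero, Ext.mk₀_comp_mk₀, IsIso.hom_inv_id, Ext.comp_mk₀_id] using this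
    · haveI := hnon
      have hlt : Nat.card ((cokernel ι).obj.obj (op (obj L M))) < N := by
        rw [← h]
        letI := Fintype.ofFinite (F.obj.obj (op (obj L M)))
        letI := Fintype.ofFinite ((cokernel ι).obj.obj (op (obj L M)))
        rw [Nat.card_eq_fintype_card, Nat.card_eq_fintype_card]
        refine Fintype.card_lt_of_surjective_not_injective _ hsurj fun hinj => he0 ?_
        refine map_top_injective F (toTop (obj L M)) (default : PrimeSpectrum M) (hinj ?_)
        rw [map_zero, map_zero]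
        have h1 : ι.hom.app (op (obj L M)) (constSec _ (1 : ZMod ℓ)) = F.obj.map (toTop (obj L M)).op e := by
          rw [zmodMap_constSec]
          refine congrArg _ ?_
          have h1' := ZMod.lift_coe ℓ ⟨zmultiplesHom _ e, show ((ℓ : ℤ) • e = 0) by rw [natCast_zsmul]; exact he⟩ 1
          rw [Int.cast_one] at h1'
          exact h1'.trans (one_zsmul e)
        rw [← h1]
        show (ι ≫ cokernel.π ι).hom.app _ _ = 0
        rw [cokernel.condition]
        rfl
      obtain ⟨y, hy⟩ := @exists_ne _ (ih _ hlt (cokernel ι) (hgen.of_epi (cokernel.π ι)) (fun s => by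
        obtain ⟨t, rfl⟩ := hsurj s
        obtain ⟨k, hk⟩ := hp t
        exact ⟨k, by rw [← map_nsmul, hk, map_zero]⟩) rfl) 0
      obtain ⟨x, hx⟩ := Ext.covariant_sequence_exact₃ _ hS y (n₁ := n + 1) rfl
        (@Subsingleton.elim _ hz _ _)
      exact ⟨x, 0, fun h0 => hy (by rw [← hx, h0, Ext.zero_comp])⟩

/-- Let K be a field, ℓ a prime number invertible in K, and F a nonzero constructible ℓ-torsion abelian
sheaf on the small étale site of Spec K. Suppose the ℓ-cohomological dimension of K is exactly n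
(cohomology of ℓ-torsion sheaves vanishes above degree n, and not above any smaller degree). Then
there is a finite separable extension L of K such that H^n(Spec L, F|_L) is nonzero. -/
theorem result (K : Type u) [Field K] (ℓ : ℕ) (hℓ : ℓ.Prime) (hℓK : (ℓ : K) ≠ 0) (F : EtCoh.Ab (Spec (CommRingCat.of K))) (hF : EtDepth.IsLTorsion ℓ F) (hFc : EtPBC.IsConstructible F) (hF0 : ¬ IsZero F) (n : ℕ) (hcd : EtDepth.CohDimLLE (Spec (CommRingCat.of K)) ℓ n) (hcd' : ∀ d : ℕ, d < n → ¬ EtDepth.CohDimLLE (Spec (CommRingCat.of K)) ℓ d) : ∃ (L : Type u) (_ : Field L) (_ : Algebra K L) (_ : Module.Finite K L) (_ : Algebra.IsSeparable K L), Nontrivial (EtCoh.H (Spec (CommRingCat.of L)) ((EtCoh.pull (Spec.map (CommRingCat.ofHom (algebraMap K L)))).obj F) n) := by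
  haveI : Fact ℓ.Prime := ⟨hℓ⟩
  obtain ⟨M0, _, _, _, _, hM0⟩ : ∃ (M0 : Type u) (_ : Field M0) (_ : Algebra K M0) (_ : FiniteDimensional K M0)
      (_ : Algebra.IsSeparable K M0),
      0 < n → ¬ Subsingleton (EtCoh.H (Spec (CommRingCat.of M0)) (EtCoh.const _ (ZMod ℓ)) n) := by
    by_contra hcon
    push Not at hcon
    obtain ⟨hn, -⟩ := hcon K inferInstance inferInstance inferInstance inferInstance
    refine hcd' (n - 1) (by omega) fun G hG q hq => ?_
    rcases (show n ≤ q by omega).eq_or_lt with rfl | hlt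
    · refine subsingleton_of_forall_eq 0 fun x => eq_zero_of_primes (exists_nsmul_eq_zero K G n hn x)
        fun p hp y hy => ?_
      by_cases hpl : p = ℓ
      · subst hpl
        exact eq_zero_of_zmod K p n hn (fun L _ _ _ _ => (hcon L inferInstance inferInstance inferInstance
          inferInstance).2) G (isTorsion_of_isLTorsion hp.pos hG) y ⟨1, by rw [pow_one]; exact hy⟩
      · exact eq_zero_of_prime_ne hℓ hp hpl hG y hy
    · exact hcd G hG q hlt
  obtain ⟨M, _, _, _, _, _, hgen⟩ := exists_gen F fun Ω _ _ ξ =>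
    Groth.EtaleDeep.Cons.finite_stalk_of_isConstructibleAb hFc ξ
  obtain ⟨N, _, _, _, _, ⟨a⟩, ⟨b⟩⟩ := exists_common (K := K) M M0
  obtain ⟨M', _, _, _, _, ⟨ι⟩⟩ := exists_galois K N
  let c : obj K M' ⟶ obj K M := (homEquiv K (L := N) (M := M')).symm ι ≫ a
  have hgen' : Gen F M' := fun N' _ _ _ _ d y => by
    obtain ⟨t, ht⟩ := hgen N' (d ≫ c) y
    exact ⟨F.obj.map c.op t, ((ConcreteCategory.comp_apply _ _ t).symm.trans
      (by rw [← Functor.map_comp, ← op_comp])).trans ht⟩
  haveI : Finite (F.obj.obj (op (obj K M'))) := Finite.of_surjective _ (hgen M' c)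
  haveI : Nontrivial (F.obj.obj (op (obj K M'))) := by
    by_contra hn
    rw [not_nontrivial_iff_subsingleton] at hn
    refine hF0 ((IsZero.iff_id_eq_zero F).2 ?_)
    have := card_nsmul_eq_zero_of_gen hgen'
    rwa [Nat.card_of_subsingleton (0 : F.obj.obj (op (obj K M'))), one_nsmul] at this
  let ι0 : M0 →ₐ[K] M' := homEquiv K ((homEquiv K (L := N) (M := M')).symm ι ≫ b)
  letI : Algebra M0 M' := ι0.toRingHom.toAlgebra
  haveI : IsScalarTower K M0 M' := IsScalarTower.of_algebraMap_eq fun r => (ι0.commutes r).symm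
  haveI : FiniteDimensional M0 M' := Module.Finite.of_restrictScalars_finite K M0 M'
  haveI : IsGalois M0 M' := IsGalois.tower_top_of_isGalois K M0 M'
  obtain ⟨P⟩ := (Sylow.nonempty : Nonempty (Sylow ℓ (M' ≃ₐ[M0] M')))
  let L := IntermediateField.fixedField (P : Subgroup (M' ≃ₐ[M0] M'))
  have hdeg : ¬ ℓ ∣ Module.finrank M0 L := by
    rw [IntermediateField.finrank_eq_fixingSubgroup_index, IntermediateField.fixingSubgroup_fixedField]
    exact P.not_dvd_index
  obtain ⟨m, hm⟩ := P.2.exists_card_eq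
  have hLM : Module.finrank L M' = ℓ ^ m := by rw [IntermediateField.finrank_fixedField_eq_card, hm]
  haveI : IsScalarTower K L M' := IsScalarTower.of_algebraMap_eq fun r => by
    rw [IsScalarTower.algebraMap_apply K M0 M', IsScalarTower.algebraMap_apply K M0 L]; rfl
  haveI : FiniteDimensional K L := Module.Finite.trans M0 L
  haveI : Algebra.IsSeparable K L := Algebra.IsSeparable.trans K M0 L
  obtain ⟨hgenL, hfinL⟩ := Gen.pull L M' F hgen'
  refine ⟨L, inferInstance, inferInstance, inferInstance, inferInstance, ?_⟩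
  haveI := mor_etale K L
  haveI := Groth.EtaleBase.InjCoh.jCont (mor K L)
  let e := (Groth.EtaleBase.pullRestrIso (mor K L)).app F
  let φ : F.obj.obj (op (obj K M')) → ((EtCoh.pull (mor K L)).obj F).obj.obj (op (obj L M')) := fun t =>
    e.inv.hom.app (op (obj L M')) (F.obj.map (compObjIso L M').hom.op t)
  have hφ : Function.Injective φ := fun x y hxy => by
    have h1 := congrArg (e.hom.hom.app (op (obj L M'))) hxy
    have key : ∀ z, e.hom.hom.app (op (obj L M')) (e.inv.hom.app (op (obj L M')) z) = z := fun z =>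
      (ConcreteCategory.comp_apply _ _ z).symm.trans
        (by rw [← NatTrans.comp_app, show e.inv.hom ≫ e.hom.hom = 𝟙 _ from congrArg (fun w => w.hom) e.inv_hom_id]; rfl)
    exact map_injective F (compObjIso L M').hom (default : PrimeSpectrum M')
      ((key _).symm.trans (h1.trans (key _)))
  haveI : Nontrivial (((EtCoh.pull (mor K L)).obj F).obj.obj (op (obj L M'))) := hφ.nontrivial
  refine nontrivial_of_gen M' ℓ hLM n (subsingleton_zmod_of_cd hcd L (n + 1) n.lt_succ_self) (fun hn => ?_)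
    _ hgenL fun s => ?_
  · obtain ⟨x, hx⟩ := @exists_ne _ (not_subsingleton_iff_nontrivial.1 (hM0 hn)) 0
    by_contra hcon
    rw [not_nontrivial_iff_subsingleton] at hcon
    refine hx (eq_zero_of_coprime (nsmul_eq_zero_of_killed (const_killed (K := M0) ℓ) x)
      (finrank_nsmul_eq_zero M0 L _ n x ?_) ((Nat.Prime.coprime_iff_not_dvd hℓ).2 hdeg))
    have := congrArg (fun z => Ext.comp z (Ext.mk₀ (EtCore.pullConst (mor M0 L) (ZMod ℓ)).inv) (add_zero n))
      (Subsingleton.elim ((EtCore.Hpull (mor M0 L) _ n x).comp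
        (Ext.mk₀ (EtCore.pullConst (mor M0 L) (ZMod ℓ)).hom) (add_zero n) :
          EtCoh.H (Spec (CommRingCat.of L)) (EtCoh.const _ (ZMod ℓ)) n) 0)
    simpa only [Ext.comp_assoc_of_third_deg_zero, Ext.mk₀_comp_mk₀, Iso.hom_inv_id, Ext.comp_mk₀_id,
      Ext.zero_comp] using this
  · let t := F.obj.map (compObjIso L M').inv.op (e.hom.hom.app (op (obj L M')) s)
    obtain ⟨V, g, ⟨v, -⟩, k, hk⟩ := hF (obj K M') t (default : PrimeSpectrum M')
    have ht : ℓ ^ k • t = 0 :=
      map_injective F g v (((map_nsmul _ _ _).trans hk).trans (map_zero _).symm)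
    refine ⟨k, ?_⟩
    have hs : φ t = s := by
      refine (congrArg (e.inv.hom.app (op (obj L M'))) ((map_map F _ _ _).trans
        ((congrArg (fun z => F.obj.map z.op _) (compObjIso L M').hom_inv_id).trans (map_id' F _)))).trans ?_
      exact (ConcreteCategory.comp_apply _ _ s).symm.trans
        (by rw [← NatTrans.comp_app, show e.hom.hom ≫ e.inv.hom = 𝟙 _ from congrArg (fun w => w.hom) e.hom_inv_id]; rfl)
    rw [← hs]
    exact ((map_nsmul _ _ _).symm.trans (congrArg _ (map_nsmul _ _ _).symm)).trans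
      ((congrArg _ ((congrArg _ ht).trans (map_zero _))).trans (map_zero _))

end Groth.Agent.S3375
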