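import Groth.Statements.S3387
import Groth.Agent.FibreDim.Semicontinuity

set_option autoImplicit false
open CategoryTheory AlgebraicGeometry
universe u
open EGA43

namespace Groth.Agent.S3387

/-- Let f : X ⟶ Y be locally of finite type and closed (as a map of underlying spaces). Then for every
natural number n the set of points y of Y whose fibre has dimension at least n is closed; that is,
the dimension of the fibre is upper semicontinuous on Y. -/
theorem result {X Y : Scheme.{u}} (f : X ⟶ Y) [LocallyOfFiniteType f]
    (hf : IsClosedMap f.base) (n : ℕ) :
    IsClosed {y : Y | (n : WithBot ℕ∞) ≤ topologicalKrullDim ↥(f.fiber y)} := by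
  cases n with
  | zero =>
    convert hf.isClosed_range using 1
    ext y
    rw [Set.mem_ofPred_eq]
    by_cases hy : y ∈ Set.range f.base
    · obtain ⟨x, rfl⟩ := hy
      haveI : Nonempty (f.fiber (f.base x)) := ⟨f.asFiber x⟩
      simp only [CharP.cast_eq_zero, Set.mem_range_self, iff_true]
      exact Groth.SpectralTopology.topologicalKrullDim_nonneg
    · simp only [hy, iff_false]
      intro h
      have hb := (Groth.FibreDim.isEmpty_fiber_iff f y).2 hy
      exact absurd (h.trans hb) (not_le.2 (WithBot.bot_lt_coe _))
  | succ n =>
    convert (Groth.FibreDim.isOpen_dim_fiber_le f hf (n : WithBot ℕ∞)).isClosed_compl using 1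
    ext y
    simp only [Set.mem_ofPred_eq, Set.mem_compl_iff]
    generalize topologicalKrullDim ↥(f.fiber y) = d
    cases d with
    | bot => simp
    | coe d =>
      rw [← WithBot.coe_natCast, ← WithBot.coe_natCast, WithBot.coe_le_coe, WithBot.coe_le_coe,
        not_le, Nat.cast_succ, ENat.add_one_le_iff (ENat.natCast_ne_top n)]

end Groth.Agent.S3387
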