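import Groth.Statements.S3390
import Groth.Agent.FibreDim.DimFormulaCor

set_option autoImplicit false
open CategoryTheory AlgebraicGeometry
universe u
open EGA43

namespace Groth.Agent.S3390

/-- Let Y be an irreducible locally Noetherian scheme with generic point η and X an irreducible scheme,
and let f : X ⟶ Y be dominant and locally of finite type. Take a point x of X and write y = f x.
Suppose dim O_{X,x} = dim O_{Y,y} + dim O_{X_y,x}. Then the local dimension of the fibre X_y at x
(FlatMor.fibreDimAt f x) equals the dimension of the generic fibre X_η (i.e. f is equidimensional at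
x). -/
theorem result {X Y : Scheme.{u}} [IrreducibleSpace X] [IrreducibleSpace Y]
    [IsLocallyNoetherian Y] (f : X ⟶ Y) [LocallyOfFiniteType f] [IsDominant f] (x : X)
    (h : ringKrullDim (X.presheaf.stalk x) =
        ringKrullDim (Y.presheaf.stalk (f.base x)) + ringKrullDim ((f.fiber (f.base x)).presheaf.stalk (f.asFiber x))) :
    FlatMor.fibreDimAt f x = topologicalKrullDim ↥(f.fiber (genericPoint Y)) := by
  obtain ⟨a, b, e, t, t₀, ha, hb, he, hfd, ht₀, h1, h2, -⟩ :=
    Groth.FibreDim.exists_dim_formula_nat f x
  rw [ha, hb, he] at h
  norm_cast at h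
  rw [hfd, ht₀]
  norm_cast
  omega

end Groth.Agent.S3390
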