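import Groth.Statements.S3391
import Groth.Agent.FibreDim.DimFormulaCor

set_option autoImplicit false
open CategoryTheory AlgebraicGeometry
universe u
open EGA43

namespace Groth.Agent.S3391

/-- With X, Y, f, x, y as in the first assertion, suppose O_{Y,y} is universally catenary and the local
dimension at x of the fibre through x equals the dimension of the generic fibre. Then dim O_{X,x} =
dim O_{Y,y} + dim O_{X_y,x}. -/
theorem result {X Y : Scheme.{u}} [IrreducibleSpace X] [IrreducibleSpace Y]
    [IsLocallyNoetherian Y] (f : X ⟶ Y) [LocallyOfFiniteType f] [IsDominant f] (x : X)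
    (hcat : CAlg.IsUniversallyCatenary (Y.presheaf.stalk (f.base x)))
    (h : FlatMor.fibreDimAt f x = topologicalKrullDim ↥(f.fiber (genericPoint Y))) :
    ringKrullDim (X.presheaf.stalk x) =
        ringKrullDim (Y.presheaf.stalk (f.base x)) + ringKrullDim ((f.fiber (f.base x)).presheaf.stalk (f.asFiber x)) := by
  obtain ⟨a, b, e, t, t₀, ha, hb, he, hfd, ht₀, h1, h2, h3⟩ :=
    Groth.FibreDim.exists_dim_formula_nat f x
  have := h3 hcat
  rw [hfd, ht₀] at h
  norm_cast at h
  rw [ha, hb, he]
  norm_cast
  omega

end Groth.Agent.S3391
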