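import Groth.Statements.S3393
import Groth.Agent.FibreDim.Equidim
import Groth.Agent.FibreDim.StalkFormula

set_option autoImplicit false
open CategoryTheory AlgebraicGeometry
universe u
open EGA43

namespace Groth.Agent.S3393

/-- Let Y be an irreducible locally Noetherian scheme with generic point η, f : X ⟶ Y a morphism of
finite type and y a point of Y. Condition (b): for every point z of the fibre over y at which the
local ring of the fibre has dimension 0, dim O_{X,z} = dim O_{Y,y}. Condition (c): for every such z
there is an irreducible component X' of X containing z such that the dimension of X' ∩ f⁻¹(η)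
(topology induced from X) equals the local dimension at z of the fibre over y (the dimension of the
irreducible component of the fibre with generic point z). Then (b) implies (c), and (c) implies (b)
if O_{Y,y} is universally catenary. -/
theorem result {X Y : Scheme.{u}} [IrreducibleSpace Y] [IsLocallyNoetherian Y]
    (f : X ⟶ Y) [LocallyOfFiniteType f] [QuasiCompact f] (y : Y) :
    ((∀ z : X, f.base z = y → ringKrullDim ((f.fiber (f.base z)).presheaf.stalk (f.asFiber z)) = 0 →
        ringKrullDim (X.presheaf.stalk z) = ringKrullDim (Y.presheaf.stalk (f.base z))) →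
      (∀ z : X, f.base z = y → ringKrullDim ((f.fiber (f.base z)).presheaf.stalk (f.asFiber z)) = 0 →
        ∃ X' ∈ irreducibleComponents (X : Type u), z ∈ X' ∧
          topologicalKrullDim ↥(X' ∩ f.base ⁻¹' {genericPoint Y}) = FlatMor.fibreDimAt f z)) ∧
    (CAlg.IsUniversallyCatenary (Y.presheaf.stalk y) →
      (∀ z : X, f.base z = y → ringKrullDim ((f.fiber (f.base z)).presheaf.stalk (f.asFiber z)) = 0 →
        ∃ X' ∈ irreducibleComponents (X : Type u), z ∈ X' ∧
          topologicalKrullDim ↥(X' ∩ f.base ⁻¹' {genericPoint Y}) = FlatMor.fibreDimAt f z) →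
      (∀ z : X, f.base z = y → ringKrullDim ((f.fiber (f.base z)).presheaf.stalk (f.asFiber z)) = 0 →
        ringKrullDim (X.presheaf.stalk z) = ringKrullDim (Y.presheaf.stalk (f.base z)))) := by
  haveI : IsLocallyNoetherian X := LocallyOfFiniteType.isLocallyNoetherian f
  have hmaxfib : ∀ z : X, ringKrullDim ((f.fiber (f.base z)).presheaf.stalk (f.asFiber z)) = 0 →
      ∀ z', f.base z' = f.base z → z' ⤳ z → z' = z := fun z h0 => by
    refine (Groth.FibreDim.isMax_asFiber_iff f z).1 (Order.coheight_eq_zero.1 ?_)
    rw [ringKrullDim_stalk_eq_coheight] at h0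
    exact_mod_cast h0
  refine ⟨fun hb z hz h0 => ?_, fun hcat hc z hz h0 => ?_⟩
  · obtain ⟨ξ, hξ, hξz, hfmax, hd⟩ :=
      Groth.FibreDim.exists_component_of_dim_eq f (hmaxfib z h0) (hb z hz h0)
    refine ⟨closure {ξ}, Groth.FibreDim.mem_irreducibleComponents_of_isMax hξ,
      specializes_iff_mem_closure.1 hξz, ?_⟩
    rw [← Groth.FibreDim.eq_genericPoint_of_isMax hfmax, Groth.FibreDim.dim_closure_inter_fibre, ← hd,
      (Groth.FibreDim.fibreDimAt_eq_height_of_max f fun w _ hw => (hw.antisymm (hξ hw)).eq).1]
  · refine le_antisymm ((Groth.FibreDim.ringKrullDim_stalk_le_add f z).trans (by rw [h0, add_zero])) ?_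
    obtain ⟨X', hX', hzX, hdim⟩ := hc z hz h0
    have hg := hX'.1.isGenericPoint_genericPoint (isClosed_of_mem_irreducibleComponents _ hX')
    set ξ := hX'.1.genericPoint
    obtain ⟨D, hD⟩ := Groth.FibreDim.fibreDimAt_ne_top f z
    rw [hD] at hdim
    have hη : f.base ξ = genericPoint Y := by
      obtain ⟨w, hw1, hw2⟩ : (X' ∩ f.base ⁻¹' {genericPoint Y}).Nonempty := by
        by_contra hne
        rw [Set.not_nonempty_iff_eq_empty.1 hne] at hdim
        haveI : IsEmpty ↥(∅ : Set X) := Set.isEmpty_coe_sort.2 rfl
        haveI : IsEmpty (TopologicalSpace.IrreducibleCloseds ↥(∅ : Set X)) :=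
          ⟨fun C => C.2.nonempty.elim fun a _ => isEmptyElim a⟩
        rw [topologicalKrullDim, Order.krullDim_eq_bot] at hdim
        simp at hdim
      have h1 : f.base ξ ⤳ genericPoint Y := hw2 ▸ (hg.specializes hw1).map f.continuous
      exact (h1.antisymm (genericPoint_specializes _)).eq
    have hξz : ξ ⤳ z := hg.specializes hzX
    obtain ⟨t, t₀, a, b, ht, ht₀, -, heq, ha, -, -, -, hball, -, -, -⟩ :=
      Groth.FibreDim.exists_dim_formula_along f hξz
    rw [← hη, ← hg.def, Groth.FibreDim.dim_closure_inter_fibre, ht₀] at hdim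
    rw [(Groth.FibreDim.fibreDimAt_eq_height_of_max f (hmaxfib z h0)).1, ht] at hD
    have h1 : t₀ = D := by exact_mod_cast hdim
    have h2 : t = D := by exact_mod_cast hD
    have h3 := heq (hz ▸ hcat)
    have h4 := hball fun w _ => hη ▸ genericPoint_specializes w
    rw [ringKrullDim_stalk_eq_coheight, ringKrullDim_stalk_eq_coheight, ← h4]
    refine le_trans ?_ (WithBot.coe_le_coe.2 ha)
    norm_cast
    omega

end Groth.Agent.S3393
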