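import Groth.Statements.S3394
import Mathlib
import Groth.Agent.Variety2.DimAffine

set_option autoImplicit false
open CategoryTheory AlgebraicGeometry
universe u
open EGA43
open scoped TensorProduct

namespace Groth.Agent.S3394

attribute [local instance] MvPolynomial.algebraMvPolynomial


open MvPolynomial TensorProduct

/-- Noether normalisation of a fibre by elements of the ambient algebra. -/
theorem exists_finite_aeval {A B κ : Type u} [CommRing A] [CommRing B] [Field κ] [Algebra A B]
    [Algebra A κ] [Algebra.FiniteType A B] (hκ : (algebraMap A κ).SurjectiveOnStalks)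
    (e : ℕ) (he : ringKrullDim (κ ⊗[A] B) = e) :
    ∃ b : ULift.{u} (Fin e) → B,
      (aeval (R := κ) fun i => (1 : κ) ⊗ₜ[A] b i).toRingHom.Finite := by
  have : Nontrivial (κ ⊗[A] B) := by
    by_contra h
    rw [not_nontrivial_iff_subsingleton] at h
    rw [ringKrullDim_eq_bot_of_subsingleton] at he
    cases he
  obtain ⟨s, g, hinj, hfin⟩ := exists_finite_inj_algHom_of_fg κ (κ ⊗[A] B)
  have hs : s = e := by
    letI := g.toRingHom.toAlgebra
    haveI : Module.Finite (MvPolynomial (Fin s) κ) (κ ⊗[A] B) := hfin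
    rw [Groth.Variety2.Dim.ringKrullDim_eq_of_isIntegral (MvPolynomial (Fin s) κ) (κ ⊗[A] B) hinj,
      MvPolynomial.ringKrullDim_of_isNoetherianRing, ringKrullDim_eq_zero_of_field] at he
    simpa using he
  subst hs
  have key : ∀ x : κ ⊗[A] B, ∃ (c : κ) (a : B), c ≠ 0 ∧ (1 : κ) ⊗ₜ[A] a = c • x := by
    intro x
    obtain ⟨t, r, a, ht, h⟩ := hκ.exists_mul_eq_tmul (S := B)
      (Algebra.TensorProduct.comm A κ B x) ⊥ Ideal.isPrime_bot
    have ht' : r • t ≠ 0 := ht
    have ht0 : t ≠ 0 := fun h0 => ht' (by rw [h0, smul_zero])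
    refine ⟨algebraMap A κ r, a, fun h0 => ht' (by rw [Algebra.smul_def, h0, zero_mul]), ?_⟩
    have h2 := congrArg (Algebra.TensorProduct.comm A κ B).symm h
    simp only [map_mul, AlgEquiv.symm_apply_apply, Algebra.TensorProduct.comm_symm_tmul] at h2
    calc (1 : κ) ⊗ₜ[A] a = t⁻¹ • (t ⊗ₜ[A] a) := by
          rw [TensorProduct.smul_tmul', smul_eq_mul, inv_mul_cancel₀ ht0]
      _ = t⁻¹ • ((r • t) • x) := by
          rw [← h2, Algebra.smul_def (r • t) x]; rfl
      _ = _ := by
          rw [smul_smul, Algebra.smul_def r t]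
          congr 1
          field_simp
  choose c b hc hb using fun i : ULift.{u} (Fin s) => key (g (X i.down))
  refine ⟨b, ?_⟩
  let σ : MvPolynomial (ULift.{u} (Fin s)) κ →ₐ[κ] MvPolynomial (Fin s) κ :=
    aeval fun i => c i • X i.down
  have hσ : Function.Surjective σ := by
    rw [← AlgHom.range_eq_top, eq_top_iff, ← MvPolynomial.adjoin_range_X]
    refine Algebra.adjoin_le ?_
    rintro _ ⟨j, rfl⟩
    exact ⟨(c ⟨j⟩)⁻¹ • X ⟨j⟩, by simp [σ, smul_smul, inv_mul_cancel₀ (hc ⟨j⟩)]⟩
  have : (aeval (R := κ) fun i => (1 : κ) ⊗ₜ[A] b i) = g.comp σ := by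
    apply MvPolynomial.algHom_ext
    intro i
    simp [σ, hb]
  rw [this]
  exact hfin.comp (RingHom.Finite.of_surjective _ hσ)

/-- Finiteness of the base change to `κ[X]` of `A[X] → B`. -/
theorem finite_includeLeft {A B κ : Type u} [CommRing A] [CommRing B] [CommRing κ] [Algebra A B]
    [Algebra A κ] {σ : Type u} (b : σ → B)
    (h : (aeval (R := κ) fun i => (1 : κ) ⊗ₜ[A] b i).toRingHom.Finite) :
    letI := (aeval (R := A) b).toRingHom.toAlgebra
    (Algebra.TensorProduct.includeLeftRingHom : MvPolynomial σ κ →+*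
      MvPolynomial σ κ ⊗[MvPolynomial σ A] B).Finite := by
  letI := (aeval (R := A) b).toRingHom.toAlgebra
  haveI : IsScalarTower A (MvPolynomial σ A) (MvPolynomial σ κ) :=
    IsScalarTower.of_algebraMap_eq fun a => (map_C (algebraMap A κ) a).symm
  haveI : IsScalarTower A (MvPolynomial σ A) B :=
    IsScalarTower.of_algebraMap_eq fun a => ((aeval b).commutes a).symm
  let ψ : κ ⊗[A] B →ₐ[A] MvPolynomial σ κ ⊗[MvPolynomial σ A] B :=
    Algebra.TensorProduct.lift
      ((Algebra.TensorProduct.includeLeft : MvPolynomial σ κ →ₐ[A] _).comp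
        (IsScalarTower.toAlgHom A κ (MvPolynomial σ κ)))
      ((Algebra.TensorProduct.includeRight : B →ₐ[MvPolynomial σ A] _).restrictScalars A)
      fun _ _ => Commute.all _ _
  have hψ : ψ.toRingHom.comp (aeval (R := κ) fun i => (1 : κ) ⊗ₜ[A] b i).toRingHom =
      Algebra.TensorProduct.includeLeftRingHom := by
    apply MvPolynomial.ringHom_ext
    · intro a
      simp [ψ, Algebra.TensorProduct.algebraMap_apply]
    · intro i
      have e1 : (X i : MvPolynomial σ κ) = algebraMap (MvPolynomial σ A) (MvPolynomial σ κ) (X i) :=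
        (map_X (algebraMap A κ) i).symm
      have e2 : b i = algebraMap (MvPolynomial σ A) B (X i) := (aeval_X b i).symm
      change ψ (aeval (R := κ) (fun i => (1 : κ) ⊗ₜ[A] b i) (X i)) = X i ⊗ₜ[MvPolynomial σ A] 1
      rw [aeval_X, e1]
      simp only [ψ, Algebra.TensorProduct.lift_tmul, map_one, one_mul]
      rw [e2, AlgHom.restrictScalars_apply, Algebra.TensorProduct.includeRight_apply,
        Algebra.algebraMap_eq_smul_one, Algebra.algebraMap_eq_smul_one, TensorProduct.smul_tmul]
  have hψs : Function.Surjective ψ.toRingHom := by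
    intro z
    induction z using TensorProduct.induction_on with
    | zero => exact ⟨0, map_zero _⟩
    | tmul r x =>
      refine ⟨(aeval (R := κ) (fun i => (1 : κ) ⊗ₜ[A] b i) r) * ((1 : κ) ⊗ₜ[A] x), ?_⟩
      rw [map_mul]
      rw [show ψ.toRingHom (aeval (R := κ) (fun i => (1 : κ) ⊗ₜ[A] b i) r) = _ from
        RingHom.congr_fun hψ r]
      simp [ψ]
    | add x y hx hy =>
      obtain ⟨x', rfl⟩ := hx
      obtain ⟨y', rfl⟩ := hy
      exact ⟨x' + y', map_add _ _ _⟩
  rw [← hψ]
  exact (RingHom.Finite.of_surjective _ hψs).comp h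

open CategoryTheory.Limits in
/-- Let X and Y be affine schemes, f : X ⟶ Y a morphism of finite type, y a point of f(X) and e the
dimension of the fibre of f over y. Then there is a Y-morphism g from X to the affine space of
dimension e over Y such that the morphism induced by g on the fibres over y is finite (here written
as the base change of g along the inclusion of the fibre of the affine space over y). -/
theorem result {X Y : Scheme.{u}} [IsAffine X] [IsAffine Y] (f : X ⟶ Y)
    [LocallyOfFiniteType f] (y : Y) (hy : y ∈ Set.range f.base) (e : ℕ)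
    (he : topologicalKrullDim ↥(f.fiber y) = e) :
    ∃ g : X ⟶ 𝔸(ULift.{u} (Fin e); Y), g ≫ (𝔸(ULift.{u} (Fin e); Y) ↘ Y) = f ∧
      IsFinite (pullback.snd g ((𝔸(ULift.{u} (Fin e); Y) ↘ Y).fiberι y)) := by
  let A := Γ(Y, ⊤)
  let B := Γ(X, ⊤)
  let κ := Y.residueField y
  let φ : A ⟶ κ := (Y.fromSpecResidueField y).appTop ≫ (Scheme.ΓSpecIso κ).hom
  have hφ : Spec.map φ ≫ Y.isoSpec.inv = Y.fromSpecResidueField y := by
    rw [Iso.comp_inv_eq, Scheme.isoSpec_hom, Scheme.toSpecΓ_naturality]
    simp [φ, A, κ, ← Spec.map_comp_assoc]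
  algebraize [f.appTop.hom, φ.hom]
  haveI : Algebra.FiniteType A B := (HasRingHomProperty.appTop @LocallyOfFiniteType f inferInstance : f.appTop.hom.FiniteType)
  have hκ : (algebraMap A κ).SurjectiveOnStalks := by
    have h : IsPreimmersion (Spec.map φ) := by
      rw [show Spec.map φ = Y.fromSpecResidueField y ≫ Y.isoSpec.hom by
        rw [← hφ, Category.assoc, Iso.inv_hom_id, Category.comp_id]]
      infer_instance
    exact ((IsPreimmersion.SpecMap_iff φ).1 h).2
  let eF : f.fiber y ≅ Spec (.of (κ ⊗[A] B)) :=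
    pullbackSymmetry _ _ ≪≫
    (@asIso _ _ _ _ (pullback.map (Y.fromSpecResidueField y) f
      (Spec.map (CommRingCat.ofHom (algebraMap A κ)))
      (Spec.map (CommRingCat.ofHom (algebraMap A B))) (𝟙 _) X.isoSpec.hom Y.isoSpec.hom
      (by rw [Category.id_comp, ← hφ, Category.assoc, Iso.inv_hom_id, Category.comp_id]; rfl)
      (Scheme.isoSpec_hom_naturality f).symm) inferInstance) ≪≫ pullbackSpecIso A κ B
  have hdim : ringKrullDim (κ ⊗[A] B) = e := by
    rw [← PrimeSpectrum.topologicalKrullDim_eq_ringKrullDim, ← he]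
    exact (Scheme.homeoOfIso eF).isHomeomorph.topologicalKrullDim_eq.symm
  obtain ⟨b, hb⟩ := exists_finite_aeval hκ e hdim
  have hfin := finite_includeLeft b hb
  letI := (MvPolynomial.aeval (R := A) b).toRingHom.toAlgebra
  let iA := AffineSpace.isoOfIsAffine (ULift.{u} (Fin e)) Y
  let g : X ⟶ 𝔸(ULift.{u} (Fin e); Y) := X.isoSpec.hom ≫
    Spec.map (CommRingCat.ofHom (algebraMap (MvPolynomial (ULift.{u} (Fin e)) A) B)) ≫ iA.inv
  have hg : g ≫ (𝔸(ULift.{u} (Fin e); Y) ↘ Y) = f := by
    have h1 : CommRingCat.ofHom MvPolynomial.C ≫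
        CommRingCat.ofHom (algebraMap (MvPolynomial (ULift.{u} (Fin e)) A) B) = f.appTop := by
      ext a
      exact MvPolynomial.aeval_C b a
    simp only [g, iA, Category.assoc, AffineSpace.isoOfIsAffine_inv_over]
    rw [← Spec.map_comp_assoc, h1, Scheme.isoSpec_hom_naturality_assoc, Iso.hom_inv_id,
      Category.comp_id]
  refine ⟨g, hg, ?_⟩
  let c : Spec (.of (MvPolynomial (ULift.{u} (Fin e)) κ)) ⟶ 𝔸(ULift.{u} (Fin e); Y) :=
    Spec.map (CommRingCat.ofHom (algebraMap (MvPolynomial (ULift.{u} (Fin e)) A)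
      (MvPolynomial (ULift.{u} (Fin e)) κ))) ≫ iA.inv
  have h1 : IsPullback c (Spec.map (CommRingCat.ofHom MvPolynomial.C))
      (𝔸(ULift.{u} (Fin e); Y) ↘ Y) (Y.fromSpecResidueField y) := by
    have hpo := (CommRingCat.isPushout_iff_isPushout (R := A) (S := κ)
      (R' := MvPolynomial (ULift.{u} (Fin e)) A) (S' := MvPolynomial (ULift.{u} (Fin e)) κ)).mpr
      inferInstance
    refine IsPullback.of_iso (isPullback_SpecMap_of_isPushout _ _ _ _ hpo) (Iso.refl _)
      iA.symm (Iso.refl _) Y.isoSpec.symm ?_ ?_ ?_ ?_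
    · simp [c]
    · simp
    · simp [iA, A]
    · simp only [Iso.symm_hom, Iso.refl_hom, Category.id_comp]
      exact hφ
  have h2 := IsPullback.of_hasPullback g c
  haveI : IsFinite (pullback.snd g c) := by
    have h3 : IsPullback (pullback.fst (Spec.map (CommRingCat.ofHom (algebraMap
          (MvPolynomial (ULift.{u} (Fin e)) A) (MvPolynomial (ULift.{u} (Fin e)) κ))))
        (Spec.map (CommRingCat.ofHom (algebraMap (MvPolynomial (ULift.{u} (Fin e)) A) B))))
        (pullback.snd _ _ ≫ X.isoSpec.inv) c g := by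
      refine IsPullback.of_iso (IsPullback.of_hasPullback _ _) (Iso.refl _) (Iso.refl _)
        X.isoSpec.symm iA.symm ?_ ?_ ?_ ?_
      all_goals simp [g, c]
    have e3 : IsFinite (pullback.fst (Spec.map (CommRingCat.ofHom (algebraMap
          (MvPolynomial (ULift.{u} (Fin e)) A) (MvPolynomial (ULift.{u} (Fin e)) κ))))
        (Spec.map (CommRingCat.ofHom (algebraMap (MvPolynomial (ULift.{u} (Fin e)) A) B)))) := by
      rw [← MorphismProperty.cancel_left_of_respectsIso @IsFinite
        (pullbackSpecIso (MvPolynomial (ULift.{u} (Fin e)) A)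
          (MvPolynomial (ULift.{u} (Fin e)) κ) B).inv, pullbackSpecIso_inv_fst]
      exact (IsFinite.SpecMap_iff _).2 hfin
    rw [← MorphismProperty.cancel_left_of_respectsIso @IsFinite h3.flip.isoPullback.hom,
      IsPullback.isoPullback_hom_snd]
    exact e3
  let w := h1.isoPullback
  have hw : w.hom ≫ (𝔸(ULift.{u} (Fin e); Y) ↘ Y).fiberι y = c := h1.isoPullback_hom_fst
  have h4 : IsPullback (pullback.fst g c) (pullback.snd g c ≫ w.hom) g
      ((𝔸(ULift.{u} (Fin e); Y) ↘ Y).fiberι y) := by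
    refine IsPullback.of_iso h2 (Iso.refl _) (Iso.refl _) w (Iso.refl _) ?_ ?_ ?_ ?_
    · simp
    · simp
    · simp
    · rw [Iso.refl_hom, Category.comp_id]; exact hw.symm
  refine (MorphismProperty.cancel_left_of_respectsIso @IsFinite h4.isoPullback.hom _).1 ?_
  erw [IsPullback.isoPullback_hom_snd]
  exact (MorphismProperty.cancel_right_of_respectsIso @IsFinite (pullback.snd g c) w.hom).2
    inferInstance

end Groth.Agent.S3394
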