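import Groth.Statements.S3395
import Mathlib

set_option autoImplicit false
open CategoryTheory AlgebraicGeometry
universe u
open EGA43

namespace Groth.Agent.S3395

/-- A closed map with discrete fibres from a space whose Krull dimension is at least that of
the irreducible target space is surjective. -/
theorem surjective_of_isClosedMap {P T : Type*} [TopologicalSpace P] [TopologicalSpace T]
    [QuasiSober P] [IrreducibleSpace T] (h : P → T) (hc : Continuous h) (hcl : IsClosedMap h)
    (hd : ∀ a b : P, a ⤳ b → h a = h b → a = b) (e : ℕ)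
    (hP : (e : WithBot ℕ∞) ≤ topologicalKrullDim P) (hT : topologicalKrullDim T = e) :
    Function.Surjective h := by
  let F : TopologicalSpace.IrreducibleCloseds P → TopologicalSpace.IrreducibleCloseds T := fun Z =>
    ⟨h '' (Z : Set P), Z.isIrreducible.image h hc.continuousOn, hcl _ Z.isClosed⟩
  have hF : StrictMono F := by
    intro Z Z' hlt
    refine lt_of_le_not_ge (Set.image_mono hlt.le) fun hle => ?_
    have hz := IsIrreducible.isGenericPoint_genericPoint Z'.isIrreducible Z'.isClosed
    obtain ⟨z, hzZ, hzz⟩ := hle (Set.mem_image_of_mem h hz.mem)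
    have := hd _ _ (hz.specializes (hlt.le hzZ)) hzz.symm
    subst this
    exact hlt.not_ge fun w hw => (hz.specializes hw).mem_closed Z.isClosed hzZ
  by_contra hs
  obtain ⟨p, hp⟩ := Order.le_krullDim_iff.1 hP
  let q := p.map F hF
  let top : TopologicalSpace.IrreducibleCloseds T :=
    ⟨Set.univ, IrreducibleSpace.isIrreducible_univ T, isClosed_univ⟩
  have hlt : RelSeries.last q < top := by
    refine lt_of_le_not_ge (fun _ _ => Set.mem_univ _) fun hle => hs fun t => ?_
    rw [LTSeries.last_map] at hle
    obtain ⟨a, -, ha⟩ := hle (Set.mem_univ t)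
    exact ⟨a, ha⟩
  have h2 := Order.LTSeries.length_le_krullDim (q.snoc top hlt)
  rw [show Order.krullDim (TopologicalSpace.IrreducibleCloseds T) = e from hT] at h2
  simp [q, hp] at h2
  norm_cast at h2
  omega

open CategoryTheory.Limits in
/-- Let X and Y be affine schemes, f : X ⟶ Y of finite type, y a point of f(X), e the dimension of the
fibre over y, and g a Y-morphism from X to the affine space of dimension e over Y whose base change
to the fibre of the affine space over y is finite. Then that base change is surjective, and g is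
locally quasi-finite on some open U ⊆ X that contains the fibre f⁻¹(y). -/
theorem result {X Y : Scheme.{u}} [IsAffine X] [IsAffine Y]
    (f : X ⟶ Y) [LocallyOfFiniteType f] (y : Y) (hy : y ∈ Set.range f.base) (e : ℕ)
    (he : topologicalKrullDim ↥(f.fiber y) = e) (g : X ⟶ 𝔸(ULift.{u} (Fin e); Y)) (hg : g ≫ (𝔸(ULift.{u} (Fin e); Y) ↘ Y) = f)
    (hfin : IsFinite (pullback.snd g ((𝔸(ULift.{u} (Fin e); Y) ↘ Y).fiberι y))) :
    Function.Surjective (pullback.snd g ((𝔸(ULift.{u} (Fin e); Y) ↘ Y).fiberι y)).base ∧
      ∃ U : X.Opens, f.base ⁻¹' {y} ⊆ (U : Set X) ∧ LocallyQuasiFinite (U.ι ≫ g) := by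
  let p := 𝔸(ULift.{u} (Fin e); Y) ↘ Y
  let ι := p.fiberι y
  let h := pullback.snd g ι
  have : IsFinite h := hfin
  have : LocallyOfFiniteType (g ≫ p) := by rw [hg]; infer_instance
  have : LocallyOfFiniteType g := locallyOfFiniteType_of_comp g p
  have hfx : ∀ x, g.base x ∈ Set.range ι.base ↔ f.base x = y := by
    intro x
    rw [show Set.range ι.base = _ from p.range_fiberι y, ← hg]
    rfl
  refine ⟨?_, g.quasiFiniteLocus, fun x hx => ?_, inferInstance⟩
  · have hr : Set.range (pullback.fst g ι).base = f.base ⁻¹' {y} := by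
      rw [show Set.range (pullback.fst g ι).base = _ from Scheme.Pullback.range_fst g ι]
      ext x
      exact hfx x
    have : IsPreimmersion ι := inferInstance
    have emb : Topology.IsEmbedding (pullback.fst g ι).base :=
      (pullback.fst g ι).isEmbedding
    let eP : ↥(pullback g ι) ≃ₜ ↥(f.fiber y) :=
      (emb.toHomeomorph.trans (Homeomorph.setCongr hr)).trans (f.fiberHomeo y).symm
    let eT : p.fiber y ≅ Spec (.of (MvPolynomial (ULift.{u} (Fin e)) (Y.residueField y))) :=
      (AffineSpace.isPullback_map (n := ULift.{u} (Fin e))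
        (Y.fromSpecResidueField y)).isoPullback.symm ≪≫ AffineSpace.SpecIso _ _
    let hT := Scheme.homeoOfIso eT
    have : IrreducibleSpace ↥(p.fiber y) := hT.symm.surjective.irreducibleSpace hT.symm.continuous
    refine surjective_of_isClosedMap h.base h.continuous h.isClosedMap ?_ e ?_ ?_
    · intro a b hab heq
      have := h.isDiscrete_preimage_singleton (h.base b)
      have hd : DiscreteTopology ↥(h.base ⁻¹' {h.base b}) :=
        isDiscrete_iff_discreteTopology.1 this
      have hab' : (⟨a, heq⟩ : ↥(h.base ⁻¹' {h.base b})) ⤳ ⟨b, rfl⟩ := (subtype_specializes_iff _ _).2 hab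
      exact congrArg Subtype.val hab'.eq
    · rw [eP.isHomeomorph.topologicalKrullDim_eq, he]
    · rw [hT.isHomeomorph.topologicalKrullDim_eq]
      refine (PrimeSpectrum.topologicalKrullDim_eq_ringKrullDim _).trans ?_
      rw [MvPolynomial.ringKrullDim_of_isNoetherianRing, ringKrullDim_eq_zero_of_field]
      simp
  · obtain ⟨z, hz⟩ := (hfx x).2 hx
    have hfin' : (g.base ⁻¹' {g.base x}).Finite := by
      refine ((h.finite_preimage_singleton z).image (pullback.fst g ι).base).subset ?_
      intro x' hx'
      obtain ⟨w, hw1, hw2⟩ := Scheme.Pullback.exists_preimage_pullback x' z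
        (show g.base x' = ι.base z by rw [hz]; exact hx')
      exact ⟨w, hw2, hw1⟩
    have : Finite (g.fiber (g.base x)) := (g.fiberHomeo (g.base x)).finite_iff.mpr hfin'
    exact Scheme.Hom.quasiFiniteAt_iff_isOpen_singleton_asFiber.mpr (isOpen_discrete _)

end Groth.Agent.S3395
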