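import Groth.Statements.S3396
import Groth.Agent.FibreDim.Equidim
import Groth.Agent.FibreDim.StalkFormula

set_option autoImplicit false
open CategoryTheory AlgebraicGeometry
universe u
open EGA43

namespace Groth.Agent.S3396

/-- Let Y be locally Noetherian, f : X ⟶ Y locally of finite type and equidimensional at the point x,
and suppose the local ring O_{Y,f x} is universally catenary. If O_{Y,f x} is equidimensional, then
so is O_{X,x}. -/
theorem result {X Y : Scheme.{u}} [IsLocallyNoetherian Y] (f : X ⟶ Y)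
    [LocallyOfFiniteType f] (x : X) (h : EGA43.IsEquidimAt f x)
    (hcat : CAlg.IsUniversallyCatenary (Y.presheaf.stalk (f.base x)))
    (hY : EGA4.IsEquidim (Y.presheaf.stalk (f.base x))) :
    EGA4.IsEquidim (X.presheaf.stalk x) := by
  haveI : IsLocallyNoetherian X := LocallyOfFiniteType.isLocallyNoetherian f
  obtain ⟨D, U, hxU, hU1, hU2⟩ := (Groth.FibreDim.isEquidimAt_iff f x).1 h
  obtain ⟨A, hA⟩ := Groth.FibreDim.exists_coheight_eq_natCast x
  obtain ⟨B, hB⟩ := Groth.FibreDim.exists_coheight_eq_natCast (f.base x)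
  obtain ⟨t', e, ht', -, he, hfd⟩ := Groth.FibreDim.exists_fibre_quantities f x
  have hle := Groth.FibreDim.ringKrullDim_stalk_le_add f x
  rw [ringKrullDim_stalk_eq_coheight, ringKrullDim_stalk_eq_coheight (f.base x), hA, hB, he] at hle
  have hle' : A ≤ B + e := by exact_mod_cast hle
  intro 𝔭 h𝔭
  haveI := h𝔭.1.1
  let P : PrimeSpectrum (X.presheaf.stalk x) := ⟨𝔭, h𝔭.1.1⟩
  let ξ := (X.fromSpecStalk x).base P
  have hξ : IsMax ξ := (Groth.FibreDim.isMax_fromSpecStalk_iff P).2 h𝔭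
  have hξx : ξ ⤳ x := Scheme.range_fromSpecStalk.le ⟨P, rfl⟩
  have hξU := hξx.mem_open U.isOpen hxU
  obtain ⟨hfmax, hfx⟩ := hU1 ξ hξU hξ
  obtain ⟨s, hs1, hs2, hs3⟩ := Groth.FibreDim.exists_series_of_isEquidim hY hfx hfmax
  obtain ⟨t, t₀, a, b, ht, ht₀, -, heq, ha, hchain, hb, -, -, -, hbchain, -, haex⟩ :=
    Groth.FibreDim.exists_dim_formula_along f hξx
  rw [ht', Nat.cast_inj] at ht
  have hξd := hU2 ξ hξU
  rw [(Groth.FibreDim.fibreDimAt_eq_height_of_max f fun z _ hz => (hz.antisymm (hξ hz)).eq).1, ht₀] at hξd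
  have hξd' : t₀ = D := by exact_mod_cast hξd
  have hxd := hU2 x hxU
  rw [hfd] at hxd
  have hxd' : t' + e = D := by exact_mod_cast hxd
  have h1 := hbchain s hs1 hs2
  have h2 := heq hcat
  rw [hA, Nat.cast_le] at ha
  rw [hB, Nat.cast_inj] at hs3
  show ringKrullDim (_ ⧸ P.asIdeal) = _
  rw [Groth.FibreDim.ringKrullDim_quotient_eq_of_series P rfl a hchain haex,
    ringKrullDim_stalk_eq_coheight, hA]
  norm_cast
  omega

end Groth.Agent.S3396
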