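import Groth.Statements.S3401
import Groth.Agent.Calg2.ProConsCriteria
import Groth.Agent.ZetaAn.Constructible


set_option autoImplicit false
open CategoryTheory AlgebraicGeometry
universe u
open EGA41

namespace Groth.Agent.S3401

/-- Let X be a scheme and E a subset of X. If E is ind-constructible then for every point x of E the set
E ∩ cl{x} is a neighbourhood of x in cl{x}; when X is locally Noetherian the converse holds. (As
published, the necessity clause quantifies over all points x of X; for x outside E the condition
cannot hold, and the argument uses x ∈ E, so it is stated here for x ∈ E.) Stated as an equivalence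
for X locally Noetherian. -/
theorem result (X : Scheme.{u}) [IsLocallyNoetherian X]
    (E : Set X) :
    ProCons.IsIndConstructible E ↔
      ∀ x ∈ E, (Subtype.val ⁻¹' E : Set ↥(closure ({x} : Set X))) ∈ nhds (⟨x, subset_closure rfl⟩ : ↥(closure ({x} : Set X))) := by
  open AlgebraicGeometry CategoryTheory in
  constructor
  · intro hE x hx
    obtain ⟨W, hW, -, y, hy, T, hT, hyT, hTE⟩ :=
      Groth.Calg2.ProCons.exists_constructible_of_ind hE hx ⊤ trivial
    obtain ⟨O, hO, hyO, hOT⟩ := (Groth.ZetaAn.isConstructible_near hT y).1 hyT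
    refine mem_nhds_iff.2 ⟨Subtype.val ⁻¹' (⇑W.ι '' O), fun z hz => ?_,
      (W.ι.isOpenEmbedding.isOpenMap _ hO).preimage continuous_subtype_val, ⟨y, hyO, hy⟩⟩
    obtain ⟨w, hw, hwz⟩ := hz
    have hz2 : (z : X) ∈ closure ({x} : Set X) := z.2
    have hyw : y ⤳ w := by
      rw [← W.ι.isOpenEmbedding.isInducing.specializes_iff, hy, hwz]
      exact specializes_iff_mem_closure.2 hz2
    show (z : X) ∈ E
    rw [← hwz]
    exact hTE (hOT ⟨hw, specializes_iff_mem_closure.1 hyw⟩)
  · intro H
    refine Groth.Calg2.ProCons.isIndConstructible_of fun V hV y hy => ?_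
    have : IsAffine V.toScheme := hV
    have := isLocallyNoetherian_of_isOpenImmersion V.ι
    obtain ⟨O, hO, hOo, hxO⟩ := mem_nhds_iff.1 (H _ hy)
    obtain ⟨O', hO', rfl⟩ := isOpen_induced_iff.1 hOo
    have : TopologicalSpace.NoetherianSpace V.toScheme := by
      have : AlgebraicGeometry.IsNoetherian V.toScheme := ⟨⟩
      infer_instance
    have hcons : ∀ U : Set V.toScheme, IsOpen U → Topology.IsConstructible U := fun U hU =>
      Groth.Calg2.ProCons.isConstructible_of_isCompact hU (TopologicalSpace.NoetherianSpace.isCompact U)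
    refine ⟨(⇑V.ι ⁻¹' O') ∩ closure {y}, (hcons _ (hO'.preimage V.ι.continuous)).inter ?_,
      ⟨hxO, subset_closure rfl⟩, fun z hz => ?_⟩
    · simpa using (hcons _ (isClosed_closure (s := ({y} : Set V.toScheme))).isOpen_compl).compl
    · exact hO (show (⟨V.ι z, specializes_iff_mem_closure.1
          ((specializes_iff_mem_closure.2 hz.2).map V.ι.continuous)⟩ : closure ({V.ι y} : Set X)) ∈ _ from hz.1)

end Groth.Agent.S3401
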