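import Groth.Statements.S3402
import Groth.Agent.Limits.ProConsImage


set_option autoImplicit false
open CategoryTheory AlgebraicGeometry
universe u
open EGA41

namespace Groth.Agent.S3402

/-- A subset E of a scheme X is locally constructible if and only if it is both ind-constructible and
pro-constructible. -/
theorem result (X : Scheme.{u}) (E : Set X) :
    Topology.IsLocallyConstructible E ↔ ProCons.IsIndConstructible E ∧ ProCons.IsProConstructible E := by
  classical
  constructor
  · intro hE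
    have hT : Topology.IsLocallyConstructible (Subtype.val ⁻¹' E : Set ↥(Set.univ : Set X)) :=
      hE.preimage_of_isOpenEmbedding isOpen_univ.isOpenEmbedding_subtypeVal
    exact ⟨fun x => ⟨Set.univ, isOpen_univ, trivial, {Subtype.val ⁻¹' E},
        fun T h => (Set.mem_singleton_iff.1 h) ▸ hT, (Set.sUnion_singleton _).symm⟩,
      fun x => ⟨Set.univ, isOpen_univ, trivial, {Subtype.val ⁻¹' E},
        fun T h => (Set.mem_singleton_iff.1 h) ▸ hT, (Set.sInter_singleton _).symm⟩⟩
  · rintro ⟨hind, hpro⟩ x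
    obtain ⟨U, hU, hxU, 𝒯, h𝒯, hEU⟩ := hind x
    obtain ⟨W, hW, hxW, hWU⟩ :=
      AlgebraicGeometry.exists_isAffineOpen_mem_and_subset (X := X) (U := ⟨U, hU⟩) hxU
    have : AlgebraicGeometry.IsAffine W.toScheme := hW
    let j : W.toScheme → U := fun y => ⟨y.1, hWU y.2⟩
    have hj : Topology.IsOpenEmbedding j :=
      Topology.IsOpenEmbedding.of_comp _ hU.isOpenEmbedding_subtypeVal W.ι.isOpenEmbedding
    have hcons : ∀ T ∈ 𝒯, Topology.IsConstructible (j ⁻¹' T) := fun T hT =>
      ((h𝒯 T hT).preimage_of_isOpenEmbedding hj).isConstructible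
    have hE' : Groth.Limits.PC (⇑W.ι ⁻¹' E) := (Groth.Limits.pc_of_isProConstructible hpro).preimage W.ι
    have hfin : ∃ J : Finset 𝒯, ⇑W.ι ⁻¹' E ⊆ ⋃ T ∈ J, j ⁻¹' T.1 := by
      by_contra H
      push Not at H
      have hpc : ∀ J : Finset 𝒯, Groth.Limits.PC (⋃ T ∈ J, j ⁻¹' T.1)ᶜ := by
        intro J
        refine Groth.Limits.pc_compl_of_isConstructible ?_
        induction J using Finset.induction with
        | empty => simpa using Topology.IsConstructible.empty
        | insert a J ha ih =>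
          rw [Finset.set_biUnion_insert]
          exact (hcons _ a.2).union ih
      obtain ⟨y, hy⟩ := Groth.Limits.nonempty_iInter_of_directed
        (fun J : Finset 𝒯 => (⇑W.ι ⁻¹' E) ∩ (⋃ T ∈ J, j ⁻¹' T.1)ᶜ)
        (fun J => hE'.inter (hpc J))
        (fun J K => ⟨J ∪ K, fun z hz => ⟨hz.1, fun hh => hz.2
            (Set.biUnion_subset_biUnion_left (Finset.coe_subset.2 Finset.subset_union_left) hh)⟩,
          fun z hz => ⟨hz.1, fun hh => hz.2
            (Set.biUnion_subset_biUnion_left (Finset.coe_subset.2 Finset.subset_union_right) hh)⟩⟩)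
        (fun J => by
          obtain ⟨z, hz, hzJ⟩ := Set.not_subset.1 (H J)
          exact ⟨z, hz, hzJ⟩)
      rw [Set.mem_iInter] at hy
      have h1 : j y ∈ ⋃₀ 𝒯 := by
        rw [← hEU]
        exact (hy ∅).1
      obtain ⟨T, hT, hyT⟩ := h1
      exact (hy {⟨T, hT⟩}).2 (Set.mem_iUnion₂.2 ⟨⟨T, hT⟩, Finset.mem_singleton_self _, hyT⟩)
    obtain ⟨J, hJ⟩ := hfin
    have heq : ⇑W.ι ⁻¹' E = ⋃ T ∈ J, j ⁻¹' T.1 := by
      refine hJ.antisymm (Set.iUnion₂_subset fun T _ y hy => ?_)
      have h1 : j y ∈ (Subtype.val ⁻¹' E : Set U) := hEU ▸ ⟨T.1, T.2, hy⟩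
      exact h1
    refine ⟨(W : Set X), W.isOpen.mem_nhds hxW, W.isOpen, ?_⟩
    show Topology.IsConstructible (⇑W.ι ⁻¹' E)
    rw [heq]
    exact Topology.IsConstructible.biUnion J.finite_toSet fun T _ => hcons _ T.2

end Groth.Agent.S3402
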