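import Groth.Statements.S3403
import Groth.Agent.Calg2.ProConsCriteria


set_option autoImplicit false
open CategoryTheory AlgebraicGeometry
universe u
open EGA41

namespace Groth.Agent.S3403

/-- Let X be a scheme, E an ind-constructible subset of X and x a point of X. Then x is an interior
point of E if and only if every generization of x belongs to E. -/
theorem result (X : Scheme.{u}) (E : Set X)
    (hE : ProCons.IsIndConstructible E) (x : X) :
    x ∈ interior E ↔ ∀ x' : X, x' ⤳ x → x' ∈ E := by
  exact ⟨fun hx x' h => interior_subset (h.mem_open isOpen_interior hx),
    Groth.Calg2.ProCons.mem_interior_of_generizations hE⟩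

end Groth.Agent.S3403
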