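import Groth.Statements.S3404
import Groth.Agent.Calg2.ProConsCriteria


set_option autoImplicit false
open CategoryTheory AlgebraicGeometry
universe u
open EGA41

namespace Groth.Agent.S3404

/-- Let f : X ⟶ Y be a morphism of schemes, x a point of X and y = f x. If f is open at x then every
generization of y is the image of a generization of x; when f is locally of finite presentation the
converse holds. -/
theorem result {X Y : Scheme.{u}} (f : X ⟶ Y) (x : X) :
    (EGA43.IsOpenAt f.base x → ∀ y' : Y, y' ⤳ f.base x → ∃ x' : X, x' ⤳ x ∧ f.base x' = y') ∧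
    (LocallyOfFinitePresentation f →
      ((EGA43.IsOpenAt f.base x) ↔ ∀ y' : Y, y' ⤳ f.base x → ∃ x' : X, x' ⤳ x ∧ f.base x' = y')) := by
  open AlgebraicGeometry CategoryTheory in
  have h1 : EGA43.IsOpenAt f.base x → ∀ y' : Y, y' ⤳ f.base x → ∃ x' : X, x' ⤳ x ∧ f.base x' = y' :=
    fun h y' hy' => Groth.Calg2.ProCons.exists_specializes_of_image_mem_nhds f h hy'
  refine ⟨h1, fun hf => ⟨h1, fun h U hU => ?_⟩⟩
  obtain ⟨O, hO, hOo, hxO⟩ := mem_nhds_iff.1 hU
  have hind : ProCons.IsIndConstructible (⟨O, hOo⟩ : X.Opens).carrier := by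
    refine Groth.Calg2.ProCons.isIndConstructible_of fun V hV y hy => ?_
    have : IsAffine V.toScheme := hV
    obtain ⟨B, ⟨hB₁, hB₂⟩, hyB, hBO⟩ := PrespectralSpace.isTopologicalBasis.exists_subset_of_mem_open
      (show y ∈ ⇑V.ι ⁻¹' O from hy) (hOo.preimage V.ι.continuous)
    exact ⟨B, Groth.Calg2.ProCons.isConstructible_of_isCompact hB₁ hB₂, hyB, hBO⟩
  refine mem_interior_iff_mem_nhds.1 (interior_mono (Set.image_mono hO)
    (Groth.Calg2.ProCons.mem_interior_of_generizations
      (Groth.Calg2.ProCons.isIndConstructible_image f hind) fun y' hy' => ?_))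
  obtain ⟨x', hx', rfl⟩ := h y' hy'
  exact ⟨x', hx'.mem_open hOo hxO, rfl⟩

end Groth.Agent.S3404
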