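import Groth.Statements.S3405
import Groth.Agent.Ega41Dim.Degree
import Mathlib.RingTheory.Jacobson.Ideal
import Mathlib.RingTheory.HopkinsLevitzki

set_option autoImplicit false
universe u
open EGA41

namespace Groth.Agent.S3405

/-- The degree of the Hilbert–Samuel polynomial equals the dimension: let A be a Noetherian ring with
finitely many maximal ideals, r its Jacobson radical and M a nonzero finitely generated A-module.
Then there is a polynomial P with rational coefficients such that the length of M/rⁿM is finite and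
equals P(n) for all large n, and the degree of P is the dimension of M (the Krull dimension of its
support). -/
theorem result (A : Type u) [CommRing A] [IsNoetherianRing A]
    [Finite (MaximalSpectrum A)] (M : Type u) [AddCommGroup M] [Module A M] [Module.Finite A M] [Nontrivial M] :
    ∃ P : Polynomial ℚ,
      (∃ N : ℕ, ∀ n : ℕ, N ≤ n →
        ∃ ℓ : ℕ, Module.length A (M ⧸ (Ring.jacobson A ^ n • (⊤ : Submodule A M))) = ℓ ∧ (ℓ : ℚ) = P.eval (n : ℚ)) ∧
      (P.natDegree : WithBot ℕ∞) = Module.supportDim A M := by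
  have hmax : ∀ p : Ideal A, p.IsPrime → Ring.jacobson A ≤ p → p.IsMaximal := fun p hp hle => by
    classical
    haveI := Fintype.ofFinite (MaximalSpectrum A)
    rw [Ring.jacobson_eq_sInf_isMaximal] at hle
    have h2 : Finset.univ.inf (MaximalSpectrum.asIdeal (R := A)) ≤ p :=
      le_trans (le_sInf fun m hm => Finset.inf_le (f := MaximalSpectrum.asIdeal) (Finset.mem_univ (⟨m, hm⟩ : MaximalSpectrum A))) hle
    obtain ⟨m, -, hm⟩ := (Ideal.IsPrime.inf_le' hp).mp h2
    exact (m.isMaximal.eq_of_le hp.ne_top hm) ▸ m.isMaximal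
  haveI : Ring.KrullDimLE 0 (A ⧸ Ring.jacobson A) := Ring.krullDimLE_zero_iff.mpr fun P hP => by
    haveI := hmax (P.comap (Ideal.Quotient.mk _)) (hP.comap _) ((Ideal.mk_ker (I := Ring.jacobson A)).ge.trans (Ideal.comap_mono bot_le))
    rw [← Ideal.map_comap_of_surjective _ Ideal.Quotient.mk_surjective P]
    exact (Ideal.map_eq_top_or_isMaximal_of_surjective _ Ideal.Quotient.mk_surjective this).resolve_left
      (by rw [Ideal.map_comap_of_surjective _ Ideal.Quotient.mk_surjective]; exact hP.ne_top)
  haveI : IsArtinianRing (A ⧸ Ring.jacobson A) := isArtinianRing_iff_krullDimLE_zero.mpr inferInstance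
  obtain ⟨P, hP⟩ := Groth.Ega41Dim.exists_isHSPoly (Ring.jacobson A) M
  obtain ⟨N, hN⟩ := Filter.eventually_atTop.mp hP
  exact ⟨P, ⟨N, fun n hn => ⟨Groth.Ega41Dim.hs (Ring.jacobson A) M n, (ENat.natCast_toNat (Groth.Ega41Dim.length_quot_ne_top (Ring.jacobson A) M n)).symm, hN n hn⟩⟩,
    Groth.Ega41Dim.natDegree_eq_supportDim hmax Ideal.jacobson_bot.ge hP⟩

end Groth.Agent.S3405
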