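import Groth.Statements.S3408
import Groth.Agent.EGA43Topo.FlatUnivOpen
import Groth.Agent.CMMor.Locus
import Groth.Agent.AlgSp2.SmoothAtLifts

set_option autoImplicit false
open CategoryTheory AlgebraicGeometry
universe u
open EGA43

namespace Groth.Agent.S3408

/-- Let Y be locally Noetherian, f : X ⟶ Y locally of finite type, x a point of X and y = f x. Suppose f
is universally open at the generic point of every irreducible component of X_y passing through x,
X_y is geometrically reduced at x, and the local ring O_{Y,y} is reduced. Then there is an open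
neighbourhood U of x such that the restriction of f to U is flat and U is a reduced scheme. -/
theorem result {X Y : Scheme.{u}} [IsLocallyNoetherian Y] (f : X ⟶ Y)
    [LocallyOfFiniteType f] (x : X)
    (hopen : ∀ z : ↥(f.fiber (f.base x)), f.asFiber x ∈ closure {z} →
      (∀ z' : ↥(f.fiber (f.base x)), z ∈ closure {z'} → z' = z) →
      EGA43.IsUnivOpenAt f ((f.fiberι (f.base x)).base z))
    (hred : FBase.IsGeomReducedAt (f.fiberToSpecResidueField (f.base x)) (f.asFiber x))
    (hy : _root_.IsReduced (Y.presheaf.stalk (f.base x))) :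
    ∃ U : X.Opens, x ∈ U ∧ Flat (U.ι ≫ f) ∧ IsReduced (U : Scheme.{u}) := by
  haveI : IsLocallyNoetherian X := LocallyOfFiniteType.isLocallyNoetherian f
  haveI : LocallyOfFinitePresentation f := Groth.AlgSp2.lfp_of_lft f
  haveI := hy
  haveI := Groth.EGA43Topo.FlatUnivOpen.isReduced_stalk_of_goodFibre f (x := x) ⟨hopen, hred⟩
  obtain ⟨W, hxW, hW⟩ := Groth.EGA43Topo.FlatUnivOpen.exists_isReduced_nhd x
  let V : X.Opens := ⟨{z : X | (f.stalkMap z).hom.Flat}, Groth.CMMor.isOpen_flatAt f⟩
  have hxV : x ∈ V := Groth.EGA43Topo.FlatUnivOpen.flat_stalkMap_of_goodFibre f ⟨hopen, hred⟩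
  refine ⟨W ⊓ V, ⟨hxW, hxV⟩, ?_, ?_⟩
  · rw [Flat.iff_flat_stalkMap]
    intro z
    rw [Scheme.Hom.stalkMap_comp]
    show (((W ⊓ V).ι.stalkMap z).hom.comp (f.stalkMap ((W ⊓ V).ι z)).hom).Flat
    exact RingHom.Flat.comp z.2.2 (Flat.stalkMap (W ⊓ V).ι z)
  · haveI : ∀ z : ((W ⊓ V : X.Opens) : Scheme.{u}), _root_.IsReduced (((W ⊓ V : X.Opens) : Scheme.{u}).presheaf.stalk z) := fun z => by
      haveI : _root_.IsReduced (X.presheaf.stalk ((W ⊓ V).ι z)) := hW _ z.2.1
      exact isReduced_of_injective (asIso ((W ⊓ V).ι.stalkMap z)).commRingCatIsoToRingEquiv.symm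
        (asIso ((W ⊓ V).ι.stalkMap z)).commRingCatIsoToRingEquiv.symm.injective
    exact isReduced_of_isReduced_stalk _

end Groth.Agent.S3408
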