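import Groth.Statements.S3413
import Groth.Agent.NGeomPts.ExhaustUnique

set_option autoImplicit false
open CategoryTheory AlgebraicGeometry
universe u
open EGA43

namespace Groth.Agent.S3413

/-- Let Y be locally Noetherian with all local rings geometrically unibranch, f : X ⟶ Y separated,
quasi-finite and universally open, and n(z) the geometric number of points of the fibre over z. If n
is locally constant on Y, then the irreducible components of X are pairwise disjoint. -/
theorem result {X Y : Scheme.{u}} [IsLocallyNoetherian Y]
    (hY : ∀ y : Y, CAlg2.IsGeomUnibranch (Y.presheaf.stalk y)) (f : X ⟶ Y)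
    [IsSeparated f] [LocallyQuasiFinite f] [LocallyOfFiniteType f] [QuasiCompact f] [UniversallyOpen f]
    (hn : IsLocallyConstant (fun z : Y => MoreMor.nGeomConnComp f z)) :
    ∀ Z ∈ irreducibleComponents (X : Type u), ∀ Z' ∈ irreducibleComponents (X : Type u), Z ≠ Z' → Disjoint Z Z' := by
  intro Z hZ Z' hZ' hne
  rw [Set.disjoint_left]
  intro x hx hx'
  refine hne ?_
  have hg := hZ.1.isGenericPoint_genericPoint (isClosed_of_mem_irreducibleComponents Z hZ)
  have hg' := hZ'.1.isGenericPoint_genericPoint (isClosed_of_mem_irreducibleComponents Z' hZ')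
  have hcl : closure {hZ.1.genericPoint} ∈ irreducibleComponents (X : Type u) := by rwa [hg.def]
  have hcl' : closure {hZ'.1.genericPoint} ∈ irreducibleComponents (X : Type u) := by rwa [hg'.def]
  have h := Groth.NGeomPts.max_generization_unique f hY x
    ((hn.eventually_eq (f x)).mono fun z hz => hz)
    (Groth.FibreDim.isMax_of_mem_genericPoints hcl) (hg.specializes hx)
    (Groth.FibreDim.isMax_of_mem_genericPoints hcl') (hg'.specializes hx')
  rw [← hg.def, ← hg'.def, h]

end Groth.Agent.S3413
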