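import Groth.Statements.S3414
import Groth.Agent.S7838
import Groth.Agent.NGeomPts.Lsc
import Groth.Agent.EGA43Topo.UnibranchApps
import Groth.Agent.HensPair.SteinNormalization
import Groth.Agent.CohFin.ProjFinite
import Groth.Agent.FibreDim.Smooth

set_option autoImplicit false
open CategoryTheory AlgebraicGeometry
universe u
open EGA43

namespace Groth.Agent.S3414

/-- Let Y be an irreducible locally Noetherian scheme, f : X ⟶ Y proper, n(y) the geometric number of
connected components of the fibre over y, and suppose every irreducible component of X dominates Y.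
If y₀ is a point of Y whose local ring is geometrically unibranch, then n is lower semicontinuous at
y₀. -/
theorem result {X Y : Scheme.{u}} [IrreducibleSpace Y]
    [IsLocallyNoetherian Y] (f : X ⟶ Y) [IsProper f]
    (hdom : ∀ Z ∈ irreducibleComponents (X : Type u), closure (f.base '' Z) = Set.univ) (y₀ : Y)
    (hy : CAlg2.IsGeomUnibranch (Y.presheaf.stalk y₀)) :
    ∃ V ∈ nhds y₀, ∀ z ∈ V, MoreMor.nGeomConnComp f y₀ ≤ MoreMor.nGeomConnComp f z := by
  let g := f.fromNormalization
  haveI : IsFinite g := Groth.HensPair.isFinite_fromNormalization f Groth.CohFin.projFinite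
  haveI := Misc3Stein.geometricallyConnected_toNormalization f
  have hfg : ∀ x, g (f.toNormalization x) = f x := fun x => by
    rw [← Scheme.Hom.comp_apply, Scheme.Hom.toNormalization_fromNormalization]
  have hmaxY : ∀ a : ↥f.normalization, IsMax a → IsMax (g a) := by
    intro a ha
    obtain ⟨x, hx⟩ := (f.toNormalization.isConnected_preimage_singleton a).nonempty
    obtain ⟨ξ, hξ, hξx⟩ := Groth.FibreDim.exists_max_specializes x
    have h1 : f.toNormalization ξ ⤳ a :=
      (show f.toNormalization x = a from hx) ▸ hξx.map f.toNormalization.continuous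
    have h2 : f.toNormalization ξ = a := (h1.antisymm (ha h1)).eq
    have hZ : closure ({ξ} : Set X) ∈ irreducibleComponents (X : Type u) :=
      Groth.FibreDim.mem_irreducibleComponents_of_isMax hξ
    have h3 : closure ({g a} : Set Y) = Set.univ := by
      refine Set.eq_univ_of_univ_subset ((hdom _ hZ).ge.trans (closure_minimal ?_ isClosed_closure))
      rintro _ ⟨w, hw, rfl⟩
      rw [← h2, hfg]
      exact ((specializes_iff_mem_closure.mpr hw).map f.continuous).mem_closure
    intro b hb
    exact specializes_iff_mem_closure.mpr (h3.symm ▸ Set.mem_univ b)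
  have h : ∀ w : ↥f.normalization, g.base w = y₀ → EGA43.IsUnivOpenAt g w := by
    intro w hw
    refine Groth.EGA43Topo.isUnivOpenAt_of_equidim_nhd g (U := ⊤) (e := 0) (fun η _ hη => hmaxY η hη)
      (fun x' _ => Groth.FibreDim.fibreDimAt_eq_zero_of_locallyQuasiFinite g x') (z := w) trivial
      (hw ▸ hy) fun z' hz' hsp => ?_
    haveI : DiscreteTopology ↥(g.base ⁻¹' {g.base w}) :=
      (g.isDiscrete_preimage_singleton (g.base w)).to_subtype
    have h := (Topology.IsInducing.subtypeVal.specializes_iff
      (x := (⟨z', hz'⟩ : ↥(g.base ⁻¹' {g.base w}))) (y := ⟨w, rfl⟩)).1 hsp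
    exact congrArg Subtype.val h.eq
  refine ⟨_, Groth.NGeomPts.eventually_nGeomConnComp_le g y₀ h, fun z hz => ?_⟩
  rw [(Groth.Agent.S7838.result f y₀).2, (Groth.Agent.S7838.result f z).2]
  exact hz

end Groth.Agent.S3414
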