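import Groth.Statements.S3415
import Groth.Agent.GeomComp.ProperCount

set_option autoImplicit false
open CategoryTheory AlgebraicGeometry
universe u
open EGA43

namespace Groth.Agent.S3415

/-- Let Y be locally Noetherian, f : X ⟶ Y proper and n(z) the geometric number of connected components
of the fibre over z. If y is a point such that f is universally open at every point of the fibre
over y, then n is lower semicontinuous at y. -/
theorem result {X Y : Scheme.{u}} [IsLocallyNoetherian Y] (f : X ⟶ Y)
    [IsProper f] (y : Y) (h : ∀ x : X, f.base x = y → EGA43.IsUnivOpenAt f x) :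
    ∃ V ∈ nhds y, ∀ z ∈ V, MoreMor.nGeomConnComp f y ≤ MoreMor.nGeomConnComp f z := by
  exact (Groth.GeomComp.eventually_le_nGeomConnComp_of_univOpen f y h).exists_mem

end Groth.Agent.S3415
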