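import Groth.Statements.S3417
import Groth.Agent.Ega43DVR.GenericConnected

set_option autoImplicit false
open CategoryTheory AlgebraicGeometry
universe u
open EGA43

namespace Groth.Agent.S3417

/-- Let A be a discrete valuation ring, Y = Spec A with closed point a and generic point b, and f : X ⟶
Y a morphism locally of finite type which is open (as a map of spaces). If X is connected and the
fibre over a is a reduced scheme, then the fibre over b is connected. (Stated with 'preconnected',
which also covers the empty case; a is the closed point and b the point specialising to every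
point.) -/
theorem result (A : Type u) [CommRing A] [IsDomain A]
    [IsDiscreteValuationRing A] {X : Scheme.{u}} (f : X ⟶ Spec (CommRingCat.of A)) [LocallyOfFiniteType f]
    (hopen : IsOpenMap f.base) [PreconnectedSpace X]
    (a b : ↥(Spec (CommRingCat.of A))) (ha : IsClosed ({a} : Set ↥(Spec (CommRingCat.of A))))
    (hb : ∀ z : ↥(Spec (CommRingCat.of A)), b ⤳ z)
    (hred : AlgebraicGeometry.IsReduced (f.fiber a)) :
    PreconnectedSpace ↥(f.fiber b) := by
  have ha' : a = IsLocalRing.closedPoint A := by
    have h1 : a ⤳ IsLocalRing.closedPoint A := IsLocalRing.specializes_closedPoint a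
    exact (Set.mem_singleton_iff.1 (h1.mem_closed ha rfl)).symm
  have hb' : b = genericPoint (Spec (CommRingCat.of A)) :=
    ((hb _).antisymm (genericPoint_specializes b)).eq
  subst ha'
  subst hb'
  set g := genericPoint (Spec (CommRingCat.of A)) with hg
  have hsopen : IsOpen (f.base ⁻¹' {g}) := by
    refine IsOpen.preimage f.continuous ?_
    obtain ⟨π, hπ⟩ := IsDiscreteValuationRing.exists_irreducible A
    have : ({g} : Set (PrimeSpectrum A)) = PrimeSpectrum.basicOpen π := by
      ext p
      constructor
      · rintro (rfl : p = g)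
        show π ∉ g.asIdeal
        rw [hg, genericPoint_eq_bot_of_affine]
        exact hπ.ne_zero
      · intro hp
        show p = g
        rw [hg, genericPoint_eq_bot_of_affine]
        refine PrimeSpectrum.ext (Classical.byContradiction fun hne => hp ?_)
        rw [IsLocalRing.eq_maximalIdeal (p.isPrime.isMaximal hne),
          (IsDiscreteValuationRing.irreducible_iff_uniformizer π).1 hπ]
        exact Ideal.subset_span rfl
    exact this ▸ (PrimeSpectrum.basicOpen π).isOpen
  have key : _root_.IsPreconnected (f.base ⁻¹' {g}) := by
    intro u v hu hv huv hnu hnv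
    by_contra hemp
    rw [Set.not_nonempty_iff_eq_empty] at hemp
    have hdisj : Disjoint (f.base ⁻¹' {g} ∩ u) (f.base ⁻¹' {g} ∩ v) := by
      rw [Set.disjoint_iff_inter_eq_empty, ← hemp]
      ext x
      simp only [Set.mem_inter_iff]
      tauto
    have hcov : f.base ⁻¹' {g} = (f.base ⁻¹' {g} ∩ u) ∪ (f.base ⁻¹' {g} ∩ v) := by
      rw [← Set.inter_union_distrib_left, Set.inter_eq_left.2 huv]
    have main : ∀ x : X, x ∈ closure ((f.base ⁻¹' {g} ∩ u) ∪ (f.base ⁻¹' {g} ∩ v)) ∧
        ¬(x ∈ closure (f.base ⁻¹' {g} ∩ u) ∧ x ∈ closure (f.base ⁻¹' {g} ∩ v)) := by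
      intro x
      obtain ⟨W, hW, hxW, -⟩ := exists_isAffineOpen_mem_and_subset (U := ⊤) (x := x) trivial
      exact Groth.Ega43DVR.exists_clopen_extend_affine f hopen hred hW _ _ (hsopen.inter hu) (hsopen.inter hv)
        hdisj hcov x hxW
    obtain ⟨x, -, hx⟩ := isPreconnected_closed_iff.1 PreconnectedSpace.isPreconnected_univ _ _
      isClosed_closure isClosed_closure (fun x _ => closure_union.le (main x).1)
      (hnu.imp fun x hx => ⟨trivial, subset_closure hx⟩) (hnv.imp fun x hx => ⟨trivial, subset_closure hx⟩)
    exact (main x).2 hx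
  refine ⟨((f.fiberι g).isEmbedding.isInducing.isPreconnected_image).1 ?_⟩
  rwa [Set.image_univ, f.range_fiberι]

end Groth.Agent.S3417
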