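import Groth.Statements.S3422
import Mathlib
import Groth.Agent.Ega43FP2.SkConstructible
-- import your own Groth.Agent.* helpers here

set_option autoImplicit false
open CategoryTheory AlgebraicGeometry
universe u
open EGA43

namespace Groth.Agent.S3422


/-- Let f : X ⟶ S be locally of finite presentation and k a natural number. The set of points x of X
such that the local ring at x of the fibre of f through x satisfies Serre's condition (S_k) is
locally constructible in X. -/
theorem result {X S : Scheme.{u}} (f : X ⟶ S)
    [LocallyOfFinitePresentation f] (k : ℕ) :
    Topology.IsLocallyConstructible {x : X |
      LocCoh.HasSk k ((f.fiber (f.base x)).presheaf.stalk (f.asFiber x))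
        ((f.fiber (f.base x)).presheaf.stalk (f.asFiber x))} := by
  exact Groth.Ega43FP2.isLocallyConstructible_hasSk f k

end Groth.Agent.S3422
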