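import Groth.Statements.S3425
import Groth.Agent.SpectralTopology.FibreTopo
import Groth.Agent.SpectralTopology.FpCancel

set_option autoImplicit false
open CategoryTheory AlgebraicGeometry
universe u
open EGA43

namespace Groth.Agent.S3425
open Groth.SpectralTopology Topology

open CategoryTheory.Limits in
/-- Let g : Y ⟶ S and f : X ⟶ Y be such that X and Y are of finite presentation over S (locally of
finite presentation, quasi-compact and quasi-separated). For each point s of S let f_s be the
induced morphism from the fibre of f ≫ g over s to the fibre of g over s. Then the set of s for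
which f_s is dominant is locally constructible in S. -/
theorem result {X Y S : Scheme.{u}} (f : X ⟶ Y) (g : Y ⟶ S)
    [LocallyOfFinitePresentation g] [QuasiCompact g] [QuasiSeparated g]
    [LocallyOfFinitePresentation (f ≫ g)] [QuasiCompact (f ≫ g)] [QuasiSeparated (f ≫ g)] :
    Topology.IsLocallyConstructible {s : S |
      IsDominant (pullback.lift (pullback.fst (f ≫ g) (S.fromSpecResidueField s) ≫ f) (pullback.snd (f ≫ g) (S.fromSpecResidueField s))
          ((Category.assoc _ _ _).trans pullback.condition) :
        pullback (f ≫ g) (S.fromSpecResidueField s) ⟶ pullback g (S.fromSpecResidueField s))} := by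
  obtain ⟨_, _, _⟩ := fp_left f g
  have hZ : IsLocallyConstructible (Set.range f) :=
    Set.image_univ ▸ f.isLocallyConstructible_image IsLocallyConstructible.univ
  convert isLocallyConstructible_dense g hZ IsLocallyConstructible.univ using 1
  ext s
  show IsDominant (MoreMor.fiberMap f g s) ↔ _
  rw [Set.mem_ofPred_eq, Set.univ_inter, isDominant_iff]
  have hr : g.fiberι s '' Set.range (MoreMor.fiberMap f g s) = Set.range f ∩ g ⁻¹' {s} := by
    ext y
    constructor
    · rintro ⟨_, ⟨x, rfl⟩, rfl⟩
      refine ⟨?_, (g.range_fiberι s).le ⟨_, rfl⟩⟩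
      rw [← Scheme.Hom.comp_apply, fiberMap_fiberι, Scheme.Hom.comp_apply]
      exact ⟨_, rfl⟩
    · rintro ⟨⟨x, rfl⟩, hxs⟩
      obtain ⟨w, hw⟩ := (g.range_fiberι s).ge hxs
      obtain ⟨z, hz₁, hz₂⟩ := Scheme.Pullback.exists_preimage_pullback x w hw.symm
      refine ⟨w, ⟨(isPullback_fiberMap f g s).isoPullback.inv z, ?_⟩, hw⟩
      rw [← Scheme.Hom.comp_apply, IsPullback.isoPullback_inv_snd]
      exact hz₂
  rw [DenseRange, (g.fiberι s).isEmbedding.isInducing.dense_iff, hr, ← g.range_fiberι s]
  exact ⟨fun h _ ⟨w, hw⟩ ↦ hw ▸ h w, fun h w ↦ h ⟨w, rfl⟩⟩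

end Groth.Agent.S3425
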