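import Groth.Statements.S3429
import Mathlib
import Groth.Agent.DescentBase.QuasiFlat
import Groth.Agent.FlatMorOne.FlatBaseChangeScheme
import Groth.Agent.QCohMod.PullbackQCoh
import Groth.Agent.QCohMod.SupportPullback
-- import your own Groth.Agent.* helpers here

set_option autoImplicit false
open CategoryTheory AlgebraicGeometry
universe u
open EGA42

namespace Groth.Agent.S3429


/-- A morphism of schemes which is quasi-flat (some quasi-coherent module of finite type on the source,
flat over the base, has support the whole source) and locally of finite presentation is universally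
open. -/
theorem result {X Y : Scheme.{u}} (f : X ⟶ Y)
    (hf : FDesc.IsQuasiFlat f) [LocallyOfFinitePresentation f] : UniversallyOpen f := by
  obtain ⟨M, hM, hflat, hne⟩ := hf
  refine ⟨MorphismProperty.universally_mk' _ _ fun {T} g _ => ?_⟩
  haveI := hM.1
  refine isOpenMap_of_generalizingMap _ (Groth.DescentBase.generalizingMap_of_isQuasiFlat
    ⟨(Scheme.Modules.pullback (Limits.pullback.snd g f)).obj M, ⟨inferInstance, Groth.QCohMod.isFT_pullback _ M hM.2⟩,
      ?_, fun y => ?_⟩)
  · exact Groth.FlatMorOne.isFlatOver_baseChange (IsPullback.of_hasPullback g f).flip M hflat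
  · have h : y ∈ CohB1.support ((Scheme.Modules.pullback (Limits.pullback.snd g f)).obj M) := by
      rw [Groth.QCohMod.support_pullback _ M hM.2]
      exact not_subsingleton_iff_nontrivial.2 (hne _)
    exact not_subsingleton_iff_nontrivial.1 h

end Groth.Agent.S3429
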