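import Groth.Statements.S3431
import Groth.Agent.Calg2.IsolatedPoint
import Groth.Agent.S7547
import Mathlib.RingTheory.KrullDimension.Field


set_option autoImplicit false
universe u
open EGA43

namespace Groth.Agent.S3431

/-- Let A be a Noetherian ring. Then A is a Jacobson ring if and only if there is no prime ideal p of A
such that A/p is semi-local (finitely many maximal ideals) of Krull dimension 1. -/
theorem result (A : Type u) [CommRing A] [IsNoetherianRing A] :
    IsJacobsonRing A ↔
      ∀ (p : Ideal A) [p.IsPrime], ¬ (Finite (MaximalSpectrum (A ⧸ p)) ∧ ringKrullDim (A ⧸ p) = 1) := by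
  constructor
  · intro hJ p _ ⟨hfin, hdim⟩
    classical
    have : IsJacobsonRing (A ⧸ p) := isJacobsonRing_of_surjective ⟨Ideal.Quotient.mk p, Ideal.Quotient.mk_surjective⟩
    have : Finite (MaximalSpectrum (A ⧸ p)) := hfin
    have : Fintype (MaximalSpectrum (A ⧸ p)) := Fintype.ofFinite _
    have hne : ∀ m : MaximalSpectrum (A ⧸ p), m.asIdeal ≠ ⊥ := fun m h => by
      have hF : IsField (A ⧸ p) := by
        by_contra hF
        exact Ring.ne_bot_of_isMaximal_of_not_isField m.isMaximal hF h
      rw [ringKrullDim_eq_zero_of_isField hF] at hdim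
      exact absurd hdim (by norm_num)
    choose x hxm hx0 using fun m => Submodule.exists_mem_ne_zero_of_ne_bot (hne m)
    have h1 : ∏ m, x m ∈ (⊥ : Ideal (A ⧸ p)).jacobson := by
      rw [Ideal.jacobson, Ideal.mem_sInf]
      rintro M ⟨-, hM⟩
      exact Ideal.mem_of_dvd _ (Finset.dvd_prod_of_mem x (Finset.mem_univ ⟨M, hM⟩)) (hxm ⟨M, hM⟩)
    rw [IsJacobsonRing.out ‹_› Ideal.isPrime_bot.isRadical, Ideal.mem_bot, Finset.prod_eq_zero_iff] at h1
    obtain ⟨m, -, hm⟩ := h1
    exact hx0 m hm
  · intro H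
    rw [PrimeSpectrum.isJacobsonRing_iff_jacobsonSpace]
    by_contra hJ
    obtain ⟨x, hxcl, hxlc⟩ := Groth.Agent.S7547.result hJ
    obtain ⟨f, hf, hall⟩ := Groth.Calg2.IsolatedPoint.exists_mem_of_isLocallyClosed x hxlc
    have hf' : Ideal.Quotient.mk x.asIdeal f ≠ 0 := fun h => hf (Ideal.Quotient.eq_zero_iff_mem.1 h)
    have := Groth.Calg2.GDomain.finite_of_forall_mem _ _ hf' hall
    have hd := Groth.Calg2.GDomain.krullDimLE_one_of_finite (A ⧸ x.asIdeal)
    refine H x.asIdeal ⟨Finite.of_injective (fun m : MaximalSpectrum (A ⧸ x.asIdeal) => m.toPrimeSpectrum)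
      MaximalSpectrum.toPrimeSpectrum_injective, ?_⟩
    refine le_antisymm (by exact_mod_cast (Ring.krullDimLE_iff (n := 1)).1 hd) ?_
    by_contra hlt
    have h0 : Ring.KrullDimLE 0 (A ⧸ x.asIdeal) := by
      rw [Ring.krullDimLE_iff, Nat.cast_zero]
      cases hd' : ringKrullDim (A ⧸ x.asIdeal) with
      | bot => exact bot_le
      | coe n =>
        rw [hd'] at hlt
        have hn : n < 1 := by exact_mod_cast not_le.1 hlt
        rw [Order.lt_one_iff.1 hn]
        rfl
    have hF : IsField (A ⧸ x.asIdeal) := Ring.KrullDimLE.isField_of_isDomain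
    exact hxcl ((PrimeSpectrum.isClosed_singleton_iff_isMaximal x).2 (Ideal.Quotient.maximal_of_isField _ hF))

end Groth.Agent.S3431
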