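import Groth.Statements.S3434
import Groth.Agent.Valuative.NhdProper

set_option autoImplicit false
open CategoryTheory AlgebraicGeometry
universe u
open EGA43

namespace Groth.Agent.S3434

/-- Let Y be an integral locally Noetherian scheme, X an integral scheme, f : X ⟶ Y separated, dominant
and of finite type, and y a point of Y; write K for the function field of X (the local ring at its
generic point ξ), into which O_{Y,y} maps through O_{Y,f ξ}. Then f is proper over some open
neighbourhood of y if and only if every discrete valuation ring of K which dominates (the image of)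
O_{Y,y} dominates (the image of) O_{X,x} for some point x of X; such an x lies over y. -/
theorem result {X Y : Scheme.{u}} [IsIntegral X] [IsIntegral Y] [IsLocallyNoetherian Y]
    (f : X ⟶ Y) [IsSeparated f] [IsDominant f] [LocallyOfFiniteType f] [QuasiCompact f] (y : Y)
    (hξ : f.base (genericPoint X) ⤳ y) :
    (∃ U : Y.Opens, y ∈ U ∧ IsProper (f ∣_ U)) ↔
      ∀ A : ValuationSubring X.functionField, IsDiscreteValuationRing A →
        (∀ r : Y.presheaf.stalk y, A.valuation ((Y.presheaf.stalkSpecializes hξ ≫ f.stalkMap (genericPoint X)) r) ≤ 1) →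
        (∀ r ∈ IsLocalRing.maximalIdeal (Y.presheaf.stalk y),
            A.valuation ((Y.presheaf.stalkSpecializes hξ ≫ f.stalkMap (genericPoint X)) r) < 1) →
        ∃ x : X, f.base x = y ∧
          (∀ r : X.presheaf.stalk x, A.valuation (X.presheaf.stalkSpecializes (genericPoint_specializes x) r) ≤ 1) ∧
          (∀ r ∈ IsLocalRing.maximalIdeal (X.presheaf.stalk x),
            A.valuation (X.presheaf.stalkSpecializes (genericPoint_specializes x) r) < 1) := by
  constructor
  · rintro ⟨U, hyU, hU⟩ A hA h1 h2
    obtain ⟨a, hcl, hsq⟩ := Groth.Valuative.exists_square_of_dominate A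
      (Y.presheaf.stalkSpecializes hξ ≫ f.stalkMap (genericPoint X)) h1 h2
    have hsq' : Spec.map (CommRingCat.ofHom A.subtype) ≫ a =
        X.fromSpecStalk (genericPoint X) ≫ f :=
      hsq.trans (Groth.Valuative.spec_stalkMap_genericPoint f hξ)
    have haU : Set.range a ⊆ Set.range U.ι := by
      rintro _ ⟨z, rfl⟩
      rw [Scheme.Opens.range_ι]
      exact ((IsLocalRing.specializes_closedPoint z).map a.continuous).mem_open U.isOpen
        (hcl.symm ▸ hyU)
    have hkU : Set.range (X.fromSpecStalk (genericPoint X)) ⊆ Set.range (f ⁻¹ᵁ U).ι := by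
      rintro _ ⟨z, rfl⟩
      rw [Scheme.Opens.range_ι]
      change f (X.fromSpecStalk (genericPoint X) z) ∈ U
      rw [← Scheme.Hom.comp_apply, ← hsq', Scheme.Hom.comp_apply]
      exact (Set.ext_iff.1 (Scheme.Opens.range_ι U) _).1 (haU ⟨_, rfl⟩)
    have hex : ValuativeCriterion.Existence (f ∣_ U) :=
      (le_of_eq UniversallyClosed.eq_valuativeCriterion _ _ (f ∣_ U) inferInstance).1
    obtain ⟨l, hl₁, hl₂⟩ : ∃ l : Spec (CommRingCat.of A) ⟶ (f ⁻¹ᵁ U).toScheme,
        Spec.map (CommRingCat.ofHom A.subtype) ≫ l =
          IsOpenImmersion.lift (f ⁻¹ᵁ U).ι (X.fromSpecStalk (genericPoint X)) hkU ∧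
        l ≫ f ∣_ U = IsOpenImmersion.lift U.ι a haU := by
      obtain ⟨l, h1', h2'⟩ := (hex
      { R := A, K := X.functionField,
        i₁ := IsOpenImmersion.lift (f ⁻¹ᵁ U).ι (X.fromSpecStalk (genericPoint X)) hkU,
        i₂ := IsOpenImmersion.lift U.ι a haU,
        commSq := ⟨by
          rw [← cancel_mono U.ι, Category.assoc, morphismRestrict_ι, IsOpenImmersion.lift_fac_assoc,
            Category.assoc, IsOpenImmersion.lift_fac]
          exact hsq'.symm⟩ }).exists_lift
      exact ⟨l, h1', h2'⟩
    let lX := l ≫ (f ⁻¹ᵁ U).ι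
    have hlsq : Spec.map (CommRingCat.ofHom A.subtype) ≫ lX =
        X.fromSpecStalk (genericPoint X) := by
      rw [← Category.assoc, hl₁,
        IsOpenImmersion.lift_fac]
    refine ⟨lX (IsLocalRing.closedPoint A), ?_, ?_⟩
    · rw [← hcl, ← Scheme.Hom.comp_apply,
        show lX ≫ f = a by rw [Category.assoc, ← morphismRestrict_ι, ← Category.assoc, hl₂,
          IsOpenImmersion.lift_fac]]
    · refine Groth.Valuative.dominate_of_square A lX rfl
        (X.presheaf.stalkSpecializes (genericPoint_specializes _)) ?_
      exact hlsq.trans (Scheme.SpecMap_stalkSpecializes_fromSpecStalk _).symm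
  · exact Groth.Valuative.exists_proper_nhd f y hξ

end Groth.Agent.S3434
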