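import Groth.Statements.S3435
import Groth.Agent.Ega41Sep.RelSmooth
open Groth.Ega41Sep
open KaehlerDifferential

set_option autoImplicit false
universe u
open EGA41

namespace Groth.Agent.S3435

open TensorProduct in
/-- Let Λ → A → B → C be ring homomorphisms. The homomorphism Ω_{B/Λ} ⊗_B C → Ω_{B/A} ⊗_B C maps the
imperfection module Υ_{C/B/Λ} (the kernel of Ω_{B/Λ} ⊗_B C → Ω_{C/Λ}) onto the imperfection module
Υ_{C/B/A} (the kernel of Ω_{B/A} ⊗_B C → Ω_{C/A}): every element of Υ_{C/B/A} is the image of some
element of Υ_{C/B/Λ}. -/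
theorem result (Λ A B C : Type u) [CommRing Λ] [CommRing A] [CommRing B] [CommRing C]
    [Algebra Λ A] [Algebra Λ B] [Algebra Λ C] [Algebra A B] [Algebra A C] [Algebra B C]
    [IsScalarTower Λ A B] [IsScalarTower Λ A C] [IsScalarTower Λ B C] [IsScalarTower A B C] :
    ∀ ω ∈ EGA41.imperfection A B C, ∃ η ∈ EGA41.imperfection Λ B C,
      (KaehlerDifferential.map Λ A B B).baseChange C η = ω := by
  intro ω hω
  obtain ⟨η₀, hη₀⟩ : ∃ η₀, (KaehlerDifferential.map Λ A B B).baseChange C η₀ = ω :=
    LinearMap.lTensor_surjective C (KaehlerDifferential.map_surjective Λ A B) ω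
  have hcomm : ∀ z, KaehlerDifferential.map Λ A C C (mapBaseChange Λ B C z) =
      mapBaseChange A B C ((KaehlerDifferential.map Λ A B B).baseChange C z) := by
    intro z
    induction z with
    | zero => simp
    | add a b ha hb => simp only [map_add, ha, hb]
    | tmul c w =>
        simp only [mapBaseChange_tmul, LinearMap.baseChange_tmul, map_smul]
        congr 1
        have hw : w ∈ Submodule.span B (Set.range (D Λ B)) := by
          rw [KaehlerDifferential.span_range_derivation]; trivial
        induction hw using Submodule.span_induction with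
        | mem v hv => obtain ⟨b, rfl⟩ := hv; simp [KaehlerDifferential.map_D]
        | zero => simp
        | add a b _ _ ha hb => simp only [map_add, ha, hb]
        | smul r a _ ha =>
            simp only [map_smul]
            rw [← algebraMap_smul C r, map_smul, ha, algebraMap_smul]
  have hker : mapBaseChange Λ B C η₀ ∈ LinearMap.ker (KaehlerDifferential.map Λ A C C) := by
    rw [LinearMap.mem_ker, hcomm, hη₀]; exact hω
  rw [← KaehlerDifferential.range_mapBaseChange] at hker
  obtain ⟨ζ, hζ⟩ := hker
  have hlift : ∀ z : C ⊗[A] Ω[A⁄Λ], ∃ η, mapBaseChange Λ B C η = mapBaseChange Λ A C z ∧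
      (KaehlerDifferential.map Λ A B B).baseChange C η = 0 := by
    intro z
    induction z with
    | zero => exact ⟨0, by simp, by simp⟩
    | add a b ha hb =>
        obtain ⟨ea, ha1, ha2⟩ := ha; obtain ⟨eb, hb1, hb2⟩ := hb
        exact ⟨ea + eb, by simp [ha1, hb1], by simp [ha2, hb2]⟩
    | tmul c w =>
        have hw : w ∈ Submodule.span A (Set.range (D Λ A)) := by
          rw [KaehlerDifferential.span_range_derivation]; trivial
        refine ⟨c ⊗ₜ KaehlerDifferential.map Λ Λ A B w, ?_, ?_⟩
        · simp only [mapBaseChange_tmul]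
          congr 1
          induction hw using Submodule.span_induction with
          | mem v hv =>
              obtain ⟨a, rfl⟩ := hv
              simp [KaehlerDifferential.map_D, ← IsScalarTower.algebraMap_apply]
          | zero => simp
          | add a b _ _ ha hb => simp only [map_add, ha, hb]
          | smul r a _ ha => simp only [map_smul, LinearMap.map_smul_of_tower, ha]
        · have h0 : KaehlerDifferential.map Λ A B B (KaehlerDifferential.map Λ Λ A B w) = 0 :=
            LinearMap.mem_ker.mp (KaehlerDifferential.range_mapBaseChange Λ A B ▸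
              ⟨1 ⊗ₜ w, by simp⟩)
          rw [LinearMap.baseChange_tmul, h0, tmul_zero]
  obtain ⟨η', h1, h2⟩ := hlift ζ
  refine ⟨η₀ - η', ?_, by rw [map_sub, h2, hη₀, sub_zero]⟩
  show _ ∈ LinearMap.ker _
  rw [LinearMap.mem_ker, map_sub, h1, hζ, sub_self]

end Groth.Agent.S3435
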