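import Groth.Statements.S3437
import Groth.Agent.CMMor.Locus

set_option autoImplicit false
open CategoryTheory AlgebraicGeometry
universe u
open EGA43

namespace Groth.Agent.S3437

/-- Let f : X ⟶ S be of finite presentation (locally of finite presentation, quasi-compact and
quasi-separated). Then the set of points s of S such that every local ring of the fibre X_s is
Cohen–Macaulay is locally constructible in S. -/
theorem result {X S : Scheme.{u}} (f : X ⟶ S)
    [LocallyOfFinitePresentation f] [QuasiCompact f] [QuasiSeparated f] :
    Topology.IsLocallyConstructible {s : S |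
      ∀ z : ↥(f.fiber s), LocCoh.IsCohenMacaulayLocalRing ((f.fiber s).presheaf.stalk z)} := by
  have h := Groth.EGA41Two.isLocallyConstructible_compl (f.isLocallyConstructible_image
    (Groth.EGA41Two.isLocallyConstructible_compl (Groth.CMMor.isLocallyConstructible_cmFibre f)))
  convert h using 1
  ext s
  constructor
  · rintro hs ⟨x, hx, rfl⟩
    exact hx (hs (f.asFiber x))
  · intro hs z
    by_contra hz
    refine hs ⟨(f.fiberι s).base z, fun h => hz ((Groth.CMMor.isCM_fiberStalk_iff f s z).1 h), ?_⟩
    exact Groth.FibreDim.apply_fiberι f s z

end Groth.Agent.S3437
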