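import Groth.Statements.S3438
import Groth.Agent.FibreDim.Equidim
import Groth.Agent.FibreDim.StalkFormula

set_option autoImplicit false
open CategoryTheory AlgebraicGeometry
universe u
open EGA43

namespace Groth.Agent.S3438

/-- Let Y be locally Noetherian, f : X ⟶ Y locally of finite type, x a point of X with y = f x, and
suppose O_{Y,y} is equidimensional and universally catenary. If f is equidimensional at x, then dim
O_{X,x} = dim O_{Y,y} + dim O_{X_y,x}. (That O_{X,x} is then also equidimensional is a separate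
result, not asserted here.) -/
theorem result {X Y : Scheme.{u}} [IsLocallyNoetherian Y] (f : X ⟶ Y)
    [LocallyOfFiniteType f] (x : X) (hY : EGA4.IsEquidim (Y.presheaf.stalk (f.base x)))
    (hcat : CAlg.IsUniversallyCatenary (Y.presheaf.stalk (f.base x))) (h : EGA43.IsEquidimAt f x) :
    ringKrullDim (X.presheaf.stalk x) =
        ringKrullDim (Y.presheaf.stalk (f.base x)) + ringKrullDim ((f.fiber (f.base x)).presheaf.stalk (f.asFiber x)) := by
  haveI : IsLocallyNoetherian X := LocallyOfFiniteType.isLocallyNoetherian f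
  refine le_antisymm (Groth.FibreDim.ringKrullDim_stalk_le_add f x) ?_
  obtain ⟨D, U, hxU, hU1, hU2⟩ := (Groth.FibreDim.isEquidimAt_iff f x).1 h
  obtain ⟨ξ, hξ, hξx⟩ := Groth.FibreDim.exists_max_specializes x
  have hξU := hξx.mem_open U.isOpen hxU
  obtain ⟨hfmax, hfx⟩ := hU1 ξ hξU hξ
  obtain ⟨s, hs1, hs2, hs3⟩ := Groth.FibreDim.exists_series_of_isEquidim hY hfx hfmax
  obtain ⟨t, t₀, a, b, ht, ht₀, -, heq, ha, -, hb, -, -, -, hbchain, -⟩ :=
    Groth.FibreDim.exists_dim_formula_along f hξx
  obtain ⟨t', e, ht', -, he, hfd⟩ := Groth.FibreDim.exists_fibre_quantities f x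
  rw [ht', Nat.cast_inj] at ht
  have hξd := hU2 ξ hξU
  rw [(Groth.FibreDim.fibreDimAt_eq_height_of_max f fun z _ hz => (hz.antisymm (hξ hz)).eq).1, ht₀] at hξd
  have hξd' : t₀ = D := by exact_mod_cast hξd
  have hxd := hU2 x hxU
  rw [hfd] at hxd
  have hxd' : t' + e = D := by exact_mod_cast hxd
  have h1 := hbchain s hs1 hs2
  have h2 := heq hcat
  obtain ⟨A, hA⟩ := Groth.FibreDim.exists_coheight_eq_natCast x
  rw [hA, Nat.cast_le] at ha
  rw [ringKrullDim_stalk_eq_coheight, ringKrullDim_stalk_eq_coheight (X := X), ← hs3, hA, he]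
  norm_cast
  omega

end Groth.Agent.S3438
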