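import Groth.Statements.S3439
import Groth.Agent.Limits.ProConsImage


set_option autoImplicit false
open CategoryTheory AlgebraicGeometry
universe u
open EGA41

namespace Groth.Agent.S3439

/-- Let X be a quasi-compact scheme, E an ind-constructible subset of X and (F_i) a family of
pro-constructible subsets of X whose intersection is contained in E. Then there is a finite set J of
indices such that the intersection of the F_i for i in J is already contained in E. (Taking E = ∅: a
family of pro-constructible subsets with empty intersection has a finite subfamily with empty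
intersection.) -/
theorem result (X : Scheme.{u}) [CompactSpace X] (E : Set X)
    (hE : ProCons.IsIndConstructible E) {ι : Type u} (F : ι → Set X) (hF : ∀ i, ProCons.IsProConstructible (F i))
    (h : ⋂ i, F i ⊆ E) :
    ∃ J : Finset ι, ⋂ i ∈ J, F i ⊆ E := by
  classical
  by_contra H
  push Not at H
  let A : Finset ι → Set X := fun J => (⋂ i ∈ J, F i) ∩ Eᶜ
  have hpc : ∀ J : Finset ι, Groth.Limits.PC (⋂ i ∈ J, F i) := by
    intro J
    induction J using Finset.induction with
    | empty => simpa using Groth.Limits.pc_univ
    | insert a J ha ih =>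
      rw [Finset.set_biInter_insert]
      exact (Groth.Limits.pc_of_isProConstructible (hF a)).inter ih
  obtain ⟨x, hx⟩ := Groth.Limits.nonempty_iInter_of_directed A
    (fun J => (hpc J).inter (Groth.Limits.pc_compl_of_isIndConstructible hE))
    (fun J K => ⟨J ∪ K, fun y hy => ⟨Set.mem_iInter₂.2 fun i hi =>
        Set.mem_iInter₂.1 hy.1 i (Finset.mem_union_left K hi), hy.2⟩,
      fun y hy => ⟨Set.mem_iInter₂.2 fun i hi =>
        Set.mem_iInter₂.1 hy.1 i (Finset.mem_union_right J hi), hy.2⟩⟩)
    (fun J => by
      obtain ⟨y, hy, hyE⟩ := Set.not_subset.1 (H J)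
      exact ⟨y, hy, hyE⟩)
  rw [Set.mem_iInter] at hx
  exact (hx ∅).2 (h (Set.mem_iInter.2 fun i => Set.mem_iInter₂.1 (hx {i}).1 i (Finset.mem_singleton_self i)))

end Groth.Agent.S3439
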