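import Groth.Statements.S3443
import Groth.Agent.SpectralTopology.ConsBase
import Groth.Agent.SpectralTopology.FpCancel

set_option autoImplicit false
open CategoryTheory AlgebraicGeometry
universe u
open EGA43

namespace Groth.Agent.S3443
open Groth.SpectralTopology Topology

open CategoryTheory.Limits in
/-- Let g : Y ⟶ S and f : X ⟶ Y be such that X and Y are of finite presentation over S (locally of
finite presentation, quasi-compact and quasi-separated). For each point s of S let f_s be the
induced morphism from the fibre of f ≫ g over s to the fibre of g over s. Then the set of s for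
which f_s is surjective is locally constructible in S. -/
theorem result {X Y S : Scheme.{u}} (f : X ⟶ Y) (g : Y ⟶ S)
    [LocallyOfFinitePresentation g] [QuasiCompact g] [QuasiSeparated g]
    [LocallyOfFinitePresentation (f ≫ g)] [QuasiCompact (f ≫ g)] [QuasiSeparated (f ≫ g)] :
    Topology.IsLocallyConstructible {s : S |
      Function.Surjective (pullback.lift (pullback.fst (f ≫ g) (S.fromSpecResidueField s) ≫ f) (pullback.snd (f ≫ g) (S.fromSpecResidueField s))
          ((Category.assoc _ _ _).trans pullback.condition) :
        pullback (f ≫ g) (S.fromSpecResidueField s) ⟶ pullback g (S.fromSpecResidueField s)).base} := by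
  show IsLocallyConstructible {s : S | Function.Surjective (MoreMor.fiberMap f g s).base}
  obtain ⟨_, _, _⟩ := fp_left f g
  have h : {s : S | Function.Surjective (MoreMor.fiberMap f g s).base} = (g '' (Set.range f)ᶜ)ᶜ := by
    ext s
    have hr := Scheme.Hom.range_fiberι g s
    constructor
    · rintro hs ⟨y, hy, rfl⟩
      obtain ⟨z, hz⟩ := hs (g.asFiber y)
      refine hy ⟨(f ≫ g).fiberι (g y) z, ?_⟩
      rw [← Scheme.Hom.comp_apply, ← fiberMap_fiberι, Scheme.Hom.comp_apply]
      erw [hz]
      exact g.fiberι_asFiber y
    · intro hs y
      obtain ⟨x, hx⟩ : g.fiberι s y ∈ Set.range f :=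
        by_contra fun h ↦ hs ⟨_, h, hr.le ⟨y, rfl⟩⟩
      obtain ⟨z, hz₁, hz₂⟩ := Scheme.Pullback.exists_preimage_pullback x y hx
      refine ⟨(isPullback_fiberMap f g s).isoPullback.inv z, ?_⟩
      show (MoreMor.fiberMap f g s) _ = y
      rw [← Scheme.Hom.comp_apply, IsPullback.isoPullback_inv_snd]
      exact hz₂
  rw [h]
  exact Groth.EGA41Two.isLocallyConstructible_compl (g.isLocallyConstructible_image
    (Groth.EGA41Two.isLocallyConstructible_compl
      (Set.image_univ ▸ f.isLocallyConstructible_image IsLocallyConstructible.univ)))

end Groth.Agent.S3443
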