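import Groth.Statements.S5890
import Groth.Agent.SpectralTopology.ConsExamples

set_option autoImplicit false
universe u
open CategoryTheory AlgebraicGeometry
open ConsProp

namespace Groth.Agent.S5890
open Groth.SpectralTopology

/-- Being radicial (universally injective) is a constructible property of morphisms of algebraic
schemes. -/
theorem result :
    ConsProp.IsConsMor (fun X Y T f g => AlgebraicGeometry.UniversallyInjective f) := by
  refine isConsMor_congr ?_ (isConsMor_forall_fiber isCons_ui)
  intro X Y T f g _ _ _ _ _ _
  simp only [← isRadicialAt_iff_universallyInjective]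
  rw [(tfae_universallyInjective f).out 0 2 rfl rfl]
  exact ⟨fun h ↦ ⟨fun a b hab ↦ (h (f a)).1 a b rfl hab.symm, fun x ↦ (h (f x)).2 x rfl⟩,
    fun h y ↦ ⟨fun a b ha hb ↦ h.1 (ha.trans hb.symm), fun x _ ↦ h.2 x⟩⟩

end Groth.Agent.S5890
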