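import Groth.Statements.S5889
import Groth.Agent.SpectralTopology.ConsExamples

set_option autoImplicit false
universe u
open CategoryTheory AlgebraicGeometry
open ConsProp

namespace Groth.Agent.S5889
open Groth.SpectralTopology

/-- Being quasi-finite (locally of finite type, quasi-compact, with discrete fibres) is a constructible
property of morphisms of algebraic schemes. -/
theorem result :
    ConsProp.IsConsMor
      (fun X Y T f g => AlgebraicGeometry.LocallyOfFiniteType f ∧ AlgebraicGeometry.QuasiCompact f ∧
        AlgebraicGeometry.LocallyQuasiFinite f) := by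
  refine isConsMor_congr ?_ (isConsMor_forall_fiber isCons_finite)
  intro X Y T f g _ _ _ _ _ _
  obtain ⟨h1, h2, -⟩ := fibre_admissible f g
  rw [← locallyQuasiFinite_iff_isFinite_fiber]
  exact ⟨fun h ↦ ⟨h1, h2, h⟩, fun h ↦ h.2.2⟩

end Groth.Agent.S5889
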