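import Groth.Statements.S3448
import Groth.Agent.FibreDim.Equidim
import Groth.Agent.FibreDim.StalkFormula

set_option autoImplicit false
open CategoryTheory AlgebraicGeometry
universe u
open EGA43

namespace Groth.Agent.S3448

/-- Let Y be locally Noetherian, f : X ⟶ Y of finite type, x a point of X with y = f x, and suppose
O_{Y,y} is universally catenary. Then dim O_{X,x} = dim O_{Y,y} + dim O_{X_y,x} if and only if there
is a point z of the fibre over y which is a generization of x, is maximal in the fibre (the generic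
point of an irreducible component Z of X_y containing x), has local fibre dimension at z equal to
that at x (dim Z = dim_x X_y), and satisfies dim O_{X,z} = dim O_{Y,y}. -/
theorem result {X Y : Scheme.{u}} [IsLocallyNoetherian Y]
    (f : X ⟶ Y) [LocallyOfFiniteType f] [QuasiCompact f] (x : X)
    (hcat : CAlg.IsUniversallyCatenary (Y.presheaf.stalk (f.base x))) :
    ringKrullDim (X.presheaf.stalk x) =
        ringKrullDim (Y.presheaf.stalk (f.base x)) + ringKrullDim ((f.fiber (f.base x)).presheaf.stalk (f.asFiber x)) ↔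
      ∃ z : X, f.base z = f.base x ∧ z ⤳ x ∧ (∀ z' : X, f.base z' = f.base x → z' ⤳ z → z' = z) ∧
        FlatMor.fibreDimAt f z = FlatMor.fibreDimAt f x ∧
        ringKrullDim (X.presheaf.stalk z) = ringKrullDim (Y.presheaf.stalk (f.base z)) := by
  haveI : IsLocallyNoetherian X := LocallyOfFiniteType.isLocallyNoetherian f
  obtain ⟨t, e, ht, -, he, hfd⟩ := Groth.FibreDim.exists_fibre_quantities f x
  obtain ⟨B, hB⟩ := Groth.FibreDim.exists_coheight_eq_natCast (f.base x)
  obtain ⟨A, hA⟩ := Groth.FibreDim.exists_coheight_eq_natCast x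
  constructor
  · intro h
    rw [ringKrullDim_stalk_eq_coheight, ringKrullDim_stalk_eq_coheight (f.base x), hA, hB, he] at h
    have hABe : A = B + e := by exact_mod_cast h
    obtain ⟨s, hs, hslen, -⟩ := Groth.FibreDim.exists_series_maximal x
    have hξx : s.last ⤳ x := by
      have : s.head ≤ s.last := s.head_le_last
      rwa [hs] at this
    obtain ⟨t1, t₀, a, b, ht1, ht₀, hle, -, -, hchain, hb, -, -, -, hbchain, -⟩ :=
      Groth.FibreDim.exists_dim_formula_along f hξx
    have ha := hchain s hs.ge le_rfl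
    rw [hA, Nat.cast_inj] at hslen
    rw [ht, Nat.cast_inj] at ht1
    rw [hB, Nat.cast_le] at hb
    obtain ⟨X', Y', i, j, g, _, _, _, _, _, _, hg, _, _, hi, hj⟩ := Groth.FibreDim.exists_restrict f s.last
    haveI : IsLocallyNoetherian Y' := LocallyOfFiniteType.isLocallyNoetherian j
    obtain ⟨x', hx'⟩ : x ∈ Set.range i.base := hi.ge (specializes_iff_mem_closure.1 hξx)
    subst hx'
    obtain ⟨z', hz'y, hz'x, hz'0, hz'd⟩ := Groth.FibreDim.exists_maximal_fibre_point g x'
    have hcomm : ∀ w : X', f.base (i.base w) = j.base (g.base w) := fun w => by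
      rw [← Scheme.Hom.comp_apply, ← hg, Scheme.Hom.comp_apply]
    obtain ⟨ξ', hξ'⟩ : s.last ∈ Set.range i.base := hi.ge (subset_closure rfl)
    have hgd : FlatMor.fibreDimAt g ξ' ≤ FlatMor.fibreDimAt g x' :=
      Groth.FibreDim.fibreDimAt_le_of_specializes g
        (i.isEmbedding.toIsInducing.specializes_iff.1 (hξ'.symm ▸ hξx))
    obtain ⟨u, e', hu, -, -, hud⟩ := Groth.FibreDim.exists_fibre_quantities g ξ'
    rw [(Groth.FibreDim.height_asFiber_restrict f i j g hg ξ').1, hξ', ht₀, Nat.cast_inj] at hu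
    have hzh := (Groth.FibreDim.height_asFiber_restrict f i j g hg z').1
    obtain ⟨tz, ez, htz, -, hez, hzfd⟩ := Groth.FibreDim.exists_fibre_quantities f (i.base z')
    rw [hzh, htz] at hz'd
    have hzy : f.base (i.base z') = f.base (i.base x') := by rw [hcomm, hcomm, hz'y]
    have hzx : i.base z' ⤳ i.base x' := hz'x.map i.continuous
    rw [hud, ← hz'd] at hgd
    have hgd' : u + e' ≤ tz := by exact_mod_cast hgd
    have hmono := Groth.FibreDim.fibreDimAt_le_of_specializes f hzx
    rw [hfd, hzfd] at hmono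
    have hmono' : tz + ez ≤ t + e := by exact_mod_cast hmono
    have hez0 : ez = 0 := by omega
    have hzmax : ∀ w, f.base w = f.base (i.base x') → w ⤳ i.base z' → w = i.base z' := fun w hw =>
      (Groth.FibreDim.isMax_asFiber_iff f _).1 (Order.coheight_eq_zero.1 (by
        rw [ringKrullDim_stalk_eq_coheight, hez0] at hez
        exact_mod_cast hez)) w (hw.trans hzy.symm)
    refine ⟨_, hzy, hzx, hzmax, by rw [hfd, hzfd]; norm_cast; omega, ?_⟩
    refine le_antisymm ((Groth.FibreDim.ringKrullDim_stalk_le_add f _).trans (by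
      rw [hez, hez0]; simp)) ?_
    have hξz : s.last ⤳ i.base z' := by
      rw [specializes_iff_mem_closure, ← hi]; exact ⟨z', rfl⟩
    obtain ⟨tz2, t12, az2, bz2, htz2, ht12, -, heqz2, haz2, -, -, -, -, -, hbchain2, -⟩ :=
      Groth.FibreDim.exists_dim_formula_along f hξz
    rw [htz, Nat.cast_inj] at htz2
    rw [ht₀, Nat.cast_inj] at ht12
    have h6 := heqz2 (hzy ▸ hcat)
    obtain ⟨Az, hAz⟩ := Groth.FibreDim.exists_coheight_eq_natCast (i.base z')
    rw [hAz, Nat.cast_le] at haz2
    obtain ⟨t4, t5, a4, b4, ht4, ht5, hle4, -, -, hchain4, hb4, -, -, -, -, ⟨sY4, hsY41, hsY42, hsY43⟩, -⟩ :=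
      Groth.FibreDim.exists_dim_formula_along f hξx
    have h7 := hchain4 s hs.ge le_rfl
    rw [ht, Nat.cast_inj] at ht4
    rw [ht₀, Nat.cast_inj] at ht5
    have h8 := hbchain2 sY4 (hzy ▸ hsY41) hsY42
    rw [ringKrullDim_stalk_eq_coheight, ringKrullDim_stalk_eq_coheight, hzy, hB, hAz]
    norm_cast
    omega
  · rintro ⟨z, hzy, hzx, hzmax, hzd, hzdim⟩
    refine le_antisymm (Groth.FibreDim.ringKrullDim_stalk_le_add f x) ?_
    obtain ⟨s, hs, hslen, -⟩ := Groth.FibreDim.exists_series_maximal z
    have hξz : s.last ⤳ z := by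
      have : s.head ≤ s.last := s.head_le_last
      rwa [hs] at this
    have hmax' : ∀ w, f.base w = f.base z → w ⤳ z → w = z := fun w hw => hzmax w (hw.trans hzy)
    obtain ⟨tz, t₀, az, bz, htz, ht₀, hle, -, -, hchain, hbz, -, -, ht₀le, -, ⟨sY, hsY1, hsY2, hsY3⟩, -⟩ :=
      Groth.FibreDim.exists_dim_formula_along f hξz
    have haz := hchain s hs.ge le_rfl
    rw [ringKrullDim_stalk_eq_coheight, ringKrullDim_stalk_eq_coheight, ← hslen, hzy, hB] at hzdim
    have hlen : s.length = B := by exact_mod_cast hzdim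
    rw [hzy, hB, Nat.cast_le] at hbz
    rw [(Groth.FibreDim.fibreDimAt_eq_height_of_max f hmax').1, htz, hfd] at hzd
    have hzd' : tz = t + e := by exact_mod_cast hzd
    rw [Order.coheight_eq_zero.2 ((Groth.FibreDim.isMax_asFiber_iff f z).2 hmax'), add_zero,
      Nat.cast_le] at ht₀le
    obtain ⟨t1, t₁, a, b, ht1, ht₁, -, heq, ha, -, -, -, -, -, hbchain, -⟩ :=
      Groth.FibreDim.exists_dim_formula_along f (hξz.trans hzx)
    rw [ht, Nat.cast_inj] at ht1
    rw [ht₀, Nat.cast_inj] at ht₁
    have h4 := hbchain sY (hzy ▸ hsY1) hsY2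
    have h5 := heq hcat
    rw [hA, Nat.cast_le] at ha
    rw [ringKrullDim_stalk_eq_coheight (f.base x), ringKrullDim_stalk_eq_coheight x, hA, hB, he]
    norm_cast
    omega

end Groth.Agent.S3448
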