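import Groth.Statements.S3449
import Groth.Agent.EGA43Topo.JacobsonDim

set_option autoImplicit false
open CategoryTheory AlgebraicGeometry
universe u
open EGA43

namespace Groth.Agent.S3449

/-- Let S be a locally Noetherian scheme which is Jacobson, whose local rings are universally catenary,
and whose irreducible components S' are equidimensional in the sense that for every closed point s
of S' the dimension of S' equals the dimension of S' at s (the Krull dimension of the set of
generizations of s inside S'). Let X and Y be S-schemes, each locally of finite type over the base
S, and let f : X ⟶ Y be a morphism over S, with X irreducible and f dominant; let η be the generic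
point of Y and e the dimension of the fibre over η. Then dim X = dim Y + e. -/
theorem result {X Y S : Scheme.{u}} [IsLocallyNoetherian S]
    [JacobsonSpace S] (h2 : ∀ s : S, CAlg.IsUniversallyCatenary (S.presheaf.stalk s))
    (h3 : ∀ S' ∈ irreducibleComponents (S : Type u), ∀ s ∈ S', IsClosed ({s} : Set S) →
      topologicalKrullDim (↥S' : Type u) = topologicalKrullDim ↥{t : S | t ∈ S' ∧ t ⤳ s})
    (p : X ⟶ S) (q : Y ⟶ S) [LocallyOfFiniteType p] [LocallyOfFiniteType q] (f : X ⟶ Y) (hf : f ≫ q = p)
    [IrreducibleSpace X] [IrreducibleSpace Y] [IsDominant f] :
    topologicalKrullDim (X : Type u) =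
      topologicalKrullDim (Y : Type u) + topologicalKrullDim ↥(f.fiber (genericPoint Y)) := by
  exact Groth.EGA43Topo.JacobsonDim.dim_eq_dim_add_generic_fibre h2 h3 p q f hf

end Groth.Agent.S3449
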