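import Groth.Statements.S3450
import Groth.Agent.S3433
import Groth.Agent.LocCohTransform.SymbolicTop
import Groth.Agent.EtaleAlgebra.DimOneQuot
-- import your own Groth.Agent.* helpers here

set_option autoImplicit false
universe u
open EGA43

namespace Groth.Agent.S3450

/-- Let A be a Noetherian local ring which is reduced, complete (for the topology defined by its maximal
ideal m) and not a field. Then for every n there are finitely many local homomorphisms φ_i : A → V_i
into discrete valuation rings, each making V_i a finite A-algebra, such that the intersection of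
their kernels is contained in mⁿ. (Equivalently: such finite intersections form a base of
neighbourhoods of 0 for the m-adic topology.) -/
theorem result (A : Type u) [CommRing A] [IsNoetherianRing A]
    [IsLocalRing A] [IsReduced A] [IsAdicComplete (IsLocalRing.maximalIdeal A) A] (hA : ¬ IsField A) (n : ℕ) :
    ∃ (k : ℕ) (V : Fin k → Type u) (_ : ∀ i, CommRing (V i)) (_ : ∀ i, IsDomain (V i))
      (_ : ∀ i, IsDiscreteValuationRing (V i)) (φ : ∀ i, A →+* V i),
      (∀ i, IsLocalHom (φ i) ∧ (φ i).Finite) ∧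
        ⨅ i, RingHom.ker (φ i) ≤ IsLocalRing.maximalIdeal A ^ n := by
  classical
  set m := IsLocalRing.maximalIdeal A with hm
  have hm0 : m ≠ ⊥ := fun h => hA (IsLocalRing.isField_iff_maximalIdeal_eq.2 h)
  obtain ⟨hJ, hcl⟩ := Groth.Agent.S3433.result A
  -- primes of dimension one
  let P := {p : PrimeSpectrum A // ringKrullDim (A ⧸ p.asIdeal) = 1}
  have hmem : ∀ x : A, x ≠ 0 → x ∈ m → ∃ p : P, x ∉ p.1.asIdeal := by
    intro x hx hxm
    let Y := ({IsLocalRing.closedPoint A}ᶜ : Set (PrimeSpectrum A))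
    obtain ⟨q, hq⟩ : ∃ q : PrimeSpectrum A, x ∉ q.asIdeal := by
      by_contra! h
      refine hx ((nilpotent_iff_mem_prime.2 fun J hJ => h ⟨J, hJ⟩).eq_zero)
    have hqY : q ∈ Y := fun h => hq (by rw [Set.mem_singleton_iff.1 h]; exact hxm)
    let U : Set Y := Subtype.val ⁻¹' (PrimeSpectrum.basicOpen x : Set (PrimeSpectrum A))
    have hU : IsOpen U := (PrimeSpectrum.basicOpen x).isOpen.preimage continuous_subtype_val
    obtain ⟨y, hy, hyc⟩ := nonempty_inter_closedPoints (X := Y) ⟨⟨q, hqY⟩, hq⟩ hU.isLocallyClosed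
    exact ⟨⟨y.1, (hcl y).1 hyc⟩, hy⟩
  have hbot : ∀ x : A, (∀ p : P, x ∈ p.1.asIdeal) → x = 0 := by
    intro x hx
    by_contra h
    by_cases hxm : x ∈ m
    · obtain ⟨p, hp⟩ := hmem x h hxm
      exact hp (hx p)
    · obtain ⟨y, hy, hy0⟩ := Submodule.exists_mem_ne_zero_of_ne_bot hm0
      obtain ⟨p, -⟩ := hmem y hy0 hy
      exact hxm (IsLocalRing.le_maximalIdeal p.1.isPrime.ne_top (hx p))
  -- a cofinal sequence of finite intersections
  let J : Finset P → Ideal A := fun S => S.inf fun p => p.1.asIdeal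
  have hmin : ∀ l : ℕ, ∃ S : Finset P, ∀ T, S ⊆ T → J S ≤ J T ⊔ m ^ l := by
    intro l
    haveI : IsArtinian A (A ⧸ m ^ l) :=
      (isFiniteLength_iff_isNoetherian_isArtinian.1 (GrothMatlis.isFiniteLength_quotient_pow l)).2
    let Q : Set (Submodule A (A ⧸ m ^ l)) := Set.range fun S => Submodule.map (m ^ l).mkQ (J S)
    obtain ⟨_, ⟨S, rfl⟩, hS⟩ := (IsWellFounded.wf (r := (· < · : Submodule A (A ⧸ m ^ l) → _ → Prop))).has_min
      Q ⟨_, ∅, rfl⟩
    refine ⟨S, fun T hST => ?_⟩
    have hle : Submodule.map (m ^ l).mkQ (J T) ≤ Submodule.map (m ^ l).mkQ (J S) :=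
      Submodule.map_mono (Finset.inf_mono hST)
    have he := (hle.eq_or_lt).resolve_right (hS _ ⟨T, rfl⟩)
    intro x hx
    have h2 : x ∈ Submodule.comap (m ^ l).mkQ (Submodule.map (m ^ l).mkQ (J T)) :=
      Submodule.mem_comap.2 (he ▸ Submodule.mem_map_of_mem hx)
    rwa [Submodule.comap_map_mkQ, sup_comm] at h2
  choose S hS using hmin
  let U : ℕ → Finset P := fun l => (Finset.range (l + 1)).biUnion S
  have hF : Antitone fun l => J (U l) := fun a b hab => Finset.inf_mono
    (Finset.biUnion_subset_biUnion_of_subset_left _ (Finset.range_mono (by omega)))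
  have hF0 : ⨅ l, J (U l) = ⊥ := by
    refine (Submodule.eq_bot_iff _).2 fun x hx => hbot x fun p => ?_
    have hxp : ∀ l, x ∈ p.1.asIdeal ⊔ m ^ l := fun l => by
      have h0 : J (U l) ≤ J (S l) := Finset.inf_mono (Finset.subset_biUnion_of_mem S
        (Finset.self_mem_range_succ l))
      have h1 : x ∈ J (S l) := h0 ((Submodule.mem_iInf _).1 hx l)
      have h2 : J (insert p (S l)) ⊔ m ^ l ≤ p.1.asIdeal ⊔ m ^ l :=
        sup_le_sup_right (Finset.inf_le (Finset.mem_insert_self p (S l))) _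
      exact h2 (hS l (insert p (S l)) (Finset.subset_insert _ _) h1)
    haveI : IsLocalRing (A ⧸ p.1.asIdeal) :=
      IsLocalRing.of_surjective' (Ideal.Quotient.mk _) Ideal.Quotient.mk_surjective
    refine Ideal.Quotient.eq_zero_iff_mem.1 ?_
    have h2 : Ideal.Quotient.mk p.1.asIdeal x ∈ ⨅ l, (m.map (Ideal.Quotient.mk p.1.asIdeal)) ^ l := by
      refine (Submodule.mem_iInf _).2 fun l => ?_
      have h3 := Ideal.mem_map_of_mem (Ideal.Quotient.mk p.1.asIdeal) (hxp l)
      rwa [Ideal.map_sup, Ideal.map_quotient_self, bot_sup_eq, Ideal.map_pow] at h3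
    rwa [Ideal.iInf_pow_eq_bot_of_isDomain, Ideal.mem_bot] at h2
    intro h
    obtain ⟨y, hy, hy1⟩ := (Ideal.mem_map_iff_of_surjective _ Ideal.Quotient.mk_surjective).1
      ((Ideal.eq_top_iff_one _).1 h)
    rw [← map_one (Ideal.Quotient.mk p.1.asIdeal), Ideal.Quotient.eq] at hy1
    exact (IsLocalRing.maximalIdeal.isMaximal A).ne_top ((Ideal.eq_top_iff_one _).2
      (by have h5 := sub_mem hy (IsLocalRing.le_maximalIdeal p.1.isPrime.ne_top hy1); rwa [sub_sub_cancel] at h5))
  obtain ⟨N, hN⟩ := Groth.LocCohTransform.HLVT.chevalley _ hF hF0 n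
  -- the normalisations
  have hV : ∀ p : P, ∃ (V : Type u) (_ : CommRing V) (_ : IsDomain V)
      (_ : IsDiscreteValuationRing V) (φ : A →+* V),
      IsLocalHom φ ∧ φ.Finite ∧ RingHom.ker φ = p.1.asIdeal := fun p =>
    Groth.EtaleAlgebra.DimOneQuot.exists_dvr A p.1.asIdeal p.2
  choose V i1 i2 i3 φ hloc hfin hker using hV
  refine ⟨(U N).card, fun i => V ((U N).equivFin.symm i), fun i => i1 _, fun i => i2 _,
    fun i => i3 _, fun i => φ _, fun i => ⟨hloc _, hfin _⟩, le_trans ?_ hN⟩
  refine Finset.le_inf fun p hp => (iInf_le _ ((U N).equivFin ⟨p, hp⟩)).trans ?_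
  rw [hker, Equiv.symm_apply_apply]

end Groth.Agent.S3450
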