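import Groth.Statements.S3451
import Groth.Agent.Ega43Geom.FibreHeight
import Groth.Agent.Ega43Geom.Equidim

set_option autoImplicit false
open CategoryTheory AlgebraicGeometry
universe u
open EGA43

namespace Groth.Agent.S3451

theorem mem_top_iff {X S : Scheme.{u}} (f : X ⟶ S) [LocallyOfFinitePresentation f] (τ : ℕ) (x : X) :
    x ∈ Groth.Ega43Geom.htSet f (Groth.Ega43Geom.htSet f Set.univ (τ + 1))ᶜ τ ↔
      ∃ w : f.fiber (f.base x), w ⤳ f.asFiber x ∧ (∀ v, v ⤳ w → v = w) ∧ Order.height w = (τ : ℕ∞) := by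
  constructor
  · rintro ⟨w, hw, hwE, hτ⟩
    rw [Set.mem_compl_iff, Groth.Ega43Geom.mem_htSet_fiberι] at hwE
    have hle : ∀ v, v ⤳ w → Order.height v ≤ (τ : ℕ∞) := fun v hv => by
      obtain ⟨b, hb⟩ := Groth.Ega43FP2.exists_height_eq_nat f _ v
      rw [hb, Nat.cast_le]
      by_contra hlt
      exact hwE ⟨v, hv, trivial, by rw [hb, Nat.cast_le]; omega⟩
    have hwτ : Order.height w = (τ : ℕ∞) := le_antisymm (hle w specializes_rfl) hτ
    refine ⟨w, hw, fun v hv => ?_, hwτ⟩
    by_contra hne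
    have hlt : w < v := lt_of_le_not_ge (Scheme.le_iff_specializes.2 hv)
      fun h => hne ((Scheme.le_iff_specializes.1 h).antisymm hv).eq.symm
    have h := Order.height_strictMono hlt (by rw [hwτ]; exact ENat.natCast_lt_top τ)
    exact absurd (hle v hv) (not_le.2 (hwτ ▸ h))
  · rintro ⟨w, hw, hmax, hh⟩
    refine ⟨w, hw, ?_, hh.ge⟩
    rw [Set.mem_compl_iff, Groth.Ega43Geom.mem_htSet_fiberι]
    rintro ⟨v, hv, -, hvτ⟩
    rw [hmax v hv, hh, Nat.cast_le] at hvτ
    omega

theorem equidim_iff {X S : Scheme.{u}} (f : X ⟶ S) [LocallyOfFinitePresentation f] (x : X) :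
    (∃ e : ℕ, ∀ Z ∈ irreducibleComponents (↥(f.fiber (f.base x)) : Type u), f.asFiber x ∈ Z →
        topologicalKrullDim (↥Z : Type u) = e) ↔
      ∃ e : ℕ, ∀ w : f.fiber (f.base x), w ⤳ f.asFiber x → (∀ v, v ⤳ w → v = w) → Order.height w = (e : ℕ∞) := by
  refine exists_congr fun e => ⟨fun h w hw hm => ?_, fun h Z hZ hxZ => ?_⟩
  · have hZ : closure {w} ∈ irreducibleComponents (↥(f.fiber (f.base x)) : Type u) := by
      refine ⟨isIrreducible_singleton.closure, fun T hT hle => ?_⟩
      obtain ⟨η, hη⟩ := QuasiSober.sober hT.closure isClosed_closure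
      obtain rfl := hm η (hη.specializes (subset_closure (hle (subset_closure rfl))))
      exact hη.def ▸ subset_closure
    have h1 := h _ hZ (specializes_iff_mem_closure.1 hw)
    rw [show topologicalKrullDim ↥(closure ({w} : Set ↥(f.fiber (f.base x)))) = _ from
      (Groth.Ega43FP2.clDimAt_eq f _ w)] at h1
    exact_mod_cast h1
  · obtain ⟨η, hη⟩ := QuasiSober.sober hZ.1 (isClosed_of_mem_irreducibleComponents Z hZ)
    have hmax : ∀ v, v ⤳ η → v = η := fun v hv => by
      have h1 : closure {η} ⊆ closure {v} :=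
        closure_minimal (Set.singleton_subset_iff.mpr (specializes_iff_mem_closure.mp hv)) isClosed_closure
      have h2 := hZ.2 isIrreducible_singleton.closure (hη.def ▸ h1)
      exact (show IsGenericPoint v Z from le_antisymm h2 (hη.def ▸ h1)).eq hη
    have h1 := h η (hη.specializes hxZ) hmax
    rw [← hη.def, show topologicalKrullDim ↥(closure ({η} : Set ↥(f.fiber (f.base x)))) = _ from
      (Groth.Ega43FP2.clDimAt_eq f _ η), h1]
    rfl



/-- Let f : X ⟶ S be locally of finite presentation. The set of points x of X such that the fibre of f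
through x is equidimensional at x (all irreducible components of that fibre passing through x have
the same dimension) is locally constructible in X. -/
theorem result {X S : Scheme.{u}} (f : X ⟶ S)
    [LocallyOfFinitePresentation f] :
    Topology.IsLocallyConstructible {x : X | ∃ e : ℕ,
      ∀ Z ∈ irreducibleComponents (↥(f.fiber (f.base x)) : Type u), f.asFiber x ∈ Z →
        topologicalKrullDim (↥Z : Type u) = e} := by
  classical
  refine Groth.Ega43FP2.isLocallyConstructible_of_charts f _ fun {W} hW {O} hO hWO => ?_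
  obtain ⟨N, hN⟩ := Groth.FibreDim.exists_height_bound_of_affine f hO hW hWO
  let Top : ℕ → Set X := fun τ => Groth.Ega43Geom.htSet f (Groth.Ega43Geom.htSet f Set.univ (τ + 1))ᶜ τ
  have hTop : ∀ τ, Topology.IsConstructible (hW.fromSpec ⁻¹' Top τ) := fun τ => by
    refine Groth.Ega43Geom.isConstructible_preimage_htSet f hW hO hWO _ ?_ τ
    rw [Set.preimage_compl, Topology.isConstructible_compl]
    exact Groth.Ega43Geom.isConstructible_preimage_htSet f hW hO hWO _ (by simp) _
  let P : Set (ℕ × ℕ) := {p | p.1 ≤ N ∧ p.2 ≤ N ∧ p.1 ≠ p.2}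
  have hP : P.Finite := ((Set.finite_Iic N).prod (Set.finite_Iic N)).subset fun p hp => ⟨hp.1, hp.2.1⟩
  have h := (Topology.IsConstructible.biUnion hP fun p _ => (hTop p.1).inter (hTop p.2)).compl
  convert! h using 1
  ext v
  have hxW : hW.fromSpec v ∈ W := hW.range_fromSpec.subset ⟨v, rfl⟩
  simp only [Set.mem_preimage, Set.mem_ofPred_eq, Set.mem_compl_iff, Set.mem_iUnion, Set.mem_inter_iff,
    not_exists, not_and]
  generalize hW.fromSpec v = x at hxW ⊢
  rw [equidim_iff f x]
  constructor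
  · rintro h ⟨a, b⟩ hab h1 h2
    obtain ⟨w, hw, hmax, hh⟩ := (mem_top_iff f a x).1 h1
    obtain ⟨w', hw', hmax', hh'⟩ := (mem_top_iff f b x).1 h2
    obtain ⟨e, he⟩ := h
    have h3 := hh.symm.trans (he w hw hmax)
    have h4 := hh'.symm.trans (he w' hw' hmax')
    exact hab.2.2 ((Nat.cast_inj.1 h3).trans (Nat.cast_inj.1 h4).symm)
  · intro h
    obtain ⟨w₀, hw₀, hm₀⟩ := Groth.Ega43Geom.exists_max_generization f _ (f.asFiber x)
    obtain ⟨e, he⟩ := Groth.Ega43FP2.exists_height_eq_nat f _ w₀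
    refine ⟨e, fun w hw hm => ?_⟩
    obtain ⟨b, hb⟩ := Groth.Ega43FP2.exists_height_eq_nat f _ w
    rw [hb, Nat.cast_inj]
    by_contra hne
    have hmemW : ∀ z : f.fiber (f.base x), z ⤳ f.asFiber x → f.fiberι _ z ∈ W := fun z hz => by
      have := hz.map (f.fiberι _).continuous
      rw [f.fiberι_asFiber] at this
      exact this.mem_open W.isOpen hxW
    exact h (b, e) ⟨Nat.cast_le.1 (hb ▸ hN _ w (hmemW w hw)), Nat.cast_le.1 (he ▸ hN _ w₀ (hmemW w₀ hw₀)), hne⟩
      ((mem_top_iff f b x).2 ⟨w, hw, hm, hb⟩) ((mem_top_iff f e x).2 ⟨w₀, hw₀, hm₀, he⟩)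

end Groth.Agent.S3451
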