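import Groth.Statements.S3454
import Groth.Agent.Ega43Geom.FibreHeight

set_option autoImplicit false
open CategoryTheory AlgebraicGeometry
universe u
open EGA43

namespace Groth.Agent.S3454

/-- Let f : X ⟶ S be locally of finite presentation and k a natural number. The set of points x of X
such that the fibre of f through x satisfies the geometric condition (R_k) at x — for every field
extension K of the residue field of f x and every point x' above x in the base-changed fibre, the
local ring at x' satisfies Serre's condition (R_k) — is locally constructible in X. -/
theorem result {X S : Scheme.{u}} (f : X ⟶ S)
    [LocallyOfFinitePresentation f] (k : ℕ) :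
    Topology.IsLocallyConstructible {x : X |
      ∀ (K : Type u) [Field K] [Algebra (IsLocalRing.ResidueField (S.presheaf.stalk (f.base x))) K]
        (x' : ↥(FBase.bc (f.fiberToSpecResidueField (f.base x)) K)),
        (FBase.bcπ (f.fiberToSpecResidueField (f.base x)) K).base x' = f.asFiber x →
          LocCoh.HasRk k ((FBase.bc (f.fiberToSpecResidueField (f.base x)) K).presheaf.stalk x')} := by
  exact Groth.Ega43Geom.isLocallyConstructible_geomRk f k

end Groth.Agent.S3454
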