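import Groth.Statements.S3456
import Groth.Agent.Misc6.Equidim2

set_option autoImplicit false
open CategoryTheory AlgebraicGeometry
universe u
open EGA43

namespace Groth.Agent.S3456

/-- Let Y be locally Noetherian, f : X ⟶ Y locally of finite type and x a point of X; let X_j run over
the (finitely many) irreducible components of X containing x. Then f is equidimensional at x if and
only if there is a natural number e such that for every X_j: the closure Y_j of f(X_j) is an
irreducible component of Y; for every point η of Y whose closure equals Y_j (i.e. the generic point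
of Y_j), the fibre X_j ∩ f⁻¹(η) has topological Krull dimension e; and the local dimension at x of
X_j ∩ f⁻¹(f x) is e. All subsets of X carry the induced topology. -/
theorem result {X Y : Scheme.{u}} [IsLocallyNoetherian Y] (f : X ⟶ Y)
    [LocallyOfFiniteType f] (x : X) :
    EGA43.IsEquidimAt f x ↔
      ∃ e : ℕ, ∀ Xj ∈ irreducibleComponents (X : Type u), ∀ hx : x ∈ Xj,
        closure (f.base '' Xj) ∈ irreducibleComponents (Y : Type u) ∧
        (∀ η : Y, closure ({η} : Set Y) = closure (f.base '' Xj) →
          topologicalKrullDim ↥(Xj ∩ f.base ⁻¹' {η}) = e) ∧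
        FlatMor.localDim ↥(Xj ∩ f.base ⁻¹' {f.base x}) ⟨x, ⟨hx, Set.mem_singleton (f.base x)⟩⟩ = e := by
  have : IsLocallyNoetherian X := LocallyOfFiniteType.isLocallyNoetherian f
  constructor
  · intro h
    obtain ⟨a, -, -, ha⟩ := Groth.Misc6.Equidim.exists_fh_eq f x
    obtain ⟨e, he⟩ := Groth.Misc6.Equidim.exists_fh_nat f a
    rw [he] at ha
    refine ⟨e, fun Xj hXj hx => ?_⟩
    obtain ⟨ξ, hξ⟩ := QuasiSober.sober hXj.1 (isClosed_of_mem_irreducibleComponents Xj hXj)
    obtain rfl : closure {ξ} = Xj := hξ.def
    obtain ⟨h1, h2⟩ := Groth.Misc6.Equidim.of_isEquidimAt f h hXj (specializes_iff_mem_closure.2 hx)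
    have hfe : Groth.Misc6.Equidim.fh f ξ = e := WithBot.coe_inj.1 (h2.symm.trans ha.symm)
    have himg : closure (f.base '' closure {ξ}) = closure {f.base ξ} := by
      rw [closure_image_closure f.continuous, Set.image_singleton]
    refine ⟨himg.symm ▸ h1, fun η hη => ?_, ?_⟩
    · obtain rfl : η = f.base ξ := (show IsGenericPoint η (closure {f.base ξ}) from hη.trans himg).eq rfl
      rw [Groth.Misc6.Equidim.dim_inter_generic f ξ, hfe]
      rfl
    · let W : TopologicalSpace.Closeds X := ⟨closure {ξ}, isClosed_closure⟩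
      refine le_antisymm ?_ ?_
      · obtain ⟨b, -, hbx, -, hb⟩ := Groth.Misc6.Equidim.exists_fh_eq_inter f W (x := x) ⟨hx, rfl⟩
        refine hb.symm.le.trans ?_
        refine ((Groth.Misc6.Equidim.fh_le_fibreDimAt f b).trans (Groth.Misc6.Equidim.fibreDimAt_mono f hbx)).trans ?_
        exact ha.ge
      · have := Groth.Misc6.Equidim.fh_le_localDim_inter f W (x := x) ⟨hx, rfl⟩ (a := ξ) (subset_closure rfl)
          (specializes_iff_mem_closure.2 hx)
        rw [hfe] at this
        exact this
  · rintro ⟨e, he⟩
    refine Groth.Misc6.Equidim.isEquidimAt_of_components f e (fun ξ hξ hξc => ?_) ?_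
    · obtain ⟨h1, h2, -⟩ := he _ hξc (specializes_iff_mem_closure.1 hξ)
      have himg : closure (f.base '' closure {ξ}) = closure {f.base ξ} := by
        rw [closure_image_closure f.continuous, Set.image_singleton]
      refine ⟨himg ▸ h1, ?_⟩
      have := h2 (f.base ξ) himg.symm
      rw [Groth.Misc6.Equidim.dim_inter_generic f ξ] at this
      exact WithBot.coe_inj.1 this
    · obtain ⟨a, hax, -, ha⟩ := Groth.Misc6.Equidim.exists_fh_eq f x
      obtain ⟨ξ, hξ, hξc⟩ := Groth.FibreDim.exists_genericPoint_specializes a
      obtain ⟨-, -, h3⟩ := he _ hξc (specializes_iff_mem_closure.1 (hξ.trans hax))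
      rw [← ha, ← h3]
      exact Groth.Misc6.Equidim.fh_le_localDim_inter f ⟨closure {ξ}, isClosed_closure⟩ (x := x) _
        (specializes_iff_mem_closure.1 hξ) hax

end Groth.Agent.S3456
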