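import Groth.Statements.S3457
import Groth.Agent.FibreDim.Equidim

set_option autoImplicit false
open CategoryTheory AlgebraicGeometry
universe u
open EGA43

namespace Groth.Agent.S3457

/-- Let Y be locally Noetherian, f : X ⟶ Y locally of finite type, x a point of X with y = f x, and
suppose f is equidimensional at x and O_{Y,y} is universally catenary. Let e be the local dimension
at x of the fibre X_y. Then for every minimal prime 𝔭 of O_{X,x} (that is, for every irreducible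
component X_j of X through x, with O_{X_j,x} = O_{X,x}/𝔭 and O_{Y_j,y} = O_{Y,y}/(𝔭 ∩ O_{Y,y})) one
has dim(O_{X,x}/𝔭) + trdeg_{κ(y)} κ(x) = dim(O_{Y,y}/(𝔭 ∩ O_{Y,y})) + e. -/
theorem result {X Y : Scheme.{u}} [IsLocallyNoetherian Y] (f : X ⟶ Y)
    [LocallyOfFiniteType f] (x : X) (h : EGA43.IsEquidimAt f x)
    (hcat : CAlg.IsUniversallyCatenary (Y.presheaf.stalk (f.base x))) :
    letI : Algebra (Y.residueField (f.base x)) (X.residueField x) := (f.residueFieldMap x).hom.toAlgebra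
    ∀ 𝔭 ∈ minimalPrimes (X.presheaf.stalk x),
      ringKrullDim (X.presheaf.stalk x ⧸ 𝔭) +
          (Cardinal.toNat (Algebra.trdeg (Y.residueField (f.base x)) (X.residueField x)) : WithBot ℕ∞) =
        ringKrullDim (Y.presheaf.stalk (f.base x) ⧸ 𝔭.comap (f.stalkMap x).hom) + FlatMor.fibreDimAt f x := by
  intro 𝔭 h𝔭
  haveI : IsLocallyNoetherian X := LocallyOfFiniteType.isLocallyNoetherian f
  haveI := h𝔭.1.1
  let P : PrimeSpectrum (X.presheaf.stalk x) := ⟨𝔭, h𝔭.1.1⟩
  let ξ := (X.fromSpecStalk x).base P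
  have hξ : IsMax ξ := (Groth.FibreDim.isMax_fromSpecStalk_iff P).2 h𝔭
  have hξx : ξ ⤳ x := Scheme.range_fromSpecStalk.le ⟨P, rfl⟩
  obtain ⟨D, U, hxU, hU1, hU2⟩ := (Groth.FibreDim.isEquidimAt_iff f x).1 h
  have hξU := hξx.mem_open U.isOpen hxU
  obtain ⟨t, t₀, a, b, ht, ht₀, -, heq, -, hchain, -, -, -, -, hbchain, hbex, haex⟩ :=
    Groth.FibreDim.exists_dim_formula_along f hξx
  obtain ⟨t', hrel, ht'⟩ := Groth.FibreDim.exists_relTrdeg_eq_height f x
  rw [ht, Nat.cast_inj] at ht'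
  have hξd := hU2 ξ hξU
  rw [(Groth.FibreDim.fibreDimAt_eq_height_of_max f fun z _ hz => (hz.antisymm (hξ hz)).eq).1, ht₀] at hξd
  have hξd' : t₀ = D := by exact_mod_cast hξd
  have hQ : (Y.fromSpecStalk (f.base x)).base (PrimeSpectrum.comap (f.stalkMap x).hom P) = f.base ξ := by
    show (Spec.map (f.stalkMap x) ≫ Y.fromSpecStalk (f.base x)).base P = _
    rw [Scheme.SpecMap_stalkMap_fromSpecStalk f (x := x), Scheme.Hom.comp_apply]
  show ringKrullDim (_ ⧸ P.asIdeal) + (Cardinal.toNat (Groth.Variety2.Dim.relTrdeg f x) : WithBot ℕ∞) =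
    ringKrullDim (_ ⧸ (PrimeSpectrum.comap (f.stalkMap x).hom P).asIdeal) + FlatMor.fibreDimAt f x
  rw [Groth.FibreDim.ringKrullDim_quotient_eq_of_series P rfl a hchain haex,
    Groth.FibreDim.ringKrullDim_quotient_eq_of_series _ hQ b hbchain hbex, hrel, hU2 x hxU,
    Cardinal.toNat_natCast, ← ht', ← hξd']
  have := heq hcat
  norm_cast

end Groth.Agent.S3457
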