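import Groth.Statements.S3459
import Groth.Agent.EGA43Topo.ComponentUnique
import Groth.Agent.Misc6.Equidim2
open Groth.EGA43Topo.CompUnique

set_option autoImplicit false
open CategoryTheory AlgebraicGeometry
universe u
open EGA43

namespace Groth.Agent.S3459

/-- Let Y be an irreducible locally Noetherian scheme with generic point η, f : X ⟶ Y locally of finite
type, x a point of X and y = f x. Suppose (1) x lies on exactly one irreducible component Z of the
fibre X_y, and (2) X_y is geometrically reduced at the generic point of Z. Call an irreducible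
component X' of X containing x admissible when the local dimension at x of X' ∩ f⁻¹(y) equals that
of f⁻¹(y) and the restriction of f to X' (with its reduced structure) is universally open at the
generic points of the irreducible components of X' ∩ f⁻¹(y) containing x. Then there is at most one
admissible X'; and if X' is admissible, the fibre X_η is geometrically reduced at the generic point
of X'. -/
theorem result {X Y : Scheme.{u}} [IrreducibleSpace Y]
    [IsLocallyNoetherian Y] (f : X ⟶ Y) [LocallyOfFiniteType f] (x : X)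
    (h1 : ∃! Zc : Set ↥(f.fiber (f.base x)), Zc ∈ irreducibleComponents (↥(f.fiber (f.base x)) : Type u) ∧ f.asFiber x ∈ Zc)
    (h2 : ∀ z : ↥(f.fiber (f.base x)), f.asFiber x ∈ closure {z} →
      (∀ z' : ↥(f.fiber (f.base x)), z ∈ closure {z'} → z' = z) →
      FBase.IsGeomReducedAt (f.fiberToSpecResidueField (f.base x)) z) :
    letI adm : TopologicalSpace.Closeds X → Prop := fun X' =>
      (X' : Set X) ∈ irreducibleComponents (X : Type u) ∧ ∃ hx : x ∈ X',
        FlatMor.localDim ↥((X' : Set X) ∩ f.base ⁻¹' {f.base x}) ⟨x, ⟨hx, Set.mem_singleton (f.base x)⟩⟩ =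
          FlatMor.fibreDimAt f x ∧
        ∀ w : ↥(Scheme.IdealSheafData.vanishingIdeal X').subscheme,
          f.base ((Scheme.IdealSheafData.vanishingIdeal X').subschemeι.base w) = f.base x →
          x ∈ closure {(Scheme.IdealSheafData.vanishingIdeal X').subschemeι.base w} →
          (∀ t : X, t ∈ (X' : Set X) → f.base t = f.base x →
              (Scheme.IdealSheafData.vanishingIdeal X').subschemeι.base w ∈ closure {t} →
              t = (Scheme.IdealSheafData.vanishingIdeal X').subschemeι.base w) →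
          EGA43.IsUnivOpenAt ((Scheme.IdealSheafData.vanishingIdeal X').subschemeι ≫ f) w
    {X' : TopologicalSpace.Closeds X | adm X'}.Subsingleton ∧
      ∀ X' : TopologicalSpace.Closeds X, adm X' →
        ∀ ζ : ↥(f.fiber (genericPoint Y)), closure {(f.fiberι (genericPoint Y)).base ζ} = (X' : Set X) →
          FBase.IsGeomReducedAt (f.fiberToSpecResidueField (genericPoint Y)) ζ := by
  obtain ⟨Zc, ⟨hZc, haZ⟩, huniq⟩ := h1
  have hZi : IsIrreducible Zc := hZc.1
  have hZcl : IsClosed Zc := isClosed_of_mem_irreducibleComponents Zc hZc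
  let z₀ := hZi.genericPoint
  have hz₀c : closure {z₀} = Zc := by
    exact hZi.closure_genericPoint hZcl
  have hz₀a : f.asFiber x ∈ closure {z₀} := hz₀c.symm ▸ haZ
  have hall : ∀ v : ↥(f.fiber (f.base x)), v ⤳ f.asFiber x → z₀ ⤳ v := fun v hv => by
    obtain ⟨Z', hZ', hvZ'⟩ := exists_preirreducible (closure {v})
      (isIrreducible_singleton.closure).isPreirreducible
    have hZ'c : Z' ∈ irreducibleComponents _ := ⟨⟨⟨v, hZ' |> fun _ => hvZ'.1 (subset_closure rfl)⟩, hZ'⟩,
      fun t ht hle => (hvZ'.2 t ht.isPreirreducible hle).le⟩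
    have := huniq Z' ⟨hZ'c, hvZ'.1 (specializes_iff_mem_closure.1 hv)⟩
    rw [specializes_iff_mem_closure, hz₀c, ← this]
    exact hvZ'.1 (subset_closure rfl)
  have hz₀max : ∀ a' : ↥(f.fiber (f.base x)), z₀ ∈ closure {a'} → a' = z₀ := fun a' ha' =>
    ((specializes_iff_mem_closure.2 ha').antisymm
      (hall a' ((specializes_iff_mem_closure.2 ha').trans (specializes_iff_mem_closure.2 hz₀a)))).eq
  let z := (f.fiberι (f.base x)).base z₀
  have hzy : f.base z = f.base x := Groth.FibreDim.apply_fiberι f _ z₀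
  have hzx : z ⤳ x := by
    have := (specializes_iff_mem_closure.2 hz₀a).map (f.fiberι (f.base x)).continuous
    rwa [f.fiberι_asFiber] at this
  have hzmax : FMax f z := fmax_fiberι f hz₀max
  have hred : GRF f z := (grf_fiberι_iff f _ z₀).2 (h2 z₀ hz₀a hz₀max)
  have hfib : ∀ v : X, v ⤳ x → f.base v = f.base x → z ⤳ v := fun v hv hfv => by
    obtain ⟨v₀, rfl⟩ : v ∈ Set.range (f.fiberι (f.base x)).base := (f.range_fiberι _).ge hfv
    refine (hall v₀ ?_).map (f.fiberι _).continuous
    rw [← (f.fiberι _).isEmbedding.toIsInducing.specializes_iff, f.fiberι_asFiber]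
    exact hv
  -- an admissible component contains `z`
  have hmem : ∀ (T : TopologicalSpace.Closeds X) (hx : x ∈ T),
      FlatMor.localDim ↥((T : Set X) ∩ f.base ⁻¹' {f.base x}) ⟨x, ⟨hx, Set.mem_singleton (f.base x)⟩⟩ =
        FlatMor.fibreDimAt f x → ∃ w, (Scheme.IdealSheafData.vanishingIdeal T).subschemeι.base w = z := by
    intro T hx hd
    obtain ⟨w₀, hw₀⟩ := Groth.Misc6.Equidim.exists_sub_point T hx
    rw [Groth.Misc6.Equidim.localDim_inter_eq f _ w₀ (Groth.Misc6.Equidim.range_sub T) hw₀] at hd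
    let i := (Scheme.IdealSheafData.vanishingIdeal T).subschemeι
    haveI : LocallyOfFiniteType (i ≫ f) := inferInstance
    obtain ⟨v, hv, hfv, hvd⟩ := Groth.Misc6.Equidim.exists_fh_eq (i ≫ f) w₀
    rw [Groth.Misc6.Equidim.fh_comp_preimmersion] at hvd
    have hvx : i.base v ⤳ x := hw₀ ▸ hv.map i.continuous
    have hfv' : f.base (i.base v) = f.base x :=
      hfv.trans (congrArg f.base hw₀)
    have hzv := hfib _ hvx hfv'
    refine ⟨v, ?_⟩
    by_contra hne
    obtain ⟨v₀, hv₀⟩ : i.base v ∈ Set.range (f.fiberι (f.base x)).base := (f.range_fiberι _).ge hfv'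
    have hlt : v₀ < z₀ := lt_of_le_not_ge (Scheme.le_iff_specializes.2
      ((f.fiberι _).isEmbedding.toIsInducing.specializes_iff.1 (hv₀.symm ▸ hzv)))
      (fun hle => hne (by
        rw [← hv₀, hz₀max v₀ (specializes_iff_mem_closure.1 (Scheme.le_iff_specializes.1 hle))]))
    rw [hd, ← hv₀, Groth.Misc6.Equidim.fh_fiberι] at hvd
    have hzd := (Groth.Misc6.Equidim.fh_le_fibreDimAt f z).trans (Groth.Misc6.Equidim.fibreDimAt_mono f hzx)
    rw [Groth.Misc6.Equidim.fh_fiberι, ← hvd] at hzd
    obtain ⟨n, hn⟩ := Groth.Misc6.Equidim.exists_fh_nat f ((f.fiberι (f.base x)).base v₀)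
    rw [Groth.Misc6.Equidim.fh_fiberι] at hn
    exact absurd (WithBot.coe_le_coe.1 hzd) (not_le.2 (Order.height_strictMono hlt (by rw [hn]; exact ENat.natCast_lt_top n)))
  -- generic points of admissible components lie over the generic point of the base
  have hgen : ∀ (T : TopologicalSpace.Closeds X) (ξ : X), (T : Set X) ∈ irreducibleComponents (X : Type u) →
      (T : Set X) = closure {ξ} → x ∈ T → f.base x = genericPoint Y → ξ = z := by
    intro T ξ hT hTξ hx hy
    have hξx : ξ ⤳ x := by rw [specializes_iff_mem_closure, ← hTξ]; exact hx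
    have hfξ : f.base ξ = f.base x :=
      ((hξx.map f.continuous).antisymm (hy.symm ▸ genericPoint_specializes (f.base ξ))).eq
    have hzξ := hfib ξ hξx hfξ
    have hle : closure {z} ⊆ (T : Set X) :=
      hT.2 isIrreducible_singleton.closure (hTξ ▸ closure_minimal (Set.singleton_subset_iff.2
        (specializes_iff_mem_closure.1 hzξ)) isClosed_closure)
    exact ((specializes_iff_mem_closure.2 (hTξ ▸ hle (subset_closure rfl))).antisymm hzξ).eq
  have hopen : ∀ (T : TopologicalSpace.Closeds X) (hT : (T : Set X) ∈ irreducibleComponents (X : Type u))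
      (w : ↥(Scheme.IdealSheafData.vanishingIdeal T).subscheme),
      (Scheme.IdealSheafData.vanishingIdeal T).subschemeι.base w = z →
      (∀ w : ↥(Scheme.IdealSheafData.vanishingIdeal T).subscheme,
          f.base ((Scheme.IdealSheafData.vanishingIdeal T).subschemeι.base w) = f.base x →
          x ∈ closure {(Scheme.IdealSheafData.vanishingIdeal T).subschemeι.base w} →
          (∀ t : X, t ∈ (T : Set X) → f.base t = f.base x →
              (Scheme.IdealSheafData.vanishingIdeal T).subschemeι.base w ∈ closure {t} →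
              t = (Scheme.IdealSheafData.vanishingIdeal T).subschemeι.base w) →
          EGA43.IsUnivOpenAt ((Scheme.IdealSheafData.vanishingIdeal T).subschemeι ≫ f) w) →
      EGA43.IsUnivOpenAt ((Scheme.IdealSheafData.vanishingIdeal T).subschemeι ≫ f) w ∧
        ∃ ξ : X, (T : Set X) = closure {ξ} ∧ f.base ξ = genericPoint Y := by
    intro T hT w hw h
    have ho := h w (by rw [hw, hzy]) (by rw [hw]; exact specializes_iff_mem_closure.1 hzx)
      (fun t _ ht hwt => by
        rw [hw] at hwt ⊢
        exact hzmax t (ht.trans hzy.symm) (specializes_iff_mem_closure.2 hwt))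
    refine ⟨ho, hT.1.genericPoint, ?_, ?_⟩
    · exact (hT.1.closure_genericPoint T.isClosed).symm
    obtain ⟨a, -, ha⟩ := Groth.EGA43Topo.exists_specializes_of_isOpenAt
      (Groth.EGA43Topo.isOpenAt_of_isUnivOpenAt ho) (genericPoint_specializes _)
    have hsp : hT.1.genericPoint ⤳ (Scheme.IdealSheafData.vanishingIdeal T).subschemeι.base a := by
      rw [specializes_iff_mem_closure, hT.1.closure_genericPoint T.isClosed]
      exact (Groth.Misc6.Equidim.range_sub T).le ⟨a, rfl⟩
    have h3 := hsp.map f.continuous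
    rw [← Scheme.Hom.comp_apply, ha] at h3
    exact (h3.antisymm (genericPoint_specializes _)).eq
  refine ⟨fun T₁ hT₁ T₂ hT₂ => ?_, fun T hT ζ hζ => ?_⟩
  · obtain ⟨hc₁, hx₁, hd₁, ho₁⟩ := hT₁
    obtain ⟨hc₂, hx₂, hd₂, ho₂⟩ := hT₂
    obtain ⟨w₁, hw₁⟩ := hmem T₁ hx₁ hd₁
    obtain ⟨w₂, hw₂⟩ := hmem T₂ hx₂ hd₂
    obtain ⟨hu₁, ξ₁, hξ₁, hη₁⟩ := hopen T₁ hc₁ w₁ hw₁ ho₁
    obtain ⟨hu₂, ξ₂, hξ₂, hη₂⟩ := hopen T₂ hc₂ w₂ hw₂ ho₂
    have hξ : ξ₁ = ξ₂ := by
      by_cases hy : f.base x = genericPoint Y
      · rw [hgen T₁ ξ₁ hc₁ hξ₁ hx₁ hy, hgen T₂ ξ₂ hc₂ hξ₂ hx₂ hy]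
      · exact eq_of_isUnivOpenAt f hzmax hred (genericPoint_specializes _) (fun he => hy (by rw [← hzy, ← he]))
          hη₁ hη₂ hξ₁ hξ₂ hw₁ hw₂ hu₁ hu₂
    exact SetLike.coe_injective (by rw [hξ₁, hξ₂, hξ])
  · obtain ⟨hc, hx, hd, ho⟩ := hT
    obtain ⟨w, hw⟩ := hmem T hx hd
    obtain ⟨hu, -⟩ := hopen T hc w hw ho
    by_cases hy : f.base x = genericPoint Y
    · have hζz : (f.fiberι (genericPoint Y)).base ζ = z := hgen T _ hc hζ.symm hx hy
      exact (grf_fiberι_iff f _ ζ).1 (hζz.symm ▸ hred)
    · exact isGeomReducedAt_generic f hzmax hred (genericPoint_specializes _) (fun he => hy (by rw [← hzy, ← he]))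
        ζ hζ.symm hw hu

end Groth.Agent.S3459
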