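import Groth.Statements.S3460
import Mathlib.AlgebraicGeometry.Morphisms.Immersion
import Mathlib.AlgebraicGeometry.Morphisms.Proper

set_option autoImplicit false
open CategoryTheory AlgebraicGeometry
universe u
open EGA43

namespace Groth.Agent.S3460

/-- Let Y be locally Noetherian and f : X ⟶ Y of finite type. Then there exist a scheme Z, a proper
morphism g : X ⟶ Z and an immersion h : Z ⟶ Y with f = g ≫ h if and only if f is proper at every
point of f(X), i.e. every point of f(X) has an open neighbourhood U in Y over which the restriction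
of f is proper. -/
theorem result {X Y : Scheme.{u}} [IsLocallyNoetherian Y]
    (f : X ⟶ Y) [LocallyOfFiniteType f] [QuasiCompact f] :
    (∃ (Z : Scheme.{u}) (g : X ⟶ Z) (h : Z ⟶ Y), IsProper g ∧ IsImmersion h ∧ g ≫ h = f) ↔
      ∀ x : X, ∃ U : Y.Opens, f.base x ∈ U ∧ IsProper (f ∣_ U) := by
  constructor
  · rintro ⟨Z, g, h, hg, hh, rfl⟩ x
    let U := h.coborderRange
    refine ⟨U, subset_coborder ⟨g.base x, rfl⟩, ?_⟩
    have hrange : ∀ z : Z, h.base z ∈ U := fun z => subset_coborder ⟨z, rfl⟩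
    haveI : IsIso ((g ≫ h) ⁻¹ᵁ U).ι := by
      have : ((g ≫ h) ⁻¹ᵁ U) = ⊤ := eq_top_iff.2 fun p _ => hrange (g.base p)
      rw [this]
      exact X.topIso.isIso_hom
    have he : (g ≫ h) ∣_ U = ((g ≫ h) ⁻¹ᵁ U).ι ≫ g ≫ h.liftCoborder := by
      rw [← cancel_mono U.ι, morphismRestrict_ι, Category.assoc, Category.assoc, h.liftCoborder_ι]
    rw [he]
    infer_instance
  · intro H
    choose U hxU hU using H
    let V : Y.Opens := ⨆ x, U x
    haveI hV : IsProper (f ∣_ V) := by
      refine IsZariskiLocalAtTarget.of_iSup_eq_top (P := @IsProper) (fun x => V.ι ⁻¹ᵁ U x) ?_ fun x => ?_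
      · rw [← Scheme.Hom.preimage_iSup]
        exact eq_top_iff.2 fun p _ => p.2
      · refine (MorphismProperty.arrow_mk_iso_iff @IsProper (morphismRestrictRestrict f V (V.ι ⁻¹ᵁ U x))).2 ?_
        rw [show V.ι ''ᵁ V.ι ⁻¹ᵁ U x = U x from by
          rw [Scheme.Hom.image_preimage_eq_opensRange_inf, Scheme.Opens.opensRange_ι]
          exact inf_eq_right.2 (le_iSup U x)]
        exact hU x
    have htop : f ⁻¹ᵁ V = ⊤ := eq_top_iff.2 fun p _ => le_iSup U p (hxU p)
    haveI : IsIso (f ⁻¹ᵁ V).ι := by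
      rw [htop]
      exact X.topIso.isIso_hom
    exact ⟨V.toScheme, inv (f ⁻¹ᵁ V).ι ≫ f ∣_ V, V.ι, inferInstance, inferInstance, by
      rw [Category.assoc, morphismRestrict_ι, IsIso.inv_hom_id_assoc]⟩

end Groth.Agent.S3460
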