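import Groth.Statements.S3461
import Groth.Agent.EGA43Topo.ProperAtSection
import Groth.Agent.EGA43Topo.ConnFibreFlat

set_option autoImplicit false
open CategoryTheory AlgebraicGeometry
universe u
open EGA43

namespace Groth.Agent.S3461

open CategoryTheory.Limits in
/-- Let f : X ⟶ Y be separated and of finite presentation. Suppose there is a surjective morphism of
finite presentation g : Y' ⟶ Y which is proper or flat, together with a Y-morphism Y' ⟶ X, and
suppose every fibre of f is geometrically connected. Then the set U of points y of Y whose fibre X_y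
is proper over κ(y) is open in Y, and the restriction of f over U is proper. -/
theorem result {X Y Y' : Scheme.{u}} (f : X ⟶ Y)
    [IsSeparated f] [LocallyOfFinitePresentation f] [QuasiCompact f] [QuasiSeparated f]
    (g : Y' ⟶ Y) [Surjective g] [LocallyOfFinitePresentation g] [QuasiCompact g] [QuasiSeparated g]
    (hg : IsProper g ∨ Flat g) (σ : Y' ⟶ X) (hσ : σ ≫ f = g)
    (hconn : ∀ y : Y, MoreMor.nGeomConnComp f y ≤ 1) :
    ∃ U : Y.Opens, (U : Set Y) = {y : Y | IsProper (f.fiberToSpecResidueField y)} ∧ IsProper (f ∣_ U) := by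
  -- every fibre is geometrically connected
  have hgc : ∀ y : Y, GeometricallyConnected (f.fiberToSpecResidueField y) := fun y => by
    obtain ⟨y', rfl⟩ := g.surjective y
    refine Groth.EGA43Topo.ProperConn.geometricallyConnected_of_nGeomConnComp_le_one f _ ?_ (hconn _)
    have hy' : g.base y' ∈ f.base '' Set.univ := ⟨σ.base y', trivial, by rw [← Scheme.Hom.comp_apply, hσ]⟩
    obtain ⟨x, -, hx⟩ := hy'
    obtain ⟨a, -⟩ := (f.range_fiberι (g.base y')).ge hx
    exact ⟨a⟩
  let f' := pullback.snd f g
  let σ' : Y' ⟶ pullback f g := pullback.lift σ (𝟙 _) (by rw [hσ, Category.id_comp])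
  have hσ' : σ' ≫ f' = 𝟙 _ := pullback.lift_snd _ _ _
  haveI : IsSeparated f' := MorphismProperty.pullback_snd _ _ inferInstance
  haveI : LocallyOfFinitePresentation f' := MorphismProperty.pullback_snd _ _ inferInstance
  haveI : QuasiCompact f' := MorphismProperty.pullback_snd _ _ inferInstance
  haveI : QuasiSeparated f' := MorphismProperty.pullback_snd _ _ inferInstance
  have hfull : MoreMor.sectionComponents f' σ' = Set.univ := by
    refine Set.eq_univ_of_forall fun x => ?_
    let y' := f'.base x
    have hsq : IsPullback (f'.fiberι y' ≫ pullback.fst f g) (f'.fiberToSpecResidueField y') f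
        (Spec.map (g.residueFieldMap y') ≫ Y.fromSpecResidueField (g.base y')) := by
      rw [Scheme.Hom.SpecMap_residueFieldMap_fromSpecResidueField]
      exact (IsPullback.of_hasPullback f' (Y'.fromSpecResidueField y')).paste_horiz (IsPullback.of_hasPullback f g)
    let v := pullback.lift (f'.fiberι y' ≫ pullback.fst f g)
      (f'.fiberToSpecResidueField y' ≫ Spec.map (g.residueFieldMap y')) (by rw [hsq.w, Category.assoc])
    have hv1 : v ≫ f.fiberι (g.base y') = f'.fiberι y' ≫ pullback.fst f g := pullback.lift_fst _ _ _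
    haveI := hgc (g.base y')
    haveI : ConnectedSpace ↥(f'.fiber y') :=
      GeometricallyConnected.geometrically_connectedSpace (f := f.fiberToSpecResidueField (g.base y')) _ _ _
        ((hv1.symm ▸ hsq).of_right (pullback.lift_snd _ _ _)
          (IsPullback.of_hasPullback f (Y.fromSpecResidueField (g.base y'))) :
          IsPullback v (f'.fiberToSpecResidueField y') (f.fiberToSpecResidueField (g.base y')) (Spec.map (g.residueFieldMap y')))
    have hs : f'.base (σ'.base y') = y' := by
      rw [← Scheme.Hom.comp_apply, hσ']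
      rfl
    have hsub : Set.range (f'.fiberι y').base ⊆ f'.base ⁻¹' {y'} := (f'.range_fiberι y').le
    exact (isPreconnected_range (f'.fiberι y').continuous).subset_connectedComponentIn
      ((f'.range_fiberι y').ge hs) hsub ((f'.range_fiberι y').ge rfl)
  -- neighbourhoods
  have hloc : ∀ y : Y, IsProper (f.fiberToSpecResidueField y) → ∃ W : Y.Opens, y ∈ W ∧ IsProper (f ∣_ W) := by
    intro y hy
    have hO : ∀ y' : Y', g.base y' = y → ∃ W' : Y'.Opens, y' ∈ W' ∧ IsProper (f' ∣_ W') := by
      intro y' hy'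
      have ho : IsOpen ((f'.fiberι y').base ⁻¹' MoreMor.sectionComponents f' σ') := by
        rw [hfull]; exact isOpen_univ
      obtain ⟨W', hyW', hC, hP⟩ := Groth.EGA43Topo.ProperConn.exists_proper_nhd_section σ' hσ' y' ho (by
        have hu : (⟨_, ho⟩ : (f'.fiber y').Opens) = ⊤ := by
          refine SetLike.coe_injective ?_
          show (f'.fiberι y').base ⁻¹' MoreMor.sectionComponents f' σ' = Set.univ
          rw [hfull]; rfl
        rw [hu]
        haveI : IsIso (⊤ : (f'.fiber y').Opens).ι := (f'.fiber y').topIso.isIso_hom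
        haveI : IsProper (f'.fiberToSpecResidueField y') := by
          subst hy'
          have hsq : IsPullback (f'.fiberι y' ≫ pullback.fst f g) (f'.fiberToSpecResidueField y') f
              (Spec.map (g.residueFieldMap y') ≫ Y.fromSpecResidueField (g.base y')) := by
            rw [Scheme.Hom.SpecMap_residueFieldMap_fromSpecResidueField]
            exact (IsPullback.of_hasPullback f' (Y'.fromSpecResidueField y')).paste_horiz (IsPullback.of_hasPullback f g)
          let v := pullback.lift (f'.fiberι y' ≫ pullback.fst f g)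
            (f'.fiberToSpecResidueField y' ≫ Spec.map (g.residueFieldMap y')) (by rw [hsq.w, Category.assoc])
          have hv1 : v ≫ f.fiberι (g.base y') = f'.fiberι y' ≫ pullback.fst f g := pullback.lift_fst _ _ _
          exact MorphismProperty.of_isPullback ((hv1.symm ▸ hsq).of_right (pullback.lift_snd _ _ _)
            (IsPullback.of_hasPullback f (Y.fromSpecResidueField (g.base y')))) hy
        exact MorphismProperty.comp_mem @IsProper _ _ inferInstance inferInstance)
      refine ⟨W', hyW', ?_⟩
      let j := (Scheme.IdealSheafData.vanishingIdeal (X := (f' ⁻¹ᵁ W').toScheme)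
        (⟨(f' ⁻¹ᵁ W').ι.base ⁻¹' MoreMor.sectionComponents f' σ', hC⟩ :
          TopologicalSpace.Closeds ↥((f' ⁻¹ᵁ W').toScheme))).subschemeι
      haveI : Surjective j := ⟨fun x => by
        refine (Groth.PropsBasic2.range_vanishingIdeal_subschemeι _).ge ?_
        show (f' ⁻¹ᵁ W').ι.base x ∈ MoreMor.sectionComponents f' σ'
        rw [hfull]; trivial⟩
      haveI : IsProper (j ≫ f' ∣_ W') := hP
      haveI : UniversallyClosed (f' ∣_ W') := UniversallyClosed.of_comp_surjective j _
      exact {}
    choose W' hW' hW'p using hO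
    let O : Y'.Opens := ⨆ (y' : Y') (h : g.base y' = y), W' y' h
    have hyO : ∀ y', g.base y' = y → y' ∈ O := fun y' h =>
      TopologicalSpace.Opens.mem_iSup.2 ⟨y', TopologicalSpace.Opens.mem_iSup.2 ⟨h, hW' y' h⟩⟩
    haveI hOp : IsProper (f' ∣_ O) := by
      refine IsZariskiLocalAtTarget.of_iSup_eq_top (P := @IsProper)
        (fun a : {y' : Y' // g.base y' = y} => O.ι ⁻¹ᵁ W' a.1 a.2) ?_ fun a => ?_
      · rw [← Scheme.Hom.preimage_iSup]
        refine eq_top_iff.2 fun p _ => ?_
        obtain ⟨y', hy'⟩ := TopologicalSpace.Opens.mem_iSup.1 p.2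
        obtain ⟨h, hp⟩ := TopologicalSpace.Opens.mem_iSup.1 hy'
        exact TopologicalSpace.Opens.mem_iSup.2 ⟨⟨y', h⟩, hp⟩
      · refine (MorphismProperty.arrow_mk_iso_iff @IsProper (morphismRestrictRestrict f' O (O.ι ⁻¹ᵁ W' a.1 a.2))).2 ?_
        rw [show O.ι ''ᵁ O.ι ⁻¹ᵁ W' a.1 a.2 = W' a.1 a.2 from by
          rw [Scheme.Hom.image_preimage_eq_opensRange_inf, Scheme.Opens.opensRange_ι]
          exact inf_eq_right.2 (le_iSup₂ (f := fun y' h => W' y' h) a.1 a.2)]
        exact hW'p a.1 a.2
    have hsqO : IsPullback ((f' ⁻¹ᵁ O).ι ≫ pullback.fst f g) (f' ∣_ O) f (O.ι ≫ g) :=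
      (isPullback_morphismRestrict f' O).flip.paste_horiz (IsPullback.of_hasPullback f g)
    rcases hg with hgp | hgf
    · haveI := hgp
      let W : Y.Opens := ⟨(g.base '' (O : Set Y')ᶜ)ᶜ, (g.isClosedMap _ O.isOpen.isClosed_compl).isOpen_compl⟩
      have hyW : y ∈ W := fun ⟨y', hy', hgy⟩ => hy' (hyO y' hgy)
      have hle : g ⁻¹ᵁ W ≤ O := fun p hp => by_contra fun hpO => hp ⟨p, hpO, rfl⟩
      refine ⟨W, hyW, ?_⟩
      let e := Y'.homOfLE hle
      have hp1 : IsProper (g ∣_ W) := IsZariskiLocalAtTarget.restrict (P := @IsProper) hgp W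
      haveI : Surjective (g ∣_ W) := IsZariskiLocalAtTarget.restrict (P := @Surjective) inferInstance W
      let P := pullback (f ∣_ W) (g ∣_ W)
      have hP : IsPullback (pullback.fst (f ∣_ W) (g ∣_ W) ≫ (f ⁻¹ᵁ W).ι) (pullback.snd (f ∣_ W) (g ∣_ W)) f
          (e ≫ O.ι ≫ g) := by
        have h1 : e ≫ O.ι ≫ g = (g ∣_ W) ≫ W.ι := by
          rw [morphismRestrict_ι, ← Category.assoc, Scheme.homOfLE_ι]
        rw [h1]
        exact (IsPullback.of_hasPullback (f ∣_ W) (g ∣_ W)).paste_horiz (isPullback_morphismRestrict f W).flip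
      let l := hsqO.lift (pullback.fst (f ∣_ W) (g ∣_ W) ≫ (f ⁻¹ᵁ W).ι) (pullback.snd (f ∣_ W) (g ∣_ W) ≫ e)
        (by rw [hP.w, Category.assoc])
      have hl : IsPullback l (pullback.snd (f ∣_ W) (g ∣_ W)) (f' ∣_ O) e :=
        IsPullback.of_right (by rw [hsqO.lift_fst]; exact hP) (hsqO.lift_snd _ _ _) hsqO
      haveI : IsProper (pullback.snd (f ∣_ W) (g ∣_ W)) := MorphismProperty.of_isPullback hl hOp
      haveI : UniversallyClosed (pullback.fst (f ∣_ W) (g ∣_ W) ≫ f ∣_ W) := by
        rw [pullback.condition]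
        haveI := hp1
        infer_instance
      haveI : Surjective (pullback.fst (f ∣_ W) (g ∣_ W)) := MorphismProperty.pullback_fst _ _ inferInstance
      haveI : UniversallyClosed (f ∣_ W) :=
        UniversallyClosed.of_comp_surjective (pullback.fst (f ∣_ W) (g ∣_ W)) _
      exact {}
    · haveI := hgf
      haveI : UniversallyOpen g := inferInstance
      let W : Y.Opens := ⟨g.base '' (O : Set Y'), g.isOpenMap _ O.isOpen⟩
      have hyW : y ∈ W := by
        obtain ⟨y', hy'⟩ := g.surjective y
        exact ⟨y', hyO y' hy', hy'⟩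
      refine ⟨W, hyW, ?_⟩
      let h := IsOpenImmersion.lift W.ι (O.ι ≫ g) (by
        rw [Scheme.Opens.range_ι]
        rintro _ ⟨p, rfl⟩
        exact ⟨p.1, p.2, rfl⟩)
      have hh : h ≫ W.ι = O.ι ≫ g := IsOpenImmersion.lift_fac _ _ _
      haveI : Surjective h := ⟨fun w => by
        obtain ⟨p, hp, hpw⟩ := w.2
        refine ⟨⟨p, hp⟩, W.ι.isEmbedding.injective ?_⟩
        rw [← Scheme.Hom.comp_apply, hh]
        exact hpw⟩
      haveI : Flat (h ≫ W.ι) := by rw [hh]; infer_instance
      haveI : LocallyOfFinitePresentation (h ≫ W.ι) := by rw [hh]; infer_instance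
      have hmono : IsPullback (𝟙 O.toScheme) h (h ≫ W.ι) W.ι :=
        IsPullback.of_iso_pullback ⟨by rw [Category.id_comp]⟩
          (asIso (CategoryTheory.Limits.pullback.fst (h ≫ W.ι) W.ι)).symm (by simp) (by
            rw [← cancel_mono W.ι, Category.assoc, ← CategoryTheory.Limits.pullback.condition]
            simp)
      haveI : LocallyOfFinitePresentation h :=
        MorphismProperty.of_isPullback (P := @LocallyOfFinitePresentation) hmono inferInstance
      haveI : Flat h := MorphismProperty.of_isPullback (P := @Flat) hmono inferInstance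
      let l := (isPullback_morphismRestrict f W).flip.lift ((f' ⁻¹ᵁ O).ι ≫ pullback.fst f g) ((f' ∣_ O) ≫ h)
        (by rw [hsqO.w, Category.assoc, hh])
      have hl : IsPullback l (f' ∣_ O) (f ∣_ W) h := by
        refine IsPullback.of_right ?_ ((isPullback_morphismRestrict f W).flip.lift_snd _ _ _)
          (isPullback_morphismRestrict f W).flip
        rw [IsPullback.lift_fst, hh]
        exact hsqO
      haveI : UniversallyClosed (f ∣_ W) :=
        MorphismProperty.of_isPullback_of_descendsAlong (P := @UniversallyClosed)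
          (Q := @Surjective ⊓ @Flat ⊓ @LocallyOfFinitePresentation) hl.flip
          ⟨⟨inferInstance, inferInstance⟩, inferInstance⟩ inferInstance
      exact {}
  have hfibre : ∀ (W : Y.Opens), IsProper (f ∣_ W) → ∀ y ∈ W, IsProper (f.fiberToSpecResidueField y) := by
    intro W hW y hy
    let θ := IsOpenImmersion.lift W.ι (Y.fromSpecResidueField y) (by
      rw [Scheme.range_fromSpecResidueField, Scheme.Opens.range_ι, Set.singleton_subset_iff]
      exact hy)
    have hbig : IsPullback (pullback.fst (f ∣_ W) θ ≫ (f ⁻¹ᵁ W).ι) (pullback.snd (f ∣_ W) θ) f (θ ≫ W.ι) :=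
      (IsPullback.of_hasPullback _ θ).paste_horiz (isPullback_morphismRestrict f W).flip
    rw [IsOpenImmersion.lift_fac] at hbig
    have h2 : IsProper (pullback.snd (f ∣_ W) θ) := MorphismProperty.pullback_snd _ _ hW
    rw [← hbig.isoPullback_hom_snd] at h2
    exact (MorphismProperty.cancel_left_of_respectsIso @IsProper _ _).1 h2
  choose W hWy hWp using hloc
  let U : Y.Opens := ⨆ (y : Y) (h : IsProper (f.fiberToSpecResidueField y)), W y h
  refine ⟨U, Set.ext fun y => ⟨fun hy => ?_, fun hy => ?_⟩, ?_⟩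
  · obtain ⟨a, ha⟩ := TopologicalSpace.Opens.mem_iSup.1 hy
    obtain ⟨h, hy'⟩ := TopologicalSpace.Opens.mem_iSup.1 ha
    exact hfibre _ (hWp a h) y hy'
  · exact TopologicalSpace.Opens.mem_iSup.2 ⟨y, TopologicalSpace.Opens.mem_iSup.2 ⟨hy, hWy y hy⟩⟩
  · refine IsZariskiLocalAtTarget.of_iSup_eq_top (P := @IsProper)
      (fun a : {y : Y // IsProper (f.fiberToSpecResidueField y)} => U.ι ⁻¹ᵁ W a.1 a.2) ?_ fun a => ?_
    · rw [← Scheme.Hom.preimage_iSup]
      refine eq_top_iff.2 fun p _ => ?_
      obtain ⟨y', hy'⟩ := TopologicalSpace.Opens.mem_iSup.1 p.2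
      obtain ⟨h, hp⟩ := TopologicalSpace.Opens.mem_iSup.1 hy'
      exact TopologicalSpace.Opens.mem_iSup.2 ⟨⟨y', h⟩, hp⟩
    · refine (MorphismProperty.arrow_mk_iso_iff @IsProper (morphismRestrictRestrict f U (U.ι ⁻¹ᵁ W a.1 a.2))).2 ?_
      rw [show U.ι ''ᵁ U.ι ⁻¹ᵁ W a.1 a.2 = W a.1 a.2 from by
        rw [Scheme.Hom.image_preimage_eq_opensRange_inf, Scheme.Opens.opensRange_ι]
        exact inf_eq_right.2 (le_iSup₂ (f := fun y h => W y h) a.1 a.2)]
      exact hWp a.1 a.2

end Groth.Agent.S3461
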