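import Groth.Statements.S3468
import Groth.Agent.EtaleShriek.FlatConnBC
import Groth.Agent.EtaleShriek.SmoothConnCover

set_option autoImplicit false
universe u
open CategoryTheory CategoryTheory.Limits AlgebraicGeometry Opposite
open EtBC

namespace Groth.Agent.S3468

/-- Let X' = X ×_Y Y' be a cartesian square of schemes with f : X → Y quasi-compact and quasi-separated
and g : Y' → Y smooth, projections f' : X' → Y' and g' : X' → X. Then for every sheaf of sets F on
the small etale site of X the base change morphism g^* f_* F → f'_* g'^* F is an isomorphism. -/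
theorem result {X Y X' Y' : Scheme.{u}} (f : X ⟶ Y) (g : Y' ⟶ Y)
    (f' : X' ⟶ Y') (g' : X' ⟶ X) (h : IsPullback g' f' f g) [QuasiCompact f] [QuasiSeparated f] [Smooth g]
    (F : EtDesc.Sh X) : IsIso (EtBC.baseChange0Sh f g f' g' h.w F) := by
  refine Groth.EtaleShriek.FlatConnBC.isIso_baseChange0Sh h F fun U => ?_
  have : Etale U.hom := U.prop
  have key : ∀ y : U.left, ∃ (D : Scheme.{u}) (d : D ⟶ U.left) (V : Scheme.{u}) (v : V ⟶ Y) (a : D ⟶ V),
      Etale d ∧ Etale v ∧ a ≫ v = d ≫ U.hom ≫ g ∧ QuasiCompact a ∧ GeometricallyConnected a ∧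
        y ∈ Set.range d :=
    fun y => Groth.EtaleShriek.SmoothConnCover.exists_nbhd (U.hom ≫ g) y
  choose D d V v a hd hv heq hqc hgc hy using key
  refine ⟨U.left, fun y => Scheme.Etale.mk (d y ≫ U.hom), fun y => MorphismProperty.Over.homMk (d y) rfl,
    fun y => ⟨y, hy y⟩, fun y => ⟨Scheme.Etale.mk (v y), a y, (heq y).trans (Category.assoc _ _ _).symm,
      hqc y, hgc y⟩⟩

end Groth.Agent.S3468
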