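import Groth.Statements.S3473
import Groth.Agent.EtCd.PointsSheaf
import Groth.Agent.EtCd.ImageNbhd
import Groth.Agent.DescentBase.ShStalk

set_option autoImplicit false
universe u
open CategoryTheory CategoryTheory.Limits AlgebraicGeometry Opposite
open EtAcyc

namespace Groth.Agent.S3473

/-- Let g : X → Y be a morphism of schemes. If g is surjective then g is (-1)-acyclic (for every etale V
→ Y and every sheaf of sets F on V, F → g'_* g'^* F is a monomorphism, g' the projection X ×_Y V →
V); conversely, if g is quasi-compact, quasi-separated and (-1)-acyclic then g is surjective. -/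
theorem result {X Y : Scheme.{u}} (g : X ⟶ Y) :
    (Function.Surjective g.base → EtAcyc.IsMinusOneAcyclic g) ∧
      (∀ [QuasiCompact g] [QuasiSeparated g], EtAcyc.IsMinusOneAcyclic g → Function.Surjective g.base) := by
    refine ⟨fun hs V F => ?_, fun {hq} {_} hm => ?_⟩
    · haveI : Surjective g := ⟨hs⟩
      haveI : Surjective (EtAcyc.prj g V) := inferInstanceAs (Surjective (pullback.fst V.hom g))
      haveI := (Groth.DescentBase.pullSh_faithful_reflects (EtAcyc.prj g V)).1
      exact (EtDesc.adjSh (EtAcyc.prj g V)).unit_mono_of_L_faithful F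
    · intro y
      by_contra hy
      obtain ⟨V, hyV, hV⟩ := Groth.EtCdImageNbhd.exists_nbhd g (y := y) hy
      let U : Y.Etale := Scheme.Etale.mk V.ι
      let Z : Set U.left := V.ι.base ⁻¹' closure {y}
      have hZ : IsClosed Z := isClosed_closure.preimage V.ι.continuous
      obtain ⟨p, hp⟩ := Groth.EtCdPointsSheaf.exists_mem_of_mono_unit (EtAcyc.prj g U) hZ
        ⟨(⟨y, hyV⟩ : V.toScheme), subset_closure rfl⟩ (hm U _)
      have he : V.ι.base ((EtAcyc.prj g U).base p) = g.base ((pullback.snd U.hom g).base p) := by
        exact (Scheme.Hom.comp_apply (EtAcyc.prj g U) U.hom p).symm.trans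
          ((congrArg (fun m : _ ⟶ Y => m.base p) pullback.condition).trans
            (Scheme.Hom.comp_apply _ g p))
      have hmem : V.ι.base ((EtAcyc.prj g U).base p) ∈ closure {y} := hp
      rw [he] at hmem
      refine hV _ ?_ hmem
      rw [← he]
      exact ((EtAcyc.prj g U).base p).2

end Groth.Agent.S3473
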