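import Groth.Statements.S3482
import Groth.Agent.EtPbc.FieldCdTrdeg
import Groth.Agent.EtPbc.PrimaryColim
import Groth.Agent.EtPbc.CdKilled
-- import your own Groth.Agent.* helpers here

set_option autoImplicit false
set_option backward.isDefEq.respectTransparency.types false
universe u
open CategoryTheory CategoryTheory.Limits AlgebraicGeometry Opposite
open EtCd

namespace Groth.Agent.S3482

/-- Let k'/k be a finitely generated field extension of transcendence degree t and ℓ a prime. Then
cd_ℓ(k') ≤ cd_ℓ(k) + t: if the etale cohomology of every ℓ-primary torsion sheaf on Spec k vanishes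
above degree d, the same holds on Spec k' above degree d + t. -/
theorem result (k k' : Type u) [Field k] [Field k'] [Algebra k k']
    (hfg : ∃ s : Finset k', IntermediateField.adjoin k (s : Set k') = ⊤) (ℓ : ℕ) (hℓ : ℓ.Prime)
    (t : ℕ) (ht : Algebra.trdeg k k' = t) (d : ℕ) (hd : Dix.CohDimLEAt (Spec (CommRingCat.of k)) ℓ d) :
    Dix.CohDimLEAt (Spec (CommRingCat.of k')) ℓ (d + t) := by
  intro F hF q hq
  refine Groth.FieldPush.Primary.subsingleton_H_of_powParts ℓ hF q fun a => ?_
  refine Groth.FieldPush.CdK.trdeg_le (pow_pos hℓ.pos a) t d k k' ht.le (fun G hG r hr => ?_) _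
    (Groth.FieldPush.Primary.nsmul_id_powPart ℓ F a) q hq
  exact hd G (Groth.FieldPush.isPrimaryTorsion_of_pow hG) r hr

end Groth.Agent.S3482
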