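import Groth.Statements.S3492
import Groth.Agent.EtPbc.DimFunMain
-- import your own Groth.Agent.* helpers here

set_option autoImplicit false
set_option backward.isDefEq.respectTransparency.types false
universe u
open CategoryTheory CategoryTheory.Limits AlgebraicGeometry Opposite
open EtCd

namespace Groth.Agent.S3492

/-- Let X be a Noetherian scheme, ℓ a prime and n a natural number such that (i) for every point y of
codimension c (dimension of the local ring) one has 2c ≤ n and cd_ℓ(κ(y)) ≤ n - 2c, and (ii) for all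
points x, y with y in the closure of x and every strict henselization R of the local ring at y,
putting A = R / p_x R (a strict localization of the closure of x with its reduced structure),
cd_ℓ(Frac(R/P)) ≤ dim A for every prime P of R minimal over p_x R. Then for every ℓ-primary torsion
abelian sheaf F whose geometric stalks vanish at all points of codimension < s, H^q(X, F) = 0 for q
> n - 2s; in particular (s = 0) cd_ℓ(X) ≤ n. -/
theorem result (X : Scheme.{u}) [IsNoetherian X] (ℓ : ℕ) (hℓ : ℓ.Prime) (n : ℕ)
    (h1 : ∀ (y : X) (c : ℕ), ringKrullDim (X.presheaf.stalk y) = c →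
      2 * c ≤ n ∧ Dix.CohDimLEAt (Spec (X.residueField y)) ℓ (n - 2 * c))
    (h2 : ∀ (x y : X) (hxy : x ⤳ y), ∀ (R : Type u) [CommRing R] [IsLocalRing R] [Algebra (X.presheaf.stalk y) R]
      [IsLocalHom (algebraMap (X.presheaf.stalk y) R)] [Hensel.IsStrictHenselization (X.presheaf.stalk y) R],
      ∀ P ∈ ((RingHom.ker (Cyc.specMap y x hxy)).map (algebraMap (X.presheaf.stalk y) R)).minimalPrimes,
        ∀ e : ℕ, ringKrullDim (R ⧸ (RingHom.ker (Cyc.specMap y x hxy)).map (algebraMap (X.presheaf.stalk y) R)) = e →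
          Dix.CohDimLEAt (Spec (CommRingCat.of (FractionRing (R ⧸ P)))) ℓ e)
    (s : ℕ) (F : EtCoh.Ab X) (hF : Dix.IsPrimaryTorsion ℓ F)
    (hs : ∀ y ∈ EtPBC.supp F, (s : WithBot ℕ∞) ≤ ringKrullDim (X.presheaf.stalk y))
    (q : ℕ) (hq : n < q + 2 * s) :
    Subsingleton (EtCoh.H X F q) := by
  have hfin : ∀ y : X, ∃ c : ℕ, ringKrullDim (X.presheaf.stalk y) = c := fun y => by
    haveI : IsLocalRing (X.presheaf.stalk y) := inferInstance
    obtain ⟨c, hc⟩ := WithTop.ne_top_iff_exists.1 (Ideal.height_ne_top
      (IsLocalRing.maximalIdeal.isMaximal (X.presheaf.stalk y)).ne_top : (IsLocalRing.maximalIdeal (X.presheaf.stalk y)).height ≠ ⊤)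
    exact ⟨c, by rw [← IsLocalRing.maximalIdeal_height_eq_ringKrullDim, ← hc]; rfl⟩
  choose c hc using hfin
  refine Groth.FieldPush.subsingleton_H_of_dimFun ℓ (fun y => n - 2 * c y) (fun y => (h1 y (c y) (hc y)).2)
    ?_ F hF q fun y hy => ?_
  · intro x y hxy hne R _ _ _ _ _ P hP
    have hne' : Nontrivial (R ⧸ (RingHom.ker (Cyc.specMap y x hxy)).map (algebraMap (X.presheaf.stalk y) R)) :=
      Ideal.Quotient.nontrivial_iff.2 fun h => by
        have := hP.1.2
        rw [h, top_le_iff] at this
        exact hP.1.1.ne_top this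
    obtain ⟨e, he⟩ : ∃ e : ℕ, ringKrullDim (R ⧸ (RingHom.ker (Cyc.specMap y x hxy)).map
        (algebraMap (X.presheaf.stalk y) R)) = e := by
      have h1' := ringKrullDim_quotient_le ((RingHom.ker (Cyc.specMap y x hxy)).map (algebraMap (X.presheaf.stalk y) R))
      rw [Groth.Agent.S0541.result (X.presheaf.stalk y) R, hc y] at h1'
      have h0 := ringKrullDim_nonneg_of_nontrivial (R := R ⧸ (RingHom.ker (Cyc.specMap y x hxy)).map
        (algebraMap (X.presheaf.stalk y) R))
      revert h1' h0
      generalize ringKrullDim (R ⧸ (RingHom.ker (Cyc.specMap y x hxy)).map (algebraMap (X.presheaf.stalk y) R)) = r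
      intro h1' h0
      induction r using WithBot.recBotCoe with
      | bot => exact absurd h0 (not_le_of_gt (WithBot.bot_lt_coe 0))
      | coe r =>
        induction r using ENat.recTopCoe with
        | top => exact absurd h1' (not_le_of_gt (WithBot.coe_lt_coe.2 (ENat.coe_lt_top _)))
        | coe r => exact ⟨r, rfl⟩
    refine ⟨e, ?_, h2 x y hxy R P hP e he⟩
    have h3 := Groth.FieldPush.dim_add_le hxy (hc x) (hc y) he
    have h4 := Groth.FieldPush.add_one_le_dim hxy hne (hc x) (hc y)
    have h5 := (h1 y (c y) (hc y)).1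
    omega
  · have hs' := hs y hy
    rw [hc y] at hs'
    have h5 := (h1 y (c y) (hc y)).1
    have h6 : s ≤ c y := by exact_mod_cast hs'
    omega

end Groth.Agent.S3492
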