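import Groth.Statements.S3493
import Groth.Agent.EtPbc.CdFiniteType
import Groth.Agent.S3491
-- import your own Groth.Agent.* helpers here

set_option autoImplicit false
set_option backward.isDefEq.respectTransparency.types false
universe u
open CategoryTheory CategoryTheory.Limits AlgebraicGeometry Opposite
open EtCd

namespace Groth.Agent.S3493

/-- Let X be a scheme of finite type over a field k, of dimension at most n, and ℓ a prime nonzero in k.
Then cd_ℓ(X) ≤ 2n + cd_ℓ(k): if the cohomology of ℓ-primary torsion sheaves on Spec k vanishes above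
degree e, then that of ℓ-primary torsion abelian sheaves on X vanishes above degree 2n + e. -/
theorem result (k : Type u) [Field k] (X : Scheme.{u}) (f : X ⟶ Spec (CommRingCat.of k))
    [LocallyOfFiniteType f] [QuasiCompact f] (n : ℕ) (hn : topologicalKrullDim X ≤ n)
    (ℓ : ℕ) (hℓ : ℓ.Prime) (hℓk : (ℓ : k) ≠ 0) (e : ℕ) (he : Dix.CohDimLEAt (Spec (CommRingCat.of k)) ℓ e) :
    Dix.CohDimLEAt X ℓ (2 * n + e) := by
  intro F hF q hq
  haveI : IsLocallyNoetherian X := LocallyOfFiniteType.isLocallyNoetherian f
  haveI : CompactSpace X := QuasiCompact.compactSpace_of_compactSpace f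
  haveI : IsNoetherian X := {}
  have hle : ∀ x : X, (Order.height x).toNat ≤ n := fun x => by
    obtain ⟨a, ha⟩ := Groth.Variety2.Dim.exists_height_eq f x
    have h := (le_iSup (fun x : X => ((Order.height x : ℕ∞) : WithBot ℕ∞)) x).trans
      ((Groth.Variety2.Dim.dim_eq_iSup_height X).symm.le.trans hn)
    rw [ha] at h ⊢
    have h' : a ≤ n := by exact_mod_cast h
    simpa using h'
  have hstrict : ∀ x y : X, x ⤳ y → x ≠ y → (Order.height y).toNat < (Order.height x).toNat := fun x y hxy hne => by
    have h := Groth.Variety2.Dim.height_toNat_lt f (lt_of_le_not_ge (Scheme.le_iff_specializes.2 hxy : y ≤ x)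
      fun h' => hne (hxy.antisymm (Scheme.le_iff_specializes.1 h')).eq)
    obtain ⟨a, ha⟩ := Groth.Variety2.Dim.exists_height_eq f x
    obtain ⟨b, hb⟩ := Groth.Variety2.Dim.exists_height_eq f y
    rw [ha, hb] at h ⊢
    simpa using h
  refine Groth.Agent.S3491.result X ℓ hℓ (fun x => e + 2 * (Order.height x).toNat)
    (fun x G hG r hr => Groth.FieldPush.cd_residueField_le f hℓ he x G hG r (by omega))
    (fun x y hxy hne R _ _ _ _ _ P hP => ⟨(Order.height x).toNat - (Order.height y).toNat, ?_,
      Groth.FieldPush.cd_fractionRing_strictHens f hxy R P hP ℓ hℓ⟩) F hF q (fun x _ => ?_)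
  · have := hstrict x y hxy hne; omega
  · have := hle x; omega

end Groth.Agent.S3493
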