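import Groth.Statements.S3511
import Groth.Agent.DescentBase.AcyclicConst

set_option autoImplicit false
universe u
open CategoryTheory CategoryTheory.Limits AlgebraicGeometry Opposite
open EtAcyc

namespace Groth.Agent.S3511

/-- Let g : X → Y be quasi-compact and quasi-separated, L a set of primes containing at least one prime,
and n a natural number. (The published statement does not ask that L contain a prime; with L empty
the equivalence fails, e.g. for the empty scheme over a field, so that hypothesis is added here.)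
Then g is n-acyclic for L if and only if g is surjective and, for every locally quasi-finite
morphism (locally of finite type with discrete fibres) Y' → Y with base change g' : X' = X ×_Y Y' →
Y', every prime ℓ ∈ L and every ν ≥ 1, the pullback map H^q(Y', Z/ℓ^ν) → H^q(X', g'⁻¹(Z/ℓ^ν)) is
surjective for 0 ≤ q ≤ n. -/
theorem result {X Y : Scheme.{u}} (g : X ⟶ Y)
    [QuasiCompact g] [QuasiSeparated g] (L : Set ℕ) (hL : ∃ ℓ ∈ L, ℓ.Prime) (n : ℕ) :
    EtAcyc.IsAcyclicN g L n ↔
      Function.Surjective g.base ∧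
        ∀ (Y' : Scheme.{u}) (i : Y' ⟶ Y) [LocallyQuasiFinite i] [LocallyOfFiniteType i] (ℓ : ℕ), ℓ.Prime → ℓ ∈ L →
          ∀ (ν : ℕ), 1 ≤ ν → ∀ [PreservesFiniteLimits (EtCoh.pull (pullback.snd g i))] (q : ℕ), q ≤ n →
            Function.Surjective (EtCore.Hpull (pullback.snd g i) (EtCoh.const Y' (ZMod (ℓ ^ ν))) q) := by
  refine ⟨fun hg => ⟨fun y => ?_, fun Y' i _ _ ℓ hℓ hℓL ν _ _ q hq => ?_⟩,
    fun ⟨hs, h⟩ => Groth.DescentBase.AcyclicConst.isAcyclicN_of_constants g hs
      (fun Y' i _ _ ℓ hℓ hℓL ν hν _ q hq => h Y' i ℓ hℓ hℓL ν hν q hq)⟩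
  · obtain ⟨hne, -, -⟩ := Groth.Agent.S8534.result g L hL n hg y (SeparableClosure (Y.residueField y))
    obtain ⟨a⟩ := hne
    refine ⟨(pullback.fst g (EtAcyc.geomPt Y y (SeparableClosure (Y.residueField y)))).base a, ?_⟩
    rw [← Scheme.Hom.comp_apply, pullback.condition, Scheme.Hom.comp_apply]
    exact (Scheme.Hom.comp_apply _ _ _).trans (Y.fromSpecResidueField_apply y _)
  · refine ((Groth.DescentBase.AcyclicLocal.compN_of_P
      (Groth.DescentBase.AcyclicConst.P_of_isAcyclicN g hg i)) (EtCoh.const Y' (ZMod (ℓ ^ ν))) ?_).1 q hq |>.2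
    intro U s x
    refine ⟨U, 𝟙 U, ℓ ^ ν, ⟨x, rfl⟩, ⟨pow_pos hℓ.pos ν, fun p hp hd =>
      ((Nat.prime_dvd_prime_iff_eq hp hℓ).1 (hp.dvd_of_dvd_pow hd)).symm ▸ hℓL⟩, ?_⟩
    have h0 := Groth.DescentBase.HpullReduce.nsmul_id_const Y' (ℓ ^ ν)
    have h1 := Groth.DescentBase.HpullReduce.nsmul_app (𝟙 (EtCoh.const Y' (ZMod (ℓ ^ ν)))) (ℓ ^ ν) U
      ((EtCoh.const Y' (ZMod (ℓ ^ ν))).obj.map (𝟙 U).op s)
    rw [h0] at h1
    exact h1.symm

end Groth.Agent.S3511
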