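import Groth.Statements.S3514
import Groth.Agent.EtCd.StrictLocComp
import Groth.Agent.S3513

set_option autoImplicit false
universe u
open CategoryTheory CategoryTheory.Limits AlgebraicGeometry Opposite
open EtAcyc

namespace Groth.Agent.S3514

/-- Let g : X → Y and h : Y → Z be morphisms of schemes with g surjective, L a set of primes and n a
natural number. If g is locally n-acyclic for L, then h is locally n-acyclic for L if and only if g
≫ h is; if g is locally 0-acyclic, then h is locally 0-acyclic if and only if g ≫ h is. -/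
theorem result {X Y Z : Scheme.{u}} (g : X ⟶ Y) (h : Y ⟶ Z)
    (hg : Function.Surjective g.base) (L : Set ℕ) (n : ℕ) :
    (EtAcyc.IsLocAcyclicN g L n → (EtAcyc.IsLocAcyclicN h L n ↔ EtAcyc.IsLocAcyclicN (g ≫ h) L n)) ∧
      (EtAcyc.IsLocZeroAcyclic g → (EtAcyc.IsLocZeroAcyclic h ↔ EtAcyc.IsLocZeroAcyclic (g ≫ h))) := by
    have key : ∀ (P : ∀ ⦃X' Y' : Scheme.{u}⦄, (X' ⟶ Y') → Prop),
        (∀ ⦃A B C : Scheme.{u}⦄ (a : A ⟶ B) (b : B ⟶ C), P a → (P b ↔ P (a ≫ b))) →
        EtAcyc.OnStrictLocalizations g P →
        (EtAcyc.OnStrictLocalizations h P ↔ EtAcyc.OnStrictLocalizations (g ≫ h) P) := by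
      intro P hP hgP
      constructor
      · intro hh x RZ RX _ _ _ _ iA iL iS _ _ _ _ _ hc
        letI jA : Algebra (Z.presheaf.stalk (h.base (g.base x))) RZ := iA
        haveI jL : IsLocalHom (algebraMap (Z.presheaf.stalk (h.base (g.base x))) RZ) := iL
        haveI jS : Hensel.IsStrictHenselization (Z.presheaf.stalk (h.base (g.base x))) RZ := iS
        obtain ⟨RY, _, _, _, _, _, a, _, b, _, ha, hb, hba⟩ := Groth.EtCdStrictComp.exists_between
          (h.stalkMap (g.base x)).hom (g.stalkMap x).hom (algebraMap RZ RX)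
          (hc.trans (by rw [Scheme.Hom.stalkMap_comp]; rfl))
        letI : Algebra RZ RY := a.toAlgebra
        letI : Algebra RY RX := b.toAlgebra
        haveI : IsLocalHom (algebraMap RZ RY) := ‹IsLocalHom a›
        haveI : IsLocalHom (algebraMap RY RX) := ‹IsLocalHom b›
        have h1 : P (Spec.map (CommRingCat.ofHom a)) := hh (g.base x) RZ RY ha
        have h2 : P (Spec.map (CommRingCat.ofHom b)) := hgP x RY RX hb
        have h3 := (hP _ _ h2).1 h1
        rw [← Spec.map_comp, ← CommRingCat.ofHom_comp, hba] at h3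
        exact h3
      · intro hh y RZ RY _ _ _ _ iA iL iS _ _ _ _ _ hc
        obtain ⟨x, rfl⟩ := hg y
        letI jA : Algebra (Z.presheaf.stalk ((g ≫ h).base x)) RZ := iA
        haveI jL : IsLocalHom (algebraMap (Z.presheaf.stalk ((g ≫ h).base x)) RZ) := iL
        haveI jS : Hensel.IsStrictHenselization (Z.presheaf.stalk ((g ≫ h).base x)) RZ := iS
        obtain ⟨RX, _, _, _, _, _, b, _, hb⟩ :=
          Groth.EtCdStrictComp.exists_above (g.stalkMap x).hom (RB := RY)
        letI : Algebra RY RX := b.toAlgebra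
        haveI : IsLocalHom (algebraMap RY RX) := ‹IsLocalHom b›
        letI : Algebra RZ RX := (b.comp (algebraMap RZ RY)).toAlgebra
        haveI : IsLocalHom (algebraMap RZ RX) := inferInstanceAs (IsLocalHom (b.comp (algebraMap RZ RY)))
        have h2 : P (Spec.map (CommRingCat.ofHom b)) := hgP x RY RX hb
        have h3 : P (Spec.map (CommRingCat.ofHom (b.comp (algebraMap RZ RY)))) := hh x RZ RX (by
          show (b.comp (algebraMap RZ RY)).comp _ = _
          erw [RingHom.comp_assoc, hc, ← RingHom.comp_assoc, hb]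
          rw [Scheme.Hom.stalkMap_comp]
          rfl)
        rw [CommRingCat.ofHom_comp, Spec.map_comp] at h3
        exact (hP _ _ h2).2 h3
    exact ⟨fun hga => key _ (fun A B C a b ha => (Groth.Agent.S3513.result a b L n).1 ha) hga,
      fun hga => key _ (fun A B C a b ha => (Groth.Agent.S3513.result a b L n).2 ha) hga⟩

end Groth.Agent.S3514
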