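import Groth.Statements.S3524
import Groth.Agent.HTopHyper.HTor.Devissage
import Groth.Agent.HTopHyper.HTor.TorFlat
-- import your own Groth.Agent.* helpers here

set_option autoImplicit false
universe u
attribute [local instance] HasDerivedCategory.standard
open HTor

namespace Groth.Agent.S3524

open CategoryTheory CategoryTheory.Limits in
/-- Consequence of the biregular Künneth/hypertor spectral sequence; cochain indexing. Let L and M be
complexes of A-modules vanishing in large degrees, every term of L flat (so that L ⊗ M computes the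
hypertor of L and M). If Tor_p^A(H^i(L), H^j(M)) = 0 for all p ≥ 0 and all i, j with i + j - p = n
(vanishing stated as Subsingleton), then H^n(L ⊗ M) = 0. (Tor is Mathlib's, left derived in the
second variable.) -/
theorem result (A : Type u) [CommRing A] (L M : DRing.Cx A)
    (hL : DRing.TermwiseFlat L) (bL : ∃ b : ℤ, DRing.VanishesAbove L b)
    (bM : ∃ b : ℤ, DRing.VanishesAbove M b) (n : ℤ)
    (h : ∀ (p : ℕ) (i j : ℤ), i + j - p = n → Subsingleton (DRing.Tor A p (L.homology i) (M.homology j))) :
    IsZero ((HTor.tensorCx L M).homology n) := by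
  obtain ⟨N, hN⟩ := Groth.HTorLib.exists_Fil_eq_top L M n hL bL bM
  have h0 : ∀ p, Groth.HTorLib.Fil L M n p = ⊥ := by
    intro p
    induction p with
    | zero =>
      rw [Groth.HTorLib.Fil_zero, eq_bot_iff]
      rintro _ ⟨x, rfl⟩
      have hx : x = 0 := DFinsupp.ext fun ij => by
        have := h 0 ij.1.1 ij.1.2 (by have := ij.2; push_cast; omega)
        obtain ⟨e⟩ := Groth.HTorLib.tor_zero_equiv (A := A) (L.homology ij.1.1) (M.homology ij.1.2)
        have := e.symm.injective.subsingleton
        exact Subsingleton.elim _ _
      rw [hx, map_zero]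
      exact zero_mem _
    | succ q ih =>
      obtain ⟨S, S', -, ⟨e⟩⟩ := Groth.HTorLib.isSubquotient_gr L M n q
      have : Subsingleton (HTor.TorSum L M n (q + 1)) :=
        ⟨fun x y => DFinsupp.ext fun ij => (h (q + 1) ij.1.1 ij.1.2 ij.2).elim _ _⟩
      have := (Submodule.mkQ_surjective (Submodule.comap S'.subtype S)).subsingleton
      have hs := e.injective.subsingleton
      rw [eq_bot_iff, ← ih]
      intro x hx
      exact (Submodule.Quotient.mk_eq_zero
        (Submodule.comap (Groth.HTorLib.Fil L M n (q + 1)).subtype (Groth.HTorLib.Fil L M n q))).1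
        (hs.elim (Submodule.Quotient.mk ⟨x, hx⟩) 0)
  rw [ModuleCat.isZero_iff_subsingleton]
  exact Submodule.subsingleton_iff A |>.1 (subsingleton_iff_bot_eq_top.1 ((h0 N).symm.trans hN))
end Groth.Agent.S3524
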