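import Groth.Statements.S3527
import Groth.Agent.HTopHyper.HTor.TorFlat
-- import your own Groth.Agent.* helpers here

set_option autoImplicit false
universe u
open HTor

namespace Groth.Agent.S3527

/-- If A is a commutative ring and M is a flat A-module, then Tor_p^A(M, N) = 0 and Tor_p^A(N, M) = 0
for every A-module N and every p ≥ 1. (The published statement is about local hypertor sheaves over
general S, X, Y; in the affine case these are the sheaves attached to Tor_n^A, and only the
resulting statement about A-modules is given here. Tor is Mathlib's, left derived in the second
variable; vanishing is stated as Subsingleton, and both orders are stated.) -/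
theorem result (A : Type u) [CommRing A] (M N : Type u) [AddCommGroup M] [Module A M]
    [AddCommGroup N] [Module A N] [Module.Flat A M] (p : ℕ) (hp : 0 < p) :
    Subsingleton (DRing.Tor A p M N) ∧ Subsingleton (DRing.Tor A p N M) := by
  obtain ⟨q, rfl⟩ := Nat.exists_eq_succ_of_ne_zero hp.ne'
  exact ⟨Groth.HTorLib.subsingleton_tor_of_flat_left M N q,
    Groth.HTorLib.subsingleton_tor_of_flat_right N M q⟩
end Groth.Agent.S3527
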