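import Groth.Statements.S3536
import Groth.Agent.CechHyper.TotCech

set_option autoImplicit false
universe u
open CechTot

namespace Groth.Agent.S3536

open CategoryTheory CategoryTheory.Limits TopologicalSpace in
/-- Let X be a topological space, U = (U_i) an open cover of X and K a complex of abelian sheaves on X
with K^i = 0 for i < a. If H^q(U_{i_0} ∩ … ∩ U_{i_p}, K^i) = 0 for all q > 0, all i and all finite
families of indices, then for every n the Čech hypercohomology group Ȟ^n(U, K) (cohomology of the
total complex of the double complex C^p(U, K^q)) is isomorphic to the hypercohomology group H^n(X,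
K) (maps from the free abelian sheaf on X to K[n] in the derived category). (The published statement
gives a canonical isomorphism; here only the existence of an additive isomorphism is asserted, and K
is taken bounded below.) -/
theorem result {X : TopCat.{u}} [HasDerivedCategory.{u} (CohTop.Ab X)]
    {ι : Type u} (U : ι → Opens X) (hcov : iSup U = ⊤) (K : CochainComplex (CohTop.Ab X) ℤ) (a : ℤ)
    (ha : ∀ i : ℤ, i < a → IsZero (K.X i))
    (h : ∀ (p : ℕ) (c : Fin (p + 1) → ι) (i : ℤ) (q : ℕ),
      Subsingleton (CohTop.HU (K.X i) (q + 1) (iInf fun k => U (c k)))) (n : ℤ) :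
    Nonempty (↑(CechTot.hyperH U ((CechTot.presheafCx X).obj K) n) ≃+
      CohCx.HDU (DerivedCategory.Q.obj K) n (⊤ : Opens X)) := by
  haveI : K.IsStrictlyGE a := (CochainComplex.isStrictlyGE_iff K a).2 ha
  obtain ⟨I, i, _, hinj, hge⟩ := CochainComplex.Plus.modelCategoryQuillen.exists_quasiIso_injective K a
  haveI := hinj
  haveI : I.IsKInjective := CochainComplex.isKInjective_of_injective I a
  have haI : ∀ j : ℤ, j < a → IsZero (I.X j) := fun j hj => I.isZero_of_isStrictlyGE a _ hj
  haveI := Groth.CechHyper.quasiIso_tot_map U i a ha haI (fun p c j q => h p c j q)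
    (fun p c j q => Abelian.Ext.subsingleton_of_injective _ _ q)
  obtain ⟨e⟩ := Groth.CechHyper.nonempty_homology_secCx_iso U I hinj hcov a haI n
  let φ : Groth.CechHyper.hPre I n ≅ CohCx.HDUPresheaf (DerivedCategory.Q.obj K) n :=
    (Groth.Misc7.HDU.nonempty_homology_iso_HDUPresheaf I n).some ≪≫
      Groth.Misc7.HDU.hduPresheafMapIso (asIso (DerivedCategory.Q.map i)).symm n
  exact ⟨((@asIso _ _ _ _ (HomologicalComplex.homologyMap
      (HomologicalComplex₂.total.map (Groth.CechHyper.dblMap U i) (ComplexShape.up ℤ)) n)
      ((quasiIsoAt_iff_isIso_homologyMap _ n).1 inferInstance)) ≪≫ e.symm ≪≫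
    Groth.CechHyper.secIso I n ⊤ ≪≫ φ.app (Opposite.op (⊤ : Opens X))).addCommGroupIsoToAddEquiv⟩

end Groth.Agent.S3536
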