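import Groth.Statements.S3540
import Groth.Agent.CechHyper.HyperFiltration

set_option autoImplicit false
universe u
open CechTot

namespace Groth.Agent.S3540

open CategoryTheory CategoryTheory.Limits TopologicalSpace in
/-- For abelian sheaves and a complex bounded below (the biregular case), stated through the finite
filtration the spectral sequence induces on its abutment and its edge (the source's graded pieces
are the E∞ terms, which is stronger). Let U = (U_i) be an open cover of X and K a complex of abelian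
sheaves with K^i = 0 for i < a. For q ∈ ℤ let h^q(K) be the presheaf V ↦ H^q(V, K) of
hypercohomology groups and Ȟ^p(U, h^q(K)) its Čech cohomology for the cover. Then for every n the
group H^n(X, K) carries a decreasing sequence of subgroups G_0 ≥ G_1 ≥ … with G_0 everything, G_1
the kernel of the restriction map H^n(X, K) → ∏_i H^n(U_i, K), and G_N = 0 for some N, such that
every quotient G_p/G_{p+1} is isomorphic to a subquotient of Ȟ^p(U, h^{n-p}(K)). -/
theorem result {X : TopCat.{u}}
    [HasDerivedCategory.{u} (CohTop.Ab X)] {ι : Type u} (U : ι → Opens X) (hcov : iSup U = ⊤)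
    (K : CochainComplex (CohTop.Ab X) ℤ) (a : ℤ) (ha : ∀ i : ℤ, i < a → IsZero (K.X i)) (n : ℤ) :
    ∃ (N : ℕ) (G : ℕ → Submodule ℤ (CohCx.HDU (DerivedCategory.Q.obj K) n (⊤ : Opens X))),
      Antitone G ∧ G 0 = ⊤ ∧ G N = ⊥ ∧
      G 1 = ⨅ i, AddSubgroup.toIntSubmodule
        (CohCx.HDUres (DerivedCategory.Q.obj K) n (homOfLE le_top : U i ⟶ (⊤ : Opens X))).ker ∧
      ∀ p : ℕ, HTor.IsSubquotient ℤ (HTor.grDesc G p)
        (CohB1.cechHTop U (CohCx.HDUPresheaf (DerivedCategory.Q.obj K) (n - p)) p) := by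
  haveI : K.IsStrictlyGE a := (CochainComplex.isStrictlyGE_iff K a).2 ha
  obtain ⟨I, i, _, hinj, _⟩ := CochainComplex.Plus.modelCategoryQuillen.exists_quasiIso_injective K a
  haveI := hinj
  haveI : I.IsKInjective := CochainComplex.isKInjective_of_injective I a
  let φ : ∀ m : ℤ, Groth.CechHyper.hPre I m ≅ CohCx.HDUPresheaf (DerivedCategory.Q.obj K) m := fun m =>
    (Groth.Misc7.HDU.nonempty_homology_iso_HDUPresheaf I m).some ≪≫
      Groth.Misc7.HDU.hduPresheafMapIso (asIso (DerivedCategory.Q.map i)).symm m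
  obtain ⟨e, he⟩ := Groth.CechHyper.exists_topIso U I hcov
  let hd := Groth.CechHyper.rowD_rowD U I
  let hex := Groth.CechHyper.row_exact U I hinj
  let fil := Groth.CechHyper.fil (Groth.CechHyper.row U I) (Groth.CechHyper.rowD U I) hd hex n
  let Θ₀ := (((HomologicalComplex.homologyFunctor _ _ n).mapIso e).symm ≪≫
    Groth.CechHyper.secIso I n ⊤ ≪≫ (φ n).app (Opposite.op (⊤ : Opens X))).addCommGroupIsoToAddEquiv
  let Θ : (Groth.CechHyper.Z (Groth.CechHyper.row U I) (Groth.CechHyper.rowD U I) 0).homology n ≃ₗ[ℤ]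
      CohCx.HDU (DerivedCategory.Q.obj K) n (⊤ : Opens X) := Θ₀.toIntLinearEquiv
  refine ⟨(n - a + 1).toNat, fun p => (fil p).map Θ.toLinearMap, fun p q h => Submodule.map_mono
    (Groth.CechHyper.fil_antitone _ _ hd hex n h), ?_, ?_, ?_, fun p => ?_⟩
  · change (fil 0).map Θ.toLinearMap = ⊤
    rw [show fil 0 = ⊤ from Groth.CechHyper.fil_zero _ _ hd hex n]
    exact Submodule.map_top _ |>.trans (LinearMap.range_eq_top.2 Θ.surjective)
  · change (fil _).map Θ.toLinearMap = ⊥
    rw [show fil (n - a + 1).toNat = ⊥ from Groth.CechHyper.fil_eq_bot _ _ hd hex n _ ?_, Submodule.map_bot]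
    have hq : IsZero (I.X (n - ((n - a + 1).toNat : ℤ))) :=
      I.isZero_of_isStrictlyGE a _ (by omega)
    have hs : ∀ V : Opens X, Subsingleton ((I.X (n - ((n - a + 1).toNat : ℤ))).obj.obj (Opposite.op V)) := fun V =>
      AddCommGrpCat.subsingleton_of_isZero
        (((sheafToPresheaf _ AddCommGrpCat.{u}) ⋙ (evaluation _ _).obj (Opposite.op V)).map_isZero hq)
    exact @AddCommGrpCat.isZero_of_subsingleton _ (@Pi.instSubsingleton _ _ fun x => hs _)
  · ext x
    obtain ⟨z, rfl⟩ := Θ.surjective x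
    refine (Iff.trans ⟨fun ⟨z', h, e'⟩ => Θ.injective e' ▸ h, fun h => ⟨z, h, rfl⟩⟩ ?_)
    refine (Groth.CechHyper.mem_fil_one_iff _ _ hd hex n z).trans ?_
    obtain ⟨h, rfl⟩ := (ConcreteCategory.bijective_of_isIso
      (HomologicalComplex.homologyMap e.hom n)).2 z
    have hL : HomologicalComplex.homologyMap (kernel.ι (Groth.CechHyper.rowD U I 0)) n
        (HomologicalComplex.homologyMap e.hom n h) =
        HomologicalComplex.homologyMap (Groth.CechHyper.rowAug U I) n h := by
      refine (ConcreteCategory.congr_hom (HomologicalComplex.homologyMap_comp _ _ n) h).symm.trans ?_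
      rw [he]
    have hR : Θ (HomologicalComplex.homologyMap e.hom n h) =
        (φ n).hom.app (Opposite.op (⊤ : Opens X)) ((Groth.CechHyper.secIso I n ⊤).hom h) :=
      congrArg (fun t => (φ n).hom.app (Opposite.op (⊤ : Opens X)) ((Groth.CechHyper.secIso I n ⊤).hom t))
        (ConcreteCategory.congr_hom ((HomologicalComplex.homologyFunctor _ _ n).mapIso e).hom_inv_id h)
    rw [hL, Groth.CechHyper.homologyMap_rowAug_eq_zero_iff U I n _ (φ n) h, Submodule.mem_iInf, hR]
    exact Iff.rfl
  · obtain ⟨S, S', hle, ⟨c⟩⟩ := Groth.CechHyper.isSubquotient_cechHTop U I hinj n p _ (φ (n - p))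
    refine ⟨S, S', hle, ⟨?_ ≪≫ₗ c⟩⟩
    refine (Submodule.Quotient.equiv _ _ (Θ.submoduleMap (fil p)) ?_).symm
    ext ⟨y, hy⟩
    constructor
    · rintro ⟨v, hv, e'⟩
      exact ⟨v.1, hv, congrArg Subtype.val e'⟩
    · rintro ⟨v, hv, e'⟩
      obtain ⟨v', hv', e''⟩ := hy
      obtain rfl : v = v' := Θ.injective (e'.trans e''.symm)
      exact ⟨⟨v, hv'⟩, hv, Subtype.ext e'⟩

end Groth.Agent.S3540
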