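import Groth.Statements.S3542
import Groth.Agent.HTor.FlatCoh

set_option autoImplicit false
universe u
attribute [local instance] HasDerivedCategory.standard
open HTor

namespace Groth.Agent.S3542

open CategoryTheory CategoryTheory.Limits AlgebraicGeometry in
/-- Let f : X ⟶ S be flat with X locally Noetherian, g : Y ⟶ S any morphism, and suppose Z = X ×_S Y is
locally Noetherian. Let P (resp. Q) be a complex of quasi-coherent O_X-modules (resp. O_Y-modules)
vanishing in large degrees, all of whose cohomology sheaves are coherent. Since X is flat over S,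
the local hypertor sheaves Tor_n^S(P, Q) on Z are the cohomology sheaves of L pr₁^*P ⊗^L pr₂^*Q
(derived pullback and derived tensor product under their existence binders; pr₂ is flat, so pr₂^*Q
is the termwise pullback). Then all these cohomology sheaves are coherent O_Z-modules. -/
theorem result (X Y S : Scheme.{u}) (f : X ⟶ S) (g : Y ⟶ S) [Flat f]
    [IsLocallyNoetherian X] [IsLocallyNoetherian (pullback f g)]
    (P : CochainComplex X.Modules ℤ) (Q : CochainComplex Y.Modules ℤ)
    (hqP : ∀ i : ℤ, Coh.IsQCoh (P.X i)) (hqQ : ∀ i : ℤ, Coh.IsQCoh (Q.X i))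
    (bP : ∃ b : ℤ, ∀ i : ℤ, b < i → IsZero (P.X i)) (bQ : ∃ b : ℤ, ∀ i : ℤ, b < i → IsZero (Q.X i))
    (hP : DCoh.IsCohD (DCoh.toD X P)) (hQ : DCoh.IsCohD (DCoh.toD Y Q))
    [DCoh.HasLpull (pullback.fst f g)] [DCoh.HasLTensorCx ((HTor.pullCx (pullback.snd f g)).obj Q)] :
    DCoh.IsCohD ((DCoh.LTensorCx ((HTor.pullCx (pullback.snd f g)).obj Q)).obj
      ((DCoh.Lpull (pullback.fst f g)).obj (DCoh.toD X P))) := by
  obtain ⟨bP, hbP⟩ := bP
  obtain ⟨bQ, hbQ⟩ := bQ
  have hzero : ∀ {W : Scheme.{u}} (C : CochainComplex W.Modules ℤ) (i : ℤ), IsZero (C.X i) →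
      IsZero (DCoh.HD (DCoh.toD W C) i) := fun C i h =>
    (HomologicalComplex.ExactAt.of_isZero h).isZero_homology.of_iso
      ((DerivedCategory.homologyFunctorFactors _ i).app C)
  obtain ⟨hL, hL0⟩ := Groth.HTor.FlatCoh.isCohD_Lpull (pullback.fst f g) hP
    (fun i hi => hzero P i (hbP i hi))
  haveI := Groth.PrinPartsAux.preservesFiniteLimits_pullback (pullback.snd f g)
  haveI := (Scheme.Modules.pullbackPushforwardAdjunction
    (pullback.snd f g)).leftAdjoint_preservesColimits
  have hE : DCoh.IsCohD (DCoh.toD _ ((HTor.pullCx (pullback.snd f g)).obj Q)) := fun i =>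
    Groth.QCohMod.isCoh_of_iso
      ((Scheme.Modules.pullback (pullback.snd f g)).mapIso
          ((DerivedCategory.homologyFunctorFactors Y.Modules i).app Q) ≪≫
        ((Q.sc i).mapHomologyIso (Scheme.Modules.pullback (pullback.snd f g))).symm ≪≫
        ((DerivedCategory.homologyFunctorFactors (pullback f g).Modules i).app
          ((HTor.pullCx (pullback.snd f g)).obj Q)).symm)
      (Groth.SpectralTopology.ConsModLocus.isCoh_pullback_obj _ (hQ i))
  exact (Groth.IntMult.CohDTensor.isCohD_LTensorCx _ hL hL0 hE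
    (fun i hi => hzero _ i ((Scheme.Modules.pullback _).map_isZero (hbQ i hi)))).1

end Groth.Agent.S3542
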