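import Groth.Statements.S3544
import Mathlib.Algebra.Homology.ShortComplex.ModuleCat
import Mathlib.RingTheory.Length

set_option autoImplicit false
universe u
open HomAlg3

namespace Groth.Agent.S3544

open CategoryTheory CategoryTheory.Limits

variable {A : Type u} [Ring A]

theorem length_sc (S : ShortComplex (ModuleCat.{u} A)) :
    Module.length A S.X₂ = Module.length A S.homology + Module.length A (LinearMap.range S.f.hom) +
      Module.length A (LinearMap.range S.g.hom) := by
  rw [Module.length_eq_add_of_exact (LinearMap.ker S.g.hom).subtype S.g.hom.rangeRestrict Subtype.val_injective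
    (LinearMap.surjective_rangeRestrict _) (by
      rw [LinearMap.exact_iff, LinearMap.ker_rangeRestrict, Submodule.range_subtype])]
  congr 1
  rw [Module.length_eq_add_of_exact (LinearMap.range S.moduleCatToCycles).subtype
      (LinearMap.range S.moduleCatToCycles).mkQ Subtype.val_injective (Submodule.mkQ_surjective _)
      (LinearMap.exact_subtype_mkQ _), add_comm]
  congr 1
  · exact (S.moduleCatHomologyIso.toLinearEquiv.length_eq).symm
  · refine ((Submodule.equivMapOfInjective (LinearMap.ker S.g.hom).subtype Subtype.val_injective _).trans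
      (LinearEquiv.ofEq _ _ ?_)).length_eq
    rw [← LinearMap.range_comp]
    rfl

theorem euler (v : ℤ × ℤ) (hv : v.1 + v.2 = 1) (K : HomologicalComplex (ModuleCat.{u} A) (ComplexShape.up' v))
    (s : Finset (ℤ × ℤ)) (hs : ∀ a, a ∉ s → IsZero (K.X a)) (hfl : ∀ a, IsFiniteLength A (K.X a)) :
    (∀ a, IsFiniteLength A (K.homology a)) ∧ (∀ a, a ∉ s → IsZero (K.homology a)) ∧
    (s.sum fun a => (((a.1 + a.2).negOnePow : ℤˣ) : ℤ) * ((Module.length A (K.homology a)).toNat : ℤ)) =
      s.sum fun a => (((a.1 + a.2).negOnePow : ℤˣ) : ℤ) * ((Module.length A (K.X a)).toNat : ℤ) := by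
  let ρ : ℤ × ℤ → ℕ∞ := fun b => Module.length A (LinearMap.range (K.d b (b + v)).hom)
  have hprev : ∀ a, (ComplexShape.up' v).prev a = a - v := fun a =>
    ComplexShape.prev_eq' _ (show a - v + v = a by abel)
  have hnext : ∀ a, (ComplexShape.up' v).next a = a + v := fun a => ComplexShape.next_eq' _ rfl
  have key : ∀ a, Module.length A (K.X a) = Module.length A (K.homology a) + ρ (a - v) + ρ a := fun a => by
    have h := length_sc (K.sc a)
    have e1 : Module.length A (LinearMap.range (K.sc a).f.hom) = ρ (a - v) := by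
      show Module.length A (LinearMap.range (K.d ((ComplexShape.up' v).prev a) a).hom) = _
      simp only [ρ]
      rw [sub_add_cancel, hprev]
    have e2 : Module.length A (LinearMap.range (K.sc a).g.hom) = ρ a := by
      show Module.length A (LinearMap.range (K.d a ((ComplexShape.up' v).next a)).hom) = _
      rw [hnext]
    rw [e1, e2] at h
    exact h
  have hfin : ∀ a, Module.length A (K.X a) ≠ ⊤ := fun a => Module.length_ne_top_iff.2 (hfl a)
  have hH : ∀ a, Module.length A (K.homology a) ≠ ⊤ := fun a h => hfin a (by rw [key, h, top_add, top_add])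
  have hρ : ∀ a, ρ a ≠ ⊤ := fun a h => hfin a (by rw [key, h, add_top])
  have hzero : ∀ a, a ∉ s → Module.length A (K.X a) = 0 := fun a ha =>
    Module.length_eq_zero_iff.2 (ModuleCat.subsingleton_of_isZero (hs a ha))
  have hρ0 : ∀ a, a ∉ s → ρ a = 0 ∧ ρ (a - v) = 0 ∧ Module.length A (K.homology a) = 0 := fun a ha => by
    have h := key a
    rw [hzero a ha] at h
    obtain ⟨h1, h2⟩ := add_eq_zero.1 h.symm
    exact ⟨h2, (add_eq_zero.1 h1).2, (add_eq_zero.1 h1).1⟩
  refine ⟨fun a => Module.length_ne_top_iff.1 (hH a), fun a ha => ?_, ?_⟩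
  · haveI := Module.length_eq_zero_iff.1 (hρ0 a ha).2.2
    exact ModuleCat.isZero_of_subsingleton _
  set ε : ℤ × ℤ → ℤ := fun a => (((a.1 + a.2).negOnePow : ℤˣ) : ℤ) with hε
  have hεv : ∀ a, ε (a + v) = -ε a := fun a => by
    simp only [hε, Prod.fst_add, Prod.snd_add]
    rw [show a.1 + v.1 + (a.2 + v.2) = a.1 + a.2 + 1 by omega, Int.negOnePow_succ, Units.val_neg]
  have hsum : ∀ a, ((Module.length A (K.X a)).toNat : ℤ) =
      (Module.length A (K.homology a)).toNat + (ρ (a - v)).toNat + (ρ a).toNat := fun a => by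
    have h12 : Module.length A (K.homology a) + ρ (a - v) ≠ ⊤ := WithTop.add_ne_top.2 ⟨hH a, hρ _⟩
    rw [key, ENat.toNat_add h12 (hρ a), ENat.toNat_add (hH a) (hρ (a - v))]
    push_cast
    ring
  simp only [hsum, mul_add, Finset.sum_add_distrib]
  suffices h : ∑ a ∈ s, ε a * ((ρ (a - v)).toNat : ℤ) = -∑ a ∈ s, ε a * ((ρ a).toNat : ℤ) by linarith
  rw [← Finset.sum_neg_distrib]
  refine Finset.sum_bij_ne_zero (fun a _ _ => a - v) (fun a ha hne => ?_) (fun a _ _ b _ _ h => sub_left_inj.1 h)
    (fun b hb hne => ⟨b + v, ?_, ?_, add_sub_cancel_right b v⟩) (fun a _ _ => ?_)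
  · by_contra h
    exact hne (by simp [(hρ0 _ h).1])
  · by_contra h
    refine hne ?_
    have := (hρ0 _ h).2.1
    rw [add_sub_cancel_right] at this
    simp [this]
  · rw [hεv, add_sub_cancel_right, neg_mul]
    exact hne
  · have := hεv (a - v)
    rw [sub_add_cancel] at this
    rw [this, neg_mul]

open CategoryTheory CategoryTheory.Limits in
/-- Let E be a cohomological spectral sequence of modules over a ring A, starting at page 2, such that
the E₂ terms have finite length and only finitely many of them (all inside the finite set s of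
bidegrees) are nonzero. Then for every r ≥ 2 the Euler–Poincaré characteristic of page r, the
alternating sum over s of (-1)^{p+q} times the length of E_r^{pq}, equals that of page 2. -/
theorem result {A : Type u} [Ring A]
    (E : E₂CohomologicalSpectralSequence (ModuleCat.{u} A)) (s : Finset (ℤ × ℤ))
    (hs : ∀ pq : ℤ × ℤ, pq ∉ s → IsZero ((E.page 2).X pq))
    (hfl : ∀ pq : ℤ × ℤ, IsFiniteLength A ((E.page 2).X pq)) (r : ℤ) (hr : 2 ≤ r) :
    (s.sum fun pq => (((pq.1 + pq.2).negOnePow : ℤˣ) : ℤ) * ((Module.length A ((E.page r hr).X pq)).toNat : ℤ)) =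
      s.sum fun pq => (((pq.1 + pq.2).negOnePow : ℤˣ) : ℤ) * ((Module.length A ((E.page 2).X pq)).toNat : ℤ) := by
  suffices h : ∀ r (hr : 2 ≤ r), (∀ pq : ℤ × ℤ, pq ∉ s → IsZero ((E.page r hr).X pq)) ∧
      (∀ pq : ℤ × ℤ, IsFiniteLength A ((E.page r hr).X pq)) ∧
      ((s.sum fun pq => (((pq.1 + pq.2).negOnePow : ℤˣ) : ℤ) * ((Module.length A ((E.page r hr).X pq)).toNat : ℤ)) =
      s.sum fun pq => (((pq.1 + pq.2).negOnePow : ℤˣ) : ℤ) * ((Module.length A ((E.page 2).X pq)).toNat : ℤ))
    from (h r hr).2.2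
  intro r hr
  induction r, hr using Int.le_induction with
  | base => exact ⟨hs, hfl, rfl⟩
  | succ r hr ih =>
    obtain ⟨h1, h2, h3⟩ := ih
    obtain ⟨g1, g2, g3⟩ := euler (⟨r, 1 - r⟩ : ℤ × ℤ) (by simp) (E.page r hr) s h1 h2
    have e := fun pq => (E.iso r (r + 1) pq rfl hr).toLinearEquiv
    refine ⟨fun pq hpq => (g2 pq hpq).of_iso (E.iso r (r + 1) pq rfl hr).symm,
      fun pq => Module.length_ne_top_iff.1 (by rw [← (e pq).length_eq]; exact Module.length_ne_top_iff.2 (g1 pq)), ?_⟩
    rw [← h3, ← g3]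
    exact Finset.sum_congr rfl fun pq _ => by rw [(e pq).length_eq]

end Groth.Agent.S3544
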