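import Groth.Statements.S3550
import Groth.Agent.ProjTilde.Gamma

set_option autoImplicit false
universe u
open CategoryTheory CategoryTheory.Limits AlgebraicGeometry
open EGA2
open Groth.ProjTilde

namespace Groth.Agent.S3550

/-- Let S be a graded ring whose irrelevant ideal S_+ is generated by finitely many elements of degree
one, and X = Proj S. Then every quasi-coherent O_X-module F is isomorphic to M~ for some graded
S-module M (graded in nonnegative degrees). -/
theorem result {R A : Type u} [CommRing R] [CommRing A] [Algebra R A] (𝒜 : ℕ → Submodule R A) [GradedAlgebra 𝒜]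
    (s : Finset A) (hs1 : ∀ f ∈ s, f ∈ 𝒜 1)
    (hs : (HomogeneousIdeal.irrelevant 𝒜).toIdeal = Ideal.span (s : Set A))
    (F : (Proj 𝒜).Modules) (hF : Coh.IsQCoh F) :
    ∃ (M : Type u) (_ : AddCommGroup M) (_ : Module R M) (_ : Module A M) (_ : IsScalarTower R A M)
      (ℳ : ℕ → Submodule R M) (_ : DirectSum.Decomposition ℳ) (_ : SetLike.GradedSMul 𝒜 ℳ),
      Nonempty (GrTilde.tilde 𝒜 ℳ 0 ≅ F) := by
  have : IsIso (toHom (gammaData hs1 F) hs) := isIso_toHom _ hs hF
    (fun f v ↦ exists_coef_eq hF f v) fun f n m hm h0 ↦ exists_pow_smul_eq_zero_of_coef hF f n m hm h0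
  exact ⟨gammaStar hs1 F, _, _, _, inferInstance, gammaGrading hs1 F, inferInstance, inferInstance,
    ⟨asIso (toHom (gammaData hs1 F) hs)⟩⟩

end Groth.Agent.S3550
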