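import Groth.Statements.S3555
import Groth.Agent.Ega2Proj.TwistPow

set_option autoImplicit false
universe u
open CategoryTheory CategoryTheory.Limits AlgebraicGeometry
open EGA2

namespace Groth.Agent.S3555

/-- Let S be a graded ring whose irrelevant ideal S_+ is generated by the degree-one elements, X = Proj
S, and f homogeneous of degree d > 0. Then D_+(f) is the set of points p of X at which the global
section f/1 of O_X(d) does not vanish, i.e. at which its value generates the module of degree-d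
fractions at p. -/
theorem result {R A : Type u} [CommRing R] [CommRing A] [Algebra R A] (𝒜 : ℕ → Submodule R A) [GradedAlgebra 𝒜]
    (hgen : (HomogeneousIdeal.irrelevant 𝒜).toIdeal = Ideal.span (𝒜 1 : Set A))
    {d : ℕ} (hd : 0 < d) (f : 𝒜 d) (p : ProjectiveSpectrum 𝒜) :
    p ∈ ProjectiveSpectrum.basicOpen 𝒜 (f : A) ↔
      Submodule.span (Twist.A0 𝒜 p) {(Twist.globalOf 𝒜 f).1 ⟨p, trivial⟩} = ⊤ := by
  constructor
  · intro hp
    refine eq_top_iff.mpr fun q _ => ?_
    obtain ⟨i, j, a, b, hb, ha, hbj, hdeg, hq⟩ := Groth.Ega2Proj.exists_lfrac_of_mem_twistAt q.2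
    rw [Submodule.mem_span_singleton]
    have hbf : b * (f : A) ∉ p.asHomogeneousIdeal := p.asHomogeneousIdeal.toIdeal.primeCompl.mul_mem hb hp
    obtain ⟨a', ha', he⟩ : ∃ a' ∈ 𝒜 (j + d), a' = a := by
      rcases hdeg with h | h
      · exact ⟨a, (show i = j + d by omega) ▸ ha, rfl⟩
      · exact ⟨0, zero_mem _, h.symm⟩
    subst he
    refine ⟨HomogeneousLocalization.mk ⟨j + d, ⟨a', ha'⟩, ⟨b * f, SetLike.mul_mem_graded hbj f.2⟩, hbf⟩,
      Subtype.ext (Eq.trans ?_ hq.symm)⟩
    rw [Twist.coe_smul_val, HomogeneousLocalization.val_mk]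
    refine (Localization.mk_mul _ _ _ _).trans ?_
    rw [Localization.mk_eq_mk_iff, Localization.r_iff_exists]
    exact ⟨1, by simp only [Submonoid.coe_mul, Submonoid.coe_one]; ring⟩
  · intro htop hp
    obtain ⟨g, hg, hgp⟩ : ∃ g ∈ 𝒜 1, g ∉ p.asHomogeneousIdeal := by
      by_contra hc
      push Not at hc
      exact p.not_irrelevant_le (hgen.le.trans (Ideal.span_le.mpr hc))
    have hgd : g ^ d ∈ 𝒜 d := by simpa using SetLike.pow_mem_graded d hg
    let q : Twist.twistAt 𝒜 (d : ℤ) p := ⟨Localization.mk (g ^ d)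
        ⟨1, fun h => p.isPrime.ne_top ((Ideal.eq_top_iff_one _).mpr h)⟩,
      Submodule.subset_span ⟨d, 0, ⟨g ^ d, hgd⟩, ⟨1, SetLike.GradedOne.one_mem⟩,
        fun h => p.isPrime.ne_top ((Ideal.eq_top_iff_one _).mpr h), by simp, rfl⟩⟩
    obtain ⟨c, hc⟩ := Submodule.mem_span_singleton.mp (htop.ge (Submodule.mem_top (x := q)))
    obtain ⟨⟨k, ⟨r, hr⟩, ⟨t, ht⟩, htp⟩, rfl⟩ := HomogeneousLocalization.mk_surjective c
    have h := congrArg Subtype.val hc
    rw [Twist.coe_smul_val, HomogeneousLocalization.val_mk] at h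
    have h2 : Localization.mk (r * (f : A)) _ = _ := (Localization.mk_mul _ _ _ _).symm.trans h
    rw [Localization.mk_eq_mk_iff, Localization.r_iff_exists] at h2
    obtain ⟨u, hu⟩ := h2
    simp only [Submonoid.coe_mul, mul_one, one_mul] at hu
    have hmem : (u : A) * (t * g ^ d) ∈ p.asHomogeneousIdeal.toIdeal :=
      hu ▸ Ideal.mul_mem_left _ _ (Ideal.mul_mem_left _ _ hp)
    rcases p.isPrime.mem_or_mem hmem with h' | h'
    · exact u.2 h'
    · rcases p.isPrime.mem_or_mem h' with h' | h'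
      · exact htp h'
      · exact hgp (p.isPrime.mem_of_pow_mem d h')

end Groth.Agent.S3555
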