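import Groth.Statements.S3578
import Groth.Agent.Ega2Proj.GradedBasic

set_option autoImplicit false
universe u
open EGA2

namespace Groth.Agent.S3578

/-- Via the correspondence between closed subsets of Proj S and radical graded ideals of S_+: let S be a
graded ring and Z a closed subset of Proj S, with J = S_+ ∩ (vanishing ideal of Z). Then Z is
irreducible if and only if J is a prime ideal of the ring-without-unit S_+: J ≠ S_+ and a product of
two elements of S_+ lies in J only if one factor does. -/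
theorem result {R A : Type u} [CommRing R] [CommRing A] [Algebra R A] (𝒜 : ℕ → Submodule R A) [GradedAlgebra 𝒜]
    (Z : Set (ProjectiveSpectrum 𝒜)) (hZ : IsClosed Z) :
    IsIrreducible Z ↔
      (¬ (HomogeneousIdeal.irrelevant 𝒜).toIdeal ≤ (ProjectiveSpectrum.vanishingIdeal Z).toIdeal ∧
        ∀ f ∈ (HomogeneousIdeal.irrelevant 𝒜).toIdeal, ∀ g ∈ (HomogeneousIdeal.irrelevant 𝒜).toIdeal,
          f * g ∈ (ProjectiveSpectrum.vanishingIdeal Z).toIdeal →
            f ∈ (ProjectiveSpectrum.vanishingIdeal Z).toIdeal ∨ g ∈ (ProjectiveSpectrum.vanishingIdeal Z).toIdeal) := by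
  have hz : ProjectiveSpectrum.zeroLocus 𝒜
      ((ProjectiveSpectrum.vanishingIdeal Z : HomogeneousIdeal 𝒜) : Set A) = Z := by
    rw [ProjectiveSpectrum.zeroLocus_vanishingIdeal_eq_closure, hZ.closure_eq]
  have hv : ∀ (a : A), a ∈ (ProjectiveSpectrum.vanishingIdeal Z).toIdeal ↔ ∀ x ∈ Z, a ∈ x.asHomogeneousIdeal :=
    fun a => ProjectiveSpectrum.mem_vanishingIdeal Z a
  constructor
  · intro hirr
    refine ⟨fun hle => ?_, fun f _ g _ hfg => ?_⟩
    · obtain ⟨x, hx⟩ := hirr.nonempty
      exact x.not_irrelevant_le fun a ha => (hv a).mp (hle ha) x hx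
    · simp only [hv] at hfg ⊢
      have : Z ⊆ ProjectiveSpectrum.zeroLocus 𝒜 {f} ∪ ProjectiveSpectrum.zeroLocus 𝒜 {g} := fun x hx => by
        rcases x.isPrime.mem_or_mem (hfg x hx) with h | h
        · exact Or.inl (Set.singleton_subset_iff.mpr h)
        · exact Or.inr (Set.singleton_subset_iff.mpr h)
      rcases (isPreirreducible_iff_isClosed_union_isClosed.mp hirr.isPreirreducible) _ _
        (ProjectiveSpectrum.isClosed_zeroLocus _ _) (ProjectiveSpectrum.isClosed_zeroLocus _ _) this with h | h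
      · exact Or.inl fun x hx => Set.singleton_subset_iff.mp (h hx)
      · exact Or.inr fun x hx => Set.singleton_subset_iff.mp (h hx)
  · rintro ⟨hne, hprime⟩
    refine ⟨?_, ?_⟩
    · by_contra hemp
      rw [Set.not_nonempty_iff_eq_empty] at hemp
      refine hne fun a _ => ?_
      rw [hv, hemp]
      simp
    · rw [isPreirreducible_iff_isClosed_union_isClosed]
      intro z₁ z₂ h₁ h₂ hcov
      obtain ⟨s, rfl⟩ := (ProjectiveSpectrum.isClosed_iff_zeroLocus _ _).mp h₁
      obtain ⟨t, rfl⟩ := (ProjectiveSpectrum.isClosed_iff_zeroLocus _ _).mp h₂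
      by_contra! hh
      obtain ⟨⟨x, hxZ, hx⟩, ⟨y, hyZ, hy⟩⟩ := And.imp Set.not_subset.mp Set.not_subset.mp hh
      obtain ⟨a, has, hax⟩ := Set.not_subset.mp hx
      obtain ⟨b, hbt, hby⟩ := Set.not_subset.mp hy
      obtain ⟨p, hp, hpx⟩ := SetLike.not_le_iff_exists.mp x.not_irrelevant_le
      obtain ⟨q, hq, hqy⟩ := SetLike.not_le_iff_exists.mp y.not_irrelevant_le
      rcases hprime (a * p) (Ideal.mul_mem_left _ _ hp) (b * q) (Ideal.mul_mem_left _ _ hq) (by
        rw [hv]
        intro z hz'
        rcases hcov hz' with h | h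
        · exact Ideal.mul_mem_right _ _ (Ideal.mul_mem_right _ _ (h has))
        · exact Ideal.mul_mem_left _ _ (Ideal.mul_mem_right _ _ (h hbt))) with h | h
      · rcases x.isPrime.mem_or_mem ((hv _).mp h x hxZ) with h' | h'
        exacts [hax h', hpx h']
      · rcases y.isPrime.mem_or_mem ((hv _).mp h y hyZ) with h' | h'
        exacts [hby h', hqy h']

end Groth.Agent.S3578
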