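import Groth.Statements.S3557
import Groth.Agent.S3556
import Groth.Agent.S3578

set_option autoImplicit false
universe u
open CategoryTheory CategoryTheory.Limits AlgebraicGeometry
open EGA2

namespace Groth.Agent.S3557

/-- Let S be a graded ring which is essentially reduced (S_+ contains no nonzero nilpotent). Then Proj S
is an integral scheme if and only if S is essentially integral, i.e. S_+ is nonzero and the product
of two nonzero elements of S_+ is nonzero. -/
theorem result {R A : Type u} [CommRing R] [CommRing A] [Algebra R A] (𝒜 : ℕ → Submodule R A) [GradedAlgebra 𝒜]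
    (hred : ∀ f ∈ (HomogeneousIdeal.irrelevant 𝒜).toIdeal, IsNilpotent f → f = 0) :
    AlgebraicGeometry.IsIntegral (Proj 𝒜) ↔
      ((∃ f ∈ (HomogeneousIdeal.irrelevant 𝒜).toIdeal, f ≠ 0) ∧
        ∀ f ∈ (HomogeneousIdeal.irrelevant 𝒜).toIdeal, ∀ g ∈ (HomogeneousIdeal.irrelevant 𝒜).toIdeal,
          f * g = 0 → f = 0 ∨ g = 0) := by
  haveI := Groth.Agent.S3556.result 𝒜 hred
  have hv : ∀ a ∈ (HomogeneousIdeal.irrelevant 𝒜).toIdeal,
      (a ∈ (ProjectiveSpectrum.vanishingIdeal (Set.univ : Set (ProjectiveSpectrum 𝒜))).toIdeal ↔ a = 0) := by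
    intro a ha
    constructor
    · intro h
      exact hred a ha ((Groth.Ega2Proj.isNilpotent_iff_forall_point 𝒜 ha).mpr fun x =>
        (ProjectiveSpectrum.mem_vanishingIdeal _ a).mp h x trivial)
    · rintro rfl; exact zero_mem _
  have key := Groth.Agent.S3578.result 𝒜 (Set.univ : Set (ProjectiveSpectrum 𝒜)) isClosed_univ
  constructor
  · intro h
    obtain ⟨hne, hpr⟩ := key.mp ⟨Set.univ_nonempty (α := (Proj 𝒜 :)),
      (IrreducibleSpace.isIrreducible_univ (Proj 𝒜 :)).2⟩
    refine ⟨?_, fun f hf g hg hfg => ?_⟩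
    · by_contra! hc
      exact hne fun a ha => (hv a ha).mpr (hc a ha)
    · exact (hpr f hf g hg (by rw [hfg]; exact zero_mem _)).imp (hv f hf).mp (hv g hg).mp
  · rintro ⟨⟨f, hf, hf0⟩, hpr⟩
    have hirr := key.mpr ⟨fun hle => hf0 ((hv f hf).mp (hle hf)), fun a ha b hb hab =>
      (hpr a ha b hb ((hv _ (Ideal.mul_mem_left _ a hb)).mp hab)).imp (hv a ha).mpr (hv b hb).mpr⟩
    haveI : IrreducibleSpace (Proj 𝒜 :) :=
      { isPreirreducible_univ := hirr.2, toNonempty := ⟨hirr.1.some⟩ }
    exact isIntegral_of_irreducibleSpace_of_isReduced (Proj 𝒜)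

end Groth.Agent.S3557
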