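import Groth.Statements.S3559
import Groth.Agent.Ega2Proj.GradedBasic

set_option autoImplicit false
universe u
open CategoryTheory CategoryTheory.Limits AlgebraicGeometry
open EGA2

namespace Groth.Agent.S3559

/-- Let S be a graded ring and (f_i) a family of homogeneous elements of positive degree. The opens
D_+(f_i) cover Proj S if and only if every element of S_+ has a power in the ideal generated by the
f_i. -/
theorem result {R A : Type u} [CommRing R] [CommRing A] [Algebra R A] (𝒜 : ℕ → Submodule R A) [GradedAlgebra 𝒜]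
    {ι : Type u} (f : ι → A) (hf : ∀ i, ∃ d : ℕ, 0 < d ∧ f i ∈ 𝒜 d) :
    (⨆ i, Proj.basicOpen 𝒜 (f i)) = ⊤ ↔
      (HomogeneousIdeal.irrelevant 𝒜).toIdeal ≤ (Ideal.span (Set.range f)).radical := by
  have hhom : (Ideal.span (Set.range f)).IsHomogeneous 𝒜 :=
    Ideal.homogeneous_span 𝒜 _ (by rintro _ ⟨i, rfl⟩; obtain ⟨d, -, hd⟩ := hf i; exact ⟨d, hd⟩)
  constructor
  · intro h g hg
    refine (Groth.Ega2Proj.mem_radical_iff_forall_point 𝒜 hg hhom).mpr fun x hx => ?_
    obtain ⟨i, hi⟩ := TopologicalSpace.Opens.mem_iSup.mp (h.ge (Set.mem_univ x))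
    exact absurd (hx (Ideal.subset_span ⟨i, rfl⟩)) ((Proj.mem_basicOpen 𝒜 (f i) x).mp hi)
  · intro h
    refine top_le_iff.mp fun x _ => TopologicalSpace.Opens.mem_iSup.mpr ?_
    by_contra! H
    simp only [Proj.mem_basicOpen, not_not] at H
    refine x.not_irrelevant_le fun g hg => x.isPrime.radical_le_iff.mpr ?_ (h hg)
    rw [Ideal.span_le]
    rintro _ ⟨i, rfl⟩
    exact H i

end Groth.Agent.S3559
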