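import Groth.Statements.S3560
import Groth.Agent.Ega2Proj.Generators

set_option autoImplicit false
universe u
open CategoryTheory CategoryTheory.Limits AlgebraicGeometry
open EGA2

namespace Groth.Agent.S3560

/-- Let S be a graded ring whose irrelevant ideal S_+ is finitely generated. Then Proj S is empty if and
only if there is n such that S_k = 0 for all k ≥ n. -/
theorem result {R A : Type u} [CommRing R] [CommRing A] [Algebra R A] (𝒜 : ℕ → Submodule R A) [GradedAlgebra 𝒜]
    (hfg : (HomogeneousIdeal.irrelevant 𝒜).toIdeal.FG) :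
    IsEmpty (Proj 𝒜) ↔ ∃ n : ℕ, ∀ k : ℕ, n ≤ k → 𝒜 k = ⊥ := by
  constructor
  · intro h
    have hnil : (HomogeneousIdeal.irrelevant 𝒜).toIdeal ≤ nilradical A := fun f hf =>
      mem_nilradical.mpr ((Groth.Ega2Proj.isNilpotent_iff_forall_point 𝒜 hf).mpr fun x => (h.false x).elim)
    obtain ⟨N, hN⟩ := Ideal.exists_pow_le_of_le_radical_of_fg
      (I := (HomogeneousIdeal.irrelevant 𝒜).toIdeal) (J := ⊥) hnil hfg
    obtain ⟨D, -, hb⟩ := Groth.Ega2Proj.exists_bound_mem_irrelevant_pow 𝒜 hfg
    refine ⟨N * D, fun k hk => (Submodule.eq_bot_iff _).mpr fun a ha => ?_⟩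
    exact (Submodule.mem_bot A).mp (hN (hb N k hk a ha))
  · rintro ⟨n, hn⟩
    refine ⟨fun x => x.not_irrelevant_le ?_⟩
    have hle : (HomogeneousIdeal.irrelevant 𝒜).toIdeal ≤ x.asHomogeneousIdeal.toIdeal := by
      refine Groth.Ega2Proj.irrelevant_le_ideal 𝒜 fun d hd a ha => ?_
      refine x.isPrime.mem_of_pow_mem (n + 1) ?_
      have h0 : a ^ (n + 1) = 0 := by
        have hmem := SetLike.pow_mem_graded (n + 1) ha
        rw [hn ((n + 1) • d) (by rw [smul_eq_mul]; nlinarith)] at hmem
        exact (Submodule.mem_bot R).mp hmem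
      rw [h0]; exact zero_mem _
    exact hle

end Groth.Agent.S3560
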