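import Groth.Statements.S3565
import Groth.Agent.Chow.NormSec
import Groth.Agent.Chow.VeryAmplePn
import Groth.Agent.Ega2Proj.QuasiAffineAmple

set_option autoImplicit false
universe u
open CategoryTheory CategoryTheory.Limits AlgebraicGeometry
open EGA2

namespace Groth.Agent.S3565

/-- Let f : X → Y be a quasi-compact morphism, g : X' → X a finite surjective morphism such that the
direct image of the structure sheaf of X' is a finite locally free O_X-module, and L an invertible
O_X-module. Then L is ample relative to f if and only if its inverse image on X' is ample relative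
to f ∘ g. -/
theorem result {X X' Y : Scheme.{u}} (f : X ⟶ Y) [QuasiCompact f]
    (g : X' ⟶ X) [IsFinite g] [Surjective g]
    (hfree : FlatMod.IsFinLocFree ((Coh.push g).obj (Coh.structureModule X')))
    (L : X.Modules) (hL : PicF.IsInvertible L) :
    RelAmple.IsRelAmple f L ↔ RelAmple.IsRelAmple (g ≫ f) ((Scheme.Modules.pullback g).obj L) := by
    constructor
    · intro h
      have : QuasiCompact f := h.1
      refine ⟨inferInstance, fun V => ?_⟩
      let U : X.Opens := f ⁻¹ᵁ V.1
      let Z : X'.Opens := (g ≫ f) ⁻¹ᵁ V.1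
      let k : (Z : Scheme.{u}) ⟶ U := g ∣_ U
      have w : k ≫ U.ι = Z.ι ≫ g := morphismRestrict_ι g U
      have : IsAffineHom k := MorphismProperty.of_isPullback (P := @IsAffineHom) (isPullback_morphismRestrict g U).flip inferInstance
      exact Groth.Ega2Proj.isAmple_of_iso (Groth.Ega2Proj.restrictPullbackSquare g U.ι Z.ι k w L)
        (Groth.Chow.isAmple_pullback_of_isAffineHom k (h.2 V))
    · intro h
      refine ⟨inferInstance, fun V => ?_⟩
      let U : X.Opens := f ⁻¹ᵁ V.1
      let Z : X'.Opens := (g ≫ f) ⁻¹ᵁ V.1
      let k : (Z : Scheme.{u}) ⟶ U := g ∣_ U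
      have w : k ≫ U.ι = Z.ι ≫ g := morphismRestrict_ι g U
      have : CompactSpace (U : Scheme.{u}) :=
        isCompact_iff_compactSpace.mp (QuasiCompact.isCompact_preimage _ V.1.2 V.2.isCompact)
      have : IsFinite k := MorphismProperty.of_isPullback (P := @IsFinite) (isPullback_morphismRestrict g U).flip inferInstance
      have : Surjective k := MorphismProperty.of_isPullback (P := @Surjective) (isPullback_morphismRestrict g U).flip inferInstance
      refine Groth.Chow.isAmple_of_pullback (M := L.restrict U.ι) k (fun x => ?_)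
        (Groth.Ega2Proj.isInvertible_restrict U.ι hL)
        (Groth.Ega2Proj.isAmple_of_iso (Groth.Ega2Proj.restrictPullbackSquare g U.ι Z.ι k w L).symm (h.2 V))
      obtain ⟨W, n, b, hxW, hW⟩ := Groth.Chow.exists_secBasis g hfree x.1
      exact ⟨U.ι ⁻¹ᵁ W, n, _, hxW, hW.restrict U (V₀ := U.ι ⁻¹ᵁ W) (U.ι.image_preimage_le W)⟩

end Groth.Agent.S3565
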