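import Groth.Statements.S3567


set_option autoImplicit false
universe u
open CategoryTheory CategoryTheory.Limits AlgebraicGeometry
open EGA2

namespace Groth.Agent.S3567

/-- Let h : U → V be a surjective morphism of schemes such that the map of sheaves of rings O_V → h_*O_U
is an isomorphism and the underlying space of V carries the quotient topology of that of U. Then for
every scheme W, composition with h is a bijection from the morphisms V → W onto the morphisms U → W
whose underlying map is constant on each fibre of h. -/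
theorem result {U V : Scheme.{u}} (h : U ⟶ V) [Surjective h]
    [IsIso h.c] (hq : Topology.IsQuotientMap h.base) (W : Scheme.{u}) :
    (∀ v₁ v₂ : V ⟶ W, h ≫ v₁ = h ≫ v₂ → v₁ = v₂) ∧
      ∀ u : U ⟶ W, (∀ x y : U, h.base x = h.base y → u.base x = u.base y) → ∃ v : V ⟶ W, h ≫ v = u := by
  classical
  have happ : ∀ P : V.Opens, IsIso (h.app P) := fun P => by
    change IsIso (h.c.app (Opposite.op P)); infer_instance
  constructor
  · intro v₁ v₂ e
    have hbase : v₁.base = v₂.base := by
      ext x
      obtain ⟨a, rfl⟩ := h.surjective x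
      exact congrArg (fun m : U ⟶ W => m.base a) e
    obtain ⟨⟨⟨b₁, c₁⟩, p₁⟩⟩ := v₁
    obtain ⟨⟨⟨b₂, c₂⟩, p₂⟩⟩ := v₂
    change b₁ = b₂ at hbase
    subst hbase
    suffices c₁ = c₂ by subst this; rfl
    have e' := congrArg (fun m : U ⟶ W => m.toLRSHom'.1) e
    have : c₁ ≫ (TopCat.Presheaf.pushforward _ b₁).map h.c = c₂ ≫ (TopCat.Presheaf.pushforward _ b₁).map h.c := by
      injection e' with e1 e2
    exact (cancel_mono ((TopCat.Presheaf.pushforward _ b₁).map h.c)).mp this
  · intro u hu
    let r : V → U := fun y => (h.surjective y).choose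
    have hr : ∀ y, h.base (r y) = y := fun y => (h.surjective y).choose_spec
    let vf : V → W := fun y => u.base (r y)
    have hcomp : ∀ x, vf (h.base x) = u.base x := fun x => hu _ _ (hr _)
    have hcont : Continuous vf := by
      rw [hq.continuous_iff]
      exact (funext hcomp : vf ∘ h.base = u.base) ▸ u.base.hom.continuous
    let vb : V.toPresheafedSpace.carrier ⟶ W.toPresheafedSpace.carrier := TopCat.ofHom ⟨vf, hcont⟩
    have hb : u.base = h.base ≫ vb := by ext x; exact (hcomp x).symm
    have hb' : u.base _* U.presheaf = (h.base ≫ vb) _* U.presheaf := by rw [hb]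
    let vp : V.toPresheafedSpace ⟶ W.toPresheafedSpace :=
      ⟨vb, u.c ≫ eqToHom hb' ≫ (TopCat.Presheaf.pushforward _ vb).map (inv h.c)⟩
    have hvp : h.toPshHom ≫ vp = u.toPshHom := by
      refine AlgebraicGeometry.PresheafedSpace.ext _ _ hb.symm ?_
      change ((u.c ≫ eqToHom hb' ≫ (TopCat.Presheaf.pushforward _ vb).map (inv h.c)) ≫
        (TopCat.Presheaf.pushforward _ vb).map h.c) ≫ _ = _
      have e : (TopCat.Presheaf.pushforward CommRingCat vb).map (inv h.c) ≫
          (TopCat.Presheaf.pushforward CommRingCat vb).map h.c = 𝟙 _ :=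
        ((TopCat.Presheaf.pushforward CommRingCat vb).map_comp _ _).symm.trans
          ((congrArg _ (IsIso.inv_hom_id h.c)).trans ((TopCat.Presheaf.pushforward CommRingCat vb).map_id _))
      have key : ∀ {C : Type (u+1)} [Category.{u} C] {A B B' D : C} (a : A ⟶ B) (p : B = B')
          (i : B' ⟶ D) (j : D ⟶ B') (p' : B' = B) (w : B' ⟶ B), i ≫ j = 𝟙 _ → w = eqToHom p' →
          ((a ≫ eqToHom p ≫ i) ≫ j) ≫ w = a := by
        intro C _ A B B' D a p i j p' w hij hw
        subst p; subst hw
        simp [hij]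
      refine key u.c hb' _ _ hb'.symm _ e ?_
      have wh : ∀ {F G : (TopologicalSpace.Opens ↥W)ᵒᵖ ⥤ (TopologicalSpace.Opens ↥U)ᵒᵖ} (p : F = G),
          Functor.whiskerRight (eqToHom p) U.presheaf = eqToHom (congrArg (fun T => T ⋙ U.presheaf) p) := by
        rintro F G rfl; simp
      exact wh _
    refine ⟨⟨⟨vp, fun y => ?_⟩⟩, ?_⟩
    · obtain ⟨x, rfl⟩ := h.surjective y
      refine ⟨fun a ha => ?_⟩
      have h1 : IsLocalHom (PresheafedSpace.Hom.stalkMap (h.toPshHom ≫ vp) x).hom := by
        rw [hvp]; exact u.toLRSHom'.2 x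
      rw [PresheafedSpace.stalkMap.comp] at h1
      exact h1.map_nonunit a (ha.map (PresheafedSpace.Hom.stalkMap h.toPshHom x).hom)
    · apply Scheme.Hom.ext'
      exact LocallyRingedSpace.Hom.ext' hvp

end Groth.Agent.S3567
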