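import Groth.Statements.S3568
import Groth.Agent.LocImm.Birational

set_option autoImplicit false
universe u
open CategoryTheory CategoryTheory.Limits AlgebraicGeometry
open EGA2

namespace Groth.Agent.S3568

/-- Let U be an integral scheme, V a normal integral scheme (all local rings integrally closed domains)
and h : U → V a morphism which is universally closed, radicial (universally injective) and
birational (it sends the generic point of U to that of V and induces an isomorphism of the residue
fields there). Then h is an isomorphism. (The source assumes only V normal; integrality of V, needed
here to speak of its generic point, follows from the other hypotheses.) -/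
theorem result {U V : Scheme.{u}} [AlgebraicGeometry.IsIntegral U] [AlgebraicGeometry.IsIntegral V]
    (hN : Pi1.IsNormalScheme V) (h : U ⟶ V) [UniversallyClosed h]
    [UniversallyInjective h] (hgen : h.base (genericPoint U) = genericPoint V)
    (hbir : Function.Bijective (h.residueFieldMap (genericPoint U)).hom) :
    IsIso h := by
  have hinj : Function.Injective h.base := h.injective
  have hind : Topology.IsClosedEmbedding h.base :=
    .of_continuous_injective_isClosedMap h.continuous hinj h.isClosedMap
  haveI : IsAffineHom h := isAffineHom_of_isInducing h hind.isInducing hind.isClosed_range
  haveI : IsIntegralHom h := IsIntegralHom.iff_universallyClosed_and_isAffineHom.mpr ⟨inferInstance, inferInstance⟩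
  refine Groth.LocImmersion.BirationalNormal.isIso_of_isIntegralHom (fun y => (hN y).2) h hgen ?_
  have hfV : IsField (V.presheaf.stalk (h.base (genericPoint U))) := by
    rw [hgen]; exact Field.toIsField V.functionField
  have hfU : IsField (U.presheaf.stalk (genericPoint U)) := Field.toIsField U.functionField
  have bij : ∀ {Z : Scheme.{u}} (z : Z), IsField (Z.presheaf.stalk z) →
      Function.Bijective (Z.residue z).hom := fun {Z} z hz => by
    letI := hz.toField
    exact ⟨RingHom.injective _, Ideal.Quotient.mk_surjective⟩
  rw [ConcreteCategory.isIso_iff_bijective]
  have hcomp : Function.Bijective ((U.residue (genericPoint U)).hom ∘ (h.stalkMap (genericPoint U)).hom) := by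
    have e := congrArg (fun m => (CommRingCat.Hom.hom m : _ → _)) (Scheme.residue_residueFieldMap h (genericPoint U))
    simp only [CommRingCat.hom_comp, RingHom.coe_comp] at e
    rw [← e]
    exact hbir.comp (bij _ hfV)
  exact (Function.Bijective.of_comp_iff' (bij _ hfU) _).mp hcomp

end Groth.Agent.S3568
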