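import Groth.Statements.S3570
import Groth.Agent.Ega2Proj.AlgOf

set_option autoImplicit false
universe u
open CategoryTheory CategoryTheory.Limits AlgebraicGeometry
open EGA2

namespace Groth.Agent.S3570

/-- Let f : X → S and g : Y → S be affine morphisms and h : Y → X an S-morphism. Then h is an
isomorphism if and only if A(h) : f_*O_X → g_*O_Y is an isomorphism (of presheaves of rings on S). -/
theorem result {X Y S : Scheme.{u}} (f : X ⟶ S) [IsAffineHom f] (g : Y ⟶ S)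
    [IsAffineHom g] (h : Y ⟶ X) (w : h ≫ f = g) :
    IsIso h ↔ IsIso (AffAlg.algHom f g h w) := by
  constructor
  · intro _
    haveI : IsIso h.c := inferInstance
    unfold AffAlg.algHom
    infer_instance
  · intro hiso
    change MorphismProperty.isomorphisms Scheme h
    refine (IsZariskiLocalAtTarget.iff_of_iSup_eq_top (P := MorphismProperty.isomorphisms Scheme)
      (fun V : S.affineOpens => f ⁻¹ᵁ V.1) ?_).mpr ?_
    · rw [eq_top_iff]
      intro x _
      obtain ⟨V, hV, hxV, -⟩ := exists_isAffineOpen_mem_and_subset (x := f.base x) (U := (⊤ : S.Opens)) trivial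
      exact TopologicalSpace.Opens.mem_iSup.mpr ⟨⟨V, hV⟩, hxV⟩
    · intro V
      haveI : IsAffine (f ⁻¹ᵁ V.1 : X.Opens) := V.2.preimage f
      have e : g ⁻¹ᵁ V.1 = h ⁻¹ᵁ (f ⁻¹ᵁ V.1) := by rw [← w]; rfl
      haveI : IsAffine (h ⁻¹ᵁ (f ⁻¹ᵁ V.1) : Y.Opens) := e ▸ V.2.preimage g
      suffices happ : IsIso (h ∣_ (f ⁻¹ᵁ V.1)).appTop by
        exact (MorphismProperty.arrow_mk_iso_iff (MorphismProperty.isomorphisms _)
          (arrowIsoSpecΓOfIsAffine (h ∣_ (f ⁻¹ᵁ V.1)))).mpr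
          (inferInstance : IsIso (Spec.map (h ∣_ (f ⁻¹ᵁ V.1)).appTop))
      have hs : IsIso ((AffAlg.algHom f g h w).app (Opposite.op V.1)) := inferInstance
      rw [Groth.Ega2Proj.algHom_app f g h w V.1 e.le] at hs
      have key : ∀ (W : Y.Opens) (hW : W = h ⁻¹ᵁ (f ⁻¹ᵁ V.1)),
          IsIso (h.appLE (f ⁻¹ᵁ V.1) W hW.le) →
          MorphismProperty.isomorphisms CommRingCat (h.appLE (f ⁻¹ᵁ V.1) (h ⁻¹ᵁ (f ⁻¹ᵁ V.1)) le_rfl) := by
        rintro _ rfl hh; exact hh
      rw [← Scheme.Hom.resLE_eq_morphismRestrict]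
      exact (MorphismProperty.arrow_mk_iso_iff (MorphismProperty.isomorphisms _)
        (arrowResLEAppIso h (f ⁻¹ᵁ V.1) (h ⁻¹ᵁ (f ⁻¹ᵁ V.1)) le_rfl)).mpr (key _ e hs)

end Groth.Agent.S3570
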