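import Groth.Statements.S3577
import Groth.Agent.Chow.NormRestrict
import Groth.Agent.Chow.VeryAmplePn
import Groth.Agent.Ega2Proj.QuasiAffineAmple

set_option autoImplicit false
universe u
open CategoryTheory CategoryTheory.Limits AlgebraicGeometry
open EGA2

namespace Groth.Agent.S3577

/-- Let Y be an affine scheme, X a Noetherian reduced scheme, f : X → Y a quasi-compact morphism and g :
X' → X a finite surjective morphism. Assume that at every point x of X either the local ring of X at
x is an integrally closed domain, or the direct image of the structure sheaf of X' is locally free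
on some open neighbourhood of x. Then an invertible O_X-module L is ample relative to f if and only
if its inverse image on X' is ample relative to f ∘ g. -/
theorem result {X X' Y : Scheme.{u}} [IsAffine Y]
    [IsNoetherian X] [IsReduced X] (f : X ⟶ Y) [QuasiCompact f] (g : X' ⟶ X) [IsFinite g] [Surjective g]
    (hW : ∀ x : X, (IsDomain (X.presheaf.stalk x) ∧ IsIntegrallyClosed (X.presheaf.stalk x)) ∨
      ∃ T : X.Opens, x ∈ T ∧ FlatMod.IsFinLocFree (((Coh.push g).obj (Coh.structureModule X')).restrict T.ι))
    (L : X.Modules) (hL : PicF.IsInvertible L) :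
    RelAmple.IsRelAmple f L ↔ RelAmple.IsRelAmple (g ≫ f) ((Scheme.Modules.pullback g).obj L) := by
    constructor
    · intro h
      refine ⟨inferInstance, fun V => ?_⟩
      let U : X.Opens := f ⁻¹ᵁ V.1
      let Z : X'.Opens := (g ≫ f) ⁻¹ᵁ V.1
      let k : (Z : Scheme.{u}) ⟶ U := g ∣_ U
      have w : k ≫ U.ι = Z.ι ≫ g := morphismRestrict_ι g U
      have : IsAffineHom k := MorphismProperty.of_isPullback (P := @IsAffineHom) (isPullback_morphismRestrict g U).flip inferInstance
      exact Groth.Ega2Proj.isAmple_of_iso (Groth.Ega2Proj.restrictPullbackSquare g U.ι Z.ι k w L)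
        (Groth.Chow.isAmple_pullback_of_isAffineHom k (h.2 V))
    · intro h
      have hX : ∀ z : X, (IsDomain (X.presheaf.stalk z) ∧ IsIntegrallyClosed (X.presheaf.stalk z)) ∨
          ∃ (W : X.Opens) (n : ℕ) (b : Fin n → Γ(X', g ⁻¹ᵁ W)), z ∈ W ∧ Groth.Chow.SecBasis g W b := by
        intro z
        rcases hW z with h' | ⟨T, hz, hT⟩
        · exact Or.inl h'
        refine Or.inr ?_
        obtain ⟨W₀, n, s, hzW, hs⟩ := Groth.PicAux.exists_basis_of_isFinLocFree hT ⟨z, hz⟩
        exact ⟨T.ι ''ᵁ W₀, n, fun i => s i, ⟨⟨z, hz⟩, hzW, rfl⟩, fun V hV =>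
          Groth.Chow.bijective_of_restrict_basis g T hs V hV⟩
      have hA : CohB1.IsAmple ((Scheme.Modules.pullback g).obj L) := by
        haveI : CompactSpace X' := QuasiCompact.compactSpace_of_compactSpace g
        refine Groth.Ega2Proj.isAmple_of_iso ((Scheme.Modules.restrictFunctorId.{u}).app _)
          (Groth.Ega2Proj.isAmple_of_isRelAmple h ⟨⊤, isAffineOpen_top Y⟩ (𝟙 X') (fun y _ => trivial))
      have hAX := Groth.Chow.isAmple_of_pullback_normal g hL hX hA
      exact Groth.Ega2Proj.isRelAmple_of_local f fun x => ⟨⊤, X, 𝟙 X, inferInstance, trivial,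
        fun y _ => ⟨y, rfl⟩, Groth.Ega2Proj.isAmple_of_iso ((Scheme.Modules.restrictFunctorId.{u}).app _).symm hAX⟩

end Groth.Agent.S3577
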