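import Groth.Statements.S3583
import Groth.Agent.Ega2Proj.AlgOf

set_option autoImplicit false
universe u
open CategoryTheory AlgebraicGeometry Opposite
open EGA2

namespace Groth.Agent.S3583

/-- In the form stated after its proof: let f : X → S and f' : X' → S be affine morphisms and h : X' → X
an S-morphism such that the O_S-algebra homomorphism A(h) : f_*O_X → f'_*O_{X'} is surjective (as a
map of quasi-coherent O_S-modules, i.e. on sections over every affine open of S). Then h is a closed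
immersion. -/
theorem result {X X' S : Scheme.{u}} (f : X ⟶ S) [IsAffineHom f]
    (f' : X' ⟶ S) [IsAffineHom f'] (h : X' ⟶ X) (w : h ≫ f = f')
    (hsurj : ∀ U : S.affineOpens, Function.Surjective ((AffAlg.algHom f f' h w).app (op U.1)).hom) :
    IsClosedImmersion h := by
  refine (IsZariskiLocalAtTarget.iff_of_iSup_eq_top (P := @IsClosedImmersion)
    (fun V : S.affineOpens => f ⁻¹ᵁ V.1) ?_).mpr ?_
  · rw [eq_top_iff]
    intro x _
    obtain ⟨V, hV, hxV, -⟩ := exists_isAffineOpen_mem_and_subset (x := f.base x) (U := (⊤ : S.Opens)) trivial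
    exact TopologicalSpace.Opens.mem_iSup.mpr ⟨⟨V, hV⟩, hxV⟩
  · intro V
    haveI : IsAffine (f ⁻¹ᵁ V.1 : X.Opens) := V.2.preimage f
    have e : f' ⁻¹ᵁ V.1 = h ⁻¹ᵁ (f ⁻¹ᵁ V.1) := by rw [← w]; rfl
    haveI : IsAffine (h ⁻¹ᵁ (f ⁻¹ᵁ V.1) : X'.Opens) := e ▸ V.2.preimage f'
    refine IsClosedImmersion.of_surjective_of_isAffine _ ?_
    have hs := hsurj V
    rw [Groth.Ega2Proj.algHom_app f f' h w V.1 e.le] at hs
    have hs' : Function.Surjective (h.app (f ⁻¹ᵁ V.1)).hom := by
      rw [Scheme.Hom.app_eq_appLE]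
      have key : ∀ (W : X'.Opens) (hW : W = h ⁻¹ᵁ (f ⁻¹ᵁ V.1)),
          Function.Surjective (h.appLE (f ⁻¹ᵁ V.1) W hW.le).hom →
          Function.Surjective (h.appLE (f ⁻¹ᵁ V.1) (h ⁻¹ᵁ (f ⁻¹ᵁ V.1)) le_rfl).hom := by
        rintro _ rfl hh; exact hh
      exact key _ e hs
    let P : MorphismProperty CommRingCat :=
      RingHom.toMorphismProperty <| fun f ↦ Function.Surjective f
    have : (RingHom.toMorphismProperty <| fun f ↦ Function.Surjective f).RespectsIso :=
      RingHom.toMorphismProperty_respectsIso_iff.mp RingHom.surjective_respectsIso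
    change P (h ∣_ (f ⁻¹ᵁ V.1)).appTop
    rw [← Scheme.Hom.resLE_eq_morphismRestrict,
      MorphismProperty.arrow_mk_iso_iff P (arrowResLEAppIso h (f ⁻¹ᵁ V.1) _ le_rfl)]
    rw [Scheme.Hom.app_eq_appLE] at hs'
    exact hs'

end Groth.Agent.S3583
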