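import Groth.Statements.S3584
import Groth.Agent.Ega2Proj.TwistGen

set_option autoImplicit false
universe u
open CategoryTheory CategoryTheory.Limits AlgebraicGeometry
open EGA2

namespace Groth.Agent.S3584

/-- Let S be a graded ring whose irrelevant ideal S_+ is generated by finitely many elements of degree
one. Then the twisting sheaf O_X(1) on X = Proj S is ample (X is quasi-compact and covered by the
affine non-vanishing loci of sections of the positive powers of O_X(1)). -/
theorem result {R A : Type u} [CommRing R] [CommRing A] [Algebra R A] (𝒜 : ℕ → Submodule R A) [GradedAlgebra 𝒜]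
    (s : Finset A) (hs1 : ∀ f ∈ s, f ∈ 𝒜 1)
    (hs : (HomogeneousIdeal.irrelevant 𝒜).toIdeal = Ideal.span (s : Set A)) :
    CohB1.IsAmple (Twist.twist 𝒜 1) := by
  exact Groth.Ega2Proj.isAmple_twist_one s hs1 hs.le

end Groth.Agent.S3584
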