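import Groth.Statements.S3585
import Groth.Agent.Chow.ProjSpaceImm
import Groth.Agent.Chow.ProjQuot
import Groth.Agent.Ega2Proj2.ProjLoc
import Groth.Agent.S4381
set_option linter.style.haveILetI false

set_option autoImplicit false
universe u
open CategoryTheory CategoryTheory.Limits AlgebraicGeometry
open EGA2

namespace Groth.Agent.S3585

/-- Let A be a ring and f : X → Spec A a proper morphism, and suppose X carries an invertible O_X-module
which is ample relative to f (so f is quasi-projective). Then f is projective: X is isomorphic over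
Spec A to Proj S for some graded A-algebra S whose degree-zero part is the image of A and whose
irrelevant ideal is generated by finitely many elements of degree one. -/
theorem result {A : Type u} [CommRing A] {X : Scheme.{u}}
    (f : X ⟶ Spec (CommRingCat.of A)) [IsProper f]
    (L : X.Modules) (hL : PicF.IsInvertible L) (hamp : RelAmple.IsRelAmple f L) :
    ∃ (S : Type u) (_ : CommRing S) (_ : Algebra A S) (𝒮 : ℕ → Submodule A S) (_ : GradedAlgebra 𝒮) (s : Finset S),
      Function.Surjective (algebraMap A (𝒮 0)) ∧ (∀ g ∈ s, g ∈ 𝒮 1) ∧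
      (HomogeneousIdeal.irrelevant 𝒮).toIdeal = Ideal.span (s : Set S) ∧
      ∃ e : X ≅ Proj 𝒮, e.hom ≫ Proj.toSpecZero 𝒮 ≫ Spec.map (CommRingCat.ofHom (algebraMap A (𝒮 0))) = f := by
    classical
    obtain ⟨m, r, hr, hrf⟩ := Groth.Chow.exists_isClosedImmersion_projSpace f ((Groth.Agent.S4381.result f L).mp hamp)
    let P := CohB1.polyGrading m A
    let s : Finset (MvPolynomial (Fin (m + 1)) A) := Finset.univ.image MvPolynomial.X
    have hs1 : ∀ g ∈ s, g ∈ P 1 := by
      simp only [s, Finset.mem_image, Finset.mem_univ, true_and, forall_exists_index, forall_apply_eq_imp_iff]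
      exact fun i => Groth.Chow.ToPn.X_mem i
    have hs : (HomogeneousIdeal.irrelevant P).toIdeal = Ideal.span (s : Set (MvPolynomial (Fin (m + 1)) A)) := by
      refine le_antisymm ?_ (Ideal.span_le.mpr fun g hg => HomogeneousIdeal.mem_irrelevant_of_mem P one_pos (hs1 g hg))
      rw [Finset.coe_image, Finset.coe_univ, Set.image_univ]
      exact Groth.Chow.ToPn.irrelevant_le_span_X
    obtain ⟨B, _, _, ℬ, _, φ, hφs, hφ, e, he, halg⟩ := Groth.ProjClosed.exists_quotient_alg P s hs1 hs r
    refine ⟨B, inferInstance, inferInstance, ℬ, inferInstance, s.image φ, fun b => ?_, ?_, ?_, e, ?_⟩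
    · obtain ⟨a, ha⟩ := hφs b.1
      have h1 := map_directSumDecompose P φ (x := a) (i := 0) (ℬ := ℬ)
      rw [ha, DirectSum.decompose_of_mem_same ℬ b.2] at h1
      refine ⟨MvPolynomial.coeff 0 a, Subtype.ext (Eq.trans ?_ h1)⟩
      rw [SetLike.GradeZero.coe_algebraMap, ← halg, MvPolynomial.algebraMap_eq]
      congr 1
      exact ((MvPolynomial.decomposition.decompose'_apply a 0).trans (MvPolynomial.homogeneousComponent_zero a)).symm
    · intro g hg
      obtain ⟨x, hx, rfl⟩ := Finset.mem_image.mp hg
      exact φ.map_mem (hs1 x hx)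
    · refine le_antisymm ?_ (Ideal.span_le.mpr fun g hg => ?_)
      · refine le_trans hφ ?_
        show Ideal.map φ (HomogeneousIdeal.irrelevant P).toIdeal ≤ _
        rw [hs, Ideal.map_span, ← Finset.coe_image]
      · obtain ⟨x, hx, rfl⟩ := Finset.mem_image.mp hg
        exact HomogeneousIdeal.mem_irrelevant_of_mem ℬ one_pos (φ.map_mem (hs1 x hx))
    · have hz : CommRingCat.ofHom (algebraMap A (P 0)) ≫ CommRingCat.ofHom (Groth.Ega2P2.zeroHom φ) =
          CommRingCat.ofHom (algebraMap A (ℬ 0)) :=
        CommRingCat.hom_ext (RingHom.ext fun a => Subtype.ext (by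
          simp only [CommRingCat.hom_comp, CommRingCat.hom_ofHom, RingHom.comp_apply, Groth.Ega2P2.zeroHom_coe,
            SetLike.GradeZero.coe_algebraMap, halg]))
      refine Eq.trans ?_ hrf
      rw [← he, Category.assoc]
      congr 1
      rw [← hz, Spec.map_comp, ← Category.assoc, ← Groth.Ega2P2.map_toSpecZero φ hφ, Category.assoc]
      rfl

end Groth.Agent.S3585
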