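import Groth.Statements.S3588
import Groth.Agent.Ega2Proj.MapCharts
import Groth.Agent.S3556

set_option autoImplicit false
universe u
open CategoryTheory CategoryTheory.Limits AlgebraicGeometry
open EGA2

namespace Groth.Agent.S3588

/-- Let S be a graded ring, N_+ the set of nilpotent elements of S_+ (an ideal of S), and S → S/N_+ the
quotient (here: any surjective homomorphism of graded rings φ : S → S' whose kernel is N_+). Then
the induced morphism Proj S' → Proj S is a closed immersion which is a homeomorphism of the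
underlying spaces, and Proj S' is reduced; thus Proj S' is the reduced closed subscheme (Proj
S)_red. -/
theorem result {R A : Type u} [CommRing R] [CommRing A] [Algebra R A] (𝒜 : ℕ → Submodule R A) [GradedAlgebra 𝒜]
    {B : Type u} [CommRing B] [Algebra R B] (ℬ : ℕ → Submodule R B) [GradedAlgebra ℬ]
    (φ : 𝒜 →+*ᵍ ℬ) (hsurj : Function.Surjective φ)
    (hker : ∀ a : A, φ a = 0 ↔ a ∈ (HomogeneousIdeal.irrelevant 𝒜).toIdeal ∧ IsNilpotent a)
    (hφ : HomogeneousIdeal.irrelevant ℬ ≤ (HomogeneousIdeal.irrelevant 𝒜).map φ) :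
    IsClosedImmersion (Proj.map φ hφ) ∧ IsHomeomorph (Proj.map φ hφ).base ∧
      AlgebraicGeometry.IsReduced (Proj ℬ) := by
  classical
  have hcl := Groth.Ega2Proj.proj_map_isClosedImmersion_of_surjective φ hφ hsurj
  have hdense := Groth.Ega2Proj.proj_map_denseRange φ hφ fun a ha => ((hker a).mp ha).2
  have hemb := (Proj.map φ hφ).isClosedEmbedding
  refine ⟨hcl, ?_, Groth.Agent.S3556.result ℬ ?_⟩
  · refine isHomeomorph_iff_isEmbedding_surjective.mpr ⟨hemb.isEmbedding, ?_⟩
    rw [← Set.range_eq_univ]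
    exact hemb.isClosed_range.closure_eq.symm.trans hdense.closure_eq
  · rintro _ hb ⟨k, hk⟩
    obtain ⟨a, rfl⟩ := hsurj ‹B›
    set a' := a - (DirectSum.decompose 𝒜 a 0 : A) with ha'def
    have h0 : φ (DirectSum.decompose 𝒜 a 0 : A) = 0 := by
      rw [GradedRingHom.map_directSumDecompose]
      exact (Groth.Ega2Proj.mem_irrelevant_iff_decompose_zero ℬ _).mp hb
    have he : φ a' = φ a := by rw [ha'def, map_sub, h0, sub_zero]
    have hirr : a' ∈ (HomogeneousIdeal.irrelevant 𝒜).toIdeal := by
      rw [Groth.Ega2Proj.mem_irrelevant_iff_decompose_zero, ha'def, DirectSum.decompose_sub,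
        DirectSum.sub_apply, DirectSum.decompose_coe, DirectSum.of_eq_same, sub_self]
      rfl
    obtain ⟨m, hm⟩ := ((hker (a' ^ k)).mp (by rw [map_pow, he, hk])).2
    rw [← he]
    exact (hker a').mpr ⟨hirr, k * m, by rw [pow_mul, hm]⟩

end Groth.Agent.S3588
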