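import Groth.Statements.S3589
import Groth.Agent.Ega2Proj.SpecSections
import Groth.Agent.Chow.ProjUnique

set_option autoImplicit false
universe u
open CategoryTheory CategoryTheory.Limits AlgebraicGeometry
open EGA2

namespace Groth.Agent.S3589

/-- For E = O_Y^{n+1} over an affine base Y = Spec R (injectivity of the correspondence): a section s of
projective n-space over R is determined by the submodule F(s) of R^{n+1} formed by the R-linear
relations among the pulled-back coordinates s^*T_0, …, s^*T_n in the global sections of s^*O(1). -/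
theorem result {R : Type u} [CommRing R] (n : ℕ)
    (s₁ s₂ : Spec (CommRingCat.of R) ⟶ CohB1.ProjSpace n R)
    (h₁ : s₁ ≫ CohB1.ProjSpace.toSpec n R = 𝟙 _) (h₂ : s₂ ≫ CohB1.ProjSpace.toSpec n R = 𝟙 _)
    (h : ProjUP.secKernel n R s₁ = ProjUP.secKernel n R s₂) :
    s₁ = s₂ := by
  have hk : LinearMap.ker (Groth.Ega2Proj.secMap s₁) = LinearMap.ker (Groth.Ega2Proj.secMap s₂) := by
    rw [← Groth.Ega2Proj.secKernel_eq, ← Groth.Ega2Proj.secKernel_eq, h]
  let e := ((LinearMap.quotKerEquivOfSurjective _ (Groth.Ega2Proj.secMap_surjective s₁)).symm.trans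
    (Submodule.quotEquivOfEq _ _ hk)).trans
      (LinearMap.quotKerEquivOfSurjective _ (Groth.Ega2Proj.secMap_surjective s₂))
  obtain ⟨τ, hτ⟩ := Groth.Ega2Proj.exists_iso_of_linearEquiv (R := CommRingCat.of R)
    (Groth.Ega2Proj.secBundle s₁) (Groth.Ega2Proj.secBundle s₂) e
  refine Groth.Chow.ProjUnique.hom_eq (𝒮 := CohB1.polyGrading n R)
    (ι := fun i : Fin (n + 1) => (MvPolynomial.X i : MvPolynomial (Fin (n + 1)) R))
    (fun i => MvPolynomial.isHomogeneous_X R i) MvPolynomial.adjoin_range_X s₁ s₂ (h₁.trans h₂.symm) τ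
    fun i => ?_
  refine (hτ _).trans ?_
  erw [← Groth.Ega2Proj.secMap_single s₁ i]
  exact (congrArg (fun t => (LinearMap.quotKerEquivOfSurjective _ (Groth.Ega2Proj.secMap_surjective s₂))
    ((Submodule.quotEquivOfEq _ _ hk) t)) ((LinearMap.quotKerEquivOfSurjective _
      (Groth.Ega2Proj.secMap_surjective s₁)).symm_apply_apply (Submodule.Quotient.mk (Pi.single i 1)))).trans
    (Groth.Ega2Proj.secMap_single s₂ i)

end Groth.Agent.S3589
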