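import Groth.Statements.S3590
import Groth.Agent.Ega2Proj.SpecSections
import Groth.Agent.Chow.ToPn

set_option autoImplicit false
universe u
open CategoryTheory CategoryTheory.Limits AlgebraicGeometry
open EGA2

namespace Groth.Agent.S3590

/-- For E = O_Y^{n+1} over an affine base Y = Spec R (image of the correspondence): a submodule F of
R^{n+1} is the module of relations among the pulled-back coordinates of some section of projective
n-space over R if and only if the quotient R^{n+1}/F is an invertible R-module (projective, of rank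
one at every prime). -/
theorem result {R : Type u} [CommRing R] (n : ℕ)
    (F : Submodule R (Fin (n + 1) → R)) :
    (∃ s : Spec (CommRingCat.of R) ⟶ CohB1.ProjSpace n R,
        s ≫ CohB1.ProjSpace.toSpec n R = 𝟙 _ ∧ ProjUP.secKernel n R s = F) ↔
      (Module.Projective R ((Fin (n + 1) → R) ⧸ F) ∧
        ∀ p : PrimeSpectrum R, Module.finrank (Localization.AtPrime p.asIdeal)
          (LocalizedModule p.asIdeal.primeCompl ((Fin (n + 1) → R) ⧸ F)) = 1) := by
  constructor
  · rintro ⟨s, -, rfl⟩
    obtain ⟨hproj, hrank⟩ := Groth.Ega2Proj.projective_rank_one_of_isInvertible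
      (R := CommRingCat.of R) _ (Groth.Ega2Proj.isInvertible_secBundle s)
    let e := (Submodule.quotEquivOfEq _ _ (Groth.Ega2Proj.secKernel_eq s)).trans
      (LinearMap.quotKerEquivOfSurjective _ (Groth.Ega2Proj.secMap_surjective s))
    haveI : Module.Projective R Γ(Groth.Ega2Proj.secBundle s, ⊤) := hproj
    refine ⟨Module.Projective.of_equiv e.symm, fun p => ?_⟩
    exact (congrFun (Module.rankAtStalk_eq_of_equiv e) p).trans (hrank p)
  · rintro ⟨hproj, hrank⟩
    let M : ModuleCat.{u} (CommRingCat.of R) := ModuleCat.of R ((Fin (n + 1) → R) ⧸ F)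
    haveI : Module.Finite (CommRingCat.of R) M :=
      inferInstanceAs (Module.Finite R ((Fin (n + 1) → R) ⧸ F))
    haveI : Module.Projective (CommRingCat.of R) M := hproj
    have hL : PicF.IsInvertible (tilde M) := Groth.Ega2Proj.isInvertible_tilde M hrank
    let e : ((Fin (n + 1) → R) ⧸ F) ≃ₗ[R] Γ(tilde M, ⊤) := (tilde.isoTop M).toLinearEquiv
    let φ : (Fin (n + 1) → R) →ₗ[R] Γ(tilde M, ⊤) := e.toLinearMap.comp F.mkQ
    let σ : Fin (n + 1) → Γ(tilde M, ⊤) := fun i => φ (Pi.single i 1)
    have hφ : ∀ c, φ c = ∑ i, c i • σ i := fun c => by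
      conv_lhs => rw [pi_eq_sum_univ' c]
      rw [map_sum]
      exact Finset.sum_congr rfl fun i _ => φ.map_smul _ _
    have hgen : ProjUP.GeneratedBy (tilde M) σ :=
      Groth.Ega2Proj.generatedBy_of_span (R := CommRingCat.of R) (tilde M) σ fun m => by
        obtain ⟨c, rfl⟩ := (e.surjective.comp F.mkQ_surjective) m
        change φ c ∈ _
        rw [hφ c]
        exact Submodule.sum_mem _ fun i _ => Submodule.smul_mem (R := CommRingCat.of R) _ (c i)
          (Submodule.subset_span ⟨i, rfl⟩)
    have hU := Groth.Chow.ToPn.iSup_U (tilde M) σ hL hgen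
    obtain ⟨r, hr⟩ := Groth.Chow.ToPn.exists_r (𝟙 _) (tilde M) σ hU
    obtain ⟨τ, hτ⟩ : ∃ τ : Groth.Ega2Proj.secBundle r ≅ tilde M, ∀ l, τ.hom.app ⊤
        (ProjUP.pullSec r (Twist.twistProjSpace n R 1) (ProjUP.coord n R l) :
          Γ(Groth.Ega2Proj.secBundle r, ⊤)) = σ l :=
      Groth.Chow.ToPn.exists_tau hr hU
    refine ⟨r, Groth.Chow.ToPn.r_toSpec hr hU, ?_⟩
    rw [Groth.Ega2Proj.secKernel_eq]
    ext c
    rw [LinearMap.mem_ker, Groth.Ega2Proj.secMap_apply]
    have hinj : Function.Injective (τ.hom.app ⊤) := fun a b hab => by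
      have := congrArg (τ.inv.app ⊤) hab
      simpa [← CategoryTheory.comp_apply, ← Scheme.Modules.Hom.comp_app] using this
    rw [← hinj.eq_iff, map_sum, map_zero]
    simp only [Groth.Ega2Proj.spec_smul_top', Scheme.Modules.Hom.app_smul]
    erw [Finset.sum_congr rfl fun i _ => congrArg
      ((Scheme.ΓSpecIso (CommRingCat.of R)).inv (c i) • ·) (hτ i)]
    rw [← Submodule.Quotient.mk_eq_zero F, ← e.map_eq_zero_iff,
      show e (Submodule.Quotient.mk c) = φ c from rfl, hφ c]
    simp only [Groth.Ega2Proj.spec_smul_top']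

end Groth.Agent.S3590
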