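import Groth.Statements.S3593
import Groth.Agent.Ega2Proj.ToAway
import Mathlib.RingTheory.Polynomial.Basic

set_option autoImplicit false
universe u
open CategoryTheory CategoryTheory.Limits AlgebraicGeometry
open EGA2

namespace Groth.Agent.S3593

/-- Let S be a graded R-algebra, Ŝ a graded R-algebra with a graded homomorphism φ : S → Ŝ making Ŝ an
S-algebra, and z an element of Ŝ of degree one such that the S-algebra map S[X] → Ŝ, X ↦ z, is
bijective (so Ŝ = S[z] with z in degree one, the graded ring of the projective cone of S). Then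
there is a ring isomorphism S ≅ Ŝ_(z) onto the degree-zero localization at z, sending a homogeneous
a of degree n to φ(a)/z^n. (This is the isomorphism that identifies the affine cone Spec S with the
open D_+(z) of the projective cone Proj Ŝ; that identification itself is not asserted here.) -/
theorem result {R A : Type u} [CommRing R] [CommRing A] [Algebra R A] (𝒜 : ℕ → Submodule R A) [GradedAlgebra 𝒜]
    {B : Type u} [CommRing B] [Algebra R B] (ℬ : ℕ → Submodule R B) [GradedAlgebra ℬ]
    [Algebra A B] [IsScalarTower R A B] (φ : 𝒜 →+*ᵍ ℬ) (hφ : ∀ a : A, φ a = algebraMap A B a)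
    (z : B) (hz : z ∈ ℬ 1) (hhat : Function.Bijective (Polynomial.aeval (R := A) z)) :
    ∃ θ : A ≃+* HomogeneousLocalization.Away ℬ z,
      ∀ (n : ℕ) (a : A), a ∈ 𝒜 n → (θ a).val = Localization.mk (φ a) ⟨z ^ n, pow_mem (Submonoid.mem_powers z) n⟩ := by
  classical
  let Θ := Groth.Ega2Proj.toAway 𝒜 ℬ hz φ.toRingHom
    (fun n a ha => by rw [smul_eq_mul, mul_one]; exact φ.2 ha)
  let Ψ := Groth.Ega2Proj.toAway ℬ ℬ hz (RingHom.id B) (fun n a ha => by rw [smul_eq_mul, mul_one]; exact ha)
  let e := RingEquiv.ofBijective (Polynomial.aeval (R := A) z).toRingHom hhat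
  let ev : B →+* A := (Polynomial.evalRingHom (1 : A)).comp e.symm.toRingHom
  have hevφ : ∀ a : A, ev (φ a) = a := fun a => by
    have : e.symm (φ a) = Polynomial.C a := e.symm_apply_eq.mpr (by simp [e, hφ])
    simp [ev, this]
  have hevz : ev z = 1 := by
    have : e.symm z = Polynomial.X := e.symm_apply_eq.mpr (by simp [e])
    simp [ev, this]
  have key : Θ.comp ev = Ψ := by
    have h1 : (Θ.comp ev).comp e.toRingHom = Ψ.comp e.toRingHom := by
      refine Polynomial.ringHom_ext' ?_ ?_
      · refine Groth.Ega2Proj.ringHom_ext_homogeneous 𝒜 fun n a ha => ?_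
        have he : e (Polynomial.C a) = φ a := by simp [e, hφ]
        simp only [RingHom.comp_apply, RingEquiv.toRingHom_eq_coe, RingEquiv.coe_toRingHom, he, hevφ]
        refine ((Groth.Ega2Proj.toAway_of_mem 𝒜 ℬ hz φ.toRingHom _ ha).trans ?_).trans
          (Groth.Ega2Proj.toAway_of_mem ℬ ℬ hz (RingHom.id B) _ (show (φ a) ∈ ℬ n from φ.2 ha)).symm
        rfl
      · have he : e Polynomial.X = z := by simp [e]
        simp only [RingHom.comp_apply, RingEquiv.toRingHom_eq_coe, RingEquiv.coe_toRingHom, he, hevz, map_one]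
        rw [Groth.Ega2Proj.toAway_of_mem ℬ ℬ hz (RingHom.id B) _ hz]
        refine HomogeneousLocalization.val_injective _ ?_
        simp only [HomogeneousLocalization.val_one, HomogeneousLocalization.Away.val_mk, RingHom.id_apply]
        simpa [pow_one] using (Localization.mk_self (⟨z, Submonoid.mem_powers z⟩ : Submonoid.powers z)).symm
    refine RingHom.ext fun x => ?_
    obtain ⟨y, rfl⟩ := e.surjective x
    exact RingHom.congr_fun h1 y
  let ρ : HomogeneousLocalization.Away ℬ z →+* A :=
    (Localization.awayLift ev z (by rw [hevz]; exact isUnit_one)).comp (algebraMap _ _)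
  have hρ : ρ.comp Θ = RingHom.id A := by
    refine Groth.Ega2Proj.ringHom_ext_homogeneous 𝒜 fun n a ha => ?_
    simp only [RingHom.comp_apply, ρ, HomogeneousLocalization.algebraMap_apply, RingHom.id_apply, Θ,
      Groth.Ega2Proj.toAway_of_mem_val _ _ _ _ _ ha]
    rw [Localization.awayLift_mk (v := 1) (hv := by rw [hevz, one_mul])]
    simp [hevφ]
  have hΘρ : ∀ x, Θ (ρ x) = x := fun x => by
    obtain ⟨n, b, hb, rfl⟩ := HomogeneousLocalization.Away.mk_surjective ℬ hz x
    have h1 : ρ (HomogeneousLocalization.Away.mk ℬ hz n b hb) = ev b := by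
      simp only [RingHom.comp_apply, ρ, HomogeneousLocalization.algebraMap_apply, HomogeneousLocalization.Away.val_mk]
      rw [Localization.awayLift_mk (v := 1) (hv := by rw [hevz, one_mul])]
      simp
    rw [h1, ← RingHom.comp_apply, key]
    exact Groth.Ega2Proj.toAway_of_mem ℬ ℬ hz (RingHom.id B) _ (by simpa using hb)
  refine ⟨RingEquiv.ofRingHom Θ ρ (RingHom.ext hΘρ) hρ, fun n a ha => ?_⟩
  exact Groth.Ega2Proj.toAway_of_mem_val _ _ _ _ _ ha

end Groth.Agent.S3593
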