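import Groth.Statements.S3594
import Groth.Agent.Ega2Proj.MapCharts

set_option autoImplicit false
universe u
open CategoryTheory CategoryTheory.Limits AlgebraicGeometry
open EGA2

namespace Groth.Agent.S3594

/-- The closed immersion at infinity of a projective cone: let S be a graded R-algebra and Ŝ a graded
R-algebra over S such that the structure map φ : S → Ŝ is a graded homomorphism and Ŝ = S[z] is the
polynomial algebra on an element z of degree one (evaluation at z is a bijection S[T] → Ŝ); let ψ :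
Ŝ → S be a graded homomorphism retracting φ and killing z, with S₊ contained in the ideal generated
by ψ(Ŝ₊) so that j = Proj(ψ) : X = Proj S → Ĉ = Proj Ŝ is defined (it is the canonical closed
immersion). Then the image of j is exactly the complement of the open subset D₊(z) of Proj Ŝ (which
is the affine cone C = Spec S). -/
theorem result {R A : Type u} [CommRing R] [CommRing A] [Algebra R A] (𝒜 : ℕ → Submodule R A) [GradedAlgebra 𝒜]
    {B : Type u} [CommRing B] [Algebra R B] (ℬ : ℕ → Submodule R B) [GradedAlgebra ℬ]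
    [Algebra A B] [IsScalarTower R A B] (φ : 𝒜 →+*ᵍ ℬ) (hφ : ∀ a : A, φ a = algebraMap A B a)
    (z : B) (hz : z ∈ ℬ 1) (hhat : Function.Bijective (Polynomial.aeval (R := A) z))
    (ψ : ℬ →+*ᵍ 𝒜) (hψφ : ∀ a : A, ψ (φ a) = a) (hψz : ψ z = 0)
    (hψ : HomogeneousIdeal.irrelevant 𝒜 ≤ (HomogeneousIdeal.irrelevant ℬ).map ψ) :
    Set.range (Proj.map ψ hψ).base = ((Proj.basicOpen ℬ z : Set (Proj ℬ)))ᶜ := by
  ext P
  simp only [Set.mem_compl_iff, SetLike.mem_coe, Proj.mem_basicOpen, not_not, Set.mem_range]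
  constructor
  · rintro ⟨x, rfl⟩
    show ψ z ∈ x.asHomogeneousIdeal
    rw [hψz]; exact zero_mem _
  · intro hzP
    have hdiv : ∀ x : B, ∃ y, x = φ (ψ x) + z * y := by
      intro x
      obtain ⟨p, rfl⟩ := hhat.2 x
      refine ⟨Polynomial.aeval z p.divX, ?_⟩
      have e : Polynomial.aeval z p = φ (p.coeff 0) + z * Polynomial.aeval z p.divX := by
        conv_lhs => rw [← p.X_mul_divX_add]
        rw [map_add, map_mul, Polynomial.aeval_X, Polynomial.aeval_C, hφ, add_comm]
      rw [e, map_add ψ, map_mul ψ, hψz, hψφ, zero_mul, add_zero]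
    have hiff : ∀ x : B, x ∈ P.asHomogeneousIdeal.toIdeal ↔ φ (ψ x) ∈ P.asHomogeneousIdeal.toIdeal := fun x => by
      obtain ⟨y, hy⟩ := hdiv x
      conv_lhs => rw [hy]
      exact Ideal.add_mem_iff_left _ (Ideal.mul_mem_right _ _ hzP)
    refine ⟨⟨P.asHomogeneousIdeal.comap φ, P.isPrime.comap φ, fun hle => P.not_irrelevant_le fun x hx => ?_⟩, ?_⟩
    · refine Groth.Ega2Proj.irrelevant_le_ideal ℬ (fun d hd a ha => (hiff a).mpr ?_) hx
      exact hle (HomogeneousIdeal.mem_irrelevant_of_mem 𝒜 hd (ψ.2 ha))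
    · exact ProjectiveSpectrum.ext (HomogeneousIdeal.ext (Ideal.ext fun x => (hiff x).symm))

end Groth.Agent.S3594
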