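import Groth.Statements.S3599
import Groth.Agent.Ega2Proj.NormModelAmple
import Groth.Agent.Chow.VeryAmplePn
import Groth.Agent.Ega2Proj.QuasiAffineAmple

set_option autoImplicit false
universe u
open CategoryTheory CategoryTheory.Limits AlgebraicGeometry
open EGA2

namespace Groth.Agent.S3599

/-- Let Y be an affine scheme, X a Noetherian reduced scheme, f : X → Y a quasi-compact morphism, g : X'
→ X a finite surjective morphism, and W an open subset of X such that at every point x of W either
the local ring of X is an integrally closed domain or the direct image of the structure sheaf of X'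
is locally free on some open neighbourhood of x inside W. Then there are a reduced scheme Z and a
finite birational morphism h : Z → X (birational in the sense that h is an isomorphism over some
dense open of X whose inverse image is dense in Z) which is an isomorphism over W, such that for
every invertible O_X-module L whose inverse image on X' is ample relative to f ∘ g, the inverse
image of L on Z is ample relative to f ∘ h. -/
theorem result {X X' Y : Scheme.{u}} [IsAffine Y]
    [IsNoetherian X] [IsReduced X] (f : X ⟶ Y) [QuasiCompact f] (g : X' ⟶ X) [IsFinite g] [Surjective g]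
    (W : X.Opens)
    (hW : ∀ x ∈ W, (IsDomain (X.presheaf.stalk x) ∧ IsIntegrallyClosed (X.presheaf.stalk x)) ∨
      ∃ T : X.Opens, x ∈ T ∧ T ≤ W ∧ FlatMod.IsFinLocFree (((Coh.push g).obj (Coh.structureModule X')).restrict T.ι)) :
    ∃ (Z : Scheme.{u}) (_ : IsReduced Z) (h : Z ⟶ X) (_ : IsFinite h),
      IsIso (h ∣_ W) ∧
        (∃ V : X.Opens, Dense (V : Set X) ∧ Dense ((h ⁻¹ᵁ V : Z.Opens) : Set Z) ∧ IsIso (h ∣_ V)) ∧
        ∀ L : X.Modules, PicF.IsInvertible L →
          RelAmple.IsRelAmple (g ≫ f) ((Scheme.Modules.pullback g).obj L) →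
            RelAmple.IsRelAmple (h ≫ f) ((Scheme.Modules.pullback h).obj L) := by
  have hgood : ∀ z ∈ W, (IsDomain (X.presheaf.stalk z) ∧ IsIntegrallyClosed (X.presheaf.stalk z)) ∨
      ∃ (T : X.Opens) (n : ℕ) (b : Fin n → Γ(X', g ⁻¹ᵁ T)), z ∈ T ∧ Groth.Chow.SecBasis g T b := by
    intro z hzW
    rcases hW z hzW with h' | ⟨T, hz, -, hT⟩
    · exact Or.inl h'
    refine Or.inr ?_
    obtain ⟨W₀, n, s, hzW₀, hs⟩ := Groth.PicAux.exists_basis_of_isFinLocFree hT ⟨z, hz⟩
    exact ⟨T.ι ''ᵁ W₀, n, fun i => s i, ⟨⟨z, hz⟩, hzW₀, rfl⟩, fun V hV =>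
      Groth.Chow.bijective_of_restrict_basis g T hs V hV⟩
  refine ⟨Groth.Ega2Proj.NormModel.model g, Groth.Ega2Proj.NormModel.isReduced_model g,
    Groth.Ega2Proj.NormModel.proj g, inferInstance,
    Groth.Ega2Proj.NormModel.isIso_proj_of_good g W hgood,
    Groth.Ega2Proj.NormModel.exists_dense_isIso g, fun L hL h => ?_⟩
  have hA : CohB1.IsAmple ((Scheme.Modules.pullback g).obj L) := by
    haveI : CompactSpace X' := QuasiCompact.compactSpace_of_compactSpace g
    refine Groth.Ega2Proj.isAmple_of_iso ((Scheme.Modules.restrictFunctorId.{u}).app _)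
      (Groth.Ega2Proj.isAmple_of_isRelAmple h ⟨⊤, isAffineOpen_top Y⟩ (𝟙 X') (fun y _ => trivial))
  have hAZ := Groth.Ega2Proj.NormModel.isAmple_pullback_proj g hL hA
  exact Groth.Ega2Proj.isRelAmple_of_local _ fun x => ⟨⊤, _, 𝟙 _, inferInstance, trivial,
    fun y _ => ⟨y, rfl⟩, Groth.Ega2Proj.isAmple_of_iso ((Scheme.Modules.restrictFunctorId.{u}).app _).symm hAZ⟩

end Groth.Agent.S3599
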