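import Groth.Statements.S3620
import Groth.Agent.Dual3Gor.Inv
import Groth.Agent.Dual3Gor.LocalD

set_option autoImplicit false
universe u
open CategoryTheory CategoryTheory.Limits AlgebraicGeometry
attribute [local instance] HasDerivedCategory.standard
open Dual3

namespace Groth.Agent.S3620

/-- Let X be a locally Noetherian scheme with a dualizing complex K (restriction to opens and the tilde
functors assumed exact, as in the definition of dualizing complexes on schemes). Then X is
Gorenstein (all local rings Gorenstein) if and only if K is an invertible object of D(O_X), i.e.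
locally isomorphic to a shift of the structure sheaf. -/
theorem result (X : Scheme.{u}) [IsLocallyNoetherian X] [∀ (U V : Scheme.{u}) (j : U ⟶ V) [IsOpenImmersion j], PreservesFiniteLimits (Scheme.Modules.restrictFunctor j)] [∀ (R : CommRingCat.{u}), PreservesFiniteLimits (tilde.functor R)] (K : DCoh.D X) (hK : Dual2.IsDualizingSch X K) : Dual3.IsGorenstein X ↔ Dual3.IsInvertibleD K := by
  constructor
  · intro hX
    refine Groth.Dual3Gor.invertibleD_of_forall_chart fun x => ?_
    obtain ⟨U, hU, hxU, -⟩ := exists_isAffineOpen_mem_and_subset (x := x) (TopologicalSpace.Opens.mem_top x)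
    let j : Spec (CommRingCat.of Γ(X, U)) ⟶ X := hU.fromSpec
    have : IsOpenImmersion j := hU.isOpenImmersion_fromSpec
    obtain ⟨ω, hω, ⟨e⟩⟩ := hK Γ(X, U) j
    have := hω.isNoetherianRing
    obtain ⟨p, rfl⟩ : x ∈ Set.range j := by rw [hU.range_fromSpec]; exact hxU
    obtain ⟨est⟩ := Groth.Dual3Gor.nonempty_stalk_chart j p
    obtain ⟨g, hg, n, ⟨eg⟩⟩ := Groth.Dual3Gor.exists_away_iso_shift hω p.asIdeal
      ((Groth.AlgSpEt.GorRing.isGorenstein_iff_of_ringEquiv est).1 (hX.2 (j p)))
    refine ⟨_, inferInstance, Groth.Dual3Gor.away Γ(X, U) g ≫ j, inferInstance, n, ?_, ?_⟩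
    · have hp : p ∈ Set.range (Groth.Dual3Gor.away Γ(X, U) g) :=
        (PrimeSpectrum.localization_away_comap_range (Localization.Away g) g).ge hg
      obtain ⟨q, hq⟩ := hp
      exact ⟨q, congrArg j hq⟩
    · obtain ⟨e1⟩ := Groth.Dual3Gor.nonempty_restrictD_comp (Groth.Dual3Gor.away Γ(X, U) g) j _ rfl
      obtain ⟨e2⟩ := Groth.Dual3Gor.nonempty_restrictD_tildeD Γ(X, U) (Localization.Away g)
      exact ⟨(e1.app K).symm ≪≫ (DCoh.restrictD _).mapIso e ≪≫ e2.app ω ≪≫ (DCoh.tildeD _).mapIso eg⟩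
  · intro hinv
    refine ⟨inferInstance, fun x => ?_⟩
    obtain ⟨A, _, j, _, n, ⟨p, rfl⟩, ⟨e⟩⟩ := Groth.Dual3Gor.exists_affine_chart_invertible hinv x
    obtain ⟨ω, hω, ⟨e'⟩⟩ := hK A j
    have := hω.isNoetherianRing
    obtain ⟨e''⟩ := Groth.Dual3Gor.nonempty_iso_of_tildeD_iso A (e'.symm ≪≫ e)
    obtain ⟨est⟩ := Groth.Dual3Gor.nonempty_stalk_chart j p
    exact (Groth.AlgSpEt.GorRing.isGorenstein_iff_of_ringEquiv est).2
      (Groth.Dual3Gor.isGorenstein_atPrime_of_iso_shift hω n e'' p.asIdeal)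

end Groth.Agent.S3620
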