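import Groth.Statements.S3621
import Groth.Agent.S0373
import Groth.Agent.Dual3Gor.Chart
import Groth.Agent.AlgSpEt.GorRing

set_option autoImplicit false
universe u
open CategoryTheory CategoryTheory.Limits AlgebraicGeometry
attribute [local instance] HasDerivedCategory.standard
open Dual3

namespace Groth.Agent.S3621

/-- Let X be a locally Noetherian scheme which has a dualizing complex (exactness instances as in the
definition of dualizing complexes on schemes). Then the set of points x of X whose local ring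
O_{X,x} is Gorenstein is open. -/
theorem result (X : Scheme.{u}) [IsLocallyNoetherian X] [∀ (U V : Scheme.{u}) (j : U ⟶ V) [IsOpenImmersion j], PreservesFiniteLimits (Scheme.Modules.restrictFunctor j)] [∀ (R : CommRingCat.{u}), PreservesFiniteLimits (tilde.functor R)] (K : DCoh.D X) (hK : Dual2.IsDualizingSch X K) : IsOpen {x : X | LocCoh.IsGorensteinLocalRing (X.presheaf.stalk x)} := by
  refine isOpen_iff_forall_mem_open.mpr fun x hx => ?_
  obtain ⟨U, hU, hxU, -⟩ := X.isBasis_affineOpens.exists_subset_of_mem_open (Set.mem_univ x) isOpen_univ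
  obtain ⟨U, hUa, rfl⟩ := hU
  have : IsNoetherianRing Γ(X, U) := IsLocallyNoetherian.component_noetherian ⟨U, hUa⟩
  let j : Spec (CommRingCat.of Γ(X, U)) ⟶ X := hUa.fromSpec
  have : IsOpenImmersion j := hUa.isOpenImmersion_fromSpec
  obtain ⟨ω', hω', -⟩ := hK Γ(X, U) j
  obtain ⟨p, rfl⟩ : x ∈ Set.range j := by rw [hUa.range_fromSpec]; exact hxU
  have hst : ∀ q : PrimeSpectrum Γ(X, U), LocCoh.IsGorensteinLocalRing (X.presheaf.stalk (j q)) ↔
      LocCoh.IsGorensteinLocalRing (Localization.AtPrime q.asIdeal) := fun q => by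
    obtain ⟨e⟩ := Groth.Dual3Gor.nonempty_stalk_chart j q
    exact Groth.AlgSpEt.GorRing.isGorenstein_iff_of_ringEquiv e
  exact ⟨j '' {q | LocCoh.IsGorensteinLocalRing (Localization.AtPrime q.asIdeal)},
    by rintro _ ⟨q, hq, rfl⟩; exact (hst q).2 hq,
    j.isOpenEmbedding.isOpenMap _ (Groth.Agent.S0373.result Γ(X, U) ω' hω'),
    ⟨p, (hst p).1 hx, rfl⟩⟩

end Groth.Agent.S3621
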