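import Groth.Statements.S3622
import Groth.Agent.Dual3Gor.Inv
import Groth.Agent.DualCore.AtPrime
import Groth.Agent.Gorenstein.Regular

set_option autoImplicit false
universe u
open CategoryTheory CategoryTheory.Limits AlgebraicGeometry
attribute [local instance] HasDerivedCategory.standard
open Dual3

namespace Groth.Agent.S3622

/-- Let X be a Gorenstein scheme (exactness instances as in the definition of dualizing complexes on
schemes). Then X has a dualizing complex if and only if the structure sheaf placed in degree 0 is a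
dualizing complex on X. -/
theorem result (X : Scheme.{u}) (hX : Dual3.IsGorenstein X) [∀ (U V : Scheme.{u}) (j : U ⟶ V) [IsOpenImmersion j], PreservesFiniteLimits (Scheme.Modules.restrictFunctor j)] [∀ (R : CommRingCat.{u}), PreservesFiniteLimits (tilde.functor R)] : (∃ K : DCoh.D X, Dual2.IsDualizingSch X K) ↔ Dual2.IsDualizingSch X (DCoh.inD X (Coh.structureModule X)) := by
  refine ⟨fun ⟨K, hK⟩ => fun A _ j _ => ?_, fun h => ⟨_, h⟩⟩
  obtain ⟨ω, hω, -⟩ := hK A j
  have := hω.isNoetherianRing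
  obtain ⟨N, hN⟩ := Groth.DualCore.exists_ringKrullDim_le hω
  have : LocCoh.IsGorensteinRing A := ⟨fun p _ => by
    obtain ⟨e⟩ := Groth.Dual3Gor.nonempty_stalk_chart j ⟨p, inferInstance⟩
    exact (Groth.AlgSpEt.GorRing.isGorenstein_iff_of_ringEquiv e).1 (hX.2 _)⟩
  refine ⟨Dual.inD A A, Groth.DualCore.isDualizing_inD_of_injLT (GrothGoren.exists_injLT_of_isGorensteinRing hN), ?_⟩
  obtain ⟨e1⟩ := Groth.Dual3Gor.nonempty_restrictD_inD_unit j 0
  obtain ⟨e2⟩ := Groth.Dual3Gor.nonempty_tildeD_inD_self A 0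
  exact ⟨(DCoh.restrictD j).mapIso ((shiftFunctorZero (DCoh.D X) ℤ).app _).symm ≪≫ e1 ≪≫ e2.symm ≪≫
    (DCoh.tildeD (CommRingCat.of A)).mapIso ((shiftFunctorZero (Dual.D A) ℤ).app _)⟩

end Groth.Agent.S3622
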