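import Groth.Statements.S3629
import Groth.Agent.Dual3Gor.LpullDual

set_option autoImplicit false
universe u
open CategoryTheory CategoryTheory.Limits AlgebraicGeometry
attribute [local instance] HasDerivedCategory.standard
open Dual3

namespace Groth.Agent.S3629

/-- Let f : X → Y be a surjective flat local complete intersection morphism between locally Noetherian
schemes, with derived pullback Lf^* (assumed to exist; exactness instances as in the definition of
dualizing complexes). Then, for K in D_QCoh(O_Y), K is dualizing on Y precisely when the pulled-back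
complex Lf^*K is dualizing on X. -/
theorem result (X Y : Scheme.{u}) [IsLocallyNoetherian X] [IsLocallyNoetherian Y] [∀ (U V : Scheme.{u}) (j : U ⟶ V) [IsOpenImmersion j], PreservesFiniteLimits (Scheme.Modules.restrictFunctor j)] [∀ (R : CommRingCat.{u}), PreservesFiniteLimits (tilde.functor R)] (f : X ⟶ Y) [Surjective f] [Flat f] (hf : Dual3.IsLCIMor f) [DCoh.HasLpull f] (K : DCoh.DQCoh Y) : Dual2.IsDualizingSch Y K.obj ↔ Dual2.IsDualizingSch X ((DCoh.Lpull f).obj K.obj) := by
  have : LocallyOfFiniteType f := Groth.Dual3Gor.locallyOfFiniteType_of_lci f hf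
  exact ⟨Groth.Dual3Gor.isDualizingSch_Lpull f (Groth.Dual3Gor.isGorensteinMor_of_flat_lci f hf) K.obj,
    Groth.Dual3Gor.isDualizingSch_of_Lpull f K.obj K.property⟩

end Groth.Agent.S3629
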