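import Groth.Statements.S3665
import Groth.Agent.CohTwo.IdealMulPow
import Mathlib.AlgebraicGeometry.Noetherian
import Mathlib.RingTheory.Filtration

set_option autoImplicit false
universe u
open CategoryTheory CategoryTheory.Limits AlgebraicGeometry
attribute [local instance] HasDerivedCategory.standard
open Dual3

namespace Groth.Agent.S3665

open Groth.CohTwo Groth.QCohMod in
/-- A section which vanishes near the support of `J` lies in `J · F`. -/
theorem mem_idealMul_of_vanishing {X : Scheme.{u}} (J : X.IdealSheafData) (F : X.Modules)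
    (s : Γ(F, (⊤ : X.Opens))) (V : X.Opens) (hV : (J.support : Set X) ⊆ V)
    (hs : Groth.CohTwo.res F (le_top : V ≤ ⊤) s = 0) :
    s ∈ Set.range ((Dual3.idealMulι J F).app ⊤) := by
  rw [Groth.CohTwo.app_idealMulι_eq]
  let G := (Scheme.Modules.pullback J.subschemeι).obj F
  let u : F ⟶ (Scheme.Modules.pushforward J.subschemeι).obj G :=
    (Scheme.Modules.pullbackPushforwardAdjunction J.subschemeι).unit.app F
  have hpre : (⊤ : J.subscheme.Opens) ≤ J.subschemeι ⁻¹ᵁ V := fun z _ => by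
    refine hV ?_
    rw [← J.range_subschemeι]
    exact Set.mem_range_self z
  have h1 : Groth.CohTwo.res ((Scheme.Modules.pushforward J.subschemeι).obj G)
      (le_top : V ≤ ⊤) (u.app ⊤ s) = 0 :=
    (Groth.CohTwo.app_res u _ s).symm.trans ((congrArg _ hs).trans (map_zero _))
  let y : Γ(G, J.subschemeι ⁻¹ᵁ ⊤) := u.app ⊤ s
  have hle : J.subschemeι ⁻¹ᵁ V ≤ J.subschemeι ⁻¹ᵁ ⊤ := J.subschemeι.preimage_mono le_top
  have h2 : Groth.CohTwo.res G hle y = 0 := h1
  have h3 : Groth.CohTwo.res G (le_top.trans hpre : J.subschemeι ⁻¹ᵁ ⊤ ≤ J.subschemeι ⁻¹ᵁ V)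
      (Groth.CohTwo.res G hle y) = 0 := by rw [h2, map_zero]
  rw [Groth.CohTwo.res_res, Groth.CohTwo.res_rfl] at h3
  exact h3

open Groth.CohTwo Groth.QCohMod in
/-- Near a point of the support, a section in all `I^n · F` vanishes. -/
theorem exists_open_res_eq_zero {X : Scheme.{u}} [IsLocallyNoetherian X] (I : X.IdealSheafData)
    (F : X.Modules) (hF : Coh.IsCoh F) (s : Γ(F, (⊤ : X.Opens)))
    (h : ∀ n : ℕ, s ∈ Set.range ((Dual3.idealMulι (I ^ n) F).app ⊤))
    {z : X} (hz : z ∈ I.supportSet) :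
    ∃ W : X.Opens, z ∈ W ∧ Groth.CohTwo.res F (le_top : W ≤ ⊤) s = 0 := by
  haveI := hF.1
  obtain ⟨U, hU, hzU, -⟩ := TopologicalSpace.Opens.isBasis_iff_nbhd.1 X.isBasis_affineOpens
    (show z ∈ (⊤ : X.Opens) from trivial)
  haveI : IsNoetherianRing Γ(X, U) := IsLocallyNoetherian.component_noetherian ⟨U, hU⟩
  haveI : Module.Finite Γ(X, U) Γ(F, U) := ((Groth.QCohMod.isCoh_iff F).1 hF).2 U hU
  let x := Groth.CohTwo.res F (le_top : U ≤ ⊤) s
  let J := I.ideal ⟨U, hU⟩
  have hx : x ∈ (⨅ n : ℕ, J ^ n • ⊤ : Submodule Γ(X, U) Γ(F, U)) := by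
    rw [Submodule.mem_iInf]
    intro n
    obtain ⟨t, ht⟩ := h n
    rw [← Groth.CohTwo.range_idealMulι_pow I n F hU]
    exact ⟨Groth.CohTwo.res _ (le_top : U ≤ ⊤) t, by rw [Groth.CohTwo.app_res, ht]⟩
  obtain ⟨r, hr⟩ := (J.mem_iInf_smul_pow_eq_bot_iff x).1 hx
  have hrz : z ∉ X.basicOpen (r : Γ(X, U)) :=
    (Scheme.mem_zeroLocus_iff _ _ _).1
      ((Scheme.IdealSheafData.mem_supportSet_iff_of_mem (U := ⟨U, hU⟩) hzU).1 hz) r r.2
  refine ⟨X.basicOpen (1 - (r : Γ(X, U))), ?_, ?_⟩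
  · haveI := hzU
    rw [Scheme.mem_basicOpen _ _ _ hzU] at hrz ⊢
    rw [map_sub, map_one]
    exact IsLocalRing.isUnit_one_sub_self_of_mem_nonunits _ hrz
  · have h0 : (1 - (r : Γ(X, U))) • x = 0 := by rw [sub_smul, one_smul, hr, sub_self]
    have h1 := congrArg (Groth.CohTwo.res F (X.basicOpen_le (1 - (r : Γ(X, U))))) h0
    rw [Groth.CohTwo.res_smul, map_zero] at h1
    have hu : IsUnit (Groth.CohTwo.resR X (X.basicOpen_le (1 - (r : Γ(X, U))))
        (1 - (r : Γ(X, U)))) := X.toRingedSpace.isUnit_res_basicOpen _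
    have h2 : Groth.CohTwo.res F (X.basicOpen_le (1 - (r : Γ(X, U)))) x = 0 :=
      hu.smul_left_cancel.1 (h1.trans (smul_zero _).symm)
    rw [Groth.CohTwo.res_res] at h2
    exact h2

/-- Let X be proper over a field k, I a quasi-coherent ideal with vanishing locus Z and F a coherent
O_X-module, so that H^0_c(X ∖ Z, F) = lim_n H^0(X, I^n F) = ⋂_n Γ(X, I^n F) inside Γ(X, F). Then a
global section s of F lies in the image of Γ(X, I^n F) for every n if and only if s restricts to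
zero on some open neighbourhood of Z. -/
theorem result (k : Type u) [Field k] (X : Scheme.{u}) (f : X ⟶ Spec (CommRingCat.of k)) [IsProper f] (I : X.IdealSheafData) (F : X.Modules) (hF : Coh.IsCoh F) (s : F.val.obj (Opposite.op ⊤)) : (∀ n : ℕ, ∃ t : ((Dual3.idealMul (I ^ n)).obj F).val.obj (Opposite.op ⊤), (Dual3.idealMulι (I ^ n) F).val.app (Opposite.op ⊤) t = s) ↔ ∃ V : X.Opens, I.supportSet ⊆ (V : Set X) ∧ F.val.map (homOfLE le_top : V ⟶ ⊤).op s = 0 := by
  haveI : IsLocallyNoetherian X := LocallyOfFiniteType.isLocallyNoetherian f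
  let s' : Γ(F, (⊤ : X.Opens)) := s
  constructor
  · intro h
    refine ⟨sSup {W : X.Opens | Groth.CohTwo.res F (le_top : W ≤ ⊤) s' = 0}, fun z hz => ?_, ?_⟩
    · obtain ⟨W, hzW, hW⟩ := exists_open_res_eq_zero I F hF s' (fun n => h n) hz
      exact TopologicalSpace.Opens.mem_sSup.2 ⟨W, hW, hzW⟩
    · change Groth.CohTwo.res F le_top s' = 0
      refine Groth.CohTwo.eq_of_local F _ 0 fun x hx => ?_
      obtain ⟨W, hW, hxW⟩ := TopologicalSpace.Opens.mem_sSup.1 hx
      exact ⟨W, le_sSup hW, hxW, by rw [Groth.CohTwo.res_res, map_zero]; exact hW⟩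
  · rintro ⟨V, hV, hs⟩ n
    refine mem_idealMul_of_vanishing (I ^ n) F s' V (fun z hz => hV ?_) hs
    rcases Nat.eq_zero_or_pos n with rfl | hn
    · simp at hz
    · rw [Scheme.IdealSheafData.support_pow _ _ hn.ne'] at hz
      exact hz

end Groth.Agent.S3665
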