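import Groth.Statements.S3668
import Groth.Agent.Dual3Deligne.Main

set_option autoImplicit false
universe u
open CategoryTheory CategoryTheory.Limits AlgebraicGeometry
attribute [local instance] HasDerivedCategory.standard
open Dual3

namespace Groth.Agent.S3668

/-- Let X be a Noetherian scheme, I a quasi-coherent ideal, F a complex of coherent O_X-modules and p an
integer; put H = H^p(F) and H_n = H^p(I^n F), with the maps H_n → H and H_m → H_n (m ≥ n) induced by
the inclusions. Then there are c > 0 and, for n ≥ c, maps φ_n : H_n → I^{n-c} H and ψ_n : I^n H →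
H_{n-c} such that: φ_n followed by the inclusion I^{n-c}H ⊆ H is the canonical map H_n → H; ψ_n
followed by H_{n-c} → H is the inclusion I^n H ⊆ H; for n ≥ 2c the composite ψ_n then φ_{n-c} is the
inclusion I^n H ⊆ I^{n-2c} H, and the composite φ_n then ψ_{n-c} is the transition map H_n →
H_{n-2c}. In particular the systems (H_n) and (I^n H) are pro-isomorphic. (The maps φ, ψ are indexed
by all n; only n ≥ c, resp. n ≥ 2c, is constrained.) -/
theorem result (X : Scheme.{u}) [IsNoetherian X] (I : X.IdealSheafData) (F : CochainComplex X.Modules ℤ) (hFc : ∀ q : ℤ, Coh.IsCoh (F.X q)) (p : ℤ) : ∃ (c : ℕ) (φ : ∀ n : ℕ, ((Dual3.deligne I n).obj F).homology p ⟶ (Dual3.idealMul (I ^ (n - c))).obj (F.homology p)) (ψ : ∀ n : ℕ, (Dual3.idealMul (I ^ n)).obj (F.homology p) ⟶ ((Dual3.deligne I (n - c)).obj F).homology p), 0 < c ∧ (∀ n : ℕ, c ≤ n → φ n ≫ Dual3.idealMulι (I ^ (n - c)) (F.homology p) = HomologicalComplex.homologyMap (Dual3.deligneι I n F) p) ∧ (∀ n : ℕ, c ≤ n → ψ n ≫ HomologicalComplex.homologyMap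 (Dual3.deligneι I (n - c) F) p = Dual3.idealMulι (I ^ n) (F.homology p)) ∧ (∀ n : ℕ, 2 * c ≤ n → (ψ n ≫ φ (n - c)) ≫ Dual3.idealMulι (I ^ (n - c - c)) (F.homology p) = Dual3.idealMulι (I ^ n) (F.homology p)) ∧ ∀ (n : ℕ), 2 * c ≤ n → ∀ t : (Dual3.deligne I n).obj F ⟶ (Dual3.deligne I (n - c - c)).obj F, t ≫ Dual3.deligneι I (n - c - c) F = Dual3.deligneι I n F → φ n ≫ ψ (n - c) = HomologicalComplex.homologyMap t p := by
  haveI hq : ∀ q, (F.X q).IsQuasicoherent := fun q => (hFc q).1
  haveI hZ := Groth.Dual3Deligne.isQCoh_cycles F p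
  haveI hH := Groth.Dual3Deligne.isQCoh_homology F p
  obtain ⟨c, hc0, hb, hd⟩ := Groth.Dual3Deligne.exists_cycles_data I F p
    (fun q => ((Groth.QCohMod.isCoh_iff (F.X q)).1 (hFc q)).2)
  let Z := F.cycles p
  let a := fun m => Groth.Dual3Deligne.toDelCycles F p I m
  -- the map `φ`
  have hφ : ∀ n, ∃ φ : ((Dual3.deligne I n).obj F).homology p ⟶
      (Dual3.idealMul (I ^ (n - c))).obj (F.homology p),
      c ≤ n → φ ≫ Dual3.idealMulι (I ^ (n - c)) (F.homology p) =
        HomologicalComplex.homologyMap (Dual3.deligneι I n F) p := by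
    intro n
    by_cases hn : c ≤ n
    swap
    · exact ⟨0, fun h => absurd h hn⟩
    obtain ⟨b, hb'⟩ := hb n hn
    let G := (Dual3.deligne I n).obj F
    let g := b ≫ (Dual3.idealMul (I ^ (n - c))).map (F.homologyπ p)
    have hg : g ≫ Dual3.idealMulι (I ^ (n - c)) (F.homology p) =
        G.homologyπ p ≫ HomologicalComplex.homologyMap (Dual3.deligneι I n F) p := by
      rw [Category.assoc, Dual3.idealMul_map_ι, ← Category.assoc, hb',
        HomologicalComplex.homologyπ_naturality]
    have h0 : G.toCycles (p - 1) p ≫ g = 0 := by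
      rw [← cancel_mono (Dual3.idealMulι (I ^ (n - c)) (F.homology p)), Category.assoc, hg,
        ← Category.assoc, G.toCycles_comp_homologyπ, zero_comp, zero_comp]
    obtain ⟨φ, hφ⟩ := CokernelCofork.IsColimit.desc' (G.homologyIsCokernel (p - 1) p (by simp)) g h0
    refine ⟨φ, fun _ => ?_⟩
    have hφ' : G.homologyπ p ≫ φ = g := hφ
    rw [← cancel_epi (G.homologyπ p), ← Category.assoc, hφ', hg]
  -- the map `ψ`
  have hψ : ∀ n, ∃ ψ : (Dual3.idealMul (I ^ n)).obj (F.homology p) ⟶
      ((Dual3.deligne I (n - c)).obj F).homology p,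
      c ≤ n → ∃ i : (Dual3.idealMul (I ^ n)).obj Z ⟶ (Dual3.idealMul (I ^ (n - c))).obj Z,
        i ≫ Dual3.idealMulι (I ^ (n - c)) Z = Dual3.idealMulι (I ^ n) Z ∧
        (Dual3.idealMul (I ^ n)).map (F.homologyπ p) ≫ ψ =
          i ≫ a (n - c) ≫ ((Dual3.deligne I (n - c)).obj F).homologyπ p := by
    intro n
    by_cases hn : c ≤ n
    swap
    · exact ⟨0, fun h => absurd h hn⟩
    obtain ⟨i, hi⟩ := Groth.CohTwo.exists_pow_incl I (Nat.sub_le n c) Z
    let f := (Dual3.idealMul (I ^ n)).map (F.homologyπ p)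
    haveI : Epi f := Groth.Dual3Deligne.epi_map I F p n
    let S := ShortComplex.mk (kernel.ι f) f (kernel.condition f)
    have hS : S.Exact := ShortComplex.exact_of_f_is_kernel _ (kernelIsKernel f)
    haveI : Epi S.g := (inferInstance : Epi f)
    let g := i ≫ a (n - c) ≫ ((Dual3.deligne I (n - c)).obj F).homologyπ p
    exact ⟨hS.desc g (hd n hn i hi), fun _ => ⟨i, hi, hS.g_desc g (hd n hn i hi)⟩⟩
  choose φ hφ using hφ
  choose ψ hψ using hψ
  -- the composite `H_n ⟶ H` after `ψ`
  have h2 : ∀ n, c ≤ n → ψ n ≫ HomologicalComplex.homologyMap (Dual3.deligneι I (n - c) F) p =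
      Dual3.idealMulι (I ^ n) (F.homology p) := by
    intro n hn
    obtain ⟨i, hi, hψi⟩ := hψ n hn
    haveI : Epi ((Dual3.idealMul (I ^ n)).map (F.homologyπ p)) :=
      Groth.Dual3Deligne.epi_map I F p n
    rw [← cancel_epi ((Dual3.idealMul (I ^ n)).map (F.homologyπ p)), ← Category.assoc, hψi,
      Category.assoc, Category.assoc, HomologicalComplex.homologyπ_naturality,
      ← Category.assoc (a (n - c)), Groth.Dual3Deligne.toDelCycles_cyclesMap, ← Category.assoc, hi,
      Dual3.idealMul_map_ι]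
  refine ⟨c, φ, ψ, hc0, hφ, h2, fun n hn => ?_, fun n hn t ht => ?_⟩
  · rw [Category.assoc, hφ (n - c) (by omega), h2 n (by omega)]
  · obtain ⟨b, hb'⟩ := hb n (by omega)
    obtain ⟨i, hi, hψi⟩ := hψ (n - c) (by omega)
    let G := (Dual3.deligne I n).obj F
    let G' := (Dual3.deligne I (n - c - c)).obj F
    have hπφ : G.homologyπ p ≫ φ n = b ≫ (Dual3.idealMul (I ^ (n - c))).map (F.homologyπ p) := by
      rw [← cancel_mono (Dual3.idealMulι (I ^ (n - c)) (F.homology p)), Category.assoc,
        hφ n (by omega), Category.assoc, Dual3.idealMul_map_ι, ← Category.assoc b, hb',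
        HomologicalComplex.homologyπ_naturality]
    haveI := Groth.Dual3Deligne.mono_cyclesMap_deligneι F p I (n - c - c)
    have hcyc : b ≫ i ≫ a (n - c - c) = HomologicalComplex.cyclesMap t p := by
      rw [← cancel_mono (HomologicalComplex.cyclesMap (Dual3.deligneι I (n - c - c) F) p),
        Category.assoc, Category.assoc, Groth.Dual3Deligne.toDelCycles_cyclesMap, hi, hb',
        ← HomologicalComplex.cyclesMap_comp, ht]
    rw [← cancel_epi (G.homologyπ p), HomologicalComplex.homologyπ_naturality, ← Category.assoc,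
      hπφ, Category.assoc, hψi, ← hcyc, Category.assoc, Category.assoc]

end Groth.Agent.S3668
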