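import Groth.Statements.S3669
import Groth.Agent.Dual3HomO.Sections

set_option autoImplicit false
universe u
open CategoryTheory CategoryTheory.Limits AlgebraicGeometry
attribute [local instance] HasDerivedCategory.standard
open Dual3

namespace Groth.Agent.S3669

/-- Let i : Z → X be a closed immersion of schemes with ideal sheaf I, Hom(O_Z, -) a right adjoint of
i_* on modules (it exists; here the chosen one) with counit i_* Hom(O_Z, F) → F. Then for every
O_X-module F and every affine open U ⊆ X, the counit on sections over U, Γ(i⁻¹U, Hom(O_Z, F)) → Γ(U,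
F), is injective with image exactly the sections s of F over U with I(U) · s = 0. -/
theorem result (Z X : Scheme.{u}) (i : Z ⟶ X) [IsClosedImmersion i] [Dual3.HasHomO i] (F : X.Modules) (U : X.affineOpens) : Function.Injective ⇑(ConcreteCategory.hom (((Dual3.homOAdj i).counit.app F).val.app (Opposite.op U.1))) ∧ Set.range ⇑(ConcreteCategory.hom (((Dual3.homOAdj i).counit.app F).val.app (Opposite.op U.1))) = ((LocCoh.torsionBy (i.ker.ideal U) (F.val.obj (Opposite.op U.1)) : Submodule Γ(X, U.1) (F.val.obj (Opposite.op U.1))) : Set (F.val.obj (Opposite.op U.1))) := by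
  haveI := Groth.Dual3HomO.mono_counit i F
  let ε : (Scheme.Modules.pushforward i).obj ((Dual3.homO i).obj F) ⟶ F :=
    (Dual3.homOAdj i).counit.app F
  refine ⟨Groth.QCohMod.app_injective_of_mono ε U.1, ?_⟩
  ext s
  refine Iff.trans ?_ (Submodule.mem_torsionBySet_iff _ _).symm
  constructor
  · rintro ⟨y, rfl⟩ a
    let y' : Γ((Scheme.Modules.pushforward i).obj ((Dual3.homO i).obj F), U.1) := y
    have h0 := Groth.QCohMod.killed_pushforward i ((Dual3.homO i).obj F) U a.1 a.2 y'
    change a.1 • (ε.app U.1 y' : Γ(F, U.1)) = 0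
    rw [← ε.app_smul, h0, map_zero]
  · intro hs
    exact Groth.Dual3HomO.exists_counit_app_eq i F U s (fun a ha => hs ⟨a, ha⟩)

end Groth.Agent.S3669
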