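import Groth.Statements.S3678
import Groth.Agent.Pi1Homotopy.Specialisation

set_option backward.isDefEq.respectTransparency false

set_option autoImplicit false
universe u
open Pi1

namespace Groth.Agent.S3678

open AlgebraicGeometry CategoryTheory CategoryTheory.Limits in
/-- Let A be a strictly henselian local ring (a henselian local ring with separably closed residue
field), f : X → Spec A a morphism which is proper, flat and of finite presentation and all of whose
geometric fibres are connected and reduced, and t : Spec Ω → Spec A a geometric point, with Ω an
algebraically closed field. Then the functor restricting finite étale covers of X to the geometric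
fibre X_t = X ×_{Spec A} Spec Ω is fully faithful; equivalently, the specialisation homomorphism
from the fundamental group of X_t to that of X is surjective. (The published statement is the
surjectivity of this homomorphism; it is stated here as full faithfulness of the restriction
functor.) -/
theorem result (A : Type u) [CommRing A] [HenselianLocalRing A]
    [IsSepClosed (IsLocalRing.ResidueField A)] {X : Scheme.{u}} (f : X ⟶ Spec (CommRingCat.of A))
    [IsProper f] [Flat f] [LocallyOfFinitePresentation f]
    (hfib : ∀ (Ω : Type u) [Field Ω] [IsAlgClosed Ω] (s : Spec (CommRingCat.of Ω) ⟶ Spec (CommRingCat.of A)),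
      ConnectedSpace ↥(pullback f s) ∧ IsReduced (pullback f s))
    (Ω : Type u) [Field Ω] [IsAlgClosed Ω] (t : Spec (CommRingCat.of Ω) ⟶ Spec (CommRingCat.of A)) :
    (FEt.restrict (pullback.fst f t)).Full ∧ (FEt.restrict (pullback.fst f t)).Faithful := by
  obtain ⟨_, _⟩ := Groth.GrpschAbsch.H0General.geometrically_of_algClosed f
    (fun K _ _ g ↦ ⟨(hfib K g).2, (hfib K g).1⟩)
  refine Groth.Pi1PBC.fullyFaithful_of_clopenBij _ fun W => ?_
  haveI : IsFinite W.hom := W.prop.1
  haveI : Etale W.hom := W.prop.2
  haveI : GeometricallyReduced (W.hom ≫ f) := Groth.Pi1Homotopy.geometricallyReduced_comp W.hom f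
  exact Groth.Pi1Homotopy.clopenBij_fibre (W.hom ≫ f) t (pullback.fst W.hom (pullback.fst f t))
    (pullback.snd W.hom (pullback.fst f t) ≫ pullback.snd f t)
    ((IsPullback.of_hasPullback W.hom (pullback.fst f t)).paste_vert (IsPullback.of_hasPullback f t))

end Groth.Agent.S3678
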