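import Groth.Statements.S3681
import Groth.Agent.Pi1PBC.Rigid

set_option backward.isDefEq.respectTransparency false

set_option autoImplicit false
universe u
open Pi1

namespace Groth.Agent.S3681

open AlgebraicGeometry CategoryTheory CategoryTheory.Limits in
theorem comp_eq_id {k : Type u} [Field k] {X : Scheme.{u}} [Nonempty X]
    (pX : X ⟶ Spec (CommRingCat.of k)) (e : Spec (CommRingCat.of k) ⟶ Spec (CommRingCat.of k))
    (h : pX ≫ e = pX) : e = 𝟙 _ := by
  obtain ⟨L, _, _, ξ, -⟩ := Groth.Pi1FEt.exists_geomPoint (Classical.arbitrary X)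
  have h' : Spec.preimage e ≫ Spec.preimage (ξ ≫ pX) = Spec.preimage (ξ ≫ pX) := by
    apply Spec.map_injective
    rw [Spec.map_comp, Spec.map_preimage, Spec.map_preimage, Category.assoc, h]
  rw [← Spec.map_preimage e, ← Spec.map_id]
  congr 1
  ext x
  exact (Spec.preimage (ξ ≫ pX)).hom.injective (congrArg (fun m => m.hom x) h')

open AlgebraicGeometry CategoryTheory CategoryTheory.Limits in
/-- Let k be an algebraically closed field, X and Y locally Noetherian k-schemes with Y connected and X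
or Y proper over k, and Z' a finite etale cover of the product of X and Y over k. For a k-rational
point y of Y write j_y : X -> X x_k Y for the induced morphism. Then for any two k-rational points
y, y' of Y the finite etale covers of X obtained by pulling Z' back along j_y and j_{y'} are
isomorphic. -/
theorem result (k : Type u) [Field k] [IsAlgClosed k] {X Y : Scheme.{u}}
    (pX : X ⟶ Spec (CommRingCat.of k)) (pY : Y ⟶ Spec (CommRingCat.of k))
    [IsLocallyNoetherian X] [IsLocallyNoetherian Y] [ConnectedSpace Y] (hprop : IsProper pX ∨ IsProper pY)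
    (Z' : FEt.Cat (pullback pX pY))
    (y y' : Spec (CommRingCat.of k) ⟶ Y) (hy : 𝟙 X ≫ pX = (pX ≫ y) ≫ pY) (hy' : 𝟙 X ≫ pX = (pX ≫ y') ≫ pY) :
    Nonempty ((FEt.restrict (pullback.lift (𝟙 X) (pX ≫ y) hy)).obj Z' ≅
      (FEt.restrict (pullback.lift (𝟙 X) (pX ≫ y') hy')).obj Z') := by
  rcases hprop with hX | hY
  · obtain ⟨V, hV⟩ := Groth.Pi1PBC.exists_cls pX pY y Z'
    have hV' := Groth.Pi1PBC.cls_const pX pY y y' hV
    have key : ∀ (t : Spec (CommRingCat.of k) ⟶ Y) (ht : 𝟙 X ≫ pX = (pX ≫ t) ≫ pY),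
        Groth.Pi1PBC.Cls pX pY Z' t V →
        Nonempty ((FEt.restrict (𝟙 X)).obj V ≅
          (FEt.restrict (pullback.lift (𝟙 X) (pX ≫ t) ht)).obj Z') := by
      intro t ht h
      let s : X ⟶ Groth.Pi1PBC.fib pX pY t :=
        pullback.lift (𝟙 X) pX (by rw [← Category.assoc]; exact ht)
      have h₁ : s ≫ Groth.Pi1PBC.fibP pX pY t = 𝟙 X := pullback.lift_fst _ _ _
      have h₂ : s ≫ Groth.Pi1PBC.fibJ pX pY t = pullback.lift (𝟙 X) (pX ≫ t) ht := by
        apply pullback.hom_ext <;> simp [s]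
      exact ⟨(Groth.Pi1FEt.restrictCongr h₁.symm).app V ≪≫
        (Groth.Pi1FEt.restrictCompIso s _).app V ≪≫ (FEt.restrict s).mapIso h.some ≪≫
        (Groth.Pi1FEt.restrictCompIso s _).symm.app Z' ≪≫ (Groth.Pi1FEt.restrictCongr h₂).app Z'⟩
    exact ⟨(key y hy hV).some.symm ≪≫ (key y' hy' hV').some⟩
  · rcases isEmpty_or_nonempty X with hX | hX
    · exact ⟨(Groth.Pi1FEt.restrictCongr ((isInitialOfIsEmpty (X := X)).hom_ext _ _)).app Z'⟩
    · have ha : y ≫ pY = 𝟙 _ := comp_eq_id pX _ (by rw [← Category.assoc, ← hy, Category.id_comp])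
      have ha' : y' ≫ pY = 𝟙 _ := comp_eq_id pX _ (by rw [← Category.assoc, ← hy', Category.id_comp])
      obtain ⟨e⟩ := Groth.Pi1PBC.nonempty_slice_iso (f := pY) (g := pX) ha ha'
        ((FEt.restrict (pullbackSymmetry pY pX).hom).obj Z')
      have key : ∀ {t : Spec (CommRingCat.of k) ⟶ Y} (h : t ≫ pY = 𝟙 _)
          (ht : 𝟙 X ≫ pX = (pX ≫ t) ≫ pY),
          Groth.Pi1PBC.slice pY pX h ≫ (pullbackSymmetry pY pX).hom =
            pullback.lift (𝟙 X) (pX ≫ t) ht := fun h ht => by
        apply pullback.hom_ext <;> simp [Groth.Pi1PBC.slice]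
      exact ⟨(Groth.Pi1FEt.restrictCongr (key ha hy).symm).app Z' ≪≫
        (Groth.Pi1FEt.restrictCompIso _ _).app Z' ≪≫ e ≪≫
        (Groth.Pi1FEt.restrictCompIso _ _).symm.app Z' ≪≫
        (Groth.Pi1FEt.restrictCongr (key ha' hy')).app Z'⟩

end Groth.Agent.S3681
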