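import Groth.Statements.S3682
import Groth.Agent.VarietyBC.Components
import Mathlib.AlgebraicGeometry.Geometrically.Connected

set_option backward.isDefEq.respectTransparency false
set_option linter.style.haveILetI false

set_option autoImplicit false
universe u
open Pi1

namespace Groth.Agent.S3682

open AlgebraicGeometry CategoryTheory CategoryTheory.Limits in
/-- The part saying that the homomorphism from the fundamental group of X x_k Y to the product of the
fundamental groups is surjective, in terms of covers. Let k be algebraically closed, X proper and
connected over k, Y locally Noetherian and connected over k. If X' is a connected finite etale cover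
of X and Y' a connected finite etale cover of Y, then the product of X' and Y' over k is connected. -/
theorem result (k : Type u) [Field k] [IsAlgClosed k] {X Y : Scheme.{u}}
    (pX : X ⟶ Spec (CommRingCat.of k)) (pY : Y ⟶ Spec (CommRingCat.of k)) [IsProper pX] [ConnectedSpace X]
    [IsLocallyNoetherian Y] [ConnectedSpace Y]
    (X' : FEt.Cat X) [ConnectedSpace X'.left] (Y' : FEt.Cat Y) [ConnectedSpace Y'.left] :
    ConnectedSpace ↥(pullback (X'.hom ≫ pX) (Y'.hom ≫ pY)) := by
  let a : X'.left ⟶ Spec (CommRingCat.of k) := X'.hom ≫ pX
  letI : X'.left.Over (Spec (CommRingCat.of k)) := ⟨a⟩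
  haveI : IsIso (Spec.map (CommRingCat.ofHom (algebraMap k k))) := by
    rw [Algebra.algebraMap_self, CommRingCat.ofHom_id]
    infer_instance
  haveI : ConnectedSpace (Curv2.bc k X'.left k) :=
    ((asIso (pullback.fst _ _ : Curv2.bc k X'.left k ⟶ _)).hom.homeomorph.connectedSpace_iff).2 ‹_›
  haveI : GeometricallyConnected a :=
    Groth.VarietyBC.geometricallyConnected_of_connectedSpace_bc (k := k) (X := X'.left) k
  haveI : IsFinite X'.hom := X'.prop.1
  haveI : UniversallyOpen a := inferInstance
  haveI hY : ConnectedSpace ↥Y'.left := ‹_›
  let b : Y'.left ⟶ Spec (CommRingCat.of k) := Y'.hom ≫ pY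
  exact GeometricallyConnected.connectedSpace (pullback.snd a b) (pullback.snd a b).isOpenMap

end Groth.Agent.S3682
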