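import Groth.Statements.S3683
import Groth.Agent.Pi1PBC.SliceSection
import Groth.Agent.PiTopGen.Proper

set_option autoImplicit false
universe u
open Pi1

namespace Groth.Agent.S3683

set_option backward.isDefEq.respectTransparency false
open AlgebraicGeometry CategoryTheory CategoryTheory.Limits in
/-- The part saying that the homomorphism from the fundamental group of X x_k Y to the product of the
fundamental groups is injective, in terms of covers (so that, with the surjectivity part, it is an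
isomorphism). Let k be algebraically closed, X proper and connected over k, Y locally Noetherian and
connected over k. Then every connected finite etale cover W of the product of X and Y admits, for
some finite etale cover X' of X and some finite etale cover Y' of Y, a surjective morphism over the
product from the product of X' and Y'. -/
theorem result (k : Type u) [Field k] [IsAlgClosed k] {X Y : Scheme.{u}}
    (pX : X ⟶ Spec (CommRingCat.of k)) (pY : Y ⟶ Spec (CommRingCat.of k)) [IsProper pX] [ConnectedSpace X]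
    [IsLocallyNoetherian Y] [ConnectedSpace Y]
    (W : FEt.Cat (pullback pX pY)) [ConnectedSpace W.left] :
    ∃ (X' : FEt.Cat X) (Y' : FEt.Cat Y) (φ : pullback (X'.hom ≫ pX) (Y'.hom ≫ pY) ⟶ W.left),
      φ ≫ W.hom = pullback.map (X'.hom ≫ pX) (Y'.hom ≫ pY) pX pY X'.hom Y'.hom (𝟙 _)
        (Category.comp_id _) (Category.comp_id _) ∧ Surjective φ := by
  obtain ⟨x₀, -, hx₀⟩ : ∃ x : ↥X, x ∈ (Set.univ : Set ↥X) ∧ IsClosed ({x} : Set ↥X) := by
    haveI : CompactSpace ↥X := QuasiCompact.compactSpace_of_compactSpace pX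
    exact isClosed_univ.exists_closed_singleton Set.univ_nonempty
  haveI : CompactSpace ↥X := QuasiCompact.compactSpace_of_compactSpace pX
  haveI : IsLocallyNoetherian X := LocallyOfFiniteType.isLocallyNoetherian pX
  haveI : AlgebraicGeometry.IsNoetherian X := {}
  obtain ⟨a, ha⟩ := (pointEquivClosedPoint pX).symm ⟨x₀, hx₀⟩
  haveI : IsFinite W.hom := W.prop.1
  haveI : Etale W.hom := W.prop.2
  -- the cover of the proper factor
  obtain ⟨Ω, _, _, ζ, -⟩ := Groth.Pi1FEt.exists_geomPoint (Classical.arbitrary ↥W.left)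
  let ζ₀ : Spec (CommRingCat.of Ω) ⟶ pullback pX pY := ζ ≫ W.hom
  let t₀ : Spec (CommRingCat.of Ω) ⟶ Y := ζ₀ ≫ pullback.snd pX pY
  obtain ⟨V, hV⟩ := Groth.Pi1PBC.exists_cls pX pY t₀ W
  have hcls : ∀ {L : Type u} [Field L] [IsAlgClosed L] (t : Spec (CommRingCat.of L) ⟶ Y),
      Groth.Pi1PBC.Cls pX pY W t V := fun t => Groth.Pi1PBC.cls_const pX pY t₀ t hV
  haveI : IsFinite V.hom := V.prop.1
  haveI : Etale V.hom := V.prop.2
  obtain ⟨m₀, hm₀⟩ := hV.exists_isTriv
  let vh : V.left ⟶ X := V.hom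
  haveI : IsFinite vh := V.prop.1
  haveI : Etale vh := V.prop.2
  have hVs : Function.Surjective vh.base := by
    let l := hm₀.lift ζ (Groth.Pi1PBC.fibPt pX pY ζ₀) (Groth.Pi1PBC.fibPt_fibJ pX pY ζ₀).symm
    let p : Spec (CommRingCat.of Ω) ⟶ V.left := l ≫ pullback.fst _ _
    have hcl : IsClopen (Set.range vh.base) :=
      ⟨vh.isClosedMap.isClosed_range, vh.isOpenMap.isOpen_range⟩
    exact Set.range_eq_univ.1 (hcl.eq_univ ⟨vh.base (p default), Set.mem_range_self _⟩)
  haveI := Groth.Pi1PBC.finite_fiberObj a V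
  haveI := Fintype.ofFinite (FEt.fiberObj a V)
  obtain ⟨C, z, hC, hdom⟩ := Groth.PiTopGen.exists_connected_dominating (ξ := a)
    ((Finset.univ : Finset (FEt.fiberObj a V)).toList.map fun v => ⟨V, v⟩)
  haveI : ConnectedSpace ↥((𝟭 Scheme).obj C.left) := hC
  haveI : IsFinite C.hom := C.prop.1
  haveI : Etale C.hom := C.prop.2
  haveI : IsProper (C.hom ≫ pX) := inferInstance
  have ha' : z.1 ≫ C.hom ≫ pX = 𝟙 _ := by
    rw [← Category.assoc, show z.1 ≫ C.hom = a from z.2, ha]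
  let sl : Y ⟶ pullback pX pY := Groth.Pi1PBC.slice pX pY ha
  let Y' : FEt.Cat Y := (FEt.restrict sl).obj W
  let y' : Y'.left ⟶ Y := pullback.snd W.hom sl
  haveI : IsFinite y' := MorphismProperty.pullback_snd _ _ inferInstance
  haveI : Etale y' := MorphismProperty.pullback_snd _ _ inferInstance
  haveI : IsLocallyNoetherian Y'.left := LocallyOfFiniteType.isLocallyNoetherian y'
  let μ : pullback (C.hom ≫ pX) (y' ≫ pY) ⟶ pullback pX pY :=
    pullback.map (C.hom ≫ pX) (y' ≫ pY) pX pY C.hom y' (𝟙 _) (Category.comp_id _) (Category.comp_id _)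
  let R : FEt.Cat (pullback (C.hom ≫ pX) (y' ≫ pY)) := (FEt.restrict μ).obj W
  let sl' : Y'.left ⟶ pullback (C.hom ≫ pX) (y' ≫ pY) :=
    Groth.Pi1PBC.slice (C.hom ≫ pX) (y' ≫ pY) ha'
  let pw : Y'.left ⟶ W.left := pullback.fst W.hom sl
  have hpw : pw ≫ W.hom = y' ≫ sl := pullback.condition
  have hsl : sl' ≫ μ = y' ≫ sl := by
    apply pullback.hom_ext
    · simp [sl', sl, μ, Groth.Pi1PBC.slice, show z.1 ≫ C.hom = a from z.2]
    · simp [sl', sl, μ, Groth.Pi1PBC.slice]
      exact Category.id_comp _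
  let s : Y'.left ⟶ pullback W.hom μ := pullback.lift pw sl' (hpw.trans hsl.symm)
  have hs : s ≫ R.hom = sl' := pullback.lift_snd _ _ _
  have hsec : ∀ (L : Type u) [Field L] [IsAlgClosed L] (t' : Spec (CommRingCat.of L) ⟶ Y'.left),
      ∃ σ, Groth.Pi1PBC.IsSec (C.hom ≫ pX) (y' ≫ pY) (R := R) ha' s t' σ := by
    intro L _ _ t'
    let t : Spec (CommRingCat.of L) ⟶ Y := t' ≫ y'
    obtain ⟨m, hm⟩ := (hcls t).exists_isTriv
    have hzp : (t' ≫ pw) ≫ W.hom = t ≫ sl := by rw [Category.assoc, hpw, ← Category.assoc]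
    haveI := Groth.Pi1PBC.connectedSpace_spec L
    obtain ⟨v, hv⟩ := Groth.Pi1PBC.exists_corr ha hm hzp
    obtain ⟨h, hh⟩ := hdom ⟨V, v⟩ (List.mem_map.2 ⟨v, Finset.mem_toList.2 (Finset.mem_univ v), rfl⟩)
    let u : C.left ⟶ V.left := h.left
    have hu : u ≫ V.hom = C.hom := MorphismProperty.Over.w h
    have huz : z.1 ≫ u = v.1 := congrArg Subtype.val hh
    let P := Groth.Pi1PBC.fibP (C.hom ≫ pX) (y' ≫ pY) t'
    let ρ : Groth.Pi1PBC.fib (C.hom ≫ pX) (y' ≫ pY) t' ⟶ Groth.Pi1PBC.fib pX pY t :=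
      pullback.lift (P ≫ C.hom) (pullback.snd (C.hom ≫ pX) (t' ≫ y' ≫ pY)) (by
        simp only [P, t, Category.assoc]; exact pullback.condition)
    let ν : Groth.Pi1PBC.fib (C.hom ≫ pX) (y' ≫ pY) t' ⟶
        pullback V.hom (Groth.Pi1PBC.fibP pX pY t) :=
      pullback.lift (P ≫ u) ρ ((Category.assoc _ _ _).trans
        ((congrArg (P ≫ ·) hu).trans (pullback.lift_fst _ _ _).symm))
    have hρJ : ρ ≫ Groth.Pi1PBC.fibJ pX pY t = Groth.Pi1PBC.fibJ (C.hom ≫ pX) (y' ≫ pY) t' ≫ μ := by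
      apply pullback.hom_ext
      · simp [ρ, μ, P]
      · simp [ρ, μ, t]
    have hcond : (ν ≫ m) ≫ W.hom = Groth.Pi1PBC.fibJ (C.hom ≫ pX) (y' ≫ pY) t' ≫ μ := by
      rw [Category.assoc, hm.w, ← Category.assoc, pullback.lift_snd, hρJ]
    refine ⟨pullback.lift (ν ≫ m) (Groth.Pi1PBC.fibJ _ _ t') hcond, pullback.lift_snd _ _ _, ?_⟩
    apply pullback.hom_ext
    · refine (Category.assoc _ _ _).trans ?_
      rw [pullback.lift_fst, Category.assoc t' s, pullback.lift_fst, ← Category.assoc]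
      refine Eq.trans ?_ hv
      congr 1
      apply pullback.hom_ext
      · rw [Category.assoc, pullback.lift_fst, pullback.lift_fst, ← huz]
        simp [P, t, Groth.Pi1PBC.sct]
      · rw [Category.assoc, pullback.lift_snd, pullback.lift_snd]
        apply pullback.hom_ext <;> simp [ρ, P, t, Groth.Pi1PBC.sct, show z.1 ≫ C.hom = a from z.2]
    · refine (Category.assoc _ _ _).trans ?_
      rw [pullback.lift_snd, Category.assoc t' s, pullback.lift_snd, Groth.Pi1PBC.sct_fibJ]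
  obtain ⟨S, hS, -⟩ := Groth.Pi1PBC.exists_section_of_slice (C.hom ≫ pX) (y' ≫ pY) (R := R) ha' s hsec hs
  let φ : pullback (C.hom ≫ pX) (y' ≫ pY) ⟶ W.left := S ≫ pullback.fst W.hom μ
  have hφ : φ ≫ W.hom = μ := by
    refine (Category.assoc _ _ _).trans ((congrArg (S ≫ ·) pullback.condition).trans ?_)
    exact (Category.assoc _ _ _).symm.trans ((congrArg (· ≫ μ) hS).trans (Category.id_comp _))
  refine ⟨C, Y', φ, hφ, ?_⟩
  haveI : IsFinite μ :=
    MorphismProperty.pullbackMap (P := @IsFinite) (i₁ := C.hom) (i₂ := y') ‹_› ‹_› rfl rfl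
  haveI : Etale μ :=
    MorphismProperty.pullbackMap (P := @Etale) (i₁ := C.hom) (i₂ := y') ‹_› ‹_› rfl rfl
  haveI : IsFinite (φ ≫ W.hom) := hφ.symm ▸ inferInstance
  haveI : Etale (φ ≫ W.hom) := hφ.symm ▸ inferInstance
  haveI : IsFinite φ := IsFinite.of_comp φ W.hom
  haveI : Etale φ := Etale.of_comp φ W.hom
  refine ⟨Set.range_eq_univ.1 (IsClopen.eq_univ
    ⟨φ.isClosedMap.isClosed_range, φ.isOpenMap.isOpen_range⟩ ?_)⟩
  obtain ⟨x₁, hx₁⟩ := hVs (a.base (IsLocalRing.closedPoint k))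
  obtain ⟨v₀, -⟩ := Groth.PiTopGen.exists_fiberObj (ξ := a) V x₁ hx₁
  obtain ⟨w₀, hw₀, -⟩ := Groth.Pi1PBC.exists_point ha hm₀ v₀
  let y₀ : Spec (CommRingCat.of Ω) ⟶ Y'.left := pullback.lift w₀ t₀ hw₀
  exact ⟨φ.base ((y₀ ≫ sl') default), Set.mem_range_self _⟩

end Groth.Agent.S3683
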