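import Groth.Statements.S3688
import Groth.Agent.Pi1Tame.KummerCover
import Groth.Agent.Pi1Tame.RelChart

set_option autoImplicit false
set_option linter.style.haveILetI false
open CategoryTheory CategoryTheory.Limits AlgebraicGeometry
universe u
open SGA1t

namespace Groth.Agent.S3688

/-- Let f : X -> S and let global sections φ_1, ..., φ_r of X cut out a strict normal crossings divisor
relative to S, with complement U. Let x be a point where some φ_i vanishes, A = O_{X,x}, X_1 = Spec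
A, U_1 the inverse image of U, and for the indices i with φ_i(x) = 0 let n_i ≥ 1 be integers
invertible in the residue field of x. Let X'_1 = Spec A[T_i]/(T_i^{n_i} - φ_i) (those i only) and
U'_1 its part over U_1. Then U'_1 -> U_1 is finite etale, U'_1 is connected, and U'_1 is tamely
ramified on X_1 along the divisor relatively to S. (The published statement also asserts smoothness
of the global Kummer scheme at the point over x; that first assertion is not stated here.) -/
theorem result {X S : Scheme.{u}} (f : X ⟶ S) {r : ℕ} (φ : Fin r → Γ(X, ⊤))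
    (hD : SGA1t.IsRelSNC f φ) (x : X) (hx : Nonempty (SGA1t.vanishingAt φ x))
    (n : SGA1t.vanishingAt φ x → ℕ) (hn1 : ∀ i, 1 ≤ n i) (hnu : ∀ i, IsUnit ((n i : ℕ) : X.residueField x)) :
    letI A := X.presheaf.stalk x
    letI a : SGA1t.vanishingAt φ x → A := fun i => (X.presheaf.germ ⊤ x trivial).hom (φ i.1)
    letI π : Spec (CommRingCat.of (SGA1t.kummer A a n)) ⟶ Spec (CommRingCat.of A) :=
      Spec.map (CommRingCat.ofHom (algebraMap A (SGA1t.kummer A a n)))
    letI φ₁ : Fin r → Γ(Spec (CommRingCat.of A), ⊤) := fun i => (X.fromSpecStalk x).appTop (φ i)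
    IsFinite (π ∣_ SGA1t.compl φ₁) ∧ Etale (π ∣_ SGA1t.compl φ₁) ∧
      ConnectedSpace ↥(π ⁻¹ᵁ SGA1t.compl φ₁) ∧
      ∀ [hF : IsFinite (π ∣_ SGA1t.compl φ₁)] [hE : Etale (π ∣_ SGA1t.compl φ₁)],
        SGA1t.IsRelTame (X.fromSpecStalk x ≫ f) φ₁ (MorphismProperty.Over.mk ⊤ (π ∣_ SGA1t.compl φ₁) ⟨hF, hE⟩) := by
  classical
  let A := X.presheaf.stalk x
  let b : Fin r → A := fun i => (X.presheaf.germ ⊤ x trivial).hom (φ i)
  let a : SGA1t.vanishingAt φ x → A := fun i => b i.1
  let φ₁ : Fin r → Γ(Spec (CommRingCat.of A), ⊤) := fun i => (X.fromSpecStalk x).appTop (φ i)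
  have hφ₁ : ∀ i, φ₁ i = (Scheme.ΓSpecIso (CommRingCat.of A)).inv (b i) := fun i => by
    show (X.fromSpecStalk x).appTop (φ i) = _
    rw [Scheme.fromSpecStalk_appTop]
    simp [b, A]
    exact congr($((Scheme.ΓSpecIso_inv_naturality (X.presheaf.germ ⊤ x trivial)).symm) (φ i))
  haveI : Finite (SGA1t.vanishingAt φ x) := Finite.of_injective (β := Fin r) (fun i => i.1) fun i j h => Subtype.ext h
  obtain ⟨w, l, hw, hl, hprod⟩ := Groth.Pi1Tame.KR.exists_prod_eq b (fun i => x ∉ X.basicOpen (φ i)) fun i hi =>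
    (Scheme.mem_basicOpen X (φ i) x trivial).1 (not_not.1 hi)
  have hU : SGA1t.compl φ₁ = PrimeSpectrum.basicOpen (∏ i, b i) := Groth.Pi1Tame.KR.compl_eq_basicOpen b φ₁ hφ₁
  have hu : ∀ i, IsUnit (n i : A) := fun i => isUnit_of_map_unit (IsLocalRing.residue A) _ (by
    rw [map_natCast]; exact hnu i)
  have ha : ∀ i, a i ∈ IsLocalRing.maximalIdeal A := fun i => fun hu' =>
    i.2 ((Scheme.mem_basicOpen X (φ i.1) x trivial).2 hu')
  obtain ⟨N, hN⟩ := Groth.Pi1Tame.KR.exists_sncData f φ hD x hx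
  refine ⟨Groth.Pi1Tame.KR.isFinite_restrict hn1 _,
    Groth.Pi1Tame.KR.etale_restrict hn1 hu (∏ i, b i) (fun i => Finset.dvd_prod_of_mem b (Finset.mem_univ i.1)) _ hU,
    Groth.Pi1Tame.KR.connectedSpace_preimage hn1 hu ha hN (∏ i, b i) ⟨w, l, hw, hprod⟩ _ hU, ?_⟩
  intro hF hE
  refine @Groth.Pi1Tame.KR.relTame_kummer _ _ _ a n _ _ (X.fromSpecStalk x ≫ f) _ φ₁ hu (fun i => ?_) hF hE
  refine hU.le.trans ?_
  exact PrimeSpectrum.basicOpen_le_basicOpen_iff _ _ |>.2 (Ideal.le_radical (Ideal.mem_span_singleton.2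
    (Finset.dvd_prod_of_mem b (Finset.mem_univ i.1))))

end Groth.Agent.S3688
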