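import Groth.Statements.S3692
import Groth.Agent.Pi1Tame.KummerAut
import Groth.Agent.Pi1Tame.RelChart

set_option autoImplicit false
set_option linter.style.haveILetI false
open CategoryTheory CategoryTheory.Limits AlgebraicGeometry
universe u
open SGA1t

namespace Groth.Agent.S3692

/-- Structure of the Kummer covers along a relative normal crossings divisor: let f : X → S be a
morphism and φ_1, …, φ_r global functions on X cutting out a strict normal crossings divisor
relative to S, with complement U; let x be a point of the divisor, R a strict henselization of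
O_{X,x}, U_1 the complement of the divisor in Spec R, and, for each index i with φ_i(x) = 0, an
integer n_i ≥ 1 invertible in the residue field of x. Let U'_1 be the part lying over U_1 of the
spectrum of the Kummer algebra R[T_i]/(T_i^{n_i} − φ_i) (one variable for each such i). Then,
granted that U'_1 → U_1 is finite étale, U'_1 is a Galois cover of U_1, and there is a group
isomorphism from the product over i of the groups of n_i-th roots of unity in R onto the group of
U_1-automorphisms of U'_1 that sends a family ζ = (ζ_i) to the automorphism induced by T_i ↦ ζ_i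
T_i. -/
theorem result {X S : Scheme.{u}} (f : X ⟶ S) {r : ℕ} (φ : Fin r → Γ(X, ⊤))
    (hD : SGA1t.IsRelSNC f φ) (x : X) (hx : Nonempty (SGA1t.vanishingAt φ x))
    (R : Type u) [CommRing R] [IsLocalRing R] [Algebra (X.presheaf.stalk x) R]
    [IsLocalHom (algebraMap (X.presheaf.stalk x) R)] [Hensel.IsStrictHenselization (X.presheaf.stalk x) R]
    (n : SGA1t.vanishingAt φ x → ℕ) (hn1 : ∀ i, 1 ≤ n i) (hnu : ∀ i, IsUnit ((n i : ℕ) : X.residueField x)) :
    letI a : SGA1t.vanishingAt φ x → R := fun i =>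
      algebraMap (X.presheaf.stalk x) R ((X.presheaf.germ ⊤ x trivial).hom (φ i.1))
    letI π : Spec (CommRingCat.of (SGA1t.kummer R a n)) ⟶ Spec (CommRingCat.of R) :=
      Spec.map (CommRingCat.ofHom (algebraMap R (SGA1t.kummer R a n)))
    letI U₁ := SGA1t.compl (fun i => (Hens2.specOf X x R).appTop (φ i))
    ∀ [hF : IsFinite (π ∣_ U₁)] [hE : Etale (π ∣_ U₁)],
      PiSp.IsGaloisCover (MorphismProperty.Over.mk ⊤ (π ∣_ U₁) ⟨hF, hE⟩) ∧
      ∃ θ : ((i : SGA1t.vanishingAt φ x) → ↥(rootsOfUnity (n i) R)) ≃*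
          Aut (MorphismProperty.Over.mk ⊤ (π ∣_ U₁) ⟨hF, hE⟩ : FEt.Cat (U₁ : Scheme.{u})),
        ∀ ζ, (θ ζ).hom.left ≫ (π ⁻¹ᵁ U₁).ι =
          (π ⁻¹ᵁ U₁).ι ≫ Spec.map (CommRingCat.ofHom (SGA1t.kummerTwist R a n ζ)) := by
  classical
  intro hF hE
  let A := X.presheaf.stalk x
  let bA : Fin r → A := fun i => (X.presheaf.germ ⊤ x trivial).hom (φ i)
  let b : Fin r → R := fun i => algebraMap A R (bA i)
  let a : SGA1t.vanishingAt φ x → R := fun i => b i.1
  let φ₁ : Fin r → Γ(Spec (CommRingCat.of R), ⊤) := fun i => (Hens2.specOf X x R).appTop (φ i)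
  haveI := (inferInstance : Hensel.IsStrictHenselization A R).henselian
  haveI : IsSepClosed (IsLocalRing.ResidueField R) :=
    (inferInstance : Hensel.IsStrictHenselization A R).isSepClosure.sep_closed
  have hφ₁ : ∀ i, φ₁ i = (Scheme.ΓSpecIso (CommRingCat.of R)).inv (b i) := fun i => by
    have h1 : (X.fromSpecStalk x).appTop (φ i) = (Scheme.ΓSpecIso (CommRingCat.of A)).inv (bA i) := by
      rw [Scheme.fromSpecStalk_appTop]
      simp [bA, A]
      exact congr($((Scheme.ΓSpecIso_inv_naturality (X.presheaf.germ ⊤ x trivial)).symm) (φ i))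
    show (Spec.map (CommRingCat.ofHom (algebraMap A R))).appTop ((X.fromSpecStalk x).appTop (φ i)) = _
    rw [h1]
    exact congr($((Scheme.ΓSpecIso_inv_naturality (CommRingCat.ofHom (algebraMap A R))).symm) (bA i))
  haveI : Finite (SGA1t.vanishingAt φ x) := Finite.of_injective (β := Fin r) (fun i => i.1) fun i j h => Subtype.ext h
  obtain ⟨w, l, hw, hl, hprod⟩ := Groth.Pi1Tame.KR.exists_prod_eq b (fun i => x ∉ X.basicOpen (φ i)) fun i hi =>
    ((Scheme.mem_basicOpen X (φ i) x trivial).1 (not_not.1 hi)).map (algebraMap A R)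
  have hU : SGA1t.compl φ₁ = PrimeSpectrum.basicOpen (∏ i, b i) := Groth.Pi1Tame.KR.compl_eq_basicOpen b φ₁ hφ₁
  have hu : ∀ i, IsUnit (n i : R) := fun i => by
    have : IsUnit (n i : A) := isUnit_of_map_unit (IsLocalRing.residue A) _ (by rw [map_natCast]; exact hnu i)
    simpa using this.map (algebraMap A R)
  have ha : ∀ i, a i ∈ IsLocalRing.maximalIdeal R := fun i => fun hu' =>
    i.2 ((Scheme.mem_basicOpen X (φ i.1) x trivial).2 (isUnit_of_map_unit (algebraMap A R) _ hu'))
  obtain ⟨N, hN⟩ := Groth.Pi1Tame.KR.exists_sncData f φ hD x hx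
  have hc : ConnectedSpace ↥(Groth.Pi1Tame.KR.proj a n ⁻¹ᵁ SGA1t.compl φ₁) :=
    Groth.Pi1Tame.KR.connectedSpace_preimage hn1 hu ha (hN.strictHensel (R := R)) (∏ i, b i) ⟨w, l, hw, hprod⟩ _ hU
  have hUa : ∀ i, SGA1t.compl φ₁ ≤ PrimeSpectrum.basicOpen (a i) := fun i =>
    hU.le.trans ((PrimeSpectrum.basicOpen_le_basicOpen_iff _ _).2 (Ideal.le_radical (Ideal.mem_span_singleton.2
      (Finset.dvd_prod_of_mem b (Finset.mem_univ i.1)))))
  obtain ⟨hgal, hbij⟩ := @Groth.Pi1Tame.KR.isGaloisCover_twist R _ _ _ _ a n hn1 hu (SGA1t.compl φ₁) hUa hc hF hE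
  refine ⟨hgal, MulEquiv.ofBijective _ hbij, fun ζ => ?_⟩
  exact Groth.Pi1Tame.KR.twistU_ι a n (SGA1t.compl φ₁) ζ

end Groth.Agent.S3692
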