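import Groth.Statements.S3698
import Groth.Agent.Pi1AbVar.Galois
import Groth.Agent.Pi1AbVar.Isogeny
import Groth.Agent.GrpschAbsch.AbVarEtale

set_option autoImplicit false
universe u
open CategoryTheory MonoidalCategory CartesianMonoidalCategory MonObj GrpObj AlgebraicGeometry
open Pi1

namespace Groth.Agent.S3698

set_option backward.isDefEq.respectTransparency false

/-- The fundamental group of an abelian variety, in the form underlying its computation: let k be an
algebraically closed field and A an abelian variety over k (a proper, geometrically integral group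
scheme over k). Then every connected finite étale cover Z → A is dominated by a multiplication map:
for some integer d ≥ 1 there is a morphism A → Z over A, where A is viewed as a scheme over A
through multiplication by d. (Multiplication by d is the d-th power of the identity in the group
Hom(A, A); consequently the fundamental group of A is the inverse limit of the groups of k-points of
the kernels of these multiplications.) -/
theorem result (k : Type u) [Field k] [IsAlgClosed k]
    (A : Over (Spec (CommRingCat.of k))) [GrpObj A] [IsProper A.hom] [GeometricallyIntegral A.hom]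
    (Z : FEt.Cat A.left) [ConnectedSpace Z.left] :
    ∃ d : ℕ, 1 ≤ d ∧ ∃ ψ : A.left ⟶ Z.left, ψ ≫ Z.hom = ((𝟙 A) ^ (d : ℤ)).left := by
  haveI : IsIntegral A.left := Groth.Abvar.isIntegral_left A
  haveI : IsCommMonObj A := Groth.GrpschAbsch.isCommMonObj_of_isProper A
  have hcomm : ∀ (T : Over (Spec (CommRingCat.of k))) (a b : T ⟶ A), a * b = b * a := fun T a b =>
    _root_.mul_comm a b
  let Y : Over (Spec (CommRingCat.of k)) := Over.mk (Z.hom ≫ A.hom)
  let φ : Y ⟶ A := Over.homMk Z.hom
  haveI : IsFinite φ.left := Z.prop.1
  haveI : Etale φ.left := Z.prop.2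
  haveI : ConnectedSpace ↥Y.left := ‹ConnectedSpace ↥Z.left›
  obtain ⟨inst, hφ⟩ := Groth.Pi1AbVar.exists_grpObj_cover φ hcomm
  haveI : Surjective φ.left := ⟨Set.range_eq_univ.1 (IsClopen.eq_univ
    ⟨φ.left.isClosedMap.isClosed_range, φ.left.isOpenMap.isOpen_range⟩ (Set.range_nonempty _))⟩
  let K := Limits.pullback φ.left η[A].left
  let p : K ⟶ Spec (CommRingCat.of k) := Limits.pullback.snd φ.left η[A].left
  haveI : IsFinite p := MorphismProperty.pullback_snd _ _ inferInstance
  haveI : Finite ↥K := by
    have h : Set.Finite (p.base ⁻¹' {IsLocalRing.closedPoint k}) := p.finite_preimage_singleton _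
    exact Set.finite_univ_iff.1 (h.subset fun x _ => Subsingleton.elim (α := PrimeSpectrum k) _ _)
  haveI : Nonempty ↥K := by
    let e : Spec (CommRingCat.of k) ⟶ K := Limits.pullback.lift η[Y].left (𝟙 _)
      ((congrArg Over.Hom.left (IsMonHom.one_hom (f := φ))).trans (Category.id_comp _).symm)
    exact ⟨e.base (IsLocalRing.closedPoint k)⟩
  refine ⟨Nat.card ↥K, Nat.card_pos, ?_⟩
  obtain ⟨ψ, -, hψ⟩ := Groth.Pi1AbVar.exists_hom_comp_eq_pow φ hcomm rfl (dvd_refl (Nat.card ↥K))
  refine ⟨ψ.left, ?_⟩
  rw [zpow_natCast]
  exact congrArg Over.Hom.left hψ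

end Groth.Agent.S3698
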