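import Groth.Statements.S3700
import Groth.Agent.KoszulLCI.SchemeBaseChange
import Groth.Agent.KoszulLCI.RegularStalk
import Groth.Agent.Syntomic.SmoothRegImmScheme

set_option autoImplicit false
universe u
open SGA1

namespace Groth.Agent.S3700

open AlgebraicGeometry CategoryTheory in
theorem smooth_comp_of_le {X S : Scheme.{u}} (f : X ⟶ S) [LocallyOfFinitePresentation f]
    (U : X.Opens) (h : U ≤ f.smoothLocus) : Smooth (U.ι ≫ f) := by
  rw [← Scheme.Hom.smoothLocus_eq_top_iff, ← Scheme.Hom.preimage_smoothLocus_eq]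
  exact top_unique fun x _ => h x.2

open AlgebraicGeometry CategoryTheory CategoryTheory.Limits in
/-- Let S be locally Noetherian, f : X -> S locally of finite type, Y the closed subscheme of X defined
by a quasi-coherent ideal, and x a point of Y at which Y is smooth over S. Then X is smooth over S
at x if and only if the closed immersion of Y in X is regular at x, that is, the kernel of O_{X,x}
-> O_{Y,x} is generated by a regular sequence. (Smoothness at a point is membership in Mathlib's
smooth locus, the set of points where the map of local rings is formally smooth.) -/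
theorem result {X S : Scheme.{u}} [IsLocallyNoetherian S] (f : X ⟶ S)
    [LocallyOfFiniteType f] [LocallyOfFinitePresentation f] (I : X.IdealSheafData)
    [LocallyOfFinitePresentation (I.subschemeι ≫ f)] (x : ↥I.subscheme) (hY : x ∈ (I.subschemeι ≫ f).smoothLocus) :
    I.subschemeι.base x ∈ f.smoothLocus ↔ CInt.IsRegularIdeal (RingHom.ker (I.subschemeι.stalkMap x).hom) := by
  have : IsLocallyNoetherian X := LocallyOfFiniteType.isLocallyNoetherian f
  set i := I.subschemeι with hi
  constructor
  · intro hX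
    let U' : I.subscheme.Opens := i ⁻¹ᵁ f.smoothLocus ⊓ (i ≫ f).smoothLocus
    have hsm : Smooth (U'.ι ≫ i ≫ f) := smooth_comp_of_le (i ≫ f) U' inf_le_right
    have := smooth_comp_of_le f f.smoothLocus le_rfl
    let l : (U' : Scheme.{u}) ⟶ (f.smoothLocus : Scheme.{u}) :=
      IsOpenImmersion.lift f.smoothLocus.ι (U'.ι ≫ i) (by
        rw [Scheme.Opens.range_ι]
        rintro _ ⟨z, rfl⟩
        exact z.2.1)
    have hl : l ≫ f.smoothLocus.ι = U'.ι ≫ i := IsOpenImmersion.lift_fac _ _ _
    have h1 : Groth.KoszulLCI.MorLCI l := Groth.KoszulLCI.morLCI_of_comp_smooth l (f.smoothLocus.ι ≫ f) (by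
      rw [← Category.assoc, hl, Category.assoc]
      exact Groth.KoszulLCI.morLCI_of_smooth _)
    have h2 : Groth.KoszulLCI.MorLCI (U'.ι ≫ i) :=
      hl ▸ MorphismProperty.comp_mem _ _ _ h1 (Groth.KoszulLCI.morLCI_of_smooth _)
    let z : (U' : Scheme.{u}) := ⟨x, hX, hY⟩
    have h3 := Groth.KoszulLCI.isRegularIdeal_ker_stalkMap (U'.ι ≫ i) z
      (Groth.KoszulLCI.isRegularImmersionAt_regular (U'.ι ≫ i) .koszul z
        (Groth.KoszulLCI.isRegularImmersionAt_of_isKoszulAt (U'.ι ≫ i) z
          (Groth.KoszulLCI.isKoszulAt_of_morLCI _ h2 z)))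
    have hinj : RingHom.ker (U'.ι.stalkMap z).hom = ⊥ :=
      (RingHom.injective_iff_ker_eq_bot _).1
        (ConcreteCategory.bijective_of_isIso (U'.ι.stalkMap z)).1
    rw [Groth.KoszulLCI.ker_stalkMap_comp, hinj] at h3
    exact h3
  · intro h
    obtain ⟨U, hxU, hci, rs, hrs, hker⟩ :=
      (Groth.KoszulLCI.isRegularImmersionAt_regular_iff i x).2 h
    obtain ⟨W, hW, hxW, -⟩ :=
      exists_isAffineOpen_mem_and_subset (show f (i x) ∈ (⊤ : S.Opens) from trivial)
    obtain ⟨t, htW, hxt⟩ := U.2.exists_basicOpen_le (V := f ⁻¹ᵁ W) ⟨i x, hxW⟩ hxU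
    let _ := (X.presheaf.map (homOfLE (X.basicOpen_le t)).op).hom.toAlgebra
    have := U.2.isLocalization_basicOpen t
    refine Groth.Syntomic.mem_smoothLocus_of_h1Regular f (i ≫ f) i rfl x hY hW (U.2.basicOpen t) hxt htW
      (Groth.KoszulReg.isAffineOpen_preimage i _ (U.2.basicOpen t))
      (Groth.KoszulReg.surjective_app i _ (U.2.basicOpen t))
      (algebraMap Γ(X, U.1) Γ(X, X.basicOpen t) ∘ rs.get) ?_ ?_
    · rw [Groth.KoszulLCI.ker_app_basicOpen i U.2 t, hker, Ideal.ofList, Ideal.map_span, Set.range_comp,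
        Set.range_list_get]
      rfl
    · exact Groth.KoszulLCI.isH1Regular_map _
        (RingHom.flat_algebraMap_iff.2 (IsLocalization.flat _ (Submonoid.powers t)))
        (Groth.KoszulLCI.seq_h1_of_koszul (Groth.KoszulLCI.seq_koszul_of_regular hrs))

end Groth.Agent.S3700
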