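import Groth.Statements.S3701
import Groth.Agent.HensPair.SteinEtale
-- import your own Groth.Agent.* helpers here

set_option autoImplicit false
universe u
open Pi1

namespace Groth.Agent.S3701

open AlgebraicGeometry CategoryTheory CategoryTheory.Limits in
/-- Let f : X -> S be proper, flat and of finite presentation with geometrically reduced fibres. Then in
the Stein factorization X -> S' -> S, where S' is the normalization of S in X, the morphism S' -> S
is finite etale. -/
theorem result {X S : Scheme.{u}} (f : X ⟶ S) [IsProper f] [Flat f]
    [LocallyOfFinitePresentation f]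
    (hred : ∀ (Ω : Type u) [Field Ω] [IsAlgClosed Ω] (σ : Spec (CommRingCat.of Ω) ⟶ S), IsReduced (pullback f σ)) :
    IsFinite f.fromNormalization ∧ Etale f.fromNormalization := by
  have : GeometricallyReduced f := by
    refine ⟨fun K _ y P fst snd hP => ?_⟩
    let E := AlgebraicClosure K
    let k : Spec (CommRingCat.of E) ⟶ Spec (CommRingCat.of K) :=
      Spec.map (CommRingCat.ofHom (algebraMap K E))
    have : Flat k := (HasRingHomProperty.Spec_iff (P := @Flat)).mpr
      (RingHom.flat_algebraMap_iff.mpr inferInstance)
    have : Surjective k := ⟨fun y => ⟨Classical.arbitrary _, Subsingleton.elim _ _⟩⟩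
    have hr := hred E (k ≫ y)
    let l : pullback f (k ≫ y) ⟶ P := hP.lift (pullback.fst _ _) (pullback.snd _ _ ≫ k)
      (by rw [pullback.condition, Category.assoc])
    have hl : IsPullback l (pullback.snd f (k ≫ y)) snd k :=
      IsPullback.of_right (by rw [hP.lift_fst]; exact IsPullback.of_hasPullback _ _) (hP.lift_snd _ _ _) hP
    have : Flat l := MorphismProperty.of_isPullback hl.flip ‹_›
    have : Surjective l := MorphismProperty.of_isPullback hl.flip ‹_›
    exact Groth.Agf.isReduced_of_flat_surjective l
  exact Groth.HensPair.SteinEtale.etale_fromNormalization f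

end Groth.Agent.S3701
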