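import Groth.Statements.S3708
import Groth.Agent.FormalPic.SmoothAlgebraize
import Groth.Agent.SmoothLift.ExtBridge
import Groth.Agent.S12483
import Groth.Agent.Inter.Vanishing
import Groth.Agent.VarietyBC.CurveProj

set_option autoImplicit false
set_option linter.style.haveILetI false
universe u
open SGA1

namespace Groth.Agent.S3708

open AlgebraicGeometry CategoryTheory CategoryTheory.Limits in
/-- Let A be a Noetherian local ring that is complete, with residue field k, and let X₀ be a smooth
proper k-scheme of dimension one. Then there exist a smooth proper A-scheme X and an isomorphism of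
k-schemes between X₀ and the closed fibre X ×_A k. -/
theorem result (A : Type u) [CommRing A] [IsLocalRing A] [IsNoetherianRing A]
    [IsAdicComplete (IsLocalRing.maximalIdeal A) A] {X₀ : Scheme.{u}}
    (f₀ : X₀ ⟶ Spec (CommRingCat.of (IsLocalRing.ResidueField A))) [Smooth f₀] [IsProper f₀]
    (hdim : topologicalKrullDim X₀ = 1) :
    ∃ (X : Scheme.{u}) (f : X ⟶ Spec (CommRingCat.of A)) (_ : Smooth f) (_ : IsProper f)
      (e : X₀ ≅ pullback f (Spec.map (CommRingCat.ofHom (IsLocalRing.residue A)))),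
      e.hom ≫ pullback.snd f _ = f₀ := by
  haveI : IsLocallyNoetherian X₀ := LocallyOfFiniteType.isLocallyNoetherian f₀
  haveI : CompactSpace X₀ := QuasiCompact.compactSpace_of_compactSpace f₀
  haveI : IsNoetherian X₀ := {}
  haveI : X₀.IsSeparated := ⟨by rw [← terminal.comp_from f₀]; infer_instance⟩
  haveI : HasExt.{u} X₀.Modules := hasExt_of_enoughInjectives _
  have hd : topologicalKrullDim X₀ ≤ (1 : ℕ) := by rw [hdim]; exact le_rfl
  haveI : DCoh.HasSheafHom (Omega.sheaf f₀) := Groth.CohTwo.LocFreeExt.hasSheafHom _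
  obtain ⟨e⟩ := Groth.Agent.S12483.result X₀ (Omega.sheaf f₀) (Coh.structureModule X₀)
    (Groth.OmegaSheaf.isFinLocFree_sheaf f₀) 2
  have hvan : ∀ M : X₀.Modules, Subsingleton (Coh.HH X₀ M 2) := fun M =>
    Groth.Inter.Vanishing.subsingleton_H_of_dim_le hd _ 2 (by norm_num)
  have hT : Subsingleton (Abelian.Ext.{u} (Omega.sheaf f₀) (Coh.structureModule X₀) 2) :=
    @Equiv.subsingleton _ _ e.toEquiv (hvan _)
  obtain ⟨L₀, hL₀⟩ := Groth.VarietyBC.CurveProj.exists_ample X₀ (le_of_eq hdim)
  obtain ⟨X, f, i, hs, hp, -, hc⟩ := Groth.FormalPic.exists_smooth_projective_lift A f₀ hT (hvan _) hL₀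
  exact ⟨X, f, hs, hp, hc.isoPullback, hc.isoPullback_hom_snd⟩

end Groth.Agent.S3708
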