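import Groth.Statements.S3710
import Groth.Agent.SmoothSlice.Slice
import Groth.Agent.Misc12.KummerSmooth

set_option autoImplicit false
open CategoryTheory CategoryTheory.Limits AlgebraicGeometry
universe u
open SGA1t

namespace Groth.Agent.S3710

/-- Let f : X -> S and φ_1, ..., φ_r cut out a strict normal crossings divisor relative to S, x a point
where some φ_i vanishes, A = O_{X,x}, and n_i ≥ 1 integers for the indices i with φ_i(x) = 0 (no
condition on the residue characteristic). Then the Kummer scheme X' = Spec A[T_i]/(T_i^{n_i} - φ_i)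
is smooth over S at its point x' over x: the homomorphism from the local ring of S at the image
point to the local ring of X' at x' is formally smooth. -/
theorem result {X S : Scheme.{u}} (f : X ⟶ S) {r : ℕ} (φ : Fin r → Γ(X, ⊤))
    (hD : SGA1t.IsRelSNC f φ) (x : X) (hx : Nonempty (SGA1t.vanishingAt φ x))
    (n : SGA1t.vanishingAt φ x → ℕ) (hn1 : ∀ i, 1 ≤ n i) :
    letI A := X.presheaf.stalk x
    letI a : SGA1t.vanishingAt φ x → A := fun i => (X.presheaf.germ ⊤ x trivial).hom (φ i.1)
    letI π : Spec (CommRingCat.of (SGA1t.kummer A a n)) ⟶ Spec (CommRingCat.of A) :=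
      Spec.map (CommRingCat.ofHom (algebraMap A (SGA1t.kummer A a n)))
    ∀ x' : Spec (CommRingCat.of (SGA1t.kummer A a n)), π.base x' = IsLocalRing.closedPoint A →
      ((π ≫ X.fromSpecStalk x ≫ f).stalkMap x').hom.FormallySmooth := by
  intro x' hx'
  let A := X.presheaf.stalk x
  let a : SGA1t.vanishingAt φ x → A := fun i => (X.presheaf.germ ⊤ x trivial).hom (φ i.1)
  let π : Spec (CommRingCat.of (SGA1t.kummer A a n)) ⟶ Spec (CommRingCat.of A) :=
    Spec.map (CommRingCat.ofHom (algebraMap A (SGA1t.kummer A a n)))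
  show ((π ≫ X.fromSpecStalk x ≫ f).stalkMap x').hom.FormallySmooth
  obtain ⟨W, hxW, d, v, e, he, het, hv⟩ := hD x hx
  obtain ⟨U, hU, hfU, -⟩ := exists_isAffineOpen_mem_and_subset (U := (⊤ : S.Opens)) (x := f x) trivial
  obtain ⟨W', hW', hxW', hW'le⟩ := exists_isAffineOpen_mem_and_subset (U := W ⊓ f ⁻¹ᵁ U) (x := x) ⟨hxW, hfU⟩
  have hWW : W' ≤ W := fun z hz => (hW'le hz).1
  have hWU : W' ≤ f ⁻¹ᵁ U := fun z hz => (hW'le hz).2
  let ψ := f.appLE U W' hWU
  have hl0 : Set.range hW'.fromSpec ⊆ Set.range W.ι := by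
    rw [hW'.range_fromSpec, Scheme.Opens.range_ι]; exact hWW
  let l := IsOpenImmersion.lift W.ι hW'.fromSpec hl0
  have hl : l ≫ W.ι = hW'.fromSpec := IsOpenImmersion.lift_fac _ _ _
  have : IsOpenImmersion l := by
    have : IsOpenImmersion (l ≫ W.ι) := hl ▸ inferInstance
    exact IsOpenImmersion.of_comp l W.ι
  let c : ULift.{u} (Fin d) → Γ(X, W') := fun j => (Scheme.ΓSpecIso _).hom (l.appTop (v j))
  have hc : (fun j => (Scheme.ΓSpecIso _).inv (c j)) = l.appTop ∘ v := funext fun j => by
    show ((Scheme.ΓSpecIso _).hom ≫ (Scheme.ΓSpecIso _).inv) (l.appTop (v j)) = _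
    rw [Iso.hom_inv_id]; rfl
  let θ := MvPolynomial.eval₂Hom ψ.hom c
  have hθ : θ.Etale := by
    have h1 : Etale (l ≫ AffineSpace.homOfVector (W.ι ≫ f) v) := inferInstance
    rw [AffineSpace.comp_homOfVector, ← Category.assoc, hl, ← hU.SpecMap_appLE_fromSpec f hW' hWU, ← hc,
      ← Groth.SmoothSlice.homOfVector_map, Groth.SmoothSlice.homOfVector_Spec] at h1
    haveI : IsOpenImmersion (AffineSpace.map (ULift.{u} (Fin d)) hU.fromSpec) :=
      MorphismProperty.of_isPullback (AffineSpace.isPullback_map hU.fromSpec).flip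
        (inferInstanceAs (IsOpenImmersion hU.fromSpec))
    haveI := h1
    haveI : Etale (Spec.map (CommRingCat.ofHom θ) ≫ (AffineSpace.SpecIso (ULift.{u} (Fin d)) Γ(S, U)).inv) :=
      Etale.of_comp _ (AffineSpace.map _ hU.fromSpec)
    have h2 : Etale (Spec.map (CommRingCat.ofHom θ)) := Etale.of_comp _ (AffineSpace.SpecIso _ Γ(S, U)).inv
    exact (HasRingHomProperty.Spec_iff (P := @Etale)).1 h2
  -- the algebras
  letI : Algebra Γ(S, U) Γ(X, W') := ψ.hom.toAlgebra
  let germA : Γ(X, W') →+* A := (X.presheaf.germ W' x hxW').hom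
  letI : Algebra Γ(X, W') A := germA.toAlgebra
  haveI : IsLocalization.AtPrime A (hW'.primeIdealOf ⟨x, hxW'⟩).asIdeal := hW'.isLocalization_stalk ⟨x, hxW'⟩
  letI : Algebra Γ(S, U) A := (germA.comp ψ.hom).toAlgebra
  letI : Algebra (MvPolynomial (ULift.{u} (Fin d)) Γ(S, U)) Γ(X, W') := θ.toAlgebra
  letI : Algebra (MvPolynomial (ULift.{u} (Fin d)) Γ(S, U)) A := (germA.comp θ).toAlgebra
  haveI : IsScalarTower Γ(S, U) (MvPolynomial (ULift.{u} (Fin d)) Γ(S, U)) A :=
    IsScalarTower.of_algebraMap_eq fun r => by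
      show germA (ψ r) = germA (θ (MvPolynomial.C r))
      rw [MvPolynomial.eval₂Hom_C]
  haveI : IsScalarTower (MvPolynomial (ULift.{u} (Fin d)) Γ(S, U)) Γ(X, W') A :=
    IsScalarTower.of_algebraMap_eq fun r => rfl
  haveI : Algebra.Etale (MvPolynomial (ULift.{u} (Fin d)) Γ(S, U)) Γ(X, W') := hθ
  haveI : Algebra.FormallyEtale Γ(X, W') A :=
    Algebra.FormallyEtale.of_isLocalization (hW'.primeIdealOf ⟨x, hxW'⟩).asIdeal.primeCompl
  haveI : Algebra.FormallySmooth (MvPolynomial (ULift.{u} (Fin d)) Γ(S, U)) A :=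
    Algebra.FormallySmooth.comp _ Γ(X, W') A
  haveI hB : Algebra.FormallySmooth Γ(S, U) (SGA1t.kummer A a n) :=
    Groth.Misc12.KummerSmooth.formallySmooth_kummer (σ := ULift.{u} (Fin d)) (fun i => ULift.up (e i))
      (fun i j h => he (congrArg ULift.down h)) n a (fun i => by
        show (X.presheaf.germ ⊤ x trivial) (φ i.1) = germA (θ (MvPolynomial.X _))
        rw [MvPolynomial.eval₂Hom_X']
        show _ = germA ((Scheme.ΓSpecIso _).hom (l.appTop (v (ULift.up (e i)))))
        rw [hv i]
        have key : ∀ s : Γ(X, ⊤), (Scheme.ΓSpecIso Γ(X, W')).hom (l.appTop (W.topIso.inv (X.presheaf.map (homOfLE le_top).op s))) =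
            X.presheaf.map (homOfLE le_top).op s := by
          intro s
          have h1 : hW'.fromSpec.appTop = X.presheaf.map (homOfLE le_top).op ≫ (Scheme.ΓSpecIso Γ(X, W')).inv :=
            by rw [Scheme.Hom.appTop, hW'.fromSpec_app_of_le ⊤ le_top]; simp
          have h2 : X.presheaf.map (homOfLE le_top).op ≫ W.topIso.inv = W.ι.appTop := by
            simp [Scheme.Opens.topIso]
            refine (X.presheaf.map_comp _ _).symm.trans ?_
            rfl
          have h3 : X.presheaf.map (homOfLE (le_top : W ≤ ⊤)).op ≫ W.topIso.inv ≫ l.appTop ≫ (Scheme.ΓSpecIso Γ(X, W')).hom =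
              X.presheaf.map (homOfLE le_top).op := by
            rw [reassoc_of% h2, ← Category.assoc W.ι.appTop, ← Scheme.Hom.comp_appTop, hl, h1, Category.assoc,
              Iso.inv_hom_id, Category.comp_id]
          exact congr($h3 s)
        rw [key]
        exact (TopCat.Presheaf.germ_res_apply X.presheaf _ x hxW' _).symm)
  -- back to schemes
  let β : Γ(S, U) ⟶ CommRingCat.of (SGA1t.kummer A a n) :=
    CommRingCat.ofHom (algebraMap Γ(S, U) (SGA1t.kummer A a n))
  have hmor : π ≫ X.fromSpecStalk x ≫ f = Spec.map β ≫ hU.fromSpec := by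
    rw [← hW'.fromSpecStalk_eq_fromSpecStalk hxW', IsAffineOpen.fromSpecStalk, Category.assoc,
      ← hU.SpecMap_appLE_fromSpec f hW' hWU, ← Spec.map_comp_assoc, ← Spec.map_comp_assoc]
    congr 1
  rw [hmor, Scheme.Hom.stalkMap_comp]
  refine (RingHom.FormallySmooth.respectsIso.cancel_left_isIso (hU.fromSpec.stalkMap _) ((Spec.map β).stalkMap x')).2 ?_
  refine (RingHom.FormallySmooth.respectsIso.arrow_mk_iso_iff (Scheme.arrowStalkMapSpecIso β x')).2 ?_
  let p := (PrimeSpectrum.comap β.hom x').asIdeal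
  let χ : Localization.AtPrime p →+* Localization.AtPrime x'.asIdeal :=
    Localization.localRingHom p x'.asIdeal β.hom rfl
  show @RingHom.FormallySmooth (Localization.AtPrime p) (Localization.AtPrime x'.asIdeal)
    OreLocalization.instCommRing OreLocalization.instCommRing χ
  letI := χ.toAlgebra
  haveI : IsScalarTower Γ(S, U) (Localization.AtPrime p) (Localization.AtPrime x'.asIdeal) :=
    IsScalarTower.of_algebraMap_eq fun r => by
      show _ = Localization.localRingHom p x'.asIdeal β.hom rfl (algebraMap _ _ r)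
      rw [Localization.localRingHom_to_map]
      exact IsScalarTower.algebraMap_apply Γ(S, U) (SGA1t.kummer A a n) _ r
  haveI : Algebra.FormallySmooth (SGA1t.kummer A a n) (Localization.AtPrime x'.asIdeal) :=
    Algebra.FormallySmooth.of_isLocalization x'.asIdeal.primeCompl
  haveI : Algebra.FormallySmooth Γ(S, U) (Localization.AtPrime x'.asIdeal) :=
    Algebra.FormallySmooth.comp _ (SGA1t.kummer A a n) _
  exact Algebra.FormallySmooth.localization_base (Sₘ := Localization.AtPrime x'.asIdeal) p.primeCompl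

end Groth.Agent.S3710
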