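import Groth.Statements.S3711
import Groth.Agent.Pi1Tame.TameRes

set_option autoImplicit false
set_option linter.style.haveILetI false
open CategoryTheory CategoryTheory.Limits AlgebraicGeometry
universe u
open SGA1t

namespace Groth.Agent.S3711

/-- Case of a constant group: let f : X -> S and φ_1, ..., φ_r cut out a strict normal crossings divisor
relative to S with complement U, and let P be a principal C-cover of U for a finite group C whose
order is invertible in every residue field of S. Then P is tamely ramified on X relatively to S. -/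
theorem result {X S : Scheme.{u}} (f : X ⟶ S) {r : ℕ} (φ : Fin r → Γ(X, ⊤))
    (hD : SGA1t.IsRelSNC f φ) (C : Type) [Group C] [Finite C] (hC : ∀ s : S, IsUnit ((Nat.card C : ℕ) : S.residueField s))
    (P : FEt.Cat (SGA1t.compl φ : Scheme.{u})) (ρ : C →* Aut P) (hP : SGA1t.IsPrincipal C P ρ) :
    SGA1t.IsRelTame f φ P := by
  intro Ω _ _ σ _ y _ hy w h hne
  haveI := hy
  let pr := pullback.snd (P.hom ≫ (SGA1t.compl φ).ι) (pullback.fst f σ)
  haveI : Etale P.hom := P.prop.2
  haveI : Etale pr := MorphismProperty.pullback_snd _ _ inferInstance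
  haveI : Finite C := inferInstance
  -- the action on the pullback
  let act : C → (pullback (P.hom ≫ (SGA1t.compl φ).ι) (pullback.fst f σ) ⟶
      pullback (P.hom ≫ (SGA1t.compl φ).ι) (pullback.fst f σ)) := fun g =>
    pullback.map _ _ _ _ (ρ g).hom.left (𝟙 _) (𝟙 _)
      (by rw [Category.comp_id, ← Category.assoc]; exact congrArg (· ≫ (SGA1t.compl φ).ι) (Over.w (ρ g).hom.hom).symm)
      (by simp)
  have act_snd : ∀ g, act g ≫ pr = pr := fun g => (pullback.lift_snd _ _ _).trans (Category.comp_id _)
  have act_fst : ∀ g, act g ≫ pullback.fst _ _ = pullback.fst _ _ ≫ (ρ g).hom.left := fun g => pullback.lift_fst _ _ _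
  have act_one : act 1 = 𝟙 _ := by
    refine pullback.hom_ext ?_ ?_
    · rw [act_fst, map_one, Category.id_comp]
      exact Category.comp_id _
    · exact (act_snd 1).trans (Category.id_comp _).symm
  have act_mul : ∀ g g', act (g * g') = act g' ≫ act g := fun g g' => by
    refine pullback.hom_ext ?_ ?_
    · rw [act_fst, Category.assoc, act_fst, ← Category.assoc, act_fst, map_mul, Category.assoc]
      rfl
    · exact (act_snd _).trans (((Category.assoc _ _ _).trans ((congrArg (act g' ≫ ·) (act_snd g)).trans (act_snd g'))).symm)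
  let ρ' : C →* Aut (Over.mk pr) :=
    { toFun := fun g =>
        { hom := Over.homMk (act g) (act_snd g)
          inv := Over.homMk (act g⁻¹) (act_snd g⁻¹)
          hom_inv_id := by ext1; show act g ≫ act g⁻¹ = 𝟙 _; rw [← act_mul, inv_mul_cancel, act_one]
          inv_hom_id := by ext1; show act g⁻¹ ≫ act g = 𝟙 _; rw [← act_mul, mul_inv_cancel, act_one] }
      map_one' := Iso.ext (Over.OverMorphism.ext act_one)
      map_mul' := fun g g' => Iso.ext (Over.OverMorphism.ext (act_mul g g')) }
  have htrans : ∀ (Ω' : Type u) [Field Ω'] [IsAlgClosed Ω'] (t t' : Spec (CommRingCat.of Ω') ⟶ _),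
      t ≫ pr = t' ≫ pr → ∃ g : C, t ≫ (ρ' g).hom.left = t' := by
    intro Ω' _ _ t t' htt'
    have h1 : (t' ≫ pullback.fst _ _) ≫ P.hom = (t ≫ pullback.fst _ _) ≫ P.hom := by
      rw [← cancel_mono (SGA1t.compl φ).ι]
      simp only [Category.assoc]
      rw [pullback.condition, ← Category.assoc, ← Category.assoc]
      exact congrArg (· ≫ pullback.fst f σ) htt'.symm
    obtain ⟨g, hg, -⟩ := hP.2 Ω' ((t ≫ pullback.fst _ _) ≫ P.hom) ⟨t ≫ pullback.fst _ _, rfl⟩ ⟨t' ≫ pullback.fst _ _, h1⟩
    refine ⟨g, pullback.hom_ext ?_ ?_⟩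
    · have h2 : (t ≫ pullback.fst _ _) ≫ (ρ g).hom.left = t' ≫ pullback.fst _ _ := congrArg Subtype.val hg
      show (t ≫ act g) ≫ pullback.fst _ _ = _
      rw [← h2, Category.assoc, act_fst, Category.assoc]
    · show (t ≫ act g) ≫ pr = _
      rw [Category.assoc, act_snd]
      exact htt'
  obtain ⟨hfin, hgal, hdvd⟩ := Groth.Pi1Tame.galois_residueField_of_action pr ρ' htrans w
  let K := (pullback f σ).residueField (pr w)
  let L := (pullback (P.hom ≫ (SGA1t.compl φ).ι) (pullback.fst f σ)).residueField w
  letI : Algebra ((pullback f σ).presheaf.stalk y) K :=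
    (((pullback f σ).residue _).hom.comp ((pullback f σ).presheaf.stalkSpecializes h).hom).toAlgebra
  haveI : IsFractionRing ((pullback f σ).presheaf.stalk y) K := Groth.Pi1Tame.isFractionRing_residueField h hne
  letI : Algebra K L := (pr.residueFieldMap w).hom.toAlgebra
  -- the degree is a unit in `O_y`
  have hcard : IsUnit ((Nat.card C : ℕ) : (pullback f σ).presheaf.stalk y) := by
    let α : (pullback f σ).presheaf.stalk y →+* (pullback f σ).residueField y := ((pullback f σ).residue y).hom
    haveI : IsLocalHom α := inferInstanceAs (IsLocalHom (IsLocalRing.residue _))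
    refine isUnit_of_map_unit α _ ?_
    rw [map_natCast]
    have := (hC ((pullback.fst f σ ≫ f).base y)).map ((pullback.fst f σ ≫ f).residueFieldMap y).hom
    rwa [map_natCast] at this
  have hn : IsUnit ((Module.finrank K L : ℕ) : (pullback f σ).presheaf.stalk y) := by
    obtain ⟨k, hk⟩ := hdvd
    rw [hk, Nat.cast_mul] at hcard
    exact isUnit_of_mul_isUnit_left hcard
  exact Groth.Misc3Ram.tame_of_isGalois ((pullback f σ).presheaf.stalk y) K L hn

end Groth.Agent.S3711
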