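import Groth.Statements.S3713
import Groth.Agent.SmoothSlice.Slice
import Groth.Agent.GrpschAbsch.AffineSpaceExtra

set_option autoImplicit false
universe u
open SGA1

namespace Groth.Agent.S3713

open AlgebraicGeometry CategoryTheory CategoryTheory.Limits in
/-- Let Y be locally Noetherian, f : X -> Y locally of finite type, i a section of f and y a point of Y.
Then X is smooth over Y at i(y) (i(y) lies in the smooth locus of f) if and only if there are an
open neighbourhood U of y, an open V of X with i(U) ⊆ V ⊆ f^{-1}(U), and finitely many sections of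
O_X over V, all vanishing along i(U), which define an etale U-morphism from V to an affine space
over U (so that this etale chart carries the section to the zero section). -/
theorem result {X Y : Scheme.{u}} [IsLocallyNoetherian Y] (f : X ⟶ Y)
    [LocallyOfFiniteType f] [LocallyOfFinitePresentation f] (i : Y ⟶ X) (hi : i ≫ f = 𝟙 Y) (y : Y) :
    i.base y ∈ f.smoothLocus ↔
      ∃ (U : Y.Opens) (V : X.Opens) (_ : y ∈ U) (hUV : U ≤ i ⁻¹ᵁ V) (hVU : V ≤ f ⁻¹ᵁ U) (m : ℕ)
        (v : ULift.{u} (Fin m) → Γ(V, ⊤)),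
        Etale (AffineSpace.homOfVector (f.resLE U V hVU) v) ∧ ∀ j, (i.resLE V U hUV).appTop (v j) = 0 := by
  classical
  constructor
  · intro hy
    obtain ⟨W, hW, hyW, -⟩ := exists_isAffineOpen_mem_and_subset (U := (⊤ : Y.Opens)) (x := y) trivial
    have hfi : f (i y) = y := by rw [← Scheme.Hom.comp_apply, hi]; rfl
    obtain ⟨V0, hV0, hxV0, hV0le⟩ := exists_isAffineOpen_mem_and_subset (U := f.smoothLocus ⊓ f ⁻¹ᵁ W)
      (x := i y) ⟨hy, show f (i y) ∈ W by rw [hfi]; exact hyW⟩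
    have hV0s : V0 ≤ f.smoothLocus := fun z hz => (hV0le hz).1
    have hV0W : V0 ≤ f ⁻¹ᵁ W := fun z hz => (hV0le hz).2
    obtain ⟨g, hgle, hyg⟩ := hW.exists_basicOpen_le (V := i ⁻¹ᵁ V0) ⟨y, hxV0⟩ hyW
    let V1 : X.Opens := V0 ⊓ f ⁻¹ᵁ Y.basicOpen g
    have hV1 : IsAffineOpen V1 := by
      show IsAffineOpen (V0 ⊓ f ⁻¹ᵁ Y.basicOpen g)
      rw [← Scheme.basicOpen_appLE f V0 W hV0W]
      exact hV0.basicOpen _
    have hU0 : IsAffineOpen (Y.basicOpen g) := hW.basicOpen g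
    have hfi' : ∀ z, f (i z) = z := fun z => by rw [← Scheme.Hom.comp_apply, hi]; rfl
    have hiV : Y.basicOpen g ≤ i ⁻¹ᵁ V1 := fun z hz => ⟨hgle hz, show f (i z) ∈ Y.basicOpen g by rw [hfi']; exact hz⟩
    let f' : (V1 : Scheme.{u}) ⟶ Y := V1.ι ≫ f
    have : Smooth f' := by
      rw [← Scheme.Hom.smoothLocus_eq_top_iff, ← Scheme.Hom.preimage_smoothLocus_eq V1.ι f, eq_top_iff]
      exact fun z _ => hV0s z.2.1
    let φ := f.appLE (Y.basicOpen g) V1 inf_le_right
    let r := i.appLE V1 (Y.basicOpen g) hiV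
    have hr : ∀ a, r (φ a) = a := fun a => by
      have h : φ ≫ r = 𝟙 _ := by
        simp only [φ, r, Scheme.Hom.appLE_comp_appLE]
        have gen : ∀ (g' : Y ⟶ Y) (h : Y.basicOpen g ≤ g' ⁻¹ᵁ Y.basicOpen g), g' = 𝟙 Y →
            g'.appLE _ _ h = 𝟙 _ := by
          rintro _ h rfl
          rw [Scheme.Hom.appLE, Scheme.Hom.id_app]
          exact (Category.id_comp _).trans (Y.presheaf.map_id _)
        exact gen _ _ hi
      exact congr($h a)
    let j : Spec Γ(X, V1) ⟶ V1 := hV1.isoSpec.inv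
    have hj : j ≫ V1.ι = hV1.fromSpec := hV1.isoSpec_inv_ι
    have hjf : j ≫ f' = Spec.map φ ≫ hU0.fromSpec := by
      rw [hU0.SpecMap_appLE_fromSpec f hV1, ← hj, Category.assoc]
    obtain ⟨n, hn, c, b, hc, hb, he⟩ := Groth.SmoothSlice.exists_etale_coords_scheme f' φ hU0.fromSpec j hjf
      (hV1.primeIdealOf ⟨i y, hiV hyg⟩) {a | r a = 0} (by
        letI := φ.hom.toAlgebra
        intro D hD
        refine Derivation.ext fun a => ?_
        have h1 := hD (a - φ (r a)) (show r (a - φ (r a)) = 0 by rw [map_sub, hr, sub_self])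
        have h2 : D (φ (r a)) = 0 := @Derivation.map_algebraMap _ _ _ _ _ _ (φ.hom.toAlgebra) _ _ D (r a)
        rw [map_sub, h2, sub_zero] at h1
        exact h1)
    let Vb := X.basicOpen b
    have hxb : i y ∈ Vb := by
      have : hV1.primeIdealOf ⟨i y, hiV hyg⟩ ∈ hV1.fromSpec ⁻¹ᵁ Vb := by
        rw [hV1.fromSpec_preimage_basicOpen]; exact hb
      have h' : hV1.fromSpec (hV1.primeIdealOf ⟨i y, hiV hyg⟩) ∈ Vb := this
      rwa [hV1.fromSpec_primeIdealOf ⟨i y, hiV hyg⟩] at h'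
    let U : Y.Opens := Y.basicOpen g ⊓ i ⁻¹ᵁ Vb
    let V : X.Opens := Vb ⊓ f ⁻¹ᵁ U
    have hUV : U ≤ i ⁻¹ᵁ V := fun z hz => ⟨hz.2, show f (i z) ∈ U by rw [hfi']; exact hz⟩
    have hVU : V ≤ f ⁻¹ᵁ U := inf_le_right
    have hVV1 : V ≤ V1 := inf_le_left.trans (X.basicOpen_le b)
    let β : Γ(X, V1) ⟶ CommRingCat.of (Localization.Away b) := CommRingCat.ofHom (algebraMap Γ(X, V1) _)
    let k : Spec (CommRingCat.of (Localization.Away b)) ⟶ X := Spec.map β ≫ hV1.fromSpec
    have : IsOpenImmersion (Spec.map β) := IsOpenImmersion.of_isLocalization b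
    have hrange : Set.range V.ι ⊆ Set.range k := by
      rw [Scheme.Opens.range_ι]
      intro z hz
      have : z ∈ Vb := hz.1
      rw [show Vb = hV1.fromSpec ''ᵁ PrimeSpectrum.basicOpen b from (hV1.fromSpec_image_basicOpen b).symm] at this
      obtain ⟨p, hp, rfl⟩ := this
      obtain ⟨p', rfl⟩ : p ∈ Set.range (Spec.map β) := by
        rw [show Set.range (Spec.map β) = _ from PrimeSpectrum.localization_away_comap_range _ b]
        exact hp
      exact ⟨p', rfl⟩
    let l := IsOpenImmersion.lift k V.ι hrange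
    have hl : l ≫ k = V.ι := IsOpenImmersion.lift_fac _ _ _
    have : IsOpenImmersion l := by
      have : IsOpenImmersion (l ≫ k) := hl ▸ inferInstance
      exact IsOpenImmersion.of_comp l k
    have hk : ⊤ ≤ k ⁻¹ᵁ V1 := fun z _ => hV1.range_fromSpec.subset ⟨_, rfl⟩
    have hkV : k.appLE V1 ⊤ hk = β ≫ (Scheme.ΓSpecIso _).inv := by
      rw [Scheme.ΓSpecIso_inv_naturality, Scheme.Hom.comp_appLE, hV1.fromSpec_app_self,
        Category.assoc, Scheme.Hom.map_appLE]
      simp [Scheme.Hom.appLE]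
    have hVι : ⊤ ≤ V.ι ⁻¹ᵁ V1 := fun z _ => hVV1 z.2
    let v : n → Γ(V, ⊤) := fun a => V.ι.appLE V1 ⊤ hVι (c a)
    have het : Etale (AffineSpace.homOfVector (f.resLE U V hVU) v) := by
      have hopen : IsOpenImmersion (AffineSpace.map n U.ι) :=
        MorphismProperty.of_isPullback (AffineSpace.isPullback_map U.ι).flip (inferInstanceAs (IsOpenImmersion U.ι))
      have key : AffineSpace.homOfVector (f.resLE U V hVU) v ≫ AffineSpace.map n U.ι =
          l ≫ AffineSpace.homOfVector (Spec.map β ≫ j ≫ f')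
            (fun a => (Scheme.ΓSpecIso (.of (Localization.Away b))).inv (algebraMap Γ(X, V1) _ (c a))) := by
        rw [Groth.SmoothSlice.homOfVector_map, AffineSpace.comp_homOfVector]
        congr 1
        · rw [Scheme.Hom.resLE_comp_ι, ← hl]
          simp only [k, f', Category.assoc]
          rw [← Category.assoc j V1.ι f, hj]
        · funext a
          show V.ι.appLE V1 ⊤ hVι (c a) = l.appTop ((β ≫ (Scheme.ΓSpecIso _).inv) (c a))
          rw [← hkV, ← CommRingCat.comp_apply]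
          congr 2
          have gen : ∀ (g₁ g₂ : (V : Scheme.{u}) ⟶ X) (e₁ : ⊤ ≤ g₁ ⁻¹ᵁ V1) (e₂ : ⊤ ≤ g₂ ⁻¹ᵁ V1), g₁ = g₂ →
              g₁.appLE V1 ⊤ e₁ = g₂.appLE V1 ⊤ e₂ := by rintro _ _ _ _ rfl; rfl
          rw [show l.appTop = l.appLE ⊤ ⊤ le_top from Scheme.Hom.app_eq_appLE _, Scheme.Hom.appLE_comp_appLE]
          exact gen _ _ _ _ hl.symm
      have : Etale (AffineSpace.homOfVector (f.resLE U V hVU) v ≫ AffineSpace.map n U.ι) := by
        rw [key]; infer_instance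
      exact Etale.of_comp _ (AffineSpace.map n U.ι)
    let e : ULift.{u} (Fin (Nat.card n)) ≃ n := Equiv.ulift.trans (Finite.equivFin n).symm
    have : IsIso (AffineSpace.reindex (e : ULift.{u} (Fin (Nat.card n)) → n) (U : Scheme.{u})) :=
      ⟨⟨AffineSpace.reindex e.symm (U : Scheme.{u}), by ext <;> simp, by ext <;> simp⟩⟩
    refine ⟨U, V, ⟨hyg, hxb⟩, hUV, hVU, Nat.card n, fun a => v (e a), ?_, fun a => ?_⟩
    · rw [show AffineSpace.homOfVector (f.resLE U V hVU) (fun a => v (e a)) =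
        AffineSpace.homOfVector (f.resLE U V hVU) v ≫ AffineSpace.reindex e (U : Scheme.{u}) by
          ext a <;> simp]
      infer_instance
    · show (i.resLE V U hUV).appTop (V.ι.appLE V1 ⊤ hVι (c (e a))) = 0
      have h0 : i.appLE V1 (Y.basicOpen g) hiV (c (e a)) = 0 := hc (e a)
      have hUι : ⊤ ≤ U.ι ⁻¹ᵁ Y.basicOpen g := fun z _ => z.2.1
      have : V.ι.appLE V1 ⊤ hVι ≫ (i.resLE V U hUV).appTop =
          i.appLE V1 (Y.basicOpen g) hiV ≫ U.ι.appLE (Y.basicOpen g) ⊤ hUι := by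
        have gen : ∀ (g₁ g₂ : (U : Scheme.{u}) ⟶ X) (e₁ : ⊤ ≤ g₁ ⁻¹ᵁ V1) (e₂ : ⊤ ≤ g₂ ⁻¹ᵁ V1), g₁ = g₂ →
            g₁.appLE V1 ⊤ e₁ = g₂.appLE V1 ⊤ e₂ := by rintro _ _ _ _ rfl; rfl
        rw [show (i.resLE V U hUV).appTop = (i.resLE V U hUV).appLE ⊤ ⊤ le_top from Scheme.Hom.app_eq_appLE _,
          Scheme.Hom.appLE_comp_appLE, Scheme.Hom.appLE_comp_appLE]
        exact gen _ _ _ _ (Scheme.Hom.resLE_comp_ι i hUV)
      rw [← CommRingCat.comp_apply, this, CommRingCat.comp_apply, h0, map_zero]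
  · rintro ⟨U, V, hyU, hUV, hVU, m, v, het, -⟩
    haveI : Smooth (AffineSpace (ULift.{u} (Fin m)) (U : Scheme.{u}) ↘ (U : Scheme.{u})) :=
      Groth.GrpschAbsch.smooth_affineSpace _ _
    haveI : Smooth (V.ι ≫ f) := by
      rw [← Scheme.Hom.resLE_comp_ι f hVU, ← AffineSpace.homOfVector_over (f.resLE U V hVU) v]
      infer_instance
    have h : V.ι ⁻¹ᵁ f.smoothLocus = ⊤ := by
      rw [Scheme.Hom.preimage_smoothLocus_eq, Scheme.Hom.smoothLocus_eq_top_iff]
      infer_instance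
    exact h.ge (x := ⟨i y, hUV hyU⟩) trivial

end Groth.Agent.S3713
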