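import Groth.Statements.S3718
import Groth.Agent.AbVarMul.KernelComp
import Groth.Agent.AbVarMul.Isogeny
import Groth.Agent.AlgGrp1.Sub

set_option autoImplicit false
universe u
open CategoryTheory MonoidalCategory CartesianMonoidalCategory MonObj GrpObj AlgebraicGeometry
open Pi1

namespace Groth.Agent.S3718

/-- The covers that compute the prime-to-p part of the fundamental group of an abelian variety: let k be
algebraically closed, A an abelian variety over k (a proper, geometrically integral group scheme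
over k) and n ≥ 1 an integer invertible in k. Granted that multiplication by n (the n-th power of
the identity in the group Hom(A, A)) is a finite etale cover of A, it is a Galois cover, and its
automorphisms over A are exactly the translations x -> x + a by the k-points a of A with n a = 0,
each such a giving exactly one automorphism. (With the domination row this identifies the maximal
prime-to-p quotient of the fundamental group with the inverse limit of the prime-to-p torsion
points.) -/
theorem result (k : Type u) [Field k] [IsAlgClosed k]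
    (A : Over (Spec (CommRingCat.of k))) [GrpObj A] [IsProper A.hom] [GeometricallyIntegral A.hom]
    (n : ℕ) (hn1 : 1 ≤ n) (hn : IsUnit ((n : ℕ) : k)) :
    ∀ [hF : IsFinite ((𝟙 A) ^ (n : ℤ)).left] [hE : Etale ((𝟙 A) ^ (n : ℤ)).left],
      PiSp.IsGaloisCover (MorphismProperty.Over.mk ⊤ ((𝟙 A) ^ (n : ℤ)).left ⟨hF, hE⟩ : FEt.Cat A.left) ∧
      (∀ θ : Aut (MorphismProperty.Over.mk ⊤ ((𝟙 A) ^ (n : ℤ)).left ⟨hF, hE⟩ : FEt.Cat A.left),
        ∃! a : 𝟙_ (Over (Spec (CommRingCat.of k))) ⟶ A, a ^ (n : ℤ) = 1 ∧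
          θ.hom.left = ((𝟙 A) * (toUnit A ≫ a)).left) ∧
      (∀ a : 𝟙_ (Over (Spec (CommRingCat.of k))) ⟶ A, a ^ (n : ℤ) = 1 →
        ∃ θ : Aut (MorphismProperty.Over.mk ⊤ ((𝟙 A) ^ (n : ℤ)).left ⟨hF, hE⟩ : FEt.Cat A.left),
          θ.hom.left = ((𝟙 A) * (toUnit A ≫ a)).left) := by
  intro hF hE
  have := Groth.Abvar.isIntegral_left A
  have := GrpschAbsch.isCommMonObj_of_isProper A
  have hn0 : n ≠ 0 := by omega
  set f := (𝟙 A ^ (n : ℤ) : A ⟶ A) with hf
  let tr : (𝟙_ (Over (Spec (CommRingCat.of k))) ⟶ A) → (A ⟶ A) := fun a => 𝟙 A * (toUnit A ≫ a)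
  have hfp : ∀ {T : Over (Spec (CommRingCat.of k))} (a : T ⟶ A), a ≫ f = a ^ n := fun a => by
    rw [GrpObj.comp_zpow, Category.comp_id, zpow_natCast]
  have htr : ∀ {T : Over (Spec (CommRingCat.of k))} (a : 𝟙_ (Over (Spec (CommRingCat.of k))) ⟶ A)
      (x : T ⟶ A), x ≫ tr a = x * (toUnit T ≫ a) := fun a x => by
    simp only [tr, MonObj.comp_mul, Category.comp_id, ← Category.assoc, comp_toUnit]
  have htrf : ∀ a : 𝟙_ (Over (Spec (CommRingCat.of k))) ⟶ A, a ^ (n : ℤ) = 1 → tr a ≫ f = f := fun a ha => by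
    rw [hfp]
    show (𝟙 A * (toUnit A ≫ a)) ^ n = f
    rw [mul_pow, ← MonObj.comp_pow, show a ^ n = 1 by rw [← zpow_natCast]; exact ha, MonObj.comp_one,
      _root_.mul_one, hf, zpow_natCast]
  -- translations by torsion points as automorphisms of the cover
  have haut : ∀ a : 𝟙_ (Over (Spec (CommRingCat.of k))) ⟶ A, a ^ (n : ℤ) = 1 →
      ∃ θ : Aut (MorphismProperty.Over.mk ⊤ f.left ⟨hF, hE⟩ : FEt.Cat A.left), θ.hom.left = (tr a).left := by
    intro a ha
    have h1 : tr a ≫ tr a⁻¹ = 𝟙 A := by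
      rw [htr]
      show 𝟙 A * (toUnit A ≫ a) * (toUnit A ≫ a⁻¹) = 𝟙 A
      rw [GrpObj.comp_inv, mul_inv_cancel_right]
    have h2 : tr a⁻¹ ≫ tr a = 𝟙 A := by
      rw [htr]
      show 𝟙 A * (toUnit A ≫ a⁻¹) * (toUnit A ≫ a) = 𝟙 A
      rw [GrpObj.comp_inv, inv_mul_cancel_right]
    let e : A.left ≅ A.left := ⟨(tr a).left, (tr a⁻¹).left,
      (Over.comp_left _ _ _ (tr a) (tr a⁻¹)).symm.trans (congrArg Over.Hom.left h1),
      (Over.comp_left _ _ _ (tr a⁻¹) (tr a)).symm.trans (congrArg Over.Hom.left h2)⟩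
    exact ⟨MorphismProperty.Over.isoMk e ((Over.comp_left _ _ _ (tr a) f).symm.trans
      (congrArg Over.Hom.left (htrf a ha))), rfl⟩
  refine ⟨⟨inferInstanceAs (ConnectedSpace A.left), fun Ω _ _ ξ s t => ?_⟩, fun θ => ?_, haut⟩
  · let T : Over (Spec (CommRingCat.of k)) := Over.mk (ξ ≫ A.hom)
    let p₀ : T.left := IsLocalRing.closedPoint Ω
    have hw : ∀ u : FEt.fiberObj ξ (MorphismProperty.Over.mk ⊤ f.left ⟨hF, hE⟩ : FEt.Cat A.left),
        u.1 ≫ A.hom = ξ ≫ A.hom := fun u => by
      have h : u.1 ≫ f.left = ξ := u.2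
      exact ((congrArg (u.1 ≫ ·) (Over.w f)).symm.trans (Category.assoc _ _ _).symm).trans
        (congrArg (· ≫ A.hom) h)
    let s' : T ⟶ A := Over.homMk s.1 (hw s)
    let t' : T ⟶ A := Over.homMk t.1 (hw t)
    have hst : s' ≫ f = t' ≫ f := Over.OverMorphism.ext (s.2.trans t.2.symm)
    let d : T ⟶ A := s'⁻¹ * t'
    have hd : d ≫ f = 1 := by
      rw [hfp, hfp] at hst
      rw [hfp, mul_pow, inv_pow, hst, inv_mul_cancel]
    -- the kernel has only rational points
    obtain ⟨a, ha, hda⟩ : ∃ a : 𝟙_ (Over (Spec (CommRingCat.of k))) ⟶ A,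
        a ^ (n : ℤ) = 1 ∧ toUnit T ≫ a = d := by
      have hcl : IsClosed ({d.left p₀} : Set A.left) := by
        have hfib : (f.left.base ⁻¹' {η[A].left (IsLocalRing.closedPoint k)}).Finite :=
          f.left.finite_preimage_singleton _
        have := LocallyOfFiniteType.jacobsonSpace A.hom
        have hη : IsClosed ({η[A].left (IsLocalRing.closedPoint k)} : Set A.left) :=
          (pointEquivClosedPoint A.hom ⟨η[A].left, Over.w η[A]⟩).2
        have hF' : IsClosed (f.left.base ⁻¹' {η[A].left (IsLocalRing.closedPoint k)}) :=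
          hη.preimage f.left.continuous
        have hsub : f.left.base ⁻¹' {η[A].left (IsLocalRing.closedPoint k)} ⊆ closedPoints A.left := by
          intro x hx
          have hfin := hfib.inter_of_left (closedPoints A.left)
          have hc : IsClosed (f.left.base ⁻¹' {η[A].left (IsLocalRing.closedPoint k)} ∩ closedPoints A.left) := by
            rw [← Set.biUnion_of_singleton (_ ∩ closedPoints A.left)]
            exact hfin.isClosed_biUnion fun q hq => hq.2
          have := (JacobsonSpace.closure_inter_closedPoints_eq_closure hF'.isLocallyClosed).trans hF'.closure_eq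
          rw [hc.closure_eq] at this
          exact (this.ge hx).2
        refine hsub ?_
        show f.left (d.left p₀) = _
        rw [← Scheme.Hom.comp_apply, ← Over.comp_left, hd, Hom.one_def, Over.comp_left, Scheme.Hom.comp_apply]
        exact congrArg η[A].left (Subsingleton.elim (α := PrimeSpectrum k) _ _)
      obtain ⟨a, ha⟩ := Groth.AbVarMul.exists_point' _ hcl
      have hai : IsClosedImmersion a.left := by
        have : IsClosedImmersion (a.left ≫ A.hom) := by
          rw [Over.w]; exact inferInstanceAs (IsClosedImmersion (𝟙 _))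
        exact IsClosedImmersion.of_comp a.left A.hom
      have : IsReduced T.left := inferInstanceAs (IsReduced (Spec (CommRingCat.of Ω)))
      obtain ⟨z, hz⟩ := Groth.AlgGrp1.exists_factor_of_range_subset a d (by
        rintro _ ⟨x, rfl⟩
        rw [Subsingleton.elim (α := PrimeSpectrum Ω) x p₀, ← ha]
        exact ⟨_, rfl⟩)
      rw [toUnit_unique z (toUnit T)] at hz
      refine ⟨a, ?_, hz⟩
      have hTs : Surjective (toUnit T).left := ⟨fun x => ⟨p₀, Subsingleton.elim (α := PrimeSpectrum k) _ _⟩⟩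
      refine (Groth.AbVarMul.point_ext' ?_)
      rw [zpow_natCast, ← hfp]
      show f.left (a.left (IsLocalRing.closedPoint k)) = _
      rw [show a.left (IsLocalRing.closedPoint k) = d.left p₀ from ha, ← Scheme.Hom.comp_apply,
        ← Over.comp_left, hd, Hom.one_def, Hom.one_def, Over.comp_left, Scheme.Hom.comp_apply]
      exact congrArg η[A].left (Subsingleton.elim (α := PrimeSpectrum k) _ _)
    obtain ⟨θ, hθ⟩ := haut a ha
    refine ⟨θ, Subtype.ext ?_⟩
    show s.1 ≫ θ.hom.left = t.1
    rw [hθ]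
    have h : s' ≫ tr a = t' := by rw [htr, hda, mul_inv_cancel_left]
    exact congrArg Over.Hom.left h
  · have hw : θ.hom.left ≫ f.left = f.left := MorphismProperty.Over.w θ.hom
    let θ' : A ⟶ A := Over.homMk θ.hom.left (by
      exact ((congrArg (θ.hom.left ≫ ·) (Over.w f)).symm.trans (Category.assoc _ _ _).symm).trans
        ((congrArg (· ≫ A.hom) hw).trans (Over.w f)))
    have hθf : θ' ≫ f = f := Over.OverMorphism.ext hw
    let a : 𝟙_ (Over (Spec (CommRingCat.of k))) ⟶ A := η[A] ≫ θ'
    have ha : a ^ (n : ℤ) = 1 := by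
      rw [zpow_natCast, ← hfp, Category.assoc, hθf, hfp, MonObj.one_eq_one, one_pow]
    let j : A ⟶ A := θ' * (tr a)⁻¹
    have hj : j ^ n = 1 := by
      rw [mul_pow, inv_pow, ← hfp, ← hfp, hθf, htrf a ha, mul_inv_cancel]
    have hηj : η[A] ≫ j = 1 := by
      rw [MonObj.comp_mul, GrpObj.comp_inv, htr, MonObj.one_eq_one,
        toUnit_unique (toUnit (𝟙_ _)) (𝟙 (𝟙_ _)), Category.id_comp]
      rw [_root_.one_mul]
      show _ * (η[A] ≫ θ')⁻¹ = 1
      rw [MonObj.one_eq_one, mul_inv_cancel]
    have hj0 : j.left (η[A].left (IsLocalRing.closedPoint k)) = η[A].left.base (IsLocalRing.closedPoint k) := by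
      rw [← Scheme.Hom.comp_apply, ← Over.comp_left, hηj, ← MonObj.one_eq_one]
    have hsub := Groth.AbVarMul.subsingleton_range_of_pow_eq_one j _ hj0 hn0 hj
    have hj1 : j = 1 := by
      refine Groth.AbVarMul.eq_of_closedPoints fun z _ => ?_
      rw [hsub ⟨z, rfl⟩ ⟨_, rfl⟩, hj0, Hom.one_def, Over.comp_left, Scheme.Hom.comp_apply]
      exact congrArg η[A].left.base (Subsingleton.elim (α := PrimeSpectrum k) _ _)
    have hθtr : θ' = tr a := mul_inv_eq_one.1 hj1
    refine ⟨a, ⟨ha, congrArg Over.Hom.left hθtr⟩, fun b ⟨_, hb⟩ => ?_⟩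
    have hb' : θ' = tr b := Over.OverMorphism.ext hb
    have h := congrArg (η[A] ≫ ·) (hθtr.symm.trans hb')
    change η[A] ≫ tr a = η[A] ≫ tr b at h
    rw [htr, htr, MonObj.one_eq_one, _root_.one_mul, _root_.one_mul,
      toUnit_unique (toUnit (𝟙_ _)) (𝟙 (𝟙_ _)), Category.id_comp, Category.id_comp] at h
    exact h.symm


end Groth.Agent.S3718
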