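import Groth.Statements.S3720
import Groth.Agent.Pi1Quot.TorsorAlg

set_option autoImplicit false
set_option backward.isDefEq.respectTransparency false
set_option backward.defeqAttrib.useBackward true
set_option linter.style.haveILetI false
open CategoryTheory CategoryTheory.Limits AlgebraicGeometry
universe u
open SGA1t

namespace Groth.Agent.S3720

/-- Kummer theory over a local ring: let A be a local ring, n ≥ 1 an integer invertible in A, and
suppose A contains a primitive n-th root of unity (so that the group μ_n(A) of n-th roots of unity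
in A is cyclic of order n). Then every principal μ_n(A)-cover P of Spec A is isomorphic over Spec A
to a Kummer cover Spec A[T]/(Tⁿ − a) for some unit a of A, compatibly with the actions: the given
action of a root of unity ζ on P corresponds to the automorphism of A[T]/(Tⁿ − a) induced by T ↦ ζT. -/
theorem result (A : Type u) [CommRing A] [IsLocalRing A] (n : ℕ) (hn1 : 1 ≤ n)
    (hn : IsUnit ((n : ℕ) : A)) (ζ₀ : A) (hζ₀ : IsPrimitiveRoot ζ₀ n)
    (P : FEt.Cat (Spec (CommRingCat.of A))) (ρ : ↥(rootsOfUnity n A) →* Aut P)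
    (hP : SGA1t.IsPrincipal ↥(rootsOfUnity n A) P ρ) :
    ∃ (a : Aˣ) (e : P.left ≅ Spec (CommRingCat.of (SGA1t.kummer A (fun _ : Unit => (a : A)) (fun _ => n)))),
      e.hom ≫ Spec.map (CommRingCat.ofHom (algebraMap A (SGA1t.kummer A (fun _ : Unit => (a : A)) (fun _ => n)))) = P.hom ∧
      ∀ ζ : ↥(rootsOfUnity n A), (ρ ζ).hom.left ≫ e.hom =
        e.hom ≫ Spec.map (CommRingCat.ofHom (SGA1t.kummerTwist A (fun _ : Unit => (a : A)) (fun _ => n) (fun _ => ζ))) := by
  classical
  have hA : ∀ u : A, u ^ n = 1 → u = 1 ∨ IsUnit (u - 1) := by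
    intro u hu
    refine or_iff_not_imp_right.2 fun hnu => sub_eq_zero.1 ?_
    have hg : (∑ i ∈ Finset.range n, u ^ i) * (u - 1) = 0 := by rw [geom_sum_mul, hu, sub_self]
    have hS : IsUnit (∑ i ∈ Finset.range n, u ^ i) := by
      refine IsLocalRing.notMem_maximalIdeal.1 fun hm => ?_
      refine IsLocalRing.notMem_maximalIdeal.2 hn ?_
      rw [← IsLocalRing.residue_eq_zero_iff] at hm ⊢
      have hu1 : IsLocalRing.residue A u = 1 := by
        rw [← sub_eq_zero, ← map_one (IsLocalRing.residue A), ← map_sub, IsLocalRing.residue_eq_zero_iff]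
        exact hnu
      simpa [hu1] using hm
    exact hS.mul_right_eq_zero.1 hg
  let g₀ : ↥(rootsOfUnity n A) := ⟨(hζ₀.isUnit (by omega)).unit, by
    rw [mem_rootsOfUnity]; ext; simp [hζ₀.pow_eq_one]⟩
  have hg₀ : ((g₀ : Aˣ) : A) = ζ₀ := IsUnit.unit_spec _
  have hpow : ∀ i : ℕ, (((g₀ ^ i : ↥(rootsOfUnity n A)) : Aˣ) : A) = ζ₀ ^ i := fun i => by
    rw [SubmonoidClass.coe_pow, Units.val_pow_eq_pow_val, hg₀]
  have hval : ∀ g : ↥(rootsOfUnity n A), ((g : Aˣ) : A) ^ n = 1 := fun g =>
    (mem_rootsOfUnity' _ _).1 g.2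
  have hprim : IsPrimitiveRoot (IsLocalRing.residue A ζ₀) n := by
    refine IsPrimitiveRoot.mk_of_lt _ (by omega) (by rw [← map_pow, hζ₀.pow_eq_one, map_one]) fun l hl0 hl h => ?_
    rcases hA (ζ₀ ^ l) (by rw [← pow_mul, mul_comm, pow_mul, hζ₀.pow_eq_one, one_pow]) with h1 | h1
    · exact hζ₀.pow_ne_one_of_pos_of_lt hl0.ne' hl h1
    · refine IsLocalRing.notMem_maximalIdeal.2 h1 ?_
      rw [← IsLocalRing.residue_eq_zero_iff, map_sub, map_pow, h, map_one, sub_self]
  have hsurjG : Function.Surjective fun i : Fin n => g₀ ^ (i : ℕ) := by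
    intro g
    haveI : NeZero n := ⟨by omega⟩
    obtain ⟨i, hi, hig⟩ := hprim.eq_pow_of_pow_eq_one
      (show IsLocalRing.residue A ((g : Aˣ) : A) ^ n = 1 by rw [← map_pow, hval, map_one])
    refine ⟨⟨i, hi⟩, (?_ : g₀ ^ i = g)⟩
    rw [eq_comm, ← mul_inv_eq_one]
    refine Subtype.ext (Units.ext ((hA _ (hval _)).resolve_right fun hu => ?_))
    refine IsLocalRing.notMem_maximalIdeal.2 hu ?_
    rw [← IsLocalRing.residue_eq_zero_iff, map_sub, map_one, sub_eq_zero, Subgroup.coe_mul, Units.val_mul,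
      map_mul, ← hig, ← map_pow, ← hpow, ← map_mul, ← Units.val_mul, ← Subgroup.coe_mul, mul_inv_cancel]
    exact map_one _
  haveI : Finite ↥(rootsOfUnity n A) := Finite.of_surjective _ hsurjG
  have hcard : Nat.card ↥(rootsOfUnity n A) = n := by
    have hbij : Function.Bijective fun i : Fin n => g₀ ^ (i : ℕ) := by
      refine ⟨fun i j h => Fin.ext (hζ₀.pow_inj i.2 j.2 ?_), hsurjG⟩
      rw [← hpow, ← hpow]
      exact congrArg (fun g : ↥(rootsOfUnity n A) => ((g : Aˣ) : A)) h
    rw [← Nat.card_congr (Equiv.ofBijective _ hbij), Nat.card_fin]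
  letI : Fintype ↥(rootsOfUnity n A) := Fintype.ofFinite _
  obtain ⟨B, _, _, act, _, e, he, hact, hfree, hinv, hfs⟩ := Pi1Quot.exists_galois_algebra P ρ hP
  letI : SMul ↥(rootsOfUnity n A) B := act.toSMul
  letI : MulAction ↥(rootsOfUnity n A) B := act.toMulAction
  letI : DistribMulAction ↥(rootsOfUnity n A) B := act.toDistribMulAction
  haveI : Algebra.IsIntegral A B := Algebra.IsInvariant.isIntegral A B ↥(rootsOfUnity n A)
  haveI : Nontrivial B := (FaithfulSMul.algebraMap_injective A B).nontrivial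
  let χ : ↥(rootsOfUnity n A) → B := fun g => algebraMap A B ((g : Aˣ) : A)
  have hχfix : ∀ g h : ↥(rootsOfUnity n A), g • χ h = χ h := fun g h => smul_algebraMap g ((h : Aˣ) : A)
  have hχmul : ∀ g h, χ (g * h) = χ g * χ h := fun g h => by
    simp only [χ, Subgroup.coe_mul, Units.val_mul, map_mul]
  have hχ1 : χ 1 = 1 := map_one (algebraMap A B)
  have hχu : ∀ g, IsUnit (χ g) := fun g => (g : Aˣ).isUnit.map (algebraMap A B)
  -- an eigenvector
  let T : B → B := fun b => ∑ g, χ g * g • b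
  have hT : ∀ (h : ↥(rootsOfUnity n A)) b, h • T b = χ h⁻¹ * T b := fun h b => by
    rw [show h • T b = MulSemiringAction.toRingHom _ B h (T b) from rfl]
    simp only [T, map_sum, Finset.mul_sum, MulSemiringAction.toRingHom_apply]
    refine Fintype.sum_bijective (h * ·) (Group.mulLeft_bijective h) _ _ fun g => ?_
    rw [smul_mul', hχfix, smul_smul, ← mul_assoc (χ h⁻¹), ← hχmul, inv_mul_cancel_left]
  obtain ⟨ι, _, x, y, hxy⟩ := Pi1Quot.exists_galois_coords (G := ↥(rootsOfUnity n A)) hfree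
  have hxT : ∑ i, x i * T (y i) = 1 := by
    simp only [T, Finset.mul_sum]
    rw [Finset.sum_comm]
    have : ∀ g, ∑ i, x i * (χ g * g • y i) = χ g * if g = 1 then 1 else 0 := fun g => by
      rw [← hxy g, Finset.mul_sum]
      exact Finset.sum_congr rfl fun i _ => by ring
    simp [this, hχ1]
  obtain ⟨q, hq⟩ := Ideal.exists_maximal B
  obtain ⟨i, hi⟩ : ∃ i, T (y i) ∉ q := by
    by_contra h
    push Not at h
    refine hq.ne_top (q.eq_top_of_isUnit_mem ?_ isUnit_one)
    rw [← hxT]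
    exact Ideal.sum_mem _ fun i _ => q.mul_mem_left _ (h i)
  obtain ⟨θ, hθu, hθ⟩ : ∃ θ : B, IsUnit θ ∧ ∀ h : ↥(rootsOfUnity n A), h • θ = χ h⁻¹ * θ := by
    refine ⟨T (y i), ?_, fun h => hT h _⟩
    by_contra hnu
    obtain ⟨q', hq', hq'mem⟩ := exists_max_ideal_of_mem_nonunits hnu
    open scoped Pointwise in
    obtain ⟨g, rfl⟩ := Algebra.IsInvariant.exists_smul_of_under_eq A B ↥(rootsOfUnity n A) q q' (by
      haveI := Ideal.IsMaximal.under A q
      haveI := Ideal.IsMaximal.under A q'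
      exact (IsLocalRing.eq_maximalIdeal inferInstance).trans (IsLocalRing.eq_maximalIdeal inferInstance).symm)
    rw [Ideal.mem_pointwise_smul_iff_inv_smul_mem, hT, inv_inv] at hq'mem
    exact hi ((hq.isPrime.mem_or_mem hq'mem).resolve_left fun hmem =>
      hq.ne_top (q.eq_top_of_isUnit_mem hmem (hχu g)))
  obtain ⟨a₀, ha₀⟩ : ∃ a : A, algebraMap A B a = θ ^ n :=
    Algebra.IsInvariant.isInvariant (A := A) (G := ↥(rootsOfUnity n A)) (θ ^ n) fun g => by
      rw [smul_pow' g, hθ, mul_pow]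
      simp only [χ, ← map_pow, hval, map_one, one_mul]
  have ha₀u : IsUnit a₀ := by
    haveI : Algebra.IsIntegral A B := inferInstance
    by_contra hnu
    obtain ⟨Q, hQ, hQm⟩ := Ideal.exists_ideal_over_maximal_of_isIntegral (IsLocalRing.maximalIdeal A)
      (by rw [(RingHom.injective_iff_ker_eq_bot _).1 (FaithfulSMul.algebraMap_injective A B)]; exact bot_le)
    exact hQ.ne_top (Q.eq_top_of_isUnit_mem
      (show algebraMap A B a₀ ∈ Q from Ideal.mem_comap.1 (hQm ▸ (show a₀ ∈ IsLocalRing.maximalIdeal A from hnu)))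
      (by rw [ha₀]; exact hθu.pow n))
  obtain ⟨a, rfl⟩ := ha₀u
  let φ : SGA1t.kummer A (fun _ : Unit => (a : A)) (fun _ => n) →ₐ[A] B :=
    Ideal.Quotient.liftₐ _ (MvPolynomial.aeval fun _ : Unit => θ) fun q hq => by
      refine Submodule.span_induction ?_ (map_zero _) (fun u v _ _ hu hv => by simp [hu, hv])
        (fun r u _ hu => by simp [hu]) hq
      rintro _ ⟨i, rfl⟩
      simp [ha₀]
  have hφ : ∀ q : MvPolynomial Unit A, φ (Ideal.Quotient.mk _ q) = MvPolynomial.aeval (fun _ : Unit => θ) q :=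
    fun _ => rfl
  have hbij : Function.Bijective φ := by
    refine Pi1Quot.bijective_of_root (G := ↥(rootsOfUnity n A)) φ
      (Ideal.Quotient.mk _ (MvPolynomial.X ())) θ ((hφ _).trans (MvPolynomial.aeval_X _ _)) ?_
      (Polynomial.X ^ n - Polynomial.C (a : A)) (Polynomial.monic_X_pow_sub_C _ (by omega))
      (by rw [Polynomial.natDegree_X_pow_sub_C, hcard]) ?_ ?_
    · intro z
      obtain ⟨q, rfl⟩ := Ideal.Quotient.mk_surjective z
      induction q using MvPolynomial.induction_on with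
      | C r => exact ⟨Polynomial.C r, Polynomial.aeval_C _ _⟩
      | add u v hu hv =>
        obtain ⟨u', hu'⟩ := hu
        obtain ⟨v', hv'⟩ := hv
        exact ⟨u' + v', by rw [map_add, map_add, hu', hv']⟩
      | mul_X u k hu =>
        obtain ⟨u', hu'⟩ := hu
        exact ⟨u' * Polynomial.X, by rw [map_mul, map_mul, hu', Polynomial.aeval_X]⟩
    · rw [map_sub, map_pow, Polynomial.aeval_X, Polynomial.aeval_C, ← map_pow]
      refine sub_eq_zero.2 (Ideal.Quotient.eq.2 (Ideal.subset_span ⟨(), ?_⟩))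
      rfl
    · intro g h hgh
      rw [hθ, hθ, ← sub_mul]
      refine IsUnit.mul ?_ hθu
      have e1 : χ g⁻¹ - χ h⁻¹ = χ h⁻¹ * (χ (h * g⁻¹) - 1) := by
        rw [mul_sub, mul_one, ← hχmul, inv_mul_cancel_left]
      rw [e1]
      refine (hχu _).mul ?_
      simp only [χ]
      rw [← map_one (algebraMap A B), ← map_sub]
      refine ((hA _ (hval _)).resolve_left fun h1 => hgh ?_).map _
      exact (mul_inv_eq_one.1 (Subtype.ext (Units.ext h1))).symm
  let eB : Spec (CommRingCat.of B) ≅ Spec (CommRingCat.of (SGA1t.kummer A (fun _ : Unit => (a : A)) (fun _ => n))) :=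
    Scheme.Spec.mapIso ((RingEquiv.ofBijective φ hbij).toCommRingCatIso.op)
  have heB : eB.hom = Spec.map (CommRingCat.ofHom φ.toRingHom) := rfl
  refine ⟨a, e ≪≫ eB, ?_, fun ζ => ?_⟩
  · rw [Iso.trans_hom, Category.assoc, heB, ← Spec.map_comp, ← CommRingCat.ofHom_comp,
      show φ.toRingHom.comp (algebraMap A _) = algebraMap A B from φ.comp_algebraMap, he]
  · rw [Iso.trans_hom, reassoc_of% (hact ζ), Category.assoc, heB,
      ← Spec.map_comp, ← Spec.map_comp, ← CommRingCat.ofHom_comp, ← CommRingCat.ofHom_comp]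
    congr 3
    refine Ideal.Quotient.ringHom_ext (MvPolynomial.ringHom_ext (fun r => ?_) fun k => ?_)
    · change ζ⁻¹ • φ (Ideal.Quotient.mk _ (MvPolynomial.C r)) =
        φ (Ideal.Quotient.mk _ (MvPolynomial.aeval _ (MvPolynomial.C r)))
      simp [hφ]
    · change ζ⁻¹ • φ (Ideal.Quotient.mk _ (MvPolynomial.X k)) =
        φ (Ideal.Quotient.mk _ (MvPolynomial.aeval _ (MvPolynomial.X k)))
      simp [hφ, hθ, χ]

end Groth.Agent.S3720
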