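import Groth.Statements.S3721
import Groth.Agent.Pi1Quot.TorsorAlg

set_option autoImplicit false
set_option backward.isDefEq.respectTransparency false
set_option backward.defeqAttrib.useBackward true
open CategoryTheory CategoryTheory.Limits AlgebraicGeometry
universe u
open SGA1t

namespace Groth.Agent.S3721

/-- Let p be a prime and A a commutative ring of characteristic p. Then every principal ℤ/p-cover P of
Spec A (a finite étale cover with an action of ℤ/p making it a torsor) is isomorphic over Spec A to
an Artin–Schreier cover Spec A[T]/(T^p − T − a) for some a ∈ A, compatibly with the actions: under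
the isomorphism the given action of j ∈ ℤ/p on P corresponds to the automorphism of the
Artin–Schreier cover induced by T ↦ T + j. The published statement is for any base S of
characteristic p on which Frobenius fixes no nonzero element of H¹(S, O_S); it is stated here for S
= Spec A affine. -/
theorem result (A : Type u) [CommRing A] (p : ℕ) [Fact p.Prime] [CharP A p]
    (P : FEt.Cat (Spec (CommRingCat.of A))) (ρ : Multiplicative (ZMod p) →* Aut P)
    (hP : SGA1t.IsPrincipal (Multiplicative (ZMod p)) P ρ) :
    ∃ (a : A) (e : P.left ≅ Spec (CommRingCat.of (SGA1t.artinSchreier A p a))),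
      e.hom ≫ Spec.map (CommRingCat.ofHom (algebraMap A (SGA1t.artinSchreier A p a))) = P.hom ∧
      ∀ j : ZMod p, (ρ (Multiplicative.ofAdd j)).hom.left ≫ e.hom =
        e.hom ≫ Spec.map (CommRingCat.ofHom (SGA1t.artinSchreierShift A p a j)) := by
  classical
  obtain ⟨B, _, _, act, _, e, he, hact, hfree, hinv, hfs⟩ := Pi1Quot.exists_galois_algebra P ρ hP
  haveI : Nontrivial A := CharP.nontrivial_of_char_ne_one (Fact.out : p.Prime).ne_one
  haveI : CharP B p := charP_of_injective_algebraMap (FaithfulSMul.algebraMap_injective A B) p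
  let ι : ZMod p →+* B := (algebraMap A B).comp (ZMod.castHom (dvd_refl p) A)
  have hιfix : ∀ (g : Multiplicative (ZMod p)) (j : ZMod p), g • ι j = ι j := fun g j => smul_algebraMap g _
  obtain ⟨c, hc⟩ := Pi1Quot.exists_trace_eq_one (A := A) hfree
  obtain ⟨θ, hθ⟩ : ∃ θ : B, ∀ k : Multiplicative (ZMod p), k • θ = θ - ι k.toAdd := by
    refine ⟨∑ g : Multiplicative (ZMod p), ι g.toAdd * g • c, fun k => ?_⟩
    have h1 : ∀ v : Multiplicative (ZMod p) → B, ∑ g, v (k * g) = ∑ g, v g := fun v =>
      Fintype.sum_bijective (k * ·) (Group.mulLeft_bijective k) _ _ fun _ => rfl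
    rw [Finset.smul_sum]
    calc ∑ g : Multiplicative (ZMod p), k • (ι g.toAdd * g • c)
        = ∑ g, (ι (k * g).toAdd * (k * g) • c - ι k.toAdd * (k * g) • c) :=
          Finset.sum_congr rfl fun g _ => by rw [smul_mul', hιfix, smul_smul, toAdd_mul, map_add]; ring
      _ = _ := by
          rw [Finset.sum_sub_distrib, h1 (fun g => ι g.toAdd * g • c), h1 (fun g => ι k.toAdd * g • c),
            ← Finset.mul_sum, hc, mul_one]
  obtain ⟨a, ha⟩ : ∃ a : A, algebraMap A B a = θ ^ p - θ :=
    Algebra.IsInvariant.isInvariant (A := A) (G := Multiplicative (ZMod p)) (θ ^ p - θ) fun k => by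
      rw [smul_sub k, smul_pow' k, hθ, sub_pow_char, ← map_pow, ZMod.pow_card]
      ring
  set f : Polynomial A := Polynomial.X ^ p - Polynomial.X - Polynomial.C a with hf
  have hp1 : 1 < p := (Fact.out : p.Prime).one_lt
  have hlt : (Polynomial.X + Polynomial.C a).degree < (p : WithBot ℕ) := by
    rw [Polynomial.degree_X_add_C]
    exact_mod_cast hp1
  have hmonic : f.Monic := by
    rw [hf, sub_sub]
    exact Polynomial.monic_X_pow_sub hlt
  have hdeg : f.natDegree = Nat.card (Multiplicative (ZMod p)) := by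
    rw [Nat.card_congr Multiplicative.toAdd, Nat.card_zmod, hf, sub_sub]
    refine Polynomial.natDegree_eq_of_degree_eq_some ?_
    rw [Polynomial.degree_sub_eq_left_of_degree_lt (by rwa [Polynomial.degree_X_pow]), Polynomial.degree_X_pow]
  let φ : SGA1t.artinSchreier A p a →ₐ[A] B := Ideal.Quotient.liftₐ _ (Polynomial.aeval θ) fun q hq => by
    obtain ⟨r, rfl⟩ := Ideal.mem_span_singleton'.1 hq
    simp [ha]
  have hφ : ∀ q : Polynomial A, φ (Ideal.Quotient.mk _ q) = Polynomial.aeval θ q := fun _ => rfl
  have hx : ∀ q : Polynomial A, Polynomial.aeval (R := A) (Ideal.Quotient.mk (Ideal.span {f}) Polynomial.X) q =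
      Ideal.Quotient.mk (Ideal.span {f}) q := fun q => by
    rw [← Ideal.Quotient.mkₐ_eq_mk A, Polynomial.aeval_algHom_apply, Polynomial.aeval_X_left_apply]
  have hbij : Function.Bijective φ := by
    refine Pi1Quot.bijective_of_root (G := Multiplicative (ZMod p)) φ (Ideal.Quotient.mk _ Polynomial.X) θ
      ((hφ _).trans (Polynomial.aeval_X θ)) ?_ f hmonic hdeg ?_ ?_
    · intro y
      obtain ⟨q, rfl⟩ := Ideal.Quotient.mk_surjective y
      exact ⟨q, hx q⟩
    · rw [hx]
      exact Ideal.Quotient.eq_zero_iff_mem.2 (Ideal.subset_span rfl)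
    · intro g h hgh
      rw [hθ, hθ, sub_sub_sub_cancel_left, ← map_sub]
      exact (isUnit_iff_ne_zero.2 (sub_ne_zero.2 fun h' => hgh (Multiplicative.toAdd.injective h').symm)).map ι
  let eB : Spec (CommRingCat.of B) ≅ Spec (CommRingCat.of (SGA1t.artinSchreier A p a)) :=
    Scheme.Spec.mapIso ((RingEquiv.ofBijective φ hbij).toCommRingCatIso.op)
  have heB : eB.hom = Spec.map (CommRingCat.ofHom φ.toRingHom) := rfl
  refine ⟨a, e ≪≫ eB, ?_, fun j => ?_⟩
  · rw [Iso.trans_hom, Category.assoc, heB, ← Spec.map_comp, ← CommRingCat.ofHom_comp, show φ.toRingHom.comp (algebraMap A _) = algebraMap A B from φ.comp_algebraMap, he]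
  · rw [Iso.trans_hom, reassoc_of% (hact (Multiplicative.ofAdd j)), Category.assoc, heB,
      ← Spec.map_comp, ← Spec.map_comp, ← CommRingCat.ofHom_comp, ← CommRingCat.ofHom_comp]
    congr 3
    refine Ideal.Quotient.ringHom_ext (Polynomial.ringHom_ext (fun r => ?_) ?_)
    · change (Multiplicative.ofAdd j)⁻¹ • φ (Ideal.Quotient.mk _ (Polynomial.C r)) =
        φ (Ideal.Quotient.mk _ (Polynomial.aeval _ (Polynomial.C r)))
      simp [hφ]
    · change (Multiplicative.ofAdd j)⁻¹ • φ (Ideal.Quotient.mk _ Polynomial.X) =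
        φ (Ideal.Quotient.mk _ (Polynomial.aeval _ Polynomial.X))
      simp [hφ, hθ, ι]

end Groth.Agent.S3721
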