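import Groth.Statements.S3724
import Groth.Agent.DerivedCoh.InjDimGE
import Groth.Agent.KTheory.RPlusBase

set_option autoImplicit false
universe u
open CategoryTheory CategoryTheory.Limits AlgebraicGeometry Opposite
attribute [local instance] HasDerivedCategory.standard
open EtDl

namespace Groth.Agent.S3724

/-- Let f : X -> S be a morphism of quasi-compact quasi-separated schemes with a compactification c, Λ a
commutative ring with n·1 = 0 for some n ≥ 1, and Rf^! any right adjoint of Rf_! : D^+(X_et, Λ) ->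
D^+(S_et, Λ). Let L in D^b(S_et, Λ) have injective dimension at most m, in the sense that Hom(F,
L[i]) = 0 for every sheaf of Λ-modules F on S_et and every i > m. Then Rf^! L has injective
dimension at most m in the same sense on X_et. -/
theorem result {X S : Scheme.{u}} [CompactSpace ↥X] [QuasiSeparatedSpace ↥X] [CompactSpace ↥S] [QuasiSeparatedSpace ↥S]
    {f : X ⟶ S} (c : DEt.Compactification f)
    (Λ : Type (u + 1)) [CommRing Λ] (n : ℕ) (hn : 0 < n) (hΛ : (n : Λ) = 0)
    (G : DerivedCategory.Plus (EtModW.Mod Λ S) ⥤ DerivedCategory.Plus (EtModW.Mod Λ X))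
    (adj : EtDl.RshriekPlus Λ c ⊣ G) (L : DerivedCategory.Plus (EtModW.Mod Λ S)) (a b : ℤ)
    (ha : L.IsGE a) (hb : L.IsLE b) (m : ℤ)
    (hL : ∀ (F : EtModW.Mod Λ S) (i : ℤ), m < i →
      Subsingleton ((DerivedCategory.Plus.singleFunctor (EtModW.Mod Λ S) 0).obj F ⟶ L⟦i⟧))
    (F : EtModW.Mod Λ X) (i : ℤ) (hi : m < i) :
    Subsingleton ((DerivedCategory.Plus.singleFunctor (EtModW.Mod Λ X) 0).obj F ⟶ (G.obj L)⟦i⟧) := by
  have hL' : ∀ (F : EtModW.Mod Λ S) (i : ℤ), m < i →
      Subsingleton ((DerivedCategory.singleFunctor (EtModW.Mod Λ S) i).obj F ⟶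
        DerivedCategory.Plus.ι.obj L) := by
    intro F i hi
    have := hL F i hi
    let e : ((DerivedCategory.singleFunctor (EtModW.Mod Λ S) i).obj F)⟦i⟧ ≅
        (DerivedCategory.singleFunctor (EtModW.Mod Λ S) 0).obj F :=
      ((DerivedCategory.singleFunctors (EtModW.Mod Λ S)).shiftIso i 0 i (add_zero i)).app F
    refine ⟨fun α β => (CategoryTheory.shiftFunctor _ i).map_injective ?_⟩
    rw [← cancel_epi e.inv, ← cancel_mono ((DerivedCategory.Plus.ι.commShiftIso i).inv.app L)]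
    obtain ⟨p, hp⟩ := DerivedCategory.Plus.ι.map_surjective
      (X := (DerivedCategory.Plus.singleFunctor (EtModW.Mod Λ S) 0).obj F) (Y := L⟦i⟧)
      ((e.inv ≫ α⟦i⟧') ≫ (DerivedCategory.Plus.ι.commShiftIso i).inv.app L)
    obtain ⟨q, hq⟩ := DerivedCategory.Plus.ι.map_surjective
      (X := (DerivedCategory.Plus.singleFunctor (EtModW.Mod Λ S) 0).obj F) (Y := L⟦i⟧)
      ((e.inv ≫ β⟦i⟧') ≫ (DerivedCategory.Plus.ι.commShiftIso i).inv.app L)
    exact hp.symm.trans ((congrArg _ (Subsingleton.elim p q)).trans hq)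
  let T := (DerivedCategory.Plus.singleFunctor (EtModW.Mod Λ X) 0).obj F
  have hT : (T⟦-i⟧).IsGE i := DerivedCategory.Plus.TStructure.t.isGE_shift T 0 (-i) i (by omega)
  have h1 : ((EtDl.extZeroPlus Λ c.j).obj (T⟦-i⟧)).IsGE i :=
    Groth.Agent.RPlusBase.isGE_obj _ (T⟦-i⟧) i
  have h2 : ((EtDl.RshriekPlus Λ c).obj (T⟦-i⟧)).IsGE i :=
    Groth.Agent.RPlusBase.isGE_obj _ ((EtDl.extZeroPlus Λ c.j).obj (T⟦-i⟧)) i
  let K := DerivedCategory.Plus.ι.obj ((EtDl.RshriekPlus Λ c).obj (T⟦-i⟧))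
  have : K.IsGE i := inferInstance
  have : K.IsGE (m + 1) := DerivedCategory.TStructure.t.isGE_of_ge K (m + 1) i (by omega)
  have : (DerivedCategory.Plus.ι.obj L).IsGE a := inferInstance
  have hz := Groth.DerivedCoh.InjDimGE.subsingleton_hom (DerivedCategory.Plus.ι.obj L) a m hL' K
  refine ⟨fun α β => ?_⟩
  apply (CategoryTheory.shiftFunctor _ (-i)).map_injective
  rw [← cancel_mono ((shiftFunctorCompIsoId (DerivedCategory.Plus (EtModW.Mod Λ X)) i (-i)
    (add_neg_cancel i)).hom.app (G.obj L))]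
  apply (adj.homEquiv _ _).symm.injective
  apply DerivedCategory.Plus.ι.map_injective
  exact Subsingleton.elim _ _

end Groth.Agent.S3724
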