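import Groth.Statements.S3731
import Groth.Agent.DerivedCoh.GhostChain

set_option autoImplicit false
universe u v
open CategoryTheory CategoryTheory.Limits
attribute [local instance] HasDerivedCategory.standard
open EtDl

namespace Groth.Agent.S3731

/-- Let A be an abelian category, k ≥ 0, and K_0 -> K_1 -> ... -> K_{2k} a chain of 2k morphisms in the
derived category of A such that every K_i has H^p(K_i) = 0 for p outside [0, k] and every morphism
K_i -> K_{i+1} induces the zero map on H^p for all p < k. Let π : K_0 -> H^k(K_0)[-k] be the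
morphism to the top cohomology object placed in degree k that induces the identity on H^k. Then the
composite K_0 -> K_{2k} factors through π. -/
theorem result {A : Type u} [Category.{v} A] [Abelian A] (k : ℕ)
    (K : ComposableArrows (DerivedCategory A) (2 * k))
    (hK : ∀ (i : ℕ) (hi : i ≤ 2 * k) (p : ℤ), p < 0 ∨ (k : ℤ) < p →
      IsZero ((DerivedCategory.homologyFunctor A p).obj (K.obj' i)))
    (hf : ∀ (i : ℕ) (hi : i < 2 * k) (p : ℤ), p < (k : ℤ) →
      (DerivedCategory.homologyFunctor A p).map (K.map' i (i + 1)) = 0)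
    (π : K.obj' 0 ⟶ (DerivedCategory.singleFunctor A (k : ℤ)).obj
      ((DerivedCategory.homologyFunctor A (k : ℤ)).obj (K.obj' 0)))
    (hπ : (DerivedCategory.homologyFunctor A (k : ℤ)).map π ≫
      (DerivedCategory.singleFunctorCompHomologyFunctorIso A (k : ℤ)).hom.app
        ((DerivedCategory.homologyFunctor A (k : ℤ)).obj (K.obj' 0)) = 𝟙 _) :
    ∃ φ : (DerivedCategory.singleFunctor A (k : ℤ)).obj
        ((DerivedCategory.homologyFunctor A (k : ℤ)).obj (K.obj' 0)) ⟶ K.obj' (2 * k),
      K.map' 0 (2 * k) = π ≫ φ := by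
  have hge : ∀ i (hi : i ≤ 2 * k), (K.obj' i).IsGE 0 := fun i hi => by
    rw [DerivedCategory.isGE_iff]
    exact fun p hp => hK i hi p (Or.inl hp)
  have hchain : ∀ (j : ℕ) (hj : j ≤ 2 * k),
      Groth.DerivedCoh.GhostChain.Chain (k : ℤ) 0 j (K.map' 0 j) := by
    intro j
    induction j with
    | zero =>
        intro _
        rw [K.map'_self 0 (by omega)]
        exact .base _ (hge 0 (by omega))
    | succ j ih =>
        intro hj
        rw [K.map'_comp 0 j (j + 1)]
        exact .step _ _ (ih (by omega)) (hge (j + 1) hj) (hf j (by omega))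
  obtain ⟨Z, f, h, hT⟩ := Pretriangulated.distinguished_cocone_triangle₁ π
  have : (K.obj' 0).IsLE (k : ℤ) := by
    rw [DerivedCategory.isLE_iff]
    exact fun p hp => hK 0 (by omega) p (Or.inr hp)
  have hiso : IsIso ((DerivedCategory.homologyFunctor A (k : ℤ)).map π) := by
    have : IsIso ((DerivedCategory.homologyFunctor A (k : ℤ)).map π ≫
        (DerivedCategory.singleFunctorCompHomologyFunctorIso A (k : ℤ)).hom.app
          ((DerivedCategory.homologyFunctor A (k : ℤ)).obj (K.obj' 0))) := by
      rw [hπ]; infer_instance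
    exact IsIso.of_isIso_comp_right _
      ((DerivedCategory.singleFunctorCompHomologyFunctorIso A (k : ℤ)).hom.app
        ((DerivedCategory.homologyFunctor A (k : ℤ)).obj (K.obj' 0 (Nat.zero_le _))))
  have hZ : Z.IsLE ((k : ℤ) - 1) :=
    @Groth.DerivedCoh.GhostChain.isLE_obj₁ A _ _ _ (k : ℤ) _ hT this
      (inferInstanceAs (((DerivedCategory.singleFunctor A (k : ℤ)).obj _).IsGE (k : ℤ)))
      (inferInstanceAs (((DerivedCategory.singleFunctor A (k : ℤ)).obj _).IsLE (k : ℤ))) hiso
  exact Pretriangulated.Triangle.yoneda_exact₂ _ hT (K.map' 0 (2 * k))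
    ((hchain (2 * k) le_rfl).comp_eq_zero (2 * k) 0 (by omega) Z hZ f)

end Groth.Agent.S3731
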