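import Groth.Statements.S3747
import Groth.Agent.KTheory.PushProps
import Groth.Agent.KTheory.AmpleNil

set_option autoImplicit false
universe v u
open CategoryTheory CategoryTheory.Limits AlgebraicGeometry
attribute [local instance] HasDerivedCategory.standard
open KRR
open Groth.KTheory Groth.KTheory.PushRes Groth.KTheory.PushProps Groth.KTheory.LambdaVb Groth.KTheory.Resolution

namespace Groth.Agent.S3747

/-- Let f : X ⟶ Y be a regular closed imbedding of connected Noetherian schemes, where on Y every
coherent module is a quotient of a finite locally free one. Let (KX, PX, φX), (KY, PY, φY) be models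
of the λ-rings K(X), K(Y); let g : K(Y) ⟶ K(X) be the pull-back f^K ([E] ↦ [f^*E]) and h : K(X) ⟶
K(Y) the push-forward f_K ([F] ↦ alternating sum of the terms of a finite locally free resolution of
f_*F). Then h (x · g y) = h x · y for all x, y. -/
theorem result {X Y : Scheme.{u}} (f : X ⟶ Y) (hf : Mor2.IsRegularClosedImmersion f)
    [IsNoetherian X] [ConnectedSpace ↥X] [IsNoetherian Y] [ConnectedSpace ↥Y] (hYe : KRR.HasEnoughLocFree Y)
    (KX : Type v) [CommRing KX] [LambdaRing.LambdaOps KX] (PX : LambdaRing.PosStructure KX) (φX : SGA6.Kvb X →+ KX) (hKX : KRR.IsModel X KX PX φX)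
    (KY : Type v) [CommRing KY] [LambdaRing.LambdaOps KY] (PY : LambdaRing.PosStructure KY) (φY : SGA6.Kvb Y →+ KY) (hKY : KRR.IsModel Y KY PY φY)
    (g : KY →+ KX) (hg : KRR.IsPull f φY φX g) (h : KX →+ KY) (hh : KRR.IsPushCl f φX φY h)
    (x : KX) (y : KY) : h (x * g y) = h x * y := by
  haveI := hf.1
  have key : ∀ F, FlatMod.IsFinLocFree F → ∀ G, FlatMod.IsFinLocFree G →
      h (φX (kcl F) * g (φY (kcl G))) = h (φX (kcl F)) * φY (kcl G) := by
    intro F hF G hG
    have hG' := Groth.LocFree.isFinLocFree_pullback f hG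
    have hT := Groth.LocFree.isFinLocFree_tensorMod hG' hF
    rw [show g (φY (kcl G)) = φX (kcl ((Scheme.Modules.pullback f).obj G)) from hg G hG,
      mul_comm (φX (kcl F)),
      show φX (kcl ((Scheme.Modules.pullback f).obj G)) * φX (kcl F) =
        φX (kcl (CohB1.tensorMod ((Scheme.Modules.pullback f).obj G) F)) from
          hKX.map_mul _ _ hG' hF,
      show h (φX (kcl F)) = φY (eul hYe ((Scheme.Modules.pushforward f).obj F)) from
        pushCl_eq hYe f hh hf hF,
      show h (φX (kcl (CohB1.tensorMod ((Scheme.Modules.pullback f).obj G) F))) =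
        φY (eul hYe ((Scheme.Modules.pushforward f).obj
          (CohB1.tensorMod ((Scheme.Modules.pullback f).obj G) F))) from pushCl_eq hYe f hh hf hT]
    obtain ⟨n, hn⟩ := finRes_push f hf hYe hF
    obtain ⟨hn', he⟩ := finRes_tensor hYe hG hn
    have := Groth.ProjFormula.isIso_pfApp f G hG F
    rw [← eul_iso hYe (asIso (Groth.ProjFormula.pfApp f G F)) ⟨n, hn'⟩, he, mul_comm _ (φY (kcl G))]
    letI := kvbRing Y
    exact map_mul (AmpleNil.modelHom hKY) (kcl G) (eul hYe ((Scheme.Modules.pushforward f).obj F))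
  have h1 : (h.comp ((AddMonoidHom.mulRight (g y)))) = (AddMonoidHom.mulRight y).comp h := by
    refine k_hom_ext hKX fun F hF => ?_
    obtain ⟨y', rfl⟩ := hKY.bijective.2 y
    have h2 : (h.comp (AddMonoidHom.mulLeft (φX (kcl F)))).comp (g.comp φY) =
        (AddMonoidHom.mulLeft (h (φX (kcl F)))).comp φY :=
      Groth.KTheory.k0sub_hom_ext fun G hG => key F hF G hG
    exact congr($h2 y')
  exact congr($h1 x)

end Groth.Agent.S3747
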