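import Groth.Statements.S3748
import Groth.Agent.KTheory.PushProps

set_option autoImplicit false
universe v u
open CategoryTheory CategoryTheory.Limits AlgebraicGeometry
attribute [local instance] HasDerivedCategory.standard
open KRR
open Groth.KTheory Groth.KTheory.PushRes Groth.KTheory.PushProps Groth.KTheory.LambdaVb Groth.KTheory.Resolution

namespace Groth.Agent.S3748

/-- Let f : X ⟶ Y and g : Y ⟶ Z be regular closed imbeddings of connected Noetherian schemes, where on Y
and on Z every coherent module is a quotient of a finite locally free one. With models of K(X),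
K(Y), K(Z) and push-forwards a = f_K, b = g_K, c = (f ≫ g)_K (each defined through finite locally
free resolutions of direct images of bundles), one has c = b ∘ a. -/
theorem result {X Y Z : Scheme.{u}} (f : X ⟶ Y) (g : Y ⟶ Z)
    (hf : Mor2.IsRegularClosedImmersion f) (hg : Mor2.IsRegularClosedImmersion g)
    [IsNoetherian X] [ConnectedSpace ↥X] [IsNoetherian Y] [ConnectedSpace ↥Y] (hYe : KRR.HasEnoughLocFree Y) [IsNoetherian Z] [ConnectedSpace ↥Z] (hZe : KRR.HasEnoughLocFree Z)
    (KX : Type v) [CommRing KX] [LambdaRing.LambdaOps KX] (PX : LambdaRing.PosStructure KX) (φX : SGA6.Kvb X →+ KX) (hKX : KRR.IsModel X KX PX φX)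
    (KY : Type v) [CommRing KY] [LambdaRing.LambdaOps KY] (PY : LambdaRing.PosStructure KY) (φY : SGA6.Kvb Y →+ KY) (hKY : KRR.IsModel Y KY PY φY)
    (KZ : Type v) [CommRing KZ] [LambdaRing.LambdaOps KZ] (PZ : LambdaRing.PosStructure KZ) (φZ : SGA6.Kvb Z →+ KZ) (hKZ : KRR.IsModel Z KZ PZ φZ)
    (a : KX →+ KY) (ha : KRR.IsPushCl f φX φY a) (b : KY →+ KZ) (hb : KRR.IsPushCl g φY φZ b)
    (c : KX →+ KZ) (hc : KRR.IsPushCl (f ≫ g) φX φZ c) : c = b.comp a := by
  haveI := hf.1
  haveI := hg.1
  refine k_hom_ext hKX fun F hF => ?_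
  let e := Equiv.ofBijective φY hKY.bijective
  let e' := AddEquiv.ofBijective φZ hKZ.bijective
  let ψ : SGA6.Kvb Y →+ SGA6.Kvb Z := (e'.symm.toAddMonoidHom.comp b).comp φY
  have hψ : ∀ L, FlatMod.IsFinLocFree L →
      ψ (kcl L) = eul hZe ((Scheme.Modules.pushforward g).obj L) := fun L hL =>
    e'.injective ((e'.apply_symm_apply _).trans (pushCl_eq hZe g hb hg hL))
  obtain ⟨n, hn⟩ := finRes_push f hf hYe hF
  obtain ⟨hfin, he⟩ := finRes_push_of_res hYe hZe g hg ψ hψ hn
  have hiso := (Scheme.Modules.pushforwardComp f g).app F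
  have hfin' := finRes_iso hZe hiso hfin
  obtain ⟨m, hm⟩ := hfin'
  obtain ⟨L, π, hL, hsum⟩ := exists_complex_eul hZe hm
  change c (φX (kcl F)) = b (a (φX (kcl F)))
  rw [show c (φX (kcl F)) = φZ (eul hZe ((Scheme.Modules.pushforward (f ≫ g)).obj F)) by
      rw [hc F hF m L π hL, ← hsum, map_sum]
      exact Finset.sum_congr rfl fun k _ => (map_zsmul φZ _ _).symm,
    show a (φX (kcl F)) = φY (eul hYe ((Scheme.Modules.pushforward f).obj F)) from
      pushCl_eq hYe f ha hf hF,
    ← eul_iso hZe hiso hfin,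
    show eul hZe ((Scheme.Modules.pushforward f ⋙ Scheme.Modules.pushforward g).obj F) = _ from he]
  exact e'.apply_symm_apply _

end Groth.Agent.S3748
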