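import Groth.Statements.S3750
import Groth.Agent.KTheory.PushProps

set_option autoImplicit false
universe v u
open CategoryTheory CategoryTheory.Limits AlgebraicGeometry
attribute [local instance] HasDerivedCategory.standard
open KRR
open Groth.KTheory Groth.KTheory.PushRes Groth.KTheory.PushProps Groth.KTheory.LambdaVb Groth.KTheory.Resolution

namespace Groth.Agent.S3750

/-- Let F : P ⟶ M and f : X ⟶ Y be regular closed imbeddings whose conormal sheaves are locally free of
the same rank d, fitting in a cartesian square with φ : Y ⟶ M and ψ : X ⟶ P (so X = Y ×_M P), all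
these schemes Noetherian and connected and Y, M having enough locally free sheaves. Let k : Z ⟶ Y be
a morphism from a connected Noetherian scheme whose image is disjoint from f(X), and h = k ≫ φ : Z ⟶
M. Then, on models of the λ-rings K(P), K(M) and K(Z), the pull-back h^K : K(M) → K(Z) kills the
image of the push-forward F_K : K(P) → K(M): h^K(F_K(p)) = 0 for every p ∈ K(P). -/
theorem result {X Y P M Z : Scheme.{u}} (F : P ⟶ M) (φ : Y ⟶ M) (f : X ⟶ Y) (ψ : X ⟶ P)
    (hsq : IsPullback f ψ φ F) (hF : Mor2.IsRegularClosedImmersion F) (hf : Mor2.IsRegularClosedImmersion f) (d : ℕ)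
    (hcF : FlatMod.IsFinLocFreeOfRank d (Omega.conormal F)) (hcf : FlatMod.IsFinLocFreeOfRank d (Omega.conormal f))
    (k : Z ⟶ Y) (hk : Disjoint (Set.range k.base) (Set.range f.base))
    [IsNoetherian X] [ConnectedSpace ↥X] [IsNoetherian P] [ConnectedSpace ↥P] [IsNoetherian Z] [ConnectedSpace ↥Z] [IsNoetherian Y] [ConnectedSpace ↥Y] (hYe : KRR.HasEnoughLocFree Y) [IsNoetherian M] [ConnectedSpace ↥M] (hMe : KRR.HasEnoughLocFree M)
    (KP : Type v) [CommRing KP] [LambdaRing.LambdaOps KP] (PP : LambdaRing.PosStructure KP) (φP : SGA6.Kvb P →+ KP) (hKP : KRR.IsModel P KP PP φP)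
    (KM : Type v) [CommRing KM] [LambdaRing.LambdaOps KM] (PM : LambdaRing.PosStructure KM) (φM : SGA6.Kvb M →+ KM) (hKM : KRR.IsModel M KM PM φM)
    (KZ : Type v) [CommRing KZ] [LambdaRing.LambdaOps KZ] (PZ : LambdaRing.PosStructure KZ) (φZ : SGA6.Kvb Z →+ KZ) (hKZ : KRR.IsModel Z KZ PZ φZ)
    (gh : KM →+ KZ) (hgh : KRR.IsPull (k ≫ φ) φM φZ gh)
    (gF : KP →+ KM) (hgF : KRR.IsPushCl F φP φM gF) (p : KP) : gh (gF p) = 0 := by
  haveI := hF.1
  let U : M.Opens := ⟨(Set.range F.base)ᶜ, F.isClosedEmbedding.isClosed_range.isOpen_compl⟩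
  have hU : Set.range (k ≫ φ).base ⊆ Set.range U.ι.base := by
    rw [Scheme.Opens.range_ι]
    rintro _ ⟨z, rfl⟩ ⟨q, hq⟩
    obtain ⟨w, hw, -⟩ := Scheme.Pullback.exists_preimage_pullback (f := φ) (g := F) (k z) q hq.symm
    refine Set.disjoint_left.1 hk ⟨z, rfl⟩ ⟨hsq.isoPullback.inv w, ?_⟩
    rw [← Scheme.Hom.comp_apply, IsPullback.isoPullback_inv_fst]
    exact hw
  let k' : Z ⟶ U := IsOpenImmersion.lift U.ι (k ≫ φ) hU
  have hk' : k' ≫ U.ι = k ≫ φ := IsOpenImmersion.lift_fac _ _ _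
  suffices h : gh.comp gF = 0 from congr($h p)
  refine k_hom_ext hKP fun G hG => ?_
  change gh (gF (φP (kcl G))) = 0
  rw [show gF (φP (kcl G)) = φM (eul hMe ((Scheme.Modules.pushforward F).obj G)) from
    pushCl_eq hMe F hgF hF hG]
  have hpull : gh.comp φM = φZ.comp ((KvbPull.pullHom k').comp (KvbPull.pullHom U.ι)) := by
    refine Groth.KTheory.k0sub_hom_ext fun E hE => ?_
    change gh (φM (kcl E)) = φZ (KvbPull.pullHom k' (KvbPull.pullHom U.ι (kcl E)))
    rw [KvbPull.pullHom_kcl _ hE, KvbPull.pullHom_kcl _ (Groth.LocFree.isFinLocFree_pullback _ hE),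
      show gh (φM (kcl E)) = φZ (kcl ((Scheme.Modules.pullback (k ≫ φ)).obj E)) from hgh E hE]
    exact congrArg φZ (kcl_iso ((Scheme.Modules.pullbackComp k' U.ι).app E ≪≫
      (Scheme.Modules.pullbackCongr hk').app E).symm (Groth.LocFree.isFinLocFree_pullback _ hE))
  have hz : IsZero ((Scheme.Modules.pullback U.ι).obj ((Scheme.Modules.pushforward F).obj G)) := by
    refine IsZero.of_iso ?_ ((Scheme.Modules.restrictFunctorIsoPullback U.ι).app _).symm
    rw [IsZero.iff_id_eq_zero]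
    refine Scheme.Modules.hom_ext _ _ fun V => ?_
    have hV : F ⁻¹ᵁ (U.ι ''ᵁ V) = ⊥ := by
      refine eq_bot_iff.2 fun q hq => ?_
      obtain ⟨v, -, hv⟩ := hq
      exact v.2 ⟨q, hv.symm⟩
    have : Subsingleton Γ((Scheme.Modules.restrictFunctor U.ι).obj
        ((Scheme.Modules.pushforward F).obj G), V) := by
      change Subsingleton Γ(G, F ⁻¹ᵁ (U.ι ''ᵁ V))
      rw [hV]
      exact AddCommGrpCat.subsingleton_of_isZero
        (TopCat.Sheaf.isTerminalOfEmpty
          (⟨G.presheaf, G.isSheaf⟩ : TopCat.Sheaf AddCommGrpCat.{u} P)).isZero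
    ext m
    exact Subsingleton.elim _ _
  obtain ⟨n, hn⟩ := finRes_push F hF hMe hG
  have h := congr($hpull (eul hMe ((Scheme.Modules.pushforward F).obj G)))
  refine h.trans ?_
  change φZ (KvbPull.pullHom k' (KvbPull.pullHom U.ι _)) = 0
  rw [pullHom_eul_of_bundle hMe U hn (Groth.KTheory.LocFree.isFinLocFree_zero hz),
    KvbModel.kcl_zero hz, map_zero, map_zero]

end Groth.Agent.S3750
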