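import Groth.Statements.S3755
import Groth.Agent.KTheory.RegKoszulBC

set_option autoImplicit false
universe v u
open CategoryTheory CategoryTheory.Limits AlgebraicGeometry
attribute [local instance] HasDerivedCategory.standard
open KRR

namespace Groth.Agent.S3755

/-- Let Y be a Noetherian scheme, p : P = P^n_Y ⟶ Y, and F a coherent O_P-module regular relative to p.
Then the canonical homomorphism p^* p_* F ⟶ F (counit of the adjunction between pullback and
pushforward of modules) is an epimorphism, and if Z denotes its kernel then Z(1) is regular. -/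
theorem result (n : ℕ) (Y : Scheme.{u}) [IsNoetherian Y]
    (F : (KRR.PY n Y).Modules) (hF : Coh.IsCoh F) (hreg : KRR.IsRegSheaf n Y F) :
    Epi ((Scheme.Modules.pullbackPushforwardAdjunction (KRR.pr n Y)).counit.app F) ∧
    KRR.IsRegSheaf n Y (KRR.twF n Y 1 (kernel ((Scheme.Modules.pullbackPushforwardAdjunction (KRR.pr n Y)).counit.app F))) := by
  exact ⟨Groth.KTheory.RegKoszul.epi_counit F hF.1 hreg,
    Groth.KTheory.RegKoszul.isRegSheaf_kernel_counit hF.1 hreg⟩

end Groth.Agent.S3755
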