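import Groth.Statements.S3757
import Groth.Agent.S2427
import Groth.Agent.Misc13.ProjFactor
import Groth.Agent.DerivedCoh.PCoh.Pullback

set_option autoImplicit false
universe v u
open CategoryTheory CategoryTheory.Limits AlgebraicGeometry
attribute [local instance] HasDerivedCategory.standard
open KRR

namespace Groth.Agent.S3757

/-- Let Y be a Noetherian scheme, p : P = P^n_Y ⟶ Y the structure morphism of projective n-space over Y,
and F a finite locally free O_P-module. Then there is m₀ such that p_*(F(m)) is a finite locally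
free O_Y-module for every m ≥ m₀. -/
theorem result (n : ℕ) (Y : Scheme.{u}) [IsNoetherian Y]
    (F : (KRR.PY n Y).Modules) (hF : FlatMod.IsFinLocFree F) :
    ∃ m₀ : ℕ, ∀ m : ℕ, m₀ ≤ m →
      FlatMod.IsFinLocFree ((Scheme.Modules.pushforward (KRR.pr n Y)).obj (KRR.twF n Y (m : ℤ) F)) := by
  let p := CohB1.ProjSpaceOver.toBase n Y
  have := Groth.Misc13.ProjFactor.smooth_projSpaceOver_toBase n Y
  have hF' : Coh.IsCoh F := Groth.KTheory.LocFree.isCoh hF
  have hfl : FlatMod.IsFlatOver (𝟙 (KRR.PY n Y) ≫ p) F := by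
    rw [Category.id_comp]
    intro x
    have h1 := Groth.DerivedCoh.PCoh.isFlat_of_isFinLocFree hF x
    have h2 : (p.stalkMap x).hom.Flat := Flat.stalkMap p x
    let _ := (p.stalkMap x).hom.toAlgebra
    let _ := FlatMod.moduleStalkOver p F x
    have : IsScalarTower (Y.presheaf.stalk (p x)) ((KRR.PY n Y).presheaf.stalk x)
        (F.presheaf.stalk x) := .of_algebraMap_smul fun _ _ => rfl
    have : Module.Flat (Y.presheaf.stalk (p x)) ((KRR.PY n Y).presheaf.stalk x) := h2
    have : Module.Flat ((KRR.PY n Y).presheaf.stalk x) (F.presheaf.stalk x) := h1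
    exact Module.Flat.trans (Y.presheaf.stalk (p x)) ((KRR.PY n Y).presheaf.stalk x)
      (F.presheaf.stalk x)
  obtain ⟨n₀, h⟩ := (Groth.Agent.S2427.result n (𝟙 _) F hF').1 hfl
  refine ⟨n₀.toNat, fun m hm => ?_⟩
  have h' := h m (le_trans (Int.self_le_toNat n₀) (by exact_mod_cast hm))
  rw [Category.id_comp] at h'
  obtain ⟨b, -⟩ := Groth.PicAux.exists_braiding F (Twist.twistOver n Y (m : ℤ))
  exact Groth.KTheory.LocFree.isFinLocFree_of_iso ((Scheme.Modules.pushforward p).mapIso
    (PicGrp.tensorModIso (Iso.refl F) ((Scheme.Modules.pullbackId _).app _) ≪≫ b)) h'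

end Groth.Agent.S3757
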