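import Groth.Statements.S3761
import Groth.Agent.KTheory.RegKoszulPush

set_option autoImplicit false
universe v u
open CategoryTheory CategoryTheory.Limits AlgebraicGeometry
attribute [local instance] HasDerivedCategory.standard
open KRR

namespace Groth.Agent.S3761

/-- Let Y be a connected Noetherian scheme and p : P = Pⁿ_Y ⟶ Y projective n-space over Y; fix models of
the λ-rings K(P) and K(Y) (receiving the classes of finite locally free modules) and let g = p_K :
K(P) → K(Y) be the push-forward along p (g[F] = [p_* F] for every regular finite locally free F).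
Then p_K [O_P(−i)] = 0 for 1 ≤ i ≤ n. -/
theorem result (n : ℕ) (Y : Scheme.{u}) [IsNoetherian Y] [ConnectedSpace ↥Y]
    (KP : Type v) [CommRing KP] [LambdaRing.LambdaOps KP] (PP : LambdaRing.PosStructure KP) (φP : SGA6.Kvb (KRR.PY n Y) →+ KP) (hKP : KRR.IsModel (KRR.PY n Y) KP PP φP)
    (KY : Type v) [CommRing KY] [LambdaRing.LambdaOps KY] (PY : LambdaRing.PosStructure KY) (φY : SGA6.Kvb Y →+ KY) (hKY : KRR.IsModel Y KY PY φY)
    (g : KP →+ KY) (hg : KRR.IsPushPr n Y φP φY g) (i : ℕ) (hi : 1 ≤ i) (hin : i ≤ n) :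
    g (φP (KRR.cl (KRR.PY n Y) (KRR.twF n Y (-(i : ℤ)) (Coh.structureModule (KRR.PY n Y))))) = 0 := by
  refine (Groth.KTheory.RegKoszul.g_twist φP φY hKY.bijective hKY.map_one g hg (n - i) (-(i : ℤ)) (by omega)).trans ?_
  rw [Nat.choose_eq_zero_of_lt (by omega), Nat.cast_zero]

end Groth.Agent.S3761
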