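import Groth.Statements.S3766
import Groth.Agent.KTheory.RegKoszulLF
import Groth.Agent.KTheory.PushRes
import Groth.Agent.CohBase.AffineBC
import Groth.Agent.FlatStrata.ProjSpace
import Groth.Agent.KoszulLCI.Kinds
import Groth.Agent.ProjFormula.Derived

set_option autoImplicit false
universe v u
open CategoryTheory CategoryTheory.Limits AlgebraicGeometry
attribute [local instance] HasDerivedCategory.standard
open KRR

namespace Groth.Agent.S3766

section
open Groth.KTheory Groth.KTheory.RegKoszul Groth.PicAux Groth.CohBase Groth.Variety2.Reg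

theorem exists_map_lfRes {Y Z : Scheme.{u}} (G : Y.Modules ⥤ Z.Modules) [G.Additive]
    [PreservesFiniteLimits G] [PreservesFiniteColimits G]
    (hG : ∀ M, FlatMod.IsFinLocFree M → FlatMod.IsFinLocFree (G.obj M))
    {A : Y.Modules} {B : Z.Modules} (e : G.obj A ≅ B) {m : ℕ} {L : ChainComplex Y.Modules ℕ}
    {π : L ⟶ (ChainComplex.single₀ Y.Modules).obj A} (h : KRR.IsLFRes A m L π) :
    ∃ (L' : ChainComplex Z.Modules ℕ) (π' : L' ⟶ (ChainComplex.single₀ Z.Modules).obj B),
      KRR.IsLFRes B m L' π' ∧ ∀ k, Nonempty (L'.X k ≅ G.obj (L.X k)) := by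
  haveI := h.quasiIso
  refine ⟨(G.mapHomologicalComplex _).obj L, (G.mapHomologicalComplex _).map π ≫
    (HomologicalComplex.singleMapHomologicalComplex G (ComplexShape.down ℕ) 0).hom.app A ≫
    (ChainComplex.single₀ Z.Modules).map e.hom, ⟨fun i => hG _ (h.finLocFree i),
      fun i hi => G.map_isZero (h.isZero i hi), inferInstance⟩, fun k => ⟨Iso.refl _⟩⟩

variable {n : ℕ} {X : Scheme.{u}}

theorem kcl_generators [IsNoetherian X] {A : Type*} [AddCommGroup A]
    {f₁ f₂ : SGA6.Kvb (KRR.PY n X) →+ A}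
    (h : ∀ (E : X.Modules), FlatMod.IsFinLocFree E → ∀ k ≤ n,
      f₁ (KRR.cl (KRR.PY n X) (KRR.twF n X (-(k : ℤ)) ((Scheme.Modules.pullback (KRR.pr n X)).obj E))) =
      f₂ (KRR.cl (KRR.PY n X) (KRR.twF n X (-(k : ℤ)) ((Scheme.Modules.pullback (KRR.pr n X)).obj E)))) :
    f₁ = f₂ := by
  obtain ⟨_, _, _⟩ := pr_facts n X
  haveI := isLocallyNoetherian_PY n X
  refine AddMonoidHom.ext fun x => ?_
  obtain ⟨z, rfl⟩ := (bijective_mapSub_regP (n := n) (T := X) (fun _ h => h.1)).2 x
  induction z using k0sub_induction with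
  | h0 => simp
  | hadd a b ha hb => simp only [map_add, ha, hb]
  | hneg a ha => simp only [map_neg, ha]
  | hcl F hF =>
    have eF : SGA6.mapSub (𝟭 (KRR.PY n X).Modules) (RegP n X)
        (KRR.vbP (KRR.PY n X)) (fun _ h => h.1) (KZero.clSub (RegP n X) F) =
        KRR.cl (KRR.PY n X) F := by
      rw [clSub_of hF, KRR.cl, clSub_of hF.1]
      rfl
    rw [eF]
    have hq := LocFree.isQCoh hF.1
    have hT := isFinLocFree_push_seqG (LocFree.isCoh hF.1) (CohBase.isFlatOver_of_isFinLocFree _ hF.1) hF.2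
    have hG : ∀ k, FlatMod.IsFinLocFree (seqG F k) := fun k => by
      induction k with
      | zero => rw [seqG]; exact hF.1
      | succ k ih =>
        haveI : Epi (cou (seqG F k)) := epi_counit _ (seqG_reg hq hF.2 k).1 (seqG_reg hq hF.2 k).2
        rw [seqG]
        exact isFinLocFree_twF 1 (Groth.LocFree.isFinLocFree_left (kernel_shortExact (cou (seqG F k)))
          (Groth.LocFree.isFinLocFree_pullback (KRR.pr n X) (hT k)) ih)
    have key : ∀ (m k : ℕ), n + 1 ≤ k + m →
        f₁ (KRR.cl (KRR.PY n X) (KRR.twF n X (-(k : ℤ)) (seqG F k))) =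
        f₂ (KRR.cl (KRR.PY n X) (KRR.twF n X (-(k : ℤ)) (seqG F k))) := by
      intro m
      induction m with
      | zero =>
        intro k hk
        have hz := ((DCoh.tensorBi (X := KRR.PY n X)).obj (Twist.twistOver n X (-(k : ℤ)))).map_isZero
          (isZero_seqG hq hF.2 k (by omega))
        rw [show KRR.cl (KRR.PY n X) (KRR.twF n X (-(k : ℤ)) (seqG F k)) = 0 from
          clSub_zero (P := KRR.vbP (KRR.PY n X)) hz (LocFree.isFinLocFree_zero hz), map_zero, map_zero]
      | succ m ih =>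
        intro k hk
        rcases Nat.lt_or_ge n k with hnk | hnk
        · exact ih k (by omega)
        haveI : Epi (cou (seqG F k)) := epi_counit _ (seqG_reg hq hF.2 k).1 (seqG_reg hq hF.2 k).2
        have hP := Groth.LocFree.isFinLocFree_pullback (KRR.pr n X) (hT k)
        have hK := Groth.LocFree.isFinLocFree_left (kernel_shortExact (cou (seqG F k))) hP (hG k)
        have hrel := clSub_rel (P := KRR.vbP (KRR.PY n X)) _
          (RegSheaf.shortExact_tw (ShortComplex.mk _ _ (kernel.condition (cou (seqG F k))))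
            (kernel_shortExact (cou (seqG F k))) (LocFree.isQCoh hK) (LocFree.isQCoh hP)
            (LocFree.isQCoh (hG k)) (-(k : ℤ)))
          (isFinLocFree_twF _ hK) (isFinLocFree_twF _ hP) (isFinLocFree_twF _ (hG k))
        have e1 : KRR.cl (KRR.PY n X) (KRR.twF n X (-((k + 1 : ℕ) : ℤ)) (seqG F (k + 1))) =
            KRR.cl (KRR.PY n X) (KRR.twF n X (-(k : ℤ)) (kernel (cou (seqG F k)))) := by
          refine LambdaVb.kcl_iso ?_ (isFinLocFree_twF _ (hG (k + 1)))
          rw [seqG]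
          exact (RegSheaf.nonempty_twF_twF n X _ 1 _ (by push_cast; ring) _).some
        have e2 : KRR.cl (KRR.PY n X) (KRR.twF n X (-(k : ℤ)) (seqG F k)) =
            KRR.cl (KRR.PY n X) (KRR.twF n X (-(k : ℤ)) ((Scheme.Modules.pullback (KRR.pr n X)).obj
              ((Scheme.Modules.pushforward (KRR.pr n X)).obj (seqG F k)))) -
            KRR.cl (KRR.PY n X) (KRR.twF n X (-((k + 1 : ℕ) : ℤ)) (seqG F (k + 1))) := by
          rw [e1]
          exact eq_sub_of_add_eq' hrel.symm
        rw [e2, map_sub, map_sub, h _ (hT k) k hnk, ih (k + 1) (by omega)]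
    have h0 := key (n + 1) 0 (by omega)
    rwa [show KRR.cl (KRR.PY n X) (KRR.twF n X (-((0 : ℕ) : ℤ)) (seqG F 0)) = KRR.cl (KRR.PY n X) F from
      LambdaVb.kcl_iso ((RegSheaf.nonempty_twF_zero n X F).some) (isFinLocFree_twF _ (hG 0))] at h0

end

/-- Let i : X ⟶ Y be a regular closed imbedding of connected Noetherian schemes, j : P^n_X ⟶ P^n_Y the
induced morphism, g : P^n_X ⟶ X and f : P^n_Y ⟶ Y the projections; assume every coherent module on Y
and on P^n_Y is a quotient of a finite locally free one. Then j is a regular closed imbedding and,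
with models of the four K-rings and push-forwards i_K, j_K (via resolutions), g_K, f_K (via regular
sheaves): i_K ∘ g_K = f_K ∘ j_K. -/
theorem result (n : ℕ) {X Y : Scheme.{u}} (i : X ⟶ Y) (hi : Mor2.IsRegularClosedImmersion i)
    [IsNoetherian X] [ConnectedSpace ↥X] [IsNoetherian Y] [ConnectedSpace ↥Y] (hYe : KRR.HasEnoughLocFree Y) (hPe : KRR.HasEnoughLocFree (KRR.PY n Y))
    (KX : Type v) [CommRing KX] [LambdaRing.LambdaOps KX] (PX : LambdaRing.PosStructure KX) (φX : SGA6.Kvb X →+ KX) (hKX : KRR.IsModel X KX PX φX)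
    (KY : Type v) [CommRing KY] [LambdaRing.LambdaOps KY] (PY : LambdaRing.PosStructure KY) (φY : SGA6.Kvb Y →+ KY) (hKY : KRR.IsModel Y KY PY φY)
    (KPX : Type v) [CommRing KPX] [LambdaRing.LambdaOps KPX] (PPX : LambdaRing.PosStructure KPX) (φPX : SGA6.Kvb (KRR.PY n X) →+ KPX) (hKPX : KRR.IsModel (KRR.PY n X) KPX PPX φPX)
    (KPY : Type v) [CommRing KPY] [LambdaRing.LambdaOps KPY] (PPY : LambdaRing.PosStructure KPY) (φPY : SGA6.Kvb (KRR.PY n Y) →+ KPY) (hKPY : KRR.IsModel (KRR.PY n Y) KPY PPY φPY)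
    (gi : KX →+ KY) (hgi : KRR.IsPushCl i φX φY gi)
    (gj : KPX →+ KPY) (hgj : KRR.IsPushCl (KRR.projSpaceMap n i) φPX φPY gj)
    (gX : KPX →+ KX) (hgX : KRR.IsPushPr n X φPX φX gX) (gY : KPY →+ KY) (hgY : KRR.IsPushPr n Y φPY φY gY) :
    Mor2.IsRegularClosedImmersion (KRR.projSpaceMap n i) ∧ gi.comp gX = gY.comp gj := by
  obtain ⟨_, hflat, _⟩ := Groth.KTheory.RegKoszul.pr_facts n Y
  have hsq : IsPullback (KRR.projSpaceMap n i) (KRR.pr n X) (KRR.pr n Y) i :=
    Groth.FlatStrata.isPullback_projMap n i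
  haveI : IsClosedImmersion i := hi.1
  haveI : IsClosedImmersion (KRR.projSpaceMap n i) :=
    MorphismProperty.of_isPullback (P := @IsClosedImmersion) hsq.flip inferInstance
  refine ⟨⟨inferInstance, fun z => ?_⟩, ?_⟩
  · have h1 : RegImm.IsRegularImmersionAt .regular i (KRR.pr n X z) := by
      obtain ⟨U, hU, hz, rs, hrs, hker⟩ := hi.2 (KRR.pr n X z)
      exact ⟨⟨U, hU⟩, hz, IsZariskiLocalAtTarget.restrict hi.1 U, rs, hrs,
        (Scheme.Hom.ker_apply i ⟨U, hU⟩).symm.trans hker⟩
    obtain ⟨U, hz, -, rs, hrs, hker⟩ := Groth.KoszulLCI.isRegularImmersionAt_baseChange_kind .regular i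
      (KRR.pr n Y) (KRR.projSpaceMap n i) (KRR.pr n X) hsq.flip z h1
    exact ⟨U.1, U.2, hz, rs, hrs, (Scheme.Hom.ker_apply _ U).trans hker⟩
  suffices key : (gi.comp gX).comp φPX = (gY.comp gj).comp φPX by
    ext x
    obtain ⟨z, rfl⟩ := hKPX.bijective.2 x
    exact congr($key z)
  refine kcl_generators fun E hE k hk => ?_
  change gi (gX (φPX _)) = gY (gj (φPX _))
  rw [Groth.KTheory.RegKoszul.g_twist_pullback φPX φX hKX.bijective gX hgX hE hk]
  obtain ⟨m, hm⟩ := Groth.KTheory.PushRes.finRes_push i hi hYe hE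
  obtain ⟨L, π, hres, -⟩ := Groth.KTheory.PushRes.exists_complex_eul hYe hm
  let j := KRR.projSpaceMap n i
  let O := Twist.twistOver n Y (-(k : ℤ))
  have hO : FlatMod.IsFinLocFree O := Groth.KTheory.RegSheaf.isFinLocFree_twistOver n Y _
  let G : Y.Modules ⥤ (KRR.PY n Y).Modules :=
    Scheme.Modules.pullback (KRR.pr n Y) ⋙ Groth.CohTwo.SheafHomIso.tF O
  haveI := Groth.ProjFormula.additive_tF O
  haveI := (Groth.ProjFormula.preservesFinite_tF hO).1
  haveI := (Groth.ProjFormula.preservesFinite_tF hO).2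
  haveI := Groth.PrinPartsAux.preservesFiniteLimits_pullback (KRR.pr n Y)
  haveI : PreservesColimitsOfSize.{0, 0} (Scheme.Modules.pullback (KRR.pr n Y)) :=
    (Scheme.Modules.pullbackPushforwardAdjunction (KRR.pr n Y)).leftAdjoint_preservesColimits
  haveI : PreservesFiniteColimits (Scheme.Modules.pullback (KRR.pr n Y)) :=
    PreservesColimitsOfSize.preservesFiniteColimits _
  haveI : G.Additive := inferInstanceAs (_ ⋙ _ : Y.Modules ⥤ (KRR.PY n Y).Modules).Additive
  haveI : PreservesFiniteLimits G := comp_preservesFiniteLimits _ _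
  haveI : PreservesFiniteColimits G := comp_preservesFiniteColimits _ _
  haveI := Groth.KTheory.LocFree.isQCoh hE
  have e : G.obj ((Scheme.Modules.pushforward i).obj E) ≅ (Scheme.Modules.pushforward j).obj
      (KRR.twF n X (-(k : ℤ)) ((Scheme.Modules.pullback (KRR.pr n X)).obj E)) :=
    (Groth.CohTwo.SheafHomIso.tF O).mapIso
        (Groth.CohBase.AffineBC.nonempty_affine_bc hsq.flip E).some ≪≫
      (Groth.ProjFormula.pfIso j O hO).app _ ≪≫
      (Scheme.Modules.pushforward j).mapIso (PicGrp.tensorModIso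
        ((Scheme.Modules.pullbackComp _ _).app _ ≪≫
          (Scheme.Modules.pullbackCongr ((pullback.lift_fst _ _ _).trans (Category.comp_id _))).app _)
        (Iso.refl _))
  have hG : ∀ M, FlatMod.IsFinLocFree M → FlatMod.IsFinLocFree (G.obj M) := fun M hM =>
    Groth.LocFree.isFinLocFree_tensorMod hO (Groth.LocFree.isFinLocFree_pullback (KRR.pr n Y) hM)
  obtain ⟨L', π', hres', hL'⟩ := exists_map_lfRes G hG e hres
  rw [hgj _ (Groth.KTheory.RegKoszul.isFinLocFree_twF _ (Groth.LocFree.isFinLocFree_pullback _ hE)) m L' π' hres',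
    map_sum]
  have hterm : ∀ l, gY (φPY (KRR.cl (KRR.PY n Y) (L'.X l))) =
      if k = 0 then φY (KRR.cl Y (L.X l)) else 0 := by
    intro l
    rw [show KRR.cl (KRR.PY n Y) (L'.X l) = KRR.cl (KRR.PY n Y) (G.obj (L.X l)) from
      Groth.KTheory.LambdaVb.kcl_iso (hL' l).some (hres'.finLocFree l)]
    change gY (φPY (KRR.cl (KRR.PY n Y) (KRR.twF n Y (-(k : ℤ))
      ((Scheme.Modules.pullback (KRR.pr n Y)).obj (L.X l))))) = _
    exact Groth.KTheory.RegKoszul.g_twist_pullback φPY φY hKY.bijective gY hgY (hres.finLocFree l) hk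
  simp only [map_zsmul, hterm]
  split_ifs with h0
  · exact hgi E hE m L π hres
  · simp

end Groth.Agent.S3766
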