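import Groth.Statements.S3767
import Groth.Agent.KTheory.ProjPushSwap

set_option autoImplicit false
universe v u
open CategoryTheory CategoryTheory.Limits AlgebraicGeometry
attribute [local instance] HasDerivedCategory.standard
open KRR

namespace Groth.Agent.S3767

section
open Groth.KTheory Groth.KTheory.ProjPush Groth.KTheory.PushRes Groth.KTheory.LambdaVb Groth.KTheory.LFRes Groth.KTheory.RegKoszul

theorem pushPr_eq {n : ℕ} {T : Scheme.{u}} [IsNoetherian T] {KP KY : Type v} [CommRing KP] [CommRing KY]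
    (φP : SGA6.Kvb (KRR.PY n T) →+ KP) (φY : SGA6.Kvb T →+ KY) (hY : Function.Bijective φY)
    (g : KP →+ KY) (hg : KRR.IsPushPr n T φP φY g) :
    ∃ h, IsPushHom n T h ∧ ∀ x, g (φP x) = φY (h x) := by
  obtain ⟨h, hh, hreg⟩ := exists_transfer φP φY hY g hg
  exact ⟨h, hreg, hh⟩

end

/-- Let Y be a connected Noetherian scheme such that every coherent module on Y, on each P^a_Y and on
each P^a over P^b_Y is a quotient of a finite locally free one, and let f : X ⟶ Y (X connected)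
admit two factorizations f = i₁ ≫ p and f = i₂ ≫ p' with i₁ : X ⟶ P^n_Y, i₂ : X ⟶ P^m_Y regular
closed imbeddings and p, p' the projections. With models of the K-rings, push-forwards (i₁)_K,
(i₂)_K via resolutions and p_K, p'_K via regular sheaves: p_K ∘ (i₁)_K = p'_K ∘ (i₂)_K. So f_K is
well defined. -/
theorem result (n m : ℕ) {X Y : Scheme.{u}} [IsNoetherian Y] [ConnectedSpace ↥Y] (hYe : KRR.HasEnoughLocFree Y) (hstar : ∀ a : ℕ, KRR.HasEnoughLocFree (KRR.PY a Y) ∧ ∀ b : ℕ, KRR.HasEnoughLocFree (KRR.PY a (KRR.PY b Y)))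
    [ConnectedSpace ↥X] (f : X ⟶ Y) (i₁ : X ⟶ KRR.PY n Y) (i₂ : X ⟶ KRR.PY m Y)
    (h₁ : Mor2.IsRegularClosedImmersion i₁) (h₂ : Mor2.IsRegularClosedImmersion i₂)
    (hf₁ : i₁ ≫ KRR.pr n Y = f) (hf₂ : i₂ ≫ KRR.pr m Y = f)
    (KX : Type v) [CommRing KX] [LambdaRing.LambdaOps KX] (PX : LambdaRing.PosStructure KX) (φX : SGA6.Kvb X →+ KX) (hKX : KRR.IsModel X KX PX φX)
    (KY : Type v) [CommRing KY] [LambdaRing.LambdaOps KY] (PY : LambdaRing.PosStructure KY) (φY : SGA6.Kvb Y →+ KY) (hKY : KRR.IsModel Y KY PY φY)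
    (K₁ : Type v) [CommRing K₁] [LambdaRing.LambdaOps K₁] (P₁ : LambdaRing.PosStructure K₁) (φ₁ : SGA6.Kvb (KRR.PY n Y) →+ K₁) (hK₁ : KRR.IsModel (KRR.PY n Y) K₁ P₁ φ₁)
    (K₂ : Type v) [CommRing K₂] [LambdaRing.LambdaOps K₂] (P₂ : LambdaRing.PosStructure K₂) (φ₂ : SGA6.Kvb (KRR.PY m Y) →+ K₂) (hK₂ : KRR.IsModel (KRR.PY m Y) K₂ P₂ φ₂)
    (a₁ : KX →+ K₁) (ha₁ : KRR.IsPushCl i₁ φX φ₁ a₁) (b₁ : K₁ →+ KY) (hb₁ : KRR.IsPushPr n Y φ₁ φY b₁)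
    (a₂ : KX →+ K₂) (ha₂ : KRR.IsPushCl i₂ φX φ₂ a₂) (b₂ : K₂ →+ KY) (hb₂ : KRR.IsPushPr m Y φ₂ φY b₂) :
    b₁.comp a₁ = b₂.comp a₂ := by
  haveI := Groth.KTheory.ProjPush.isNoetherian_PY n Y
  haveI := Groth.KTheory.ProjPush.isNoetherian_PY m Y
  haveI := h₁.1
  haveI := h₂.1
  have hY₁ := (hstar n).1
  have hY₂ := (hstar m).1
  obtain ⟨g₁, hg₁, e₁⟩ := pushPr_eq φ₁ φY hKY.bijective b₁ hb₁
  obtain ⟨g₂, hg₂, e₂⟩ := pushPr_eq φ₂ φY hKY.bijective b₂ hb₂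
  refine Groth.KTheory.PushProps.k_hom_ext hKX fun E hE => ?_
  change b₁ (a₁ (φX (KRR.cl X E))) = b₂ (a₂ (φX (KRR.cl X E)))
  rw [Groth.KTheory.PushRes.pushCl_eq hY₁ i₁ ha₁ h₁ hE, Groth.KTheory.PushRes.pushCl_eq hY₂ i₂ ha₂ h₂ hE,
    e₁, e₂]
  exact congrArg φY (Groth.KTheory.ProjPush.push_indep hY₁ hY₂ i₁ i₂
    (fun F hF => Groth.KTheory.PushRes.finRes_push i₁ h₁ hY₁ hF)
    (fun F hF => Groth.KTheory.PushRes.finRes_push i₂ h₂ hY₂ hF) (hf₁.trans hf₂.symm) hg₁ hg₂ hE)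

end Groth.Agent.S3767
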