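import Groth.Statements.S3768
import Groth.Agent.KTheory.ProjPushSwap

set_option autoImplicit false
universe v u
open CategoryTheory CategoryTheory.Limits AlgebraicGeometry
attribute [local instance] HasDerivedCategory.standard
open KRR

namespace Groth.Agent.S3768

section
open Groth.KTheory Groth.KTheory.ProjPush Groth.KTheory.PushRes Groth.KTheory.LambdaVb Groth.KTheory.LFRes Groth.KTheory.RegKoszul Groth.KTheory.Resolution

theorem pushPr_eq {n : ℕ} {T : Scheme.{u}} [IsNoetherian T] {KP KY : Type v} [CommRing KP] [CommRing KY]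
    (φP : SGA6.Kvb (KRR.PY n T) →+ KP) (φY : SGA6.Kvb T →+ KY) (hY : Function.Bijective φY)
    (g : KP →+ KY) (hg : KRR.IsPushPr n T φP φY g) :
    ∃ h, IsPushHom n T h ∧ ∀ x, g (φP x) = φY (h x) := by
  obtain ⟨h, hh, hreg⟩ := exists_transfer φP φY hY g hg
  exact ⟨h, hreg, hh⟩

/-- Transitivity at the level of `K₀` of bundles. -/
theorem push_comp {n m l : ℕ} {X Y Z : Scheme.{u}} [IsNoetherian Y] [IsNoetherian Z]
    (hY : KRR.HasEnoughLocFree Y) (hY₁ : KRR.HasEnoughLocFree (KRR.PY n Y))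
    (hZ₂ : KRR.HasEnoughLocFree (KRR.PY m Z)) (hZ₃ : KRR.HasEnoughLocFree (KRR.PY l Z))
    [IsLocallyNoetherian (KRR.PY n Y)] [IsLocallyNoetherian (KRR.PY m Z)]
    [IsLocallyNoetherian (KRR.PY l Z)]
    (i : X ⟶ KRR.PY n Y) (hi : Mor2.IsRegularClosedImmersion i)
    (j : Y ⟶ KRR.PY m Z) (hj : Mor2.IsRegularClosedImmersion j)
    (k : X ⟶ KRR.PY l Z) (hk : Mor2.IsRegularClosedImmersion k)
    (hc : k ≫ KRR.pr l Z = i ≫ KRR.pr n Y ≫ j ≫ KRR.pr m Z)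
    {h₁ : SGA6.Kvb (KRR.PY n Y) →+ SGA6.Kvb Y} (hh₁ : IsPushHom n Y h₁)
    {h₂ : SGA6.Kvb (KRR.PY m Z) →+ SGA6.Kvb Z} (hh₂ : IsPushHom m Z h₂)
    {h₃ : SGA6.Kvb (KRR.PY l Z) →+ SGA6.Kvb Z} (hh₃ : IsPushHom l Z h₃)
    (ψ : SGA6.Kvb Y →+ SGA6.Kvb (KRR.PY m Z))
    (hψ : ∀ L, FlatMod.IsFinLocFree L → ψ (kcl L) = eul hZ₂ ((Scheme.Modules.pushforward j).obj L))
    {E : X.Modules} (hE : FlatMod.IsFinLocFree E) :
    h₃ (eul hZ₃ ((Scheme.Modules.pushforward k).obj E)) =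
      h₂ (ψ (h₁ (eul hY₁ ((Scheme.Modules.pushforward i).obj E)))) := by
  haveI := hi.1
  haveI := hj.1
  haveI := hk.1
  haveI := ProjPush.isNoetherian_PY n Y
  haveI := ProjPush.isNoetherian_PY m Z
  haveI := ProjPush.isNoetherian_PY l Z
  haveI := ProjPush.isNoetherian_PY n (KRR.PY m Z)
  have hP := hasEnoughLocFree_PY m hZ₃
  have hP' := hasEnoughLocFree_PY l hZ₂
  have hQ := hasEnoughLocFree_PY n hZ₂
  haveI := RegKoszul.isLocallyNoetherian_PY m (KRR.PY l Z)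
  haveI := RegKoszul.isLocallyNoetherian_PY l (KRR.PY m Z)
  haveI := RegKoszul.isLocallyNoetherian_PY n (KRR.PY m Z)
  let jf : X ⟶ KRR.PY m Z := i ≫ KRR.pr n Y ≫ j
  have hjf : jf ≫ KRR.pr m Z = k ≫ KRR.pr l Z := by simp only [jf, Category.assoc, hc]
  let w : X ⟶ KRR.PY m (KRR.PY l Z) := pYLift (jf ≫ pZ m Z) k
  let w' : X ⟶ KRR.PY l (KRR.PY m Z) := pYLift (k ≫ pZ l Z) jf
  have hw : w' ≫ swap m l Z = w := by
    refine pY_hom_ext ?_ (pY_hom_ext ?_ ?_) <;> simp [w, w', swap, hjf]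
  haveI : IsClosedImmersion w := isClosedImmersion_of_pr w k (pYLift_pr _ _)
  haveI : IsClosedImmersion w' := by
    haveI : IsClosedImmersion (w' ≫ swap m l Z) := hw ▸ inferInstance
    exact IsClosedImmersion.of_comp w' (swap m l Z)
  let J := KRR.projSpaceMap n j
  have hJ := isRegularClosedImmersion_map (n := n) j hj
  haveI : IsClosedImmersion J := hJ.1
  let u : X ⟶ KRR.PY n (KRR.PY m Z) := i ≫ J
  have hu : u ≫ KRR.pr n (KRR.PY m Z) = jf := by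
    simp only [u, jf, J, Category.assoc, (isPullback_map (n := n) j).w]
  haveI : IsClosedImmersion u := inferInstanceAs (IsClosedImmersion (i ≫ J))
  obtain ⟨Ψ, hΨ⟩ := exists_pushHom_cl J hJ hQ
  have hfu : ∀ F : X.Modules, FlatMod.IsFinLocFree F →
      FinRes (KRR.vbP _) (cohProp _) ((Scheme.Modules.pushforward u).obj F) ∧
      eul hQ ((Scheme.Modules.pushforward u).obj F) =
        Ψ (eul hY₁ ((Scheme.Modules.pushforward i).obj F)) := by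
    intro F hF
    obtain ⟨d, hd⟩ := finRes_push i hi hY₁ hF
    obtain ⟨hfin, he⟩ := PushProps.finRes_push_of_res hY₁ hQ J hJ Ψ hΨ hd
    have e := (Scheme.Modules.pushforwardComp i J).app F
    exact ⟨finRes_iso hQ e hfin, (eul_iso hQ e hfin).symm.trans he⟩
  obtain ⟨g₃, hg₃⟩ := exists_pushHom_pr m (KRR.PY l Z)
  obtain ⟨g₂, hg₂⟩ := exists_pushHom_pr l (KRR.PY m Z)
  obtain ⟨g, hg⟩ := exists_pushHom_pr n (KRR.PY m Z)
  have hfw : ∀ F : X.Modules, FlatMod.IsFinLocFree F →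
      FinRes (KRR.vbP _) (cohProp _) ((Scheme.Modules.pushforward w').obj F) ∧
      swapHom m l Z (eul hP ((Scheme.Modules.pushforward w).obj F)) =
        eul hP' ((Scheme.Modules.pushforward w').obj F) ∧
      g₃ (eul hP ((Scheme.Modules.pushforward w).obj F)) =
        eul hZ₃ ((Scheme.Modules.pushforward k).obj F) := by
    intro F hF
    haveI := LocFree.isQCoh hF
    obtain ⟨hf, he⟩ := eul_push_lift hZ₃ hP k (fun G hG => finRes_push k hk hZ₃ hG) w (pYLift_pr _ _) hg₃ hF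
    obtain ⟨hf', hs⟩ := swapHom_eul hP hP' w w' hw F hf
    exact ⟨hf', hs, he⟩
  obtain ⟨-, hs, he⟩ := hfw E hE
  have hbc := pushHom_map j hj hZ₂ hQ hg hh₁ ψ hψ Ψ hΨ
  have key : g₂ (eul hP' ((Scheme.Modules.pushforward w').obj E)) =
      g (eul hQ ((Scheme.Modules.pushforward u).obj E)) :=
    push_indep hP' hQ w' u (fun F hF => (hfw F hF).1) (fun F hF => (hfu F hF).1)
      ((pYLift_pr _ _).trans hu.symm) hg₂ hg hE
  rw [← he, show ψ (h₁ (eul hY₁ ((Scheme.Modules.pushforward i).obj E))) =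
      g (Ψ (eul hY₁ ((Scheme.Modules.pushforward i).obj E))) from congr($(hbc.symm) _),
    ← (hfu E hE).2, ← key, ← hs]
  exact congr($((pushHom_swap m l Z hh₂ hh₃ hg₂ hg₃).symm) _)

end

/-- Let Y, Z be connected Noetherian schemes such that every coherent module on Y, Z, on each P^a over
them and on each P^a over P^b over them is a quotient of a finite locally free one. Let f = i ≫ p :
X ⟶ Y and g = j ≫ q : Y ⟶ Z be regular morphisms factored through P^n_Y and P^m_Z (i, j regular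
closed imbeddings; X connected), and let f ≫ g = k ≫ r be a factorization through P^l_Z with k a
regular closed imbedding. With models and push-forwards as before: (r_K ∘ k_K) = (q_K ∘ j_K) ∘ (p_K
∘ i_K). -/
theorem result (n m l : ℕ) {X Y Z : Scheme.{u}} [IsNoetherian Y] [ConnectedSpace ↥Y] (hYe : KRR.HasEnoughLocFree Y) [IsNoetherian Z] [ConnectedSpace ↥Z] (hZe : KRR.HasEnoughLocFree Z)
    (hstarY : ∀ a : ℕ, KRR.HasEnoughLocFree (KRR.PY a Y) ∧ ∀ b : ℕ, KRR.HasEnoughLocFree (KRR.PY a (KRR.PY b Y)))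
    (hstarZ : ∀ a : ℕ, KRR.HasEnoughLocFree (KRR.PY a Z) ∧ ∀ b : ℕ, KRR.HasEnoughLocFree (KRR.PY a (KRR.PY b Z)))
    [ConnectedSpace ↥X] (f : X ⟶ Y) (g : Y ⟶ Z)
    (i : X ⟶ KRR.PY n Y) (hi : Mor2.IsRegularClosedImmersion i) (hf : i ≫ KRR.pr n Y = f)
    (j : Y ⟶ KRR.PY m Z) (hj : Mor2.IsRegularClosedImmersion j) (hg : j ≫ KRR.pr m Z = g)
    (k : X ⟶ KRR.PY l Z) (hk : Mor2.IsRegularClosedImmersion k) (hfg : k ≫ KRR.pr l Z = f ≫ g)
    (KX : Type v) [CommRing KX] [LambdaRing.LambdaOps KX] (PX : LambdaRing.PosStructure KX) (φX : SGA6.Kvb X →+ KX) (hKX : KRR.IsModel X KX PX φX)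
    (KY : Type v) [CommRing KY] [LambdaRing.LambdaOps KY] (PY : LambdaRing.PosStructure KY) (φY : SGA6.Kvb Y →+ KY) (hKY : KRR.IsModel Y KY PY φY)
    (KZ : Type v) [CommRing KZ] [LambdaRing.LambdaOps KZ] (PZ : LambdaRing.PosStructure KZ) (φZ : SGA6.Kvb Z →+ KZ) (hKZ : KRR.IsModel Z KZ PZ φZ)
    (K₁ : Type v) [CommRing K₁] [LambdaRing.LambdaOps K₁] (P₁ : LambdaRing.PosStructure K₁) (φ₁ : SGA6.Kvb (KRR.PY n Y) →+ K₁) (hK₁ : KRR.IsModel (KRR.PY n Y) K₁ P₁ φ₁)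
    (K₂ : Type v) [CommRing K₂] [LambdaRing.LambdaOps K₂] (P₂ : LambdaRing.PosStructure K₂) (φ₂ : SGA6.Kvb (KRR.PY m Z) →+ K₂) (hK₂ : KRR.IsModel (KRR.PY m Z) K₂ P₂ φ₂)
    (K₃ : Type v) [CommRing K₃] [LambdaRing.LambdaOps K₃] (P₃ : LambdaRing.PosStructure K₃) (φ₃ : SGA6.Kvb (KRR.PY l Z) →+ K₃) (hK₃ : KRR.IsModel (KRR.PY l Z) K₃ P₃ φ₃)
    (a₁ : KX →+ K₁) (ha₁ : KRR.IsPushCl i φX φ₁ a₁) (b₁ : K₁ →+ KY) (hb₁ : KRR.IsPushPr n Y φ₁ φY b₁)
    (a₂ : KY →+ K₂) (ha₂ : KRR.IsPushCl j φY φ₂ a₂) (b₂ : K₂ →+ KZ) (hb₂ : KRR.IsPushPr m Z φ₂ φZ b₂)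
    (a₃ : KX →+ K₃) (ha₃ : KRR.IsPushCl k φX φ₃ a₃) (b₃ : K₃ →+ KZ) (hb₃ : KRR.IsPushPr l Z φ₃ φZ b₃) :
    b₃.comp a₃ = (b₂.comp a₂).comp (b₁.comp a₁) := by
  haveI := Groth.KTheory.ProjPush.isNoetherian_PY n Y
  haveI := Groth.KTheory.ProjPush.isNoetherian_PY m Z
  haveI := Groth.KTheory.ProjPush.isNoetherian_PY l Z
  haveI := hi.1
  haveI := hj.1
  haveI := hk.1
  have hY₁ := (hstarY n).1
  have hZ₂ := (hstarZ m).1
  have hZ₃ := (hstarZ l).1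
  obtain ⟨g₁, hg₁, e₁⟩ := pushPr_eq φ₁ φY hKY.bijective b₁ hb₁
  obtain ⟨g₂, hg₂, e₂⟩ := pushPr_eq φ₂ φZ hKZ.bijective b₂ hb₂
  obtain ⟨g₃, hg₃, e₃⟩ := pushPr_eq φ₃ φZ hKZ.bijective b₃ hb₃
  obtain ⟨ψ, hψ⟩ := Groth.KTheory.ProjPush.exists_pushHom_cl j hj hZ₂
  have eψ : ∀ x, a₂ (φY x) = φ₂ (ψ x) := by
    intro x
    induction x using Groth.KTheory.k0sub_induction with
    | h0 => simp
    | hadd p q hp hq => simp only [map_add, hp, hq]
    | hneg p hp => simp only [map_neg, hp]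
    | hcl L hL =>
      exact (Groth.KTheory.PushRes.pushCl_eq hZ₂ j ha₂ hj hL).trans (congrArg φ₂ (hψ L hL).symm)
  refine Groth.KTheory.PushProps.k_hom_ext hKX fun E hE => ?_
  change b₃ (a₃ (φX (KRR.cl X E))) = b₂ (a₂ (b₁ (a₁ (φX (KRR.cl X E)))))
  rw [Groth.KTheory.PushRes.pushCl_eq hY₁ i ha₁ hi hE, Groth.KTheory.PushRes.pushCl_eq hZ₃ k ha₃ hk hE,
    e₁, eψ, e₂, e₃]
  refine congrArg φZ (push_comp hYe hY₁ hZ₂ hZ₃ i hi j hj k hk ?_ hg₁ hg₂ hg₃ ψ hψ hE)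
  rw [hfg, ← hf, ← hg, Category.assoc]

end Groth.Agent.S3768
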