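import Groth.Statements.S3770
import Groth.Agent.KTheory.RegKoszulFlat
import Groth.Agent.Quot.BCMap
import Groth.Agent.Limits.BC0.Consequences

set_option autoImplicit false
universe v u
open CategoryTheory CategoryTheory.Limits AlgebraicGeometry
attribute [local instance] HasDerivedCategory.standard
open KRR

namespace Groth.Agent.S3770

section
open Groth.KTheory Groth.KTheory.RegKoszul Groth.PicAux Groth.CohBase

theorem isIso_bcMap_aux (n : ℕ) {Y Y₁ : Scheme.{u}} (φ : Y₁ ⟶ Y)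
    (hsq : KRR.projSpaceMap n φ ≫ KRR.pr n Y = KRR.pr n Y₁ ≫ φ)
    (F : (KRR.PY n Y).Modules) (hF : FlatMod.IsFinLocFree F) (hreg : KRR.IsRegSheaf n Y F) :
    IsIso (KRR.bcMap n φ hsq F) := by
  obtain ⟨_, _, _⟩ := pr_facts n Y
  have H : IsPullback (KRR.projSpaceMap n φ) (KRR.pr n Y₁) (KRR.pr n Y) φ :=
    FlatStrata.isPullback_projMap n φ
  haveI := KTheory.LocFree.isQCoh hF
  have e : KRR.bcMap n φ hsq F = CohBC.bc0 (KRR.pr n Y) φ (KRR.pr n Y₁) (KRR.projSpaceMap n φ) H.w F := by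
    apply ((Scheme.Modules.pullbackPushforwardAdjunction φ).homEquiv _ _).injective
    rw [Adjunction.homEquiv_unit, Adjunction.homEquiv_unit]
    refine Scheme.Modules.hom_ext _ _ fun V => AddCommGrpCat.ext fun s => ?_
    have hle : KRR.pr n Y₁ ⁻¹ᵁ (φ ⁻¹ᵁ V) ≤ KRR.projSpaceMap n φ ⁻¹ᵁ (KRR.pr n Y ⁻¹ᵁ V) :=
      CohCmp.sqLE (KRR.pr n Y) φ (KRR.pr n Y₁) (KRR.projSpaceMap n φ) H.w V
    refine (Groth.Quot.bcMap_pullSec n φ hsq F V s hle).trans ?_
    have h2 := Groth.CohBase.AffineBC.bcHom_pullSec H.w F (le_refl (φ ⁻¹ᵁ V)) hle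
      (show Γ(F, KRR.pr n Y ⁻¹ᵁ V) from s)
    rw [Groth.QCohMod.res_self] at h2
    exact h2.symm
  rw [e]
  exact Limits.BC0.isIso_bc0_of_good H fun z => goodAt_of_regular hF hreg (φ z)

theorem isRegSheaf_pullback_aux (n : ℕ) {Y Y₁ : Scheme.{u}} (φ : Y₁ ⟶ Y)
    (F : (KRR.PY n Y).Modules) (hF : FlatMod.IsFinLocFree F) (hreg : KRR.IsRegSheaf n Y F) :
    KRR.IsRegSheaf n Y₁ ((Scheme.Modules.pullback (KRR.projSpaceMap n φ)).obj F) := by
  obtain ⟨_, _, _⟩ := pr_facts n Y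
  let ψ := KRR.projSpaceMap n φ
  have H : IsPullback ψ (KRR.pr n Y₁) (KRR.pr n Y) φ := FlatStrata.isPullback_projMap n φ
  haveI := KTheory.LocFree.isQCoh hF
  haveI : ((Scheme.Modules.pullback ψ).obj F).IsQuasicoherent := QCohMod.isQCoh_pullback_obj _ _
  intro i hi
  haveI : (KRR.twF n Y₁ (-(i : ℤ)) ((Scheme.Modules.pullback ψ).obj F)).IsQuasicoherent :=
    RegSheaf.isQCoh_twF _ (inferInstance : ((Scheme.Modules.pullback ψ).obj F).IsQuasicoherent)
  let J := injectiveResolution (KRR.twF n Y₁ (-(i : ℤ)) ((Scheme.Modules.pullback ψ).obj F))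
  obtain ⟨a⟩ := nonempty_RpushAb_iso_homology (KRR.pr n Y₁) J i
  have hz := isZero_homology_pushCx (KRR.pr n Y₁) J i fun x => by
    obtain ⟨V, hV, hxV⟩ := Groth.QCohMod.exists_affine_mem (φ x)
    obtain ⟨W, hW, hxW, e⟩ := exists_isAffineOpen_mem_and_subset (U := φ ⁻¹ᵁ V) (x := x) hxV
    refine ⟨W, hW, hxW, ?_⟩
    have htw : FlatMod.IsFinLocFree (KRR.twF n Y (-(i : ℤ)) F) :=
      Groth.LocFree.isFinLocFree_tensorMod (RegSheaf.isFinLocFree_twistOver n Y _) hF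
    haveI := KTheory.LocFree.isQCoh htw
    have hv := hv_baseChange H (PropsBasic.LocFree.isFP_of_isFinLocFree _ htw)
      (CohBase.isFlatOver_of_isFinLocFree _ htw) i
      (fun V hV q hq => van_of_regular (KTheory.LocFree.isQCoh hF) hreg (by omega) (by omega) V hV)
      hV hW e (le_refl i)
    refine HV.of_iso ?_ hv
    exact (exists_pullback_tensorMod ψ _ _).choose ≪≫ PicGrp.tensorModIso
      ((Scheme.Modules.pullbackComp _ _).app _ ≪≫
        (Scheme.Modules.pullbackCongr ((pullback.lift_fst _ _ _).trans (Category.comp_id _))).app _)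
      (Iso.refl _)
  exact ((toAbF Y₁).map_isZero hz).of_iso a

end

/-- For P = P^n_Y: let Y, Y₁ be Noetherian schemes, φ : Y₁ ⟶ Y, p : P^n_Y ⟶ Y and p₁ : P^n_{Y₁} ⟶ Y₁ the
projections and ψ : P^n_{Y₁} ⟶ P^n_Y the induced morphism (so ψ ≫ p = p₁ ≫ φ, recorded as hsq). If F
is a finite locally free O-module on P^n_Y which is regular relative to p, then ψ^* F is regular
relative to p₁ and the base-change morphism φ^* p_* F ⟶ (p₁)_* ψ^* F (adjoint to p₁^* φ^* p_* F ≅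
ψ^* p^* p_* F ⟶ ψ^* F) is an isomorphism. (The source's standing hypotheses place all schemes in its
quasi-projective category; the proof is local on Y and Y₁.) -/
theorem result (n : ℕ) {Y Y₁ : Scheme.{u}} [IsNoetherian Y] [IsNoetherian Y₁] (φ : Y₁ ⟶ Y)
    (hsq : KRR.projSpaceMap n φ ≫ KRR.pr n Y = KRR.pr n Y₁ ≫ φ)
    (F : (KRR.PY n Y).Modules) (hF : FlatMod.IsFinLocFree F) (hreg : KRR.IsRegSheaf n Y F) :
    KRR.IsRegSheaf n Y₁ ((Scheme.Modules.pullback (KRR.projSpaceMap n φ)).obj F) ∧ IsIso (KRR.bcMap n φ hsq F) := by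
  exact ⟨isRegSheaf_pullback_aux n φ F hF hreg, isIso_bcMap_aux n φ hsq F hF hreg⟩

end Groth.Agent.S3770
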