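import Groth.Statements.S3771
import Groth.Agent.BlowUpVanish.Centre

set_option autoImplicit false
universe v u
open CategoryTheory CategoryTheory.Limits AlgebraicGeometry
attribute [local instance] HasDerivedCategory.standard
open KRR

namespace Groth.Agent.S3771

/-- Let S be an affine Noetherian scheme, Y a connected Noetherian scheme quasi-projective over S all of
whose local rings are regular, f : X ⟶ Y a regular closed immersion of codimension d ≥ 1 (conormal
module finite locally free of rank d) with X connected and all local rings of X regular, and φ : Y₁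
⟶ Y a blowing up of Y along X (universal property with respect to the kernel ideal sheaf of f). Then
the canonical map O_Y ⟶ φ_* φ^* O_Y = φ_* O_{Y₁} is an isomorphism and R^i φ_* O_{Y₁} = 0 for every
i ≥ 1 (higher direct images of the underlying abelian sheaf). (The published statement is more
general; this is the case where X and Y are regular.) -/
theorem result (S : Scheme.{u}) [IsAffine S] [IsNoetherian S] {X Y Y₁ : Scheme.{u}} [IsNoetherian Y] [ConnectedSpace ↥Y] (qY : Y ⟶ S) (hqY : KRR.IsQProjOver qY)
    (hYreg : ∀ y : Y, IsRegularLocalRing (Y.presheaf.stalk y))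
    (f : X ⟶ Y) (hf : Mor2.IsRegularClosedImmersion f) [ConnectedSpace ↥X] (d : ℕ) (hd : 1 ≤ d)
    (hC : FlatMod.IsFinLocFreeOfRank d (Omega.conormal f)) (hXreg : ∀ x : X, IsRegularLocalRing (X.presheaf.stalk x))
    (φ : Y₁ ⟶ Y) (hφ : BlowUp.IsBlowUp φ f.ker) :
    IsIso ((Scheme.Modules.pullbackPushforwardAdjunction φ).unit.app (Coh.structureModule Y)) ∧
    ∀ i : ℕ, 1 ≤ i → IsZero ((Coh.RpushAb φ i).obj (Coh.toAb (Coh.structureModule Y₁))) := by
  haveI := hf.1
  haveI : IsProper φ := HTopHyper.isProper_of_isBlowUp hφ fun U => by
    haveI := IsLocallyNoetherian.component_noetherian U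
    exact IsNoetherian.noetherian _
  have hn := Groth.BlowUpVanish.nice_of_mor2 f hf hd hC
  exact ⟨Groth.BlowUpVanish.isIso_unit φ hn hφ,
    fun i hi => Groth.BlowUpVanish.isZero_RpushAb_structure φ hn hφ hi⟩

end Groth.Agent.S3771
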