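import Groth.Statements.S3772
import Groth.Agent.BlowUpLCI.ExceptionalBundle
import Groth.Agent.KTheory.ProjBdlModel

set_option autoImplicit false
universe v u
open CategoryTheory CategoryTheory.Limits AlgebraicGeometry
attribute [local instance] HasDerivedCategory.standard
open KRR

namespace Groth.Agent.S3772

theorem sum_alt_lam_sub {K L : Type v} [CommRing K] [LambdaRing.LambdaOps K] [CommRing L] [LambdaRing.LambdaOps L]
    (G : K →+ L) (hG1 : G 1 = 1) (c : K) (ℓ e : L) (hce : G c = e + ℓ)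
    (hlam : ∀ i, G (LambdaRing.LambdaOps.lam i c) = LambdaRing.LambdaOps.lam i (G c))
    (hℓ : ∀ i, 2 ≤ i → LambdaRing.LambdaOps.lam i ℓ = 0) (m : ℕ) :
    ∑ i ∈ Finset.range (m + 1), (-1 : L) ^ i * LambdaRing.LambdaOps.lam i e =
      ∑ j ∈ Finset.range (m + 1),
        G (∑ k ∈ Finset.range (m - j + 1), (-1 : K) ^ k * LambdaRing.LambdaOps.lam k c) * ℓ ^ j := by
  have hsign : ∀ (i : ℕ) (x : K), G ((-1 : K) ^ i * x) = (-1 : L) ^ i * G x := by
    intro i x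
    rcases neg_one_pow_eq_or K i with h | h <;> rcases Nat.even_or_odd i with he | ho
    all_goals first
      | rw [he.neg_one_pow, he.neg_one_pow, one_mul, one_mul]
      | rw [ho.neg_one_pow, ho.neg_one_pow, neg_one_mul, neg_one_mul, map_neg]
  have hrec : ∀ i, LambdaRing.LambdaOps.lam (i + 1) e =
      G (LambdaRing.LambdaOps.lam (i + 1) c) - ℓ * LambdaRing.LambdaOps.lam i e := by
    intro i
    rw [hlam, hce, LambdaRing.LambdaOps.lam_add, Finset.sum_range_succ, Finset.sum_range_succ,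
      Finset.sum_eq_zero (s := Finset.range i) fun j hj => by
        rw [hℓ (i + 1 - j) (by have := Finset.mem_range.1 hj; omega), mul_zero],
      Nat.sub_self, LambdaRing.LambdaOps.lam_zero, show i + 1 - i = 1 by omega, LambdaRing.LambdaOps.lam_one]
    ring
  induction m with
  | zero => simp [LambdaRing.LambdaOps.lam_zero, hG1]
  | succ m ih =>
    have hA : G (∑ k ∈ Finset.range (m + 1 + 1), (-1 : K) ^ k * LambdaRing.LambdaOps.lam k c) =
        1 + ∑ k ∈ Finset.range (m + 1), (-1 : L) ^ (k + 1) * G (LambdaRing.LambdaOps.lam (k + 1) c) := by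
      rw [map_sum, Finset.sum_range_succ', pow_zero, one_mul, LambdaRing.LambdaOps.lam_zero, hG1, add_comm]
      simp only [hsign]
    have hR : ∑ j ∈ Finset.range (m + 1),
        G (∑ k ∈ Finset.range (m + 1 - (j + 1) + 1), (-1 : K) ^ k * LambdaRing.LambdaOps.lam k c) * ℓ ^ (j + 1) =
        ℓ * ∑ i ∈ Finset.range (m + 1), (-1 : L) ^ i * LambdaRing.LambdaOps.lam i e := by
      rw [ih, Finset.mul_sum]
      refine Finset.sum_congr rfl fun j _ => ?_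
      rw [show m + 1 - (j + 1) = m - j by omega]
      ring
    conv_rhs => rw [Finset.sum_range_succ']
    rw [hR, Nat.sub_zero, hA, pow_zero, mul_one, Finset.sum_range_succ', LambdaRing.LambdaOps.lam_zero,
      pow_zero, one_mul, Finset.mul_sum, add_left_comm, add_comm, ← Finset.sum_add_distrib]
    refine congrArg (1 + ·) (Finset.sum_congr rfl fun i _ => ?_)
    rw [hrec]
    ring

/-- Let S be affine Noetherian, Y connected and quasi-projective over S, f : X ⟶ Y a regular closed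
imbedding of codimension d ≥ 1 (conormal module C finite locally free of rank d) with X connected, φ
: Y₁ ⟶ Y the blowing up of Y along X and X₁ = Y₁ ×_Y X the exceptional divisor with f₁ : X₁ ⟶ Y₁, ψ
: X₁ ⟶ X (X₁, Y₁ connected). Put c = [C] ∈ K(X), ℓ = [C₁] ∈ K(X₁) the class of the conormal
(invertible) module of f₁, e = ψ^K c - ℓ (the class of the universal sub-bundle, rank d - 1) and
λ_{-1}(e) = Σ_{i ≤ ε(e)} (-1)^i λ^i(e). With models and the maps φ^K, ψ^K, f_K, (f₁)_K, define u :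
K(X) ⟶ K(X₁) ⊕ K(Y), u(x) = (-λ_{-1}(e) ψ^K x, f_K x) and v : K(X₁) ⊕ K(Y) ⟶ K(Y₁), v(x₁, y) =
(f₁)_K x₁ + φ^K y. Then u is injective (this part needs no regularity of X or Y: it is split by
-ψ_K). -/
theorem result (S : Scheme.{u}) [IsAffine S] [IsNoetherian S] {X Y X₁ Y₁ : Scheme.{u}} [IsNoetherian Y] [ConnectedSpace ↥Y] (qY : Y ⟶ S) (hqY : KRR.IsQProjOver qY)
    (f : X ⟶ Y) (hf : Mor2.IsRegularClosedImmersion f) [ConnectedSpace ↥X] (d : ℕ) (hd : 1 ≤ d)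
    (hC : FlatMod.IsFinLocFreeOfRank d (Omega.conormal f))
    (φ : Y₁ ⟶ Y) (hφ : BlowUp.IsBlowUp φ f.ker) (f₁ : X₁ ⟶ Y₁) (ψ : X₁ ⟶ X) (hsq : IsPullback f₁ ψ φ f)
    [IsClosedImmersion f₁] (hC₁ : FlatMod.IsFinLocFreeOfRank 1 (Omega.conormal f₁)) [ConnectedSpace ↥X₁] [ConnectedSpace ↥Y₁]
    (KX : Type v) [CommRing KX] [LambdaRing.LambdaOps KX] (PX : LambdaRing.PosStructure KX) (φX : SGA6.Kvb X →+ KX) (hKX : KRR.IsModel X KX PX φX)
    (KY : Type v) [CommRing KY] [LambdaRing.LambdaOps KY] (PY : LambdaRing.PosStructure KY) (φY : SGA6.Kvb Y →+ KY) (hKY : KRR.IsModel Y KY PY φY)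
    (KX₁ : Type v) [CommRing KX₁] [LambdaRing.LambdaOps KX₁] (PX₁ : LambdaRing.PosStructure KX₁) (φX₁ : SGA6.Kvb X₁ →+ KX₁) (hKX₁ : KRR.IsModel X₁ KX₁ PX₁ φX₁)
    (KY₁ : Type v) [CommRing KY₁] [LambdaRing.LambdaOps KY₁] (PY₁ : LambdaRing.PosStructure KY₁) (φY₁ : SGA6.Kvb Y₁ →+ KY₁) (hKY₁ : KRR.IsModel Y₁ KY₁ PY₁ φY₁)
    (gφ : KY →+ KY₁) (hgφ : KRR.IsPull φ φY φY₁ gφ) (gψ : KX →+ KX₁) (hgψ : KRR.IsPull ψ φX φX₁ gψ)
    (gf : KX →+ KY) (hgf : KRR.IsPushCl f φX φY gf) (gf₁ : KX₁ →+ KY₁) (hgf₁ : KRR.IsPushCl f₁ φX₁ φY₁ gf₁) :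
    Function.Injective (fun x : KX => (-(KRR.lamAlt PX₁ (gψ (φX (KRR.cl X (Omega.conormal f))) - φX₁ (KRR.cl X₁ (Omega.conormal f₁))) * gψ x), gf x)) := by
  classical
  have hCS : CompactSpace ↥X := by
    haveI := hf.1
    exact QuasiCompact.compactSpace_of_compactSpace f
  obtain ⟨r, rfl⟩ : ∃ r, d = r + 1 := ⟨d - 1, by omega⟩
  obtain ⟨q, hPB⟩ := Groth.BlowUpLCI.exists_isProjBundle_conormal hf hφ hsq
  have hbij := Groth.KTheory.ProjBdl.bijective_model hC hPB hKX hKX₁ gψ hgψ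
  set c := φX (KRR.cl X (Omega.conormal f))
  set ℓ := φX₁ (KRR.cl X₁ (Omega.conormal f₁))
  have hc : c ∈ PX.pos := (hKX.mem_pos_iff c).2 ⟨r + 1, _, by omega, hC, rfl⟩
  have hℓp : ℓ ∈ PX₁.pos := (hKX₁.mem_pos_iff ℓ).2 ⟨1, _, le_rfl, hC₁, rfl⟩
  have hℓ1 : PX₁.aug ℓ = 1 := by exact_mod_cast hKX₁.aug_cl 1 _ hC₁
  have haug : (PX₁.aug (gψ c - ℓ)).toNat = r := by
    rw [map_sub, hℓ1, Groth.KTheory.PullLambda.map_aug_pos ψ hKX₁ hKX hgψ hc,
      hKX.aug_cl (r + 1) _ hC]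
    simp
  have hℓ0 : ∀ i, 2 ≤ i → LambdaRing.LambdaOps.lam i ℓ = 0 := fun i hi =>
    PX₁.lam_eq_zero ℓ hℓp i (by rw [hℓ1]; exact_mod_cast hi)
  have hS : KRR.lamAlt PX₁ (gψ c - ℓ) = ∑ j ∈ Finset.range (r + 1),
      gψ (∑ k ∈ Finset.range (r - j + 1), (-1 : KX) ^ k * LambdaRing.LambdaOps.lam k c) * ℓ ^ j := by
    unfold KRR.lamAlt
    rw [haug]
    exact sum_alt_lam_sub gψ (Groth.KTheory.PullLambda.map_one' ψ hKX₁ hKX hgψ) c ℓ _ (sub_add_cancel _ _).symm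
      (fun i => Groth.KTheory.PullLambda.map_lam_pos ψ hKX₁ hKX hgψ hc i) hℓ0 r
  intro x y hxy
  have h1 := congrArg Prod.fst hxy
  simp only [neg_mul, neg_inj, hS, Finset.sum_mul] at h1
  have hA : ∀ z : KX, (∑ j ∈ Finset.range (r + 1),
      gψ (∑ k ∈ Finset.range (r - j + 1), (-1 : KX) ^ k * LambdaRing.LambdaOps.lam k c) * ℓ ^ j * gψ z) =
      ∑ i : Fin (r + 1), gψ ((∑ k ∈ Finset.range (r - (i : ℕ) + 1),
        (-1 : KX) ^ k * LambdaRing.LambdaOps.lam k c) * z) * ℓ ^ (i : ℕ) := by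
    intro z
    rw [Finset.sum_range]
    refine Finset.sum_congr rfl fun i _ => ?_
    rw [Groth.KTheory.PullLambda.map_mul' ψ hKX₁ hKX hgψ]
    ring
  rw [hA, hA] at h1
  have h2 := congrFun (hbij.1 h1) (Fin.last r)
  simpa [LambdaRing.LambdaOps.lam_zero] using h2

end Groth.Agent.S3772
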