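import Groth.Statements.S3778
import Groth.Agent.LambdaCore.ElementaryExt

set_option autoImplicit false
universe v u
open CategoryTheory CategoryTheory.Limits AlgebraicGeometry
attribute [local instance] HasDerivedCategory.standard
open KRR

namespace Groth.Agent.S3778

/-- Let K be a λ-ring with a positive structure having the splitting property, e a positive element, m =
ε(e) its augmentation, p_e(T) = Σ_{i ≤ m} (−1)^i λ^i(e) T^{m−i}, and K_e = K[T]/(p_e) with canonical
generator ℓ (the class of T). Then there are a λ-ring structure and a positive structure on K_e such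
that the map K ⟶ K_e commutes with the λ-operations, λ^i(ℓ) = 0 for i ≥ 2 (so λ_t(ℓ) = 1 + ℓt), K ⟶
K_e is an extension of λ-rings with positive structure, ℓ is a line element, and, when m ≥ 2, e − ℓ
is positive in K_e. The published statement also asserts uniqueness of this λ-structure among
special λ-rings; only existence is stated here. -/
theorem result (K : Type v) [CommRing K] [LambdaRing.LambdaOps K] (P : LambdaRing.PosStructure K) (hK : LambdaRing.HasSplitting K P) (e : K) (he : e ∈ P.pos) :
    ∃ (inst : LambdaRing.LambdaOps (AdjoinRoot (KRR.extPoly P e))) (Pe : @LambdaRing.PosStructure _ _ inst),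
      (∀ (i : ℕ) (x : K), @LambdaRing.LambdaOps.lam _ _ inst i (AdjoinRoot.of (KRR.extPoly P e) x) =
        AdjoinRoot.of (KRR.extPoly P e) (LambdaRing.LambdaOps.lam i x)) ∧
      (∀ i : ℕ, 2 ≤ i → @LambdaRing.LambdaOps.lam _ _ inst i (AdjoinRoot.root (KRR.extPoly P e)) = 0) ∧
      @LambdaRing.IsExtension K _ _ _ _ inst P Pe (AdjoinRoot.of (KRR.extPoly P e)) ∧
      @LambdaRing.PosStructure.IsLine _ _ inst Pe (AdjoinRoot.root (KRR.extPoly P e)) ∧
      (2 ≤ P.aug e → AdjoinRoot.of (KRR.extPoly P e) e - AdjoinRoot.root (KRR.extPoly P e) ∈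
        (@LambdaRing.PosStructure.pos _ _ inst Pe)) :=
  Groth.LambdaCore.exists_lambdaOps_elementaryExtension hK he

end Groth.Agent.S3778
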