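import Groth.Statements.S3783
import Groth.Agent.KTheory.PullLambda
import Groth.Agent.Ega2Proj.ProjSpaceSection

set_option autoImplicit false
universe v u
open CategoryTheory CategoryTheory.Limits AlgebraicGeometry
attribute [local instance] HasDerivedCategory.standard
open KRR

namespace Groth.Agent.S3783

/-- For P = P^n_Y: let Y be a connected Noetherian scheme, p : P^n_Y ⟶ Y, with models of K(P), K(Y)
having the splitting property and q = p^K the pull-back. Then for every k, an element y ∈ K(Y) lies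
in F^k K(Y) if and only if p^K y lies in F^k K(P) (γ-filtrations). -/
theorem result (n : ℕ) (Y : Scheme.{u}) [IsNoetherian Y] [ConnectedSpace ↥Y]
    (KP : Type v) [CommRing KP] [LambdaRing.LambdaOps KP] (PP : LambdaRing.PosStructure KP) (φP : SGA6.Kvb (KRR.PY n Y) →+ KP) (hKP : KRR.IsModel (KRR.PY n Y) KP PP φP) (hsP : LambdaRing.HasSplitting KP PP)
    (KY : Type v) [CommRing KY] [LambdaRing.LambdaOps KY] (PY : LambdaRing.PosStructure KY) (φY : SGA6.Kvb Y →+ KY) (hKY : KRR.IsModel Y KY PY φY) (hsY : LambdaRing.HasSplitting KY PY)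
    (q : KY →+ KP) (hq : KRR.IsPull (KRR.pr n Y) φY φP q) (k : ℕ) :
    (LambdaRing.gammaFiltration PP k).comap q = LambdaRing.gammaFiltration PY k := by
  obtain ⟨s₀, hs₀⟩ := Groth.Ega2Proj.exists_section_projSpace n (ULift.{u} ℤ)
  let s : Y ⟶ KRR.PY n Y := Limits.pullback.lift (specULiftZIsTerminal.from Y ≫ s₀) (𝟙 Y)
    (by rw [Category.assoc, hs₀, Category.comp_id, Category.id_comp])
  have hs : s ≫ KRR.pr n Y = 𝟙 Y := Limits.pullback.lift_snd _ _ _
  obtain ⟨σ, hσ, -⟩ := Groth.KTheory.KvbPull.existsUnique_isPull s φY φP hKP.bijective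
  obtain ⟨Q, hQ, hQa, hQe⟩ := Groth.KTheory.PullLambda.exists_lambdaHom (KRR.pr n Y) hKP hKY hq
  obtain ⟨R, hR, hRa, hRe⟩ := Groth.KTheory.PullLambda.exists_lambdaHom s hKY hKP hσ
  ext y
  rw [AddSubgroup.mem_comap]
  refine ⟨fun h => ?_, fun h => ?_⟩
  · have h' : R (q y) ∈ LambdaRing.gammaFiltration PY k :=
      Groth.KTheory.PullLambda.map_mem_gammaFiltration hR hRa h
    have e : R (q y) = y := by
      rw [hRe]
      clear h h'
      obtain ⟨a, rfl⟩ := hKY.bijective.2 y
      induction a using Groth.KTheory.k0sub_induction with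
      | h0 => simp
      | hadd a b ha hb => simp only [map_add, ha, hb]
      | hneg a ha => simp only [map_neg, ha]
      | hcl E hE =>
        change σ (q (φY (KRR.cl Y E))) = φY (KRR.cl Y E)
        have h1 := Groth.LocFree.isFinLocFree_pullback (KRR.pr n Y) hE
        rw [hq E hE, hσ _ h1]
        exact congrArg φY (Groth.KTheory.LambdaVb.kcl_iso
          ((Scheme.Modules.pullbackComp s (KRR.pr n Y)).app E ≪≫
            (Scheme.Modules.pullbackCongr hs).app E ≪≫ (Scheme.Modules.pullbackId Y).app E)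
          (Groth.LocFree.isFinLocFree_pullback s h1))
    rwa [e] at h'
  · rw [← hQe]
    exact Groth.KTheory.PullLambda.map_mem_gammaFiltration hQ hQa h

end Groth.Agent.S3783
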