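import Groth.Statements.S3785
import Groth.Agent.KTheory.Splitting.Tower

set_option autoImplicit false
universe v u
open CategoryTheory CategoryTheory.Limits AlgebraicGeometry
attribute [local instance] HasDerivedCategory.standard
open KRR

namespace Groth.Agent.S3785

/-- Let X be a connected Noetherian scheme and (K, P, φ) a model of K(X), as a λ-ring with positive
structure, in Type (u+1). Then (K, P) has the splitting property: it belongs to a class of λ-rings
with positive structure in which every positive element of every member becomes a sum of line
elements in some extension lying again in the class. -/
theorem result (X : Scheme.{u}) [IsNoetherian X] [ConnectedSpace ↥X]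
    (K : Type (u + 1)) [CommRing K] [LambdaRing.LambdaOps K] (P : LambdaRing.PosStructure K) (φ : SGA6.Kvb X →+ K)
    (hK : KRR.IsModel X K P φ) : LambdaRing.HasSplitting K P :=
  Groth.KTheory.Splitting.hasSplitting X K P φ hK

end Groth.Agent.S3785
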