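import Groth.Statements.S3786
import Groth.Agent.KTheory.ProjPushSwap
import Groth.Agent.RDerLib.LES
import Groth.Agent.S0036
import Groth.Agent.S0795
import Groth.Agent.S0031
import Groth.Agent.CohBase.RpushAb
import Groth.Agent.KTheory.RPlusAdapted

set_option autoImplicit false
universe v u
open CategoryTheory CategoryTheory.Limits AlgebraicGeometry
attribute [local instance] HasDerivedCategory.standard
open KRR

namespace Groth.Agent.S3786


section
open Groth.KTheory Groth.KTheory.ProjPush Groth.KTheory.PushRes Groth.KTheory.LambdaVb Groth.KTheory.LFRes Groth.KTheory.RegKoszul Groth.KTheory.Resolution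

theorem mapSub_cl {A : Type*} [Category A] [Abelian A] {P Q : ObjectProperty A} (h : ∀ M, P M → Q M)
    {M : A} (hM : P M) : SGA6.mapSub (𝟭 A) P Q h (KZero.clSub P M) = KZero.clSub Q M := by
  rw [clSub_of hM, clSub_of (h M hM)]
  simp [SGA6.mapSub]
  rfl

theorem alt_telescope {G : Type*} [AddCommGroup G] (d : ℕ → G) : ∀ m : ℕ,
    ∑ i ∈ Finset.range m, (-1 : ℤ) ^ i • (d i + d (i + 1)) = d 0 - (-1 : ℤ) ^ m • d m
  | 0 => by simp
  | m + 1 => by
      rw [Finset.sum_range_succ, alt_telescope d m, pow_succ]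
      simp only [mul_neg, mul_one, neg_smul, smul_add]
      abel

section Euler

variable {A : Type*} [Category A] [Abelian A] [EnoughInjectives A]
  {B : Type*} [Category B] [Abelian B] (F : A ⥤ B) [F.Additive] [PreservesFiniteLimits F]
  (Q : ObjectProperty B) [Q.IsClosedUnderIsomorphisms] (hker : ∀ {X Y : B} (f : X ⟶ Y), Q X → Q Y → Q (kernel f))

/-- The alternating sum of the classes of the right derived functors. -/
noncomputable def chiR (N : ℕ) (M : A) : KZero.K0sub Q :=
  ∑ i ∈ Finset.range (N + 1), (-1 : ℤ) ^ i • KZero.clSub Q ((F.rightDerived i).obj M)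

include hker in
theorem chiR_add (N : ℕ) (S : ShortComplex A) (hS : S.ShortExact)
    (h₁ : ∀ i, Q ((F.rightDerived i).obj S.X₁)) (h₂ : ∀ i, Q ((F.rightDerived i).obj S.X₂))
    (h₃ : ∀ i, Q ((F.rightDerived i).obj S.X₃))
    (hv : IsZero ((F.rightDerived (N + 1)).obj S.X₁)) :
    chiR F Q N S.X₂ = chiR F Q N S.X₁ + chiR F Q N S.X₃ := by
  obtain ⟨L⟩ := Groth.RDerLib.exists_derivedLES F
  let f := fun i => (F.rightDerived i).map S.f
  let g := fun i => (F.rightDerived i).map S.g
  let δ := fun i => L.δ S hS i (i + 1) rfl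
  let d := fun i => KZero.clSub Q (kernel (f i))
  let a := fun i => KZero.clSub Q (kernel (g i))
  let c := fun i => KZero.clSub Q (kernel (δ i))
  have kf : ∀ i, Q (kernel (f i)) := fun i => hker _ (h₁ i) (h₂ i)
  have kg : ∀ i, Q (kernel (g i)) := fun i => hker _ (h₂ i) (h₃ i)
  have kd : ∀ i, Q (kernel (δ i)) := fun i => hker _ (h₃ i) (h₁ _)
  have e₁ : ∀ i, KZero.clSub Q ((F.rightDerived i).obj S.X₁) = d i + a i := fun i =>
    clSub_rel _ (shortExact_kernel_of_exact (f i) (g i) _ (L.exact₂ S hS i)) (kf i) (h₁ i) (kg i)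
  have e₂ : ∀ i, KZero.clSub Q ((F.rightDerived i).obj S.X₂) = a i + c i := fun i =>
    clSub_rel _ (shortExact_kernel_of_exact (g i) (δ i) _ (L.exact₃ S hS i (i + 1) rfl)) (kg i) (h₂ i) (kd i)
  have e₃ : ∀ i, KZero.clSub Q ((F.rightDerived i).obj S.X₃) = c i + d (i + 1) := fun i =>
    clSub_rel _ (shortExact_kernel_of_exact (δ i) (f (i + 1)) _ (L.exact₁ S hS i (i + 1) rfl)) (kd i) (h₃ i) (kf _)
  have hd0 : d 0 = 0 := by
    obtain ⟨-, hm⟩ := Groth.Agent.RPlusAdapted.exact_and_mono_rightDerived_zero F S hS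
    exact clSub_zero (IsZero.of_iso (isZero_zero B) (kernel.ofMono (f 0))) (kf 0)
  have hdN : d (N + 1) = 0 := clSub_zero (Groth.KTheory.isZero_kernel hv _) (kf _)
  have key := alt_telescope d (N + 1)
  rw [hd0, hdN, smul_zero, sub_zero] at key
  rw [chiR, chiR, chiR, ← Finset.sum_add_distrib, ← sub_eq_zero, ← Finset.sum_sub_distrib, ← neg_eq_zero,
    ← Finset.sum_neg_distrib]
  refine Eq.trans (Finset.sum_congr rfl fun i _ => ?_) key
  rw [e₁, e₂, e₃]
  simp only [smul_add]
  abel

end Euler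

end

/-- Let Y be a connected Noetherian scheme in which every coherent module on Y and on P^n_Y is a
quotient of a finite locally free one, and f = i ≫ p : X ⟶ Y with i : X ⟶ P^n_Y a regular closed
imbedding (X connected) and p the projection. Let δ_X : K₀(bundles on X) ⟶ K₀(Coh X) and δ_Y be the
maps induced by the inclusions (arguments hX, hY), f_K = p_K ∘ i_K the push-forward on K of bundles
(through models (KX, PX, φX), (KP, PP, φP), (KY, PY, φY)), and g the push-forward on K₀ of coherent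
modules, g[F] = Σ_{i ≤ N} (-1)^i [R^i f_* F]. Then δ_Y ∘ f_K = g ∘ δ_X: for x ∈ K₀(bundles on X) and
y ∈ K₀(bundles on Y) with φY y = f_K (φX x), δ_Y y = g (δ_X x). -/
theorem result (n : ℕ) {X Y : Scheme.{u}} [IsNoetherian X] [ConnectedSpace ↥X] [IsNoetherian Y] [ConnectedSpace ↥Y] (hYe : KRR.HasEnoughLocFree Y)
    (hPe : KRR.HasEnoughLocFree (KRR.PY n Y)) [HasInjectiveResolutions X.Modules]
    (i : X ⟶ KRR.PY n Y) (hi : Mor2.IsRegularClosedImmersion i)
    (hX : ∀ M : X.Modules, FlatMod.IsFinLocFree M → Coh.IsCoh M) (hY : ∀ M : Y.Modules, FlatMod.IsFinLocFree M → Coh.IsCoh M)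
    (KX : Type v) [CommRing KX] [LambdaRing.LambdaOps KX] (PX : LambdaRing.PosStructure KX) (φX : SGA6.Kvb X →+ KX) (hKX : KRR.IsModel X KX PX φX)
    (KP : Type v) [CommRing KP] [LambdaRing.LambdaOps KP] (PP : LambdaRing.PosStructure KP) (φP : SGA6.Kvb (KRR.PY n Y) →+ KP) (hKP : KRR.IsModel (KRR.PY n Y) KP PP φP)
    (KY : Type v) [CommRing KY] [LambdaRing.LambdaOps KY] (PY : LambdaRing.PosStructure KY) (φY : SGA6.Kvb Y →+ KY) (hKY : KRR.IsModel Y KY PY φY)
    (a : KX →+ KP) (ha : KRR.IsPushCl i φX φP a) (b : KP →+ KY) (hb : KRR.IsPushPr n Y φP φY b)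
    (N : ℕ) (g : SGA6.Kcoh X →+ SGA6.Kcoh Y) (hg : KRR.IsPushCoh (i ≫ KRR.pr n Y) N g)
    (x : SGA6.Kvb X) (y : SGA6.Kvb Y) (hxy : φY y = b (a (φX x))) :
    SGA6.mapSub (𝟭 Y.Modules) (KRR.vbP Y) (fun M : Y.Modules => Coh.IsCoh M) hY y =
      g (SGA6.mapSub (𝟭 X.Modules) (KRR.vbP X) (fun M : X.Modules => Coh.IsCoh M) hX x) := by
  haveI := hi.1
  haveI := Groth.KTheory.ProjPush.isNoetherian_PY n Y
  obtain ⟨hprop, hflat, -⟩ := Groth.KTheory.RegKoszul.pr_facts n Y
  haveI : IsProper (KRR.pr n Y) := hprop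
  haveI : Flat (KRR.pr n Y) := hflat
  let π := KRR.pr n Y
  obtain ⟨M, hM⟩ := Groth.Agent.S0031.result π
  let N' := max N M
  have hco : ∀ {G : (KRR.PY n Y).Modules}, Coh.IsCoh G → ∀ q, Coh.IsCoh ((Coh.Rpush π q).obj G) :=
    fun hG q => Groth.Agent.S0036.result π _ hG q
  have hva : ∀ {G : (KRR.PY n Y).Modules}, Coh.IsCoh G → ∀ q, N' < q → IsZero ((Coh.Rpush π q).obj G) :=
    fun {G} hG q hq => by
      obtain ⟨e⟩ := Groth.CohBase.nonempty_toAb_Rpush_iso π (M := G) (p := q)
      have hz := (hM G hG.1 q ((le_max_right N M).trans hq.le)).of_iso e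
      haveI : (Groth.CohBase.toAbF Y).Faithful := inferInstanceAs (SheafOfModules.toSheaf.{u} Y.ringCatSheaf).Faithful
      refine (IsZero.iff_id_eq_zero _).2 ((Groth.CohBase.toAbF Y).map_injective ?_)
      exact hz.eq_of_src _ _
  let Γ : SGA6.Kcoh (KRR.PY n Y) →+ SGA6.Kcoh Y :=
    Groth.KTheory.liftSub _ (chiR (Scheme.Modules.pushforward π) (fun M : Y.Modules => Coh.IsCoh M) N')
      fun S hS h₁ h₂ h₃ => chiR_add _ _
        (fun {A B} f hA hB => (Groth.KTheory.cohProp Y).prop_kernel f hA hB) N' S hS (hco h₁) (hco h₂) (hco h₃)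
        (hva h₁ _ (by omega))
  let δP := SGA6.mapSub (𝟭 _) (KRR.vbP (KRR.PY n Y)) (fun M : (KRR.PY n Y).Modules => Coh.IsCoh M)
    (fun M hM => Groth.KTheory.LocFree.isCoh hM)
  let δX := SGA6.mapSub (𝟭 X.Modules) (KRR.vbP X) (fun M : X.Modules => Coh.IsCoh M) hX
  let δY := SGA6.mapSub (𝟭 Y.Modules) (KRR.vbP Y) (fun M : Y.Modules => Coh.IsCoh M) hY
  obtain ⟨h, hh, hreg⟩ := Groth.KTheory.RegKoszul.exists_transfer φP φY hKY.bijective b hb
  obtain ⟨ψ, hψ⟩ := Groth.KTheory.ProjPush.exists_pushHom_cl i hi hPe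
  have eψ : ∀ z, a (φX z) = φP (ψ z) := by
    intro z
    induction z using Groth.KTheory.k0sub_induction with
    | h0 => simp
    | hadd p q hp hq => simp only [map_add, hp, hq]
    | hneg p hp => simp only [map_neg, hp]
    | hcl L hL =>
      exact (Groth.KTheory.PushRes.pushCl_eq hPe i ha hi hL).trans (congrArg φP (hψ L hL).symm)
  have hy : y = h (ψ x) := hKY.bijective.1 (by rw [hxy, eψ, hh])
  -- regular bundles
  have key : δY.comp h = Γ.comp δP := by
    refine AddMonoidHom.ext fun w => ?_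
    obtain ⟨z, rfl⟩ := (Groth.KTheory.RegKoszul.bijective_mapSub_regP (n := n) (T := Y) (fun _ h => h.1)).2 w
    induction z using Groth.KTheory.k0sub_induction with
    | h0 => simp
    | hadd p q hp hq => simp only [map_add, hp, hq]
    | hneg p hp => simp only [map_neg, hp]
    | hcl F hF =>
      have e : KZero.clSub (KRR.vbP (KRR.PY n Y)) F = KRR.cl (KRR.PY n Y) F := rfl
      rw [mapSub_cl _ hF, AddMonoidHom.comp_apply, AddMonoidHom.comp_apply, e, hreg F hF.1 hF.2, ← e]
      have hF' := Groth.KTheory.LocFree.isCoh hF.1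
      have hp : FlatMod.IsFinLocFree ((Scheme.Modules.pushforward π).obj F) :=
        Groth.KTheory.RegKoszul.isFinLocFree_push_regular hF'
          (Groth.CohBase.isFlatOver_of_isFinLocFree _ hF.1) hF.2
      change δY (KZero.clSub (KRR.vbP Y) ((Scheme.Modules.pushforward π).obj F)) =
        Γ (SGA6.mapSub _ _ _ _ (KZero.clSub (KRR.vbP (KRR.PY n Y)) F))
      rw [mapSub_cl _ hF.1, mapSub_cl _ hp, Groth.KTheory.liftSub_clSub _ _ hF', chiR,
        Finset.sum_eq_single 0]
      · rw [pow_zero, one_smul]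
        exact Groth.KTheory.clSub_iso ((Scheme.Modules.pushforward π).rightDerivedZeroIsoSelf.app F).symm
          (hY _ hp) (hco hF' 0) (isZero_zero _) (Groth.KTheory.isCoh_of_isZero (isZero_zero _))
      · intro q _ hq
        have : F.IsQuasicoherent := hF'.1
        have hv : Groth.KTheory.RegSheaf.Van n Y F q :=
          (Groth.KTheory.RegKoszul.van_of_regular hF'.1 hF.2 (Nat.pos_of_ne_zero hq) (r := 0) (by omega)).of_iso
            (Groth.KTheory.RegSheaf.nonempty_twF_zero n Y F).some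
        rw [Groth.KTheory.clSub_zero ?_ (hco hF' q), smul_zero]
        refine (Groth.CohBase.isZero_homology_pushCx π (injectiveResolution F) q fun z => ?_).of_iso
          ((injectiveResolution F).isoRightDerivedObj (Scheme.Modules.pushforward π) q)
        obtain ⟨V, hV, hz⟩ := Groth.QCohMod.exists_affine_mem z
        exact ⟨V, hV, hz, hv V hV⟩
      · exact fun h0 => absurd (Finset.mem_range.2 (Nat.succ_pos _)) h0
  -- bundles on X
  have key2 : Γ.comp (δP.comp ψ) = g.comp δX := by
    refine Groth.KTheory.k0sub_hom_ext fun E hE => ?_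
    have hfin := Groth.KTheory.PushRes.finRes_push i hi hPe hE
    have hc := Groth.CohTwo.isCoh_push i (hX E hE)
    change Γ (δP (ψ (Groth.KTheory.LambdaVb.kcl E))) = g (δX (KZero.clSub (KRR.vbP X) E))
    rw [hψ E hE]
    have hcomp : ∀ w, δP w = SGA6.mapSub (𝟭 _)
        (Groth.KTheory.Resolution.FinRes (KRR.vbP _) (Groth.KTheory.cohProp _)) _ (fun M hM => (Groth.KTheory.LFRes.setup hPe).res_le hM.choose_spec)
        (SGA6.mapSub (𝟭 _) (KRR.vbP _) _ (Groth.KTheory.LFRes.setup hPe).setup_finRes.le w) := by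
      intro w
      induction w using Groth.KTheory.k0sub_induction with
      | h0 => simp
      | hadd p q hp hq => simp only [map_add, hp, hq]
      | hneg p hp => simp only [map_neg, hp]
      | hcl L hL => rw [mapSub_cl _ hL, mapSub_cl _ hL, mapSub_cl _ ((Groth.KTheory.LFRes.setup hPe).setup_finRes.le L hL)]
    rw [hcomp, Groth.KTheory.PushRes.mapSub_eul, mapSub_cl _ hfin,
      Groth.KTheory.liftSub_clSub _ _ hc]
    change _ = g (SGA6.mapSub (𝟭 X.Modules) (KRR.vbP X) _ hX _)
    rw [mapSub_cl _ hE, hg.2 E (hX E hE), chiR]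
    have := Groth.Agent.S0795.preservesFiniteColimits_push_closed i
    have iso : ∀ q, Nonempty ((Coh.Rpush π q).obj ((Scheme.Modules.pushforward i).obj E) ≅
        (Coh.Rpush (i ≫ π) q).obj E) := by
      intro q
      obtain ⟨c⟩ := Groth.SitesTopoi.AcyclicComp.nonempty_rightDerived_comp
        (Scheme.Modules.pushforward π) (Scheme.Modules.pushforward i)
        (fun I hI => Groth.Agent.S0795.rightAcyclic_push_injective i π I hI) q
      let w := NatTrans.rightDerived (Scheme.Modules.pushforwardComp i π).hom q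
      have : IsIso w := by
        refine ⟨NatTrans.rightDerived (Scheme.Modules.pushforwardComp i π).inv q, ?_, ?_⟩ <;>
          simp [w, ← NatTrans.rightDerived_comp]
      exact ⟨(c.app E).symm ≪≫ (asIso w).app E⟩
    have heq : ∀ q, KZero.clSub (fun M : Y.Modules => Coh.IsCoh M)
          (((Scheme.Modules.pushforward π).rightDerived q).obj ((Scheme.Modules.pushforward i).obj E)) =
        KZero.clSub (fun M : Y.Modules => Coh.IsCoh M) ((Coh.Rpush (i ≫ π) q).obj E) := fun q =>
      Groth.KTheory.clSub_iso (iso q).some (hco hc q)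
        (Groth.QCohMod.isCoh_of_iso (iso q).some (hco hc q)) (isZero_zero _)
        (Groth.KTheory.isCoh_of_isZero (isZero_zero _))
    simp only [heq]
    refine (Finset.sum_subset (Finset.range_mono (by omega)) fun q _ hq => ?_).symm
    rw [Groth.KTheory.clSub_zero (hg.1 E (hX E hE) q (by simpa using hq))
      (Groth.QCohMod.isCoh_of_iso (iso q).some (hco hc q)), smul_zero]
  rw [hy]
  exact (congr($key (ψ x))).trans congr($key2 x)

end Groth.Agent.S3786
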