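import Groth.Statements.S3791
import Groth.Agent.LambdaCore.Sigma

set_option autoImplicit false
universe v u
open CategoryTheory CategoryTheory.Limits AlgebraicGeometry
attribute [local instance] HasDerivedCategory.standard
open KRR

namespace Groth.Agent.S3791

/-- Let K be a λ-ring with positive structure P and u an ample line element (for every x, u^n x is a
positive element minus a natural number for all large n). Then for every line element v, the element
v - 1 is nilpotent. -/
theorem result (K : Type v) [CommRing K] [LambdaRing.LambdaOps K] (P : LambdaRing.PosStructure K)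
    (u : K) (hu : KRR.IsAmpleElt P u) (w : K) (hw : P.IsLine w) : IsNilpotent (w - 1) := by
  have key : ∀ (v e : K) (m : ℕ), P.IsLine v → e ∈ P.pos → (m : K) = e + v → IsNilpotent (v - 1) := by
    intro v e m hv he hm
    have hcoe : (((1 + Polynomial.X) ^ m : Polynomial K) : PowerSeries K) =
        ((Groth.LambdaCore.lamPoly P e * (1 + Polynomial.C v * Polynomial.X) : Polynomial K) : PowerSeries K) := by
      simp [Groth.LambdaCore.coe_lamPoly he, ← Groth.LambdaCore.lamSeries_natCast P, hm,
        Groth.LambdaCore.lamSeries_add, Groth.LambdaCore.IsLine.lamSeries_eq hv]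
    obtain ⟨vu, hvu⟩ := Groth.LambdaCore.IsLine.isUnit hv
    have h := congrArg (Polynomial.eval (-(↑vu⁻¹ : K))) (Polynomial.coe_injective K hcoe)
    simp only [Polynomial.eval_pow, Polynomial.eval_mul, Polynomial.eval_add, Polynomial.eval_one,
      Polynomial.eval_X, Polynomial.eval_C, mul_neg, ← hvu, Units.mul_inv, add_neg_cancel, mul_zero] at h
    refine ⟨m, ?_⟩
    have : v - 1 = v * (1 + -(↑vu⁻¹ : K)) := by rw [← hvu, mul_add, mul_neg, Units.mul_inv]; ring
    rw [this, mul_pow, h, mul_zero]
  obtain ⟨hl, hx⟩ := hu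
  have keyu : ∀ z : K, P.IsLine z → ∃ n₀ : ℕ, ∀ n, n₀ ≤ n → IsNilpotent (u ^ n * z - 1) := by
    intro z hz
    obtain ⟨n₀, hn₀⟩ := hx (-z)
    refine ⟨n₀, fun n hn => ?_⟩
    obtain ⟨e, m, he, hem⟩ := hn₀ n hn
    exact key _ e m (Groth.LambdaCore.IsLine.mul (Groth.LambdaCore.IsLine.pow hl n) hz) he
      (by linear_combination hem)
  obtain ⟨a, ha⟩ := keyu 1 Groth.LambdaCore.isLine_one
  obtain ⟨b, hb⟩ := keyu w hw
  have h1 := (Commute.all (u ^ max a b * 1 - 1) w).isNilpotent_mul_right (ha (max a b) (le_max_left _ _))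
  have h2 := hb (max a b) (le_max_right _ _)
  have : w - 1 = (u ^ max a b * w - 1) + -((u ^ max a b * 1 - 1) * w) := by ring
  rw [this]
  exact (Commute.all _ _).isNilpotent_add h2 h1.neg

end Groth.Agent.S3791
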