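import Groth.Statements.S3796
import Groth.Agent.KTheory.KvbModel

set_option autoImplicit false
universe v u
open CategoryTheory CategoryTheory.Limits AlgebraicGeometry
attribute [local instance] HasDerivedCategory.standard
open KRR

namespace Groth.Agent.S3796

/-- For a connected (nonempty) Noetherian scheme X, K(X) = K₀ of finite locally free O_X-modules is a
λ-ring with positive structure: there are a commutative ring K with λ-operations and a positive
structure P, and an additive bijection φ : K₀ ⟶ K, such that [O_X] ↦ 1, [E][F] = [E ⊗ F], λ^i[E] =
[Λ^i E], ε = rank and the positive elements are the classes of bundles of constant rank ≥ 1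
(KRR.IsModel). -/
theorem result (X : Scheme.{u}) [IsNoetherian X] [ConnectedSpace ↥X] :
    ∃ (K : Type (u + 1)) (_ : CommRing K) (_ : LambdaRing.LambdaOps K) (P : LambdaRing.PosStructure K)
      (φ : SGA6.Kvb X →+ K), KRR.IsModel X K P φ := Groth.KTheory.KvbModel.exists_isModel X

end Groth.Agent.S3796
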