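import Groth.Statements.S3798
import Groth.Agent.KTheory.RegKoszulPush
-- import your own Groth.Agent.* helpers here

set_option autoImplicit false
universe v u
open CategoryTheory CategoryTheory.Limits AlgebraicGeometry
attribute [local instance] HasDerivedCategory.standard
open KRR

namespace Groth.Agent.S3798

open Groth.KTheory Groth.KTheory.RegKoszul CategoryTheory in
theorem acyP_of_regP {n : ℕ} {Y : Scheme.{u}} {F : (KRR.PY n Y).Modules} (h : RegP n Y F) : AcyP n Y F :=
  ⟨h.1, fun q hq V hV => HV.of_iso (Groth.KTheory.RegSheaf.nonempty_twF_zero n Y F).some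
    (van_of_regular (Groth.KTheory.LocFree.isQCoh h.1) h.2 hq (r := 0) (by omega) V hV)⟩


/-- Let Y be a connected Noetherian scheme, p : P^n_Y ⟶ Y, and (KP, PP, φP), (KY, PY, φY) models of
K(P^n_Y), K(Y). Then there is a unique additive map g : K(P^n_Y) ⟶ K(Y) with g[F] = [p_* F] for
every finite locally free F which is regular relative to p (the push-forward p_K). -/
theorem result (n : ℕ) (Y : Scheme.{u}) [IsNoetherian Y] [ConnectedSpace ↥Y]
    (KP : Type v) [CommRing KP] [LambdaRing.LambdaOps KP] (PP : LambdaRing.PosStructure KP) (φP : SGA6.Kvb (KRR.PY n Y) →+ KP) (hKP : KRR.IsModel (KRR.PY n Y) KP PP φP)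
    (KY : Type v) [CommRing KY] [LambdaRing.LambdaOps KY] (PY : LambdaRing.PosStructure KY) (φY : SGA6.Kvb Y →+ KY) (hKY : KRR.IsModel Y KY PY φY) :
    ∃! g : KP →+ KY, KRR.IsPushPr n Y φP φY g := by
  classical
  have hbij := Groth.KTheory.RegKoszul.bijective_mapSub_regP (n := n) (T := Y) (fun _ h => h.1)
  let μ := AddEquiv.ofBijective _ hbij
  let eP := AddEquiv.ofBijective φP hKP.bijective
  let G₀ : KZero.K0sub (Groth.KTheory.RegKoszul.RegP n Y) →+ SGA6.Kvb Y :=
    Groth.KTheory.liftSub _ (Groth.KTheory.RegKoszul.pushCl n Y) fun S hS h₁ h₂ h₃ =>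
      Groth.KTheory.RegKoszul.pushCl_add S hS (acyP_of_regP h₁) (acyP_of_regP h₂) (acyP_of_regP h₃)
  have hμ : ∀ F, Groth.KTheory.RegKoszul.RegP n Y F →
      μ (KZero.clSub (Groth.KTheory.RegKoszul.RegP n Y) F) = KRR.cl (KRR.PY n Y) F := fun F hF => by
    show SGA6.mapSub _ _ _ _ _ = _
    rw [Groth.KTheory.clSub_of hF, KRR.cl, Groth.KTheory.clSub_of hF.1]
    rfl
  refine ⟨φY.comp (G₀.comp (μ.symm.toAddMonoidHom.comp eP.symm.toAddMonoidHom)), fun F hF hreg => ?_,
    fun g hg => ?_⟩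
  · show φY (G₀ (μ.symm (eP.symm (φP (KRR.cl (KRR.PY n Y) F))))) = _
    rw [show eP.symm (φP (KRR.cl (KRR.PY n Y) F)) = KRR.cl (KRR.PY n Y) F from eP.symm_apply_apply _,
      ← hμ F ⟨hF, hreg⟩, μ.symm_apply_apply]
    exact congrArg φY (Groth.KTheory.liftSub_clSub _ _ ⟨hF, hreg⟩)
  · refine AddMonoidHom.ext fun z => ?_
    obtain ⟨z, rfl⟩ := eP.surjective z
    obtain ⟨z, rfl⟩ := μ.surjective z
    show g (φP (μ z)) = φY (G₀ (μ.symm (eP.symm (eP (μ z)))))
    rw [eP.symm_apply_apply, μ.symm_apply_apply]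
    suffices H : (g.comp (φP.comp μ.toAddMonoidHom)) = φY.comp G₀ from DFunLike.congr_fun H z
    refine Groth.KTheory.k0sub_hom_ext fun F hF => ?_
    show g (φP (μ _)) = φY (G₀ _)
    rw [hμ F hF, hg F hF.1 hF.2]
    exact congrArg φY (Groth.KTheory.liftSub_clSub (Groth.KTheory.RegKoszul.pushCl n Y) _ hF).symm

end Groth.Agent.S3798
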