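import Groth.Statements.S3799
import Groth.Agent.KTheory.PushProps
-- import your own Groth.Agent.* helpers here

set_option autoImplicit false
universe v u
open CategoryTheory CategoryTheory.Limits AlgebraicGeometry
attribute [local instance] HasDerivedCategory.standard
open KRR

namespace Groth.Agent.S3799

open Groth.KTheory Groth.KTheory.Resolution Groth.KTheory.LFRes Groth.KTheory.PushRes CategoryTheory CategoryTheory.Limits in
theorem eul_eq_sum {Y : Scheme.{u}} [IsLocallyNoetherian Y] (hY : KRR.HasEnoughLocFree Y) {A : Y.Modules}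
    (hA : Coh.IsCoh A) {n : ℕ} {L : ChainComplex Y.Modules ℕ}
    {φ : L ⟶ (ChainComplex.single₀ Y.Modules).obj A} (hL : KRR.IsLFRes A n L φ) :
    eul hY A = ∑ k ∈ Finset.range (n + 1), (-1 : ℤ) ^ k • LambdaVb.kcl (L.X k) := by
  obtain ⟨hfree, hzero, hq⟩ := hL
  have S := setup hY
  have hcohL : ∀ i, (cohProp Y) (L.X i) := fun i => S.le _ (hfree i)
  have key : ∀ d i, n ≤ i + d → FinRes (KRR.vbP Y) (cohProp Y) (kernel (L.d (i + 1) i)) ∧
      eul hY (kernel (L.d (i + 1) i)) =
        ∑ k ∈ Finset.range d, (-1 : ℤ) ^ k • LambdaVb.kcl (L.X (i + 2 + k)) := by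
    intro d
    induction d with
    | zero =>
      intro i hi
      have hz := Groth.KTheory.isZero_kernel (hzero (i + 1) (by omega)) (L.d (i + 1) i)
      exact ⟨⟨0, LocFree.isFinLocFree_zero hz⟩,
        by rw [eul_bundle hY (LocFree.isFinLocFree_zero hz), KvbModel.kcl_zero hz]; rfl⟩
    | succ d ih =>
      intro i hi
      have hex : L.ExactAt (i + 1) :=
        (quasiIsoAt_iff_exactAt' φ (i + 1) (ChainComplex.exactAt_succ_single_obj _ _)).mp (hq.quasiIsoAt _)
      rw [L.exactAt_iff' (i + 2) (i + 1) i (by simp) (by simp)] at hex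
      have hS := Groth.KTheory.shortExact_kernel_of_exact _ _ _ hex
      obtain ⟨h1, e1⟩ := ih (i + 1) (by omega)
      have h3 := S.finRes_X₃ hS h1 ⟨0, hfree (i + 2)⟩ ((cohProp Y).prop_kernel _ (hcohL _) (hcohL _))
      refine ⟨h3, ?_⟩
      have h := eul_rel hY hS h1 ⟨0, hfree (i + 2)⟩ h3
      erw [eul_bundle hY (hfree (i + 2)), e1] at h
      rw [Finset.sum_range_succ', pow_zero, one_smul, add_zero, h, ← add_assoc, ← Finset.sum_add_distrib,
        Finset.sum_eq_zero (fun k _ => ?_), zero_add]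
      rw [show i + 2 + (k + 1) = i + 1 + 2 + k by omega, pow_succ, mul_neg_one, neg_smul, neg_add_cancel]
  obtain ⟨hex0, hepi⟩ := (quasiIso_zero_iff φ).mp (hq.quasiIsoAt 0)
  let π : L.X 0 ⟶ A := φ.f 0
  have : Epi π := hepi
  have hS1 := Groth.KTheory.shortExact_kernel_of_exact _ _ _ hex0
  obtain ⟨h0, e0⟩ := key n 0 (by omega)
  have h1 : FinRes (KRR.vbP Y) (cohProp Y) (kernel π) :=
    S.finRes_X₃ hS1 h0 ⟨0, hfree 1⟩ ((cohProp Y).prop_kernel _ (hcohL 0) hA)
  have hS0 := Groth.KTheory.Resolution.shortExact_kernel π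
  have h2 : FinRes (KRR.vbP Y) (cohProp Y) A := S.finRes_X₃ hS0 h1 ⟨0, hfree 0⟩ hA
  have a1 := eul_rel hY hS1 h0 ⟨0, hfree 1⟩ h1
  have a0 := eul_rel hY hS0 h1 ⟨0, hfree 0⟩ h2
  erw [eul_bundle hY (hfree 1), e0] at a1
  erw [eul_bundle hY (hfree 0)] at a0
  change LambdaVb.kcl (L.X 1) = _ + eul hY (kernel π) at a1
  change LambdaVb.kcl (L.X 0) = eul hY (kernel π) + eul hY A at a0
  have top : ∑ k ∈ Finset.range (n + 1 + 1), (-1 : ℤ) ^ k • LambdaVb.kcl (L.X k) =
      ∑ k ∈ Finset.range (n + 1), (-1 : ℤ) ^ k • LambdaVb.kcl (L.X k) := by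
    rw [Finset.sum_range_succ, KvbModel.kcl_zero (hzero (n + 1) (by omega)), smul_zero, add_zero]
  rw [← top, Finset.sum_range_succ', Finset.sum_range_succ']
  simp only [pow_succ, pow_zero, one_mul, mul_neg_one, neg_neg, neg_smul, one_smul, zero_add]
  rw [a0, a1]
  simp only [show ∀ k, 0 + 2 + k = k + 1 + 1 by omega]
  abel


/-- Let f : X ⟶ Y be a regular closed imbedding of connected Noetherian schemes, where every coherent
module on Y is a quotient of a finite locally free one, and (KX, PX, φX), (KY, PY, φY) models of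
K(X), K(Y). Then there is a unique additive map h : K(X) ⟶ K(Y) such that h[F] = Σ_k (-1)^k [L_k]
for every finite locally free F on X and every finite resolution L of f_* F by finite locally free
modules (the push-forward f_K). -/
theorem result {X Y : Scheme.{u}} (f : X ⟶ Y) (hf : Mor2.IsRegularClosedImmersion f)
    [IsNoetherian X] [ConnectedSpace ↥X] [IsNoetherian Y] [ConnectedSpace ↥Y] (hYe : KRR.HasEnoughLocFree Y)
    (KX : Type v) [CommRing KX] [LambdaRing.LambdaOps KX] (PX : LambdaRing.PosStructure KX) (φX : SGA6.Kvb X →+ KX) (hKX : KRR.IsModel X KX PX φX)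
    (KY : Type v) [CommRing KY] [LambdaRing.LambdaOps KY] (PY : LambdaRing.PosStructure KY) (φY : SGA6.Kvb Y →+ KY) (hKY : KRR.IsModel Y KY PY φY) :
    ∃! h : KX →+ KY, KRR.IsPushCl f φX φY h := by
  classical
  haveI := hf.1
  let eX := AddEquiv.ofBijective φX hKX.bijective
  have hfr : ∀ F : X.Modules, FlatMod.IsFinLocFree F →
      Groth.KTheory.Resolution.FinRes (KRR.vbP Y) (Groth.KTheory.cohProp Y) ((Scheme.Modules.pushforward f).obj F) :=
    fun F hF => Groth.KTheory.PushRes.finRes_push f hf hYe hF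
  let G₀ : SGA6.Kvb X →+ SGA6.Kvb Y := Groth.KTheory.liftSub _
    (fun F => Groth.KTheory.PushRes.eul hYe ((Scheme.Modules.pushforward f).obj F)) fun S hS h₁ h₂ h₃ => by
      haveI := Groth.KTheory.LocFree.isQCoh h₁
      haveI := Groth.KTheory.LocFree.isQCoh h₂
      haveI := Groth.KTheory.LocFree.isQCoh h₃
      exact Groth.KTheory.PushRes.eul_rel hYe (Groth.KTheory.PushProps.shortExact_push f hS)
        (hfr _ h₁) (hfr _ h₂) (hfr _ h₃)
  refine ⟨φY.comp (G₀.comp eX.symm.toAddMonoidHom), fun F hF m L π hL => ?_, fun g hg => ?_⟩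
  · show φY (G₀ (eX.symm (φX (KRR.cl X F)))) = _
    rw [show eX.symm (φX (KRR.cl X F)) = KRR.cl X F from eX.symm_apply_apply _]
    refine (congrArg φY ((Groth.KTheory.liftSub_clSub _ _ hF).trans
      (eul_eq_sum hYe (Groth.CohTwo.isCoh_push f (Groth.KTheory.LocFree.isCoh hF)) hL))).trans ?_
    rw [map_sum]
    exact Finset.sum_congr rfl fun k _ => map_zsmul φY _ _
  · refine Groth.KTheory.PushProps.k_hom_ext hKX fun F hF => ?_
    show g (φX (KRR.cl X F)) = φY (G₀ (eX.symm (φX (KRR.cl X F))))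
    rw [show eX.symm (φX (KRR.cl X F)) = KRR.cl X F from eX.symm_apply_apply _,
      Groth.KTheory.PushRes.pushCl_eq hYe f hg hf hF]
    exact congrArg φY (Groth.KTheory.liftSub_clSub
      (fun F => Groth.KTheory.PushRes.eul hYe ((Scheme.Modules.pushforward f).obj F)) _ hF).symm

end Groth.Agent.S3799
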