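import Groth.Statements.S3802
import Groth.Agent.LambdaCore.RootKernel

set_option autoImplicit false
universe v u
open CategoryTheory CategoryTheory.Limits AlgebraicGeometry
attribute [local instance] HasDerivedCategory.standard
open KRR

namespace Groth.Agent.S3802

/-- Let K be a λ-ring with positive structure having the splitting property, c positive with ε(c) = r +
1, and K_c = K[T]/(p_c) with generator ℓ, equipped with a λ-structure extending that of K with
λ^i(ℓ) = 0 for i ≥ 2 and a positive structure making K ⟶ K_c an extension with ℓ a line element and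
c - ℓ positive (when r ≥ 1), having the splitting property; let f : K_c ⟶ K be the associated
K-linear functional (f(ℓ^i) = σ^i(c) for i ≤ r). If z ∈ K_c satisfies z (1 - ℓ) = 0, then z = f(z) ·
λ_{-1}(c - ℓ), where λ_{-1}(c - ℓ) = Σ_{i ≤ r} (-1)^i λ^i(c - ℓ). -/
theorem result (K : Type v) [CommRing K] [LambdaRing.LambdaOps K] (P : LambdaRing.PosStructure K) (hK : LambdaRing.HasSplitting K P) (c : K) (hc : c ∈ P.pos) (r : ℕ) (hr : P.aug c = r + 1)
    (inst : LambdaRing.LambdaOps (AdjoinRoot (KRR.extPoly P c))) (Pc : @LambdaRing.PosStructure _ _ inst)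
    (hext : @LambdaRing.IsExtension K _ _ _ _ inst P Pc (AdjoinRoot.of (KRR.extPoly P c)))
    (hroot : ∀ i : ℕ, 2 ≤ i → @LambdaRing.LambdaOps.lam _ _ inst i (AdjoinRoot.root (KRR.extPoly P c)) = 0)
    (hline : @LambdaRing.PosStructure.IsLine _ _ inst Pc (AdjoinRoot.root (KRR.extPoly P c)))
    (hpos : 1 ≤ r → AdjoinRoot.of (KRR.extPoly P c) c - AdjoinRoot.root (KRR.extPoly P c) ∈ (@LambdaRing.PosStructure.pos _ _ inst Pc))
    (hsplit : @LambdaRing.HasSplitting _ _ inst Pc)
    (f : AdjoinRoot (KRR.extPoly P c) →ₗ[K] K)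
    (hf : ∀ i : ℕ, i ≤ r → f (AdjoinRoot.root (KRR.extPoly P c) ^ i) = KRR.sigma i c)
    (z : AdjoinRoot (KRR.extPoly P c)) (hz : z * (1 - AdjoinRoot.root (KRR.extPoly P c)) = 0) :
    z = AdjoinRoot.of (KRR.extPoly P c) (f z) *
      @KRR.lamAlt _ _ inst Pc (AdjoinRoot.of (KRR.extPoly P c) c - AdjoinRoot.root (KRR.extPoly P c)) := by
  have h : (@LambdaRing.PosStructure.aug _ _ inst Pc (AdjoinRoot.of (KRR.extPoly P c) c - AdjoinRoot.root (KRR.extPoly P c))).toNat = r := by
    rw [map_sub, hext.aug_comp, hline.2, hr]; omega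
  simp only [KRR.lamAlt, h]
  exact Groth.LambdaCore.eq_functional_mul_of_mul_one_sub_root hc hr inst
    (fun i x => (hext.isLambdaHom i x).symm) hroot f hf z hz

end Groth.Agent.S3802
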