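import Groth.Statements.S3804
import Groth.Agent.LambdaCore.ElementaryRR

set_option autoImplicit false
universe v u
open CategoryTheory CategoryTheory.Limits AlgebraicGeometry
attribute [local instance] HasDerivedCategory.standard
open scoped TensorProduct
open KRR

namespace Groth.Agent.S3804

/-- For the model elementary projection: let K be a λ-ring with positive structure having the splitting
property, e positive with ε(e) = r + 1, K_e = K[T]/(p_e) with generator ℓ (a unit, inverse linv),
carrying a λ-structure extending that of K with λ^i(ℓ) = 0 for i ≥ 2 and a positive structure making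
K ⟶ K_e an extension with ℓ a line element and e - ℓ positive (when r ≥ 1), having the splitting
property, and with F^N K_e = 0 for some N (the published statement assumes instead that 1 - u is
nilpotent for all line elements u of the rings in play). Let f : K_e ⟶ K be the associated K-linear
functional (f(ℓ^i) = σ^i(e), i ≤ r) and j ≥ 1. The published statement's hypothesis 'j invertible in
K' is read here after tensoring with R = ℤ[1/j] (no λ-ring with an augmentation onto ℤ has j
invertible for j ≥ 2). Then 1 ⊗ θ^j(e ℓ⁻¹) is invertible in R ⊗ K_e, and for every inverse w of it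
and every x ∈ K_e: 1 ⊗ ψ^j(f(x)) = (R ⊗ f)(j · w · (1 ⊗ ψ^j(x))) in R ⊗ K. -/
theorem result (K : Type v) [CommRing K] [LambdaRing.LambdaOps K] (P : LambdaRing.PosStructure K) (hK : LambdaRing.HasSplitting K P) (e : K) (he : e ∈ P.pos) (r : ℕ) (hr : P.aug e = r + 1)
    (inst : LambdaRing.LambdaOps (AdjoinRoot (KRR.extPoly P e))) (Pe : @LambdaRing.PosStructure _ _ inst)
    (hext : @LambdaRing.IsExtension K _ _ _ _ inst P Pe (AdjoinRoot.of (KRR.extPoly P e)))
    (hroot : ∀ i : ℕ, 2 ≤ i → @LambdaRing.LambdaOps.lam _ _ inst i (AdjoinRoot.root (KRR.extPoly P e)) = 0)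
    (hline : @LambdaRing.PosStructure.IsLine _ _ inst Pe (AdjoinRoot.root (KRR.extPoly P e)))
    (hpos : 1 ≤ r → AdjoinRoot.of (KRR.extPoly P e) e - AdjoinRoot.root (KRR.extPoly P e) ∈ (@LambdaRing.PosStructure.pos _ _ inst Pe))
    (hsplit : @LambdaRing.HasSplitting _ _ inst Pe) (N : ℕ) (hN : @LambdaRing.gammaFiltration _ _ inst Pe N = ⊥)
    (f : AdjoinRoot (KRR.extPoly P e) →ₗ[K] K)
    (hf : ∀ i : ℕ, i ≤ r → f (AdjoinRoot.root (KRR.extPoly P e) ^ i) = KRR.sigma i e)
    (linv : AdjoinRoot (KRR.extPoly P e)) (hlinv : linv * AdjoinRoot.root (KRR.extPoly P e) = 1)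
    (j : ℕ) (hj : 1 ≤ j) :
    (∃ w : TensorProduct ℤ (Localization.Away (j : ℤ)) (AdjoinRoot (KRR.extPoly P e)), w * ((1 : Localization.Away (j : ℤ)) ⊗ₜ[ℤ] @KRR.bott _ _ inst Pe j (AdjoinRoot.of (KRR.extPoly P e) e * linv)) = 1) ∧
    ∀ w : TensorProduct ℤ (Localization.Away (j : ℤ)) (AdjoinRoot (KRR.extPoly P e)), w * ((1 : Localization.Away (j : ℤ)) ⊗ₜ[ℤ] @KRR.bott _ _ inst Pe j (AdjoinRoot.of (KRR.extPoly P e) e * linv)) = 1 →
      ∀ x : AdjoinRoot (KRR.extPoly P e),
        (1 : Localization.Away (j : ℤ)) ⊗ₜ[ℤ] LambdaRing.adams P j (f x) =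
          LinearMap.lTensor (Localization.Away (j : ℤ)) f.toAddMonoidHom.toIntLinearMap
            ((j : TensorProduct ℤ (Localization.Away (j : ℤ)) (AdjoinRoot (KRR.extPoly P e))) * w * ((1 : Localization.Away (j : ℤ)) ⊗ₜ[ℤ] @LambdaRing.adams _ _ inst Pe j x)) := by
  have hij : ((j : ℕ) : Localization.Away (j : ℤ)) * IsLocalization.Away.invSelf (j : ℤ) = 1 := by
    simpa using IsLocalization.Away.mul_invSelf (S := Localization.Away (j : ℤ)) (j : ℤ)
  exact Groth.LambdaCore.adams_riemann_roch_elementary hK he hr inst Pe hext hline hsplit N hN f hf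
    linv hlinv j (Localization.Away (j : ℤ)) (IsLocalization.Away.invSelf (j : ℤ)) hij

end Groth.Agent.S3804
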