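import Groth.Statements.S3809
import Groth.Agent.PP.Functorial

set_option autoImplicit false
universe u
open scoped TensorProduct
open PP16

namespace Groth.Agent.S3809

/-- Let A → B → C be ring maps. Then the canonical map P^n_{C/A} → P^n_{C/B} is surjective, and its
kernel is the ideal generated by the image, under the canonical map P^n_{B/A} → P^n_{C/A}, of the
augmentation ideal of P^n_{B/A}. -/
theorem result (n : ℕ) (A B C : Type u) [CommRing A] [CommRing B] [CommRing C]
    [Algebra A B] [Algebra B C] [Algebra A C] [IsScalarTower A B C] :
    Function.Surjective (PP16.map n A C B C) ∧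
      RingHom.ker (PP16.map n A C B C) = (PP16.augIdeal n A B).map (PP16.map n A B A C) := by
  exact ⟨Groth.PP.map_surjective_of_tower n A B C, Groth.PP.ker_map_tower n A B C⟩

end Groth.Agent.S3809
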