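import Groth.Statements.S3810
import Groth.Agent.PP.Functorial

set_option autoImplicit false
universe u
open scoped TensorProduct
open PP16

namespace Groth.Agent.S3810

/-- Let B be an A-algebra, K an ideal of B and C = B/K. Then the canonical map P^n_{B/A} → P^n_{C/A} is
surjective and its kernel is the ideal generated by the image of K under the structure map B →
P^n_{B/A} together with the image of K under the principal-part map d^n (the latter is an additive
subgroup, not a B-submodule, in general). -/
theorem result (n : ℕ) (A B : Type u) [CommRing A] [CommRing B] [Algebra A B]
    (K : Ideal B) :
    Function.Surjective (PP16.map n A B A (B ⧸ K)) ∧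
      RingHom.ker (PP16.map n A B A (B ⧸ K)) =
        K.map (algebraMap B (PP16.P n A B)) ⊔ K.map (PP16.dn n A B) := by
  exact ⟨Groth.PP.map_surjective_of_quotient n A B K, Groth.PP.ker_map_quotient n A B K⟩

end Groth.Agent.S3810
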