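import Groth.Statements.S3811
import Groth.Agent.PP.Functorial

set_option autoImplicit false
universe u
open scoped TensorProduct
open PP16

namespace Groth.Agent.S3811

/-- Let B be an A-algebra with an A-algebra retraction g : B → A, and K the kernel of g. The composite
of d^n : B → P^n_{B/A} with the projection P^n_{B/A} → P^n_{B/A} / K P^n_{B/A} (base change of
P^n_{B/A} along g) is surjective with kernel K^(n+1); thus P^n_{B/A} ⊗_B A is identified with
B/K^(n+1), the class of d^n t corresponding to the class of t. -/
theorem result (n : ℕ) (A B : Type u) [CommRing A] [CommRing B] [Algebra A B]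
    (g : B →ₐ[A] A) :
    Function.Surjective ((Ideal.Quotient.mk ((RingHom.ker g).map (algebraMap B (PP16.P n A B)))).comp
        (PP16.dn n A B).toRingHom) ∧
      RingHom.ker ((Ideal.Quotient.mk ((RingHom.ker g).map (algebraMap B (PP16.P n A B)))).comp
        (PP16.dn n A B).toRingHom) = RingHom.ker g ^ (n + 1) := by
  exact Groth.PP.retraction_facts n A B g

end Groth.Agent.S3811
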