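import Groth.Statements.S3812
import Groth.Agent.PP.Polynomial

set_option autoImplicit false
universe u
open scoped TensorProduct
open PP16

namespace Groth.Agent.S3812

/-- Let B = A[T_i] be a polynomial algebra. There is an isomorphism of B-algebras from P^n_{B/A} onto
B[U_i]/(U)^(n+1), where (U) is the ideal generated by the new indeterminates, sending the principal
part d^n T_i to the class of T_i + U_i for every i (so d^n F(T) goes to the class of F(T + U)). -/
theorem result (n : ℕ) (A : Type u) [CommRing A] (σ : Type u) :
    ∃ e : PP16.P n A (MvPolynomial σ A) ≃ₐ[MvPolynomial σ A]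
        (MvPolynomial σ (MvPolynomial σ A) ⧸
          Ideal.span (Set.range (MvPolynomial.X : σ → MvPolynomial σ (MvPolynomial σ A))) ^ (n + 1)),
      ∀ i : σ, e (PP16.dn n A (MvPolynomial σ A) (MvPolynomial.X i)) =
        Ideal.Quotient.mk _ (MvPolynomial.C (MvPolynomial.X i : MvPolynomial σ A) +
          (MvPolynomial.X i : MvPolynomial σ (MvPolynomial σ A))) := by
  exact Groth.PP.exists_equiv_mvPolynomial n A σ

end Groth.Agent.S3812
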