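import Groth.Statements.S3815
import Groth.Agent.PP.DiffOp

set_option autoImplicit false
universe u
open scoped TensorProduct
open scoped BigOperators
open PP16

namespace Groth.Agent.S3815

/-- Let B be an A-algebra, M and N two B-modules and D : M → N an A-linear map. Let P^n(M) = P^n_{B/A}
⊗_B M, the tensor product formed with the B-module structure of P^n_{B/A} through d^n, regarded as a
B-module through the first factor of P^n_{B/A}, with d^n_M : M → P^n(M), m ↦ 1 ⊗ m. Then D is a
differential operator of order at most n relative to A (order defined through iterated commutators
with multiplication by elements of B) if and only if there is exactly one additive map u : P^n(M) →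
N which is B-linear for the first-factor structure and satisfies u(1 ⊗ m) = D(m) for all m ∈ M. -/
theorem result (n : ℕ) (A B : Type u) [CommRing A] [CommRing B] [Algebra A B]
    (M N : Type u) [AddCommGroup M] [Module A M] [Module B M] [IsScalarTower A B M]
    [AddCommGroup N] [Module A N] [Module B N] [IsScalarTower A B N] (D : M →ₗ[A] N) :
    Diff16.IsDiffOpLE A B M N n D ↔
      ∃! u : PP16.PM n A B M →+ N,
        (∀ (b : B) (t : PP16.PM n A B M), u (algebraMap B (PP16.P n A B) b • t) = b • u t) ∧
          ∀ m : M, u (PP16.dM n A B M m) = D m := by
  exact Groth.PP.isDiffOpLE_iff_existsUnique D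

end Groth.Agent.S3815
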