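import Groth.Statements.S3826
import Groth.Agent.PP.QRCharts
import Groth.Agent.PP.QRDescent
import Mathlib.RingTheory.Ideal.Cotangent

set_option autoImplicit false
universe u
open scoped TensorProduct
open QReg16

namespace Groth.Agent.S3826

section Cotangent

open Groth.PP

variable {R : Type u} [CommRing R] {J : Ideal R} {m : ℕ} (x : Fin m → R) (hx : Ideal.span (Set.range x) = J)

include hx in
theorem mem_of_gen (i : Fin m) : x i ∈ J := hx ▸ Ideal.subset_span ⟨i, rfl⟩

/-- The presentation of `J/J²` over `R/J` by generators. -/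
noncomputable def pres : (Fin m → R ⧸ J) →ₗ[R ⧸ J] J.Cotangent :=
  Fintype.linearCombination (R ⧸ J) fun i => J.toCotangent ⟨x i, mem_of_gen x hx i⟩

theorem pres_mk (a : Fin m → R) (h : ∑ i, a i * x i ∈ J) :
    pres x hx (fun i => Ideal.Quotient.mk J (a i)) = J.toCotangent ⟨∑ i, a i * x i, h⟩ := by
  have e : (⟨∑ i, a i * x i, h⟩ : J) = ∑ i, a i • (⟨x i, mem_of_gen x hx i⟩ : J) := Subtype.ext (by simp)
  rw [pres, Fintype.linearCombination_apply, e, map_sum]
  refine Finset.sum_congr rfl fun i _ => ?_
  rw [map_smul]
  exact algebraMap_smul (R ⧸ J) (a i) _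

theorem pres_surjective : Function.Surjective (pres x hx) := by
  intro y
  obtain ⟨⟨z, hz⟩, rfl⟩ := J.toCotangent_surjective y
  obtain ⟨a, ha⟩ := Ideal.mem_span_range_iff_exists_fun.1 (show z ∈ Ideal.span (Set.range x) from hx.symm ▸ hz)
  subst ha
  exact ⟨_, pres_mk x hx a hz⟩

theorem pres_eq_zero_iff (a : Fin m → R) :
    pres x hx (fun i => Ideal.Quotient.mk J (a i)) = 0 ↔ ∑ i, a i * x i ∈ J ^ 2 := by
  rw [pres_mk x hx a (sum_mem fun i _ => J.mul_mem_left _ (mem_of_gen x hx i)), Ideal.toCotangent_eq_zero]

include hx in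
theorem split_iff_projective : QR.Split J x ↔ Module.Projective (R ⧸ J) J.Cotangent := by
  classical
  constructor
  · rintro ⟨E, h1, h2⟩
    let T : (Fin m → R ⧸ J) →ₗ[R ⧸ J] (Fin m → R ⧸ J) :=
      Fintype.linearCombination (R ⧸ J) fun i j => Ideal.Quotient.mk J (E i j)
    have hker : LinearMap.ker (pres x hx) ≤ LinearMap.ker T := fun b hb => by
      choose a ha using fun i => Ideal.Quotient.mk_surjective (b i)
      obtain rfl : (fun i => Ideal.Quotient.mk J (a i)) = b := funext ha
      have hrel := (pres_eq_zero_iff x hx a).1 hb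
      rw [LinearMap.mem_ker, Fintype.linearCombination_apply]
      funext j
      have := Ideal.Quotient.eq_zero_iff_mem.2 (h2 a hrel j)
      simpa [Finset.sum_apply] using this
    let s : J.Cotangent →ₗ[R ⧸ J] (Fin m → R ⧸ J) :=
      (LinearMap.ker (pres x hx)).liftQ T hker ∘ₗ
        ((pres x hx).quotKerEquivOfSurjective (pres_surjective x hx)).symm.toLinearMap
    have hs : ∀ b, s (pres x hx b) = T b := fun b => by
      show (LinearMap.ker (pres x hx)).liftQ T hker
        (((pres x hx).quotKerEquivOfSurjective (pres_surjective x hx)).symm (pres x hx b)) = T b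
      rw [show ((pres x hx).quotKerEquivOfSurjective (pres_surjective x hx)).symm (pres x hx b) =
        Submodule.Quotient.mk b from (LinearEquiv.symm_apply_eq _).2 rfl]
      rfl
    refine Module.Projective.of_split s (pres x hx) (LinearMap.ext fun y => ?_)
    obtain ⟨b, rfl⟩ := pres_surjective x hx y
    rw [LinearMap.comp_apply, hs, LinearMap.id_apply, Fintype.linearCombination_apply, map_sum]
    conv_rhs => rw [pres, Fintype.linearCombination_apply]
    simp only [map_smul]
    refine Finset.sum_congr rfl fun i _ => congrArg (b i • ·) ?_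
    rw [pres_mk x hx (E i) (sum_mem fun j _ => J.mul_mem_left _ (mem_of_gen x hx j))]
    exact (Ideal.toCotangent_eq J).2 (neg_sub (x i) _ ▸ neg_mem (h1 i))
  · intro _
    obtain ⟨s, hs⟩ := Module.projective_lifting_property (pres x hx) LinearMap.id (pres_surjective x hx)
    let xb : Fin m → J.Cotangent := fun i => J.toCotangent ⟨x i, mem_of_gen x hx i⟩
    choose E hE using fun i j => Ideal.Quotient.mk_surjective (s (xb i) j)
    refine ⟨E, fun i => ?_, fun a ha j => ?_⟩
    · have hmem : ∑ j, E i j * x j ∈ J := sum_mem fun j _ => J.mul_mem_left _ (mem_of_gen x hx j)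
      refine (Ideal.toCotangent_eq J (x := ⟨x i, mem_of_gen x hx i⟩) (y := ⟨_, hmem⟩)).1 ?_
      rw [← pres_mk x hx (E i) hmem, funext (hE i)]
      exact (LinearMap.congr_fun hs (xb i)).symm
    · rw [← Ideal.Quotient.eq_zero_iff_mem, map_sum]
      simp only [map_mul, hE]
      have h0 := congrArg (fun w => s w j) ((pres_eq_zero_iff x hx a).2 ha)
      simp only [pres, Fintype.linearCombination_apply, map_sum, map_smul, map_zero, Finset.sum_apply,
        Pi.smul_apply, smul_eq_mul, Pi.zero_apply] at h0
      exact h0

end Cotangent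

/-- Affine form, X = Spec R: an ideal J of a ring R is quasi-regular (locally on Spec R generated by a
quasi-regular sequence) if and only if (i) J is finitely generated, (ii) J/J² is a locally free
R/J-module of finite type, here: finitely generated projective, and (iii) the canonical surjections
Sym^n(J/J²) → J^n/J^(n+1) are bijective for every n. -/
theorem result (R : Type u) [CommRing R] (J : Ideal R) :
    PP16.IsLocallyQuasiRegular R J ↔
      J.FG ∧ Module.Projective (R ⧸ J) J.Cotangent ∧ PP16.SymGrBijective R J := by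
  classical
  constructor
  · intro h
    have hch := Groth.PP.QR.charted_of_lqr h
    have hfg : J.FG := Groth.PP.QR.fg_of_gen fun P hP hJP => by
      obtain ⟨g, r, f, hg, hgen, -⟩ := hch P hP hJP
      exact ⟨g, r, f, hg, hgen⟩
    obtain ⟨m, x, hx⟩ := Submodule.fg_iff_exists_fin_generating_family.1 hfg
    exact ⟨hfg, (split_iff_projective x hx).1 (Groth.PP.QR.split_of_charted hx hch),
      Groth.PP.QR.symGrBijective_of_charted hch⟩
  · rintro ⟨hfg, hproj, hsym⟩
    obtain ⟨m, x, hx⟩ := Submodule.fg_iff_exists_fin_generating_family.1 hfg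
    refine Groth.PP.QR.lqr_descent (B := R) x hx ?_ ?_
    · simpa [Algebra.algebraMap_self, Ideal.map_id] using (split_iff_projective x hx).2 hproj
    · simpa [Algebra.algebraMap_self, Ideal.map_id] using hsym

end Groth.Agent.S3826
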