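import Groth.Statements.S3828
import Groth.Agent.Ega4Algebra2.RegSeq
-- import your own Groth.Agent.* helpers here

set_option autoImplicit false
universe u
open QReg16

namespace Groth.Agent.S3828

/-- Let A be a Noetherian ring, J an ideal of A, and f_1, …, f_r elements of A forming a weakly regular
sequence on A/J (each f_i a nonzerodivisor on A/(J + (f_1, …, f_{i−1}))) and generating an ideal R
contained in the Jacobson radical of A; put Q = J + R. Then J ∩ Rⁿ = J·Rⁿ for every n > 0, and J ∩
Q² = J·Q (equivalently, the canonical map J/JQ → Q/Q² is injective). -/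
theorem result {A : Type u} [CommRing A] [IsNoetherianRing A] (J : Ideal A)
    {r : ℕ} (f : Fin r → A) (hf : RingTheory.Sequence.IsWeaklyRegular (A ⧸ J) (List.ofFn f))
    (hrad : Ideal.span (Set.range f) ≤ (⊥ : Ideal A).jacobson) :
    (∀ n : ℕ, 0 < n → J ⊓ Ideal.span (Set.range f) ^ n = J * Ideal.span (Set.range f) ^ n) ∧
      J ⊓ (J ⊔ Ideal.span (Set.range f)) ^ 2 = J * (J ⊔ Ideal.span (Set.range f)) := by
  have hR : Ideal.span (Set.range f) = Ideal.ofList (List.ofFn f) := by
    unfold Ideal.ofList; congr 1; ext x; simp [List.mem_ofFn]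
  rw [hR]
  set R := Ideal.ofList (List.ofFn f)
  have key := Groth.Ega4b.inf_pow_eq_mul_pow J _ hf
  refine ⟨fun n _ => key n, le_antisymm ?_ (le_inf Ideal.mul_le_left ?_)⟩
  · have h2 : (J ⊔ R) ^ 2 ≤ J * (J ⊔ R) ⊔ R ^ 2 := by
      rw [pow_two, pow_two, Ideal.sup_mul, Ideal.mul_sup R J R]
      exact sup_le le_sup_left (sup_le (le_sup_of_le_left (by
        rw [mul_comm R J]; exact Ideal.mul_mono le_rfl le_sup_right)) le_sup_right)
    refine (inf_le_inf le_rfl h2).trans ?_
    rw [inf_comm, sup_inf_assoc_of_le _ Ideal.mul_le_left, inf_comm (R ^ 2), key 2]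
    exact sup_le le_rfl (Ideal.mul_mono le_rfl ((Ideal.pow_le_self two_ne_zero).trans le_sup_right))
  · rw [pow_two]; exact Ideal.mul_mono le_sup_left le_rfl

end Groth.Agent.S3828
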