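import Groth.Statements.S3830
import Mathlib.RingTheory.Unramified.LocalStructure
import Mathlib.RingTheory.Etale.Locus
import Mathlib.RingTheory.QuasiFinite.Basic
import Mathlib.RingTheory.Ideal.GoingDown
import Mathlib.RingTheory.Polynomial.Quotient
import Mathlib.RingTheory.Algebraic.Integral
-- import your own Groth.Agent.* helpers here

set_option autoImplicit false
universe u
open Unram17

namespace Groth.Agent.S3830

/-- b) implies a) (affine pointwise form): let B be an A-algebra of finite presentation and q a prime of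
B. If B is smooth over A at q and quasi-finite over A at q, then B is étale over A at q. -/
theorem result (A B : Type u) [CommRing A] [CommRing B] [Algebra A B]
    [Algebra.FinitePresentation A B] (q : Ideal B) [q.IsPrime] [Algebra.QuasiFiniteAt A q]
    (h : Algebra.IsSmoothAt A q) : Algebra.IsEtaleAt A q := by
  obtain ⟨f, hfq, n, _, _, _⟩ := Algebra.IsSmoothAt.exists_isStandardEtale_mvPolynomial (R := A) (p := q)
  suffices hn : n = 0 by
    subst hn
    have : Algebra.Etale A (MvPolynomial (Fin 0) A) :=
      Algebra.Etale.of_equiv (MvPolynomial.isEmptyAlgEquiv A (Fin 0)).symm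
    have : Algebra.Etale A (Localization.Away f) :=
      Algebra.Etale.comp A (MvPolynomial (Fin 0) A) _
    exact (Algebra.basicOpen_subset_etaleLocus_iff_etale.2 this) (show (⟨q, ‹_›⟩ : PrimeSpectrum B) ∈
      PrimeSpectrum.basicOpen f from hfq)
  by_contra hn
  let P := MvPolynomial (Fin n) A
  let Bf := Localization.Away f
  let p := q.under A
  have hdisj : Disjoint ((Submonoid.powers f : Submonoid B) : Set B) q :=
    (Ideal.disjoint_powers_iff_notMem_of_isPrime _).2 hfq
  let q' := q.map (algebraMap B Bf)
  have : q'.IsPrime := IsLocalization.isPrime_of_isPrime_disjoint (.powers f) _ _ ‹_› hdisj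
  have hover : q'.LiesOver q :=
    ⟨(IsLocalization.under_map_of_isPrime_disjoint (.powers f) Bf ‹_› hdisj).symm⟩
  have : Algebra.QuasiFiniteAt A q' := Algebra.QuasiFiniteAt.of_surjectiveOnStalks_of_liesOver q
    (RingHom.surjectiveOnStalks_of_isLocalization (Submonoid.powers f) Bf) q'
  have hqp : q'.under A = p := by
    show q'.under A = q.under A
    rw [hover.over, Ideal.under_under]
  have : q'.LiesOver p := ⟨hqp.symm⟩
  -- the prime `p[X]` is the image of `q'`
  have hC0 : (p.map (MvPolynomial.C : A →+* P)).IsPrime := by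
    rw [← Ideal.Quotient.isDomain_iff_prime]
    exact MulEquiv.isDomain _ (MvPolynomial.quotientEquivQuotientMvPolynomial p).symm.toMulEquiv
  have hle : p.map (MvPolynomial.C : A →+* P) ≤ q'.under P := by
    rw [Ideal.map_le_iff_le_comap, ← hqp, ← MvPolynomial.algebraMap_eq]
    intro a ha
    show algebraMap P Bf (algebraMap A P a) ∈ q'
    rw [← IsScalarTower.algebraMap_apply]
    exact ha
  have : Algebra.Etale P Bf := inferInstance
  have : Algebra.HasGoingDown P Bf := Algebra.HasGoingDown.of_flat
  obtain ⟨Q, hQle, hQp, hQo⟩ := Ideal.exists_ideal_le_liesOver_of_le q' (q := q'.under P) hle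
  have hpC : ((p.map (MvPolynomial.C : A →+* P))).under A = p := by
    ext a
    show MvPolynomial.C a ∈ (p.map MvPolynomial.C : Ideal P) ↔ a ∈ p
    rw [MvPolynomial.mem_map_C_iff (I := p)]
    refine ⟨fun h => by simpa using h 0, fun h m => ?_⟩
    rw [MvPolynomial.coeff_C]
    split_ifs <;> simp [h]
  have hQq : Q = q' := Algebra.QuasiFiniteAt.eq_of_le_of_under_eq hQle <| by
    rw [hqp, ← Ideal.under_under (B := P), ← hQo.over, hpC]
  -- the first variable is algebraic modulo `p`
  let x : Bf := algebraMap P Bf (MvPolynomial.X ⟨0, Nat.pos_of_ne_zero hn⟩)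
  let _ := Localization.AtPrime.algebraOfLiesOver p q'
  let _ : Algebra (A ⧸ p) q'.ResidueField :=
    ((algebraMap p.ResidueField q'.ResidueField).comp (algebraMap (A ⧸ p) p.ResidueField)).toAlgebra
  have : IsScalarTower (A ⧸ p) p.ResidueField q'.ResidueField := IsScalarTower.of_algebraMap_eq fun _ => rfl
  have : IsScalarTower A (A ⧸ p) q'.ResidueField := IsScalarTower.of_algebraMap_eq fun a =>
    (IsScalarTower.algebraMap_apply A p.ResidueField q'.ResidueField a).trans rfl
  have halg : IsAlgebraic (A ⧸ p) (algebraMap Bf q'.ResidueField x) :=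
    (IsFractionRing.isAlgebraic_iff (A ⧸ p) p.ResidueField q'.ResidueField).2
      (Algebra.IsAlgebraic.isAlgebraic _)
  obtain ⟨h, hh0, hhx⟩ := halg
  obtain ⟨H, rfl⟩ := Polynomial.map_surjective _ Ideal.Quotient.mk_surjective h
  have hHq : Polynomial.aeval x H ∈ q' := by
    rw [← Ideal.algebraMap_residueField_eq_zero, ← Polynomial.aeval_algebraMap_apply]
    rwa [← Ideal.Quotient.algebraMap_eq, Polynomial.aeval_map_algebraMap] at hhx
  have hHC : Polynomial.aeval (MvPolynomial.X ⟨0, Nat.pos_of_ne_zero hn⟩ : P) H ∈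
      p.map (MvPolynomial.C : A →+* P) := by
    rw [hQo.over, hQq]
    show algebraMap P Bf _ ∈ q'
    rwa [← Polynomial.aeval_algebraMap_apply]
  let ψ : P →ₐ[A] (Polynomial A) := MvPolynomial.aeval fun _ => Polynomial.X
  have := Ideal.mem_map_of_mem ψ.toRingHom hHC
  rw [Ideal.map_map, show ψ.toRingHom.comp (MvPolynomial.C : A →+* P) = Polynomial.C from
    RingHom.ext fun a => by show (MvPolynomial.aeval _) (MvPolynomial.C a) = _; rw [MvPolynomial.aeval_C]; rfl, show ψ.toRingHom (Polynomial.aeval (MvPolynomial.X _ : P) H) = H from by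
      show ψ (Polynomial.aeval _ H) = H
      rw [← Polynomial.aeval_algHom_apply]
      show Polynomial.aeval ((MvPolynomial.aeval _) (MvPolynomial.X _)) H = H
      rw [MvPolynomial.aeval_X, Polynomial.aeval_X_left_apply]] at this
  refine hh0 (Polynomial.ext fun k => ?_)
  rw [Polynomial.coeff_map, Polynomial.coeff_zero, Ideal.Quotient.eq_zero_iff_mem]
  exact Ideal.mem_map_C_iff.1 this k

end Groth.Agent.S3830
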