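import Groth.Statements.S3832
import Groth.Agent.Ega4Algebra2.BlowNormFlatSmooth
import Mathlib

set_option autoImplicit false
universe u
open CategoryTheory CategoryTheory.Limits AlgebraicGeometry TopologicalSpace
open CInt19

namespace Groth.Agent.S3832

/-- Let g : X → S be locally of finite presentation, 𝓘 a quasi-coherent ideal of O_X whose closed
subscheme Y is locally of finite presentation and flat over S, with O_X normally flat along Y at
every point of Y, and let b : X' → X be a blowing-up along 𝓘 with exceptional divisor Y'. Suppose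
moreover that some morphism Y' → Y compatible with b is smooth, and let x' be a point of Y' with
image x in Y. Then Y is smooth over S on a neighbourhood of x if and only if Y' is smooth over S on
a neighbourhood of x'; and when this holds, X' is smooth over S on a neighbourhood of x'. -/
theorem result {X X' S : Scheme.{u}} (g : X ⟶ S) [LocallyOfFinitePresentation g]
    (𝓘 : X.IdealSheafData) [LocallyOfFinitePresentation (𝓘.subschemeι ≫ g)] [Flat (𝓘.subschemeι ≫ g)]
    (hnf : ∀ y : ↥𝓘.subscheme, EGA4.IsNormallyFlat (RingHom.ker (𝓘.subschemeι.stalkMap y).hom)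
      ↑(X.presheaf.stalk (𝓘.subschemeι y)))
    (b : X' ⟶ X) (hb : BlowUp.IsBlowUp b 𝓘)
    (f : (BlowUp.exceptional b 𝓘).subscheme ⟶ 𝓘.subscheme)
    (hf : f ≫ 𝓘.subschemeι = (BlowUp.exceptional b 𝓘).subschemeι ≫ b) [Smooth f]
    (x' : ↥(BlowUp.exceptional b 𝓘).subscheme) :
    ((∃ V : 𝓘.subscheme.Opens, f x' ∈ V ∧ Smooth (V.ι ≫ 𝓘.subschemeι ≫ g)) ↔
        ∃ V' : (BlowUp.exceptional b 𝓘).subscheme.Opens, x' ∈ V' ∧
          Smooth (V'.ι ≫ (BlowUp.exceptional b 𝓘).subschemeι ≫ b ≫ g)) ∧
      ((∃ V' : (BlowUp.exceptional b 𝓘).subscheme.Opens, x' ∈ V' ∧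
          Smooth (V'.ι ≫ (BlowUp.exceptional b 𝓘).subschemeι ≫ b ≫ g)) →
        ∃ W : X'.Opens, (BlowUp.exceptional b 𝓘).subschemeι x' ∈ W ∧ Smooth (W.ι ≫ b ≫ g)) := by
  exact ⟨⟨Groth.Ega4Algebra2.BlowNormFlat.smooth_exceptional_of_smooth_center g 𝓘 f hf x',
      Groth.Ega4Algebra2.BlowNormFlat.smooth_center_of_smooth_exceptional g 𝓘 f hf x'⟩,
    Groth.Ega4Algebra2.BlowNormFlat.smooth_blowUp_of_smooth_exceptional g 𝓘 f hf x' hnf hb⟩

end Groth.Agent.S3832
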