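import Groth.Statements.S3843
import Groth.Agent.FlatDense.Separating
import Mathlib.AlgebraicGeometry.Morphisms.Flat
import Mathlib.AlgebraicGeometry.Morphisms.FinitePresentation
-- import your own Groth.Agent.* helpers here

set_option autoImplicit false
universe u
open CategoryTheory CategoryTheory.Limits AlgebraicGeometry TopologicalSpace
open Rat20

namespace Groth.Agent.S3843

/-- For the open subset U = X; the general case is the same statement over the open subscheme U: let f :
X' → X be flat and locally of finite presentation. Then for every schematically dense open subset V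
of X, the preimage f⁻¹(V) is schematically dense in X'. -/
theorem result {X X' : Scheme.{u}} (f : X' ⟶ X) [Flat f]
    [LocallyOfFinitePresentation f] (V : X.Opens) (hV : CInt.IsSchematicallyDense V) :
    CInt.IsSchematicallyDense (f ⁻¹ᵁ V) := by
  intro O
  refine (injective_iff_map_eq_zero (X'.presheaf.map (homOfLE (inf_le_left : O ⊓ f ⁻¹ᵁ V ≤ O)).op).hom).2
    fun σ hσ => ?_
  apply TopCat.Presheaf.section_ext X'.sheaf
  intro x hx
  erw [map_zero]
  obtain ⟨_, ⟨W, hW, rfl⟩, hxW, -⟩ :=
    X.isBasis_affineOpens.exists_subset_of_mem_open (Set.mem_univ (f x)) isOpen_univ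
  obtain ⟨_, ⟨W', hW', rfl⟩, hxW', hW'le⟩ :=
    X'.isBasis_affineOpens.exists_subset_of_mem_open (show x ∈ O ⊓ f ⁻¹ᵁ W from ⟨hx, hxW⟩) (O ⊓ f ⁻¹ᵁ W).2
  replace hW : IsAffineOpen W := hW
  replace hW' : IsAffineOpen W' := hW'
  have hW'O : W' ≤ O := fun y hy => (hW'le hy).1
  have hle : W' ≤ f ⁻¹ᵁ W := fun y hy => (hW'le hy).2
  let φ := (f.appLE W W' hle).hom
  let _ : Algebra Γ(X, W) Γ(X', W') := φ.toAlgebra
  have : Module.Flat Γ(X, W) Γ(X', W') := f.flat_appLE hW hW' hle
  have : Algebra.FinitePresentation Γ(X, W) Γ(X', W') := f.finitePresentation_appLE hW hW' hle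
  have rr : ∀ {P Q R : X'.Opens} (i : P ≤ Q) (j : Q ≤ R) (t : Γ(X', R)),
      X'.presheaf.map (homOfLE i).op (X'.presheaf.map (homOfLE j).op t) =
        X'.presheaf.map (homOfLE (i.trans j)).op t := fun i j t => by
    rw [← CommRingCat.comp_apply, ← Functor.map_comp]
    rfl
  set s := X'.presheaf.map (homOfLE hW'O).op σ with hsdef
  suffices h : s = 0 by
    refine (TopCat.Presheaf.germ_res_apply X'.presheaf (homOfLE hW'O) x hxW' σ).symm.trans ?_
    erw [← hsdef, h, map_zero]
    rfl
  refine Groth.FlatDense.eq_zero_of_forall {γ : Γ(X, W) | X.basicOpen γ ≤ V} (fun a t hat => ?_) s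
    fun γ hγ => ?_
  · have := hW.isLocalization_basicOpen t
    suffices h0 : algebraMap Γ(X, W) Γ(X, X.basicOpen t) a = 0 by
      obtain ⟨⟨_, L, rfl⟩, hL⟩ := (IsLocalization.map_eq_zero_iff (Submonoid.powers t) _ _).1 h0
      exact ⟨L, hL⟩
    refine hV (X.basicOpen t) ?_
    rw [map_zero]
    apply TopCat.Presheaf.section_ext X.sheaf
    intro y hy
    erw [map_zero, TopCat.Presheaf.germ_res_apply]
    have hyW : y ∈ W := X.basicOpen_le t hy.1
    obtain ⟨γ, hγV, hyγ⟩ := hW.exists_basicOpen_le ⟨y, hy.2⟩ hyW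
    obtain ⟨m, hm⟩ := hat γ hγV
    have := congrArg (X.presheaf.germ W y hyW).hom hm
    rw [map_mul, map_pow, map_mul, map_zero] at this
    rw [((((Scheme.mem_basicOpen X γ y hyW).1 hyγ).mul ((Scheme.mem_basicOpen X t y hyW).1 hy.1)).pow m).mul_right_eq_zero] at this
    change X.presheaf.germ (X.basicOpen t) y hy.1 (X.presheaf.map (homOfLE (X.basicOpen_le t)).op a) = 0
    rw [TopCat.Presheaf.germ_res_apply]
    exact this
  · have hle' : X'.basicOpen (φ γ) ≤ O ⊓ f ⁻¹ᵁ V := by
      refine le_inf ((X'.basicOpen_le _).trans hW'O) ?_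
      rw [show X'.basicOpen (φ γ) = W' ⊓ f ⁻¹ᵁ X.basicOpen γ from Scheme.basicOpen_appLE f W' W hle γ]
      exact inf_le_right.trans (f.preimage_mono hγ)
    have := hW'.isLocalization_basicOpen (φ γ)
    have h0 : algebraMap Γ(X', W') Γ(X', X'.basicOpen (φ γ)) s = 0 := by
      change X'.presheaf.map (homOfLE (X'.basicOpen_le (φ γ))).op s = 0
      rw [hsdef, rr, ← rr hle' inf_le_left σ]
      exact (congrArg (X'.presheaf.map (homOfLE hle').op).hom hσ).trans (map_zero _)
    obtain ⟨⟨_, m, rfl⟩, hm⟩ := (IsLocalization.map_eq_zero_iff (Submonoid.powers (φ γ)) _ _).1 h0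
    refine ⟨m, ?_⟩
    rw [Algebra.smul_def, map_pow]
    exact hm

end Groth.Agent.S3843
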