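import Groth.Statements.S3835
import Groth.Agent.S3843
import Groth.Agent.GrpschAbsch.SchDense
import Mathlib.AlgebraicGeometry.Sites.Fpqc
import Mathlib.AlgebraicGeometry.Morphisms.UniversallyOpen
-- import your own Groth.Agent.* helpers here

set_option autoImplicit false
universe u
open CategoryTheory CategoryTheory.Limits AlgebraicGeometry TopologicalSpace
open Rat20

namespace Groth.Agent.S3835

/-- Let Y be separated over S, X an S-scheme with a schematically dense open subscheme U, h : U → Y an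
S-morphism (a representative of a pseudo-morphism from X to Y over S), and f : X' → X a flat
morphism locally of finite presentation, X' being regarded as an S-scheme through f. Let x' be a
point of X' with image x = f(x'). If there is an S-morphism from an open neighbourhood V' of x' to Y
agreeing with h ∘ f on f⁻¹(U) ∩ V' (the pulled-back pseudo-morphism is defined at x'), then there is
an S-morphism from an open neighbourhood V of x to Y agreeing with h on U ∩ V (the pseudo-morphism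
is defined at x). -/
theorem result {X X' Y S : Scheme.{u}} (pX : X ⟶ S) (pY : Y ⟶ S)
    [IsSeparated pY] (U : X.Opens) (hU : CInt.IsSchematicallyDense U) (h : (U : Scheme.{u}) ⟶ Y)
    (hh : h ≫ pY = U.ι ≫ pX) (f : X' ⟶ X) [Flat f] [LocallyOfFinitePresentation f] (x' : ↥X')
    (V' : X'.Opens) (hx' : x' ∈ V') (v' : (V' : Scheme.{u}) ⟶ Y) (hv'S : v' ≫ pY = V'.ι ≫ f ≫ pX)
    (hv' : X'.homOfLE (inf_le_right : f ⁻¹ᵁ U ⊓ V' ≤ V') ≫ v' =
      X'.homOfLE (inf_le_left : f ⁻¹ᵁ U ⊓ V' ≤ f ⁻¹ᵁ U) ≫ (f ∣_ U) ≫ h) :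
    ∃ (V : X.Opens) (v : (V : Scheme.{u}) ⟶ Y), f x' ∈ V ∧ v ≫ pY = V.ι ≫ pX ∧
      X.homOfLE (inf_le_right : U ⊓ V ≤ V) ≫ v = X.homOfLE (inf_le_left : U ⊓ V ≤ U) ≫ h := by
  let g : (V' : Scheme.{u}) ⟶ X := V'.ι ≫ f
  have : Flat g := inferInstance
  have : LocallyOfFinitePresentation g := inferInstance
  let V : X.Opens := ⟨Set.range g, g.isOpenMap.isOpen_range⟩
  let t := g ∣_ V
  have : Flat t := IsZariskiLocalAtTarget.restrict ‹Flat g› V
  have : LocallyOfFinitePresentation t := IsZariskiLocalAtTarget.restrict ‹LocallyOfFinitePresentation g› V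
  have : Surjective t := ⟨fun ⟨y, hy⟩ => by
    obtain ⟨z, rfl⟩ := hy
    exact ⟨⟨z, ⟨z, rfl⟩⟩, Subtype.ext (by change (t ≫ V.ι) _ = _; rw [morphismRestrict_ι]; rfl)⟩⟩
  obtain ⟨w, hwdef⟩ : ∃ w : (g ⁻¹ᵁ V : Scheme.{u}) ⟶ Y, w = (g ⁻¹ᵁ V).ι ≫ v' := ⟨_, rfl⟩
  -- `w` agrees with `h` over `U`
  have key : ∀ {Z : Scheme.{u}} (k : Z ⟶ (g ⁻¹ᵁ V : Scheme.{u})) (e : Z ⟶ (U : Scheme.{u})),
      e ≫ U.ι = k ≫ t ≫ V.ι → k ≫ w = e ≫ h := by
    intro Z k e he
    have he' : e ≫ U.ι = (k ≫ (g ⁻¹ᵁ V).ι ≫ V'.ι) ≫ f := by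
      rw [he, morphismRestrict_ι]
      simp only [g, Category.assoc]
    let l : Z ⟶ ((f ⁻¹ᵁ U ⊓ V' : X'.Opens) : Scheme.{u}) :=
      IsOpenImmersion.lift (f ⁻¹ᵁ U ⊓ V').ι (k ≫ (g ⁻¹ᵁ V).ι ≫ V'.ι) (by
        rintro _ ⟨z, rfl⟩
        rw [Scheme.Opens.range_ι]
        refine ⟨?_, ((g ⁻¹ᵁ V).ι (k z)).2⟩
        change f ((k ≫ (g ⁻¹ᵁ V).ι ≫ V'.ι) z) ∈ U
        rw [← Scheme.Hom.comp_apply, ← he']
        exact (e z).2)
    have hl : l ≫ (f ⁻¹ᵁ U ⊓ V').ι = k ≫ (g ⁻¹ᵁ V).ι ≫ V'.ι := IsOpenImmersion.lift_fac _ _ _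
    have h1 : l ≫ X'.homOfLE (inf_le_right : f ⁻¹ᵁ U ⊓ V' ≤ V') = k ≫ (g ⁻¹ᵁ V).ι := by
      rw [← cancel_mono V'.ι, Category.assoc, Scheme.homOfLE_ι, hl, Category.assoc]
    have h2 : l ≫ X'.homOfLE (inf_le_left : f ⁻¹ᵁ U ⊓ V' ≤ f ⁻¹ᵁ U) ≫ (f ∣_ U) = e := by
      rw [← cancel_mono U.ι, Category.assoc, Category.assoc, morphismRestrict_ι, ← Category.assoc,
        ← Category.assoc, Category.assoc l, Scheme.homOfLE_ι, hl, he']
    rw [hwdef]
    rw [← Category.assoc, ← h1, Category.assoc, hv', ← h2, Category.assoc, Category.assoc]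
  have hw : w ≫ pY = t ≫ V.ι ≫ pX := by
    rw [← Category.assoc t, morphismRestrict_ι]
    simp only [hwdef, g, Category.assoc, hv'S]
  have hcond : pullback.fst t t ≫ w = pullback.snd t t ≫ w := by
    let q : pullback t t ⟶ X := pullback.fst t t ≫ t ≫ V.ι
    have hq : q = pullback.snd t t ≫ t ≫ V.ι := pullback.condition_assoc _
    have := Groth.GrpschAbsch.isSchemeTheoreticallyDominant_ι (q ⁻¹ᵁ U)
      (Groth.Agent.S3843.result q U hU)
    refine Groth.GrpschAbsch.ext_of_isSchemeTheoreticallyDominant pY ?_ (q ⁻¹ᵁ U).ι ?_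
    · simp only [Category.assoc, hw]
      rw [← Category.assoc t, ← Category.assoc, ← Category.assoc (pullback.snd t t)]
      exact congrArg (· ≫ pX) hq
    · let e := IsOpenImmersion.lift U.ι ((q ⁻¹ᵁ U).ι ≫ q) (by
        rintro _ ⟨z, rfl⟩
        rw [Scheme.Opens.range_ι]
        exact z.2)
      have he : e ≫ U.ι = (q ⁻¹ᵁ U).ι ≫ q := IsOpenImmersion.lift_fac _ _ _
      rw [← Category.assoc, ← Category.assoc, key _ e (by rw [he, Category.assoc]),
        key _ e (by rw [he, Category.assoc, hq])]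
  let v : (V : Scheme.{u}) ⟶ Y := EffectiveEpi.desc t w fun g₁ g₂ e => by
    rw [← pullback.lift_fst g₁ g₂ e, Category.assoc, hcond, ← Category.assoc, pullback.lift_snd]
  have hv : t ≫ v = w := EffectiveEpi.fac t _ _
  refine ⟨V, v, ⟨⟨x', hx'⟩, rfl⟩, ?_, ?_⟩
  · rw [← cancel_epi t, ← Category.assoc, hv, hw]
  · let U₁ : (V : Scheme.{u}).Opens := V.ι ⁻¹ᵁ U
    have : Flat (t ∣_ U₁) := IsZariskiLocalAtTarget.restrict ‹Flat t› _
    have : LocallyOfFinitePresentation (t ∣_ U₁) := IsZariskiLocalAtTarget.restrict ‹LocallyOfFinitePresentation t› _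
    have : Surjective (t ∣_ U₁) := IsZariskiLocalAtTarget.restrict ‹Surjective t› _
    let j : (U₁ : Scheme.{u}) ⟶ (U : Scheme.{u}) := V.ι ∣_ U
    have hagree : U₁.ι ≫ v = j ≫ h := by
      rw [← cancel_epi (t ∣_ U₁), ← Category.assoc, morphismRestrict_ι, Category.assoc, hv, ← Category.assoc]
      refine key _ _ ?_
      simp only [j, Category.assoc, morphismRestrict_ι]
      rw [← Category.assoc, morphismRestrict_ι, Category.assoc]
    let m : ((U ⊓ V : X.Opens) : Scheme.{u}) ⟶ (U₁ : Scheme.{u}) :=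
      IsOpenImmersion.lift U₁.ι (X.homOfLE (inf_le_right : U ⊓ V ≤ V)) (by
        rintro _ ⟨z, rfl⟩
        rw [Scheme.Opens.range_ι]
        change V.ι (X.homOfLE (inf_le_right : U ⊓ V ≤ V) z) ∈ U
        rw [← Scheme.Hom.comp_apply, Scheme.homOfLE_ι]
        exact z.2.1)
    have hm : m ≫ U₁.ι = X.homOfLE (inf_le_right : U ⊓ V ≤ V) := IsOpenImmersion.lift_fac _ _ _
    have hmj : m ≫ j = X.homOfLE (inf_le_left : U ⊓ V ≤ U) := by
      rw [← cancel_mono U.ι, Category.assoc, morphismRestrict_ι, ← Category.assoc, hm, Scheme.homOfLE_ι,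
        Scheme.homOfLE_ι]
    rw [← hm, Category.assoc, hagree, ← Category.assoc, hmj]

end Groth.Agent.S3835
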