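import Groth.Statements.S3836
import Groth.Agent.Rat20Ext.Isolated

set_option autoImplicit false
universe u
open CategoryTheory CategoryTheory.Limits AlgebraicGeometry TopologicalSpace
open Rat20

namespace Groth.Agent.S3836

/-- Let X be a locally integral S-scheme, Y an S-scheme locally of finite type and separated over S, and
h : U → Y an S-morphism on a dense open subset (a rational S-map ω). Let Γ be the closure in X ×_S Y
of the graph of h and p : Γ → X the projection. If x is a point of X whose local ring is integrally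
closed and the fibre p⁻¹(x) contains an isolated point, then ω is defined at x: some S-morphism from
an open neighbourhood of x to Y agrees with h on U. -/
theorem result {X Y S : Scheme.{u}} (pX : X ⟶ S) (pY : Y ⟶ S)
    [LocallyOfFiniteType pY] [IsSeparated pY] (hX : ∀ y : ↥X, ∃ W : X.Opens, y ∈ W ∧ IsIntegral (W : Scheme.{u}))
    (U : X.Opens) (hU : Dense (U : Set ↥X)) (h : (U : Scheme.{u}) ⟶ Y) (hh : U.ι ≫ pX = h ≫ pY)
    (x : ↥X) (hx : IsIntegrallyClosed (X.presheaf.stalk x))
    (z : ↥(pullback pX pY)) (hz : pullback.fst pX pY z = x)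
    (hzΓ : z ∈ closure (Set.range (pullback.lift U.ι h hh)))
    (hiso : ∃ W : (pullback pX pY).Opens, (W : Set ↥(pullback pX pY)) ∩ closure (Set.range (pullback.lift U.ι h hh)) ∩
      (pullback.fst pX pY) ⁻¹' {x} = {z}) :
    ∃ (V : X.Opens) (v : (V : Scheme.{u}) ⟶ Y), x ∈ V ∧ v ≫ pY = V.ι ≫ pX ∧
      X.homOfLE (inf_le_right : U ⊓ V ≤ V) ≫ v = X.homOfLE (inf_le_left : U ⊓ V ≤ U) ≫ h := by
  obtain ⟨W, hxW, hW⟩ := hX x
  haveI := hW
  haveI : IsReduced (W : Scheme.{u}) := inferInstance
  haveI : IsDomain (X.presheaf.stalk x) := MulEquiv.isDomain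
    ((W : Scheme.{u}).presheaf.stalk ⟨x, hxW⟩) (W.stalkIso ⟨x, hxW⟩).commRingCatIsoToRingEquiv.symm.toMulEquiv
  haveI := hx
  obtain ⟨j, hj⟩ := Groth.Rat20Ext.exists_genLift hxW hU
  let p := pullback.fst pX pY
  let Γh := pullback.lift U.ι h hh
  have hΓp : Γh ≫ p = U.ι := pullback.lift_fst _ _ _
  have hg : (j ≫ Γh) ≫ p = Groth.Rat20Ext.genHom x := by rw [Category.assoc, hΓp, hj]
  haveI : IsSeparated p := inferInstance
  have hy : ∀ s, (j ≫ Γh) s ⤳ z := by
    intro s
    rw [specializes_iff_forall_open]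
    intro O hO hzO
    obtain ⟨_, hwO, a, rfl⟩ := mem_closure_iff.1 hzΓ (O ∩ p ⁻¹' (W : Set ↥X))
      (hO.inter (W.2.preimage p.continuous)) ⟨hzO, show p z ∈ W from hz.symm ▸ hxW⟩
    have haW : U.ι a ∈ W := by
      rw [← hΓp, Scheme.Hom.comp_apply]
      exact hwO.2
    have h1 : j s ⤳ a := by
      rw [← U.ι.isOpenEmbedding.isInducing.specializes_iff, ← Scheme.Hom.comp_apply, hj]
      exact Groth.Rat20Ext.genHom_specializes_of_mem hxW s haW
    exact (h1.map Γh.continuous).mem_open hO hwO.1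
  obtain ⟨O, hO⟩ := hiso
  have hzO : z ∈ O := ((hO.symm.subset rfl).1).1
  obtain ⟨w, hw, hgw, -⟩ := Groth.Rat20Ext.exists_hom_of_isolated p hx (j ≫ Γh) hg z hz hy O hzO
    fun z' hz'O hs hz'x => hO.subset
      ⟨⟨hz'O, (isClosed_closure (s := Set.range Γh)).stableUnderSpecialization
        (hs (IsLocalRing.closedPoint (FractionRing (X.presheaf.stalk x))))
        (subset_closure ⟨_, (Scheme.Hom.comp_apply _ _ _).symm⟩)⟩, hz'x⟩
  obtain ⟨V, hxV, v, -, hv, -, hagree⟩ := Groth.Rat20Ext.exists_extend_of_specStalk pX pY hxW U h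
    hh.symm j hj (w ≫ pullback.snd pX pY)
    (by rw [Category.assoc, ← pullback.condition, ← Category.assoc, hw])
    (by rw [← Category.assoc, hgw, Category.assoc, pullback.lift_snd])
  exact ⟨V, v, hxV, hv, hagree⟩

end Groth.Agent.S3836
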