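import Groth.Statements.S3837
import Groth.Agent.S3836
import Mathlib.AlgebraicGeometry.Morphisms.UniversallyOpen

set_option autoImplicit false
universe u
open CategoryTheory CategoryTheory.Limits AlgebraicGeometry TopologicalSpace
open Rat20

namespace Groth.Agent.S3837

/-- Let X be a normal S-scheme (locally integral with integrally closed local rings), Y an S-scheme
locally of finite type and separated over S, h : U → Y an S-morphism on a dense open subset (a
rational S-map ω), and f : X' → X a morphism locally of finite type and universally open with X'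
reduced, so that f⁻¹(U) is dense and ω ∘ f is defined. Then for x' in X' with image x, ω is defined
at x if and only if ω ∘ f is defined at x': some S-morphism on an open neighbourhood of x agrees
with h on U if and only if some S-morphism on an open neighbourhood of x' agrees with h ∘ f on the
preimage of U. -/
theorem result {X X' Y S : Scheme.{u}} (pX : X ⟶ S) (pY : Y ⟶ S)
    [LocallyOfFiniteType pY] [IsSeparated pY] (hX : ∀ y : ↥X, ∃ W : X.Opens, y ∈ W ∧ IsIntegral (W : Scheme.{u}))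
    (hXn : ∀ y : ↥X, IsIntegrallyClosed (X.presheaf.stalk y))
    (U : X.Opens) (hU : Dense (U : Set ↥X)) (h : (U : Scheme.{u}) ⟶ Y) (hh : h ≫ pY = U.ι ≫ pX)
    (f : X' ⟶ X) [LocallyOfFiniteType f] [UniversallyOpen f] [IsReduced X'] (x' : ↥X') :
    (∃ (V : X.Opens) (v : (V : Scheme.{u}) ⟶ Y), f x' ∈ V ∧ v ≫ pY = V.ι ≫ pX ∧
        X.homOfLE (inf_le_right : U ⊓ V ≤ V) ≫ v = X.homOfLE (inf_le_left : U ⊓ V ≤ U) ≫ h) ↔
      ∃ (V' : X'.Opens) (v' : (V' : Scheme.{u}) ⟶ Y), x' ∈ V' ∧ v' ≫ pY = V'.ι ≫ f ≫ pX ∧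
        X'.homOfLE (inf_le_right : f ⁻¹ᵁ U ⊓ V' ≤ V') ≫ v' =
          X'.homOfLE (inf_le_left : f ⁻¹ᵁ U ⊓ V' ≤ f ⁻¹ᵁ U) ≫ (f ∣_ U) ≫ h := by
  constructor
  · rintro ⟨V, v, hxV, hv, hag⟩
    refine ⟨f ⁻¹ᵁ V, (f ∣_ V) ≫ v, hxV, ?_, ?_⟩
    · rw [Category.assoc, hv, ← Category.assoc, morphismRestrict_ι, Category.assoc]
    · let m : (↑(f ⁻¹ᵁ U ⊓ f ⁻¹ᵁ V) : Scheme.{u}) ⟶ ↑(U ⊓ V) := f.resLE (U ⊓ V) _ le_rfl
      have h1 : m ≫ X.homOfLE (inf_le_right : U ⊓ V ≤ V) =
          X'.homOfLE (inf_le_right : f ⁻¹ᵁ U ⊓ f ⁻¹ᵁ V ≤ f ⁻¹ᵁ V) ≫ (f ∣_ V) := by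
        rw [← cancel_mono V.ι]
        simp [m]
      have h2 : m ≫ X.homOfLE (inf_le_left : U ⊓ V ≤ U) =
          X'.homOfLE (inf_le_left : f ⁻¹ᵁ U ⊓ f ⁻¹ᵁ V ≤ f ⁻¹ᵁ U) ≫ (f ∣_ U) := by
        rw [← cancel_mono U.ι]
        simp [m]
      rw [← reassoc_of% h1, hag, ← reassoc_of% h2]
  · rintro ⟨V', v', hxV', hv', hag⟩
    let p := pullback.fst pX pY
    let Γh := pullback.lift U.ι h hh.symm
    let π₁ := pullback.fst f p
    let π₂ := pullback.snd f p
    haveI : IsSeparated p := inferInstance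
    haveI : IsSeparated π₁ := inferInstance
    haveI : UniversallyOpen π₂ := inferInstance
    let g : (V' : Scheme.{u}) ⟶ pullback pX pY :=
      pullback.lift (V'.ι ≫ f) v' (by rw [Category.assoc]; exact hv'.symm)
    let G : (V' : Scheme.{u}) ⟶ pullback f p :=
      pullback.lift V'.ι g (pullback.lift_fst _ _ _).symm
    have hG₁ : G ≫ π₁ = V'.ι := pullback.lift_fst _ _ _
    have hG₂ : G ≫ π₂ = g := pullback.lift_snd _ _ _
    -- the part of the graph over `V'`
    have hcov : π₂ ⁻¹' Set.range Γh ∩ π₁ ⁻¹' (V' : Set ↥X') ⊆ Set.range G := by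
      rintro q ⟨⟨b, hb⟩, hqV⟩
      obtain ⟨t, ht, -⟩ := Scheme.Pullback.exists_preimage_pullback q b hb.symm
      let t₁ := pullback.fst π₂ Γh
      let t₂ := pullback.snd π₂ Γh
      have hcond : t₁ ≫ π₁ ≫ f = t₂ ≫ U.ι := by
        rw [pullback.condition, ← Category.assoc, pullback.condition, Category.assoc]
        exact congrArg _ (pullback.lift_fst _ _ _)
      let T : (pullback π₂ Γh).Opens := (t₁ ≫ π₁) ⁻¹ᵁ V'
      let l : (T : Scheme.{u}) ⟶ (V' : Scheme.{u}) := (t₁ ≫ π₁).resLE V' T le_rfl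
      have hl : l ≫ V'.ι = T.ι ≫ t₁ ≫ π₁ := Scheme.Hom.resLE_comp_ι _ _
      have hrange : Set.range (T.ι ≫ t₁ ≫ π₁) ⊆ Set.range (f ⁻¹ᵁ U ⊓ V').ι := by
        rintro _ ⟨a, rfl⟩
        rw [Scheme.Opens.range_ι]
        refine ⟨?_, a.2⟩
        change (T.ι ≫ t₁ ≫ π₁ ≫ f) a ∈ U
        rw [hcond, ← Category.assoc, Scheme.Hom.comp_apply]
        exact ((T.ι ≫ t₂) a).2
      let l' := IsOpenImmersion.lift (f ⁻¹ᵁ U ⊓ V').ι (T.ι ≫ t₁ ≫ π₁) hrange
      have hl' : l' ≫ (f ⁻¹ᵁ U ⊓ V').ι = T.ι ≫ t₁ ≫ π₁ := IsOpenImmersion.lift_fac _ _ _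
      have h1 : l' ≫ X'.homOfLE (inf_le_right : f ⁻¹ᵁ U ⊓ V' ≤ V') = l := by
        rw [← cancel_mono V'.ι, Category.assoc, Scheme.homOfLE_ι, hl', hl]
      have h2 : l' ≫ X'.homOfLE (inf_le_left : f ⁻¹ᵁ U ⊓ V' ≤ f ⁻¹ᵁ U) ≫ (f ∣_ U) = T.ι ≫ t₂ := by
        rw [← cancel_mono U.ι]
        simp only [Category.assoc]
        rw [morphismRestrict_ι, Scheme.homOfLE_ι_assoc, reassoc_of% hl', hcond]
      have h3 : T.ι ≫ t₁ = l ≫ G := by
        apply pullback.hom_ext
        · simp only [Category.assoc, G, pullback.lift_fst]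
          exact hl.symm
        · simp only [Category.assoc, G, pullback.lift_snd]
          rw [pullback.condition]
          apply pullback.hom_ext
          · simp only [Category.assoc, g, Γh, pullback.lift_fst]
            rw [reassoc_of% hl, hcond]
          · simp only [Category.assoc, g, Γh, pullback.lift_snd]
            rw [← h1, Category.assoc, hag, reassoc_of% h2]
      have htT : t ∈ T := by
        change (t₁ ≫ π₁) t ∈ V'
        rw [Scheme.Hom.comp_apply, ht]
        exact hqV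
      refine ⟨l ⟨t, htT⟩, ?_⟩
      rw [← Scheme.Hom.comp_apply, ← h3, Scheme.Hom.comp_apply]
      exact ht
    -- its closure over `V'`
    let O : (pullback f p).Opens := π₁ ⁻¹ᵁ V'
    have hclG : closure (Set.range G) ∩ (O : Set ↥(pullback f p)) ⊆ Set.range G := by
      let G' : (V' : Scheme.{u}) ⟶ (O : Scheme.{u}) := IsOpenImmersion.lift O.ι G (by
        rintro _ ⟨a, rfl⟩
        rw [Scheme.Opens.range_ι]
        change (G ≫ π₁) a ∈ V'
        rw [hG₁]
        exact a.2)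
      have hG' : G' ≫ O.ι = G := IsOpenImmersion.lift_fac _ _ _
      have hsec : G' ≫ (π₁ ∣_ V') = 𝟙 _ := by
        rw [← cancel_mono V'.ι, Category.assoc, morphismRestrict_ι, reassoc_of% hG', hG₁,
          Category.id_comp]
      haveI : IsSeparated (π₁ ∣_ V') := inferInstance
      haveI : IsClosedImmersion (G' ≫ (π₁ ∣_ V')) := by rw [hsec]; infer_instance
      haveI : IsClosedImmersion G' := IsClosedImmersion.of_comp G' (π₁ ∣_ V')
      rintro q ⟨hq, hqO⟩
      have hpre : O.ι ⁻¹' Set.range G = Set.range G' := by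
        ext a
        constructor
        · rintro ⟨b, hb⟩
          refine ⟨b, O.ι.isOpenEmbedding.injective ?_⟩
          rw [← Scheme.Hom.comp_apply, hG', hb]
        · rintro ⟨b, rfl⟩
          exact ⟨b, by rw [← Scheme.Hom.comp_apply, hG']⟩
      have : (⟨q, hqO⟩ : O) ∈ closure (Set.range G') := by
        rw [← hpre, ← O.ι.isOpenEmbedding.isOpenMap.preimage_closure_eq_closure_preimage
          O.ι.continuous]
        exact hq
      rw [G'.isClosedEmbedding.isClosed_range.closure_eq] at this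
      obtain ⟨b, hb⟩ := this
      exact ⟨b, by rw [← hG', Scheme.Hom.comp_apply, hb]; rfl⟩
    let x'' : V' := ⟨x', hxV'⟩
    let z := g x''
    have hz : p z = f x' := by
      rw [← Scheme.Hom.comp_apply, show g ≫ p = V'.ι ≫ f from pullback.lift_fst _ _ _,
        Scheme.Hom.comp_apply]
      rfl
    have hzcl : z ∈ closure (Set.range Γh) := by
      have hdense : Dense (V'.ι ⁻¹' (f ⁻¹' (U : Set ↥X))) :=
        ((hU.preimage f.isOpenMap).preimage V'.ι.isOpenEmbedding.isOpenMap)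
      refine closure_mono ?_ (image_closure_subset_closure_image g.continuous
        ⟨x'', hdense x'', rfl⟩)
      rintro _ ⟨a, ha, rfl⟩
      let e : (↑(f ⁻¹ᵁ U ⊓ V') : Scheme.{u}) ⟶ pullback pX pY :=
        X'.homOfLE (inf_le_left : f ⁻¹ᵁ U ⊓ V' ≤ f ⁻¹ᵁ U) ≫ (f ∣_ U) ≫ Γh
      have he : X'.homOfLE (inf_le_right : f ⁻¹ᵁ U ⊓ V' ≤ V') ≫ g = e := by
        apply pullback.hom_ext
        · rw [Category.assoc, show g ≫ pullback.fst pX pY = V'.ι ≫ f from pullback.lift_fst _ _ _]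
          simp only [e, Category.assoc]
          rw [show Γh ≫ pullback.fst pX pY = U.ι from pullback.lift_fst _ _ _, morphismRestrict_ι,
            Scheme.homOfLE_ι_assoc, Scheme.homOfLE_ι_assoc]
        · simp only [e, g, Γh, Category.assoc, pullback.lift_snd]
          exact hag
      refine ⟨(X'.homOfLE (inf_le_left : f ⁻¹ᵁ U ⊓ V' ≤ f ⁻¹ᵁ U) ≫ (f ∣_ U)) ⟨a.1, ha, a.2⟩, ?_⟩
      rw [← Scheme.Hom.comp_apply, Category.assoc]
      change e _ = g a
      rw [← he, Scheme.Hom.comp_apply]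
      congr 1
      exact Subtype.ext (by simp)
    have huniq : ((⊤ : (pullback pX pY).Opens) : Set ↥(pullback pX pY)) ∩ closure (Set.range Γh) ∩
        (pullback.fst pX pY) ⁻¹' {f x'} = {z} := by
      refine Set.ext fun z' => ⟨?_, ?_⟩
      · rintro ⟨⟨-, hz'⟩, hz'x⟩
        obtain ⟨q, hq₁, hq₂⟩ := Scheme.Pullback.exists_preimage_pullback (f := f) (g := p) x' z'
          (Eq.symm hz'x)
        have hq₁' : π₁ q = x' := hq₁
        have hq₂' : π₂ q = z' := hq₂
        have hqO : q ∈ O := by change π₁ q ∈ V'; rw [hq₁']; exact hxV'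
        have hqcl : q ∈ closure (Set.range G) := by
          have h1 : q ∈ closure (π₂ ⁻¹' Set.range Γh) := by
            rw [← π₂.isOpenMap.preimage_closure_eq_closure_preimage π₂.continuous,
              Set.mem_preimage, hq₂']
            exact hz'
          rw [mem_closure_iff]
          intro o ho hqo
          obtain ⟨w, ⟨hwo, hwO⟩, hw⟩ := mem_closure_iff.1 h1 (o ∩ O) (ho.inter O.2) ⟨hqo, hqO⟩
          exact ⟨w, hwo, hcov ⟨hw, hwO⟩⟩
        obtain ⟨b, hb⟩ := hclG ⟨hqcl, hqO⟩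
        have hbx : b = x'' := by
          apply Subtype.ext
          have : (G ≫ π₁) b = x' := by rw [Scheme.Hom.comp_apply, hb, hq₁']
          rwa [hG₁] at this
        rw [Set.mem_singleton_iff, ← hq₂', ← hb, ← Scheme.Hom.comp_apply, hG₂, hbx]
      · rintro rfl
        exact ⟨⟨trivial, hzcl⟩, hz⟩
    obtain ⟨V, v, hxV, hv, hag'⟩ := Groth.Agent.S3836.result pX pY hX U hU h hh.symm (f x')
      (hXn _) z hz hzcl ⟨⊤, huniq⟩
    exact ⟨V, v, hxV, hv, hag'⟩

end Groth.Agent.S3837
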