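import Groth.Statements.S3838
import Groth.Agent.ParaFormal.DescentDivGlobal

set_option autoImplicit false
universe u
open CategoryTheory CategoryTheory.Limits AlgebraicGeometry TopologicalSpace
open Div21

namespace Groth.Agent.S3838

/-- Let f : X → Y be a faithfully flat morphism between locally Noetherian schemes, with f quasi-compact
or open, and let D' be an effective Cartier divisor on X with ideal sheaf 𝓙. D' is the pullback of
some effective Cartier divisor on Y if and only if the following holds at every point y of Y whose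
local ring has depth at most 1: writing Y₁ = Spec 𝒪_{Y,y}, X₁ = X ×_Y Y₁ and f₁ : X₁ → Y₁, the
pullback of D' to X₁ is the pullback along f₁ of some effective Cartier divisor on Y₁. (The
published statement is more general; only the case of effective Cartier divisors is stated here.) -/
theorem result {X Y : Scheme.{u}} [IsLocallyNoetherian X]
    [IsLocallyNoetherian Y] (f : X ⟶ Y) [Flat f] [Surjective f] (hf : QuasiCompact f ∨ IsOpenMap f)
    (𝓙 : X.IdealSheafData) (hJ : BlowUp.IsEffCartierIdeal 𝓙) :
    (∃ 𝓘 : Y.IdealSheafData, BlowUp.IsEffCartierIdeal 𝓘 ∧ 𝓘.comap f = 𝓙) ↔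
      ∀ y : ↥Y, LocCoh.depth ↑(Y.presheaf.stalk y) ↑(Y.presheaf.stalk y) ≤ 1 →
        ∃ 𝓘₁ : (Spec (Y.presheaf.stalk y)).IdealSheafData, BlowUp.IsEffCartierIdeal 𝓘₁ ∧
          𝓘₁.comap (pullback.snd f (Y.fromSpecStalk y)) = 𝓙.comap (pullback.fst f (Y.fromSpecStalk y)) := by
  constructor
  · rintro ⟨𝓘, h𝓘, rfl⟩ y _
    have : Flat (Y.fromSpecStalk y) := Groth.VarietyBC.flat_fromSpecStalk Y y
    refine ⟨𝓘.comap (Y.fromSpecStalk y), Groth.Divisors.isEffCartierIdeal_comap_flat h𝓘 _, ?_⟩
    rw [← Scheme.IdealSheafData.comap_comp, ← Scheme.IdealSheafData.comap_comp, pullback.condition]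
  · intro h
    refine Groth.ParaFormal.exists_of_desc hf hJ (Groth.ParaFormal.desc_of_depth_le_one
      (Groth.ParaFormal.exists_nzd_gen hJ) fun y hy => ?_)
    obtain ⟨I₁, -, hI₁⟩ := h y hy
    have : Flat (Y.fromSpecStalk y) := Groth.VarietyBC.flat_fromSpecStalk Y y
    have h2 := Groth.ParaFormal.desc_of_comap_eq (Y.fromSpecStalk y) I₁ hI₁
      (IsLocalRing.closedPoint (Y.presheaf.stalk y))
    rwa [Scheme.fromSpecStalk_closedPoint] at h2

end Groth.Agent.S3838
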