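import Groth.Statements.S3840
import Groth.Agent.ParaFormal.DivFromLine

set_option autoImplicit false
universe u
open CategoryTheory CategoryTheory.Limits AlgebraicGeometry TopologicalSpace
open Div21
open Groth Groth.PicAux Opposite

namespace Groth.Agent.S3840

/-- Let f : X → Y be a faithfully flat morphism between locally Noetherian schemes, with f quasi-compact
or open; assume Y is normal and that the fibre X_y is integral whenever y is a point of Y whose
local ring has dimension 1. If L is an invertible O_X-module whose restriction to X_η is isomorphic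
to O_{X_η} for each maximal point η of Y, then L ≅ f^*(M) for some invertible O_Y-module M. -/
theorem result {X Y : Scheme.{u}} [IsLocallyNoetherian X]
    [IsLocallyNoetherian Y] (f : X ⟶ Y) [Flat f] [Surjective f] (hf : QuasiCompact f ∨ IsOpenMap f)
    (hY : Pi1.IsNormalScheme Y)
    (hfib : ∀ y : ↥Y, ringKrullDim ↑(Y.presheaf.stalk y) = 1 → IsIntegral (f.fiber y))
    (L : X.Modules) (hL : PicF.IsInvertible L)
    (htriv : ∀ η : ↥Y, (∀ z : ↥Y, z ⤳ η → z = η) →
      Nonempty ((Scheme.Modules.pullback (f.fiberι η)).obj L ≅ Coh.structureModule (f.fiber η))) :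
    ∃ M : Y.Modules, PicF.IsInvertible M ∧ Nonempty ((Scheme.Modules.pullback f).obj M ≅ L) := by
  obtain ⟨D, eL, heL, hrel⟩ := ParaFormal.exists_fracDiv f hY L hL htriv
  choose W q e hyW hqn hen hR using fun y : ↥Y => D.exists_equations hf hY hfib y
  have hflat : ∀ (x : ↥X) (c : ↑(Y.presheaf.stalk (f x))), c ∈ nonZeroDivisors ↑(Y.presheaf.stalk (f x)) →
      f.stalkMap x c ∈ nonZeroDivisors ↑(X.presheaf.stalk x) := fun x c hc =>
    Groth.Divisors.mem_nonZeroDivisors_of_flat _ (Flat.stalkMap f x) hc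
  have hspan : ∀ (i j : ↥Y) (y : ↥Y) (hi : y ∈ W i) (hj : y ∈ W j),
      Ideal.span {Y.presheaf.germ (W i) y hi (q i) * Y.presheaf.germ (W j) y hj (e j)} =
        Ideal.span {Y.presheaf.germ (W j) y hj (q j) * Y.presheaf.germ (W i) y hi (e i)} := by
    intro i j y hi hj
    obtain ⟨x, rfl⟩ := f.surjective y
    exact ParaFormal.FracDiv.Rel.span_eq D rfl (hR i x hi) (hR j x hj)
  have hcu : ∀ i j : ↥Y, ∃ c : Γ(Y, W i ⊓ W j), IsUnit c ∧
      c * (resX Y inf_le_right (q j) * resX Y inf_le_left (e i)) =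
        resX Y inf_le_left (q i) * resX Y inf_le_right (e j) := fun i j =>
    ParaFormal.exists_unit_mul_eq _ _ (((hqn j).res _).mul ((hen i).res _)) fun y hy => by
      simp only [map_mul, ParaFormal.germ_resX']
      exact hspan i j y hy.1 hy.2
  choose c hcu hc using hcu
  have hWtop : iSup W = ⊤ := eq_top_iff.2 fun y _ => Opens.mem_iSup.2 ⟨y, hyW y⟩
  obtain ⟨M, m, hm, hM, hmrel⟩ := exists_module_of_cocycle W c hWtop hcu fun i j k => by
    refine Groth.Divisors.section_ext fun y hy => ?_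
    simp only [map_mul, ParaFormal.germ_resX']
    have hi : y ∈ W i := hy.1.1
    have hj : y ∈ W j := hy.1.2
    have hk : y ∈ W k := hy.2
    have e1 := congrArg (Y.presheaf.germ (W i ⊓ W j) y ⟨hi, hj⟩) (hc i j)
    have e2 := congrArg (Y.presheaf.germ (W j ⊓ W k) y ⟨hj, hk⟩) (hc j k)
    have e3 := congrArg (Y.presheaf.germ (W i ⊓ W k) y ⟨hi, hk⟩) (hc i k)
    simp only [map_mul, ParaFormal.germ_resX'] at e1 e2 e3
    set qi := Y.presheaf.germ (W i) y hi (q i)
    set qj := Y.presheaf.germ (W j) y hj (q j)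
    set qk := Y.presheaf.germ (W k) y hk (q k)
    set ei := Y.presheaf.germ (W i) y hi (e i)
    set ej := Y.presheaf.germ (W j) y hj (e j)
    set ek := Y.presheaf.germ (W k) y hk (e k)
    set cij := Y.presheaf.germ (W i ⊓ W j) y ⟨hi, hj⟩ (c i j)
    set cjk := Y.presheaf.germ (W j ⊓ W k) y ⟨hj, hk⟩ (c j k)
    refine ParaFormal.eq_of_mul_nzd (b := qk * ei * ej)
      (Submonoid.mul_mem _ (Submonoid.mul_mem _ (hqn k y hk) (hen i y hi)) (hen j y hj)) ?_
    linear_combination ej * e3 - ek * e1 - cij * ei * e2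
  have hAB : ∀ (i : ↥Y) (a : ↥X), ∃ w : Γ(X, D.U a ⊓ f ⁻¹ᵁ W i), IsUnit w ∧
      w * (f.appLE (W i) _ inf_le_right (e i) * resX X inf_le_left (D.p a)) =
        f.appLE (W i) _ inf_le_right (q i) * f.appLE (D.V a) _ (inf_le_left.trans (D.le a)) (D.d a) := by
    intro i a
    refine ParaFormal.exists_unit_mul_eq _ _ ?_ fun x hx => ?_
    · intro x hx
      rw [map_mul, ParaFormal.germ_appLE, ParaFormal.germ_resX']
      exact Submonoid.mul_mem _ (hflat x _ (hen i _ hx.2)) (D.p_nzd a x hx.1)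
    · have h := hR i x hx.2 a hx.1
      simp only [ParaFormal.FracDiv.sp, ParaFormal.psi_self, ParaFormal.FracDiv.Q, ParaFormal.FracDiv.P,
        Ideal.span_singleton_mul_span_singleton] at h
      rw [map_mul, map_mul, ParaFormal.germ_appLE, ParaFormal.germ_appLE, ParaFormal.germ_appLE,
        ParaFormal.germ_resX']
      exact h
  choose w hwu hw using hAB
  have hwg : ∀ (i : ↥Y) (a : ↥X) (x : ↥X) (ha : x ∈ D.U a) (hi : f x ∈ W i),
      X.presheaf.germ (D.U a ⊓ f ⁻¹ᵁ W i) x ⟨ha, hi⟩ (w i a) *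
        (f.stalkMap x (Y.presheaf.germ (W i) (f x) hi (e i)) * X.presheaf.germ (D.U a) x ha (D.p a)) =
      f.stalkMap x (Y.presheaf.germ (W i) (f x) hi (q i)) *
        f.stalkMap x (Y.presheaf.germ (D.V a) (f x) (D.le a ha) (D.d a)) := by
    intro i a x ha hi
    have h := congrArg (X.presheaf.germ (D.U a ⊓ f ⁻¹ᵁ W i) x ⟨ha, hi⟩) (hw i a)
    rw [map_mul, map_mul, map_mul, ParaFormal.germ_appLE, ParaFormal.germ_appLE, ParaFormal.germ_appLE,
      ParaFormal.germ_resX'] at h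
    exact h
  have hs : ∀ i : ↥Y, ∃ s : Γ(L, f ⁻¹ᵁ W i), Gen L (f ⁻¹ᵁ W i) s ∧
      ∀ a, res L (inf_le_right : D.U a ⊓ f ⁻¹ᵁ W i ≤ f ⁻¹ᵁ W i) s = w i a • res L inf_le_left (eL a) := by
    intro i
    have hcov : f ⁻¹ᵁ W i ≤ iSup fun a => D.U a ⊓ f ⁻¹ᵁ W i := fun x hx => by
      obtain ⟨a, ha⟩ := D.cover x
      exact Opens.mem_iSup.2 ⟨a, ha, hx⟩
    obtain ⟨s, hs, -⟩ := res_glue (M := L) (fun a => D.U a ⊓ f ⁻¹ᵁ W i) (fun a => inf_le_right) hcov
      (fun a => w i a • res L inf_le_left (eL a)) fun a b => by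
        simp only [res_smul, res_res]
        obtain ⟨r, hr⟩ := (heL b).exists_coeff (inf_le_right : D.U a ⊓ D.U b ≤ D.U b)
          (res L inf_le_left (eL a))
        have hle : (D.U a ⊓ f ⁻¹ᵁ W i) ⊓ (D.U b ⊓ f ⁻¹ᵁ W i) ≤ D.U a ⊓ D.U b :=
          inf_le_inf inf_le_left inf_le_left
        have h1 := congrArg (res L hle) hr
        simp only [res_smul, res_res] at h1
        rw [h1, ← mul_smul]
        congr 1
        refine Groth.Divisors.section_ext fun x hx => ?_
        simp only [map_mul, ParaFormal.germ_resX']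
        have ha : x ∈ D.U a := hx.1.1
        have hb : x ∈ D.U b := hx.2.1
        have hi : f x ∈ W i := hx.1.2
        have e1 := hwg i a x ha hi
        have e2 := hwg i b x hb hi
        have e3 := hrel a b r hr x ha hb
        set E := f.stalkMap x (Y.presheaf.germ (W i) (f x) hi (e i))
        set Da := f.stalkMap x (Y.presheaf.germ (D.V a) (f x) (D.le a ha) (D.d a))
        set Db := f.stalkMap x (Y.presheaf.germ (D.V b) (f x) (D.le b hb) (D.d b))
        set pa := X.presheaf.germ (D.U a) x ha (D.p a)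
        set pb := X.presheaf.germ (D.U b) x hb (D.p b)
        set wa := X.presheaf.germ (D.U a ⊓ f ⁻¹ᵁ W i) x ⟨ha, hi⟩ (w i a)
        refine ParaFormal.eq_of_mul_nzd (b := E * pb * Da)
          (Submonoid.mul_mem _ (Submonoid.mul_mem _ (hflat x _ (hen i _ hi)) (D.p_nzd b x hb))
            (hflat x _ (D.d_nzd a _ _))) ?_
        linear_combination Db * e1 - Da * e2 - wa * E * e3
    refine ⟨s, Gen.of_cover (fun a => D.U a ⊓ f ⁻¹ᵁ W i) (fun a => inf_le_right) hcov (fun a => ?_), hs⟩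
    rw [hs a]
    exact ((heL a).res _).smul_unit (hwu i a)
  choose s hsgen hsw using hs
  have hfW : iSup (fun i => f ⁻¹ᵁ W i) = ⊤ :=
    eq_top_iff.2 fun x _ => Opens.mem_iSup.2 ⟨f x, hyW (f x)⟩
  obtain ⟨iso, -⟩ := exists_iso_of_gen hfW (fun i => pullSec f M (m i)) (fun i => (hm i).pull f) s hsgen
    fun i j r hr => by
      have h1 : res _ (f.preimage_mono inf_le_left) (pullSec f M (m i)) =
          f.app (W i ⊓ W j) (c i j) • res _ (f.preimage_mono inf_le_right) (pullSec f M (m j)) := by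
        rw [res_pullSec, hmrel i j, pullSec_smul, ← res_pullSec]
        exact inf_le_left
      have hrc : r = f.app (W i ⊓ W j) (c i j) :=
        ((hm j).pull f).smul_inj (inf_le_right : f ⁻¹ᵁ W i ⊓ f ⁻¹ᵁ W j ≤ f ⁻¹ᵁ W j) (hr.symm.trans h1)
      subst hrc
      refine res_ext (M := L) (fun a => D.U a ⊓ (f ⁻¹ᵁ W i ⊓ f ⁻¹ᵁ W j)) (fun a => inf_le_right)
        (fun x hx => ?_) fun a => ?_
      · obtain ⟨a, ha⟩ := D.cover x
        exact Opens.mem_iSup.2 ⟨a, ha, hx⟩
      simp only [res_smul, res_res]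
      have hle1 : D.U a ⊓ (f ⁻¹ᵁ W i ⊓ f ⁻¹ᵁ W j) ≤ D.U a ⊓ f ⁻¹ᵁ W i := inf_le_inf_left _ inf_le_left
      have hle2 : D.U a ⊓ (f ⁻¹ᵁ W i ⊓ f ⁻¹ᵁ W j) ≤ D.U a ⊓ f ⁻¹ᵁ W j := inf_le_inf_left _ inf_le_right
      have h2 := congrArg (res L hle1) (hsw i a)
      have h3 := congrArg (res L hle2) (hsw j a)
      simp only [res_smul, res_res] at h2 h3
      rw [h2, h3, ← mul_smul]
      congr 1
      refine Groth.Divisors.section_ext fun x hx => ?_
      simp only [map_mul, ParaFormal.germ_resX']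
      have ha : x ∈ D.U a := hx.1
      have hi : f x ∈ W i := hx.2.1
      have hj : f x ∈ W j := hx.2.2
      have e1 := hwg i a x ha hi
      have e2 := hwg j a x ha hj
      have e3 := congrArg (fun t => f.stalkMap x (Y.presheaf.germ (W i ⊓ W j) (f x) ⟨hi, hj⟩ t)) (hc i j)
      simp only [map_mul, ParaFormal.germ_resX'] at e3
      rw [Scheme.Hom.germ_stalkMap_apply f (W i ⊓ W j) x ⟨hi, hj⟩ (c i j)] at e3
      set Ei := f.stalkMap x (Y.presheaf.germ (W i) (f x) hi (e i))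
      set Ej := f.stalkMap x (Y.presheaf.germ (W j) (f x) hj (e j))
      set C := X.presheaf.germ (f ⁻¹ᵁ (W i ⊓ W j)) x ⟨hi, hj⟩ (f.app (W i ⊓ W j) (c i j))
      set Da := f.stalkMap x (Y.presheaf.germ (D.V a) (f x) (D.le a ha) (D.d a))
      set pa := X.presheaf.germ (D.U a) x ha (D.p a)
      refine ParaFormal.eq_of_mul_nzd (b := Ei * Ej * pa)
        (Submonoid.mul_mem _ (Submonoid.mul_mem _ (hflat x _ (hen i _ hi)) (hflat x _ (hen j _ hj)))
          (D.p_nzd a x ha)) ?_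
      have eC : X.presheaf.germ (f ⁻¹ᵁ W i ⊓ f ⁻¹ᵁ W j) x ⟨hi, hj⟩ (f.app (W i ⊓ W j) (c i j)) = C := rfl
      erw [eC]
      linear_combination Ej * e1 - C * Ei * e2 - Da * e3
  exact ⟨M, hM, ⟨iso⟩⟩

end Groth.Agent.S3840
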