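import Groth.Statements.S3842
import Mathlib.AlgebraicGeometry.Properties
-- import your own Groth.Agent.* helpers here

set_option autoImplicit false
universe u
open CategoryTheory CategoryTheory.Limits AlgebraicGeometry TopologicalSpace
open Rat20

namespace Groth.Agent.S3842

/-- For the open subset U = X; the general case is the same statement over the open subscheme U: let f :
X' → X be a morphism of schemes with X' reduced, suppose the irreducible components of X form a
locally finite family and that every irreducible component of X' dominates an irreducible component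
of X (the closure of its image is an irreducible component of X). Then for every schematically dense
open subset V of X, the preimage f⁻¹(V) is schematically dense in X'. -/
theorem result {X X' : Scheme.{u}} (f : X' ⟶ X) [IsReduced X']
    (hfin : ∀ x : ↥X, ∃ W : X.Opens, x ∈ W ∧ {Z ∈ irreducibleComponents ↥X | (Z ∩ (W : Set ↥X)).Nonempty}.Finite)
    (hdom : ∀ Z' ∈ irreducibleComponents ↥X', closure (f '' Z') ∈ irreducibleComponents ↥X)
    (V : X.Opens) (hV : CInt.IsSchematicallyDense V) : CInt.IsSchematicallyDense (f ⁻¹ᵁ V) := by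
  -- `V` meets every non-empty open
  have hmeet : ∀ O : X.Opens, (O : Set ↥X).Nonempty → ((O ⊓ V : X.Opens) : Set ↥X).Nonempty := by
    intro O ⟨x, hx⟩
    by_contra hne
    have he : O ⊓ V = ⊥ := TopologicalSpace.Opens.ext (Set.not_nonempty_iff_eq_empty.1 hne)
    have h01 : (1 : Γ(X, O)) = 0 := hV O (by
      have : Subsingleton Γ(X, O ⊓ V) := CommRingCat.subsingleton_of_isTerminal
        (X.sheaf.isTerminalOfEqEmpty he)
      exact Subsingleton.elim _ _)
    exact one_ne_zero (α := X.presheaf.stalk x)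
      (((X.presheaf.germ O x hx).hom.map_one.symm.trans (congrArg _ h01)).trans (map_zero _))
  have hd : Dense ((f ⁻¹ᵁ V : X'.Opens) : Set ↥X') := by
    intro y
    obtain ⟨Z', hZ', hyZ'⟩ : ∃ Z' ∈ irreducibleComponents ↥X', y ∈ Z' :=
      ⟨_, irreducibleComponent_mem_irreducibleComponents y, mem_irreducibleComponent⟩
    obtain ⟨ξ, hξ⟩ := QuasiSober.sober hZ'.1 (isClosed_of_mem_irreducibleComponents _ hZ')
    have hZ := hdom Z' hZ'
    have hgen : IsGenericPoint (f ξ) (closure (f '' Z')) := hξ.image f.continuous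
    obtain ⟨W, hxW, hW⟩ := hfin (f ξ)
    set O' : Set ↥X := ⋃ Z ∈ {Z ∈ irreducibleComponents ↥X | (Z ∩ (W : Set ↥X)).Nonempty} \ {closure (f '' Z')}, Z
    have hO'c : IsClosed O' := hW.sdiff.isClosed_biUnion fun Z hZ => isClosed_of_mem_irreducibleComponents _ hZ.1.1
    let O : X.Opens := W ⊓ ⟨O'ᶜ, hO'c.isOpen_compl⟩
    have hηO : f ξ ∈ O := by
      refine ⟨hxW, fun h => ?_⟩
      obtain ⟨Z, ⟨⟨hZc, -⟩, hne⟩, hfZ⟩ := Set.mem_iUnion₂.1 h
      refine hne ?_
      have hle : closure (f '' Z') ⊆ Z := by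
        rw [← hgen.def]
        exact closure_minimal (Set.singleton_subset_iff.2 hfZ) (isClosed_of_mem_irreducibleComponents _ hZc)
      exact Set.mem_singleton_iff.2 (le_antisymm (hZ.2 hZc.1 hle) hle)
    obtain ⟨v, ⟨hvW, hvO⟩, hvV⟩ := hmeet O ⟨_, hηO⟩
    have hv : v ∈ closure (f '' Z') := by
      by_contra hv
      exact hvO (Set.mem_iUnion₂.2 ⟨_, ⟨⟨irreducibleComponent_mem_irreducibleComponents v,
        ⟨v, mem_irreducibleComponent, hvW⟩⟩, fun h => hv (Set.mem_singleton_iff.1 h ▸ mem_irreducibleComponent)⟩,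
        mem_irreducibleComponent⟩)
    have hfξ : f ξ ∈ V := (hgen.specializes hv).mem_open V.2 hvV
    exact closure_mono (Set.singleton_subset_iff.2
      (show ξ ∈ ((f ⁻¹ᵁ V : X'.Opens) : Set ↥X') from hfξ)) (hξ.def ▸ hyZ')
  intro O
  refine (injective_iff_map_eq_zero (X'.presheaf.map (homOfLE (inf_le_left : O ⊓ f ⁻¹ᵁ V ≤ O)).op).hom).2
    fun s hs => ?_
  rw [← AlgebraicGeometry.basicOpen_eq_bot_iff]
  by_contra hne
  obtain ⟨z, hz, hzV⟩ := hd.inter_open_nonempty _ (X'.basicOpen s).2
    (Set.nonempty_iff_ne_empty.2 fun h => hne (TopologicalSpace.Opens.ext h))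
  have hz' : z ∈ X'.basicOpen ((X'.presheaf.map (homOfLE (inf_le_left : O ⊓ f ⁻¹ᵁ V ≤ O)).op).hom s) := by
    erw [Scheme.basicOpen_res]
    exact ⟨⟨X'.basicOpen_le s hz, hzV⟩, hz⟩
  rw [hs, Scheme.basicOpen_zero] at hz'
  exact hz'

end Groth.Agent.S3842
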