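import Groth.Statements.S3846
import Mathlib.AlgebraicGeometry.Morphisms.Etale
import Mathlib.AlgebraicGeometry.Morphisms.FormallyUnramified
import Mathlib.AlgebraicGeometry.Morphisms.FlatMono
-- import your own Groth.Agent.* helpers here

set_option autoImplicit false
universe u
open CategoryTheory CategoryTheory.Limits AlgebraicGeometry TopologicalSpace
open Unram17

namespace Groth.Agent.S3846

section Helpers

set_option backward.isDefEq.respectTransparency false in
theorem diag_map_aux {X Y : Scheme.{u}} (f : X ⟶ Y) (W : X.Opens) :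
    pullback.diagonal (W.ι ≫ f) ≫ pullback.map (W.ι ≫ f) (W.ι ≫ f) f f W.ι W.ι (𝟙 _) (Category.comp_id _) (Category.comp_id _) = W.ι ≫ pullback.diagonal f := by
  apply pullback.hom_ext <;> simp [pullback.map]

end Helpers

/-- a) iff b''): let f : X → Y be locally of finite presentation and x a point of X. Then f is
unramified on some open neighbourhood of x if and only if, for every base change g : Y' → Y and
every section s' of X ×_Y Y' → Y', s' is a local isomorphism at every point y' of Y' such that
s'(y') lies over x. -/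
theorem result {X Y : Scheme.{u}} (f : X ⟶ Y) [LocallyOfFinitePresentation f]
    (x : ↥X) :
    (∃ U : X.Opens, x ∈ U ∧ FormallyUnramified (U.ι ≫ f)) ↔
      ∀ (Y' : Scheme.{u}) (g : Y' ⟶ Y) (s' : Y' ⟶ pullback f g), s' ≫ pullback.snd f g = 𝟙 Y' →
        ∀ y' : ↥Y', pullback.fst f g (s' y') = x → SchLoc.IsLocalIsoAt s' y' := by

  constructor
  · rintro ⟨U, hxU, hU⟩ Y' g s' hs' y' hy'
    let V : (pullback f g).Opens := pullback.fst f g ⁻¹ᵁ U
    have hV : s' y' ∈ V := by
      show pullback.fst f g (s' y') ∈ U
      rw [hy']; exact hxU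
    let W : Y'.Opens := s' ⁻¹ᵁ V
    refine ⟨W, hV, ?_⟩
    let q := V.ι ≫ pullback.snd f g
    have hq : (@LocallyOfFiniteType ⊓ @FormallyUnramified : MorphismProperty Scheme.{u}) q := by
      have hsq : IsPullback (pullback.fst f g ∣_ U) q (U.ι ≫ f) g :=
        ((isPullback_morphismRestrict (pullback.fst f g) U).flip.paste_horiz
          (IsPullback.of_hasPullback f g).flip).flip
      exact ⟨MorphismProperty.of_isPullback hsq (inferInstance : LocallyOfFiniteType (U.ι ≫ f)),
        MorphismProperty.of_isPullback hsq hU⟩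
    have hcomp : (s' ∣_ V) ≫ q = W.ι := by
      rw [← Category.assoc, morphismRestrict_ι, Category.assoc, hs', Category.comp_id]
    have : Etale (s' ∣_ V) :=
      MorphismProperty.of_postcomp (W := @Etale)
        (W' := @LocallyOfFiniteType ⊓ @FormallyUnramified) _ q hq
        (by rw [hcomp]; infer_instance)
    have : Mono ((s' ∣_ V) ≫ q) := by rw [hcomp]; infer_instance
    have : Mono (s' ∣_ V) := mono_of_mono (s' ∣_ V) q
    have : IsOpenImmersion (s' ∣_ V) := IsOpenImmersion.of_flat_of_mono _
    rw [show W.ι ≫ s' = (s' ∣_ V) ≫ V.ι from (morphismRestrict_ι s' V).symm]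
    infer_instance
  · intro h
    obtain ⟨W, hxW, hW⟩ := h X f (pullback.diagonal f) (pullback.diagonal_snd f) x (by
      rw [← Scheme.Hom.comp_apply, pullback.diagonal_fst]; rfl)
    refine ⟨W, hxW, ?_⟩
    let m : pullback (W.ι ≫ f) (W.ι ≫ f) ⟶ pullback f f :=
      pullback.map _ _ _ _ W.ι W.ι (𝟙 _) (Category.comp_id _) (Category.comp_id _)
    have : IsOpenImmersion m := MorphismProperty.pullbackMap (P := @IsOpenImmersion)
      (inferInstance : IsOpenImmersion W.ι) (inferInstance : IsOpenImmersion W.ι) rfl rfl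
    have hsq : pullback.diagonal (W.ι ≫ f) ≫ m = W.ι ≫ pullback.diagonal f := diag_map_aux f W
    have : IsOpenImmersion (pullback.diagonal (W.ι ≫ f) ≫ m) := hsq ▸ hW
    have : IsOpenImmersion (pullback.diagonal (W.ι ≫ f)) :=
      IsOpenImmersion.of_comp (pullback.diagonal (W.ι ≫ f)) m
    infer_instance

end Groth.Agent.S3846
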