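import Groth.Statements.S3848
import Groth.Agent.Rat20Ext.DvrTest
import Groth.Agent.Rat20Ext.Closure

set_option autoImplicit false
universe u
open CategoryTheory CategoryTheory.Limits AlgebraicGeometry TopologicalSpace
open Rat20

namespace Groth.Agent.S3848

/-- In the case S = X (valuative criterion for a rational map to be defined at a point): let X be a
locally Noetherian scheme, q : Y → X a morphism locally of finite type, U a dense open subset of X,
h : U → Y a section of q over U, x a point of X outside U whose local ring is an integrally closed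
domain, and y₀ a point of Y over x with trivial residue field extension (an X-morphism Spec k(x) →
Y). Then h extends to a section h' of q over an open subset U' containing U and x with h'(x) = y₀ if
and only if: for every discrete valuation ring R and every morphism u : Spec R → X sending the
closed point to x and the generic point into U, there is a morphism h₁ : Spec R → Y over X sending
the closed point to y₀ and agreeing with h at the generic point. -/
theorem result {X Y : Scheme.{u}} [IsLocallyNoetherian X] (q : Y ⟶ X)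
    [LocallyOfFiniteType q] (U : X.Opens) (hU : Dense (U : Set ↥X)) (h : (U : Scheme.{u}) ⟶ Y)
    (hh : h ≫ q = U.ι) (x : ↥X) (hxU : x ∉ U) [IsDomain ↑(X.presheaf.stalk x)]
    (hx : IsIntegrallyClosed ↑(X.presheaf.stalk x)) (y₀ : ↥Y) (hy₀ : q y₀ = x)
    (hk : Function.Bijective (q.residueFieldMap y₀)) :
    (∃ (U' : X.Opens) (hUU' : U ≤ U') (hxU' : x ∈ U') (h' : (U' : Scheme.{u}) ⟶ Y),
        h' ≫ q = U'.ι ∧ X.homOfLE hUU' ≫ h' = h ∧ h' ⟨x, hxU'⟩ = y₀) ↔
      ∀ (R : Type u) [CommRing R] [IsDomain R] [IsDiscreteValuationRing R]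
        (u : Spec (CommRingCat.of R) ⟶ X), u (IsLocalRing.closedPoint R) = x →
        ∀ ub : Spec (CommRingCat.of (FractionRing R)) ⟶ (U : Scheme.{u}),
          ub ≫ U.ι = Spec.map (CommRingCat.ofHom (algebraMap R (FractionRing R))) ≫ u →
          ∃ h₁ : Spec (CommRingCat.of R) ⟶ Y, h₁ ≫ q = u ∧ h₁ (IsLocalRing.closedPoint R) = y₀ ∧
            Spec.map (CommRingCat.ofHom (algebraMap R (FractionRing R))) ≫ h₁ = ub ≫ h := by
  haveI := hx
  obtain ⟨W₀, hxW, hW₀, hW₀n⟩ := Groth.PicAux.exists_integral_nhd x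
  haveI := hW₀
  haveI := hW₀n
  obtain ⟨j, hj⟩ := Groth.Rat20Ext.exists_genLift hxW hU
  constructor
  · rintro ⟨U', hUU', hxU', h', hh', hrestr, hy'⟩ R _ _ _ u hu ub hub
    let l := IsOpenImmersion.lift U'.ι u (by
      rintro _ ⟨s, rfl⟩
      rw [Scheme.Opens.range_ι]
      exact ((IsLocalRing.specializes_closedPoint s).map u.continuous).mem_open U'.2
        (show u (IsLocalRing.closedPoint R) ∈ U' from hu.symm ▸ hxU'))
    have hl : l ≫ U'.ι = u := IsOpenImmersion.lift_fac _ _ _
    refine ⟨l ≫ h', by rw [Category.assoc, hh', hl], ?_, ?_⟩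
    · have : l (IsLocalRing.closedPoint R) = (⟨x, hxU'⟩ : U') := Subtype.ext (by
        change U'.ι (l (IsLocalRing.closedPoint R)) = x
        rw [← Scheme.Hom.comp_apply, hl, hu])
      rw [Scheme.Hom.comp_apply, this, hy']
    · rw [← hrestr, ← Category.assoc, ← Category.assoc]
      congr 1
      rw [← cancel_mono U'.ι, Category.assoc, hl, Category.assoc _ (X.homOfLE hUU'),
        Scheme.homOfLE_ι, hub]
  · intro H
    let K := FractionRing (X.presheaf.stalk x)
    let alg := algebraMap (X.presheaf.stalk x) K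
    obtain ⟨_, ⟨(W : Y.Opens), hW, rfl⟩, hyW, -⟩ :=
      Y.isBasis_affineOpens.exists_subset_of_mem_open (Set.mem_univ y₀) isOpen_univ
    -- every test ring gives a factorization through `W`
    have test : ∀ c : K, c ∉ alg.range →
        ∃ (R : ValuationSubring K) (hR : IsDiscreteValuationRing R)
          (hmem : ∀ a, alg a ∈ R) (_ : IsLocalHom (alg.codRestrict R.toSubring hmem))
          (φ : Γ(Y, W) ⟶ CommRingCat.of R), c ∉ R ∧
          Spec.map (φ ≫ CommRingCat.ofHom R.subtype) ≫ hW.fromSpec = j ≫ h ∧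
          hW.fromSpec (Spec.map φ (IsLocalRing.closedPoint R)) = y₀ := by
      intro c hc
      obtain ⟨R, hR, hmem, hloc, hcR⟩ := Groth.Rat20Ext.exists_dvr_not_mem hc
      haveI := hR
      obtain ⟨u, e, hu, hub, -⟩ := Groth.Rat20Ext.exists_test R hmem hloc j hj
      obtain ⟨h₁, hh₁, hcl, hgen⟩ := H R u hu _ hub
      obtain ⟨φ, hφ⟩ := Groth.Rat20Ext.exists_affine_factor hW h₁ fun s =>
        ((IsLocalRing.specializes_closedPoint s).map h₁.continuous).mem_open W.2
          (show h₁ (IsLocalRing.closedPoint R) ∈ W from hcl.symm ▸ hyW)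
      refine ⟨R, hR, hmem, hloc, φ, hcR, ?_, by rw [← Scheme.Hom.comp_apply, hφ, hcl]⟩
      have h1 : Spec.map (CommRingCat.ofHom e.symm.toRingEquiv.toRingHom) ≫
          Spec.map (CommRingCat.ofHom (algebraMap R (FractionRing R))) ≫ h₁ =
          Spec.map (CommRingCat.ofHom e.symm.toRingEquiv.toRingHom) ≫
          (Spec.map (CommRingCat.ofHom e.toRingEquiv.toRingHom) ≫ j) ≫ h := by rw [hgen]
      rw [← Spec.map_comp_assoc, ← hφ, ← Spec.map_comp_assoc, Category.assoc,
        ← Spec.map_comp_assoc] at h1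
      refine Eq.trans ?_ (h1.trans ?_)
      · congr 2
        ext b
        exact (e.symm.commutes (φ b)).symm
      · conv_rhs => rw [← Category.id_comp (j ≫ h), ← Spec.map_id]
        congr 2
        ext k
        exact e.symm_apply_apply k
    obtain ⟨c₀, hc₀⟩ := Groth.Rat20Ext.exists_not_mem_range hU hxU
    obtain ⟨R₀, -, hmem₀, hloc₀, φ₀, -, hψ, hcl₀⟩ := test c₀ hc₀
    let ψ : Γ(Y, W) →+* K := R₀.subtype.comp φ₀.hom
    have hψA : ∀ b, ψ b ∈ alg.range := by
      intro b
      by_contra hb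
      obtain ⟨R, -, hmem, -, φ, hbR, hψ', -⟩ := test (ψ b) hb
      have := Groth.Rat20Ext.affine_hom_inj hW (hψ'.trans hψ.symm)
      refine hbR ?_
      have h2 : ((φ b : R) : K) = ψ b := congr($(this).hom b)
      exact h2 ▸ (φ b).2
    let e : X.presheaf.stalk x ≃+* alg.range := RingEquiv.ofBijective alg.rangeRestrict
      ⟨fun a b hab => IsFractionRing.injective _ K (congrArg Subtype.val hab),
        alg.rangeRestrict_surjective⟩
    let ψA : Γ(Y, W) →+* X.presheaf.stalk x :=
      e.symm.toRingHom.comp (ψ.codRestrict alg.range hψA)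
    have hψA' : ∀ b, alg (ψA b) = ψ b := fun b =>
      congrArg Subtype.val (e.apply_symm_apply ⟨ψ b, hψA b⟩)
    let w₀ : Spec (X.presheaf.stalk x) ⟶ (Spec Γ(Y, W)) := Spec.map (CommRingCat.ofHom ψA)
    have hgen : Spec.map (CommRingCat.ofHom alg) ≫ w₀ ≫ hW.fromSpec = j ≫ h := by
      rw [← Spec.map_comp_assoc, ← hψ]
      congr 2
      ext b
      exact hψA' b
    haveI : IsAffine (W : Scheme.{u}) := hW
    let pW : (W : Scheme.{u}) ⟶ X := W.ι ≫ q
    let U₁ : X.Opens := U.ι ''ᵁ (h ⁻¹ᵁ W)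
    have hU₁ : U₁ ≤ U := by rintro _ ⟨a, -, rfl⟩; exact a.2
    have hU₁W : ∀ a : (U₁ : Scheme.{u}), h (X.homOfLE hU₁ a) ∈ W := by
      rintro ⟨_, b, hb, rfl⟩
      have : X.homOfLE hU₁ ⟨U.ι b, b, hb, rfl⟩ = b := U.ι.isOpenEmbedding.injective (by simp)
      exact this.symm ▸ hb
    let h₁W : (U₁ : Scheme.{u}) ⟶ (W : Scheme.{u}) :=
      IsOpenImmersion.lift W.ι (X.homOfLE hU₁ ≫ h) (by
        rintro _ ⟨a, rfl⟩
        rw [Scheme.Opens.range_ι, Scheme.Hom.comp_apply]
        exact hU₁W a)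
    have hh₁W : h₁W ≫ W.ι = X.homOfLE hU₁ ≫ h := IsOpenImmersion.lift_fac _ _ _
    have hjW : ∀ s, h (j s) ∈ W := by
      intro s
      rw [← Scheme.Hom.comp_apply, ← hψ, Scheme.Hom.comp_apply, ← SetLike.mem_coe,
        ← hW.range_fromSpec]
      exact Set.mem_range_self _
    let j₁ := IsOpenImmersion.lift U₁.ι (Groth.Rat20Ext.genHom x) (by
      rintro _ ⟨s, rfl⟩
      rw [Scheme.Opens.range_ι, ← hj, Scheme.Hom.comp_apply]
      exact ⟨j s, hjW s, rfl⟩)
    have hj₁ : j₁ ≫ U₁.ι = Groth.Rat20Ext.genHom x := IsOpenImmersion.lift_fac _ _ _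
    have hj₁j : j₁ ≫ X.homOfLE hU₁ = j := by
      rw [← cancel_mono U.ι, Category.assoc, Scheme.homOfLE_ι, hj₁, hj]
    let w : Spec (X.presheaf.stalk x) ⟶ (W : Scheme.{u}) := w₀ ≫ hW.isoSpec.inv
    have hwι : w ≫ W.ι = w₀ ≫ hW.fromSpec := by
      rw [Category.assoc, IsAffineOpen.isoSpec_inv_ι]
    have hwq : w ≫ pW = X.fromSpecStalk x ≫ 𝟙 X := by
      rw [Category.comp_id, ← Category.assoc, hwι]
      obtain ⟨_, ⟨V₀, hV₀, rfl⟩, hxV₀, -⟩ :=
        X.isBasis_affineOpens.exists_subset_of_mem_open (Set.mem_univ x) isOpen_univ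
      have hclw : (w₀ ≫ hW.fromSpec) (IsLocalRing.closedPoint (X.presheaf.stalk x)) = y₀ := by
        rw [← hcl₀, Scheme.Hom.comp_apply]
        congr 1
        haveI := hloc₀
        have hf : CommRingCat.ofHom ψA ≫
            CommRingCat.ofHom (alg.codRestrict R₀.toSubring hmem₀) = φ₀ := by
          ext b
          exact hψA' b
        rw [← hf, Spec.map_comp, Scheme.Hom.comp_apply]
        congr 1
        exact (IsLocalRing.comap_closedPoint (S := R₀) (alg.codRestrict R₀.toSubring hmem₀)).symm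
      have hr : ∀ s, ((w₀ ≫ hW.fromSpec) ≫ q) s ∈ V₀ := by
        intro s
        refine ((IsLocalRing.specializes_closedPoint s).map
          ((w₀ ≫ hW.fromSpec) ≫ q).continuous).mem_open V₀.2 ?_
        rw [Scheme.Hom.comp_apply, hclw, hy₀]
        exact hxV₀
      obtain ⟨θ, hθ⟩ := Groth.Rat20Ext.exists_affine_factor hV₀ ((w₀ ≫ hW.fromSpec) ≫ q) hr
      rw [← hθ, ← hV₀.fromSpecStalk_eq_fromSpecStalk hxV₀]
      congr 2
      have h3 : Spec.map (θ ≫ CommRingCat.ofHom alg) ≫ hV₀.fromSpec =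
          Spec.map (X.presheaf.germ V₀ x hxV₀ ≫ CommRingCat.ofHom alg) ≫ hV₀.fromSpec := by
        rw [Spec.map_comp_assoc, hθ, Category.assoc]
        refine ((reassoc_of% hgen) q).trans ?_
        rw [hh, hj, Spec.map_comp_assoc,
          ← IsAffineOpen.fromSpecStalk, hV₀.fromSpecStalk_eq_fromSpecStalk hxV₀]
        rfl
      ext r
      exact IsFractionRing.injective _ K congr($(Groth.Rat20Ext.affine_hom_inj hV₀ h3).hom r)
    haveI : IsSeparated pW := IsSeparated.of_comp pW (terminal.from X)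
    obtain ⟨V, hxV, v, hVW, hv, hvw, hagree⟩ :=
      Groth.Rat20Ext.exists_extend_of_specStalk (𝟙 X) pW hxW U₁ h₁W
        (by rw [Category.comp_id, ← Category.assoc, hh₁W, Category.assoc, hh, Scheme.homOfLE_ι])
        j₁ hj₁ w hwq
        (by rw [← cancel_mono W.ι, Category.assoc, hwι, Category.assoc, hh₁W, reassoc_of% hj₁j,
          hgen])
    -- the bad set
    let T : Set (W₀ : Scheme.{u}) := W₀.ι ⁻¹' ((U : Set X) \ (U₁ : Set X))
    have hT : (⟨x, hxW⟩ : W₀) ∉ closure T := by
      intro hxT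
      obtain ⟨z, ⟨hzU, hzU₁⟩, hzx⟩ := Groth.Rat20Ext.exists_specializes_of_mem_closure
        (U := W₀.ι ⁻¹' (U : Set X)) (T := T) (U.2.preimage W₀.ι.continuous) (fun z hz => hz.1)
        (fun z hz => ⟨hz.2, fun hz1 => by
          obtain ⟨a, ha1, ha⟩ :=
            mem_closure_iff.1 hz.1 _ (U₁.2.preimage W₀.ι.continuous) hz1
          exact ha.2 ha1⟩) hxT
      -- a test ring through `z` and `x`
      have hzx' : W₀.ι z ⤳ x := hzx.map W₀.ι.continuous
      obtain ⟨p, hp⟩ : W₀.ι z ∈ Set.range (X.fromSpecStalk x) := by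
        rw [Scheme.range_fromSpecStalk]; exact hzx'
      let p' : PrimeSpectrum (X.presheaf.stalk x) := p
      have hne : ¬ IsField (X.presheaf.stalk x ⧸ p'.asIdeal) := by
        intro hf
        haveI := Ideal.Quotient.maximal_of_isField _ hf
        have hpm : p' = IsLocalRing.closedPoint (X.presheaf.stalk x) :=
          PrimeSpectrum.ext (IsLocalRing.eq_maximalIdeal inferInstance)
        refine hxU ?_
        have : W₀.ι z = x := by
          rw [← hp]
          exact (congrArg (X.fromSpecStalk x) hpm).trans Scheme.fromSpecStalk_closedPoint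
        exact this ▸ hzU
      haveI : IsLocalRing (X.presheaf.stalk x ⧸ p'.asIdeal) :=
        .of_surjective' (Ideal.Quotient.mk _) Ideal.Quotient.mk_surjective
      obtain ⟨R, _, _, _, χ, hχ, hχloc⟩ := Groth.EGA43Val.exists_dvr_dominating _ hne
      let π : X.presheaf.stalk x →+* R := χ.comp (Ideal.Quotient.mk p'.asIdeal)
      haveI : IsLocalHom (Ideal.Quotient.mk p'.asIdeal) :=
        IsLocalHom.of_surjective _ Ideal.Quotient.mk_surjective
      haveI : IsLocalHom π := RingHom.isLocalHom_comp χ _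
      let u : Spec (CommRingCat.of R) ⟶ X := Spec.map (CommRingCat.ofHom π) ≫ X.fromSpecStalk x
      have hu : u (IsLocalRing.closedPoint R) = x := by
        rw [Scheme.Hom.comp_apply]
        refine (congrArg (X.fromSpecStalk x) ?_).trans Scheme.fromSpecStalk_closedPoint
        exact IsLocalRing.comap_closedPoint π
      let gen := Spec.map (CommRingCat.ofHom (algebraMap R (FractionRing R))) ≫ u
      have hgenz : ∀ s, gen s = W₀.ι z := by
        intro s
        rw [Scheme.Hom.comp_apply, Scheme.Hom.comp_apply, ← hp]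
        congr 1
        refine PrimeSpectrum.ext (Ideal.ext fun a => ?_)
        change algebraMap R (FractionRing R) (π a) ∈
          (s : PrimeSpectrum (FractionRing R)).asIdeal ↔ a ∈ p'.asIdeal
        rw [show (s : PrimeSpectrum (FractionRing R)).asIdeal = ⊥ from
          Ideal.eq_bot_of_prime (I := (s : PrimeSpectrum (FractionRing R)).asIdeal), Ideal.mem_bot,
          map_eq_zero_iff _ (IsFractionRing.injective R (FractionRing R)), RingHom.comp_apply,
          map_eq_zero_iff _ hχ, Ideal.Quotient.eq_zero_iff_mem]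
      let ub := IsOpenImmersion.lift U.ι gen (by
        rintro _ ⟨s, rfl⟩
        rw [Scheme.Opens.range_ι, hgenz]
        exact hzU)
      have hub : ub ≫ U.ι = gen := IsOpenImmersion.lift_fac _ _ _
      obtain ⟨h₁, -, hcl, hgen₁⟩ := H R u hu ub hub
      refine hzU₁ ⟨ub (IsLocalRing.closedPoint (FractionRing R)), ?_, ?_⟩
      · change (ub ≫ h) (IsLocalRing.closedPoint (FractionRing R)) ∈ W
        rw [← hgen₁, Scheme.Hom.comp_apply]
        exact ((IsLocalRing.specializes_closedPoint _).map h₁.continuous).mem_open W.2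
          (show h₁ (IsLocalRing.closedPoint R) ∈ W from hcl.symm ▸ hyW)
      · change (ub ≫ U.ι) (IsLocalRing.closedPoint (FractionRing R)) = W₀.ι z
        rw [hub, hgenz]
    let V₂ : X.Opens := V ⊓ W₀.ι ''ᵁ ⟨(closure T)ᶜ, isClosed_closure.isOpen_compl⟩
    have hxV₂ : x ∈ V₂ := ⟨hxV, ⟨⟨x, hxW⟩, hT, rfl⟩⟩
    have hUV₂ : U ⊓ V₂ ≤ U₁ ⊓ V := by
      rintro z ⟨hzU, hzV, z', hz', rfl⟩
      refine ⟨?_, hzV⟩
      by_contra hz₁
      exact hz' (subset_closure ⟨hzU, hz₁⟩)
    let v₂ : (V₂ : Scheme.{u}) ⟶ Y := X.homOfLE (inf_le_left : V₂ ≤ V) ≫ v ≫ W.ι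
    have hagree₂ : X.homOfLE (inf_le_right : U ⊓ V₂ ≤ V₂) ≫ v₂ =
        X.homOfLE (inf_le_left : U ⊓ V₂ ≤ U) ≫ h := by
      have := congrArg (fun m => X.homOfLE hUV₂ ≫ m ≫ W.ι) hagree
      simp only [Category.assoc, hh₁W] at this
      simpa only [v₂, ← Category.assoc, Scheme.homOfLE_homOfLE] using this
    have hv₂ : v₂ ≫ q = V₂.ι := by
      rw [Category.assoc, Category.assoc, show W.ι ≫ q = pW from rfl, hv, Category.comp_id,
        Scheme.homOfLE_ι]
    obtain ⟨c, hcU, hcV⟩ := Groth.Rat20Ext.exists_glue_sup U V₂ h v₂ hagree₂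
    refine ⟨U ⊔ V₂, le_sup_left, Or.inr hxV₂, c,
      Groth.Rat20Ext.comp_eq_of_sup U V₂ c hh hv₂ hcU hcV, hcU, ?_⟩
    have hpt : (⟨x, Or.inr hxV₂⟩ : ↥(U ⊔ V₂)) =
        X.homOfLE (le_sup_right : V₂ ≤ U ⊔ V₂) ⟨x, hxV₂⟩ := Subtype.ext (by simp)
    rw [hpt, ← Scheme.Hom.comp_apply, hcV]
    have hv₂pt : v₂ ⟨x, hxV₂⟩ =
        (V.fromSpecStalkOfMem x hxV ≫ v ≫ W.ι) (IsLocalRing.closedPoint (X.presheaf.stalk x)) := by
      have hp : V.fromSpecStalkOfMem x hxV (IsLocalRing.closedPoint (X.presheaf.stalk x)) =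
          (⟨x, hxV⟩ : V) := Subtype.ext (by
        change V.ι (V.fromSpecStalkOfMem x hxV _) = x
        rw [← Scheme.Hom.comp_apply, Scheme.Opens.fromSpecStalkOfMem_ι,
          Scheme.fromSpecStalk_closedPoint])
      simp only [v₂, Scheme.Hom.comp_apply, hp]
      congr 2
      exact Subtype.ext (by simp)
    rw [hv₂pt, ← Category.assoc, hvw, hwι, Scheme.Hom.comp_apply]
    haveI := hloc₀
    refine Eq.trans ?_ hcl₀
    congr 1
    have hf : CommRingCat.ofHom ψA ≫
        CommRingCat.ofHom (alg.codRestrict R₀.toSubring hmem₀) = φ₀ := by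
      ext b
      exact hψA' b
    rw [← hf, Spec.map_comp, Scheme.Hom.comp_apply]
    congr 1
    exact (IsLocalRing.comap_closedPoint (S := R₀) (alg.codRestrict R₀.toSubring hmem₀)).symm

end Groth.Agent.S3848
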