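import Groth.Statements.S3849
import Groth.Agent.Rat20Ext.Isolated
import Groth.Agent.Rat20Ext.DvrTest

set_option autoImplicit false
universe u
open CategoryTheory CategoryTheory.Limits AlgebraicGeometry TopologicalSpace
open Rat20

namespace Groth.Agent.S3849

/-- In the case S = X (sections of q : Y → X): let X be a locally Noetherian scheme, q : Y → X
separated, locally of finite type and locally quasi-finite, U a dense open subset of X, h : U → Y a
section of q over U, and x a point of X outside U whose local ring is an integrally closed domain.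
Then h extends to a section of q over an open subset containing U and x if and only if there exist a
discrete valuation ring R, a morphism u : Spec R → X sending the closed point to x and the generic
point into U, and a morphism Spec R → Y over X agreeing with h at the generic point. -/
theorem result {X Y : Scheme.{u}} [IsLocallyNoetherian X] (q : Y ⟶ X)
    [LocallyOfFiniteType q] [IsSeparated q] [LocallyQuasiFinite q] (U : X.Opens) (hU : Dense (U : Set ↥X))
    (h : (U : Scheme.{u}) ⟶ Y) (hh : h ≫ q = U.ι) (x : ↥X) (hxU : x ∉ U) [IsDomain ↑(X.presheaf.stalk x)]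
    (hx : IsIntegrallyClosed ↑(X.presheaf.stalk x)) :
    (∃ (U' : X.Opens) (hUU' : U ≤ U') (h' : (U' : Scheme.{u}) ⟶ Y),
        x ∈ U' ∧ h' ≫ q = U'.ι ∧ X.homOfLE hUU' ≫ h' = h) ↔
      ∃ (R : Type u) (_ : CommRing R) (_ : IsDomain R) (_ : IsDiscreteValuationRing R)
        (u : Spec (CommRingCat.of R) ⟶ X) (ub : Spec (CommRingCat.of (FractionRing R)) ⟶ (U : Scheme.{u}))
        (h₁ : Spec (CommRingCat.of R) ⟶ Y),
        u (IsLocalRing.closedPoint R) = x ∧
          ub ≫ U.ι = Spec.map (CommRingCat.ofHom (algebraMap R (FractionRing R))) ≫ u ∧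
          h₁ ≫ q = u ∧ Spec.map (CommRingCat.ofHom (algebraMap R (FractionRing R))) ≫ h₁ = ub ≫ h := by
  haveI := hx
  obtain ⟨W₀, hxW, hW₀, -⟩ := Groth.PicAux.exists_integral_nhd x
  haveI := hW₀
  obtain ⟨j, hj⟩ := Groth.Rat20Ext.exists_genLift hxW hU
  constructor
  · rintro ⟨U', hUU', h', hxU', hh', hrestr⟩
    obtain ⟨c, hc⟩ := Groth.Rat20Ext.exists_not_mem_range hU hxU
    obtain ⟨R, hR, hmem, hloc, -⟩ := Groth.Rat20Ext.exists_dvr_not_mem hc
    haveI := hR
    obtain ⟨u, e, hu, hub, -⟩ := Groth.Rat20Ext.exists_test R hmem hloc j hj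
    let l := IsOpenImmersion.lift U'.ι u (by
      rintro _ ⟨s, rfl⟩
      rw [Scheme.Opens.range_ι]
      exact ((IsLocalRing.specializes_closedPoint s).map u.continuous).mem_open U'.2
        (show u (IsLocalRing.closedPoint R) ∈ U' from hu.symm ▸ hxU'))
    have hl : l ≫ U'.ι = u := IsOpenImmersion.lift_fac _ _ _
    refine ⟨R, inferInstance, inferInstance, hR, u,
      Spec.map (CommRingCat.ofHom e.toRingEquiv.toRingHom) ≫ j, l ≫ h', hu, hub, ?_, ?_⟩
    · rw [Category.assoc, hh', hl]
    · rw [← hrestr, ← Category.assoc, ← Category.assoc]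
      congr 1
      rw [← cancel_mono U'.ι, Category.assoc, hl, Category.assoc _ (X.homOfLE hUU'),
        Scheme.homOfLE_ι, hub]
  · rintro ⟨R, _, _, _, u, ub, h₁, hu, hub, hh₁, hgen⟩
    set y := h₁ (IsLocalRing.closedPoint R) with hydef
    have hqy : q y = x := by rw [hydef, ← Scheme.Hom.comp_apply, hh₁, hu]
    have hjh : (j ≫ h) ≫ q = Groth.Rat20Ext.genHom x := by rw [Category.assoc, hh, hj]
    have hy : ∀ s, (j ≫ h) s ⤳ y := by
      intro s
      let t : ↥(Spec (CommRingCat.of (FractionRing R))) :=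
        IsLocalRing.closedPoint (FractionRing R)
      have h1 : (ub t).1 ⤳ x := by
        have : U.ι (ub t) ⤳ x := by
          rw [← Scheme.Hom.comp_apply, hub, Scheme.Hom.comp_apply, ← hu]
          exact (IsLocalRing.specializes_closedPoint _).map u.continuous
        exact this
      have h2 : j s ⤳ ub t := by
        rw [← U.ι.isOpenEmbedding.isInducing.specializes_iff, ← Scheme.Hom.comp_apply, hj]
        exact Groth.Rat20Ext.genHom_specializes x s h1
      rw [Scheme.Hom.comp_apply]
      refine (h2.map h.continuous).trans ?_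
      rw [← Scheme.Hom.comp_apply, ← hgen, Scheme.Hom.comp_apply]
      exact (IsLocalRing.specializes_closedPoint _).map h₁.continuous
    obtain ⟨O, hO⟩ : ∃ O : Y.Opens, (O : Set Y) ∩ q ⁻¹' {x} = {y} := by
      have hd := q.isDiscrete_preimage_singleton x
      rw [isDiscrete_iff_discreteTopology] at hd
      obtain ⟨O, hO, hO'⟩ := isOpen_induced_iff.1
        (isOpen_discrete ({⟨y, hqy⟩} : Set ↥(q ⁻¹' {x})))
      refine ⟨⟨O, hO⟩, Set.ext fun z => ⟨fun hz => ?_, fun hz => ?_⟩⟩
      · have : (⟨z, hz.2⟩ : ↥(q ⁻¹' {x})) ∈ ({⟨y, hqy⟩} : Set ↥(q ⁻¹' {x})) := hO' ▸ hz.1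
        exact congrArg Subtype.val this
      · rw [Set.mem_singleton_iff] at hz
        subst hz
        refine ⟨?_, hqy⟩
        have : (⟨y, hqy⟩ : ↥(q ⁻¹' {x})) ∈ Subtype.val ⁻¹' O := hO'.symm ▸ rfl
        exact this
    have hyO : y ∈ O := (hO.symm.subset rfl).1
    obtain ⟨w, hw, hgw, -⟩ := Groth.Rat20Ext.exists_hom_of_isolated q hx (j ≫ h) hjh y hqy hy O hyO
      fun z hzO _ hz => hO.subset ⟨hzO, hz⟩
    obtain ⟨V, hxV, v, -, hv, -, hagree⟩ := Groth.Rat20Ext.exists_extend_of_specStalk (𝟙 X) q hxW U h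
      (by rw [hh, Category.comp_id]) j hj w (by rw [hw, Category.comp_id]) hgw
    obtain ⟨c, hcU, hcV⟩ := Groth.Rat20Ext.exists_glue_sup U V h v hagree
    rw [Category.comp_id] at hv
    exact ⟨U ⊔ V, le_sup_left, c, Or.inr hxV,
      Groth.Rat20Ext.comp_eq_of_sup U V c hh hv hcU hcV, hcU⟩

end Groth.Agent.S3849
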