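import Groth.Statements.S3850
import Groth.Agent.Ega418Omega.Etale

set_option autoImplicit false
universe u
open EGA418

namespace Groth.Agent.S3850

/-- b) iff c), in the case n = dim A: let k be a field, A a complete Noetherian local k-algebra whose
residue field is finite over k, of dimension n, p a non-maximal prime ideal of A contained in an
irreducible component of dimension n (there is a minimal prime q ⊆ p with dim A/q = n), and Ω̂ the
completion of the module of differentials of A over k for the topology of the maximal ideal. Then
Ω̂_p is a free A_p-module of rank n if and only if there is a local k-algebra map u : k[[T_1, …,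
T_n]] → A making A a finite algebra over the power series ring and étale over it at p. -/
theorem result (k A : Type u) [Field k] [CommRing A]
    [IsLocalRing A] [IsNoetherianRing A] [Algebra k A] [IsAdicComplete (IsLocalRing.maximalIdeal A) A]
    [Module.Finite k (IsLocalRing.ResidueField A)] (n : ℕ) (hn : ringKrullDim A = n)
    (p : Ideal A) [p.IsPrime] (hp : p ≠ IsLocalRing.maximalIdeal A)
    (hq : ∃ q ∈ minimalPrimes A, q ≤ p ∧ ringKrullDim (A ⧸ q) = n) :
    (Module.Free (Localization.AtPrime p)
        (LocalizedModule p.primeCompl (AdicCompletion (IsLocalRing.maximalIdeal A) (KaehlerDifferential k A))) ∧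
      Module.finrank (Localization.AtPrime p)
        (LocalizedModule p.primeCompl (AdicCompletion (IsLocalRing.maximalIdeal A) (KaehlerDifferential k A))) = n) ↔
      ∃ (_ : Algebra (MvPowerSeries (Fin n) k) A) (_ : IsScalarTower k (MvPowerSeries (Fin n) k) A),
        IsLocalHom (algebraMap (MvPowerSeries (Fin n) k) A) ∧ Module.Finite (MvPowerSeries (Fin n) k) A ∧
          Algebra.IsEtaleAt (MvPowerSeries (Fin n) k) p := by
  constructor
  · rintro ⟨hfree, hrank⟩
    haveI := hfree
    haveI : Module.Finite (Localization.AtPrime p)
        (LocalizedModule p.primeCompl (AdicCompletion (IsLocalRing.maximalIdeal A) (KaehlerDifferential k A))) :=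
      Module.Finite.of_isLocalizedModule p.primeCompl
        (LocalizedModule.mkLinearMap p.primeCompl (AdicCompletion (IsLocalRing.maximalIdeal A) (KaehlerDifferential k A)))
    obtain ⟨s, hs⟩ := Groth.Ega418Omega.exists_span_localized_iff.mp
      ⟨_, (Module.finBasisOfFinrankEq _ _ hrank).span_eq⟩
    obtain ⟨q, hq1, hqp, hqd⟩ := hq
    haveI : q.IsPrime := hq1.1.1
    obtain ⟨i₁, i₂, hloc, hfin, -, hun⟩ := Groth.Ega418Omega.exists_unramified_map (k := k) (p := p) hp
      (Groth.Ega418Omega.finrank_le_of_gen s hs) hn.le
    letI := i₁
    haveI := hfin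
    haveI := hun
    exact ⟨i₁, i₂, hloc, hfin, Groth.Ega418Omega.isEtaleAt_of_isUnramifiedAt (k := k) p q hqp hqd⟩
  · rintro ⟨_, _, hloc, _, het⟩
    haveI := het
    have hX : ∀ i, algebraMap (MvPowerSeries (Fin n) k) A (MvPowerSeries.X i) ∈ IsLocalRing.maximalIdeal A := by
      intro i hu
      have h1 := ((isUnit_map_iff (algebraMap (MvPowerSeries (Fin n) k) A) _).1 hu).map
        (MvPowerSeries.constantCoeff (σ := Fin n) (R := k))
      rw [MvPowerSeries.constantCoeff_X] at h1
      exact not_isUnit_zero h1
    exact (Groth.Ega418Omega.free_and_geomRegular_of_isEtaleAt hX p).1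

end Groth.Agent.S3850
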