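import Groth.Statements.S3853
import Groth.Agent.AdicLinTop.SysExamples

set_option autoImplicit false
universe u
open FCompl

namespace Groth.Agent.S3853

open AlgebraicGeometry in
/-- Levelwise part (formal schemes presented as systems of thickenings X_0 -> X_1 -> ...; the assertion
about the limit ring is in the affine recognition row). Let (X_n) be a system of schemes in which
every transition map is a surjective closed immersion and the kernel ideal of X_n -> X_(n+1) is the
(n+1)-st power of the kernel ideal of X_0 -> X_(n+1). If X_0 is locally Noetherian and the kernel
ideal of X_0 -> X_1 is of finite type, then every X_n is locally Noetherian. -/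
theorem result
    (𝔛 : FSch.Sys.{u}) (hF : 𝔛.IsFormal) (hA : 𝔛.IsAdic) [IsLocallyNoetherian (𝔛.X 0)]
    (hft : FSch.IdealFT (𝔛.ι 0).ker) (n : ℕ) : IsLocallyNoetherian (𝔛.X n) := by
  exact Groth.AdicLinTop.Thickenings.isLocallyNoetherian_levels hF hA hft n

end Groth.Agent.S3853
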