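import Groth.Statements.S3854
import Groth.Agent.AdicLinTop.SysExamples

set_option autoImplicit false
universe u
open FCompl

namespace Groth.Agent.S3854

open AlgebraicGeometry in
/-- The completion along a closed subset, presented as the system of closed subschemes cut out by the
powers of an ideal sheaf: Let X be a locally Noetherian scheme and I an ideal sheaf on X. The closed
subschemes defined by I, I^2, I^3, ... with their inclusions form a locally Noetherian adic formal
system: each inclusion is a surjective closed immersion, the kernel ideal of the n-th inclusion is
the (n+1)-st power of the kernel ideal of the composite inclusion from level 0, and every level is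
locally Noetherian. -/
theorem result (X : Scheme.{u}) [IsLocallyNoetherian X]
    (𝓘 : X.IdealSheafData) : (FSch.completionAlong X 𝓘).IsLocNoethFormal := by
  exact ⟨Groth.AdicLinTop.Thickenings.isFormal_completionAlong X 𝓘,
    Groth.AdicLinTop.Thickenings.isAdic_completionAlong X 𝓘,
    fun n => LocallyOfFiniteType.isLocallyNoetherian (𝓘 ^ (n + 1)).subschemeι⟩

end Groth.Agent.S3854
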