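import Groth.Statements.S3856
import Groth.Agent.AdicLinTop.InverseLimit
import Groth.Agent.Calg1.Completion

set_option autoImplicit false
universe u
open AdicRing

namespace Groth.Agent.S3856

/-- Let A be a ring that is complete and separated for the J-adic topology of an ideal J. If A/J² is
Noetherian (equivalently, A/J is Noetherian and J/J² is a finitely generated A/J-module), then A is
Noetherian. The published statement is phrased for a formal spectrum Spf(A) all of whose levels
Spec(A/J^(n+1)) are Noetherian; it is stated here with the weaker hypothesis that A/J² is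
Noetherian. -/
theorem result (A : Type u) [CommRing A]
    (J : Ideal A) [IsAdicComplete J A] [IsNoetherianRing (A ⧸ J ^ 2)] : IsNoetherianRing A := by
  classical
  obtain ⟨S, hS⟩ := IsNoetherian.noetherian (J.map (Ideal.Quotient.mk (J ^ 2)))
  choose g hg using Ideal.Quotient.mk_surjective (I := J ^ 2)
  obtain ⟨J₀, hfg, hJ₀J, hJ⟩ : ∃ J₀ : Ideal A, J₀.FG ∧ J₀ ≤ J ∧ J ≤ J₀ ⊔ J ^ 2 := by
    refine ⟨Ideal.span (S.image g : Finset A), ⟨_, rfl⟩, ?_, ?_⟩
    · rw [Ideal.span_le, Finset.coe_image]
      rintro _ ⟨y, hy, rfl⟩
      have h1 : Ideal.Quotient.mk (J ^ 2) (g y) ∈ J.map (Ideal.Quotient.mk (J ^ 2)) := by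
        rw [hg, ← hS]
        exact Submodule.subset_span hy
      exact (Ideal.mem_quotient_iff_mem (Ideal.pow_le_self two_ne_zero)).mp h1
    · have h1 : J.map (Ideal.Quotient.mk (J ^ 2)) ≤
          (Ideal.span ((S.image g : Finset A) : Set A)).map (Ideal.Quotient.mk (J ^ 2)) := by
        rw [Ideal.map_span, Finset.coe_image, ← Set.image_comp]
        refine hS.ge.trans (Submodule.span_mono fun y hy => ⟨y, hy, hg y⟩)
      have h2 := Ideal.map_le_iff_le_comap.mp h1
      rwa [Ideal.comap_map_of_surjective _ Ideal.Quotient.mk_surjective,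
        ← RingHom.ker_eq_comap_bot, Ideal.mk_ker] at h2
  have hstep : ∀ k : ℕ, J ^ (k + 1) ≤ J₀ ^ (k + 1) ⊔ J ^ (k + 1 + 1) := by
    intro k
    induction k with
    | zero => simpa using hJ
    | succ k ih =>
      calc J ^ (k + 1 + 1) = J ^ (k + 1) * J := pow_succ J (k + 1)
        _ ≤ (J₀ ^ (k + 1) ⊔ J ^ (k + 1 + 1)) * J := Ideal.mul_mono_left ih
        _ = J₀ ^ (k + 1) * J ⊔ J ^ (k + 1 + 1 + 1) := by
          rw [Ideal.sup_mul, ← pow_succ J (k + 1 + 1)]
        _ ≤ _ := sup_le ((Ideal.mul_mono_right hJ).trans (by
            rw [Ideal.mul_sup]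
            refine sup_le_sup (pow_succ J₀ (k + 1)).ge ((Ideal.mul_mono_left
              (Ideal.pow_right_mono hJ₀J _)).trans ?_)
            rw [← pow_add])) le_sup_right
  have heq : ∀ n, J ^ (n + 1) ≤ J₀ ^ (n + 1) := by
    intro n
    have := Groth.AdicLinTop.InvLim.le_of_fg (I := J₀) (L := A)
      (K := fun n => (J ^ (n + 1) : Submodule A A))
      (fun a b h => Ideal.pow_le_pow_right (Nat.succ_le_succ h))
      (fun x hx => IsHausdorff.haus' (I := J) x fun m => by
        rw [SModEq.zero, smul_eq_mul, Ideal.mul_top]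
        exact Ideal.pow_le_pow_right m.le_succ (hx m))
      (fun s hs => by
        obtain ⟨x, hx⟩ := IsPrecomplete.prec (I := J) (M := A) inferInstance
          (f := fun k => s (k - 1)) fun {p q} hpq => by
            rw [SModEq.sub_mem, smul_eq_mul, Ideal.mul_top, ← neg_mem_iff, neg_sub]
            induction hpq with
            | refl => simp
            | @step q hq ih =>
              rcases p with _ | p
              · simp
              have hq' : p + 1 ≤ q := hq
              obtain ⟨q, rfl⟩ := Nat.exists_eq_add_of_le (show 1 ≤ q by omega)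
              have h1 := Ideal.pow_le_pow_right (I := J) (show p + 1 ≤ q + 1 by omega) (hs q)
              have h2 := add_mem h1 ih
              simpa [Nat.add_comm 1 q] using h2
        exact ⟨x, fun k => by
          have := hx (k + 1)
          rw [SModEq.sub_mem, smul_eq_mul, Ideal.mul_top] at this
          simpa using neg_mem this⟩)
      (fun n => by
        rw [smul_eq_mul, Ideal.mul_top]
        exact Ideal.pow_right_mono hJ₀J _) hfg
      (fun n => by rw [smul_eq_mul, Ideal.mul_top]; exact hstep n) n
    simpa using this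
  obtain rfl : J = J₀ := le_antisymm (by simpa using heq 0) hJ₀J
  haveI : IsNoetherianRing (A ⧸ J) :=
    isNoetherianRing_of_surjective (A ⧸ J ^ 2) (A ⧸ J)
      (Ideal.Quotient.factor (Ideal.pow_le_self two_ne_zero)) (Ideal.Quotient.factor_surjective _)
  exact Groth.Calg1.isNoetherianRing_of_isAdicComplete J hfg

end Groth.Agent.S3856
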