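import Groth.Statements.S3860
import Mathlib.RingTheory.AdicCompletion.RingHom

set_option autoImplicit false
universe u
open FCompl

namespace Groth.Agent.S3860

open AlgebraicGeometry in
/-- (Affine adic case; the formal spectra presented as the systems Spec(A/I^(n+1)) and Spec(B/K^(n+1)).)
Let I be an ideal of a ring A which is complete and separated for the I-adic topology, and K an
ideal of a ring B. Then φ ↦ (Spec of the induced maps B/K^(n+1) -> A/I^(n+1)) is a bijection from
the ring homomorphisms φ : B -> A with φ(K) ⊆ I onto the morphisms of systems from Spf(A) to Spf(B),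
i.e. the compatible families of morphisms Spec(A/I^(n+1)) -> Spec(B/K^(n+1)). -/
theorem result (A B : Type u) [CommRing A] [CommRing B] (I : Ideal A) (K : Ideal B)
    [IsAdicComplete I A] :
    Function.Bijective (fun φ : {φ : B →+* A // K ≤ I.comap φ} ↦ FSch.spfMap I K φ.1 φ.2) := by
  refine ⟨?_, ?_⟩
  · rintro ⟨φ, hφ⟩ ⟨φ', hφ'⟩ heq
    refine Subtype.ext (RingHom.ext fun b => sub_eq_zero.mp (IsHausdorff.haus' (I := I) _ fun n => ?_))
    rw [SModEq.zero, smul_eq_mul, Ideal.mul_top]
    refine Ideal.pow_le_pow_right (Nat.le_succ n) ?_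
    have h := congrArg (fun g => (g : FSch.Hom _ _).app n) heq
    simp only [FSch.spfMap_app] at h
    have h2 := RingHom.congr_fun (congrArg CommRingCat.Hom.hom (Spec.map_inj.mp h)) (Ideal.Quotient.mk _ b)
    exact Ideal.Quotient.eq.mp h2
  · intro g
    let ψ : ∀ n, B ⧸ K ^ (n + 1) →+* A ⧸ I ^ (n + 1) := fun n => (Spec.preimage ((g : FSch.Hom _ _).app n)).hom
    have hψ : ∀ n, Spec.map (CommRingCat.ofHom (ψ n)) = (g : FSch.Hom _ _).app n := fun n => Spec.map_preimage _
    have hc : ∀ n, (Ideal.Quotient.factor (Ideal.pow_le_pow_right (Nat.le_succ (n + 1)))).comp (ψ (n + 1)) =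
        (ψ n).comp (Ideal.Quotient.factor (S := K ^ (n + 2)) (Ideal.pow_le_pow_right (Nat.le_succ (n + 1)))) := by
      intro n
      have h := (g : FSch.Hom _ _).comm n
      rw [← hψ, ← hψ] at h
      erw [← Spec.map_comp, ← Spec.map_comp] at h
      exact (congrArg CommRingCat.Hom.hom (Spec.map_injective h)).symm
    let f : (n : ℕ) → B →+* A ⧸ I ^ n := fun n =>
      (Ideal.Quotient.factor (Ideal.pow_le_pow_right (Nat.le_succ n))).comp ((ψ n).comp (Ideal.Quotient.mk _))
    have hkey : ∀ m n, ∀ h : m ≤ n, ∀ b, Ideal.Quotient.factor (Ideal.pow_le_pow_right (Nat.succ_le_succ h))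
        (ψ n (Ideal.Quotient.mk _ b)) = ψ m (Ideal.Quotient.mk _ b) := by
      intro m n h b
      induction h with
      | refl => rw [Ideal.Quotient.factor_eq]; rfl
      | @step k h ih =>
        rw [← ih, ← Ideal.Quotient.factor_comp_apply (S := I ^ (k + 2)) (T := I ^ (k + 1))
          (Ideal.pow_le_pow_right (Nat.le_succ _)) (Ideal.pow_le_pow_right (Nat.succ_le_succ h))]
        congr 1
        exact RingHom.congr_fun (hc k) (Ideal.Quotient.mk _ b)
    have hf : ∀ {m n : ℕ} (h : m ≤ n), (Ideal.Quotient.factorPow I h).comp (f n) = f m := fun {m n} h =>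
      RingHom.ext fun b => by
        simp only [f, RingHom.comp_apply, Ideal.Quotient.factorPow]
        rw [← hkey m n h b, Ideal.Quotient.factor_comp_apply, Ideal.Quotient.factor_comp_apply]
    let φ := IsAdicComplete.liftRingHom I f hf
    have hφ : ∀ n b, Ideal.Quotient.mk (I ^ (n + 1)) (φ b) = ψ n (Ideal.Quotient.mk _ b) := fun n b => by
      rw [IsAdicComplete.mk_liftRingHom]
      exact hkey n (n + 1) (Nat.le_succ n) b
    have hle : K ≤ I.comap φ := fun b hb => by
      have h := hφ 0 b
      rw [Ideal.Quotient.eq_zero_iff_mem.mpr (show b ∈ K ^ (0 + 1) by simpa using hb), map_zero,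
        Ideal.Quotient.eq_zero_iff_mem] at h
      show φ b ∈ I
      simpa using h
    refine ⟨⟨φ, hle⟩, FSch.Hom.ext (funext fun n => ?_)⟩
    show (FSch.spfMap I K φ hle : FSch.Hom _ _).app n = _
    rw [FSch.spfMap_app, ← hψ n]
    congr 2
    exact Ideal.Quotient.ringHom_ext (RingHom.ext fun b => hφ n b)

end Groth.Agent.S3860
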