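import Groth.Statements.S3863
import Groth.Agent.AdicLinTop.TildeSys

set_option autoImplicit false
universe u
open FCompl

namespace Groth.Agent.S3863

open AlgebraicGeometry in
open CategoryTheory in
/-- The formal spectrum of A is presented as the system of closed subschemes of Spec A cut out by the
powers of J, and for an A-module M the system of modules M^Δ is the family of pullbacks of the sheaf
M̃ associated to M to these subschemes, with its canonical transition isomorphisms. Let A be a
Noetherian ring, complete and separated for the J-adic topology, and M, N finite A-modules. Then u ↦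
u^Δ is a bijection from Hom_A(M, N) onto the set of morphisms of systems of modules M^Δ → N^Δ. -/
theorem result (A : Type u) [CommRing A] [IsNoetherianRing A]
    (J : Ideal A) [IsAdicComplete J A] (M N : ModuleCat.{u} A) [Module.Finite A M] [Module.Finite A N] :
    Function.Bijective (fun u : M ⟶ N ↦
      FSch.complModMap (FSch.idealSpec A J) ((tilde.functor (CommRingCat.of A)).map u)) := by
  let X := Spec (CommRingCat.of A)
  let i := fun n => FSch.completionToX X (FSch.idealSpec A J) n
  have hc : ∀ n, (FSch.completionAlong X (FSch.idealSpec A J)).ι n ≫ i (n + 1) = i n := fun n =>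
    Scheme.IdealSheafData.inclusion_subschemeι (FSch.pow_succ_le X (FSch.idealSpec A J) n)
  have : ∀ n, IsClosedImmersion (i n) := fun n => inferInstance
  have hK : ∀ n, (i n).ker = FSch.idealSpec A (J ^ (n + 1)) := fun n =>
    (Scheme.IdealSheafData.ker_subschemeι _).trans
      (Groth.AdicLinTop.Thickenings.idealSpec_pow J (n + 1)).symm
  have : IsAdicComplete J N := Groth.AdicLinTop.Adic.isAdicComplete_of_finite
  refine ⟨fun u v huv => ?_, fun φ => ?_⟩
  · obtain ⟨f, -, huniq⟩ := Groth.AdicLinTop.TildeSys.existsUnique_sysMap i hc J hK M N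
      (FSch.complModMap (FSch.idealSpec A J) ((tilde.functor (CommRingCat.of A)).map u))
    refine (huniq u fun n m => ?_).trans (huniq v fun n m => ?_).symm
    · exact Groth.AdicLinTop.TildeSys.map_proj (i n) u m
    · refine Eq.trans ?_ (Groth.AdicLinTop.TildeSys.map_proj (i n) v m)
      exact congrArg (fun ψ : FSch.complMod (FSch.idealSpec A J) (tilde (R := CommRingCat.of A) M) ⟶
        FSch.complMod (FSch.idealSpec A J) (tilde (R := CommRingCat.of A) N) =>
        (FSch.ModSys.Hom.app ψ n).app (i n ⁻¹ᵁ ⊤)
        ((Groth.AdicLinTop.TildeSys.proj (i n) M).hom m)) huv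
  · obtain ⟨f, hf, -⟩ := Groth.AdicLinTop.TildeSys.existsUnique_sysMap i hc J hK M N φ
    refine ⟨f, FSch.ModSys.Hom.ext (funext fun n => ?_)⟩
    refine Groth.AdicLinTop.TildeSys.hom_ext (i n) fun m => ?_
    exact (Groth.AdicLinTop.TildeSys.map_proj (i n) f m).trans (hf n m).symm

end Groth.Agent.S3863
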