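import Groth.Statements.S3864
import Groth.Agent.AdicLinTop.TildeSys

set_option autoImplicit false
universe u
open FCompl

namespace Groth.Agent.S3864

open AlgebraicGeometry in
open CategoryTheory in
/-- b) ⟺ c), in the strong form that keeps the transition isomorphisms (the formal spectrum of A
presented as the system of closed subschemes of Spec A cut out by the powers of J). Let A be
Noetherian, complete and separated for the J-adic topology. Every system of coherent modules F_n on
these subschemes, given with isomorphisms identifying the restriction of F_(n+1) with F_n, is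
isomorphic as a system to M^Δ for some finite A-module M. -/
theorem result (A : Type u) [CommRing A] [IsNoetherianRing A]
    (J : Ideal A) [IsAdicComplete J A]
    (𝔐 : FSch.ModSys (FSch.completionAlong (Spec (CommRingCat.of A)) (FSch.idealSpec A J)))
    (h𝔐 : 𝔐.IsCoh) :
    ∃ M : ModuleCat.{u} A, Module.Finite A M ∧
      Nonempty (𝔐 ≅ FSch.complMod (FSch.idealSpec A J) (tilde M)) := by
  let X := Spec (CommRingCat.of A)
  let i := fun n => FSch.completionToX X (FSch.idealSpec A J) n
  have hc : ∀ n, (FSch.completionAlong X (FSch.idealSpec A J)).ι n ≫ i (n + 1) = i n := fun n =>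
    Scheme.IdealSheafData.inclusion_subschemeι (FSch.pow_succ_le X (FSch.idealSpec A J) n)
  have : ∀ n, IsClosedImmersion (i n) := fun n => inferInstance
  have hK : ∀ n, (i n).ker = FSch.idealSpec A (J ^ (n + 1)) := fun n =>
    (Scheme.IdealSheafData.ker_subschemeι _).trans
      (Groth.AdicLinTop.Thickenings.idealSpec_pow J (n + 1)).symm
  exact Groth.AdicLinTop.TildeSys.exists_iso_sysMod i hc J hK (IsNoetherian.noetherian J) 𝔐 h𝔐

end Groth.Agent.S3864
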