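import Groth.Statements.S3867
import Groth.Agent.AdicLinTop.SysExamples

set_option autoImplicit false
universe u
open FCompl

namespace Groth.Agent.S3867

open AlgebraicGeometry in
/-- Formal spectra are presented as the systems Spec(A/I^(n+1)) and Spec(B/K^(n+1)), a morphism of
systems being adic when all its squares are cartesian. Let A be a Noetherian ring, complete and
separated for the I-adic topology of an ideal I, K an ideal of a ring B and φ : B → A a ring
homomorphism with φ(K) ⊆ I. Then the induced morphism Spf(A) → Spf(B) is adic if and only if the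
ideal of A generated by φ(K) is I. -/
theorem result (A B : Type u) [CommRing A] [CommRing B] [IsNoetherianRing A]
    (I : Ideal A) (K : Ideal B) [IsAdicComplete I A] (φ : B →+* A) (h : K ≤ I.comap φ) :
    FSch.IsAdicHom (FSch.spfMap I K φ h) ↔ K.map φ = I := by
  have key : ∀ n, ((CohB1.specQuotTrans K n).ker.comap ((FSch.spfMap I K φ h : FSch.Hom _ _).app (n + 1))) =
      (FSch.idealSpec A ((K.map φ) ^ (n + 1))).comap (CohB1.specQuot I (n + 1)) := fun n => by
    rw [Groth.AdicLinTop.Thickenings.ker_specQuotTrans]
    refine (Scheme.IdealSheafData.comap_comp _ _ _).symm.trans ?_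
    rw [← Ideal.map_pow, ← Groth.AdicLinTop.Thickenings.comap_idealSpec, ← Scheme.IdealSheafData.comap_comp]
    congr 1
    rw [FSch.spfMap_app]
    exact (Spec.map_comp _ _).symm.trans (Eq.trans (by rfl) (Spec.map_comp _ _))
  refine ⟨fun hf => ?_, fun he n => ?_⟩
  · haveI : IsClosedImmersion (CohB1.specQuotTrans K 0) := (Groth.AdicLinTop.Thickenings.isFormal_spf K 0).1
    have h0 : (CohB1.specQuotTrans I 0).ker =
        ((CohB1.specQuotTrans K 0).ker.comap ((FSch.spfMap I K φ h : FSch.Hom _ _).app 1)) :=
      Groth.AdicLinTop.Thickenings.ker_eq_comap_of_isPullback (hf 0)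
    rw [key 0, Groth.AdicLinTop.Thickenings.ker_specQuotTrans, CohB1.specQuot,
      Groth.AdicLinTop.Thickenings.comap_idealSpec, Groth.AdicLinTop.Thickenings.comap_idealSpec] at h0
    have h1 := congrArg (Ideal.comap (Ideal.Quotient.mk (I ^ (0 + 1 + 1))))
      (Groth.AdicLinTop.Thickenings.idealSpec_injective h0)
    rw [Ideal.comap_map_of_surjective' _ Ideal.Quotient.mk_surjective,
      Ideal.comap_map_of_surjective' _ Ideal.Quotient.mk_surjective, Ideal.mk_ker] at h1
    simp only [zero_add, pow_one] at h1
    have hle : K.map φ ≤ I := Ideal.map_le_iff_le_comap.mpr h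
    refine le_antisymm hle (Submodule.le_of_le_smul_of_le_jacobson_bot (IsNoetherian.noetherian I)
      (IsAdicComplete.le_jacobson_bot I) ?_)
    rw [smul_eq_mul, ← pow_two]
    exact le_sup_left.trans h1.le
  · haveI : IsClosedImmersion ((FSch.spf B K).ι n) := (Groth.AdicLinTop.Thickenings.isFormal_spf K n).1
    haveI : IsClosedImmersion ((FSch.spf A I).ι n) := (Groth.AdicLinTop.Thickenings.isFormal_spf I n).1
    refine isPullback_of_isClosedImmersion _ _ _ _ ((FSch.spfMap I K φ h : FSch.Hom _ _).comm n).symm ?_
    refine (key n).trans ?_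
    rw [he]
    exact (Groth.AdicLinTop.Thickenings.ker_specQuotTrans I n).symm

end Groth.Agent.S3867
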