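import Groth.Statements.S3868
import Groth.Agent.AdicLinTop.Thickenings
import Groth.Agent.AdicLinTop.RingLimit
import Groth.Agent.FlatMor2.AffineThickening
import Groth.Agent.Calg1.Completion

set_option autoImplicit false
universe u
open FCompl

namespace Groth.Agent.S3868

open AlgebraicGeometry in
open CategoryTheory in
/-- (Systems of thickenings.) Let (X_n) be a system of schemes whose transition maps are surjective
closed immersions, with the kernel ideal of X_n -> X_(n+1) the (n+1)-st power of that of X_0 ->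
X_(n+1), X_0 affine and locally Noetherian, and the kernel ideal of X_0 -> X_1 of finite type. Then
the system is isomorphic to the formal spectrum Spec(A/J) -> Spec(A/J^2) -> ... of some Noetherian
ring A complete and separated for the J-adic topology, J an ideal of A. -/
theorem result (𝔛 : FSch.Sys.{u}) (hF : 𝔛.IsFormal) (hA : 𝔛.IsAdic)
    [IsAffine (𝔛.X 0)] [IsLocallyNoetherian (𝔛.X 0)] (hft : FSch.IdealFT (𝔛.ι 0).ker) :
    ∃ (A : Type u) (_ : CommRing A) (J : Ideal A),
      IsNoetherianRing A ∧ IsAdicComplete J A ∧ Nonempty (𝔛 ≅ FSch.spf A J) := by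
  have haff : ∀ n, IsAffine (𝔛.X n) := fun n => by
    induction n with
    | zero => infer_instance
    | succ n ih =>
      haveI := ih
      haveI := (hF n).1
      haveI : Surjective (𝔛.ι n) := ⟨(hF n).2⟩
      exact Groth.FlatMor2.isAffine_of_surjective_closedImmersion (𝔛.ι n)
  let u : ∀ n, Γ(𝔛.X (n + 1), ⊤) →+* Γ(𝔛.X n, ⊤) := fun n => (𝔛.ι n).appTop.hom
  let v : ∀ n, Γ(𝔛.X n, ⊤) →+* Γ(𝔛.X 0, ⊤) := fun n => (𝔛.toX n).appTop.hom
  have hu : ∀ n, Function.Surjective (u n) := fun n => by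
    haveI := (hF n).1
    haveI := haff (n + 1)
    exact (𝔛.ι n).app_surjective _ (isAffineOpen_top _)
  have hv0 : v 0 = RingHom.id _ := by
    show (Scheme.Hom.appTop (𝟙 (𝔛.X 0))).hom = _
    rw [Scheme.Hom.id_appTop]; rfl
  have hv : ∀ n, (v n).comp (u n) = v (n + 1) := fun n => by
    show _ = (Scheme.Hom.appTop (𝔛.toX n ≫ 𝔛.ι n)).hom
    rw [Scheme.Hom.comp_appTop, CommRingCat.hom_comp]
  have hker : ∀ n, RingHom.ker (u n) = RingHom.ker (v (n + 1)) ^ (n + 1) := fun n => by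
    haveI := (hF n).1
    haveI := (Groth.AdicLinTop.Thickenings.isClosedImmersion_toX hF (n + 1)).1
    haveI := haff (n + 1)
    have h := congrArg (fun I : (𝔛.X (n + 1)).IdealSheafData => I.ideal ⟨⊤, isAffineOpen_top _⟩) (hA n)
    simp only [Scheme.IdealSheafData.ideal_pow, Pi.pow_apply, Scheme.Hom.ker_apply] at h
    exact h
  have hfg : (RingHom.ker (v 1)).FG := by
    haveI := (hF 0).1
    haveI := haff 1
    have h := hft ⟨⊤, isAffineOpen_top _⟩
    rw [Scheme.Hom.ker_apply] at h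
    show (RingHom.ker (Scheme.Hom.appTop (𝟙 (𝔛.X 0) ≫ 𝔛.ι 0)).hom).FG
    rw [Category.id_comp]
    exact h
  let S : Subring (∀ n, Γ(𝔛.X n, ⊤)) :=
    { carrier := {y | ∀ n, u n (y (n + 1)) = y n}
      zero_mem' := fun n => map_zero _
      one_mem' := fun n => map_one _
      add_mem' := fun {a b} ha hb n => by simp [ha n, hb n]
      mul_mem' := fun {a b} ha hb n => by simp [ha n, hb n]
      neg_mem' := fun {a} ha n => by simp [ha n] }
  let p : ∀ n, S →+* Γ(𝔛.X n, ⊤) := fun n => (Pi.evalRingHom _ n).comp S.subtype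
  obtain ⟨hc, hpn, hJfg⟩ := Groth.AdicLinTop.InvLim.ringLimit (fun n => Γ(𝔛.X n, ⊤)) u hu v hv0 hv hker hfg S p
    (fun n => RingHom.ext fun y => y.2 n) (fun x hx => Subtype.ext (funext hx))
    (fun y hy => ⟨⟨y, hy⟩, fun n => rfl⟩)
  haveI := hc
  haveI : IsNoetherianRing Γ(𝔛.X 0, ⊤) :=
    IsLocallyNoetherian.component_noetherian ⟨⊤, isAffineOpen_top _⟩
  haveI : IsNoetherianRing (S ⧸ RingHom.ker (p 0)) :=
    isNoetherianRing_of_ringEquiv _ (RingHom.quotientKerEquivOfSurjective (hpn 0).1).symm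
  have hN : IsNoetherianRing S := Groth.Calg1.isNoetherianRing_of_isAdicComplete (RingHom.ker (p 0)) hJfg
  let e : ∀ n, (S ⧸ RingHom.ker (p 0) ^ (n + 1)) ≃+* Γ(𝔛.X n, ⊤) := fun n =>
    (Ideal.quotEquivOfEq (hpn n).2.symm).trans (RingHom.quotientKerEquivOfSurjective (hpn n).1)
  have he : ∀ n (a : S), e n (Ideal.Quotient.mk _ a) = p n a := fun n a => rfl
  let iso : ∀ n, 𝔛.X n ≅ (FSch.spf S (RingHom.ker (p 0))).X n := fun n =>
    haveI := haff n
    (𝔛.X n).isoSpec ≪≫ Scheme.Spec.mapIso (e n).toCommRingCatIso.op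
  have hcomm : ∀ n, (iso n).hom ≫ (FSch.spf S (RingHom.ker (p 0))).ι n = 𝔛.ι n ≫ (iso (n + 1)).hom := fun n => by
    haveI := haff n
    haveI := haff (n + 1)
    show ((𝔛.X n).isoSpec.hom ≫ Spec.map (e n).toCommRingCatIso.hom) ≫ CohB1.specQuotTrans (RingHom.ker (p 0)) n =
      𝔛.ι n ≫ ((𝔛.X (n + 1)).isoSpec.hom ≫ Spec.map (e (n + 1)).toCommRingCatIso.hom)
    rw [← Category.assoc (𝔛.ι n), ← Scheme.isoSpec_hom_naturality, Category.assoc, Category.assoc]
    congr 1
    show Spec.map (e n).toCommRingCatIso.hom ≫ Spec.map _ = Spec.map _ ≫ Spec.map _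
    rw [← Spec.map_comp, ← Spec.map_comp]
    congr 1
    refine CommRingCat.hom_ext (Ideal.Quotient.ringHom_ext (RingHom.ext fun a => ?_))
    show e n (Ideal.Quotient.factor (S := RingHom.ker (p 0) ^ (n + 2)) (T := RingHom.ker (p 0) ^ (n + 1))
        (Ideal.pow_le_pow_right (Nat.le_succ (n + 1))) (Ideal.Quotient.mk _ a)) =
      u n (e (n + 1) (Ideal.Quotient.mk (RingHom.ker (p 0) ^ (n + 1 + 1)) a))
    rw [Ideal.Quotient.factor_mk]
    exact (he n a).trans ((a.2 n).symm.trans (congrArg (u n) (he (n + 1) a).symm))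
  refine ⟨S, inferInstance, RingHom.ker (p 0), hN, hc, ⟨{
    hom := ⟨fun n => (iso n).hom, hcomm⟩
    inv := ⟨fun n => (iso n).inv, fun n => by
      rw [Iso.inv_comp_eq, ← Category.assoc, Iso.eq_comp_inv]
      exact (hcomm n).symm⟩
    hom_inv_id := FSch.Hom.ext (funext fun n => (iso n).hom_inv_id)
    inv_hom_id := FSch.Hom.ext (funext fun n => (iso n).inv_hom_id) }⟩⟩

end Groth.Agent.S3868
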