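import Groth.Statements.S3871
import Groth.Agent.AdicLinTop.StalkFlat

set_option autoImplicit false
universe u
open FCompl

namespace Groth.Agent.S3871

/-- Let A be a ring, J an ideal of A and 𝔭 a prime ideal of A, S = A ∖ 𝔭. Write A{S⁻¹} for the
completion of A_𝔭 for the J-adic topology, A_{f} for the completion of A_f for the J-adic topology,
and A_{S} for the subring of A{S⁻¹} which is the union of the images of the A_{f}, f ∉ 𝔭. If A is
Noetherian and J ⊆ 𝔭, then A{S⁻¹} is a faithfully flat module over A_{S}. -/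
theorem result (A : Type u) [CommRing A] [IsNoetherianRing A]
    (J : Ideal A) (𝔭 : Ideal A) [𝔭.IsPrime] (hJ : J ≤ 𝔭) :
    Module.FaithfullyFlat (FSch.stalkSubring A J 𝔭) (FSch.cAtPrime A J 𝔭) := by
  exact Groth.AdicLinTop.StalkFlat.faithfullyFlat_stalk A J 𝔭 hJ

end Groth.Agent.S3871
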