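import Groth.Statements.S3872
import Groth.Agent.AdicLinTop.CompletionMap

set_option autoImplicit false
universe u
open FCompl

namespace Groth.Agent.S3872

/-- For a ring A, an ideal J and a prime ideal 𝔭 with J ⊆ 𝔭, let A{S⁻¹}, S = A ∖ 𝔭, be the completion of
A_𝔭 for the topology defined by the extension of J, and A_{S} the subring of A{S⁻¹} generated by the
images of the completed localizations A_{f}, f ∉ 𝔭 (the stalk ring of Spf(A) at 𝔭). Given that A_{S}
and A{S⁻¹} are local rings and that the inclusion A_{S} → A{S⁻¹} and the canonical map A_𝔭 → A{S⁻¹}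
are local homomorphisms (all four are carried here as instance hypotheses; the two about A_{S} are
stated separately), both maps induce bijections on residue fields; so the residue field of A_{S} is
the residue field κ(𝔭) of A_𝔭. -/
theorem result (A : Type u) [CommRing A] (J : Ideal A) (𝔭 : Ideal A)
    [𝔭.IsPrime] (hJ : J ≤ 𝔭) [IsLocalRing (FSch.stalkSubring A J 𝔭)] [IsLocalRing (FSch.cAtPrime A J 𝔭)]
    [IsLocalHom (FSch.stalkSubring A J 𝔭).subtype]
    [IsLocalHom (algebraMap (Localization.AtPrime 𝔭) (FSch.cAtPrime A J 𝔭))] :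
    Function.Bijective (IsLocalRing.ResidueField.map (FSch.stalkSubring A J 𝔭).subtype) ∧
      Function.Bijective
        (IsLocalRing.ResidueField.map (algebraMap (Localization.AtPrime 𝔭) (FSch.cAtPrime A J 𝔭))) := by
  set C := FSch.cAtPrime A J 𝔭
  set JP := J.map (algebraMap A (Localization.AtPrime 𝔭))
  have hne : JP ≠ ⊤ := Groth.AdicLinTop.CompletionMap.map_ne_top A J 𝔭 hJ
  haveI : Nontrivial (Localization.AtPrime 𝔭 ⧸ JP) := Ideal.Quotient.nontrivial_iff.mpr hne
  have hres : ∀ x : C, ∃ r : Localization.AtPrime 𝔭,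
      IsLocalRing.residue C x = IsLocalRing.residue C (algebraMap (Localization.AtPrime 𝔭) C r) := fun x => by
    obtain ⟨r, hr⟩ := Groth.AdicLinTop.CompletionMap.exists_algebraMap_sub JP x
    refine ⟨r, Ideal.Quotient.eq.mpr ?_⟩
    rw [IsLocalRing.mem_maximalIdeal, mem_nonunits_iff, Groth.AdicLinTop.CompletionMap.isUnit_iff,
      map_sub, hr, sub_self]
    exact not_isUnit_zero
  refine ⟨⟨RingHom.injective _, fun q => ?_⟩, ⟨RingHom.injective _, fun q => ?_⟩⟩
  · obtain ⟨x, rfl⟩ := IsLocalRing.residue_surjective q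
    obtain ⟨r, hr⟩ := hres x
    obtain ⟨a, s, rfl⟩ := IsLocalization.exists_mk'_eq 𝔭.primeCompl r
    let R := FSch.stalkSubring A J 𝔭
    let i : A → R := fun a => ⟨_, Groth.AdicLinTop.CompletionMap.algebraMap_mem_stalkSubring A J 𝔭 a⟩
    have hsC : IsUnit (i (s : A) : C) := (IsLocalization.map_units (Localization.AtPrime 𝔭) s).map _
    obtain ⟨u, hu⟩ := Groth.AdicLinTop.CompletionMap.isUnit_of_isUnit A J 𝔭 hJ (i (s : A)) hsC
    refine ⟨IsLocalRing.residue R (i a * ↑u⁻¹), ?_⟩
    rw [IsLocalRing.ResidueField.map_residue, hr]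
    congr 1
    show (FSch.stalkSubring A J 𝔭).subtype (i a * ↑u⁻¹) = _
    apply (hsC).mul_left_inj.mp
    have h1 : ((↑u⁻¹ : R) : C) * (i (s : A) : C) = 1 := by
      rw [← hu]
      exact congrArg Subtype.val u.inv_mul
    show (i a : C) * ((↑u⁻¹ : R) : C) * (i (s : A) : C) = _
    rw [mul_assoc, h1, mul_one]
    show algebraMap (Localization.AtPrime 𝔭) C (algebraMap A _ a) =
      algebraMap (Localization.AtPrime 𝔭) C (IsLocalization.mk' _ a s) *
        algebraMap (Localization.AtPrime 𝔭) C (algebraMap A _ (s : A))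
    rw [← map_mul, IsLocalization.mk'_spec]
  · obtain ⟨x, rfl⟩ := IsLocalRing.residue_surjective q
    obtain ⟨r, hr⟩ := hres x
    exact ⟨IsLocalRing.residue _ r, by rw [IsLocalRing.ResidueField.map_residue, hr]⟩

end Groth.Agent.S3872
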