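import Groth.Statements.S3874
import Groth.Agent.AdicLinTop.CompletionMap

set_option autoImplicit false
universe u
open FCompl

namespace Groth.Agent.S3874

/-- Let A be a Noetherian ring, J an ideal, f ∈ A and n ≥ 0, and let A_{f} be the completion of the
localization A_f for the topology defined by the extension of J. There is a ring isomorphism from
the localization of A/J^(n+1) away from the class of f onto A_{f} modulo the (n+1)-st power of the
extension of J to A_{f}, compatible with the canonical maps from A (and hence unique). In terms of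
formal spectra: the open D(f) of Spf(A) is Spf(A_{f}), and at level n its ring is the ring
(A/J^(n+1))_f of the open D(f) of Spec(A/J^(n+1)). -/
theorem result (A : Type u) [CommRing A] [IsNoetherianRing A] (J : Ideal A)
    (f : A) (n : ℕ) :
    ∃ e : Localization.Away (Ideal.Quotient.mk (J ^ (n + 1)) f) ≃+*
        FSch.cAway A J f ⧸ (J.map (algebraMap A (FSch.cAway A J f))) ^ (n + 1),
      ∀ a : A, e (algebraMap (A ⧸ J ^ (n + 1)) _ (Ideal.Quotient.mk (J ^ (n + 1)) a)) =
        Ideal.Quotient.mk _ (algebraMap A (FSch.cAway A J f) a) := by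
  set L := Localization.Away f
  set J' := J.map (algebraMap A L) with hJ'
  haveI : IsNoetherianRing L := IsLocalization.isNoetherianRing (Submonoid.powers f) _ inferInstance
  have hfg : J'.FG := IsNoetherian.noetherian J'
  set T := FSch.cAway A J f
  set N := n + 1
  set I₀ := (J.map (algebraMap A T)) ^ N with hI₀
  have hker : RingHom.ker (AdicCompletion.evalₐ J' N).toRingHom = I₀ := by
    rw [Groth.AdicLinTop.CompletionQuot.ker_evalₐ J' hfg N, hI₀, IsScalarTower.algebraMap_eq A L T,
      ← Ideal.map_map]
  let e₁ : T ⧸ I₀ ≃+* L ⧸ J' ^ N := (Ideal.quotEquivOfEq hker.symm).trans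
    (RingHom.quotientKerEquivOfSurjective (f := (AdicCompletion.evalₐ J' N).toRingHom)
      (AdicCompletion.surjective_evalₐ J' N))
  let q : A →+* A ⧸ J ^ N := Ideal.Quotient.mk _
  let π : L →+* Localization.Away (q f) := IsLocalization.Away.lift f
    (g := (algebraMap (A ⧸ J ^ N) _).comp q) (IsLocalization.Away.algebraMap_isUnit (q f))
  have hπ : ∀ a, π (algebraMap A L a) = algebraMap _ _ (q a) := fun a => IsLocalization.Away.lift_eq f _ a
  let σ₀ : A ⧸ J ^ N →+* L ⧸ J' ^ N := Ideal.quotientMap _ (algebraMap A L) (by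
    rw [← Ideal.map_le_iff_le_comap, hJ', Ideal.map_pow])
  let σ : Localization.Away (q f) →+* L ⧸ J' ^ N := IsLocalization.Away.lift (q f) (g := σ₀)
    ((IsLocalization.Away.algebraMap_isUnit (S := L) f).map (Ideal.Quotient.mk _))
  have hσ : ∀ a, σ (algebraMap _ _ (q a)) = Ideal.Quotient.mk _ (algebraMap A L a) := fun a =>
    IsLocalization.Away.lift_eq (q f) _ (q a)
  let τ : L ⧸ J' ^ N →+* Localization.Away (q f) := Ideal.Quotient.lift _ π (fun x hx => by
    rw [hJ', ← Ideal.map_pow] at hx
    exact (show (J ^ N).map (algebraMap A L) ≤ RingHom.ker π from Ideal.map_le_iff_le_comap.mpr fun a ha => by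
      show π (algebraMap A L a) = 0
      rw [hπ, Ideal.Quotient.eq_zero_iff_mem.mpr ha, map_zero]) hx)
  have h1 : σ.comp τ = RingHom.id _ := Ideal.Quotient.ringHom_ext
    (IsLocalization.ringHom_ext (Submonoid.powers f) (RingHom.ext fun a => by
      show σ (π (algebraMap A L a)) = _
      rw [hπ, hσ]; rfl))
  have h2 : τ.comp σ = RingHom.id _ := IsLocalization.ringHom_ext (Submonoid.powers (q f))
    (Ideal.Quotient.ringHom_ext (RingHom.ext fun a => by
      show τ (σ (algebraMap _ _ (q a))) = _
      rw [hσ]; exact hπ a))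
  refine ⟨(RingEquiv.ofRingHom σ τ h1 h2).trans e₁.symm, fun a => ?_⟩
  rw [RingEquiv.trans_apply, RingEquiv.symm_apply_eq]
  show σ (algebraMap _ _ (q a)) = _
  rw [hσ]
  show _ = AdicCompletion.evalₐ J' N (algebraMap A T a)
  rw [IsScalarTower.algebraMap_apply A L T, Groth.AdicLinTop.CompletionQuot.evalₐ_algebraMap]

end Groth.Agent.S3874
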