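import Groth.Statements.S3878
import Groth.Agent.SitesTopoi.Coherent.Topos
import Groth.Agent.SiteCohomology.RpushColimit
import Groth.Agent.SiteCohomology.HK

set_option autoImplicit false
open CategoryTheory CategoryTheory.Limits Opposite
universe u
open ToposFin

namespace Groth.Agent.S3878

/-- Let (C, J) and (D, K) be small sites and u : D ⥤ C a continuous functor, giving a morphism of topoi
whose direct image on sheaves is F ↦ F ∘ u, with right derived functors R^q on abelian sheaves.
Assume that the topos of sheaves on (C, J) is algebraic and that for every object V of D the sheaf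
on C attached to u(V), which is the inverse image of the sheaf attached to V, is coherent. Then for
every q the higher direct image functor R^q on abelian sheaves preserves colimits indexed by any
small filtered category. The published hypotheses (a coherent morphism from an algebraic topos to a
locally coherent topos) give this situation with D the site of coherent algebraic objects of the
target. -/
theorem result {C D : Type u} [SmallCategory C]
    [SmallCategory D] (J : GrothendieckTopology C) (K : GrothendieckTopology D) (hE : ToposFin.IsAlgebraic J)
    (u : D ⥤ C) [u.IsContinuous K J] (hu : ∀ V : D, ToposFin.IsCoherent (ToposFin.eps J (u.obj V)))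
    (Λ : Type u) [SmallCategory Λ] [IsFiltered Λ] (q : ℕ) :
    PreservesColimitsOfShape Λ (CohSite.Rpush J K u q) := by
  refine ⟨fun {F} => Groth.SiteCohomology.preservesColimit_Rpush K J u F q fun V =>
    ⟨PUnit.{u + 1}, fun _ => V, fun _ => 𝟙 V, ?_, fun _ => ?_⟩⟩
  · have h : Sieve.ofArrows (fun _ : PUnit.{u + 1} => V) (fun _ => 𝟙 V) = ⊤ :=
      Sieve.id_mem_iff_eq_top.1 (Sieve.ofArrows_mk _ _ PUnit.unit)
    rw [h]
    exact K.top_mem V
  · have hP := Groth.SitesTopoi.Coherent.preserves_HK (Λ := Λ) hE (hu V) q
    have := Groth.SiteCohomology.isIso_freeSh_map_toSheafify J (yoneda.obj (u.obj V))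
    have h0 : PreservesColimit F _ := hP.preservesColimit
    exact @preservesColimit_of_natIso _ _ _ _ _ _ F _ _
      ((Abelian.extFunctor.{u} q).mapIso (@asIso _ _ _ _ _ this).op ≪≫
        NatIso.ofComponents (fun _ => Iso.refl _)) h0

end Groth.Agent.S3878
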