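import Groth.Statements.S3884
import Groth.Agent.EtaleBase.Limit.Counit

set_option autoImplicit false
open CategoryTheory CategoryTheory.Limits AlgebraicGeometry Opposite
universe u
open EtLim

namespace Groth.Agent.S3884

/-- Let ι be a nonempty directed preordered set, (X_i) an inverse system of quasi-compact
quasi-separated schemes indexed by ι with affine transition morphisms, X a limit with projections
u_i : X -> X_i, and F an abelian sheaf on the small etale site of X. Then the canonical maps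
H^n(X_i, u_{i*} F) -> H^n(X, F) (pull back along u_i, then apply the counit u_i^{-1} u_{i*} F -> F)
identify H^n(X, F) with the directed colimit of the H^n(X_i, u_{i*} F), in the concrete sense: every
class on X comes from some stage, and a class at stage j mapping to zero on X already maps to zero
at some stage k ≥ j under the transition map. (Exactness of pullback of abelian sheaves, which
always holds, is carried as an instance hypothesis.) -/
theorem result {ι : Type u} [Preorder ι] [Nonempty ι] [IsDirected ι (· ≤ ·)] (Xs : ιᵒᵖ ⥤ Scheme.{u})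
    (haff : ∀ ⦃a b : ιᵒᵖ⦄ (h : a ⟶ b), IsAffineHom (Xs.map h))
    (hqc : ∀ a, CompactSpace ↥(Xs.obj a)) (hqs : ∀ a, QuasiSeparatedSpace ↥(Xs.obj a))
    (c : Cone Xs) (hc : IsLimit c) (F : EtCoh.Ab c.pt) (n : ℕ)
    [∀ a, PreservesFiniteLimits (EtCoh.pull (c.π.app a))]
    [∀ ⦃a b : ιᵒᵖ⦄ (h : a ⟶ b), PreservesFiniteLimits (EtCoh.pull (Xs.map h))] :
    (∀ ξ : EtCoh.H c.pt F n,
      ∃ (j : ι) (ξj : EtCoh.H (Xs.obj (op j)) ((EtCoh.push (c.π.app (op j))).obj F) n),
        EtLim.HofPush (c.π.app (op j)) F n ξj = ξ) ∧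
    (∀ (j : ι) (ξj : EtCoh.H (Xs.obj (op j)) ((EtCoh.push (c.π.app (op j))).obj F) n),
      EtLim.HofPush (c.π.app (op j)) F n ξj = 0 →
        ∃ (k : ι) (hk : j ≤ k),
          EtLim.HpushTrans (Xs.map (homOfLE hk).op) (c.π.app (op k)) (c.π.app (op j))
            (c.w (homOfLE hk).op) F n ξj = 0) := by
  open Groth.EtaleBase.EtLimit CategoryTheory.Abelian in
  haveI : IsDirectedOrder ι := ⟨fun a b => directed_of (· ≤ ·) a b⟩
  haveI : ∀ (p q : ιᵒᵖ) (h : p ⟶ q), IsAffineHom (Xs.map h) := fun _ _ h => haff h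
  haveI := hqc
  haveI := hqs
  haveI := isIso_sysAdj_counit hc F
  have hcol := colimit_cohomology hc n ((pushSys Xs c).obj F)
  refine ⟨fun ξ => ?_, fun j ξj hξ => ?_⟩
  · obtain ⟨j, x, hx⟩ := hcol.1
      (ξ.comp (Ext.mk₀ (inv ((sysAdj Xs c).counit.app F))) (add_zero n))
    refine ⟨j, x.comp (Ext.mk₀ ((resPushIso Xs c j).hom.app F)) (add_zero n), ?_⟩
    refine (hofPush_T c F j n x).trans ?_
    rw [hx, Ext.comp_assoc_of_third_deg_zero, Ext.mk₀_comp_mk₀, IsIso.inv_hom_id]
    exact Ext.comp_mk₀_id _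
  · let x := ξj.comp (Ext.mk₀ ((resPushIso Xs c j).inv.app F)) (add_zero n)
    have hx : ξj = x.comp (Ext.mk₀ ((resPushIso Xs c j).hom.app F)) (add_zero n) := by
      rw [Ext.comp_assoc_of_third_deg_zero, Ext.mk₀_comp_mk₀, Iso.inv_hom_id_app]
      exact (Ext.comp_mk₀_id _).symm
    rw [hx] at hξ ⊢
    have h0 : T c j _ n x = 0 := by
      have h1 := congrArg (fun z => Ext.comp z (Ext.mk₀ (inv ((sysAdj Xs c).counit.app F))) (add_zero n))
        ((hofPush_T c F j n x).symm.trans hξ)
      rw [Ext.comp_assoc_of_third_deg_zero, Ext.mk₀_comp_mk₀, IsIso.hom_inv_id] at h1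
      exact (Ext.comp_mk₀_id _).symm.trans (h1.trans (Ext.zero_comp _ _ _ _ _))
    obtain ⟨k, hk, hR⟩ := hcol.2 j x h0
    refine ⟨k, hk, (hpushTrans_R c F hk n x).trans ?_⟩
    rw [hR]
    exact Ext.zero_comp _ _ _ _ _

end Groth.Agent.S3884
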