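import Groth.Statements.S3888
import Groth.Agent.DescentBase.OpenImmSh

set_option autoImplicit false
open CategoryTheory CategoryTheory.Limits AlgebraicGeometry Opposite
universe u
open EtDesc

namespace Groth.Agent.S3888

/-- Let f : X -> Y be an immersion of schemes. Then for every sheaf of sets F on the small etale site of
X the counit f^* f_* F -> F of the adjunction between inverse and direct image is an isomorphism. -/
theorem result {X Y : Scheme.{u}} (f : X ⟶ Y) [IsImmersion f] (F : EtDesc.Sh X) :
    IsIso ((EtDesc.adjSh f).counit.app F) := by
  exact Groth.DescentBase.OpenImmSh.isIso_counit_of_isImmersion f F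

end Groth.Agent.S3888
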