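import Groth.Statements.S3889
import Groth.Agent.EtaleBase.Limit.Systems

set_option autoImplicit false
open CategoryTheory CategoryTheory.Limits AlgebraicGeometry Opposite
universe u
open EtLim

namespace Groth.Agent.S3889

/-- Let ι be a nonempty directed preordered set, (X_i) an inverse system of quasi-compact
quasi-separated schemes indexed by ι with affine transition morphisms u_ij : X_j -> X_i, and X a
limit with projections u_i. Let (F_i) be abelian sheaves on the small etale sites of the X_i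
together with maps φ_ij : u_ij^{-1} F_i -> F_j for i ≤ j satisfying the cocycle condition φ_ik =
φ_jk ∘ u_jk^{-1}(φ_ij) (a sheaf on the fibred etale site of the system), and let F_∞ be the colimit
on X of the sheaves u_i^{-1} F_i along the maps induced by the φ_ij; here F_∞ is presented as the
colimit of any diagram G identified with (u_i^{-1} F_i) compatibly with the φ_ij. Then the canonical
maps H^n(X_i, F_i) -> H^n(X, F_∞) identify H^n(X, F_∞) with the directed colimit of the H^n(X_i,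
F_i) (transition maps: pull back along u_ij, then apply φ_ij), in the concrete sense: every class on
X comes from some stage, and a class at stage j mapping to zero on X already maps to zero at some
stage k ≥ j. (Exactness of pullback of abelian sheaves, which always holds, is carried as an
instance hypothesis.) -/
theorem result {ι : Type u} [Preorder ι] [Nonempty ι] [IsDirected ι (· ≤ ·)]
    (Xs : ιᵒᵖ ⥤ Scheme.{u}) (haff : ∀ ⦃a b : ιᵒᵖ⦄ (h : a ⟶ b), IsAffineHom (Xs.map h))
    (hqc : ∀ a, CompactSpace ↥(Xs.obj a)) (hqs : ∀ a, QuasiSeparatedSpace ↥(Xs.obj a))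
    (c : Cone Xs) (hc : IsLimit c)
    [∀ a, PreservesFiniteLimits (EtCoh.pull (c.π.app a))]
    [∀ ⦃a b : ιᵒᵖ⦄ (h : a ⟶ b), PreservesFiniteLimits (EtCoh.pull (Xs.map h))]
    (F : ∀ i : ι, EtCoh.Ab (Xs.obj (op i)))
    (φ : ∀ ⦃i j : ι⦄ (h : i ≤ j), (EtCoh.pull (Xs.map (homOfLE h).op)).obj (F i) ⟶ F j)
    (hφ : ∀ ⦃i j k : ι⦄ (hij : i ≤ j) (hjk : j ≤ k),
      φ (hij.trans hjk) = (EtLim.pullTrans Xs hij hjk).hom.app (F i) ≫
        (EtCoh.pull (Xs.map (homOfLE hjk).op)).map (φ hij) ≫ φ hjk)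
    (G : ι ⥤ EtCoh.Ab c.pt) (ψ : ∀ i : ι, (EtCoh.pull (c.π.app (op i))).obj (F i) ≅ G.obj i)
    (hψ : ∀ ⦃i j : ι⦄ (hij : i ≤ j), (ψ i).hom ≫ G.map (homOfLE hij) =
      (EtLim.pullTransCone Xs c hij).hom.app (F i) ≫ (EtCoh.pull (c.π.app (op j))).map (φ hij) ≫ (ψ j).hom)
    (n : ℕ) :
    (∀ ξ : EtCoh.H c.pt (colimit G) n, ∃ (j : ι) (ξj : EtCoh.H (Xs.obj (op j)) (F j) n),
        EtLim.HpullThen (c.π.app (op j)) (F j) ((ψ j).hom ≫ colimit.ι G j) n ξj = ξ) ∧
    (∀ (j : ι) (ξj : EtCoh.H (Xs.obj (op j)) (F j) n),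
      EtLim.HpullThen (c.π.app (op j)) (F j) ((ψ j).hom ≫ colimit.ι G j) n ξj = 0 →
        ∃ (k : ι) (hk : j ≤ k), EtLim.HpullThen (Xs.map (homOfLE hk).op) (F j) (φ hk) n ξj = 0) := by
  open Groth.EtaleBase.EtLimit in
  haveI : IsDirectedOrder ι := ⟨fun a b => directed_of (· ≤ ·) a b⟩
  haveI : ∀ (p q : ιᵒᵖ) (h : p ⟶ q), IsAffineHom (Xs.map h) := fun _ _ h => haff h
  haveI := hqc
  haveI := hqs
  exact system_colimit F φ hφ c G ψ hψ hc n

end Groth.Agent.S3889
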