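import Groth.Statements.S3894
import Mathlib.CategoryTheory.Limits.Preserves.Shapes.Terminal

set_option autoImplicit false
universe u
open CategoryTheory CategoryTheory.Limits Opposite
open Tors

namespace Groth.Agent.S3894

/-- A torsor P under an abelian sheaf G is trivial, i.e. equivariantly isomorphic to G acting on itself
by translations, if and only if P has a global section (a morphism from the final sheaf of sets). -/
theorem result {C : Type u} [SmallCategory C] {J : GrothendieckTopology C}
    {G : Sheaf J AddCommGrpCat.{u}} (T : Tors.Torsor G) : T.IsTrivial ↔ T.HasSection := by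
  constructor
  · rintro ⟨e, _⟩
    let z : (⊤_ (Sheaf J (Type u))) ⟶ (sheafCompose J (forget AddCommGrpCat.{u})).obj G :=
      ⟨{ app := fun U => ↾ fun _ => (0 : G.obj.obj U)
         naturality := fun U V f => by
           ext x
           exact (map_zero (G.obj.map f).hom).symm }⟩
    exact ⟨z ≫ e.hom⟩
  · rintro ⟨s⟩
    have ht : ∀ U : Cᵒᵖ, IsTerminal ((⊤_ (Sheaf J (Type u))).obj.obj U) := fun U =>
      IsTerminal.isTerminalObj (sheafToPresheaf J (Type u) ⋙ (evaluation Cᵒᵖ (Type u)).obj U) _
        terminalIsTerminal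
    let q : ∀ U : Cᵒᵖ, (⊤_ (Sheaf J (Type u))).obj.obj U := fun U =>
      (ht U).from PUnit.{u + 1} PUnit.unit
    have hq : ∀ (U : Cᵒᵖ) (a : (⊤_ (Sheaf J (Type u))).obj.obj U), a = q U := fun U a =>
      congrArg (fun f : PUnit.{u + 1} ⟶ _ => f PUnit.unit)
        ((ht U).hom_ext (↾ fun _ : PUnit.{u + 1} => a) ((ht U).from PUnit.{u + 1}))
    let p : ∀ U : Cᵒᵖ, T.P.obj.obj U := fun U => s.hom.app U (q U)
    have hp : ∀ {U V : Cᵒᵖ} (f : U ⟶ V), T.P.obj.map f (p U) = p V := fun {U V} f => by
      have h := congrArg (fun g : (⊤_ (Sheaf J (Type u))).obj.obj U ⟶ T.P.obj.obj V => g (q U)) (s.hom.naturality f)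
      simp only [types_comp_apply] at h
      rw [hq V ((⊤_ (Sheaf J (Type u))).obj.map f (q U))] at h
      exact h.symm
    have hb : ∀ U : Cᵒᵖ, Function.Bijective fun g : G.obj.obj U => T.vadd g (p U) := fun U =>
      ⟨fun g h e => (T.free_transitive (p U) (T.vadd h (p U))).unique e rfl,
        fun y => (T.free_transitive (p U) y).exists⟩
    let e : ((sheafCompose J (forget AddCommGrpCat.{u})).obj G).obj ≅ T.P.obj :=
      NatIso.ofComponents (fun U => (Equiv.ofBijective _ (hb U)).toIso) fun {U V} f => by
        ext (g : G.obj.obj U)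
        change T.vadd (G.obj.map f g) (p V) = T.P.obj.map f (T.vadd g (p U))
        rw [T.map_vadd, hp f]
    refine ⟨(fullyFaithfulSheafToPresheaf J (Type u)).preimageIso e, fun U g h => ?_⟩
    change T.vadd (g + h) (p U) = T.vadd g (T.vadd h (p U))
    exact T.add_vadd g h _

end Groth.Agent.S3894
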