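import Groth.Statements.S3896
import Groth.Agent.DescentBase.OpensSh

set_option autoImplicit false
open CategoryTheory CategoryTheory.Limits AlgebraicGeometry Opposite
universe u
open EtDesc

namespace Groth.Agent.S3896

/-- Let X be a scheme. Sending a Zariski open U of X to the etale sheaf of sets attached to the open
immersion U -> X gives an isomorphism of ordered sets from the opens of X onto the subobjects of the
final object of the etale topos of X: (a) each such sheaf is a subobject of the final sheaf; (b) U ≤
V if and only if there is a morphism between the attached sheaves; (c) every subobject of the final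
sheaf is isomorphic to the sheaf attached to some open. -/
theorem result (X : Scheme.{u}) :
    (∀ U : X.Opens, Mono (terminal.from (EtDesc.repSh (EtDesc.ofOpen U)))) ∧
    (∀ U V : X.Opens, U ≤ V ↔ Nonempty (EtDesc.repSh (EtDesc.ofOpen U) ⟶ EtDesc.repSh (EtDesc.ofOpen V))) ∧
    (∀ F : EtDesc.Sh X, Mono (terminal.from F) → ∃ U : X.Opens, Nonempty (F ≅ EtDesc.repSh (EtDesc.ofOpen U))) := by
  exact ⟨Groth.DescentBase.OpensSh.mono_from_rep, Groth.DescentBase.OpensSh.le_iff,
    fun F h => @Groth.DescentBase.OpensSh.exists_open _ F h⟩

end Groth.Agent.S3896
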