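import Groth.Statements.S3898
import Groth.Agent.SitesTopoi.Coherent.Topos

set_option autoImplicit false
open CategoryTheory CategoryTheory.Limits Opposite
universe u
open ToposFin

namespace Groth.Agent.S3898

/-- For a single coherent open (topos of sheaves on a small site): let E be a coherent topos (algebraic
with coherent final object) and U a coherent subobject of the final object, with closed complement
Z. Then for every q the functor F ↦ H^q_Z(E, F) (Ext groups out of Z/Z_U) preserves colimits indexed
by any small filtered category. The source states this for the family of supports attached to a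
decreasing filtered family of such U, which is the filtered colimit of these cases. -/
theorem result {C : Type u} [SmallCategory C]
    {J : GrothendieckTopology C} (hE : ToposFin.IsAlgebraic J) (hT : ToposFin.IsCoherent (⊤_ (ToposFin.Sh J)))
    (U : ToposFin.Sh J) [Mono (terminal.from U)] (hU : ToposFin.IsCoherent U)
    (Λ : Type u) [SmallCategory Λ] [IsFiltered Λ] (q : ℕ) :
    PreservesColimitsOfShape Λ (ToposFin.HZFunctor U q) := by
  let S : ShortComplex (Sheaf J AddCommGrpCat.{u}) :=
    ShortComplex.mk _ (cokernel.π ((ToposFin.freeAb J).map (terminal.from U))) (cokernel.condition _)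
  have : Mono (terminal.from U).hom :=
    inferInstanceAs (Mono ((sheafToPresheaf J (Type u)).map (terminal.from U)))
  have hm : Mono S.f := Groth.SiteCohomology.mono_freeSh_map J (terminal.from U).hom
  have hS : S.ShortExact := ShortComplex.ShortExact.mk'
    (ShortComplex.exact_of_g_is_cokernel _ (cokernelIsCokernel _)) hm
    (inferInstanceAs (Epi (cokernel.π _)))
  exact Groth.SitesTopoi.ExtColim.preservesColimitsOfShape fun D =>
    Groth.SitesTopoi.ExtColim.extOK_of_shortExact hS
      (fun q => Groth.SitesTopoi.Coherent.extOK_coherent hE hU D q)
      (fun q => Groth.SitesTopoi.Coherent.extOK_coherent hE hT D q) q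

end Groth.Agent.S3898
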