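import Groth.Statements.S3962
import Groth.Agent.AlgGrp1.BorelRelative

set_option autoImplicit false
open CategoryTheory MonoidalCategory CartesianMonoidalCategory MonObj GrpObj AlgebraicGeometry
universe u
open RedSub

namespace Groth.Agent.S3962

/-- Let G be a reductive S-group and B ⟶ G a Borel subgroup in the following sense: a sub-group-scheme
of type (R) whose geometric fibres are Borel subgroups (closedness is not assumed). Then B is closed
in G and B is its own normaliser: a point of G normalises B (after every base change) if and only if
it lies in B. -/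
theorem result {S : Scheme.{u}} {G B : Over S} [GrpObj G] [GrpObj B]
    (hG : Red.IsReductive G) (i : B ⟶ G) (hB : RedSub.IsBorelSub i) :
    IsClosedImmersion i.left ∧ Red.IsNormalizerOf i i := by
  obtain ⟨⟨⟨hm, hi⟩, hs, hq, hconnB, -⟩, hgeo⟩ := hB
  haveI := hm; haveI := hi; haveI := hs; haveI := hq
  haveI : Mono i := Over.mono_of_mono_left i
  haveI := hG.1; haveI := hG.2.1
  haveI : QuasiSeparated B.hom := by rw [← Over.w i]; infer_instance
  refine (Groth.AlgGrp1.isNormalizerOf_self_of_fibres i hconnB fun s => ?_).symm
  obtain ⟨ha, hsm, hc, -⟩ := hG.2.2 s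
  exact Groth.AlgGrp1.isNormalizerOf_borelOver (hgeo s)

end Groth.Agent.S3962
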