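import Groth.Statements.S4007
import Groth.Agent.Misc12.HensIso.OrdCone

set_option autoImplicit false
universe u
open VanCyc

namespace Groth.Agent.S4007

/-- Case of an algebraically closed ground field k: let O be a local k-algebra essentially of finite
type whose residue field is k (the local ring of a scheme of finite type over k at a closed point)
having an ordinary quadratic singularity of dimension n (that is, the completion of O is
k-isomorphic to k[[x_0, …, x_n]]/(f) with f congruent modulo terms of order at least 3 to an
ordinary quadratic form). Then there is an ordinary quadratic form Q in n + 1 variables over k such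
that the henselisation of O is k-isomorphic to the henselisation of k[x_0, …, x_n]/(Q) at the
origin. (The binder asserting that the origin ideal is prime is always satisfiable.) -/
theorem result (k : Type u) [Field k] [IsAlgClosed k]
    (O : Type u) [CommRing O] [IsLocalRing O] [Algebra k O] [Algebra.EssFiniteType k O]
    (hk : ∀ y : O, ∃ c : k, y - algebraMap k O c ∈ IsLocalRing.maximalIdeal O)
    (n : ℕ) (hq : VanCyc.IsOrdQuadSing k O n)
    (Oh : Type u) [CommRing Oh] [IsLocalRing Oh] [Algebra O Oh] [IsLocalHom (algebraMap O Oh)]
    [Hensel.IsHenselization O Oh] [Algebra k Oh] [IsScalarTower k O Oh] :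
    ∃ a : Fin (n + 1) → Fin (n + 1) → k, VanCyc.QuadOrd a ∧
      ∀ [(VanCyc.originQuot k a 0).IsPrime] (C : Type u) [CommRing C] [IsLocalRing C]
        [Algebra (Localization.AtPrime (VanCyc.originQuot k a 0)) C]
        [IsLocalHom (algebraMap (Localization.AtPrime (VanCyc.originQuot k a 0)) C)]
        [Hensel.IsHenselization (Localization.AtPrime (VanCyc.originQuot k a 0)) C]
        [Algebra k C] [IsScalarTower k (Localization.AtPrime (VanCyc.originQuot k a 0)) C],
        Nonempty (Oh ≃ₐ[k] C) := by
  exact Groth.Agent.Misc12.HensIso.exists_cone k O n hq Oh

end Groth.Agent.S4007
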