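import Groth.Statements.S4021
import Groth.Agent.SGA7.Lef.Pencil

set_option autoImplicit false
universe u
open CategoryTheory CategoryTheory.Limits AlgebraicGeometry
open LefPen

namespace Groth.Agent.S4021

/-- Let k be an algebraically closed field and X an irreducible smooth proper k-scheme of dimension n ≥
1 embedded in projective r-space by a closed immersion i, and let d ≥ 1. The set of pairs (F, G) of
degree-d forms spanning a Lefschetz pencil for X is Zariski open in the space of pairs of forms. -/
theorem result (k : Type u) [Field k] [IsAlgClosed k] (r n : ℕ) (hn : 1 ≤ n)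
    {X : Scheme.{u}} (i : X ⟶ CohB1.ProjSpace r k) [IsClosedImmersion i] [IrreducibleSpace X]
    [SmoothOfRelativeDimension n (i ≫ CohB1.ProjSpace.toSpec r k)]
    (d : ℕ) (hd : 1 ≤ d) :
    LefPen.IsZOpen k {FG : LefPen.Form r k d × LefPen.Form r k d | LefPen.IsLefschetzPencil k n i d FG.1 FG.2} := by
  exact Groth.SGA7.Lef.isZOpen_isLefschetzPencil i hn

end Groth.Agent.S4021
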