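import Groth.Statements.S4024
import Groth.Agent.SGA7.Forms
import Mathlib.RingTheory.MvPolynomial.EulerIdentity
import Mathlib.LinearAlgebra.Dual.Lemmas
import Mathlib.Tactic

set_option autoImplicit false
universe u
open CategoryTheory CategoryTheory.Limits AlgebraicGeometry
open LefPen

namespace Groth.Agent.S4024
open Groth.SGA7 MvPolynomial

variable {k : Type u} [Field k] {r : ℕ}

/-- The directional derivative at `v` in direction `w`. -/
noncomputable def dirD (v : Fin (r + 1) → k) (G : MvPolynomial (Fin (r + 1)) k) : (Fin (r + 1) → k) →ₗ[k] k :=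
  ∑ i, aeval v (pderiv i G) • LinearMap.proj i

private theorem dirD_apply (v w : Fin (r + 1) → k) (G : MvPolynomial (Fin (r + 1)) k) :
    dirD v G w = ∑ i, w i * aeval v (pderiv i G) := by
  simp [dirD, mul_comm]

private theorem dirD_add (v : Fin (r + 1) → k) (G H : MvPolynomial (Fin (r + 1)) k) :
    dirD v (G + H) = dirD v G + dirD v H := by simp [dirD, add_smul, Finset.sum_add_distrib]

private theorem dirD_smul (v : Fin (r + 1) → k) (c : k) (G : MvPolynomial (Fin (r + 1)) k) :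
    dirD v (c • G) = c • dirD v G := by simp [dirD, Finset.smul_sum, smul_smul]

private theorem dirD_mul (v : Fin (r + 1) → k) (G H : MvPolynomial (Fin (r + 1)) k) :
    dirD v (G * H) = aeval v G • dirD v H + aeval v H • dirD v G := by
  simp only [dirD, pderiv_mul, map_add, map_mul, Finset.smul_sum, smul_smul, ← Finset.sum_add_distrib, ← add_smul]
  exact Finset.sum_congr rfl fun i _ => by ring_nf

private theorem dirD_self {d : ℕ} (v : Fin (r + 1) → k) (G : LefPen.Form r k d) :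
    dirD v G.1 v = d * aeval v G.1 := by
  have h := congrArg (aeval v) (IsHomogeneous.sum_X_mul_pderiv ((mem_homogeneousSubmodule d G.1).mp G.2))
  simpa [dirD_apply] using h

private theorem dirD_symm (v w : Fin (r + 1) → k) (G : LefPen.Form r k 2) :
    dirD v G.1 w = dirD w G.1 v := by
  have h : ∀ i : Fin (r + 1), pderiv i G.1 = ∑ j, X j * pderiv j (pderiv i G.1) := fun i => by
    rw [IsHomogeneous.sum_X_mul_pderiv (n := 1)
      (IsHomogeneous.pderiv ((mem_homogeneousSubmodule 2 G.1).mp G.2)), one_smul]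
  have hC : ∀ i j : Fin (r + 1), pderiv j (pderiv i G.1) = C (coeff 0 (pderiv j (pderiv i G.1))) := fun i j => by
    refine totalDegree_eq_zero_iff_eq_C.mp ((totalDegree_zero_iff_isHomogeneous _).mpr ?_)
    exact IsHomogeneous.pderiv (n := 1) (IsHomogeneous.pderiv ((mem_homogeneousSubmodule 2 G.1).mp G.2))
  have hs : ∀ i j : Fin (r + 1), coeff 0 (pderiv j (pderiv i G.1)) = coeff 0 (pderiv i (pderiv j G.1)) := by
    intro i j
    simp only [coeff_pderiv, zero_add, Finsupp.coe_zero, Pi.zero_apply, Nat.cast_zero, mul_one]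
    rw [add_comm (Finsupp.single i 1)]
    by_cases hij : i = j
    · subst hij; rfl
    · simp [Finsupp.single_eq_of_ne hij, Finsupp.single_eq_of_ne (Ne.symm hij)]
  have key : ∀ v w : Fin (r + 1) → k, dirD v G.1 w = ∑ i, ∑ j, w i * v j * coeff 0 (pderiv j (pderiv i G.1)) := by
    intro v w
    rw [dirD_apply]
    refine Finset.sum_congr rfl fun i _ => ?_
    conv_lhs => rw [h i, map_sum, Finset.mul_sum]
    refine Finset.sum_congr rfl fun j _ => ?_
    rw [hC i j, map_mul, aeval_X, aeval_C, coeff_C, if_pos rfl]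
    simp [mul_assoc]
  rw [key, key, Finset.sum_comm]
  exact Finset.sum_congr rfl fun i _ => Finset.sum_congr rfl fun j _ => by rw [hs]; ring

/-- A linear functional as a linear form. -/
noncomputable def linPoly (l : (Fin (r + 1) → k) →ₗ[k] k) : MvPolynomial (Fin (r + 1)) k :=
  ∑ i, C (l (Pi.single i 1)) * X i

private theorem aeval_linPoly (l : (Fin (r + 1) → k) →ₗ[k] k) (v : Fin (r + 1) → k) : aeval v (linPoly l) = l v := by
  conv_rhs => rw [pi_eq_sum_univ' v]
  simp [linPoly, mul_comm]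

private theorem dirD_linPoly (l : (Fin (r + 1) → k) →ₗ[k] k) (v : Fin (r + 1) → k) : dirD v (linPoly l) = l := by
  classical
  refine LinearMap.ext fun w => ?_
  rw [dirD_apply]
  conv_rhs => rw [pi_eq_sum_univ' w]
  simp [linPoly, Pi.single_apply]

private theorem dirD_pow (l : (Fin (r + 1) → k) →ₗ[k] k) (v : Fin (r + 1) → k) (n : ℕ) :
    dirD v (linPoly l ^ (n + 1)) = ((n + 1 : ℕ) * l v ^ n : k) • l := by
  induction n with
  | zero => simp [dirD_linPoly]
  | succ n ih =>
    rw [pow_succ (linPoly l) (n + 1), dirD_mul, ih, dirD_linPoly, aeval_linPoly, map_pow, aeval_linPoly, smul_smul,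
      ← add_smul]
    congr 1
    push_cast
    ring

private theorem linPoly_mem (l : (Fin (r + 1) → k) →ₗ[k] k) : linPoly l ∈ CohB1.polyGrading r k 1 := by
  refine Submodule.sum_mem _ fun i _ => ?_
  rw [← smul_eq_C_mul]
  exact Submodule.smul_mem _ _ (LefPen.X_mem r k i)

private theorem exists_dual {p : Submodule k (Fin (r + 1) → k)} {x : Fin (r + 1) → k} (hx : x ∉ p) :
    ∃ f : (Fin (r + 1) → k) →ₗ[k] k, f x = 1 ∧ ∀ y ∈ p, f y = 0 := by
  obtain ⟨f, hfx, hf⟩ := Submodule.exists_dual_map_eq_bot_of_notMem hx inferInstance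
  refine ⟨(f x)⁻¹ • f, by simp [hfx], fun y hy => ?_⟩
  have : f y ∈ p.map f := Submodule.mem_map_of_mem hy
  rw [hf, Submodule.mem_bot] at this
  simp [this]

/-- One block of prescribed values, with the other block vanishing when possible. -/
private theorem exists_block {d : ℕ} (hd : 2 ≤ d) {W : Submodule k (Fin (r + 1) → k)} {v v' : Fin (r + 1) → k} (hvW : v ∈ W)
    (α : (Fin (r + 1) → k) →ₗ[k] k) (hv : α v = 1) (hv' : α v' = 0) (a : k) (l₀ : (Fin (r + 1) → k) →ₗ[k] k) :
    ∃ G : LefPen.Form r k d, aeval v G.1 = a ∧ (∀ c ∈ W, α c = 0 → dirD v G.1 c = l₀ c) ∧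
      ((3 ≤ d ∨ v' ∉ W) → aeval v' G.1 = 0 ∧ dirD v' G.1 = 0) := by
  classical
  obtain ⟨n, rfl⟩ : ∃ n, d = n + 2 := ⟨d - 2, by omega⟩
  obtain ⟨l, hl, hl0, hl'⟩ : ∃ l : (Fin (r + 1) → k) →ₗ[k] k,
      (∀ c ∈ W, α c = 0 → l c = l₀ c) ∧ l v = 0 ∧ (v ∈ W → v' ∉ W → l v' = 0) := by
    by_cases h : v ∈ W ∧ v' ∉ W
    · obtain ⟨γ, hγ, hγW⟩ := exists_dual h.2
      refine ⟨(l₀ - l₀ v • α) - ((l₀ - l₀ v • α) v') • γ, fun c hc hαc => ?_, ?_, fun _ _ => ?_⟩
      · simp [hγW c hc, hαc]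
      · simp [hγW v h.1, hv]
      · simp [hγ]
    · refine ⟨l₀ - l₀ v • α, fun c _ hαc => by simp [hαc], by simp [hv], fun h1 h2 => absurd ⟨h1, h2⟩ h⟩
  refine ⟨⟨a • linPoly α ^ (n + 2) + linPoly α ^ (n + 1) * linPoly l, ?_⟩, ?_, fun c hc hαc => ?_, fun hcond => ⟨?_, ?_⟩⟩
  · refine Submodule.add_mem _ (Submodule.smul_mem _ _ ?_) ?_
    · have := SetLike.pow_mem_graded (n + 2) (linPoly_mem α)
      rwa [smul_eq_mul, mul_one] at this
    · have h1 := SetLike.pow_mem_graded (n + 1) (linPoly_mem α)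
      rw [smul_eq_mul, mul_one] at h1
      have h2 := SetLike.mul_mem_graded h1 (linPoly_mem l)
      exact h2
  · simp only [map_add, map_smul, map_mul, map_pow, aeval_linPoly, hv, hl0]
    simp
  · simp only [dirD_add, dirD_smul, dirD_mul, dirD_pow, dirD_linPoly, map_pow, aeval_linPoly, hv, hl0]
    simp [hαc, hl c hc hαc]
  · simp only [map_add, map_smul, map_mul, map_pow, aeval_linPoly, hv']
    simp
  · simp only [dirD_add, dirD_smul, dirD_mul, dirD_pow, dirD_linPoly, map_pow, aeval_linPoly, hv']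
    rcases hcond with h | h
    · obtain ⟨m, rfl⟩ : ∃ m, n = m + 1 := ⟨n - 1, by omega⟩
      simp
    · simp [hl' hvW h]

private theorem dim_ker {W : Submodule k (Fin (r + 1) → k)} {v : Fin (r + 1) → k} (hv : v ∈ W)
    (α : (Fin (r + 1) → k) →ₗ[k] k) (hα : α v = 1) :
    Module.finrank k ↥(W ⊓ LinearMap.ker α) + 1 = Module.finrank k ↥W := by
  have h := LinearMap.finrank_range_add_finrank_ker (α.domRestrict W)
  have hr : LinearMap.range (α.domRestrict W) = ⊤ :=
    LinearMap.range_eq_top.mpr fun c => ⟨c • ⟨v, hv⟩, by simp [hα]⟩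
  rw [hr, finrank_top, Module.finrank_self] at h
  have hk : Module.finrank k ↥(LinearMap.ker (α.domRestrict W)) = Module.finrank k ↥(W ⊓ LinearMap.ker α) := by
    rw [← Submodule.map_comap_subtype, ← LinearEquiv.finrank_eq (Submodule.equivMapOfInjective _ W.injective_subtype _)]
    exact congrArg (fun S : Submodule k ↥W => Module.finrank k ↥S) (LinearMap.ker_domRestrict W α)
  omega

/-- Forms to values and derivatives along a subspace. -/
noncomputable def valMap (v : Fin (r + 1) → k) (C : Submodule k (Fin (r + 1) → k)) (d : ℕ) :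
    LefPen.Form r k d →ₗ[k] k × Module.Dual k ↥C where
  toFun G := (aeval v G.1, (dirD v G.1).comp C.subtype)
  map_add' G H := by ext <;> simp [dirD_add]
  map_smul' c G := by ext <;> simp [dirD_smul]

private theorem mem_tangent {d : ℕ} {W : Submodule k (Fin (r + 1) → k)} {v : Fin (r + 1) → k} (hv : v ∈ W)
    (α : (Fin (r + 1) → k) →ₗ[k] k) (hα : α v = 1) (G : LefPen.Form r k d) :
    G ∈ LinearMap.ker (LefPen.tangLin k W v (d := d)) ↔ valMap v (W ⊓ LinearMap.ker α) d G = 0 := by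
  have ht : G ∈ LinearMap.ker (LefPen.tangLin k W v (d := d)) ↔
      aeval v G.1 = 0 ∧ ∀ w : ↥W, dirD v G.1 w = 0 := by
    simp [LefPen.tangLin, funext_iff, dirD_apply]
  rw [ht]
  constructor
  · rintro ⟨h0, h⟩
    ext
    · exact h0
    · exact h ⟨_, (Submodule.mem_inf.mp (Subtype.prop _)).1⟩
  · intro h
    have h0 : aeval v G.1 = 0 := congrArg Prod.fst h
    refine ⟨h0, fun w => ?_⟩
    have hc : (w : Fin (r + 1) → k) - α w • v ∈ W ⊓ LinearMap.ker α :=
      ⟨W.sub_mem w.2 (W.smul_mem _ hv), by simp [hα]⟩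
    have h1 : dirD v G.1 ((w : Fin (r + 1) → k) - α w • v) = 0 :=
      LinearMap.congr_fun (congrArg Prod.snd h) ⟨_, hc⟩
    simpa [dirD_self, h0] using h1

private theorem codim {d : ℕ} (hd : 2 ≤ d) {W₁ W₂ : Submodule k (Fin (r + 1) → k)} {v₁ v₂ : Fin (r + 1) → k}
    (h₁ : v₁ ∈ W₁) (h₂ : v₂ ∈ W₂) (hv : LinearIndependent k ![v₁, v₂]) (hcond : 3 ≤ d ∨ v₂ ∉ W₁) :
    Module.finrank k (LefPen.Form r k d) =
      Module.finrank k ↥(LefPen.tangentForms k d W₁ v₁ W₂ v₂) + (Module.finrank k ↥W₁ + Module.finrank k ↥W₂) := by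
  have hne : v₁ ∉ k ∙ v₂ := fun h => by
    obtain ⟨c, hc⟩ := Submodule.mem_span_singleton.mp h
    exact one_ne_zero (LinearIndependent.pair_iff.mp hv 1 (-c) (by simp [← hc])).1
  have hne' : v₂ ∉ k ∙ v₁ := fun h => by
    obtain ⟨c, hc⟩ := Submodule.mem_span_singleton.mp h
    exact one_ne_zero (LinearIndependent.pair_iff.mp hv (-c) 1 (by simp [← hc])).2
  obtain ⟨α, hα, hα'⟩ := exists_dual hne
  obtain ⟨β, hβ, hβ'⟩ := exists_dual hne'
  let C₁ := W₁ ⊓ LinearMap.ker α
  let C₂ := W₂ ⊓ LinearMap.ker β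
  let T := (valMap v₁ C₁ d).prod (valMap v₂ C₂ d)
  have hker : LinearMap.ker T = LefPen.tangentForms k d W₁ v₁ W₂ v₂ := by
    ext G
    rw [LefPen.tangentForms, Submodule.mem_inf, mem_tangent h₁ α hα, mem_tangent h₂ β hβ]
    simp [T, C₁, C₂]
  have hsurj : Function.Surjective T := by
    rintro ⟨⟨a, f⟩, ⟨b, g⟩⟩
    obtain ⟨g', hg'⟩ := g.exists_extend
    obtain ⟨G₂, hG₂a, hG₂, -⟩ := exists_block hd h₂ β hβ (hβ' v₁ (Submodule.mem_span_singleton_self _)) b g'
    obtain ⟨f', hf'⟩ := (f - (dirD v₁ G₂.1).comp C₁.subtype).exists_extend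
    obtain ⟨G₁, hG₁a, hG₁, hvan⟩ := exists_block hd h₁ α hα (hα' v₂ (Submodule.mem_span_singleton_self _))
      (a - aeval v₁ G₂.1) f'
    obtain ⟨hz, hz'⟩ := hvan hcond
    refine ⟨G₁ + G₂, Prod.ext (Prod.ext ?_ (LinearMap.ext fun c => ?_)) (Prod.ext ?_ (LinearMap.ext fun c => ?_))⟩
    · show aeval v₁ (G₁.1 + G₂.1) = a
      rw [map_add, hG₁a, sub_add_cancel]
    · have := LinearMap.congr_fun hf' c
      simp only [LinearMap.comp_apply, Submodule.subtype_apply, LinearMap.sub_apply] at this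
      simp [T, valMap, dirD_add, hG₁ c.1 c.2.1 c.2.2, this]
    · show aeval v₂ (G₁.1 + G₂.1) = b
      rw [map_add, hz, hG₂a, zero_add]
    · simp [T, valMap, dirD_add, hz', hG₂ c.1 c.2.1 c.2.2, ← hg']
  have h := LinearMap.finrank_range_add_finrank_ker T
  rw [LinearMap.range_eq_top.mpr hsurj, finrank_top, hker, Module.finrank_prod, Module.finrank_prod,
    Module.finrank_prod, Module.finrank_self, Subspace.dual_finrank_eq, Subspace.dual_finrank_eq] at h
  have e₁ : Module.finrank k ↥C₁ + 1 = Module.finrank k ↥W₁ := dim_ker h₁ α hα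
  have e₂ : Module.finrank k ↥C₂ + 1 = Module.finrank k ↥W₂ := dim_ker h₂ β hβ
  omega


/-- Let k be a field (the source works over an algebraically closed field; the count is the same over
any field), d ≥ 2, x₁ = [v₁] and x₂ = [v₂] two distinct points of projective r-space and P(W₁) ∋ x₁,
P(W₂) ∋ x₂ linear subspaces. In the space of degree-d forms, those whose hypersurface passes through
x₁ tangentially to P(W₁) and through x₂ tangentially to P(W₂) form a linear subspace of codimension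
dim P(W₁) + dim P(W₂) + 2 = dim W₁ + dim W₂ when d ≥ 3 or when the line x₁x₂ is not contained in
both P(W₁) and P(W₂), and of codimension dim W₁ + dim W₂ - 1 when d = 2 and the line x₁x₂ lies in
P(W₁) ∩ P(W₂). -/
theorem result (k : Type u) [Field k] (r d : ℕ) (hd : 2 ≤ d)
    (W₁ W₂ : Submodule k (Fin (r + 1) → k)) (v₁ v₂ : Fin (r + 1) → k) (h₁ : v₁ ∈ W₁) (h₂ : v₂ ∈ W₂)
    (hv : LinearIndependent k ![v₁, v₂]) :
    ((3 ≤ d ∨ ¬ (v₂ ∈ W₁ ∧ v₁ ∈ W₂)) →
      Module.finrank k (LefPen.Form r k d) =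
        Module.finrank k ↥(LefPen.tangentForms k d W₁ v₁ W₂ v₂) + (Module.finrank k ↥W₁ + Module.finrank k ↥W₂)) ∧
    ((d = 2 ∧ v₂ ∈ W₁ ∧ v₁ ∈ W₂) →
      Module.finrank k (LefPen.Form r k d) + 1 =
        Module.finrank k ↥(LefPen.tangentForms k d W₁ v₁ W₂ v₂) + (Module.finrank k ↥W₁ + Module.finrank k ↥W₂)) := by
  classical
  constructor
  · intro h
    by_cases h21 : v₂ ∈ W₁
    · rcases h with h | h
      · exact codim hd h₁ h₂ hv (Or.inl h)
      · rw [LefPen.tangentForms, inf_comm, add_comm (Module.finrank k ↥W₁)]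
        exact codim hd h₂ h₁ (LinearIndependent.pair_symm_iff.mp hv) (Or.inr fun h12 => h ⟨h21, h12⟩)
    · exact codim hd h₁ h₂ hv (Or.inr h21)
  · rintro ⟨rfl, h21, h12⟩
    have hne : v₂ ∉ k ∙ v₁ := fun h => by
      obtain ⟨c, hc⟩ := Submodule.mem_span_singleton.mp h
      exact one_ne_zero (LinearIndependent.pair_iff.mp hv (-c) 1 (by simp [← hc])).2
    obtain ⟨β, hβ, hβ'⟩ := exists_dual hne
    have hβ1 : β v₁ = 0 := hβ' v₁ (Submodule.mem_span_singleton_self _)
    obtain ⟨α, hα, hα'⟩ := exists_dual (p := k ∙ v₂) (x := v₁) (fun h => by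
      obtain ⟨c, hc⟩ := Submodule.mem_span_singleton.mp h
      exact one_ne_zero (LinearIndependent.pair_iff.mp hv 1 (-c) (by simp [← hc])).1)
    have hα2 : α v₂ = 0 := hα' v₂ (Submodule.mem_span_singleton_self _)
    set W' := W₂ ⊓ LinearMap.ker α with hW'
    have hv2 : v₂ ∈ W' := ⟨h₂, hα2⟩
    have hv1 : v₁ ∉ W' := fun h => one_ne_zero (hα.symm.trans h.2)
    have heq : LefPen.tangentForms k 2 W₁ v₁ W₂ v₂ = LefPen.tangentForms k 2 W₁ v₁ W' v₂ := by
      ext G
      simp only [LefPen.tangentForms, Submodule.mem_inf]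
      refine and_congr_right fun hG1 => ?_
      rw [mem_tangent h₂ β hβ, mem_tangent hv2 β hβ]
      have hz : dirD v₂ G.1 v₁ = 0 := by
        rw [dirD_symm]
        have := (mem_tangent h₁ α hα G).mp hG1
        exact LinearMap.congr_fun (congrArg Prod.snd this) ⟨v₂, h21, hα2⟩
      constructor
      · intro h
        refine Prod.ext (show aeval v₂ G.1 = 0 from congrArg Prod.fst h :) (LinearMap.ext fun c => ?_)
        exact LinearMap.congr_fun (congrArg Prod.snd h) ⟨c.1, c.2.1.1, c.2.2⟩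
      · intro h
        refine Prod.ext (show aeval v₂ G.1 = 0 from congrArg Prod.fst h :) (LinearMap.ext fun c => ?_)
        have hc : c.1 - α c.1 • v₁ ∈ W' ⊓ LinearMap.ker β :=
          ⟨⟨W₂.sub_mem c.2.1 (W₂.smul_mem _ h12), by simp [hα]⟩,
            show β _ = 0 by simp [hβ1, show β c.1 = 0 from c.2.2]⟩
        have h1 : dirD v₂ G.1 (c.1 - α c.1 • v₁) = 0 := LinearMap.congr_fun (congrArg Prod.snd h) ⟨_, hc⟩
        rw [map_sub, map_smul, hz, smul_zero, sub_zero] at h1
        exact h1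
    have h := codim hd hv2 h₁ (LinearIndependent.pair_symm_iff.mp hv) (Or.inr hv1)
    have e := dim_ker h12 α hα
    rw [← hW'] at e
    rw [LefPen.tangentForms, inf_comm] at h
    rw [heq, LefPen.tangentForms]
    omega

end Groth.Agent.S4024
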