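import Groth.Statements.S4027
import Mathlib.Algebra.Polynomial.Laurent
import Mathlib.RingTheory.Polynomial.GaussLemma
import Mathlib.RingTheory.Polynomial.UniqueFactorization
import Mathlib.Tactic

set_option autoImplicit false
universe u
open LefPen

namespace Groth.Agent.S4027

/-- Let k be an algebraically closed field, r ≥ 2, and F ∈ k[X_1, …, X_r] an irreducible polynomial with
F(0) ≠ 0 (in the source the origin is the base point of the lines considered and lies off the
hypersurface F = 0; without this the claim fails, e.g. for X_1 - X_2^2). Then the polynomial G(T) =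
F(X_1 T, …, X_r T), with coefficients in the field of rational functions k(X_1, …, X_r), is
irreducible. -/
theorem result (k : Type u) [Field k] [IsAlgClosed k] (r : ℕ) (hr : 2 ≤ r)
    (F : MvPolynomial (Fin r) k) (hF : Irreducible F) (hF0 : MvPolynomial.eval (fun _ => (0 : k)) F ≠ 0) :
    Irreducible ((MvPolynomial.eval₂ (Polynomial.C.comp MvPolynomial.C)
        (fun j => Polynomial.C (MvPolynomial.X j) * Polynomial.X) F).map
      (algebraMap (MvPolynomial (Fin r) k) (FractionRing (MvPolynomial (Fin r) k)))) := by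
  classical
  set G : Polynomial (MvPolynomial (Fin r) k) := MvPolynomial.eval₂ (Polynomial.C.comp MvPolynomial.C)
        (fun j => Polynomial.C (MvPolynomial.X j) * Polynomial.X) F with hG
  let ψ : MvPolynomial (Fin r) k →+* LaurentPolynomial (MvPolynomial (Fin r) k) :=
    MvPolynomial.eval₂Hom (LaurentPolynomial.C.comp MvPolynomial.C)
      (fun j => LaurentPolynomial.C (MvPolynomial.X j) * LaurentPolynomial.T (-1))
  let θ : MvPolynomial (Fin r) k →+* LaurentPolynomial (MvPolynomial (Fin r) k) :=
    MvPolynomial.eval₂Hom (LaurentPolynomial.C.comp MvPolynomial.C)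
      (fun j => LaurentPolynomial.C (MvPolynomial.X j) * LaurentPolynomial.T 1)
  let u : (LaurentPolynomial (MvPolynomial (Fin r) k))ˣ := (LaurentPolynomial.isUnit_T 1).unit
  let Ψ : Polynomial (MvPolynomial (Fin r) k) →+* LaurentPolynomial (MvPolynomial (Fin r) k) :=
    Polynomial.eval₂RingHom ψ (LaurentPolynomial.T 1)
  let Θ : LaurentPolynomial (MvPolynomial (Fin r) k) →+* LaurentPolynomial (MvPolynomial (Fin r) k) :=
    LaurentPolynomial.eval₂ θ u
  have hΨG : Ψ G = LaurentPolynomial.C F := by
    have h : ∀ p : MvPolynomial (Fin r) k, Ψ (MvPolynomial.eval₂ (Polynomial.C.comp MvPolynomial.C)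
        (fun j => Polynomial.C (MvPolynomial.X j) * Polynomial.X) p) = LaurentPolynomial.C p := by
      intro p
      induction p using MvPolynomial.induction_on with
      | C a => simp [Ψ, ψ]
      | add p q hp hq => rw [MvPolynomial.eval₂_add, map_add, hp, hq, map_add]
      | mul_X p j hp =>
        rw [MvPolynomial.eval₂_mul, map_mul, hp, MvPolynomial.eval₂_X]
        have hj : Ψ (Polynomial.C (MvPolynomial.X j) * Polynomial.X) =
            LaurentPolynomial.C (MvPolynomial.X j) * LaurentPolynomial.T (-1) * LaurentPolynomial.T 1 := by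
          simp [Ψ, ψ]
        rw [hj, mul_assoc (LaurentPolynomial.C (MvPolynomial.X j)), ← LaurentPolynomial.T_add, neg_add_cancel,
          LaurentPolynomial.T_zero, mul_one, map_mul]
    exact h F
  have hΘΨ : Θ.comp Ψ = Polynomial.toLaurent := by
    have hT : Θ (LaurentPolynomial.T 1) = LaurentPolynomial.T 1 := by
      simp [Θ, u, LaurentPolynomial.eval₂_T]
    have hT' : Θ (LaurentPolynomial.T (-1)) = LaurentPolynomial.T (-1) :=
      (LaurentPolynomial.isUnit_T 1).mul_left_cancel (by
        nth_rewrite 1 [← hT]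
        rw [← map_mul, ← LaurentPolynomial.T_add]
        simp)
    refine Polynomial.ringHom_ext' (MvPolynomial.ringHom_ext (fun a => ?_) fun j => ?_) ?_
    · simp [Ψ, ψ, Θ, θ]
    · have hC : Θ (LaurentPolynomial.C (MvPolynomial.X j)) = LaurentPolynomial.C (MvPolynomial.X j) * LaurentPolynomial.T 1 := by
        simp [Θ, θ]
      have hj : Ψ (Polynomial.C (MvPolynomial.X j)) =
          LaurentPolynomial.C (MvPolynomial.X j) * LaurentPolynomial.T (-1) := by simp [Ψ, ψ]
      change Θ (Ψ (Polynomial.C (MvPolynomial.X j))) = Polynomial.toLaurent (Polynomial.C (MvPolynomial.X j))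
      rw [hj, map_mul, hC, hT', mul_assoc, ← LaurentPolynomial.T_add, add_neg_cancel, LaurentPolynomial.T_zero,
        mul_one, Polynomial.toLaurent_C]
    · simp [Ψ, hT]
  have hP : Prime (Polynomial.C F : Polynomial (MvPolynomial (Fin r) k)) :=
    Polynomial.prime_C_iff.mpr (irreducible_iff_prime.mp hF)
  have hirrL : ∀ a b : LaurentPolynomial (MvPolynomial (Fin r) k), a * b = LaurentPolynomial.C F → IsUnit a ∨ IsUnit b := by
    intro a b hab
    obtain ⟨n, f, hf⟩ := LaurentPolynomial.exists_T_pow a
    obtain ⟨m, g, hg⟩ := LaurentPolynomial.exists_T_pow b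
    have e : f * g = Polynomial.C F * Polynomial.X ^ (n + m) := by
      apply Polynomial.toLaurent_injective
      rw [map_mul, map_mul, hf, hg, Polynomial.toLaurent_C, Polynomial.toLaurent_X_pow, ← hab, Nat.cast_add,
        LaurentPolynomial.T_add]
      ring
    rcases hP.dvd_or_dvd (Dvd.intro _ e.symm) with ⟨f', rfl⟩ | ⟨g', rfl⟩
    · right
      have e' : f' * g = Polynomial.X ^ (n + m) := mul_left_cancel₀ hP.ne_zero (by rw [← e, mul_assoc])
      have hu : IsUnit (Polynomial.toLaurent g) := isUnit_of_mul_isUnit_right (x := Polynomial.toLaurent f')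
        (by rw [← map_mul, e', Polynomial.toLaurent_X_pow]; exact LaurentPolynomial.isUnit_T _)
      rw [hg] at hu
      exact isUnit_of_mul_isUnit_left hu
    · left
      have e' : f * g' = Polynomial.X ^ (n + m) := mul_left_cancel₀ hP.ne_zero (by rw [← e]; ring)
      have hu : IsUnit (Polynomial.toLaurent f) := isUnit_of_mul_isUnit_left (y := Polynomial.toLaurent g')
        (by rw [← map_mul, e', Polynomial.toLaurent_X_pow]; exact LaurentPolynomial.isUnit_T _)
      rw [hf] at hu
      exact isUnit_of_mul_isUnit_left hu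
  have h0 : IsUnit (G.coeff 0) := by
    have h : ∀ p : MvPolynomial (Fin r) k, (MvPolynomial.eval₂ (Polynomial.C.comp MvPolynomial.C)
        (fun j => Polynomial.C (MvPolynomial.X j) * Polynomial.X) p).coeff 0 =
        MvPolynomial.C (MvPolynomial.eval (fun _ => (0 : k)) p) := by
      intro p
      induction p using MvPolynomial.induction_on with
      | C a => simp
      | add p q hp hq => rw [MvPolynomial.eval₂_add, Polynomial.coeff_add, hp, hq, map_add, map_add]
      | mul_X p j hp => simp [Polynomial.mul_coeff_zero]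
    rw [hG, h]
    exact (Ne.isUnit hF0).map MvPolynomial.C
  have hprim : G.IsPrimitive := fun a ha => isUnit_of_dvd_unit (Polynomial.C_dvd_iff_dvd_coeff a G |>.mp ha 0) h0
  have hunit : ∀ p : Polynomial (MvPolynomial (Fin r) k), p ∣ G → IsUnit (Ψ p) → IsUnit p := by
    intro p hdvd hp
    have hp' : IsUnit (Polynomial.toLaurent p) := by
      rw [← hΘΨ]; exact hp.map Θ
    obtain ⟨q, hq⟩ := hp'.exists_right_inv
    obtain ⟨n, q', hq'⟩ := LaurentPolynomial.exists_T_pow q
    have e : p * q' = Polynomial.X ^ n := by
      apply Polynomial.toLaurent_injective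
      rw [map_mul, hq', Polynomial.toLaurent_X_pow, ← mul_assoc, hq, one_mul]
    obtain ⟨j, -, hj⟩ := (dvd_prime_pow Polynomial.prime_X n).mp (Dvd.intro _ e)
    rcases Nat.eq_zero_or_pos j with rfl | hj0
    · rw [pow_zero] at hj; exact hj.symm.isUnit isUnit_one
    · exfalso
      have hX : Polynomial.X ∣ G := ((dvd_pow_self _ hj0.ne').trans hj.symm.dvd).trans hdvd
      rw [Polynomial.X_dvd_iff] at hX
      rw [hX] at h0
      exact not_isUnit_zero h0
  refine hprim.irreducible_iff_irreducible_map_fraction_map.mp ⟨fun hu => ?_, fun a b hab => ?_⟩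
  · have h1 := hu.map Ψ
    rw [hΨG] at h1
    have h2 := h1.map (LaurentPolynomial.eval₂ (RingHom.id (MvPolynomial (Fin r) k)) 1)
    exact hF.not_isUnit (by simpa using h2)
  · rcases hirrL (Ψ a) (Ψ b) (by rw [← map_mul, ← hab, hΨG]) with h | h
    · exact Or.inl (hunit a (hab ▸ dvd_mul_right a b) h)
    · exact Or.inr (hunit b (hab ▸ dvd_mul_left b a) h)

end Groth.Agent.S4027
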