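import Groth.Statements.S4039
import Groth.Agent.Quadric.Count
import Groth.Agent.Quadric.Points
import Groth.Agent.Misc12.RelDim

set_option autoImplicit false
universe u
open CategoryTheory CategoryTheory.Limits AlgebraicGeometry
open LefPen

namespace Groth.Agent.S4039


section Helpers

open MvPolynomial (X)
open scoped DualNumber

/-- A form of degree two as a table of coefficients. -/
theorem exists_table {σ : Type} [Fintype σ] [DecidableEq σ] {k : Type u} [CommRing k] (P : MvPolynomial σ k)
    (hP : P.IsHomogeneous 2) : ∃ a : σ → σ → k, P = ∑ i, ∑ l, MvPolynomial.C (a i l) * X i * X l := by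
  let S : Submodule k (MvPolynomial σ k) :=
    Submodule.span k (Set.range fun p : σ × σ => (X p.1 * X p.2 : MvPolynomial σ k))
  have hmem : P ∈ S := by
    rw [P.as_sum]
    refine Submodule.sum_mem _ fun s hs => ?_
    have hdeg : Finsupp.degree s = 2 := by
      rw [Finsupp.degree_eq_weight_one]
      exact hP (MvPolynomial.mem_support_iff.mp hs)
    obtain ⟨i, hi⟩ : ∃ i, s i ≠ 0 := by
      by_contra h
      push Not at h
      rw [Finsupp.degree_eq_sum, Finset.sum_eq_zero fun i _ => h i] at hdeg
      omega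
    have hle : Finsupp.single i 1 ≤ s := Finsupp.single_le_iff.2 (Nat.one_le_iff_ne_zero.2 hi)
    have hd1 : Finsupp.degree (s - Finsupp.single i 1) = 1 := by
      have h1 := congrArg Finsupp.degree (tsub_add_cancel_of_le hle)
      rw [map_add, Finsupp.degree_single, hdeg] at h1
      omega
    obtain ⟨l, hl⟩ : ∃ l, s - Finsupp.single i 1 = Finsupp.single l 1 := by
      generalize s - Finsupp.single i 1 = t at hd1
      obtain ⟨l, hl⟩ : ∃ l : σ, t l ≠ 0 := by
        by_contra h
        push Not at h
        rw [Finsupp.degree_eq_sum, Finset.sum_eq_zero fun i _ => h i] at hd1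
        omega
      refine ⟨l, ?_⟩
      rw [Finsupp.degree_eq_sum, ← Finset.add_sum_erase _ _ (Finset.mem_univ l)] at hd1
      ext b
      rcases eq_or_ne b l with rfl | hb
      · rw [Finsupp.single_eq_same]; omega
      · have h0 : ∑ x ∈ Finset.univ.erase l, t x = 0 := by omega
        rw [Finsupp.single_eq_of_ne hb]
        exact Finset.sum_eq_zero_iff.1 h0 b (by simp [hb])
    have hs2 : s = Finsupp.single l 1 + Finsupp.single i 1 := by rw [← hl, tsub_add_cancel_of_le hle]
    have hmono : MvPolynomial.monomial s (P.coeff s) = P.coeff s • (X l * X i : MvPolynomial σ k) := by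
      rw [MvPolynomial.X, MvPolynomial.X, MvPolynomial.monomial_mul, ← hs2, MvPolynomial.smul_monomial, _root_.mul_one,
        smul_eq_mul, _root_.mul_one]
    rw [hmono]
    exact Submodule.smul_mem _ _ (Submodule.subset_span ⟨(l, i), rfl⟩)
  obtain ⟨c, hc⟩ := (Submodule.mem_span_range_iff_exists_fun k).1 hmem
  refine ⟨fun i l => c (i, l), ?_⟩
  rw [← hc, Fintype.sum_prod_type]
  simp only [MvPolynomial.smul_eq_C_mul, _root_.mul_assoc]

section Form

variable {k : Type u} [Field k] {n : ℕ}

/-- The bilinear form of a table. -/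
noncomputable def bil (a : Fin n → Fin n → k) : LinearMap.BilinForm k (Fin n → k) :=
  LinearMap.mk₂ k (fun x y => ∑ i, ∑ l, a i l * x i * y l)
    (fun x x' y => by simp only [Pi.add_apply, mul_add, add_mul, Finset.sum_add_distrib])
    (fun c x y => by simp only [Pi.smul_apply, smul_eq_mul, Finset.mul_sum]; congr! 2; ring)
    (fun x y y' => by simp only [Pi.add_apply, mul_add, Finset.sum_add_distrib])
    (fun c x y => by simp only [Pi.smul_apply, smul_eq_mul, Finset.mul_sum]; congr! 2; ring)

theorem eval_eq_bil {a : Fin n → Fin n → k} {P : MvPolynomial (Fin n) k}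
    (hP : P = ∑ i, ∑ l, MvPolynomial.C (a i l) * X i * X l) (x : Fin n → k) :
    MvPolynomial.eval x P = (bil a).toQuadraticMap x := by
  rw [hP, LinearMap.BilinMap.toQuadraticMap_apply, bil, LinearMap.mk₂_apply]
  simp

theorem aeval_dual {a : Fin n → Fin n → k} {P : MvPolynomial (Fin n) k}
    (hP : P = ∑ i, ∑ l, MvPolynomial.C (a i l) * X i * X l) (x y : Fin n → k) :
    MvPolynomial.aeval (fun i => (TrivSqZeroExt.inl (x i) + TrivSqZeroExt.inr (y i) : k[ε])) P =
      TrivSqZeroExt.inl ((bil a).toQuadraticMap x) +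
        TrivSqZeroExt.inr (QuadraticMap.polar (bil a).toQuadraticMap x y) := by
  rw [LinearMap.BilinMap.polar_toQuadraticMap, LinearMap.BilinMap.toQuadraticMap_apply, hP]
  simp only [map_sum, map_mul, MvPolynomial.aeval_C, MvPolynomial.aeval_X, bil, LinearMap.mk₂_apply,
    TrivSqZeroExt.algebraMap_eq_inl]
  refine TrivSqZeroExt.ext ?_ ?_
  · simp [TrivSqZeroExt.fst_sum]
  · simp only [TrivSqZeroExt.snd_sum, TrivSqZeroExt.snd_add, TrivSqZeroExt.snd_inl, TrivSqZeroExt.snd_inr,
      TrivSqZeroExt.snd_mul, TrivSqZeroExt.fst_mul, TrivSqZeroExt.fst_add, TrivSqZeroExt.fst_inl,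
      TrivSqZeroExt.fst_inr, TrivSqZeroExt.fst_sum, smul_eq_mul, MulOpposite.smul_eq_mul_unop,
      MulOpposite.unop_op, zero_add, add_zero, mul_zero, zero_mul]
    simp [Finset.sum_add_distrib, Finset.mul_sum, Finset.sum_mul]

end Form

/-- A smooth quadric has no singular rational point. -/
theorem noSing {k : Type u} [Field k] {n : ℕ} (G : LefPen.Form (n + 1) k 2)
    [SmoothOfRelativeDimension n ((LefPen.hypIdeal G).subschemeι ≫ CohB1.ProjSpace.toSpec (n + 1) k)]
    {a : Fin (n + 1 + 1) → Fin (n + 1 + 1) → k}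
    (ha : G.1 = ∑ i, ∑ l, MvPolynomial.C (a i l) * X i * X l) :
    Groth.Quadric.NoSing (bil a).toQuadraticMap := by
  classical
  intro x₀ hx₀ hQ₀
  by_contra hsing
  push Not at hsing
  let S := Finset.univ.filter fun l : Fin (n + 1 + 1) => x₀ l ≠ 0
  have hS : S.Nonempty := (Function.ne_iff.1 hx₀).imp fun l hl => by simpa [S] using hl
  let j := S.min' hS
  have hj : x₀ j ≠ 0 := (Finset.mem_filter.1 (S.min'_mem hS)).2
  let x : Fin (n + 1 + 1) → k := (x₀ j)⁻¹ • x₀
  have hxj : x j = 1 := by simp [x, hj]
  have hQx : (bil a).toQuadraticMap x = 0 := by rw [QuadraticMap.map_smul, hQ₀, smul_zero]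
  have hpol : ∀ y, QuadraticMap.polar (bil a).toQuadraticMap x y = 0 := fun y => by
    rw [QuadraticMap.polar_smul_left, hsing, smul_zero]
  have hlow : ∀ l < j, x l = 0 := fun l hl => by
    by_contra h0
    exact absurd (S.min'_le l (Finset.mem_filter.2 ⟨Finset.mem_univ _, fun h1 => h0 (by simp [x, h1])⟩)) (not_le.2 hl)
  let c : Groth.Quadric.NormZero G j := ⟨x, hxj, hlow, by rw [eval_eq_bil ha, hQx]⟩
  let B := Groth.Quadric.chartRing G j
  letI : Algebra B k := (Groth.Quadric.evalPt G j c).toRingHom.toAlgebra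
  haveI : IsScalarTower k B k := IsScalarTower.of_algebraMap_eq fun r => ((Groth.Quadric.evalPt G j c).commutes r).symm
  -- the relative dimension at the point
  obtain ⟨q, hq, hqι, -⟩ := Groth.Quadric.exists_chartIncl G j
  have hsm : SmoothOfRelativeDimension n (Spec.map (CommRingCat.ofHom (algebraMap k B))) := by
    rw [← Groth.Quadric.chartHom_toSpec G j, ← hqι, Category.assoc]
    exact IsZariskiLocalAtSource.comp (P := @SmoothOfRelativeDimension n) ‹_› q
  have hdim : Module.finrank k (Derivation k B k) = n := by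
    obtain ⟨s, hs, hstd⟩ := (HasRingHomProperty.Spec_iff (P := @SmoothOfRelativeDimension.{u} n)).1 hsm
    obtain ⟨g, hg, hgu⟩ : ∃ g ∈ s, algebraMap B k g ≠ 0 := by
      by_contra h
      push Not at h
      have hle : Ideal.span s ≤ RingHom.ker (algebraMap B k) := Ideal.span_le.2 fun g hg => h g hg
      rw [hs] at hle
      exact RingHom.ker_ne_top (algebraMap B k) (top_le_iff.1 hle)
    have h1 := hstd g hg
    rw [CommRingCat.hom_ofHom, ← IsScalarTower.algebraMap_eq k B (Localization.Away g),
      RingHom.isStandardSmoothOfRelativeDimension_algebraMap] at h1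
    haveI := Algebra.IsStandardSmoothOfRelativeDimension.isStandardSmooth (R := k) (S := Localization.Away g) n
    letI : Algebra (Localization.Away g) k :=
      (IsLocalization.Away.lift g (g := algebraMap B k) (isUnit_iff_ne_zero.2 hgu)).toAlgebra
    haveI : IsScalarTower B (Localization.Away g) k :=
      IsScalarTower.of_algebraMap_eq fun b => (IsLocalization.Away.lift_eq g (isUnit_iff_ne_zero.2 hgu) b).symm
    haveI : IsScalarTower k (Localization.Away g) k := IsScalarTower.of_algebraMap_eq fun r => by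
      rw [IsScalarTower.algebraMap_apply k B (Localization.Away g), ← IsScalarTower.algebraMap_apply B (Localization.Away g) k,
        ← IsScalarTower.algebraMap_apply k B k]
    haveI : Nontrivial (Localization.Away g) := (algebraMap (Localization.Away g) k).domain_nontrivial
    have h2 := (Algebra.IsStandardSmoothOfRelativeDimension.iff_of_isStandardSmooth
      (R := k) (S := Localization.Away g) (n := n)).1 h1
    rw [Groth.Misc12.RelDim.rank_kaehler_eq (K := k),
      Groth.Misc12.RelDim.finrank_derivation_away k k g (Localization.Away g)] at h2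
    exact_mod_cast h2
  -- all directions are tangent
  let M : Derivation k B k →ₗ[k] (Fin (n + 1) → k) :=
    { toFun := fun D i => D (Ideal.Quotient.mk _ (X i))
      map_add' := fun _ _ => rfl
      map_smul' := fun _ _ => rfl }
  have hM : Function.Bijective M := by
    refine ⟨fun D D' h => Derivation.ext fun b => ?_, fun w => ?_⟩
    · obtain ⟨p, rfl⟩ := Ideal.Quotient.mk_surjective b
      induction p using MvPolynomial.induction_on with
      | C r => exact (D.map_algebraMap r).trans (D'.map_algebraMap r).symm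
      | add p p' hp hp' => rw [map_add, map_add, map_add, hp, hp']
      | mul_X p i hp =>
        rw [map_mul, D.leibniz, D'.leibniz, hp, show D (Ideal.Quotient.mk _ (X i)) = D' (Ideal.Quotient.mk _ (X i)) from
          congrFun h i]
    · let v : Fin (n + 1) → k[ε] := fun i => TrivSqZeroExt.inl (x (j.succAbove i)) + TrivSqZeroExt.inr (w i)
      have hv : j.insertNth (1 : k[ε]) v = fun l => (TrivSqZeroExt.inl (x l) + TrivSqZeroExt.inr (j.insertNth (0 : k) w l) : k[ε]) := by
        funext l
        refine Fin.succAboveCases j ?_ (fun i => ?_) l <;> simp [v, hxj]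
      let ψ : B →ₐ[k] k[ε] := Ideal.Quotient.liftₐ _ (MvPolynomial.aeval v) (by
        intro b hb
        obtain ⟨b, rfl⟩ := Ideal.mem_span_singleton'.1 hb
        rw [map_mul, Groth.Quadric.aeval_affEq, hv, aeval_dual ha, hQx, hpol]
        simp)
      have hψ : ∀ b, (ψ b).fst = algebraMap B k b := fun b => by
        obtain ⟨p, rfl⟩ := Ideal.Quotient.mk_surjective b
        show (MvPolynomial.aeval v p).fst = MvPolynomial.aeval (j.removeNth x) p
        have hh : (TrivSqZeroExt.fstHom k k k).comp (MvPolynomial.aeval v) = MvPolynomial.aeval (j.removeNth x) :=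
          MvPolynomial.algHom_ext fun i => by simp [v, Fin.removeNth_apply]
        exact congr($hh p)
      refine ⟨Groth.Misc12.RelDim.ofDual ψ hψ, funext fun i => ?_⟩
      show (MvPolynomial.aeval v (X i)).snd = w i
      simp [v]
  have := (LinearEquiv.ofBijective M hM).finrank_eq
  rw [hdim, Module.finrank_fin_fun] at this
  omega


end Helpers

/-- Let k be a finite field with q elements, n ≥ 0, and Q a quadratic form in n + 2 variables over k
whose zero scheme X = V(Q) ⊆ P^{n+1}_k is smooth over k of relative dimension n (a smooth quadric of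
dimension n over k). Then the number of k-rational points of X is Σ_{i=0}^{n} q^i if n is odd, and
Σ_{i=0}^{n} q^i + ε q^{n/2} with ε = 1 or ε = -1 if n is even, where ε = 1 exactly when X is split,
i.e. contains a k-rational linear subspace of dimension n/2 (Q vanishes on a subspace of k^{n+2} of
dimension n/2 + 1). -/
theorem result (k : Type u) [Field k] [Fintype k] (n : ℕ) (Q : LefPen.Form (n + 1) k 2)
    [SmoothOfRelativeDimension n ((LefPen.hypIdeal Q).subschemeι ≫ CohB1.ProjSpace.toSpec (n + 1) k)] :
    (Odd n → (SgaExt.pointCount ((LefPen.hypIdeal Q).subschemeι ≫ CohB1.ProjSpace.toSpec (n + 1) k) k : ℤ) =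
      ∑ i ∈ Finset.range (n + 1), (Fintype.card k : ℤ) ^ i) ∧
    (Even n → ∃ ε : ℤ, (ε = 1 ∨ ε = -1) ∧
      (SgaExt.pointCount ((LefPen.hypIdeal Q).subschemeι ≫ CohB1.ProjSpace.toSpec (n + 1) k) k : ℤ) =
        (∑ i ∈ Finset.range (n + 1), (Fintype.card k : ℤ) ^ i) + ε * (Fintype.card k : ℤ) ^ (n / 2) ∧
      (ε = 1 ↔ ∃ W : Submodule k (Fin (n + 1 + 1) → k), Module.finrank k ↥W = n / 2 + 1 ∧
        ∀ w ∈ W, MvPolynomial.eval w Q.1 = 0)) := by
  classical
  obtain ⟨a, ha⟩ := exists_table Q.1 Q.2
  let F := (bil a).toQuadraticMap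
  have hF : ∀ c, MvPolynomial.eval c Q.1 = F c := eval_eq_bil ha
  obtain ⟨hodd, heven⟩ := Groth.Quadric.main (k := k) (n + 1 + 1) F (noSing Q ha) (Module.finrank_fin_fun k)
  set q : ℤ := (Fintype.card k : ℤ) with hq
  have hqn : (Nat.card k : ℤ) = q := by rw [Nat.card_eq_fintype_card]
  have hq2 : 2 ≤ Nat.card k := Finite.one_lt_card
  set P : ℤ := (SgaExt.pointCount ((LefPen.hypIdeal Q).subschemeι ≫ CohB1.ProjSpace.toSpec (n + 1) k) k : ℤ) with hPdef
  have hN : (Nat.card {c : Fin (n + 1 + 1) → k // F c = 0} : ℤ) = (q - 1) * P + 1 := by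
    rw [Nat.card_congr (Equiv.subtypeEquivRight fun c => by rw [← hF]), Groth.Quadric.natCard_zeros_eq Q two_ne_zero,
      hPdef, Groth.Quadric.natCard_points Q, ← hqn]
    push_cast [Nat.cast_sub (by omega : 1 ≤ Nat.card k)]
    ring
  have hgeom : (∑ i ∈ Finset.range (n + 1), q ^ i) * (q - 1) = q ^ (n + 1) - 1 := geom_sum_mul q (n + 1)
  have hne : q * (q - 1) ≠ 0 := by
    have : (2 : ℤ) ≤ q := by rw [← hqn]; exact_mod_cast hq2
    exact mul_ne_zero (by omega) (by omega)
  simp only [hqn, hN] at hodd heven
  refine ⟨fun ho => ?_, fun he => ?_⟩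
  · have h := hodd (by rw [Nat.odd_iff] at ho ⊢; omega)
    refine mul_left_cancel₀ hne ?_
    linear_combination h - q * hgeom
  · have h2 : n = 2 * (n / 2) := by rw [Nat.even_iff] at he; omega
    obtain ⟨e, he', hc, hiff⟩ := heven (n / 2 + 1) (by omega)
    refine ⟨e, he', mul_left_cancel₀ hne ?_, hiff.trans ?_⟩
    · linear_combination hc - q * hgeom
    · simp only [hF]

end Groth.Agent.S4039
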