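import Groth.Statements.S4058
import Groth.Agent.S19653
import Groth.Agent.S17449

set_option backward.isDefEq.respectTransparency false

set_option autoImplicit false
universe u
open CategoryTheory CategoryTheory.Limits AlgebraicGeometry MonObj
open SGA7

namespace Groth.Agent.S4058

/-- (iii) ⇒ (iv): let R be a discrete valuation ring with fraction field K and residue field k, and N a
group scheme over Spec R which is a Néron model of its generic fibre, an abelian variety over K. If
the special fibre N ×_R k is proper over k, then N is proper over Spec R. (In (iii) as published the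
special fibre is an abelian variety; connectedness of the special fibre is not assumed here.) -/
theorem result (R K : Type u) [CommRing R] [IsDomain R] [IsDiscreteValuationRing R] [Field K]
    [Algebra R K] [IsFractionRing R K]
    (N : Over (Spec (CommRingCat.of R))) [GrpObj N] (hN : SGA7.IsNeron R K N)
    [IsProper ((SGA7.genFib R K).obj N).hom] [GeometricallyIntegral ((SGA7.genFib R K).obj N).hom]
    [IsProper (Red.bc (Spec.map (CommRingCat.ofHom (IsLocalRing.residue R))) N).hom] :
    IsProper N.hom := by
  obtain ⟨hs, hsep, hqc, -⟩ := hN
  haveI := hs; haveI := hsep; haveI := hqc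
  let S := Spec (CommRingCat.of R)
  let x : S := IsLocalRing.closedPoint R
  -- closed fibre
  let r : Spec (CommRingCat.of (IsLocalRing.ResidueField R)) ⟶ S :=
    Spec.map (CommRingCat.ofHom (IsLocalRing.residue R))
  haveI : IsClosedImmersion r :=
    IsClosedImmersion.spec_of_surjective _ (IsLocalRing.residue_surjective (R := R))
  obtain ⟨⟨z, c⟩, hc⟩ := (Scheme.SpecToEquivOfField (IsLocalRing.ResidueField R) S).symm.surjective r
  have hc' : Spec.map c ≫ S.fromSpecResidueField z = r := hc
  have hz : z = x := by
    have h2 : z = r.base (IsLocalRing.closedPoint _) := by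
      rw [← hc']
      show z = S.fromSpecResidueField z _
      rw [Scheme.fromSpecResidueField_apply]
    rw [h2]
    refine PrimeSpectrum.ext ?_
    show (IsLocalRing.maximalIdeal (IsLocalRing.ResidueField R)).comap (IsLocalRing.residue R) =
      IsLocalRing.maximalIdeal R
    rw [IsLocalRing.maximalIdeal_eq_bot, ← RingHom.ker_eq_comap_bot, IsLocalRing.ker_residue]
  subst hz
  haveI : IsIso (Spec.map c) := by
    haveI : IsClosedImmersion (Spec.map c ≫ S.fromSpecResidueField x) := hc'.symm ▸ inferInstance
    haveI : IsClosedImmersion (Spec.map c) :=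
      IsClosedImmersion.of_comp (Spec.map c) (S.fromSpecResidueField x)
    haveI : Surjective (Spec.map c) := ⟨fun p => ⟨Classical.arbitrary _, Subsingleton.elim _ _⟩⟩
    exact isIso_of_isClosedImmersion_of_surjective _
  haveI : IsProper (N.hom.fiberToSpecResidueField x) := by
    have h1 : IsProper (pullback.snd N.hom r) := ‹IsProper (Red.bc r N).hom›
    rw [← hc', ← Groth.Agent.S17449.comp_iff @IsProper] at h1
    have hsq := IsPullback.of_hasPullback (pullback.snd N.hom (S.fromSpecResidueField x)) (Spec.map c)
    haveI := hsq.isIso_fst_of_isIso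
    have h2 : IsProper (pullback.fst _ _ ≫ pullback.snd N.hom (S.fromSpecResidueField x) :
      pullback (pullback.snd N.hom (S.fromSpecResidueField x)) (Spec.map c) ⟶ _) := by
      rw [pullback.condition]
      haveI := h1
      infer_instance
    exact (MorphismProperty.cancel_left_of_respectsIso @IsProper _ _).1 h2
  haveI : Nonempty ↥(N.hom.fiber x) := by
    have h : x ∈ Set.range N.hom.base := by
      refine ⟨η[N].left.base x, ?_⟩
      have hw : η[N].left ≫ N.hom = 𝟙 S := Over.w η[N]
      exact (congrArg (fun g : S ⟶ S => g.base x) hw)
    obtain ⟨p, hp⟩ := h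
    obtain ⟨a, -⟩ := (N.hom.range_fiberι x).ge (show p ∈ N.hom ⁻¹' {x} from hp)
    exact ⟨a⟩
  haveI : GeometricallyConnected (N.hom.fiberToSpecResidueField (genericPoint ↥S)) := by
    let j : Spec (CommRingCat.of K) ⟶ S := Spec.map (CommRingCat.ofHom (algebraMap R K))
    obtain ⟨⟨w, d⟩, hd⟩ := (Scheme.SpecToEquivOfField K S).symm.surjective j
    have hd' : Spec.map d ≫ S.fromSpecResidueField w = j := hd
    have hw : genericPoint ↥S = w := by
      have h2 : w = j.base (IsLocalRing.closedPoint _) := by
        rw [← hd']
        show w = S.fromSpecResidueField w _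
        rw [Scheme.fromSpecResidueField_apply]
      rw [h2, genericPoint_eq_bot_of_affine]
      refine PrimeSpectrum.ext ?_
      show (⊥ : Ideal R) = (IsLocalRing.maximalIdeal K).comap (algebraMap R K)
      rw [IsLocalRing.maximalIdeal_eq_bot, ← RingHom.ker_eq_comap_bot,
        (RingHom.injective_iff_ker_eq_bot _).1 (IsFractionRing.injective R K)]
    rw [hw]
    haveI : Surjective (Spec.map d) := ⟨fun p => ⟨Classical.arbitrary _, Subsingleton.elim _ _⟩⟩
    apply Groth.FBaseGeom.geometricallyConnected_of_pullback_snd _ (Spec.map d)
    show GeometricallyConnected (pullback.snd (pullback.snd N.hom (S.fromSpecResidueField w)) (Spec.map d))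
    rw [Groth.Agent.S17449.comp_iff @GeometricallyConnected, hd']
    rw [GeometricallyConnected.eq_geometrically]
    intro F _ y Z fst snd hsq
    haveI : GeometricallyIntegral (pullback.snd N.hom j) :=
      ‹GeometricallyIntegral ((SGA7.genFib R K).obj N).hom›
    haveI : IsIntegral Z := GeometricallyIntegral.geometrically_isIntegral _ _ _ hsq
    infer_instance
  exact (Groth.Agent.S19653.result R N.left N.hom).1

end Groth.Agent.S4058
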