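import Groth.Statements.S4062
import Groth.Agent.SGA7.PadicUnipotent
import Groth.Agent.SGA7.Inertia
import Groth.Agent.SGA7.GLPadic
import Mathlib.RingTheory.RootsOfUnity.AlgebraicallyClosed

set_option autoImplicit false
universe u
open CategoryTheory CategoryTheory.Limits AlgebraicGeometry MonObj
open SGA7

namespace Groth.Agent.S4062

/-- Let R be a henselian discrete valuation ring with fraction field K and residue field k, λ a prime
invertible in k, Ω a separable closure of K (Aut_K(Ω) carries the Krull topology), W a valuation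
subring of Ω lying over R, and ρ a continuous homomorphism from Aut_K(Ω) to GL_n(ℚ_λ). Assume that
no finite extension of k contains all roots of unity of λ-power order (for every finite extension k'
there is some λ^m such that k' has no primitive λ^m-th root of unity). Then there is an open
subgroup I₁ of Aut_K(Ω) such that ρ(σ) is unipotent for every σ in I₁ lying in the inertia group at
W. -/
theorem result (R K Ω : Type u) [CommRing R] [IsDomain R]
    [IsDiscreteValuationRing R] [HenselianLocalRing R] [Field K] [Algebra R K] [IsFractionRing R K]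
    [Field Ω] [Algebra K Ω] [IsSepClosure K Ω] (W : ValuationSubring Ω) (hW : SGA7.LiesOver K R W)
    (lam : ℕ) [Fact lam.Prime] (hlam : (lam : IsLocalRing.ResidueField R) ≠ 0)
    (hstar : ∀ (k' : Type u) [Field k'] [Algebra (IsLocalRing.ResidueField R) k'],
      FiniteDimensional (IsLocalRing.ResidueField R) k' → ∃ m : ℕ, ∀ ζ : k', ¬ IsPrimitiveRoot ζ (lam ^ m))
    (n : ℕ) (ρ : (Ω ≃ₐ[K] Ω) →* Matrix.GeneralLinearGroup (Fin n) (Padic lam)) (hρ : Continuous ρ) :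
    ∃ I₁ : OpenSubgroup (Ω ≃ₐ[K] Ω), ∀ σ : Ω ≃ₐ[K] Ω, σ ∈ I₁ → SGA7.IsInertia W σ →
      IsNilpotent ((ρ σ : Matrix (Fin n) (Fin n) (Padic lam)) - 1) := by
  classical
  letI : Algebra R Ω := ((algebraMap K Ω).comp (algebraMap R K)).toAlgebra
  haveI : IsScalarTower R K Ω := IsScalarTower.of_algebraMap_eq fun _ => rfl
  haveI : Algebra.IsSeparable K Ω := IsSepClosure.separable
  haveI : IsSepClosed Ω := IsSepClosure.sep_closed K
  have hl0 : 0 < lam := (Fact.out : lam.Prime).pos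
  have hlamΩ : (lam : Ω) ≠ 0 := fun h => hlam (by
    have : (lam : R) = 0 := IsFractionRing.injective R K ((algebraMap K Ω).injective (by simpa using h))
    rw [← map_natCast (IsLocalRing.residue R), this, map_zero])
  have hroot : ∀ k, ∃ ζ : Ω, IsPrimitiveRoot ζ (lam ^ k) := fun k => by
    haveI : NeZero ((lam ^ k : ℕ) : Ω) := ⟨by push_cast; exact pow_ne_zero _ hlamΩ⟩
    exact HasEnoughRootsOfUnity.exists_primitiveRoot Ω (lam ^ k)
  obtain ⟨ζ2, hζ2⟩ := hroot 2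
  haveI : FiniteDimensional K (IntermediateField.adjoin K {ζ2}) :=
    IntermediateField.adjoin.finiteDimensional (Algebra.IsIntegral.isIntegral ζ2)
  let I₀ : Subgroup (Ω ≃ₐ[K] Ω) := (Groth.SGA7.GLPadic.cong 2).comap ρ ⊓ (IntermediateField.adjoin K {ζ2}).fixingSubgroup
  have hI₀open : IsOpen (I₀ : Set (Ω ≃ₐ[K] Ω)) :=
    ((Groth.SGA7.GLPadic.isOpen_cong two_pos).preimage hρ).inter (IntermediateField.fixingSubgroup_isOpen _)
  let F : IntermediateField K Ω := IntermediateField.fixedField I₀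
  have hFfix : F.fixingSubgroup = I₀ :=
    InfiniteGalois.fixingSubgroup_fixedField ⟨I₀, Subgroup.isClosed_of_isOpen _ hI₀open⟩
  haveI : FiniteDimensional K F := (InfiniteGalois.isOpen_iff_finite F).mp (hFfix.symm ▸ hI₀open)
  obtain ⟨m, hm⟩ := Groth.SGA7.HenselVal.exists_bound_roots (R := R) F lam hlam hstar
  obtain ⟨ζ, hζ⟩ := hroot m
  obtain ⟨g, hg, hgζ⟩ : ∃ g ∈ I₀, g ζ ≠ ζ := by
    by_contra h
    push Not at h
    exact hm ζ ((IntermediateField.mem_fixedField_iff I₀ ζ).mpr h) hζ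
  refine ⟨⟨I₀, hI₀open⟩, fun σ hσ hin => ?_⟩
  obtain ⟨Xg, -, hXg⟩ := (Subgroup.mem_inf.mp hg).1
  obtain ⟨Xσ, hXσ2, hXσ⟩ := (Subgroup.mem_inf.mp hσ).1
  rw [← hXσ]
  suffices h : IsNilpotent ((Xσ : Matrix (Fin n) (Fin n) ℤ_[lam]) - 1) by
    have h' := h.map ((PadicInt.Coe.ringHom (p := lam)).mapMatrix : Matrix (Fin n) (Fin n) ℤ_[lam] →+* _)
    rw [map_sub, map_one] at h'
    exact h'
  refine Groth.SGA7.PadicUni.isNilpotent_sub_one _ ?_ m fun M => ?_
  · have := congrArg (fun g : GL (Fin n) (ZMod (lam ^ 2)) => (g : Matrix (Fin n) (Fin n) (ZMod (lam ^ 2)))) (MonoidHom.mem_ker.mp hXσ2)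
    exact this
  set k := max M (max m 2) with hk
  obtain ⟨ζk, hζk⟩ := hroot k
  haveI : NeZero (lam ^ k) := ⟨(pow_pos hl0 k).ne'⟩
  obtain ⟨a, -, ha⟩ := hζk.eq_pow_of_pow_eq_one (ξ := g ζk) (by rw [← map_pow, hζk.pow_eq_one, map_one])
  have hsub : ∀ j ≤ k, IsPrimitiveRoot (ζk ^ lam ^ (k - j)) (lam ^ j) := fun j hj =>
    hζk.pow (pow_pos hl0 k) (by rw [← pow_add, Nat.sub_add_cancel hj])
  have hact : ∀ j, g (ζk ^ lam ^ j) = (ζk ^ lam ^ j) ^ a := fun j => by rw [map_pow, ← ha, pow_right_comm]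
  refine ⟨a, Xg, ?_, ?_, ?_⟩
  · have h2 := hsub 2 (le_trans (le_max_right m 2) (le_max_right _ _))
    haveI : NeZero (lam ^ 2) := ⟨(pow_pos hl0 2).ne'⟩
    obtain ⟨i, -, hi⟩ := hζ2.eq_pow_of_pow_eq_one h2.pow_eq_one
    have hfix : g (ζk ^ lam ^ (k - 2)) = ζk ^ lam ^ (k - 2) := by
      rw [← hi, map_pow, (IntermediateField.mem_fixingSubgroup_iff _ g).mp (Subgroup.mem_inf.mp hg).2 ζ2
        (IntermediateField.mem_adjoin_simple_self K ζ2)]
    rw [hact] at hfix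
    have := (isOfFinOrder_iff_pow_eq_one.mpr ⟨lam ^ 2, pow_pos hl0 2, h2.pow_eq_one⟩).pow_eq_pow_iff_modEq.mp
      (hfix.trans (pow_one _).symm)
    rw [← h2.eq_orderOf] at this
    exact_mod_cast (ZMod.natCast_eq_natCast_iff _ _ _).mpr this
  · intro ha1
    have hmk : m ≤ k := le_trans (le_max_left m 2) (le_max_right _ _)
    have h2 := hsub m hmk
    haveI : NeZero (lam ^ m) := ⟨(pow_pos hl0 m).ne'⟩
    obtain ⟨i, -, hi⟩ := h2.eq_pow_of_pow_eq_one hζ.pow_eq_one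
    apply hgζ
    rw [← hi, map_pow, hact]
    congr 1
    nth_rewrite 2 [← pow_one (ζk ^ lam ^ (k - m))]
    rw [(isOfFinOrder_iff_pow_eq_one.mpr ⟨lam ^ m, pow_pos hl0 m, h2.pow_eq_one⟩).pow_eq_pow_iff_modEq, ← h2.eq_orderOf]
    exact (ZMod.natCast_eq_natCast_iff _ _ _).mp (by simpa using ha1)
  -- the finite level
  let N : Subgroup (Ω ≃ₐ[K] Ω) := (Groth.SGA7.GLPadic.cong k).comap ρ ⊓ I₀
  have hkpos : 0 < k := lt_of_lt_of_le two_pos (le_trans (le_max_right m 2) (le_max_right _ _))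
  have hNopen : IsOpen (N : Set (Ω ≃ₐ[K] Ω)) := ((Groth.SGA7.GLPadic.isOpen_cong hkpos).preimage hρ).inter hI₀open
  let L : IntermediateField K Ω := IntermediateField.fixedField N
  have hLfix : L.fixingSubgroup = N :=
    InfiniteGalois.fixingSubgroup_fixedField ⟨N, Subgroup.isClosed_of_isOpen _ hNopen⟩
  have hnorm : ∀ τ ∈ I₀, ∀ ν ∈ N, τ⁻¹ * ν * τ ∈ N := by
    intro τ hτ ν hν
    obtain ⟨hν1, hν2⟩ := Subgroup.mem_inf.mp hν
    refine Subgroup.mem_inf.mpr ⟨?_, mul_mem (mul_mem (inv_mem hτ) hν2) hτ⟩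
    obtain ⟨Xt, -, hXt⟩ := (Subgroup.mem_inf.mp hτ).1
    obtain ⟨Xn, hXn, hXnρ⟩ := hν1
    refine ⟨Xt⁻¹ * Xn * Xt, ?_, ?_⟩
    · rw [SetLike.mem_coe, MonoidHom.mem_ker, map_mul, map_mul, MonoidHom.mem_ker.mp hXn, map_inv, _root_.mul_one, inv_mul_cancel]
    · rw [map_mul, map_mul, map_inv, hXt, hXnρ, map_mul, map_mul, map_inv]
  have hL : ∀ τ ∈ I₀, ∀ x ∈ L, τ x ∈ L := by
    intro τ hτ x hx
    rw [IntermediateField.mem_fixedField_iff] at hx ⊢
    intro ν hν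
    have h := congrArg τ (hx _ (hnorm τ hτ ν hν))
    simp only [AlgEquiv.mul_apply] at h
    rwa [← AlgEquiv.mul_apply τ τ⁻¹, mul_inv_cancel, AlgEquiv.one_apply] at h
  have hpow : ∀ τ ∈ I₀, ∀ x ∈ L, (τ ^ lam ^ k) x = x := by
    intro τ hτ x hx
    refine (IntermediateField.mem_fixedField_iff _ x).mp hx _ (Subgroup.mem_inf.mpr ⟨?_, pow_mem hτ _⟩)
    obtain ⟨Xt, hXt2, hXt⟩ := (Subgroup.mem_inf.mp hτ).1
    refine ⟨Xt ^ lam ^ k, Groth.SGA7.GLPadic.red_pow Xt ?_ k, by rw [map_pow, hXt, map_pow]⟩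
    rw [← map_one (Groth.SGA7.GLPadic.red 1), Groth.SGA7.GLPadic.red_eq_iff]
    have h := congrArg (fun g : GL (Fin n) (ZMod (lam ^ 2)) => (g : Matrix (Fin n) (Fin n) (ZMod (lam ^ 2)))) (MonoidHom.mem_ker.mp hXt2)
    ext i j
    have h2 : PadicInt.toZModPow 2 ((Xt : Matrix (Fin n) (Fin n) ℤ_[lam]) i j) = (1 : Matrix (Fin n) (Fin n) (ZMod (lam ^ 2))) i j :=
      congrFun (congrFun h i) j
    have h3 := congrArg (ZMod.castHom (pow_dvd_pow lam one_le_two) (ZMod (lam ^ 1))) h2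
    rw [← RingHom.comp_apply, PadicInt.zmod_cast_comp_toZModPow 1 2 one_le_two] at h3
    simp [h3, Matrix.one_apply, apply_ite (ZMod.castHom (pow_dvd_pow lam one_le_two) (ZMod (lam ^ 1)))]
  have hfixL := Groth.SGA7.Inertia.conj_inertia hW hlam k I₀ L hL hpow hσ hg hin hζk a ha.symm
  have hmem : g * σ * g⁻¹ * (σ ^ a)⁻¹ ∈ N := by
    rw [← hLfix, IntermediateField.mem_fixingSubgroup_iff]
    exact hfixL
  obtain ⟨Y, hY, hYρ⟩ := (Subgroup.mem_inf.mp hmem).1
  have hYeq : Y = Xg * Xσ * Xg⁻¹ * (Xσ ^ a)⁻¹ := Groth.SGA7.GLPadic.ι_injective (by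
    rw [hYρ]; simp [hXg, hXσ])
  have hred : Groth.SGA7.GLPadic.red k (Xg * Xσ * Xg⁻¹) = Groth.SGA7.GLPadic.red k (Xσ ^ a) := by
    have := MonoidHom.mem_ker.mp hY
    rw [hYeq, map_mul, map_inv] at this
    exact mul_inv_eq_one.mp this
  rw [Groth.SGA7.GLPadic.red_eq_iff] at hred
  have h := congrArg (fun A : Matrix (Fin n) (Fin n) (ZMod (lam ^ k)) =>
    A.map (ZMod.castHom (pow_dvd_pow lam (le_max_left M (max m 2))) (ZMod (lam ^ M)))) hred
  simp only [Matrix.map_map, ← RingHom.coe_comp] at h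
  rw [PadicInt.zmod_cast_comp_toZModPow M k (le_max_left M (max m 2))] at h
  simpa using h

end Groth.Agent.S4062
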