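import Groth.Statements.S4064
import Groth.Agent.SGA7.Ext1

set_option autoImplicit false
universe w v v'
open CategoryTheory CategoryTheory.Abelian
open SGA7

namespace Groth.Agent.S4064

/-- Let P -> F -> R and R -> E -> Q be short exact sequences in an abelian category (F an extension of R
by P, E an extension of Q by R). A blended extension of E by F is an object X with a monomorphism i
: F -> X and an epimorphism p : X -> E such that P -> X -> E (via i) and F -> X -> Q (via p) are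
short exact and F -> X -> E is the composite F -> R -> E. Such an X exists if and only if the
composite of the two extension classes, an element of Ext^2(Q, P), is zero. -/
theorem result {C : Type w} [Category.{v} C] [Abelian C]
    [HasExt.{v'} C] {P F R E Q : C} (a : P ⟶ F) (b : F ⟶ R) (wF : a ≫ b = 0)
    (hF : (ShortComplex.mk a b wF).ShortExact) (c : R ⟶ E) (d : E ⟶ Q) (wE : c ≫ d = 0)
    (hE : (ShortComplex.mk c d wE).ShortExact) :
    (∃ (X : C) (i : F ⟶ X) (p : X ⟶ E), i ≫ p = b ≫ c ∧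
        (∃ w : (a ≫ i) ≫ p = 0, (ShortComplex.mk (a ≫ i) p w).ShortExact) ∧
        (∃ w : i ≫ (p ≫ d) = 0, (ShortComplex.mk i (p ≫ d) w).ShortExact)) ↔
      hE.extClass.comp hF.extClass (rfl : 1 + 1 = 2) = 0 := by
  constructor
  · rintro ⟨X, i, p, hip, ⟨w, hP⟩, -⟩
    let φ : ShortComplex.mk a b wF ⟶ ShortComplex.mk (a ≫ i) p w :=
      { τ₁ := 𝟙 P, τ₂ := i, τ₃ := c, comm₁₂ := (Category.id_comp _), comm₂₃ := hip }
    have hn := ShortComplex.ShortExact.extClass_naturality hF hP φ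
    rw [Ext.comp_mk₀_id] at hn
    rw [hn]
    exact hE.extClass_comp_assoc _
  · intro he
    have hmono : Mono a := hF.mono_f
    have hepi : Epi b := hF.epi_g
    have hmonoc : Mono c := hE.mono_f
    have hepid : Epi d := hE.epi_g
    obtain ⟨g, hg⟩ := Ext.contravariant_sequence_exact₁ hE P hF.extClass (rfl : 1 + 1 = 2) he
    obtain ⟨X, j, p, wX, hX, rfl⟩ := Groth.SGA7.Ext1.exists_shortExact_extClass_eq g
    have hmonoj : Mono j := hX.mono_f
    have hepip : Epi p := hX.epi_g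
    -- lift `b ≫ c` to `X`
    obtain ⟨i₁, hi₁⟩ := Ext.covariant_sequence_exact₃ (X := F) hX (Ext.mk₀ (b ≫ c)) (rfl : 0 + 1 = 1) (by
      rw [← Ext.mk₀_comp_mk₀_assoc, hg]
      exact hF.comp_extClass)
    obtain ⟨i₀, rfl⟩ : ∃ i₀, Ext.mk₀ i₀ = i₁ := (Ext.mk₀_bijective _ _).2 i₁
    have hi₀ : i₀ ≫ p = b ≫ c := (Ext.mk₀_bijective _ _).1 (by simpa using hi₁)
    have haz : (a ≫ i₀) ≫ p = 0 := by rw [Category.assoc, hi₀, reassoc_of% wF, Limits.zero_comp]
    let t : P ⟶ P := hX.exact.lift (a ≫ i₀) haz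
    have ht : t ≫ j = a ≫ i₀ := hX.exact.lift_f _ _
    let φ : ShortComplex.mk a b wF ⟶ ShortComplex.mk j p wX :=
      { τ₁ := t, τ₂ := i₀, τ₃ := c, comm₁₂ := ht, comm₂₃ := hi₀ }
    have hn := ShortComplex.ShortExact.extClass_naturality hF hX φ
    have hz : hF.extClass.comp (Ext.mk₀ (t - 𝟙 P)) (add_zero 1) = 0 := by
      have hsub : Ext.mk₀ (t - 𝟙 P) = Ext.mk₀ t - Ext.mk₀ (𝟙 P) :=
        map_sub (AddMonoidHom.mk' (fun f : P ⟶ P => Ext.mk₀ f) fun x y => Ext.mk₀_add x y) t (𝟙 P)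
      rw [hsub, sub_eq_add_neg, Ext.comp_add, hn, Ext.comp_neg, Ext.comp_mk₀_id, ← sub_eq_add_neg, sub_eq_zero]
      exact hg
    obtain ⟨s₁, hs₁⟩ := Ext.contravariant_sequence_exact₁ hF P (Ext.mk₀ (t - 𝟙 P)) (rfl : 1 + 0 = 1) hz
    obtain ⟨s, rfl⟩ : ∃ s, Ext.mk₀ s = s₁ := (Ext.mk₀_bijective _ _).2 s₁
    have hs : a ≫ s = t - 𝟙 P := (Ext.mk₀_bijective _ _).1 (by simpa using hs₁)
    let i : F ⟶ X := i₀ - s ≫ j
    have hip : i ≫ p = b ≫ c := by
      simp only [i, Preadditive.sub_comp, Category.assoc, wX, Limits.comp_zero, sub_zero, hi₀]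
    have hai : a ≫ i = j := by
      simp only [i, Preadditive.comp_sub, ← Category.assoc, hs, ← ht, Preadditive.sub_comp, Category.id_comp,
        sub_sub_cancel]
    have wQ : i ≫ p ≫ d = 0 := by rw [reassoc_of% hip, wE, Limits.comp_zero]
    have hmi : Mono i := by
      refine Preadditive.mono_of_cancel_zero _ fun {W} u hu => ?_
      have hub : u ≫ b = 0 := by
        rw [← cancel_mono c, Category.assoc, ← hip, reassoc_of% hu, Limits.zero_comp, Limits.zero_comp]
      have hw := hF.exact.lift_f u hub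
      dsimp at hw
      rw [← hw, Category.assoc, hai] at hu
      rw [← hw, (Preadditive.mono_iff_cancel_zero j).mp hmonoj _ _ hu, Limits.zero_comp]
    refine ⟨X, i, p, hip, ⟨by rw [hai, wX], ?_⟩, ⟨wQ, ?_⟩⟩
    · convert hX using 3
    · haveI : Mono (ShortComplex.mk i (p ≫ d) wQ).f := hmi
      haveI : Epi (ShortComplex.mk i (p ≫ d) wQ).g := epi_comp p d
      refine ShortComplex.ShortExact.mk ?_
      rw [ShortComplex.exact_iff_exact_up_to_refinements]
      intro W x hx
      dsimp at x hx ⊢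
      obtain ⟨W₁, π₁, hπ₁, u, hu⟩ := hE.exact.exact_up_to_refinements (x ≫ p) (by simpa using hx)
      dsimp at u hu
      obtain ⟨W₂, π₂, hπ₂, v, hv⟩ := surjective_up_to_refinements_of_epi b u
      have hk : ((π₂ ≫ π₁) ≫ x - v ≫ i) ≫ p = 0 := by
        rw [Preadditive.sub_comp, Category.assoc v, hip, Category.assoc, Category.assoc, hu, reassoc_of% hv,
          sub_self]
      have hw := hX.exact.lift_f _ hk
      dsimp at hw
      refine ⟨W₂, π₂ ≫ π₁, epi_comp _ _, v + hX.exact.lift _ hk ≫ a, ?_⟩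
      rw [Preadditive.add_comp, Category.assoc (hX.exact.lift _ hk) a i, hai]
      erw [hw]
      exact (add_sub_cancel _ _).symm

end Groth.Agent.S4064
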