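import Groth.Statements.S4070
import Groth.Agent.SGA7.ComponentGroup

set_option autoImplicit false
universe u
open CategoryTheory CategoryTheory.Limits AlgebraicGeometry MonObj
open MonoidalCategory
open SGA7

namespace Groth.Agent.S4070

/-- Let R be a strictly henselian discrete valuation ring (henselian, separably closed residue field)
with fraction field K and N a group scheme over Spec R which is a Néron model of its generic fibre,
an abelian variety A over K, so that sections of N over Spec R are the K-points of A. Then the
special fibre of N has finitely many connected components, every one of them is met by a section,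
and two sections x, y meet the same connected component if and only if x · y⁻¹ meets the connected
component of the unit section: the component group of the special fibre is A(K) modulo the subgroup
of points reducing into the identity component. -/
theorem result (R K : Type u) [CommRing R] [IsDomain R] [IsDiscreteValuationRing R] [HenselianLocalRing R]
    [IsSepClosed (IsLocalRing.ResidueField R)] [Field K] [Algebra R K] [IsFractionRing R K]
    (N : Over (Spec (CommRingCat.of R))) [GrpObj N] (hN : SGA7.IsNeron R K N)
    [IsProper ((SGA7.genFib R K).obj N).hom] [GeometricallyIntegral ((SGA7.genFib R K).obj N).hom] :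
    (Set.range (SGA7.secComp R N)).Finite ∧
    (∀ z ∈ SGA7.specialFibreSet R N, ∃ x : 𝟙_ (Over (Spec (CommRingCat.of R))) ⟶ N, z ∈ SGA7.secComp R N x) ∧
      ∀ x y : 𝟙_ (Over (Spec (CommRingCat.of R))) ⟶ N,
        SGA7.secComp R N x = SGA7.secComp R N y ↔ x * y⁻¹ ∈ SGA7.secUnitComp R N := by
  obtain ⟨hsm, -, hqc, -⟩ := hN
  have := hsm
  have := hqc
  have := Groth.SGA7.ComponentGroup.noetherianSpace N
  refine ⟨(Groth.SGA7.ComponentGroup.finite_components (SGA7.specialFibreSet R N)).subset ?_,
    fun z hz => Groth.SGA7.ComponentGroup.exists_section N hz, Groth.SGA7.ComponentGroup.secComp_eq_iff N⟩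
  rintro _ ⟨x, rfl⟩
  exact ⟨_, Groth.SGA7.ComponentGroup.section_mem N x, rfl⟩

end Groth.Agent.S4070
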