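import Groth.Statements.S4071
import Groth.Agent.NeronArea.DivisibleIdentity
import Groth.Agent.NeronArea.Mapping


set_option autoImplicit false
universe u
open CategoryTheory CategoryTheory.Limits AlgebraicGeometry MonObj
open MonoidalCategory
open SGA7

namespace Groth.Agent.S4071

/-- Let R be a strictly henselian discrete valuation ring with fraction field K, N a group scheme over
Spec R which is a Néron model of its generic fibre, an abelian variety A over K, and n an integer
invertible in the residue field of R. If x is a section of N (a K-point of A) whose n-th power meets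
the connected component of the unit section in the special fibre, then there is a section y with y^n
= 1 such that x · y⁻¹ meets the connected component of the unit section: the n-torsion of the
component group is the image of the n-torsion of A(K). -/
theorem result (R K : Type u) [CommRing R] [IsDomain R] [IsDiscreteValuationRing R] [HenselianLocalRing R]
    [IsSepClosed (IsLocalRing.ResidueField R)] [Field K] [Algebra R K] [IsFractionRing R K]
    (N : Over (Spec (CommRingCat.of R))) [GrpObj N] (hN : SGA7.IsNeron R K N)
    [IsProper ((SGA7.genFib R K).obj N).hom] [GeometricallyIntegral ((SGA7.genFib R K).obj N).hom]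
    (n : ℕ) (hn : (n : IsLocalRing.ResidueField R) ≠ 0)
    (x : 𝟙_ (Over (Spec (CommRingCat.of R))) ⟶ N) (hx : x ^ n ∈ SGA7.secUnitComp R N) :
    ∃ y : 𝟙_ (Over (Spec (CommRingCat.of R))) ⟶ N, y ^ n = 1 ∧ x * y⁻¹ ∈ SGA7.secUnitComp R N := by
  obtain ⟨hsm, hsep, hqc, hmap⟩ := hN
  haveI := hsm; haveI := hsep; haveI := hqc
  let F := SGA7.genFib R K
  haveI hcK : IsCommMonObj (F.obj N) :=
    AlgebraicGeometry.isCommMonObj_of_isProper_of_geometricallyIntegral (F.obj N)
  haveI : IsCommMonObj N := by
    refine ⟨(hmap (N ⊗ N) (Groth.NeronArea.smooth_tensor N N)).1 ?_⟩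
    show F.map _ = F.map _
    rw [Functor.map_comp, ← cancel_epi (Functor.LaxMonoidal.μ F N N), Functor.LaxBraided.braided_assoc]
    exact hcK.mul_comm
  have hnR : IsUnit (n : R) := by
    refine (IsLocalRing.residue_ne_zero_iff_isUnit _).1 ?_
    rwa [map_natCast]
  obtain ⟨z, hz, hzx⟩ := Groth.NeronArea.Divisible.exists_root N n hnR (x ^ n) hx
  refine ⟨x * z⁻¹, by rw [mul_pow, inv_pow, hzx, mul_inv_cancel], ?_⟩
  rw [_root_.mul_inv_rev, _root_.inv_inv, mul_comm z, ← _root_.mul_assoc, mul_inv_cancel, _root_.one_mul]
  exact hz

end Groth.Agent.S4071
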