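import Groth.Statements.S4075
import Groth.Agent.SGA7.FixedPart

set_option autoImplicit false
universe u
open CategoryTheory CategoryTheory.Limits AlgebraicGeometry MonObj
open SGA7

namespace Groth.Agent.S4075

/-- Let R be a henselian discrete valuation ring with fraction field K, Ω a separable closure of K, W a
valuation subring of Ω lying over R, N a group scheme over Spec R which is a Néron model of its
generic fibre A = N_K, an abelian variety, and m an integer invertible in the residue field. For an
m-torsion Ω-point x of A, the inertia group at W fixes x if and only if the point of N underlying x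
specialises to a point of the special fibre of N (x factors through the finite part of the m-torsion
of N): the fixed part of the m-torsion is the inertia invariants. -/
theorem result (R K Ω : Type u) [CommRing R] [IsDomain R]
    [IsDiscreteValuationRing R] [HenselianLocalRing R] [Field K] [Algebra R K] [IsFractionRing R K]
    [Field Ω] [Algebra K Ω] [IsSepClosure K Ω] (W : ValuationSubring Ω) (hW : SGA7.LiesOver K R W)
    (N : Over (Spec (CommRingCat.of R))) [GrpObj N] (hN : SGA7.IsNeron R K N)
    [IsProper ((SGA7.genFib R K).obj N).hom] [GeometricallyIntegral ((SGA7.genFib R K).obj N).hom]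
    (m : ℕ) (hm : (m : IsLocalRing.ResidueField R) ≠ 0)
    (x : SGA7.Pts Ω ((SGA7.genFib R K).obj N)) (hx : x ^ m = 1) :
    (∀ σ : Ω ≃ₐ[K] Ω, SGA7.IsInertia W σ → SGA7.galAct σ x = x) ↔
      ∃ z ∈ SGA7.specialFibreSet R N,
        (x.left ≫ pullback.fst N.hom (Spec.map (CommRingCat.ofHom (algebraMap R K)))).base
          (IsLocalRing.closedPoint Ω) ⤳ z := by
  have : IsGalois K Ω := IsSepClosure.isGalois
  obtain ⟨hsm, hsep, hqc, -⟩ := id hN
  have := hsm
  have := hsep
  exact ⟨fun h => Groth.SGA7.FixedPart.specializes_of_fixed W hW N hN x h,
    fun ⟨z, hz, hsp⟩ σ hσ => Groth.SGA7.FixedPart.fixed_of_specializes W hW N m hm x hx hz hsp σ hσ⟩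

end Groth.Agent.S4075
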