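import Groth.Statements.S4089
import Groth.Agent.GrpQDense.Main

set_option autoImplicit false
universe u
open CategoryTheory MonoidalCategory CartesianMonoidalCategory MonObj GrpObj AlgebraicGeometry CategoryTheory.Limits
open GrpQ

namespace Groth.Agent.S4089

/-- Let S be noetherian and (U, R, s, t, c) a groupoid scheme over S with s flat and of finite type, U
of finite type over S, and j = (t, s) quasi-finite. Then there is a dense open W of U which is
saturated (t⁻¹(W) = s⁻¹(W)) such that the induced pair t|, s| : s⁻¹(W) ⇉ W has a coequalizer p : W →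
V in schemes with V → S of finite presentation; p is surjective, open and of finite presentation;
s⁻¹(W) → W ×_V W is surjective; and if j is a monomorphism, s⁻¹(W) ≅ W ×_V W and p is faithfully
flat. -/
theorem result (S : Scheme.{u}) [IsNoetherian S] (G : Grpd.GroupoidScheme S)
    [Flat G.s] [LocallyOfFiniteType G.s] [QuasiCompact G.s] [LocallyOfFiniteType G.pU] [QuasiCompact G.pU]
    [LocallyQuasiFinite G.j] [LocallyOfFiniteType G.j] :
    ∃ (W : G.U.Opens) (hW : G.t ⁻¹ᵁ W = G.s ⁻¹ᵁ W), Dense (W : Set G.U) ∧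
      ∃ (V : Scheme.{u}) (p : (W : Scheme.{u}) ⟶ V)
        (w : G.t.resLE W (G.s ⁻¹ᵁ W) hW.ge ≫ p = (G.s ∣_ W) ≫ p) (q : V ⟶ S),
        Nonempty (IsColimit (Cofork.ofπ p w)) ∧ p ≫ q = W.ι ≫ G.pU ∧
        Surjective p ∧ IsOpenMap p.base ∧ LocallyOfFinitePresentation p ∧
        LocallyOfFinitePresentation q ∧ QuasiCompact q ∧ QuasiSeparated q ∧
        Function.Surjective (pullback.lift (G.t.resLE W (G.s ⁻¹ᵁ W) hW.ge) (G.s ∣_ W) w).base ∧
        (Mono G.j → IsPullback (G.t.resLE W (G.s ⁻¹ᵁ W) hW.ge) (G.s ∣_ W) p p ∧ Flat p) := by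
  exact Groth.GrpQDense.main G

end Groth.Agent.S4089
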