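import Groth.Statements.S4096
import Groth.Agent.Calg4.MonoFactor.Over

set_option autoImplicit false
universe u
open CategoryTheory MonoidalCategory CartesianMonoidalCategory MonObj GrpObj AlgebraicGeometry CategoryTheory.Limits
open GrpQ

namespace Groth.Agent.S4096

/-- Let S be noetherian, G an S-group scheme flat and of finite type acting on an S-scheme X of finite
type, d = (d₀, d₁) : G ×_S X → X ×_S X, and F the stabilizer of the diagonal. Then a) d factors as ψ
: G ×_S X → Y surjective, flat and locally of finite presentation followed by a monomorphism τ : Y →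
X ×_S X (Y represents the sheaf image of d) if and only if F is flat over X; b) in that case the two
morphisms Y → X induced by the projections are surjective, flat and of finite presentation. -/
theorem result (S : Scheme.{u}) [IsNoetherian S] (G X : Over S) [GrpObj G]
    [Flat G.hom] [LocallyOfFiniteType G.hom] [QuasiCompact G.hom] [LocallyOfFiniteType X.hom] [QuasiCompact X.hom]
    (a : AlgGrp.Action G X) :
    ((∃ (Y : Over S) (ψ : G ⊗ X ⟶ Y) (τ : Y ⟶ X ⊗ X), ψ ≫ τ = lift a.act (snd G X) ∧
        Surjective ψ.left ∧ Flat ψ.left ∧ LocallyOfFinitePresentation ψ.left ∧ Mono τ) ↔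
      Flat (pullback.snd (lift a.act (snd G X)) (lift (𝟙 X) (𝟙 X))).left) ∧
    (∀ (Y : Over S) (ψ : G ⊗ X ⟶ Y) (τ : Y ⟶ X ⊗ X), ψ ≫ τ = lift a.act (snd G X) →
      Surjective ψ.left → Flat ψ.left → LocallyOfFinitePresentation ψ.left → Mono τ →
      (Surjective (τ ≫ fst X X).left ∧ Flat (τ ≫ fst X X).left ∧ LocallyOfFinitePresentation (τ ≫ fst X X).left ∧
        QuasiCompact (τ ≫ fst X X).left ∧ QuasiSeparated (τ ≫ fst X X).left ∧
       Surjective (τ ≫ snd X X).left ∧ Flat (τ ≫ snd X X).left ∧ LocallyOfFinitePresentation (τ ≫ snd X X).left ∧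
        QuasiCompact (τ ≫ snd X X).left ∧ QuasiSeparated (τ ≫ snd X X).left)) := by
  exact ⟨Groth.Calg4.MonoFactor.flat_fst_graph_iff a,
    fun Y ψ τ h h1 h2 h3 _ => Groth.Calg4.MonoFactor.graph_quotient a Y ψ τ h h1 h2 h3⟩

end Groth.Agent.S4096
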