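import Groth.Statements.S4104
import Groth.Agent.Sga3.SubHopfMap
import Groth.Agent.SchemeMorphisms.SchFinPairs

set_option autoImplicit false
universe u
open CategoryTheory MonoidalCategory CartesianMonoidalCategory MonObj GrpObj AlgebraicGeometry CategoryTheory.Limits
open SGA3

namespace Groth.Agent.S4104

/-- Let φ : A' → A be a bialgebra map between commutative Hopf algebras over a field k (a homomorphism
of affine k-groups Spec A → Spec A', not necessarily of finite type). If the corresponding morphism
of schemes is a monomorphism, i.e. φ is an epimorphism in the category of commutative rings, then φ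
is surjective (the homomorphism is a closed immersion). -/
theorem result (k : Type u) [Field k] (A' A : Type u) [CommRing A'] [HopfAlgebra k A']
    [CommRing A] [HopfAlgebra k A] (φ : A' →ₐc[k] A)
    (hepi : ∀ (R : Type u) [CommRing R] (f g : A →+* R), f.comp (φ : A' →+* A) = g.comp (φ : A' →+* A) → f = g) :
    Function.Surjective φ := by
  let B := (φ : A' →ₐ[k] A).range
  have := Groth.Sga3.SubHopfFlat.faithfullyFlat_range φ
  have hb := Groth.SchFinAux.bijective_of_faithfullyFlat_epi (A := B) (B := A) fun T _ g₁ g₂ hg => by
    refine hepi T g₁ g₂ ?_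
    ext a
    exact RingHom.congr_fun hg ⟨φ a, ⟨a, rfl⟩⟩
  intro a
  obtain ⟨⟨_, x, rfl⟩, hx⟩ := hb.2 a
  exact ⟨x, hx⟩

end Groth.Agent.S4104
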