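import Groth.Statements.S4105
import Groth.Agent.Misc1.Unip.Normal.Kernel
import Groth.Agent.Misc1.Unip.Invariants

set_option autoImplicit false
universe u
open CategoryTheory MonoidalCategory CartesianMonoidalCategory MonObj GrpObj AlgebraicGeometry CategoryTheory.Limits
open scoped TensorProduct
open SGA3

namespace Groth.Agent.S4105

/-- Let A be a commutative Hopf algebra over a field k, B a sub-Hopf-algebra of A and J a normal Hopf
ideal of A (a normal closed subgroup N of G = Spec A). Then J is the ideal generated by the
augmentation ideal of B (N is the kernel of G → Spec B) if and only if B consists exactly of the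
elements x with Δ(x) - x ⊗ 1 in the image of A ⊗ J (B is the ring of functions on G/N). This
expresses that N ↦ O(G/N) and B ↦ Spec (A/AB₊) are inverse bijections. -/
theorem result (k : Type u) [Field k] (A : Type u) [CommRing A] [HopfAlgebra k A]
    (B : Subalgebra k A) (hB : SGA3.IsHopfSubalgebra k A B) (J : Ideal A) [J.IsHopfIdeal k]
    (hJ : SGA3.IsNormalHopfIdeal k A J) :
    J = SGA3.augIdealSpan k A B ↔
      (B : Set A) = {x : A | CoalgebraStruct.comul (R := k) (A := A) x - x ⊗ₜ[k] (1 : A) ∈
        LinearMap.range (LinearMap.lTensor A (J.restrictScalars k).subtype)} := by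
  open Groth.Misc1.Unip.Normal in
  refine ⟨fun h => ?_, fun h => ?_⟩
  · letI := Groth.Sga3.SubHopfStruct.hopfAlgebra hB
    ext x
    rw [Set.mem_ofPred_eq, SetLike.mem_coe, ← mem_coinv_quotHom J]
    constructor
    · intro hx
      obtain ⟨z, hz⟩ := hB.1 x hx
      have hmod : ∀ b : B, Ideal.Quotient.mk J (b : A) =
          algebraMap k (A ⧸ J) (CoalgebraStruct.counit (R := k) (A := A) b) := by
        intro b
        rw [← Ideal.Quotient.mk_algebraMap, Ideal.Quotient.eq]
        conv => enter [1]; rw [h]
        exact Ideal.subset_span ⟨sub_mem b.2 (B.algebraMap_mem _), by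
          change Bialgebra.counitAlgHom k A _ = 0
          rw [map_sub, AlgHom.commutes]
          exact sub_self _⟩
      have key : ∀ w : B ⊗[k] B,
          Algebra.TensorProduct.map (AlgHom.id k A) (quotHom k J : A →ₐ[k] A ⧸ J)
            (TensorProduct.map B.val.toLinearMap B.val.toLinearMap w) =
          TensorProduct.rid k A ((Coalgebra.counit (R := k) (A := A)).lTensor A
            (TensorProduct.map B.val.toLinearMap B.val.toLinearMap w)) ⊗ₜ[k] (1 : A ⧸ J) := by
        intro w
        induction w using TensorProduct.induction_on with
        | zero => simp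
        | tmul p r =>
          simp [quotHom, hmod, Algebra.algebraMap_eq_smul_one, TensorProduct.smul_tmul']
        | add p r hp hr => simp only [map_add, TensorProduct.add_tmul, hp, hr]
      have h1 := key z
      rw [hz] at h1
      rw [mem_coinv, IsWt]
      refine h1.trans ?_
      rw [Coalgebra.lTensor_counit_comul, TensorProduct.rid_tmul, one_smul]
    · intro hx
      obtain ⟨b, rfl⟩ := Groth.Misc1.Unip.mem_range_of_invariant (A' := A ⧸ J)
        (Groth.Sga3.SubHopfStruct.incl hB) (quotHom k J) Ideal.Quotient.mk_surjective (fun a ha => by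
          refine (le_of_eq (h.trans (Groth.Sga3.SubHopfStruct.augIdealSpan_eq_map hB))) ?_
          exact Ideal.Quotient.eq_zero_iff_mem.1 ha) (a := x) hx
      exact b.2
  · have hB' : B = coinv (quotHom k J) := SetLike.ext fun x => by
      rw [mem_coinv_quotHom J, ← SetLike.mem_coe, h, Set.mem_ofPred_eq]
    rw [hB']
    exact eq_augIdealSpan J hJ

end Groth.Agent.S4105
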