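import Groth.Statements.S4107
import Groth.Agent.AlgGrp1.AntiAffineKernel
import Groth.Agent.AlgGrp1.AntiAffineSmooth

set_option autoImplicit false
universe u
open CategoryTheory MonoidalCategory CartesianMonoidalCategory MonObj GrpObj AlgebraicGeometry CategoryTheory.Limits
open SGA3

namespace Groth.Agent.S4107

/-- Let G be an algebraic group over a field k, ρ : G → Spec O(G) the canonical morphism and N = Ker ρ,
the fibre of ρ over the image of the unit section. Then O(N) = k (the structure morphism N → Spec k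
induces an isomorphism on global sections), and N is smooth over k and connected. (The source adds
that N is commutative and characteristic in G.) -/
theorem result (k : Type u) [Field k] (G : Over (Spec (CommRingCat.of k))) [GrpObj G]
    [LocallyOfFiniteType G.hom] [QuasiCompact G.hom] :
    IsIso (pullback.snd G.left.toSpecΓ (η[G].left ≫ G.left.toSpecΓ) ≫ (𝟙_ (Over (Spec (CommRingCat.of k)))).hom).appTop ∧
    Smooth (pullback.snd G.left.toSpecΓ (η[G].left ≫ G.left.toSpecΓ) ≫ (𝟙_ (Over (Spec (CommRingCat.of k)))).hom) ∧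
    ConnectedSpace ↥(pullback G.left.toSpecΓ (η[G].left ≫ G.left.toSpecΓ)) := by
  open Groth.AlgGrp1.AffineHull in
  obtain ⟨hΓ, g, hρ⟩ := exists_grpObj_hull G
  let := g
  let H := Groth.AlgGrp1.AffineHull.hull G
  let ρ : G ⟶ H := Groth.AlgGrp1.AffineHull.toHull G
  have : IsAffine H.left := inferInstanceAs (IsAffine (Spec _))
  have : Flat ρ.left := (Groth.AlgGrp1.AffineHull.flat_surjective_finiteType G H ρ).2.1
  have := Groth.AlgGrp1.quasiSeparated_of_locallyOfFiniteType G
  let ev : (𝟙_ (Over (Spec (CommRingCat.of k)))).left ⟶ H.left := η[G].left ≫ G.left.toSpecΓ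
  let snd' := pullback.snd G.left.toSpecΓ ev
  let N : Over (Spec (CommRingCat.of k)) := Over.mk (snd' ≫ (𝟙_ (Over (Spec (CommRingCat.of k)))).hom)
  have hev : ev ≫ H.hom = (𝟙_ (Over (Spec (CommRingCat.of k)))).hom := Over.w (η[G] ≫ ρ)
  let n : N ⟶ G := Over.homMk (pullback.fst G.left.toSpecΓ ev) (by
    show pullback.fst G.left.toSpecΓ ev ≫ G.hom = snd' ≫ _
    rw [← Over.w ρ, ← hev]
    exact pullback.condition_assoc _)
  have hsnd : snd' = N.hom := (Category.comp_id _).symm
  have : IsSeparated H.hom := inferInstance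
  have : IsClosedImmersion ev := by
    have : IsClosedImmersion (ev ≫ H.hom) := by
      rw [hev]; exact inferInstanceAs (IsClosedImmersion (𝟙 (Spec (CommRingCat.of k))))
    exact IsClosedImmersion.of_comp ev H.hom
  have : IsClosedImmersion n.left := inferInstanceAs (IsClosedImmersion (pullback.fst G.left.toSpecΓ ev))
  have : Mono n := Over.mono_of_mono_left n
  have hN : ∀ (T : Over (Spec (CommRingCat.of k))) (x : T ⟶ G), (∃ z : T ⟶ N, z ≫ n = x) ↔ x ≫ ρ = 1 := by
    intro T x
    have h1 : (1 : T ⟶ H).left = T.hom ≫ ev := by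
      rw [← MonObj.one_comp ρ]
      show ((toUnit T ≫ η[G]) ≫ ρ).left = _
      rw [Category.assoc, Over.comp_left, Over.comp_left, show (toUnit T).left = T.hom by simpa using Over.w (toUnit T)]
      rfl
    constructor
    · rintro ⟨z, rfl⟩
      apply Over.OverMorphism.ext
      rw [h1, ← Over.w z, ← hsnd]
      show (z.left ≫ pullback.fst G.left.toSpecΓ ev) ≫ G.left.toSpecΓ = (z.left ≫ snd') ≫ ev
      rw [Category.assoc, Category.assoc, pullback.condition]
    · intro h
      have hw : x.left ≫ G.left.toSpecΓ = T.hom ≫ ev := (congrArg (fun f => f.left) h).trans h1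
      exact ⟨Over.homMk (pullback.lift x.left T.hom hw)
          (show pullback.lift x.left T.hom hw ≫ N.hom = T.hom by rw [← hsnd, pullback.lift_snd]),
        Over.OverMorphism.ext (pullback.lift_fst _ _ _)⟩
  obtain ⟨_, _⟩ := Groth.Agf.exists_grpObj_of_subgroup n (fun T x => x ≫ ρ = 1) hN (fun T => MonObj.one_comp ρ)
    (fun T a b ha hb => by rw [MonObj.mul_comp, ha, hb, _root_.one_mul])
    (fun T a ha => by rw [GrpObj.inv_comp, ha, inv_one])
  have : LocallyOfFiniteType N.hom := by rw [← Over.w n]; infer_instance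
  have : QuasiCompact N.hom := by rw [← Over.w n]; infer_instance
  have hc := Groth.AlgGrp1.AntiAffineKernel.hasConstFunctions_kernel ρ n hN
  exact ⟨hc.isIso_appTop, Groth.AlgGrp1.AntiAffineSmooth.smooth_of_hasConstFunctions N hc,
    hc.connectedSpace⟩

end Groth.Agent.S4107
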