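import Groth.Statements.S4112
import Groth.Agent.GrpschAbsch.GrpEtale


set_option autoImplicit false
universe u
open CategoryTheory MonoidalCategory CartesianMonoidalCategory MonObj GrpObj AlgebraicGeometry CategoryTheory.Limits
open SGA3

namespace Groth.Agent.S4112

/-- Let G be a commutative algebraic group over a field k and n a natural number invertible in k. Then
the n-th power morphism G → G is etale. -/
theorem result (k : Type u) [Field k] (G : Over (Spec (CommRingCat.of k))) [GrpObj G]
    [IsCommMonObj G] [LocallyOfFiniteType G.hom] [QuasiCompact G.hom] (n : ℕ) (hn : (n : k) ≠ 0) :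
    Etale ((𝟙 G : G ⟶ G) ^ n).left := by
  have h := Groth.GrpschAbsch.etale_zpow (G := G) (n : ℤ) (by exact_mod_cast hn)
  rwa [zpow_natCast] at h

end Groth.Agent.S4112
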