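import Groth.Statements.S4113
import Groth.Agent.Sga3.HopfFiniteDescent

set_option autoImplicit false
universe u
open CategoryTheory MonoidalCategory CartesianMonoidalCategory MonObj GrpObj AlgebraicGeometry CategoryTheory.Limits
open SGA3

namespace Groth.Agent.S4113

/-- Let A be a finite-dimensional commutative Hopf algebra over a field k (a finite algebraic k-group of
rank dim A). If the rank is invertible in k then A is an etale k-algebra. -/
theorem result (k : Type u) [Field k] (A : Type u) [CommRing A] [HopfAlgebra k A]
    [Module.Finite k A] (h : (Module.finrank k A : k) ≠ 0) : Algebra.Etale k A := by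
  exact Groth.Sga3.HopfFin.etale_of_rank_ne_zero k A h

end Groth.Agent.S4113
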