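import Groth.Statements.S4116
import Groth.Agent.Reductive.TorusConjEtale
-- import your own Groth.Agent.* helpers here

set_option autoImplicit false
universe u
open CategoryTheory MonoidalCategory CartesianMonoidalCategory MonObj GrpObj AlgebraicGeometry CategoryTheory.Limits
open SGA3x

namespace Groth.Agent.S4116

/-- Let G be an S-group scheme which is smooth, separated and of finite type over S, and let T₁, T₂ be
maximal tori of G. Then T₁ and T₂ are conjugate locally for the etale topology: there are an etale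
surjective morphism S' → S and an S'-point g of G_{S'} with int(g)(T₁ ×_S S') = T₂ ×_S S'. -/
theorem result (S : Scheme.{u}) (G : Over S) [GrpObj G]
    [Smooth G.hom] [IsSeparated G.hom] [QuasiCompact G.hom]
    (T₁ T₂ : Over S) [GrpObj T₁] [GrpObj T₂] (i₁ : T₁ ⟶ G) (i₂ : T₂ ⟶ G)
    (h₁ : Red.IsMaximalTorus i₁) (h₂ : Red.IsMaximalTorus i₂) :
    ∃ (S' : Scheme.{u}) (f : S' ⟶ S), Etale f ∧ Surjective f ∧
      ∃ g : 𝟙_ (Over S') ⟶ Red.bc f G, SGA3x.ConjBy ((Over.pullback f).map i₁) ((Over.pullback f).map i₂) g := by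
  exact Groth.Reductive.TorusConjEtale.exists_conj_etale i₁ i₂ h₁ h₂
end Groth.Agent.S4116
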