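import Groth.Statements.S4118
import Groth.Agent.Reductive.CentTorusMax
-- import your own Groth.Agent.* helpers here

set_option autoImplicit false
universe u
open CategoryTheory MonoidalCategory CartesianMonoidalCategory MonObj GrpObj AlgebraicGeometry CategoryTheory.Limits
open SGA3x

namespace Groth.Agent.S4118

/-- Let G be an S-group scheme, smooth, separated and of finite type over S, and i : T → G a maximal
torus. Then the centralizer of T is represented by a closed subgroup scheme c : C → G which is a
Cartan subgroup of G (smooth over S with Cartan geometric fibres); T factors through C as a maximal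
torus of C, and every maximal torus of C coincides with T (as a subgroup of C). -/
theorem result (S : Scheme.{u}) (G : Over S) [GrpObj G]
    [Smooth G.hom] [IsSeparated G.hom] [QuasiCompact G.hom]
    (T : Over S) [GrpObj T] (i : T ⟶ G) (hT : Red.IsMaximalTorus i) :
    ∃ (C : Over S) (_ : GrpObj C) (c : C ⟶ G), Red.IsCentralizerOf i c ∧ IsClosedImmersion c.left ∧ SGA3x.IsCartan c ∧
      ∃ i' : T ⟶ C, i' ≫ c = i ∧ Red.IsMaximalTorus i' ∧
        ∀ (T' : Over S) [GrpObj T'] (j : T' ⟶ C), Red.IsMaximalTorus j → ∃ φ : T' ≅ T, φ.hom ≫ i' = j := by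
  obtain ⟨him, himono, hTt, himax⟩ := hT
  haveI := him; haveI := himono
  have hL := Groth.Reductive.MTInt.locTriv_of_multTypeFT
    (Groth.Reductive.FreeDiag.isMultTypeFT_of_isTorus hTt)
  obtain ⟨C, _, c, hcm, hcmono, hciff, hccl, hCsm⟩ :=
    Groth.Reductive.MTInt.exists_centralizerSep hL inferInstance i
  haveI := hcm; haveI := hcmono; haveI := hccl; haveI := hCsm
  have hC : Red.IsCentralizerOf i c := ⟨hcm, hcmono, hciff⟩
  obtain ⟨i', hi'⟩ := (hciff T i).mpr fun X x h => by
    rw [← MonObj.mul_comp, ← MonObj.mul_comp, Groth.Reductive.MTInt.comm_of_locTriv hL]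
  haveI : Mono i' := mono_of_mono_fac hi'
  haveI : IsMonHom i' := Groth.AlgGrp1.isMonHom_of_points i' fun X a b => by
    rw [← cancel_mono c, MonObj.mul_comp (a ≫ i'), Category.assoc, Category.assoc, Category.assoc, hi',
      MonObj.mul_comp]
  haveI : QuasiCompact C.hom := by rw [← Over.w c]; infer_instance
  haveI : IsSeparated C.hom := by rw [← Over.w c]; infer_instance
  have hmax : Red.IsMaximalTorus i' := by
    refine ⟨inferInstance, inferInstance, hTt, fun s T' _ j _ _ f hT' hf => ?_⟩
    haveI := Groth.Abvar.isMonHom_map (f := Red.geomPt s) c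
    haveI : IsMonHom (j ≫ (Over.pullback (Red.geomPt s)).map c) :=
      Groth.Abvar.isMonHom_comp inferInstance inferInstance
    exact himax s T' (j ≫ (Over.pullback (Red.geomPt s)).map c) f hT'
      (by rw [← Category.assoc, hf, ← Functor.map_comp, hi'])
  refine ⟨C, inferInstance, c, hC, hccl, ⟨hcm, hcmono, hCsm, fun s => ?_⟩, i', hi', hmax,
    fun T' _ j hj => Groth.Reductive.CentTorusMax.exists_iso_of_central i' j hmax hj fun X x g => ?_⟩
  · haveI := Groth.Abvar.isMonHom_map (f := Red.geomPt s) i
    refine ⟨Groth.Abvar.isMonHom_map (f := Red.geomPt s) c, inferInstance, _, inferInstance,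
      (Over.pullback (Red.geomPt s)).map i, ?_, Groth.Reductive.CentTorusMax.isCentralizerOf_bc _ hC⟩
    exact (Groth.Reductive2.MaxTorus.isMaximalTorus_iff _).2 ⟨inferInstance, inferInstance,
      Groth.GrpschAbsch.TorusToAbelian.isTorus_bc hTt _,
      fun T' _ j _ _ f hT' hf => himax s T' j f hT' hf⟩
  · rw [← cancel_mono c, MonObj.mul_comp, MonObj.mul_comp, Category.assoc, hi']
    have h := (hciff X (g ≫ c)).mp ⟨g, rfl⟩ X (𝟙 X) x
    rw [Category.id_comp] at h
    exact h.symm

end Groth.Agent.S4118
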