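import Groth.Statements.S4120
import Groth.Agent.Reductive.FacGlobal
import Groth.Agent.Reductive.RedRankBC

set_option autoImplicit false
universe u
open CategoryTheory MonoidalCategory CartesianMonoidalCategory MonObj GrpObj AlgebraicGeometry CategoryTheory.Limits
open SGA3x

namespace Groth.Agent.S4120

/-- Let G be an S-group scheme of finite presentation over S, i : T → G a maximal torus and j : R → G a
subtorus such that T and R commute (their points commute after every base change). Then R ⊆ T: j
factors through i. -/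
theorem result (S : Scheme.{u}) (G : Over S) [GrpObj G]
    [LocallyOfFinitePresentation G.hom] [QuasiCompact G.hom] [QuasiSeparated G.hom]
    (T R : Over S) [GrpObj T] [GrpObj R] (i : T ⟶ G) (j : R ⟶ G) (hT : Red.IsMaximalTorus i)
    [IsMonHom j] [Mono j] (hR : Red.IsTorus R)
    (hcomm : ∀ (X : Over S) (t : X ⟶ T) (r : X ⟶ R), (t ≫ i) * (r ≫ j) = (r ≫ j) * (t ≫ i)) :
    ∃ f : R ⟶ T, f ≫ i = j := by
  obtain ⟨him, himono, hTt, himax⟩ := hT
  haveI := him; haveI := himono
  have hfib : ∀ s : S, Groth.Reductive.FreeDiag.FacOn j i (Over.mk (S.fromSpecResidueField s)) := by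
    intro s
    let q := Red.geomPt s
    haveI : LocallyOfFiniteType (Red.bc q G).hom :=
      inferInstanceAs (LocallyOfFiniteType (pullback.snd G.hom q))
    haveI : QuasiCompact (Red.bc q G).hom := inferInstanceAs (QuasiCompact (pullback.snd G.hom q))
    haveI := Groth.Abvar.isMonHom_map (f := q) i
    haveI := Groth.Abvar.isMonHom_map (f := q) j
    obtain ⟨W, _, e, a', b', he, hem, hW, ha, hb⟩ := Groth.Reductive.CentTorusMax.exists_common_torus
      (Groth.GrpschAbsch.TorusToAbelian.isTorus_bc hTt q) (Groth.GrpschAbsch.TorusToAbelian.isTorus_bc hR q)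
      ((Over.pullback q).map i) ((Over.pullback q).map j) (fun X x y => by
        apply (Groth.Reductive.bcPointEquiv q G X).injective
        rw [map_mul, map_mul, Groth.Reductive2.TransConj.E_map, Groth.Reductive2.TransConj.E_map]
        exact hcomm _ _ _)
    haveI := he; haveI := hem
    haveI := himax s W e a' hW ha
    have hfac : Groth.Reductive.FreeDiag.FacOn j i (Over.mk q) := fun Z w x => by
      let Z₁ : Over (Spec (CommRingCat.of (AlgebraicClosure (S.residueField s)))) := Over.mk w.left
      let c : Z ⟶ (Over.map q).obj Z₁ := Over.homMk (𝟙 _) ((Category.id_comp _).trans (Over.w w))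
      let c' : (Over.map q).obj Z₁ ⟶ Z := Over.homMk (𝟙 _) ((Category.id_comp _).trans (Over.w w).symm)
      let E := Groth.Reductive.bcPointEquiv q R Z₁
      refine ⟨c ≫ Groth.Reductive.bcPointEquiv q T Z₁ (E.symm (c' ≫ x) ≫ b' ≫ inv a'), ?_⟩
      rw [Category.assoc, ← Groth.Reductive.RedRank.bcPointEquiv_map', Category.assoc, Category.assoc,
        ← ha, IsIso.inv_hom_id_assoc, hb, Groth.Reductive.RedRank.bcPointEquiv_map',
        MulEquiv.apply_symm_apply, ← Category.assoc, ← Category.assoc,
        show c ≫ c' = 𝟙 Z from Over.OverMorphism.ext (Category.id_comp _), Category.id_comp]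
    have h := (Groth.Reductive.FreeDiag.facOn_fieldPoint_iff _ q).mp hfac
    rwa [show q.base (IsLocalRing.closedPoint _) = s by
      rw [Scheme.Hom.comp_apply, Scheme.fromSpecResidueField_apply]] at h
  obtain ⟨y, hy⟩ := Groth.Reductive.RigidNhd.facOn_of_fibres j i
    (fun X x y => (hcomm X y x).symm) hR hTt hfib R (Over.homMk R.hom (Category.comp_id _)) (𝟙 R)
  exact ⟨y, hy.trans (Category.id_comp _)⟩

end Groth.Agent.S4120
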