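import Groth.Statements.S4130
import Groth.Agent.Sga3.UnipotentDiag
open Groth.Sga3 Groth.Sga3.UnipotentPart Groth.ComodLib
open scoped TensorProduct
open WithConv

set_option autoImplicit false
universe u
open TensorProduct
open SGA3

namespace Groth.Agent.S4130

variable {k : Type u} [Field k] {A : Type u} [CommRing A] [HopfAlgebra k A] [Coalgebra.IsCocomm k A]

/-- The Hopf algebra of the unipotent part is unipotent. -/
theorem isUnipotent_unip :
    letI := SubHopfStruct.hopfAlgebra (isHopfSubalgebra_unip k A)
    HopfRep.IsUnipotent k (unip k A) := by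
  classical
  let := SubHopfStruct.hopfAlgebra (isHopfSubalgebra_unip k A)
  intro V _ _ _ hfin hnt hbot
  let B := unip k A
  have hinj : ∀ v : V, v ≠ 0 → ∃ ψ : V →ₗ[k] k, cf (A := B) ψ v ≠ 0 := by
    intro v hv
    by_contra hcon
    push Not at hcon
    refine hv ((Module.forall_dual_apply_eq_zero_iff k v).mp fun ψ => ?_)
    have h := apply_cf (A := B) (Coalgebra.counit (R := k) (A := B)) ψ v
    rw [hcon, map_zero, op_counit] at h
    exact h.symm
  have hex : ∃ n, ∃ v : V, v ≠ 0 ∧ ∀ ψ : V →ₗ[k] k, ((cf (A := B) ψ v : B) : A) ∈ U k A n := by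
    obtain ⟨v, hv⟩ := exists_ne (0 : V)
    obtain ⟨S, hS⟩ := TensorProduct.exists_finset (HopfRep.Comod.coact (k := k) (A := B) v)
    choose f hf using fun b : B => mem_unip.mp b.2
    refine ⟨S.sup fun p => f p.2, v, hv, fun ψ => ?_⟩
    rw [cf_apply, hS, map_sum, AddSubmonoidClass.coe_finsetSum]
    refine Submodule.sum_mem _ fun p hp => ?_
    rw [lslice_tmul]
    exact Submodule.smul_mem _ _ (U_mono (Finset.le_sup (f := fun p : V × B => f p.2) hp) (hf p.2))
  obtain ⟨v, hv, hvn⟩ := Nat.find_spec hex
  obtain ⟨n, hn⟩ : ∃ n, Nat.find hex = n + 1 := by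
    refine Nat.exists_eq_succ_of_ne_zero fun h0 => ?_
    obtain ⟨ψ, hψ⟩ := hinj v hv
    have := hvn ψ
    rw [h0, U, Submodule.mem_bot] at this
    exact hψ (Subtype.ext this)
  rw [hn] at hvn
  have hop : ∀ φ : B →ₗ[k] k, φ 1 = 0 → op φ v = 0 := by
    intro φ hφ
    by_contra hne
    refine Nat.find_min hex (m := n) (by omega) ⟨op φ v, hne, fun ψ => ?_⟩
    rw [isComodHom_op (isComodHom_cf ψ)]
    obtain ⟨Φ, hΦ⟩ : ∃ Φ : A →ₗ[k] k, Φ ∘ₗ B.val.toLinearMap = φ :=
      LinearMap.exists_extend (p := B.toSubmodule) φ
    have hval : ∀ y : B, ((op (V := B) φ y : B) : A) = slice Φ (Coalgebra.comul (R := k) (y : A)) := by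
      intro y
      rw [← SubHopfStruct.jj_comulB (isHopfSubalgebra_unip k A) y, op_apply]
      change ((slice φ (SubHopfStruct.comulB (isHopfSubalgebra_unip k A) y) : B) : A) = _
      generalize SubHopfStruct.comulB (isHopfSubalgebra_unip k A) y = z
      induction z using TensorProduct.induction_on with
      | zero => simp
      | add p q hp hq => simp only [map_add, AddMemClass.coe_add, hp, hq]
      | tmul p q => simp [← hΦ]
    rw [hval]
    have h1 := mem_U_succ.mp (hvn ψ) Φ
    have h2 : Φ 1 = 0 := by
      rw [← hφ, ← hΦ]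
      rfl
    rwa [h2, zero_smul, sub_zero] at h1
  apply hv
  have hmem : v ∈ HopfRep.fixedPts k B V := by
    refine ext_slice fun φ => ?_
    rw [slice_tmul, ← op_apply]
    have h := hop (φ - φ 1 • Coalgebra.counit) (by simp)
    rw [← rho_apply (toConv (φ - φ 1 • Coalgebra.counit)), toConv_sub, map_sub, toConv_smul, map_smul,
      LinearMap.sub_apply, LinearMap.smul_apply, rho_apply, rho_apply, ofConv_toConv, ofConv_toConv,
      op_counit, sub_eq_zero] at h
    exact h
  rw [hbot] at hmem
  exact (Submodule.mem_bot k).mp hmem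

omit [Coalgebra.IsCocomm k A] in
/-- A Hopf algebra over a field spanned by its group-likes is diagonalisable. -/
theorem isDiag_of_span (h : Submodule.span k {a : A | IsGroupLikeElem k a} = ⊤) :
    SGA3b.IsDiag k A := by
  refine ⟨GroupLike k A, inferInstance, ⟨?_⟩⟩
  let f : MonoidAlgebra k (GroupLike k A) →ₐ[k] A :=
    MonoidAlgebra.lift k A (GroupLike k A) (GroupLike.valMonoidHom k A)
  have hf : ∀ g, f (MonoidAlgebra.single g 1) = (g : A) := fun g => by simp [f]
  let F : MonoidAlgebra k (GroupLike k A) →ₐc[k] A := BialgHom.ofAlgHom f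
    (MonoidAlgebra.algHom_ext (fun g => by simp [hf, g.2.counit_eq_one]) (Subsingleton.elim _ _))
    (MonoidAlgebra.algHom_ext (fun g => by simp [hf, g.2.comul_eq_tmul_self]) (Subsingleton.elim _ _))
  refine (BialgEquiv.ofBijective F ⟨?_, ?_⟩).symm
  · change Function.Injective f
    have hind : LinearIndependent k (GroupLike.val : GroupLike k A → A) :=
      (linearIndepOn_isGroupLikeElem (R := k) (A := A)).linearIndependent.comp
        (fun g : GroupLike k A => (⟨g.val, g.2⟩ : {a : A | IsGroupLikeElem k a}))
        fun g g' h => GroupLike.val_injective (congrArg Subtype.val h)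
    have heq : ∀ x, f x = Finsupp.linearCombination k (GroupLike.val : GroupLike k A → A) x.coeff := by
      intro x
      induction x using MonoidAlgebra.induction_linear with
      | zero => simp
      | add p q hp hq => simp [map_add, hp, hq]
      | single g c => simp [f, Algebra.smul_def]
    intro x y hxy
    rw [heq, heq] at hxy
    exact MonoidAlgebra.coeff_injective (hind hxy)
  · change Function.Surjective f
    refine (LinearMap.range_eq_top (f := f.toLinearMap)).mp ?_
    rw [eq_top_iff, ← h, Submodule.span_le]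
    exact fun a ha => ⟨MonoidAlgebra.single ⟨a, ha⟩ 1, hf _⟩

variable (J : Ideal A) [J.IsHopfIdeal k]

/-- The quotient by the augmentation ideal of the unipotent part is diagonalisable over an
algebraically closed field. -/
theorem isDiag_quotient {K : Type u} [Field K] [Algebra k K] [IsAlgClosed K]
    (hJ : SGA3.augIdealSpan k A (unip k A) ≤ J) : SGA3b.IsDiag K (K ⊗[k] (A ⧸ J)) := by
  apply isDiag_of_span
  let π : K ⊗[k] A →ₐ[K] K ⊗[k] (A ⧸ J) :=
    Algebra.TensorProduct.map (AlgHom.id K K) (Ideal.Quotient.mkₐ k J)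
  have hunip : ∀ b ∈ unip K (K ⊗[k] A), ∃ c : K, π b = algebraMap K _ c := by
    intro b hb
    obtain ⟨n, hn⟩ := mem_unip.mp hb
    obtain ⟨t, rfl⟩ := U_baseChange_le n b hn
    clear hn hb
    induction t using TensorProduct.induction_on with
    | zero => exact ⟨0, by simp⟩
    | add p q hp hq =>
      obtain ⟨c, hc⟩ := hp
      obtain ⟨d, hd⟩ := hq
      exact ⟨c + d, by rw [map_add, map_add, hc, hd, map_add]⟩
    | tmul c x =>
      refine ⟨c * algebraMap k K (Coalgebra.counit (R := k) (x : A)), ?_⟩
      have hx : Ideal.Quotient.mk J (x : A) =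
          algebraMap k (A ⧸ J) (Coalgebra.counit (R := k) (x : A)) := by
        rw [← (Ideal.Quotient.mkₐ k J).commutes]
        refine Ideal.Quotient.eq.mpr ?_
        exact hJ (Ideal.subset_span ⟨sub_mem (mem_unip.mpr ⟨n, x.2⟩) (Subalgebra.algebraMap_mem _ _),
          by simp⟩)
      change c ⊗ₜ[k] Ideal.Quotient.mk J (x : A) = (c * _) ⊗ₜ[k] (1 : A ⧸ J)
      rw [hx, Algebra.algebraMap_eq_smul_one, ← TensorProduct.smul_tmul, Algebra.smul_def,
        mul_comm]
  have hgl : ∀ g, IsGroupLikeElem K g → IsGroupLikeElem K (π g) := by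
    intro g hg
    let π' : K ⊗[k] A →ₐc[K] K ⊗[k] (A ⧸ J) :=
      Bialgebra.TensorProduct.map (BialgHom.id K K) (Bialgebra.Quotient.mkBialgHom (R := k) J)
    have e : π' g = π g := by
      clear hg
      induction g using TensorProduct.induction_on with
      | zero => simp
      | add p q hp hq => simp only [map_add, hp, hq]
      | tmul p q => simp [π', π]
    rw [← e]
    exact hg.map π'
  rw [Submodule.eq_top_iff']
  intro y
  obtain ⟨x, rfl⟩ : ∃ x, π x = y := by
    induction y using TensorProduct.induction_on with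
    | zero => exact ⟨0, map_zero _⟩
    | tmul c b =>
      obtain ⟨b, rfl⟩ := Ideal.Quotient.mk_surjective b
      exact ⟨c ⊗ₜ[k] b, Algebra.TensorProduct.map_tmul _ _ _ _⟩
    | add p q hp hq =>
      obtain ⟨p', rfl⟩ := hp
      obtain ⟨q', rfl⟩ := hq
      exact ⟨p' + q', map_add _ _ _⟩
  have hx : x ∈ mulSpan K (K ⊗[k] A) := mulSpan_eq_top (K := K) (A := K ⊗[k] A) ▸ Submodule.mem_top
  induction hx using Submodule.span_induction with
  | mem x hx =>
    obtain ⟨b, hb, g, hg, rfl⟩ := hx
    obtain ⟨c, hc⟩ := hunip b hb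
    rw [map_mul, hc, ← Algebra.smul_def]
    exact Submodule.smul_mem _ _ (Submodule.subset_span (hgl g hg))
  | zero => simp
  | add p q _ _ hp hq => simpa using add_mem hp hq
  | smul c p _ hp => simpa using Submodule.smul_mem _ c hp

omit [Coalgebra.IsCocomm k A] in
/-- The augmentation ideal of the unipotent part lies in every Hopf ideal with quotient of
multiplicative type. -/
theorem augIdealSpan_le (hI : SGA3b.IsMultTypeConst k (A ⧸ J)) :
    SGA3.augIdealSpan k A (unip k A) ≤ J := by
  classical
  obtain ⟨R, _, _, hff, M, _, ⟨e⟩⟩ := hI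
  let q : A →ₐ[k] MonoidAlgebra R M :=
    ((e : (R ⊗[k] (A ⧸ J)) →ₐ[R] MonoidAlgebra R M).restrictScalars k).comp
      (Algebra.TensorProduct.includeRight.comp (Ideal.Quotient.mkₐ k J))
  have hq : ∀ x, q x = e (1 ⊗ₜ[k] Ideal.Quotient.mk J x) := fun x => rfl
  have hU : ∀ n, ∀ a ∈ U k A n, ∃ r : R, q a = algebraMap R _ r := by
    intro n
    induction n with
    | zero => intro a ha; exact ⟨0, by simp [(Submodule.mem_bot k).mp ha]⟩
    | succ n ih =>
      intro a ha
      rw [U, LinearMap.mem_ker, stepMap, LinearMap.comp_apply] at ha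
      obtain ⟨w, hw⟩ := ((_root_.rTensor_exact A (LinearMap.exact_subtype_mkQ _)
        (Submodule.mkQ_surjective _)) _).1 ha
      let Q2 : A ⊗[k] A →ₗ[k] MonoidAlgebra R M ⊗[R] MonoidAlgebra R M :=
        TensorProduct.mapOfCompatibleSMul R k k (MonoidAlgebra R M) (MonoidAlgebra R M)
          ∘ₗ TensorProduct.map q.toLinearMap q.toLinearMap
      have hQ2 : ∀ x y, Q2 (x ⊗ₜ[k] y) = q x ⊗ₜ[R] q y := fun x y => rfl
      have hcom : ∀ x, Coalgebra.comul (R := R) (q x) = Q2 (Coalgebra.comul (R := k) x) := by
        intro x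
        rw [hq, ← CoalgHomClass.map_comp_comul_apply e]
        have h1 : Coalgebra.comul (R := k) (Ideal.Quotient.mk J x) =
            TensorProduct.map (Ideal.Quotient.mkₐ k J).toLinearMap (Ideal.Quotient.mkₐ k J).toLinearMap
              (Coalgebra.comul (R := k) x) :=
          (CoalgHomClass.map_comp_comul_apply (Bialgebra.Quotient.mkBialgHom (R := k) J) x).symm
        rw [TensorProduct.comul_tmul, h1, CommSemiring.comul_apply]
        induction Coalgebra.comul (R := k) x using TensorProduct.induction_on with
        | zero => simp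
        | add p q hp hq => simp only [map_add, TensorProduct.tmul_add, hp, hq]
        | tmul p q => simp [hQ2, hq]
      obtain ⟨z, hz⟩ : ∃ z, Coalgebra.comul (R := R) (q a) - q a ⊗ₜ[R] 1 = 1 ⊗ₜ[R] z := by
        have h1 : Q2 (((Coalgebra.comul (R := k) (A := A)) - (TensorProduct.mk k A A).flip 1) a) =
            Coalgebra.comul (R := R) (q a) - q a ⊗ₜ[R] 1 := by
          simp [map_sub, hcom, hQ2, map_one]
        rw [← h1, ← hw]
        clear hw h1
        induction w using TensorProduct.induction_on with
        | zero => exact ⟨0, by simp⟩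
        | add p q hp hq =>
          obtain ⟨c, hc⟩ := hp
          obtain ⟨d, hd⟩ := hq
          exact ⟨c + d, by rw [map_add, map_add, hc, hd, TensorProduct.tmul_add]⟩
        | tmul p r =>
          obtain ⟨c, hc⟩ := ih p p.2
          exact ⟨c • q r, by simp [hQ2, hc, Algebra.algebraMap_eq_smul_one, TensorProduct.smul_tmul]⟩
      refine ⟨(q a).coeff 1, MonoidAlgebra.coeff_injective (Finsupp.ext fun m => ?_)⟩
      by_cases hm : m = 1
      · subst hm
        simp [MonoidAlgebra.coe_algebraMap]
      · let cm : MonoidAlgebra R M →ₗ[R] R :=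
          (Finsupp.lapply m).comp (MonoidAlgebra.coeffLinearEquiv R).toLinearMap
        let T : MonoidAlgebra R M ⊗[R] MonoidAlgebra R M →ₗ[R] R :=
          LinearMap.mul' R R ∘ₗ TensorProduct.map cm cm
        have hT : ∀ y : MonoidAlgebra R M, T (Coalgebra.comul (R := R) y) = y.coeff m := by
          intro y
          induction y using MonoidAlgebra.induction_linear with
          | zero => simp
          | add p q hp hq => simp [map_add, hp, hq]
          | single g c =>
            by_cases hg : g = m <;>
              simp [T, cm, hg, MonoidAlgebra.comul_single]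
        have h2 := congrArg T hz
        rw [map_sub, hT] at h2
        simp [T, cm, MonoidAlgebra.one_def, Ne.symm hm] at h2
        simpa [MonoidAlgebra.coe_algebraMap, Finsupp.single_apply, Ne.symm hm] using h2
  refine Ideal.span_le.mpr ?_
  rintro a ⟨ha, hε⟩
  obtain ⟨n, hn⟩ := mem_unip.mp ha
  obtain ⟨r, hr⟩ := hU n a hn
  have hr0 : r = algebraMap k R (Coalgebra.counit (R := k) a) := by
    have h := congrArg (Coalgebra.counit (R := R)) hr
    rw [hq, CoalgHomClass.counit_comp_apply, Bialgebra.counit_algebraMap] at h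
    have h1 : Coalgebra.counit (R := k) (Ideal.Quotient.mk J a) = Coalgebra.counit (R := k) a :=
      CoalgHomClass.counit_comp_apply (Bialgebra.Quotient.mkBialgHom (R := k) J) a
    simpa [h1, Algebra.smul_def] using h.symm
  rw [hε, map_zero] at hr0
  rw [hr0, map_zero, hq, map_eq_zero_iff e e.injective] at hr
  rw [SetLike.mem_coe, ← Ideal.Quotient.eq_zero_iff_mem]
  exact (Module.FaithfullyFlat.one_tmul_eq_zero_iff k (A ⧸ J) _).mp hr


/-- Let A be a finitely generated commutative and cocommutative Hopf algebra over a field k (a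
commutative affine algebraic group G = Spec A). Then G has a largest subgroup M of multiplicative
type and G/M is unipotent: there is a Hopf ideal J of A (defining M) such that A/J is of
multiplicative type (diagonalizable after a faithfully flat extension of k), J is contained in every
Hopf ideal I with A/I of multiplicative type, and J is the ideal generated by the augmentation ideal
of the image of an injective bialgebra map φ : B → A from a Hopf algebra B (so Spec B = G/M) which
is unipotent in the fixed-vector sense. -/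
theorem result (k : Type u) [Field k]
    (A : Type u) [CommRing A] [HopfAlgebra k A] [Algebra.FiniteType k A] [Coalgebra.IsCocomm k A] :
    ∃ (J : Ideal A) (_ : J.IsHopfIdeal k), SGA3b.IsMultTypeConst k (A ⧸ J) ∧
      (∀ (I : Ideal A) [I.IsHopfIdeal k], SGA3b.IsMultTypeConst k (A ⧸ I) → J ≤ I) ∧
      ∃ (B : Type u) (_ : CommRing B) (_ : HopfAlgebra k B) (φ : B →ₐc[k] A), Function.Injective φ ∧
        J = Ideal.map (φ : B →+* A) (RingHom.ker (Bialgebra.counitAlgHom k B)) ∧ HopfRep.IsUnipotent k B := by
  have hB := isHopfSubalgebra_unip k A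
  let := SubHopfStruct.hopfAlgebra hB
  have hJ := SubHopfStruct.isHopfIdeal_augIdealSpan hB
  refine ⟨SGA3.augIdealSpan k A (unip k A), hJ, ?_, fun I _ hI => augIdealSpan_le I hI, unip k A,
    inferInstance, inferInstance, SubHopfStruct.incl hB, SubHopfStruct.incl_injective hB,
    SubHopfStruct.augIdealSpan_eq_map hB, isUnipotent_unip⟩
  exact ⟨AlgebraicClosure k, inferInstance, inferInstance, inferInstance,
    isDiag_quotient (K := AlgebraicClosure k) _ le_rfl⟩

end Groth.Agent.S4130
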