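import Groth.Statements.S4136
import Groth.Agent.Reductive.RedRankTorus
-- import your own Groth.Agent.* helpers here

set_option autoImplicit false
universe u
open CategoryTheory MonoidalCategory CartesianMonoidalCategory MonObj GrpObj AlgebraicGeometry CategoryTheory.Limits
open SGA3x

namespace Groth.Agent.S4136

/-- First assertion: let G be an S-group scheme which is affine and smooth over S. Then the reductive
rank of the geometric fibres (the dimension of their maximal tori) is a lower semicontinuous
function on S: for every n the set of points whose geometric fibre has a maximal torus of dimension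
≥ n is open. (The source also proves that the nilpotent rank is upper semicontinuous.) -/
theorem result (S : Scheme.{u}) (G : Over S) [GrpObj G] [IsAffineHom G.hom] [Smooth G.hom] (n : ℕ) :
    IsOpen {s : S | ∃ r : WithBot ℕ∞, SGA3x.HasRedRank G s r ∧ (n : WithBot ℕ∞) ≤ r} := by
  refine isOpen_iff_forall_mem_open.mpr fun s hs => ?_
  obtain ⟨_, hd, hn⟩ := hs
  obtain ⟨r, rfl, hr⟩ := (Groth.Reductive.RedRank.hasRedRank_iff G s _).mp hd
  obtain ⟨W, p, w, T, _, i, hp, hw, hi, hmono, -, hT⟩ := Groth.Reductive.RedRank.exists_torus_nbhd s hr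
  haveI := hp; haveI := hi; haveI := hmono
  haveI : LocallyQuasiFinite p := Groth.SmoothSlice.locallyQuasiFinite_of_formallyUnramified' p
  refine ⟨Set.range p, ?_, p.isOpenMap.isOpen_range, ⟨w, hw⟩⟩
  rintro _ ⟨x, rfl⟩
  obtain ⟨r', hr'⟩ := Groth.Reductive.RedRank.exists_hasMax_fibre (G := G) (p x)
  exact ⟨r', (Groth.Reductive.RedRank.hasRedRank_iff G _ _).mpr ⟨r', rfl, hr'⟩,
    hn.trans (Nat.cast_le.mpr (Groth.Reductive.RedRank.le_and_maximal p i hT x hr').1)⟩
end Groth.Agent.S4136
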