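import Groth.Statements.S4137
import Groth.Agent.Reductive.GenGroup
import Groth.Agent.Reductive.GenEssFree
import Groth.Agent.Reductive.GenTransporter
-- import your own Groth.Agent.* helpers here

set_option autoImplicit false
universe u
open CategoryTheory MonoidalCategory CartesianMonoidalCategory MonObj GrpObj AlgebraicGeometry CategoryTheory.Limits
open SGA3

namespace Groth.Agent.S4137

/-- Let S be an integral scheme, G and H S-group schemes of finite presentation over S and i : H → G a
homomorphism which is a quasi-compact monomorphism. Then there is a non-empty open U of S over which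
i becomes a closed immersion and the centralizer and the normalizer of H_U in G_U are representable
by closed subgroup schemes of G_U of finite presentation over U. -/
theorem result (S : Scheme.{u}) [IsIntegral S] (G H : Over S)
    [GrpObj G] [GrpObj H] [LocallyOfFinitePresentation G.hom] [QuasiCompact G.hom] [QuasiSeparated G.hom]
    [LocallyOfFinitePresentation H.hom] [QuasiCompact H.hom] [QuasiSeparated H.hom]
    (i : H ⟶ G) [IsMonHom i] [Mono i] [QuasiCompact i.left] :
    ∃ U : S.Opens, (U : Set S).Nonempty ∧ IsClosedImmersion ((Over.pullback U.ι).map i).left ∧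
      ∃ (C N : Over (U : Scheme.{u})) (_ : GrpObj C) (_ : GrpObj N) (c : C ⟶ Red.bc U.ι G) (n : N ⟶ Red.bc U.ι G),
        Red.IsCentralizerOf ((Over.pullback U.ι).map i) c ∧ IsClosedImmersion c.left ∧
          LocallyOfFinitePresentation C.hom ∧ QuasiCompact C.hom ∧
        Red.IsNormalizerOf ((Over.pullback U.ι).map i) n ∧ IsClosedImmersion n.left ∧
          LocallyOfFinitePresentation N.hom ∧ QuasiCompact N.hom := by
  obtain ⟨V₁, h₁, hsep⟩ := Groth.Reductive.GenGroup.exists_open_isSeparated G
  obtain ⟨V₂, h₂, hfree⟩ := Groth.Reductive.GenEssFree.exists_open_essFree H.hom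
  obtain ⟨V₃, h₃, hci⟩ := Groth.Reductive.GenGroup.exists_open_isClosedImmersion i
  let U : S.Opens := V₁ ⊓ V₂ ⊓ V₃
  have hU : (U : Set S).Nonempty :=
    nonempty_preirreducible_inter (V₁ ⊓ V₂).2 V₃.2 (nonempty_preirreducible_inter V₁.2 V₂.2 h₁ h₂) h₃
  have hc := hci U inf_le_right
  haveI := hc
  haveI : IsSeparated (Red.bc U.ι G).hom := hsep U (inf_le_left.trans inf_le_left)
  haveI : LocallyOfFinitePresentation (Red.bc U.ι G).hom :=
    MorphismProperty.pullback_snd (P := @LocallyOfFinitePresentation) _ _ ‹_›
  haveI : LocallyOfFinitePresentation (Red.bc U.ι H).hom :=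
    MorphismProperty.pullback_snd (P := @LocallyOfFinitePresentation) _ _ ‹_›
  haveI : QuasiCompact (Red.bc U.ι G).hom := MorphismProperty.pullback_snd (P := @QuasiCompact) _ _ ‹_›
  haveI : QuasiCompact (Red.bc U.ι H).hom := MorphismProperty.pullback_snd (P := @QuasiCompact) _ _ ‹_›
  have hf := hfree U (inf_le_left.trans inf_le_right)
  obtain ⟨C, gC, c, hC, hcc, hcfp⟩ := Groth.Reductive.GenTransporter.exists_centralizer
    (G := Red.bc U.ι G) (H := Red.bc U.ι H) hf ((Over.pullback U.ι).map i)
  obtain ⟨N, gN, n, hN, hnc, hnfp⟩ := Groth.Reductive.GenTransporter.exists_normalizer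
    (G := Red.bc U.ι G) (H := Red.bc U.ι H) hf ((Over.pullback U.ι).map i)
  haveI := hcc; haveI := hcfp; haveI := hnc; haveI := hnfp
  refine ⟨U, hU, hc, C, N, gC, gN, c, n, hC, hcc, ?_, ?_, hN, hnc, ?_, ?_⟩
  · rw [← Over.w c]; infer_instance
  · rw [← Over.w c]; infer_instance
  · rw [← Over.w n]; infer_instance
  · rw [← Over.w n]; infer_instance

end Groth.Agent.S4137
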