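import Groth.Statements.S4139
import Groth.Agent.Reductive.RedRankEtale
import Groth.Agent.Reductive.RedRankBC
import Groth.Agent.Reductive.TorusDescent
-- import your own Groth.Agent.* helpers here

set_option autoImplicit false
universe u
open CategoryTheory MonoidalCategory CartesianMonoidalCategory MonObj GrpObj AlgebraicGeometry CategoryTheory.Limits
open SGA3x

namespace Groth.Agent.S4139

/-- Let G be a commutative S-group scheme, smooth and affine over S, whose geometric fibres have locally
constant reductive rank. Then G has a maximal torus T, and every subtorus of G is contained in T (in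
particular T is the unique maximal torus). -/
theorem result (S : Scheme.{u}) (G : Over S) [GrpObj G] [IsCommMonObj G]
    [IsAffineHom G.hom] [Smooth G.hom] (hr : SGA3x.RedRankLocallyConstant G) :
    ∃ (T : Over S) (_ : GrpObj T) (i : T ⟶ G), Red.IsMaximalTorus i ∧
      ∀ (R : Over S) [GrpObj R] (j : R ⟶ G) [IsMonHom j] [Mono j], Red.IsTorus R → ∃ f : R ⟶ T, f ≫ i = j := by
  have hcomm : ∀ {W : Scheme.{u}} (f : W ⟶ S) (X : Over W) (x y : X ⟶ Red.bc f G), x * y = y * x := fun f X x y => by
    apply (Groth.Reductive.bcPointEquiv f G X).injective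
    rw [map_mul, map_mul, mul_comm]
  obtain ⟨S', f, hf, hsurj, T', _, i', hi'⟩ :=
    Groth.Reductive.RedRank.hasMaxTorusEtaleLocally_of_redRank hr
  haveI := hf; haveI := hsurj; haveI := hi'.1; haveI := hi'.2.1
  haveI : IsAffineHom (Red.bc f G).hom := MorphismProperty.pullback_snd (P := @IsAffineHom) _ _ inferInstance
  haveI : Smooth (Red.bc f G).hom := MorphismProperty.pullback_snd (P := @Smooth) _ _ inferInstance
  haveI : Mono i' := hi'.2.1
  have hu : Groth.Reductive2.SubDescent.UnivT (Red.bc f G) T' i' := fun S'' f' H _ v _ hH => by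
    haveI : IsAffineHom (Red.bc f' (Red.bc f G)).hom :=
      MorphismProperty.pullback_snd (P := @IsAffineHom) _ _ inferInstance
    haveI : Smooth (Red.bc f' (Red.bc f G)).hom := MorphismProperty.pullback_snd (P := @Smooth) _ _ inferInstance
    exact Groth.Reductive.RedRank.exists_factor_of_central _
      (Groth.Reductive.RedRank.isMaximalTorus_bc hi' f') v hH fun X x y => by
        apply (Groth.Reductive.bcPointEquiv f' (Red.bc f G) X).injective
        rw [map_mul, map_mul]
        exact hcomm f _ _ _
  haveI : Flat f := inferInstance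
  obtain ⟨T, _, i, him, himono, hT, huT⟩ := Groth.Reductive2.SubDescent.exists_descendT
    (fun V hV => (Groth.Reductive.FreeDiag.qcCover_singleton_iff f).1 (by
      rw [← Scheme.presieve₀_mem_qcPrecoverage_iff, PreZeroHypercover.presieve₀_singleton.{u} f]
      exact Groth.Pi1Desc.IsCover.qc) V hV) hi'.2.2.1 hu
  haveI := him; haveI := himono
  refine ⟨T, inferInstance, i, ⟨him, himono, hT, fun s T₁ _ j _ _ g hT₁ hg => ?_⟩, fun R _ j _ _ hR => ?_⟩
  · obtain ⟨w, hw⟩ := huT _ (Red.geomPt s) T₁ j hT₁
    exact ⟨w, by rw [← cancel_mono ((Over.pullback (Red.geomPt s)).map i), Category.assoc, hw, hg, Category.id_comp],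
      by rw [← cancel_mono j, Category.assoc, hg, hw, Category.id_comp]⟩
  · exact Groth.Reductive.RedRank.exists_factor_of_central i ⟨him, himono, hT, fun s T₁ _ j _ _ g hT₁ hg => by
      obtain ⟨w, hw⟩ := huT _ (Red.geomPt s) T₁ j hT₁
      exact ⟨w, by rw [← cancel_mono ((Over.pullback (Red.geomPt s)).map i), Category.assoc, hw, hg, Category.id_comp],
        by rw [← cancel_mono j, Category.assoc, hg, hw, Category.id_comp]⟩⟩ j hR
      fun X x y => mul_comm x y
end Groth.Agent.S4139
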