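import Groth.Statements.S4140
import Groth.Agent.Sga3.NeutralGen.Coincidence

set_option autoImplicit false
universe u
open CategoryTheory MonoidalCategory CartesianMonoidalCategory MonObj GrpObj AlgebraicGeometry CategoryTheory.Limits
open SGA3

namespace Groth.Agent.S4140

/-- Let G be an S-group scheme locally of finite presentation over S such that s ↦ dim G_s is locally
constant, and σ, τ two S-points of G with values in the neutral component G⁰ (their images lie in
the union of the neutral components of the fibres). Then the subscheme of coincidences of σ and τ
(the pullback of the diagonal of G along (σ, τ)) is a closed subscheme of S. -/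
theorem result (S : Scheme.{u}) (G : Over S) [GrpObj G]
    [LocallyOfFinitePresentation G.hom]
    (hdim : IsLocallyConstant (fun s : S => topologicalKrullDim ↥(G.hom.base ⁻¹' {s})))
    (σ τ : 𝟙_ (Over S) ⟶ G) (hσ : Set.range σ.left.base ⊆ SGA3x.neutralSet G)
    (hτ : Set.range τ.left.base ⊆ SGA3x.neutralSet G) :
    IsClosedImmersion (pullback.fst (lift σ τ) (lift (𝟙 G) (𝟙 G))).left := by
  exact Groth.Sga3.NeutralGen.isClosedImmersion_coincidence
    (Groth.Sga3.NeutralGen.constDim_of_isLocallyConstant G hdim) σ τ hσ hτ

end Groth.Agent.S4140
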