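import Groth.Statements.S8393
import Groth.Agent.S5357
import Groth.Agent.S4130
import Groth.Agent.AlgGrp1.AffineGrp
import Groth.Agent.Agf.SubobjGrp
import Groth.Agent.Reductive2.UnipotentTrivial
import Groth.Agent.Reductive2.MultTypeSpec
-- import your own Groth.Agent.* helpers here

set_option autoImplicit false
universe u
open CategoryTheory MonoidalCategory CartesianMonoidalCategory MonObj GrpObj AlgebraicGeometry
open SGA3x

open scoped Groth.Agf

namespace Groth.Agent.S8393

/-- Let G be an affine algebraic group over a field k (an affine k-group scheme of finite type). Then G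
admits a reductive centre: a subgroup scheme Z of G which is central and of multiplicative type, and
such that for every k-scheme S′ and every central homomorphism v : H → G ×_k S′ from an S′-group H
of multiplicative type and of finite type, v factors through Z ×_k S′. -/
theorem result (k : Type u) [Field k]
    (G : Over (Spec (CommRingCat.of k))) [GrpObj G] [IsAffine G.left] [QuasiCompact G.hom] [LocallyOfFiniteType G.hom] :
    ∃ (Z : Over (Spec (CommRingCat.of k))) (_ : GrpObj Z) (z : Z ⟶ G), IsMonHom z ∧ Mono z ∧ SGA3x.IsMultTypeFT Z ∧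
      (∀ (X : Over (Spec (CommRingCat.of k))) (x : X ⟶ Z) (g : X ⟶ G), (x ≫ z) * g = g * (x ≫ z)) ∧
      ∀ (S' : Scheme.{u}) (f : S' ⟶ (Spec (CommRingCat.of k))) (H : Over S') [GrpObj H] (v : H ⟶ Red.bc f G) [IsMonHom v],
        SGA3x.IsMultTypeFT H →
        (∀ (X : Over S') (x : X ⟶ H) (g : X ⟶ Red.bc f G), (x ≫ v) * g = g * (x ≫ v)) →
        ∃ w : H ⟶ Red.bc f Z, w ≫ (Over.pullback f).map z = v := by
  obtain ⟨C, c, hc, hC⟩ := Groth.Agent.S5357.result k G G (𝟙 G) (𝟙 G)
  have := hc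
  have : Mono c := Over.mono_of_mono_left c
  have hcomm : ∀ (X : Over (Spec (CommRingCat.of k))) (x : X ⟶ C) (Y : Over (Spec (CommRingCat.of k)))
      (s : Y ⟶ X) (g : Y ⟶ G), (s ≫ x ≫ c) * g = g * (s ≫ x ≫ c) := fun X x Y s g => by
    have h := (hC X (x ≫ c)).mp ⟨x, rfl⟩ Y s g
    rw [Category.comp_id] at h
    exact mul_inv_eq_iff_eq_mul.mp h
  obtain ⟨grpC, hcm⟩ := Groth.Agf.exists_grpObj_of_subgroup c
    (fun T a => ∀ (W : Over (Spec (CommRingCat.of k))) (t : W ⟶ T) (g : W ⟶ G), (t ≫ a) * g = g * (t ≫ a))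
    (fun T a => ⟨fun ⟨z, hz⟩ W t g => by subst hz; exact hcomm T z W t g,
      fun h => (hC T a).mpr fun W t g => by
        rw [Category.comp_id, mul_inv_eq_iff_eq_mul]; exact h W t g⟩)
    (fun T W t g => by simp [MonObj.comp_one])
    (fun T a b ha hb W t g => by
      rw [MonObj.comp_mul, _root_.mul_assoc, hb, ← _root_.mul_assoc, ha, _root_.mul_assoc])
    (fun T a ha W t g => by
      rw [GrpObj.comp_inv, inv_mul_eq_iff_eq_mul, ← _root_.mul_assoc, ha, mul_inv_cancel_right])
  have : IsAffine C.left := isAffine_of_isAffineHom c.left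
  have : LocallyOfFiniteType C.hom := by rw [← Over.w c]; infer_instance
  obtain ⟨A, _, _, _, e, he⟩ := Groth.AlgGrp1.exists_hopf_iso C
  have hAcomm : ∀ (X : Over (Spec (CommRingCat.of k))) (x y : X ⟶ CoactBr.sp k A), x * y = y * x := by
    intro X x y
    rw [← cancel_mono e.hom, ← cancel_mono c, MonObj.mul_comp, MonObj.mul_comp, MonObj.mul_comp, MonObj.mul_comp]
    have h := hcomm X (x ≫ e.hom) X (𝟙 X) ((y ≫ e.hom) ≫ c)
    rwa [Category.id_comp] at h
  have := Groth.Reductive2.UnipTriv.isCocomm_of_comm hAcomm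
  have hB := Groth.Sga3.UnipotentPart.isHopfSubalgebra_unip (k := k) (A := A)
  let J := SGA3.augIdealSpan k A (Groth.Sga3.UnipotentPart.unip k A)
  have : J.IsHopfIdeal k := Groth.Sga3.SubHopfStruct.isHopfIdeal_augIdealSpan hB
  have : Algebra.FiniteType k (A ⧸ J) :=
    .of_surjective (Ideal.Quotient.mkₐ k J) Ideal.Quotient.mk_surjective
  let Q := Bialgebra.Quotient.mkBialgHom (R := k) J
  let z₀ : CoactBr.sp k (A ⧸ J) ⟶ CoactBr.sp k A := CoactBr.pt (Q : A →ₐ[k] A ⧸ J)
  have : IsMonHom z₀ := Groth.AlgGrp1.isMonHom_pt_bialg Q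
  have : Mono z₀ := by
    have : IsClosedImmersion z₀.left := IsClosedImmersion.spec_of_surjective _ Ideal.Quotient.mk_surjective
    exact Over.mono_of_mono_left z₀
  refine ⟨CoactBr.sp k (A ⧸ J), inferInstance, z₀ ≫ e.hom ≫ c, inferInstance, inferInstance,
    Groth.Reductive2.MTSpec.isMultTypeFT (A ⧸ J) (AlgebraicClosure k) (Groth.Agent.S4130.isDiag_quotient J le_rfl),
    fun X x g => by
      have h := hcomm X (x ≫ z₀ ≫ e.hom) X (𝟙 X) g
      simpa [Category.assoc] using h, ?_⟩
  intro S' f H _ v _ hH hv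
  let g := Groth.Reductive.bcPointEquiv f G H v
  obtain ⟨y₀, hy₀⟩ : ∃ y : (Over.map f).obj H ⟶ C, y ≫ c = g := by
    refine (hC _ g).mpr fun W s x => ?_
    rw [Category.comp_id, mul_inv_eq_iff_eq_mul]
    let W' : Over S' := Over.mk (s.left ≫ H.hom)
    let s' : W' ⟶ H := Over.homMk s.left rfl
    let o : W ⟶ (Over.map f).obj W' := Over.homMk (𝟙 _) (by
      show 𝟙 _ ≫ (s.left ≫ H.hom) ≫ f = W.hom
      rw [Category.id_comp, Category.assoc]; exact Over.w s)
    let o' : (Over.map f).obj W' ⟶ W := Over.homMk (𝟙 _) (by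
      show 𝟙 _ ≫ W.hom = (s.left ≫ H.hom) ≫ f
      rw [Category.id_comp, Category.assoc]; exact (Over.w s).symm)
    have hs : o ≫ (Over.map f).map s' = s := Over.OverMorphism.ext (Category.id_comp _)
    have hoo : o ≫ o' = 𝟙 W := Over.OverMorphism.ext (Category.id_comp _)
    have h := congrArg (fun m => o ≫ Groth.Reductive.bcPointEquiv f G W' m)
      (hv W' s' ((Groth.Reductive.bcPointEquiv f G W').symm (o' ≫ x)))
    simp only [map_mul, MulEquiv.apply_symm_apply, Groth.Reductive.bcPointEquiv_comp, MonObj.comp_mul,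
      reassoc_of% hs, reassoc_of% hoo] at h
    exact h
  let y := y₀ ≫ e.inv
  have hyc : y ≫ e.hom ≫ c = g := by simp [y, hy₀]
  have hy : ∀ (Z : Over S') (a b : Z ⟶ H),
      (Over.map f).map (a * b) ≫ y = ((Over.map f).map a ≫ y) * ((Over.map f).map b ≫ y) := by
    intro Z a b
    rw [← cancel_mono e.hom, ← cancel_mono c, MonObj.mul_comp, MonObj.mul_comp]
    simp only [Category.assoc, hyc, g, ← Groth.Reductive.bcPointEquiv_comp]
    rw [MonObj.mul_comp, map_mul]
  have hkill := Groth.Reductive2.UnipTriv.val_eq_zero_of_multType f H hH y hy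
  let θ : A ⧸ J →ₐ[k] Groth.Agf.Fn ((Over.map f).obj H) :=
    Ideal.Quotient.liftₐ J (Groth.Reductive2.UnipTriv.val y) hkill
  refine ⟨(Groth.Reductive.bcPointEquiv f (CoactBr.sp k (A ⧸ J)) H).symm
    (Groth.Reductive2.UnipTriv.tP _ ≫ CoactBr.pt θ), ?_⟩
  apply (Groth.Reductive.bcPointEquiv f G H).injective
  refine (Adjunction.homEquiv_naturality_right_symm _ _ _).trans ?_
  show Groth.Reductive.bcPointEquiv f (CoactBr.sp k (A ⧸ J)) H _ ≫ _ = g
  rw [MulEquiv.apply_symm_apply, ← hyc]
  conv_rhs => rw [Groth.Reductive2.UnipTriv.eq_tP_pt y]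
  simp only [Category.assoc]
  congr 1
  simp only [z₀, ← Category.assoc, ← CoactBr.pt_comp]
  congr 3

end Groth.Agent.S8393
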