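import Groth.Statements.S4149
import Groth.Agent.S8393
import Groth.Agent.Hopf.Cochar.Basic
import Groth.Agent.AlgGrp1.NilpotentGrp
import Groth.Agent.AlgGrp1.RigidMT
import Groth.Agent.AlgGrp1.MonoHom
import Groth.Agent.AlgGrp1.Geom
-- import your own Groth.Agent.* helpers here

set_option autoImplicit false
universe u
open CategoryTheory MonoidalCategory CartesianMonoidalCategory MonObj GrpObj AlgebraicGeometry CategoryTheory.Limits
open SGA3x

namespace Groth.Agent.S4149

open scoped commutatorElement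
open Groth.AlgGrp1

variable {k : Type u} [Field k] {G : Over (Spec (CommRingCat.of k))} [GrpObj G]

@[reducible] noncomputable def grpWordArgs (G : Over (Spec (CommRingCat.of k))) [GrpObj G] :
    (n : ℕ) → GrpObj (wordArgs G n)
  | 0 => inferInstanceAs (GrpObj (𝟙_ (Over (Spec (CommRingCat.of k)))))
  | n + 1 => by
    letI := grpWordArgs G n
    exact inferInstanceAs (GrpObj (G ⊗ wordArgs G n))

theorem lfp_wordArgs [LocallyOfFiniteType G.hom] [QuasiCompact G.hom] :
    (n : ℕ) → LocallyOfFiniteType (wordArgs G n).hom ∧ QuasiCompact (wordArgs G n).hom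
  | 0 => ⟨inferInstanceAs (LocallyOfFiniteType (𝟙 _)), inferInstanceAs (QuasiCompact (𝟙 _))⟩
  | n + 1 => by
    obtain ⟨_, _⟩ := lfp_wordArgs n
    exact ⟨inferInstanceAs (LocallyOfFiniteType (pullback.fst G.hom (wordArgs G n).hom ≫ G.hom)),
      inferInstanceAs (QuasiCompact (pullback.fst G.hom (wordArgs G n).hom ≫ G.hom))⟩

theorem connectedSpace_wordArgs [LocallyOfFiniteType G.hom] [ConnectedSpace G.left] :
    (n : ℕ) → ConnectedSpace ↥(wordArgs G n).left
  | 0 => inferInstanceAs (ConnectedSpace ↥(Spec (CommRingCat.of k)))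
  | n + 1 => by
    haveI := connectedSpace_wordArgs n
    haveI : GeometricallyConnected G.hom := geometricallyConnected_of_point G.hom η[G].left (Over.w η[G])
    haveI : UniversallyOpen G.hom := inferInstance
    exact inferInstanceAs (ConnectedSpace ↥(pullback G.hom (wordArgs G n).hom))

theorem word_succ {i : ℕ} {T : Over (Spec (CommRingCat.of k))} (u : T ⟶ G)
    (z : T ⟶ wordArgs G (i + 1)) : lift u z ≫ word G (i + 1) =
      lift ⁅u, (z : T ⟶ G ⊗ wordArgs G i) ≫ fst G (wordArgs G i)⁆
        ((z : T ⟶ G ⊗ wordArgs G i) ≫ snd G (wordArgs G i)) ≫ word G i :=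
  (congrArg (fun w : T ⟶ wordArgs G (i + 1) => lift u w ≫ word G (i + 1))
    (lift_comp_fst_snd (z : T ⟶ G ⊗ wordArgs G i)).symm).trans (lift_word_succ u _ _)

theorem word_eq_one_of_mem : ∀ (i : ℕ) {T : Over (Spec (CommRingCat.of k))} (u : T ⟶ G)
    (z : T ⟶ wordArgs G i), u ∈ Subgroup.upperCentralSeries (T ⟶ G) i → lift u z ≫ word G i = 1
  | 0, T, u, z, hu => by
    rw [Subgroup.upperCentralSeries_zero, Subgroup.mem_bot] at hu
    rw [show word G 0 = fst _ _ from rfl, lift_fst, hu]
  | i + 1, T, u, z, hu => by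
    rw [word_succ]
    exact word_eq_one_of_mem i _ _ (Subgroup.mem_upperCentralSeries_succ_iff.mp hu _)

theorem word_mem_center : ∀ (i : ℕ) {T : Over (Spec (CommRingCat.of k))} (u : T ⟶ G)
    (z : T ⟶ wordArgs G i), u ∈ Subgroup.upperCentralSeries (T ⟶ G) (i + 1) →
      lift u z ≫ word G i ∈ Subgroup.center (T ⟶ G)
  | 0, T, u, z, hu => by
    rw [Subgroup.upperCentralSeries_one] at hu
    rwa [show word G 0 = fst _ _ from rfl, lift_fst]
  | i + 1, T, u, z, hu => by
    rw [word_succ]
    exact word_mem_center i _ _ (Subgroup.mem_upperCentralSeries_succ_iff.mp hu _)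

theorem word_mul : ∀ (i : ℕ) {T : Over (Spec (CommRingCat.of k))} (u v : T ⟶ G)
    (z : T ⟶ wordArgs G i), u ∈ Subgroup.upperCentralSeries (T ⟶ G) (i + 1) →
      v ∈ Subgroup.upperCentralSeries (T ⟶ G) (i + 1) →
      lift (u * v) z ≫ word G i = (lift u z ≫ word G i) * (lift v z ≫ word G i)
  | 0, T, u, v, z, hu, hv => by
    simp only [show word G 0 = fst _ _ from rfl, lift_fst]
  | i + 1, T, u, v, z, hu, hv => by
    rw [word_succ, word_succ, word_succ]
    set y := (z : T ⟶ G ⊗ wordArgs G i) ≫ fst G (wordArgs G i)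
    set z' := (z : T ⟶ G ⊗ wordArgs G i) ≫ snd G (wordArgs G i)
    have ha : ⁅v, y⁆ ∈ Subgroup.upperCentralSeries (T ⟶ G) (i + 1) :=
      Subgroup.mem_upperCentralSeries_succ_iff.mp hv y
    have hb : ⁅u, y⁆ ∈ Subgroup.upperCentralSeries (T ⟶ G) (i + 1) :=
      Subgroup.mem_upperCentralSeries_succ_iff.mp hu y
    have hc : ⁅u, ⁅v, y⁆⁆ ∈ Subgroup.upperCentralSeries (T ⟶ G) i := by
      rw [← commutatorElement_inv]
      exact inv_mem (Subgroup.mem_upperCentralSeries_succ_iff.mp ha u)
    rw [show ⁅u * v, y⁆ = ⁅u, ⁅v, y⁆⁆ * ⁅v, y⁆ * ⁅u, y⁆ by simp only [commutatorElement_def]; group]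
    rw [word_mul i _ _ _ (mul_mem (Subgroup.upperCentralSeries_mono _ (Nat.le_succ i) hc) ha) hb,
      word_mul i _ _ _ (Subgroup.upperCentralSeries_mono _ (Nat.le_succ i) hc) ha,
      word_eq_one_of_mem i _ _ hc, _root_.one_mul]
    exact Subgroup.mem_center_iff.mp (word_mem_center i _ z' hb) _

/-- In a connected nilpotent group a homomorphism from a group of multiplicative type is central. -/
theorem central_of_nilpotent [LocallyOfFiniteType G.hom] [QuasiCompact G.hom] [ConnectedSpace G.left]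
    (hnil : ∃ n : ℕ, ∀ X : Over (Spec (CommRingCat.of k)), (⊤ : Subgroup (X ⟶ G)).lowerCentralSeries n = ⊥)
    {M : Over (Spec (CommRingCat.of k))} [GrpObj M] (hM : SGA3x.IsMultTypeFT M) (m : M ⟶ G) [IsMonHom m]
    (X : Over (Spec (CommRingCat.of k))) (x : X ⟶ M) (g : X ⟶ G) : (x ≫ m) * g = g * (x ≫ m) := by
  obtain ⟨n, hn⟩ := hnil
  let Hj : ℕ → Prop := fun j => ∀ (T : Over (Spec (CommRingCat.of k))) (x : T ⟶ M),
    x ≫ m ∈ Subgroup.upperCentralSeries (T ⟶ G) j
  have hn' : Hj (n + 1) := fun T x => Subgroup.upperCentralSeries_mono _ (Nat.le_succ n) (by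
    rw [Subgroup.lowerCentralSeries_eq_bot_iff_upperCentralSeries_eq_top.mp (hn T)]
    trivial)
  have hstep : ∀ j, Hj (j + 2) → Hj (j + 1) := fun j hj T x => by
    refine mem_ucs_of_word (j + 1) T (x ≫ m) fun z => ?_
    letI := grpWordArgs G (j + 1)
    haveI := (lfp_wordArgs (G := G) (j + 1)).1
    haveI := (lfp_wordArgs (G := G) (j + 1)).2
    haveI := connectedSpace_wordArgs (G := G) (j + 1)
    let ψ : wordArgs G (j + 1) ⊗ M ⟶ G :=
      lift (snd _ _ ≫ m) (fst (wordArgs G (j + 1)) M) ≫ word G (j + 1)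
    have hψ : ∀ (T : Over (Spec (CommRingCat.of k))) (a : T ⟶ wordArgs G (j + 1)) (h : T ⟶ M),
        lift a h ≫ ψ = lift (h ≫ m) a ≫ word G (j + 1) := fun T a h => by
      simp only [ψ, ← Category.assoc, comp_lift, lift_fst, lift_snd]
    have h1 := family_hom_eq_one hM ψ (fun T a h h' => by
      rw [hψ, hψ, hψ, MonObj.mul_comp]
      exact word_mul (j + 1) _ _ _ (hj T h) (hj T h')) (fun T h => by
      rw [hψ]
      letI := grpWordArgs G j
      have e : (1 : T ⟶ wordArgs G (j + 1)) = lift (1 : T ⟶ G) (1 : T ⟶ wordArgs G j) := by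
        apply CartesianMonoidalCategory.hom_ext
        · rw [lift_fst]; exact MonObj.one_comp (fst G (wordArgs G j))
        · rw [lift_snd]; exact MonObj.one_comp (snd G (wordArgs G j))
      rw [e]
      refine (lift_word_succ (h ≫ m) (1 : T ⟶ G) (1 : T ⟶ wordArgs G j)).trans ?_
      rw [commutatorElement_one_right]
      exact word_eq_one_of_mem j _ _ (one_mem _))
    have h2 := hψ T z x
    rw [h1, MonObj.comp_one] at h2
    exact h2.symm
  have h1 : ∀ i, i ≤ n → Hj (n + 1 - i) := fun i => by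
    induction i with
    | zero => intro _; exact hn'
    | succ i ih =>
      intro hi
      obtain ⟨j, hj⟩ : ∃ j, n + 1 - i = j + 2 := ⟨n - i - 1, by omega⟩
      rw [show n + 1 - (i + 1) = j + 1 by omega]
      exact hstep j (hj ▸ ih (by omega))
  have h := h1 n le_rfl X x
  rw [show n + 1 - n = 1 by omega, Subgroup.upperCentralSeries_one] at h
  exact (Subgroup.mem_center_iff.mp h g).symm

/-- Let G be an affine, connected algebraic group over a field k which is nilpotent (for some n the n-th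
term of the lower central series of G(X) is trivial for every k-scheme X). Then G has a largest
subgroup of multiplicative type M — a closed subgroup scheme of multiplicative type and of finite
type through which every such subgroup factors — and M is central in G. (The source adds that M is
characteristic and G/M unipotent.) -/
theorem result (k : Type u) [Field k] (G : Over (Spec (CommRingCat.of k)))
    [GrpObj G] [IsAffine G.left] [LocallyOfFiniteType G.hom] [ConnectedSpace ↥G.left]
    (hnil : ∃ n : ℕ, ∀ X : Over (Spec (CommRingCat.of k)), (⊤ : Subgroup (X ⟶ G)).lowerCentralSeries n = ⊥) :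
    ∃ (M : Over (Spec (CommRingCat.of k))) (_ : GrpObj M) (m : M ⟶ G), IsMonHom m ∧ IsClosedImmersion m.left ∧
      SGA3x.IsMultTypeFT M ∧
      (∀ (M' : Over (Spec (CommRingCat.of k))) [GrpObj M'] (m' : M' ⟶ G) [IsMonHom m'] [Mono m'],
        SGA3x.IsMultTypeFT M' → ∃ f : M' ⟶ M, f ≫ m = m') ∧
      ∀ (X : Over (Spec (CommRingCat.of k))) (x : X ⟶ M) (g : X ⟶ G), (x ≫ m) * g = g * (x ≫ m) := by
  haveI : QuasiCompact G.hom := inferInstance
  obtain ⟨Z, _, z, hz, hzm, hZ, hc, hu⟩ := Groth.Agent.S8393.result k G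
  haveI := hz
  haveI := hzm
  haveI : LocallyOfFiniteType Z.hom :=
    haveI := (Groth.Cochar.props hZ).2.2
    inferInstance
  haveI : QuasiCompact Z.hom := by
    haveI := (Groth.Cochar.props hZ).1
    infer_instance
  refine ⟨Z, inferInstance, z, hz, Groth.AlgGrp1.isClosedImmersion_of_mono_hom z, hZ, ?_, hc⟩
  intro M' _ m' _ _ hM'
  let f := 𝟙 (Spec (CommRingCat.of k))
  let H := Red.bc f M'
  let v : H ⟶ Red.bc f G := (Over.pullback f).map m'
  haveI : IsMonHom v := inferInstance
  obtain ⟨w, hw⟩ := hu _ f H v (Groth.Reductive.FreeDiag.isMultTypeFT_bc hM' f) (fun X x g => by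
    apply (Groth.Reductive.bcPointEquiv f G X).injective
    rw [map_mul, map_mul]
    have e : Groth.Reductive.bcPointEquiv f G X (x ≫ v) = Groth.Reductive.bcPointEquiv f M' X x ≫ m' :=
      Adjunction.homEquiv_naturality_right_symm _ _ _
    rw [e]
    exact central_of_nilpotent hnil hM' m' _ _ _)
  let i : M' ≅ H := (Over.pullbackId.app M').symm
  refine ⟨i.hom ≫ w ≫ (Over.pullbackId.app Z).hom, ?_⟩
  rw [Category.assoc, Category.assoc]
  have n1 : (Over.pullback f).map z ≫ (Over.pullbackId.app G).hom = (Over.pullbackId.app Z).hom ≫ z :=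
    Over.pullbackId.hom.naturality z
  have n2 : v ≫ (Over.pullbackId.app G).hom = (Over.pullbackId.app M').hom ≫ m' :=
    Over.pullbackId.hom.naturality m'
  rw [← n1, reassoc_of% hw, n2]
  exact (Over.pullbackId.app M').inv_hom_id_assoc m'

end Groth.Agent.S4149
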