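import Groth.Statements.S4150
import Groth.Agent.AlgGrpAb.Category
import Groth.Agent.AlgGrp1.AffineQuot

set_option autoImplicit false
universe u
open CategoryTheory MonoidalCategory CartesianMonoidalCategory MonObj GrpObj AlgebraicGeometry CategoryTheory.Limits
open SGA3

namespace Groth.Agent.S4150

/-- Let k be a field. The category of commutative algebraic k-groups (commutative group objects in
k-schemes whose underlying scheme is of finite type over k, as a full subcategory of commutative
group objects over Spec k) is an abelian category. -/
theorem result (k : Type u) [Field k] :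
    Nonempty (Abelian (ObjectProperty.FullSubcategory
      (fun G : CommGrp (Over (Spec (CommRingCat.of k))) => LocallyOfFiniteType G.X.hom ∧ QuasiCompact G.X.hom))) :=
  Groth.AlgGrpAb.nonempty_abelian
    { lft := fun _ h => h
      trivial := ⟨inferInstanceAs (LocallyOfFiniteType (𝟙 _)), inferInstanceAs (QuasiCompact (𝟙 _))⟩
      prod := fun G H ⟨a, b⟩ ⟨c, d⟩ => ⟨inferInstanceAs (LocallyOfFiniteType (pullback.fst G.X.hom H.X.hom ≫ G.X.hom)),
        inferInstanceAs (QuasiCompact (pullback.fst G.X.hom H.X.hom ≫ G.X.hom))⟩
      closed := fun K G i hi ⟨a, b⟩ => by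
        rw [← Over.w i]; exact ⟨inferInstance, inferInstance⟩
      quot := fun _ _ _ _ _ h1 h2 _ => ⟨h1, h2⟩ }

end Groth.Agent.S4150
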