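import Groth.Statements.S4192
import Groth.Agent.ZetaAn.PtsConnected

set_option autoImplicit false
open CategoryTheory AlgebraicGeometry Topology TopologicalSpace
open An

namespace Groth.Agent.S4192

/-- For X locally of finite type over ℂ, the map π_0(X(ℂ)) → π_0(X) induced by the continuous map X(ℂ) →
X is bijective. -/
theorem result (X : Scheme.{0}) [X.Over An.SC] [LocallyOfFiniteType (X ↘ An.SC)] :
    Function.Bijective (An.Pts.continuous_pt (X := X)).connectedComponentsMap := by
  exact Groth.ZetaAn.connectedComponentsMap_bijective

end Groth.Agent.S4192
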