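import Groth.Statements.S4201
import Groth.Agent.ZetaAn.PtsBasic

set_option autoImplicit false
open CategoryTheory AlgebraicGeometry Topology TopologicalSpace
open An

namespace Groth.Agent.S4201

/-- The direction from schemes to spaces: an immersion f : X → Y of schemes locally of finite type over
ℂ induces an embedding X(ℂ) → Y(ℂ) whose image is locally closed. -/
theorem result (X Y : Scheme.{0}) [X.Over An.SC] [LocallyOfFiniteType (X ↘ An.SC)]
    [Y.Over An.SC] [LocallyOfFiniteType (Y ↘ An.SC)] (f : X ⟶ Y) [f.IsOver An.SC] [IsImmersion f] :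
    Topology.IsEmbedding (An.Pts.map f) ∧ IsLocallyClosed (Set.range (An.Pts.map f)) := by
  letI : (f.coborderRange : Scheme).Over An.SC := ⟨f.coborderRange.ι ≫ Y ↘ An.SC⟩
  haveI : f.coborderRange.ι.IsOver An.SC := ⟨rfl⟩
  haveI : f.liftCoborder.IsOver An.SC := ⟨by
    change f.liftCoborder ≫ f.coborderRange.ι ≫ Y ↘ An.SC = X ↘ An.SC
    rw [f.liftCoborder_ι_assoc, comp_over f]⟩
  haveI : LocallyOfFiniteType ((f.coborderRange : Scheme) ↘ An.SC) :=
    inferInstanceAs (LocallyOfFiniteType (f.coborderRange.ι ≫ Y ↘ An.SC))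
  have h : An.Pts.map f = An.Pts.map f.coborderRange.ι ∘ An.Pts.map f.liftCoborder := by
    funext x
    exact Subtype.ext (by simp)
  refine ⟨?_, ?_⟩
  · rw [h]
    exact (Groth.ZetaAn.isOpenEmbedding_map _).isEmbedding.comp (Groth.ZetaAn.isClosedEmbedding_map _).isEmbedding
  · rw [Groth.ZetaAn.range_map]
    exact f.isLocallyClosed_range.preimage An.Pts.continuous_pt

end Groth.Agent.S4201
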