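import Groth.Statements.S4205
import Groth.Agent.ZetaAn.PtsProper

set_option autoImplicit false
open CategoryTheory AlgebraicGeometry Topology TopologicalSpace
open An

namespace Groth.Agent.S4205

/-- Let X be a scheme of finite type over ℂ (locally of finite type and quasi-compact over ℂ, carried as
two instance hypotheses). Then X is proper over ℂ if and only if X(ℂ) with the complex topology is
compact and Hausdorff. -/
theorem result (X : Scheme.{0}) [X.Over An.SC] [LocallyOfFiniteType (X ↘ An.SC)] [QuasiCompact (X ↘ An.SC)] :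
    IsProper (X ↘ An.SC) ↔ CompactSpace (An.Pts X) ∧ T2Space (An.Pts X) := by
  letI : An.SC.Over An.SC := ⟨𝟙 _⟩
  haveI : LocallyOfFiniteType (An.SC ↘ An.SC) := inferInstanceAs (LocallyOfFiniteType (𝟙 An.SC))
  haveI : (X ↘ An.SC).IsOver An.SC := ⟨Category.comp_id _⟩
  rw [Groth.ZetaAn.isProper_iff_pts]
  let c : An.Pts An.SC := ⟨𝟙 _, Category.comp_id _⟩
  haveI : Subsingleton (An.Pts An.SC) := ⟨fun a b => Subtype.ext
    (((Category.comp_id _).symm.trans a.2).trans (b.2.symm.trans (Category.comp_id _)))⟩
  have hmap : An.Pts.map (X ↘ An.SC) = fun _ => c := funext fun _ => Subsingleton.elim _ _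
  rw [hmap, isProperMap_const_iff]
  exact and_congr_right fun _ => ⟨fun h => ⟨fun a b hab => h a b rfl hab⟩,
    fun h a b _ hab => h.t2 hab⟩

end Groth.Agent.S4205
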