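import Groth.Statements.S4211
import Groth.Agent.ZetaAn.OpensDense

set_option autoImplicit false
universe u
open An

namespace Groth.Agent.S4211

/-- For a topological space T, the inclusion of the opens of T into the site of local homeomorphisms
over T is continuous. This is the hypothesis An.OpCont carried by statements that restrict classical
sheaves to opens. -/
theorem result (T : Type u) [TopologicalSpace T] :
    An.OpCont T := by
  exact Groth.ZetaAn.opCont T

end Groth.Agent.S4211
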