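import Groth.Statements.S4243
import Mathlib.Combinatorics.Nullstellensatz
-- import your own Groth.Agent.* helpers here

set_option autoImplicit false
open SGA4h

namespace Groth.Agent.S4243

/-- Let k be a finite field with q elements and P a nonzero homogeneous polynomial of degree d in r+1
variables over k. If P vanishes at every point of k^{r+1} (that is, the hypersurface P = 0 in
projective r-space passes through every rational point), then d ≥ q + 1. -/
theorem result (k : Type) [Field k] [Fintype k] (r d : ℕ)
    (P : MvPolynomial (Fin (r + 1)) k) (hP : P.IsHomogeneous d) (hP0 : P ≠ 0)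
    (hvan : ∀ x : Fin (r + 1) → k, MvPolynomial.eval x P = 0) :
    Fintype.card k + 1 ≤ d := by
  classical
  have hq : 1 < Fintype.card k := Fintype.one_lt_card
  by_contra hlt
  have hd : d ≤ Fintype.card k := by omega
  obtain ⟨q, hqdef⟩ : ∃ q, q = Fintype.card k := ⟨_, rfl⟩
  rw [← hqdef] at hq hd
  let c : Fin (r + 1) → k := fun i => MvPolynomial.coeff (Finsupp.single i q) P
  let Q : MvPolynomial (Fin (r + 1)) k :=
    P - ∑ i, MvPolynomial.C (c i) * (MvPolynomial.X i ^ q - MvPolynomial.X i)
  have hQeval : ∀ x, MvPolynomial.eval x Q = 0 := by
    intro x
    simp [Q, hvan, hqdef, FiniteField.pow_card]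
  have hcoeff : ∀ m, MvPolynomial.coeff m Q = MvPolynomial.coeff m P -
      ∑ i, c i * ((if Finsupp.single i q = m then 1 else 0) - if Finsupp.single i 1 = m then 1 else 0) := by
    intro m
    simp [Q, MvPolynomial.coeff_sum, MvPolynomial.coeff_X_pow, MvPolynomial.coeff_X']
  have hQ : Q = 0 := by
    refine MvPolynomial.eq_zero_of_eval_zero_at_prod_finset Q (fun _ => Finset.univ) ?_
      (fun x _ => hQeval x)
    intro i
    rw [Finset.card_univ, ← hqdef, MvPolynomial.degreeOf_eq_sup, Finset.sup_lt_iff (by simpa using by omega)]
    intro m hm
    rw [MvPolynomial.mem_support_iff, hcoeff] at hm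
    by_contra hmi
    push Not at hmi
    apply hm
    have h1 : ∀ j, ¬ Finsupp.single j 1 = m := by
      intro j h
      rw [← h, Finsupp.single_apply] at hmi
      split_ifs at hmi <;> omega
    by_cases hms : m = Finsupp.single i q
    · subst hms
      rw [Finset.sum_eq_single i]
      · simp [c, h1 i]
      · intro j _ hji
        have : ¬ Finsupp.single j q = Finsupp.single i q := fun h =>
          hji (Finsupp.single_left_injective (by omega) h)
        simp [this, h1 j]
      · simp
    · have h2 : ∀ j, ¬ Finsupp.single j q = m := by
        intro j h
        apply hms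
        rw [← h, Finsupp.single_apply] at hmi
        split_ifs at hmi with hji
        · rw [← h, hji]
        · omega
      have hP' : MvPolynomial.coeff m P = 0 := by
        by_contra hne
        have hdeg := hP hne
        apply hms
        have hdeg' : m.degree = d := by
          rw [Finsupp.degree_eq_weight_one]
          exact hdeg
        ext j
        rw [Finsupp.degree_eq_sum, ← Finset.add_sum_erase _ _ (Finset.mem_univ i)] at hdeg'
        rw [Finsupp.single_apply]
        split_ifs with hji
        · subst hji; omega
        · have := Finset.single_le_sum (f := fun j => m j) (fun _ _ => Nat.zero_le _)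
            (show j ∈ Finset.univ.erase i by simp [Ne.symm hji])
          beta_reduce at this
          omega
      simp [hP', h1, h2]
  have hc : ∀ i, c i = 0 := by
    intro i
    have h := congrArg (MvPolynomial.coeff (Finsupp.single i 1)) hQ
    rw [hcoeff] at h
    have hP1 : MvPolynomial.coeff (Finsupp.single i 1) P = 0 := by
      by_contra hne
      have hdeg : (Finsupp.single i 1).degree = d := by
        have hdeg := hP hne
        rw [Finsupp.degree_eq_weight_one]
        exact hdeg
      rw [Finsupp.degree_single] at hdeg
      have : P = 0 := by
        refine MvPolynomial.eq_zero_of_eval_zero_at_prod_finset P (fun _ => Finset.univ) ?_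
          (fun x _ => hvan x)
        intro j
        have := hP.totalDegree hP0
        have := MvPolynomial.degreeOf_le_totalDegree P j
        rw [Finset.card_univ, ← hqdef]
        omega
      exact hP0 this
    rw [hP1, Finset.sum_eq_single i] at h
    · have h2 : ¬ Finsupp.single i q = Finsupp.single i 1 := fun hh => by
        have := Finsupp.single_injective i hh
        omega
      simpa [h2] using h
    · intro j _ hji
      have h1 : ¬ Finsupp.single j 1 = Finsupp.single i 1 := fun hh =>
        hji (Finsupp.single_left_injective one_ne_zero hh)
      have h2 : ¬ Finsupp.single j q = Finsupp.single i 1 := by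
        intro hh
        have := DFunLike.congr_fun hh j
        simp [Finsupp.single_apply, Ne.symm hji] at this
        omega
      simp [h1, h2]
    · simp
  apply hP0
  simpa [Q, hc] using hQ

end Groth.Agent.S4243
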