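import Groth.Statements.S4256
import Mathlib.NumberTheory.LegendreSymbol.AddCharacter
import Mathlib.Algebra.BigOperators.Ring.Finset
-- import your own Groth.Agent.* helpers here

set_option autoImplicit false
open scoped BigOperators
open SGA4h

namespace Groth.Agent.S4256

/-- Let k be a finite field, ψ a nontrivial additive character of k with values in a domain R, and n ≥
1. Then the generalised Kloosterman sum with parameter 0, Σ ψ(x_1 + ⋯ + x_n) over all (x_1, …, x_n)
∈ k^n with x_1 ⋯ x_n = 0, equals (-1)^{n-1}. -/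
theorem result (k : Type) [Field k] [Fintype k] [DecidableEq k] (R : Type) [CommRing R] [IsDomain R]
    (ψ : AddChar k R) (hψ : ψ ≠ 1) (n : ℕ) (hn : 1 ≤ n) :
    ∑ x ∈ (Finset.univ : Finset (Fin n → k)).filter (fun x => ∏ i, x i = 0), ψ (∑ i, x i) = (-1) ^ (n - 1) := by
  classical
  have hsum : ∀ x : Fin n → k, ψ (∑ i, x i) = ∏ i, ψ (x i) := fun x => by
    induction n with
    | zero => simp
    | succ n ih =>
      rw [Fin.sum_univ_succ, Fin.prod_univ_succ, AddChar.map_add_eq_mul]
      rcases Nat.eq_zero_or_pos n with rfl | hpos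
      · simp
      · rw [ih hpos]
  have h0 : ∑ t : k, ψ t = 0 := AddChar.sum_eq_zero_of_ne_one hψ
  have hall : ∑ x : Fin n → k, ψ (∑ i, x i) = 0 := by
    simp only [hsum]
    rw [← Fintype.piFinset_univ, Finset.sum_prod_piFinset (Finset.univ : Finset k) (fun _ t => ψ t)]
    simp only [h0, Finset.prod_const, Finset.card_univ, Fintype.card_fin]
    exact zero_pow (by omega)
  have hne : ∑ x ∈ (Finset.univ : Finset (Fin n → k)).filter (fun x => ¬ ∏ i, x i = 0),
      ψ (∑ i, x i) = (-1) ^ n := by
    have hf : (Finset.univ : Finset (Fin n → k)).filter (fun x => ¬ ∏ i, x i = 0) =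
        Fintype.piFinset fun _ => (Finset.univ : Finset k).erase 0 := by
      ext x
      simp [Finset.prod_eq_zero_iff]
    rw [hf]
    simp only [hsum]
    rw [Finset.sum_prod_piFinset ((Finset.univ : Finset k).erase 0) (fun _ t => ψ t)]
    simp only [Finset.sum_erase_eq_sub (Finset.mem_univ (0 : k)), h0, AddChar.map_zero_eq_one,
      zero_sub, Finset.prod_const, Finset.card_univ, Fintype.card_fin]
  have hsplit := Finset.sum_filter_add_sum_filter_not (Finset.univ : Finset (Fin n → k))
    (fun x => ∏ i, x i = 0) (fun x => ψ (∑ i, x i))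
  rw [hall, hne] at hsplit
  obtain ⟨n', rfl⟩ := Nat.exists_eq_add_of_le hn
  rw [Nat.add_sub_cancel_left]
  rw [pow_add, pow_one, neg_one_mul, ← sub_eq_add_neg, sub_eq_zero] at hsplit
  exact hsplit

end Groth.Agent.S4256
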