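import Groth.Statements.S4263
import Groth.Agent.Misc6.FrobEt.EndConst

set_option autoImplicit false
universe u
open CategoryTheory CategoryTheory.Limits AlgebraicGeometry Opposite
open scoped BigOperators
open SGA4h

namespace Groth.Agent.S4263

/-- For an affine scheme and constant coefficients, pullback along the Frobenius endomorphism equals the
geometric Frobenius on cohomology: let k be a finite field with q elements, K an algebraic
extension, R a k-algebra, X₀ = Spec R, φ_R : R → R the ring endomorphism r ↦ r^q (the Frobenius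
endomorphism F of X₀ is Spec φ_R, a k-morphism), and Λ a coefficient ring. Then for every n the
endomorphism of H^n(X₀ ⊗_k K, Λ) induced by pullback along F × id (using the identifications of the
inverse images of the constant sheaf Λ with Λ) coincides with the geometric Frobenius F^* defined as
transport of structure by the inverse of the arithmetic Frobenius x ↦ x^q of K. -/
theorem result (k K : Type u) [Field k] [Fintype k] [Field K] [Algebra k K]
    [Algebra.IsAlgebraic k K] (Λ : Type) [CommRing Λ] [Fact FinFr.PullExact.{u}]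
    (R : Type u) [CommRing R] [Algebra k R] (φ : R →+* R) (hφ : ∀ r : R, φ r = r ^ Fintype.card k)
    (hw : Spec.map (CommRingCat.ofHom φ) ≫ Spec.map (CommRingCat.ofHom (algebraMap k R)) =
      Spec.map (CommRingCat.ofHom (algebraMap k R))) (n : ℕ)
    (x : EtCoh.H (FinFr.ext K (Spec.map (CommRingCat.ofHom (algebraMap k R))))
      (EtLam.pullback (FinFr.extπ K (Spec.map (CommRingCat.ofHom (algebraMap k R)))) (FinFr.constLam Λ (Spec (CommRingCat.of R)))).carrier n) :
    FinFr.frob (K := K) (Spec.map (CommRingCat.ofHom (algebraMap k R))) (FinFr.constLam Λ (Spec (CommRingCat.of R))) n x =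
      Sheaf.H.map (EtCore.pullConst (FinFr.extπ K (Spec.map (CommRingCat.ofHom (algebraMap k R)))) Λ).inv n
        (FinFr.endConstAdd (Λ := Λ) (FinFr.extHom K (Spec.map (CommRingCat.ofHom (algebraMap k R))) (Spec.map (CommRingCat.ofHom φ)) hw) n
          (Sheaf.H.map (EtCore.pullConst (FinFr.extπ K (Spec.map (CommRingCat.ofHom (algebraMap k R)))) Λ).hom n x)) := by
  let a := Spec.map (CommRingCat.ofHom (algebraMap k R))
  let G₀ := EtCoh.const (Spec (CommRingCat.of R)) Λ
  let c := EtCore.pullConst (FinFr.extπ K a) Λ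
  haveI := FinFr.pullExact_out (FinFr.galAct a (FinFr.arith k K).symm)
  suffices h : FinFr.endConstAdd (Λ := Λ) (FinFr.galAct a (FinFr.arith k K).symm) n
      (Sheaf.H.map c.hom n x) =
      FinFr.endConstAdd (Λ := Λ) (FinFr.extHom K a (Spec.map (CommRingCat.ofHom φ)) hw) n
        (Sheaf.H.map c.hom n x) by
    have h2 := Misc6.FrobEt.map_HpullVia (Λ := Λ) (FinFr.galAct a (FinFr.arith k K).symm)
      (FinFr.extπ K a) (FinFr.extπ K a) (FinFr.galAct_fst a _) n x
    refine Eq.trans ?_ (congrArg (Sheaf.H.map c.inv n) h)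
    refine Eq.trans ?_ (congrArg (Sheaf.H.map c.inv n) h2)
    rw [← Sheaf.H.map_comp_apply, Iso.hom_inv_id, Sheaf.H.map_id_apply]
    rfl
  generalize Sheaf.H.map c.hom n x = y
  set p := ringChar k
  haveI : CharP k p := ringChar.charP k
  haveI : Fact p.Prime := ⟨CharP.char_is_prime k p⟩
  obtain ⟨r, -, hr⟩ := FiniteField.card k p
  haveI : FrobSch.IsCharP (Spec (CommRingCat.of R)) p := FrobSch.IsCharP.of_hom a p
  haveI : FrobSch.IsCharP (Spec (CommRingCat.of K)) p := FrobSch.IsCharP.of_hom (FinFr.specι k K) p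
  haveI : FrobSch.IsCharP (FinFr.ext K a) p := FrobSch.IsCharP.of_hom (FinFr.extπ K a) p
  let h₀ := FinFr.galAct a (FinFr.arith k K)
  let g := FinFr.galAct a (FinFr.arith k K).symm
  have hinv : h₀ ≫ g = 𝟙 _ := by
    apply pullback.hom_ext
    · simp only [h₀, g, FinFr.galAct, Category.assoc, pullback.lift_fst, Category.id_comp]
    · simp only [h₀, g, FinFr.galAct, Category.assoc, pullback.lift_snd, pullback.lift_snd_assoc,
        Category.id_comp, ← Spec.map_comp, ← CommRingCat.ofHom_comp]
      rw [show ((FinFr.arith k K : K →+* K).comp ((FinFr.arith k K).symm : K →+* K)) = RingHom.id K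
        from RingHom.ext fun z => (FinFr.arith k K).apply_symm_apply z]
      simp
  have hF : FinFr.extHom K a (Spec.map (CommRingCat.ofHom φ)) hw ≫ h₀ =
      Groth.AlgGrp1.FrobPow.Fp (FinFr.ext K a) p r := by
    apply pullback.hom_ext
    · rw [Category.assoc, show h₀ ≫ pullback.fst _ _ = pullback.fst a _ from FinFr.galAct_fst a _]
      refine (FinFr.extHom_fst _ _ _).trans ?_
      rw [Misc6.FrobEt.specMap_eq_Fp p R r φ (fun z => by rw [hφ, hr]),
        Groth.AlgGrp1.FrobPow.Fp_comp]
    · rw [Category.assoc, show h₀ ≫ pullback.snd _ _ = pullback.snd a _ ≫ _ from FinFr.galAct_snd a _,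
        Groth.AlgGrp1.FrobPow.Fp_comp,
        Misc6.FrobEt.specMap_eq_Fp p K r _ (fun z => by
          show (FinFr.arith k K) z = _
          rw [FiniteField.coe_frobeniusAlgEquivOfAlgebraic, hr])]
      simp only [FinFr.extHom, pullback.map, Category.comp_id]
      rw [← Category.assoc, pullback.lift_snd]
  have key : ∀ y, FinFr.endConstAdd (Λ := Λ) (FinFr.extHom K a (Spec.map (CommRingCat.ofHom φ)) hw) n
      (FinFr.endConstAdd (Λ := Λ) h₀ n y) = y := fun y => by
    rw [← Misc6.FrobEt.endConstAdd_comp, hF, Misc6.FrobEt.endConstAdd_Fp]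
  conv_rhs => rw [← Misc6.FrobEt.endConstAdd_id (Λ := Λ) n y, ← hinv,
    Misc6.FrobEt.endConstAdd_comp, key]

end Groth.Agent.S4263
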