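import Groth.Statements.S4266
import Groth.Agent.RelPC.PnPush.Proj

set_option autoImplicit false
set_option linter.style.haveILetI false
universe u
open CategoryTheory CategoryTheory.Limits AlgebraicGeometry
attribute [local instance] HasDerivedCategory.standard
open KSix

namespace Groth.Agent.S4266

/-- Let Y be a scheme, i : X ⟶ P^r_Y a closed immersion and f : X ⟶ Y the composite with the projection.
Let E be a bounded below object of D(O_X) which is pseudo-coherent relative to Y, which here means
that i_*E (computed here as Ri_*) is pseudo-coherent on P^r_Y. Assuming the derived direct images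
exist, Rf_*E is pseudo-coherent on Y. (The published statement allows any closed immersion of X into
a projective bundle P(F) with F quasi-coherent of finite type on Y.) -/
theorem result {X Y : Scheme.{u}} (r : ℕ)
    (i : X ⟶ CohB1.ProjSpaceOver r Y) [IsClosedImmersion i]
    [DCoh.HasRpush i] [DCoh.HasRpush (i ≫ CohB1.ProjSpaceOver.toBase r Y)]
    (E : DCoh.D X) (b : ℤ) [E.IsGE b]
    (hE : ∀ m : ℤ, DCoh.IsPseudoCoherentD m ((DCoh.Rpush i).obj E)) (m : ℤ) :
    DCoh.IsPseudoCoherentD m ((DCoh.Rpush (i ≫ CohB1.ProjSpaceOver.toBase r Y)).obj E) := by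
  haveI : DCoh.HasRpush (KRR.pr r Y) := Groth.Misc4.PushRestrict.hasRightDerived _
  obtain ⟨a⟩ := Groth.DerivedCoh.KFlat.Rpush_comp_iso i (KRR.pr r Y)
  exact Groth.DerivedCoh.PCoh.isPseudoCoherentD_of_iso (a.app E) (Groth.RelPC.PnPush.pcD_Rpush_pn r Y _ hE m)

end Groth.Agent.S4266
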