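import Groth.Statements.S4268
import Groth.Agent.RelPC.PnPush.Proj
import Groth.Agent.RelPC.NoethPush

set_option autoImplicit false
set_option linter.style.haveILetI false
universe u
open CategoryTheory CategoryTheory.Limits AlgebraicGeometry
attribute [local instance] HasDerivedCategory.standard
open KSix

namespace Groth.Agent.S4268

/-- In the case where f is projective, over an arbitrary base: let Y be a scheme, i : X ⟶ P^r_Y a closed
immersion and f : X ⟶ Y the composite with the projection; suppose f is a perfect morphism and let E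
be a bounded below perfect object of D(O_X). Assuming Rf_* exists, Rf_*E is perfect on Y. (The
source allows a closed immersion into any P(F) with F quasi-coherent of finite type on Y.) -/
theorem result {X Y : Scheme.{u}} (r : ℕ)
    (i : X ⟶ CohB1.ProjSpaceOver r Y) [IsClosedImmersion i]
    (hf : MoreMor.IsPerfectMor (i ≫ CohB1.ProjSpaceOver.toBase r Y)) [DCoh.HasRpush (i ≫ CohB1.ProjSpaceOver.toBase r Y)]
    (E : DCoh.D X) (b : ℤ) [E.IsGE b] (hE : DCoh.IsPerfect E) :
    DCoh.IsPerfect ((DCoh.Rpush (i ≫ CohB1.ProjSpaceOver.toBase r Y)).obj E) := by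
  haveI : IsProper (CohB1.ProjSpaceOver.toBase r Y) := (Groth.KTheory.RegKoszul.pr_facts r Y).1
  obtain ⟨hpc, htor⟩ := (Groth.DerivedCoh.PCoh.isPerfect_iff_pseudoCoherent E).1 hE
  have hpm : MoreMor.IsPseudoCoherentMor (i ≫ CohB1.ProjSpaceOver.toBase r Y) :=
    fun U V hU hV h => (hf U V hU hV h).1
  have hrel : DerSch.IsPseudoCoherentRelAll ((i ≫ CohB1.ProjSpaceOver.toBase r Y) ≫ 𝟙 Y) E := fun k => by
    rw [Category.comp_id]
    exact (Groth.RelPC.rel_abs_iff _ hpm k E).2 (hpc k)
  refine (Groth.DerivedCoh.PCoh.isPerfect_iff_pseudoCoherent _).2 ⟨fun m =>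
    (Groth.RelPC.rel_abs_iff (𝟙 Y) (Groth.RelPC.pcMor_of_flat_lfp _) m _).1
      (Groth.RelPC.PnPush.relAll_Rpush_proj (𝟙 Y) r i E hrel m), ?_⟩
  exact (Groth.DerivedCoh.RelAmp.locHasFiniteTorDim_iff_locAmp _).2
    (Groth.DerivedCoh.RelAmp.locAmp_Rpush' (i ≫ CohB1.ProjSpaceOver.toBase r Y) (𝟙 Y)
      (i ≫ CohB1.ProjSpaceOver.toBase r Y) (Category.comp_id _) E
      (fun j => Groth.RelPC.isQCoh_hd_of_pcD (hpc (j - 1)) (by omega))
      (Groth.DerivedCoh.RelAmp.locAmp_comp_id _ (Groth.RelPC.locFiniteTorDim_of_perfectMor _ hf)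
        ((Groth.DerivedCoh.RelAmp.locHasFiniteTorDim_iff_locAmp _).1 htor)))

end Groth.Agent.S4268
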