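import Groth.Statements.S4275
import Groth.Agent.DerivedCoh.StalkAmp.Perfect
-- import your own Groth.Agent.* helpers here

set_option autoImplicit false
universe u
open CategoryTheory CategoryTheory.Limits AlgebraicGeometry
attribute [local instance] HasDerivedCategory.standard
open KSix

namespace Groth.Agent.S4275

/-- For the ringed space underlying a scheme: let E ∈ D(O_X) and m ≤ n. Then E has perfect amplitude in
[m, n] (locally isomorphic to a complex of finite locally free modules placed in degrees [m, n]) if
and only if E is (m-1)-pseudo-coherent and has tor amplitude in [m, n] (is isomorphic to a complex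
of flat modules placed in degrees [m, n]). (The source states this on an arbitrary ringed topos,
with tor amplitude defined through Tor sheaves.) -/
theorem result (X : Scheme.{u}) (E : DCoh.D X) (m n : ℤ) (hmn : m ≤ n) :
    KSix.HasPerfectAmplitudeIn m n E ↔ DCoh.IsPseudoCoherentD (m - 1) E ∧ DCoh.HasFlatAmplitudeIn m n E := by
  exact Groth.DerivedCoh.StalkAmp.perfectAmplitude_iff E m n hmn

end Groth.Agent.S4275
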