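import Groth.Statements.S4276
import Groth.Agent.Inter.EulerFamily

set_option autoImplicit false
universe u
open CategoryTheory CategoryTheory.Limits AlgebraicGeometry
open Pic13

namespace Groth.Agent.S4276


/-- Let k be an algebraically closed field, X a proper k-scheme of dimension ≤ d and L an invertible
O_X-module which is τ-equivalent to zero (some positive power of L is algebraically equivalent to
zero). Then χ(F ⊗ L) = χ(F) for every coherent O_X-module F (Euler characteristics computed in
degrees ≤ d). -/
theorem result (k : Type u) [Field k] [IsAlgClosed k] (X : Scheme.{u}) [X.Over (Spec (CommRingCat.of k))]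
    [IsProper (X ↘ Spec (CommRingCat.of k))] (d : ℕ) (hd : topologicalKrullDim X ≤ d)
    (L : X.Modules) (hL : PicF.IsInvertible L) (hτ : Pic13.IsTauEquivZero k X L) (F : X.Modules) (hF : Coh.IsCoh F) :
    FGA.eulerCharLE k X (CohB1.tensorMod F L) d = FGA.eulerCharLE k X F d := by
  rw [Inter.eulerCharLE_eq k hd, Inter.eulerCharLE_eq k hd]
  exact Inter.euler_tensor_of_isTauEquivZero k X hL hτ hF
    ((LocCohTransform.topologicalKrullDim_mono (Set.subset_univ _)).trans
      (le_of_eq_of_le (Homeomorph.Set.univ X).isHomeomorph.topologicalKrullDim_eq hd))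


end Groth.Agent.S4276
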