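import Groth.Statements.S4277
import Groth.Agent.Misc13.NumTriv.ProperTau
-- import your own Groth.Agent.* helpers here

set_option autoImplicit false
universe u
open CategoryTheory CategoryTheory.Limits AlgebraicGeometry
open Pic13

namespace Groth.Agent.S4277

/-- Numerical characterisation of Pic^τ: (iii) implies (i): let k be an algebraically closed field, X a
proper k-scheme and L an invertible O_X-module which is numerically equivalent to zero (degree 0 on
every integral closed curve in X). Then L is τ-equivalent to zero: some L^{⊗ n}, n > 0, is
algebraically equivalent to zero. -/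
theorem result (k : Type u) [Field k] [IsAlgClosed k] (X : Scheme.{u}) [X.Over (Spec (CommRingCat.of k))]
    [IsProper (X ↘ Spec (CommRingCat.of k))]
    (L : X.Modules) (hL : PicF.IsInvertible L) (hnum : Pic13.IsNumEquivZero k X L) : Pic13.IsTauEquivZero k X L := by
  exact Groth.Misc13.NumTriv.isTauEquivZero_of_nt_proper k
    (Groth.Misc13.NumTriv.nt_of_numEquivZero k hL hnum)

end Groth.Agent.S4277
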