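import Groth.Statements.S4279
import Groth.Agent.Pic13Aux.NumBounded
-- import your own Groth.Agent.* helpers here

set_option autoImplicit false
universe u
open CategoryTheory CategoryTheory.Limits AlgebraicGeometry
open Pic13

namespace Groth.Agent.S4279

/-- Let k be an algebraically closed field, X a proper k-scheme carrying an ample invertible module H,
and L an invertible O_X-module with inverse L' (L ⊗ L' ≅ O_X). If L^{⊗ m} ⊗ H and L'^{⊗ m} ⊗ H are
ample for every m ≥ 0 (that is, L^{⊗ m}(1) is ample for every integer m), then L is τ-equivalent to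
zero. -/
theorem result (k : Type u) [Field k] [IsAlgClosed k] (X : Scheme.{u}) [X.Over (Spec (CommRingCat.of k))]
    [IsProper (X ↘ Spec (CommRingCat.of k))]
    (H : X.Modules) (hH : CohB1.IsAmple H) (L L' : X.Modules) (hL : PicF.IsInvertible L)
    (hLL' : Nonempty (CohB1.tensorMod L L' ≅ Coh.structureModule X))
    (hamp : ∀ m : ℕ, CohB1.IsAmple (CohB1.tensorMod (CohB1.tensorPow L m) H) ∧ CohB1.IsAmple (CohB1.tensorMod (CohB1.tensorPow L' m) H)) :
    Pic13.IsTauEquivZero k X L := by
  have hH' : PicF.IsInvertible H := hH.1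
  have hL' : PicF.IsInvertible L' := Groth.PicAux.isInvertible_of_isInverseOf hL hLL'
  have hL'L : ClSub.IsInverseOf L' L := ⟨(Groth.Inter.tensor_comm L' L).some ≪≫ hLL'.some⟩
  have h1 : Groth.Inter.Nonneg k [L'] :=
    Groth.Inter.nonneg_of_forall_isAmple k hH' hL hLL' fun ν _ => (hamp ν).1
  have h2 : Groth.Inter.Nonneg k [L] :=
    Groth.Inter.nonneg_of_forall_isAmple k hH' hL' hL'L fun ν _ => (hamp ν).2
  have hnt : Groth.Misc13.NumTriv.NT k L :=
    (Groth.Misc13.NumTriv.nt_iff_nef k hL hLL').2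
      ⟨(Groth.Misc13.NumTriv.nef_iff_nonneg k hL hLL').2 h1,
        (Groth.Misc13.NumTriv.nef_iff_nonneg k hL' hL'L).2 h2⟩
  exact Groth.Pic13Aux.isTauEquivZero_of_numEquivZero hH hL
    ((Groth.Misc13.NumTriv.nt_iff k hL).1 hnt)

end Groth.Agent.S4279
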