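import Groth.Statements.S4280
import Groth.Agent.Inter.NakaiCor
import Groth.Agent.Inter.EulerFamily

set_option autoImplicit false
universe u
open CategoryTheory CategoryTheory.Limits AlgebraicGeometry
open Pic13

namespace Groth.Agent.S4280

/-- Let k be an algebraically closed field, X a proper k-scheme carrying an ample invertible module H,
and L an invertible O_X-module, with inverse L', which is τ-equivalent to zero. Then L^{⊗ m} ⊗ H and
L'^{⊗ m} ⊗ H are ample for every m ≥ 0. -/
theorem result (k : Type u) [Field k] [IsAlgClosed k] (X : Scheme.{u}) [X.Over (Spec (CommRingCat.of k))]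
    [IsProper (X ↘ Spec (CommRingCat.of k))]
    (H : X.Modules) (hH : CohB1.IsAmple H) (L L' : X.Modules) (hL : PicF.IsInvertible L)
    (hLL' : Nonempty (CohB1.tensorMod L L' ≅ Coh.structureModule X)) (hτ : Pic13.IsTauEquivZero k X L) (m : ℕ) :
    CohB1.IsAmple (CohB1.tensorMod (CohB1.tensorPow L m) H) ∧ CohB1.IsAmple (CohB1.tensorMod (CohB1.tensorPow L' m) H) := by
  have hN : IsNoetherian X := Inter.isNoetherian k
  have hL' : PicF.IsInvertible L' := PicAux.isInvertible_of_isInverseOf hL hLL'
  have hstep : ∀ {G : X.Modules}, Coh.IsCoh G → ∀ {d : ℕ},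
      topologicalKrullDim (CohB1.support G) ≤ d →
        Curv2.euler k X (CohB1.tensorMod L G) = Curv2.euler k X G ∧
          Curv2.euler k X (CohB1.tensorMod L' G) = Curv2.euler k X G := fun {G} hG {d} hd => by
    have h1 : ∀ {K : X.Modules}, Coh.IsCoh K → topologicalKrullDim (CohB1.support K) ≤ d →
        Curv2.euler k X (CohB1.tensorMod L K) = Curv2.euler k X K := fun {K} hK hKd => by
      rw [EulerDeg.euler_congr k (Inter.tensor_comm L K).some]
      exact Inter.euler_tensor_of_isTauEquivZero k X hL hτ hK hKd
    refine ⟨h1 hG hd, ?_⟩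
    rw [← h1 (Inter.isCoh_twist hL' hG) ((LocCohTransform.topologicalKrullDim_mono
      (Inter.support_twist_subset L' G)).trans hd)]
    exact EulerDeg.euler_congr k ((Inter.tensor_assoc L L' G).some.symm ≪≫
      (Inter.tensor_congr hLL' ⟨Iso.refl G⟩).some ≪≫ (Inter.tensor_one G).some)
  have key : ∀ (N : X.Modules), PicF.IsInvertible N →
      (∀ {G : X.Modules}, Coh.IsCoh G → ∀ {d : ℕ}, topologicalKrullDim (CohB1.support G) ≤ d →
        Curv2.euler k X (CohB1.tensorMod N G) = Curv2.euler k X G) →
      CohB1.IsAmple (CohB1.tensorMod (CohB1.tensorPow N m) H) := fun N hN' hNe => by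
    refine Inter.isAmple_of_curveEq k hH
      (PicAux.isInvertible_tensorMod (PicAux.isInvertible_tensorPow hN' m) hH.1) fun y hy => ?_
    induction m with
    | zero =>
      exact EulerDeg.euler_congr k
        (Inter.tensor_congr (Inter.tensor_one H) ⟨Iso.refl _⟩).some.symm
    | succ m ih =>
      have hP : PicF.IsInvertible (CohB1.tensorMod (CohB1.tensorPow N m) H) :=
        PicAux.isInvertible_tensorMod (PicAux.isInvertible_tensorPow hN' m) hH.1
      rw [ih, ← hNe (Inter.isCoh_twist hP (KTheory.Devissage.isCoh_closureStructureSheaf y)) (d := 1)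
        ((LocCohTransform.topologicalKrullDim_mono ((Inter.support_twist_subset _ _).trans
          (KTheory.Devissage.support_closureStructureSheaf_subset y))).trans hy.le)]
      exact EulerDeg.euler_congr k ((Inter.tensor_assoc N _ _).some.symm ≪≫
        (Inter.tensor_congr ⟨(Inter.tensor_assoc N _ H).some.symm ≪≫
          (Inter.tensor_congr (Inter.tensor_comm N _) ⟨Iso.refl H⟩).some⟩ ⟨Iso.refl _⟩).some)
  exact ⟨key L hL fun hG _ hd => (hstep hG hd).1, key L' hL' fun hG _ hd => (hstep hG hd).2⟩

end Groth.Agent.S4280
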