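import Groth.Statements.S4283
import Groth.Agent.Misc13.NumTriv.ProperTau
-- import your own Groth.Agent.* helpers here

set_option autoImplicit false
universe u
open CategoryTheory CategoryTheory.Limits AlgebraicGeometry
open Pic13

namespace Groth.Agent.S4283

/-- Torsion part: for X proper over an algebraically closed field k: the group Pic^τ(X)/Pic^0(X) of
invertible modules τ-equivalent to zero modulo those algebraically equivalent to zero is finite.
Concretely: there are finitely many invertible modules M_1, …, M_q such that every invertible L
which is τ-equivalent to zero is isomorphic to M_j ⊗ N for some j and some invertible N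
algebraically equivalent to zero. (The source adds that the order of this group is bounded over the
geometric fibres of a proper scheme over a Noetherian base.) -/
theorem result (k : Type u) [Field k] [IsAlgClosed k] (X : Scheme.{u}) [X.Over (Spec (CommRingCat.of k))]
    [IsProper (X ↘ Spec (CommRingCat.of k))] :
    ∃ (q : ℕ) (M : Fin q → X.Modules), ∀ L : X.Modules, PicF.IsInvertible L → Pic13.IsTauEquivZero k X L →
      ∃ (j : Fin q) (N : X.Modules), PicF.IsInvertible N ∧ Pic13.IsAlgEquivZero k X N ∧ Nonempty (L ≅ CohB1.tensorMod (M j) N) := by
  exact Groth.Misc13.NumTriv.exists_tau_reps k

end Groth.Agent.S4283
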