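import Groth.Statements.S4287
import Groth.Agent.Misc13.Kleiman.Bounded
import Groth.Agent.Misc13.NumTriv.Bounded
import Groth.Agent.S2329
-- import your own Groth.Agent.* helpers here

set_option autoImplicit false
universe u
open CategoryTheory CategoryTheory.Limits AlgebraicGeometry
open Pic13

namespace Groth.Agent.S4287

section Aux
open Groth.Inter Groth.PicAux Groth.Misc13

variable {k : Type u} [Field k] {X : Scheme.{u}} [X.Over (Spec (CommRingCat.of k))]
  [IsProper (X ↘ Spec (CommRingCat.of k))]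

/-- Ample twists bound the degrees and the self-intersections from below. -/
theorem bounds_of_ample_twists {H H' L L' : X.Modules} (hH : CohB1.IsAmple H)
    (hHH' : ClSub.IsInverseOf H H') (hL : PicF.IsInvertible L) (hLL' : ClSub.IsInverseOf L L') (N : ℕ)
    (h₁ : CohB1.IsAmple (CohB1.tensorMod (CohB1.tensorPow H N) L))
    (h₂ : CohB1.IsAmple (CohB1.tensorMod (CohB1.tensorPow H N) L')) (z : X) :
    (topologicalKrullDim (closure ({z} : Set X)) = (1 : ℕ) →
      (delta k [L] (Cyc.closureStructureSheaf z)).natAbs ≤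
        N * (delta k [H'] (Cyc.closureStructureSheaf z)).natAbs) ∧
    (topologicalKrullDim (closure ({z} : Set X)) = (2 : ℕ) →
      -((N ^ 2 * (delta k [H', H'] (Cyc.closureStructureSheaf z)).natAbs : ℕ) : ℤ) ≤
        delta k [L, L] (Cyc.closureStructureSheaf z)) := by
  have hN : IsNoetherian X := isNoetherian k
  let G := Cyc.closureStructureSheaf z
  have hG : Coh.IsCoh G := Groth.KTheory.Devissage.isCoh_closureStructureSheaf z
  have hGs : CohB1.support G = closure {z} := support_closureStructureSheaf_eq k z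
  have hH'i : PicF.IsInvertible H' := isInvertible_of_isInverseOf hH.1 hHH'
  have hL'i : PicF.IsInvertible L' := isInvertible_of_isInverseOf hL hLL'
  let P := CohB1.tensorPow H' N
  have hP : PicF.IsInvertible P := isInvertible_tensorPow hH'i N
  let M₁ := CohB1.tensorMod P L'
  let M₂ := CohB1.tensorMod P L
  have hM₁ : IsAmpleInv M₁ :=
    ⟨_, h₁, isInverseOf_tensorMod (isInverseOf_tensorPow hHH' N) hLL'⟩
  have hM₂ : IsAmpleInv M₂ :=
    ⟨_, h₂, isInverseOf_tensorMod (isInverseOf_tensorPow hHH' N) (isInverseOf_symm hLL')⟩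
  have hH'a : IsAmpleInv H' := ⟨H, hH, hHH'⟩
  refine ⟨fun hz => ?_, fun hz => ?_⟩
  · have hd : topologicalKrullDim (CohB1.support G) = ((1 : ℕ) : WithBot ℕ∞) := by rw [hGs, hz]
    have p₁ := delta_pos k [M₁] (by simp [hM₁]) G hG hd
    have p₂ := delta_pos k [M₂] (by simp [hM₂]) G hG hd
    have hn : ∀ A ∈ ([] : List X.Modules), PicF.IsInvertible A := by simp
    rw [delta_tensor k hP hL'i hn hG hd.le, delta_pow_cons k hH'i hn hG hd.le,
      delta_inverse_cons k hL'i (isInverseOf_symm hLL') hn hG hd.le] at p₁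
    rw [delta_tensor k hP hL hn hG hd.le, delta_pow_cons k hH'i hn hG hd.le] at p₂
    have := delta_pos k [H'] (by simp [hH'a]) G hG hd
    have e : ((N * (delta k [H'] G).natAbs : ℕ) : ℤ) = (N : ℤ) * delta k [H'] G := by
      push_cast
      rw [abs_of_nonneg this.le]
    change (delta k [L] G).natAbs ≤ N * (delta k [H'] G).natAbs
    omega
  · have hd : topologicalKrullDim (CohB1.support G) = ((2 : ℕ) : WithBot ℕ∞) := by rw [hGs, hz]
    have hi : ∀ (B : X.Modules), PicF.IsInvertible B → ∀ A ∈ [B], PicF.IsInvertible A := fun B hB A hA => by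
      simp only [List.mem_singleton] at hA
      exact hA ▸ hB
    have p₁ := delta_pos k [M₁, M₁] (by simp [hM₁]) G hG hd
    have p₂ := delta_pos k [M₂, M₂] (by simp [hM₂]) G hG hd
    have hswap : ∀ A B : X.Modules, delta k [A, B] G = delta k [B, A] G := fun A B =>
      delta_perm k (List.Perm.swap B A []) G
    have ex : ∀ Q : X.Modules, PicF.IsInvertible Q → delta k [CohB1.tensorMod P Q, CohB1.tensorMod P Q] G =
        (N : ℤ) * ((N : ℤ) * delta k [H', H'] G) + 2 * ((N : ℤ) * delta k [Q, H'] G) +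
          delta k [Q, Q] G := by
      intro Q hQ
      have hPQ := isInvertible_tensorMod hP hQ
      have e : ∀ B : X.Modules, PicF.IsInvertible B → delta k [CohB1.tensorMod P Q, B] G =
          (N : ℤ) * delta k [H', B] G + delta k [Q, B] G := fun B hB => by
        rw [delta_tensor k hP hQ (hi B hB) hG hd.le, delta_pow_cons k hH'i (hi B hB) hG hd.le]
      rw [e _ hPQ, hswap H' (CohB1.tensorMod P Q), e _ hH'i, hswap Q (CohB1.tensorMod P Q), e _ hQ,
        hswap H' Q]
      ring
    have hneg : ∀ B : X.Modules, PicF.IsInvertible B → delta k [L', B] G = - delta k [L, B] G :=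
      fun B hB => delta_inverse_cons k hL'i (isInverseOf_symm hLL') (hi B hB) hG hd.le
    rw [ex L' hL'i, hneg H' hH'i, hneg L' hL'i, hswap L L', hneg L hL] at p₁
    rw [ex L hL] at p₂
    have := delta_pos k [H', H'] (by simp [hH'a]) G hG hd
    have e : ((N ^ 2 * (delta k [H', H'] G).natAbs : ℕ) : ℤ) = (N : ℤ) * ((N : ℤ) * delta k [H', H'] G) := by
      push_cast
      rw [abs_of_nonneg this.le]
      ring
    rw [mul_neg] at p₁
    change -((N ^ 2 * (delta k [H', H'] G).natAbs : ℕ) : ℤ) ≤ delta k [L, L] G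
    omega

variable [IsAlgClosed k]

/-- A bounded family stays ample after one twist. -/
theorem exists_twist_of_bounded {H : X.Modules} (hH : CohB1.IsAmple H) {P : X.Modules → Prop}
    (hP : ∀ L, P L → PicF.IsInvertible L) (hb : Pic13.IsBounded k X P) :
    ∃ N : ℕ, ∀ L L' : X.Modules, P L → ClSub.IsInverseOf L L' →
      CohB1.IsAmple (CohB1.tensorMod (CohB1.tensorPow H N) L) ∧
        CohB1.IsAmple (CohB1.tensorMod (CohB1.tensorPow H N) L') := by
  classical
  have hN : IsNoetherian X := isNoetherian k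
  obtain ⟨s, hs, hmem⟩ := NumTriv.exists_pieces_of_bounded k hb
  let good : Set (NumTriv.Piece k X) := {Q ∈ s | ∃ M, PicF.IsInvertible M ∧ Q.Has M}
  haveI := (hs.subset fun Q (h : Q ∈ good) => h.1).to_subtype
  haveI := Fintype.ofFinite good
  choose M₀ h₀ hM₀ using fun Q : good => Q.2.2
  choose M₁ h₁ hM₁ using fun Q : good => exists_isInverseOf (h₀ Q)
  haveI := hH.2.1
  haveI : X.IsSeparated := ⟨by rw [← terminal.comp_from (X ↘ Spec (CommRingCat.of k))]; infer_instance⟩
  choose a _ ha using fun Q : good => Groth.Agent.S2329.result X H (M₀ Q) hH (h₀ Q)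
  choose b _ hb' using fun Q : good => Groth.Agent.S2329.result X H (M₁ Q) hH (h₁ Q)
  refine ⟨Finset.univ.sup a + Finset.univ.sup b, fun L L' hL hLL' => ?_⟩
  obtain ⟨Q, hQ, hQL⟩ := hmem L hL (hP L hL)
  let i : good := ⟨Q, hQ, L, hP L hL, hQL⟩
  have hnt : NumTriv.NT k (CohB1.tensorMod L (M₁ i)) :=
    NumTriv.nt_of_tau k (isInvertible_tensorMod (hP L hL) (h₁ i))
      ⟨1, one_pos, NumTriv.isAlgEquivZero_iso k (tensorPow_one _).some.symm
        (NumTriv.isAlgEquivZero_of_has k hQL (hM₀ i) (h₁ i) (hM₁ i))⟩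
  have hnt' : NumTriv.NT k (CohB1.tensorMod L' (M₀ i)) :=
    NumTriv.nt_inverse k hnt (isInverseOf_tensorMod hLL' (isInverseOf_symm (hM₁ i)))
  have key : ∀ (n : ℕ) (T B R : X.Modules), NumTriv.NT k T →
      CohB1.IsAmple (CohB1.tensorMod (CohB1.tensorPow H n) B) → (CohB1.tensorMod T B ≅ R) →
      CohB1.IsAmple (CohB1.tensorMod (CohB1.tensorPow H n) R) := by
    intro n T B R hT hA e
    obtain ⟨T', -, hTT'⟩ := exists_isInverseOf hT.1
    have h := isAmple_nef_tensor_ample k hA hT.1 hTT'
      (fun F hF hd => ((NumTriv.nt_inverse k hT hTT').2 F hF hd).ge) 1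
    exact Groth.Ega2Proj.isAmple_of_iso ((tensor_congr (tensorPow_one T) ⟨Iso.refl _⟩).some ≪≫
      (tensor_left_comm T _ B).some ≪≫ (tensor_congr ⟨Iso.refl _⟩ ⟨e⟩).some) h
  have hia : a i ≤ Finset.univ.sup a := Finset.le_sup (Finset.mem_univ i)
  have hib : b i ≤ Finset.univ.sup b := Finset.le_sup (Finset.mem_univ i)
  exact ⟨key _ _ _ L hnt (ha i _ (by omega)).1 ((tensor_assoc L (M₁ i) (M₀ i)).some ≪≫
      (tensor_congr ⟨Iso.refl L⟩ (isInverseOf_symm (hM₁ i))).some ≪≫ (tensor_comm L _).some ≪≫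
      (tensor_one L).some),
    key _ _ _ L' hnt' (hb' i _ (by omega)).1 ((tensor_assoc L' (M₀ i) (M₁ i)).some ≪≫
      (tensor_congr ⟨Iso.refl L'⟩ (hM₁ i)).some ≪≫ (tensor_comm L' _).some ≪≫ (tensor_one L').some)⟩

end Aux

/-- (i) if and only if (iv), over the base S = Spec k with k algebraically closed: let X be a proper
integral k-scheme carrying an ample invertible module H, and P a family of invertible O_X-modules.
Then P is bounded if and only if there is an integer N such that H^{⊗ N} ⊗ L and H^{⊗ N} ⊗ L' are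
ample for every member L of P and every inverse L' of L (L ⊗ L' ≅ O_X). (The source: X projective
over a Noetherian S with integral geometric fibres of dimension r, H relatively ample.) -/
theorem result (k : Type u) [Field k] [IsAlgClosed k] (X : Scheme.{u}) [X.Over (Spec (CommRingCat.of k))]
    [IsProper (X ↘ Spec (CommRingCat.of k))] [IsIntegral X]
    (H : X.Modules) (hH : CohB1.IsAmple H) (P : X.Modules → Prop) (hP : ∀ L, P L → PicF.IsInvertible L) :
    Pic13.IsBounded k X P ↔ ∃ N : ℕ, ∀ L L' : X.Modules, P L → Nonempty (CohB1.tensorMod L L' ≅ Coh.structureModule X) →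
      CohB1.IsAmple (CohB1.tensorMod (CohB1.tensorPow H N) L) ∧ CohB1.IsAmple (CohB1.tensorMod (CohB1.tensorPow H N) L') := by
  refine ⟨fun hb => exists_twist_of_bounded hH hP hb, ?_⟩
  rintro ⟨N, hN'⟩
  obtain ⟨H', -, hHH'⟩ := Groth.PicAux.exists_isInverseOf hH.1
  refine Groth.Misc13.Kleiman.isBounded_of_bounds hH hP
    (fun z hz => ⟨N * (Groth.Inter.delta k [H'] (Cyc.closureStructureSheaf z)).natAbs, fun L hL => ?_⟩)
    (fun z hz => ⟨N ^ 2 * (Groth.Inter.delta k [H', H'] (Cyc.closureStructureSheaf z)).natAbs,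
      fun L hL => ?_⟩)
  all_goals
    obtain ⟨L', -, hLL'⟩ := Groth.PicAux.exists_isInverseOf (hP L hL)
    obtain ⟨h₁, h₂⟩ := hN' L L' hL hLL'
  · exact (bounds_of_ample_twists hH hHH' (hP L hL) hLL' N h₁ h₂ z).1 hz
  · exact (bounds_of_ample_twists hH hHH' (hP L hL) hLL' N h₁ h₂ z).2 hz

end Groth.Agent.S4287
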