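import Groth.Statements.S4288
import Groth.Agent.RelPC.PnPush.TwistVanish
import Groth.Agent.RelPC.PnPush.TwistProj
import Groth.Agent.RelPC.PnPush.Global
import Groth.Agent.PicAux.Pullback

set_option autoImplicit false
set_option linter.style.haveILetI false
universe u
open CategoryTheory CategoryTheory.Limits AlgebraicGeometry
attribute [local instance] HasDerivedCategory.standard
open KSix

namespace Groth.Agent.S4288

/-- Let Y be an affine scheme, i : X ⟶ P^r_Y a closed immersion, f : X ⟶ Y the composite with the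
projection, L = i^* O(1), and E a bounded below object of D(O_X), acyclic in degrees > a, which is
pseudo-coherent relative to Y (i.e. Ri_*E is pseudo-coherent on P^r_Y). Assuming the derived
functors exist, there is an integer N such that for every n ≥ N the complex Rf_*(E ⊗^L L^{⊗ n}) is
pseudo-coherent on Y and acyclic in degrees > a. (The published statement allows any quasi-compact
base S, Y of finite type over S and a closed immersion into P(F) with F quasi-coherent of finite
type.) -/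
theorem result {X Y : Scheme.{u}} [IsAffine Y] (r : ℕ)
    (i : X ⟶ CohB1.ProjSpaceOver r Y) [IsClosedImmersion i]
    [DCoh.HasRpush i] [DCoh.HasRpush (i ≫ CohB1.ProjSpaceOver.toBase r Y)]
    [∀ n : ℤ, DCoh.HasLTensorMod ((Scheme.Modules.pullback i).obj (Twist.twistOver r Y n))]
    (E : DCoh.D X) (a b : ℤ) [E.IsGE b] [E.IsLE a]
    (hE : ∀ m : ℤ, DCoh.IsPseudoCoherentD m ((DCoh.Rpush i).obj E)) :
    ∃ N : ℤ, ∀ n : ℤ, N ≤ n →
      (∀ m : ℤ, DCoh.IsPseudoCoherentD m ((DCoh.Rpush (i ≫ CohB1.ProjSpaceOver.toBase r Y)).obj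
        ((DCoh.LTensorMod ((Scheme.Modules.pullback i).obj (Twist.twistOver r Y n))).obj E))) ∧
      ((DCoh.Rpush (i ≫ CohB1.ProjSpaceOver.toBase r Y)).obj
        ((DCoh.LTensorMod ((Scheme.Modules.pullback i).obj (Twist.twistOver r Y n))).obj E)).IsLE a := by
  let p := KRR.pr r Y
  haveI : DCoh.HasRpush p := Groth.Misc4.PushRestrict.hasRightDerived _
  haveI : IsProper p := Groth.Variety2.isProper_projSpaceOver_toBase r Y
  let G := (DCoh.Rpush i).obj E
  haveI : G.IsGE b := Groth.RelPC.PnPush.isGE_Rpush_closed i E b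
  haveI : G.IsLE a := Groth.RelPC.PnPush.isLE_Rpush_closed i E a
  haveI : (G⟦a⟧).IsLE 0 := Groth.Misc4.PerfVanishQcqs.isLE_shift ‹G.IsLE a› a 0 (by omega)
  haveI : (G⟦a⟧).IsGE (b - a) :=
    DerivedCategory.TStructure.t.isGE_shift G b a _ (by omega) |>.ge |> fun h => ⟨h⟩
  obtain ⟨N, hN⟩ := Groth.RelPC.PnPush.exists_isLE_twistPush r Y r (G⟦a⟧) (b - a)
    (fun m => Groth.DerivedCoh.PCoh.isPseudoCoherentD_shift (hE (m + a)) a m (by omega))
    inferInstance inferInstance
  refine ⟨N, fun n hn => ?_⟩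
  let L := Twist.twistOver r Y n
  have hL : PicF.IsInvertible L := Groth.KTheory.RegSheaf.isInvertible_twistOver r Y n
  have hL' : PicF.IsInvertible ((Scheme.Modules.pullback i).obj L) :=
    Groth.PicAux.isInvertible_pullback i hL
  obtain ⟨t⟩ := Groth.RelPC.PnPush.nonempty_ltm_twD _ hL' E
  obtain ⟨k⟩ := Groth.DerivedCoh.KFlat.Rpush_comp_iso i p
  obtain ⟨q⟩ := Groth.RelPC.PnPush.nonempty_Rpush_twD i L hL hL' E
  obtain ⟨s⟩ := Groth.RelPC.PnPush.nonempty_twistPush_shift r Y n a G
  let e := (DCoh.Rpush (i ≫ CohB1.ProjSpaceOver.toBase r Y)).mapIso t ≪≫ (k.app _).symm ≪≫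
    (DCoh.Rpush p).mapIso q
  refine ⟨fun m => Groth.DerivedCoh.PCoh.isPseudoCoherentD_of_iso e.symm
    (Groth.RelPC.PnPush.pcD_Rpush_pn r Y _ (fun m => Groth.RelPC.PnPush.pcD_twD L hL (hE m)) m), ?_⟩
  refine Groth.RelPC.PnPush.isLE_of_iso' e.symm ((DerivedCategory.isLE_iff _ _).2 fun j hj => ?_)
  exact (((Groth.RelPC.PnPush.twistPush r Y n).obj (G⟦a⟧)).isZero_of_isLE (hX := hN n hn) _ (j - a)
    (by omega)).of_iso ((DerivedCategory.homologyFunctor _ (j - a)).mapIso s ≪≫
      ((DerivedCategory.homologyFunctor Y.Modules 0).shiftIso a (j - a) j (by omega)).app _).symm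

end Groth.Agent.S4288
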