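import Groth.Statements.S4290
import Groth.Agent.Misc13.HodgeDim

set_option autoImplicit false
universe u
open CategoryTheory CategoryTheory.Limits AlgebraicGeometry
open Pic13

namespace Groth.Agent.S4290

/-- Let k be an algebraically closed field, X an irreducible proper k-scheme of dimension r = s + 2 ≥ 2
carrying an ample invertible module H, and L an invertible module with (c₁(L)·c₁(H)^{r-1}) = 0 and
(c₁(L)²·c₁(H)^{r-2}) ≥ 0. Then L is numerically equivalent to zero. Intersection numbers are those
of FGA.intNum, which takes inverses H', L' of H, L as arguments. -/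
theorem result (k : Type u) [Field k] [IsAlgClosed k] (X : Scheme.{u}) [X.Over (Spec (CommRingCat.of k))]
    [IsProper (X ↘ Spec (CommRingCat.of k))] [IrreducibleSpace X] (s : ℕ) (hdim : topologicalKrullDim X = (s + 2 : ℕ))
    (H H' L L' : X.Modules) (hH : CohB1.IsAmple H) (hL : PicF.IsInvertible L)
    (hHH' : Nonempty (CohB1.tensorMod H H' ≅ Coh.structureModule X)) (hLL' : Nonempty (CohB1.tensorMod L L' ≅ Coh.structureModule X))
    (horth : FGA.intNum k X (s + 2) (Matrix.vecCons L' (fun _ : Fin (s + 1) => H')) (Coh.structureModule X) = 0)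
    (hsq : 0 ≤ FGA.intNum k X (s + 2) (Matrix.vecCons L' (Matrix.vecCons L' (fun _ : Fin s => H'))) (Coh.structureModule X)) :
    Pic13.IsNumEquivZero k X L := by
  have hN : IsNoetherian X := Inter.isNoetherian k
  have hL' : PicF.IsInvertible L' := PicAux.isInvertible_of_isInverseOf hL hLL'
  have hB : Inter.IsAmpleInv H' := ⟨H, hH, hHH'⟩
  rw [Inter.intNum_eq k hdim.le] at horth hsq
  simp only [List.ofFn_succ, Matrix.cons_val_zero, Matrix.cons_val_succ, List.ofFn_const] at horth hsq
  have h := Misc13.HodgeDim.main k hdim hB hL' horth hsq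
  intro Y i _ hY hY1
  have : IsLocallyNoetherian Y := LocallyOfFiniteType.isLocallyNoetherian i
  obtain ⟨hc, hs⟩ := Inter.push_structure_facts (X := X) i
  have hd : topologicalKrullDim (CohB1.support ((Coh.push i).obj (Coh.structureModule Y))) ≤
      ((1 : ℕ) : WithBot ℕ∞) := by
    rw [hs, ← i.isClosedEmbedding.isEmbedding.toHomeomorph.isHomeomorph.topologicalKrullDim_eq _, hY1]
    rfl
  rw [Inter.curveDeg_eq k i hL (by rw [hY1]; rfl),
    Inter.delta_inverse_cons k hL hLL' (l := []) (by simp) hc (by simpa using hd),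
    Misc13.HodgeDim.delta_eq_zero_of_curveZero k hL' h hc hd, neg_zero, neg_zero]

end Groth.Agent.S4290
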