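import Groth.Statements.S5633
import Groth.Agent.Misc13.NumTriv.TauOpen.Family
import Groth.Agent.Misc13.NumPairing
import Groth.Agent.Pi1Ample.SectionConnected
import Groth.Agent.PropsBasic.AmpleBasis
import Groth.Agent.S4367

set_option autoImplicit false
universe u
open CategoryTheory CategoryTheory.Limits AlgebraicGeometry
open Pic13

set_option linter.style.haveILetI false

namespace Groth.Agent.S5633

open Groth.Inter Groth.PicAux Groth.HilbStab Groth.Misc13 Groth.Misc13.NumTriv TopologicalSpace
open Groth.PropsBasic.Ample (gloc)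

/-- The reduced closure of a point as a scheme over the field. -/
noncomputable local instance ptOver {k : Type u} [Field k] {X : Scheme.{u}}
    [X.Over (Spec (CommRingCat.of k))] (z : X) :
    (IntMult.ptIdeal z).subscheme.Over (Spec (CommRingCat.of k)) :=
  ⟨(IntMult.ptIdeal z).subschemeι ≫ (X ↘ Spec (CommRingCat.of k))⟩

local instance isProper_ptOver {k : Type u} [Field k] {X : Scheme.{u}}
    [X.Over (Spec (CommRingCat.of k))] [IsProper (X ↘ Spec (CommRingCat.of k))] (z : X) :
    IsProper ((IntMult.ptIdeal z).subscheme ↘ Spec (CommRingCat.of k)) :=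
  inferInstanceAs (IsProper ((IntMult.ptIdeal z).subschemeι ≫ (X ↘ Spec (CommRingCat.of k))))

variable (k : Type u) [Field k] {Y : Scheme.{u}} [Y.Over (Spec (CommRingCat.of k))]
  [IsProper (Y ↘ Spec (CommRingCat.of k))]

/-- A reduced integral scheme mapping into a closed subscheme sees its numerically trivial modules. -/
theorem nt_of_range_subset {X : Scheme.{u}} (i : X ⟶ Y) [IsClosedImmersion i] {L : Y.Modules}
    (hnum : @Pic13.IsNumEquivZero k _ X ⟨i ≫ (Y ↘ Spec (CommRingCat.of k))⟩ ((Scheme.Modules.pullback i).obj L))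
    (hL : PicF.IsInvertible L) {W : Scheme.{u}} [W.Over (Spec (CommRingCat.of k))]
    [IsProper (W ↘ Spec (CommRingCat.of k))] [IsReduced W] (j : W ⟶ Y)
    (hj : j ≫ (Y ↘ Spec (CommRingCat.of k)) = W ↘ Spec (CommRingCat.of k))
    (hr : Set.range j ⊆ Set.range i) : NT k ((Scheme.Modules.pullback j).obj L) := by
  letI : X.Over (Spec (CommRingCat.of k)) := ⟨i ≫ (Y ↘ Spec (CommRingCat.of k))⟩
  have : IsProper (X ↘ Spec (CommRingCat.of k)) :=
    inferInstanceAs (IsProper (i ≫ (Y ↘ Spec (CommRingCat.of k))))
  obtain ⟨l, hl⟩ := Groth.Agent.S4367.result j i hr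
  refine TauOpen.nt_iso k ?_ (nt_pullback_proper k l ((reassoc_of% hl) _ |>.trans hj)
    (nt_of_numEquivZero k (PicAux.isInvertible_pullback i hL) hnum))
  exact (Scheme.Modules.pullbackComp l i).app _ ≪≫ (Scheme.Modules.pullbackCongr hl).app _

/-- On a component not contained in the zero scheme the restriction is numerically trivial. -/
theorem nt_component {H : Y.Modules} (hH : CohB1.IsAmple H) (φ : Coh.structureModule Y ⟶ H)
    {L : Y.Modules} (hL : PicF.IsInvertible L)
    (hnum : @Pic13.IsNumEquivZero k _ (PicF2.zeroScheme H φ).subscheme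
      ⟨(PicF2.zeroScheme H φ).subschemeι ≫ (Y ↘ Spec (CommRingCat.of k))⟩
      ((Scheme.Modules.pullback (PicF2.zeroScheme H φ).subschemeι).obj L))
    {ξ : Y} (hξ : ξ ∉ Set.range (PicF2.zeroScheme H φ).subschemeι.base)
    (hdim : ∀ T ∈ irreducibleComponents ↥(closure ({ξ} : Set Y) ∩
      Set.range (PicF2.zeroScheme H φ).subschemeι.base), 2 ≤ topologicalKrullDim ↥T) :
    NT k ((Scheme.Modules.pullback (IntMult.ptIdeal ξ).subschemeι).obj L) := by
  set X₀ := Set.range (PicF2.zeroScheme H φ).subschemeι.base
  let ι := (IntMult.ptIdeal ξ).subschemeι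
  let W := (IntMult.ptIdeal ξ).subscheme
  have : IsIntegral W := CohTwo.isIntegral_closure_subscheme rfl
  have hN : IsNoetherian W := Inter.isNoetherian k
  have hrange : Set.range ι = closure ({ξ} : Set Y) := TauOpen.range_ptIdeal ξ
  let t : Γ(H, (⊤ : Y.Opens)) := PicAux.gsec φ
  have ht : ∀ y : Y, y ∈ gloc t ↔ y ∉ X₀ := fun y => by
    rw [← PropsBasic.Ample.genLocus_eq_gloc, PicAux.mem_genLocus_iff_not_mem_support hH.1 φ]
    show _ ↔ y ∉ X₀
    rw [show X₀ = ((PicF2.zeroScheme H φ).support : Set Y) from Scheme.IdealSheafData.range_subschemeι _]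
    rfl
  let GW := Scheme.Modules.pullback ι
  let A := GW.obj H
  let t' : Γ(A, (⊤ : W.Opens)) := pullSec ι H t
  have hA : CohB1.IsAmple A := Chow.isAmple_pullback_of_isAffineHom ι hH
  have hgloc : ∀ w : W, w ∈ gloc t' ↔ ι w ∉ X₀ := fun w => by
    rw [show gloc t' = ι ⁻¹ᵁ gloc t from Groth.PropsBasic.Ample.gloc_pullSec ι hH.1 t]
    exact ht (ι w)
  have hgen : ι (genericPoint W) = ξ := CohTwo.apply_genericPoint_eq ι hrange
  have ht0 : t' ≠ 0 := fun h => by
    have h1 : genericPoint W ∈ gloc t' := (hgloc _).2 (by rw [hgen]; exact hξ)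
    rw [h, ← zero_smul Γ(W, ⊤) t', Groth.Ega2Proj.gloc_smul hA.1, Scheme.basicOpen_zero] at h1
    exact h1.1
  have hLW : PicF.IsInvertible (GW.obj L) := PicAux.isInvertible_pullback ι hL
  obtain ⟨e, he, -⟩ : ∃ n : ℕ, topologicalKrullDim W = ((n : ℕ) : WithBot ℕ∞) ∧ True := by
    obtain ⟨a, ha⟩ := ENat.ne_top_iff_exists.1
      (Groth.Variety2.Dim.height_ne_top (W ↘ Spec (CommRingCat.of k)) (genericPoint W))
    exact ⟨a, by rw [Groth.Variety2.Dim.dim_eq_height_genericPoint, ← ha]; rfl, trivial⟩
  rcases Nat.eq_zero_or_pos e with rfl | hepos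
  · refine TauOpen.nt_of_curves k hLW fun z hz => ?_
    have h := LocCohTransform.topologicalKrullDim_mono (Set.subset_univ (closure ({z} : Set W)))
    rw [hz, HodgeProper.dim_univ, he] at h
    exact absurd (show (1 : ℕ) ≤ 0 by exact_mod_cast h) (by simp)
  obtain ⟨r, rfl⟩ : ∃ r, e = r + 1 := ⟨e - 1, by omega⟩
  let O := Coh.structureModule W
  have hOi : PicF.IsInvertible O := EulerDeg.isInvertible_structureModule W
  have hO : Coh.IsCoh O := isCoh_of_isInvertible hOi
  have hOA : Coh.IsCoh (CohB1.tensorMod O A) := isCoh_of_isInvertible (isInvertible_tensorMod hOi hA.1)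
  have : Mono (mulSec t' O) := mono_mulSec_of_ne_zero hA.1 ht0 hOi
  let Q := cokernel (mulSec t' O)
  have hQ : Coh.IsCoh Q := QCohMod.isCoh_cokernel (M := O) _ hOA
  have hQs : ∀ w ∈ CohB1.support Q, ι w ∈ X₀ := fun w hw => by
    by_contra hn
    exact support_cokernel_mulSec_subset t' O hw ((hgloc w).2 hn)
  obtain ⟨B, hBi, hAB⟩ := exists_isInverseOf hA.1
  have hB : IsAmpleInv B := ⟨A, hA, hAB⟩
  have hsO : topologicalKrullDim (CohB1.support O) = ((r + 1 : ℕ) : WithBot ℕ∞) :=
    NumPairing.structure_support_dim he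
  have hQd : topologicalKrullDim (CohB1.support Q) ≤ (r : ℕ) := by
    refine lt_natCast_succ_iff.1 (lt_of_lt_of_eq (LocCohTransform.topologicalKrullDim_lt_of_ssubset
      (Set.subset_univ _) (fun h => ?_) (CohTwo.isClosed_support _ hQ) isClosed_univ
      (IrreducibleSpace.isIrreducible_univ W)
      (by rw [HodgeProper.dim_univ, he]; exact WithBot.coe_lt_coe.2 (ENat.natCast_lt_top _)))
      (by rw [HodgeProper.dim_univ, he]))
    exact hξ (hgen ▸ hQs _ (h (Set.mem_univ _)))
  have hform : ∀ l : List W.Modules, (∀ N ∈ l, PicF.IsInvertible N) → l.length = r →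
      delta k (B :: l) O = delta k l Q := by
    intro l hl hlen
    have hd : topologicalKrullDim (CohB1.support O) ≤ ((l.length + 1 : ℕ) : WithBot ℕ∞) := by
      rw [hsO, hlen]
    have hadd : delta k l (CohB1.tensorMod O A) = delta k l O + delta k l Q :=
      delta_add k hl (CohTwo.cokerSeq_shortExact (mulSec t' O)) hO hQ
    rw [delta_congr k l (Inter.tensor_comm O A), delta_twist k A l O] at hadd
    have := delta_inverse_cons k hA.1 hAB hl hO hd
    linarith
  have hz : ∀ l : List W.Modules, (∀ N ∈ l, PicF.IsInvertible N) → l.length + 1 = r →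
      delta k (GW.obj L :: l) Q = 0 := by
    intro l hl hlen
    have hll : ∀ N ∈ GW.obj L :: l, PicF.IsInvertible N := fun N hN => by
      rcases List.mem_cons.1 hN with rfl | hN
      exacts [hLW, hl N hN]
    have hd : topologicalKrullDim (CohB1.support Q) ≤ ((GW.obj L :: l).length : ℕ) := by
      simpa [hlen] using hQd
    have hfin := TauOpen.finite_top_points (X := W) (CohTwo.isClosed_support _ hQ) r hQd
    rw [delta_eq_sum_length k hll hQ hd hfin.toFinset (fun x => by
      rw [Set.Finite.mem_toFinset]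
      exact ⟨fun h => ⟨h.1, by simpa [hlen] using h.2⟩, fun h => ⟨h.1, by simpa [hlen] using h.2⟩⟩)]
    refine Finset.sum_eq_zero fun x hx => mul_eq_zero_of_right _ ?_
    obtain ⟨hxs, hxd⟩ := hfin.mem_toFinset.1 hx
    let j := (IntMult.ptIdeal x).subschemeι
    have : IsIntegral (IntMult.ptIdeal x).subscheme := CohTwo.isIntegral_closure_subscheme rfl
    have hjN : IsNoetherian (IntMult.ptIdeal x).subscheme := Inter.isNoetherian k
    have hnt := nt_of_range_subset k (PicF2.zeroScheme H φ).subschemeι hnum hL (j ≫ ι) (Category.assoc _ _ _) (by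
      rintro _ ⟨c, rfl⟩
      refine hQs _ ?_
      have : j c ∈ closure ({x} : Set W) := TauOpen.range_ptIdeal x ▸ ⟨c, rfl⟩
      exact closure_minimal (Set.singleton_subset_iff.2 hxs) (CohTwo.isClosed_support _ hQ) this)
    show delta k (GW.obj L :: l) ((Coh.push j).obj (Coh.structureModule _)) = 0
    rw [delta_push k j rfl _ hll, List.map_cons]
    have hnt' := TauOpen.nt_iso k ((Scheme.Modules.pullbackComp j ι).app L).symm hnt
    refine NumPairing.delta_cons_of_numEquivZero k hnt'.1 ((nt_iff k hnt'.1).1 hnt') ?_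
      (isCoh_of_isInvertible (EulerDeg.isInvertible_structureModule _)) ?_
    · simp only [List.mem_map]
      rintro _ ⟨P, hP, rfl⟩
      exact PicAux.isInvertible_pullback j (hl P hP)
    · rw [HodgeDim.support_structure, HodgeProper.dim_univ, Inter.dim_ptIdeal_subscheme, hxd]
      simp [hlen]
  -- the zero locus meets the component in a set of dimension at least two
  obtain ⟨w, hw⟩ : (CohB1.support Q).Nonempty := by
    rw [Set.nonempty_iff_ne_empty]
    intro hempty
    have hlt : topologicalKrullDim (CohB1.support Q) < ((List.replicate r B).length : ℕ) := by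
      rw [hempty, List.length_replicate]
      have : IsEmpty (IrreducibleCloseds ↥(∅ : Set W)) := ⟨fun T => T.isIrreducible.nonempty.some.2.elim⟩
      rw [topologicalKrullDim, Order.krullDim_eq_bot]
      exact WithBot.bot_lt_coe _
    have h1 := hform (List.replicate r B) (fun N hN => (List.eq_of_mem_replicate hN).symm ▸ hBi)
      List.length_replicate
    rw [delta_eq_zero k _ (fun N hN => (List.eq_of_mem_replicate hN).symm ▸ hBi) _ hQ hlt] at h1
    have h2 := delta_pos k (B :: List.replicate r B) (fun N hN => by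
      rcases List.mem_cons.1 hN with rfl | hN
      exacts [hB, (List.eq_of_mem_replicate hN).symm ▸ hB]) O hO (by simpa using hsO)
    omega
  have hr2 : 2 ≤ r := by
    let S : Set Y := closure ({ξ} : Set Y) ∩ X₀
    let y : ↥S := ⟨ι w, hrange ▸ ⟨w, rfl⟩, hQs w hw⟩
    have h2 := hdim _ (irreducibleComponent_mem_irreducibleComponents y)
    have hSc : IsClosed S :=
      isClosed_closure.inter (PicF2.zeroScheme H φ).subschemeι.isClosedEmbedding.isClosed_range
    have hS : topologicalKrullDim S < topologicalKrullDim (closure ({ξ} : Set Y)) := by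
      refine LocCohTransform.topologicalKrullDim_lt_of_ssubset Set.inter_subset_left
        (fun h => hξ (h (subset_closure rfl)).2) hSc isClosed_closure isIrreducible_singleton.closure ?_
      rw [← Inter.dim_ptIdeal_subscheme, show topologicalKrullDim (IntMult.ptIdeal ξ).subscheme = _ from he]
      exact WithBot.coe_lt_coe.2 (ENat.natCast_lt_top _)
    rw [← Inter.dim_ptIdeal_subscheme, show topologicalKrullDim (IntMult.ptIdeal ξ).subscheme = _ from he] at hS
    have := h2.trans ((topologicalKrullDim_subspace_le _ _).trans (lt_natCast_succ_iff.1 hS))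
    exact_mod_cast this
  obtain ⟨d, rfl⟩ : ∃ d, r = d + 1 := ⟨r - 1, by omega⟩
  have hrep : ∀ j, ∀ N ∈ List.replicate j B, PicF.IsInvertible N := fun j N hN =>
    (List.eq_of_mem_replicate hN).symm ▸ hBi
  obtain ⟨d', rfl⟩ : ∃ d', d = d' + 1 := ⟨d - 1, by omega⟩
  have hcons : ∀ j, ∀ N ∈ GW.obj L :: List.replicate j B, PicF.IsInvertible N := fun j N hN => by
    rcases List.mem_cons.1 hN with rfl | hN
    exacts [hLW, hrep j N hN]
  have h1 : delta k (GW.obj L :: List.replicate (d' + 1 + 1) B) O = 0 := by
    rw [List.replicate_succ, delta_perm k (List.Perm.swap B (GW.obj L) _), hform _ (hcons _) (by simp),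
      hz _ (hrep _) (by simp)]
  have h2 : delta k (GW.obj L :: GW.obj L :: List.replicate (d' + 1) B) O = 0 := by
    have hl2 : ∀ N ∈ GW.obj L :: GW.obj L :: List.replicate d' B, PicF.IsInvertible N := fun N hN => by
      rcases List.mem_cons.1 hN with rfl | hN
      exacts [hLW, hcons d' N hN]
    rw [List.replicate_succ,
      delta_perm k (List.Perm.cons _ (List.Perm.swap B (GW.obj L) _)),
      delta_perm k (List.Perm.swap B (GW.obj L) _), hform _ hl2 (by simp),
      hz _ (hcons d') (by simp)]
  have hcz := HodgeDim.main k he hB hLW h1 h2.ge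
  exact ⟨hLW, fun F hF hd => HodgeDim.delta_eq_zero_of_curveZero k hLW hcz hF (by simpa using hd)⟩

/-- Let k be an algebraically closed field, Y a proper k-scheme with an ample invertible module H, φ a
global section of H and X ⊆ Y its zero scheme. Assume that for every irreducible component Y' of Y,
every irreducible component of Y' ∩ X has dimension ≥ 2. Then an invertible O_Y-module whose
restriction to X is numerically equivalent to zero (degree 0 on every integral closed curve of X) is
numerically equivalent to zero on Y; that is, restriction of invertible modules modulo numerical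
equivalence from Y to X is injective. -/
theorem result (k : Type u) [Field k] [IsAlgClosed k] (Y : Scheme.{u}) [Y.Over (Spec (CommRingCat.of k))]
    [IsProper (Y ↘ Spec (CommRingCat.of k))] (H : Y.Modules) (hH : CohB1.IsAmple H) (φ : Coh.structureModule Y ⟶ H)
    (hdim : ∀ Z ∈ irreducibleComponents (Y : Type u),
      ∀ W ∈ irreducibleComponents ↥(Z ∩ Set.range (PicF2.zeroScheme H φ).subschemeι.base), 2 ≤ topologicalKrullDim ↥W)
    (L : Y.Modules) (hL : PicF.IsInvertible L)
    (hnum : @Pic13.IsNumEquivZero k _ (PicF2.zeroScheme H φ).subscheme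
      ⟨(PicF2.zeroScheme H φ).subschemeι ≫ (Y ↘ Spec (CommRingCat.of k))⟩
      ((Scheme.Modules.pullback (PicF2.zeroScheme H φ).subschemeι).obj L)) :
    Pic13.IsNumEquivZero k Y L := by
  refine (nt_iff k hL).1 (TauOpen.nt_of_curves k hL fun z hz => ?_)
  set X₀ := Set.range (PicF2.zeroScheme H φ).subschemeι.base
  have : IsIntegral (IntMult.ptIdeal z).subscheme := CohTwo.isIntegral_closure_subscheme rfl
  have hT := irreducibleComponent_mem_irreducibleComponents z
  have hξ := hT.1.isGenericPoint_genericPoint (isClosed_of_mem_irreducibleComponents _ hT)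
  set ξ := hT.1.genericPoint
  by_cases hin : ξ ∈ X₀
  · refine nt_of_range_subset k (PicF2.zeroScheme H φ).subschemeι hnum hL (IntMult.ptIdeal z).subschemeι rfl ?_
    rw [TauOpen.range_ptIdeal]
    refine closure_minimal (Set.singleton_subset_iff.2 ?_)
      (PicF2.zeroScheme H φ).subschemeι.isClosedEmbedding.isClosed_range
    exact closure_minimal (Set.singleton_subset_iff.2 hin)
      (PicF2.zeroScheme H φ).subschemeι.isClosedEmbedding.isClosed_range (hξ.def.symm ▸ mem_irreducibleComponent)
  · have hcomp : ∀ T ∈ irreducibleComponents ↥(closure ({ξ} : Set Y) ∩ X₀), 2 ≤ topologicalKrullDim ↥T := by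
      rw [hξ.def]
      exact hdim _ hT
    have hnt := nt_component k hH φ hL hnum hin hcomp
    have hsub : Set.range (IntMult.ptIdeal z).subschemeι ⊆ Set.range (IntMult.ptIdeal ξ).subschemeι := by
      rw [TauOpen.range_ptIdeal, TauOpen.range_ptIdeal, hξ.def]
      exact closure_minimal (Set.singleton_subset_iff.2 mem_irreducibleComponent)
        isClosed_irreducibleComponent
    obtain ⟨l, hl⟩ := Groth.Agent.S4367.result (IntMult.ptIdeal z).subschemeι (IntMult.ptIdeal ξ).subschemeι hsub
    refine TauOpen.nt_iso k ?_ (nt_pullback_proper k l ((reassoc_of% hl) _) hnt)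
    exact (Scheme.Modules.pullbackComp l _).app _ ≪≫ (Scheme.Modules.pullbackCongr hl).app _

end Groth.Agent.S5633
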