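import Groth.Statements.S4306
import Groth.Agent.Misc13.NumTriv.ProperTau
import Groth.Agent.Misc13.HodgeDim
-- import your own Groth.Agent.* helpers here

set_option autoImplicit false
universe u
open CategoryTheory CategoryTheory.Limits AlgebraicGeometry
open Pic13

namespace Groth.Agent.S4306

open Groth.Inter Groth.Misc13

/-- Iterated differences by one module only see the Euler characteristics of its twists. -/
theorem delta_replicate_congr (k : Type u) [Field k] {X : Scheme.{u}} [X.Over (Spec (CommRingCat.of k))]
    (B : X.Modules) : ∀ (r : ℕ) {F G : X.Modules},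
    (∀ j : ℕ, Curv2.euler k X (CohB1.tensorMod (CohB1.tensorPow B j) F) =
      Curv2.euler k X (CohB1.tensorMod (CohB1.tensorPow B j) G)) →
    delta k (List.replicate r B) F = delta k (List.replicate r B) G
  | 0, F, G, h => by
    have h0 := h 0
    rwa [show CohB1.tensorPow B 0 = Coh.structureModule X from rfl,
      EulerDeg.euler_congr k (tensor_one F).some, EulerDeg.euler_congr k (tensor_one G).some] at h0
  | r + 1, F, G, h => by
    have e : ∀ (j : ℕ) (K : X.Modules),
        Curv2.euler k X (CohB1.tensorMod (CohB1.tensorPow B j) (CohB1.tensorMod B K)) =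
          Curv2.euler k X (CohB1.tensorMod (CohB1.tensorPow B (j + 1)) K) := fun j K =>
      EulerDeg.euler_congr k (tensor_assoc _ _ _).some.symm
    simp only [List.replicate_succ, delta_cons]
    rw [delta_replicate_congr k B r h,
      delta_replicate_congr k B r (F := CohB1.tensorMod B F) (G := CohB1.tensorMod B G)
        fun j => by rw [e, e, h (j + 1)]]

/-- Let k be an algebraically closed field, X an irreducible proper k-scheme of dimension ≤ d carrying
an ample invertible module H with inverse H', and L an invertible module with inverse L'. Condition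
(v): χ(L^{⊗ m} ⊗ H^{⊗ n}) = χ(H^{⊗ n}) for all integers m, n — written with natural exponents on L,
L', H, H' to cover all signs, Euler characteristics in degrees ≤ d; condition (i): L is τ-equivalent
to zero. -/
theorem result (k : Type u) [Field k] [IsAlgClosed k] (X : Scheme.{u})
    [X.Over (Spec (CommRingCat.of k))] [IsProper (X ↘ Spec (CommRingCat.of k))] [IrreducibleSpace X]
    (d : ℕ) (hd : topologicalKrullDim X ≤ d) (H H' L L' : X.Modules) (hH : CohB1.IsAmple H) (hL : PicF.IsInvertible L)
    (hHH' : Nonempty (CohB1.tensorMod H H' ≅ Coh.structureModule X)) (hLL' : Nonempty (CohB1.tensorMod L L' ≅ Coh.structureModule X))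
    (hv : ∀ m n : ℕ,
      FGA.eulerCharLE k X (CohB1.tensorMod (CohB1.tensorPow L m) (CohB1.tensorPow H n)) d = FGA.eulerCharLE k X (CohB1.tensorPow H n) d ∧
      FGA.eulerCharLE k X (CohB1.tensorMod (CohB1.tensorPow L m) (CohB1.tensorPow H' n)) d = FGA.eulerCharLE k X (CohB1.tensorPow H' n) d ∧
      FGA.eulerCharLE k X (CohB1.tensorMod (CohB1.tensorPow L' m) (CohB1.tensorPow H n)) d = FGA.eulerCharLE k X (CohB1.tensorPow H n) d ∧
      FGA.eulerCharLE k X (CohB1.tensorMod (CohB1.tensorPow L' m) (CohB1.tensorPow H' n)) d = FGA.eulerCharLE k X (CohB1.tensorPow H' n) d) :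
    Pic13.IsTauEquivZero k X L := by
  have hN : IsNoetherian X := Inter.isNoetherian k
  have hB : IsAmpleInv H' := ⟨H, hH, hHH'⟩
  simp only [eulerCharLE_eq k hd] at hv
  have hone : ∀ m j : ℕ,
      Curv2.euler k X (CohB1.tensorMod (CohB1.tensorPow H' j) (CohB1.tensorPow L m)) =
        Curv2.euler k X (CohB1.tensorMod (CohB1.tensorPow H' j) (Coh.structureModule X)) := fun m j => by
    rw [EulerDeg.euler_congr k (tensor_comm (CohB1.tensorPow H' j) (CohB1.tensorPow L m)).some, (hv m j).2.1]
    exact EulerDeg.euler_congr k ((tensor_comm _ _).some ≪≫ (tensor_one _).some).symm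
  have hrep : ∀ m r : ℕ, delta k (List.replicate r H') (CohB1.tensorPow L m) =
      delta k (List.replicate r H') (Coh.structureModule X) := fun m r =>
    delta_replicate_congr k H' r (hone m)
  have hd1 : ∀ r : ℕ, delta k (L :: List.replicate r H') (Coh.structureModule X) = 0 := fun r => by
    have e1 : Nonempty (CohB1.tensorMod L (Coh.structureModule X) ≅ CohB1.tensorPow L 1) :=
      ⟨(tensor_comm _ _).some⟩
    rw [delta_cons, delta_congr k _ e1, hrep]
    ring
  have hd2 : ∀ r : ℕ, delta k (L :: L :: List.replicate r H') (Coh.structureModule X) = 0 := fun r => by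
    have e1 : Nonempty (CohB1.tensorMod L (Coh.structureModule X) ≅ CohB1.tensorPow L 1) :=
      ⟨(tensor_comm _ _).some⟩
    have e2 : Nonempty (CohB1.tensorMod L (CohB1.tensorMod L (Coh.structureModule X)) ≅
        CohB1.tensorPow L 2) :=
      ⟨(tensor_comm _ _).some ≪≫ (tensor_congr e1 ⟨Iso.refl L⟩).some⟩
    rw [delta_cons, delta_cons, delta_cons, delta_congr k _ e1, delta_congr k _ e2, hrep, hrep]
    ring
  obtain ⟨n, hn, -⟩ : ∃ n : ℕ, topologicalKrullDim X = ((n : ℕ) : WithBot ℕ∞) ∧ True := by
    have : Nonempty (TopologicalSpace.IrreducibleCloseds X) :=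
      ⟨⟨Set.univ, IrreducibleSpace.isIrreducible_univ X, isClosed_univ⟩⟩
    have hlo : (0 : WithBot ℕ∞) ≤ topologicalKrullDim X := Order.krullDim_nonneg
    revert hd hlo
    generalize topologicalKrullDim X = v
    intro hv₁ hv₂
    rcases v with _ | _ | m
    · exact absurd hv₂ (not_le.2 (WithBot.bot_lt_coe _))
    · exact absurd hv₁ (not_le.2 (WithBot.coe_lt_coe.2 (WithTop.coe_lt_top d)))
    · exact ⟨m, rfl, trivial⟩
  have hcz : HodgeDim.CurveZero k L Set.univ := by
    rcases Nat.lt_or_ge n 2 with h2 | h2
    · intro z _ hz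
      have hη : closure ({genericPoint X} : Set X) = Set.univ := genericPoint_spec X
      have hzle := LocCohTransform.topologicalKrullDim_mono (Set.subset_univ (closure ({z} : Set X)))
      rw [hz, HodgeProper.dim_univ, hn] at hzle
      have hn1 : n = 1 := by
        have : 1 ≤ n := by exact_mod_cast hzle
        omega
      have hηd : topologicalKrullDim (closure ({genericPoint X} : Set X)) = ((1 : ℕ) : WithBot ℕ∞) := by
        rw [hη, HodgeProper.dim_univ, hn, hn1]
      have hzη : z = genericPoint X :=
        Inter.eq_of_dim_closure (hη ▸ Set.mem_univ z) hηd.le hz.ge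
      obtain ⟨c, hc, hce⟩ := HodgeProper.delta_eq_length_mul k (l := [L]) (by simpa using hL)
        (isCoh_of_isInvertible (EulerDeg.isInvertible_structureModule X)) (y := genericPoint X)
        (by simpa using hηd) (hη ▸ Set.subset_univ _) (by rw [HodgeDim.support_structure]; trivial)
      have := hd1 0
      rw [show L :: List.replicate 0 H' = [L] from rfl, hce] at this
      rw [hzη]
      simpa using (mul_eq_zero.1 this).resolve_left (by exact_mod_cast hc.ne')
    · obtain ⟨e, rfl⟩ : ∃ e, n = e + 2 := ⟨n - 2, by omega⟩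
      exact HodgeDim.main k hn hB hL (hd1 _) (hd2 _).ge
  exact NumTriv.isTauEquivZero_of_nt_proper k
    ⟨hL, fun F hF hdF => HodgeDim.delta_eq_zero_of_curveZero k hL hcz hF (by simpa using hdF)⟩

end Groth.Agent.S4306
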