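import Groth.Statements.S4301
import Groth.Agent.Misc13.NumTriv.ProperTau
import Groth.Agent.S4306
import Groth.Agent.S2427
import Groth.Agent.CohBase.InvNearFibre
import Groth.Agent.AmpleFibre.Nhd
-- import your own Groth.Agent.* helpers here

set_option autoImplicit false
universe u
open CategoryTheory CategoryTheory.Limits AlgebraicGeometry
open Pic13

namespace Groth.Agent.S4301

open Groth.Inter Groth.PicAux Groth.Misc13.NumTriv

/-- A geometric point through a point with values in a field. -/
theorem exists_geomPoint_of_point {S : Scheme.{u}} (K : Type u) [Field K]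
    (g : Spec (CommRingCat.of K) ⟶ S) (s : S) (hg : ∀ y, g y = s) :
    ∃ (Ω : Type u) (_ : Field Ω) (_ : IsAlgClosed Ω) (σ : Spec (CommRingCat.of Ω) ⟶ S),
      Set.range σ = {s} := by
  refine ⟨AlgebraicClosure K, inferInstance, inferInstance,
    Spec.map (CommRingCat.ofHom (algebraMap K (AlgebraicClosure K))) ≫ g, ?_⟩
  refine Set.eq_singleton_iff_unique_mem.2 ⟨⟨IsLocalRing.closedPoint _, ?_⟩, ?_⟩
  · exact hg _
  · rintro _ ⟨y, rfl⟩
    exact hg _

/-- A geometric point over a point. -/
theorem exists_geomPoint {S : Scheme.{u}} (s : S) :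
    ∃ (Ω : Type u) (_ : Field Ω) (_ : IsAlgClosed Ω) (σ : Spec (CommRingCat.of Ω) ⟶ S),
      Set.range σ = {s} :=
  exists_geomPoint_of_point (S.residueField s) (S.fromSpecResidueField s) s
    fun y => Scheme.fromSpecResidueField_apply _ y

/-- Let S be a Noetherian scheme, i : X ⟶ P^n_S a closed immersion with f : X ⟶ S the composite with the
projection, f flat with integral geometric fibres, and L an invertible O_X-module. Then the set of
points s of S such that L is τ-equivalent to zero on the geometric fibre at s is closed (it is also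
open, but only closedness is asserted here). (The published statement is that Pic^τ_{X/S} ⟶
Pic_{X/S} is representable by an open and closed immersion; this is the form reached in its proof.) -/
theorem result {X S : Scheme.{u}} [IsNoetherian S] (n : ℕ)
    (i : X ⟶ CohB1.ProjSpaceOver n S) [IsClosedImmersion i] [Flat (i ≫ CohB1.ProjSpaceOver.toBase n S)]
    (hint : ∀ (Ω : Type u) [Field Ω] [IsAlgClosed Ω] (σ : Spec (CommRingCat.of Ω) ⟶ S), IsIntegral (pullback (i ≫ CohB1.ProjSpaceOver.toBase n S) σ))
    (L : X.Modules) (hL : PicF.IsInvertible L) :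
    IsClosed {s : S | Pic13.IsTauTrivialAt (i ≫ CohB1.ProjSpaceOver.toBase n S) L s} := by
  let f := i ≫ CohB1.ProjSpaceOver.toBase n S
  have : IsProper (CohB1.ProjSpaceOver.toBase n S) := inferInstance
  have : IsProper f := inferInstance
  have hXN : IsLocallyNoetherian X := LocallyOfFiniteType.isLocallyNoetherian f
  let H := (Scheme.Modules.pullback i).obj (Twist.twistOver n S 1)
  have hH : RelAmple.IsRelAmple f H := Groth.Agent.S2427.isRelAmple_twistOver n i
  have hHi : PicF.IsInvertible H := Ega2Proj.isInvertible_of_isRelAmple hH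
  obtain ⟨H', hH', hHH'⟩ := exists_isInverseOf hHi
  obtain ⟨L', hL', hLL'⟩ := exists_isInverseOf hL
  let tw : X.Modules → X.Modules → ℕ → ℕ → X.Modules := fun A B a b =>
    CohB1.tensorMod (CohB1.tensorPow A a) (CohB1.tensorPow B b)
  let Eq4 : ℕ → ℕ → S → Prop := fun a b s =>
    fibreEuler f (tw L H a b) s = fibreEuler f (CohB1.tensorPow H b) s ∧
    fibreEuler f (tw L H' a b) s = fibreEuler f (CohB1.tensorPow H' b) s ∧
    fibreEuler f (tw L' H a b) s = fibreEuler f (CohB1.tensorPow H b) s ∧
    fibreEuler f (tw L' H' a b) s = fibreEuler f (CohB1.tensorPow H' b) s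
  have hcst : ∀ A : X.Modules, PicF.IsInvertible A → IsLocallyConstant (fibreEuler f A) := fun A hA =>
    isLocallyConstant_euler_fiber f A (isCoh_of_isInvertible hA) (CohBase.isFlatOver_of_isInvertible f hA)
  have hclosed : IsClosed {s : S | ∀ a b, Eq4 a b s} := by
    simp only [Set.setOf_forall]
    refine isClosed_iInter fun a => isClosed_iInter fun b => ?_
    have hq : ∀ A B : X.Modules, PicF.IsInvertible A → PicF.IsInvertible B →
        IsClosed {s : S | fibreEuler f A s = fibreEuler f B s} := fun A B hA hB =>
      isClosed_eq (hcst A hA).continuous (hcst B hB).continuous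
    simp only [Eq4, Set.setOf_and]
    refine IsClosed.inter (hq _ _ ?_ ?_) (IsClosed.inter (hq _ _ ?_ ?_) (IsClosed.inter (hq _ _ ?_ ?_) (hq _ _ ?_ ?_)))
    all_goals
      first
        | exact isInvertible_tensorPow hHi b
        | exact isInvertible_tensorPow hH' b
        | exact isInvertible_tensorMod (isInvertible_tensorPow hL a) (isInvertible_tensorPow hHi b)
        | exact isInvertible_tensorMod (isInvertible_tensorPow hL a) (isInvertible_tensorPow hH' b)
        | exact isInvertible_tensorMod (isInvertible_tensorPow hL' a) (isInvertible_tensorPow hHi b)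
        | exact isInvertible_tensorMod (isInvertible_tensorPow hL' a) (isInvertible_tensorPow hH' b)
  convert hclosed using 1
  ext s
  have htrans : ∀ (Ω : Type u) [Field Ω] [IsAlgClosed Ω] (σ : Spec (CommRingCat.of Ω) ⟶ S),
      σ (IsLocalRing.closedPoint Ω) = s → ((∀ a b, Eq4 a b s) ↔
        @Pic13.IsTauEquivZero Ω _ (pullback f σ) ⟨pullback.snd f σ⟩
          ((Scheme.Modules.pullback (pullback.fst f σ)).obj L)) := by
    intro Ω _ _ σ hσ
    let Z := pullback f σ
    letI : Z.Over (Spec (CommRingCat.of Ω)) := ⟨pullback.snd f σ⟩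
    let g := pullback.fst f σ
    let G := Scheme.Modules.pullback g
    have : IsProper (Z ↘ Spec (CommRingCat.of Ω)) :=
      MorphismProperty.pullback_snd (P := @IsProper) f σ inferInstance
    have : IsIntegral Z := hint Ω σ
    obtain ⟨d, hd⟩ := exists_dim_le Ω (X := Z)
    have he : ∀ A : X.Modules, PicF.IsInvertible A →
        Curv2.euler Ω Z (G.obj A) = fibreEuler f A s := fun A hA => by
      have := (isCoh_of_isInvertible hA).1
      rw [euler_point_eq f A Ω σ g (IsPullback.of_hasPullback f σ), hσ]
    have hpow : ∀ (A : X.Modules) (b : ℕ), PicF.IsInvertible A →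
        Curv2.euler Ω Z (CohB1.tensorPow (G.obj A) b) = fibreEuler f (CohB1.tensorPow A b) s :=
      fun A b hA => (EulerDeg.euler_congr Ω (pullback_tensorPow g A b).some.symm).trans
        (he _ (isInvertible_tensorPow hA b))
    have htw : ∀ (A B : X.Modules) (a b : ℕ), PicF.IsInvertible A → PicF.IsInvertible B →
        Curv2.euler Ω Z (CohB1.tensorMod (CohB1.tensorPow (G.obj A) a) (CohB1.tensorPow (G.obj B) b)) =
          fibreEuler f (tw A B a b) s := fun A B a b hA hB =>
      (EulerDeg.euler_congr Ω ((exists_pullback_tensorMod g _ _).choose ≪≫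
        PicGrp.tensorModIso (pullback_tensorPow g A a).some (pullback_tensorPow g B b).some).symm).trans
        (he _ (isInvertible_tensorMod (isInvertible_tensorPow hA a) (isInvertible_tensorPow hB b)))
    have hamp : CohB1.IsAmple (G.obj H) := by
      let ψ := S.descResidueField (Scheme.stalkClosedPointTo σ)
      have hψ : Spec.map ψ ≫ S.fromSpecResidueField (σ (IsLocalRing.closedPoint Ω)) = σ :=
        Scheme.descResidueField_stalkClosedPointTo_fromSpecResidueField Ω S σ
      let g' : Z ⟶ f.fiber (σ (IsLocalRing.closedPoint Ω)) :=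
        pullback.lift g (pullback.snd f σ ≫ Spec.map ψ)
          (by rw [Category.assoc, hψ]; exact pullback.condition)
      have hg' : g' ≫ f.fiberι _ = g := pullback.lift_fst _ _ _
      have hsq : IsPullback g' (pullback.snd f σ) (f.fiberToSpecResidueField _) (Spec.map ψ) := by
        have h' : IsPullback (g' ≫ f.fiberι _) (pullback.snd f σ) f
            (Spec.map ψ ≫ S.fromSpecResidueField _) := by
          rw [hg', hψ]; exact IsPullback.of_hasPullback f σ
        exact h'.of_right (pullback.lift_snd _ _ _) (IsPullback.of_hasPullback _ _)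
      have : IsAffineHom g' := MorphismProperty.of_isPullback hsq.flip (isAffineHom_of_isAffine _)
      exact Ega2Proj.isAmple_of_iso ((Scheme.Modules.pullbackComp g' _).app H ≪≫
        (Scheme.Modules.pullbackCongr hg').app H)
        (Chow.isAmple_pullback_of_isAffineHom g' (AmpleFibre.isAmple_fibre_of_isRelAmple f hH _))
    constructor
    · intro h
      refine Groth.Agent.S4306.result Ω Z d hd (G.obj H) (G.obj H') (G.obj L) (G.obj L') hamp
        (PicAux.isInvertible_pullback g hL) (isInverseOf_pullback g hHH') (isInverseOf_pullback g hLL')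
        fun a b => ?_
      simp only [eulerCharLE_eq Ω hd]
      exact ⟨(htw L H a b hL hHi).trans ((h a b).1.trans (hpow H b hHi).symm),
        (htw L H' a b hL hH').trans ((h a b).2.1.trans (hpow H' b hH').symm),
        (htw L' H a b hL' hHi).trans ((h a b).2.2.1.trans (hpow H b hHi).symm),
        (htw L' H' a b hL' hH').trans ((h a b).2.2.2.trans (hpow H' b hH').symm)⟩
    · intro hτ a b
      have hnt : NT Ω (G.obj L) := nt_of_tau Ω (PicAux.isInvertible_pullback g hL) hτ
      have hnt' : NT Ω (G.obj L') := nt_inverse Ω hnt (isInverseOf_pullback g hLL')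
      have hz : ∀ (N B : X.Modules), PicF.IsInvertible N → PicF.IsInvertible B → NT Ω (G.obj N) →
          fibreEuler f (tw N B a b) s = fibreEuler f (CohB1.tensorPow B b) s := fun N B hN hB hn => by
        rw [← htw N B a b hN hB, ← hpow B b hB, EulerDeg.euler_congr Ω (tensor_comm _ _).some]
        exact euler_tensor Ω (nt_pow Ω hn a)
          (isCoh_of_isInvertible (isInvertible_tensorPow (PicAux.isInvertible_pullback g hB) b))
      exact ⟨hz L H hL hHi hnt, hz L H' hL hH' hnt, hz L' H hL' hHi hnt', hz L' H' hL' hH' hnt'⟩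
  constructor
  · intro h
    obtain ⟨Ω, _, _, σ, hσ⟩ := exists_geomPoint s
    exact (htrans Ω σ (Set.mem_singleton_iff.1 (hσ ▸ Set.mem_range_self _))).2 (h Ω σ hσ)
  · intro h Ω _ _ σ hσ
    exact (htrans Ω σ (Set.mem_singleton_iff.1 (hσ ▸ Set.mem_range_self _))).1 h

end Groth.Agent.S4301

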