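import Groth.Statements.S4300
import Groth.Agent.Misc13.NumTriv.TauOpen.Family
import Groth.Agent.Misc13.NumTriv.ProperTau
import Groth.Agent.AmpleFibre.Nhd
import Groth.Agent.Chow.General
import Groth.Agent.S2427
import Groth.Agent.S4301

set_option autoImplicit false
universe u
open CategoryTheory CategoryTheory.Limits AlgebraicGeometry
open Pic13

set_option linter.style.haveILetI false

namespace Groth.Agent.S4300

open Groth.Inter Groth.PicAux Groth.Misc13.NumTriv Groth.Misc13.NumTriv.TauOpen

/-- Numerical triviality on the fibre over the residue field. -/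
def NTFib {X S : Scheme.{u}} (f : X ⟶ S) (L : X.Modules) (s : S) : Prop :=
  @NT (S.residueField s) _ (f.fiber s) ⟨f.fiberToSpecResidueField s⟩
    ((Scheme.Modules.pullback (f.fiberι s)).obj L)

/-- Numerical triviality transfers along isomorphisms over the field. -/
theorem nt_iso_scheme (k : Type u) [Field k] {Z W : Scheme.{u}} [Z.Over (Spec (CommRingCat.of k))]
    [W.Over (Spec (CommRingCat.of k))] [IsProper (Z ↘ Spec (CommRingCat.of k))]
    [IsProper (W ↘ Spec (CommRingCat.of k))] (α : Z ≅ W)
    (hα : α.hom ≫ (W ↘ Spec (CommRingCat.of k)) = Z ↘ Spec (CommRingCat.of k)) (L : W.Modules) :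
    NT k ((Scheme.Modules.pullback α.hom).obj L) ↔ NT k L := by
  refine ⟨fun h => ?_, fun h => nt_pullback_proper k α.hom hα h⟩
  refine nt_iso k ?_ (nt_pullback_proper k α.inv (by rw [← hα, α.inv_hom_id_assoc]) h)
  exact (Scheme.Modules.pullbackComp _ _).app L ≪≫ (Scheme.Modules.pullbackCongr α.inv_hom_id).app L ≪≫
    (Scheme.Modules.pullbackId _).app L

/-- τ-triviality on a geometric fibre is numerical triviality on the fibre. -/
theorem tau_iff_ntFib {X S : Scheme.{u}} (f : X ⟶ S) [IsProper f] {L : X.Modules}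
    (hL : PicF.IsInvertible L) (Ω : Type u) [Field Ω] [IsAlgClosed Ω]
    (σ : Spec (CommRingCat.of Ω) ⟶ S) :
    @Pic13.IsTauEquivZero Ω _ (pullback f σ) ⟨pullback.snd f σ⟩
        ((Scheme.Modules.pullback (pullback.fst f σ)).obj L) ↔
      NTFib f L (σ (IsLocalRing.closedPoint Ω)) := by
  let s := σ (IsLocalRing.closedPoint Ω)
  let k := S.residueField s
  let ψ := S.descResidueField (Scheme.stalkClosedPointTo σ)
  have hψ : Spec.map ψ ≫ S.fromSpecResidueField s = σ :=
    Scheme.descResidueField_stalkClosedPointTo_fromSpecResidueField Ω S σ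
  letI : Algebra k Ω := ψ.hom.toAlgebra
  letI : (f.fiber s).Over (Spec (CommRingCat.of k)) := ⟨f.fiberToSpecResidueField s⟩
  have : IsProper (f.fiber s ↘ Spec (CommRingCat.of k)) :=
    MorphismProperty.pullback_snd (P := @IsProper) f _ ‹_›
  let Z := pullback f σ
  letI : Z.Over (Spec (CommRingCat.of Ω)) := ⟨pullback.snd f σ⟩
  have : IsProper (Z ↘ Spec (CommRingCat.of Ω)) :=
    MorphismProperty.pullback_snd (P := @IsProper) f σ inferInstance
  letI := HilbStab.BC.overBC k (f.fiber s) Ω
  have := isProper_bcK k (f.fiber s) Ω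
  let g' : Z ⟶ f.fiber s :=
    pullback.lift (pullback.fst f σ) (pullback.snd f σ ≫ Spec.map ψ)
      (by rw [Category.assoc, hψ]; exact pullback.condition)
  have hg' : g' ≫ f.fiberι s = pullback.fst f σ := pullback.lift_fst _ _ _
  have hsq : IsPullback g' (pullback.snd f σ) (f.fiberToSpecResidueField s) (Spec.map ψ) := by
    have h' : IsPullback (g' ≫ f.fiberι s) (pullback.snd f σ) f
        (Spec.map ψ ≫ S.fromSpecResidueField s) := by
      rw [hg', hψ]; exact IsPullback.of_hasPullback f σ
    exact h'.of_right (pullback.lift_snd _ _ _) (IsPullback.of_hasPullback _ _)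
  let α : Z ≅ Curv2.bc k (f.fiber s) Ω := hsq.isoPullback
  have h1 : α.hom ≫ Curv2.bcFst k (f.fiber s) Ω = g' := hsq.isoPullback_hom_fst
  let e : (Scheme.Modules.pullback α.hom).obj ((Scheme.Modules.pullback (Curv2.bcFst k (f.fiber s) Ω)).obj
      ((Scheme.Modules.pullback (f.fiberι s)).obj L)) ≅ (Scheme.Modules.pullback (pullback.fst f σ)).obj L :=
    (Scheme.Modules.pullbackComp _ _).app _ ≪≫ (Scheme.Modules.pullbackCongr h1).app _ ≪≫
      (Scheme.Modules.pullbackComp g' _).app L ≪≫ (Scheme.Modules.pullbackCongr hg').app L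
  show _ ↔ NT k _
  rw [← nt_bc_iff k (f.fiber s) Ω (PicAux.isInvertible_pullback _ hL),
    ← nt_iso_scheme Ω α hsq.isoPullback_hom_snd]
  exact ⟨fun h => nt_iso Ω e.symm (nt_of_tau Ω (PicAux.isInvertible_pullback _ hL) h),
    fun h => isTauEquivZero_of_nt_proper Ω (nt_iso Ω e h)⟩

/-- Numerical triviality on fibres is detected on a surjective modification. -/
theorem ntFib_iff_of_surjective {X X' S : Scheme.{u}} (f : X ⟶ S) [IsProper f] (π : X' ⟶ X) [IsProper π]
    [Surjective π] {L : X.Modules} (hL : PicF.IsInvertible L) (s : S) :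
    NTFib (π ≫ f) ((Scheme.Modules.pullback π).obj L) s ↔ NTFib f L s := by
  let k := S.residueField s
  letI : (f.fiber s).Over (Spec (CommRingCat.of k)) := ⟨f.fiberToSpecResidueField s⟩
  letI : ((π ≫ f).fiber s).Over (Spec (CommRingCat.of k)) := ⟨(π ≫ f).fiberToSpecResidueField s⟩
  have : IsProper (f.fiber s ↘ Spec (CommRingCat.of k)) :=
    MorphismProperty.pullback_snd (P := @IsProper) f _ ‹_›
  have : IsProper ((π ≫ f).fiber s ↘ Spec (CommRingCat.of k)) :=
    MorphismProperty.pullback_snd (P := @IsProper) (π ≫ f) _ inferInstance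
  let φ : (π ≫ f).fiber s ⟶ f.fiber s :=
    pullback.lift ((π ≫ f).fiberι s ≫ π) ((π ≫ f).fiberToSpecResidueField s)
      (by rw [Category.assoc]; exact pullback.condition)
  have hφ : φ ≫ f.fiberι s = (π ≫ f).fiberι s ≫ π := pullback.lift_fst _ _ _
  have hφ' : φ ≫ (f.fiber s ↘ Spec (CommRingCat.of k)) = (π ≫ f).fiber s ↘ Spec (CommRingCat.of k) :=
    pullback.lift_snd _ _ _
  have hsq : IsPullback φ ((π ≫ f).fiberι s) (f.fiberι s) π :=
    IsPullback.of_right
      (h₁₂ := f.fiberToSpecResidueField s) (h₂₂ := f) (v₁₃ := S.fromSpecResidueField s)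
      (by
        rw [show φ ≫ f.fiberToSpecResidueField s = (π ≫ f).fiberToSpecResidueField s from
          pullback.lift_snd _ _ _]
        exact (IsPullback.of_hasPullback (π ≫ f) (S.fromSpecResidueField s)).flip)
      hφ (IsPullback.of_hasPullback f (S.fromSpecResidueField s)).flip
  have : Surjective φ := MorphismProperty.of_isPullback hsq.flip inferInstance
  let e : (Scheme.Modules.pullback φ).obj ((Scheme.Modules.pullback (f.fiberι s)).obj L) ≅
      (Scheme.Modules.pullback ((π ≫ f).fiberι s)).obj ((Scheme.Modules.pullback π).obj L) :=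
    (Scheme.Modules.pullbackComp φ _).app L ≪≫ (Scheme.Modules.pullbackCongr hφ).app L ≪≫
      ((Scheme.Modules.pullbackComp _ π).app L).symm
  exact ⟨fun h => nt_of_pullback_surjective k φ hφ' (PicAux.isInvertible_pullback _ hL) (nt_iso k e.symm h),
    fun h => nt_iso k e (nt_pullback_proper k φ hφ' h)⟩

/-- Ampleness on a fibre is an open condition. -/
theorem isOpen_ampleFibre {X S : Scheme.{u}} [IsNoetherian S] (f : X ⟶ S) [IsProper f] {A : X.Modules}
    (hA : PicF.IsInvertible A) :
    IsOpen {s : S | CohB1.IsAmple ((Scheme.Modules.pullback (f.fiberι s)).obj A)} := by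
  refine isOpen_iff_forall_mem_open.2 fun s hs => ?_
  obtain ⟨V, hV, hsV, hamp⟩ := Groth.AmpleFibre.exists_nhd_isAmple f s hA hs
  refine ⟨V, fun t ht => ?_, V.isOpen, hsV⟩
  have : IsAffineHom (Groth.CohBase.fibreToPreimage f t ht) :=
    MorphismProperty.of_isPullback (P := @IsAffineHom)
      (Groth.CohBase.isPullback_fibreToPreimage f hV t ht).flip (isAffineHom_of_isAffine _)
  exact Groth.Ega2Proj.isAmple_of_iso (Groth.CohBase.fibreModIso f A t ht)
    (Groth.Chow.isAmple_pullback_of_isAffineHom _ hamp)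

/-- The numerically trivial locus of a projective family is open. -/
theorem isOpen_ntFib {X S : Scheme.{u}} [IsNoetherian S] (f : X ⟶ S) [IsProper f] {H : X.Modules}
    (hH : RelAmple.IsRelAmple f H) {L : X.Modules} (hL : PicF.IsInvertible L) :
    IsOpen {s : S | NTFib f L s} := by
  have hHi := Ega2Proj.isInvertible_of_isRelAmple hH
  obtain ⟨H', hH', hHH'⟩ := exists_isInverseOf hHi
  obtain ⟨L', hL', hLL'⟩ := exists_isInverseOf hL
  obtain ⟨M, hM⟩ := exists_bound f hHi hHH' hL hLL'
  have heq : {s : S | NTFib f L s} = ⋂ m ∈ Set.Iic M,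
      {s : S | CohB1.IsAmple ((Scheme.Modules.pullback (f.fiberι s)).obj (CohB1.tensorMod H (CohB1.tensorPow L m)))} ∩
      {s : S | CohB1.IsAmple ((Scheme.Modules.pullback (f.fiberι s)).obj (CohB1.tensorMod H (CohB1.tensorPow L' m)))} := by
    ext s
    simp only [Set.mem_iInter, Set.mem_inter_iff, Set.mem_setOf_eq, Set.mem_Iic]
    refine ⟨fun h m _ => ?_, hM s⟩
    let k := S.residueField s
    letI : (f.fiber s).Over (Spec (CommRingCat.of k)) := ⟨f.fiberToSpecResidueField s⟩
    have : IsProper (f.fiber s ↘ Spec (CommRingCat.of k)) :=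
      MorphismProperty.pullback_snd (P := @IsProper) f _ ‹_›
    have hA := AmpleFibre.isAmple_fibre_of_isRelAmple f hH s
    let G := Scheme.Modules.pullback (f.fiberι s)
    have key : ∀ {P P' : X.Modules}, ClSub.IsInverseOf P P' → NT k (G.obj P) →
        CohB1.IsAmple (G.obj (CohB1.tensorMod H (CohB1.tensorPow P m))) := fun {P P'} hPP' hP => by
      refine Ega2Proj.isAmple_of_iso ?_ (isAmple_nef_tensor_ample k hA hP.1
        (PicAux.isInverseOf_pullback (f.fiberι s) hPP')
        (fun F hF hd => ((nt_inverse k hP (PicAux.isInverseOf_pullback (f.fiberι s) hPP')).2 F hF hd).ge) m)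
      exact (Inter.tensor_comm _ _).some ≪≫
        (PicGrp.tensorModIso (Iso.refl _) (pullback_tensorPow (f.fiberι s) P m).some).symm ≪≫
        (exists_pullback_tensorMod _ _ _).choose.symm
    exact ⟨key hLL' h, key (PicAux.isInverseOf_symm hLL')
      (nt_inverse k h (PicAux.isInverseOf_pullback (f.fiberι s) hLL'))⟩
  rw [heq]
  exact (Set.finite_Iic M).isOpen_biInter fun m _ =>
    (isOpen_ampleFibre f (isInvertible_tensorMod hHi (isInvertible_tensorPow hL m))).inter
      (isOpen_ampleFibre f (isInvertible_tensorMod hHi (isInvertible_tensorPow hL' m)))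

/-- In the form reached in its proof: let S be a Noetherian scheme, f : X ⟶ S a proper morphism and L an
invertible O_X-module. Then the set of points s of S such that L is τ-equivalent to zero on the
geometric fibre of f at s is open. (The source's (i): Pic^τ_{X/S} ⟶ Pic_{X/S} is representable by an
open immersion.) -/
theorem result {X S : Scheme.{u}} [IsNoetherian S] (f : X ⟶ S) [IsProper f] (L : X.Modules) (hL : PicF.IsInvertible L) :
    IsOpen {s : S | Pic13.IsTauTrivialAt f L s} := by
  have : CompactSpace X := QuasiCompact.compactSpace_of_compactSpace f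
  have : IsLocallyNoetherian X := LocallyOfFiniteType.isLocallyNoetherian f
  obtain ⟨N, X', π, j, hj, hjb, hπ, hsurj⟩ := Groth.Chow.exists_chow_general f
  have : IsProper (j ≫ CohB1.ProjSpaceOver.toBase N S) := by rw [hjb]; infer_instance
  have : IsClosedImmersion j := by
    have : IsProper j := IsProper.of_comp j (CohB1.ProjSpaceOver.toBase N S)
    exact IsClosedImmersion.of_isPreimmersion j j.isClosedMap.isClosed_range
  have key : {s : S | Pic13.IsTauTrivialAt f L s} =
      {s : S | NTFib (j ≫ CohB1.ProjSpaceOver.toBase N S) ((Scheme.Modules.pullback π).obj L) s} := by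
    ext s
    show Pic13.IsTauTrivialAt f L s ↔ NTFib _ _ s
    rw [hjb, ntFib_iff_of_surjective f π hL s]
    constructor
    · intro h
      obtain ⟨Ω, _, _, σ, hσ⟩ := Groth.Agent.S4301.exists_geomPoint s
      have := (tau_iff_ntFib f hL Ω σ).1 (h Ω σ hσ)
      rwa [show σ (IsLocalRing.closedPoint Ω) = s from
        Set.mem_singleton_iff.1 (hσ ▸ Set.mem_range_self _)] at this
    · intro h Ω _ _ σ hσ
      refine (tau_iff_ntFib f hL Ω σ).2 ?_
      rwa [show σ (IsLocalRing.closedPoint Ω) = s from
        Set.mem_singleton_iff.1 (hσ ▸ Set.mem_range_self _)]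
  rw [key]
  exact isOpen_ntFib _ (Groth.Agent.S2427.isRelAmple_twistOver N j) (PicAux.isInvertible_pullback π hL)

end Groth.Agent.S4300
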