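import Groth.Statements.S4302
import Groth.Agent.RelPC.PnPush.Global
import Groth.Agent.DerivedCoh.StalkAmp.Perfect
import Groth.Agent.DerivedCoh.RelAmp.ClosedImm
import Groth.Agent.DerivedCoh.KFlat.RpushComp
import Groth.Agent.Misc4.KoszulSummand

set_option autoImplicit false
set_option linter.style.haveILetI false
universe u
open CategoryTheory CategoryTheory.Limits AlgebraicGeometry
attribute [local instance] HasDerivedCategory.standard
open KSix

namespace Groth.Agent.S4302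

/-- the zero object has every perfect amplitude -/
private lemma perfAmp_of_isZero {X : Scheme.{u}} {K : DCoh.D X} (h : IsZero K) (m n : ℤ) :
    KSix.HasPerfectAmplitudeIn m n K := by
  refine (Groth.DerivedCoh.StalkAmp.hasPerfectAmplitudeIn_iff K m n).2 fun x =>
    ⟨⊤, trivial, (HomologicalComplex.zero : CochainComplex (((⊤ : X.Opens) : Scheme.{u})).Modules ℤ), fun i _ => isZero_zero _, fun i => ?_, ?_⟩
  · exact Groth.KTheory.LocFree.isFinLocFree_zero (isZero_zero _)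
  · exact ⟨((Groth.KTheory.Perf.Rd _).map_isZero h).iso (Functor.map_isZero _ (HomologicalComplex.isZero_zero))⟩

/-- an object of perfect amplitude in an empty interval is zero -/
private lemma isZero_of_perfAmp {X : Scheme.{u}} {K : DCoh.D X} {m n : ℤ} (hmn : n < m)
    (h : KSix.HasPerfectAmplitudeIn m n K) : IsZero K := by
  have h0 : ∀ k : ℤ, IsZero (DCoh.HD K k) := fun k =>
    Groth.KTheory.Perf.isZero_of_local fun x => by
      obtain ⟨V, hx, E, h0, -, ⟨e⟩⟩ :=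
        (Groth.DerivedCoh.StalkAmp.hasPerfectAmplitudeIn_iff K m n).1 h x
      obtain ⟨c⟩ := Groth.KTheory.Perf.nonempty_hdRd V.ι K k
      have hE : IsZero E := (IsZero.iff_id_eq_zero _).2
        (HomologicalComplex.hom_ext _ _ fun i => (h0 i (by omega)).eq_of_src _ _)
      exact ⟨V, hx, (Groth.DerivedCoh.KFlat.isZero_hd_of_iso e ((DerivedCategory.homologyFunctor _ k).map_isZero
        (show IsZero (DCoh.toD _ E) from DerivedCategory.Q.map_isZero hE))).of_iso c.symm⟩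
  haveI : K.IsLE (-1) := (DerivedCategory.isLE_iff _ _).2 fun i _ => h0 i
  haveI : K.IsGE 0 := (DerivedCategory.isGE_iff _ _).2 fun i _ => h0 i
  rw [IsZero.iff_id_eq_zero]
  exact DerivedCategory.TStructure.t.zero (𝟙 K) (-1) 0 (by omega)

theorem result {X Y : Scheme.{u}} [IsAffine Y] (r : ℕ)
    (i : X ⟶ CohB1.ProjSpaceOver r Y) [IsClosedImmersion i]
    [DCoh.HasRpush i] [DCoh.HasRpush (i ≫ CohB1.ProjSpaceOver.toBase r Y)]
    (E : DCoh.D X) (a₀ b₀ : ℤ) [E.IsGE a₀] [E.IsLE b₀] (a b : ℤ)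
    (hE : KSix.HasPerfectAmplitudeIn a b ((DCoh.Rpush i).obj E)) :
    KSix.HasPerfectAmplitudeIn a (b + r) ((DCoh.Rpush (i ≫ CohB1.ProjSpaceOver.toBase r Y)).obj E) := by
  let p := CohB1.ProjSpaceOver.toBase r Y
  haveI : DCoh.HasRpush p := Groth.Misc4.PushRestrict.hasRightDerived _
  obtain ⟨c⟩ := Groth.DerivedCoh.KFlat.Rpush_comp_iso i p
  haveI : Flat p := (Groth.KTheory.RegKoszul.pr_facts r Y).2.1
  let G := (DCoh.Rpush i).obj E
  let e : (DCoh.Rpush p).obj G ≅ (DCoh.Rpush (i ≫ p)).obj E := c.app E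
  rcases lt_or_ge b a with hab | hab
  · exact perfAmp_of_isZero ((Groth.DerivedCoh.PerfPush.isZero_Rpush p (isZero_of_perfAmp hab hE)).of_iso e.symm) _ _
  obtain ⟨h1, h2⟩ := (Groth.DerivedCoh.StalkAmp.perfectAmplitude_iff G a b hab).1 hE
  have hG : DCoh.IsPerfect G := Groth.DerivedCoh.PCoh.isPerfect_of_flatAmp h2 h1
  have hqc : DCoh.IsQCohD G := Groth.Misc4.Thomason.isQCohD_of_isPerfect hG
  obtain ⟨F, ⟨eF⟩⟩ := Groth.KTheory.Perf.exists_rep G
  have hA : ∀ x, Groth.DerivedCoh.RelAmp.AmpAt p a b G x := fun x => by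
    have h3 := (Groth.DerivedCoh.StalkAmp.hasTorAmplitude_id_iff F a b).2
      ((Groth.DerivedCoh.StalkAmp.stalkAmp_of_flatAmp h2).of_iso eF.symm)
    have h4 := Groth.DerivedCoh.RelAmp.ampAt_comp_id p x (Groth.DerivedCoh.RelAmp.hasTorDimLE_zero p x)
      (((Groth.DerivedCoh.RelAmp.hasTorAmplitude_iff F a b).1 h3 x).of_iso eF)
    simpa using h4
  haveI : G.IsLE b := (DerivedCategory.isLE_iff _ _).2 fun i hi =>
    Groth.DerivedCoh.KFlat.isZero_hd_of_iso eF.symm ((Groth.DerivedCoh.KFlat.isZero_hd_toD_iff F i).2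
      (Groth.DerivedCoh.RelAmp.exactAt_of_ampAt F (.inr hi) fun x => (hA x).of_iso eF.symm))
  haveI : ((DCoh.Rpush p).obj G).IsLE (b + r) := Groth.RelPC.PnPush.isLE_Rpush_affine Y r G hqc b
  obtain ⟨G', ⟨eG⟩⟩ := Groth.KTheory.Perf.exists_rep ((DCoh.Rpush p).obj G)
  have hflat : DCoh.HasFlatAmplitudeIn a (b + r) ((DCoh.Rpush (i ≫ p)).obj E) :=
    Groth.DerivedCoh.StalkAmp.flatAmp_of_stalkAmp
    (Groth.DerivedCoh.StalkAmp.HasStalkAmp.of_iso (eG ≪≫ e)
      ((Groth.DerivedCoh.StalkAmp.hasTorAmplitude_id_iff G' a (b + r)).1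
        ((Groth.DerivedCoh.RelAmp.hasTorAmplitude_iff G' a (b + r)).2 fun y =>
          (Groth.DerivedCoh.RelAmp.ampAt_Rpush p (𝟙 Y) p (Category.comp_id p) G hqc hA (b + r) y).of_iso eG.symm)))
  have hperf : DCoh.IsPerfect ((DCoh.Rpush p).obj G) := Groth.RelPC.PnPush.isPerfect_Rpush_pn r Y G hG
  refine (Groth.DerivedCoh.StalkAmp.perfectAmplitude_iff _ a (b + r) (by omega)).2 ⟨?_, hflat⟩
  exact Groth.DerivedCoh.PCoh.isPseudoCoherentD_of_isPerfect
    ((Groth.KTheory.Perf.isPerfect_iff _).2 fun y => by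
      obtain ⟨V, hy, P, hP, ⟨eP⟩⟩ := (Groth.KTheory.Perf.isPerfect_iff _).1 hperf y
      exact ⟨V, hy, P, hP, ⟨(Groth.KTheory.Perf.Rd _).mapIso e.symm ≪≫ eP⟩⟩) _

end Groth.Agent.S4302
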