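import Groth.Statements.S4303
import Groth.Agent.S4286
import Groth.Agent.Inter.NakaiCor
import Groth.Agent.PnCoh.AmpleVanishing

set_option autoImplicit false
set_option linter.style.haveILetI false
universe u
open CategoryTheory CategoryTheory.Limits AlgebraicGeometry
open Pic13

namespace Groth.Agent.S4303

open Groth Groth.Inter

section Aux

variable (k : Type u) [Field k] [IsAlgClosed k] {X : Scheme.{u}} [X.Over (Spec (CommRingCat.of k))]
  [IsProper (X ↘ Spec (CommRingCat.of k))] {m : ℕ} (i : X ⟶ CohB1.ProjSpace m k) [IsClosedImmersion i]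

theorem abs_euler_bounded (hi : i ≫ CohB1.ProjSpace.toSpec m k = X ↘ Spec (CommRingCat.of k))
    (Q : X.Modules → Prop) (hQ : ∀ M, Q M → Coh.IsCoh M) (hb : Pic13.IsBounded k X Q) (d : ℤ) :
    ∃ C : ℤ, ∀ M, Q M → |Curv2.euler k X (Pic13.twistOn k i M d)| ≤ C := by
  obtain ⟨-, s, hs⟩ := Groth.Agent.S4286.result k m X i hi Q hQ hb
  refine ⟨((s.sup fun φ => (φ.eval (d : ℚ)).num.natAbs : ℕ) : ℤ), fun M hM => ?_⟩
  obtain ⟨φ, hφs, hφ⟩ := hs M hM
  have := (hQ M hM).1
  have he : Curv2.euler k X (Pic13.twistOn k i M d) = FGA.eulerCharLE k X (Pic13.twistOn k i M d) m := by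
    refine EulerDeg.euler_eq_sum (k := k) (N := m + 1) fun q hq => ?_
    haveI : (Variety2.Reg.pF i M).IsQuasicoherent := (Variety2.Reg.isCoh_pF i M (hQ M hM)).1
    haveI : Subsingleton (Coh.HH X (Pic13.twistOn k i M d) q) :=
      (Variety2.Reg.subsingleton_twistOn_iff i M d q).2
        (Variety2.Reg.subsingleton_fT_of_lt _ _ (by omega))
    first
      | exact this
      | exact Module.finrank_zero_of_subsingleton
  have hv : (φ.eval (d : ℚ)).num = Curv2.euler k X (Pic13.twistOn k i M d) := by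
    rw [← hφ d, he, Rat.num_intCast]
  rw [← hv, Int.abs_eq_natAbs]
  exact Int.ofNat_le.2 (Finset.le_sup (f := fun φ : Polynomial ℚ => (φ.eval (d : ℚ)).num.natAbs) hφs)

theorem abs_delta_bounded (hi : i ≫ CohB1.ProjSpace.toSpec m k = X ↘ Spec (CommRingCat.of k))
    (Q : X.Modules → Prop) (hQ : ∀ M, Q M → Coh.IsCoh M) (hb : Pic13.IsBounded k X Q) :
    ∀ (e : ℕ) (d : ℤ), ∃ C : ℤ, ∀ M, Q M →
      |delta k (List.replicate e ((Scheme.Modules.pullback i).obj (Twist.twistProjSpace m k (-1))))
        (Pic13.twistOn k i M d)| ≤ C := by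
  intro e
  induction e with
  | zero => exact abs_euler_bounded k i hi Q hQ hb
  | succ e ih =>
    intro d
    obtain ⟨C₁, h₁⟩ := ih d
    obtain ⟨C₂, h₂⟩ := ih (d - 1)
    refine ⟨C₁ + C₂, fun M hM => ?_⟩
    obtain ⟨θ⟩ := CohTwo.TwistOnHilb.nonempty_twistOn_twistOn i M d (-1) (d - 1) (by ring)
    rw [List.replicate_succ, delta_cons,
      delta_congr k _ (⟨(Inter.tensor_comm _ (Pic13.twistOn k i M d)).some ≪≫ θ⟩ :
        Nonempty (CohB1.tensorMod ((Scheme.Modules.pullback i).obj (Twist.twistProjSpace m k (-1)))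
          (Pic13.twistOn k i M d) ≅ Pic13.twistOn k i M (d - 1)))]
    exact (abs_sub _ _).trans (add_le_add (h₁ M hM) (h₂ M hM))

omit [IsAlgClosed k] in
/-- Passing to a power of a module in the critical dimension. -/
theorem delta_scale {H' B : X.Modules} (hH' : PicF.IsInvertible H') (hB : PicF.IsInvertible B) {N : ℕ}
    (e' : Nonempty (CohB1.tensorPow H' N ≅ B)) {F : X.Modules} (hF : Coh.IsCoh F) :
    ∀ (e : ℕ) (l : List X.Modules), (∀ M ∈ l, PicF.IsInvertible M) →
      topologicalKrullDim (CohB1.support F) ≤ ((e + l.length : ℕ) : WithBot ℕ∞) →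
      delta k (List.replicate e B ++ l) F = (N : ℤ) ^ e * delta k (List.replicate e H' ++ l) F := by
  intro e
  induction e with
  | zero => intro l _ _; simp
  | succ e ih =>
    intro l hl hdim
    have hlen : e + (B :: l).length = e + 1 + l.length := by simp; omega
    rw [List.replicate_succ', List.append_assoc, List.singleton_append,
      ih (B :: l) (by simpa [hB] using hl) (by rw [hlen]; exact hdim),
      delta_perm k (List.perm_middle (l₁ := List.replicate e H')) F,
      delta_congr_list k (List.Forall₂.cons ⟨e'.some.symm⟩ (List.forall₂_same.2 fun x _ => ⟨Iso.refl x⟩)) F,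
      delta_pow_cons k hH' ?_ hF ?_, List.replicate_succ, List.cons_append, pow_succ]
    · ring
    · intro M hM
      rcases List.mem_append.1 hM with h | h
      · exact (List.eq_of_mem_replicate h).symm ▸ hH'
      · exact hl M h
    · refine hdim.trans_eq ?_
      rw [List.length_append, List.length_replicate]
      congr 1
      exact_mod_cast (show e + 1 + l.length = e + l.length + 1 by omega)

end Aux


/-- (i) implies (iii), over S = Spec k with k algebraically closed: let X be a proper integral k-scheme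
of dimension r = s + 2 ≥ 2 carrying an ample invertible module H with inverse H', and P a family of
invertible O_X-modules. Condition (iii): as L runs through P (with inverse L'), the degree
(c₁(L)·c₁(H)^{r-1}) stays bounded and (c₁(L)²·c₁(H)^{r-2}) stays bounded below; condition (i): P is
bounded. Intersection numbers are those of FGA.intNum, taking the inverse modules as arguments. -/
theorem result (k : Type u) [Field k] [IsAlgClosed k] (X : Scheme.{u})
    [X.Over (Spec (CommRingCat.of k))] [IsProper (X ↘ Spec (CommRingCat.of k))] [IsIntegral X] (s : ℕ)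
    (hdim : topologicalKrullDim X = (s + 2 : ℕ)) (H H' : X.Modules) (hH : CohB1.IsAmple H)
    (hHH' : Nonempty (CohB1.tensorMod H H' ≅ Coh.structureModule X))
    (P : X.Modules → Prop) (hP : ∀ L, P L → PicF.IsInvertible L)
    (hb : Pic13.IsBounded k X P) :
    ∃ B : ℤ, ∀ L L' : X.Modules, P L → Nonempty (CohB1.tensorMod L L' ≅ Coh.structureModule X) →
      |FGA.intNum k X (s + 2) (Matrix.vecCons L' (fun _ : Fin (s + 1) => H')) (Coh.structureModule X)| ≤ B ∧
      -B ≤ FGA.intNum k X (s + 2) (Matrix.vecCons L' (Matrix.vecCons L' (fun _ : Fin s => H'))) (Coh.structureModule X) := by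
  have hN : IsNoetherian X := Inter.isNoetherian k
  let O := Coh.structureModule X
  have hO : PicF.IsInvertible O := EulerDeg.isInvertible_structureModule X
  have hOc : Coh.IsCoh O := Inter.isCoh_of_isInvertible hO
  obtain ⟨m, N, i, hN0, hci, hi, ⟨eA⟩⟩ :=
    PnCoh.exists_closedImmersion_of_isAmple (X ↘ Spec (CommRingCat.of k)) hH
  haveI := hci
  let A := (Scheme.Modules.pullback i).obj (Twist.twistProjSpace m k 1)
  let B := (Scheme.Modules.pullback i).obj (Twist.twistProjSpace m k (-1))
  have hB : PicF.IsInvertible B := PicAux.isInvertible_pullback i (Variety2.Reg.isInvertible_tw (-1))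
  have hH' : PicF.IsInvertible H' := PicAux.isInvertible_of_isInverseOf hH.1 hHH'
  have eB : Nonempty (CohB1.tensorPow H' N ≅ B) := by
    obtain ⟨e⟩ := Ega2Proj.nonempty_tensor_iso (Variety2.Reg.gen_one m k) (1 : ℤ) (-1)
    rw [show (1 : ℤ) + -1 = 0 by norm_num] at e
    let eAB : CohB1.tensorMod A B ≅ O := (PicAux.exists_pullback_tensorMod i _ _).choose.symm ≪≫
      (Scheme.Modules.pullback i).mapIso (e ≪≫ Variety2.Reg.nonempty_twist_zero.some) ≪≫
      (PicAux.pullback_structure_iso i).some
    let eHH := (PicAux.isInverseOf_tensorPow hHH' N).some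
    exact ⟨(Inter.tensor_one _).some.symm ≪≫ (Inter.tensor_congr ⟨eAB.symm⟩ ⟨Iso.refl _⟩).some ≪≫
      (Inter.tensor_congr (Inter.tensor_comm A B) ⟨Iso.refl _⟩).some ≪≫
      (Inter.tensor_assoc B A _).some ≪≫
      (Inter.tensor_congr ⟨Iso.refl B⟩ ⟨(Inter.tensor_congr ⟨eA.symm⟩ ⟨Iso.refl _⟩).some ≪≫ eHH⟩).some ≪≫
      (Inter.tensor_comm B O).some ≪≫ (Inter.tensor_one B).some⟩
  have hPc : ∀ L, P L → Coh.IsCoh L := fun L hL => Inter.isCoh_of_isInvertible (hP L hL)
  let P2 : X.Modules → Prop := fun M => ∃ L, P L ∧ Nonempty (CohB1.tensorMod L L ≅ M)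
  have hP2c : ∀ M, P2 M → Coh.IsCoh M := fun M ⟨L, hL, ⟨e⟩⟩ =>
    QCohMod.isCoh_of_iso e (RefRank.isCoh_tensorMod (hPc L hL) (hPc L hL))
  have hb2 : Pic13.IsBounded k X P2 := by
    obtain ⟨T, q, hlft, hqc, F, hF, hFP⟩ := hb
    refine ⟨T, q, hlft, hqc, CohB1.tensorMod F F, RefRank.isCoh_tensorMod hF hF, ?_⟩
    rintro M ⟨L, hL, ⟨e⟩⟩
    obtain ⟨t, ht, ⟨e'⟩⟩ := hFP L hL
    exact ⟨t, ht, ⟨(PicAux.exists_pullback_tensorMod _ F F).choose ≪≫
      (Inter.tensor_congr ⟨e'⟩ ⟨e'⟩).some ≪≫ e⟩⟩
  have h0 : ∀ M, Nonempty (Pic13.twistOn k i M 0 ≅ M) := fun M =>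
    ⟨(Inter.tensor_congr ⟨Iso.refl M⟩ ⟨(Scheme.Modules.pullback i).mapIso Variety2.Reg.nonempty_twist_zero.some ≪≫
      (PicAux.pullback_structure_iso i).some⟩).some ≪≫ (Inter.tensor_comm M O).some ≪≫ (Inter.tensor_one M).some⟩
  obtain ⟨C₁, hC₁⟩ := abs_delta_bounded k i hi P hPc hb (s + 1) 0
  obtain ⟨C₂, hC₂⟩ := abs_delta_bounded k i hi P2 hP2c hb2 s 0
  obtain ⟨C₃, hC₃⟩ := abs_delta_bounded k i hi P hPc hb s 0
  let a₁ := |delta k (List.replicate (s + 1) B) O|
  let a₀ := |delta k (List.replicate s B) O|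
  refine ⟨(a₁ + C₁) + (a₀ + 2 * C₃ + C₂), fun L L' hL hLL' => ?_⟩
  have hLi := hP L hL
  have hL'i : PicF.IsInvertible L' := PicAux.isInvertible_of_isInverseOf hLi hLL'
  have hdimle : topologicalKrullDim X ≤ ((s + 2 : ℕ) : WithBot ℕ∞) := hdim.le
  have hsupp : topologicalKrullDim (CohB1.support O) ≤ ((s + 2 : ℕ) : WithBot ℕ∞) :=
    (LocCohTransform.topologicalKrullDim_mono (Set.subset_univ _)).trans
      ((IsHomeomorph.topologicalKrullDim_eq _ (Homeomorph.Set.univ X).isHomeomorph).trans_le hdimle)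
  have hrep : ∀ e, ∀ M ∈ List.replicate e H', PicF.IsInvertible M :=
    fun e M hM => (List.eq_of_mem_replicate hM).symm ▸ hH'
  have hLO : ∀ M : X.Modules, Nonempty (CohB1.tensorMod M O ≅ M) := fun M =>
    ⟨(Inter.tensor_comm M O).some ≪≫ (Inter.tensor_one M).some⟩
  have hdP : ∀ e, |delta k (List.replicate e B) (Pic13.twistOn k i L 0)| =
      |delta k (List.replicate e B) L| := fun e => by rw [delta_congr k _ (h0 L)]
  have hN1 : ∀ e : ℕ, (1 : ℤ) ≤ (N : ℤ) ^ e := fun e => one_le_pow₀ (by exact_mod_cast hN0)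
  have hscale : ∀ (e : ℕ) (x : ℤ), |x| ≤ |(N : ℤ) ^ e * x| := fun e x => by
    rw [abs_mul, abs_of_nonneg (zero_le_one.trans (hN1 e))]
    exact le_mul_of_one_le_left (abs_nonneg x) (hN1 e)
  have hb₁ : |delta k (L' :: List.replicate (s + 1) H') O| ≤ a₁ + C₁ := by
    have hd : topologicalKrullDim (CohB1.support O) ≤ ((s + 1 + [L'].length : ℕ) : WithBot ℕ∞) := hsupp
    rw [show L' :: List.replicate (s + 1) H' = [L'] ++ List.replicate (s + 1) H' from rfl,
      ← delta_perm k ((List.perm_append_comm (l₁ := List.replicate (s + 1) H') (l₂ := [L']))) O]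
    refine (hscale (s + 1) _).trans ?_
    rw [← delta_scale k hH' hB eB hOc (s + 1) [L'] (by simpa using hL'i) hd,
      delta_perm k (List.perm_append_comm (l₁ := List.replicate (s + 1) B) (l₂ := [L'])) O,
      List.singleton_append]
    have hinv := delta_inverse_cons k hLi hLL' (l := List.replicate (s + 1) B)
      (fun M hM => (List.eq_of_mem_replicate hM).symm ▸ hB) hOc
      (by rw [List.length_replicate]; exact hsupp)
    rw [show delta k (L' :: List.replicate (s + 1) B) O = - delta k (L :: List.replicate (s + 1) B) O by omega,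
      abs_neg, delta_cons, delta_congr k _ (hLO L)]
    exact (abs_sub _ _).trans (add_le_add le_rfl (hdP (s + 1) ▸ hC₁ L hL))
  have hb₂ : |delta k (L' :: L' :: List.replicate s H') O| ≤ a₀ + 2 * C₃ + C₂ := by
    have hd : topologicalKrullDim (CohB1.support O) ≤ ((s + [L', L'].length : ℕ) : WithBot ℕ∞) := hsupp
    rw [show L' :: L' :: List.replicate s H' = [L', L'] ++ List.replicate s H' from rfl,
      ← delta_perm k ((List.perm_append_comm (l₁ := List.replicate s H') (l₂ := [L', L']))) O]
    refine (hscale s _).trans ?_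
    rw [← delta_scale k hH' hB eB hOc s [L', L'] (by simpa using hL'i) hd,
      delta_perm k (List.perm_append_comm (l₁ := List.replicate s B) (l₂ := [L', L'])) O,
      List.cons_append, List.singleton_append]
    have hBl : ∀ M ∈ List.replicate s B, PicF.IsInvertible M :=
      fun M hM => (List.eq_of_mem_replicate hM).symm ▸ hB
    have hlen : ∀ M : X.Modules, topologicalKrullDim (CohB1.support O) ≤
        (((M :: List.replicate s B).length + 1 : ℕ) : WithBot ℕ∞) := fun M => by
      rw [List.length_cons, List.length_replicate]; exact hsupp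
    have i1 := delta_inverse_cons k hLi hLL' (l := L :: List.replicate s B)
      (by simpa [hLi] using hBl) hOc (hlen L)
    have i2 := delta_inverse_cons k hLi hLL' (l := L' :: List.replicate s B)
      (by simpa [hL'i] using hBl) hOc (hlen L')
    have i3 := delta_perm k (List.Perm.swap L L' (List.replicate s B)) O
    rw [show delta k (L' :: L' :: List.replicate s B) O = delta k (L :: L :: List.replicate s B) O by omega]
    simp only [delta_cons]
    rw [delta_congr k _ (hLO L),
      delta_congr k _ (Inter.tensor_congr ⟨Iso.refl L⟩ (hLO L))]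
    have hl2 : |delta k (List.replicate s B) (CohB1.tensorMod L L)| ≤ C₂ := by
      have := hC₂ (CohB1.tensorMod L L) ⟨L, hL, ⟨Iso.refl _⟩⟩
      rwa [delta_congr k _ (h0 _)] at this
    have hl1 : |delta k (List.replicate s B) L| ≤ C₃ := hdP s ▸ hC₃ L hL
    have hl0 : |delta k (List.replicate s B) O| = a₀ := rfl
    rw [abs_le] at hl1 hl2 ⊢
    have := abs_le.1 hl0.le
    omega
  rw [Inter.intNum_eq k hdimle, Inter.intNum_eq k hdimle,
    show List.ofFn (Matrix.vecCons L' (fun _ : Fin (s + 1) => H')) = L' :: List.replicate (s + 1) H' by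
      simp [List.ofFn_succ, List.ofFn_const, List.replicate_succ],
    show List.ofFn (Matrix.vecCons L' (Matrix.vecCons L' (fun _ : Fin s => H'))) =
        L' :: L' :: List.replicate s H' by simp [List.ofFn_succ, List.ofFn_const]]
  have hn₁ := (abs_nonneg _).trans hb₁
  have hn₂ := (abs_nonneg _).trans hb₂
  refine ⟨hb₁.trans (by omega), ?_⟩
  have := (abs_le.1 hb₂).1
  show -((a₁ + C₁) + (a₀ + 2 * C₃ + C₂)) ≤ delta k (L' :: L' :: List.replicate s H') O
  omega

end Groth.Agent.S4303
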