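import Groth.Statements.S4305
import Groth.Agent.Inter.EulerFamily
import Groth.Agent.Abvar.PicCalc

set_option autoImplicit false
universe u
open CategoryTheory CategoryTheory.Limits AlgebraicGeometry
open Pic13

namespace Groth.Agent.S4305


/-- Let k be an algebraically closed field, X an irreducible proper k-scheme of dimension ≤ d carrying
an ample invertible module H with inverse H', and L an invertible module with inverse L'. Condition
(v): χ(L^{⊗ m} ⊗ H^{⊗ n}) = χ(H^{⊗ n}) for all integers m, n — written with natural exponents on L,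
L', H, H' to cover all signs, Euler characteristics in degrees ≤ d; condition (i): L is τ-equivalent
to zero. -/
theorem result (k : Type u) [Field k] [IsAlgClosed k] (X : Scheme.{u})
    [X.Over (Spec (CommRingCat.of k))] [IsProper (X ↘ Spec (CommRingCat.of k))] [IrreducibleSpace X]
    (d : ℕ) (hd : topologicalKrullDim X ≤ d) (H H' L L' : X.Modules) (hH : CohB1.IsAmple H) (hL : PicF.IsInvertible L)
    (hHH' : Nonempty (CohB1.tensorMod H H' ≅ Coh.structureModule X)) (hLL' : Nonempty (CohB1.tensorMod L L' ≅ Coh.structureModule X))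
    (hτ : Pic13.IsTauEquivZero k X L) :
    ∀ m n : ℕ,
      FGA.eulerCharLE k X (CohB1.tensorMod (CohB1.tensorPow L m) (CohB1.tensorPow H n)) d = FGA.eulerCharLE k X (CohB1.tensorPow H n) d ∧
      FGA.eulerCharLE k X (CohB1.tensorMod (CohB1.tensorPow L m) (CohB1.tensorPow H' n)) d = FGA.eulerCharLE k X (CohB1.tensorPow H' n) d ∧
      FGA.eulerCharLE k X (CohB1.tensorMod (CohB1.tensorPow L' m) (CohB1.tensorPow H n)) d = FGA.eulerCharLE k X (CohB1.tensorPow H n) d ∧
      FGA.eulerCharLE k X (CohB1.tensorMod (CohB1.tensorPow L' m) (CohB1.tensorPow H' n)) d = FGA.eulerCharLE k X (CohB1.tensorPow H' n) d := by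
  have hO : PicF.IsInvertible (Coh.structureModule X) :=
    Inter.isInvertible_tensorList (l := []) (by simp)
  have hH' : PicF.IsInvertible H' :=
    Abvar.PicCalc.isInvertible_of_tensorMod hH.1 (PicAux.isInvertible_of_iso hO hHH'.some.symm)
  have hL' : PicF.IsInvertible L' :=
    Abvar.PicCalc.isInvertible_of_tensorMod hL (PicAux.isInvertible_of_iso hO hLL'.some.symm)
  have hsupp : ∀ G : X.Modules, topologicalKrullDim (CohB1.support G) ≤ d := fun G =>
    (LocCohTransform.topologicalKrullDim_mono (Set.subset_univ _)).trans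
      (le_of_eq_of_le (Homeomorph.Set.univ X).isHomeomorph.topologicalKrullDim_eq hd)
  have h1 : ∀ G : X.Modules, Coh.IsCoh G →
      Curv2.euler k X (CohB1.tensorMod G L) = Curv2.euler k X G := fun G hG =>
    Inter.euler_tensor_of_isTauEquivZero k X hL hτ hG (hsupp G)
  have h2 : ∀ G : X.Modules, Coh.IsCoh G →
      Curv2.euler k X (CohB1.tensorMod G L') = Curv2.euler k X G := fun G hG => by
    have h := h1 (CohB1.tensorMod G L') (RefRank.isCoh_tensorMod hG (Inter.isCoh_of_isInvertible hL'))
    rw [← h]
    refine EulerDeg.euler_congr k ?_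
    exact (Inter.tensor_assoc G L' L).some ≪≫ (Inter.tensor_congr ⟨Iso.refl G⟩
      ⟨(Inter.tensor_comm L' L).some ≪≫ hLL'.some⟩).some ≪≫
      (Inter.tensor_comm G _).some ≪≫ (Inter.tensor_one G).some
  have key : ∀ (A : X.Modules), PicF.IsInvertible A →
      (∀ G : X.Modules, Coh.IsCoh G → Curv2.euler k X (CohB1.tensorMod G A) = Curv2.euler k X G) →
      ∀ (m : ℕ) (B : X.Modules), Coh.IsCoh B →
        FGA.eulerCharLE k X (CohB1.tensorMod (CohB1.tensorPow A m) B) d =
          FGA.eulerCharLE k X B d := by
    intro A hA h m B hB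
    rw [Inter.eulerCharLE_eq k hd, Inter.eulerCharLE_eq k hd]
    induction m with
    | zero => exact EulerDeg.euler_congr k (Inter.tensor_one B).some
    | succ m ih =>
      rw [EulerDeg.euler_congr k ((Inter.tensorPow_succ_twist A m B).some ≪≫
        (Inter.tensor_comm _ _).some)]
      rw [h _ (Inter.isCoh_twist (PicAux.isInvertible_tensorPow hA _) hB)]
      exact ih
  have hB : ∀ (A : X.Modules), PicF.IsInvertible A → ∀ n : ℕ,
      Coh.IsCoh (CohB1.tensorPow A n) := fun A hA n =>
    Inter.isCoh_of_isInvertible (PicAux.isInvertible_tensorPow hA n)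
  intro m n
  exact ⟨key L hL h1 m _ (hB H hH.1 n), key L hL h1 m _ (hB H' hH' n),
    key L' hL' h2 m _ (hB H hH.1 n), key L' hL' h2 m _ (hB H' hH' n)⟩


end Groth.Agent.S4305
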