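import Groth.Statements.S4315
import Groth.Agent.ZetaAn.IsoAn

set_option autoImplicit false
open CategoryTheory AlgebraicGeometry Topology TopologicalSpace
open An

namespace Groth.Agent.S4315

/-- For X and Y reduced and locally of finite type over ℂ (associated analytic spaces = ℂ-points with
holomorphic functions): a morphism f : X → Y over ℂ is an isomorphism if and only if f^an is, i.e.
if and only if the induced map X(ℂ) → Y(ℂ) is a homeomorphism whose inverse is holomorphic. -/
theorem result (X Y : Scheme.{0}) [X.Over An.SC] [Y.Over An.SC]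
    [LocallyOfFiniteType (X ↘ An.SC)] [LocallyOfFiniteType (Y ↘ An.SC)] [IsReduced X] [IsReduced Y]
    (f : X ⟶ Y) [f.IsOver An.SC] :
    IsIso f ↔ ∃ e : An.Pts X ≃ₜ An.Pts Y, (⇑e = An.Pts.map f) ∧
      An.IsHolMap (⟨e.symm, e.symm.continuous⟩ : C(An.Pts Y, An.Pts X)) := by
  exact Groth.ZetaAn.isIso_iff_an f

end Groth.Agent.S4315
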