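import Groth.Statements.S4316
import Groth.Agent.ZetaAn.StalkProps

set_option autoImplicit false
open CategoryTheory AlgebraicGeometry Topology TopologicalSpace
open An

namespace Groth.Agent.S4316

/-- Let X be a reduced scheme locally of finite type over ℂ and x a ℂ-point of X, and write O_{X^an,x}
for the ring of germs of holomorphic functions at x on X(ℂ). Then the local rings O_{X,x} and
O_{X^an,x} have the same Krull dimension. The published statement is global (X and its associated
analytic space have the same dimension); it is stated here pointwise, comparing the two local rings
at a single ℂ-point. -/
theorem result (X : Scheme.{0}) [X.Over An.SC] [LocallyOfFiniteType (X ↘ An.SC)] [IsReduced X] (x : An.Pts X) :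
    ringKrullDim ↑(X.presheaf.stalk x.pt) = ringKrullDim ↑((An.anSpace X).presheaf.stalk x) := by
  exact Groth.ZetaAn.ringKrullDim_anStalk x

end Groth.Agent.S4316
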