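import Groth.Statements.S4318
import Groth.Agent.ZetaAn.AnSerre

set_option autoImplicit false
open CategoryTheory AlgebraicGeometry Topology TopologicalSpace
open An

namespace Groth.Agent.S4318

/-- Let X be a reduced scheme locally of finite type over ℂ and x a ℂ-point of X, and write O_{X^an,x}
for the ring of germs of holomorphic functions at x on X(ℂ). Then O_{X,x} is a normal domain (a
domain integrally closed in its fraction field) if and only if O_{X^an,x} is. The published
statement is global (X has the property if and only if its associated analytic space does); it is
stated here pointwise, comparing the two local rings at a single ℂ-point. -/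
theorem result (X : Scheme.{0}) [X.Over An.SC] [LocallyOfFiniteType (X ↘ An.SC)] [IsReduced X] (x : An.Pts X) :
    (IsDomain ↑(X.presheaf.stalk x.pt) ∧ IsIntegrallyClosed ↑(X.presheaf.stalk x.pt)) ↔ (IsDomain ↑((An.anSpace X).presheaf.stalk x) ∧ IsIntegrallyClosed ↑((An.anSpace X).presheaf.stalk x)) := by
  exact Groth.ZetaAn.normal_anStalk_iff x

end Groth.Agent.S4318
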