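import Groth.Statements.S4320
import Groth.Agent.ZetaAn.AnSerre

set_option autoImplicit false
open CategoryTheory AlgebraicGeometry Topology TopologicalSpace
open An

namespace Groth.Agent.S4320

/-- Let X be a reduced scheme locally of finite type over ℂ and x a ℂ-point of X, and write O_{X^an,x}
for the ring of germs of holomorphic functions at x on X(ℂ). Then, for every n, O_{X,x} satisfies
Serre's condition (S_n) if and only if O_{X^an,x} does. The published statement is global (X has the
property if and only if its associated analytic space does); it is stated here pointwise, comparing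
the two local rings at a single ℂ-point. -/
theorem result (X : Scheme.{0}) [X.Over An.SC] [LocallyOfFiniteType (X ↘ An.SC)] [IsReduced X] (x : An.Pts X) (n : ℕ) :
    LocCoh.HasSk n ↑(X.presheaf.stalk x.pt) ↑(X.presheaf.stalk x.pt) ↔ LocCoh.HasSk n ↑((An.anSpace X).presheaf.stalk x) ↑((An.anSpace X).presheaf.stalk x) := by
  exact Groth.ZetaAn.hasSk_anStalk_iff x n

end Groth.Agent.S4320
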