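import Groth.Statements.S4323
import Groth.Agent.ZetaAn.AnMapStalk

set_option autoImplicit false
open CategoryTheory AlgebraicGeometry Topology TopologicalSpace
open An

namespace Groth.Agent.S4323

/-- Let X and Y be reduced schemes locally of finite type over ℂ and f : X → Y a morphism over ℂ. Then f
is unramified (encoded as formally unramified, f being locally of finite type automatically) if and
only if f^an is, i.e. if and only if for every ℂ-point x of X and every maximal ideal m of
O_{X^an,x}, m is generated by the image of a maximal ideal of O_{Y^an,f(x)} under the stalk map of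
f^an (these stalks being local rings, this says m_{f(x)} O_{X^an,x} = m_x). -/
theorem result (X Y : Scheme.{0}) [X.Over An.SC] [Y.Over An.SC] [LocallyOfFiniteType (X ↘ An.SC)]
    [LocallyOfFiniteType (Y ↘ An.SC)] [IsReduced X] [IsReduced Y] (f : X ⟶ Y) [f.IsOver An.SC] :
    FormallyUnramified f ↔ ∀ (x : An.Pts X) (m : Ideal ((An.anSpace X).presheaf.stalk x)), m.IsMaximal →
      ∃ m' : Ideal ((An.anSpace Y).presheaf.stalk (An.Pts.map f x)), m'.IsMaximal ∧
        m'.map (PresheafedSpace.Hom.stalkMap (An.anMap f) x).hom = m := by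
  rw [Groth.ZetaAn.formallyUnramified_iff_an f]
  refine forall_congr' fun x => ⟨fun h m hm => ?_, fun h => ?_⟩
  · refine ⟨Groth.ZetaAn.maxAn (An.Pts.map f x), ?_, h.trans ?_⟩
    · rw [Groth.ZetaAn.maxAn_eq_ker]; exact Groth.ZetaAn.isMaximal_ker_valueAn _
    · rw [Groth.ZetaAn.maxAn_eq_ker, ← Groth.ZetaAn.maximalIdeal_anStalk x hm]
  · have hm : (Groth.ZetaAn.maxAn x).IsMaximal := by
      rw [Groth.ZetaAn.maxAn_eq_ker]; exact Groth.ZetaAn.isMaximal_ker_valueAn x
    obtain ⟨m', hm', hmap⟩ := h _ hm
    rw [Groth.ZetaAn.maximalIdeal_anStalk (An.Pts.map f x) hm', ← Groth.ZetaAn.maxAn_eq_ker] at hmap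
    exact hmap

end Groth.Agent.S4323
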