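import Groth.Statements.S4337
import Groth.Agent.AdicLinTop.Basic
import Mathlib.LinearAlgebra.TensorProduct.RightExactness
import Mathlib.RingTheory.Nakayama
import Mathlib.LinearAlgebra.TensorProduct.Quotient

set_option autoImplicit false
universe u
open LinTop

namespace Groth.Agent.S4337

/-- Let A be an admissible ring, J an ideal of definition, and u : M -> N a homomorphism of A-modules
with N of finite type. Then u is surjective if and only if u tensored with A/J is surjective. -/
theorem result
    (A : Type u) [CommRing A] [UniformSpace A] [IsUniformAddGroup A] [IsTopologicalRing A]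
    (hA : LinTop.IsAdmissible A) (J : Ideal A) (hJ : LinTop.IsIdealOfDefinition A J)
    (M N : Type u) [AddCommGroup M] [Module A M] [AddCommGroup N] [Module A N] [Module.Finite A N]
    (u : M →ₗ[A] N) :
    Function.Surjective u ↔ Function.Surjective (u.rTensor (A ⧸ J)) := by
  obtain ⟨⟨hlin, -⟩, ht2, hc⟩ := hA
  refine ⟨fun h => LinearMap.rTensor_surjective _ h, fun h => ?_⟩
  have hjac := Groth.AdicLinTop.le_jacobson_of_topNilp (I := J)
    fun x hx => Groth.AdicLinTop.isTopologicallyNilpotent_of_mem hJ hx
  have hsub : (⊤ : Submodule A N) ≤ LinearMap.range u ⊔ J • ⊤ := by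
    intro y _
    obtain ⟨z, hz⟩ := h (y ⊗ₜ[A] Ideal.Quotient.mk J 1)
    obtain ⟨z, rfl⟩ := LinearMap.lTensor_surjective M (Ideal.Quotient.mk_surjective (I := J)) (g := J.mkQ) z
    let e := TensorProduct.tensorQuotEquivQuotSMul N J
    have hmk : ∀ w : TensorProduct A M A, e (u.rTensor (A ⧸ J) (J.mkQ.lTensor M w)) ∈
        (LinearMap.range u).map (J • (⊤ : Submodule A N)).mkQ := by
      intro w
      induction w with
      | zero => simp
      | add a b ha hb => simp only [map_add]; exact add_mem ha hb
      | tmul m r =>
        refine ⟨r • u m, Submodule.smul_mem _ _ (LinearMap.mem_range_self u m), ?_⟩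
        simp only [e, LinearMap.lTensor_tmul, LinearMap.rTensor_tmul, Submodule.mkQ_apply]
        exact (TensorProduct.tensorQuotEquivQuotSMul_tmul_mk J (u m) r).symm
    obtain ⟨v, hv, hv'⟩ := hmk z
    rw [hz, TensorProduct.tensorQuotEquivQuotSMul_tmul_mk, one_smul, Submodule.mkQ_apply,
      Submodule.Quotient.eq] at hv'
    rw [← sub_sub_cancel v y]
    exact sub_mem (Submodule.mem_sup_left hv) (Submodule.mem_sup_right hv')
  intro y
  exact Submodule.le_of_le_smul_of_le_jacobson_bot Module.Finite.fg_top hjac hsub (Submodule.mem_top (x := y))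

end Groth.Agent.S4337
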