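import Groth.Statements.S4342
import Groth.Agent.QCohMod.ExtendCases

set_option autoImplicit false
universe u
open QCohSup

open CategoryTheory CategoryTheory.Limits Opposite TopologicalSpace

namespace Groth.Agent.S4342

open AlgebraicGeometry in
open CategoryTheory in
open Opposite in
/-- In the sectionwise form its proof gives. Let X be a scheme whose underlying space is locally
Noetherian and F a quasi-coherent O_X-module. For every affine open U and every section s of F over
U there is a quasi-coherent sub-O_X-module of finite type of F having s among its sections over U;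
hence F is the inductive limit of its quasi-coherent submodules of finite type. -/
theorem result
    {X : Scheme.{u}}
    (hX : ∀ x : X, ∃ U : X.Opens, x ∈ U ∧ TopologicalSpace.NoetherianSpace (U : Set X))
    (F : X.Modules) [Coh.IsQCoh F]
    (U : X.affineOpens) (s : F.val.obj (op (U : X.Opens))) :
    ∃ (G' : X.Modules) (i' : G' ⟶ F), Mono i' ∧ Coh.IsQCoh G' ∧ CohB1.IsFT G' ∧
      ∃ g : G'.val.obj (op (U : X.Opens)), (i'.val.app (op (U : X.Opens))).hom g = s := by
  have : F.IsQuasicoherent := ‹Coh.IsQCoh F›
  obtain ⟨L, _, _, V, hV, hcov, hW, hc⟩ := Groth.QCohMod.exists_wellOrdered_cover hX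
  let P₀ := Groth.QCohMod.SubMod.locSpan (U : X.Opens) ({s} : Set Γ(F, (U : X.Opens)))
  have hP₀ : P₀.GoodOn U := fun x hx => ⟨U, le_rfl, hx,
    Groth.QCohMod.SubMod.locSpan_goodAt U.2 _ (Set.finite_singleton _)⟩
  obtain ⟨P, hP, hgood⟩ := Groth.QCohMod.SubMod.exists_extension V hV hcov hW U (hc U) P₀ hP₀
  obtain ⟨hq, hft⟩ := Groth.QCohMod.SubMod.isQCoh_toMod hgood
  refine ⟨P.toMod, P.ι, inferInstance, hq, hft, ?_⟩
  refine P.exists_ι_app_eq (W := (U : X.Opens)) s ?_
  rw [hP _ le_rfl]
  intro x hx
  exact ⟨U, le_rfl, le_rfl, hx.2, Submodule.subset_span ⟨s, rfl, rfl⟩⟩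

end Groth.Agent.S4342
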