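import Groth.Statements.S4343
import Groth.Agent.PropsBasic2.Spread

set_option autoImplicit false
universe u
open RatMapD

namespace Groth.Agent.S4343

set_option backward.defeqAttrib.useBackward true in
set_option backward.isDefEq.respectTransparency false in
open AlgebraicGeometry in
open CategoryTheory in
/-- Let X, Y be S-schemes with X irreducible and Y locally of finite type over S. Two S-rational maps
from X to Y to which corresponds the same morphism Spec(O_x) -> Y, x the generic point of X, are
equal. (The published statement has Y of finite type over S; only local finite type is used. X is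
not assumed reduced.) -/
theorem result
    (S X Y : Scheme.{u}) [X.Over S] [Y.Over S] [IrreducibleSpace X]
    [LocallyOfFiniteType (Y ↘ S)] (f g : X ⤏ Y) [f.IsOver S] [g.IsOver S]
    (h : f.fromFunctionField = g.fromFunctionField) : f = g := by
  obtain ⟨f', hf', rfl⟩ := Scheme.RationalMap.exists_partialMap_over S f
  obtain ⟨g', hg', rfl⟩ := Scheme.RationalMap.exists_partialMap_over S g
  rw [Scheme.RationalMap.fromFunctionField_toRationalMap, Scheme.RationalMap.fromFunctionField_toRationalMap] at h
  refine Scheme.PartialMap.toRationalMap_eq_iff.mpr ?_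
  let W : X.Opens := f'.domain ⊓ g'.domain
  have hdense : Dense (W : Set X) := f'.dense_domain.inter_of_isOpen_left g'.dense_domain f'.domain.2
  have hη : genericPoint X ∈ W :=
    (genericPoint_spec X).mem_open_set_iff W.2 |>.mpr (by simpa using hdense.nonempty)
  have hfS : f'.hom ≫ (Y ↘ S) = f'.domain.ι ≫ (X ↘ S) := Scheme.PartialMap.isOver_iff.mp hf'
  have hgS : g'.hom ≫ (Y ↘ S) = g'.domain.ι ≫ (X ↘ S) := Scheme.PartialMap.isOver_iff.mp hg'
  obtain ⟨U, hxU, e⟩ := Groth.PropsBasic2.Spread.unique' (Y ↘ S)
    (X.homOfLE (inf_le_left : W ≤ f'.domain) ≫ f'.hom) (X.homOfLE (inf_le_right : W ≤ g'.domain) ≫ g'.hom)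
    (by simp only [Category.assoc, hfS, hgS, Scheme.homOfLE_ι_assoc]) (x := ⟨genericPoint X, hη⟩) (by
      have H := h
      simp only [Scheme.PartialMap.fromFunctionField] at H
      rw [← f'.fromSpecStalkOfMem_restrict hdense inf_le_left hη,
        ← g'.fromSpecStalkOfMem_restrict hdense inf_le_right hη] at H
      simpa only [Scheme.PartialMap.fromSpecStalkOfMem, Scheme.PartialMap.restrict_domain, Scheme.Opens.fromSpecStalkOfMem,
        Spec.map_inv, Scheme.PartialMap.restrict_hom, Category.assoc, IsIso.eq_inv_comp,
        IsIso.hom_inv_id_assoc] using H)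
  refine ⟨W.ι ''ᵁ U, (W.ι ''ᵁ U).2.dense ⟨_, ⟨_, hxU, rfl⟩⟩,
    ((Set.image_subset_range _ _).trans_eq (Subtype.range_val)).trans inf_le_left,
    ((Set.image_subset_range _ _).trans_eq (Subtype.range_val)).trans inf_le_right, ?_⟩
  rw [← cancel_epi (Scheme.Hom.isoImage _ _).hom]
  simp only [Scheme.PartialMap.restrict_hom, ← Category.assoc] at e ⊢
  convert! e using 2 <;> rw [← cancel_mono (Scheme.Opens.ι _)] <;> simp [W]

end Groth.Agent.S4343
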