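import Groth.Statements.S4344
import Groth.Agent.Misc1.RatMap.Largest

set_option autoImplicit false
universe u
open RatMapD

namespace Groth.Agent.S4344

open AlgebraicGeometry in
open CategoryTheory in
/-- Let X be a reduced S-scheme, Y an S-scheme separated over S and f an S-rational map from X to Y.
There is a representative g of f which is an S-morphism and of which every S-morphism representing f
is a restriction; in particular g is the unique S-morphism of the class of f defined on the largest
open where some S-representative is defined. (The published statement speaks of the domain of
definition among all representatives; over a base that is not separated that domain can be larger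
than the one on which an S-representative exists, and this row takes the latter.) -/
theorem result
    (S X Y : Scheme.{u}) [X.Over S] [Y.Over S] [IsReduced X] [IsSeparated (Y ↘ S)]
    (f : X ⤏ Y) [f.IsOver S] :
    ∃ g : X.PartialMap Y, g.IsOver S ∧ g.toRationalMap = f ∧
      ∀ h : X.PartialMap Y, h.IsOver S → h.toRationalMap = f →
        ∃ hle : h.domain ≤ g.domain, h = g.restrict h.domain h.dense_domain hle := by
  exact Groth.Misc1.RatMap.exists_largest f

end Groth.Agent.S4344
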