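import Groth.Statements.S4345
import Groth.Agent.PropsBasic2.LocalSubring
import Mathlib.Tactic.TFAE

set_option autoImplicit false
universe u
open SchLoc

namespace Groth.Agent.S4345

/-- Let A and B be subrings of a field R, C the subring generated by A and B, and for a subring E let
L(E) be the set of local subrings E_p of R, p a prime ideal of E. The following are equivalent: (i)
for every local subring Q of R containing A and B, the localizations of A and of B at the traces of
the maximal ideal of Q coincide; (ii) for every prime ideal r of C the localizations of A and B at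
the traces of r coincide; (iii) two members of L(A) and L(B) dominated by a common local subring of
R are equal; (iv) the intersection of L(A) and L(B) is L(C). -/
theorem result
    (R : Type u) [Field R] (A B : Subring R) :
    [ ∀ (Q : LocalSubring R) (hA : A ≤ Q.toSubring) (hB : B ≤ Q.toSubring),
        LocalSubring.ofPrime A ((IsLocalRing.maximalIdeal Q.toSubring).comap (Subring.inclusion hA)) =
          LocalSubring.ofPrime B ((IsLocalRing.maximalIdeal Q.toSubring).comap (Subring.inclusion hB)),
      ∀ r : PrimeSpectrum ↥(A ⊔ B),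
        LocalSubring.ofPrime A (r.asIdeal.comap (Subring.inclusion (le_sup_left : A ≤ A ⊔ B))) =
          LocalSubring.ofPrime B (r.asIdeal.comap (Subring.inclusion (le_sup_right : B ≤ A ⊔ B))),
      ∀ (p : PrimeSpectrum A) (q : PrimeSpectrum B),
        (∃ Q : LocalSubring R, LocalSubring.ofPrime A p.asIdeal ≤ Q ∧ LocalSubring.ofPrime B q.asIdeal ≤ Q) →
          LocalSubring.ofPrime A p.asIdeal = LocalSubring.ofPrime B q.asIdeal,
      Set.range (fun p : PrimeSpectrum A ↦ LocalSubring.ofPrime A p.asIdeal) ∩
          Set.range (fun q : PrimeSpectrum B ↦ LocalSubring.ofPrime B q.asIdeal) =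
        Set.range (fun r : PrimeSpectrum ↥(A ⊔ B) ↦ LocalSubring.ofPrime (A ⊔ B) r.asIdeal) ].TFAE := by
  set C := A ⊔ B
  have hAC : A ≤ C := le_sup_left
  have hBC : B ≤ C := le_sup_right
  have congr' : ∀ (D : Subring R) (p q : Ideal D) [p.IsPrime] [q.IsPrime], p = q →
      LocalSubring.ofPrime D p = LocalSubring.ofPrime D q := by
    intro D p q _ _ h; subst h; rfl
  have trC : ∀ (D : Subring R) (hD : D ≤ C) (r : Ideal C) [r.IsPrime],
      r.comap (Subring.inclusion hD) =
        (IsLocalRing.maximalIdeal (LocalSubring.ofPrime C r).toSubring).comap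
          (Subring.inclusion (hD.trans (LocalSubring.le_ofPrime C r))) := by
    intro D hD r _
    ext a
    rw [Ideal.mem_comap, Ideal.mem_comap, IsLocalRing.mem_maximalIdeal, mem_nonunits_iff]
    rw [show Subring.inclusion (hD.trans (LocalSubring.le_ofPrime C r)) a =
      Subring.inclusion (LocalSubring.le_ofPrime C r) (Subring.inclusion hD a) from rfl,
      Groth.PropsBasic2.isUnit_ofPrime_iff, not_not]
  have leC : ∀ (D : Subring R) (hD : D ≤ C) (r : Ideal C) [r.IsPrime],
      LocalSubring.ofPrime D (r.comap (Subring.inclusion hD)) ≤ LocalSubring.ofPrime C r := by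
    intro D hD r _
    rw [congr' D _ _ (trC D hD r)]
    exact Groth.PropsBasic2.ofPrime_comap_le D _ _
  tfae_have 1 → 3 := by
    rintro h p q ⟨Q, hp, hq⟩
    have hA : A ≤ Q.toSubring := (LocalSubring.le_ofPrime A _).trans hp.1
    have hB : B ≤ Q.toSubring := (LocalSubring.le_ofPrime B _).trans hq.1
    rw [congr' A _ _ (Groth.PropsBasic2.comap_eq_of_ofPrime_le A p.asIdeal Q hA hp),
      congr' B _ _ (Groth.PropsBasic2.comap_eq_of_ofPrime_le B q.asIdeal Q hB hq)]
    exact h Q hA hB
  tfae_have 3 → 2 := fun h r => h ⟨r.asIdeal.comap (Subring.inclusion hAC), inferInstance⟩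
    ⟨r.asIdeal.comap (Subring.inclusion hBC), inferInstance⟩
    ⟨LocalSubring.ofPrime C r.asIdeal, leC A hAC r.asIdeal, leC B hBC r.asIdeal⟩
  tfae_have 2 → 4 := by
    intro h
    apply Set.Subset.antisymm
    · rintro M ⟨⟨p, hp⟩, ⟨q, hq⟩⟩
      dsimp only at hp hq
      have hA : A ≤ M.toSubring := hp ▸ LocalSubring.le_ofPrime A p.asIdeal
      have hB : B ≤ M.toSubring := hq ▸ LocalSubring.le_ofPrime B q.asIdeal
      have hC : C ≤ M.toSubring := sup_le hA hB
      let r := (IsLocalRing.maximalIdeal M.toSubring).comap (Subring.inclusion hC)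
      refine ⟨⟨r, inferInstance⟩, le_antisymm (Groth.PropsBasic2.ofPrime_comap_le C M hC) ?_⟩
      have e : p.asIdeal = r.comap (Subring.inclusion hAC) :=
        (Groth.PropsBasic2.comap_eq_of_ofPrime_le A p.asIdeal M hA hp.le).trans
          (by rw [Ideal.comap_comap]; rfl)
      refine hp.ge.trans ?_
      rw [congr' A _ _ e]
      exact leC A hAC r
    · rintro _ ⟨r, rfl⟩
      dsimp only
      set M := LocalSubring.ofPrime A (r.asIdeal.comap (Subring.inclusion hAC)) with hM
      have hMB : M = LocalSubring.ofPrime B (r.asIdeal.comap (Subring.inclusion hBC)) := h r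
      have hB : B ≤ M.toSubring := hMB ▸ LocalSubring.le_ofPrime B _
      have hC : C ≤ M.toSubring := sup_le (LocalSubring.le_ofPrime A _) hB
      have hle : M ≤ LocalSubring.ofPrime C r.asIdeal := leC A hAC r.asIdeal
      have e : r.asIdeal = (IsLocalRing.maximalIdeal M.toSubring).comap (Subring.inclusion hC) := by
        obtain ⟨h1, h2⟩ := hle
        ext c
        rw [Ideal.mem_comap, IsLocalRing.mem_maximalIdeal, mem_nonunits_iff,
          ← not_iff_not, not_not, ← Groth.PropsBasic2.isUnit_ofPrime_iff C r.asIdeal c]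
        exact ⟨fun hu => h2.map_nonunit _ hu, fun hu => hu.map (Subring.inclusion h1)⟩
      have heq : LocalSubring.ofPrime C r.asIdeal = M := by
        refine le_antisymm ?_ hle
        rw [congr' C _ _ e]
        exact Groth.PropsBasic2.ofPrime_comap_le C M hC
      exact ⟨⟨⟨r.asIdeal.comap (Subring.inclusion hAC), inferInstance⟩, heq.symm⟩,
        ⟨⟨r.asIdeal.comap (Subring.inclusion hBC), inferInstance⟩, (heq.trans hMB).symm⟩⟩
  tfae_have 4 → 1 := by
    intro h Q hA hB
    have hC : C ≤ Q.toSubring := sup_le hA hB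
    let r := (IsLocalRing.maximalIdeal Q.toSubring).comap (Subring.inclusion hC)
    have hmem : LocalSubring.ofPrime C r ∈
        Set.range (fun p : PrimeSpectrum A ↦ LocalSubring.ofPrime A p.asIdeal) ∩
          Set.range (fun q : PrimeSpectrum B ↦ LocalSubring.ofPrime B q.asIdeal) := by
      rw [h]; exact ⟨⟨r, inferInstance⟩, rfl⟩
    obtain ⟨⟨p, hp⟩, ⟨q, hq⟩⟩ := hmem
    dsimp only at hp hq
    have hle : LocalSubring.ofPrime C r ≤ Q := Groth.PropsBasic2.ofPrime_comap_le C Q hC
    rw [← congr' A _ _ (Groth.PropsBasic2.comap_eq_of_ofPrime_le A p.asIdeal Q hA (hp ▸ hle)),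
      ← congr' B _ _ (Groth.PropsBasic2.comap_eq_of_ofPrime_le B q.asIdeal Q hB (hq ▸ hle)),
      hp, hq]
  tfae_finish

end Groth.Agent.S4345
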