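import Groth.Statements.S4346
import Groth.Agent.PropsBasic2.FunField

set_option autoImplicit false
universe u
open SchLoc

namespace Groth.Agent.S4346

open AlgebraicGeometry in
/-- On an integral separated scheme distinct points have distinct local rings inside the function field. -/
theorem result (X : Scheme.{u}) [IsIntegral X] [X.IsSeparated] :
    Function.Injective (fun x : X ↦ (algebraMap (X.presheaf.stalk x) X.functionField).range) := by
  intro x y h
  obtain ⟨α, hα⟩ := Groth.PropsBasic2.exists_comp_eq_of_range_le (x := x) (y := y) (le_of_eq h)
  obtain ⟨β, hβ⟩ := Groth.PropsBasic2.exists_comp_eq_of_range_le (x := y) (y := x) (le_of_eq h.symm)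
  exact ((Groth.PropsBasic2.specializes_of_comp_eq β hβ).antisymm
    (Groth.PropsBasic2.specializes_of_comp_eq α hα)).eq

end Groth.Agent.S4346
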