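import Groth.Statements.S4350
import Groth.Agent.Misc1.TorSh

set_option autoImplicit false
universe u
open TorSh

namespace Groth.Agent.S4350

open AlgebraicGeometry in
open CategoryTheory in
/-- Direct assertion (the sheaf of rational functions of the integral scheme X being the direct image of
the structure sheaf of Spec of the function field under its canonical morphism to X). On an integral
scheme, a quasi-coherent torsion-free O_X-module of rank 1, i.e. whose stalk at the generic point is
one-dimensional over the function field (for instance an invertible module), is isomorphic to a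
sub-O_X-module of the sheaf of rational functions. (The published statement adds a converse, which
for the zero submodule does not hold as stated; it is not included here.) -/
theorem result
    (X : Scheme.{u}) [IsIntegral X] (F : X.Modules) [Coh.IsQCoh F] (hF : TorSh.IsTorsionFree F)
    (h1 : Module.finrank (X.presheaf.stalk (genericPoint X)) (F.presheaf.stalk (genericPoint X)) = 1) :
    ∃ i : F ⟶ (Scheme.Modules.pushforward (X.fromSpecStalk (genericPoint X))).obj
        (Coh.structureModule (Spec (X.presheaf.stalk (genericPoint X)))), Mono i := by
  have : F.IsQuasicoherent := ‹Coh.IsQCoh F›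
  let _ : Field (X.presheaf.stalk (genericPoint X)) := inferInstanceAs (Field X.functionField)
  have : Nontrivial (F.presheaf.stalk (genericPoint X)) :=
    Module.nontrivial_of_finrank_eq_succ h1
  obtain ⟨e⟩ : Nonempty (F.presheaf.stalk (genericPoint X) ≃ₗ[X.presheaf.stalk (genericPoint X)]
      X.presheaf.stalk (genericPoint X)) := by
    obtain ⟨v, hv, hspan⟩ := finrank_eq_one_iff'.1 h1
    exact ⟨(LinearEquiv.ofBijective (LinearMap.toSpanSingleton _ _ v)
      ⟨smul_left_injective _ hv, hspan⟩).symm⟩
  obtain ⟨φ, hφ⟩ := Groth.Misc1.TorSh.exists_hom_ratSheaf F e.toLinearMap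
  refine ⟨φ, (Groth.CohTwo.mono_iff_app_injective φ).2 fun U => ?_⟩
  refine (injective_iff_map_eq_zero (φ.app U).hom).2 fun s hs => ?_
  refine Groth.Misc1.TorSh.eq_zero_of_germ F s fun x hx => ?_
  have hU := Groth.Misc1.TorSh.generic_mem hx
  refine Groth.Misc1.TorSh.germ_eq_zero_of_generic F hF hx s (e.injective ?_)
  rw [map_zero]
  exact Groth.Misc1.TorSh.val_injective hU ((hφ U hU s).symm.trans (hs.trans (map_zero _).symm))

end Groth.Agent.S4350
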