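import Groth.Statements.S4352
import Groth.Agent.QCohMod.QCAlgSubAlg

set_option autoImplicit false
universe u
open QCohSup

namespace Groth.Agent.S4352

open AlgebraicGeometry in
open CategoryTheory in
open Opposite in
/-- Case b), in the sectionwise form its proof gives. Let X be a scheme that is quasi-compact and
separated and B a quasi-coherent O_X-algebra. Every section of B over an affine open U lies in a
quasi-coherent sub-O_X-algebra of B whose sections over every affine open form an algebra of finite
type over the functions; hence B is the inductive limit of its quasi-coherent sub-O_X-algebras of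
finite type. -/
theorem result
    {X : Scheme.{u}} [CompactSpace X] [X.IsSeparated] (B : RelSpec.QCAlg X)
    (U : X.affineOpens) (b : B.presheaf.obj (op (U : X.Opens))) :
    ∃ (B' : RelSpec.QCAlg X) (φ : B' ⟶ B),
      (∀ V : X.Opens, Function.Injective (φ.hom.app (op V)).hom) ∧
      (∀ V : X.affineOpens, (B'.str.app (op (V : X.Opens))).hom.FiniteType) ∧
      b ∈ Set.range (φ.hom.app (op (U : X.Opens))).hom := by
  obtain ⟨n, V, hV, hcov, hW, hUV⟩ := Groth.QCohMod.exists_finite_cover (X := X)
  obtain ⟨E, j, -, hE, hbE⟩ := Groth.QCohMod.exists_finiteType_containing B V hV hcov hW U.2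
    (fun l => hUV U.1 U.2.isCompact l) {b} (Set.finite_singleton b)
  have := hE.1
  refine ⟨Groth.QCohMod.locGenAlg B j, Groth.QCohMod.locGenHom B j, fun W => Subtype.val_injective,
    fun W => Groth.QCohMod.finiteType_locGen B j hE.2 W, ?_⟩
  obtain ⟨e, he⟩ := hbE b rfl
  exact ⟨⟨b, Groth.QCohMod.gen_le_locGen B j U.1 (he ▸ Groth.QCohMod.app_mem_gen B j e)⟩, rfl⟩

end Groth.Agent.S4352
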