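import Groth.Statements.S4355
import Groth.Agent.QCohMod.ExtendCases

set_option autoImplicit false
universe u v
open QCohSup

open CategoryTheory CategoryTheory.Limits Opposite TopologicalSpace

namespace Groth.Agent.S4355

open AlgebraicGeometry in
open CategoryTheory in
/-- Let X be a scheme, L a well-ordered set and (V_l) a cover of X by affine opens indexed by L such
that, for every l, the intersection of V_l with the union of the V_m, m < l, is quasi-compact; let U
be an open subset of X whose inclusion morphism is quasi-compact. Then for every quasi-coherent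
O_X-module F and every quasi-coherent subsheaf of finite type G of F restricted to U there is a
quasi-coherent subsheaf of finite type G' of F whose restriction to U is G. -/
theorem result
    {X : Scheme.{u}} {L : Type v} [LinearOrder L] [WellFoundedLT L]
    (V : L → X.Opens) (hV : ∀ l, IsAffineOpen (V l)) (hcov : ⨆ l, V l = ⊤)
    (hW : ∀ l, IsCompact ((V l : Set X) ∩ ⋃ m ∈ Set.Iio l, (V m : Set X)))
    (U : X.Opens) [QuasiCompact U.ι] (F : X.Modules) [Coh.IsQCoh F]
    (G : (U : Scheme.{u}).Modules) (i : G ⟶ F.restrict U.ι) [Mono i]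
    [Coh.IsQCoh G] (hG : CohB1.IsFT G) :
    ∃ (G' : X.Modules) (i' : G' ⟶ F) (e : G'.restrict U.ι ≅ G), Mono i' ∧ Coh.IsQCoh G' ∧ CohB1.IsFT G' ∧
      e.hom ≫ i = (Scheme.Modules.restrictFunctor U.ι).map i' := by
  have : F.IsQuasicoherent := ‹Coh.IsQCoh F›
  have : G.IsQuasicoherent := ‹Coh.IsQCoh G›
  exact Groth.QCohMod.exists_extension_subsheaf i hG V hV hcov hW
    (fun l => Groth.QCohMod.isCompact_inter_of_quasiCompact (hV l))

end Groth.Agent.S4355
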