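import Groth.Statements.S4356
import Groth.Agent.Misc1.TorSh

set_option autoImplicit false
universe u
open TorSh

namespace Groth.Agent.S4356

open AlgebraicGeometry in
open CategoryTheory in
/-- Converse assertion (the sheaf of rational functions of the integral scheme X being modelled as the
direct image of the structure sheaf of Spec of the function field under its canonical morphism to
X). On an integral scheme, a nonzero quasi-coherent sub-O_X-module of the sheaf of rational
functions is torsion-free of rank 1: every stalk is a torsion-free module over the local ring, and
the stalk at the generic point is one-dimensional over the function field. (The published statement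
does not exclude the zero submodule, whose generic stalk has dimension 0; it is excluded here.) -/
theorem result
    (X : Scheme.{u}) [IsIntegral X] (G : X.Modules) [Coh.IsQCoh G]
    (i : G ⟶ (Scheme.Modules.pushforward (X.fromSpecStalk (genericPoint X))).obj
        (Coh.structureModule (Spec (X.presheaf.stalk (genericPoint X))))) [Mono i]
    (hG : ¬ Limits.IsZero G) :
    TorSh.IsTorsionFree G ∧
      Module.finrank (X.presheaf.stalk (genericPoint X)) (G.presheaf.stalk (genericPoint X)) = 1 := by
  have : G.IsQuasicoherent := ‹Coh.IsQCoh G›
  let K := X.presheaf.stalk (genericPoint X)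
  let _ : Field K := inferInstanceAs (Field X.functionField)
  have hinj : ∀ x, Function.Injective (Groth.CohTwo.stalkLin i x) :=
    (Groth.QCohMod.mono_iff_stalk i).1 inferInstance
  have htfR : TorSh.IsTorsionFree (Groth.Misc1.TorSh.ratSheaf X) := by
    refine Groth.Misc1.TorSh.isTorsionFree_pushforward _ _ fun z => ?_
    let b := LinearEquiv.ofBijective _ (Groth.CohTwo.bijective_toSpanSingleton_one
      (X := Spec (X.presheaf.stalk (genericPoint X))) z)
    exact b.symm.injective.moduleIsTorsionFree b.symm fun r m => map_smul b.symm r m
  have htf : TorSh.IsTorsionFree G := fun x => by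
    have := htfR x
    exact (hinj x).moduleIsTorsionFree _ fun r m => map_smul _ r m
  have : Module.Finite K ((Groth.Misc1.TorSh.ratSheaf X).presheaf.stalk (genericPoint X)) :=
    Module.Finite.of_surjective (LinearMap.toSpanSingleton K _ _)
      Groth.Misc1.TorSh.exists_smul_eq_ratSheaf
  refine ⟨htf, le_antisymm ?_ ?_⟩
  · refine le_trans (LinearMap.finrank_le_finrank_of_injective (hinj (genericPoint X))) ?_
    exact finrank_le_one _ Groth.Misc1.TorSh.exists_smul_eq_ratSheaf
  · have : Module.Finite K (G.presheaf.stalk (genericPoint X)) :=
      Module.Finite.of_injective _ (hinj (genericPoint X))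
    refine Module.finrank_pos_iff.2 ?_
    by_contra hn
    rw [not_nontrivial_iff_subsingleton] at hn
    refine hG ((Groth.QCohMod.isZero_iff_support_eq_empty G).2 (Set.eq_empty_iff_forall_notMem.2
      fun x hx => hx ?_))
    refine subsingleton_of_forall_eq 0 fun t => ?_
    obtain ⟨U, hU, s, rfl⟩ := Groth.QCohMod.exists_germ G x t
    exact Groth.Misc1.TorSh.germ_eq_zero_of_generic G htf hU s (Subsingleton.elim _ _)

end Groth.Agent.S4356
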