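import Groth.Statements.S4362
import Groth.Agent.PropsBasic2.NoethScheme

set_option autoImplicit false
universe u
open FinCond

namespace Groth.Agent.S4362

open AlgebraicGeometry in
open CategoryTheory in
/-- If X is a Noetherian scheme, every increasing sequence of quasi-coherent sheaves of ideals of the
structure sheaf is eventually constant; equivalently the ordered set of quasi-coherent ideal sheaves
of X is well-founded for the reverse order. (On a locally Noetherian scheme quasi-coherent and
coherent ideal sheaves coincide.) -/
theorem result
    (X : Scheme.{u}) [IsNoetherian X] : WellFoundedGT X.IdealSheafData := by
  exact Groth.PropsBasic2.wellFoundedGT_idealSheafData X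

end Groth.Agent.S4362
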