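import Groth.Statements.S4363
import Groth.Agent.PropsBasic2.SepGen

set_option autoImplicit false
universe u v
open RedSep

namespace Groth.Agent.S4363

open AlgebraicGeometry in
open CategoryTheory in
/-- Let Y be an affine scheme, f : X -> Y a morphism and (U i) a cover of X by affine open subschemes.
Then f is separated if and only if, for every pair of indices i, j, the intersection of U i and U j
is an affine open and its ring of sections is generated, as a ring, by the images of the rings of
sections of U i and of U j under the restriction maps. -/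
theorem result
    {X Y : Scheme.{u}} [IsAffine Y] (f : X ⟶ Y) {ι : Type v} (U : ι → X.Opens)
    (hU : ∀ i, IsAffineOpen (U i)) (hcov : ⨆ i, U i = ⊤) :
    IsSeparated f ↔ ∀ i j, IsAffineOpen (U i ⊓ U j) ∧
      Subring.closure (Set.range (X.presheaf.map (homOfLE (inf_le_left : U i ⊓ U j ≤ U i)).op).hom ∪
        Set.range (X.presheaf.map (homOfLE (inf_le_right : U i ⊓ U j ≤ U j)).op).hom) = ⊤ := by
  let 𝒰 := X.openCoverOfIsOpenCover U hcov
  haveI : ∀ i, IsAffine (U i).toScheme := fun i => hU i
  rw [isSeparated_iff, IsZariskiLocalAtTarget.iff_of_openCover (P := @IsClosedImmersion)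
    (Scheme.Pullback.openCoverOfLeftRight 𝒰 𝒰 f f)]
  refine ⟨fun H i j => ?_, fun H ij => ?_⟩
  · have h := H (i, j)
    exact (Groth.PropsBasic2.SepGen.key f (hU i) (hU j)).mp
      ((Groth.PropsBasic2.SepGen.pullbackHom_iff f U i j).mp h)
  · obtain ⟨i, j⟩ := ij
    exact (Groth.PropsBasic2.SepGen.pullbackHom_iff f U i j).mpr
      ((Groth.PropsBasic2.SepGen.key f (hU i) (hU j)).mpr (H i j))

end Groth.Agent.S4363
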