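import Groth.Statements.S4365
import Mathlib

set_option autoImplicit false
universe u
open FinCond

namespace Groth.Agent.S4365

theorem exists_injective_algHom {K Ω A : Type u} [Field K] [Field Ω] [IsAlgClosed Ω] [Algebra K Ω] [CommRing A]
    [IsDomain A] [Algebra K A] [Algebra.FiniteType K A] (t : ℕ → Ω) (ht : AlgebraicIndependent K t) :
    ∃ φ : A →ₐ[K] Ω, Function.Injective φ := by
  obtain ⟨s, g, hg, hint⟩ := exists_integral_inj_algHom_of_fg K A
  let P := MvPolynomial (Fin s) K
  let e : P →ₐ[K] Ω := MvPolynomial.aeval (fun i : Fin s => t i)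
  have he : Function.Injective e := ht.comp _ Fin.val_injective
  let : Algebra P A := g.toRingHom.toAlgebra
  let : Algebra P Ω := e.toRingHom.toAlgebra
  have : IsScalarTower K P A := IsScalarTower.of_algebraMap_eq fun r => (g.commutes r).symm
  have : IsScalarTower K P Ω := IsScalarTower.of_algebraMap_eq fun r => (e.commutes r).symm
  have : Algebra.IsIntegral P A := ⟨hint⟩
  have : Module.IsTorsionFree P A := Module.isTorsionFree_iff_algebraMap_injective.2 hg
  have : Module.IsTorsionFree P Ω := Module.isTorsionFree_iff_algebraMap_injective.2 he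
  let ψ : A →ₐ[P] Ω := IsAlgClosed.lift
  refine ⟨ψ.restrictScalars K, ?_⟩
  show Function.Injective (ψ : A →+* Ω)
  rw [RingHom.injective_iff_ker_eq_bot]
  refine Ideal.eq_bot_of_comap_eq_bot (R := P) ?_
  rw [eq_bot_iff]
  intro x hx
  have h0 : ψ (algebraMap P A x) = 0 := hx
  rw [AlgHom.commutes] at h0
  exact (map_eq_zero_iff (algebraMap P Ω) he).1 h0


open AlgebraicGeometry in
open CategoryTheory in
/-- Let K be a field, X and Y schemes locally of finite type over K, f : X -> Y a K-morphism and Ω an
algebraically closed extension field of K of infinite transcendence degree over K (there is an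
algebraically independent sequence in Ω). Then f is surjective if and only if the map it induces
from the K-points of X with values in Ω to those of Y is surjective, i.e. every K-morphism Spec Ω ->
Y factors through f. (The published proposition assumes X and Y of finite type over K, and a later
remark of the same text extends it to X and Y locally of finite type over K, the form stated here.) -/
theorem result
    (K Ω : Type u) [Field K] [Field Ω] [IsAlgClosed Ω] [Algebra K Ω]
    (t : ℕ → Ω) (ht : AlgebraicIndependent K t)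
    {X Y : Scheme.{u}} (pX : X ⟶ Spec (CommRingCat.of K)) (pY : Y ⟶ Spec (CommRingCat.of K))
    [LocallyOfFiniteType pX] [LocallyOfFiniteType pY] (f : X ⟶ Y) (hf : f ≫ pY = pX) :
    Surjective f ↔ ∀ y : Spec (CommRingCat.of Ω) ⟶ Y,
      y ≫ pY = Spec.map (CommRingCat.ofHom (algebraMap K Ω)) →
        ∃ x : Spec (CommRingCat.of Ω) ⟶ X, x ≫ f = y := by
  constructor
  · intro _ y hy
    have : LocallyOfFiniteType (f ≫ pY) := by rw [hf]; infer_instance
    have : LocallyOfFiniteType f := locallyOfFiniteType_of_comp f pY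
    let q := Limits.pullback.snd f y
    obtain ⟨z₀, -⟩ := q.surjective (IsLocalRing.closedPoint Ω)
    have : JacobsonSpace (Limits.pullback f y : Scheme) := LocallyOfFiniteType.jacobsonSpace q
    obtain ⟨z, -, hz⟩ := nonempty_inter_closedPoints (X := (Limits.pullback f y : Scheme))
      ⟨z₀, Set.mem_univ _⟩ isClosed_univ.isLocallyClosed
    refine ⟨pointOfClosedPoint q z hz ≫ Limits.pullback.fst f y, ?_⟩
    rw [Category.assoc, Limits.pullback.condition, pointOfClosedPoint_comp_assoc]
  · intro h
    refine ⟨fun y => ?_⟩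
    obtain ⟨_, ⟨V, hV, rfl⟩, hyV, -⟩ := Y.isBasis_affineOpens.exists_subset_of_mem_open (Set.mem_univ y) isOpen_univ
    let A := Γ(Y, V)
    obtain ⟨φ, hφ⟩ := Spec.map_surjective (hV.fromSpec ≫ pY)
    have hft : φ.hom.FiniteType := by
      have : LocallyOfFiniteType (Spec.map φ) := by rw [hφ]; infer_instance
      exact (HasRingHomProperty.Spec_iff (P := @LocallyOfFiniteType)).1 this
    algebraize [φ.hom]
    have : Algebra.FiniteType K A := hft
    let 𝔭 := hV.primeIdealOf ⟨y, hyV⟩
    obtain ⟨ψ, hψ⟩ := exists_injective_algHom (A := A ⧸ 𝔭.asIdeal) t ht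
    let χ : A →ₐ[K] Ω := ψ.comp (Ideal.Quotient.mkₐ K 𝔭.asIdeal)
    obtain ⟨x, hx⟩ := h (Spec.map (CommRingCat.ofHom χ.toRingHom) ≫ hV.fromSpec) (by
      rw [Category.assoc, ← hφ, ← Spec.map_comp]
      congr 1
      exact CommRingCat.hom_ext χ.comp_algebraMap)
    refine ⟨x (IsLocalRing.closedPoint Ω), ?_⟩
    rw [← Scheme.Hom.comp_apply, hx, Scheme.Hom.comp_apply]
    have hc : Spec.map (CommRingCat.ofHom χ.toRingHom) (IsLocalRing.closedPoint Ω) = 𝔭 := by
      refine PrimeSpectrum.ext ?_
      show Ideal.comap χ.toRingHom (IsLocalRing.closedPoint Ω).asIdeal = _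
      have hb : (IsLocalRing.closedPoint Ω).asIdeal = ⊥ := IsLocalRing.maximalIdeal_eq_bot
      rw [hb]
      ext a
      rw [Ideal.mem_comap, Ideal.mem_bot]
      show ψ (Ideal.Quotient.mk _ a) = 0 ↔ _
      rw [map_eq_zero_iff ψ hψ, Ideal.Quotient.eq_zero_iff_mem]
    rw [hc]
    exact hV.fromSpec_primeIdealOf ⟨y, hyV⟩

end Groth.Agent.S4365
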