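import Groth.Statements.S4370
import Groth.Agent.PropsBasic2.Reduced

set_option autoImplicit false
universe u
open RedSep

namespace Groth.Agent.S4370

open AlgebraicGeometry in
open CategoryTheory in
/-- Let f : X -> Y be an open immersion and let g : X_red -> Y_red be the morphism of reduced schemes
induced by f, i.e. the morphism between the closed subschemes defined by the nilradicals whose
composite with the inclusion of Y_red in Y is the inclusion of X_red in X followed by f. Then g is
an open immersion. -/
theorem result
    {X Y : Scheme.{u}} (f : X ⟶ Y) [IsOpenImmersion f]
    (g : X.nilradical.subscheme ⟶ Y.nilradical.subscheme)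
    (hg : g ≫ Y.nilradical.subschemeι = X.nilradical.subschemeι ≫ f) :
    IsOpenImmersion g := by
  exact Groth.PropsBasic2.isOpenImmersion_red f g hg

end Groth.Agent.S4370
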