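import Groth.Statements.S4371
import Mathlib.AlgebraicGeometry.Morphisms.ClosedImmersion
import Mathlib.AlgebraicGeometry.FunctionField
import Mathlib.RingTheory.MvPolynomial.Basic
import Mathlib.Algebra.MvPolynomial.Division

set_option autoImplicit false
universe u
open RedSep

namespace Groth.Agent.S4371

open AlgebraicGeometry in
open CategoryTheory in
/-- Let K be a field and Y = Spec K[s, t] the affine plane over K. The open subset D(s) ∪ D(t) of Y, the
complement of the closed point s = t = 0, is not affine. -/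
theorem result
    (K : Type u) [Field K] :
    ¬ IsAffineOpen (X := Spec (CommRingCat.of (MvPolynomial (Fin 2) K)))
      (PrimeSpectrum.basicOpen (MvPolynomial.X 0 : MvPolynomial (Fin 2) K) ⊔
        PrimeSpectrum.basicOpen (MvPolynomial.X 1 : MvPolynomial (Fin 2) K)) := by
  intro hU
  set X : Scheme.{u} := Spec (CommRingCat.of (MvPolynomial (Fin 2) K))
  set R := CommRingCat.of (MvPolynomial (Fin 2) K)
  set U : X.Opens := PrimeSpectrum.basicOpen (MvPolynomial.X 0 : MvPolynomial (Fin 2) K) ⊔
        PrimeSpectrum.basicOpen (MvPolynomial.X 1 : MvPolynomial (Fin 2) K)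
  have hint : IsIntegral X := inferInstanceAs (IsIntegral (Spec R))
  let s : Γ(X, ⊤) := (Scheme.ΓSpecIso R).inv (MvPolynomial.X 0)
  let t : Γ(X, ⊤) := (Scheme.ΓSpecIso R).inv (MvPolynomial.X 1)
  let e : R ≃+* Γ(X, ⊤) := (Scheme.ΓSpecIso R).symm.commRingCatIsoToRingEquiv
  have hs : Prime s := (MulEquiv.prime_iff e.toMulEquiv).mpr MvPolynomial.X_prime
  have hst : ¬ s ∣ t := fun h => by
    have h1 := map_dvd e.symm h
    simp only [show s = e (MvPolynomial.X 0) from rfl, show t = e (MvPolynomial.X 1) from rfl,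
      RingEquiv.symm_apply_apply] at h1
    exact absurd ((MvPolynomial.X_dvd_X).mp h1) (by decide)
  have hUs : X.basicOpen s ≤ U := le_of_eq_of_le (basicOpen_eq_of_affine _) le_sup_left
  have hUt : X.basicOpen t ≤ U := le_of_eq_of_le (basicOpen_eq_of_affine _) le_sup_right
  have ht : t ≠ 0 := fun h => hst (h ▸ dvd_zero s)
  have hnes : Nonempty (X.basicOpen s) := by
    by_contra h
    have : X.basicOpen s = ⊥ := eq_bot_iff.mpr fun p hp => (h ⟨⟨p, hp⟩⟩).elim
    exact hs.ne_zero ((basicOpen_eq_bot_iff s).mp this)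
  have hnest : Nonempty (X.basicOpen s ⊓ X.basicOpen t : X.Opens) := by
    by_contra h
    rw [← X.basicOpen_mul] at h
    have : X.basicOpen (s * t) = ⊥ := eq_bot_iff.mpr fun p hp => (h ⟨⟨p, hp⟩⟩).elim
    exact mul_ne_zero hs.ne_zero ht ((basicOpen_eq_bot_iff _).mp this)
  have hUne : Nonempty U := hnes.map fun p => ⟨p.1, hUs p.2⟩
  have hsurj : Function.Surjective (X.presheaf.map (homOfLE (le_top : U ≤ ⊤)).op) := by
    intro a
    have := (isAffineOpen_top X).isLocalization_basicOpen s
    have := (isAffineOpen_top X).isLocalization_basicOpen t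
    obtain ⟨⟨p, ⟨_, n, rfl⟩⟩, hp⟩ := IsLocalization.surj (Submonoid.powers s)
      (X.presheaf.map (homOfLE hUs).op a)
    obtain ⟨⟨q, ⟨_, m, rfl⟩⟩, hq⟩ := IsLocalization.surj (Submonoid.powers t)
      (X.presheaf.map (homOfLE hUt).op a)
    let r (V : X.Opens) := X.presheaf.map (homOfLE (le_top : V ≤ ⊤)).op
    let W : X.Opens := X.basicOpen s ⊓ X.basicOpen t
    let aW := X.presheaf.map (homOfLE (inf_le_left.trans hUs : W ≤ U)).op a
    have hp' : aW * r W s ^ n = r W p := by
      have := congrArg (X.presheaf.map (homOfLE (inf_le_left : W ≤ X.basicOpen s)).op) hp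
      simp only [RingHom.algebraMap_toAlgebra, map_mul, map_pow, ← CommRingCat.comp_apply,
        ← X.presheaf.map_comp] at this
      exact this
    have hq' : aW * r W t ^ m = r W q := by
      have := congrArg (X.presheaf.map (homOfLE (inf_le_right : W ≤ X.basicOpen t)).op) hq
      simp only [RingHom.algebraMap_toAlgebra, map_mul, map_pow, ← CommRingCat.comp_apply,
        ← X.presheaf.map_comp] at this
      exact this
    have hinjW : Function.Injective (r W) := map_injective_of_isIntegral X _
    have hpq : p * t ^ m = q * s ^ n := by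
      apply hinjW
      simp only [map_mul, map_pow, ← hp', ← hq']
      ring
    obtain ⟨c, rfl⟩ : s ^ n ∣ p :=
      hs.pow_dvd_of_dvd_mul_right n (fun h => hst (hs.dvd_of_dvd_pow h)) ⟨q, hpq.trans (mul_comm _ _)⟩
    refine ⟨c, map_injective_of_isIntegral X (homOfLE hUs) ?_⟩
    rw [← CommRingCat.comp_apply, ← X.presheaf.map_comp]
    have hu : IsUnit (r (X.basicOpen s) s) := by
      convert! RingedSpace.isUnit_res_basicOpen _ s
    refine (hu.pow n).mul_left_cancel ?_
    simp only [RingHom.algebraMap_toAlgebra, map_mul, map_pow] at hp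
    exact (mul_comm _ _).trans hp |>.symm
  have : IsAffine U.toScheme := hU
  have hci : IsClosedImmersion U.ι := by
    refine IsClosedImmersion.of_surjective_of_isAffine _ ?_
    intro b
    obtain ⟨c, hc⟩ := hsurj (U.topIso.hom b)
    refine ⟨c, (ConcreteCategory.bijective_of_isIso U.topIso.hom).1 ?_⟩
    rw [← hc]
    simp only [Scheme.Hom.appTop, Scheme.Opens.ι_app, Scheme.Opens.topIso_hom]
    exact congr($((X.presheaf.map_comp _ _).symm.trans
      (congrArg X.presheaf.map (Subsingleton.elim _ _))) c)
  have hclosed : IsClosed (U : Set X) := by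
    rw [← Scheme.Opens.range_ι U]; exact U.ι.isClosedEmbedding.isClosed_range
  have hall : (U : Set X) = Set.univ := by
    rw [← hclosed.closure_eq]
    exact (U.2.dense (Set.nonempty_coe_sort.mp hUne)).closure_eq
  let φ : MvPolynomial (Fin 2) K →+* K := MvPolynomial.eval fun _ => 0
  have : (⟨RingHom.ker φ, RingHom.ker_isPrime φ⟩ : PrimeSpectrum _) ∈ (U : Set X) := by
    rw [hall]; trivial
  rcases this with h | h <;> exact h (by simp [φ, RingHom.mem_ker])

end Groth.Agent.S4371
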