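import Groth.Statements.S4372
import Groth.Agent.PropsBasic2.Reduced

set_option autoImplicit false
universe u
open RedSep

namespace Groth.Agent.S4372

open AlgebraicGeometry in
open CategoryTheory in
/-- Let h : Z -> X be an immersion with Z reduced (a reduced subscheme of X), and let W be the reduced
closed subscheme of X whose underlying space is the closure of h(Z). Then Z is an open subscheme of
W: h factors as an open immersion Z -> W followed by the closed immersion W -> X. Stated as the
existence of such a factorization through a reduced scheme W closed-immersed onto the closure of the
image. -/
theorem result
    {Z X : Scheme.{u}} (h : Z ⟶ X) [IsImmersion h] [IsReduced Z] :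
    ∃ (W : Scheme.{u}) (j : Z ⟶ W) (i : W ⟶ X), IsOpenImmersion j ∧ IsClosedImmersion i ∧
      IsReduced W ∧ Set.range i = closure (Set.range h) ∧ j ≫ i = h := by
  exact Groth.PropsBasic2.exists_factor_closure h

end Groth.Agent.S4372
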