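import Groth.Statements.S4375
import Groth.Agent.Ega2Proj.SectionsCriterion

set_option autoImplicit false
universe u
open CategoryTheory CategoryTheory.Limits AlgebraicGeometry
open EGA2

namespace Groth.Agent.S4375

/-- (c') ⇒ (a): let X be a quasi-compact separated scheme. Suppose that for every n, every
quasi-coherent O_X-module F admitting a monomorphism into the free module O_X^n, and every
epimorphism p : F → F'' onto a quasi-coherent O_X-module, the map induced by p on global sections is
surjective. Then X is affine. (The published statement also allows X to be a scheme whose underlying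
space is Noetherian; this row assumes it quasi-compact and separated.) -/
theorem result (X : Scheme.{u}) [CompactSpace X] [X.IsSeparated]
    (h : ∀ (n : ℕ) (F F'' : X.Modules) (i : F ⟶ FlatMod.freeMod X n) (p : F ⟶ F''),
      Mono i → Epi p → Coh.IsQCoh F → Coh.IsQCoh F'' →
        Function.Surjective (p.val.app (Opposite.op ⊤)).hom) :
    IsAffine X := by
  refine Groth.Ega2Proj.isAffine_of_extendsFromClosed fun Z => ?_
  let I := Scheme.IdealSheafData.vanishingIdeal Z
  refine ⟨I.subscheme, I.subschemeι, inferInstance, Groth.CohBase.range_reduced Z, ?_⟩
  have : IsSplitMono (Sigma.ι (fun _ : Fin 1 => Coh.structureModule X) 0) :=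
    IsSplitMono.mk' ⟨Sigma.desc fun _ => 𝟙 _, Sigma.ι_desc _ _⟩
  exact h 1 _ ((Scheme.Modules.pushforward I.subschemeι).obj (Coh.structureModule I.subscheme))
    (Sigma.ι (fun _ : Fin 1 => Coh.structureModule X) 0) (Groth.CohBase.unitPush I.subschemeι)
    inferInstance (Groth.CohBase.epi_unitPush_subschemeι I) inferInstance
    (Groth.QCohMod.isQCoh_pushforward _ _)

end Groth.Agent.S4375
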