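import Groth.Statements.S4376
import Groth.Agent.Ega2Proj.SectionsCriterion
import Groth.Agent.QCohMod.Category

set_option autoImplicit false
universe u
open CategoryTheory CategoryTheory.Limits AlgebraicGeometry
open EGA2

namespace Groth.Agent.S4376

/-- (b) ⇒ (a): let f : X → Y be a separated quasi-compact morphism such that the direct image functor
f_* is exact on quasi-coherent O_X-modules, i.e. for every epimorphism p : F → F'' of quasi-coherent
O_X-modules the morphism f_*(p) is again an epimorphism. Then f is an affine morphism. -/
theorem result {X Y : Scheme.{u}} (f : X ⟶ Y) [IsSeparated f] [QuasiCompact f]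
    (h : ∀ (F F'' : X.Modules) (p : F ⟶ F''), Coh.IsQCoh F → Coh.IsQCoh F'' → Epi p → Epi ((Coh.push f).map p)) :
    IsAffineHom f := by
  refine ⟨fun V hV => ?_⟩
  haveI : CompactSpace (f ⁻¹ᵁ V).toScheme := isCompact_iff_compactSpace.mp
    (QuasiCompact.isCompact_preimage (f := f) _ V.2 hV.isCompact)
  refine Groth.Ega2Proj.isAffine_of_extendsFromClosed
    (Groth.Ega2Proj.extendsFromClosed_opens _ fun I => ?_)
  haveI : ((Scheme.Modules.pushforward I.subschemeι).obj
      (Coh.structureModule I.subscheme)).IsQuasicoherent := Groth.QCohMod.isQCoh_pushforward _ _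
  haveI := Groth.QCohMod.isQCoh_pushforward (Coh.structureModule X) f
  haveI := Groth.QCohMod.isQCoh_pushforward ((Scheme.Modules.pushforward I.subschemeι).obj
    (Coh.structureModule I.subscheme)) f
  haveI : Epi ((Coh.push f).map (Groth.CohBase.unitPush I.subschemeι)) :=
    h _ _ _ inferInstance inferInstance (Groth.CohBase.epi_unitPush_subschemeι I)
  exact Groth.QCohMod.app_surjective_of_epi ((Coh.push f).map (Groth.CohBase.unitPush I.subschemeι)) hV

end Groth.Agent.S4376
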