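import Groth.Statements.S4377
import Groth.Agent.Ega2Proj.SectionsCriterion
import Groth.Agent.CohBase.RpushAb

set_option autoImplicit false
universe u
open CategoryTheory CategoryTheory.Limits AlgebraicGeometry
open EGA2

namespace Groth.Agent.S4377

/-- (c') ⇒ (a): let f : X → Y be a separated quasi-compact morphism such that R¹f_*(J) = 0 (first higher
direct image of the underlying abelian sheaf) for every quasi-coherent submodule J of O_X. Then f is
an affine morphism. -/
theorem result {X Y : Scheme.{u}} (f : X ⟶ Y) [IsSeparated f] [QuasiCompact f]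
    (h : ∀ (J : X.Modules) (i : J ⟶ Coh.structureModule X), Mono i → Coh.IsQCoh J →
      Limits.IsZero ((Coh.RpushAb f 1).obj (Coh.toAb J))) :
    IsAffineHom f := by
  refine ⟨fun V hV => ?_⟩
  haveI : CompactSpace (f ⁻¹ᵁ V).toScheme := isCompact_iff_compactSpace.mp
    (QuasiCompact.isCompact_preimage (f := f) _ V.2 hV.isCompact)
  refine Groth.Ega2Proj.isAffine_of_extendsFromClosed
    (Groth.Ega2Proj.extendsFromClosed_opens _ fun I => ?_)
  haveI : ((Scheme.Modules.pushforward I.subschemeι).obj
      (Coh.structureModule I.subscheme)).IsQuasicoherent := Groth.QCohMod.isQCoh_pushforward _ _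
  haveI := Groth.CohBase.epi_unitPush_subschemeι I
  haveI : (kernel (Groth.CohBase.unitPush I.subschemeι)).IsQuasicoherent := inferInstance
  obtain ⟨e⟩ := Groth.CohBase.nonempty_RpushAb_sections f 1
    (M := kernel (Groth.CohBase.unitPush I.subschemeι)) hV
  refine Groth.CohBase.surjective_app_of_epi (Groth.CohBase.unitPush I.subschemeι) (f ⁻¹ᵁ V) ?_
  have hz := h _ (kernel.ι (Groth.CohBase.unitPush I.subschemeι)) inferInstance inferInstance
  have : Subsingleton (((Coh.RpushAb f 1).obj (Coh.toAb (kernel (Groth.CohBase.unitPush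
      I.subschemeι)))).obj.obj (Opposite.op V)) :=
    AddCommGrpCat.subsingleton_of_isZero
      ((sheafToPresheaf _ _ ⋙ (evaluation _ _).obj (Opposite.op V)).map_isZero hz)
  exact ⟨fun a b => e.symm.injective (Subsingleton.elim _ _)⟩

end Groth.Agent.S4377
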