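import Groth.Statements.S4378


set_option autoImplicit false
universe u
open CategoryTheory CategoryTheory.Limits AlgebraicGeometry
open EGA2

namespace Groth.Agent.S4378

/-- Let q : Y → S be separated and of finite type, and f : X → Y a morphism such that X is also
separated and of finite type over S through f ≫ q. Then f is proper if and only if for every scheme
S' over S the morphism X ×_S S' → Y ×_S S' induced by f is closed (as a map of topological spaces). -/
theorem result {X Y S : Scheme.{u}} (q : Y ⟶ S) (f : X ⟶ Y)
    [IsSeparated q] [LocallyOfFiniteType q] [QuasiCompact q]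
    [IsSeparated (f ≫ q)] [LocallyOfFiniteType (f ≫ q)] [QuasiCompact (f ≫ q)] :
    IsProper f ↔ ∀ (S' : Scheme.{u}) (g : S' ⟶ S),
      IsClosedMap (pullback.map (f ≫ q) g q g f (𝟙 S') (𝟙 S) (Category.comp_id (f ≫ q))
        ((Category.comp_id g).trans (Category.id_comp g).symm)).base := by
  constructor
  · intro hf S' g
    haveI : IsProper (pullback.map (f ≫ q) g q g f (𝟙 S') (𝟙 S) (by simp) (by simp)) :=
      MorphismProperty.pullbackMap (P := @IsProper) hf (inferInstance : IsProper (𝟙 S')) (by simp) (by simp)
    exact Scheme.Hom.isClosedMap _
  · intro H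
    haveI : IsSeparated f := IsSeparated.of_comp f q
    haveI : LocallyOfFiniteType f := locallyOfFiniteType_of_comp f q
    haveI : UniversallyClosed f := by
      constructor
      intro X' Y' i₁ i₂ f' hsq Z hZ
      let h := i₂ ≫ q
      let pm : pullback (f ≫ q) h ⟶ pullback q h :=
        pullback.map (f ≫ q) h q h f (𝟙 Y') (𝟙 S) (by simp) (by simp)
      have t : IsPullback (pullback.fst (f ≫ q) h) pm f (pullback.fst q h) := by
        have := (IsPullback.of_hasPullback (f ≫ q) h)
        refine IsPullback.of_bot ?_ (by rw [pullback.lift_fst]) (IsPullback.of_hasPullback q h)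
        have e : pm ≫ pullback.snd q h = pullback.snd (f ≫ q) h := by
          rw [pullback.lift_snd, Category.comp_id]
        rw [e]; exact this
      let Γ : Y' ⟶ pullback q h := pullback.lift i₂ (𝟙 _) (by simp [h])
      let ι : X' ⟶ pullback (f ≫ q) h := pullback.lift i₁ f'
        (by simp only [h, ← Category.assoc]; rw [hsq.w])
      have hp : ι ≫ pm = f' ≫ Γ := by
        apply pullback.hom_ext
        · rw [Category.assoc, Category.assoc, ← t.w, pullback.lift_fst, ← Category.assoc,
            pullback.lift_fst, hsq.w]
        · rw [Category.assoc, Category.assoc, pullback.lift_snd, Category.comp_id, pullback.lift_snd,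
            pullback.lift_snd, Category.comp_id]
      have sq : IsPullback ι f' pm Γ := by
        refine IsPullback.of_right ?_ hp t
        rw [pullback.lift_fst, pullback.lift_fst]
        exact hsq.flip
      haveI : IsClosedImmersion (Γ ≫ pullback.snd q h) := by rw [pullback.lift_snd]; infer_instance
      haveI : IsClosedImmersion Γ := IsClosedImmersion.of_comp Γ (pullback.snd q h)
      haveI : IsClosedImmersion ι := MorphismProperty.of_isPullback (P := @IsClosedImmersion) sq.flip inferInstance
      have h1 : IsClosed (pm.base '' (ι.base '' Z)) := H Y' h _ (ι.isClosedEmbedding.isClosedMap Z hZ)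
      have h2 : f'.base '' Z = Γ.base ⁻¹' (pm.base '' (ι.base '' Z)) := by
        have hc : ∀ z, pm.base (ι.base z) = Γ.base (f'.base z) := fun z => by
          rw [← Scheme.Hom.comp_apply, hp, Scheme.Hom.comp_apply]
        ext y
        simp only [Set.mem_image, Set.mem_preimage, exists_exists_and_eq_and]
        constructor
        · rintro ⟨z, hz, rfl⟩; exact ⟨z, hz, hc z⟩
        · rintro ⟨z, hz, he⟩
          exact ⟨z, hz, Γ.isClosedEmbedding.injective (by rw [← hc]; exact he)⟩
      rw [h2]; exact h1.preimage Γ.base.hom.continuous
    exact {}

end Groth.Agent.S4378
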