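import Groth.Statements.S4383
import Groth.Agent.Ega2Proj.SpanOn

set_option autoImplicit false
universe u
open CategoryTheory CategoryTheory.Limits AlgebraicGeometry
open EGA2

namespace Groth.Agent.S4383

/-- Let X be a quasi-compact separated scheme, f : X → Y a separated quasi-compact morphism and L an
invertible O_X-module. Suppose that for every quasi-coherent submodule J of O_X of finite type there
is n > 0 such that the canonical morphism f^*(f_*(J ⊗ L^{⊗n})) → J ⊗ L^{⊗n} is an epimorphism. Then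
L is ample relative to f. (The published statement also allows X to be a scheme whose underlying
space is Noetherian; this row assumes X quasi-compact and separated.) -/
theorem result {X Y : Scheme.{u}} [CompactSpace X] [X.IsSeparated] (f : X ⟶ Y)
    [IsSeparated f] [QuasiCompact f] (L : X.Modules) (hL : PicF.IsInvertible L)
    (h : ∀ (J : X.Modules) (i : J ⟶ Coh.structureModule X), Mono i → Coh.IsQCoh J → CohB1.IsFT J →
      ∃ n : ℕ, 0 < n ∧
        Epi ((Scheme.Modules.pullbackPushforwardAdjunction f).counit.app (CohB1.tensorMod J (CohB1.tensorPow L n)))) :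
    RelAmple.IsRelAmple f L := by
  refine ⟨inferInstance, fun V => ?_⟩
  let D : X.Opens := f ⁻¹ᵁ V.1
  have hDc : IsCompact (D : Set X) := QuasiCompact.isCompact_preimage _ V.1.2 V.2.isCompact
  refine ⟨Groth.Ega2Proj.isInvertible_restrict _ hL, isCompact_iff_compactSpace.mp hDc, fun w => ?_⟩
  obtain ⟨O, hO, hxO, hOD⟩ := exists_isAffineOpen_mem_and_subset (x := w.1) (U := D) w.2
  obtain ⟨K, hK, hKs⟩ := Groth.FlatMorOne.exists_ftIdeal_support_eq
    (⟨(O : Set X)ᶜ, O.2.isClosed_compl⟩ : TopologicalSpace.Closeds X) (by simpa using hO.isCompact)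
  have hft : CohB1.IsFT (ClSub.idealMod K) :=
    (Groth.QCohMod.isFT_iff _).2 fun U hU => by
      have : Module.Finite Γ(X, U) (K.ideal ⟨U, hU⟩) := Module.Finite.iff_fg.2 (hK ⟨U, hU⟩)
      exact Module.Finite.equiv (Groth.OmegaSheaf.idealSecEquiv K ⟨U, hU⟩).symm
  have hmono : Mono (ClSub.idealModι K) := inferInstanceAs (Mono (kernel.ι (ClSub.toSubscheme K)))
  obtain ⟨n, hn, hepi⟩ := h _ (ClSub.idealModι K) hmono (Groth.OmegaSheaf.isQCoh_idealMod K) hft
  obtain ⟨m, rfl⟩ : ∃ m, n = m + 1 := ⟨n - 1, by omega⟩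
  have hN := Groth.PicAux.isInvertible_tensorPow hL (m + 1)
  have := Groth.PicAux.isQCoh_of_isInvertible hN
  have : (CohB1.tensorMod (ClSub.idealMod K) (CohB1.tensorPow L (m + 1))).IsQuasicoherent :=
    Groth.QCohMod.isQCoh_tensorMod
  have hqs : IsQuasiSeparated (D : Set X) :=
    isQuasiSeparated_univ.of_subset (Set.subset_univ _)
  obtain ⟨t, ht, hta⟩ := Groth.Ega2Proj.exists_affine_gloc_of_spanOn hN hO hOD hxO K hKs
    (Groth.Ega2Proj.spanOn_of_epi_counit f _ V.2 hqs w.1 (hOD hxO))
  obtain ⟨φ⟩ := Groth.Ega2Proj.exists_tensorPow_restrict (L := L) D.ι (m + 1)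
  refine ⟨m, Groth.PicAux.homOfSection (φ.hom.app ⊤ t), ?_, ?_⟩
  · exact (Groth.PropsBasic.Ample.gloc_map φ.hom t).ge ht
  · change IsAffineOpen (Groth.PropsBasic.Ample.gloc _)
    rw [Groth.PropsBasic.Ample.gloc_map φ.hom t]; exact hta

end Groth.Agent.S4383
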