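import Groth.Statements.S4382
import Groth.Agent.Ega2Proj.SpanOn
import Groth.Agent.S4383

set_option autoImplicit false
universe u
open CategoryTheory CategoryTheory.Limits AlgebraicGeometry
open EGA2

namespace Groth.Agent.S4382

/-- Let X be a quasi-compact separated scheme, f : X → Y a separated quasi-compact morphism and L an
invertible O_X-module. Then L is ample relative to f if and only if for every quasi-coherent
O_X-module F of finite type there is n₀ > 0 such that for every n ≥ n₀ the canonical morphism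
f^*(f_*(F ⊗ L^{⊗n})) → F ⊗ L^{⊗n} (the counit of the adjunction between f^* and f_*) is an
epimorphism. (The published statement also allows X to be a scheme whose underlying space is
Noetherian; this row assumes X quasi-compact and separated.) -/
theorem result {X Y : Scheme.{u}} [CompactSpace X] [X.IsSeparated] (f : X ⟶ Y)
    [IsSeparated f] [QuasiCompact f] (L : X.Modules) (hL : PicF.IsInvertible L) :
    RelAmple.IsRelAmple f L ↔ ∀ F : X.Modules, Coh.IsQCoh F → CohB1.IsFT F →
      ∃ n₀ : ℕ, 0 < n₀ ∧ ∀ n : ℕ, n₀ ≤ n →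
        Epi ((Scheme.Modules.pullbackPushforwardAdjunction f).counit.app (CohB1.tensorMod F (CohB1.tensorPow L n))) := by
  constructor
  · intro hA F hF hFT
    have : F.IsQuasicoherent := hF
    have hex : ∀ x : X, ∃ (V : Y.Opens) (n₀ : ℕ), f x ∈ V ∧ ∀ n, n₀ ≤ n → ∀ (z : X) (hz : z ∈ f ⁻¹ᵁ V),
        Groth.Ega2Proj.spanOn (CohB1.tensorMod F (CohB1.tensorPow L n)) (f ⁻¹ᵁ V) z hz = ⊤ := by
      intro x
      obtain ⟨V, hV, hxV, -⟩ := exists_isAffineOpen_mem_and_subset (x := f x) (U := (⊤ : Y.Opens)) trivial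
      let D : X.Opens := f ⁻¹ᵁ V
      have hq : ((Scheme.Modules.pullback D.ι).obj F).IsQuasicoherent := Groth.QCohMod.isQCoh_pullback_obj _ F
      have : (F.restrict D.ι).IsQuasicoherent :=
        (Groth.QCohMod.isQCoh_iff_of_iso (Groth.Ega2Proj.restrictIsoPullback D.ι F)).2 hq
      obtain ⟨n₀, hn₀⟩ := Groth.Ega2Proj.exists_spans_twist (hA.2 ⟨V, hV⟩) (F.restrict D.ι)
        (Groth.QCohMod.isFT_of_iso (Groth.Ega2Proj.restrictIsoPullback D.ι F).symm
          (Groth.QCohMod.isFT_pullback D.ι F hFT))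
      refine ⟨V, n₀, hxV, fun n hn z hz => Groth.Ega2Proj.spanOn_eq_top_of_restrict _ D ?_ z hz⟩
      obtain ⟨e⟩ := Groth.Ega2Proj.exists_tensorMod_restrict (L := F) (M := CohB1.tensorPow L n) D.ι
      obtain ⟨φ⟩ := Groth.Ega2Proj.exists_tensorPow_restrict (L := L) D.ι n
      exact (hn₀ n hn).of_iso (PicGrp.tensorModIso (Iso.refl _) φ.symm ≪≫ e.symm)
    choose V n₀ hxV hspan using hex
    obtain ⟨s, hs⟩ := isCompact_univ.elim_finite_subcover (fun x => (f ⁻¹ᵁ V x : Set X))
      (fun x => (f ⁻¹ᵁ V x).isOpen) (fun x _ => Set.mem_iUnion.2 ⟨x, hxV x⟩)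
    refine ⟨s.sup n₀ + 1, Nat.succ_pos _, fun n hn => Groth.Ega2Proj.epi_counit_of_spanOn f _ fun z => ?_⟩
    obtain ⟨x, hx, hz⟩ := Set.mem_iUnion₂.1 (hs (Set.mem_univ z))
    exact ⟨V x, hz, hspan x n (((Finset.le_sup hx).trans (Nat.le_succ _)).trans hn) z hz⟩
  · intro h
    refine Groth.Agent.S4383.result f L hL fun J i _ hJ hJft => ?_
    obtain ⟨n₀, hn₀, hepi⟩ := h J hJ hJft
    exact ⟨n₀, hn₀, hepi n₀ le_rfl⟩

end Groth.Agent.S4382
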