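import Groth.Statements.S4384
import Groth.Agent.S2328
import Groth.Agent.Ega2Proj.RelAmple

set_option autoImplicit false
universe u
open CategoryTheory CategoryTheory.Limits AlgebraicGeometry
open EGA2

namespace Groth.Agent.S4384

/-- Let f : X → Y be a quasi-compact morphism and L, L' two O_X-modules ample relative to f. Then L ⊗ L'
is ample relative to f. -/
theorem result {X Y : Scheme.{u}} (f : X ⟶ Y) [QuasiCompact f] (L L' : X.Modules)
    (hL : RelAmple.IsRelAmple f L) (hL' : RelAmple.IsRelAmple f L') :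
    RelAmple.IsRelAmple f (CohB1.tensorMod L L') := by
  open Groth.Ega2Proj Groth.PropsBasic.Ample in
  refine ⟨inferInstance, fun V => ?_⟩
  open Groth.Ega2Proj Groth.PropsBasic.Ample in
  obtain ⟨e⟩ := exists_tensorMod_restrict (L := L) (M := L') (f ⁻¹ᵁ V.1).ι
  have h1 := hL.2 V
  have h2 := hL'.2 V
  have := h1.2.1
  have := Groth.PropsBasic.Ample.isSeparated_of_cover h1.1 h1.2.2
  refine Groth.Ega2Proj.isAmple_of_iso e.symm (Groth.Agent.S2328.result _ _ _ h1 h2.1 fun x => ?_)
  obtain ⟨n, s, hs, -⟩ := h2.2.2 x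
  exact ⟨n, s, hs⟩

end Groth.Agent.S4384
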