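import Groth.Statements.S4385
import Groth.Agent.Ega2Proj.RelAmpleCoprod
import Groth.Agent.S2359

set_option autoImplicit false
universe u
open CategoryTheory CategoryTheory.Limits AlgebraicGeometry
open EGA2

namespace Groth.Agent.S4385

/-- Let f : X → Y and f' : X' → Y be quasi-compact morphisms, X'' = X ⨿ X' their disjoint union with f''
: X'' → Y the morphism restricting to f and f', and L'' an O_{X''}-module whose inverse images L on
X and L' on X' (along the two coprojections) are invertible. Then L'' is ample relative to f'' if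
and only if L is ample relative to f and L' is ample relative to f'. -/
theorem result {X X' Y : Scheme.{u}} (f : X ⟶ Y) (f' : X' ⟶ Y) [QuasiCompact f] [QuasiCompact f']
    (L'' : (X ⨿ X').Modules)
    (hL : PicF.IsInvertible ((Scheme.Modules.pullback (coprod.inl : X ⟶ X ⨿ X')).obj L''))
    (hL' : PicF.IsInvertible ((Scheme.Modules.pullback (coprod.inr : X' ⟶ X ⨿ X')).obj L'')) :
    RelAmple.IsRelAmple (coprod.desc f f') L'' ↔
      RelAmple.IsRelAmple f ((Scheme.Modules.pullback (coprod.inl : X ⟶ X ⨿ X')).obj L'') ∧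
        RelAmple.IsRelAmple f' ((Scheme.Modules.pullback (coprod.inr : X' ⟶ X ⨿ X')).obj L'') := by
  have hab := isCompl_range_inl_inr X X'
  constructor
  · intro h
    have : QuasiCompact (coprod.desc f f') := h.1
    have hr : IsClosed (Set.range (coprod.inl : X ⟶ X ⨿ X')) :=
      ⟨by rw [hab.compl_eq]; exact (coprod.inr : X' ⟶ X ⨿ X').opensRange.2⟩
    have hr' : IsClosed (Set.range (coprod.inr : X' ⟶ X ⨿ X')) :=
      ⟨by rw [hab.symm.compl_eq]; exact (coprod.inl : X ⟶ X ⨿ X').opensRange.2⟩
    have := Groth.Ega2Proj.quasiCompact_of_isClosed_range (coprod.inl : X ⟶ X ⨿ X') hr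
    have := Groth.Ega2Proj.quasiCompact_of_isClosed_range (coprod.inr : X' ⟶ X ⨿ X') hr'
    have h1 := Groth.Agent.S2359.result (coprod.desc f f') (coprod.inl : X ⟶ X ⨿ X')
      (coprod.inl : X ⟶ X ⨿ X').isOpenEmbedding.isEmbedding L'' h
    have h2 := Groth.Agent.S2359.result (coprod.desc f f') (coprod.inr : X' ⟶ X ⨿ X')
      (coprod.inr : X' ⟶ X ⨿ X').isOpenEmbedding.isEmbedding L'' h
    rw [coprod.inl_desc] at h1
    rw [coprod.inr_desc] at h2
    exact ⟨h1, h2⟩
  · rintro ⟨h1, h2⟩
    refine Groth.Ega2Proj.isRelAmple_of_clopen_cover _ L'' coprod.inl coprod.inr hab ?_ ?_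
    · rw [coprod.inl_desc]
      exact Groth.Ega2Proj.isRelAmple_of_iso (Groth.Ega2Proj.restrictIsoPullback _ _).symm h1
    · rw [coprod.inr_desc]
      exact Groth.Ega2Proj.isRelAmple_of_iso (Groth.Ega2Proj.restrictIsoPullback _ _).symm h2

end Groth.Agent.S4385
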