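import Groth.Statements.S4388
import Groth.Agent.Ega2Proj.CounitGen
import Groth.Agent.S2328

set_option autoImplicit false
universe u
open CategoryTheory CategoryTheory.Limits AlgebraicGeometry
open EGA2

namespace Groth.Agent.S4388

/-- Let f : X → Y be a quasi-compact morphism, L an O_X-module ample relative to f and L' an invertible
O_X-module such that, for some n > 0, the canonical morphism f^*(f_*(L'^{⊗n})) → L'^{⊗n} (counit of
the adjunction between f^* and f_*) is an epimorphism. Then L ⊗ L' is ample relative to f. -/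
theorem result {X Y : Scheme.{u}} (f : X ⟶ Y) [QuasiCompact f] (L L' : X.Modules)
    (hL : RelAmple.IsRelAmple f L) (hL' : PicF.IsInvertible L') (n : ℕ) (hn : 0 < n)
    (hepi : Epi ((Scheme.Modules.pullbackPushforwardAdjunction f).counit.app (CohB1.tensorPow L' n))) :
    RelAmple.IsRelAmple f (CohB1.tensorMod L L') := by
  refine ⟨inferInstance, fun V => ?_⟩
  obtain ⟨m, rfl⟩ : ∃ m, n = m + 1 := ⟨n - 1, by omega⟩
  obtain ⟨e⟩ := Groth.Ega2Proj.exists_tensorMod_restrict (L := L) (M := L') (f ⁻¹ᵁ V.1).ι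
  have h1 := hL.2 V
  have := h1.2.1
  have := Groth.PropsBasic.Ample.isSeparated_of_cover h1.1 h1.2.2
  refine Groth.Ega2Proj.isAmple_of_iso e.symm (Groth.Agent.S2328.result _ _ _ h1
    (Groth.Ega2Proj.isInvertible_restrict _ hL') fun z => ?_)
  obtain ⟨t, ht⟩ := Groth.Ega2Proj.exists_mem_gloc_restrict_of_epi_counit f
    (Groth.PicAux.isInvertible_tensorPow hL' (m + 1)) V.2
    ((isQuasiSeparated_iff_quasiSeparatedSpace _ (f ⁻¹ᵁ V.1).2).mpr
      (inferInstanceAs (QuasiSeparatedSpace (f ⁻¹ᵁ V.1 : Scheme.{u})))) z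
  obtain ⟨φ⟩ := Groth.Ega2Proj.exists_tensorPow_restrict (L := L') (f ⁻¹ᵁ V.1).ι (m + 1)
  exact ⟨m, Groth.PicAux.homOfSection (φ.hom.app ⊤ t),
    (Groth.PropsBasic.Ample.gloc_map φ.hom t).ge ht⟩

end Groth.Agent.S4388
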