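import Groth.Statements.S4392
import Groth.Agent.Ega2Proj.Veronese

set_option autoImplicit false
universe u
open EGA2

namespace Groth.Agent.S4392

/-- Let S be a ring graded in nonnegative degrees which is an S_0-algebra of finite type, and M a
finitely generated graded S-module, graded in nonnegative degrees. Then there exist an integer n₁
and an integer h > 0 such that M_{n+h} = S_h M_n for every n ≥ n₁. (The published statement allows M
graded in all integer degrees; this row takes M graded in nonnegative degrees.) -/
theorem result {R A : Type u} [CommRing R] [CommRing A] [Algebra R A] (𝒜 : ℕ → Submodule R A) [GradedAlgebra 𝒜] [Algebra.FiniteType (𝒜 0) A]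
    {M : Type u} [AddCommGroup M] [Module R M] [Module A M] [IsScalarTower R A M] (ℳ : ℕ → Submodule R M) [DirectSum.Decomposition ℳ] [SetLike.GradedSMul 𝒜 ℳ] [Module.Finite A M] :
    ∃ (n₁ h : ℕ), 0 < h ∧ ∀ n : ℕ, n₁ ≤ n → ℳ (n + h) = (𝒜 h : Submodule R A) • (ℳ n : Submodule R M) := by
  exact Groth.Ega2Proj.exists_module_period 𝒜 ℳ

end Groth.Agent.S4392
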