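import Groth.Statements.S4394
import Groth.Agent.Ega2Proj.Generators

set_option autoImplicit false
universe u
open EGA2

namespace Groth.Agent.S4394

/-- Let S be a ring graded in nonnegative degrees which is an S_0-algebra of finite type. Then for every
integer n > 0 there is m₀ such that S_m ⊆ (S_+)^n for all m ≥ m₀. -/
theorem result {R A : Type u} [CommRing R] [CommRing A] [Algebra R A] (𝒜 : ℕ → Submodule R A) [GradedAlgebra 𝒜] [Algebra.FiniteType (𝒜 0) A]
    (n : ℕ) (hn : 0 < n) :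
    ∃ m₀ : ℕ, ∀ m : ℕ, m₀ ≤ m → (𝒜 m : Set A) ⊆ ((HomogeneousIdeal.irrelevant 𝒜).toIdeal ^ n : Ideal A) := by
  obtain ⟨D, -, hb⟩ := Groth.Ega2Proj.exists_bound_mem_irrelevant_pow 𝒜
    ((Groth.Ega2Proj.irrelevant_fg_iff_finiteType 𝒜).mpr inferInstance)
  exact ⟨n * D, fun m hm a ha => hb n m hm a ha⟩

end Groth.Agent.S4394
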