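import Groth.Statements.S4395
import Groth.Agent.Ega2Proj.GradedBasic

set_option autoImplicit false
universe u
open EGA2

namespace Groth.Agent.S4395

/-- Let S be a ring graded in nonnegative degrees, n₀ > 0 an integer and, for every n ≥ n₀, p_n an
additive subgroup of S_n. Then there is a graded prime ideal p of S not containing S_+ with p ∩ S_n
= p_n for all n ≥ n₀ if and only if: (1) S_m p_n ⊆ p_{m+n} for all m ≥ 0 and n ≥ n₀; (2) for m ≥ n₀,
n ≥ n₀, f ∈ S_m, g ∈ S_n, fg ∈ p_{m+n} implies f ∈ p_m or g ∈ p_n; (3) p_n ≠ S_n for at least one n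
≥ n₀. Moreover such a graded prime ideal is unique. -/
theorem result {R A : Type u} [CommRing R] [CommRing A] [Algebra R A] (𝒜 : ℕ → Submodule R A) [GradedAlgebra 𝒜]
    (n₀ : ℕ) (hn₀ : 0 < n₀) (p : ℕ → AddSubgroup A) (hp : ∀ n : ℕ, n₀ ≤ n → (p n : Set A) ⊆ 𝒜 n) :
    ((∃ 𝔭 : HomogeneousIdeal 𝒜, 𝔭.toIdeal.IsPrime ∧ ¬ HomogeneousIdeal.irrelevant 𝒜 ≤ 𝔭 ∧
        ∀ n : ℕ, n₀ ≤ n → (𝔭.toIdeal : Set A) ∩ 𝒜 n = p n) ↔
      ((∀ m n : ℕ, n₀ ≤ n → ∀ a ∈ 𝒜 m, ∀ b ∈ p n, a * b ∈ p (m + n)) ∧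
        (∀ m n : ℕ, n₀ ≤ m → n₀ ≤ n → ∀ f ∈ 𝒜 m, ∀ g ∈ 𝒜 n, f * g ∈ p (m + n) → f ∈ p m ∨ g ∈ p n) ∧
        ∃ n : ℕ, n₀ ≤ n ∧ (p n : Set A) ≠ 𝒜 n)) ∧
    ∀ 𝔭 𝔮 : HomogeneousIdeal 𝒜, 𝔭.toIdeal.IsPrime → 𝔮.toIdeal.IsPrime →
      ¬ HomogeneousIdeal.irrelevant 𝒜 ≤ 𝔭 → ¬ HomogeneousIdeal.irrelevant 𝒜 ≤ 𝔮 →
      (∀ n : ℕ, n₀ ≤ n → (𝔭.toIdeal : Set A) ∩ 𝒜 n = p n) → (∀ n : ℕ, n₀ ≤ n → (𝔮.toIdeal : Set A) ∩ 𝒜 n = p n) →
      𝔭 = 𝔮 := by
  classical
  constructor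
  · constructor
    · rintro ⟨𝔭, hpr, hni, hp'⟩
      have iff : ∀ n, n₀ ≤ n → ∀ a, a ∈ p n ↔ a ∈ 𝔭.toIdeal ∧ a ∈ 𝒜 n := fun n hn a => by
        rw [← SetLike.mem_coe, ← hp' n hn]; rfl
      refine ⟨fun m n hn a ha b hb => ?_, fun m n hm hn f hf g hg hfg => ?_, ?_⟩
      · rw [iff _ (by omega)]
        exact ⟨Ideal.mul_mem_left _ _ ((iff n hn b).mp hb).1, SetLike.mul_mem_graded ha ((iff n hn b).mp hb).2⟩
      · rcases hpr.mem_or_mem ((iff _ (by omega) _).mp hfg).1 with h | h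
        · exact Or.inl ((iff m hm f).mpr ⟨h, hf⟩)
        · exact Or.inr ((iff n hn g).mpr ⟨h, hg⟩)
      · obtain ⟨d, hd, b, hb, hbp⟩ : ∃ d, 0 < d ∧ ∃ b ∈ 𝒜 d, b ∉ 𝔭.toIdeal := by
          by_contra! h
          exact hni fun z hz => Groth.Ega2Proj.irrelevant_le_ideal 𝒜 h hz
        refine ⟨n₀ • d, Nat.le_mul_of_pos_right _ hd, fun h => hbp ?_⟩
        refine hpr.mem_of_pow_mem n₀ ?_
        have hm : b ^ n₀ ∈ (p (n₀ • d) : Set A) := h ▸ SetLike.pow_mem_graded n₀ hb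
        exact ((iff _ (Nat.le_mul_of_pos_right _ hd) _).mp hm).1
    · rintro ⟨h1, h2, k, hk, hne⟩
      obtain ⟨f, hfk, hfp⟩ : ∃ f ∈ 𝒜 k, f ∉ p k := by
        by_contra! h
        exact hne (Set.Subset.antisymm (hp k hk) fun a ha => h a ha)
      let I : Ideal A :=
        { carrier := {x | ∀ m, (DirectSum.decompose 𝒜 x m : A) * f ∈ p (m + k)}
          zero_mem' := fun m => by simp
          add_mem' := fun {x y} hx hy m => by
            rw [DirectSum.decompose_add, DirectSum.add_apply, Submodule.coe_add, add_mul]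
            exact add_mem (hx m) (hy m)
          smul_mem' := fun r x hx m => by
            rw [smul_eq_mul, DirectSum.decompose_mul, DirectSum.coe_mul_apply, Finset.sum_mul]
            refine sum_mem fun ij hij => ?_
            rw [Finset.mem_filter] at hij
            rw [mul_assoc, ← hij.2, add_assoc]
            exact h1 ij.1 (ij.2 + k) (by omega) _ (SetLike.coe_mem _) _ (hx ij.2) }
      have hI : ∀ m, ∀ a ∈ 𝒜 m, (a ∈ I ↔ a * f ∈ p (m + k)) := fun m a ha => by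
        refine ⟨fun h => ?_, fun h j => ?_⟩
        · have := h m
          rwa [DirectSum.decompose_of_mem_same 𝒜 ha] at this
        · rcases eq_or_ne m j with rfl | hj
          · rwa [DirectSum.decompose_of_mem_same 𝒜 ha]
          · rw [DirectSum.decompose_of_mem_ne 𝒜 ha hj, zero_mul]; exact zero_mem _
      have hIh : I.IsHomogeneous 𝒜 := fun i x hx => (hI i _ (SetLike.coe_mem _)).mpr (hx i)
      have hprime : I.IsPrime := by
        refine hIh.isPrime_of_homogeneous_mem_or_mem (fun htop => hfp ?_) fun {x y} ⟨i, hx⟩ ⟨j, hy⟩ hxy => ?_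
        · have := (hI 0 1 (SetLike.GradedOne.one_mem)).mp (htop ▸ Submodule.mem_top)
          simpa using this
        · have h3 := h1 k (i + j + k) (by omega) f hfk _ ((hI _ _ (SetLike.mul_mem_graded hx hy)).mp hxy)
          have e1 : f * (x * y * f) = (x * f) * (y * f) := by ring
          have e2 : k + (i + j + k) = (i + k) + (j + k) := by omega
          rw [e1, e2] at h3
          exact (h2 _ _ (by omega) (by omega) _ (SetLike.mul_mem_graded hx hfk) _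
            (SetLike.mul_mem_graded hy hfk) h3).imp (hI i x hx).mpr (hI j y hy).mpr
      refine ⟨⟨I, hIh⟩, hprime, fun hle => ?_, fun n hn => ?_⟩
      · have hff : f * f ∈ p (k + k) :=
          (hI k f hfk).mp (hle (HomogeneousIdeal.mem_irrelevant_of_mem 𝒜 (by omega) hfk))
        exact hfp ((h2 k k hk hk f hfk f hfk hff).elim id id)
      · ext a
        constructor
        · rintro ⟨haI, han⟩
          exact (h2 n k hn hk a han f hfk ((hI n a han).mp haI)).resolve_right hfp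
        · intro ha
          refine ⟨(hI n a (hp n hn ha)).mpr ?_, hp n hn ha⟩
          have := h1 k n hn f hfk a ha
          rwa [mul_comm, add_comm] at this
  · intro 𝔭 𝔮 hP hQ hPn hQn hPp hQp
    suffices h : ∀ P Q : HomogeneousIdeal 𝒜, Q.toIdeal.IsPrime → ¬ HomogeneousIdeal.irrelevant 𝒜 ≤ Q →
        (∀ n : ℕ, n₀ ≤ n → (P.toIdeal : Set A) ∩ 𝒜 n = p n) → (∀ n : ℕ, n₀ ≤ n → (Q.toIdeal : Set A) ∩ 𝒜 n = p n) →
        P.toIdeal ≤ Q.toIdeal by
      exact HomogeneousIdeal.ext (le_antisymm (h 𝔭 𝔮 hQ hQn hPp hQp) (h 𝔮 𝔭 hP hPn hQp hPp))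
    intro P Q hQpr hQn' hP' hQ' a ha
    rw [← DirectSum.sum_support_decompose 𝒜 a]
    refine Ideal.sum_mem _ fun m _ => ?_
    obtain ⟨d, hd, b, hb, hbq⟩ : ∃ d, 0 < d ∧ ∃ b ∈ 𝒜 d, b ∉ Q.toIdeal := by
      by_contra! h
      exact hQn' fun z hz => Groth.Ega2Proj.irrelevant_le_ideal 𝒜 h hz
    have hdeg : (DirectSum.decompose 𝒜 a m : A) * b ^ n₀ ∈ 𝒜 (m + n₀ • d) :=
      SetLike.mul_mem_graded (SetLike.coe_mem _) (SetLike.pow_mem_graded _ hb)
    have hle : n₀ ≤ m + n₀ • d := le_trans (Nat.le_mul_of_pos_right _ hd) (Nat.le_add_left _ _)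
    have hmem : (DirectSum.decompose 𝒜 a m : A) * b ^ n₀ ∈ (P.toIdeal : Set A) ∩ 𝒜 (m + n₀ • d) :=
      ⟨Ideal.mul_mem_right _ _ (P.isHomogeneous m ha), hdeg⟩
    rw [hP' _ hle, ← hQ' _ hle] at hmem
    exact (hQpr.mem_or_mem hmem.1).resolve_right fun h => hbq (hQpr.mem_of_pow_mem _ h)

end Groth.Agent.S4395
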