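import Groth.Statements.S4396
import Groth.Agent.Ega2Proj.GradedBasic
import Mathlib.RingTheory.GradedAlgebra.HomogeneousLocalization

set_option autoImplicit false
universe u
open AlgebraicGeometry
open EGA2

namespace Groth.Agent.S4396

/-- Let S be a ring graded in nonnegative degrees, d > 0, and S^{(d)} the graded ring whose degree-n
part is S_{nd} (given here as any graded ring S' with an injective algebra homomorphism φ : S' → S
carrying S'_n onto S_{nd} for every n); let f' ∈ S'_1, with image f = φ(f') ∈ S_d. Then there is a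
ring isomorphism between the degree-zero homogeneous localization S_(f) and the quotient S'/(f' -
1)S', whose inverse sends the class of an element x of S'_n to the fraction φ(x)/f^n. (The module
part of the published statement is not stated here.) -/
theorem result {R A : Type u} [CommRing R] [CommRing A] [Algebra R A] (𝒜 : ℕ → Submodule R A) [GradedAlgebra 𝒜]
    {B : Type u} [CommRing B] [Algebra R B] (ℬ : ℕ → Submodule R B) [GradedAlgebra ℬ]
    (d : ℕ) (hd : 0 < d) (φ : B →ₐ[R] A) (hφ : Function.Injective φ)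
    (hdeg : ∀ n : ℕ, Submodule.map φ.toLinearMap (ℬ n) = 𝒜 (n * d)) (f' : B) (hf' : f' ∈ ℬ 1) :
    ∃ e : HomogeneousLocalization.Away 𝒜 (φ f') ≃+* B ⧸ Ideal.span {f' - 1},
      ∀ (n : ℕ) (x : B), x ∈ ℬ n →
        (e.symm (Ideal.Quotient.mk (Ideal.span {f' - 1}) x)).val =
          Localization.mk (φ x) ⟨φ f' ^ n, pow_mem (Submonoid.mem_powers (φ f')) n⟩ := by
  classical
  set f := φ f' with hfdef
  have hf : f ∈ 𝒜 d := by simpa using (hdeg 1).le ⟨f', hf', rfl⟩
  let S := Localization.Away f
  let u : S := IsLocalization.Away.invSelf f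
  have hu : algebraMap A S f * u = 1 := IsLocalization.Away.mul_invSelf f
  have hmk : ∀ (n : ℕ) (a : A), Localization.mk a ⟨f ^ n, pow_mem (Submonoid.mem_powers f) n⟩ =
      algebraMap A S a * u ^ n := fun n a => by
    rw [Localization.mk_eq_mk', IsLocalization.mk'_eq_iff_eq_mul]
    change algebraMap A S a = algebraMap A S a * u ^ n * algebraMap A S (f ^ n)
    rw [map_pow, mul_assoc, ← mul_pow, mul_comm u, hu, one_pow, mul_one]
  let gmap : ∀ n, ℬ n →+ S := fun n =>
    { toFun := fun b => algebraMap A S (φ b) * u ^ n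
      map_zero' := by simp
      map_add' := fun a b => by rw [Submodule.coe_add, map_add, map_add, add_mul] }
  have gone : gmap 0 (GradedMonoid.GOne.one (A := fun i => ℬ i)) = 1 := by
    show algebraMap A S (φ (1 : B)) * u ^ 0 = 1
    simp
  have gmul : ∀ {i j} (a : ℬ i) (b : ℬ j), gmap (i + j) (GradedMonoid.GMul.mul (A := fun i => ℬ i) a b) = gmap i a * gmap j b :=
    fun {i j} a b => by
      show algebraMap A S (φ ((a : B) * b)) * u ^ (i + j) = algebraMap A S (φ a) * u ^ i * (algebraMap A S (φ b) * u ^ j)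
      rw [map_mul, map_mul, pow_add]; ring
  let Ψ : B →+* S := (DirectSum.toSemiring gmap gone gmul).comp
    (DirectSum.decomposeRingEquiv ℬ).toRingHom
  have hΨ : ∀ (n : ℕ) (x : B), x ∈ ℬ n → Ψ x = algebraMap A S (φ x) * u ^ n := fun n x hx => by
    change DirectSum.toSemiring gmap gone gmul (DirectSum.decompose ℬ x) = _
    rw [DirectSum.decompose_of_mem ℬ hx, DirectSum.toSemiring_of]
    rfl
  have pre : ∀ (n : ℕ) (a : A), a ∈ 𝒜 (n * d) → ∃ b ∈ ℬ n, φ b = a := fun n a ha => by
    have h : a ∈ Submodule.map φ.toLinearMap (ℬ n) := (hdeg n).ge ha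
    exact h
  let val : HomogeneousLocalization.Away 𝒜 f →+* S := algebraMap _ _
  have hrange : ∀ x, Ψ x ∈ val.range := fun x => by
    rw [← DirectSum.sum_support_decompose ℬ x, map_sum]
    refine sum_mem fun n _ => ?_
    rw [hΨ n _ (SetLike.coe_mem _)]
    refine ⟨HomogeneousLocalization.Away.mk 𝒜 hf n (φ (DirectSum.decompose ℬ x n : B))
      ((hdeg n).le ⟨_, SetLike.coe_mem _, rfl⟩), ?_⟩
    rw [← hmk]
    rfl
  let eR := RingEquiv.ofBijective val.rangeRestrict
    ⟨fun a b h => HomogeneousLocalization.val_injective _ (congrArg Subtype.val h),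
      val.rangeRestrict_surjective⟩
  let Θ : B →+* HomogeneousLocalization.Away 𝒜 f := eR.symm.toRingHom.comp (Ψ.codRestrict val.range hrange)
  have hΘ : ∀ x, (Θ x).val = Ψ x := fun x =>
    congrArg Subtype.val (eR.apply_symm_apply (Ψ.codRestrict val.range hrange x))
  have hsurj : Function.Surjective Θ := fun z => by
    obtain ⟨n, a, ha, rfl⟩ := HomogeneousLocalization.Away.mk_surjective 𝒜 hf z
    obtain ⟨b, hb, rfl⟩ := pre n a ha
    refine ⟨b, HomogeneousLocalization.val_injective _ ?_⟩
    rw [hΘ, hΨ n b hb, HomogeneousLocalization.Away.val_mk, hmk]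
  have hker : RingHom.ker Θ = Ideal.span {f' - 1} := by
    refine le_antisymm (fun x hx => ?_) ?_
    · have h0 : Ψ x = 0 := by rw [← hΘ, RingHom.mem_ker.mp hx, HomogeneousLocalization.val_zero]
      let s := (DirectSum.decompose ℬ x).support
      let N := s.sup id
      have h1 : algebraMap A S (∑ n ∈ s, f ^ (N - n) * φ (DirectSum.decompose ℬ x n : B)) = 0 := by
        rw [← mul_zero (algebraMap A S (f ^ N)), ← h0]
        conv_rhs => rw [← DirectSum.sum_support_decompose ℬ x, map_sum, Finset.mul_sum]
        rw [map_sum]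
        refine Finset.sum_congr rfl fun n hn => ?_
        have hnN : n ≤ N := Finset.le_sup (f := id) hn
        rw [hΨ n _ (SetLike.coe_mem _), map_mul, map_pow, map_pow]
        conv_rhs => rw [← Nat.sub_add_cancel hnN, pow_add]
        calc _ = algebraMap A S f ^ (N - n) * algebraMap A S (φ _) * (algebraMap A S f * u) ^ n := by
              rw [hu, one_pow, mul_one]
          _ = _ := by rw [mul_pow]; ring
      rw [IsLocalization.map_eq_zero_iff (Submonoid.powers f) S] at h1
      obtain ⟨⟨_, K, rfl⟩, hK⟩ := h1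
      have h2 : f' ^ K * ∑ n ∈ s, f' ^ (N - n) * (DirectSum.decompose ℬ x n : B) = 0 := hφ (by
        simp only [map_mul, map_sum, map_pow, map_zero]; exact hK)
      have hq : Ideal.Quotient.mk (Ideal.span {f' - 1}) f' = 1 :=
        Ideal.Quotient.eq.mpr (Ideal.mem_span_singleton_self _)
      have h3 := congrArg (Ideal.Quotient.mk (Ideal.span {f' - 1})) h2
      simp only [map_mul, map_pow, map_sum, hq, one_pow, one_mul, map_zero] at h3
      rw [← map_sum, DirectSum.sum_support_decompose] at h3
      exact Ideal.Quotient.eq_zero_iff_mem.mp h3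
    · rw [Ideal.span_le, Set.singleton_subset_iff]
      refine RingHom.mem_ker.mpr (HomogeneousLocalization.val_injective _ ?_)
      rw [hΘ, HomogeneousLocalization.val_zero, map_sub, map_one, hΨ 1 f' hf', pow_one, hu, sub_self]
  refine ⟨(RingHom.quotientKerEquivOfSurjective hsurj).symm.trans (Ideal.quotEquivOfEq hker), fun n x hx => ?_⟩
  rw [hmk, ← hΨ n x hx, ← hΘ]
  congr 1

end Groth.Agent.S4396
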