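import Groth.Statements.S4402
import Groth.Agent.Ega2Proj.SpansFinite
import Groth.Agent.PicAux.Powers

set_option autoImplicit false
universe u
open CategoryTheory CategoryTheory.Limits AlgebraicGeometry
open EGA2

namespace Groth.Agent.S4402

/-- Consider a ring S graded in nonnegative degrees, and assume its irrelevant ideal S_+ is generated by
a finite set of degree-one elements; put X = Proj S. Given any O_X-module F that is quasi-coherent
and of finite type, one can find n₀ so that whenever n ≥ n₀, some k admits an epimorphism onto F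
from the direct sum of k copies of O_X(-n). -/
theorem result {R A : Type u} [CommRing R] [CommRing A] [Algebra R A] (𝒜 : ℕ → Submodule R A) [GradedAlgebra 𝒜]
    (s : Finset A) (hs1 : ∀ f ∈ s, f ∈ 𝒜 1)
    (hs : (HomogeneousIdeal.irrelevant 𝒜).toIdeal = Ideal.span (s : Set A))
    (F : (Proj 𝒜).Modules) (hF : Coh.IsQCoh F) (hFT : CohB1.IsFT F) :
    ∃ n₀ : ℕ, ∀ n : ℕ, n₀ ≤ n →
      ∃ (k : ℕ) (p : (∐ fun _ : Fin k => Twist.twist 𝒜 (-(n : ℤ))) ⟶ F), Epi p := by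
  have : F.IsQuasicoherent := hF
  obtain ⟨n₀, h⟩ := Groth.Ega2Proj.exists_epi_twistBy s hs1 hs.le F hFT
  have hgen : (HomogeneousIdeal.irrelevant 𝒜).toIdeal ≤ Ideal.span (𝒜 1 : Set A) :=
    hs.le.trans (Ideal.span_mono fun f hf => hs1 f hf)
  refine ⟨n₀, fun n hn => ?_⟩
  obtain ⟨k, p, hp⟩ := h n hn
  let L := Twist.twist 𝒜 (-(n : ℤ))
  have hL := Groth.Ega2Proj.isInvertible_twist (𝒜 := 𝒜) hgen (-(n : ℤ))
  have : (DCoh.tensorRightMod L).IsEquivalence :=
    Groth.PicAux.isEquivalence_tensorRightMod_of_isInvertible hL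
  obtain ⟨e0⟩ := Groth.Ega2Proj.nonempty_tensor_iso (𝒜 := 𝒜) hgen (n : ℤ) (-(n : ℤ))
  obtain ⟨a, -⟩ := Groth.PicAux.exists_associator F (Twist.twist 𝒜 (n : ℤ)) L
  obtain ⟨lu, -⟩ := Groth.PicAux.exists_leftUnitor L
  obtain ⟨t0⟩ : Nonempty (Twist.twist 𝒜 ((n : ℤ) + -(n : ℤ)) ≅ Coh.structureModule (Proj 𝒜)) := by
    rw [add_neg_cancel]
    obtain ⟨e⟩ := Groth.Ega2Proj.nonempty_pow_iso (𝒜 := 𝒜) hgen 0
    exact ⟨e⟩
  let tgt : (DCoh.tensorRightMod L).obj (Twist.twistBy 𝒜 F (n : ℤ)) ≅ F :=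
    a ≪≫ PicGrp.tensorModIso (Iso.refl F) (e0 ≪≫ t0) ≪≫ SecTwist.unitorR F
  let src : (∐ fun _ : Fin k => L) ≅ ∐ fun _ : Fin k => (DCoh.tensorRightMod L).obj (Coh.structureModule (Proj 𝒜)) :=
    Sigma.mapIso fun _ => lu.symm
  refine ⟨k, (src.hom ≫ sigmaComparison (DCoh.tensorRightMod L) (fun _ : Fin k => Coh.structureModule (Proj 𝒜))) ≫
    (DCoh.tensorRightMod L).map p ≫ tgt.hom, ?_⟩
  have := Functor.map_epi (DCoh.tensorRightMod L) p
  infer_instance

end Groth.Agent.S4402
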