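import Groth.Statements.S4403
import Groth.Agent.Ega2Proj.DomTwist

set_option autoImplicit false
universe u
open CategoryTheory CategoryTheory.Limits AlgebraicGeometry
open EGA2

namespace Groth.Agent.S4403

/-- Let φ : S' → S be a homomorphism of rings graded in nonnegative degrees such that the irrelevant
ideal of S' is generated by its degree-one elements, G(φ) ⊆ Proj S the open on which the morphism Φ
: G(φ) → Proj S' induced by φ is defined (Φ is characterised by its restrictions to the standard
charts), and n an integer. Then Φ^*(O(n)) is isomorphic to the restriction of O(n) from Proj S to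
G(φ). (Existence of an isomorphism only; the published one is the canonical map ν.) -/
theorem result {R A : Type u} [CommRing R] [CommRing A] [Algebra R A] (𝒜 : ℕ → Submodule R A) [GradedAlgebra 𝒜]
    {B : Type u} [CommRing B] [Algebra R B] (ℬ : ℕ → Submodule R B) [GradedAlgebra ℬ] (φ : 𝒜 →+*ᵍ ℬ)
    (hgen : (HomogeneousIdeal.irrelevant 𝒜).toIdeal = Ideal.span (𝒜 1 : Set A))
    (p : (PCone.dom φ : Scheme.{u}) ⟶ Proj 𝒜)
    (hp : ∀ (d : ℕ) (f : A) (hd : 0 < d) (hf : f ∈ 𝒜 d),
        PCone.chart φ hf hd ≫ p =
          Spec.map (CommRingCat.ofHom (HomogeneousLocalization.Away.map φ f)) ≫ Proj.awayι 𝒜 f hf hd)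
    (n : ℤ) :
    Nonempty ((Scheme.Modules.pullback p).obj (Twist.twist 𝒜 n) ≅ (Twist.twist ℬ n).restrict (PCone.dom φ).ι) := by
  exact Groth.Ega2Proj.nonempty_pullback_iso_restrict p hp hgen.le n

end Groth.Agent.S4403
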