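import Groth.Statements.S4405
import Groth.Agent.Ega2Proj.GradedBasic

set_option autoImplicit false
universe u
open EGA2

namespace Groth.Agent.S4405

/-- Let S be a ring graded in nonnegative degrees and E any subset of the irrelevant ideal S_+. Then the
intersection of S_+ with the vanishing ideal of the closed subset V_+(E) of Proj S equals the
intersection of S_+ with the radical of the graded ideal generated by E (the smallest homogeneous
ideal containing E). -/
theorem result {R A : Type u} [CommRing R] [CommRing A] [Algebra R A] (𝒜 : ℕ → Submodule R A) [GradedAlgebra 𝒜]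
    (E : Set A) (hE : E ⊆ (HomogeneousIdeal.irrelevant 𝒜).toIdeal) :
    (HomogeneousIdeal.irrelevant 𝒜).toIdeal ⊓
        (ProjectiveSpectrum.vanishingIdeal (ProjectiveSpectrum.zeroLocus 𝒜 E)).toIdeal =
      (HomogeneousIdeal.irrelevant 𝒜).toIdeal ⊓ (Ideal.homogeneousHull 𝒜 (Ideal.span E)).toIdeal.radical := by
  set I := Ideal.homogeneousHull 𝒜 (Ideal.span E)
  ext f
  simp only [Submodule.mem_inf, and_congr_right_iff]
  intro hf
  have hv : ∀ (T : Set (ProjectiveSpectrum 𝒜)) (a : A), a ∈ (ProjectiveSpectrum.vanishingIdeal T).toIdeal ↔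
      ∀ x ∈ T, a ∈ x.asHomogeneousIdeal := fun T a => ProjectiveSpectrum.mem_vanishingIdeal T a
  rw [Groth.Ega2Proj.mem_radical_iff_forall_point 𝒜 hf I.isHomogeneous, hv]
  refine forall_congr' fun x => imp_congr_left ?_
  rw [ProjectiveSpectrum.mem_zeroLocus]
  constructor
  · intro h
    exact Ideal.homogeneousHull_mono 𝒜 (Ideal.span_le.mpr h) |>.trans
      (le_of_eq (HomogeneousIdeal.homogeneousHull_toIdeal_eq_self _))
  · intro h e he
    exact h (Ideal.le_toIdeal_homogeneousHull 𝒜 _ (Ideal.subset_span he))

end Groth.Agent.S4405
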