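import Groth.Statements.S4406
import Groth.Agent.Ega2Proj.TwistBaseChange

set_option autoImplicit false
universe u
open CategoryTheory CategoryTheory.Limits AlgebraicGeometry
open EGA2

namespace Groth.Agent.S4406

/-- The twisting sheaves under base change: let A' → A be a ring homomorphism, S' a graded A'-algebra
and S = S' ⊗_{A'} A with the induced grading (here: any graded A-algebra S with a graded
homomorphism φ : S' → S exhibiting S as the base change of S'), and Φ : Proj S → Proj S' the induced
morphism. Then for every integer n the O-module Φ^*(O(n)) is isomorphic to O(n) on Proj S.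
(Existence of an isomorphism only; the published identification is canonical. The published
statement also covers a general graded S'-module M'; this row states the twisting sheaves only.) -/
theorem result {R R' A B : Type u} [CommRing R'] [CommRing R] [Algebra R' R]
    [CommRing B] [Algebra R' B] (ℬ : ℕ → Submodule R' B) [GradedAlgebra ℬ]
    [CommRing A] [Algebra R A] [Algebra R' A] [IsScalarTower R' R A] (𝒜 : ℕ → Submodule R A) [GradedAlgebra 𝒜]
    [Algebra B A] [IsScalarTower R' B A] [Algebra.IsPushout R' R B A]
    (φ : ℬ →+*ᵍ 𝒜) (hφA : ∀ b : B, φ b = algebraMap B A b)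
    (hφ : HomogeneousIdeal.irrelevant 𝒜 ≤ (HomogeneousIdeal.irrelevant ℬ).map φ) (n : ℤ) :
    Nonempty ((Scheme.Modules.pullback (Proj.map φ hφ)).obj (Twist.twist ℬ n) ≅ Twist.twist 𝒜 n) := by
  exact Groth.Ega2Proj.nonempty_pullback_twist_iso φ hφ hφA n

end Groth.Agent.S4406
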