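import Groth.Statements.S4407
import Groth.Agent.QCohMod.QCQS
import Groth.Agent.QCohMod.FTCriterion
import Groth.Agent.PropsBasic.QuasiAffineSection

set_option autoImplicit false
universe u
open CategoryTheory CategoryTheory.Limits AlgebraicGeometry
open EGA2

namespace Groth.Agent.S4407

/-- (a) ⇒ (e): let X be a quasi-affine scheme. Then every quasi-coherent O_X-module is generated by its
global sections (it is a quotient of a free O_X-module on some index set). -/
theorem result (X : Scheme.{u}) [X.IsQuasiAffine] (F : X.Modules)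
    (hF : Coh.IsQCoh F) : Curv2.IsGloballyGenerated F := by
  have : F.IsQuasicoherent := hF
  refine ⟨(Γ(F, (⊤ : X.Opens)) : Type u), Groth.QCohMod.freeHom F id, Groth.QCohMod.epi_freeHom F id fun x => eq_top_iff.mpr fun t _ => ?_⟩
  obtain ⟨h, hh, hx, -⟩ := Groth.PropsBasic.Ample.exists_affine_basicOpen_of_finite (⊤ : X.Opens) {x} (fun _ _ => trivial)
  have hx' := hx x (Finset.mem_singleton_self x)
  obtain ⟨a, s, ha, hs⟩ := Groth.QCohMod.exists_smul_germ_eq F hh x hx' t
  obtain ⟨n, s', hs'⟩ := Groth.QCohMod.exists_pow_smul_eq_res_of_qcqs F (W := (⊤ : X.Opens))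
    isCompact_univ isQuasiSeparated_univ h s
  have h1 := congrArg (Groth.QCohMod.germ F x hx') hs'
  rw [Groth.QCohMod.germ_res, Groth.QCohMod.germ_smul, ← hs, smul_smul] at h1
  have hu : IsUnit (X.presheaf.germ _ x hx' (Groth.QCohMod.resFun X (X.basicOpen_le h) h ^ n) *
      X.presheaf.germ _ x hx' a) :=
    (((RingedSpace.isUnit_res_basicOpen _ h).pow n).map _).mul ((Scheme.mem_basicOpen X a x hx').mp ha)
  rw [← Submodule.smul_mem_iff_of_isUnit _ hu]
  erw [← h1]
  exact Submodule.subset_span ⟨s', rfl⟩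

end Groth.Agent.S4407
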