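import Groth.Statements.S4408
import Groth.Agent.Ega2Proj.Spans
import Groth.Agent.Ega2Proj.QuasiAffineAmple

set_option autoImplicit false
universe u
open CategoryTheory CategoryTheory.Limits AlgebraicGeometry
open EGA2

namespace Groth.Agent.S4408

/-- (e') ⇒ (a): let X be a quasi-compact separated scheme such that every quasi-coherent submodule of
finite type of O_X is generated by its global sections. Then X is quasi-affine. (The published
statement also allows X to be a scheme whose underlying space is Noetherian; this row assumes it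
quasi-compact and separated.) -/
theorem result (X : Scheme.{u}) [CompactSpace X] [X.IsSeparated]
    (h : ∀ (J : X.Modules) (i : J ⟶ Coh.structureModule X), Mono i → Coh.IsQCoh J → CohB1.IsFT J →
      Curv2.IsGloballyGenerated J) :
    X.IsQuasiAffine := by
  refine Groth.Ega2Proj.isQuasiAffine_of_isAmple_structure
    (Groth.Ega2Proj.isAmple_of_spans_idealMod (Groth.Ega2Proj.isInvertible_structure X) fun I hI => ⟨0, ?_⟩)
  have hft : CohB1.IsFT (ClSub.idealMod I) :=
    (Groth.QCohMod.isFT_iff _).2 fun U hU => by
      have : Module.Finite Γ(X, U) (I.ideal ⟨U, hU⟩) := Module.Finite.iff_fg.2 (hI ⟨U, hU⟩)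
      exact Module.Finite.equiv (Groth.OmegaSheaf.idealSecEquiv I ⟨U, hU⟩).symm
  have hmono : Mono (ClSub.idealModι I) := inferInstanceAs (Mono (kernel.ι (ClSub.toSubscheme I)))
  obtain ⟨ι, p, hp⟩ := h _ (ClSub.idealModι I) hmono (Groth.OmegaSheaf.isQCoh_idealMod I) hft
  have : Epi (show (∐ fun _ : ι => Coh.structureModule X) ⟶ ClSub.idealMod I from p) := hp
  have hs : Groth.Ega2Proj.SpansStalks (ClSub.idealMod I) :=
    Groth.Ega2Proj.spansStalks_of_epi_free (show (∐ fun _ : ι => Coh.structureModule X) ⟶ ClSub.idealMod I from p)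
  obtain ⟨e⟩ := Groth.PicAux.tensorPow_structure (X := X) (0 + 1)
  exact hs.of_iso ((SecTwist.unitorR _).symm ≪≫ PicGrp.tensorModIso (Iso.refl _) e.symm)

end Groth.Agent.S4408
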