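import Groth.Statements.S4409
import Groth.Agent.Ega2Proj.SpanOn
import Groth.Agent.S4407

set_option autoImplicit false
universe u
open CategoryTheory CategoryTheory.Limits AlgebraicGeometry
open EGA2

namespace Groth.Agent.S4409

/-- (a) ⇔ (d): let f : X → Y be a quasi-compact morphism. Then f is quasi-affine (the preimage of every
affine open of Y is a quasi-affine scheme) if and only if f is separated and, for every
quasi-coherent O_X-module F, the canonical morphism f^*(f_*(F)) → F (counit of the adjunction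
between f^* and f_*) is an epimorphism. -/
theorem result {X Y : Scheme.{u}} (f : X ⟶ Y) [QuasiCompact f] :
    Mor2.IsQuasiAffine f ↔ (IsSeparated f ∧ ∀ F : X.Modules, Coh.IsQCoh F →
      Epi ((Scheme.Modules.pullbackPushforwardAdjunction f).counit.app F)) := by
  constructor
  · intro hf
    refine ⟨Groth.Ega2Proj.isSeparated_of_forall_quasiAffine f hf.2, fun F hF =>
      Groth.Ega2Proj.epi_counit_of_spanOn f F fun z => ?_⟩
    obtain ⟨V, hV, hzV, -⟩ := exists_isAffineOpen_mem_and_subset (x := f z) (U := (⊤ : Y.Opens)) trivial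
    have := hf.2 V hV
    have : F.IsQuasicoherent := hF
    have : ((Scheme.Modules.pullback (f ⁻¹ᵁ V).ι).obj F).IsQuasicoherent :=
      Groth.QCohMod.isQCoh_pullback_obj _ F
    obtain ⟨ι, p, hp⟩ := Groth.Agent.S4407.result _ (F.restrict (f ⁻¹ᵁ V).ι)
      ((Groth.QCohMod.isQCoh_iff_of_iso (Groth.Ega2Proj.restrictIsoPullback (f ⁻¹ᵁ V).ι F)).2 ‹_›)
    have : Epi (show (∐ fun _ : ι => Coh.structureModule (f ⁻¹ᵁ V : Scheme.{u})) ⟶ _ from p) := hp
    exact ⟨V, hzV, Groth.Ega2Proj.spanOn_eq_top_of_restrict F (f ⁻¹ᵁ V)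
      (Groth.Ega2Proj.spansStalks_of_epi_free
        (show (∐ fun _ : ι => Coh.structureModule (f ⁻¹ᵁ V : Scheme.{u})) ⟶ _ from p)) z hzV⟩
  · rintro ⟨hsep, h⟩
    refine ⟨inferInstance, fun V hV => ?_⟩
    let D : X.Opens := f ⁻¹ᵁ V
    have hDc : IsCompact (D : Set X) := QuasiCompact.isCompact_preimage _ V.2 hV.isCompact
    have : CompactSpace (D : Scheme.{u}) := isCompact_iff_compactSpace.mp hDc
    have : IsAffine (V : Scheme.{u}) := hV
    have : IsSeparated (f ∣_ V) := IsZariskiLocalAtTarget.restrict hsep V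
    have : (D : Scheme.{u}).IsSeparated := ⟨by rw [← terminal.comp_from (f ∣_ V)]; infer_instance⟩
    have hqs : IsQuasiSeparated (D : Set X) :=
      (isQuasiSeparated_iff_quasiSeparatedSpace _ D.2).mpr
        (inferInstanceAs (QuasiSeparatedSpace (D : Scheme.{u})))
    refine Scheme.IsQuasiAffine.of_forall_exists_mem_basicOpen _ fun w => ?_
    obtain ⟨O, hO, hxO, hOD⟩ := exists_isAffineOpen_mem_and_subset (x := w.1) (U := D) w.2
    let Z : TopologicalSpace.Closeds X := ⟨(O : Set X)ᶜ, O.2.isClosed_compl⟩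
    let K := Scheme.IdealSheafData.vanishingIdeal Z
    have hN := Groth.Ega2Proj.isInvertible_structure X
    have := Groth.PicAux.isQCoh_of_isInvertible hN
    have hq : (CohB1.tensorMod (ClSub.idealMod K) (Coh.structureModule X)).IsQuasicoherent :=
      Groth.QCohMod.isQCoh_tensorMod
    have := h _ hq
    obtain ⟨t, ht, hta⟩ := Groth.Ega2Proj.exists_affine_gloc_of_spanOn hN hO hOD hxO K
      (Scheme.IdealSheafData.coe_support_vanishingIdeal _)
      (Groth.Ega2Proj.spanOn_of_epi_counit f _ hV hqs w.1 (hOD hxO))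
    obtain ⟨e⟩ := Groth.PicAux.pullback_structure_iso D.ι
    let φ := Groth.Ega2Proj.restrictIsoPullback D.ι (Coh.structureModule X) ≪≫ e
    refine ⟨Groth.PicAux.toFun (φ.hom.app ⊤ t), ?_, ?_⟩ <;>
      rw [← Groth.Ega2Proj.gloc_structure, Groth.PropsBasic.Ample.gloc_map]
    · exact hta
    · exact ht

end Groth.Agent.S4409
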