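import Groth.Statements.S4412
import Groth.Agent.Ega2Proj.Veronese

set_option autoImplicit false
universe u
open EGA2

namespace Groth.Agent.S4412

/-- Let S be a ring graded in nonnegative degrees which is Noetherian, d > 0, and S^{(d)} the graded
ring with degree-n part S_{nd} (given as a graded ring S' with an injective algebra homomorphism φ :
S' → S carrying S'_n onto S_{nd} for every n). Then S^{(d)} is Noetherian. -/
theorem result {R A : Type u} [CommRing R] [CommRing A] [Algebra R A] (𝒜 : ℕ → Submodule R A) [GradedAlgebra 𝒜] [IsNoetherianRing A]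
    {B : Type u} [CommRing B] [Algebra R B] (ℬ : ℕ → Submodule R B) [GradedAlgebra ℬ]
    (d : ℕ) (hd : 0 < d) (φ : B →ₐ[R] A) (hφ : Function.Injective φ)
    (hdeg : ∀ n : ℕ, Submodule.map φ.toLinearMap (ℬ n) = 𝒜 (n * d)) :
    IsNoetherianRing B := by
  classical
  haveI := (Groth.Ega2Proj.irrelevant_fg_iff_finiteType 𝒜).mp (IsNoetherian.noetherian _)
  haveI : Algebra.FiniteType (ℬ 0) B := Groth.Ega2Proj.veronese_finiteType 𝒜 ℬ φ hφ hdeg hd
  haveI := Groth.Ega2Proj.isNoetherianRing_zero 𝒜
  let ψ : ℬ 0 →+* 𝒜 0 :=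
    { toFun := fun b => ⟨φ b, by simpa using (hdeg 0).le ⟨(b : B), b.2, rfl⟩⟩
      map_one' := Subtype.ext (map_one φ)
      map_mul' := fun a b => Subtype.ext (map_mul φ (a : B) b)
      map_zero' := Subtype.ext (map_zero φ)
      map_add' := fun a b => Subtype.ext (map_add φ (a : B) b) }
  have hψ : Function.Bijective ψ := by
    refine ⟨fun a b h => Subtype.ext (hφ (congrArg Subtype.val h)), fun a => ?_⟩
    have ha : (a : A) ∈ Submodule.map φ.toLinearMap (ℬ 0) := (hdeg 0).ge (by simpa using a.2)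
    obtain ⟨b, hb, hba⟩ := ha
    exact ⟨⟨b, hb⟩, Subtype.ext hba⟩
  haveI : IsNoetherianRing (ℬ 0) := isNoetherianRing_of_ringEquiv (𝒜 0) (RingEquiv.ofBijective ψ hψ).symm
  exact Algebra.FiniteType.isNoetherianRing (ℬ 0) B

end Groth.Agent.S4412
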