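import Groth.Statements.S4413
import Groth.Agent.PicAux.GenLocusAffine
import Groth.Agent.PicAux.Pullback

set_option autoImplicit false
universe u
open CategoryTheory CategoryTheory.Limits AlgebraicGeometry
open EGA2

namespace Groth.Agent.S4413

/-- Let u : Z → S be a morphism of schemes, L an invertible O_S-module, s : O_S → L a global section of
L and s' the section of u^*(L) corresponding to s, i.e. u^*(s) composed with an isomorphism O_Z ≅
u^*(O_S) (the locus in question does not depend on that choice). Then the open Z_{s'} of Z where s'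
generates u^*(L) is the preimage u⁻¹(S_s) of the open where s generates L. -/
theorem result {Z S : Scheme.{u}} (u : Z ⟶ S) (L : S.Modules) (hL : PicF.IsInvertible L)
    (s : Coh.structureModule S ⟶ L)
    (e : Coh.structureModule Z ≅ (Scheme.Modules.pullback u).obj (Coh.structureModule S)) :
    CohB1.genLocus ((Scheme.Modules.pullback u).obj L) (e.hom ≫ (Scheme.Modules.pullback u).map s) = u ⁻¹ᵁ CohB1.genLocus L s := by
  open Groth.PicAux in
  obtain ⟨U, a, hU, hxU, ha⟩ := exists_gen_cover hL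
  have hU' : iSup (fun y => u ⁻¹ᵁ U y) = ⊤ :=
    eq_top_iff.2 fun z _ => TopologicalSpace.Opens.mem_iSup.2 ⟨u z, hxU (u z)⟩
  refine opens_ext_cover hU' fun i => ?_
  obtain ⟨c, hc⟩ := (ha i).exists_coeff le_rfl (res L le_top (gsec s))
  rw [res_self] at hc
  have h1 : Gen ((Scheme.Modules.pullback u).obj (Coh.structureModule S)) ⊤
      (pullSec u _ (oneSec S ⊤)) := (gen_oneSec ⊤).pull u
  have h2 : Gen ((Scheme.Modules.pullback u).obj (Coh.structureModule S)) ⊤
      (e.hom.app ⊤ (oneSec Z ⊤)) := (gen_oneSec ⊤).map e.hom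
  obtain ⟨w, hw⟩ := h1.exists_unit h2
  have h3 : gsec (e.hom ≫ (Scheme.Modules.pullback u).map s) =
      (HSMul.hSMul (α := Γ(Z, u ⁻¹ᵁ ⊤)) (β := Γ((Scheme.Modules.pullback u).obj L, u ⁻¹ᵁ ⊤)) (w : Γ(Z, ⊤)) (pullSec u L (gsec s))) := by
    change ((Scheme.Modules.pullback u).map s).app ⊤ (e.hom.app ⊤ (oneSec Z ⊤)) = _
    rw [hw, Scheme.Modules.Hom.app_smul]
    exact congrArg _ (pullSec_map u s (oneSec S ⊤))
  have h4 : res _ le_top (gsec (e.hom ≫ (Scheme.Modules.pullback u).map s)) =
      (resX Z (le_top : u ⁻¹ᵁ U i ≤ ⊤) w * u.app (U i) c) • pullSec u L (a i) := by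
    rw [h3, mul_smul, ← pullSec_smul, ← hc]
    refine (res_smul (M := (Scheme.Modules.pullback u).obj L)
      (le_top : u ⁻¹ᵁ U i ≤ u ⁻¹ᵁ ⊤) _ _).trans ?_
    exact congrArg _ (res_pullSec u L le_top _)
  rw [genLocus_inf_eq_basicOpen ((ha i).pull u) h4, Scheme.basicOpen_mul,
    Scheme.basicOpen_of_isUnit _ (w.isUnit.map _), inf_eq_right.2 (Z.basicOpen_le _)]
  rw [← Scheme.preimage_basicOpen, ← genLocus_inf_eq_basicOpen (ha i) hc]
  rfl

end Groth.Agent.S4413
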