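import Groth.Statements.S4415
import Groth.Agent.Chow.Proj
import Groth.Agent.Chow.Lemma

set_option autoImplicit false
universe u
open CategoryTheory CategoryTheory.Limits AlgebraicGeometry
open EGA2

namespace Groth.Agent.S4415

/-- Let r : X → S be a separated morphism of finite type and assume either (a) S is Noetherian, or (b) S
is quasi-compact and separated and X has finitely many irreducible components. Then there exist a
scheme X' and a morphism f : X' → X such that: (i) X' is quasi-projective over S through f ≫ r, and
f is projective and surjective; (ii) for some open U of X the open f⁻¹(U) is dense in X' and f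
restricted over U is an isomorphism; (iii) X' is reduced (resp. irreducible, resp. integral) if X
is. -/
theorem result {X S : Scheme.{u}} (r : X ⟶ S) [IsSeparated r] [LocallyOfFiniteType r] [QuasiCompact r]
    (h : IsNoetherian S ∨ (CompactSpace S ∧ S.IsSeparated ∧ (irreducibleComponents X).Finite)) :
    ∃ (X' : Scheme.{u}) (f : X' ⟶ X),
      RelProj.IsQuasiProjective (f ≫ r) ∧ RelProj.IsProjective f ∧ Surjective f ∧
      (∃ U : X.Opens, Dense ((f ⁻¹ᵁ U : X'.Opens) : Set X') ∧ IsIso (f ∣_ U)) ∧
      (IsReduced X → IsReduced X') ∧ (IrreducibleSpace X → IrreducibleSpace X') ∧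
      (IsIntegral X → IsIntegral X') := by
    have hS : CompactSpace S ∧ QuasiSeparatedSpace S := by
      rcases h with h | ⟨h1, h2, -⟩
      · exact ⟨inferInstance, inferInstance⟩
      · haveI := h2
        exact ⟨h1, inferInstance⟩
    obtain ⟨hS1, hS2⟩ := hS
    haveI : CompactSpace X := QuasiCompact.compactSpace_of_compactSpace r
    haveI : QuasiSeparatedSpace X := quasiSeparatedSpace_of_quasiSeparated r
    have hirr : (irreducibleComponents X).Finite := by
      rcases h with h | ⟨-, -, h3⟩
      · haveI : IsNoetherian X := by
          haveI := LocallyOfFiniteType.isLocallyNoetherian r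
          exact { }
        exact TopologicalSpace.NoetherianSpace.finite_irreducibleComponents
      · exact h3
    obtain ⟨N, X', π, j, hj, hjb, hπ, hsurj, ⟨U, -, hU, hiso⟩, hred, hirred⟩ := Groth.Chow.exists_chow r hirr
    exact ⟨X', π, Groth.Chow.isQuasiProjective_of_immersion π r j hjb,
      Groth.Chow.isProjective_of_immersion π r j hjb, hsurj, ⟨U, hU, hiso⟩, hred, hirred, fun hX => by
        haveI := hred inferInstance
        haveI := hirred inferInstance
        exact isIntegral_of_irreducibleSpace_of_isReduced X'⟩

end Groth.Agent.S4415
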