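import Groth.Statements.S4416
import Groth.Agent.Chow.Projective
import Groth.Agent.Chow.Lemma
import Groth.Agent.Chow.ProjEmb.Iso

set_option autoImplicit false
universe u
open CategoryTheory CategoryTheory.Limits AlgebraicGeometry
open EGA2

namespace Groth.Agent.S4416

/-- Let r : X → S be separated of finite type, and assume either S Noetherian, or S quasi-compact and
separated with X having finitely many irreducible components. Then r is proper if and only if there
are a scheme X' and a surjective morphism f : X' → X with f ≫ r projective. Moreover, when r is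
proper, f can be chosen so that in addition there is a dense open U of X with f⁻¹(U) dense in X'
over which f is an isomorphism, and with X' irreducible (resp. reduced) if X is. (The published
statement also remarks that f is then projective; that is not stated here.) -/
theorem result {X S : Scheme.{u}} (r : X ⟶ S) [IsSeparated r] [LocallyOfFiniteType r] [QuasiCompact r]
    (h : IsNoetherian S ∨ (CompactSpace S ∧ S.IsSeparated ∧ (irreducibleComponents X).Finite)) :
    (IsProper r ↔ ∃ (X' : Scheme.{u}) (f : X' ⟶ X), Surjective f ∧ RelProj.IsProjective (f ≫ r)) ∧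
    (IsProper r → ∃ (X' : Scheme.{u}) (f : X' ⟶ X), Surjective f ∧ RelProj.IsProjective (f ≫ r) ∧
        (∃ U : X.Opens, Dense (U : Set X) ∧ Dense ((f ⁻¹ᵁ U : X'.Opens) : Set X') ∧ IsIso (f ∣_ U)) ∧
        (IrreducibleSpace X → IrreducibleSpace X') ∧ (IsReduced X → IsReduced X')) := by
    have key : IsProper r → ∃ (X' : Scheme.{u}) (f : X' ⟶ X), Surjective f ∧ RelProj.IsProjective (f ≫ r) ∧
          (∃ U : X.Opens, Dense (U : Set X) ∧ Dense ((f ⁻¹ᵁ U : X'.Opens) : Set X') ∧ IsIso (f ∣_ U)) ∧
          (IrreducibleSpace X → IrreducibleSpace X') ∧ (IsReduced X → IsReduced X') := by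
      intro hr
      have hS : CompactSpace S ∧ QuasiSeparatedSpace S := by
        rcases h with h | ⟨h1, h2, -⟩
        · exact ⟨inferInstance, inferInstance⟩
        · have := h2
          exact ⟨h1, inferInstance⟩
      obtain ⟨hS1, hS2⟩ := hS
      have : CompactSpace X := QuasiCompact.compactSpace_of_compactSpace r
      have : QuasiSeparatedSpace X := quasiSeparatedSpace_of_quasiSeparated r
      have hirr : (irreducibleComponents X).Finite := by
        rcases h with h | ⟨-, -, h3⟩
        · have : IsNoetherian X := by
            have := LocallyOfFiniteType.isLocallyNoetherian r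
            exact { }
          exact TopologicalSpace.NoetherianSpace.finite_irreducibleComponents
        · exact h3
      obtain ⟨N, X', π, j, hj, hjb, hπ, hsurj, hU, hred, hirred⟩ := Groth.Chow.exists_chow r hirr
      have := Groth.Variety2.isProper_projSpaceOver_toBase N S
      have : IsProper (j ≫ CohB1.ProjSpaceOver.toBase N S) := by rw [hjb]; infer_instance
      have : IsProper j := IsProper.of_comp j (CohB1.ProjSpaceOver.toBase N S)
      have : IsClosedImmersion j := (IsClosedImmersion.iff_isProper_and_mono j).mpr ⟨inferInstance, inferInstance⟩
      refine ⟨X', π, hsurj, ?_, hU, hirred, hred⟩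
      rw [← hjb]
      exact Groth.Chow.PEmb.isProjective j
    refine ⟨⟨fun hr => ?_, ?_⟩, key⟩
    · obtain ⟨X', f, h1, h2, -⟩ := key hr
      exact ⟨X', f, h1, h2⟩
    · rintro ⟨X', f, hsurj, hp⟩
      have := Groth.Chow.isProper_of_isProjective hp
      have := UniversallyClosed.of_comp_surjective f r
      exact { }

end Groth.Agent.S4416
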