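import Groth.Statements.S4417
import Groth.Agent.Ega2Proj.RelAmpleCoprod

set_option autoImplicit false
universe u
open CategoryTheory CategoryTheory.Limits AlgebraicGeometry
open EGA2

namespace Groth.Agent.S4417

/-- Let f : X → Y and f' : X' → Y be quasi-projective morphisms (of finite type, each admitting a
relatively ample module). Then the morphism X ⨿ X' → Y restricting to f and f' on the two summands
is quasi-projective. -/
theorem result {X X' Y : Scheme.{u}} (f : X ⟶ Y) (f' : X' ⟶ Y)
    (hf : RelProj.IsQuasiProjective f) (hf' : RelProj.IsQuasiProjective f') :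
    RelProj.IsQuasiProjective (coprod.desc f f') := by
  obtain ⟨hft, hqc, L, hL⟩ := hf
  obtain ⟨hft', hqc', L', hL'⟩ := hf'
  have hab := isCompl_range_inl_inr X X'
  obtain ⟨M, ⟨e⟩, ⟨e'⟩⟩ := Groth.Ega2Proj.exists_restrict_iso_of_clopen
    (coprod.inl : X ⟶ X ⨿ X') coprod.inr hab.disjoint L L'
  have hA : RelAmple.IsRelAmple (coprod.desc f f') M := by
    refine Groth.Ega2Proj.isRelAmple_of_clopen_cover _ M coprod.inl coprod.inr hab ?_ ?_
    · rw [coprod.inl_desc]; exact Groth.Ega2Proj.isRelAmple_of_iso e.symm hL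
    · rw [coprod.inr_desc]; exact Groth.Ega2Proj.isRelAmple_of_iso e'.symm hL'
  refine ⟨?_, hA.1, M, hA⟩
  have : IsZariskiLocalAtSource @LocallyOfFiniteType.{u} :=
    HasRingHomProperty.instIsZariskiLocalAtSource (Q := RingHom.FiniteType)
  rw [IsZariskiLocalAtSource.iff_of_openCover (P := @LocallyOfFiniteType) (coprodOpenCover.{u, 0} X X')]
  rintro (_ | _)
  · change LocallyOfFiniteType (coprod.inl ≫ coprod.desc f f')
    rwa [coprod.inl_desc]
  · change LocallyOfFiniteType (coprod.inr ≫ coprod.desc f f')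
    rwa [coprod.inr_desc]

end Groth.Agent.S4417
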