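import Groth.Statements.S4418
import Groth.Agent.Ega2Proj.RelProjAmple

set_option autoImplicit false
universe u
open CategoryTheory CategoryTheory.Limits AlgebraicGeometry
open EGA2

namespace Groth.Agent.S4418

/-- Every projective morphism f : X → Y is quasi-projective (of finite type with an f-ample module) and
proper. -/
theorem result {X Y : Scheme.{u}} (f : X ⟶ Y) (hf : RelProj.IsProjective f) :
    RelProj.IsQuasiProjective f ∧ IsProper f := by
  exact ⟨Groth.Ega2Proj.isQuasiProjective_of_isProjective hf, Groth.Chow.isProper_of_isProjective hf⟩

end Groth.Agent.S4418
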