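import Groth.Statements.S4419
import Groth.Agent.Ega2Proj.QProjEmb
import Groth.Agent.Ega2Proj.ClosedProj
import Groth.Agent.Chow.Projective
import Mathlib.AlgebraicGeometry.ZariskisMainTheorem

set_option autoImplicit false
universe u
open CategoryTheory CategoryTheory.Limits AlgebraicGeometry
open EGA2

namespace Groth.Agent.S4419

/-- Let Y be a scheme which is either quasi-compact and separated or has a Noetherian underlying space,
and f : X → Y a morphism which is quasi-projective and proper. Then f is projective. -/
theorem result {X Y : Scheme.{u}}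
    (hY : (CompactSpace Y ∧ Y.IsSeparated) ∨ TopologicalSpace.NoetherianSpace Y) (f : X ⟶ Y)
    (hq : RelProj.IsQuasiProjective f) [IsProper f] : RelProj.IsProjective f := by
  obtain ⟨hft, hqc, L, hL⟩ := hq
  have : CompactSpace Y := by
    rcases hY with ⟨h, -⟩ | h
    · exact h
    · infer_instance
  have : QuasiSeparatedSpace Y := by
    rcases hY with ⟨-, h⟩ | h <;> infer_instance
  obtain ⟨𝒮, P, p, chart, r, hgen, hft1, hP, hr, hrp⟩ := Groth.Ega2Proj.QEmb.exists_immersion_proj f hL
  have hp : RelProj.IsProjective p :=
    ⟨𝒮, P, p, chart, Iso.refl P, hgen, hft1, hP, Category.id_comp p⟩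
  have : IsProper p := Groth.Chow.isProper_of_isProjective hp
  have : IsProper (r ≫ p) := hrp ▸ inferInstance
  have : IsProper r := IsProper.of_comp r p
  have : IsClosedImmersion r := (IsClosedImmersion.iff_isProper_and_mono _).2 ⟨inferInstance, inferInstance⟩
  exact hrp ▸ Groth.Ega2Proj.ClosedProj.isProjective_comp_closedImmersion hp r

end Groth.Agent.S4419
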