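import Groth.Statements.S4421
import Groth.Agent.Ega2Proj.ProjBaseChange

set_option autoImplicit false
universe u
open CategoryTheory CategoryTheory.Limits AlgebraicGeometry
open EGA2

namespace Groth.Agent.S4421

/-- Let f : X → Y be a projective morphism and g : Y' → Y any morphism. Then the base change X ×_Y Y' →
Y' of f is projective. -/
theorem result {X Y Y' : Scheme.{u}} (f : X ⟶ Y) (hf : RelProj.IsProjective f) (g : Y' ⟶ Y) :
    RelProj.IsProjective (pullback.snd f g) := by
  exact Groth.Ega2Proj.isProjective_baseChange hf g

end Groth.Agent.S4421
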