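import Groth.Statements.S4422
import Groth.Agent.Ega2Proj.PolProd
import Groth.Agent.Ega2Proj.ProjBaseChange

set_option autoImplicit false
universe u
open CategoryTheory CategoryTheory.Limits AlgebraicGeometry
open EGA2

namespace Groth.Agent.S4422

/-- Let a : Y → S and a' : Y' → S be morphisms and f : X → Y, f' : X' → Y' projective morphisms (so X
and X' are S-schemes through f ≫ a and f' ≫ a'). Then the product f ×_S f' : X ×_S X' → Y ×_S Y' is
projective. -/
theorem result {X X' Y Y' S : Scheme.{u}} (a : Y ⟶ S) (a' : Y' ⟶ S) (f : X ⟶ Y) (f' : X' ⟶ Y')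
    (hf : RelProj.IsProjective f) (hf' : RelProj.IsProjective f') :
    RelProj.IsProjective (pullback.map (f ≫ a) (f' ≫ a') a a' f f' (𝟙 S) (Category.comp_id (f ≫ a)) (Category.comp_id (f' ≫ a'))) := by
  let M : pullback (f ≫ a) (f' ≫ a') ⟶ pullback a a' :=
    pullback.map (f ≫ a) (f' ≫ a') a a' f f' (𝟙 S) (Category.comp_id (f ≫ a)) (Category.comp_id (f' ≫ a'))
  change RelProj.IsProjective M
  let p : pullback f (pullback.fst a a') ⟶ pullback a a' := pullback.snd _ _
  let p' : pullback f' (pullback.snd a a') ⟶ pullback a a' := pullback.snd _ _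
  let R := pullback p p'
  let h : R ⟶ pullback a a' := pullback.fst p p' ≫ p
  have hR : RelProj.IsProjective h :=
    Groth.Ega2Proj.isProjective_fibreProd (IsPullback.of_hasPullback p p')
      (Groth.Ega2Proj.isProjective_baseChange hf _) (Groth.Ega2Proj.isProjective_baseChange hf' _)
  have hc : pullback.snd p p' ≫ p' = h := pullback.condition.symm
  have h1 : (pullback.fst p p' ≫ pullback.fst f (pullback.fst a a')) ≫ f = h ≫ pullback.fst a a' := by
    rw [Category.assoc, pullback.condition, ← Category.assoc]
  have h2 : (pullback.snd p p' ≫ pullback.fst f' (pullback.snd a a')) ≫ f' = h ≫ pullback.snd a a' := by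
    rw [Category.assoc, pullback.condition, ← Category.assoc, hc]
  let φ : R ⟶ pullback (f ≫ a) (f' ≫ a') :=
    pullback.lift (pullback.fst p p' ≫ pullback.fst f (pullback.fst a a'))
      (pullback.snd p p' ≫ pullback.fst f' (pullback.snd a a'))
      (by rw [← Category.assoc, h1, ← Category.assoc, h2, Category.assoc h, Category.assoc h, pullback.condition])
  have hM1 : M ≫ pullback.fst a a' = pullback.fst (f ≫ a) (f' ≫ a') ≫ f := pullback.lift_fst _ _ _
  have hM2 : M ≫ pullback.snd a a' = pullback.snd (f ≫ a) (f' ≫ a') ≫ f' := pullback.lift_snd _ _ _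
  let u : pullback (f ≫ a) (f' ≫ a') ⟶ pullback f (pullback.fst a a') := pullback.lift (pullback.fst _ _) M hM1.symm
  let u' : pullback (f ≫ a) (f' ≫ a') ⟶ pullback f' (pullback.snd a a') := pullback.lift (pullback.snd _ _) M hM2.symm
  let ψ : pullback (f ≫ a) (f' ≫ a') ⟶ R :=
    pullback.lift u u' ((pullback.lift_snd _ _ _).trans (pullback.lift_snd _ _ _).symm)
  have hφM : φ ≫ M = h := by
    refine pullback.hom_ext ?_ ?_
    · rw [Category.assoc, hM1, ← Category.assoc, pullback.lift_fst]
      exact h1
    · rw [Category.assoc, hM2, ← Category.assoc, pullback.lift_snd]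
      exact h2
  let i : pullback (f ≫ a) (f' ≫ a') ≅ R :=
    { hom := ψ
      inv := φ
      hom_inv_id := by
        refine pullback.hom_ext ?_ ?_
        · rw [Category.assoc, pullback.lift_fst, pullback.lift_fst_assoc, pullback.lift_fst, Category.id_comp]
        · rw [Category.assoc, pullback.lift_snd, pullback.lift_snd_assoc, pullback.lift_fst, Category.id_comp]
      inv_hom_id := by
        refine pullback.hom_ext ?_ ?_
        · rw [Category.assoc, pullback.lift_fst, Category.id_comp]
          refine pullback.hom_ext ?_ ?_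
          · rw [Category.assoc, pullback.lift_fst, pullback.lift_fst]
          · rw [Category.assoc, pullback.lift_snd, hφM]
        · rw [Category.assoc, pullback.lift_snd, Category.id_comp]
          refine pullback.hom_ext ?_ ?_
          · rw [Category.assoc, pullback.lift_fst, pullback.lift_snd]
          · rw [Category.assoc, pullback.lift_snd, hφM]
            exact hc.symm }
  refine Groth.Ega2Proj.isProjective_iso_comp i ?_ hR
  exact (pullback.lift_fst_assoc _ _ _ _).trans (pullback.lift_snd _ _ _)

end Groth.Agent.S4422
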