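import Groth.Statements.S4423
import Groth.Agent.Ega2Proj.ProjBaseChange
import Groth.Agent.Ega2Proj.ClosedProj
import Groth.Agent.Chow.Projective

set_option autoImplicit false
universe u
open CategoryTheory CategoryTheory.Limits AlgebraicGeometry
open EGA2

namespace Groth.Agent.S4423

/-- Let f : X → Y and g : Y → Z be morphisms with f ≫ g projective and g separated. Then f is
projective. -/
theorem result {X Y Z : Scheme.{u}} (f : X ⟶ Y) (g : Y ⟶ Z) [IsSeparated g]
    (h : RelProj.IsProjective (f ≫ g)) : RelProj.IsProjective f := by
  have hpr := Groth.Ega2Proj.isProjective_baseChange h g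
  have : IsProper (pullback.snd (f ≫ g) g) := Groth.Chow.isProper_of_isProjective hpr
  let s : X ⟶ pullback (f ≫ g) g := pullback.lift (𝟙 X) f (by simp)
  have : IsClosedImmersion (s ≫ pullback.fst (f ≫ g) g) := by
    rw [pullback.lift_fst]; infer_instance
  have : IsClosedImmersion s := IsClosedImmersion.of_comp s (pullback.fst (f ≫ g) g)
  have h2 := Groth.Ega2Proj.ClosedProj.isProjective_comp_closedImmersion hpr s
  rwa [pullback.lift_snd] at h2

end Groth.Agent.S4423
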