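import Groth.Statements.S4425
import Groth.Agent.Ega2Proj.QProjEmb
import Groth.Agent.Ega2Proj.ClosedProj
import Groth.Agent.Ega2Proj.RelProjAmple
import Groth.Agent.Chow.Projective
import Groth.Agent.S2359

set_option autoImplicit false
universe u
open CategoryTheory CategoryTheory.Limits AlgebraicGeometry
open EGA2

namespace Groth.Agent.S4425

/-- (a) ⇔ (c): let Y be a quasi-compact separated scheme and f : X → Y a morphism. Then f is
quasi-projective if and only if f is of finite type and there are a quasi-coherent graded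
O_Y-algebra 𝒮, generated by its degree-one part with that part of finite type, a relative
homogeneous spectrum p : P → Y of 𝒮 (given with its charts over affine opens), and an open immersion
j : X → P with dense image such that j ≫ p = f. (The published statement also allows Y whose
underlying space is Noetherian, and adds a third equivalent condition, an immersion into some P(E);
this row assumes Y quasi-compact and separated and states only the equivalence of the other two.) -/
theorem result {X Y : Scheme.{u}} [CompactSpace Y] [Y.IsSeparated] (f : X ⟶ Y) :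
    RelProj.IsQuasiProjective f ↔
      (LocallyOfFiniteType f ∧ QuasiCompact f ∧
        ∃ (𝒮 : RelProj.QCGrAlg Y) (P : Scheme.{u}) (p : P ⟶ Y)
          (chart : ∀ (U : Y.Opens) (hU : IsAffineOpen U), ((p ⁻¹ᵁ U : P.Opens) : Scheme.{u}) ≅ Proj (𝒮.deg U hU))
          (j : X ⟶ P), 𝒮.IsGenDegOne ∧ 𝒮.IsFTDeg 1 ∧ RelProj.IsRelProj 𝒮 p chart ∧
            IsOpenImmersion j ∧ Dense (Set.range j.base) ∧ j ≫ p = f) := by
  constructor
  · rintro ⟨hft, hqc, L, hL⟩
    refine ⟨hft, hqc, ?_⟩
    obtain ⟨𝒮, P, p, chart, r, hgen, hft1, hP, hr, hrp⟩ := Groth.Ega2Proj.QEmb.exists_immersion_proj f hL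
    have : IsProper p :=
      Groth.Chow.isProper_of_isProjective ⟨𝒮, P, p, chart, Iso.refl P, hgen, hft1, hP, Category.id_comp p⟩
    have : QuasiCompact (r ≫ p) := hrp ▸ hqc
    have : QuasiCompact r := QuasiCompact.of_comp r p
    obtain ⟨PB, pB, chartB, h, e, hB, -, he, hp⟩ :=
      Groth.Ega2Proj.ClosedProj.exists_quotient hP r.imageι
    refine ⟨_, PB, pB, chartB, r.toImage ≫ e.inv, Groth.Ega2Proj.ClosedProj.isGenDegOne_quot hP _ hgen,
      Groth.Ega2Proj.ClosedProj.isFTDeg_quot hP _ hft1, hB, inferInstance,
      (r.toImage ≫ e.inv).denseRange, ?_⟩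
    rw [← hp, ← he]
    simp [hrp]
  · rintro ⟨hft, hqc, 𝒮, P, p, chart, j, hgen, hft1, hP, hj, -, rfl⟩
    have hp : RelProj.IsProjective p := ⟨𝒮, P, p, chart, Iso.refl P, hgen, hft1, hP, Category.id_comp p⟩
    have : IsProper p := Groth.Chow.isProper_of_isProjective hp
    obtain ⟨-, -, L, hL⟩ := Groth.Ega2Proj.isQuasiProjective_of_isProjective hp
    have : QuasiCompact j := QuasiCompact.of_comp j p
    exact ⟨hft, hqc, _, Groth.Agent.S2359.result p j j.isOpenEmbedding.isEmbedding L hL⟩

end Groth.Agent.S4425
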