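import Groth.Statements.S4427
import Groth.Agent.PicAux.GenLocusAffine
import Groth.Agent.PicAux.Tensor
import Groth.Agent.PicAux.Pullback

set_option autoImplicit false
universe u
open CategoryTheory CategoryTheory.Limits AlgebraicGeometry
open EGA2

namespace Groth.Agent.S4427

/-- Let Y be a scheme and L an invertible O_Y-module. Then L is ample relative to the identity morphism
of Y. -/
theorem result (Y : Scheme.{u}) (L : Y.Modules) (hL : PicF.IsInvertible L) :
    RelAmple.IsRelAmple (𝟙 Y) L := by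
  open Groth.PicAux in
  refine ⟨inferInstance, fun V => ?_⟩
  have : IsAffine ((𝟙 Y) ⁻¹ᵁ V.1 : Y.Opens) := V.2
  set W : Y.Opens := (𝟙 Y) ⁻¹ᵁ V.1
  have hLW : PicF.IsInvertible (L.restrict W.ι) :=
    isInvertible_of_iso (isInvertible_pullback W.ι hL)
      ((Scheme.Modules.restrictFunctorIsoPullback W.ι).app L).symm
  refine ⟨hLW, inferInstance, fun x => ?_⟩
  obtain ⟨t, U, hxU, ht⟩ := exists_gsec_gen hLW x
  refine ⟨0, homOfSection (tmulSec (oneSec _ ⊤) t), ?_, ?_⟩
  · refine (le_genLocus_iff _ U).2 ?_ hxU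
    rw [gsec_homOfSection]
    erw [res_tmulSec, res_oneSec]
    exact (gen_oneSec U).tensor ht
  · have := isAffineHom_genLocus (isInvertible_tensorPow hLW (0 + 1))
      (homOfSection (tmulSec (oneSec _ ⊤) t))
    exact isAffine_of_isAffineHom (CohB1.genLocus (CohB1.tensorPow (L.restrict W.ι) (0 + 1))
      (homOfSection (tmulSec (oneSec _ ⊤) t))).ι

end Groth.Agent.S4427
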