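import Groth.Statements.S4433
import Groth.Agent.EGA43Valuative.DominatingDVR
import Mathlib.FieldTheory.FinTrdeg
import Mathlib.FieldTheory.IntermediateField.Adjoin.Algebra
import Mathlib.RingTheory.AlgebraicIndependent.Basic
import Mathlib.RingTheory.MvPolynomial.Basic

set_option autoImplicit false
universe u
open EGA2

namespace Groth.Agent.S4433

/-- Let A be a Noetherian local domain that is not a field, K its field of fractions and L a finitely
generated field extension of K. Then there is a discrete valuation subring of L, with fraction field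
L, which contains the image of A and dominates A (elements of the maximal ideal of A have valuation
less than one). -/
theorem result (A : Type u) [CommRing A] [IsDomain A] [IsNoetherianRing A]
    [IsLocalRing A] (hA : ¬ IsField A) (K : Type u) [Field K] [Algebra A K] [IsFractionRing A K]
    (L : Type u) [Field L] [Algebra K L] [Algebra A L] [IsScalarTower A K L] (hfg : (⊤ : IntermediateField K L).FG) :
    ∃ R : ValuationSubring L, IsDiscreteValuationRing R ∧ (∀ a : A, algebraMap A L a ∈ R) ∧
      ∀ a ∈ IsLocalRing.maximalIdeal A, R.valuation (algebraMap A L a) < 1 := by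
  haveI : Algebra.EssFiniteType K L := IntermediateField.fg_top_iff.1 hfg
  obtain ⟨s, hs⟩ := exists_finset_isTranscendenceBasis K L
  let E : IntermediateField K L := IntermediateField.adjoin K (Set.range ((↑) : s → L))
  haveI : Algebra.IsAlgebraic E L := hs.isAlgebraic_field
  haveI : Algebra.EssFiniteType E L := Algebra.EssFiniteType.of_comp K E L
  haveI : Module.Finite E L := Algebra.finite_of_essFiniteType_of_isAlgebraic
  have hinjAL : Function.Injective (algebraMap A L) := by
    rw [IsScalarTower.algebraMap_eq A K L]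
    exact (algebraMap K L).injective.comp (IsFractionRing.injective A K)
  let P := MvPolynomial {x // x ∈ s} A
  let φ : P →+* L := (MvPolynomial.aeval ((↑) : {x // x ∈ s} → L)).toRingHom
  have hφ : Function.Injective φ := hs.1.restrictScalars (IsFractionRing.injective A K)
  let Q : Ideal P := (IsLocalRing.maximalIdeal A).map MvPolynomial.C
  haveI hQ : Q.IsPrime := (Ideal.Quotient.isDomain_iff_prime _).1
    (MulEquiv.isDomain _ (MvPolynomial.quotientEquivQuotientMvPolynomial
      (σ := {x // x ∈ s}) (IsLocalRing.maximalIdeal A)).symm.toRingEquiv.toMulEquiv)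
  let K1 := FractionRing P
  let ψ : K1 →+* L := IsFractionRing.lift hφ
  letI : Algebra K1 L := ψ.toAlgebra
  let R1 := Localization.subalgebra.ofField K1 Q.primeCompl Q.primeCompl_le_nonZeroDivisors
  haveI : IsLocalization.AtPrime R1 Q := Localization.subalgebra.isLocalization_ofField _ _ _
  haveI : IsLocalRing R1 := IsLocalization.AtPrime.isLocalRing R1 Q
  haveI : IsNoetherianRing R1 := IsLocalization.isNoetherianRing Q.primeCompl R1 inferInstance
  obtain ⟨a0, ha0m, ha00⟩ := Submodule.exists_mem_ne_zero_of_ne_bot
    (fun h => hA (IsLocalRing.isField_iff_maximalIdeal_eq.2 h) : IsLocalRing.maximalIdeal A ≠ ⊥)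
  have hR1 : ¬ IsField R1 := by
    intro hf
    have h1 : algebraMap P R1 (MvPolynomial.C a0) ∈ IsLocalRing.maximalIdeal R1 := by
      rw [← IsLocalization.AtPrime.map_eq_maximalIdeal Q R1]
      exact Ideal.mem_map_of_mem _ (Ideal.mem_map_of_mem _ ha0m)
    rw [(IsLocalRing.isField_iff_maximalIdeal_eq.1 hf), Ideal.mem_bot,
      ← map_zero (algebraMap P R1)] at h1
    exact ha00 (MvPolynomial.C_injective _ _
      ((IsLocalization.injective R1 Q.primeCompl_le_nonZeroDivisors h1).trans (map_zero _).symm))
  have hψ : ∀ p : P, ψ (algebraMap P K1 p) = φ p := IsFractionRing.lift_algebraMap hφ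
  have hE : ∀ e : L, e ∈ E → e ∈ Set.range ψ := by
    have hK : ∀ k : K, algebraMap K L k ∈ ψ.fieldRange := by
      intro k
      obtain ⟨a, b, hb, rfl⟩ := IsFractionRing.div_surjective A k
      refine ⟨algebraMap P K1 (MvPolynomial.C a) / algebraMap P K1 (MvPolynomial.C b), ?_⟩
      rw [map_div₀, map_div₀, hψ, hψ, ← IsScalarTower.algebraMap_apply,
        ← IsScalarTower.algebraMap_apply]
      exact congr_arg₂ (· / ·) (MvPolynomial.aeval_C _ a) (MvPolynomial.aeval_C _ b)
    intro e he
    induction he using IntermediateField.adjoin_induction with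
    | mem x hx =>
      obtain ⟨i, rfl⟩ := hx
      exact ⟨algebraMap P K1 (MvPolynomial.X i), (hψ _).trans (MvPolynomial.aeval_X _ i)⟩
    | algebraMap k => exact hK k
    | add x y _ _ hx hy =>
      obtain ⟨x, rfl⟩ := hx; obtain ⟨y, rfl⟩ := hy; exact ⟨x + y, map_add _ _ _⟩
    | inv x _ hx => obtain ⟨x, rfl⟩ := hx; exact ⟨x⁻¹, map_inv₀ _ _⟩
    | mul x y _ _ hx hy =>
      obtain ⟨x, rfl⟩ := hx; obtain ⟨y, rfl⟩ := hy; exact ⟨x * y, map_mul _ _ _⟩
  haveI : FiniteDimensional K1 L := by
    obtain ⟨b, hb⟩ := (inferInstance : Module.Finite E L).fg_top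
    refine ⟨b, ?_⟩
    rw [eq_top_iff]
    intro x _
    have hx : x ∈ Submodule.span E (b : Set L) := hb ▸ Submodule.mem_top
    induction hx using Submodule.span_induction with
    | mem y hy => exact Submodule.subset_span hy
    | zero => exact Submodule.zero_mem _
    | add y z _ _ hy hz => exact Submodule.add_mem _ (hy trivial) (hz trivial)
    | smul e y _ hy =>
      obtain ⟨k, hk⟩ := hE e e.2
      rw [show e • y = k • y by
        rw [Algebra.smul_def, Algebra.smul_def, RingHom.algebraMap_toAlgebra, hk]; rfl]
      exact Submodule.smul_mem _ _ (hy trivial)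
  haveI : IsScalarTower R1 K1 L := IsScalarTower.of_algebraMap_eq (R := R1) (S := K1) (A := L) fun _ => rfl
  obtain ⟨C, M, hC, hCL, hM, hM0, hMR⟩ :=
    Groth.EGA43Val.exists_dvr_dominating_of_finite R1 K1 hR1 L
  haveI := hC
  haveI := hCL
  let p : IsDedekindDomain.HeightOneSpectrum C := ⟨M, hM.isPrime, hM0⟩
  let r : A → R1 := fun a => algebraMap P R1 (MvPolynomial.C a)
  have hmem : ∀ a : A, algebraMap C L (algebraMap R1 C (r a)) = algebraMap A L a := by
    intro a
    show ψ (algebraMap P K1 (MvPolynomial.C a)) = _
    rw [hψ]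
    exact MvPolynomial.aeval_C _ a
  refine ⟨IsDedekindDomain.HeightOneSpectrum.valuationSubringAtPrime L p,
    Groth.EGA43Val.isDiscreteValuationRing_valuationSubringAtPrime p, fun a => ?_, fun a ha => ?_⟩
  · rw [← hmem a]
    exact ⟨algebraMap R1 C (r a), 1, p.asIdeal.primeCompl.one_mem,
      (mul_one _).symm.trans (congrArg _ (by rw [map_one, inv_one]))⟩
  · rw [← hmem a]
    have hm1 : r a ∈ IsLocalRing.maximalIdeal R1 := by
      rw [← IsLocalization.AtPrime.map_eq_maximalIdeal Q R1]
      exact Ideal.mem_map_of_mem _ (Ideal.mem_map_of_mem _ ha)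
    have hm2 : algebraMap R1 C (r a) ∈ M := by
      rw [← Ideal.mem_comap, hMR]; exact hm1
    have heq : IsDedekindDomain.HeightOneSpectrum.valuationSubringAtPrime L p =
        (p.valuation L).valuationSubring :=
      IsDedekindDomain.HeightOneSpectrum.valuationSubringAtPrime_eq_valuationSubring p
    rw [heq, ← (Valuation.isEquiv_valuation_valuationSubring (p.valuation L)).lt_one_iff_lt_one]
    exact (p.valuation_lt_one_iff_mem _).2 hm2

end Groth.Agent.S4433
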