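import Groth.Statements.S4434
import Groth.Agent.Limits.DVRAlgebra

set_option autoImplicit false
universe u
open EGA2

namespace Groth.Agent.S4434

/-- Let A be a Noetherian domain with field of fractions K and L a finitely generated field extension of
K. The integral closure of A in L is the intersection of the discrete valuation subrings of L (with
fraction field L) containing the image of A: an element of L is integral over A exactly when it
belongs to all of them. -/
theorem result (A : Type u) [CommRing A] [IsDomain A] [IsNoetherianRing A]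
    (K : Type u) [Field K] [Algebra A K] [IsFractionRing A K]
    (L : Type u) [Field L] [Algebra K L] [Algebra A L] [IsScalarTower A K L] (hfg : (⊤ : IntermediateField K L).FG) (x : L) :
    IsIntegral A x ↔ ∀ R : ValuationSubring L, IsDiscreteValuationRing R → (∀ a : A, algebraMap A L a ∈ R) → x ∈ R := by
  constructor
  · intro hx R _ hR
    let := (algebraMap A L).codRestrict R.toSubring hR |>.toAlgebra
    have : IsScalarTower A R L := IsScalarTower.of_algebraMap_eq fun _ => rfl
    have hx' : IsIntegral R x := hx.tower_top
    obtain ⟨r, hr⟩ := IsIntegrallyClosed.isIntegral_iff.1 hx'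
    exact hr ▸ r.2
  intro H
  by_contra hx
  have hx0 : x ≠ 0 := fun h => hx (h ▸ isIntegral_zero)
  let B := Algebra.adjoin A ({x⁻¹} : Set L)
  have : Algebra.FiniteType A B := (Subalgebra.fg_iff_finiteType B).1 ⟨{x⁻¹}, by simp [B]⟩
  have : IsNoetherianRing B := Algebra.FiniteType.isNoetherianRing A B
  let y : B := ⟨x⁻¹, Algebra.subset_adjoin rfl⟩
  have hy : ¬ IsUnit y := fun hu => by
    let := invertibleOfNonzero (inv_ne_zero hx0)
    obtain ⟨p, hp, hpx⟩ := Algebra.exists_aeval_invOf_eq_zero_of_idealMap_adjoin_sup_span_eq_top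
      x⁻¹ (⊥ : Ideal A) bot_ne_top (top_unique <|
        (Ideal.span_singleton_eq_top.2 hu).ge.trans le_add_self)
    rw [invOf_eq_inv, inv_inv] at hpx
    exact hx ⟨p, by simpa [Polynomial.Monic, sub_eq_zero] using hp, hpx⟩
  obtain ⟨m, hm, hle⟩ := Ideal.exists_le_maximal (Ideal.span {y})
    (mt Ideal.span_singleton_eq_top.1 hy)
  have hym : y ∈ m := hle (Ideal.mem_span_singleton_self y)
  let O := Localization.AtPrime m
  have : IsNoetherianRing O := IsLocalization.isNoetherianRing m.primeCompl O inferInstance
  have hu : ∀ b : m.primeCompl, IsUnit (algebraMap B L b) := fun b =>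
    isUnit_iff_ne_zero.2 fun h => b.2 (by
      rw [show (b : B) = 0 from Subtype.ext h]
      exact m.zero_mem)
  let φ : O →+* L := IsLocalization.lift hu
  have hφ : ∀ b : B, φ (algebraMap B O b) = (b : L) := IsLocalization.lift_eq hu
  have hE : φ.EssFiniteType := by
    refine RingHom.EssFiniteType.of_comp (algebraMap A O) ?_
    have h1 : φ.comp (algebraMap A O) = algebraMap A L := RingHom.ext fun a => by
      rw [RingHom.comp_apply, IsScalarTower.algebraMap_apply A B O, hφ]
      rfl
    rw [h1, RingHom.essFiniteType_algebraMap]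
    have : Algebra.EssFiniteType A K := Algebra.EssFiniteType.of_isLocalization K (nonZeroDivisors A)
    have : Algebra.EssFiniteType K L := IntermediateField.fg_top_iff.1 hfg
    exact Algebra.EssFiniteType.comp A K L
  obtain ⟨V, hV, hdvr, hloc⟩ := Groth.Limits.exists_dvr_valuationSubring φ hE
    ⟨algebraMap B O y, (IsLocalization.AtPrime.to_map_mem_maximal_iff O m y).2 hym, by
      rw [hφ]; exact inv_ne_zero hx0⟩
  have hxV : x ∈ V := H V hdvr fun a => by
    have h1 := hV (algebraMap A O a)
    rwa [IsScalarTower.algebraMap_apply A B O, hφ] at h1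
  refine (IsLocalRing.mem_maximalIdeal _).1
    ((IsLocalization.AtPrime.to_map_mem_maximal_iff O m y).2 hym) (hloc.map_nonunit _ ?_)
  refine IsUnit.of_mul_eq_one ⟨x, hxV⟩ (Subtype.ext ?_)
  change φ (algebraMap B O y) * x = 1
  rw [hφ]
  exact inv_mul_cancel₀ hx0

end Groth.Agent.S4434
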