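import Groth.Statements.S4436
import Groth.Agent.Ega2Proj.FreeNearFinite

set_option autoImplicit false
universe u
open CategoryTheory CategoryTheory.Limits AlgebraicGeometry
open EGA2

namespace Groth.Agent.S4436

/-- Let f : X' ⟶ X be a finite morphism and F' a locally free O_{X'}-module of rank r. Then every point
of X has an open neighbourhood U over whose inverse image F' is free of rank r; this is the content
of the statement that the direct image of F' is a locally free module of rank r over the direct
image of O_{X'} (the converse implication being immediate). -/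
theorem result {X' X : Scheme.{u}} (f : X' ⟶ X) [IsFinite f] (r : ℕ)
    (F : X'.Modules) (hF : FlatMod.IsFinLocFreeOfRank r F) (x : X) :
    ∃ U : X.Opens, x ∈ U ∧ Nonempty (F.restrict (f ⁻¹ᵁ U).ι ≅ FlatMod.freeMod (↑(f ⁻¹ᵁ U)) r) := by
  obtain ⟨_, ⟨V, hV, rfl⟩, hxV, -⟩ :=
    X.isBasis_affineOpens.exists_subset_of_mem_open (Set.mem_univ x) isOpen_univ
  obtain ⟨U, s, hU, -, hs⟩ := Groth.Ega2Proj.exists_basis_near_finite hF
    (Z := f ⁻¹' {x}) (f.finite_preimage_singleton x) (hV.preimage f) (fun y hy => by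
      change f y ∈ V
      rwa [Set.mem_singleton_iff.mp hy])
  let W : X.Opens := ⟨(f '' ((U : Set X'))ᶜ)ᶜ,
    (f.isClosedMap _ U.2.isClosed_compl).isOpen_compl⟩
  have hWU : f ⁻¹ᵁ W ≤ U := fun y hy => by
    by_contra h
    exact hy ⟨y, h, rfl⟩
  refine ⟨W, ?_, Groth.LocFree.nonempty_iso_of_basis (hs.res' hWU)⟩
  rintro ⟨y, hy, hyx⟩
  exact hy (hU hyx)

end Groth.Agent.S4436
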