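import Groth.Statements.S4439
import Groth.Agent.Ega2Proj.ValuationSection

set_option autoImplicit false
universe u
open CategoryTheory CategoryTheory.Limits AlgebraicGeometry
open EGA2

namespace Groth.Agent.S4439

/-- Let A be a valuation ring with field of fractions K and f : X ⟶ Spec A a separated morphism whose
underlying map is closed. Then restriction to the generic point is a bijection from sections of f to
K-rational points of the generic fibre: every morphism Spec K ⟶ X over Spec A extends to exactly one
section of f. -/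
theorem result (A : Type u) [CommRing A] [IsDomain A]
    [ValuationRing A] (K : Type u) [Field K] [Algebra A K] [IsFractionRing A K] (X : Scheme.{u})
    (f : X ⟶ Spec (CommRingCat.of A)) [IsSeparated f] (hf : IsClosedMap f.base)
    (x : Spec (CommRingCat.of K) ⟶ X) (hx : x ≫ f = Spec.map (CommRingCat.ofHom (algebraMap A K))) :
    ∃! s : Spec (CommRingCat.of A) ⟶ X, s ≫ f = 𝟙 _ ∧ Spec.map (CommRingCat.ofHom (algebraMap A K)) ≫ s = x := by
  obtain ⟨s, h1, h2⟩ := Groth.Ega2Proj.exists_section_of_isClosedMap A K X f hf x hx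
  refine ⟨s, ⟨h1, h2⟩, ?_⟩
  rintro t ⟨h3, h4⟩
  have hsub := IsSeparated.valuativeCriterion f ⟨A, K, x, 𝟙 _, ⟨by rw [hx, Category.comp_id]⟩⟩
  exact congrArg CommSq.LiftStruct.l (hsub.elim ⟨t, h4, h3⟩ ⟨s, h2, h1⟩)

end Groth.Agent.S4439
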