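import Groth.Statements.S4441


set_option autoImplicit false
universe u
open CategoryTheory CategoryTheory.Limits AlgebraicGeometry
open EGA2

namespace Groth.Agent.S4441

/-- Let X and Y be integral separated schemes and f : X ⟶ Y a dominant, quasi-compact, universally
closed morphism, ξ the generic point of X. Every valuation subring R of the function field K(X) of X
which dominates the local ring of Y at a point y (via O_{Y,y} → O_{Y,f(ξ)} → K(X): image inside R,
maximal ideal into the maximal ideal of R) also dominates the local ring of X at some point x (via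
O_{X,x} → K(X)). -/
theorem result {X Y : Scheme.{u}} [IsIntegral X] [IsIntegral Y]
    [X.IsSeparated] [Y.IsSeparated] (f : X ⟶ Y) [IsDominant f] [QuasiCompact f] [UniversallyClosed f]
    (R : ValuationSubring X.functionField) (y : Y) (hy : f.base (genericPoint X) ⤳ y)
    (hdom : (∀ a : Y.presheaf.stalk y, (Y.presheaf.stalkSpecializes hy ≫ f.stalkMap (genericPoint X)).hom a ∈ R) ∧
      ∀ a ∈ IsLocalRing.maximalIdeal (Y.presheaf.stalk y),
        R.valuation ((Y.presheaf.stalkSpecializes hy ≫ f.stalkMap (genericPoint X)).hom a) < 1) :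
    ∃ x : X, (∀ a : X.presheaf.stalk x, algebraMap (X.presheaf.stalk x) X.functionField a ∈ R) ∧
      ∀ a ∈ IsLocalRing.maximalIdeal (X.presheaf.stalk x), R.valuation (algebraMap (X.presheaf.stalk x) X.functionField a) < 1 := by
  let φ := Y.presheaf.stalkSpecializes hy ≫ f.stalkMap (genericPoint X)
  let ψ : Y.presheaf.stalk y ⟶ CommRingCat.of R := CommRingCat.ofHom (φ.hom.codRestrict R.toSubring hdom.1)
  haveI : IsLocalHom ψ.hom := ⟨fun a ha => by
    by_contra hn
    have h1 : R.valuation ((ψ.hom a : R) : X.functionField) < 1 :=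
      hdom.2 a ((IsLocalRing.mem_maximalIdeal a).mpr hn)
    exact (IsLocalRing.mem_maximalIdeal _).mp ((ValuationSubring.valuation_lt_one_iff R (ψ.hom a)).mpr h1) ha⟩
  have w : X.fromSpecStalk (genericPoint X) ≫ f =
      Spec.map (CommRingCat.ofHom (algebraMap R X.functionField)) ≫ Spec.map ψ ≫ Y.fromSpecStalk y := by
    rw [← Scheme.SpecMap_stalkMap_fromSpecStalk, ← Scheme.SpecMap_stalkSpecializes_fromSpecStalk hy]
    simp_rw [← Spec.map_comp_assoc]
    rfl
  have hvc : ValuativeCriterion.Existence f := by
    have h : UniversallyClosed f := inferInstance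
    rw [UniversallyClosed.eq_valuativeCriterion] at h
    exact h.1
  obtain ⟨⟨l, hl₁, -⟩⟩ := (hvc ⟨R, X.functionField, X.fromSpecStalk (genericPoint X),
    Spec.map ψ ≫ Y.fromSpecStalk y, ⟨w⟩⟩).exists_lift
  dsimp only at hl₁
  let x := l.base (IsLocalRing.closedPoint R)
  let θ : X.presheaf.stalk x ⟶ CommRingCat.of R := Scheme.stalkClosedPointTo l
  have key : θ ≫ CommRingCat.ofHom (algebraMap R X.functionField) =
      X.presheaf.stalkSpecializes ((genericPoint_spec X).specializes trivial) := by
    apply Spec.map_injective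
    rw [← cancel_mono (X.fromSpecStalk x), Spec.map_comp, Category.assoc,
      Scheme.Spec_stalkClosedPointTo_fromSpecStalk, hl₁,
      Scheme.SpecMap_stalkSpecializes_fromSpecStalk]
  have key' : ∀ a, algebraMap (X.presheaf.stalk x) X.functionField a = ((θ.hom a : R) : X.functionField) :=
    fun a => (congrArg (fun m => CommRingCat.Hom.hom m a) key).symm
  refine ⟨x, fun a => ?_, fun a ha => ?_⟩
  · rw [key']; exact (θ.hom a : R).2
  · rw [key']
    refine (ValuationSubring.valuation_lt_one_iff R (θ.hom a)).mp ?_
    have : IsLocalHom θ.hom := inferInstance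
    exact (IsLocalRing.mem_maximalIdeal _).mpr (fun hu => (IsLocalRing.mem_maximalIdeal _).mp ha (this.map_nonunit a hu))

end Groth.Agent.S4441
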