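import Groth.Statements.S4443
import Groth.Agent.Ega2Proj.Curve

set_option autoImplicit false
universe u
open CategoryTheory CategoryTheory.Limits AlgebraicGeometry
open EGA2

namespace Groth.Agent.S4443

/-- Let X be an irreducible algebraic curve over a field k (separated and of finite type over k,
nonempty, irreducible, local rings at closed points of dimension one). Then the generic point is the
only non-closed point of X, and the closed subsets of X distinct from X are exactly the finite sets
of closed points. (The published statement adds that these are also exactly the subsets of X that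
are not dense in X, an immediate consequence; this row does not state it.) -/
theorem result (k : Type u) [Field k] (X : Scheme.{u})
    [X.Over (Spec (CommRingCat.of k))] [LocallyOfFiniteType (X ↘ (Spec (CommRingCat.of k)))]
    [QuasiCompact (X ↘ (Spec (CommRingCat.of k)))] [IsSeparated (X ↘ (Spec (CommRingCat.of k)))]
    [Nonempty X] [IrreducibleSpace X] (hcurve : ∀ x : X, IsClosed ({x} : Set X) → ringKrullDim (X.presheaf.stalk x) = 1) :
    (∀ x : X, ¬ IsClosed ({x} : Set X) → x = genericPoint X) ∧
      ∀ F : Set X, IsClosed F → (F ≠ Set.univ ↔ (F.Finite ∧ ∀ x ∈ F, IsClosed ({x} : Set X))) := by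
  haveI : JacobsonSpace X := LocallyOfFiniteType.jacobsonSpace (X ↘ (Spec (CommRingCat.of k)))
  haveI : IsLocallyNoetherian X := LocallyOfFiniteType.isLocallyNoetherian (X ↘ (Spec (CommRingCat.of k)))
  haveI : CompactSpace X := QuasiCompact.compactSpace_of_compactSpace (X ↘ (Spec (CommRingCat.of k)))
  haveI : AlgebraicGeometry.IsNoetherian X := {}
  exact ⟨fun x hx => Groth.Ega2Proj.eq_genericPoint_of_not_isClosed hcurve hx,
    fun F hF => Groth.Ega2Proj.isClosed_finite_iff hcurve hF⟩

end Groth.Agent.S4443
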