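import Groth.Statements.S4444
import Groth.Agent.Ega2Proj.CurveCompletion

set_option autoImplicit false
universe u
open CategoryTheory CategoryTheory.Limits AlgebraicGeometry
open EGA2

namespace Groth.Agent.S4444

/-- Every normal algebraic curve X over a field k (separated and of finite type over k, nonempty, local
rings at closed points of dimension one, all local rings integrally closed domains) admits a
k-morphism which is an open immersion with dense image into a normal algebraic curve proper over k.
(The uniqueness of this completion up to unique isomorphism is not part of this row.) -/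
theorem result (k : Type u) [Field k] (X : Scheme.{u})
    [X.Over (Spec (CommRingCat.of k))] [LocallyOfFiniteType (X ↘ (Spec (CommRingCat.of k)))]
    [QuasiCompact (X ↘ (Spec (CommRingCat.of k)))] [IsSeparated (X ↘ (Spec (CommRingCat.of k)))] [Nonempty X]
    (hcurve : ∀ x : X, IsClosed ({x} : Set X) → ringKrullDim (X.presheaf.stalk x) = 1) (hnorm : Pi1.IsNormalScheme X) :
    ∃ (Xc : Scheme.{u}) (sc : Xc ⟶ Spec (CommRingCat.of k)) (j : X ⟶ Xc), IsOpenImmersion j ∧ Dense (Set.range j.base) ∧
      j ≫ sc = X ↘ (Spec (CommRingCat.of k)) ∧ IsProper sc ∧ Pi1.IsNormalScheme Xc ∧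
      ∀ x : Xc, IsClosed ({x} : Set Xc) → ringKrullDim (Xc.presheaf.stalk x) = 1 := by
  exact Groth.Ega2Proj.CurveCompl.exists_completion k X hcurve hnorm

end Groth.Agent.S4444
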