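import Groth.Statements.S4447


set_option autoImplicit false
universe u
open CategoryTheory CategoryTheory.Limits AlgebraicGeometry
open EGA2

namespace Groth.Agent.S4447

/-- Let p : X ⟶ Y be a morphism, x a point of X, y = p(x) and y' a specialization of y distinct from y.
Then there are a valuation ring A which is not a field, with field of fractions the residue field
k(x), and a morphism Spec A ⟶ Y mapping the closed point to y' and restricting on Spec k(x) to the
canonical morphism Spec k(x) ⟶ X ⟶ Y (in particular the generic point of Spec A goes to y). -/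
theorem result {X Y : Scheme.{u}} (p : X ⟶ Y) (x : X) (y' : Y)
    (hsp : p.base x ⤳ y') (hne : y' ≠ p.base x) :
    ∃ (A : ValuationSubring (X.residueField x)) (h : Spec (CommRingCat.of A) ⟶ Y), A ≠ ⊤ ∧
      h.base (IsLocalRing.closedPoint A) = y' ∧
      Spec.map (CommRingCat.ofHom A.subtype) ≫ h = X.fromSpecResidueField x ≫ p := by
  let φ : Y.presheaf.stalk y' ⟶ X.residueField x :=
    Y.presheaf.stalkSpecializes hsp ≫ p.stalkMap x ≫ X.residue x
  obtain ⟨A, hA, hA_local⟩ := IsLocalRing.exists_factor_valuationRing φ.hom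
  let ψ : Y.presheaf.stalk y' ⟶ CommRingCat.of A := CommRingCat.ofHom (φ.hom.codRestrict _ hA)
  have w : Spec.map (CommRingCat.ofHom A.subtype) ≫ (Spec.map ψ ≫ Y.fromSpecStalk y') =
      X.fromSpecResidueField x ≫ p := by
    rw [Scheme.fromSpecResidueField, Category.assoc, ← Scheme.SpecMap_stalkMap_fromSpecStalk,
      ← Scheme.SpecMap_stalkSpecializes_fromSpecStalk hsp]
    simp_rw [← Spec.map_comp_assoc]
    rfl
  haveI : IsLocalHom ψ.hom := hA_local
  have hc : (Spec.map ψ ≫ Y.fromSpecStalk y').base (IsLocalRing.closedPoint A) = y' := by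
    exact (congrArg (fun z => (Y.fromSpecStalk y').base z) (IsLocalRing.comap_closedPoint ψ.hom)).trans Scheme.fromSpecStalk_closedPoint
  refine ⟨A, Spec.map ψ ≫ Y.fromSpecStalk y', ?_, hc, w⟩
  intro htop
  have hall : ∀ z : X.residueField x, z ∈ A := fun z => by rw [htop]; exact ValuationSubring.mem_top z
  haveI : IsLocalHom (CommRingCat.ofHom A.subtype).hom := ⟨fun a ha => by
    have h0 : (a : X.residueField x) ≠ 0 := ha.ne_zero
    refine isUnit_iff_exists_inv.mpr ⟨⟨(a : X.residueField x)⁻¹, hall _⟩, ?_⟩
    exact Subtype.ext (mul_inv_cancel₀ h0)⟩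
  apply hne
  have hh := congrArg (fun (m : Spec (X.residueField x) ⟶ Y) =>
    m.base (IsLocalRing.closedPoint (X.residueField x))) w
  have h1 : (Spec.map (CommRingCat.ofHom A.subtype)).base (IsLocalRing.closedPoint (X.residueField x)) =
      IsLocalRing.closedPoint A := IsLocalRing.comap_closedPoint _
  have h2 : (Spec.map ψ ≫ Y.fromSpecStalk y').base ((Spec.map (CommRingCat.ofHom A.subtype)).base
      (IsLocalRing.closedPoint (X.residueField x))) = p.base x := by
    refine Eq.trans ?_ (congrArg (fun z => p.base z) (Scheme.fromSpecResidueField_apply x (IsLocalRing.closedPoint (X.residueField x))))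
    exact hh
  rw [h1] at h2
  exact hc.symm.trans h2

end Groth.Agent.S4447
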