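import Groth.Statements.S4451
import Groth.Agent.Ega2Proj.NormalCurve
import Groth.Agent.Ega2Proj.Curve
import Mathlib.AlgebraicGeometry.ValuativeCriterion

set_option autoImplicit false
universe u
open CategoryTheory CategoryTheory.Limits AlgebraicGeometry
attribute [local instance] Curv2.stalkAlgebra
open EGA2

namespace Groth.Agent.S4451

/-- Let X be a normal, complete, irreducible algebraic curve over a field k with field of rational
functions K. The set of local rings of X, as subrings of K, consists of K itself (at the generic
point) and of the valuation rings of K containing k (and distinct from K): every non-generic point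
has such a valuation ring as local ring, and every such valuation ring is the local ring of exactly
one point. -/
theorem result (k : Type u) [Field k] (X : Scheme.{u})
    [X.Over (Spec (CommRingCat.of k))] [IsProper (X ↘ (Spec (CommRingCat.of k)))] [IsIntegral X]
    (hX : ∀ x : X, IsClosed ({x} : Set X) → ringKrullDim (X.presheaf.stalk x) = 1) (hnorm : Pi1.IsNormalScheme X) :
    (∀ x : X, x ≠ genericPoint X → ∃ R : ValuationSubring X.functionField, R ≠ ⊤ ∧
        (R : Set X.functionField) = Set.range (algebraMap (X.presheaf.stalk x) X.functionField)) ∧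
      ∀ R : ValuationSubring X.functionField, R ≠ ⊤ → (∀ c : k, algebraMap k X.functionField c ∈ R) →
        ∃! x : X, (R : Set X.functionField) = Set.range (algebraMap (X.presheaf.stalk x) X.functionField) := by
  classical
  haveI : JacobsonSpace X := LocallyOfFiniteType.jacobsonSpace (X ↘ (Spec (CommRingCat.of k)))
  haveI : IsLocallyNoetherian X := LocallyOfFiniteType.isLocallyNoetherian (X ↘ (Spec (CommRingCat.of k)))
  have hξ : genericPoint X ∈ Set.univ := trivial
  -- local rings are valuation subrings of the function field
  have hsub : ∀ x : X, ∃ R : ValuationSubring X.functionField,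
      (R : Set X.functionField) = Set.range (algebraMap (X.presheaf.stalk x) X.functionField) := by
    intro x
    obtain ⟨hd, hvr⟩ := Groth.Ega2Proj.valuationRing_stalk hnorm hX x
    refine ⟨ValuationSubring.ofSubring (algebraMap (X.presheaf.stalk x) X.functionField).range fun z => ?_, ?_⟩
    · rcases ValuationRing.isInteger_or_isInteger (X.presheaf.stalk x) z with hz | hz
      · exact Or.inl hz
      · exact Or.inr hz
    · rfl
  have hne : ∀ x : X, x ≠ genericPoint X → ∀ R : ValuationSubring X.functionField,
      (R : Set X.functionField) = Set.range (algebraMap (X.presheaf.stalk x) X.functionField) → R ≠ ⊤ := by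
    intro x hx R hR htop
    have hc : IsClosed ({x} : Set X) := by
      by_contra h
      exact hx (Groth.Ega2Proj.eq_genericPoint_of_not_isClosed hX h)
    have hsurj : Function.Surjective (algebraMap (X.presheaf.stalk x) X.functionField) := fun z => by
      have : z ∈ (R : Set X.functionField) := by rw [htop]; exact ValuationSubring.mem_top z
      rw [hR] at this; exact this
    have hfield : IsField (X.presheaf.stalk x) :=
      MulEquiv.isField (Field.toIsField X.functionField)
        (RingEquiv.ofBijective _ ⟨IsFractionRing.injective (X.presheaf.stalk x) X.functionField, hsurj⟩).toMulEquiv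
    have h1 := hX x hc
    rw [ringKrullDim_eq_zero_of_isField hfield] at h1
    exact zero_ne_one h1
  refine ⟨fun x hx => ?_, fun R hR hk => ?_⟩
  · obtain ⟨R, hR⟩ := hsub x
    exact ⟨R, hne x hx R hR, hR⟩
  · let c : Spec (CommRingCat.of R) ⟶ Spec (CommRingCat.of k) :=
      Spec.map (CommRingCat.ofHom ((algebraMap k X.functionField).codRestrict R.toSubring hk))
    have w : X.fromSpecStalk (genericPoint X) ≫ (X ↘ Spec (CommRingCat.of k)) =
        Spec.map (CommRingCat.ofHom (algebraMap R X.functionField)) ≫ c := by
      rw [← Groth.Ega2Proj.SpecMap_stalkMap_over, ← Spec.map_comp]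
      rfl
    have hvc : ValuativeCriterion (X ↘ Spec (CommRingCat.of k)) :=
      (IsProper.eq_valuativeCriterion ▸ (inferInstance : IsProper (X ↘ Spec (CommRingCat.of k)))).1.1.1
    let S : ValuativeCommSq (X ↘ Spec (CommRingCat.of k)) :=
      ⟨R, X.functionField, X.fromSpecStalk (genericPoint X), c, ⟨w⟩⟩
    obtain ⟨⟨⟨l, hl1, hl2⟩, huniq⟩⟩ := hvc S
    let x := l.base (IsLocalRing.closedPoint R)
    let θ : X.presheaf.stalk x ⟶ CommRingCat.of R := Scheme.stalkClosedPointTo l
    have key : ∀ (y : X) (γ : X.presheaf.stalk y ⟶ CommRingCat.of R),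
        (γ ≫ CommRingCat.ofHom (algebraMap R X.functionField) =
          X.presheaf.stalkSpecializes ((genericPoint_spec X).specializes trivial)) ↔
        Spec.map (CommRingCat.ofHom (algebraMap R X.functionField)) ≫ Spec.map γ ≫ X.fromSpecStalk y =
          X.fromSpecStalk (genericPoint X) := by
      intro y γ
      rw [← Scheme.SpecMap_stalkSpecializes_fromSpecStalk ((genericPoint_spec X).specializes trivial : genericPoint X ⤳ y),
        ← Category.assoc, ← Spec.map_comp]
      constructor
      · intro h; exact congrArg (fun m => Spec.map m ≫ X.fromSpecStalk y) h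
      · intro h; exact Spec.map_injective ((cancel_mono (X.fromSpecStalk y)).mp h)
    have hθ := (key x θ).mpr (by rw [Scheme.Spec_stalkClosedPointTo_fromSpecStalk]; exact hl1)
    have hθ' : ∀ a, algebraMap (X.presheaf.stalk x) X.functionField a = ((θ.hom a : R) : X.functionField) :=
      fun a => (congrArg (fun m => CommRingCat.Hom.hom m a) hθ).symm
    haveI : IsLocalHom θ.hom := inferInstance
    obtain ⟨R', hR'⟩ := hsub x
    have hle : R' ≤ R := fun z hz => by
      have hz' : z ∈ Set.range (algebraMap (X.presheaf.stalk x) X.functionField) := hR' ▸ hz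
      obtain ⟨a, rfl⟩ := hz'
      rw [hθ']; exact (θ.hom a).2
    have heq : R' = R := by
      refine SetLike.ext fun z => ⟨fun hz => hle hz, fun hz => ?_⟩
      by_contra hz'
      rcases R'.mem_or_inv_mem z with h | h
      · exact hz' h
      have hz0 : z ≠ 0 := fun h0 => hz' (h0 ▸ R'.zero_mem)
      have h' : z⁻¹ ∈ Set.range (algebraMap (X.presheaf.stalk x) X.functionField) := hR' ▸ h
      obtain ⟨a, ha⟩ := h'
      have hu : IsUnit (θ.hom a) := by
        refine isUnit_iff_exists_inv.mpr ⟨⟨z, hz⟩, Subtype.ext ?_⟩
        change ((θ.hom a : R) : X.functionField) * z = 1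
        rw [← hθ', ha, inv_mul_cancel₀ hz0]
      obtain ⟨b, hb⟩ := (isUnit_of_map_unit θ.hom a hu).exists_right_inv
      have hzb : z = algebraMap (X.presheaf.stalk x) X.functionField b := by
        have h2 := congrArg (algebraMap (X.presheaf.stalk x) X.functionField) hb
        rw [map_mul, map_one, ha, inv_mul_eq_one₀ hz0] at h2
        exact h2
      refine hz' ?_
      change z ∈ (R' : Set X.functionField)
      rw [hR', hzb]; exact ⟨b, rfl⟩
    refine ⟨x, heq ▸ hR', fun y hy => ?_⟩
    have hmem : ∀ a, algebraMap (X.presheaf.stalk y) X.functionField a ∈ R.toSubring := fun a => by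
      change algebraMap (X.presheaf.stalk y) X.functionField a ∈ (R : Set X.functionField)
      rw [hy]; exact ⟨a, rfl⟩
    let γ : X.presheaf.stalk y ⟶ CommRingCat.of R :=
      CommRingCat.ofHom ((algebraMap (X.presheaf.stalk y) X.functionField).codRestrict R.toSubring hmem)
    have hγ := (key y γ).mp rfl
    have hγloc : IsLocalHom γ.hom := by
      refine ⟨fun a ha => ?_⟩
      obtain ⟨r, hr⟩ := ha.exists_right_inv
      have hr' : algebraMap (X.presheaf.stalk y) X.functionField a * (r : X.functionField) = 1 :=
        congrArg Subtype.val hr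
      have : (r : X.functionField) ∈ Set.range (algebraMap (X.presheaf.stalk y) X.functionField) := hy ▸ r.2
      obtain ⟨b, hb⟩ := this
      exact IsUnit.of_mul_eq_one b (IsFractionRing.injective (X.presheaf.stalk y) X.functionField
        (by rw [map_mul, hb, hr', map_one]))
    have hsub2 := IsSeparated.valuativeCriterion (X ↘ Spec (CommRingCat.of k)) S
    have hover : (Spec.map γ ≫ X.fromSpecStalk y) ≫ (X ↘ Spec (CommRingCat.of k)) = c := by
      rw [Category.assoc, ← Groth.Ega2Proj.SpecMap_stalkMap_over, ← Spec.map_comp]
      congr 1
      ext a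
      change algebraMap (X.presheaf.stalk y) X.functionField (Curv2.stalkMap k X y a) =
        Curv2.stalkMap k X (genericPoint X) a
      exact TopCat.Presheaf.germ_stalkSpecializes_apply X.presheaf (U := ⊤) trivial
        ((genericPoint_spec X).specializes trivial) _
    have hll : Spec.map γ ≫ X.fromSpecStalk y = l :=
      congrArg CommSq.LiftStruct.l (hsub2.elim ⟨_, hγ, hover⟩ ⟨l, hl1, hl2⟩)
    change y = l.base (IsLocalRing.closedPoint R)
    rw [← hll]
    exact ((congrArg (fun z => (X.fromSpecStalk y).base z) (IsLocalRing.comap_closedPoint γ.hom)).trans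
      Scheme.fromSpecStalk_closedPoint).symm

end Groth.Agent.S4451
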