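import Groth.Statements.S4452
import Groth.Agent.Ega2Proj.GrPush
import Groth.Agent.Ega2Proj.SymGen
import Groth.Agent.SymAlg.Univ
import Groth.Agent.RelTwist.ProjInv
import Groth.Agent.Ega2Proj2.RelProjBasic
import Groth.Agent.Ega2Proj.QuasiAffineAmple

set_option autoImplicit false
universe u
open CategoryTheory CategoryTheory.Limits AlgebraicGeometry
open EGA2

namespace Groth.Agent.S4452

/-- Every finite morphism f : X ⟶ Y is projective (here: X is Y-isomorphic to the homogeneous spectrum
of a quasi-coherent graded O_Y-algebra generated by its degree-one part, that part being of finite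
type — the form of projectivity equivalent to X being a closed subscheme of a projective bundle P(E)
with E quasi-coherent of finite type). -/
theorem result {X Y : Scheme.{u}} (f : X ⟶ Y) [IsFinite f] : RelProj.IsProjective f := by
  have : (Coh.structureModule X).IsQuasicoherent := Groth.PicAux.isQCoh_structureModule X
  have hj := Groth.SymAlg.isGrSymAlg_symGr (Coh.structureModule X)
  obtain ⟨P, p, chart, hP⟩ := Groth.Ega2P2.exists_isRelProj (Groth.SymAlg.symGr (Coh.structureModule X))
  have : IsIso p := Groth.RelTw.isIso_p hj hP (Groth.Ega2Proj.isInvertible_structure X)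
  have hid : RelProj.IsProjective (𝟙 X) :=
    ⟨_, P, p, chart, (asIso p).symm, Groth.Ega2Proj.isGenDegOne_sym hj,
      Groth.Ega2Proj.isFTDeg_one_sym hj fun U _ => Module.Finite.of_fg_top ⟨{Groth.PicAux.oneSec X U}, by
        rw [Finset.coe_singleton, eq_top_iff]
        exact fun x _ => Submodule.mem_span_singleton.mpr
          ⟨Groth.PicAux.toFun x, (Groth.PicAux.eq_toFun_smul_oneSec x).symm⟩⟩,
      hP, by simp⟩
  have := Groth.Ega2Proj.GrPush.isProjective_comp_finite f hid
  rwa [Category.id_comp] at this

end Groth.Agent.S4452
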