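import Groth.Statements.S4453
import Groth.Agent.S4452
import Groth.Agent.S9691
import Groth.Agent.Ega2Proj.NormModule
import Groth.Agent.Ega2Proj.QProjProper
import Groth.Agent.Ega2Proj.RelProjAmple
import Groth.Agent.S2331

set_option autoImplicit false
universe u
open CategoryTheory CategoryTheory.Limits AlgebraicGeometry
open EGA2

namespace Groth.Agent.S4453

/-- Let Y be a quasi-compact separated scheme or a scheme whose underlying space is Noetherian, f : X ⟶
Y a morphism of finite type and g : X' ⟶ X a finite surjective morphism such that the direct image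
of O_{X'} is a finite locally free O_X-module. Then f is projective if and only if f ∘ g is
projective. (The companion assertion, on quasi-projectivity, is the
existence-of-a-relatively-ample-module equivalence stated separately.) -/
theorem result {X X' Y : Scheme.{u}} (f : X ⟶ Y) [LocallyOfFiniteType f]
    [QuasiCompact f] (g : X' ⟶ X) [IsFinite g] [Surjective g]
    (hfree : FlatMod.IsFinLocFree ((Coh.push g).obj (Coh.structureModule X')))
    (hY : (CompactSpace Y ∧ Y.IsSeparated) ∨ TopologicalSpace.NoetherianSpace Y) :
    RelProj.IsProjective f ↔ RelProj.IsProjective (g ≫ f) := by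
  have : CompactSpace Y := by
    rcases hY with ⟨h, -⟩ | h
    · exact h
    · infer_instance
  have : QuasiSeparatedSpace Y := by
    rcases hY with ⟨-, h⟩ | h <;> infer_instance
  constructor
  · intro hf
    have hg : RelProj.IsProjective g := Groth.Agent.S4452.result g
    have : IsProper f := Groth.Chow.isProper_of_isProjective hf
    obtain ⟨-, -, L, hL⟩ := Groth.Ega2Proj.isQuasiProjective_of_isProjective hg
    obtain ⟨-, -, K, hK⟩ := Groth.Ega2Proj.isQuasiProjective_of_isProjective hf
    obtain ⟨n₀, -, hn⟩ := Groth.Agent.S2331.result g f L K hL hK
    exact Groth.Ega2Proj.isProjective_of_isQuasiProjective ⟨inferInstance, inferInstance, _, hn n₀ le_rfl⟩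
  · intro h
    have : IsProper (g ≫ f) := Groth.Chow.isProper_of_isProjective h
    obtain ⟨-, -, L', hL'⟩ := Groth.Ega2Proj.isQuasiProjective_of_isProjective h
    obtain ⟨N, -, hN⟩ := Groth.Ega2Proj.NormMod.exists_isRelAmple_of_finite g f hfree hL'
    have : IsSeparated f := Groth.Agent.S9691.result f N hN
    have : IsProper f :=
      { toUniversallyClosed := UniversallyClosed.of_comp_surjective g f }
    exact Groth.Ega2Proj.isProjective_of_isQuasiProjective ⟨inferInstance, inferInstance, N, hN⟩

end Groth.Agent.S4453
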