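import Groth.Statements.S4455
import Groth.Agent.S4454
import Mathlib.AlgebraicGeometry.Morphisms.Proper

set_option autoImplicit false
universe u
open CategoryTheory CategoryTheory.Limits AlgebraicGeometry
open EGA2

namespace Groth.Agent.S4455

/-- An integral algebraic curve X over a field k is complete (proper over k) if and only if its
normalization X', with the composite structure morphism X' ⟶ X ⟶ Spec k, is proper over k. (The
quasi-compactness and quasi-separatedness binders on the morphism from the generic point always
hold; they are needed only to form the normalization.) -/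
theorem result (k : Type u) [Field k] (X : Scheme.{u})
    [X.Over (Spec (CommRingCat.of k))] [LocallyOfFiniteType (X ↘ (Spec (CommRingCat.of k)))]
    [QuasiCompact (X ↘ (Spec (CommRingCat.of k)))] [IsSeparated (X ↘ (Spec (CommRingCat.of k)))] [IsIntegral X]
    (hX : ∀ x : X, IsClosed ({x} : Set X) → ringKrullDim (X.presheaf.stalk x) = 1)
    [QuasiCompact (X.fromSpecStalk (genericPoint X))] [QuasiSeparated (X.fromSpecStalk (genericPoint X))] :
    IsProper (X ↘ (Spec (CommRingCat.of k))) ↔ IsProper (Curv2.normalizationι X ≫ (X ↘ (Spec (CommRingCat.of k)))) := by
  let str := X ↘ Spec (CommRingCat.of k)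
  let g := X.fromSpecStalk (genericPoint X)
  have hg : g = Spec.map (CommRingCat.ofHom (RingHom.id X.functionField)) ≫ X.fromSpecStalk (genericPoint X) := by
    rw [show CommRingCat.ofHom (RingHom.id X.functionField) = 𝟙 _ from rfl, Spec.map_id]
    exact (Category.id_comp _).symm
  obtain ⟨hfin, -, -⟩ := Groth.Agent.S4454.result k X hX X.functionField (RingHom.id _)
    (RingHom.Finite.id _) g hg
  haveI : IsFinite (Curv2.normalizationι X) := hfin
  haveI : Surjective (Curv2.normalizationι X) := by
    refine ⟨Set.range_eq_univ.1 (eq_top_iff.2 ?_)⟩
    intro x _
    have hξ : genericPoint X ∈ Set.range (Curv2.normalizationι X) :=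
      ⟨g.toNormalization (IsLocalRing.closedPoint X.functionField), by
        refine Eq.trans (congr(($(g.toNormalization_fromNormalization)) (IsLocalRing.closedPoint X.functionField))) ?_
        exact X.fromSpecStalk_closedPoint (x := genericPoint X)⟩
    exact ((genericPoint_spec X).specializes trivial).mem_closed
      (Curv2.normalizationι X).isClosedMap.isClosed_range hξ
  constructor
  · intro h
    haveI : IsProper str := h
    exact inferInstanceAs (IsProper (Curv2.normalizationι X ≫ str))
  · intro h
    haveI : IsProper (Curv2.normalizationι X ≫ str) := h
    haveI : UniversallyClosed str := UniversallyClosed.of_comp_surjective (Curv2.normalizationι X) str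
    exact { }

end Groth.Agent.S4455
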