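import Groth.Statements.S4459
-- import your own Groth.Agent.* helpers here

set_option autoImplicit false
universe u
open Coherent

namespace Groth.Agent.S4459

open AlgebraicGeometry CategoryTheory in
/-- Let A be a Noetherian ring which is separated and complete for the J-adic topology, and let f : X →
Spec A be a morphism of schemes which is a closed map on underlying spaces. Then every open subset
of X containing the inverse image of V(J) is all of X. (The published statement also assumes X of
finite type over A; that hypothesis is not used.) -/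
theorem result (A : Type u) [CommRing A] [IsNoetherianRing A]
    (J : Ideal A) [IsAdicComplete J A] {X : Scheme.{u}} (f : X ⟶ Spec (CommRingCat.of A))
    (hf : IsClosedMap f.base) (U : X.Opens)
    (hU : f.base ⁻¹' (PrimeSpectrum.zeroLocus (J : Set A)) ⊆ (U : Set X)) : U = ⊤ := by
  by_contra hne
  obtain ⟨x, hx⟩ : ∃ x : X, x ∉ U := by
    by_contra h
    exact hne (eq_top_iff.mpr fun x _ => not_not.mp fun h' => h ⟨x, h'⟩)
  have hc : IsClosed (f.base '' (U : Set X)ᶜ) := hf _ U.2.isClosed_compl
  obtain ⟨m, hm, hle⟩ := Ideal.exists_le_maximal (f.base x : PrimeSpectrum A).asIdeal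
    (f.base x : PrimeSpectrum A).isPrime.ne_top
  have hsp : f.base x ⤳ (⟨m, hm.isPrime⟩ : PrimeSpectrum A) :=
    (PrimeSpectrum.le_iff_specializes (f.base x : PrimeSpectrum A) ⟨m, hm.isPrime⟩).1 hle
  obtain ⟨y, hy, hy'⟩ := hsp.mem_closed hc ⟨x, hx, rfl⟩
  refine hy (hU ?_)
  show f.base y ∈ PrimeSpectrum.zeroLocus (J : Set A)
  rw [hy']
  exact fun a ha => Ideal.mem_sInf.1 (IsAdicComplete.le_jacobson_bot J ha) ⟨bot_le, hm⟩


end Groth.Agent.S4459
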