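import Groth.Statements.S4462
import Groth.Agent.CohTwo.ExchangeFibre
import Groth.Agent.CohC3.LimitSys
import Groth.Agent.CohC3.AdicSeq
import Groth.Agent.CohBase.FlatBC.Glue

set_option autoImplicit false
universe u
open Coherent

namespace Groth.Agent.S4462

section Aux

open AlgebraicGeometry CategoryTheory CategoryTheory.Limits TopologicalSpace Opposite
open Groth.CohBase Groth.CohC3 Groth.CohBase.CxRank
open scoped TensorProduct

variable {A : Type u} [CommRing A] {X : Scheme.{u}} [X.Over (Spec (CommRingCat.of A))]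
  (F : X.Modules) (M : ModuleCat.{u} A)

/-- `s ↦ s ⊗ m`. -/
noncomputable def secHom (m : M) : F ⟶ (CohIII.tensorAFunctor A F).obj M :=
  show F ⟶ CohB1.tensorMod (pullTilde (X := X) M) F from
  ⟨PresheafOfModules.homMk
    { app := fun U => AddCommGrpCat.ofHom (AddMonoidHom.mk'
        (fun s : Γ(F, U.unop) => tensorSec F M U.unop ((show secA A F U.unop from s) ⊗ₜ m))
        fun s t => (congrArg _ (TensorProduct.add_tmul _ _ _)).trans (map_add _ _ _))
      naturality := fun U V g => AddCommGrpCat.ext fun (s : Γ(F, U.unop)) => by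
        refine Eq.trans ?_ (tensorSec_res F M g.unop.le ((show secA A F U.unop from s) ⊗ₜ m)).symm
        rfl }
    fun U (r : Γ(X, U.unop)) (s : Γ(F, U.unop)) => by
      change tensorSec F M U.unop ((show secA A F U.unop from r • s) ⊗ₜ m) =
        r • tensorSec F M U.unop ((show secA A F U.unop from s) ⊗ₜ m)
      rw [tensorSec_tmul, tensorSec_tmul]
      exact Groth.PicAux.tmulSec_smul_right _ _ _⟩

lemma secHom_app (m : M) (U : X.Opens) (s : Γ(F, U)) :
    (secHom F M m).app U s = tensorSec F M U ((show secA A F U from s) ⊗ₜ m) := rfl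

lemma secHom_map {N : ModuleCat.{u} A} (φ : M ⟶ N) (m : M) :
    secHom F M m ≫ (CohIII.tensorAFunctor A F).map φ = secHom F N (φ m) :=
  Scheme.Modules.hom_ext _ _ fun U => AddCommGrpCat.ext fun s =>
    (tensorSec_map F M φ U ((show secA A F U from s) ⊗ₜ m)).trans rfl

lemma app_smul_secHom [F.IsQuasicoherent] (m : M) (a : A) (U : X.Opens) (s : Γ(F, U)) :
    (secHom F M m).app U (toSec A U a • s) = (secHom F M (a • m)).app U s := by
  rw [Scheme.Modules.Hom.app_smul, secHom_app, secHom_app, TensorProduct.tmul_smul]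
  exact (tensorSec_smul A F M U a _).symm

lemma isIso_secHom_one [F.IsQuasicoherent] : IsIso (secHom F (ModuleCat.of A A) 1) := by
  refine FlatBC.isIso_of_local_bijective _ fun x W hx => ?_
  obtain ⟨W', hW', hxW', hle⟩ := Opens.isBasis_iff_nbhd.mp X.isBasis_affineOpens hx
  refine ⟨W', hle, hxW', ?_⟩
  have hb := (tensorSec_bijective F (ModuleCat.of A A) hW').comp
    (TensorProduct.rid A (secA A F W')).symm.bijective
  exact hb

lemma isQuot_secHom [F.IsQuasicoherent] (J : Ideal A) :
    IsQuot J (secHom F (ModuleCat.of A (A ⧸ J)) 1) := by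
  have htmul : ∀ (U : X.Opens) (s : secA A F U) (a : A),
      (a • s) ⊗ₜ[A] (show ModuleCat.of A (A ⧸ J) from (1 : A ⧸ J)) =
        s ⊗ₜ[A] (show ModuleCat.of A (A ⧸ J) from Ideal.Quotient.mk J a) := fun U s a => by
    rw [TensorProduct.smul_tmul]
    exact congrArg (s ⊗ₜ ·) ((Algebra.smul_def a (1 : A ⧸ J)).trans (mul_one _))
  refine isQuot_of_affine _ (fun a ha => ?_) (fun U hU y => ?_) (fun U hU x hx => ?_)
  · refine Scheme.Modules.hom_ext _ _ fun U => AddCommGrpCat.ext fun s => ?_
    refine (app_smul_secHom F (ModuleCat.of A (A ⧸ J)) 1 a U s).trans ?_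
    have h0 : a • (1 : A ⧸ J) = 0 :=
      ((Algebra.smul_def a (1 : A ⧸ J)).trans (mul_one _)).trans (Ideal.Quotient.eq_zero_iff_mem.2 ha)
    rw [secHom_app]
    refine (congrArg (fun z : A ⧸ J => tensorSec F (ModuleCat.of A (A ⧸ J)) U
      ((show secA A F U from s) ⊗ₜ[A] (show ModuleCat.of A (A ⧸ J) from z))) h0).trans ?_
    exact (congrArg _ (TensorProduct.tmul_zero _ _)).trans (map_zero _)
  · obtain ⟨z, rfl⟩ := (tensorSec_bijective F _ hU).2 y
    induction z using TensorProduct.induction_on with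
    | zero => exact ⟨0, by rw [map_zero, map_zero]; rfl⟩
    | tmul s m =>
      obtain ⟨a, rfl⟩ := Ideal.Quotient.mk_surjective m
      exact ⟨(show Γ(F, U) from a • s), (secHom_app F (ModuleCat.of A (A ⧸ J)) 1 U _).trans
        (congrArg (tensorSec F (ModuleCat.of A (A ⧸ J)) U) (htmul U s a))⟩
    | add p q hp hq =>
      obtain ⟨s, hs⟩ := hp
      obtain ⟨t, ht⟩ := hq
      exact ⟨s + t, by rw [map_add, map_add, hs, ht]; rfl⟩
  · have h0 : (show secA A F U from x) ⊗ₜ[A] (show ModuleCat.of A (A ⧸ J) from (1 : A ⧸ J)) = 0 :=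
      (tensorSec_bijective F (ModuleCat.of A (A ⧸ J)) hU).1
        ((secHom_app F (ModuleCat.of A (A ⧸ J)) 1 U x).symm.trans (hx.trans (map_zero _).symm))
    have h1 := congrArg (TensorProduct.tensorQuotEquivQuotSMul (secA A F U) J) h0
    rw [map_zero, ← map_one (Ideal.Quotient.mk J),
      TensorProduct.tensorQuotEquivQuotSMul_tmul_mk, one_smul,
      Submodule.Quotient.mk_eq_zero] at h1
    exact Submodule.smul_induction_on h1
      (fun a ha s _ => Submodule.smul_mem_smul (Ideal.mem_map_of_mem _ ha) Submodule.mem_top)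
      fun s t hs ht => Submodule.add_mem _ hs ht

variable [IsNoetherianRing A] [IsLocalRing A] [IsProper (X ↘ Spec (CommRingCat.of A))]

lemma surjective_toHH (hF : Coh.IsCoh F)
    (hfl : FlatMod.IsFlatOver (X ↘ Spec (CommRingCat.of A)) F) (n : ℕ)
    (hvan : Subsingleton
      (CohIII.fiberH (X ↘ Spec (CommRingCat.of A)) F (IsLocalRing.closedPoint A) (n + 1)))
    (p : ℕ) : Function.Surjective (Formal.toHHmodPow (IsLocalRing.maximalIdeal A) F n p) := by
  have := hF.1
  obtain ⟨L, hL⟩ := Groth.CohTwo.exists_isFibreModel F hF hfl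
  have := hL.finite
  have := hL.flat
  have hinj : ∀ (K : Type u) [Field K] [Algebra A K],
      RingHom.ker (algebraMap A K) = IsLocalRing.maximalIdeal A →
      Function.Injective ((dq L ((n + 1 : ℕ) : ℤ)).lTensor K) := fun K _ _ hK => by
    refine injective_of_finrank_ker_eq_zero L _ K ?_
    rw [← hL.fiberRank_eq (n + 1) (IsLocalRing.closedPoint A) K hK]
    exact Module.finrank_zero_of_subsingleton
  have hflat : Module.Flat A (Qc L (((n + 1 : ℕ) : ℤ) + 1)) :=
    flat_of_injective_residue L _ fun m hm => by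
      obtain rfl := IsLocalRing.eq_maximalIdeal hm
      let : Field (A ⧸ IsLocalRing.maximalIdeal A) := Ideal.Quotient.field _
      exact hinj _ (by rw [Ideal.Quotient.algebraMap_eq, Ideal.mk_ker])
  have hsub : Subsingleton (Hk L ((n + 1 : ℕ) : ℤ)) := by
    rw [← Module.support_eq_empty_iff (R := A)]
    refine Set.eq_empty_of_forall_notMem fun x hx => ?_
    exact notMem_support_of_injective L _ (IsLocalRing.closedPoint A)
      (hinj _ (Ideal.ker_algebraMap_residueField _))
      (Module.mem_support_mono (IsLocalRing.le_maximalIdeal x.2.ne_top) hx)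
  have h1 : Module.Flat A (Qc L ((n + 1 : ℕ) : ℤ)) := flat_Qc_of_next L _ hflat inferInstance
  have hepi : (CohIII.TFun L (n : ℤ)).PreservesEpimorphisms := by
    have h1' : Module.Flat A (Qc L ((n : ℤ) + 1)) := by
      rw [Nat.cast_add_one] at h1
      exact h1
    refine (CxExch.epi_iff_flat L (n : ℤ)).2 (Module.Flat.of_linearEquiv (M := Qc L ((n : ℤ) + 1))
      (Submodule.quotEquivOfEq _ _ ?_))
    rw [show ((n : ℤ) + 1 - 1) = (n : ℤ) by omega]
  obtain ⟨e⟩ := hL.tensor n
  let J := IsLocalRing.maximalIdeal A ^ (p + 1)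
  let q : ModuleCat.of A A ⟶ ModuleCat.of A (A ⧸ J) := ModuleCat.ofHom (Submodule.mkQ J)
  have : Epi q := (ModuleCat.epi_iff_surjective q).2 (Submodule.mkQ_surjective _)
  have hT : Epi ((CohIII.tensorAFunctor A F ⋙ CohIII.HAb X n).map q) := by
    have : Epi ((CohIII.TFun L (n : ℤ)).map q) := hepi.preserves q
    exact ((MorphismProperty.epimorphisms AddCommGrpCat.{u}).arrow_mk_iso_iff
      (Arrow.isoMk (e.app _) (e.app _) (e.hom.naturality q).symm)).1
      (inferInstanceAs (Epi ((forget₂ (ModuleCat.{u} A) AddCommGrpCat.{u}).map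
        ((CohIII.TFun L (n : ℤ)).map q))))
  have := isIso_secHom_one (A := A) F
  have hQ := isQuot_secHom (A := A) F J
  have hπ := isQuot_modPowπ (IsLocalRing.maximalIdeal A) (p + 1) F
  obtain ⟨ψ, hψ⟩ := hQ.desc _ hπ.le_ann
  obtain ⟨ψ', hψ'⟩ := hπ.desc _ hQ.le_ann
  have := hQ.epi
  have : IsIso ψ := ⟨ψ', by rw [← cancel_epi (secHom F (ModuleCat.of A (A ⧸ J)) 1),
      ← Category.assoc, hψ, hψ', Category.comp_id],
    by rw [← cancel_epi (Formal.modPowπ (IsLocalRing.maximalIdeal A) (p + 1) F),
      ← Category.assoc, hψ', hψ, Category.comp_id]⟩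
  have key : Formal.modPowπ (IsLocalRing.maximalIdeal A) (p + 1) F =
      secHom F (ModuleCat.of A A) 1 ≫ (CohIII.tensorAFunctor A F).map q ≫ ψ := by
    rw [← Category.assoc, secHom_map]
    exact hψ.symm
  have : Epi ((CohIII.HAb X n).map ((CohIII.tensorAFunctor A F).map q)) := hT
  have hE : Epi ((CohIII.HAb X n).map (Formal.modPowπ (IsLocalRing.maximalIdeal A) (p + 1) F)) := by
    rw [key, Functor.map_comp, Functor.map_comp]
    infer_instance
  exact (AddCommGrpCat.epi_iff_surjective _).1 hE

end Aux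

open AlgebraicGeometry CategoryTheory in
/-- Second assertion: for a local base: let A be a Noetherian local ring with maximal ideal m and closed
point y, X a scheme proper over Spec A, F a coherent O_X-module flat over Spec A and n ≥ 0 such that
H^(n+1)(X_y, F_y) = 0, where X_y is the closed fibre and F_y the restriction of F to it. Then for
every p ≥ 0 the canonical map H^n(X, F) → H^n(X, F/m^(p+1)F) is surjective. (For a general locally
Noetherian base the published statement is about the stalk of R^n f_* F at a point; over the local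
ring of that point this is the module H^n(X, F) used here.) -/
theorem result (A : Type u) [CommRing A] [IsNoetherianRing A]
    [IsLocalRing A] (X : Scheme.{u}) [X.Over (Spec (CommRingCat.of A))]
    [IsProper (X ↘ Spec (CommRingCat.of A))] (F : X.Modules) (hF : Coh.IsCoh F)
    (hfl : FlatMod.IsFlatOver (X ↘ Spec (CommRingCat.of A)) F) (n : ℕ)
    (hvan : Subsingleton (CohIII.fiberH (X ↘ Spec (CommRingCat.of A)) F (IsLocalRing.closedPoint A) (n + 1)))
    (p : ℕ) :
    Function.Surjective (Formal.toHHmodPow (IsLocalRing.maximalIdeal A) F n p) := by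
  exact surjective_toHH F hF hfl n hvan p

end Groth.Agent.S4462
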