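import Groth.Statements.S4463
import Groth.Agent.HensPair.SteinNormalization
import Groth.Agent.CohFin.ProjFinite
-- import your own Groth.Agent.* helpers here

set_option autoImplicit false
universe u
open Coherent

namespace Groth.Agent.S4463

open AlgebraicGeometry CategoryTheory in
/-- Stein factorisation. Let Y be locally Noetherian and f : X → Y proper, and let X → Y' → Y be its
Stein factorisation, Y' being the spectrum of the O_Y-algebra f_* O_X (realised here as the relative
normalization of Y in X, which is that spectrum because f_* O_X is integral over O_Y for f
universally closed). Then for every point y of Y the fibre of Y' → Y at y is finite, the map X_y →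
Y'_y induced on fibres is surjective, and two points of X_y have the same image if and only if they
lie in the same connected component of X_y: the connected components of X_y are in bijection with
the points of Y'_y. -/
theorem result {X Y : Scheme.{u}} (f : X ⟶ Y) [IsProper f]
    [IsLocallyNoetherian Y] (y : Y) :
    Finite ↥(f.fromNormalization.fiber y) ∧
    Function.Surjective (CohIII.fiberMapOver f.toNormalization f f.fromNormalization
        f.toNormalization_fromNormalization y).base ∧
    ∀ x x' : ↥(f.fiber y),
      (CohIII.fiberMapOver f.toNormalization f f.fromNormalization f.toNormalization_fromNormalization y).base x =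
        (CohIII.fiberMapOver f.toNormalization f f.fromNormalization f.toNormalization_fromNormalization y).base x' ↔
      connectedComponent x = connectedComponent x' := by
  have := Groth.HensPair.isFinite_fromNormalization f Groth.CohFin.projFinite
  let ν := f.toNormalization
  let g := f.fromNormalization
  have := Groth.HensPair.geometricallyConnected_toNormalization f Groth.CohFin.projFinite
  have hνg : ν ≫ g = f := f.toNormalization_fromNormalization
  let m := CohIII.fiberMapOver ν f g hνg y
  have hm : m ≫ g.fiberι y = f.fiberι y ≫ ν := Limits.pullback.lift_fst _ _ _
  have hm' : ∀ z, g.fiberι y (m z) = ν (f.fiberι y z) := fun z => congr($(hm) z)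
  have hfin : Finite ↥(g.fiber y) := by
    have h1 : (g.base ⁻¹' {y}).Finite := g.finite_preimage_singleton y
    have := h1.to_subtype
    exact Finite.of_injective (g.fiberHomeo y) (g.fiberHomeo y).injective
  refine ⟨hfin, fun w => ?_, fun x x' => ⟨fun h => ?_, fun h => ?_⟩⟩
  · obtain ⟨x, hx⟩ := ν.surjective (g.fiberι y w)
    have hxy : f x = y := by
      rw [← hνg, Scheme.Hom.comp_apply, hx]
      exact Groth.HensPair.apply_fiberι g y w
    obtain ⟨z, hz⟩ := (f.range_fiberι y).ge (show x ∈ f.base ⁻¹' {y} from hxy)
    exact ⟨z, (g.fiberι y).isEmbedding.injective (by rw [hm', hz, hx])⟩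
  · change m x = m x' at h
    refine connectedComponent_eq ?_
    have hsub : f.fiberι y '' (m.base ⁻¹' {m x}) = ν.base ⁻¹' {g.fiberι y (m x)} := by
      ext p
      constructor
      · rintro ⟨z, hz, rfl⟩
        show ν (f.fiberι y z) = g.fiberι y (m x)
        rw [← hm', hz]
      · intro hp
        have hpy : f p = y := by
          rw [← hνg, Scheme.Hom.comp_apply, show ν p = g.fiberι y (m x) from hp]
          exact Groth.HensPair.apply_fiberι g y _
        obtain ⟨z, hz⟩ := (f.range_fiberι y).ge (show p ∈ f.base ⁻¹' {y} from hpy)
        refine ⟨z, (g.fiberι y).isEmbedding.injective ?_, hz⟩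
        rw [hm', hz]
        exact hp
    have hpre : _root_.IsPreconnected (m.base ⁻¹' {m x}) := by
      rw [← (f.fiberι y).isEmbedding.isInducing.isPreconnected_image, hsub]
      exact (ν.isConnected_preimage_singleton _).isPreconnected
    exact hpre.subset_connectedComponent (x := x) rfl (show x' ∈ m.base ⁻¹' {m x} from h.symm)
  · show m x = m x'
    have hd : DiscreteTopology ↥(g.fiber y) := inferInstance
    have hx : x' ∈ connectedComponent x := h ▸ mem_connectedComponent
    exact isPreconnected_connectedComponent.constant m.continuous.continuousOn mem_connectedComponent hx

end Groth.Agent.S4463
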