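import Groth.Statements.S4468
import Groth.Agent.SchemeMorphisms.BlowUpBirational
import Groth.Agent.Variety2.ProjBasics
-- import your own Groth.Agent.* helpers here

set_option autoImplicit false
universe u
open Coherent

namespace Groth.Agent.S4468

open AlgebraicGeometry CategoryTheory in
/-- Let k be a field, X and Y integral schemes projective over k (given with closed immersions into
projective spaces over k) and f : X → Y a birational k-morphism (it sends the generic point of X to
that of Y and induces a bijection between the function fields). Then X is Y-isomorphic to the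
blow-up of Y in a closed subscheme: there is a quasi-coherent ideal sheaf I on Y such that f is a
blowing up of Y in I (universal property of the blow-up). -/
theorem result (k : Type u) [Field k] {X Y : Scheme.{u}} [IsIntegral X] [IsIntegral Y]
    (a b : ℕ) (iX : X ⟶ CohB1.ProjSpace a k) [IsClosedImmersion iX] (iY : Y ⟶ CohB1.ProjSpace b k)
    [IsClosedImmersion iY] (f : X ⟶ Y)
    (hk : f ≫ iY ≫ CohB1.ProjSpace.toSpec b k = iX ≫ CohB1.ProjSpace.toSpec a k)
    (hgen : f.base (genericPoint X) = genericPoint Y)
    (hbir : Function.Bijective (f.residueFieldMap (genericPoint X)).hom) :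
    ∃ I : Y.IdealSheafData, BlowUp.IsBlowUp f I := by
  have : IsProper (iY ≫ CohB1.ProjSpace.toSpec b k) := inferInstance
  have : CompactSpace Y := QuasiCompact.compactSpace_of_compactSpace (iY ≫ CohB1.ProjSpace.toSpec b k)
  have : QuasiSeparatedSpace Y :=
    quasiSeparatedSpace_of_quasiSeparated (iY ≫ CohB1.ProjSpace.toSpec b k)
  let σ : Y ⟶ Spec (CommRingCat.of k) := iY ≫ CohB1.ProjSpace.toSpec b k
  let jX : X ⟶ CohB1.ProjSpaceOver a Y := Limits.pullback.lift (iX ≫ Groth.PnCoh.toInt a k) f
    (specULiftZIsTerminal.hom_ext _ _)
  have hjX : Groth.Chow.PEmb.strMap jX = f := Limits.pullback.lift_snd _ _ _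
  let π : CohB1.ProjSpaceOver a Y ⟶ CohB1.ProjSpace a k :=
    (Groth.PnCoh.isPullback_toInt a k).lift (Limits.pullback.fst _ _) (Limits.pullback.snd _ _ ≫ σ)
      (specULiftZIsTerminal.hom_ext _ _)
  have : IsSeparated (π ≫ CohB1.ProjSpace.toSpec a k) := by
    rw [IsPullback.lift_snd]
    exact MorphismProperty.comp_mem @IsSeparated _ _
      (inferInstanceAs (IsSeparated (CohB1.ProjSpaceOver.toBase a Y))) inferInstance
  have : IsSeparated π := IsSeparated.of_comp π (CohB1.ProjSpace.toSpec a k)
  have hπ : jX ≫ π = iX := by
    apply (Groth.PnCoh.isPullback_toInt a k).hom_ext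
    · rw [Category.assoc, IsPullback.lift_fst]
      exact Limits.pullback.lift_fst _ _ _
    · rw [Category.assoc, IsPullback.lift_snd]
      exact (Limits.pullback.lift_snd_assoc _ _ _ _).trans hk
  have : IsClosedImmersion (jX ≫ π) := by rw [hπ]; infer_instance
  have : IsClosedImmersion jX := IsClosedImmersion.of_comp jX π
  exact Groth.BlowUpBirational.exists_isBlowUp_of_birational (iY ≫ (Groth.PnCoh.overIso b k).hom) f jX hjX hgen hbir

end Groth.Agent.S4468
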