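import Groth.Statements.S4469
import Mathlib.RingTheory.ZariskisMainTheorem
import Mathlib.RingTheory.Ideal.MinimalPrime.Noetherian
import Mathlib.RingTheory.Spectrum.Prime.Topology

set_option autoImplicit false
universe u
open CAlg

namespace Groth.Agent.S4469

/-- Let A be an integrally closed Noetherian local domain with field of fractions K, B an A-algebra of
finite type which is a domain with the same field of fractions (A → B → K compatible with A → K),
and 𝔫 a maximal ideal of B lying over the maximal ideal 𝔪 of A and minimal among the prime ideals of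
B lying over 𝔪. Then B = A: the structure map A → B is bijective. -/
theorem result (A B K : Type u) [CommRing A]
    [IsDomain A] [IsNoetherianRing A] [IsLocalRing A] [IsIntegrallyClosed A] [CommRing B] [IsDomain B]
    [Field K] [Algebra A B] [Algebra B K] [Algebra A K] [IsScalarTower A B K] [IsFractionRing A K]
    [IsFractionRing B K] [Algebra.FiniteType A B] (n : Ideal B) [n.IsMaximal]
    (hn : n.comap (algebraMap A B) = IsLocalRing.maximalIdeal A)
    (hmin : ∀ q : Ideal B, q.IsPrime → q.comap (algebraMap A B) = IsLocalRing.maximalIdeal A → q ≤ n → q = n) :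
    Function.Bijective (algebraMap A B) := by
  classical
  have hB : IsNoetherianRing B := Algebra.FiniteType.isNoetherianRing A B
  let M : Ideal B := (IsLocalRing.maximalIdeal A).map (algebraMap A B)
  have hfin : M.minimalPrimes.Finite := M.finite_minimalPrimes_of_isNoetherianRing B
  have hcom : ∀ q : PrimeSpectrum B, (PrimeSpectrum.comap (algebraMap A B) q =
      PrimeSpectrum.comap (algebraMap A B) ⟨n, inferInstance⟩) ↔ M ≤ q.asIdeal := by
    intro q
    rw [PrimeSpectrum.ext_iff]
    change q.asIdeal.comap (algebraMap A B) = n.comap (algebraMap A B) ↔ _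
    rw [hn]
    constructor
    · intro h
      exact Ideal.map_le_iff_le_comap.mpr h.ge
    · intro h
      exact ((IsLocalRing.maximalIdeal.isMaximal A).eq_of_le (Ideal.IsPrime.ne_top inferInstance)
        (Ideal.map_le_iff_le_comap.mp h)).symm
  have hopen : IsOpen (X := PrimeSpectrum.comap (algebraMap A B) ⁻¹'
      {PrimeSpectrum.comap (algebraMap A B) ⟨n, inferInstance⟩}) {⟨⟨n, inferInstance⟩, rfl⟩} := by
    have hc : IsClosed (⋃ q ∈ {q | q ∈ M.minimalPrimes ∧ q ≠ n}, PrimeSpectrum.zeroLocus (q : Set B)) :=
      (hfin.subset (fun q hq => hq.1)).isClosed_biUnion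
        fun q _ => PrimeSpectrum.isClosed_zeroLocus _
    rw [isOpen_induced_iff]
    refine ⟨_, hc.isOpen_compl, ?_⟩
    ext ⟨x, hx⟩
    simp only [Set.mem_preimage, Set.mem_compl_iff, Set.mem_iUnion, Set.mem_setOf_eq, exists_prop,
      PrimeSpectrum.mem_zeroLocus, SetLike.coe_subset_coe, Set.mem_singleton_iff, Subtype.mk.injEq]
    have hx' : M ≤ x.asIdeal := (hcom x).1 hx
    constructor
    · intro h
      have : x.asIdeal.IsPrime := x.isPrime
      obtain ⟨q, hq, hqx⟩ := Ideal.exists_minimalPrimes_le hx'
      have hqn : q = n := by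
        by_contra hne
        exact h ⟨q, ⟨hq, hne⟩, hqx⟩
      subst hqn
      exact PrimeSpectrum.ext ((Ideal.IsMaximal.eq_of_le (by assumption) x.isPrime.ne_top hqx).symm)
    · intro h
      subst h
      rintro ⟨q, ⟨hq, hne⟩, hqx⟩
      refine hne (hmin q hq.1.1 ?_ hqx)
      exact congrArg PrimeSpectrum.asIdeal (((hcom ⟨q, hq.1.1⟩).2 hq.1.2)) |>.trans hn
  have hQF : Algebra.QuasiFiniteAt A n :=
    Algebra.QuasiFiniteAt.of_isOpen_singleton_fiber ⟨n, inferInstance⟩ hopen
  have Z : Algebra.ZariskisMainProperty A n := .of_finiteType n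
  rw [Algebra.zariskisMainProperty_iff] at Z
  obtain ⟨r, hr, hri, H⟩ := Z
  have hAK : Function.Injective (algebraMap A K) := IsFractionRing.injective A K
  have hBK : Function.Injective (algebraMap B K) := IsFractionRing.injective B K
  have key : ∀ x : B, IsIntegral A x → ∃ a : A, algebraMap A B a = x := by
    intro x hx
    obtain ⟨a, ha⟩ := IsIntegrallyClosed.isIntegral_iff.mp
      (hx.map (IsScalarTower.toAlgHom A B K))
    exact ⟨a, hBK (by rw [← IsScalarTower.algebraMap_apply A B K]; exact ha)⟩
  refine ⟨Function.Injective.of_comp (f := algebraMap B K) ?_, fun x => ?_⟩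
  · rw [← RingHom.coe_comp, ← IsScalarTower.algebraMap_eq]
    exact hAK
  obtain ⟨a, ha⟩ := key r hri
  have hau : IsUnit a := by
    by_contra hcon
    apply hr
    rw [← ha, ← Ideal.mem_comap, hn]
    exact hcon
  obtain ⟨m, hm⟩ := H x
  obtain ⟨b, hb⟩ := key _ hm
  obtain ⟨u, rfl⟩ := hau
  refine ⟨(↑u⁻¹ : A) ^ m * b, ?_⟩
  rw [map_mul, map_pow, hb, ← ha, ← mul_assoc, ← mul_pow, ← map_mul, Units.inv_mul, map_one, one_pow,
    one_mul]

end Groth.Agent.S4469
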