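import Groth.Statements.S4470
import Groth.Agent.AmpleFinite.Reduce
import Groth.Agent.Chow.NormRestrict

set_option autoImplicit false
universe u
open Coherent

namespace Groth.Agent.S4470

open AlgebraicGeometry CategoryTheory Limits TopologicalSpace Groth.PicAux Groth.Chow in
theorem aux {X X' Y : Scheme.{u}} (f : X ⟶ Y) [IsNoetherian Y] [LocallyOfFiniteType f]
    [QuasiCompact f] (g : X' ⟶ X) [IsFinite g] [Surjective g] (L : X.Modules)
    (hL : PicF.IsInvertible L) (Z : Closeds X)
    [IsProper ((Scheme.IdealSheafData.vanishingIdeal Z).subschemeι ≫ f)]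
    (hX : ∀ z : X, z ∉ Z → (IsDomain (X.presheaf.stalk z) ∧ IsIntegrallyClosed (X.presheaf.stalk z)) ∨
      ∃ (W : X.Opens) (n : ℕ) (b : Fin n → Γ(X', g ⁻¹ᵁ W)), z ∈ W ∧ SecBasis g W b)
    (h : RelAmple.IsRelAmple (g ≫ f) ((Scheme.Modules.pullback g).obj L)) (V : Y.affineOpens) :
    CohB1.IsAmple (L.restrict (f ⁻¹ᵁ V.1).ι) := by
  classical
  let U : X.Opens := f ⁻¹ᵁ V.1
  let U' : X'.Opens := (g ≫ f) ⁻¹ᵁ V.1
  let k : (U' : Scheme.{u}) ⟶ U := g ∣_ U
  have w : k ≫ U.ι = U'.ι ≫ g := morphismRestrict_ι g U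
  haveI : IsFinite k := IsZariskiLocalAtTarget.restrict (P := @IsFinite) inferInstance U
  haveI : Surjective k := IsZariskiLocalAtTarget.restrict (P := @Surjective) inferInstance U
  haveI : IsNoetherianRing Γ(Y, V.1) := IsLocallyNoetherian.component_noetherian V
  let fV : (U : Scheme.{u}) ⟶ Spec (CommRingCat.of Γ(Y, V.1)) := (f ∣_ V.1) ≫ V.2.isoSpec.hom
  haveI : LocallyOfFiniteType (f ∣_ V.1) :=
    IsZariskiLocalAtTarget.restrict (P := @LocallyOfFiniteType) inferInstance V.1
  haveI : QuasiCompact (f ∣_ V.1) :=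
    IsZariskiLocalAtTarget.restrict (P := @QuasiCompact) inferInstance V.1
  haveI : LocallyOfFiniteType fV := inferInstance
  haveI : QuasiCompact fV := inferInstance
  let ZU : Closeds (U : Scheme.{u}) := Z.preimage U.ι.continuous
  let I := Scheme.IdealSheafData.vanishingIdeal ZU
  haveI : IsReduced I.subscheme := Groth.PropsBasic2.isReduced_vanishingIdeal_subscheme _
  haveI : IsLocallyNoetherian X := LocallyOfFiniteType.isLocallyNoetherian f
  haveI : IsLocallyNoetherian (U : Scheme.{u}) := LocallyOfFiniteType.isLocallyNoetherian U.ι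
  haveI : QuasiCompact U.ι := inferInstance
  haveI : IsProper (I.subschemeι ≫ f ∣_ V.1) := by
    refine Groth.AmpleFinite.isProper_reduced f Z (I.subschemeι ≫ U.ι) V.1.ι _ ?_ ?_
    · rw [Category.assoc, Category.assoc, morphismRestrict_ι]
    · rw [Scheme.Opens.range_ι]
      change Set.range (U.ι ∘ I.subschemeι) = _
      rw [Set.range_comp, Scheme.IdealSheafData.range_subschemeι,
        Scheme.IdealSheafData.coe_support_vanishingIdeal]
      change U.ι '' (U.ι ⁻¹' (Z : Set X)) = _
      rw [Set.image_preimage_eq_inter_range, Scheme.Opens.range_ι]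
      rfl
  haveI : IsProper (I.subschemeι ≫ fV) := by
    change IsProper (I.subschemeι ≫ (f ∣_ V.1) ≫ V.2.isoSpec.hom)
    rw [← Category.assoc]
    infer_instance
  refine Groth.AmpleFinite.isAmple_of_pullback_affine fV k ZU (fun z hz => ?_) ?_ ?_
  · rcases hX (U.ι z) hz with ⟨hd, hic⟩ | ⟨W, n, b, hzW, hb⟩
    · left
      let e := (U.stalkIso z).commRingCatIsoToRingEquiv
      haveI : IsDomain (X.presheaf.stalk z.1) := hd
      haveI : IsIntegrallyClosed (X.presheaf.stalk z.1) := hic
      exact ⟨e.toMulEquiv.isDomain, IsIntegrallyClosed.of_equiv e.symm⟩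
    · exact Or.inr ⟨U.ι ⁻¹ᵁ W, n, _, hzW, hb.restrict U (U.ι.image_preimage_le W)⟩
  · exact Groth.Ega2Proj.isInvertible_restrict U.ι hL
  · exact Groth.Chow.isAmple_of_iso (Groth.Ega2Proj.restrictPullbackSquare g U.ι U'.ι k w L).symm
      (h.2 V)


open AlgebraicGeometry CategoryTheory in
/-- Let Y be a Noetherian scheme, f : X → Y a morphism of finite type, g : X' → X a finite surjective
morphism, L an invertible O_X-module and L' = g^* L. Suppose there is a subset Z of X, proper over
Y, such that for every point x of X outside Z either the local ring of X at x is an integrally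
closed domain or the stalk of g_* O_{X'} at x is a free module over that local ring. Then L is ample
relative to f if and only if L' is ample relative to g ≫ f. -/
theorem result {X X' Y : Scheme.{u}} (f : X ⟶ Y)
    [IsNoetherian Y] [LocallyOfFiniteType f] [QuasiCompact f] (g : X' ⟶ X) [IsFinite g] [Surjective g]
    (L : X.Modules) (hL : PicF.IsInvertible L) (Z : Set X) (hZ : ClSub.IsProperOver f Z)
    (hreg : ∀ x : X, x ∉ Z →
      (IsDomain (X.presheaf.stalk x) ∧ IsIntegrallyClosed (X.presheaf.stalk x)) ∨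
        Module.Free (X.presheaf.stalk x) (((Coh.push g).obj (Coh.structureModule X')).presheaf.stalk x)) :
    RelAmple.IsRelAmple f L ↔ RelAmple.IsRelAmple (g ≫ f) ((Scheme.Modules.pullback g).obj L) := by
  constructor
  · intro h
    refine ⟨inferInstance, fun V => ?_⟩
    let U : X.Opens := f ⁻¹ᵁ V.1
    let U' : X'.Opens := (g ≫ f) ⁻¹ᵁ V.1
    let k : (U' : Scheme.{u}) ⟶ U := g ∣_ U
    have w : k ≫ U.ι = U'.ι ≫ g := morphismRestrict_ι g U
    haveI : IsAffineHom k := MorphismProperty.of_isPullback (P := @IsAffineHom)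
      (isPullback_morphismRestrict g U).flip inferInstance
    exact Groth.Chow.isAmple_of_iso (Groth.Ega2Proj.restrictPullbackSquare g U.ι U'.ι k w L)
      (Groth.Chow.isAmple_pullback_of_isAffineHom k (h.2 V))
  · intro h
    obtain ⟨hZc, hZp⟩ := hZ
    haveI := hZp
    haveI : IsLocallyNoetherian X := LocallyOfFiniteType.isLocallyNoetherian f
    haveI : IsLocallyNoetherian X' := LocallyOfFiniteType.isLocallyNoetherian g
    refine ⟨inferInstance, fun V => aux f g L hL ⟨Z, hZc⟩ (fun z hz => ?_) h V⟩
    rcases hreg z hz with h' | h'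
    · exact Or.inl h'
    refine Or.inr ?_
    haveI := h'
    obtain ⟨W, n, b, hzW, hb⟩ := Groth.KTheory.LocFree.exists_basis_of_free_stalk
      (M := (Coh.push g).obj (Coh.structureModule X'))
      (Groth.Cycles.isCoh_push_of_isFinite g
        ⟨Groth.PicAux.isQCoh_of_isInvertible (Groth.EulerDeg.isInvertible_structureModule X'),
          Groth.Ega2Proj.isFT_of_isInvertible (Groth.EulerDeg.isInvertible_structureModule X')⟩) z
    exact ⟨W, n, fun i => b i, hzW, fun V hV => hb V hV⟩

end Groth.Agent.S4470
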