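import Groth.Statements.S4471
import Groth.Agent.PnCoh.ProjFinite
import Groth.Agent.Misc15.FunctorR
import Groth.Agent.CohBase.RpushAb

set_option autoImplicit false
universe u
open Coherent

namespace Groth.Agent.S4471

open AlgebraicGeometry CategoryTheory in
/-- The case of the trivial bundle of rank r+1, i.e. projective r-space over Y; vanishing assertion. Let
Y be a scheme, r ≥ 0, f : P^r_Y → Y the structure morphism and d an integer. Then R^i f_* O(d) = 0
(higher direct image of the underlying abelian sheaf of the twisting sheaf) except possibly when i =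
0 and d ≥ 0, or i = r and d ≤ -(r+1). -/
theorem result (Y : Scheme.{u}) (r : ℕ) (i : ℕ) (d : ℤ)
    (h : ¬ ((i = 0 ∧ 0 ≤ d) ∨ (i = r ∧ d ≤ -((r : ℤ) + 1)))) :
    Limits.IsZero ((Coh.RpushAb (CohB1.ProjSpaceOver.toBase r Y) i).obj (Coh.toAb (Twist.twistOver r Y d))) := by
  have hsep := Groth.CohFin.isSeparated_toBase r Y
  haveI : QuasiCompact (CohB1.ProjSpaceOver.toBase r Y) := by
    haveI : QuasiCompact (CohB1.ProjSpace.toSpec r (ULift.{u} ℤ)) := by
      unfold CohB1.ProjSpace.toSpec CohB1.ProjSpace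
      infer_instance
    exact inferInstanceAs (QuasiCompact (Limits.pullback.snd (CohB1.ProjSpace.toSpec r (ULift.{u} ℤ))
      (specULiftZIsTerminal.from Y)))
  haveI : (Twist.twistOver r Y d).IsQuasicoherent := by
    haveI : (Twist.twistProjSpace r (ULift.{u} ℤ) d).IsQuasicoherent :=
      Groth.Ega2Proj.isQuasicoherent_twist _ d
    exact Groth.QCohMod.isQCoh_pullback_obj _ _
  obtain ⟨a⟩ := Groth.CohBase.nonempty_RpushAb_iso_homology (CohB1.ProjSpaceOver.toBase r Y)
    (injectiveResolution (Twist.twistOver r Y d)) i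
  refine Limits.IsZero.of_iso ((Groth.CohBase.toAbF Y).map_isZero ?_) a
  refine Groth.CohBase.isZero_homology_pushCx _ _ i fun y => ?_
  obtain ⟨V, hV, hy, -⟩ :=
    exists_isAffineOpen_mem_and_subset (x := y) (U := (⊤ : Y.Opens)) trivial
  refine ⟨V, hV, hy, ?_⟩
  let R := Γ(Y, V)
  let P := CohB1.ProjSpace r R
  let j : P ⟶ CohB1.ProjSpaceOver r Y :=
    (Groth.PnCoh.overIso r R).hom ≫ Groth.Misc15.FunctorR.proj r hV.fromSpec
  have hsq := (Groth.Misc15.FunctorR.isPullback_proj r hV.fromSpec).flip
  haveI : IsOpenImmersion (Groth.Misc15.FunctorR.proj r hV.fromSpec) :=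
    MorphismProperty.of_isPullback hsq inferInstance
  haveI : IsOpenImmersion j := inferInstance
  have hj : j ''ᵁ ⊤ = CohB1.ProjSpaceOver.toBase r Y ⁻¹ᵁ V := by
    rw [Scheme.Hom.image_top_eq_opensRange]
    refine TopologicalSpace.Opens.ext ?_
    change Set.range j.base = _
    rw [Scheme.Hom.comp_base, TopCat.coe_comp, Set.range_comp,
      Set.range_eq_univ.mpr (Groth.PnCoh.overIso r R).hom.surjective, Set.image_univ,
      ← hsq.flip.isoPullback_hom_fst, Scheme.Hom.comp_base, TopCat.coe_comp, Set.range_comp,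
      Set.range_eq_univ.mpr hsq.flip.isoPullback.hom.surjective, Set.image_univ,
      IsOpenImmersion.range_pullbackFst, IsAffineOpen.opensRange_fromSpec]
  rw [← hj, ← Groth.CohBase.hVanish_restrict_iff, ← Groth.CohBase.subsingleton_H_iff]
  obtain ⟨e⟩ := Groth.PnCoh.nonempty_pullback_overIso_twist r R d
  have e1 : (Twist.twistOver r Y d).restrict j ≅ Twist.twistProjSpace r R d :=
    (Scheme.Modules.restrictFunctorIsoPullback j).app _ ≪≫
      (Scheme.Modules.pullbackComp _ _).symm.app _ ≪≫
      (Scheme.Modules.pullback _).mapIso ((Scheme.Modules.pullbackComp _ _).app _ ≪≫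
        (Scheme.Modules.pullbackCongr (Groth.Misc15.FunctorR.proj_fst r hV.fromSpec)).app _) ≪≫ e
  let f : P ⟶ Spec (CommRingCat.of R) := P ↘ Spec (CommRingCat.of R)
  have : Subsingleton (Groth.CohFin.HA f (Twist.twistProjSpace r R d) i) :=
    Groth.PnCoh.subsingleton_HH_twist d i (fun h' => h (.inl h')) (fun h' => h (.inr h'))
  have hs : Function.Injective (Groth.CohFin.mapL f e1.hom i) :=
    Function.LeftInverse.injective (g := Groth.CohFin.mapL f e1.inv i) fun x => by
      rw [← Groth.CohFin.mapL_comp, e1.hom_inv_id, Groth.CohFin.mapL_id]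
  exact hs.subsingleton

end Groth.Agent.S4471
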