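import Groth.Statements.S4472
import Groth.Agent.HensPair.BlowUpUnibranch
import Groth.Agent.HensPair.NormalUnibranch
import Groth.Agent.HTopHyper.BlowUpProper
import Groth.Agent.CohFin.ProjFinite
-- import your own Groth.Agent.* helpers here

set_option autoImplicit false
universe u
open Coherent

namespace Groth.Agent.S4472

open AlgebraicGeometry CategoryTheory in
/-- Let A be a unibranch Noetherian local domain (a local domain whose integral closure is a local ring)
with maximal ideal m, let 𝔞 be an ideal of definition of A (𝔞 ⊆ m and m^p ⊆ 𝔞 for some p), and let b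
: X → Spec A be a blowing up of Spec A in the ideal sheaf defined by 𝔞. Then the fibre of b over the
closed point is preconnected. Its underlying space is that of Proj of the associated graded ring ⊕
𝔞^i/𝔞^(i+1), so this says that Proj is connected (possibly empty). -/
theorem result (A : Type u) [CommRing A] [IsDomain A]
    [IsNoetherianRing A] [IsLocalRing A] (hA : CAlg2.IsUnibranch A) (𝔞 : Ideal A)
    (hle : 𝔞 ≤ IsLocalRing.maximalIdeal A)
    (hpow : ∃ p : ℕ, IsLocalRing.maximalIdeal A ^ p ≤ 𝔞) {X : Scheme.{u}}
    (b : X ⟶ Spec (CommRingCat.of A))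
    (hb : BlowUp.IsBlowUp b
      (Scheme.IdealSheafData.ofIdealTop (𝔞.map (Scheme.ΓSpecIso (CommRingCat.of A)).inv.hom))) :
    PreconnectedSpace ↥(b.fiber (IsLocalRing.closedPoint A)) := by
  let Y := Spec (CommRingCat.of A)
  let I : Y.IdealSheafData :=
    Scheme.IdealSheafData.ofIdealTop (𝔞.map (Scheme.ΓSpecIso (CommRingCat.of A)).inv.hom)
  have hproper : IsProper b := Groth.HTopHyper.isProper_of_isBlowUp hb fun U =>
    haveI : IsNoetherianRing Γ(Spec (CommRingCat.of A), (U : (Spec (CommRingCat.of A)).Opens)) :=
      IsLocallyNoetherian.component_noetherian U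
    _root_.IsNoetherian.noetherian _
  by_cases hξ : genericPoint Y ∈ I.support
  · have hu : (I.support : Set Y) = Set.univ := Set.eq_univ_of_forall fun y =>
      ((genericPoint_spec Y).specializes (Set.mem_univ y)).mem_closed I.support.isClosed hξ
    have := Groth.HensPair.isEmpty_blowUp_of_support_eq_univ hb hu
    have : IsEmpty ↥(b.fiber (IsLocalRing.closedPoint A)) := Function.isEmpty (b.fiberι _)
    infer_instance
  · have := Groth.HensPair.isIntegral_blowUp hb hξ
    obtain ⟨hgen, hbir⟩ := Groth.HensPair.blowUp_genericPoint hb
    have hdom : b.base (genericPoint X) ⤳ genericPoint Y := Inseparable.specializes (hgen ▸ Inseparable.rfl)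
    have := Groth.HensPair.connectedSpace_fiber_of_unibranch b Groth.CohFin.projFinite hdom
      (fun x _ => ⟨0, by
        rw [pow_zero, pow_one]
        exact Groth.HensPair.surjective_stalkToFunctionField b hgen hbir hdom x⟩)
      (IsLocalRing.closedPoint A)
      (Groth.HensPair.isUnibranch_of_ringEquiv
        ((IsLocalization.atUnits A (IsLocalRing.closedPoint A).asIdeal.primeCompl
          (fun x (hx : x ∉ IsLocalRing.maximalIdeal A) => IsLocalRing.notMem_maximalIdeal.1 hx)).toRingEquiv.trans
          (StructureSheaf.stalkIso A (IsLocalRing.closedPoint A)).toRingEquiv) hA)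
    infer_instance

end Groth.Agent.S4472
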