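import Groth.Statements.S4473
import Mathlib
import Groth.Agent.CohC3.ProperSupport
import Groth.Agent.CohC3.ProperHelpers

set_option autoImplicit false
universe u
open Formal

namespace Groth.Agent.S4473

open AlgebraicGeometry CategoryTheory Opposite in
/-- Suppose A is a Noetherian ring that is separated and complete in the I-adic topology, and X is a
scheme of finite type over Spec A. Given two coherent O_X-modules M and N whose supports meet in a
closed subset that is proper over Spec A, the completion functor is fully faithful on the pair (M,
N): any morphism from the inverse system (M/I^(n+1)M) to the inverse system (N/I^(n+1)N) arises from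
one and only one morphism M → N. -/
theorem result (A : Type u) [CommRing A] [IsNoetherianRing A]
    (I : Ideal A) [IsAdicComplete I A] (X : Scheme.{u}) [X.Over (Spec (CommRingCat.of A))]
    [LocallyOfFiniteType (X ↘ Spec (CommRingCat.of A))] [QuasiCompact (X ↘ Spec (CommRingCat.of A))]
    (M N : X.Modules) (hM : Coh.IsCoh M) (hN : Coh.IsCoh N)
    (hs : ClSub.IsProperOver (X ↘ Spec (CommRingCat.of A)) (CohB1.support M ∩ CohB1.support N))
    (ψ : Formal.completion I M ⟶ Formal.completion I N) :
    ∃! φ : M ⟶ N, ∀ n : ℕ, Formal.modPowπ I (n + 1) M ≫ ψ.app (op n) = φ ≫ Formal.modPowπ I (n + 1) N := by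
  have : CompactSpace X := QuasiCompact.compactSpace_of_compactSpace (X ↘ Spec (CommRingCat.of A))
  have : IsLocallyNoetherian X := LocallyOfFiniteType.isLocallyNoetherian (X ↘ Spec (CommRingCat.of A))
  have : IsNoetherian X := {}
  exact Groth.CohC3.existsUnique_hom I hM hN (fun q => Groth.CohC3.hFin_of_properSupport Groth.CohFin.projFinite _ hs
    (Groth.RefRank.isCoh_homSh hM hN)
    (Groth.CohC3.support_homSh_subset (Groth.CohC3.isClosed_support_of_isCoh M hM)
      (Groth.CohC3.isClosed_support_of_isCoh N hN)) q) ψ

end Groth.Agent.S4473
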