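import Groth.Statements.S4474
import Groth.Agent.Ega2Proj.SpanOn

set_option autoImplicit false
universe u
open Coherent

namespace Groth.Agent.S4474

open AlgebraicGeometry CategoryTheory in
/-- Let Y be a Noetherian scheme, f : X → Y a proper morphism, L an invertible O_X-module which is ample
relative to f, and F a coherent O_X-module. Then there is an integer N such that for every n ≥ N the
canonical morphism f^* f_* (F(n)) → F(n), the counit of the adjunction between f^* and f_*, is an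
epimorphism, where F(n) = F ⊗ L^{⊗ n}. -/
theorem result {X Y : Scheme.{u}} (f : X ⟶ Y) [IsNoetherian Y] [IsProper f]
    (L : X.Modules) (hL : PicF.IsInvertible L) (hamp : RelAmple.IsRelAmple f L) (F : X.Modules)
    (hF : Coh.IsCoh F) :
    ∃ N : ℕ, ∀ n : ℕ, N ≤ n →
      Epi ((Scheme.Modules.pullbackPushforwardAdjunction f).counit.app
        (CohB1.tensorMod F (CohB1.tensorPow L n))) := by
  have := hF.1
  have : CompactSpace X := QuasiCompact.compactSpace_of_compactSpace f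
  have hex : ∀ x : X, ∃ (V : Y.Opens) (n₀ : ℕ), f x ∈ V ∧ ∀ n, n₀ ≤ n → ∀ (z : X) (hz : z ∈ f ⁻¹ᵁ V),
      Groth.Ega2Proj.spanOn (CohB1.tensorMod F (CohB1.tensorPow L n)) (f ⁻¹ᵁ V) z hz = ⊤ := by
    intro x
    obtain ⟨V, hV, hxV, -⟩ := exists_isAffineOpen_mem_and_subset (x := f x) (U := (⊤ : Y.Opens)) trivial
    let D : X.Opens := f ⁻¹ᵁ V
    have hq : ((Scheme.Modules.pullback D.ι).obj F).IsQuasicoherent := Groth.QCohMod.isQCoh_pullback_obj _ F
    have : (F.restrict D.ι).IsQuasicoherent :=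
      (Groth.QCohMod.isQCoh_iff_of_iso (Groth.Ega2Proj.restrictIsoPullback D.ι F)).2 hq
    obtain ⟨n₀, hn₀⟩ := Groth.Ega2Proj.exists_spans_twist (hamp.2 ⟨V, hV⟩) (F.restrict D.ι)
      (Groth.QCohMod.isFT_of_iso (Groth.Ega2Proj.restrictIsoPullback D.ι F).symm
        (Groth.QCohMod.isFT_pullback D.ι F hF.2))
    refine ⟨V, n₀, hxV, fun n hn z hz => Groth.Ega2Proj.spanOn_eq_top_of_restrict _ D ?_ z hz⟩
    obtain ⟨e⟩ := Groth.Ega2Proj.exists_tensorMod_restrict (L := F) (M := CohB1.tensorPow L n) D.ι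
    obtain ⟨φ⟩ := Groth.Ega2Proj.exists_tensorPow_restrict (L := L) D.ι n
    exact (hn₀ n hn).of_iso (PicGrp.tensorModIso (Iso.refl _) φ.symm ≪≫ e.symm)
  choose V n₀ hxV hspan using hex
  obtain ⟨s, hs⟩ := isCompact_univ.elim_finite_subcover (fun x => (f ⁻¹ᵁ V x : Set X))
    (fun x => (f ⁻¹ᵁ V x).isOpen) (fun x _ => Set.mem_iUnion.2 ⟨x, hxV x⟩)
  refine ⟨s.sup n₀, fun n hn => Groth.Ega2Proj.epi_counit_of_spanOn f _ fun z => ?_⟩
  obtain ⟨x, hx, hz⟩ := Set.mem_iUnion₂.1 (hs (Set.mem_univ z))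
  exact ⟨V x, hz, hspan x n ((Finset.le_sup hx).trans hn) z hz⟩

end Groth.Agent.S4474
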