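import Groth.Statements.S4475
import Groth.Agent.KoszulCone.Polynomial
-- import your own Groth.Agent.* helpers here

set_option autoImplicit false
universe u
open Koszul3

namespace Groth.Agent.S4475

open CategoryTheory CategoryTheory.Limits in
/-- Let A be a ring, S = A[T_0, …, T_r] the polynomial ring and T = (T_0, …, T_r). Then the direct-limit
Koszul cohomology H^i((T), S), the colimit over n of the Koszul cohomologies H^i(T^n, S), vanishes
for every i ≠ r + 1, and H^(r+1)((T), S) is a free A-module (the source gives an explicit basis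
indexed by the monomials with all exponents positive). -/
theorem result (A : Type u) [CommRing A] (r : ℕ) :
    (∀ i : ℕ, i ≠ r + 1 →
      Subsingleton (CohIII.koszulHLim (List.ofFn (fun j : Fin (r + 1) => (MvPolynomial.X j : MvPolynomial (Fin (r + 1)) A)))
        (ModuleCat.of (MvPolynomial (Fin (r + 1)) A) (MvPolynomial (Fin (r + 1)) A)) i)) ∧
    Module.Free A (RestrictScalars A (MvPolynomial (Fin (r + 1)) A)
      (CohIII.koszulHLim (List.ofFn (fun j : Fin (r + 1) => (MvPolynomial.X j : MvPolynomial (Fin (r + 1)) A)))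
        (ModuleCat.of (MvPolynomial (Fin (r + 1)) A) (MvPolynomial (Fin (r + 1)) A)) (r + 1))) := by
  refine ⟨fun i hi => Groth.KoszulCone.subsingleton_koszulHLim_varList (A := A) (r + 1) i hi, ?_⟩
  obtain ⟨f⟩ := Groth.KoszulCone.nonempty_koszulHLim_equiv_Kinf
    (List.ofFn (fun j : Fin (r + 1) => (MvPolynomial.X j : MvPolynomial (Fin (r + 1)) A)))
    (ModuleCat.of (MvPolynomial (Fin (r + 1)) A) (MvPolynomial (Fin (r + 1)) A)) (r + 1)
  rw [show ((r + 1 : ℕ) : ℤ) - (List.ofFn
    (fun j : Fin (r + 1) => (MvPolynomial.X j : MvPolynomial (Fin (r + 1)) A))).length = 0 by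
      rw [List.length_ofFn]; simp] at f
  obtain ⟨e, he⟩ := Groth.KoszulCone.exists_addEquiv_top (A := A) (r + 1)
  refine Module.Free.of_equiv (M := MvPolynomial (Fin (r + 1)) A)
    ({ ((e.trans f.symm.toAddEquiv).trans (RestrictScalars.addEquiv _ _ _).symm) with
        map_smul' := fun a x => ?_ } :
      MvPolynomial (Fin (r + 1)) A ≃ₗ[A] RestrictScalars A (MvPolynomial (Fin (r + 1)) A)
        (CohIII.koszulHLim
          (List.ofFn (fun j : Fin (r + 1) => (MvPolynomial.X j : MvPolynomial (Fin (r + 1)) A)))
          (ModuleCat.of (MvPolynomial (Fin (r + 1)) A) (MvPolynomial (Fin (r + 1)) A)) (r + 1)))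
  apply (RestrictScalars.addEquiv A (MvPolynomial (Fin (r + 1)) A) _).injective
  simp only [RingHom.id_apply]
  rw [RestrictScalars.addEquiv_map_smul]
  show f.symm (e (a • x)) = algebraMap A _ a • f.symm (e x)
  rw [he, map_smul]
  rfl

end Groth.Agent.S4475
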