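import Groth.Statements.S4476
import Groth.Agent.CohBase.HomNearFibre

set_option autoImplicit false
universe u
attribute [local instance] HasDerivedCategory.standard
open Coherent

namespace Groth.Agent.S4476

section Aux

open AlgebraicGeometry CategoryTheory

/-- Over a local base a property open on the source of a proper morphism holds everywhere as soon
as it holds over the closed point. -/
lemma forall_of_isOpen {A : Type u} [CommRing A] [IsLocalRing A] {X : Scheme.{u}}
    (f : X ⟶ Spec (CommRingCat.of A)) [IsProper f] {P : X → Prop}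
    (hP : ∀ x, P x → ∃ W : X.Opens, x ∈ W ∧ ∀ x' ∈ W, P x')
    (h : ∀ z : f.fiber (IsLocalRing.closedPoint A), P (f.fiberι _ z)) (x : X) : P x := by
  by_contra hx
  have hC : IsOpen {x | P x} := isOpen_iff_forall_mem_open.2 fun a ha => by
    obtain ⟨W, haW, hW⟩ := hP a ha
    exact ⟨W, hW, W.2, haW⟩
  have hc := (f.isClosedMap _ hC.isClosed_compl)
  have : IsLocalRing.closedPoint A ∈ f '' {x | P x}ᶜ :=
    (IsLocalRing.specializes_closedPoint (f x)).mem_closed hc ⟨x, hx, rfl⟩
  obtain ⟨x₀, hx₀, e⟩ := this
  obtain ⟨z, rfl⟩ : ∃ z, f.fiberι (IsLocalRing.closedPoint A) z = x₀ := by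
    change x₀ ∈ Set.range (f.fiberι (IsLocalRing.closedPoint A))
    rw [f.range_fiberι]
    exact e
  exact hx₀ (h z)

end Aux

open AlgebraicGeometry CategoryTheory in
/-- Over a local base. Let A be a Noetherian local ring with closed point y, X a scheme proper and flat
over Spec A, F and G finite locally free O_X-modules and F_y, G_y their restrictions (module
pullbacks) to the closed fibre X_y. Assume that the internal Hom functor Hom(F_y, −) exists as the
right adjoint of F_y ⊗ − and that H^1(X_y, Hom(F_y, G_y)) = 0. Then every morphism u₀ : F_y → G_y is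
the restriction to X_y of a morphism u : F → G; moreover for every such u, if u₀ is a monomorphism
(resp. an epimorphism) then u is a monomorphism (resp. an epimorphism). (Over a general locally
Noetherian base the published statements give u on the inverse image of a neighbourhood of y; over
the spectrum of a local ring that neighbourhood is the whole base.) -/
theorem result (A : Type u) [CommRing A] [IsNoetherianRing A]
    [IsLocalRing A] (X : Scheme.{u}) [X.Over (Spec (CommRingCat.of A))]
    [IsProper (X ↘ Spec (CommRingCat.of A))] [Flat (X ↘ Spec (CommRingCat.of A))]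
    (F G : X.Modules) (hF : FlatMod.IsFinLocFree F) (hG : FlatMod.IsFinLocFree G)
    [DCoh.HasSheafHom (CohIII.fiberMod (X ↘ Spec (CommRingCat.of A)) F (IsLocalRing.closedPoint A))]
    (h1 : Subsingleton (Coh.HH ((X ↘ Spec (CommRingCat.of A)).fiber (IsLocalRing.closedPoint A))
      ((DCoh.sheafHom (CohIII.fiberMod (X ↘ Spec (CommRingCat.of A)) F (IsLocalRing.closedPoint A))).obj
        (CohIII.fiberMod (X ↘ Spec (CommRingCat.of A)) G (IsLocalRing.closedPoint A))) 1))
    (u₀ : CohIII.fiberMod (X ↘ Spec (CommRingCat.of A)) F (IsLocalRing.closedPoint A) ⟶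
      CohIII.fiberMod (X ↘ Spec (CommRingCat.of A)) G (IsLocalRing.closedPoint A)) :
    (∃ u : F ⟶ G,
      (Scheme.Modules.pullback ((X ↘ Spec (CommRingCat.of A)).fiberι (IsLocalRing.closedPoint A))).map u = u₀) ∧
    ∀ u : F ⟶ G,
      (Scheme.Modules.pullback ((X ↘ Spec (CommRingCat.of A)).fiberι (IsLocalRing.closedPoint A))).map u = u₀ →
        (Mono u₀ → Mono u) ∧ (Epi u₀ → Epi u) := by
  obtain ⟨U, hy, h, hh⟩ := Groth.CohBase.exists_homSec_lift (X ↘ Spec (CommRingCat.of A)) (IsLocalRing.closedPoint A) hF hG h1 u₀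
  have hU : (⊤ : X.Opens) ≤ (X ↘ Spec (CommRingCat.of A)) ⁻¹ᵁ U := fun x _ =>
    (IsLocalRing.specializes_closedPoint ((X ↘ Spec (CommRingCat.of A)) x)).mem_open U.2 hy
  obtain ⟨u, hu⟩ := Groth.CohBase.HomPull.exists_hom_of_global
    (Groth.QCohMod.res (RefHull.homSh F G) hU h)
  refine ⟨⟨u, Groth.CohBase.HomPull.hom_ext_pullSec _ fun O a => ?_⟩, fun v hv => ?_⟩
  · rw [Groth.PicAux.pullSec_map, hu]
    refine Eq.trans ?_ (hh O (le_top.trans hU) a).symm
    refine congrArg _ (Groth.RefRank.mod_section_ext G fun x hx => ?_)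
    rw [Groth.RefRank.germ_applySec, Groth.RefRank.germ_applySec]
    rfl
  have : IsLocallyNoetherian X := LocallyOfFiniteType.isLocallyNoetherian (X ↘ Spec (CommRingCat.of A))
  have hFc := Groth.KTheory.LocFree.isCoh hF
  have hGc := Groth.KTheory.LocFree.isCoh hG
  have hp := Groth.CohBase.stalkMap_of_fibre (X ↘ Spec (CommRingCat.of A)) (IsLocalRing.closedPoint A) hF hG v
  rw [← hv]
  refine ⟨fun hm => (Groth.QCohMod.mono_iff_stalk v).2 fun x => ?_,
    fun he => (Groth.QCohMod.epi_iff_stalk v).2 fun x => ?_⟩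
  · refine forall_of_isOpen (X ↘ Spec (CommRingCat.of A)) (P := fun x => Function.Injective ((Groth.QCohMod.stalk x).map v))
      (fun x hx => ?_) (fun z => (hp z).1 ((Groth.QCohMod.mono_iff_stalk _).1 hm z)) x
    obtain ⟨W, hxW, hW⟩ := Groth.CohTwo.exists_injective_nhd hFc hGc v x hx
    exact ⟨W, hxW, fun y hy => (AddCommGrpCat.mono_iff_injective _).1 (hW y hy)⟩
  · refine forall_of_isOpen (X ↘ Spec (CommRingCat.of A)) (P := fun x => Function.Surjective ((Groth.QCohMod.stalk x).map v))
      (fun x hx => ?_) (fun z => (hp z).2 ((Groth.QCohMod.epi_iff_stalk _).1 he z)) x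
    obtain ⟨W, hxW, hW⟩ := Groth.CohTwo.exists_surjective_nhd hFc hGc v x hx
    exact ⟨W, hxW, fun y hy => (AddCommGrpCat.epi_iff_surjective _).1 (hW y hy)⟩

end Groth.Agent.S4476
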