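import Groth.Statements.S4480
import Groth.Agent.HensPair.SteinNormalPoint
import Groth.Agent.HensPair.SteinNormalization
import Groth.Agent.CohFin.ProjFinite
-- import your own Groth.Agent.* helpers here

set_option autoImplicit false
universe u
open Coherent

namespace Groth.Agent.S4480

open AlgebraicGeometry CategoryTheory in
/-- Let X and Y be locally Noetherian integral schemes and f : X → Y a proper dominant morphism such
that the function field R(Y) is algebraically closed in R(X) (every element of R(X) satisfying a
nonzero polynomial over R(Y) comes from R(Y)). Let y be a point of Y whose local ring is integrally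
closed (a normal point). Then the fibre X_y is geometrically connected over the residue field of y
(its base change to every field extension of that residue field is connected and nonempty; in
particular X_y is connected and nonempty), and there is an open neighbourhood U of y such that
O_Y(V) → O_X(f⁻¹V) is an isomorphism for every open V ⊆ U. -/
theorem result {X Y : Scheme.{u}}
    [IsIntegral X] [IsIntegral Y] [IsLocallyNoetherian X] [IsLocallyNoetherian Y] (f : X ⟶ Y) [IsProper f]
    (hdom : f.base (genericPoint X) ⤳ genericPoint Y)
    (halg : ∀ x : X.functionField,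
      (∃ q : Polynomial Y.functionField, q ≠ 0 ∧
        Polynomial.eval₂ (CohIII.stalkToFunctionField f (genericPoint Y) hdom) x q = 0) →
      x ∈ Set.range (CohIII.stalkToFunctionField f (genericPoint Y) hdom))
    (y : Y) (hy : IsIntegrallyClosed (Y.presheaf.stalk y)) :
    GeometricallyConnected (f.fiberToSpecResidueField y) ∧
      ∃ U : Y.Opens, y ∈ U ∧ ∀ V : Y.Opens, V ≤ U → IsIso (f.app V) := by
  obtain ⟨U, hU, hyU, hiso⟩ :=
    Groth.HensPair.exists_affine_isIso_app f Groth.CohFin.projFinite hdom halg y hy
  refine ⟨?_, U, hyU, fun V hV => Groth.HensPair.isIso_app_of_le f hU hV⟩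
  let g := f ∣_ U
  have hsq := (isPullback_morphismRestrict f U).flip
  have : IsProper g := MorphismProperty.of_isPullback hsq ‹_›
  have hg : ∀ W : U.toScheme.Opens, IsIso (g.app W) := fun W => by
    have := Groth.HensPair.isIso_app_of_le f hU (show U.ι ''ᵁ W ≤ U from Scheme.Opens.ι_image_le _ _)
    have h := isIso_op (eqToHom (image_morphismRestrict_preimage f U W))
    have h3 : IsIso ((X.presheaf.map (eqToHom (image_morphismRestrict_preimage f U W)).op)) :=
      Functor.map_isIso X.presheaf _
    rw [morphismRestrict_app]
    exact IsIso.comp_isIso' this h3
  have : GeometricallyConnected g :=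
    Groth.HensPair.geometricallyConnected_of_isIso_app g Groth.CohFin.projFinite fun W _ => hg W
  let t : Spec (Y.residueField y) ⟶ U.toScheme := IsOpenImmersion.lift U.ι (Y.fromSpecResidueField y) (by
    rw [Scheme.range_fromSpecResidueField, Scheme.Opens.range_ι]
    exact Set.singleton_subset_iff.2 hyU)
  have ht : t ≫ U.ι = Y.fromSpecResidueField y := IsOpenImmersion.lift_fac _ _ _
  have big : IsPullback (Limits.pullback.fst g t ≫ (f ⁻¹ᵁ U).ι) (Limits.pullback.snd g t) f (Y.fromSpecResidueField y) := by
    rw [← ht]
    exact (IsPullback.of_hasPullback g t).paste_horiz hsq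
  have h2 := big.isoPullback_hom_snd
  have h3 : GeometricallyConnected (Limits.pullback.snd g t) := MorphismProperty.pullback_snd _ _ ‹_›
  rw [← h2] at h3
  exact (MorphismProperty.cancel_left_of_respectsIso (P := @GeometricallyConnected) _ _).1 h3

end Groth.Agent.S4480
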