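import Groth.Statements.S4484
import Groth.Agent.HensPair.SteinComponents
import Groth.Agent.HensPair.NormalUnibranch
import Groth.Agent.HensPair.PrimesCount
import Groth.Agent.CohFin.ProjFinite
-- import your own Groth.Agent.* helpers here

set_option autoImplicit false
universe u
open Coherent

namespace Groth.Agent.S4484

open AlgebraicGeometry CategoryTheory in
/-- Let X and Y be locally Noetherian integral schemes and f : X → Y a proper dominant morphism; regard
the function field R(X) as an extension of R(Y) through f. Suppose that the algebraic closure of
R(Y) in R(X) has finite separable degree n over R(Y). Then for every point y of Y whose local ring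
is unibranch, the fibre X_y has finitely many, and at most n, connected components. -/
theorem result {X Y : Scheme.{u}} [IsIntegral X]
    [IsIntegral Y] [IsLocallyNoetherian X] [IsLocallyNoetherian Y] (f : X ⟶ Y) [IsProper f]
    (hdom : f.base (genericPoint X) ⤳ genericPoint Y) [Algebra Y.functionField X.functionField]
    (halg : algebraMap Y.functionField X.functionField = CohIII.stalkToFunctionField f (genericPoint Y) hdom)
    (n : ℕ) (hn0 : 0 < n)
    (hn : Field.finSepDegree Y.functionField ↥(algebraicClosure Y.functionField X.functionField) = n)
    (y : Y) (hy : CAlg2.IsUnibranch (Y.presheaf.stalk y)) :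
    Finite (_root_.ConnectedComponents ↥(f.fiber y)) ∧
      Nat.card (_root_.ConnectedComponents ↥(f.fiber y)) ≤ n := by
  let O := Y.presheaf.stalk y
  let M := algebraicClosure Y.functionField X.functionField
  have hy' : f.base (genericPoint X) ⤳ y :=
    hdom.trans ((genericPoint_spec Y).specializes (Set.mem_univ y))
  let _ : Algebra O X.functionField :=
    ((algebraMap Y.functionField X.functionField).comp (algebraMap O Y.functionField)).toAlgebra
  have : IsScalarTower O Y.functionField X.functionField := .of_algebraMap_eq fun _ => rfl
  have hloc : IsLocalRing (integralClosure O Y.functionField) :=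
    Groth.HensPair.isLocalRing_integralClosure_of_unibranch hy
  obtain ⟨hfin, hle⟩ := Groth.HensPair.natCard_maximalSpectrum_le_finSepDegree
    (O := O) (K := Y.functionField) (M := M) hloc (hn.symm ▸ hn0)
  have hC : CohIII.integralClosureStalk f y hy' = (integralClosure O X.functionField).toSubring := by
    have he : CohIII.stalkToFunctionField f y hy' = algebraMap O X.functionField := by
      refine RingHom.ext fun a => ?_
      show _ = algebraMap Y.functionField X.functionField (algebraMap O Y.functionField a)
      rw [halg]
      show f.stalkMap (genericPoint X) (Y.presheaf.stalkSpecializes hy' a) = f.stalkMap (genericPoint X)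
        (Y.presheaf.stalkSpecializes hdom
          (Y.presheaf.stalkSpecializes ((genericPoint_spec Y).specializes (Set.mem_univ y)) a))
      congr 1
      show _ = (Y.presheaf.stalkSpecializes _ ≫ Y.presheaf.stalkSpecializes _) a
      rw [TopCat.Presheaf.stalkSpecializes_comp]
    ext x
    show (CohIII.stalkToFunctionField f y hy').IsIntegralElem x ↔ (algebraMap O X.functionField).IsIntegralElem x
    rw [he]
  have hmem : ∀ x : integralClosure O X.functionField, x.1 ∈ M := fun x =>
    mem_algebraicClosure_iff'.2 x.2.tower_top
  have hint : ∀ (x : M), IsIntegral O x ↔ IsIntegral O x.1 := fun x =>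
    (isIntegral_algHom_iff (M.val.restrictScalars O) Subtype.val_injective).symm
  let ψ : integralClosure O M ≃+* CohIII.integralClosureStalk f y hy' :=
    ({ toFun := fun x => ⟨x.1.1, (hint x.1).1 x.2⟩
       invFun := fun x => ⟨⟨x.1, hmem x⟩, (hint ⟨x.1, hmem x⟩).2 x.2⟩
       left_inv := fun x => rfl
       right_inv := fun x => rfl
       map_mul' := fun x y => rfl
       map_add' := fun x y => rfl } : integralClosure O M ≃+* (integralClosure O X.functionField).toSubring).trans
      (RingEquiv.subringCongr hC.symm)
  let Ψ : MaximalSpectrum (CohIII.integralClosureStalk f y hy') → MaximalSpectrum (integralClosure O M) :=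
    fun Q => ⟨Q.asIdeal.comap (ψ : integralClosure O M →+* CohIII.integralClosureStalk f y hy'),
      have := Q.isMaximal; Ideal.comap_isMaximal_of_surjective _ ψ.surjective⟩
  have hΨ : Function.Injective Ψ := fun Q₁ Q₂ h => MaximalSpectrum.ext
    (Ideal.comap_injective_of_surjective _ ψ.surjective (congrArg MaximalSpectrum.asIdeal h))
  have h1 := (Groth.HensPair.mk_connectedComponents_fiber_le f Groth.CohFin.projFinite y).trans
    (Groth.HensPair.mk_preimage_fromNormalization_le f Groth.CohFin.projFinite y hy')
  have hfinC : Finite (MaximalSpectrum (CohIII.integralClosureStalk f y hy')) := Finite.of_injective Ψ hΨ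
  have hfinP : Finite (_root_.ConnectedComponents ↥(f.fiber y)) :=
    Cardinal.lt_aleph0_iff_finite.1 (h1.trans_lt (Cardinal.lt_aleph0_of_finite _))
  exact ⟨hfinP, (Cardinal.toNat_le_toNat h1 (Cardinal.lt_aleph0_of_finite _)).trans
    ((Nat.card_le_card_of_injective Ψ hΨ).trans (hle.trans hn.le))⟩

end Groth.Agent.S4484
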