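import Groth.Statements.S4486
import Groth.Agent.FlatCxBase.Generic


set_option autoImplicit false
universe u
open FlatCx

namespace Groth.Agent.S4486

open CategoryTheory CategoryTheory.Limits in
/-- For the homological functor T_p(M) = H_p(P ⊗_A M) of a chain complex P of flat modules over a
commutative ring A, which commutes with filtered colimits. Let A be a domain and suppose P_i = 0 for
i < i₀ and that every T_n(A) is a finitely presented A-module. Then for every integer N there is a
nonzero f ∈ A such that, for every p ≤ N, the functor of A_f-modules N ↦ H_p(P_f ⊗_{A_f} N), where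
P_f = P ⊗_A A_f, takes injections to injections and surjections to surjections. -/
theorem result {A : Type u} [CommRing A] [IsDomain A]
    (P : ChainComplex (ModuleCat.{u} A) ℤ) (hP : ∀ i, Module.Flat A (P.X i)) (i₀ : ℤ)
    (hb : ∀ i < i₀, IsZero (P.X i))
    (hfp : ∀ n : ℤ, Module.FinitePresentation A (CohIII.T P n (ModuleCat.of A A))) (N : ℤ) :
    ∃ f : A, f ≠ 0 ∧ ∀ p ≤ N,
      (CohIII.TFun (CohIII.bcCx (algebraMap A (Localization.Away f)) P) p).PreservesMonomorphisms ∧
        (CohIII.TFun (CohIII.bcCx (algebraMap A (Localization.Away f)) P) p).PreservesEpimorphisms := by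
  have := hP
  open Groth.FlatCxBase in
  have hK : ∀ q, Module.FinitePresentation A (LinearMap.ker (dBarC P q)) := fun q =>
    have : Module.FinitePresentation A ((CohIII.TFun P q).obj (ModuleCat.of A A)) := hfp q
    Module.FinitePresentation.of_equiv (TunitEquivKer P q)
  open Groth.FlatCxBase in
  have h0 : (⟨⊥, Ideal.isPrime_bot⟩ : PrimeSpectrum A) ∈ freeUpTo P i₀ N :=
    Set.mem_iInter₂.2 fun q _ => minimalPrime_mem_freeLocus _ _ (by
      rw [IsDomain.minimalPrimes_eq_singleton_bot]; rfl)
  open Groth.FlatCxBase in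
  obtain ⟨_, ⟨f, rfl⟩, hf0, hf⟩ :=
    PrimeSpectrum.isTopologicalBasis_basic_opens.exists_subset_of_mem_open h0 (isOpen_freeUpTo P i₀ N)
  refine ⟨f, fun h => hf0 (by rw [h]; exact Submodule.zero_mem _), fun p hp => ?_⟩
  open Groth.FlatCxBase in
  obtain ⟨hk, hQ⟩ := flat_Q_away P i₀ N hb hf
  open Groth.FlatCxBase in
  exact ⟨(Chain.mono_iff _ p).2 (hQ p hp),
    (Chain.epi_iff _ p (show p - 1 + 1 = p by ring)).2 (hQ (p - 1) (by omega))⟩

end Groth.Agent.S4486
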