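import Groth.Statements.S4487
import Groth.Agent.FlatCxBase.Generic


set_option autoImplicit false
universe u
open FlatCx

namespace Groth.Agent.S4487

open CategoryTheory CategoryTheory.Limits in
/-- The case of the homological functor T_p(M) = H_p(P ⊗_A M) of a chain complex P of flat modules over
a commutative ring A. Let A be Noetherian and suppose P_i = 0 for i < i₀ and that every T_n(A) is a
finitely generated A-module. Then for every integer N there is a dense open subset U of Spec A such
that, for every p ≤ N, the function x ↦ dim_{k(x)} H_p(P ⊗_A k(x)) is locally constant on U. (The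
published statement says constant on U; over the product of two fields, with P the projective module
supported on one factor placed in degree 0, the only dense open set is the whole two-point spectrum
and the ranks there are 1 and 0, so locally constant on U is what holds; the argument produces U as
a disjoint union of opens, one dense in each irreducible component, on each of which the functions
are constant.) -/
theorem result {A : Type u} [CommRing A] [IsNoetherianRing A]
    (P : ChainComplex (ModuleCat.{u} A) ℤ) (hP : ∀ i, Module.Flat A (P.X i)) (i₀ : ℤ)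
    (hb : ∀ i < i₀, IsZero (P.X i))
    (hfg : ∀ n : ℤ, Module.Finite A (CohIII.T P n (ModuleCat.of A A))) (N : ℤ) :
    ∃ U : Set (PrimeSpectrum A), IsOpen U ∧ Dense U ∧
      ∀ p ≤ N, IsLocallyConstant (fun x : U => CohIII.dRank P p x) := by
  have := hP
  let B := A ⧸ nilradical A
  let P₀ := CohIII.bcCx (algebraMap A B) P
  have hb₀ : ∀ i < i₀, IsZero (P₀.X i) :=
    fun i hi => (ModuleCat.extendScalars (algebraMap A B)).map_isZero (hb i hi)
  open Groth.FlatCxBase in
  have hK : ∀ q, Module.FinitePresentation B (LinearMap.ker (dBarC P₀ q)) := fun q =>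
    have := finite_homology_bc_quotient P i₀ hb hfg B q
    have := Module.Finite.equiv (homologyEquiv P₀ q)
    Module.finitePresentation_of_finite B _
  have : IsReduced B := (Ideal.isRadical_iff_quotient_reduced _).1 (Ideal.radical_isRadical _)
  let c := PrimeSpectrum.comap (algebraMap A B)
  have hc : Topology.IsClosedEmbedding c :=
    PrimeSpectrum.isClosedEmbedding_comap_of_surjective _ _ Ideal.Quotient.mk_surjective
  have hcs : Function.Surjective c :=
    (PrimeSpectrum.comap_quotientMk_bijective_of_le_nilradical le_rfl).2
  let V := Groth.FlatCxBase.freeUpTo P₀ i₀ N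
  have hVo : IsOpen V := Groth.FlatCxBase.isOpen_freeUpTo P₀ i₀ N
  have hVd : Dense V := Groth.FlatCxBase.dense_of_minimalPrimes_subset fun x hx =>
    Set.mem_iInter₂.2 fun q _ => Groth.FlatCxBase.minimalPrime_mem_freeLocus _ x hx
  let e : PrimeSpectrum B ≃ₜ PrimeSpectrum A :=
    (Equiv.ofBijective c ⟨hc.injective, hcs⟩).toHomeomorphOfContinuousClosed hc.continuous hc.isClosedMap
  refine ⟨e '' V, e.isOpenMap _ hVo, e.surjective.denseRange.dense_image e.continuous hVd, fun p hp => ?_⟩
  rw [IsLocallyConstant.iff_eventually_eq]
  rintro ⟨_, y, hy, rfl⟩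
  obtain ⟨_, ⟨f, rfl⟩, hyf, hf⟩ :=
    PrimeSpectrum.isTopologicalBasis_basic_opens.exists_subset_of_mem_open hy hVo
  open Groth.FlatCxBase in
  obtain ⟨hk, hQ⟩ := flat_Q_away P₀ i₀ N hb₀ hf
  let C := Localization.Away f
  let d := PrimeSpectrum.comap (algebraMap B C)
  obtain ⟨z, rfl⟩ : y ∈ Set.range d := by
    rw [PrimeSpectrum.localization_away_comap_range C f]; exact hyf
  have hd : Topology.IsOpenEmbedding d := PrimeSpectrum.localization_away_isOpenEmbedding C f
  have := hk p hp
  have := hQ (p - 1) (by omega)
  open Groth.FlatCxBase in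
  have : Module.FinitePresentation C (LinearMap.ker (dBarC (CohIII.bcCx (algebraMap B C) P₀) p)) :=
    have : Module.Flat B C := IsLocalization.flat C (Submonoid.powers f)
    Module.FinitePresentation.of_equiv
      ((homologyFlatBCEquiv C P₀ p).symm.trans (homologyEquiv (CohIII.bcCx (algebraMap B C) P₀) p))
  have h1 := (Groth.FlatCxBase.isLocallyConstant_dRank_of_flat
    (CohIII.bcCx (algebraMap B C) P₀) p).eventually_eq z
  rw [nhds_subtype, Filter.eventually_comap]
  show ∀ᶠ x in nhds (e (d z)), _
  rw [← e.map_nhds_eq, Filter.eventually_map, ← hd.map_nhds_eq, Filter.eventually_map]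
  filter_upwards [h1] with w hw
  rintro ⟨_, hx⟩ (rfl : _ = e (d w))
  simp only [Groth.FlatCxBase.dRank_bc] at hw
  exact (Groth.FlatCxBase.dRank_bc B P p _).symm.trans (hw.trans (Groth.FlatCxBase.dRank_bc B P p _))

end Groth.Agent.S4487
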