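import Groth.Statements.S4488
import Groth.Agent.FlatCxBase.Generic


set_option autoImplicit false
universe u
open FlatCx

namespace Groth.Agent.S4488

open CategoryTheory CategoryTheory.Limits in
/-- For the homological functor T_q(M) = H_q(P ⊗_A M) of a chain complex P of flat modules over a
commutative local ring A with residue field k. Suppose P_i = 0 for i < i₀ and that every T_n(A) is a
finitely presented A-module, and let p be an integer. If T_q takes injections to injections and
surjections to surjections for every q ≤ p, then dim_{k(x)} T_q(k(x)) = dim_k T_q(k) for every point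
x of Spec A and every q ≤ p. Conversely, if A is reduced and this equality holds at the generic
point of every irreducible component of Spec A (every minimal prime) for every q ≤ p, then T_q takes
injections to injections and surjections to surjections for every q ≤ p. No Noetherian hypothesis on
A. -/
theorem result {A : Type u} [CommRing A] [IsLocalRing A]
    (P : ChainComplex (ModuleCat.{u} A) ℤ) (hP : ∀ i, Module.Flat A (P.X i)) (i₀ : ℤ)
    (hb : ∀ i < i₀, IsZero (P.X i))
    (hfp : ∀ n : ℤ, Module.FinitePresentation A (CohIII.T P n (ModuleCat.of A A))) (p : ℤ) :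
    ((∀ q ≤ p, (CohIII.TFun P q).PreservesMonomorphisms ∧ (CohIII.TFun P q).PreservesEpimorphisms) →
        ∀ (x : PrimeSpectrum A), ∀ q ≤ p, CohIII.dRank P q x = CohIII.dRank P q (IsLocalRing.closedPoint A)) ∧
      (IsReduced A →
        (∀ x : PrimeSpectrum A, x.asIdeal ∈ minimalPrimes A →
          ∀ q ≤ p, CohIII.dRank P q x = CohIII.dRank P q (IsLocalRing.closedPoint A)) →
        ∀ q ≤ p, (CohIII.TFun P q).PreservesMonomorphisms ∧ (CohIII.TFun P q).PreservesEpimorphisms) := by
  have := hP
  open Groth.FlatCxBase in
  have hK : ∀ q, Module.FinitePresentation A (LinearMap.ker (dBarC P q)) := fun q =>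
    have : Module.FinitePresentation A ((CohIII.TFun P q).obj (ModuleCat.of A A)) := hfp q
    Module.FinitePresentation.of_equiv (TunitEquivKer P q)
  refine ⟨fun h x q hq => ?_, fun hr h => ?_⟩
  · open Groth.FlatCxBase in
    have : Module.Flat A (Chain.Q P (q - 1)) :=
      (Chain.epi_iff P q (show q - 1 + 1 = q by ring)).1 (h q hq).2
    open Groth.FlatCxBase in
    have : Module.Flat A (LinearMap.ker (dBarC P q)) := by
      have := ((Chain.exact_iff P q).1 (h q hq)).2
      exact Module.Flat.of_linearEquiv (TunitEquivKer P q).symm
    exact ((PrimeSpectrum.le_iff_specializes x _).1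
      (IsLocalRing.le_maximalIdeal x.isPrime.ne_top)).pure_le_nhds
      ((Groth.FlatCxBase.isLocallyConstant_dRank_of_flat P q).eventually_eq _)
  · open Groth.FlatCxBase in
    have hQ := flat_Q_of_dRank_eq P i₀ p hb h
    open Groth.FlatCxBase in
    exact fun q hq => ⟨(Chain.mono_iff P q).2 (hQ q hq),
      (Chain.epi_iff P q (show q - 1 + 1 = q by ring)).2 (hQ (q - 1) (by omega))⟩

end Groth.Agent.S4488
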