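import Groth.Statements.S4489
import Groth.Agent.FlatCxBase.FlatAlg
import Mathlib.RingTheory.Flat.TorsionFree


set_option autoImplicit false
universe u
open FlatCx

namespace Groth.Agent.S4489

open CategoryTheory CategoryTheory.Limits in
/-- For the homological functor T_p(M) = H_p(P ⊗_A M) of a chain complex P of flat modules, stated over
a Dedekind domain A. (The published statement allows A to be a finite product of Dedekind domains,
that is, a Noetherian regular ring of dimension at most 1; this row takes A a Dedekind domain.) Then
T_p takes injections to injections if and only if H_p(P) is a flat A-module; and, with q + 1 = p,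
T_p takes injections to injections and surjections to surjections if and only if H_p(P) and H_q(P)
are both flat. -/
theorem result {A : Type u} [CommRing A] [IsDedekindDomain A]
    (P : ChainComplex (ModuleCat.{u} A) ℤ) (hP : ∀ i, Module.Flat A (P.X i)) (p q : ℤ) (hpq : q + 1 = p) :
    ((CohIII.TFun P p).PreservesMonomorphisms ↔ Module.Flat A (P.homology p)) ∧
      (((CohIII.TFun P p).PreservesMonomorphisms ∧ (CohIII.TFun P p).PreservesEpimorphisms) ↔
        (Module.Flat A (P.homology p) ∧ Module.Flat A (P.homology q))) := by
  have := hP
  open Groth.FlatCxBase in
  have hsub : ∀ (X : Type u) [AddCommGroup X] [Module A X] [Module.Flat A X] (N : Submodule A X),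
      Module.Flat A N := by
    intro X _ _ hX N
    have : Module.IsTorsionFree A X := by
      rw [Submodule.isTorsionFree_iff_torsion_eq_bot]
      exact IsDedekindDomain.flat_iff_torsion_eq_bot.1 hX
    infer_instance
  have key : ∀ r, Module.Flat A (Chain.Q P r) ↔ Module.Flat A (P.homology r) := by
    intro r
    have := hsub (P.X (r - 1)) (LinearMap.range (dBarC P r))
    constructor
    · intro hQ
      have := hsub (Chain.Q P r) (LinearMap.ker (dBarC P r))
      exact Module.Flat.of_linearEquiv (homologyEquiv P r)
    · intro hH
      have : Module.Flat A (LinearMap.ker (dBarC P r)) :=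
        Module.Flat.of_linearEquiv (homologyEquiv P r).symm
      exact flat_of_flat_ker_range (dBarC P r)
  subst hpq
  rw [Chain.mono_iff, Chain.epi_iff P (q + 1) rfl, key, key]
  exact ⟨Iff.rfl, Iff.rfl⟩

end Groth.Agent.S4489
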