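import Groth.Statements.S4490
import Groth.Agent.FlatCxBase.Chain
import Groth.Agent.FlatCxBase.ArtinRees


set_option autoImplicit false
universe u
open FlatCx

namespace Groth.Agent.S4490

open CategoryTheory CategoryTheory.Limits in
/-- The case of the functor T_p(M) = H_p(P ⊗_A M) of a chain complex P of finitely generated flat
modules over a Noetherian local ring A with maximal ideal m and residue field k. Then T_p takes
surjections to surjections if and only if the map T_p(A) → T_p(k) induced by A → k is surjective;
and also if and only if, for all sufficiently large n (there is n₀ such that for every n ≥ n₀), the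
map T_p(A/m^(n+1)) → T_p(A/m) induced by the projection is surjective. (Surjectivity at one n gives
it at every smaller n, so this is the same as asking it for every n; at n = 0 alone the map is an
isomorphism and the condition would be empty.) -/
theorem result {A : Type u} [CommRing A] [IsNoetherianRing A]
    [IsLocalRing A] (P : ChainComplex (ModuleCat.{u} A) ℤ)
    (hP : ∀ i, Module.Finite A (P.X i) ∧ Module.Flat A (P.X i)) (p : ℤ) :
    ((CohIII.TFun P p).PreservesEpimorphisms ↔
      Function.Surjective ((CohIII.TFun P p).map
        (ModuleCat.ofHom (Algebra.linearMap A (IsLocalRing.ResidueField A)))).hom) ∧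
    ((CohIII.TFun P p).PreservesEpimorphisms ↔
      ∃ n₀ : ℕ, ∀ n : ℕ, n₀ ≤ n → Function.Surjective ((CohIII.TFun P p).map (ModuleCat.ofHom
        (Ideal.Quotient.factorₐ A (Ideal.pow_le_self (I := IsLocalRing.maximalIdeal A)
          (Nat.succ_ne_zero n))).toLinearMap :
        ModuleCat.of A (A ⧸ IsLocalRing.maximalIdeal A ^ (n + 1)) ⟶
          ModuleCat.of A (A ⧸ IsLocalRing.maximalIdeal A))).hom) := by
  have := fun i => (hP i).1
  have := fun i => (hP i).2
  open Groth.FlatCxBase in
  refine ⟨Chain.epi_iff_surjective P p, fun h => ⟨0, fun n _ =>
      (preservesEpi_iff _).1 h _ (Ideal.Quotient.factor_surjective (Ideal.pow_le_self (Nat.succ_ne_zero n)))⟩,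
    fun H => (Chain.epi_iff_surjective P p).2
      (surjective_of_artinRees P (chain_prev p) (chain_next p) (IsLocalRing.maximalIdeal A) H)⟩

end Groth.Agent.S4490
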