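import Groth.Statements.S4493
import Groth.Agent.EtaleAlgebra.LinFunctorLoc
-- import your own Groth.Agent.* helpers here

set_option autoImplicit false
universe u
open FlatCx

namespace Groth.Agent.S4493

open CategoryTheory CategoryTheory.Limits in
/-- Let A be a commutative ring and T an additive A-linear endofunctor of the category of A-modules
which preserves filtered colimits. For a maximal ideal m write T_m for T precomposed with
restriction of scalars along A → A_m (a functor from A_m-modules to A-modules). If T_m is left exact
for every maximal ideal m then T is left exact, and if T_m is right exact for every maximal ideal m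
then T is right exact (exactness meaning preservation of finite limits, resp. finite colimits). -/
theorem result {A : Type u} [CommRing A]
    (T : ModuleCat.{u} A ⥤ ModuleCat.{u} A) [T.Additive] [T.Linear A]
    (hT : ∀ (J : Type u) [SmallCategory J] [IsFiltered J], PreservesColimitsOfShape J T) :
    ((∀ (m : Ideal A) [m.IsMaximal],
        PreservesFiniteLimits (ModuleCat.restrictScalars (algebraMap A (Localization.AtPrime m)) ⋙ T)) →
      PreservesFiniteLimits T) ∧
    ((∀ (m : Ideal A) [m.IsMaximal],
        PreservesFiniteColimits (ModuleCat.restrictScalars (algebraMap A (Localization.AtPrime m)) ⋙ T)) →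
      PreservesFiniteColimits T) := by
  exact ⟨Groth.EtaleAlgebra.LinFunctorLoc.preservesFiniteLimits_of_forall_maximal T hT,
    Groth.EtaleAlgebra.LinFunctorLoc.preservesFiniteColimits_of_forall_maximal T hT⟩

end Groth.Agent.S4493
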