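import Groth.Statements.S4497
import Groth.Agent.FlatCxBase.Length


set_option autoImplicit false
universe u
open FlatCx

namespace Groth.Agent.S4497

open CategoryTheory CategoryTheory.Limits in
/-- For the homological functor T_i(M) = H_i(P ⊗_A M) of a chain complex P of flat modules over a
commutative Artinian local ring A with residue field k; the terms of P need not be finitely
generated. With p + 1 = q: T_p takes injections to injections and surjections to surjections if and
only if the maps T_p(A) → T_p(k) and T_q(A) → T_q(k) induced by A → k are both surjective. If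
moreover T_p(k) has finite length d, these conditions are also equivalent to: length T_p(M) = d ·
length M for every A-module M of finite length (lengths valued in ℕ∞). -/
theorem result {A : Type u} [CommRing A] [IsArtinianRing A]
    [IsLocalRing A] (P : ChainComplex (ModuleCat.{u} A) ℤ) (hP : ∀ i, Module.Flat A (P.X i)) (p q : ℤ)
    (hpq : p + 1 = q) :
    (((CohIII.TFun P p).PreservesMonomorphisms ∧ (CohIII.TFun P p).PreservesEpimorphisms) ↔
      (Function.Surjective ((CohIII.TFun P p).map
          (ModuleCat.ofHom (Algebra.linearMap A (IsLocalRing.ResidueField A)))).hom ∧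
        Function.Surjective ((CohIII.TFun P q).map
          (ModuleCat.ofHom (Algebra.linearMap A (IsLocalRing.ResidueField A)))).hom)) ∧
    (Module.length A (CohIII.T P p (ModuleCat.of A (IsLocalRing.ResidueField A))) ≠ ⊤ →
      (((CohIII.TFun P p).PreservesMonomorphisms ∧ (CohIII.TFun P p).PreservesEpimorphisms) ↔
        ∀ M : ModuleCat.{u} A, Module.length A M ≠ ⊤ →
          Module.length A (CohIII.T P p M) =
            Module.length A (CohIII.T P p (ModuleCat.of A (IsLocalRing.ResidueField A))) * Module.length A M)) := by
  have := hP
  open Groth.FlatCxBase in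
  have hsurj := fun n => preservesEpi_iff_surjective_of_artinian P (chain_prev n) (chain_next n)
  refine ⟨⟨fun h => ⟨(hsurj p).1 h.2, (hsurj q).1
    ((Groth.FlatCxBase.Chain.epi_iff_mono P q hpq).2 h.1)⟩, fun h =>
    ⟨(Groth.FlatCxBase.Chain.epi_iff_mono P q hpq).1 ((hsurj q).2 h.2), (hsurj p).2 h.1⟩⟩, fun hd => ?_⟩
  have hhalf := Groth.FlatCxBase.Chain.isHalfExact P p
  constructor
  · rintro ⟨h1, h2⟩ M hM
    exact Groth.FlatCxBase.length_map_eq (CohIII.TFun P p) hhalf _
      (fun M hM => Groth.FlatCxBase.length_map_simple _ M hM) (Module.length_ne_top_iff.1 hM)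
  · intro h
    have hA : Module.length A (ModuleCat.of A A) ≠ ⊤ :=
      Module.length_ne_top_iff.2 (isFiniteLength_iff_isNoetherian_isArtinian.2 ⟨inferInstance, inferInstance⟩)
    open Groth.FlatCxBase in
    obtain ⟨hs, hflat⟩ := surjective_and_flat_of_length_eq P (chain_prev p) (chain_next p) hd (h _ hA)
    exact (Groth.FlatCxBase.Chain.exact_iff P p).2 ⟨(hsurj p).2 hs, hflat⟩

end Groth.Agent.S4497
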