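import Groth.Statements.S4498
import Groth.Agent.CohTwo.HomTensorCorep

set_option autoImplicit false
universe u
attribute [local instance] HasDerivedCategory.standard
open Coherent

namespace Groth.Agent.S4498

open AlgebraicGeometry CategoryTheory Opposite in
/-- The global form over an affine base. Let A be a Noetherian ring, X a proper A-scheme with structure
morphism f, and F, F' coherent O_X-modules flat over Spec A. Let η be a natural transformation from
the functor M ↦ Γ(X, f^*(M~) ⊗ F) to the functor M ↦ Γ(X, f^*(M~) ⊗ F') of the A-module M (the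
published statement takes η induced by a homomorphism F → F'; this row allows any natural
transformation, which is all the argument uses). Then the kernel functor M ↦ Ker(η_M) is
corepresentable by a finitely generated A-module R: there are such an R and a natural transformation
ι : Hom_A(R, −) → Γ(X, f^*(−~) ⊗ F) with injective components whose image at every M is exactly the
kernel of η_M. (R is then unique up to unique isomorphism.) -/
theorem result (A : Type u) [CommRing A]
    [IsNoetherianRing A] (X : Scheme.{u}) [X.Over (Spec (CommRingCat.of A))]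
    [IsProper (X ↘ Spec (CommRingCat.of A))] (F F' : X.Modules) (hF : Coh.IsCoh F) (hF' : Coh.IsCoh F')
    (hfl : FlatMod.IsFlatOver (X ↘ Spec (CommRingCat.of A)) F)
    (hfl' : FlatMod.IsFlatOver (X ↘ Spec (CommRingCat.of A)) F')
    (η : CohIII.tensorAFunctor A F ⋙ CohIII.globalSectionsA A ⟶ CohIII.tensorAFunctor A F' ⋙ CohIII.globalSectionsA A) :
    ∃ (R : ModuleCat.{u} A) (ι : (linearCoyoneda A (ModuleCat.{u} A)).obj (op R) ⟶
        CohIII.tensorAFunctor A F ⋙ CohIII.globalSectionsA A),
      Module.Finite A R ∧ (∀ M : ModuleCat.{u} A, Function.Injective (ι.app M).hom) ∧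
        ∀ (M : ModuleCat.{u} A) (x : (CohIII.tensorAFunctor A F ⋙ CohIII.globalSectionsA A).obj M),
          (η.app M).hom x = 0 ↔ ∃ y, (ι.app M).hom y = x := by
  obtain ⟨Q, hQ, ⟨e⟩⟩ := Groth.CohBase.exists_corep_globalSections A X F hF hfl Groth.CohFin.projFinite
  obtain ⟨Q', -, ⟨e'⟩⟩ := Groth.CohBase.exists_corep_globalSections A X F' hF' hfl' Groth.CohFin.projFinite
  obtain ⟨R, q, hR, hq, hker⟩ := Groth.CohTwo.HomTensor.exists_corep_kernel
    (Functor.whiskerRight (e.inv ≫ η ≫ e'.hom) (forget₂ (ModuleCat.{u} A) AddCommGrpCat.{u}))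
  have : Epi q := (ModuleCat.epi_iff_surjective q).2 hq
  refine ⟨R, (linearCoyoneda A (ModuleCat.{u} A)).map q.op ≫ e.inv, hR, fun M y y' h => ?_, fun M x => ?_⟩
  · exact (cancel_epi q).1 ((e.app M).toLinearEquiv.symm.injective h)
  · refine (Iff.trans ?_ (hker M ((e.hom.app M).hom x))).trans ?_
    · have hx : (e.inv.app M).hom ((e.hom.app M).hom x) = x := congr($((e.app M).hom_inv_id) x)
      change _ ↔ (e'.hom.app M).hom ((η.app M).hom ((e.inv.app M).hom ((e.hom.app M).hom x))) = 0
      rw [hx]
      exact (map_eq_zero_iff _ (e'.app M).toLinearEquiv.injective).symm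
    · refine exists_congr fun y => ⟨fun h => ?_, fun h => ?_⟩
      · refine Eq.trans ?_ (congr($((e.app M).hom_inv_id) x))
        change (e.inv.app M).hom (q ≫ y) = (e.inv.app M).hom ((e.hom.app M).hom x)
        rw [h]
      · refine Eq.trans ?_ (congrArg (e.hom.app M).hom h)
        exact (congr($((e.app M).inv_hom_id) (q ≫ y))).symm

end Groth.Agent.S4498
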