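import Groth.Statements.S4499
import Groth.Agent.EtaleAlgebra.TorConnecting
import Groth.Agent.Calg7.Derived.Tor

set_option autoImplicit false
universe u
attribute [local instance] HasDerivedCategory.standard
open FlatCx

namespace Groth.Agent.S4499

open CategoryTheory CategoryTheory.Limits

private lemma torOneEquiv {R : Type u} [CommRing R] {S : ShortComplex (ModuleCat.{u} R)} (hS : S.ShortExact)
    [Module.Flat R S.X₂] (X : ModuleCat.{u} R) :
    Nonempty (LinearMap.ker (S.f.hom.rTensor X) ≃ₗ[R]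
      ((CategoryTheory.Tor (ModuleCat.{u} R) 1).obj S.X₃).obj X) := by
  refine ⟨(LinearEquiv.ofEq _ _ ?_).trans
    (LinearEquiv.ofInjective _ (EtaleAlgebra.TorConnecting.del_injective hS X)).symm⟩
  ext w
  exact (EtaleAlgebra.TorConnecting.mem_range_del_iff hS X w).symm

private lemma torShiftEquiv {R : Type u} [CommRing R] {S : ShortComplex (ModuleCat.{u} R)} (hS : S.ShortExact)
    [Module.Flat R S.X₂] (X : ModuleCat.{u} R) :
    Nonempty (((CategoryTheory.Tor (ModuleCat.{u} R) 1).obj S.X₁).obj X ≃ₗ[R]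
      ((CategoryTheory.Tor (ModuleCat.{u} R) 2).obj S.X₃).obj X) := by
  haveI : Mono (Groth.Calg7.Tor.δL hS X 1) := (Groth.Calg7.Tor.exactL₃ hS X 1).mono_g
    ((Groth.Calg7.Tor.isZero_of_flat_left (M := S.X₂) X 1).eq_of_src _ _)
  haveI : Epi (Groth.Calg7.Tor.δL hS X 1) := (Groth.Calg7.Tor.exactL₁ hS X 1).epi_f
    ((Groth.Calg7.Tor.isZero_of_flat_left (M := S.X₂) X 0).eq_of_tgt _ _)
  haveI := isIso_of_mono_of_epi (Groth.Calg7.Tor.δL hS X 1)
  exact ⟨(asIso (Groth.Calg7.Tor.δL hS X 1)).symm.toLinearEquiv⟩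


private lemma torEquivs {A : Type u} [CommRing A] {K F B : Type u} [AddCommGroup K] [Module A K]
    [AddCommGroup F] [Module A F] [AddCommGroup B] [Module A B] [Module.Flat A F] (f : K →ₗ[A] F) (g : F →ₗ[A] B)
    (hf : Function.Injective f) (he : Function.Exact f g) (hg : Function.Surjective g)
    (N : Type u) [AddCommGroup N] [Module A N] :
    Nonempty (LinearMap.ker (f.rTensor N) ≃ₗ[A] DRing.Tor A 1 B N) ∧
      Nonempty (DRing.Tor A 1 K N ≃ₗ[A] DRing.Tor A 2 B N) := by
  have hc : ModuleCat.ofHom f ≫ ModuleCat.ofHom g = 0 :=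
    ModuleCat.hom_ext (LinearMap.ext fun x => he.apply_apply_eq_zero x)
  have hS : (ShortComplex.mk (ModuleCat.ofHom f) (ModuleCat.ofHom g) hc).ShortExact :=
    { exact := (ShortComplex.moduleCat_exact_iff _).2 fun x hx => (he x).1 hx
      mono_f := (ModuleCat.mono_iff_injective _).2 hf
      epi_g := (ModuleCat.epi_iff_surjective _).2 hg }
  haveI : Module.Flat A (ShortComplex.mk (ModuleCat.ofHom f) (ModuleCat.ofHom g) hc).X₂ := ‹Module.Flat A F›
  exact ⟨torOneEquiv hS (ModuleCat.of A N), torShiftEquiv hS (ModuleCat.of A N)⟩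

private lemma quotEquiv {A : Type u} [CommRing A] {M N : Type u} [AddCommGroup M] [Module A M]
    [AddCommGroup N] [Module A N] (g : M →ₗ[A] N) (hg : Function.Surjective g)
    (p : Submodule A M) (hp : p = LinearMap.ker g) : Nonempty ((M ⧸ p) ≃ₗ[A] N) :=
  ⟨(Submodule.quotEquivOfEq p (LinearMap.ker g) hp).trans (g.quotKerEquivOfSurjective hg)⟩


private lemma general {A : Type u} [CommRing A] {P₁ P₀ : Type u} [AddCommGroup P₁] [Module A P₁]
    [AddCommGroup P₀] [Module A P₀] [Module.Flat A P₁] [Module.Flat A P₀] (d : P₁ →ₗ[A] P₀)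
    (k : Type u) [AddCommGroup k] [Module A k] :
    Nonempty (LinearMap.ker ((LinearMap.ker d).subtype.rTensor k) ≃ₗ[A]
        DRing.Tor A 2 (P₀ ⧸ LinearMap.range d) k) ∧
      LinearMap.range ((LinearMap.ker d).subtype.rTensor k) ≤ LinearMap.ker (d.rTensor k) ∧
      Nonempty ((↥(LinearMap.ker (d.rTensor k)) ⧸
          Submodule.comap (LinearMap.ker (d.rTensor k)).subtype
            (LinearMap.range ((LinearMap.ker d).subtype.rTensor k))) ≃ₗ[A]
        DRing.Tor A 1 (P₀ ⧸ LinearMap.range d) k) := by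
  let I := LinearMap.range d
  let d' : P₁ →ₗ[A] I := d.rangeRestrict
  have hd' : Function.Surjective d' := d.surjective_rangeRestrict
  have hker : LinearMap.ker d' = LinearMap.ker d := d.ker_rangeRestrict
  obtain ⟨⟨e₁⟩, -⟩ := torEquivs (LinearMap.ker d).subtype d' Subtype.val_injective
    (LinearMap.exact_iff.2 (by rw [hker, Submodule.range_subtype])) hd' k
  obtain ⟨⟨e₃⟩, ⟨e₂⟩⟩ := torEquivs I.subtype I.mkQ Subtype.val_injective
    (LinearMap.exact_subtype_mkQ I) I.mkQ_surjective k
  have hexact : Function.Exact ((LinearMap.ker d).subtype.rTensor k) (d'.rTensor k) := by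
    refine rTensor_exact k ?_ hd'
    rw [LinearMap.exact_iff, hker, Submodule.range_subtype]
  have hfac : d.rTensor k = I.subtype.rTensor k ∘ₗ d'.rTensor k := by
    rw [← LinearMap.rTensor_comp, LinearMap.subtype_comp_codRestrict]
  have hle : LinearMap.range ((LinearMap.ker d).subtype.rTensor k) ≤ LinearMap.ker (d.rTensor k) := by
    rintro _ ⟨y, rfl⟩
    rw [LinearMap.mem_ker, hfac, LinearMap.comp_apply, hexact.apply_apply_eq_zero, map_zero]
  refine ⟨⟨e₁.trans e₂⟩, hle, ?_⟩
  let g : ↥(LinearMap.ker (d.rTensor k)) →ₗ[A] ↥(LinearMap.ker (I.subtype.rTensor k)) :=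
    (d'.rTensor k ∘ₗ (LinearMap.ker (d.rTensor k)).subtype).codRestrict _ fun x => by
      rw [LinearMap.mem_ker]
      show (I.subtype.rTensor k ∘ₗ d'.rTensor k) x.1 = 0
      rw [← hfac]
      exact x.2
  have hg : Function.Surjective g := by
    rintro ⟨y, hy⟩
    obtain ⟨x, rfl⟩ := LinearMap.rTensor_surjective k hd' y
    exact ⟨⟨x, by rw [LinearMap.mem_ker, hfac]; exact hy⟩, rfl⟩
  have hkg : Submodule.comap (LinearMap.ker (d.rTensor k)).subtype
      (LinearMap.range ((LinearMap.ker d).subtype.rTensor k)) = LinearMap.ker g := by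
    rw [LinearMap.ker_codRestrict, LinearMap.ker_comp, LinearMap.exact_iff.1 hexact]
  obtain ⟨eq⟩ := quotEquiv (M := ↥(LinearMap.ker (d.rTensor k))) (N := ↥(LinearMap.ker (I.subtype.rTensor k))) g hg _ hkg
  exact ⟨eq.trans e₃⟩

/-- Let A be a Noetherian local ring with residue field k, and d : P₁ → P₀ an A-linear map between flat
A-modules, viewed as a two-term chain complex, so that H₁ = Ker d, H₀ = Coker d and H₁ of the
complex tensored with k is Ker(d ⊗ 1_k). Let α : (Ker d) ⊗_A k → P₁ ⊗_A k be the map induced by the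
inclusion Ker d → P₁; its image lies in Ker(d ⊗ 1_k). Then there is an exact sequence 0 →
Tor₂^A(Coker d, k) → (Ker d) ⊗_A k → Ker(d ⊗ 1_k) → Tor₁^A(Coker d, k) → 0 with middle map α, stated
here as: Ker α is isomorphic to Tor₂^A(Coker d, k), and the quotient of Ker(d ⊗ 1_k) by the image of
α is isomorphic to Tor₁^A(Coker d, k) (existence of A-linear isomorphisms only; Tor is Mathlib's,
left derived in the second variable). (In the published statement the cokernel is printed without
its prime, as the module of 0-cycles; the proof is about the cokernel of d.) -/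
theorem result {A : Type u} [CommRing A] [IsNoetherianRing A]
    [IsLocalRing A] {P₁ P₀ : Type u} [AddCommGroup P₁] [Module A P₁] [AddCommGroup P₀] [Module A P₀]
    [Module.Flat A P₁] [Module.Flat A P₀] (d : P₁ →ₗ[A] P₀) :
    Nonempty (LinearMap.ker ((LinearMap.ker d).subtype.rTensor (IsLocalRing.ResidueField A)) ≃ₗ[A]
        DRing.Tor A 2 (P₀ ⧸ LinearMap.range d) (IsLocalRing.ResidueField A)) ∧
      LinearMap.range ((LinearMap.ker d).subtype.rTensor (IsLocalRing.ResidueField A)) ≤
        LinearMap.ker (d.rTensor (IsLocalRing.ResidueField A)) ∧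
      Nonempty ((↥(LinearMap.ker (d.rTensor (IsLocalRing.ResidueField A))) ⧸
          Submodule.comap (LinearMap.ker (d.rTensor (IsLocalRing.ResidueField A))).subtype
            (LinearMap.range ((LinearMap.ker d).subtype.rTensor (IsLocalRing.ResidueField A)))) ≃ₗ[A]
        DRing.Tor A 1 (P₀ ⧸ LinearMap.range d) (IsLocalRing.ResidueField A)) := by
  exact general d (IsLocalRing.ResidueField A)

end Groth.Agent.S4499
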