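import Groth.Statements.S4500
import Groth.Agent.CohTwo.HomTensorCorep

set_option autoImplicit false
universe u
attribute [local instance] HasDerivedCategory.standard
open Coherent

namespace Groth.Agent.S4500

open AlgebraicGeometry CategoryTheory CategoryTheory.Limits Opposite in
/-- The global form over an affine base. Let A be a Noetherian ring, X a proper A-scheme with structure
morphism f, F a coherent O_X-module flat over Spec A, and G an O_X-module admitting a presentation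
E₁ → E₀ → G → 0 with E₀, E₁ finite locally free O_X-modules. Then there are a finitely generated
A-module N and an isomorphism of functors of the A-module M between Hom_{O_X}(G, f^*(M~) ⊗ F) and
Hom_A(N, M) (as abelian-group-valued functors). (N is then unique up to unique isomorphism.) -/
theorem result (A : Type u) [CommRing A] [IsNoetherianRing A]
    (X : Scheme.{u}) [X.Over (Spec (CommRingCat.of A))] [IsProper (X ↘ Spec (CommRingCat.of A))]
    (F : X.Modules) (hF : Coh.IsCoh F) (hfl : FlatMod.IsFlatOver (X ↘ Spec (CommRingCat.of A)) F)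
    (G E₀ E₁ : X.Modules) (h₀ : FlatMod.IsFinLocFree E₀) (h₁ : FlatMod.IsFinLocFree E₁)
    (v : E₁ ⟶ E₀) (π : E₀ ⟶ G) [Epi π] (w : v ≫ π = 0) (hex : (ShortComplex.mk v π w).Exact) :
    ∃ N : ModuleCat.{u} A, Module.Finite A N ∧
      Nonempty (CohIII.tensorAFunctor A F ⋙ preadditiveCoyoneda.obj (op G) ≅
        (linearCoyoneda A (ModuleCat.{u} A)).obj (op N) ⋙ forget₂ (ModuleCat.{u} A) AddCommGrpCat.{u}) := by
  obtain ⟨Q₀, hQ₀, ⟨e₀⟩⟩ := Groth.CohTwo.HomTensor.exists_corep_hom h₀ hF hfl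
  obtain ⟨Q₁, -, ⟨e₁⟩⟩ := Groth.CohTwo.HomTensor.exists_corep_hom h₁ hF hfl
  let T := CohIII.tensorAFunctor A F
  let φ := Functor.whiskerLeft T (preadditiveCoyoneda.map v.op)
  obtain ⟨R, q, hR, hq, hker⟩ :=
    Groth.CohTwo.HomTensor.exists_corep_kernel (e₀.inv ≫ φ ≫ e₁.hom)
  refine ⟨R, hR, ?_⟩
  let c : ∀ M : ModuleCat.{u} A, (Q₀ ⟶ M) → (E₀ ⟶ T.obj M) := fun M x => e₀.inv.app M x
  let d : ∀ M : ModuleCat.{u} A, (E₀ ⟶ T.obj M) → (Q₀ ⟶ M) := fun M x => e₀.hom.app M x
  have hcd : ∀ M x, c M (d M x) = x := fun M x => congr($((e₀.app M).hom_inv_id) x)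
  have hdc : ∀ M x, d M (c M x) = x := fun M x => congr($((e₀.app M).inv_hom_id) x)
  have hnat : ∀ {M M' : ModuleCat.{u} A} (g : M ⟶ M') (x : Q₀ ⟶ M), c M' (x ≫ g) = c M x ≫ T.map g :=
    fun g x => congr($(e₀.inv.naturality g) x)
  have hker' : ∀ M (x : Q₀ ⟶ M), (v ≫ c M x = 0) ↔ ∃ y : R ⟶ M, q ≫ y = x := fun M x => by
    refine Iff.trans ?_ (hker M x)
    change _ ↔ e₁.hom.app M (v ≫ c M x) = 0
    exact ⟨fun h => by rw [h]; exact map_zero _, fun h =>
      ((AddCommGrpCat.mono_iff_injective (e₁.hom.app M)).1 inferInstance) (h.trans (map_zero _).symm)⟩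
  have : Epi q := (ModuleCat.epi_iff_surjective q).2 hq
  have hdesc : ∀ M (y : R ⟶ M), ∃ ψ : G ⟶ T.obj M, π ≫ ψ = c M (q ≫ y) := fun M y =>
    ⟨hex.desc _ ((hker' M (q ≫ y)).2 ⟨y, rfl⟩), hex.g_desc _ _⟩
  choose desc hdesc using hdesc
  have hinv : ∀ M (ψ : G ⟶ T.obj M), ∃ y : R ⟶ M, q ≫ y = d M (π ≫ ψ) := fun M ψ =>
    (hker' M _).1 (by rw [hcd, ← Category.assoc, w, zero_comp])
  choose fwd hfwd using hinv
  refine ⟨Iso.symm (NatIso.ofComponents (fun M => AddEquiv.toAddCommGrpIso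
    { toFun := fun y => desc M y
      invFun := fun ψ => fwd M ψ
      left_inv := fun y => (cancel_epi q).1 ((hfwd M _).trans (by rw [hdesc, hdc]))
      right_inv := fun ψ => (cancel_epi π).1 ((hdesc M _).trans (by rw [hfwd, hcd]))
      map_add' := fun (y y' : R ⟶ M) => (cancel_epi π).1 (by
        change π ≫ desc M (y + y') = π ≫ (desc M y + desc M y' : G ⟶ T.obj M)
        refine (hdesc M (y + y')).trans ?_
        refine Eq.trans ?_ (Preadditive.comp_add _ _ _ π _ _).symm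
        rw [hdesc, hdesc, Preadditive.comp_add]
        exact map_add (e₀.inv.app M).hom (q ≫ y) (q ≫ y')) }) fun {M M'} g => ?_)⟩
  refine AddCommGrpCat.ext fun y => (cancel_epi π).1 ?_
  change π ≫ desc M' (y ≫ g) = π ≫ desc M y ≫ T.map g
  rw [hdesc, ← Category.assoc π, hdesc, ← Category.assoc q, hnat]

end Groth.Agent.S4500
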