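import Groth.Statements.S4501
import Groth.Agent.FlatCxBase.Locus


set_option autoImplicit false
universe u
open FlatCx

namespace Groth.Agent.S4501

open CategoryTheory CategoryTheory.Limits in
/-- The case of finitely generated flat terms. Let A be a Noetherian domain, P a chain complex of
finitely generated flat A-modules, and for a prime y of A let P_y be the base change of P to the
local ring A_y. Then the set U of points y of Spec A such that the functor N ↦ H_p(P_y ⊗_{A_y} N) on
A_y-modules takes injections to injections and surjections to surjections is open and nonempty (it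
contains the generic point). -/
theorem result {A : Type u} [CommRing A] [IsNoetherianRing A] [IsDomain A]
    (P : ChainComplex (ModuleCat.{u} A) ℤ) (hP : ∀ i, Module.Finite A (P.X i) ∧ Module.Flat A (P.X i))
    (p : ℤ) :
    IsOpen {y : PrimeSpectrum A |
        (CohIII.TFun (CohIII.bcCx (algebraMap A (Localization.AtPrime y.asIdeal)) P) p).PreservesMonomorphisms ∧
          (CohIII.TFun (CohIII.bcCx (algebraMap A (Localization.AtPrime y.asIdeal)) P) p).PreservesEpimorphisms} ∧
      {y : PrimeSpectrum A |
        (CohIII.TFun (CohIII.bcCx (algebraMap A (Localization.AtPrime y.asIdeal)) P) p).PreservesMonomorphisms ∧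
          (CohIII.TFun (CohIII.bcCx (algebraMap A (Localization.AtPrime y.asIdeal)) P) p).PreservesEpimorphisms}.Nonempty := by
  have := fun i => (hP i).1
  have := fun i => (hP i).2
  open Groth.FlatCxBase in
  simp only [fun y : PrimeSpectrum A => Chain.epi_iff
    (CohIII.bcCx (algebraMap A (Localization.AtPrime y.asIdeal)) P) p (show p - 1 + 1 = p by ring),
    fun y : PrimeSpectrum A => Chain.mono_iff
    (CohIII.bcCx (algebraMap A (Localization.AtPrime y.asIdeal)) P) p]
  refine ⟨(isOpen_flat_locus P (p + 1) p).inter (isOpen_flat_locus P (p - 1 + 1) (p - 1)),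
    ⟨⊥, Ideal.isPrime_bot⟩, ?_⟩
  let F := Localization.AtPrime (⊥ : Ideal A)
  have hpc : (⊥ : Ideal A).primeCompl = nonZeroDivisors A := by
    ext a
    simp [Ideal.primeCompl, mem_nonZeroDivisors_iff_ne_zero]
  have : IsFractionRing A F := by
    change IsLocalization (nonZeroDivisors A) F
    rw [← hpc]
    infer_instance
  let := IsFractionRing.toField A (K := F)
  exact ⟨Module.Flat.of_free, Module.Flat.of_free⟩

end Groth.Agent.S4501
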