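import Groth.Statements.S4505
import Groth.Agent.CohTwo.TensorLinear
import Groth.Agent.CohTwo.LengthFlat

set_option autoImplicit false
universe u
attribute [local instance] HasDerivedCategory.standard
open Coherent

namespace Groth.Agent.S4505

open AlgebraicGeometry CategoryTheory in
/-- (b) ⇔ (c), for a complex reduced to one sheaf and a local base (so that the point y is the closed
point and O_y = A). Let A be a Noetherian local ring with maximal ideal m and residue field k, X a
proper A-scheme with structure morphism f, F a coherent O_X-module flat over Spec A, and write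
T^p(M) = H^p(X, f^*(M~) ⊗ F) for an A-module M. Then the functor T^p takes injections to injections
and surjections to surjections (F is cohomologically flat in degree p) if and only if there is n₀
such that for every n ≥ n₀ one has length_A T^p(A/m^(n+1)) = length_A T^p(k) · length_A (A/m^(n+1))
(lengths of A-modules, valued in ℕ∞; all are finite here). -/
theorem result (A : Type u) [CommRing A]
    [IsNoetherianRing A] [IsLocalRing A] (X : Scheme.{u}) [X.Over (Spec (CommRingCat.of A))]
    [IsProper (X ↘ Spec (CommRingCat.of A))] (F : X.Modules) (hF : Coh.IsCoh F)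
    (hfl : FlatMod.IsFlatOver (X ↘ Spec (CommRingCat.of A)) F) (p : ℕ) :
    ((CohIII.tensorAFunctor A F ⋙ CohIII.HAb X p).PreservesMonomorphisms ∧
        (CohIII.tensorAFunctor A F ⋙ CohIII.HAb X p).PreservesEpimorphisms) ↔
      ∃ n₀ : ℕ, ∀ n : ℕ, n₀ ≤ n →
        Module.length A (Coh.HH X ((CohIII.tensorAFunctor A F).obj
            (ModuleCat.of A (A ⧸ IsLocalRing.maximalIdeal A ^ (n + 1)))) p) =
          Module.length A (Coh.HH X ((CohIII.tensorAFunctor A F).obj
              (ModuleCat.of A (IsLocalRing.ResidueField A))) p) *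
            Module.length A (A ⧸ IsLocalRing.maximalIdeal A ^ (n + 1)) := by
  obtain ⟨L, hfin, hfree, hL⟩ := Groth.CohTwo.exists_linModel F hF hfl
  obtain ⟨⟨e⟩, hM⟩ := hL p
  have : ∀ i, Module.Flat A (L.X i) := fun i => have := hfree i; inferInstance
  have hlen : ∀ M, Module.length A ((CohIII.TFun L (p : ℤ)).obj M) =
      Module.length A (Coh.HH X ((CohIII.tensorAFunctor A F).obj M) p) := fun M =>
    (hM M).some.length_eq
  have hm : (CohIII.tensorAFunctor A F ⋙ CohIII.HAb X p).PreservesMonomorphisms ↔
      (CohIII.TFun L (p : ℤ)).PreservesMonomorphisms := by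
    rw [← Functor.PreservesMonomorphisms.iso_iff e]
    exact ⟨fun _ => Functor.preservesMonomorphisms_of_preserves_of_reflects _
        (forget₂ (ModuleCat.{u} A) AddCommGrpCat.{u}), fun _ => inferInstance⟩
  have he : (CohIII.tensorAFunctor A F ⋙ CohIII.HAb X p).PreservesEpimorphisms ↔
      (CohIII.TFun L (p : ℤ)).PreservesEpimorphisms := by
    rw [← Functor.PreservesEpimorphisms.iso_iff e]
    exact ⟨fun _ => Functor.preservesEpimorphisms_of_preserves_of_reflects _
        (forget₂ (ModuleCat.{u} A) AddCommGrpCat.{u}), fun _ => inferInstance⟩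
  rw [hm, he]
  simp only [← hlen]
  constructor
  · rintro ⟨_, _⟩
    refine ⟨0, fun n _ => ?_⟩
    exact Groth.FlatCxBase.length_map_eq (CohIII.TFun L (p : ℤ))
      (Groth.FlatCxBase.isHalfExact_TFun L (p : ℤ) (Groth.FlatCxBase.cochain_prev _)
        (Groth.FlatCxBase.cochain_next _)) _
      (fun M hM => Groth.FlatCxBase.length_map_simple _ M hM)
      (GrothMatlis.isFiniteLength_quotient_pow (n + 1))
  · rintro ⟨n₀, h⟩
    exact Groth.CohTwo.exact_of_eventually_length (p : ℤ) n₀ h

end Groth.Agent.S4505
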