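import Groth.Statements.S4506
import Groth.Agent.CohBase.ExchangeStmt
import Groth.Agent.CohFin.ProjFinite
import Groth.Agent.FlatCxBase.ArtinRees

set_option autoImplicit false
universe u
attribute [local instance] HasDerivedCategory.standard
open Coherent

namespace Groth.Agent.S4506

open AlgebraicGeometry CategoryTheory in
/-- (a) ⇔ (c) (local criterion for the exchange property), for a complex reduced to one sheaf over a
local base. Let A be a Noetherian local ring with maximal ideal m and residue field k, X a proper
A-scheme with structure morphism f, F a coherent O_X-module flat over Spec A, and T^p(M) = H^p(X,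
f^*(M~) ⊗ F). Then T^p takes surjections to surjections if and only if, for every n, the map
T^p(A/m^(n+1)) → T^p(A/m) induced by the projection A/m^(n+1) → A/m = k is surjective. -/
theorem result (A : Type u) [CommRing A]
    [IsNoetherianRing A] [IsLocalRing A] (X : Scheme.{u}) [X.Over (Spec (CommRingCat.of A))]
    [IsProper (X ↘ Spec (CommRingCat.of A))] (F : X.Modules) (hF : Coh.IsCoh F)
    (hfl : FlatMod.IsFlatOver (X ↘ Spec (CommRingCat.of A)) F) (p : ℕ) :
    (CohIII.tensorAFunctor A F ⋙ CohIII.HAb X p).PreservesEpimorphisms ↔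
      ∀ n : ℕ, Function.Surjective ((CohIII.tensorAFunctor A F ⋙ CohIII.HAb X p).map (ModuleCat.ofHom
        (Ideal.Quotient.factorₐ A (Ideal.pow_le_self (I := IsLocalRing.maximalIdeal A)
          (Nat.succ_ne_zero n))).toLinearMap :
        ModuleCat.of A (A ⧸ IsLocalRing.maximalIdeal A ^ (n + 1)) ⟶
          ModuleCat.of A (A ⧸ IsLocalRing.maximalIdeal A))).hom := by
  obtain ⟨L, hL, -, -, hT, -⟩ :=
    Groth.CohBase.exists_isExchangeModel A X F hF hfl Groth.CohFin.projFinite
  have : ∀ i, Module.Finite A (L.X i) := fun i => (hL i).1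
  have : ∀ i, Module.Flat A (L.X i) := fun i => have := (hL i).2; inferInstance
  obtain ⟨e⟩ := hT p
  set T := CohIII.tensorAFunctor A F ⋙ CohIII.HAb X p
  have key : ∀ {M N : ModuleCat.{u} A} (g : M ⟶ N),
      Function.Surjective ((CohIII.TFun L (p : ℤ)).map g) ↔ Function.Surjective (T.map g).hom := by
    intro M N g
    refine (ModuleCat.epi_iff_surjective _).symm.trans (Iff.trans ?_ (AddCommGrpCat.epi_iff_surjective _))
    refine ((forget₂ (ModuleCat.{u} A) AddCommGrpCat.{u}).epi_map_iff_epi _).symm.trans ?_
    exact (MorphismProperty.epimorphisms AddCommGrpCat.{u}).arrow_mk_iso_iff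
      (Arrow.isoMk (e.app _) (e.app _) (e.hom.naturality _).symm)
  constructor
  · intro h n
    have : Epi (ModuleCat.ofHom (Ideal.Quotient.factorₐ A (Ideal.pow_le_self
        (I := IsLocalRing.maximalIdeal A) (Nat.succ_ne_zero n))).toLinearMap :
        ModuleCat.of A (A ⧸ IsLocalRing.maximalIdeal A ^ (n + 1)) ⟶
          ModuleCat.of A (A ⧸ IsLocalRing.maximalIdeal A)) :=
      (ModuleCat.epi_iff_surjective _).2 (Ideal.Quotient.factor_surjective (Ideal.pow_le_self (Nat.succ_ne_zero n)))
    exact (AddCommGrpCat.epi_iff_surjective _).1 (T.map_epi _)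
  · intro h
    refine (Groth.CohBase.preservesEpi_iff_surjective A X F hF hfl Groth.CohFin.projFinite p).2
      ((key _).1 ?_)
    exact Groth.FlatCxBase.surjective_of_artinRees L
      (Groth.FlatCxBase.cochain_prev (p : ℤ)) (Groth.FlatCxBase.cochain_next (p : ℤ))
      (IsLocalRing.maximalIdeal A) ⟨0, fun n _ => (key _).2 (h n)⟩

end Groth.Agent.S4506
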