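import Groth.Statements.S4510
import Groth.Agent.CohTwo.GlobalRootLift
import Groth.Agent.CohTwo.ExchangeTransfer
import Groth.Agent.FlatCxBase.ArtinRees
import Groth.Agent.FlatCxBase.MaxLocal
import Groth.Agent.Misc13.FlatBC

set_option autoImplicit false
universe u
attribute [local instance] HasDerivedCategory.standard
open Coherent

namespace Groth.Agent.S4510

open AlgebraicGeometry CategoryTheory in
lemma resHom_surjective {A : Type u} [CommRing A] (y : ↥(Spec (CommRingCat.of A)))
    (hy : y.asIdeal.IsMaximal) : Function.Surjective (Groth.CohTwo.resHom A y).hom := by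
  have h : Groth.CohTwo.resHom A y =
      CommRingCat.ofHom (algebraMap (CommRingCat.of A) y.asIdeal.ResidueField) ≫
        (Scheme.Spec.residueFieldIso (CommRingCat.of A) y).inv := by
    apply Spec.map_injective
    rw [Groth.CohTwo.map_resHom, Spec.map_comp]
    exact (Scheme.Spec.map_residueFieldIso_inv_eq_fromSpecResidueField _ _).symm
  rw [h]
  exact ((Scheme.Spec.residueFieldIso (CommRingCat.of A) y).commRingCatIsoToRingEquiv.symm.surjective).comp
    (Ideal.algebraMap_residueField_surjective y.asIdeal)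

open CategoryTheory in
lemma epi_map_iff {C : Type*} [Category C] {G₁ G₂ : C ⥤ AddCommGrpCat.{u}} (e : G₁ ≅ G₂) {M N : C}
    (g : M ⟶ N) : Function.Surjective (G₁.map g) ↔ Function.Surjective (G₂.map g) := by
  rw [← AddCommGrpCat.epi_iff_surjective, ← AddCommGrpCat.epi_iff_surjective]
  constructor <;> intro h
  · rw [show G₂.map g = e.inv.app M ≫ G₁.map g ≫ e.hom.app N by simp]; infer_instance
  · rw [show G₁.map g = e.hom.app M ≫ G₂.map g ≫ e.inv.app N by simp]; infer_instance

open AlgebraicGeometry CategoryTheory CategoryTheory.Limits in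
/-- Over a local base (so that the point y is the closed point and cohomological flatness at y is
exactness of T^A_0). Let A be a Noetherian local ring with maximal ideal m, X a proper and flat
A-scheme with structure morphism f, y the closed point of Spec A (the point whose prime ideal is m),
and suppose that the ring of global functions Γ(X_y, O_{X_y}) of the closed fibre is an étale
k(y)-algebra (a finite product of finite separable extensions of k(y)). Then O_X is cohomologically
flat over Spec A in degree 0: the functor M ↦ H^0(X, f^*(M~) ⊗ O_X) of the A-module M takes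
injections to injections and surjections to surjections. -/
theorem result (A : Type u) [CommRing A]
    [IsNoetherianRing A] [IsLocalRing A] (X : Scheme.{u}) [X.Over (Spec (CommRingCat.of A))]
    [IsProper (X ↘ Spec (CommRingCat.of A))] [Flat (X ↘ Spec (CommRingCat.of A))]
    (y : ↥(Spec (CommRingCat.of A))) (hy : y.asIdeal = IsLocalRing.maximalIdeal A)
    (het : Algebra.Etale ((Spec (CommRingCat.of A)).residueField y)
      Γ((X ↘ Spec (CommRingCat.of A)).fiber y, ⊤)) :
    (CohIII.tensorAFunctor A (Coh.structureModule X) ⋙ CohIII.HAb X 0).PreservesMonomorphisms ∧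
      (CohIII.tensorAFunctor A (Coh.structureModule X) ⋙ CohIII.HAb X 0).PreservesEpimorphisms := by
  let f := X ↘ Spec (CommRingCat.of A)
  let O := Coh.structureModule X
  have : IsLocallyNoetherian X := LocallyOfFiniteType.isLocallyNoetherian f
  have hO : Coh.IsCoh O := Groth.QCohMod.isCoh_unit
  have := hO.1
  have hfl : FlatMod.IsFlatOver f O := fun x =>
    (Groth.Misc13.FlatBC.flat_stalkMap_iff_structure f x).2 (Flat.stalkMap f x)
  obtain ⟨L, hL⟩ := Groth.CohTwo.exists_isFibreModel O hO hfl
  have := hL.flat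
  have := hL.finite
  refine ⟨(hL.mono_iff_flat 0).2 hL.flat_Qc_zero, (hL.epi_iff_TFun 0).2 ?_⟩
  let m := IsLocalRing.maximalIdeal A
  refine (Groth.FlatCxBase.preservesEpi_iff_surjective_residueField L
    (Groth.FlatCxBase.cochain_prev _) (Groth.FlatCxBase.cochain_next _)).2
    (Groth.FlatCxBase.surjective_of_artinRees L (Groth.FlatCxBase.cochain_prev _)
      (Groth.FlatCxBase.cochain_next _) m ⟨0, fun n _ => ?_⟩)
  let k := (Spec (CommRingCat.of A)).residueField y
  letI : Algebra A k := (Groth.CohTwo.resHom A y).hom.toAlgebra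
  letI : (f.fiber y).Over (Spec (CommRingCat.of k)) := ⟨f.fiberToSpecResidueField y⟩
  have hsq : Groth.CohBase.IsBC (A := A) (A' := k) (f.fiberι y) := by
    change IsPullback (f.fiberι y) (f.fiberToSpecResidueField y) f (Spec.map (Groth.CohTwo.resHom A y))
    rw [Groth.CohTwo.map_resHom]
    exact IsPullback.of_hasPullback f _
  have hker : RingHom.ker (algebraMap A k) = m := (Groth.CohTwo.ker_resHom y).trans hy
  have hsurj : Function.Surjective (algebraMap A k) :=
    resHom_surjective y (hy ▸ IsLocalRing.maximalIdeal.isMaximal A)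
  let ψ : (A ⧸ m) →ₐ[A] k := Ideal.Quotient.liftₐ m (Algebra.ofId A k) fun a ha =>
    RingHom.mem_ker.1 (hker.symm ▸ ha : a ∈ RingHom.ker (algebraMap A k))
  have hψ : Function.Bijective ψ := ⟨by
      rw [injective_iff_map_eq_zero]
      intro a ha
      obtain ⟨a, rfl⟩ := Ideal.Quotient.mk_surjective a
      exact Ideal.Quotient.eq_zero_iff_mem.2 (hker ▸ (RingHom.mem_ker.2 ha : a ∈ RingHom.ker (algebraMap A k))),
    fun b => by obtain ⟨a, rfl⟩ := hsurj b; exact ⟨Ideal.Quotient.mk m a, rfl⟩⟩
  let π₀ := Ideal.Quotient.factorₐ A (Ideal.pow_le_self (I := m) (Nat.succ_ne_zero n))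
  have hπ₀ : Function.Surjective π₀ :=
    Ideal.Quotient.factor_surjective (Ideal.pow_le_self (I := m) (Nat.succ_ne_zero n))
  have := Groth.CohFin.compactSpace_of_proper f
  have := Groth.CohFin.isSeparated_of_proper f
  obtain ⟨G⟩ := Groth.CohBase.exists_goodCover X
  have hC := Groth.CohTwo.surjective_TFun_map_of_roots (ψ.comp π₀) (hψ.2.comp hπ₀)
    (fun a ha => by
      have ha0 : π₀ a = 0 := hψ.1 (ha.trans (map_zero ψ).symm)
      obtain ⟨a, rfl⟩ := Ideal.Quotient.mk_surjective a
      refine ⟨n + 1, ?_⟩
      rw [← map_pow]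
      exact Ideal.Quotient.eq_zero_iff_mem.2
        (Ideal.pow_mem_pow (Ideal.Quotient.eq_zero_iff_mem.1 ha0) _))
    hsq G (fun s => ?_)
  · obtain ⟨eL⟩ := hL.tensor 0
    let φ := eL ≪≫ (Groth.CohBase.tensorIso A G O 0).symm
    refine (epi_map_iff φ _).2 ?_
    let gψ : ModuleCat.of A (A ⧸ m) ≅ ModuleCat.of A k :=
      (AlgEquiv.ofBijective ψ hψ).toLinearEquiv.toModuleIso
    let T := CohIII.TFun (Groth.CohBase.cxA A G.U O) ((0 : ℕ) : ℤ)
    change Function.Surjective (T.map (ModuleCat.ofHom π₀.toLinearMap))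
    have e : (ModuleCat.ofHom π₀.toLinearMap : ModuleCat.of A (A ⧸ m ^ (n + 1)) ⟶ _) =
        ModuleCat.ofHom (ψ.comp π₀).toLinearMap ≫ gψ.inv := by
      rw [Iso.eq_comp_inv]
      rfl
    rw [e, T.map_comp]
    exact ((ModuleCat.epi_iff_surjective (T.map gψ.inv)).1 inferInstance).comp hC
  · letI : Algebra k Γ(f.fiber y, ⊤) := CohIII.algebraFiberGlobal f y
    have hto : Groth.CohBase.toSec k (⊤ : (f.fiber y).Opens) = algebraMap k Γ(f.fiber y, ⊤) :=
      RingHom.ext fun b => Groth.QCohMod.resFun_self _
    obtain ⟨q, hq0, hq1⟩ := Groth.CohTwo.RootLift.exists_simple_root (k := k) s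
    obtain ⟨F, rfl⟩ := Polynomial.map_surjective (algebraMap A k) hsurj q
    rw [Polynomial.derivative_map] at hq1
    rw [Polynomial.aeval_def, Polynomial.eval₂_map] at hq0 hq1
    exact ⟨F, by rw [hto]; exact hq0, by rw [hto]; exact hq1⟩

end Groth.Agent.S4510
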