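import Groth.Statements.S4513
import Groth.Agent.Ega41Sep.Separable
import Mathlib.Algebra.TrivSqZeroExt.Basic
open Groth.Ega41Sep

set_option autoImplicit false
universe u
open EGA41

namespace Groth.Agent.S4513

open IsLocalRing in
/-- Let A be a Noetherian local ring and k a field mapping to A such that A is formally smooth over k
for the adic topology of its maximal ideal (k discrete). Then every field K with k → K → A
(compatible ring maps) is a separable extension of k, i.e. K is geometrically reduced over k. -/
theorem result {k A K : Type u} [Field k] [CommRing A]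
    [IsLocalRing A] [IsNoetherianRing A] [Algebra k A] (h : CAlgX.IsAdicFormallySmooth k A (maximalIdeal A))
    [Field K] [Algebra k K] [Algebra K A] [IsScalarTower k K A] :
    Algebra.IsGeometricallyReduced k K := by
  rw [isGeometricallyReduced_iff_injective, injective_iff_derivation_extends]
  intro D₀
  let ι : K →+* ResidueField A := (residue A).comp (algebraMap K A)
  let φ : k →+* TrivSqZeroExt (ResidueField A) (ResidueField A) :=
    { toFun := fun a => TrivSqZeroExt.inl (ι (algebraMap k K a)) + TrivSqZeroExt.inr (ι (D₀ a))
      map_one' := by ext <;> simp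
      map_mul' := fun a b => by
        ext
        · simp
        · simp [Algebra.smul_def, mul_comm]
      map_zero' := by ext <;> simp
      map_add' := fun a b => by ext <;> simp }
  letI algk : Algebra k (TrivSqZeroExt (ResidueField A) (ResidueField A)) := φ.toAlgebra
  let J : Ideal (TrivSqZeroExt (ResidueField A) (ResidueField A)) :=
    RingHom.ker (TrivSqZeroExt.fstHom (ResidueField A) (ResidueField A) (ResidueField A)).toRingHom
  have hJ : J ^ 2 = ⊥ := by
    rw [sq, eq_bot_iff, Ideal.mul_le]
    intro a ha b hb
    have ha' : a.fst = 0 := ha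
    have hb' : b.fst = 0 := hb
    rw [Ideal.mem_bot]
    ext <;> simp [ha', hb']
  let ψ₀ : A →+* TrivSqZeroExt (ResidueField A) (ResidueField A) :=
    (TrivSqZeroExt.inlHom (ResidueField A) (ResidueField A)).comp (residue A)
  let ψ : A →ₐ[k] TrivSqZeroExt (ResidueField A) (ResidueField A) ⧸ J :=
    { (Ideal.Quotient.mk J).comp ψ₀ with
      commutes' := fun a => by
        show Ideal.Quotient.mk J (ψ₀ (algebraMap k A a)) = Ideal.Quotient.mk J (φ a)
        rw [Ideal.Quotient.eq]
        show (ψ₀ (algebraMap k A a) - φ a).fst = 0
        simp [ψ₀, φ, ι, ← IsScalarTower.algebraMap_apply] }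
  obtain ⟨χ, hχ⟩ := h _ J hJ ψ ⟨1, fun x hx => by
    rw [pow_one] at hx
    show Ideal.Quotient.mk J (ψ₀ x) = 0
    rw [show ψ₀ x = 0 by simp [ψ₀, (residue_eq_zero_iff x).mpr hx], map_zero]⟩
  have hfst : ∀ a, (χ a).fst = residue A a := fun a => by
    have h3 : (χ a - ψ₀ a).fst = 0 := (Ideal.Quotient.eq).mp (AlgHom.congr_fun hχ a)
    simpa [sub_eq_zero, ψ₀] using h3
  obtain ⟨π, hπ⟩ := LinearMap.exists_leftInverse_of_injective (Algebra.linearMap K (ResidueField A))
    (LinearMap.ker_eq_bot.mpr ι.injective)
  let L : K →+ K :=
    { toFun := fun x => π (χ (algebraMap K A x)).snd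
      map_zero' := by simp
      map_add' := fun x y => by simp }
  have hleib : ∀ a b, L (a * b) = a • L b + b • L a := fun a b => by
    show π (χ (algebraMap K A (a * b))).snd = _
    rw [map_mul, map_mul, TrivSqZeroExt.snd_mul, hfst, hfst, op_smul_eq_smul, map_add]
    congr 1
    · show π (algebraMap K (ResidueField A) a • _) = _
      rw [algebraMap_smul, map_smul]; rfl
    · show π (algebraMap K (ResidueField A) b • _) = _
      rw [algebraMap_smul, map_smul]; rfl
  refine ⟨Derivation.mk' L.toIntLinearMap hleib, fun a => ?_⟩
  show π (χ (algebraMap K A (algebraMap k K a))).snd = D₀ a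
  rw [← IsScalarTower.algebraMap_apply, AlgHom.commutes]
  show π (φ a).snd = D₀ a
  have h2 : (φ a).snd = algebraMap K (ResidueField A) (D₀ a) := by
    simp [φ, ι]; rfl
  rw [h2]
  simpa using LinearMap.congr_fun hπ (D₀ a)

end Groth.Agent.S4513
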