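import Groth.Statements.S4514
import Groth.Agent.Ega41Flat.FlatLift
open Groth.Ega41Flat

set_option autoImplicit false
universe u
open EGA41

namespace Groth.Agent.S4514

open IsLocalRing TensorProduct in
/-- Let A be a Noetherian local ring with residue field k, and let B₀ be a k-algebra which is a complete
regular local ring. Then there exist a complete Noetherian local ring B and a local homomorphism A →
B making B a flat A-module, such that B₀ is k-isomorphic to k ⊗_A B = B/𝔪B. -/
theorem result {A : Type u} [CommRing A] [IsLocalRing A] [IsNoetherianRing A]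
    (B₀ : Type u) [CommRing B₀] [IsRegularLocalRing B₀] [IsAdicComplete (maximalIdeal B₀) B₀]
    [Algebra (ResidueField A) B₀] :
    ∃ (B : Type u) (_ : CommRing B) (_ : IsLocalRing B) (_ : IsNoetherianRing B) (_ : Algebra A B)
      (_ : IsLocalHom (algebraMap A B)),
      IsAdicComplete (maximalIdeal B) B ∧ Module.Flat A B ∧
        Nonempty (ResidueField A ⊗[A] B ≃ₐ[ResidueField A] B₀) := by
  obtain ⟨B, _, _, _, _, _, π, hc, hf, hs, hk, hπ⟩ := exists_flat_lift (A := A) B₀
  refine ⟨B, inferInstance, inferInstance, inferInstance, inferInstance, inferInstance, hc, hf, ?_⟩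
  let e₁ : (B ⧸ (maximalIdeal A).map (algebraMap A B)) ≃ₐ[A ⧸ maximalIdeal A] (A ⧸ maximalIdeal A) ⊗[A] B :=
    Algebra.TensorProduct.quotIdealMapEquivQuotTensor B (maximalIdeal A)
  let e₂ : (B ⧸ (maximalIdeal A).map (algebraMap A B)) ≃+* B₀ :=
    (Ideal.quotEquivOfEq hk.symm).trans (RingHom.quotientKerEquivOfSurjective hs)
  refine ⟨AlgEquiv.ofRingEquiv (f := e₁.symm.toRingEquiv.trans e₂) fun x => ?_⟩
  obtain ⟨a, rfl⟩ := residue_surjective x
  show e₂ (e₁.symm (algebraMap (ResidueField A) (ResidueField A ⊗[A] B) (residue A a))) = algebraMap (ResidueField A) B₀ (residue A a)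
  rw [show e₁.symm (algebraMap (ResidueField A) (ResidueField A ⊗[A] B) (residue A a)) =
    algebraMap (A ⧸ maximalIdeal A) (B ⧸ (maximalIdeal A).map (algebraMap A B)) (Ideal.Quotient.mk _ a) from
      e₁.symm.commutes (Ideal.Quotient.mk _ a)]
  exact hπ a

end Groth.Agent.S4514
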