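import Groth.Statements.S4515
import Mathlib.RingTheory.Flat.Basic
import Mathlib.RingTheory.AdicCompletion.Basic
open TensorProduct

set_option autoImplicit false
universe u
open EGA41

namespace Groth.Agent.S4515

/-- Let A be a ring, J an ideal of A, and M, N two A-modules which are Hausdorff for the J-adic
topology; suppose moreover that N is J-adically complete and M is flat. Let u : N → M be A-linear.
If the induced map N/JN → M/JM is bijective (surjectivity and injectivity written out below), then u
is bijective. -/
theorem result {A : Type u} [CommRing A] (J : Ideal A)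
    {M N : Type u} [AddCommGroup M] [Module A M] [AddCommGroup N] [Module A N]
    [IsHausdorff J M] [IsAdicComplete J N] [Module.Flat A M] (u : N →ₗ[A] M)
    (hsurj : ∀ m : M, ∃ n : N, m - u n ∈ (J • ⊤ : Submodule A M))
    (hinj : ∀ n : N, u n ∈ (J • ⊤ : Submodule A M) → n ∈ (J • ⊤ : Submodule A N)) :
    Function.Bijective u := by
  constructor
  · rw [injective_iff_map_eq_zero]
    intro n hn
    have hg : Function.Bijective ((J • ⊤ : Submodule A N).liftQ ((J • ⊤ : Submodule A M).mkQ ∘ₗ u) (by
        refine Submodule.smul_le.mpr fun a ha x _ => ?_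
        rw [LinearMap.mem_ker, map_smul, LinearMap.comp_apply, Submodule.mkQ_apply,
          ← Submodule.Quotient.mk_smul, Submodule.Quotient.mk_eq_zero]
        exact Submodule.smul_mem_smul ha trivial)) := by
      constructor
      · rw [injective_iff_map_eq_zero]
        intro x hx
        obtain ⟨x, rfl⟩ := Submodule.Quotient.mk_surjective _ x
        rw [Submodule.Quotient.mk_eq_zero]
        exact hinj x ((Submodule.Quotient.mk_eq_zero _).mp hx)
      · intro y
        obtain ⟨m, rfl⟩ := Submodule.Quotient.mk_surjective _ y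
        obtain ⟨x, hx⟩ := hsurj m
        exact ⟨Submodule.Quotient.mk x, ((Submodule.Quotient.eq _).mpr hx).symm⟩
    let g : M →ₗ[A] N ⧸ (J • ⊤ : Submodule A N) := (LinearEquiv.ofBijective _ hg).symm.toLinearMap ∘ₗ (J • ⊤ : Submodule A M).mkQ
    have hgu : ∀ x, g (u x) = Submodule.Quotient.mk x := fun x =>
      (LinearEquiv.ofBijective _ hg).injective (by
        simp only [g, LinearMap.comp_apply, LinearEquiv.coe_coe, LinearEquiv.apply_symm_apply]
        rfl)
    refine IsHausdorff.haus (I := J) inferInstance n fun k => ?_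
    rw [SModEq.zero]
    induction k with
    | zero => simp
    | succ k ih =>
        let Q := (J ^ (k + 1) • ⊤ : Submodule A N)
        have hle : ∀ a : (J ^ k : Ideal A), (J • ⊤ : Submodule A N) ≤ LinearMap.ker ((a : A) • Q.mkQ) := fun a => by
          refine Submodule.smul_le.mpr fun c hc x _ => ?_
          rw [LinearMap.mem_ker, LinearMap.smul_apply, Submodule.mkQ_apply, ← Submodule.Quotient.mk_smul,
            Submodule.Quotient.mk_eq_zero, ← mul_smul]
          show _ ∈ (J ^ (k + 1) • ⊤ : Submodule A N)
          rw [pow_succ]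
          exact Submodule.smul_mem_smul (Ideal.mul_mem_mul a.2 hc) trivial
        let ψ : (J ^ k : Ideal A) →ₗ[A] (N ⧸ (J • ⊤ : Submodule A N)) →ₗ[A] N ⧸ Q :=
          { toFun := fun a => (J • ⊤ : Submodule A N).liftQ ((a : A) • Q.mkQ) (hle a)
            map_add' := fun a b => Submodule.linearMap_qext _ (LinearMap.ext fun x => by simp [add_smul])
            map_smul' := fun c a => Submodule.linearMap_qext _ (LinearMap.ext fun x => by simp [mul_smul]) }
        let Ψ : (J ^ k : Ideal A) ⊗[A] M →ₗ[A] N ⧸ Q := TensorProduct.lift (ψ.compl₂ g)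
        let μN : (J ^ k : Ideal A) ⊗[A] N →ₗ[A] N :=
          TensorProduct.lid A N ∘ₗ (Submodule.subtype (J ^ k : Ideal A)).rTensor N
        let μM : (J ^ k : Ideal A) ⊗[A] M →ₗ[A] M :=
          TensorProduct.lid A M ∘ₗ (Submodule.subtype (J ^ k : Ideal A)).rTensor M
        obtain ⟨t, ht⟩ : n ∈ LinearMap.range μN := by
          refine Submodule.smul_le.mpr (fun a ha x _ => ?_) ih
          exact ⟨(⟨a, ha⟩ : (J ^ k : Ideal A)) ⊗ₜ x, by simp [μN]⟩
        have hμ : μM (u.lTensor _ t) = u (μN t) := by
          clear ht
          induction t with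
          | zero => simp
          | tmul a x => simp [μM, μN]
          | add a b ha hb => simp only [map_add, ha, hb]
        have hμinj : Function.Injective μM := (TensorProduct.lid A M).injective.comp
          (Module.Flat.rTensor_preserves_injective_linearMap (M := M) _ Subtype.val_injective)
        have h0 : u.lTensor _ t = 0 := hμinj (by rw [hμ, ht, hn, map_zero])
        have hΨ : Ψ (u.lTensor _ t) = Q.mkQ (μN t) := by
          clear ht h0 hμ
          induction t with
          | zero => simp
          | tmul a x => simp [Ψ, ψ, μN, hgu]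
          | add a b ha hb => simp only [map_add, ha, hb]
        rw [h0, map_zero, ht] at hΨ
        exact (Submodule.Quotient.mk_eq_zero Q).mp hΨ.symm
  · intro m
    have step : ∀ k : ℕ, ∀ y ∈ (J ^ k • ⊤ : Submodule A M), ∃ x ∈ (J ^ k • ⊤ : Submodule A N),
        y - u x ∈ (J ^ (k + 1) • ⊤ : Submodule A M) := by
      intro k y hy
      refine Submodule.smul_induction_on hy (fun a ha z _ => ?_) (fun a b ⟨xa, hxa, ha⟩ ⟨xb, hxb, hb⟩ => ?_)
      · obtain ⟨x, hx⟩ := hsurj z
        refine ⟨a • x, Submodule.smul_mem_smul ha trivial, ?_⟩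
        rw [map_smul, ← smul_sub, pow_succ, Submodule.mul_smul]
        exact Submodule.smul_mem_smul ha hx
      · refine ⟨xa + xb, add_mem hxa hxb, ?_⟩
        rw [show a + b - u (xa + xb) = (a - u xa) + (b - u xb) from by rw [map_add]; abel]
        exact add_mem ha hb
    choose x hx₁ hx₂ using step
    let seq : (k : ℕ) → {s : N // m - u s ∈ (J ^ k • ⊤ : Submodule A M)} := fun k => Nat.rec
      ⟨0, by simp⟩ (fun k s => ⟨s.1 + x k _ s.2, by
        rw [map_add, show m - (u s.1 + u (x k _ s.2)) = m - u s.1 - u (x k _ s.2) from by abel]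
        exact hx₂ k _ s.2⟩) k
    have hseq : ∀ k, (seq (k + 1)).1 - (seq k).1 ∈ (J ^ k • ⊤ : Submodule A N) := fun k => by
      show (seq k).1 + x k _ (seq k).2 - (seq k).1 ∈ _
      rw [add_sub_cancel_left]; exact hx₁ _ _ _
    obtain ⟨L, hL⟩ := IsPrecomplete.prec (I := J) inferInstance (f := fun k => (seq k).1) (by
      intro a b hab
      induction b, hab using Nat.le_induction with
      | base => exact SModEq.refl _
      | succ b hb ih =>
          refine ih.trans (SModEq.symm ?_)
          rw [SModEq.sub_mem]
          exact Submodule.smul_mono_left (Ideal.pow_le_pow_right hb) (hseq b))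
    refine ⟨L, (sub_eq_zero.mp (IsHausdorff.haus (I := J) inferInstance _ fun k => ?_)).symm⟩
    rw [SModEq.zero, show m - u L = (m - u (seq k).1) + u ((seq k).1 - L) from by rw [map_sub]; abel]
    refine add_mem (seq k).2 ?_
    have : u ((seq k).1 - L) ∈ Submodule.map u (J ^ k • ⊤ : Submodule A N) :=
      Submodule.mem_map_of_mem (SModEq.sub_mem.mp (hL k))
    rw [Submodule.map_smul''] at this
    exact Submodule.smul_mono le_rfl le_top this

end Groth.Agent.S4515
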