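import Groth.Statements.S4520
import Groth.Agent.Ega41Sep.FieldPBasis
import Groth.Agent.Ega41Sep.PBasisTower
import Groth.Agent.Ega41Sep.BaseChangeInj
import Mathlib.RingTheory.Kaehler.Basic


set_option autoImplicit false
universe u
open EGA41

namespace Groth.Agent.S4520

open TensorProduct in
/-- Let p be a prime, B a reduced ring of characteristic p, A a subring with B^p ⊆ A ⊆ B (here A → B
injective with all p-th powers in its image, and R → A → B with image in B the set of p-th powers, R
standing for B^p). Suppose B has a p-basis (x_λ) over A and A has a p-basis over R, and let x'_λ ∈ A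
map to x_λ^p. Then the elements 1 ⊗ d_{A/ℤ}(x'_λ) form a basis of the B-module Υ_{B/A}, the kernel
of B ⊗_A Ω_{A/ℤ} → Ω_{B/ℤ}. (The published statement also identifies Υ_{B/A} with the Frobenius
twist of Ω_{B/A}; this row states only the basis.) -/
theorem result (p : ℕ) [Fact p.Prime] {R A B : Type u} [CommRing R] [CommRing A]
    [CommRing B] [IsReduced B] [Algebra R A] [Algebra A B] [Algebra R B] [IsScalarTower R A B] [CharP B p]
    (hinj : Function.Injective (algebraMap A B)) (hpow : ∀ b : B, b ^ p ∈ Set.range (algebraMap A B))
    (hR : Set.range (algebraMap R B) = Set.range fun b : B => b ^ p)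
    {Λ M : Type u} (x : Λ → B) (hx : EGA41.IsPBasis p A x) (x' : Λ → A) (hx' : ∀ i, algebraMap A B (x' i) = x i ^ p)
    (y : M → A) (hy : EGA41.IsPBasis p R y) :
    ∃ b : Module.Basis Λ B (EGA41.imperfection ℤ A B),
      ∀ i, (b i : B ⊗[A] Ω[A⁄ℤ]) = (1 : B) ⊗ₜ[A] KaehlerDifferential.D ℤ A (x' i) := by
  classical
  haveI : CharP A p := ((algebraMap A B).charP_iff hinj p).mpr ‹_›
  have hpowR : ∀ b : B, b ^ p ∈ Set.range (algebraMap R B) := fun b => by rw [hR]; exact ⟨b, rfl⟩
  -- the `p`-basis of `B` over `R`
  let z : M ⊕ Λ → B := Sum.elim (fun i => algebraMap A B (y i)) x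
  have hz : EGA41.IsPBasis p R z :=
    ⟨(Groth.Ega41Sep.isPIndependent_sum_iff y x hinj hpowR hy).mp hx.1,
      Groth.Ega41Sep.isPGenerating_sum y x hinj hpowR hy.2 hx.2⟩
  obtain ⟨bz, hbz⟩ := Groth.Ega41Sep.exists_basis_kaehler hz
  obtain ⟨ba, hba⟩ := Groth.Ega41Sep.exists_basis_kaehler hy
  have hmapR : Function.Injective (KaehlerDifferential.mapBaseChange R A B) := by
    refine Groth.Ega41Sep.injective_of_linearIndependent (Algebra.TensorProduct.basis B ba) _ ?_
    have := bz.linearIndependent.comp Sum.inl Sum.inl_injective
    rw [show (⇑(KaehlerDifferential.mapBaseChange R A B) ∘ ⇑(Algebra.TensorProduct.basis B ba)) =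
      ⇑bz ∘ Sum.inl from funext fun m => by simp [hba, hbz, z]]
    exact this
  -- the family
  let Υ := EGA41.imperfection ℤ A B
  have hd0 : ∀ (a : A) (b : B), algebraMap A B a = b ^ p →
      (1 : B) ⊗ₜ[A] KaehlerDifferential.D ℤ A a ∈ Υ := by
    intro a b h
    show (KaehlerDifferential.mapBaseChange ℤ A B) _ = 0
    rw [KaehlerDifferential.mapBaseChange_tmul, one_smul, KaehlerDifferential.map_D, h, Derivation.leibniz_pow,
      ← Nat.cast_smul_eq_nsmul B, CharP.cast_eq_zero, zero_smul]
  let v : Λ → Υ := fun i => ⟨_, hd0 (x' i) (x i) (hx' i)⟩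
  let w : Λ → B ⊗[A] Ω[A⁄ℤ] := fun i => (1 : B) ⊗ₜ[A] KaehlerDifferential.D ℤ A (x' i)
  -- derivations separating the family
  have hδ : ∀ i, ∃ φ : B ⊗[A] Ω[A⁄ℤ] →ₗ[B] B, ∀ j, φ (w j) = if j = i then 1 else 0 := by
    intro i
    obtain ⟨δ, hδ, -⟩ := Groth.Ega41Sep.existsUnique_derivation_of_base (M := B) hx
      (fun j => if j = i then 1 else 0)
    have hβ : ∀ r : EGA41.pPowerSubalgebra p R A, ∃ b : B, b ^ p = algebraMap A B r := by
      intro r
      have hpowA : ∀ a : A, a ^ p ∈ Set.range (algebraMap R A) := fun a => by
        obtain ⟨r, hr⟩ := hpowR (algebraMap A B a)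
        exact ⟨r, hinj (by rw [← IsScalarTower.algebraMap_apply, hr, map_pow])⟩
      obtain ⟨s, hs⟩ := Groth.Ega41Sep.mem_range_of_mem_pPower hpowA r.2
      have h1 : algebraMap R B s ∈ Set.range fun b : B => b ^ p := by rw [← hR]; exact ⟨s, rfl⟩
      obtain ⟨b, hb⟩ := h1
      exact ⟨b, hb.trans (by rw [← hs, ← IsScalarTower.algebraMap_apply])⟩
    choose β hβ using hβ
    have huniq : ∀ (r : EGA41.pPowerSubalgebra p R A) (b : B), b ^ p = algebraMap A B (r : A) → β r = b := fun r b h =>
      frobenius_inj B p ((hβ r).trans h.symm)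
    let D₀ : EGA41.pPowerSubalgebra p R A →+ B := AddMonoidHom.mk' (fun r => δ (β r) ^ p) fun r s => by
      rw [huniq (r + s) (β r + β s) (by rw [add_pow_char, hβ, hβ, Subalgebra.coe_add, map_add]), map_add,
        add_pow_char]
    obtain ⟨D, ⟨hD, -⟩, -⟩ := Groth.Ega41Sep.existsUnique_derivation (M := B) hy D₀
      (fun r s => by
        show δ (β (r * s)) ^ p = (r : A) • (δ (β s) ^ p : B) + (s : A) • (δ (β r) ^ p : B)
        rw [huniq (r * s) (β r * β s) (by rw [mul_pow, hβ, hβ, Subalgebra.coe_mul, map_mul]),
          Derivation.leibniz, add_pow_char, smul_eq_mul, smul_eq_mul, mul_pow, mul_pow, hβ, hβ,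
          Algebra.smul_def, Algebra.smul_def])
      (fun a => by
        show δ (β (Groth.Ega41Sep.pp p R a)) ^ p = 0
        rw [huniq _ (algebraMap A B a) (by rw [Groth.Ega41Sep.coe_pp, map_pow]), Derivation.map_algebraMap,
          zero_pow (Fact.out : p.Prime).ne_zero])
      (fun _ => 0)
    refine ⟨D.liftKaehlerDifferential.liftBaseChange B, fun j => ?_⟩
    simp only [w, LinearMap.liftBaseChange_tmul, one_smul, Derivation.liftKaehlerDifferential_comp_D]
    have hj : x' j ∈ EGA41.pPowerSubalgebra p R A := by
      obtain ⟨r, hr⟩ := hpowR (x j)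
      rw [show x' j = algebraMap R A r from hinj (by rw [hx', ← IsScalarTower.algebraMap_apply, hr])]
      exact Subalgebra.algebraMap_mem _ r
    rw [hD ⟨x' j, hj⟩]
    show δ (β ⟨x' j, hj⟩) ^ p = _
    rw [huniq _ (x j) (hx' j).symm, hδ]
    split_ifs
    · exact one_pow p
    · exact zero_pow (Fact.out : p.Prime).ne_zero
  have hli : LinearIndependent B v := by
    refine LinearIndependent.of_comp Υ.subtype ?_
    rw [linearIndependent_iff']
    intro s g hg i hi
    obtain ⟨φ, hφ⟩ := hδ i
    have h := congrArg φ hg
    simp only [Function.comp_apply, map_sum, map_smul, map_zero, Submodule.subtype_apply] at h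
    rw [Finset.sum_eq_single i] at h
    · rw [hφ, if_pos rfl, smul_eq_mul, mul_one] at h; exact h
    · intro j _ hj; rw [hφ, if_neg hj, smul_zero]
    · intro hne; exact absurd hi hne
  -- generation
  let W := Submodule.span B (Set.range w)
  have hgen : ∀ (b : B) (a : A), algebraMap A B a = b ^ p →
      (1 : B) ⊗ₜ[A] KaehlerDifferential.D ℤ A a ∈ W := by
    intro b
    have hb : b ∈ Algebra.adjoin (EGA41.pPowerSubalgebra p A B) (Set.range x) := by
      rw [Groth.Ega41Sep.isPGenerating_iff_adjoin.mp hx.2]; trivial
    induction hb using Algebra.adjoin_induction with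
    | mem u hu =>
        obtain ⟨i, rfl⟩ := hu
        intro a ha
        rw [hinj (ha.trans (hx' i).symm)]
        exact Submodule.subset_span ⟨i, rfl⟩
    | algebraMap r =>
        intro a ha
        obtain ⟨a₀, ha₀⟩ := Groth.Ega41Sep.mem_range_of_mem_pPower hpow r.2
        have : a = a₀ ^ p := hinj (by rw [ha, map_pow, ha₀]; rfl)
        rw [this, Derivation.leibniz_pow, ← Nat.cast_smul_eq_nsmul A, CharP.cast_eq_zero, zero_smul,
          TensorProduct.tmul_zero]
        exact zero_mem _
    | add u u' _ _ hu hu' =>
        intro a ha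
        obtain ⟨c, hc⟩ := hpow u
        obtain ⟨c', hc'⟩ := hpow u'
        rw [show a = c + c' from hinj (by rw [ha, map_add, hc, hc', add_pow_char]), map_add, TensorProduct.tmul_add]
        exact add_mem (hu c hc) (hu' c' hc')
    | mul u u' _ _ hu hu' =>
        intro a ha
        obtain ⟨c, hc⟩ := hpow u
        obtain ⟨c', hc'⟩ := hpow u'
        rw [show a = c * c' from hinj (by rw [ha, map_mul, hc, hc', mul_pow]), Derivation.leibniz,
          TensorProduct.tmul_add, ← TensorProduct.smul_tmul, ← TensorProduct.smul_tmul]
        refine add_mem ?_ ?_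
        · rw [Algebra.smul_def, mul_one, show algebraMap A B c = algebraMap A B c • (1 : B) by simp,
            ← TensorProduct.smul_tmul']
          exact W.smul_mem _ (hu' c' hc')
        · rw [Algebra.smul_def, mul_one, show algebraMap A B c' = algebraMap A B c' • (1 : B) by simp,
            ← TensorProduct.smul_tmul']
          exact W.smul_mem _ (hu c hc)
  have hsp : ∀ ω ∈ Υ, ω ∈ W := by
    intro ω hω
    let μ := (KaehlerDifferential.map ℤ R A A).restrictScalars A
    have hex : Function.Exact ((KaehlerDifferential.mapBaseChange ℤ R A).baseChange B) (μ.baseChange B) :=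
      lTensor_exact B (KaehlerDifferential.exact_mapBaseChange_map ℤ R A) (KaehlerDifferential.map_surjective ℤ R A)
    have hcomm : ∀ η, KaehlerDifferential.mapBaseChange R A B (μ.baseChange B η) =
        KaehlerDifferential.map ℤ R B B (KaehlerDifferential.mapBaseChange ℤ A B η) := by
      intro η
      induction η using TensorProduct.induction_on with
      | zero => simp
      | tmul b m =>
          simp only [LinearMap.baseChange_tmul, KaehlerDifferential.mapBaseChange_tmul, map_smul, μ,
            LinearMap.restrictScalars_apply]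
          congr 1
          have hm : m ∈ Submodule.span A (Set.range (KaehlerDifferential.D ℤ A)) :=
            (KaehlerDifferential.span_range_derivation ℤ A).symm ▸ Submodule.mem_top
          induction hm using Submodule.span_induction with
          | mem u hu => obtain ⟨a, rfl⟩ := hu; simp
          | zero => simp
          | add u u' _ _ hu hu' => simp [hu, hu']
          | smul c u _ hu => rw [map_smul, map_smul, map_smul, LinearMap.map_smul_of_tower, hu]
      | add u u' hu hu' => simp [hu, hu']
    have h0 : μ.baseChange B ω = 0 := hmapR (by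
      rw [hcomm, LinearMap.mem_ker.mp hω, map_zero, map_zero])
    obtain ⟨η, rfl⟩ := (hex ω).mp h0
    clear h0 hω
    induction η using TensorProduct.induction_on with
    | zero => rw [map_zero]; exact zero_mem _
    | tmul b t =>
        rw [LinearMap.baseChange_tmul, show b = b • (1 : B) by simp, ← TensorProduct.smul_tmul']
        refine W.smul_mem _ ?_
        induction t using TensorProduct.induction_on with
        | zero => rw [map_zero, TensorProduct.tmul_zero]; exact zero_mem _
        | tmul c m =>
            rw [KaehlerDifferential.mapBaseChange_tmul, ← TensorProduct.smul_tmul, Algebra.smul_def, mul_one,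
              show algebraMap A B c = algebraMap A B c • (1 : B) by simp, ← TensorProduct.smul_tmul']
            refine W.smul_mem _ ?_
            have hm : m ∈ Submodule.span R (Set.range (KaehlerDifferential.D ℤ R)) :=
              (KaehlerDifferential.span_range_derivation ℤ R).symm ▸ Submodule.mem_top
            induction hm using Submodule.span_induction with
            | mem u hu =>
                obtain ⟨r, rfl⟩ := hu
                rw [KaehlerDifferential.map_D]
                have h1 : algebraMap R B r ∈ Set.range fun b : B => b ^ p := by rw [← hR]; exact ⟨r, rfl⟩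
                obtain ⟨u, hu⟩ := h1
                exact hgen u _ (by rw [← IsScalarTower.algebraMap_apply]; exact hu.symm)
            | zero => rw [map_zero, TensorProduct.tmul_zero]; exact zero_mem _
            | add u u' _ _ hu hu' => rw [map_add, TensorProduct.tmul_add]; exact add_mem hu hu'
            | smul c u _ hu =>
                rw [map_smul, ← IsScalarTower.algebraMap_smul A c, ← TensorProduct.smul_tmul, Algebra.smul_def, mul_one,
                  show algebraMap A B (algebraMap R A c) = algebraMap A B (algebraMap R A c) • (1 : B) by simp,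
                  ← TensorProduct.smul_tmul']
                exact W.smul_mem _ hu
        | add u u' hu hu' => rw [map_add, TensorProduct.tmul_add]; exact add_mem hu hu'
    | add u u' hu hu' => rw [map_add]; exact add_mem hu hu'
  have hspan : ⊤ ≤ Submodule.span B (Set.range v) := by
    rintro ⟨ω, hω⟩ -
    have h := hsp ω hω
    have : W = (Submodule.span B (Set.range v)).map Υ.subtype := by
      rw [Submodule.map_span, ← Set.range_comp]; rfl
    rw [this] at h
    obtain ⟨u, hu, hu'⟩ := h
    obtain rfl : u = ⟨ω, hω⟩ := Subtype.ext hu'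
    exact hu
  exact ⟨Module.Basis.mk hli hspan, fun i => by rw [Module.Basis.mk_apply]⟩

end Groth.Agent.S4520
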