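import Groth.Statements.S4521
import Groth.Agent.Ega41Sep.Separable
open Groth.Ega41Sep

set_option autoImplicit false
universe u
open EGA41

namespace Groth.Agent.S4521

/-- Let k ⊆ K be fields of characteristic p > 0 and (x_α) a family of elements of K. Then (x_α) is
p-independent over k if and only if, for every α, x_α does not lie in the subfield generated over k
by K^p and the x_β with β ≠ α. -/
theorem result (p : ℕ) [Fact p.Prime] {k K : Type u} [Field k] [Field K]
    [Algebra k K] [CharP K p] {ι : Type u} (x : ι → K) :
    EGA41.IsPIndependent p k x ↔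
      ∀ a : ι, x a ∉ IntermediateField.adjoin k ((Set.range fun y : K => y ^ p) ∪ x '' {b | b ≠ a}) := by
  have hiff : ∀ a : ι, x a ∈ IntermediateField.adjoin k ((Set.range fun y : K => y ^ p) ∪ x '' {b | b ≠ a}) ↔
      x a ∈ Algebra.adjoin (EGA41.pPowerSubalgebra p k K) (x '' {b | b ≠ a}) := by
    intro a
    set s := x '' {b | b ≠ a}
    have h1 : ((Algebra.adjoin (EGA41.pPowerSubalgebra p k K) s).restrictScalars k) =
        Algebra.adjoin k ((Set.range fun y : K => y ^ p) ∪ s) := by
      rw [Algebra.adjoin_union_eq_adjoin_adjoin]; rfl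
    have h2 : (IntermediateField.adjoin k ((Set.range fun y : K => y ^ p) ∪ s)).toSubalgebra =
        Algebra.adjoin k ((Set.range fun y : K => y ^ p) ∪ s) := by
      refine le_antisymm ?_ (IntermediateField.algebra_adjoin_le_adjoin _ _)
      let M := (Algebra.adjoin k ((Set.range fun y : K => y ^ p) ∪ s)).toIntermediateField
        (inv_mem_of_pow_mem _ fun z => Algebra.subset_adjoin (Or.inl ⟨z, rfl⟩))
      exact (IntermediateField.adjoin_le_iff (T := M)).mpr Algebra.subset_adjoin
    rw [← IntermediateField.mem_toSubalgebra, h2, ← h1]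
    rfl
  rw [isPIndependent_iff_linearIndependent, linearIndependent_iff_notMem_span]
  refine forall_congr' fun a => not_congr ?_
  rw [hiff a, mem_adjoin_iff_D_mem_span]
  have : (fun i => KaehlerDifferential.D k K (x i)) '' (Set.univ \ {a}) =
      KaehlerDifferential.D k K '' (x '' {b | b ≠ a}) := by
    rw [Set.image_image]; congr 1; ext b; simp
  rw [this]

end Groth.Agent.S4521
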