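import Groth.Statements.S4522
import Groth.Agent.Ega41Sep.FieldPBasis
import Groth.Agent.Ega41Sep.PBasisTower
import Groth.Agent.Ega41Sep.BaseChangeInj


set_option autoImplicit false
universe u
open EGA41

namespace Groth.Agent.S4522

/-- Let L be a field of characteristic p > 0 and K a subfield with L^p ⊆ K ⊆ L (here R → K → L with the
image of R in L the set of p-th powers and every p-th power of L in the image of K). Then the
canonical L-linear map L ⊗_K Ω_{K/L^p} → Ω_{L/L^p} is injective, so that 0 → Ω_{K/L^p} ⊗_K L →
Ω_{L/L^p} → Ω_{L/K} → 0 is exact: the imperfection module of L over K relative to L^p vanishes. -/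
theorem result (p : ℕ) [Fact p.Prime] {R K L : Type u} [Field R] [Field K] [Field L]
    [Algebra R K] [Algebra K L] [Algebra R L] [IsScalarTower R K L] [CharP L p]
    (hR : Set.range (algebraMap R L) = Set.range fun y : L => y ^ p)
    (hK : ∀ y : L, y ^ p ∈ Set.range (algebraMap K L)) :
    Function.Injective (KaehlerDifferential.mapBaseChange R K L) := by
  classical
  haveI : CharP K p := ((algebraMap K L).charP_iff (algebraMap K L).injective p).mpr ‹_›
  have hpowL : ∀ z : L, z ^ p ∈ Set.range (algebraMap R L) := fun z => by rw [hR]; exact ⟨z, rfl⟩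
  have hpowK : ∀ a : K, a ^ p ∈ Set.range (algebraMap R K) := fun a => by
    obtain ⟨r, hr⟩ := hpowL (algebraMap K L a)
    exact ⟨r, (algebraMap K L).injective (by rw [← IsScalarTower.algebraMap_apply, hr, map_pow])⟩
  obtain ⟨T, hT⟩ := Groth.Ega41Sep.exists_isPBasis p R K
  obtain ⟨b, hb⟩ := Groth.Ega41Sep.isPBasis_iff_basis.mp hT
  let y : T → L := fun t => algebraMap K L t
  have hy : EGA41.IsPIndependent p R y := by
    rw [Groth.Ega41Sep.isPIndependent_iff_base hpowL]
    intro c hc e
    have h := (Groth.Ega41Sep.isPIndependent_iff_base hpowK).mp hT.1 c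
      ((algebraMap K L).injective (by
        rw [map_zero, ← hc, map_finsuppSum]
        refine Finsupp.sum_congr fun e _ => ?_
        rw [map_mul, ← IsScalarTower.algebraMap_apply]
        simp only [EGA41.pMonomial, y, map_finsuppProd, map_pow])) e
    rw [IsScalarTower.algebraMap_apply R K L, h, map_zero]
  refine Groth.Ega41Sep.injective_of_linearIndependent (Algebra.TensorProduct.basis L b) _ ?_
  have := Groth.Ega41Sep.isPIndependent_iff_linearIndependent.mp hy
  rw [show (⇑(KaehlerDifferential.mapBaseChange R K L) ∘ ⇑(Algebra.TensorProduct.basis L b)) =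
    fun t => KaehlerDifferential.D R L (y t) from funext fun t => by simp [y, hb]]
  exact this

end Groth.Agent.S4522
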