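import Groth.Statements.S4524
import Groth.Agent.Ega41Sep.Separable
open Groth.Ega41Sep

set_option autoImplicit false
universe u
open EGA41

namespace Groth.Agent.S4524

/-- Let k be a field of characteristic 0 and K an extension of k. Then Ω_{K/k} = 0 if and only if K is
an algebraic extension of k. -/
theorem result {k K : Type u} [Field k] [CharZero k] [Field K] [Algebra k K] :
    Subsingleton (Ω[K⁄k]) ↔ Algebra.IsAlgebraic k K := by
  refine ⟨fun h => ?_, fun h => ?_⟩
  · constructor
    intro x
    by_contra hx
    have hx' : Transcendental k x := hx
    let E := IntermediateField.adjoin k {x}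
    haveI : Algebra.EssFiniteType k E := IntermediateField.essFiniteType_iff.mpr (IntermediateField.fg_adjoin_of_finite (Set.finite_singleton x))
    haveI : CharZero E := charZero_of_injective_algebraMap (algebraMap k E).injective
    haveI : Algebra.FormallySmooth E K := formallySmooth_charZero E K
    have hinj : Function.Injective (KaehlerDifferential.mapBaseChange k E K) := by
      rw [← LinearMap.ker_eq_bot, eq_bot_iff]
      intro z hz
      obtain ⟨y, rfl⟩ := ((Algebra.H1Cotangent.exact_δ_mapBaseChange k E K) z).mp hz
      rw [Subsingleton.elim y 0, map_zero]; exact zero_mem _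
    haveI : Subsingleton (TensorProduct E K Ω[E⁄k]) := hinj.subsingleton
    haveI : Subsingleton (Ω[E⁄k]) := (Module.Flat.tensorProduct_mk_injective E (Ω[E⁄k]) K).subsingleton
    haveI : Algebra.FormallyUnramified k E := ⟨inferInstance⟩
    haveI := Algebra.FormallyUnramified.isSeparable k E
    have := Algebra.IsAlgebraic.isAlgebraic (R := k) (⟨x, IntermediateField.mem_adjoin_simple_self k x⟩ : E)
    exact hx' ((isAlgebraic_algebraMap_iff (algebraMap E K).injective).mpr this)
  · haveI : Algebra.IsSeparable k K := inferInstance
    haveI := Algebra.FormallyUnramified.of_isSeparable k K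
    infer_instance

end Groth.Agent.S4524
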