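import Groth.Statements.S4526
import Groth.Agent.Ega41Rank.Index
import Mathlib.RingTheory.Flat.FaithfullyFlat.Algebra
open Groth.Ega41Rank

set_option autoImplicit false
universe u
open EGA41

namespace Groth.Agent.S4526

/-- Let k ⊆ K ⊆ L be three fields with L an extension of finite type of k. Then Ω_{L/k} and Ω_{K/k} are
finite-dimensional and rank_L Ω_{L/k} − rank_K Ω_{K/k} ≥ trdeg_K L. (The published statement also
gives the exact value trdeg_K L + d(L/K, k) and an equality criterion; this row states only the
inequality.) -/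
theorem result {k K L : Type u} [Field k] [Field K] [Field L]
    [Algebra k K] [Algebra K L] [Algebra k L] [IsScalarTower k K L] [Algebra.EssFiniteType k L] :
    Module.Finite L (Ω[L⁄k]) ∧ Module.Finite K (Ω[K⁄k]) ∧
      (Cardinal.toNat (Algebra.trdeg K L) : ℤ) ≤ (Module.finrank L (Ω[L⁄k]) : ℤ) - Module.finrank K (Ω[K⁄k]) := by
  haveI : Algebra.EssFiniteType K L := Algebra.EssFiniteType.of_comp k K L
  obtain ⟨⟨hk, hc⟩, d, hd, hle, -⟩ := index_essFiniteType k K L
  haveI := hk
  let f := KaehlerDifferential.mapBaseChange k K L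
  haveI hL : Module.Finite L (Ω[L⁄k]) := inferInstance
  haveI : Module.Finite L (LinearMap.range f) := inferInstance
  haveI : Module.Finite L ((TensorProduct K L Ω[K⁄k]) ⧸ LinearMap.ker f) := Module.Finite.equiv f.quotKerEquivRange.symm
  haveI hT : Module.Finite L (TensorProduct K L Ω[K⁄k]) := Module.Finite.of_submodule_quotient (LinearMap.ker f)
  haveI hK : Module.Finite K Ω[K⁄k] := by
    have h1 := Module.rank_lt_aleph0_iff.mpr hT
    rw [Module.rank_baseChange, Cardinal.lift_id] at h1
    exact Module.rank_lt_aleph0_iff.mp h1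
  refine ⟨hL, hK, ?_⟩
  rw [LinearMap.index_eq_of_finiteDimensional, Module.finrank_baseChange] at hle
  rw [hd, Cardinal.toNat_natCast]
  omega

end Groth.Agent.S4526
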