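import Groth.Statements.S4529
import Mathlib.RingTheory.Nilpotent.Basic
import Mathlib.RingTheory.Nakayama
import Mathlib.Algebra.Module.Projective
import Mathlib.RingTheory.FiniteType

set_option autoImplicit false
universe u
open EGA41

namespace Groth.Agent.S4529

/-- Let A be a ring, M, N two A-modules with N projective, u : M → N a homomorphism and J an ideal of A;
suppose either (i) J is nilpotent, or (ii) J is contained in the Jacobson radical of A and M is of
finite type. Then u is left invertible if and only if the induced map u₀ : M/JM → N/JN is left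
invertible. (A left inverse of u₀ composed with N → N/JN is an A-linear map v : N → M/JM with v ∘ u
the projection, and conversely; the right-hand side is written in that form.) -/
theorem result {A : Type u} [CommRing A] {M N : Type u} [AddCommGroup M] [Module A M]
    [AddCommGroup N] [Module A N] [Module.Projective A N] (u : M →ₗ[A] N) (J : Ideal A)
    (hJ : IsNilpotent J ∨ (J ≤ (⊥ : Ideal A).jacobson ∧ Module.Finite A M)) :
    (∃ w : N →ₗ[A] M, w ∘ₗ u = LinearMap.id) ↔
      ∃ v : N →ₗ[A] M ⧸ (J • ⊤ : Submodule A M), v ∘ₗ u = (J • ⊤ : Submodule A M).mkQ := by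
  refine ⟨fun ⟨w, hw⟩ => ⟨(J • ⊤ : Submodule A M).mkQ ∘ₗ w, by rw [LinearMap.comp_assoc, hw, LinearMap.comp_id]⟩,
    fun ⟨v, hv⟩ => ?_⟩
  obtain ⟨w₀, hw₀⟩ := Module.projective_lifting_property (J • ⊤ : Submodule A M).mkQ v (Submodule.mkQ_surjective _)
  let φ : Module.End A M := w₀ ∘ₗ u
  have hφ : ∀ m, φ m - m ∈ (J • ⊤ : Submodule A M) := fun m => by
    rw [← Submodule.Quotient.eq]
    exact (LinearMap.congr_fun hw₀ (u m)).trans (LinearMap.congr_fun hv m)
  suffices IsUnit φ by
    obtain ⟨e, he⟩ := this
    refine ⟨(e⁻¹ : (Module.End A M)ˣ).val ∘ₗ w₀, ?_⟩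
    rw [LinearMap.comp_assoc]
    show (e⁻¹ : (Module.End A M)ˣ).val * φ = 1
    rw [← he, Units.inv_mul]
  rcases hJ with ⟨t, ht⟩ | ⟨hle, hfin⟩
  · have hpow : ∀ (i : ℕ) (m : M), ((φ - 1) ^ i) m ∈ (J ^ i • ⊤ : Submodule A M) := by
      intro i
      induction i with
      | zero => intro m; simp
      | succ i ih =>
          intro m
          rw [pow_succ', pow_succ', Module.End.mul_apply, Submodule.mul_smul]
          refine Submodule.smul_induction_on (ih m) (fun r hr y _ => ?_) (fun x y hx hy => ?_)
          · rw [map_smul, ← Submodule.mul_smul, ← pow_succ', pow_succ, Submodule.mul_smul]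
            exact Submodule.smul_mem_smul hr (by simpa using hφ y)
          · rw [map_add]; exact add_mem hx hy
    have hnil : IsNilpotent (φ - 1) := by
      refine ⟨t, LinearMap.ext fun m => ?_⟩
      have := hpow t m
      rw [ht, Submodule.zero_eq_bot, Submodule.bot_smul, Submodule.mem_bot] at this
      exact this
    simpa using IsNilpotent.isUnit_add_one hnil
  · rw [Module.End.isUnit_iff]
    refine OrzechProperty.bijective_of_surjective_endomorphism φ ?_
    rw [← LinearMap.range_eq_top, eq_top_iff]
    refine Submodule.le_of_le_smul_of_le_jacobson_bot Module.Finite.fg_top hle ?_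
    intro m _
    rw [show m = φ m + -(φ m - m) from by abel]
    exact Submodule.add_mem_sup (LinearMap.mem_range_self φ m) (neg_mem (hφ m))

end Groth.Agent.S4529
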