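import Groth.Statements.S4530
import Groth.Agent.Ega41Adic.SplitInj
import Mathlib.RingTheory.Spectrum.Prime.Topology
open Groth.Ega41Adic

set_option autoImplicit false
universe u
open EGA41

namespace Groth.Agent.S4530

open TensorProduct in
/-- Let A be a ring, M an A-module of finite type, N a projective A-module, u : M → N a homomorphism.
For a prime ideal 𝔭 the following are equivalent: (a) u_𝔭 : M_𝔭 → N_𝔭 is left invertible; (b) u ⊗ 1
: M ⊗ k(𝔭) → N ⊗ k(𝔭) is injective; (d) there is f ∉ 𝔭 with u_f : M_f → N_f left invertible.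
Moreover the set of such 𝔭 is open in Spec A. (The published statement also has a determinant
criterion (c); this row omits it.) -/
theorem result {A : Type u} [CommRing A] {M N : Type u} [AddCommGroup M] [Module A M]
    [Module.Finite A M] [AddCommGroup N] [Module A N] [Module.Projective A N] (u : M →ₗ[A] N) :
    (∀ p : PrimeSpectrum A,
      [∃ w : LocalizedModule p.asIdeal.primeCompl N →ₗ[A] LocalizedModule p.asIdeal.primeCompl M,
          w ∘ₗ LocalizedModule.map p.asIdeal.primeCompl u = LinearMap.id,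
       Function.Injective (u.lTensor p.asIdeal.ResidueField),
       ∃ f : A, f ∉ p.asIdeal ∧
          ∃ w : LocalizedModule (Submonoid.powers f) N →ₗ[A] LocalizedModule (Submonoid.powers f) M,
            w ∘ₗ LocalizedModule.map (Submonoid.powers f) u = LinearMap.id].TFAE) ∧
    IsOpen {p : PrimeSpectrum A |
      ∃ w : LocalizedModule p.asIdeal.primeCompl N →ₗ[A] LocalizedModule p.asIdeal.primeCompl M,
        w ∘ₗ LocalizedModule.map p.asIdeal.primeCompl u = LinearMap.id} := by
  have hloc : ∀ p : PrimeSpectrum A, _ ↔ ∃ a ∈ p.asIdeal.primeCompl, SplitBy u a :=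
    fun p => leftInverse_localizedMap_iff u p.asIdeal.primeCompl
  refine ⟨fun p => ?_, ?_⟩
  · tfae_have 1 ↔ 2 := (hloc p).trans (exists_splitBy_iff_injective u p.asIdeal)
    tfae_have 3 → 1 := fun ⟨f, hf, h⟩ => by
      obtain ⟨a, ⟨k, rfl⟩, ha⟩ := (leftInverse_localizedMap_iff u (Submonoid.powers f)).mp h
      exact (hloc p).mpr ⟨_, fun hk => hf (p.isPrime.mem_of_pow_mem k hk), ha⟩
    tfae_have 1 → 3 := fun h => by
      obtain ⟨a, ha, hs⟩ := (hloc p).mp h
      exact ⟨a, ha, (leftInverse_localizedMap_iff u (Submonoid.powers a)).mpr ⟨a, ⟨1, pow_one a⟩, hs⟩⟩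
    tfae_finish
  · have : {p : PrimeSpectrum A | ∃ a ∈ p.asIdeal.primeCompl, SplitBy u a} =
        (PrimeSpectrum.zeroLocus (splitIdeal u : Set A))ᶜ := by
      ext p
      simp only [Set.mem_setOf_eq, Set.mem_compl_iff, PrimeSpectrum.mem_zeroLocus, Set.not_subset]
      exact ⟨fun ⟨a, ha, hs⟩ => ⟨a, hs, ha⟩, fun ⟨a, hs, ha⟩ => ⟨a, ha, hs⟩⟩
    have h2 : IsOpen {p : PrimeSpectrum A | ∃ a ∈ p.asIdeal.primeCompl, SplitBy u a} := by
      rw [this]; exact (PrimeSpectrum.isClosed_zeroLocus _).isOpen_compl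
    convert h2 using 1
    exact Set.ext hloc

end Groth.Agent.S4530
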