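import Groth.Statements.S4531
import Groth.Agent.Ega41Adic.SplitInj
import Mathlib.RingTheory.Spectrum.Prime.Topology
open Groth.Ega41Adic

set_option autoImplicit false
universe u
open EGA41

namespace Groth.Agent.S4531

open TensorProduct in
/-- Let A be a ring, M an A-module of finite type, N a projective A-module and u : M → N a homomorphism.
(i) u is left invertible if and only if u_𝔪 : M_𝔪 → N_𝔪 is left invertible for every maximal ideal 𝔪
of A. (ii) If A' is an A-algebra which is a faithfully flat A-module, u is left invertible if and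
only if u ⊗ 1 : M ⊗_A A' → N ⊗_A A' is left invertible (as an A'-linear map). -/
theorem result {A : Type u} [CommRing A] {M N : Type u} [AddCommGroup M] [Module A M]
    [Module.Finite A M] [AddCommGroup N] [Module A N] [Module.Projective A N] (u : M →ₗ[A] N) :
    ((∃ w : N →ₗ[A] M, w ∘ₗ u = LinearMap.id) ↔
      ∀ (m : Ideal A) [m.IsMaximal],
        ∃ w : LocalizedModule m.primeCompl N →ₗ[A] LocalizedModule m.primeCompl M,
          w ∘ₗ LocalizedModule.map m.primeCompl u = LinearMap.id) ∧
    ∀ (A' : Type u) [CommRing A'] [Algebra A A'] [Module.FaithfullyFlat A A'],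
      (∃ w : N →ₗ[A] M, w ∘ₗ u = LinearMap.id) ↔
        ∃ w : A' ⊗[A] N →ₗ[A'] A' ⊗[A] M, w ∘ₗ u.baseChange A' = LinearMap.id := by
  have hmax : (∃ w : N →ₗ[A] M, w ∘ₗ u = LinearMap.id) ↔
      ∀ (m : Ideal A) [m.IsMaximal], ∃ a ∉ m, SplitBy u a := by
    refine ⟨fun h m hm => ⟨1, fun h1 => hm.ne_top (m.eq_top_iff_one.mpr h1), (leftInverse_iff_one u).mp h⟩, fun h => ?_⟩
    rw [leftInverse_iff_one]
    show (1 : A) ∈ splitIdeal u
    by_contra hne
    obtain ⟨m, hm, hle⟩ := Ideal.exists_le_maximal (splitIdeal u) (fun ht => hne (ht ▸ trivial))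
    obtain ⟨a, ha, hs⟩ := @h m hm
    exact ha (hle hs)
  refine ⟨hmax.trans (forall₂_congr fun m hm => (leftInverse_localizedMap_iff u m.primeCompl).symm),
    fun A' _ _ _ => ⟨fun ⟨w, hw⟩ => ⟨w.baseChange A', by rw [← LinearMap.baseChange_comp, hw, LinearMap.baseChange_id]⟩,
      fun ⟨w, hw⟩ => hmax.mpr fun m hm => (exists_splitBy_iff_injective u m).mpr ?_⟩⟩
  rw [← Module.FaithfullyFlat.lTensor_injective_iff_injective A A']
  let K := m.ResidueField
  have hcomm : ∀ x, TensorProduct.leftComm A A' K N ((u.lTensor K).lTensor A' x) =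
      ((u.baseChange A').restrictScalars A).lTensor K (TensorProduct.leftComm A A' K M x) := by
    intro x
    induction x with
    | zero => simp
    | add a b ha hb => simp only [map_add, ha, hb]
    | tmul r y =>
        induction y with
        | zero => simp
        | add a b ha hb => simp only [TensorProduct.tmul_add, map_add, ha, hb]
        | tmul q z => simp
  have hinj : Function.Injective (((u.baseChange A').restrictScalars A).lTensor K) :=
    Function.LeftInverse.injective (g := (w.restrictScalars A).lTensor K) fun x => by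
      rw [← LinearMap.comp_apply, ← LinearMap.lTensor_comp]
      have : w.restrictScalars A ∘ₗ (u.baseChange A').restrictScalars A = LinearMap.id :=
        LinearMap.ext fun y => LinearMap.congr_fun hw y
      rw [this, LinearMap.lTensor_id, LinearMap.id_apply]
  intro x y hxy
  exact (TensorProduct.leftComm A A' K M).injective (hinj (by rw [← hcomm, ← hcomm, hxy]))

end Groth.Agent.S4531
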