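import Groth.Statements.S4532
import Mathlib.RingTheory.Smooth.Basic
import Mathlib.LinearAlgebra.SymmetricAlgebra.Basic

set_option autoImplicit false
universe u
open EGA41

namespace Groth.Agent.S4532

/-- Let A be a discrete ring and V a projective A-module. Then the symmetric algebra of V over A, with
the discrete topology, is a formally smooth A-algebra. -/
theorem result (A : Type u) [CommRing A] (V : Type u) [AddCommGroup V] [Module A V]
    [Module.Projective A V] : Algebra.FormallySmooth A (SymmetricAlgebra A V) := by
  refine Algebra.FormallySmooth.of_comp_surjective fun C _ _ I hI g => ?_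
  obtain ⟨l, hl⟩ := Module.projective_lifting_property (Ideal.Quotient.mkₐ A I).toLinearMap
    (g.toLinearMap.comp (SymmetricAlgebra.ι A V)) Ideal.Quotient.mk_surjective
  refine ⟨SymmetricAlgebra.lift l, SymmetricAlgebra.algHom_ext (LinearMap.ext fun v => ?_)⟩
  simpa using LinearMap.congr_fun hl v

end Groth.Agent.S4532
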