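import Groth.Statements.S4536
import Groth.Agent.Ega41Adic.CompleteLift
open Groth.Ega41Adic

set_option autoImplicit false
universe u
open EGA41

namespace Groth.Agent.S4536

/-- Let A carry the 𝔞-adic and B the 𝔟-adic topology, A → B being continuous (a power of 𝔞 maps into 𝔟).
Then B is formally smooth over A if and only if for every n the (A/𝔞ⁿ)-algebra B/𝔞ⁿB, with the adic
topology of the image of 𝔟, is formally smooth over the discrete ring A/𝔞ⁿ. -/
theorem result {A B : Type u} [CommRing A] [CommRing B] [Algebra A B]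
    (𝔞 : Ideal A) (𝔟 : Ideal B) (hAB : ∃ k : ℕ, (𝔞 ^ k).map (algebraMap A B) ≤ 𝔟) :
    EGA41.IsFormallySmoothAdic A 𝔞 B 𝔟 ↔
      ∀ n : ℕ, EGA41.IsFormallySmoothAdic (A ⧸ 𝔞 ^ n) ⊥ (B ⧸ (𝔞 ^ n).map (algebraMap A B))
        (𝔟.map (Ideal.Quotient.mk ((𝔞 ^ n).map (algebraMap A B)))) := by
  constructor
  · intro h n C _ _ J hJ _ u ⟨k, hk⟩
    letI : Algebra A C := ((algebraMap (A ⧸ 𝔞 ^ n) C).comp (Ideal.Quotient.mk (𝔞 ^ n))).toAlgebra
    haveI : IsScalarTower A (A ⧸ 𝔞 ^ n) C := IsScalarTower.of_algebraMap_eq fun _ => rfl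
    let q := Ideal.Quotient.mkₐ A ((𝔞 ^ n).map (algebraMap A B))
    obtain ⟨v, hv⟩ := h C J hJ ⟨n, by
        rw [IsScalarTower.algebraMap_eq A (A ⧸ 𝔞 ^ n) C, ← Ideal.map_map, Ideal.Quotient.algebraMap_eq,
          Ideal.map_quotient_self, Ideal.map_bot]⟩
      ((u.restrictScalars A).comp q) ⟨k, fun x hx => hk _ (by rw [← Ideal.map_pow]; exact Ideal.mem_map_of_mem _ hx)⟩
    have hker : ∀ x ∈ (𝔞 ^ n).map (algebraMap A B), v x = 0 := by
      intro x hx
      have : (𝔞 ^ n).map (algebraMap A B) ≤ RingHom.ker v.toRingHom := by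
        rw [Ideal.map_le_iff_le_comap]
        intro a ha
        show v (algebraMap A B a) = 0
        rw [AlgHom.commutes, IsScalarTower.algebraMap_apply A (A ⧸ 𝔞 ^ n) C, Ideal.Quotient.algebraMap_eq,
          Ideal.Quotient.eq_zero_iff_mem.mpr ha, map_zero]
      exact this hx
    refine ⟨AlgHom.extendScalarsOfSurjective Ideal.Quotient.mk_surjective
      (Ideal.Quotient.liftₐ _ v hker), AlgHom.ext fun x => ?_⟩
    obtain ⟨b, rfl⟩ := Ideal.Quotient.mk_surjective x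
    exact AlgHom.congr_fun hv b
  · intro h C _ _ J hJ ⟨n, hn⟩ u ⟨k, hk⟩
    letI : Algebra (A ⧸ 𝔞 ^ n) C := (Ideal.Quotient.lift (𝔞 ^ n) (algebraMap A C) fun a ha =>
      (Ideal.map_eq_bot_iff_le_ker _).mp hn ha).toAlgebra
    haveI : IsScalarTower A (A ⧸ 𝔞 ^ n) C := IsScalarTower.of_algebraMap_eq fun _ => rfl
    have hker : ∀ x ∈ (𝔞 ^ n).map (algebraMap A B), u x = 0 := by
      intro x hx
      have : (𝔞 ^ n).map (algebraMap A B) ≤ RingHom.ker u.toRingHom := by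
        rw [Ideal.map_le_iff_le_comap]
        intro a ha
        show u (algebraMap A B a) = 0
        rw [AlgHom.commutes, IsScalarTower.algebraMap_apply A C (C ⧸ J)]
        rw [(Ideal.map_eq_bot_iff_le_ker _).mp hn ha, map_zero]
      exact this hx
    let u' : (B ⧸ (𝔞 ^ n).map (algebraMap A B)) →ₐ[A ⧸ 𝔞 ^ n] C ⧸ J :=
      AlgHom.extendScalarsOfSurjective Ideal.Quotient.mk_surjective (Ideal.Quotient.liftₐ _ u hker)
    obtain ⟨v, hv⟩ := h n C J hJ ⟨1, by simp⟩ u' ⟨k, fun x hx => by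
      rw [← Ideal.map_pow, Ideal.mem_map_iff_of_surjective _ Ideal.Quotient.mk_surjective] at hx
      obtain ⟨b, hb, rfl⟩ := hx
      exact hk b hb⟩
    exact ⟨(v.restrictScalars A).comp (Ideal.Quotient.mkₐ A _), AlgHom.ext fun b => (AlgHom.congr_fun hv _ :)⟩

end Groth.Agent.S4536
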