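import Groth.Statements.S4539
import Groth.Agent.Calg2.CohenRing
import Groth.Agent.Calg7.IdemLift
import Groth.Agent.Ega41Sep.Separable
import Mathlib.RingTheory.Flat.TorsionFree
import Mathlib.RingTheory.Localization.Submodule
import Mathlib.RingTheory.Flat.Localization
import Mathlib.RingTheory.Smooth.Field
open Groth.Ega41Sep

set_option autoImplicit false
universe u
open EGA41

namespace Groth.Agent.S4539

/-- A field extension of a perfect field is separable. -/
theorem isGeometricallyReduced_of_perfect (k K : Type) [Field k] [PerfectField k] [Field K] [Algebra k K] :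
    Algebra.IsGeometricallyReduced k K := by
  refine Algebra.IsGeometricallyReduced.of_forall_fg fun B hB => ?_
  haveI : Algebra.FiniteType k B := (Subalgebra.fg_iff_finiteType B).mp hB
  haveI : Algebra.EssFiniteType k (FractionRing B) := Algebra.EssFiniteType.comp k B (FractionRing B)
  haveI : Algebra.IsGeometricallyReduced k (FractionRing B) :=
    (formallySmooth_iff_isGeometricallyReduced k (FractionRing B)).mp inferInstance
  exact Algebra.IsGeometricallyReduced.of_injective (IsScalarTower.toAlgHom k B (FractionRing B))
    (IsFractionRing.injective B (FractionRing B))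

open IsLocalRing in
/-- Let A be a local ring with residue characteristic p (p = 0 or a prime), P the prime local ring ℤ_(p)
(ℚ if p = 0) and P → A its unique local homomorphism. Then A is a Cohen ring, i.e. a Cohen P-algebra
— Noetherian and complete, flat over P, with pA its maximal ideal (and residue field separable over
the prime field) — if and only if A is a field of characteristic 0 or a complete discrete valuation
ring of residue characteristic > 0 whose maximal ideal is generated by p·1. -/
theorem result (p : ℕ) [hp : (Ideal.span {(p : ℤ)}).IsPrime]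
    {A : Type} [CommRing A] [IsLocalRing A] [CharP (ResidueField A) p]
    [Algebra (Localization.AtPrime (Ideal.span {(p : ℤ)})) A]
    [IsLocalHom (algebraMap (Localization.AtPrime (Ideal.span {(p : ℤ)})) A)] :
    EGA41.IsCohenAlgebra (Localization.AtPrime (Ideal.span {(p : ℤ)})) A ↔ EGA41.IsCohenRingEGA A := by
  let I : Ideal ℤ := Ideal.span {(p : ℤ)}
  let P := Localization.AtPrime I
  have hmap : (maximalIdeal P).map (algebraMap P A) = Ideal.span {(p : A)} := by
    rw [← Localization.AtPrime.map_eq_maximalIdeal, Ideal.map_map, Ideal.map_span, Set.image_singleton, map_natCast]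
  have hpm : (p : A) ∈ maximalIdeal A := by
    rw [← residue_eq_zero_iff, map_natCast]; exact CharP.cast_eq_zero (ResidueField A) p
  have hp_or : p = 0 ∨ p.Prime := (CharP.char_is_prime_or_zero (ResidueField A) p).symm
  have hinjP : Function.Injective (algebraMap ℤ P) :=
    IsLocalization.injective P I.primeCompl_le_nonZeroDivisors
  constructor
  · rintro ⟨-, hN, hc, hflat, hm, -⟩
    haveI := hN; haveI := hc; haveI := hflat
    rw [hmap] at hm
    rcases hp_or with rfl | hp
    · rw [Nat.cast_zero, Ideal.span_singleton_eq_bot.mpr rfl] at hm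
      haveI : CharZero (ResidueField A) := CharP.charP_to_charZero _
      exact Or.inl ⟨IsLocalRing.isField_iff_maximalIdeal_eq.mpr hm.symm, ⟨fun a b hab => Nat.cast_injective (R := ResidueField A) (by
        rw [← map_natCast (residue A), ← map_natCast (residue A) b, hab])⟩⟩
    · refine Or.inr (Groth.Calg2.CohenRing.isCohenRing_of hp hm.symm fun x hx => ?_)
      have h1 : x ∈ Submodule.torsion P A := ⟨⟨(p : P), mem_nonZeroDivisors_of_ne_zero (by
        rw [← map_natCast (algebraMap ℤ P), map_ne_zero_iff _ hinjP]; exact_mod_cast hp.ne_zero)⟩, by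
        show (p : P) • x = 0
        rw [Algebra.smul_def, map_natCast, hx]⟩
      rwa [Module.Flat.torsion_eq_bot, Submodule.mem_bot] at h1
  · intro hA
    have hchar : ∀ (_ : IsDomain A), (p ≠ 0 → (p : A) ≠ 0) → CharZero A := fun _ hp => by
      obtain ⟨l, hl⟩ := CharP.exists A
      rcases CharP.char_is_prime_or_zero A l with hlp | rfl
      · exfalso
        have h1 : (l : ResidueField A) = 0 := by rw [← map_natCast (residue A), CharP.cast_eq_zero, map_zero]
        obtain ⟨c, hc⟩ := (CharP.cast_eq_zero_iff (ResidueField A) p l).1 h1
        rcases (Nat.dvd_prime hlp).1 ⟨c, hc⟩ with rfl | rfl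
        · exact one_ne_zero (α := ResidueField A) (by rw [← Nat.cast_one, CharP.cast_eq_zero])
        · exact hp hlp.ne_zero (CharP.cast_eq_zero A _)
      · exact CharP.charP_to_charZero A
    obtain ⟨hdom, hN, hc, hm, hp0⟩ : IsDomain A ∧ IsNoetherianRing A ∧ IsAdicComplete (maximalIdeal A) A ∧
        maximalIdeal A = Ideal.span {(p : A)} ∧ (p ≠ 0 → (p : A) ≠ 0) := by
      rcases hA with ⟨hF, hc⟩ | ⟨hdom, hdvr, hcomp, q, hq, hmq⟩
      · letI := hF.toField
        have hm := IsLocalRing.isField_iff_maximalIdeal_eq.mp hF
        have hp : (p : A) = 0 := by rwa [hm, Ideal.mem_bot] at hpm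
        refine ⟨inferInstance, inferInstance, Groth.Calg7.IdemLift.isAdicComplete_of_pow_eq_bot _ _ (N := 1) (by rw [pow_one, hm]), ?_, fun h => ?_⟩
        · rw [hm, hp, Ideal.span_singleton_eq_bot.mpr rfl]
        · exact absurd (by exact_mod_cast hp : p = 0) h
      · have h2 : (q : ResidueField A) = 0 := by
          rw [← map_natCast (residue A), residue_eq_zero_iff, hmq]; exact Ideal.mem_span_singleton_self _
        haveI : CharP (ResidueField A) q := (CharP.charP_iff_prime_eq_zero hq).2 h2
        have hqp : p = q := CharP.eq (ResidueField A) ‹CharP (ResidueField A) p› ‹CharP (ResidueField A) q›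
        subst hqp
        exact ⟨hdom, inferInstance, hcomp, hmq, fun _ h0 => IsDiscreteValuationRing.not_a_field A
          (by rw [hmq, h0]; exact Ideal.span_singleton_eq_bot.2 rfl)⟩
    haveI := hdom
    haveI := hchar hdom hp0
    refine ⟨IsLocalization.isNoetherianRing I.primeCompl P inferInstance, hN, hc, ?_, by rw [hmap, hm], ?_⟩
    · haveI : @IsScalarTower ℤ P A (Algebra.toSMul (R := ℤ) (A := P)) _ _ :=
        IsScalarTower.of_algebraMap_smul fun z x => by rw [eq_intCast, Int.cast_smul_eq_zsmul]
      rw [Module.flat_iff_of_isLocalization P I.primeCompl, Module.Flat.flat_iff_torsion_eq_bot_of_isBezout, eq_bot_iff]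
      rintro x ⟨⟨r, hr⟩, hx⟩
      have hx' : ((r : ℤ) : A) * x = 0 := by rw [← zsmul_eq_mul]; exact hx
      exact (mul_eq_zero.mp hx').resolve_left (Int.cast_ne_zero.mpr (nonZeroDivisors.ne_zero hr))
    · haveI : PerfectField (ResidueField P) := by
        rcases hp_or with hp | hp
        · haveI : CharP (ResidueField A) 0 := hp ▸ ‹CharP (ResidueField A) p›
          haveI : CharP (ResidueField P) 0 := (ResidueField.map (algebraMap P A)).charP (RingHom.injective _) 0
          haveI := CharP.charP_to_charZero (ResidueField P)
          infer_instance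
        · haveI : NeZero p := ⟨hp.ne_zero⟩
          haveI : Finite (ℤ ⧸ I) := Finite.of_equiv _ (Int.quotientSpanNatEquivZMod p).symm.toEquiv
          haveI : Finite (ResidueField P) := (inferInstance : Finite I.ResidueField)
          infer_instance
      exact isGeometricallyReduced_of_perfect (ResidueField P) (ResidueField A)

end Groth.Agent.S4539
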