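import Groth.Statements.S4543
import Groth.Agent.Ega41Adic.CompleteLift
import Mathlib.RingTheory.AdicCompletion.Functoriality
import Mathlib.RingTheory.Flat.EquationalCriterion
import Mathlib.RingTheory.Nakayama
open Groth.Ega41Adic

set_option autoImplicit false
universe u
open EGA41

namespace Groth.Agent.S4543

open IsLocalRing in
/-- Let A be a Noetherian ring, J an ideal of A, B and B' two A-algebras which are Noetherian local
rings, the structure maps being continuous for the J-adic topology on A (JB and JB' lie in the
maximal ideals); suppose B and B' are complete for the J-adic topologies, B is a formally smooth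
A-algebra for the J-adic topology on A and the JB-adic topology on B (nilpotent test ideals, test
algebras killed by a power of J, test maps killing a power of JB), and B' is a flat A-module. Then
every (A/J)-algebra isomorphism u₀ : B/JB ≅ B'/JB' comes from an A-algebra isomorphism u : B ≅ B' by
passing to quotients. (B is taken formally smooth for the JB-adic topology, the topology along which
the argument lifts B → B'/JB' to B'; read with the convention that a local ring carries the adic
topology of its maximal ideal, the published hypothesis would be formal smoothness for the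
maximal-ideal topology on B, a weaker condition when JB is strictly smaller than the maximal ideal,
and that reading is not what the argument establishes.) -/
theorem result {A B B' : Type u} [CommRing A] [IsNoetherianRing A] (J : Ideal A)
    [CommRing B] [IsLocalRing B] [IsNoetherianRing B] [Algebra A B]
    [CommRing B'] [IsLocalRing B'] [IsNoetherianRing B'] [Algebra A B']
    (hB : J.map (algebraMap A B) ≤ maximalIdeal B) (hB' : J.map (algebraMap A B') ≤ maximalIdeal B')
    [IsAdicComplete (J.map (algebraMap A B)) B] [IsAdicComplete (J.map (algebraMap A B')) B']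
    (hfs : EGA41.IsFormallySmoothAdic A J B (J.map (algebraMap A B))) [Module.Flat A B']
    (u₀ : (B ⧸ J.map (algebraMap A B)) ≃ₐ[A ⧸ J] (B' ⧸ J.map (algebraMap A B'))) :
    ∃ u : B ≃ₐ[A] B', ∀ b : B,
      Ideal.Quotient.mk (J.map (algebraMap A B')) (u b) = u₀ (Ideal.Quotient.mk (J.map (algebraMap A B)) b) := by
  classical
  set JB : Ideal B := J.map (algebraMap A B) with hJB
  set JB' : Ideal B' := J.map (algebraMap A B') with hJB'
  haveI hbot : IsHausdorff (JB'.map (Ideal.Quotient.mk JB')) (B' ⧸ JB') := by
    rw [Ideal.map_quotient_self]; exact inferInstance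
  let u : B →ₐ[A] B' ⧸ JB' := (u₀.toAlgHom.restrictScalars A).comp (Ideal.Quotient.mkₐ A JB)
  obtain ⟨v, -, hv⟩ := exists_lift_complete (𝔠 := JB') (J := JB') hfs ⟨1, by rw [pow_one]⟩ ⟨1, (pow_one JB').le⟩ u ⟨1, by
    rw [pow_one, Ideal.map_le_iff_le_comap]
    intro x hx
    rw [Ideal.mem_comap]
    show u₀ (Ideal.Quotient.mk JB x) ∈ _
    rw [Ideal.Quotient.eq_zero_iff_mem.mpr hx, map_zero]
    exact zero_mem _⟩
  have hvu : ∀ b, Ideal.Quotient.mk JB' (v b) = u₀ (Ideal.Quotient.mk JB b) := fun b => AlgHom.congr_fun hv b
  have hmap : JB.map v.toRingHom = JB' :=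
    (Ideal.map_map _ _).trans (congrArg (fun g => J.map g) v.comp_algebraMap)
  haveI : IsHausdorff (JB.map v.toRingHom) B' := by rw [hmap]; exact IsAdicComplete.toIsHausdorff
  have hsurj : Function.Surjective v := surjective_of_mk_map_comp_surjective (f := v.toRingHom) (I := JB) (by
    rw [hmap]
    intro y
    obtain ⟨x, hx⟩ := u₀.surjective y
    obtain ⟨b, rfl⟩ := Ideal.Quotient.mk_surjective x
    exact ⟨b, (hvu b).trans hx⟩)
  have hker : RingHom.ker v.toRingHom ≤ JB • RingHom.ker v.toRingHom := by
    intro x hx
    have hvx : v x = 0 := hx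
    have hxJ : x ∈ (J • ⊤ : Submodule A B) := by
      rw [Ideal.smul_top_eq_map]
      refine Ideal.Quotient.eq_zero_iff_mem.mp (u₀.injective ?_)
      rw [← hvu, hvx, map_zero, map_zero]
    obtain ⟨μ, hμ, rfl⟩ : ∃ μ : B →₀ A, (∀ y, μ y ∈ J) ∧ (μ.sum fun y r => r • y) = x := by
      clear hvx hx
      induction hxJ using Submodule.smul_induction_on' with
      | smul r hr y _ => exact ⟨Finsupp.single y r, fun z => by
          rw [Finsupp.single_apply]; split <;> simp [hr], Finsupp.sum_single_index (zero_smul A y)⟩
      | add x _ y _ hx hy =>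
        obtain ⟨μ, hμ, rfl⟩ := hx
        obtain ⟨ν, hν, rfl⟩ := hy
        exact ⟨μ + ν, fun z => add_mem (hμ z) (hν z),
          Finsupp.sum_add_index' (fun y => zero_smul A y) fun y r r' => add_smul r r' y⟩
    have hrel : ∑ i : μ.support, μ i • v (i : B) = 0 := by
      rw [Finset.sum_coe_sort μ.support (fun y : B => μ y • v y), ← hvx, Finsupp.sum, map_sum]
      simp only [map_smul]
    obtain ⟨L, C, z, hCz, hC⟩ := Module.Flat.isTrivialRelation_of_sum_smul_eq_zero hrel
    choose y hy using fun l => hsurj (z l)
    have hx' : (μ.sum fun y r => r • y) = ∑ i : μ.support, μ i • ((i : B) - ∑ l, C i l • y l) := by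
      simp only [smul_sub, Finset.sum_sub_distrib, Finset.smul_sum, smul_smul]
      rw [Finset.sum_comm (f := fun (i : μ.support) (l : Fin L) => (μ i * C i l) • y l)]
      simp only [← Finset.sum_smul, hC, zero_smul, Finset.sum_const_zero, sub_zero]
      exact (Finset.sum_coe_sort μ.support (fun y : B => μ y • y)).symm
    rw [hx']
    refine Submodule.sum_mem _ fun i _ => ?_
    rw [← IsScalarTower.algebraMap_smul B (μ (i : B)) (_ - _)]
    refine Submodule.smul_mem_smul (Ideal.mem_map_of_mem _ (hμ i)) ?_
    show v _ = 0
    rw [map_sub, map_sum, show v (i : B) = ∑ l, C i l • z l from hCz i, sub_eq_zero]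
    simp only [map_smul, hy]
  have hinj : Function.Injective v := by
    refine (RingHom.injective_iff_ker_eq_bot v.toRingHom).mpr ?_
    exact Submodule.eq_bot_of_le_smul_of_le_jacobson_bot JB _ (IsNoetherian.noetherian _) hker
      (hB.trans (IsLocalRing.maximalIdeal_le_jacobson _))
  exact ⟨AlgEquiv.ofBijective v ⟨hinj, hsurj⟩, hvu⟩

end Groth.Agent.S4543
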