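import Groth.Statements.S4545
import Groth.Agent.Ega41Sep.Admissible
import Groth.Agent.Ega41Rank.Index
import Mathlib.RingTheory.AdjoinRoot


set_option autoImplicit false
universe u
open EGA41

namespace Groth.Agent.S4545

open TensorProduct in
/-- Let K be a field of characteristic p > 0, k₀ a subfield and (k_α) a decreasing filtered family of
subfields of K containing k₀. Then ⋂_α k_α(K^p) = k₀(K^p) if and only if for every extension L of K
such that Υ_{L/K/k₀} has finite rank over L there is an α with k_α admissible for L over K relative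
to k₀, i.e. with Υ_{L/K/k₀} → Υ_{L/K/k_α} injective. (The published statement has two further
equivalent conditions; this row states (a) ⇔ (b).) -/
theorem result (p : ℕ) [Fact p.Prime] {k₀ K : Type u}
    [Field k₀] [Field K] [Algebra k₀ K] [CharP K p]
    {ι : Type u} [Preorder ι] [IsDirected ι (· ≤ ·)] [Nonempty ι] (k : ι → IntermediateField k₀ K) (hk : Antitone k) :
    (⨅ i, k i ⊔ IntermediateField.adjoin k₀ (Set.range fun y : K => y ^ p)) =
        IntermediateField.adjoin k₀ (Set.range fun y : K => y ^ p) ↔
      ∀ (L : Type u) [Field L] [Algebra K L] [Algebra k₀ L] [IsScalarTower k₀ K L],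
        Module.Finite L (EGA41.imperfection k₀ K L) →
          ∃ i, ∀ ω ∈ EGA41.imperfection k₀ K L,
            ((KaehlerDifferential.map k₀ (k i) K K).restrictScalars K).baseChange L ω = 0 → ω = 0 := by
  constructor
  · intro h L _ _ _ _ hfin
    exact Groth.Ega41Sep.Admissible.forall_eq_zero_of_iInf k hk h _ (Module.Finite.iff_fg.mp hfin)
  intro hL
  rw [Groth.Ega41Sep.Admissible.iInf_eq_iff k]
  intro y hy
  by_contra hne
  have hroot : ∀ b : K, b ^ p ≠ y := by
    intro b hb
    refine hne ((Groth.Ega41Sep.Admissible.D_eq_zero_iff (p := p) y).mpr ?_)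
    rw [← hb]
    exact Groth.Ega41Sep.pow_mem_pPower p k₀ b
  let f : Polynomial K := Polynomial.X ^ p - Polynomial.C y
  haveI : Fact (Irreducible f) := ⟨X_pow_sub_C_irreducible_of_prime (Fact.out : p.Prime) hroot⟩
  have hmon : f.Monic := Polynomial.monic_X_pow_sub_C y (Fact.out : p.Prime).ne_zero
  haveI : Module.Finite K (AdjoinRoot f) := hmon.finite_adjoinRoot
  haveI : CharP (AdjoinRoot f) p := charP_of_injective_algebraMap (algebraMap K (AdjoinRoot f)).injective p
  have hfin : Module.Finite (AdjoinRoot f) (EGA41.imperfection k₀ K (AdjoinRoot f)) :=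
    (Groth.Ega41Rank.index_essFiniteType k₀ K (AdjoinRoot f)).1.1
  obtain ⟨i, hi⟩ := hL (AdjoinRoot f) hfin
  have hz : AdjoinRoot.root f ^ p = algebraMap K (AdjoinRoot f) y := by
    have h := AdjoinRoot.eval₂_root f
    simp only [f, Polynomial.eval₂_sub, Polynomial.eval₂_X_pow, Polynomial.eval₂_C, sub_eq_zero] at h
    exact h
  have h1 : (1 : AdjoinRoot f) ⊗ₜ[K] KaehlerDifferential.D k₀ K y ∈ EGA41.imperfection k₀ K (AdjoinRoot f) := by
    rw [EGA41.imperfection, LinearMap.mem_ker, KaehlerDifferential.mapBaseChange_tmul, one_smul,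
      KaehlerDifferential.map_D, ← hz, Derivation.leibniz_pow, ← Nat.cast_smul_eq_nsmul (AdjoinRoot f),
      CharP.cast_eq_zero, zero_smul]
  have h2 := hi _ h1 (by
    rw [LinearMap.baseChange_tmul, LinearMap.restrictScalars_apply, KaehlerDifferential.map_D,
      Algebra.algebraMap_self, RingHom.id_apply, hy i, TensorProduct.tmul_zero])
  exact hne (Module.Flat.tensorProduct_mk_injective K (Ω[K⁄k₀]) (AdjoinRoot f)
    (h2.trans (TensorProduct.tmul_zero _ _).symm))

end Groth.Agent.S4545
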