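import Groth.Statements.S4546
import Groth.Agent.Ega41Sep.Admissible


set_option autoImplicit false
universe u
open EGA41

namespace Groth.Agent.S4546

/-- Let K be a field of characteristic p > 0, k₀ a subfield, (k_α) a decreasing filtered family of
subfields of K containing k₀ with ⋂_α k_α(K^p) = k₀(K^p). Then for every extension L of K such that
Υ_{L/K/k₀} has finite rank over L, one has ⋂_α k_α(L^p) = k₀(L^p) (the k_α being viewed inside L). -/
theorem result (p : ℕ) [Fact p.Prime] {k₀ K L : Type u}
    [Field k₀] [Field K] [Field L] [Algebra k₀ K] [Algebra K L] [Algebra k₀ L] [IsScalarTower k₀ K L] [CharP K p] [CharP L p]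
    {ι : Type u} [Preorder ι] [IsDirected ι (· ≤ ·)] [Nonempty ι] (k : ι → IntermediateField k₀ K) (hk : Antitone k)
    (h : (⨅ i, k i ⊔ IntermediateField.adjoin k₀ (Set.range fun y : K => y ^ p)) =
      IntermediateField.adjoin k₀ (Set.range fun y : K => y ^ p))
    [Module.Finite L (EGA41.imperfection k₀ K L)] :
    (⨅ i, (k i).map (IsScalarTower.toAlgHom k₀ K L) ⊔ IntermediateField.adjoin k₀ (Set.range fun y : L => y ^ p)) =
      IntermediateField.adjoin k₀ (Set.range fun y : L => y ^ p) := by
  rw [Groth.Ega41Sep.Admissible.iInf_eq_iff (fun i => (k i).map (IsScalarTower.toAlgHom k₀ K L))]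
  intro y hy
  let W : ι → Submodule L (TensorProduct K L (Ω[K⁄k₀])) := fun i =>
    LinearMap.ker (((KaehlerDifferential.map k₀ (k i) K K).restrictScalars K).baseChange L)
  let φ := KaehlerDifferential.mapBaseChange k₀ K L
  have hV : ∀ i, ∃ t ∈ W i, φ t = KaehlerDifferential.D k₀ L y := by
    intro i
    let V : Submodule L Ω[L⁄k₀] := (W i).map φ
    let F : IntermediateField k₀ L :=
      { carrier := {z | KaehlerDifferential.D k₀ L z ∈ V}
        add_mem' := fun {a b} ha hb => by
          simp only [Set.mem_setOf_eq, map_add] at *; exact add_mem ha hb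
        mul_mem' := fun {a b} ha hb => by
          simp only [Set.mem_setOf_eq, Derivation.leibniz] at *
          exact add_mem (V.smul_mem _ hb) (V.smul_mem _ ha)
        algebraMap_mem' := fun r => by
          simp only [Set.mem_setOf_eq, Derivation.map_algebraMap]; exact zero_mem _
        inv_mem' := fun a ha => by
          simp only [Set.mem_setOf_eq, Derivation.leibniz_inv] at *
          exact V.smul_mem _ ha }
    have hle : (k i).map (IsScalarTower.toAlgHom k₀ K L) ⊔
        IntermediateField.adjoin k₀ (Set.range fun y : L => y ^ p) ≤ F := by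
      refine sup_le ?_ (IntermediateField.adjoin_le_iff.mpr ?_)
      · rintro _ ⟨c, hc, rfl⟩
        refine ⟨1 ⊗ₜ[K] KaehlerDifferential.D k₀ K c, ?_, ?_⟩
        · have h0 : KaehlerDifferential.D (k i) K c = 0 := (KaehlerDifferential.D (k i) K).map_algebraMap ⟨c, hc⟩
          simp only [W, SetLike.mem_coe, LinearMap.mem_ker, LinearMap.baseChange_tmul, LinearMap.restrictScalars_apply,
            KaehlerDifferential.map_D, Algebra.algebraMap_self, RingHom.id_apply, h0, TensorProduct.tmul_zero]
        · show φ _ = _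
          simp only [φ, KaehlerDifferential.mapBaseChange_tmul, one_smul, KaehlerDifferential.map_D]
          rfl
      · rintro _ ⟨z, rfl⟩
        show KaehlerDifferential.D k₀ L (z ^ p) ∈ V
        rw [Derivation.leibniz_pow, ← Nat.cast_smul_eq_nsmul L, CharP.cast_eq_zero, zero_smul]
        exact zero_mem _
    have hyi := (Groth.Ega41Sep.Admissible.mem_pPower_iff_sup (p := p) _ y).mp
      ((Groth.Ega41Sep.Admissible.D_eq_zero_iff (p := p)
        (k₀ := (k i).map (IsScalarTower.toAlgHom k₀ K L)) y).mp (hy i))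
    exact hle hyi
  choose t ht hφ using hV
  obtain ⟨i₀, hi₀⟩ := Groth.Ega41Sep.Admissible.forall_eq_zero_of_iInf k hk h
    (EGA41.imperfection k₀ K L) (Module.Finite.iff_fg.mp inferInstance)
  have hall : ∀ i, t i₀ ∈ W i := by
    intro i
    obtain ⟨l, hl, hl₀⟩ := exists_ge_ge i i₀
    have hmono : ∀ a b, a ≤ b → ∀ ω ∈ W b, ω ∈ W a := fun a b hab ω hω =>
      Groth.Ega41Sep.Admissible.baseChange_map_eq_zero_of_le (k b) (k a) (hk hab) ω hω
    have h1 : t l - t i₀ ∈ EGA41.imperfection k₀ K L := by
      show φ (t l - t i₀) = 0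
      rw [map_sub, hφ, hφ, sub_self]
    have h2 := hi₀ _ h1 (sub_mem (hmono _ _ hl₀ _ (ht l)) (ht i₀))
    rw [← sub_eq_zero.mp h2]
    exact hmono _ _ hl _ (ht l)
  obtain ⟨i₁, hi₁⟩ := Groth.Ega41Sep.Admissible.forall_eq_zero_of_iInf k hk h
    (Submodule.span L {t i₀}) (Submodule.fg_span_singleton _)
  rw [← hφ i₀, hi₁ _ (Submodule.mem_span_singleton_self _) (hall i₁), map_zero]

end Groth.Agent.S4546
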