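import Groth.Statements.S4547
import Groth.Agent.Ega41Adic.SplitInj
import Mathlib.RingTheory.Spectrum.Prime.Topology
open Groth.Ega41Adic

set_option autoImplicit false
universe u
open EGA41

namespace Groth.Agent.S4547

open IsLocalRing TensorProduct in
/-- Let A be a local ring with residue field k, M an A-module of finite type, N a projective A-module
and u : M → N a homomorphism. Then u is left invertible if and only if there is a finite system of
generators (x_i) of M such that the elements 1 ⊗ u(x_i) of k ⊗_A N are linearly independent over k;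
and such a system (x_i) is then a basis of M. -/
theorem result {A : Type u} [CommRing A] [IsLocalRing A] {M N : Type u}
    [AddCommGroup M] [Module A M] [Module.Finite A M] [AddCommGroup N] [Module A N] [Module.Projective A N]
    (u : M →ₗ[A] N) :
    ((∃ w : N →ₗ[A] M, w ∘ₗ u = LinearMap.id) ↔
      ∃ (m : ℕ) (x : Fin m → M), Submodule.span A (Set.range x) = ⊤ ∧
        LinearIndependent (ResidueField A) (fun i => (1 : ResidueField A) ⊗ₜ[A] u (x i))) ∧
    ∀ (m : ℕ) (x : Fin m → M), Submodule.span A (Set.range x) = ⊤ →
      LinearIndependent (ResidueField A) (fun i => (1 : ResidueField A) ⊗ₜ[A] u (x i)) →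
        ∃ b : Module.Basis (Fin m) A M, ∀ i, b i = x i := by
  have hiff : (∃ w : N →ₗ[A] M, w ∘ₗ u = LinearMap.id) ↔ Function.Injective (u.lTensor (ResidueField A)) := by
    obtain ⟨n, f, g, s, hg, hs⟩ := exists_finite_free_factor u
    rw [leftInverse_iff_one, splitBy_iff_of_factor hg hs, ← leftInverse_iff_one,
      IsLocalRing.split_injective_iff_lTensor_residueField_injective]
    refine ⟨fun h => ?_, fun h => ?_⟩
    · have : f.lTensor (ResidueField A) = (s.lTensor (ResidueField A)) ∘ₗ (u.lTensor (ResidueField A)) := by
        rw [← LinearMap.lTensor_comp, hs]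
      rw [this, LinearMap.coe_comp] at h
      exact h.of_comp
    · have : u.lTensor (ResidueField A) = (g.lTensor (ResidueField A)) ∘ₗ (f.lTensor (ResidueField A)) := by
        rw [← LinearMap.lTensor_comp, hg]
      rw [this, LinearMap.coe_comp] at h
      exact h.of_comp
  have hbasis : ∀ (m : ℕ) (x : Fin m → M), Submodule.span A (Set.range x) = ⊤ →
      LinearIndependent (ResidueField A) (fun i => (1 : ResidueField A) ⊗ₜ[A] u (x i)) →
      (∃ w : N →ₗ[A] M, w ∘ₗ u = LinearMap.id) ∧ ∃ b : Module.Basis (Fin m) A M, ∀ i, b i = x i := by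
    intro m x hspan hli
    let q : (Fin m → A) →ₗ[A] M := Fintype.linearCombination A x
    have hq : Function.Surjective q := by
      rw [← LinearMap.range_eq_top, Fintype.range_linearCombination, hspan]
    have hinj : Function.Injective ((u ∘ₗ q).lTensor (ResidueField A)) := by
      have he : ∀ c : Fin m → ResidueField A, (u ∘ₗ q).lTensor (ResidueField A)
          (∑ i, c i ⊗ₜ Pi.single i 1) = ∑ i, c i • ((1 : ResidueField A) ⊗ₜ[A] u (x i)) := fun c => by
        simp [q, Fintype.linearCombination_apply_single, TensorProduct.smul_tmul']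
      have hsurj : ∀ z : ResidueField A ⊗[A] (Fin m → A), ∃ c : Fin m → ResidueField A, z = ∑ i, c i ⊗ₜ Pi.single i 1 := by
        intro z
        induction z with
        | zero => exact ⟨0, by simp⟩
        | add a b ha hb =>
            obtain ⟨c, rfl⟩ := ha; obtain ⟨e, rfl⟩ := hb
            exact ⟨c + e, by simp [TensorProduct.add_tmul, Finset.sum_add_distrib]⟩
        | tmul r v =>
            refine ⟨fun i => v i • r, ?_⟩
            conv_lhs => rw [← Finset.univ_sum_single v, TensorProduct.tmul_sum]
            refine Finset.sum_congr rfl fun i _ => ?_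
            rw [TensorProduct.smul_tmul, ← Pi.single_smul', smul_eq_mul, mul_one]
      rw [injective_iff_map_eq_zero]
      intro z hz
      obtain ⟨c, rfl⟩ := hsurj z
      rw [he] at hz
      simp [Fintype.linearIndependent_iff.mp hli c hz]
    have hu : Function.Injective (u.lTensor (ResidueField A)) := by
      rw [LinearMap.lTensor_comp, LinearMap.coe_comp] at hinj
      exact Function.Injective.of_comp_right hinj (LinearMap.lTensor_surjective _ hq)
    refine ⟨hiff.mpr hu, ?_⟩
    obtain ⟨n, f, g, s, hg, hs⟩ := exists_finite_free_factor (u ∘ₗ q)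
    have hfinj : Function.Injective (f.lTensor (ResidueField A)) := by
      have : (u ∘ₗ q).lTensor (ResidueField A) = (g.lTensor (ResidueField A)) ∘ₗ (f.lTensor (ResidueField A)) := by
        rw [← LinearMap.lTensor_comp, hg]
      rw [this, LinearMap.coe_comp] at hinj
      exact hinj.of_comp
    obtain ⟨l, hl⟩ := (IsLocalRing.split_injective_iff_lTensor_residueField_injective f).mpr hfinj
    have hqinj : Function.Injective q := by
      intro a b hab
      have h1 := LinearMap.congr_fun hl a
      have h2 := LinearMap.congr_fun hl b
      rw [← hs] at h1 h2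
      simp only [LinearMap.comp_apply, hab, LinearMap.id_apply] at h1 h2
      exact h1.symm.trans h2
    refine ⟨(Pi.basisFun A (Fin m)).map (LinearEquiv.ofBijective q ⟨hqinj, hq⟩), fun i => ?_⟩
    rw [Module.Basis.map_apply, Pi.basisFun_apply]
    show q (Pi.single i 1) = x i
    exact (Fintype.linearCombination_apply_single A x i 1).trans (one_smul A _)
  refine ⟨⟨fun h => ?_, fun ⟨m, x, h1, h2⟩ => (hbasis m x h1 h2).1⟩, fun m x h1 h2 => (hbasis m x h1 h2).2⟩
  haveI : Module.Projective A M := by
    obtain ⟨w, hw⟩ := h
    exact Module.Projective.of_split u w hw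
  haveI : Module.Free A M := Module.free_of_flat_of_isLocalRing
  let b := (Module.Free.chooseBasis A M).reindex (Fintype.equivFin _)
  refine ⟨_, b, b.span_eq, ?_⟩
  have hb := (b.baseChange (ResidueField A)).linearIndependent.map' (u.baseChange (ResidueField A))
    (LinearMap.ker_eq_bot.mpr (hiff.mp h))
  have hfun : (fun i => (1 : ResidueField A) ⊗ₜ[A] u (b i)) =
      u.baseChange (ResidueField A) ∘ b.baseChange (ResidueField A) := funext fun i => by simp
  rw [hfun]
  exact hb

end Groth.Agent.S4547
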