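import Groth.Statements.S4548
import Groth.Agent.Ega41Flat.SeriesSubfield
import Groth.Agent.Ega41Sep.Admissible
import Mathlib.RingTheory.MvPowerSeries.Equiv
import Mathlib.RingTheory.Noetherian.Basic

set_option autoImplicit false
universe u
open EGA41

namespace Groth.Agent.S4548

open MvPowerSeries

variable {p : ℕ} [hp : Fact p.Prime] {k : Type u} [Field k] [CharP k p]

/-- Cofinite subfields meeting in the `p`-th powers. -/
theorem exists_family : ∃ (ι : Type u) (_ : Nonempty ι) (F : ι → Subfield k),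
    (∀ a b, ∃ c, F c ≤ F a ⊓ F b) ∧ (∀ i (x : k), x ^ p ∈ F i) ∧ (∀ i, Module.Finite (F i) k) ∧
    (∀ y, (∀ i, y ∈ F i) → ∃ z, z ^ p = y) := by
  classical
  let k₀ := (frobenius k p).fieldRange
  obtain ⟨T, hT⟩ := Groth.Ega41Sep.exists_isPBasis p k₀ k
  obtain ⟨b, hb⟩ := Groth.Ega41Sep.isPBasis_iff_basis.mp hT
  let F : Finset T → IntermediateField k₀ k := fun S =>
    IntermediateField.adjoin k₀ {z | ∃ t : T, t ∉ S ∧ (t : k) = z}
  have hpow : ∀ S (x : k), x ^ p ∈ F S := fun S x => (F S).algebraMap_mem (⟨x ^ p, ⟨x, rfl⟩⟩ : k₀)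
  refine ⟨Finset T, ⟨∅⟩, fun S => (F S).toSubfield, fun a b => ⟨a ∪ b, le_inf ?_ ?_⟩, fun S x => hpow S x,
    fun S => ?_, fun y hy => ?_⟩
  · exact IntermediateField.adjoin.mono k₀ _ _ (by
      rintro _ ⟨t, ht, rfl⟩; exact ⟨t, fun h => ht (Finset.mem_union_left _ h), rfl⟩)
  · exact IntermediateField.adjoin.mono k₀ _ _ (by
      rintro _ ⟨t, ht, rfl⟩; exact ⟨t, fun h => ht (Finset.mem_union_right _ h), rfl⟩)
  · show Module.Finite (F S) k
    haveI : Algebra.IsIntegral (F S) k := ⟨fun z =>
      IsIntegral.of_pow hp.out.pos (isIntegral_algebraMap (R := F S) (A := k) (x := ⟨z ^ p, hpow S z⟩))⟩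
    let S' : Finset k := S.image Subtype.val
    have htop : Algebra.adjoin (F S) (S' : Set k) = ⊤ := by
      rw [eq_top_iff]
      intro z _
      have hz : z ∈ Algebra.adjoin (EGA41.pPowerSubalgebra p k₀ k) (Set.range fun t : T => (t : k)) := by
        rw [Groth.Ega41Sep.isPGenerating_iff_adjoin.mp hT.2]; trivial
      induction hz using Algebra.adjoin_induction with
      | mem w hw =>
          obtain ⟨t, rfl⟩ := hw
          by_cases ht : t ∈ S
          · exact Algebra.subset_adjoin (Finset.mem_coe.mpr (Finset.mem_image_of_mem _ ht))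
          · exact (Algebra.adjoin (F S) (S' : Set k)).algebraMap_mem
              (⟨t, IntermediateField.subset_adjoin k₀ _ ⟨t, ht, rfl⟩⟩ : F S)
      | algebraMap r =>
          have hr : (r : k) ∈ F S := by
            have := (Groth.Ega41Sep.Admissible.mem_pPower_iff (p := p) _).mp r.2
            exact (IntermediateField.adjoin_le_iff.mpr (by rintro _ ⟨x, rfl⟩; exact hpow S x)) this
          exact (Algebra.adjoin (F S) (S' : Set k)).algebraMap_mem ⟨r, hr⟩
      | add a c _ _ ha hc => exact add_mem (ha trivial) (hc trivial)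
      | mul a c _ _ ha hc => exact mul_mem (ha trivial) (hc trivial)
    haveI : Algebra.FiniteType (F S) k := ⟨⟨S', htop⟩⟩
    exact Algebra.IsIntegral.finite
  · let S₀ := (b.repr (KaehlerDifferential.D k₀ k y)).support
    have hmem : KaehlerDifferential.D k₀ k y ∈ Submodule.span k (b '' {t | t ∉ S₀}) := by
      have hle : ∀ z ∈ F S₀, KaehlerDifferential.D k₀ k z ∈ Submodule.span k (b '' {t | t ∉ S₀}) := by
        let V := Submodule.span k (b '' {t : T | t ∉ S₀})
        let G : IntermediateField k₀ k :=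
          { carrier := {z | KaehlerDifferential.D k₀ k z ∈ V}
            add_mem' := fun {x y} hx hy => by
              simp only [Set.mem_setOf_eq, map_add] at *; exact add_mem hx hy
            mul_mem' := fun {x y} hx hy => by
              simp only [Set.mem_setOf_eq, Derivation.leibniz] at *
              exact add_mem (V.smul_mem _ hy) (V.smul_mem _ hx)
            algebraMap_mem' := fun r => by
              simp only [Set.mem_setOf_eq, Derivation.map_algebraMap]; exact zero_mem _
            inv_mem' := fun a ha => by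
              simp only [Set.mem_setOf_eq, Derivation.leibniz_inv] at *
              exact V.smul_mem _ ha }
        intro z hz
        refine (IntermediateField.adjoin_le_iff.mpr ?_ : F S₀ ≤ G) hz
        rintro _ ⟨t, ht, rfl⟩
        exact Submodule.subset_span ⟨t, ht, hb t⟩
      exact hle y (hy S₀)
    rw [Module.Basis.mem_span_image] at hmem
    have h0 : KaehlerDifferential.D k₀ k y = 0 := by
      refine b.repr.map_eq_zero_iff.mp (Finsupp.ext fun t => ?_)
      by_contra ht
      exact hmem (Finsupp.mem_support_iff.mpr ht) (Finsupp.mem_support_iff.mpr ht)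
    have h1 := (Groth.Ega41Sep.Admissible.mem_pPower_iff (p := p) y).mp
      ((Groth.Ega41Sep.Admissible.D_eq_zero_iff (p := p) y).mp h0)
    have hbot : IntermediateField.adjoin k₀ (Set.range fun x : k => x ^ p) ≤ ⊥ :=
      IntermediateField.adjoin_le_iff.mpr (by
        rintro _ ⟨x, rfl⟩; exact IntermediateField.mem_bot.mpr ⟨⟨x ^ p, ⟨x, rfl⟩⟩, rfl⟩)
    obtain ⟨⟨w, z, rfl⟩, rfl⟩ := IntermediateField.mem_bot.mp (hbot h1)
    exact ⟨z, rfl⟩

variable {σ : Type} [Finite σ]

/-- `F[[T^p]] → k[[T]]`. -/
noncomputable def powEmb (F : Subfield k) : MvPowerSeries σ F →+* MvPowerSeries σ k :=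
  (MvPowerSeries.map F.subtype).comp (expand p hp.out.ne_zero).toRingHom

omit [Finite σ] [CharP k p] in
theorem coeff_powEmb_smul (F : Subfield k) (g : MvPowerSeries σ F) (n : σ →₀ ℕ) :
    coeff (p • n) (powEmb (p := p) F g) = ((coeff n g : F) : k) := by
  show coeff (p • n) (MvPowerSeries.map F.subtype (expand p hp.out.ne_zero g)) = _
  rw [coeff_map, coeff_expand_smul]; rfl

omit [Finite σ] [CharP k p] in
theorem coeff_powEmb_of_not_dvd (F : Subfield k) (g : MvPowerSeries σ F) {n : σ →₀ ℕ} {i : σ}
    (h : ¬ p ∣ n i) : coeff n (powEmb (p := p) F g) = 0 := by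
  show coeff n (MvPowerSeries.map F.subtype (expand p hp.out.ne_zero g)) = _
  rw [coeff_map, coeff_expand_of_not_dvd p _ g h, map_zero]

omit [Finite σ] [CharP k p] in
theorem mem_range_powEmb {F : Subfield k} {f : MvPowerSeries σ k} (hF : ∀ n, coeff n f ∈ F)
    (hP : ∀ n, coeff n f ≠ 0 → ∀ i, p ∣ n i) : f ∈ (powEmb (p := p) (σ := σ) F).range := by
  let g : MvPowerSeries σ F := fun n => ⟨coeff (p • n) f, hF _⟩
  refine ⟨g, ?_⟩
  ext n
  by_cases h : ∀ i, p ∣ n i
  · obtain ⟨m, rfl⟩ : ∃ m, n = p • m := ⟨n.mapRange (· / p) (Nat.zero_div p),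
      Finsupp.ext fun i => by simp [Nat.mul_div_cancel' (h i)]⟩
    rw [coeff_powEmb_smul]; rfl
  · push Not at h
    obtain ⟨i, hi⟩ := h
    rw [coeff_powEmb_of_not_dvd F _ hi]
    by_contra hne
    exact hi (hP n (Ne.symm hne) i)

omit [CharP k p] in
theorem free_finite (F : Subfield k) [Module.Finite F k] :
    Module.Free (powEmb (p := p) (σ := σ) F).range (MvPowerSeries σ k) ∧
      Module.Finite (powEmb (p := p) (σ := σ) F).range (MvPowerSeries σ k) := by
  classical
  haveI := Fintype.ofFinite σ
  let R := (powEmb (p := p) (σ := σ) F).range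
  let bk := Module.finBasis F k
  let N := Module.finrank F k
  let fs : (σ → Fin p) → σ →₀ ℕ := fun a => Finsupp.equivFunOnFinite.symm fun i => (a i : ℕ)
  let e : Fin N × (σ → Fin p) → MvPowerSeries σ k := fun x => monomial (fs x.2) (bk x.1)
  have key : ∀ (g : MvPowerSeries σ F) (x : Fin N × (σ → Fin p)) (n : σ →₀ ℕ) (a : σ → Fin p),
      coeff (p • n + fs a) (powEmb (p := p) F g * e x) = if x.2 = a then ((coeff n g : F) : k) * bk x.1 else 0 := by
    intro g x n a
    rw [coeff_mul_monomial]
    by_cases hxa : x.2 = a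
    · rw [if_pos hxa, hxa, if_pos le_add_self, add_tsub_cancel_right, coeff_powEmb_smul]
    · rw [if_neg hxa]
      split_ifs with hle
      · obtain ⟨i, hi⟩ := Function.ne_iff.mp hxa
        rw [coeff_powEmb_of_not_dvd F g (i := i), zero_mul]
        intro hdvd
        obtain ⟨c, hc⟩ := hdvd
        have h1 := hle i
        simp only [fs, Finsupp.tsub_apply, Finsupp.add_apply, Finsupp.smul_apply, smul_eq_mul,
          Finsupp.equivFunOnFinite_symm_apply_apply] at hc h1
        refine hi (Fin.ext ?_)
        have h2 := (x.2 i).2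
        have h3 := (a i).2
        have h4 : p * n i + (a i : ℕ) = p * c + (x.2 i : ℕ) := by omega
        have h5 := congrArg (· % p) h4
        simpa [Nat.mul_add_mod, Nat.mod_eq_of_lt h2, Nat.mod_eq_of_lt h3] using h5.symm
      · rfl
  have hsum : ∀ (g : Fin N × (σ → Fin p) → MvPowerSeries σ F) (n : σ →₀ ℕ) (a : σ → Fin p),
      coeff (p • n + fs a) (∑ x, powEmb (p := p) F (g x) * e x) = ∑ j, (coeff n (g (j, a))) • bk j := by
    intro g n a
    rw [map_sum, Fintype.sum_prod_type]
    refine Finset.sum_congr rfl fun j _ => ?_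
    rw [Finset.sum_eq_single a (fun b _ hb => by rw [key, if_neg hb]) (fun h => absurd (Finset.mem_univ a) h),
      key, if_pos rfl]
    rfl
  have hli : LinearIndependent R e := by
    rw [Fintype.linearIndependent_iff]
    intro c hc x
    choose g hg using fun y => (c y).2
    have h0 : ∑ y, powEmb (p := p) F (g y) * e y = 0 := by
      rw [← hc]; exact Finset.sum_congr rfl fun y _ => by rw [hg]; rfl
    have hgx : g x = 0 := by
      ext n : 1
      have h := hsum g n x.2
      rw [h0, map_zero] at h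
      rw [map_zero]
      exact Fintype.linearIndependent_iff.mp bk.linearIndependent _ h.symm x.1
    exact Subtype.ext (by rw [← hg, hgx, map_zero]; rfl)
  have hspan : ⊤ ≤ Submodule.span R (Set.range e) := by
    intro f _
    let g : Fin N × (σ → Fin p) → MvPowerSeries σ F := fun x n => bk.repr (coeff (p • n + fs x.2) f) x.1
    have hf : f = ∑ x, powEmb (p := p) F (g x) * e x := by
      ext m
      let n : σ →₀ ℕ := m.mapRange (· / p) (Nat.zero_div p)
      let a : σ → Fin p := fun i => ⟨m i % p, Nat.mod_lt _ hp.out.pos⟩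
      have hm : m = p • n + fs a := Finsupp.ext fun i => by simp [n, a, fs, Nat.div_add_mod]
      rw [hm, hsum]
      exact (bk.sum_repr _).symm
    rw [hf]
    refine Submodule.sum_mem _ fun x _ => ?_
    exact Submodule.smul_mem _ (⟨_, g x, rfl⟩ : R) (Submodule.subset_span ⟨x, rfl⟩)
  exact ⟨Module.Free.of_basis (Module.Basis.mk hli hspan), Module.Finite.of_basis (Module.Basis.mk hli hspan)⟩

/-- Let k be a field of characteristic p > 0, A = k[[T_1, …, T_r]] and K its field of fractions. Then
there is a decreasing filtered family (A_α) of Noetherian subrings of A (rendered: a nonempty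
family, directed downwards for inclusion) such that A is a free A_α-module of finite type for every
α and, K_α denoting the subfield of K generated by A_α (its field of fractions inside K), ⋂_α K_α =
K^p. -/
theorem result (p : ℕ) [Fact p.Prime] (k : Type u) [Field k] [CharP k p]
    (r : ℕ) :
    ∃ (ι : Type u) (_ : Nonempty ι) (S : ι → Subring (MvPowerSeries (Fin r) k)),
      (∀ a b : ι, ∃ c, S c ≤ S a ⊓ S b) ∧
      (∀ i, IsNoetherianRing (S i) ∧ Module.Free (S i) (MvPowerSeries (Fin r) k) ∧ Module.Finite (S i) (MvPowerSeries (Fin r) k)) ∧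
      ((⨅ i, Subfield.closure (algebraMap (MvPowerSeries (Fin r) k) (FractionRing (MvPowerSeries (Fin r) k)) '' (S i)) :
          Set (FractionRing (MvPowerSeries (Fin r) k)))) =
        Set.range fun x : FractionRing (MvPowerSeries (Fin r) k) => x ^ p := by
  classical
  let A := MvPowerSeries (Fin r) k
  let φ : A →+* FractionRing A := algebraMap A (FractionRing A)
  have hφ : Function.Injective φ := IsFractionRing.injective A _
  obtain ⟨ι, hne, F, hdir, hpow, hfin, hinf⟩ := exists_family (p := p) (k := k)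
  let S : ι → Subring A := fun i => (powEmb (p := p) (σ := Fin r) (F i)).range
  have hS : ∀ i (f : A), f ∈ S i → (∀ n, MvPowerSeries.coeff n f ∈ F i) ∧
      ∀ n, MvPowerSeries.coeff n f ≠ 0 → ∀ j, p ∣ n j := by
    rintro i _ ⟨g, rfl⟩
    refine ⟨fun n => ?_, fun n hn j => by_contra fun h => hn (coeff_powEmb_of_not_dvd (F i) g h)⟩
    show MvPowerSeries.coeff n (MvPowerSeries.map (F i).subtype _) ∈ F i
    rw [MvPowerSeries.coeff_map]; exact SetLike.coe_mem _
  have hppow : ∀ i (f : A), f ^ p ∈ S i := by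
    intro i f
    refine mem_range_powEmb (fun n => ?_) (fun n hn j => ?_)
    · have := Groth.Ega41Flat.coeff_pow_expChar p 1 (F i) (by simpa using hpow i) f n
      rwa [pow_one] at this
    · by_contra hj
      refine hn ?_
      rw [← MvPowerSeries.map_frobenius_expand p (Fact.out : p.Prime).ne_zero, MvPowerSeries.coeff_map,
        MvPowerSeries.coeff_expand_of_not_dvd p _ f hj, map_zero]
  refine ⟨ι, hne, S, fun a b => ?_, fun i => ?_, Set.Subset.antisymm ?_ ?_⟩
  · obtain ⟨c, hc⟩ := hdir a b
    exact ⟨c, fun f hf => ⟨mem_range_powEmb (fun n => (le_inf_iff.mp hc).1 ((hS c f hf).1 n)) (hS c f hf).2,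
      mem_range_powEmb (fun n => (le_inf_iff.mp hc).2 ((hS c f hf).1 n)) (hS c f hf).2⟩⟩
  · haveI := hfin i
    exact ⟨isNoetherianRing_range _, free_finite (p := p) (σ := Fin r) (F i)⟩
  · intro x hx
    simp only [Set.iInf_eq_iInter, Set.mem_iInter] at hx
    choose h hh b hb hb0 heq using fun i =>
      Groth.Ega41Flat.exists_eq_div φ hφ (S i) p (Fact.out : p.Prime).one_lt.le (hx i)
    let i₀ := hne.some
    let cast : (Fin r →₀ ℕ) →+ (Fin r →₀ ℤ) := Finsupp.mapRange.addMonoidHom (Nat.castAddMonoidHom ℤ)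
    let P : AddSubgroup (Fin r →₀ ℤ) :=
      { carrier := {n | ∀ j, (p : ℤ) ∣ n j}
        add_mem' := fun {a c} ha hc j => dvd_add (ha j) (hc j)
        zero_mem' := fun j => dvd_zero _
        neg_mem' := fun {a} ha j => (ha j).neg_right }
    have hP : ∀ n, cast n ∈ P ↔ ∀ j, p ∣ n j := fun n =>
      forall_congr' fun j => by simp [cast, Int.natCast_dvd_natCast]
    have hall : ∀ i n, MvPowerSeries.coeff n (h i₀) ∈ F i ∧
        (MvPowerSeries.coeff n (h i₀) ≠ 0 → ∀ j, p ∣ n j) := by
      intro i n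
      have hcross : h i₀ * b i ^ p = h i * b i₀ ^ p := hφ (by rw [map_mul, map_mul, ← heq, ← heq]; ring)
      have hmem : h i₀ * b i ^ p ∈ S i := hcross ▸ (S i).mul_mem (hh i) (hppow i _)
      have := Groth.Ega41Flat.coeff_mem_of_mul (F i) P cast (h i₀) (b i ^ p) (pow_ne_zero _ (hb0 i))
        (hS i _ (hppow i _)).1 (fun m hm => (hP m).mpr ((hS i _ (hppow i _)).2 m hm))
        (hS i _ hmem).1 (fun m hm => (hP m).mpr ((hS i _ hmem).2 m hm)) n
      exact ⟨this.1, fun hn => (hP n).mp (this.2 hn)⟩
    choose z hz using fun n : Fin r →₀ ℕ => hinf (MvPowerSeries.coeff (p • n) (h i₀)) fun i => (hall i _).1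
    let g : A := z
    have hg : g ^ p = h i₀ := by
      ext m
      rw [← MvPowerSeries.map_frobenius_expand p (Fact.out : p.Prime).ne_zero, MvPowerSeries.coeff_map]
      by_cases hm : ∀ j, p ∣ m j
      · obtain ⟨n, rfl⟩ : ∃ n, m = p • n := ⟨m.mapRange (· / p) (Nat.zero_div p),
          Finsupp.ext fun j => by simp [Nat.mul_div_cancel' (hm j)]⟩
        rw [MvPowerSeries.coeff_expand_smul, frobenius_def]
        exact hz n
      · push Not at hm
        obtain ⟨j, hj⟩ := hm
        rw [MvPowerSeries.coeff_expand_of_not_dvd p _ _ hj, map_zero]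
        exact (by_contra fun hn => hj ((hall i₀ m).2 (Ne.symm hn) j))
    refine ⟨φ g / φ (b i₀), ?_⟩
    show (φ g / φ (b i₀)) ^ p = x
    rw [div_pow, ← map_pow, ← map_pow, hg, ← heq,
      mul_div_cancel_right₀ _ ((map_ne_zero_iff φ hφ).mpr (pow_ne_zero _ (hb0 i₀)))]
  · rintro _ ⟨x, rfl⟩
    simp only [Set.iInf_eq_iInter, Set.mem_iInter]
    intro i
    obtain ⟨a, c, -, rfl⟩ := IsFractionRing.div_surjective A x
    show (φ a / φ c) ^ p ∈ Subfield.closure (φ '' (S i : Set A))
    rw [div_pow, ← map_pow, ← map_pow]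
    exact div_mem (Subfield.subset_closure ⟨_, hppow i a, rfl⟩) (Subfield.subset_closure ⟨_, hppow i c, rfl⟩)

end Groth.Agent.S4548
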