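import Groth.Statements.S4549
import Groth.Agent.Ega41Sep.Admissible


set_option autoImplicit false
universe u
open EGA41

namespace Groth.Agent.S4549

open TensorProduct in
/-- Let K be a field of characteristic p, k₀ a subfield and L an extension of K such that Υ_{L/K/k₀} has
finite rank over L. Then there is a subfield k of K containing k₀(K^p), with [K : k] finite, which
is k₀-admissible for the extension L of K, i.e. such that Υ_{L/K/k₀} → Υ_{L/K/k} is injective. (The
published statement uses the characteristic exponent and so also covers characteristic 0, where k =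
K works; this row treats characteristic p > 0.) -/
theorem result (p : ℕ) [Fact p.Prime] {k₀ K L : Type u} [Field k₀] [Field K] [Field L]
    [Algebra k₀ K] [Algebra K L] [Algebra k₀ L] [IsScalarTower k₀ K L] [CharP K p]
    [Module.Finite L (EGA41.imperfection k₀ K L)] :
    ∃ k : IntermediateField k₀ K, (∀ y : K, y ^ p ∈ k) ∧ Module.Finite k K ∧
      ∀ ω ∈ EGA41.imperfection k₀ K L,
        ((KaehlerDifferential.map k₀ k K K).restrictScalars K).baseChange L ω = 0 → ω = 0 := by
  classical
  obtain ⟨T, hT⟩ := Groth.Ega41Sep.exists_isPBasis p k₀ K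
  obtain ⟨b, hb⟩ := Groth.Ega41Sep.isPBasis_iff_basis.mp hT
  obtain ⟨E, hE, hUE⟩ := Groth.Ega41Sep.Admissible.exists_fg_le_range_baseChange
    (EGA41.imperfection k₀ K L) (Module.Finite.iff_fg.mp inferInstance)
  obtain ⟨G, rfl⟩ := hE
  let S : Finset T := G.biUnion fun g => (b.repr g).support
  let gens : Set K := (Set.range fun y : K => y ^ p) ∪ {z | ∃ t : T, t ∉ S ∧ (t : K) = z}
  let k' : IntermediateField k₀ K := IntermediateField.adjoin k₀ gens
  have hpow : ∀ y : K, y ^ p ∈ k' := fun y => IntermediateField.subset_adjoin k₀ _ (Or.inl ⟨y, rfl⟩)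
  refine ⟨k', hpow, ?_, ?_⟩
  · haveI : Algebra.IsIntegral k' K := ⟨fun z =>
      IsIntegral.of_pow (Fact.out : p.Prime).pos (isIntegral_algebraMap (R := k') (A := K) (x := ⟨z ^ p, hpow z⟩))⟩
    let S' : Finset K := S.image Subtype.val
    have htop : Algebra.adjoin k' (S' : Set K) = ⊤ := by
      rw [eq_top_iff]
      intro z _
      have hz : z ∈ Algebra.adjoin (EGA41.pPowerSubalgebra p k₀ K) (Set.range fun t : T => (t : K)) := by
        rw [Groth.Ega41Sep.isPGenerating_iff_adjoin.mp hT.2]; trivial
      induction hz using Algebra.adjoin_induction with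
      | mem w hw =>
          obtain ⟨t, rfl⟩ := hw
          by_cases ht : t ∈ S
          · exact Algebra.subset_adjoin (Finset.mem_coe.mpr (Finset.mem_image_of_mem _ ht))
          · exact (Algebra.adjoin k' (S' : Set K)).algebraMap_mem
              (⟨t, IntermediateField.subset_adjoin k₀ _ (Or.inr ⟨t, ht, rfl⟩)⟩ : k')
      | algebraMap r =>
          have hr : (r : K) ∈ k' := by
            have := (Groth.Ega41Sep.Admissible.mem_pPower_iff (p := p) _).mp r.2
            exact (IntermediateField.adjoin.mono k₀ _ _ Set.subset_union_left) this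
          exact (Algebra.adjoin k' (S' : Set K)).algebraMap_mem ⟨r, hr⟩
      | add a c _ _ ha hc => exact add_mem (ha trivial) (hc trivial)
      | mul a c _ _ ha hc => exact mul_mem (ha trivial) (hc trivial)
    haveI : Algebra.FiniteType k' K := ⟨⟨S', htop⟩⟩
    exact Algebra.IsIntegral.finite
  intro ω hω h0
  -- the coordinates in `S` are differentials relative to `k'`
  let c : Ω[K⁄k₀] →ₗ[K] (S →₀ K) := (Finsupp.lsubtypeDomain fun t => t ∈ S).comp b.repr.toLinearMap
  let d₀ : Derivation k₀ K (S →₀ K) := c.compDer (KaehlerDifferential.D k₀ K)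
  have hker : ∀ z ∈ k', d₀ z = 0 := by
    let F : IntermediateField k₀ K :=
      { carrier := {z | d₀ z = 0}
        add_mem' := fun {a b} ha hb => by simp_all
        mul_mem' := fun {a b} ha hb => by simp_all
        algebraMap_mem' := fun r => by simp
        inv_mem' := fun a ha => by simp_all [Derivation.leibniz_inv] }
    intro z hz
    refine (IntermediateField.adjoin_le_iff.mpr ?_ : k' ≤ F) hz
    rintro w (⟨y, rfl⟩ | ⟨t, ht, rfl⟩)
    · show d₀ (y ^ p) = 0
      rw [Derivation.leibniz_pow, ← Nat.cast_smul_eq_nsmul K, CharP.cast_eq_zero, zero_smul]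
    · show c (KaehlerDifferential.D k₀ K t) = 0
      ext s
      simp only [c, LinearMap.comp_apply, LinearEquiv.coe_coe, ← hb t, Module.Basis.repr_self,
        Finsupp.lsubtypeDomain_apply, Finsupp.subtypeDomain_apply, Finsupp.zero_apply]
      exact Finsupp.single_eq_of_ne fun h => ht (h ▸ s.2)
  let lin : K →ₗ[k'] (S →₀ K) :=
    { toFun := d₀
      map_add' := fun a b => map_add d₀ a b
      map_smul' := fun r a => by
        show d₀ ((r : K) * a) = (r : K) • d₀ a
        rw [Derivation.leibniz, hker _ r.2, smul_zero, add_zero] }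
  let d : Derivation k' K (S →₀ K) := Derivation.mk' lin fun a b => d₀.leibniz a b
  have hcf : c = d.liftKaehlerDifferential ∘ₗ KaehlerDifferential.map k₀ k' K K := by
    refine LinearMap.ext_on (KaehlerDifferential.span_range_derivation k₀ K) ?_
    rintro _ ⟨y, rfl⟩
    simp only [LinearMap.comp_apply, KaehlerDifferential.map_D, Algebra.algebraMap_self, RingHom.id_apply,
      Derivation.liftKaehlerDifferential_comp_D]
    rfl
  have hinj : Function.Injective (c ∘ₗ (Submodule.span K (G : Set Ω[K⁄k₀])).subtype) := by
    rw [← LinearMap.ker_eq_bot, LinearMap.ker_eq_bot']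
    rintro ⟨e, he⟩ he0
    have hsupp : e ∈ Submodule.span K (b '' {t | t ∈ S}) := by
      refine (Submodule.span_le.mpr fun g hg => ?_) he
      rw [SetLike.mem_coe, Module.Basis.mem_span_image]
      exact fun t ht => Finset.mem_biUnion.mpr ⟨g, hg, ht⟩
    rw [Module.Basis.mem_span_image] at hsupp
    refine Subtype.ext (b.repr.map_eq_zero_iff.mp (Finsupp.ext fun t => ?_))
    by_cases ht : t ∈ (b.repr e).support
    · exact DFunLike.congr_fun he0 (⟨t, hsupp ht⟩ : S)
    · exact Finsupp.notMem_support_iff.mp ht
  obtain ⟨η, rfl⟩ := hUE hω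
  have h2 := Module.Flat.lTensor_preserves_injective_linearMap (M := L) _ hinj
  have h3 : ((c ∘ₗ (Submodule.span K (G : Set Ω[K⁄k₀])).subtype).baseChange L) η = 0 := by
    have hc' : c = d.liftKaehlerDifferential ∘ₗ (KaehlerDifferential.map k₀ k' K K).restrictScalars K := hcf
    rw [hc', LinearMap.comp_assoc, LinearMap.baseChange_comp, LinearMap.comp_apply, LinearMap.baseChange_comp,
      LinearMap.comp_apply, h0, map_zero]
  rw [h2 (h3.trans (map_zero _).symm), map_zero]

end Groth.Agent.S4549
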