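import Groth.Statements.S4550
import Groth.Agent.Ega41Flat.SeriesSubfield


set_option autoImplicit false
universe u
open EGA41

namespace Groth.Agent.S4550

/-- Let k be a field, (k_α) a decreasing filtered family of subfields of k with intersection k₀, and
suppose there is a power q of the characteristic exponent of k with k^q ⊆ k₀. Then, inside k((T_1,
…, T_r)), one has ⋂_α k_α((T_1, …, T_r)) = k₀((T_1, …, T_r)); here F((T)) is the subfield of the
fraction field of k[[T]] generated by the power series with all coefficients in F. -/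
theorem result {k : Type u} [Field k] {ι : Type u} [Nonempty ι] (F : ι → Subfield k)
    (hdir : ∀ a b : ι, ∃ c, F c ≤ F a ⊓ F b) (e : ℕ) (hq : ∀ x : k, x ^ ringExpChar k ^ e ∈ ⨅ i, F i) (r : ℕ) :
    (⨅ i, Subfield.closure (algebraMap (MvPowerSeries (Fin r) k) (FractionRing (MvPowerSeries (Fin r) k)) ''
        {f | ∀ n, MvPowerSeries.coeff n f ∈ F i})) =
      Subfield.closure (algebraMap (MvPowerSeries (Fin r) k) (FractionRing (MvPowerSeries (Fin r) k)) ''
        {f | ∀ n, MvPowerSeries.coeff n f ∈ ⨅ i, F i}) := by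
  open Groth.Ega41Flat in
  skip
  let A := MvPowerSeries (Fin r) k
  let K := FractionRing A
  let φ : A →+* K := algebraMap A K
  have hφ : Function.Injective φ := IsFractionRing.injective A K
  refine le_antisymm ?_ (le_iInf fun i => Subfield.closure_mono (Set.image_mono fun f hf n => (iInf_le F i) (hf n)))
  intro x hx
  haveI : ExpChar k (ringExpChar k) := inferInstance
  have hq1 : 1 ≤ ringExpChar k ^ e := Nat.one_le_pow _ _ (expChar_pos k _)
  have hform : ∀ i, ∃ h s : A, s ≠ 0 ∧ (∀ n, MvPowerSeries.coeff n s ∈ ⨅ i, F i) ∧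
      (∀ n, MvPowerSeries.coeff n h ∈ F i) ∧ x * φ s = φ h := by
    intro i
    have hxi : x ∈ Subfield.closure (φ '' (Groth.Ega41Flat.seriesIn (F i) : Subring A)) := by
      rw [Groth.Ega41Flat.coe_seriesIn]
      exact (iInf_le (fun i => Subfield.closure (φ '' {f : A | ∀ n, MvPowerSeries.coeff n f ∈ F i})) i) hx
    obtain ⟨h, hh, b, -, hb0, heq⟩ := Groth.Ega41Flat.exists_eq_div φ hφ _ _ hq1 hxi
    exact ⟨h, b ^ ringExpChar k ^ e, pow_ne_zero _ hb0,
      fun n => Groth.Ega41Flat.coeff_pow_expChar _ e _ hq b n, Groth.Ega41Flat.mem_seriesIn.mp hh, heq⟩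
  choose h s hs hsF hhF heq using hform
  let i₀ := Classical.arbitrary ι
  have hall : ∀ n, MvPowerSeries.coeff n (h i₀) ∈ ⨅ i, F i := by
    intro n
    rw [← SetLike.mem_coe, Subfield.coe_iInf, Set.mem_iInter]
    intro i
    refine Groth.Ega41Flat.coeff_mem_of_mul' (F i) (h i₀) (s i) (hs i) (fun m => (iInf_le F i) (hsF i m))
      (fun m => ?_) n
    have hcross : h i₀ * s i = h i * s i₀ := hφ (by rw [map_mul, map_mul, ← heq, ← heq]; ring)
    rw [hcross, MvPowerSeries.coeff_mul]
    exact Subfield.sum_mem _ fun y _ => mul_mem (hhF i _) ((iInf_le F i) (hsF i₀ _))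
  have hne : φ (s i₀) ≠ 0 := (map_ne_zero_iff φ hφ).mpr (hs i₀)
  rw [show x = φ (h i₀) / φ (s i₀) by rw [← heq, mul_div_cancel_right₀ _ hne]]
  exact div_mem (Subfield.subset_closure ⟨_, hall, rfl⟩) (Subfield.subset_closure ⟨_, hsF i₀, rfl⟩)

end Groth.Agent.S4550
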