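import Groth.Statements.S4551
import Groth.Agent.Ega41Flat.SeriesSubfield
import Mathlib.RingTheory.Nilpotent.GeometricallyReduced


set_option autoImplicit false
universe u
open EGA41

namespace Groth.Agent.S4551

/-- For every field k (any characteristic) the field of fractions k((T_1, …, T_r)) of the power series
ring k[[T_1, …, T_r]] is a separable extension of k, i.e. it is geometrically reduced over k. -/
theorem result (k : Type u) [Field k] (r : ℕ) :
    Algebra.IsGeometricallyReduced k (FractionRing (MvPowerSeries (Fin r) k)) := by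
  open TensorProduct in
  rw [Algebra.isGeometricallyReduced_field_iff]
  let A := MvPowerSeries (Fin r) k
  let K := FractionRing A
  let L := AlgebraicClosure k
  obtain ⟨φ, hφ⟩ := Groth.Ega41Flat.exists_tensor_injective (σ := Fin r) (k := k) L
  haveI : IsReduced (L ⊗[k] A) := isReduced_of_injective φ hφ
  let f : A →ₐ[k] K := IsScalarTower.toAlgHom k A K
  let g := Algebra.TensorProduct.map (AlgHom.id k L) f
  have hg : Function.Injective g :=
    Module.Flat.lTensor_preserves_injective_linearMap (M := L) f.toLinearMap (IsFractionRing.injective A K)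
  have hrep : ∀ z : L ⊗[k] K, ∃ (s : A) (y : L ⊗[k] A), s ≠ 0 ∧ z * g (1 ⊗ₜ s) = g y := by
    intro z
    induction z using TensorProduct.induction_on with
    | zero => exact ⟨1, 0, one_ne_zero, by rw [zero_mul, map_zero]⟩
    | tmul l x =>
        obtain ⟨a, b, hb, rfl⟩ := IsFractionRing.div_surjective A x
        refine ⟨b, l ⊗ₜ a, nonZeroDivisors.ne_zero hb, ?_⟩
        simp only [g, f, Algebra.TensorProduct.map_tmul, IsScalarTower.coe_toAlgHom', map_one,
          Algebra.TensorProduct.tmul_mul_tmul, mul_one, AlgHom.coe_id, id_eq]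
        rw [div_mul_cancel₀]
        exact (map_ne_zero_iff _ (IsFractionRing.injective A K)).mpr (nonZeroDivisors.ne_zero hb)
    | add a b ha hb =>
        obtain ⟨s, y, hs, hsy⟩ := ha
        obtain ⟨t, w, ht, htw⟩ := hb
        refine ⟨s * t, y * (1 ⊗ₜ t) + w * (1 ⊗ₜ s), mul_ne_zero hs ht, ?_⟩
        have : (1 : L) ⊗ₜ[k] (s * t) = (1 ⊗ₜ s) * (1 ⊗ₜ t) := by
          rw [Algebra.TensorProduct.tmul_mul_tmul, mul_one]
        rw [this, map_add, map_mul, map_mul, map_mul, ← hsy, ← htw]
        ring
  refine ⟨fun z ⟨n, hn⟩ => ?_⟩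
  obtain ⟨s, y, hs, hsy⟩ := hrep z
  have hy : y = 0 := by
    refine IsReduced.eq_zero y ⟨n, hg ?_⟩
    rw [map_pow, ← hsy, mul_pow, hn, zero_mul, map_zero]
  rw [hy, map_zero] at hsy
  have hu : IsUnit (g ((1 : L) ⊗ₜ[k] s)) := by
    have h := ((isUnit_iff_ne_zero.mpr ((map_ne_zero_iff (algebraMap A K) (IsFractionRing.injective A K)).mpr hs)).map
      (Algebra.TensorProduct.includeRight : K →ₐ[k] L ⊗[k] K))
    simpa [g, f] using h
  exact hu.mul_left_eq_zero.mp hsy

end Groth.Agent.S4551
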