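import Groth.Statements.S4552
import Mathlib.Algebra.Module.Torsion.Basic
import Mathlib.Algebra.Module.Projective

set_option autoImplicit false
universe u
open EGA41

namespace Groth.Agent.S4552

/-- For the 𝔞-adic topology on A and the deduced topology on M: the topological A-module M is formally
projective (for every open ideal 𝔞ⁿ, every pair of (A/𝔞ⁿ)-modules P, Q, every surjection P → Q and
every continuous A-linear map M → Q — here automatically continuous — there is a continuous A-linear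
lift M → P) if and only if it is strictly formally projective, i.e. M/𝔞ⁿM is a projective
(A/𝔞ⁿ)-module for every n. -/
theorem result {A : Type u} [CommRing A] (𝔞 : Ideal A) (M : Type u)
    [AddCommGroup M] [Module A M] :
    (∀ (n : ℕ) (P Q : Type u) [AddCommGroup P] [Module A P] [AddCommGroup Q] [Module A Q],
      (∀ a ∈ 𝔞 ^ n, ∀ y : P, a • y = 0) → (∀ a ∈ 𝔞 ^ n, ∀ y : Q, a • y = 0) →
      ∀ f : P →ₗ[A] Q, Function.Surjective f → ∀ v : M →ₗ[A] Q, ∃ w : M →ₗ[A] P, f ∘ₗ w = v) ↔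
    ∀ n : ℕ, Module.Projective (A ⧸ 𝔞 ^ n) (M ⧸ (𝔞 ^ n • ⊤ : Submodule A M)) := by
  constructor
  · intro h n
    let Mb := M ⧸ (𝔞 ^ n • ⊤ : Submodule A M)
    let F := Mb →₀ (A ⧸ 𝔞 ^ n)
    let π : F →ₗ[A ⧸ 𝔞 ^ n] Mb := Finsupp.linearCombination (A ⧸ 𝔞 ^ n) id
    have hkill : ∀ a ∈ 𝔞 ^ n, ∀ y : F, a • y = 0 := fun a ha y => by
      rw [← algebraMap_smul (A ⧸ 𝔞 ^ n) a y, Ideal.Quotient.algebraMap_eq,
        Ideal.Quotient.eq_zero_iff_mem.mpr ha, zero_smul]
    obtain ⟨w, hw⟩ := h n F Mb hkill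
      (fun a ha y => by rw [← algebraMap_smul (A ⧸ 𝔞 ^ n) a y, Ideal.Quotient.algebraMap_eq,
        Ideal.Quotient.eq_zero_iff_mem.mpr ha, zero_smul])
      (π.restrictScalars A) (fun x => ⟨Finsupp.single x 1, (Finsupp.linearCombination_single (A ⧸ 𝔞 ^ n) 1 x).trans (one_smul _ x)⟩) (𝔞 ^ n • ⊤ : Submodule A M).mkQ
    have hker : (𝔞 ^ n • ⊤ : Submodule A M) ≤ LinearMap.ker w := by
      refine Submodule.smul_le.mpr fun a ha m _ => ?_
      rw [LinearMap.mem_ker, map_smul, hkill a ha]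
    refine Module.Projective.of_split
      (((𝔞 ^ n • ⊤ : Submodule A M).liftQ w hker).extendScalarsOfSurjective (S := A ⧸ 𝔞 ^ n) Ideal.Quotient.mk_surjective)
      π (LinearMap.ext fun x => ?_)
    obtain ⟨m, rfl⟩ := Submodule.Quotient.mk_surjective _ x
    exact LinearMap.congr_fun hw m
  · intro h n P Q _ _ _ _ hP hQ f hf v
    haveI := h n
    have tP : Module.IsTorsionBySet A P (𝔞 ^ n : Ideal A) := fun y a => hP a a.2 y
    have tQ : Module.IsTorsionBySet A Q (𝔞 ^ n : Ideal A) := fun y a => hQ a a.2 y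
    letI := tP.module
    letI := tQ.module
    haveI : IsScalarTower A (A ⧸ 𝔞 ^ n) P := tP.isScalarTower
    haveI : IsScalarTower A (A ⧸ 𝔞 ^ n) Q := tQ.isScalarTower
    have hker : (𝔞 ^ n • ⊤ : Submodule A M) ≤ LinearMap.ker v := by
      refine Submodule.smul_le.mpr fun a ha m _ => ?_
      rw [LinearMap.mem_ker, map_smul, hQ a ha]
    obtain ⟨w, hw⟩ := Module.projective_lifting_property (f.extendScalarsOfSurjective (S := A ⧸ 𝔞 ^ n) Ideal.Quotient.mk_surjective)
      (((𝔞 ^ n • ⊤ : Submodule A M).liftQ v hker).extendScalarsOfSurjective (S := A ⧸ 𝔞 ^ n) Ideal.Quotient.mk_surjective) hf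
    refine ⟨(w.restrictScalars A) ∘ₗ (𝔞 ^ n • ⊤ : Submodule A M).mkQ, LinearMap.ext fun m => ?_⟩
    exact LinearMap.congr_fun hw (Submodule.Quotient.mk m)

end Groth.Agent.S4552
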