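import Groth.Statements.S4554
import Groth.Agent.Ega41Adic.Basic
import Mathlib.RingTheory.Flat.FaithfullyFlat.Algebra
import Mathlib.RingTheory.TensorProduct.Quotient
import Mathlib.LinearAlgebra.TensorProduct.RightExactness
open Groth.Ega41Adic

set_option autoImplicit false
universe u
open EGA41

namespace Groth.Agent.S4554

/-- A finite projective faithfully flat algebra has a linear retraction of the unit. -/
theorem exists_retraction (A A' : Type u) [CommRing A] [CommRing A'] [Algebra A A'] [Module.FaithfullyFlat A A']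
    [Module.Projective A A'] : ∃ r : A' →ₗ[A] A, r 1 = 1 := by
  let I : Ideal A := LinearMap.range (LinearMap.applyₗ (1 : A') : (A' →ₗ[A] A) →ₗ[A] A)
  have h1 : I.map (algebraMap A A') = ⊤ := by
    obtain ⟨s, hs⟩ := Module.Projective.out (R := A) (P := A')
    rw [Ideal.eq_top_iff_one, ← hs (1 : A'), Finsupp.linearCombination_apply]
    refine Ideal.sum_mem _ fun z _ => ?_
    show (s 1 z) • z ∈ _
    rw [Algebra.smul_def]
    exact Ideal.mul_mem_right _ _ (Ideal.mem_map_of_mem _ ⟨(Finsupp.lapply z).comp s, rfl⟩)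
  have h2 : I = ⊤ := by
    rw [← Ideal.comap_map_eq_self_of_faithfullyFlat (B := A') I, h1, Ideal.comap_top]
  exact (h2 ▸ Submodule.mem_top : (1 : A) ∈ I)

open TensorProduct in
/-- Let A be 𝔞-adic, B a topological A-algebra for the 𝔟-adic topology (a power of 𝔞 maps into 𝔟) which
is a formally projective topological A-module, and A' an A-algebra with the topology deduced from A
(the 𝔞A'-adic topology) which is a faithfully flat, projective A-module of finite type. Then B' = A'
⊗_A B, with the tensor product topology (the adic topology of the ideal generated by the images of 𝔞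
and 𝔟), is a formally smooth A'-algebra if and only if B is a formally smooth A-algebra. -/
theorem result {A B A' : Type u} [CommRing A] [CommRing B]
    [CommRing A'] [Algebra A B] [Algebra A A'] (𝔞 : Ideal A) (𝔟 : Ideal B) (hAB : ∃ k : ℕ, (𝔞 ^ k).map (algebraMap A B) ≤ 𝔟)
    (hproj : ∀ (n : ℕ) (P Q : Type u) [AddCommGroup P] [Module A P] [AddCommGroup Q] [Module A Q],
      (∀ a ∈ 𝔞 ^ n, ∀ y : P, a • y = 0) → (∀ a ∈ 𝔞 ^ n, ∀ y : Q, a • y = 0) →
      ∀ f : P →ₗ[A] Q, Function.Surjective f → ∀ v : B →ₗ[A] Q, (∃ m : ℕ, ∀ x ∈ 𝔟 ^ m, v x = 0) →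
        ∃ w : B →ₗ[A] P, (∃ m : ℕ, ∀ x ∈ 𝔟 ^ m, w x = 0) ∧ f ∘ₗ w = v)
    [Module.FaithfullyFlat A A'] [Module.Projective A A'] [Module.Finite A A'] :
    EGA41.IsFormallySmoothAdic A' (𝔞.map (algebraMap A A')) (A' ⊗[A] B)
        ((𝔞.map (algebraMap A A')).map (algebraMap A' (A' ⊗[A] B)) ⊔
          𝔟.map (Algebra.TensorProduct.includeRight : B →ₐ[A] A' ⊗[A] B).toRingHom) ↔
      EGA41.IsFormallySmoothAdic A 𝔞 B 𝔟 := by
  constructor
  · intro h
    refine isFormallySmoothAdic_of_sq fun C _ _ J hJ ⟨k, hk⟩ u ⟨m, hm⟩ => ?_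
    obtain ⟨r, hr⟩ := exists_retraction A A'
    let red : A' ⊗[A] C →ₐ[A'] A' ⊗[A] (C ⧸ J) := Algebra.TensorProduct.map (AlgHom.id A' A') (Ideal.Quotient.mkₐ A J)
    have hreds : Function.Surjective red := fun t => by
      induction t using TensorProduct.induction_on with
      | zero => exact ⟨0, map_zero _⟩
      | tmul a c => obtain ⟨c, rfl⟩ := Ideal.Quotient.mk_surjective c; exact ⟨a ⊗ₜ c, rfl⟩
      | add x y hx hy => obtain ⟨a, rfl⟩ := hx; obtain ⟨b, rfl⟩ := hy; exact ⟨a + b, map_add _ _ _⟩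
    let J' : Ideal (A' ⊗[A] C) := RingHom.ker red.toRingHom
    have hJ' : J' = J.map (Algebra.TensorProduct.includeRight : C →ₐ[A] A' ⊗[A] C) := by
      have h1 := Algebra.TensorProduct.lTensor_ker (A := A') (Ideal.Quotient.mkₐ A J) Ideal.Quotient.mk_surjective
      rw [show RingHom.ker (Ideal.Quotient.mkₐ A J) = J from Ideal.mk_ker] at h1
      exact h1
    have hJ2 : J' ^ 2 = ⊥ := by rw [hJ', ← Ideal.map_pow, hJ, Ideal.map_bot]
    let e := Ideal.quotientKerAlgEquivOfSurjective hreds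
    let u' : A' ⊗[A] B →ₐ[A'] (A' ⊗[A] C) ⧸ J' :=
      e.symm.toAlgHom.comp (Algebra.TensorProduct.map (AlgHom.id A' A') u)
    have hk' : ∀ a ∈ 𝔞 ^ k, algebraMap A (A' ⊗[A] C) a = 0 := fun a ha => by
      rw [← (Algebra.TensorProduct.includeRight : C →ₐ[A] A' ⊗[A] C).commutes,
        show algebraMap A C a = 0 by rw [← Ideal.mem_bot, ← hk]; exact Ideal.mem_map_of_mem _ ha, map_zero]
    have hka : ((𝔞.map (algebraMap A A')) ^ k).map (algebraMap A' (A' ⊗[A] C)) = ⊥ := by
      rw [← Ideal.map_pow, Ideal.map_map, eq_bot_iff, Ideal.map_le_iff_le_comap]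
      intro a ha
      rw [Ideal.mem_comap, Ideal.mem_bot, RingHom.comp_apply, ← IsScalarTower.algebraMap_apply]
      exact hk' a ha
    obtain ⟨f', hf'⟩ := h (A' ⊗[A] C) J' ⟨2, hJ2⟩ ⟨k, hka⟩ u' ⟨k + m, fun x hx => by
      have hle := Ideal.sup_pow_add_le_pow_sup_pow hx
      refine (sup_le ?_ ?_ : _ ≤ RingHom.ker u'.toRingHom) hle
      · rw [← Ideal.map_pow, Ideal.map_le_iff_le_comap]
        intro a ha
        show u' (algebraMap A' (A' ⊗[A] B) a) = 0
        rw [u'.commutes, IsScalarTower.algebraMap_apply A' (A' ⊗[A] C) ((A' ⊗[A] C) ⧸ J')]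
        rw [show algebraMap A' (A' ⊗[A] C) a = 0 by rw [← Ideal.mem_bot, ← hka]; exact Ideal.mem_map_of_mem _ ha, map_zero]
      · rw [← Ideal.map_pow, Ideal.map_le_iff_le_comap]
        intro b hb
        show e.symm (Algebra.TensorProduct.map (AlgHom.id A' A') u (1 ⊗ₜ b)) = 0
        rw [Algebra.TensorProduct.map_tmul, hm b hb, TensorProduct.tmul_zero, map_zero]⟩
    let v : B →ₐ[A] A' ⊗[A] C := (f'.restrictScalars A).comp Algebra.TensorProduct.includeRight
    let ρ : A' ⊗[A] C →ₗ[A] C := (TensorProduct.lid A C).toLinearMap ∘ₗ LinearMap.rTensor C r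
    let ρ₀ : A' ⊗[A] (C ⧸ J) →ₗ[A] C ⧸ J := (TensorProduct.lid A _).toLinearMap ∘ₗ LinearMap.rTensor _ r
    have hρ1 : ∀ c : C, ρ (1 ⊗ₜ c) = c := fun c => by simp [ρ, hr]
    have hρmul : ∀ (c : C) (t : A' ⊗[A] C), ρ ((1 ⊗ₜ c) * t) = c * ρ t := fun c t => by
      induction t using TensorProduct.induction_on with
      | zero => simp
      | tmul a d => simp [ρ, Algebra.TensorProduct.tmul_mul_tmul]
      | add x y hx hy => rw [mul_add, map_add, hx, hy, map_add, mul_add]
    have hρred : ∀ t, Ideal.Quotient.mk J (ρ t) = ρ₀ (red t) := fun t => by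
      induction t using TensorProduct.induction_on with
      | zero => simp
      | tmul a c => simp [ρ, ρ₀, red, Algebra.smul_def]
      | add x y hx hy => rw [map_add, map_add, hx, hy, map_add, map_add]
    have hv : ∀ b, red (v b) = 1 ⊗ₜ u b := fun b => by
      have h1 : Ideal.Quotient.mk J' (v b) = u' (1 ⊗ₜ b) := AlgHom.congr_fun hf' (1 ⊗ₜ b)
      have h2 := congrArg e h1
      rw [show e (Ideal.Quotient.mk J' (v b)) = red (v b) from rfl] at h2
      rw [h2]
      show e (e.symm _) = _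
      rw [e.apply_symm_apply]
      rfl
    choose w hw using fun b => Ideal.Quotient.mk_surjective (u b)
    have hδ : ∀ b, v b - 1 ⊗ₜ w b ∈ J' := fun b => by
      show red (v b - 1 ⊗ₜ w b) = 0
      rw [map_sub, hv]
      show _ - (1 : A') ⊗ₜ[A] Ideal.Quotient.mk J (w b) = 0
      rw [hw, sub_self]
    have hρJ : ∀ t ∈ J', ρ t ∈ J := fun t ht => by
      rw [← Ideal.Quotient.eq_zero_iff_mem, hρred, show red t = 0 from ht, map_zero]
    have hmul : ∀ x y, ρ (v (x * y)) = ρ (v x) * ρ (v y) := fun x y => by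
      have h0 : (v x - 1 ⊗ₜ w x) * (v y - 1 ⊗ₜ w y) = 0 := by
        rw [← Ideal.mem_bot, ← hJ2, pow_two]; exact Ideal.mul_mem_mul (hδ x) (hδ y)
      have h1 : ρ (v x - 1 ⊗ₜ w x) * ρ (v y - 1 ⊗ₜ w y) = 0 := by
        rw [← Ideal.mem_bot, ← hJ, pow_two]; exact Ideal.mul_mem_mul (hρJ _ (hδ x)) (hρJ _ (hδ y))
      have h2 : v (x * y) = ((1 : A') ⊗ₜ w x) * v y + ((1 : A') ⊗ₜ w y) * v x - ((1 : A') ⊗ₜ w x) * (1 ⊗ₜ w y) := by
        rw [map_mul]; linear_combination h0
      rw [h2, map_sub, map_add, hρmul, hρmul, hρmul, hρ1]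
      rw [map_sub, map_sub, hρ1, hρ1] at h1
      linear_combination -h1
    exact ⟨{ toFun := fun b => ρ (v b)
             map_one' := by rw [map_one, Algebra.TensorProduct.one_def, hρ1]
             map_mul' := hmul
             map_zero' := by rw [map_zero, map_zero]
             map_add' := fun x y => by rw [map_add, map_add]
             commutes' := fun a => by
               rw [v.commutes, ← (Algebra.TensorProduct.includeRight : C →ₐ[A] A' ⊗[A] C).commutes]
               exact hρ1 _ }, AlgHom.ext fun b => by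
      show Ideal.Quotient.mk J (ρ (v b)) = u b
      rw [hρred, hv]
      simp [ρ₀, hr]⟩
  · intro h C _ _ J hJ ⟨k, hk⟩ u ⟨m, hm⟩
    letI : Algebra A C := ((algebraMap A' C).comp (algebraMap A A')).toAlgebra
    haveI : IsScalarTower A A' C := IsScalarTower.of_algebraMap_eq fun _ => rfl
    obtain ⟨v, hv⟩ := h C J hJ ⟨k, by rw [IsScalarTower.algebraMap_eq A A' C, ← Ideal.map_map, Ideal.map_pow, hk]⟩
      ((u.restrictScalars A).comp Algebra.TensorProduct.includeRight) ⟨m, fun x hx => hm _ (by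
        refine Ideal.pow_right_mono le_sup_right m ?_
        rw [← Ideal.map_pow]
        exact Ideal.mem_map_of_mem _ hx)⟩
    refine ⟨Algebra.TensorProduct.lift (Algebra.ofId A' C) v fun a b => Commute.all _ _, ?_⟩
    refine Algebra.TensorProduct.ext' fun a b => ?_
    rw [show a ⊗ₜ[A] b = a • ((1 : A') ⊗ₜ[A] b) by rw [TensorProduct.smul_tmul', smul_eq_mul, mul_one], map_smul, map_smul]
    congr 1
    show Ideal.Quotient.mk J (Algebra.TensorProduct.lift (Algebra.ofId A' C) v (fun a b => Commute.all _ _) (1 ⊗ₜ b)) = u (1 ⊗ₜ b)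
    rw [Algebra.TensorProduct.lift_tmul, map_one, one_mul]
    exact AlgHom.congr_fun hv b

end Groth.Agent.S4554
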