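import Groth.Statements.S4555
import Groth.Agent.Ega41Adic.PowerSeries
open Groth.Ega41Adic Groth.SGA7.PS

set_option autoImplicit false
universe u
open EGA41

namespace Groth.Agent.S4555

/-- Let A carry the 𝔞-adic topology, B = A[[T_1, …, T_n]] the product topology (the adic topology of 𝔞B
+ (T_1, …, T_n)), and let E be a discrete topological A-algebra (a power of 𝔞 kills E). (i) If f : B
→ E is a continuous A-algebra homomorphism then each f(T_i) is nilpotent. (ii) Conversely, for every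
family (z_i) of nilpotent elements of E there is one and only one continuous A-algebra homomorphism
g : B → E with g(T_i) = z_i for all i. -/
theorem result (A : Type u) [CommRing A] (𝔞 : Ideal A) (n : ℕ) (E : Type u) [CommRing E]
    [Algebra A E] (hE : ∃ k : ℕ, (𝔞 ^ k).map (algebraMap A E) = ⊥) :
    (∀ f : MvPowerSeries (Fin n) A →ₐ[A] E,
      (∃ m : ℕ, ∀ x ∈ (𝔞.map (MvPowerSeries.C : A →+* MvPowerSeries (Fin n) A) ⊔
        RingHom.ker (MvPowerSeries.constantCoeff : MvPowerSeries (Fin n) A →+* A)) ^ m, f x = 0) →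
      ∀ i, IsNilpotent (f (MvPowerSeries.X i))) ∧
    ∀ z : Fin n → E, (∀ i, IsNilpotent (z i)) →
      ∃! g : MvPowerSeries (Fin n) A →ₐ[A] E,
        (∃ m : ℕ, ∀ x ∈ (𝔞.map (MvPowerSeries.C : A →+* MvPowerSeries (Fin n) A) ⊔
          RingHom.ker (MvPowerSeries.constantCoeff : MvPowerSeries (Fin n) A →+* A)) ^ m, g x = 0) ∧
        ∀ i, g (MvPowerSeries.X i) = z i := by
  rw [← varIdeal_eq_ker]
  refine ⟨fun f ⟨m, hm⟩ i => ⟨m, by rw [← map_pow]; exact hm _ (Ideal.pow_mem_pow (Ideal.mem_sup_right (X_mem i)) m)⟩,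
    fun z hz => ?_⟩
  obtain ⟨g, hgX, m, hm⟩ := exists_algHom_powerSeries (A := A) z hz
  obtain ⟨k, hk⟩ := hE
  refine ⟨g, ⟨⟨k + m, fun x hx => ?_⟩, hgX⟩, fun g' ⟨⟨m', hm'⟩, hg'⟩ => ?_⟩
  · have hle : (𝔞.map (MvPowerSeries.C : A →+* MvPowerSeries (Fin n) A) ⊔ varIdeal (Fin n) A) ^ (k + m) ≤
        RingHom.ker g.toRingHom := by
      refine Ideal.sup_pow_add_le_pow_sup_pow.trans (sup_le ?_ fun y hy => hm y hy)
      rw [← Ideal.map_pow, Ideal.map_le_iff_le_comap]
      intro a ha
      show g (algebraMap A (MvPowerSeries (Fin n) A) a) = 0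
      rw [g.commutes]
      exact (Ideal.map_eq_bot_iff_le_ker _).mp hk ha
    exact hle hx
  · refine algHom_powerSeries_ext (m := max m m')
      (fun x hx => hm' x (Ideal.pow_right_mono le_sup_right _ (Ideal.pow_le_pow_right (le_max_right _ _) hx)))
      (fun x hx => hm x (Ideal.pow_le_pow_right (le_max_left _ _) hx)) fun i => by rw [hg', hgX]

end Groth.Agent.S4555
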