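import Groth.Statements.S4556
import Groth.Agent.Ega41Adic.Basic
import Mathlib.RingTheory.Smooth.Basic

set_option autoImplicit false
universe u
open EGA41

namespace Groth.Agent.S4556

/-- Let B be a formally smooth A-algebra, E and E' two A-algebras, R (resp. R') a nilpotent ideal of E
(resp. E'), f : E → E' a surjective A-algebra homomorphism with f(R) = R', and f' : E/R → E'/R' the
induced homomorphism. Let u : B → E/R be an A-algebra homomorphism and v' : B → E' an A-algebra
homomorphism through which f' ∘ u factors (v' followed by E' → E'/R' equals f' ∘ u). Then there is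
an A-algebra homomorphism v : B → E with f ∘ v = v'. (The published statement assumes only f(R) ⊆
R'; in that form it fails for B = ℚ[x, x⁻¹], E = ℚ[t], E' = ℚ[t]/(t²), R = 0, R' = (t), u : x ↦ 1
and v' : x ↦ 1 + t, since any v sends x to a unit of ℚ[t], a constant; the argument identifies R'
with the image of R, and that equality is assumed here.) -/
theorem result {A B E E' : Type u} [CommRing A] [CommRing B] [Algebra A B]
    [Algebra.FormallySmooth A B] [CommRing E] [CommRing E'] [Algebra A E] [Algebra A E']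
    (R : Ideal E) (R' : Ideal E') (hR : IsNilpotent R) (hR' : IsNilpotent R')
    (f : E →ₐ[A] E') (hf : Function.Surjective f) (hfR : R.map f.toRingHom = R')
    (u : B →ₐ[A] E ⧸ R) (v' : B →ₐ[A] E')
    (huv : (Ideal.Quotient.mkₐ A R').comp v' =
      (Ideal.quotientMapₐ R' f (fun x hx => hfR.le (Ideal.mem_map_of_mem f.toRingHom hx))).comp u) :
    ∃ v : B →ₐ[A] E, f.comp v = v' := by
  let I₂ : Ideal E := RingHom.ker f.toRingHom
  let e₂ : (E ⧸ I₂) ≃ₐ[A] E' := Ideal.quotientKerAlgEquivOfSurjective hf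
  obtain ⟨g, hg₁, hg₂⟩ := Groth.Ega41Adic.exists_algHom_quotient_inf R I₂ u (e₂.symm.toAlgHom.comp v') fun b => by
    obtain ⟨c, hc⟩ := Ideal.Quotient.mk_surjective (u b)
    obtain ⟨d, hd⟩ := hf (v' b)
    have h2 : e₂.symm (v' b) = Ideal.Quotient.mk I₂ d := e₂.injective (by rw [AlgEquiv.apply_symm_apply]; exact hd.symm)
    rw [← hc]
    show _ = Ideal.Quotient.factor _ (e₂.symm (v' b))
    rw [h2, Ideal.Quotient.factor_mk, Ideal.Quotient.factor_mk, Ideal.Quotient.eq]
    have h := AlgHom.congr_fun huv b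
    simp only [AlgHom.comp_apply, Ideal.Quotient.mkₐ_eq_mk, ← hc, ← hd] at h
    have h' : f d - f c ∈ R' := Ideal.Quotient.eq.mp h
    rw [← hfR, Ideal.mem_map_iff_of_surjective f.toRingHom hf] at h'
    obtain ⟨r, hr, hrf⟩ := h'
    refine Submodule.mem_sup.mpr ⟨-r, R.neg_mem hr, c - d + r, ?_, by ring⟩
    show f (c - d + r) = 0
    rw [map_add, map_sub, show f r = f d - f c from hrf]; ring
  have hnil : IsNilpotent (R ⊓ I₂) := by
    obtain ⟨t, ht⟩ := hR
    exact ⟨t, le_bot_iff.mp ((Ideal.pow_right_mono inf_le_left t).trans (le_of_eq ht))⟩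
  refine ⟨Algebra.FormallySmooth.lift (R ⊓ I₂) hnil g, AlgHom.ext fun b => ?_⟩
  have h := congrArg (Ideal.Quotient.factor (inf_le_right : R ⊓ I₂ ≤ I₂)) (Algebra.FormallySmooth.mk_lift (R ⊓ I₂) hnil g b)
  rw [Ideal.Quotient.factor_mk, hg₂] at h
  have h' := congrArg e₂ h
  simp only [AlgHom.comp_apply, AlgHom.coe_coe] at h'
  exact h'.trans (e₂.apply_symm_apply _)

end Groth.Agent.S4556
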