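import Groth.Statements.S4557
import Groth.Agent.Ega41Adic.CompletionFinite
import Groth.Agent.SGA7.PowerSeries
import Groth.Agent.AdicLinTop.Adic
import Mathlib.RingTheory.Etale.Kaehler
import Mathlib.RingTheory.Etale.Field
import Mathlib.RingTheory.MvPowerSeries.Derivative
import Mathlib.RingTheory.AdicCompletion.Functoriality
import Mathlib.RingTheory.Filtration

set_option autoImplicit false
universe u
open EGA41

namespace Groth.Agent.S4557

open IsLocalRing TensorProduct MvPowerSeries

section Lib

variable {k : Type u} [Field k] {r : ℕ} {A : Type u} [CommRing A] [IsLocalRing A]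
  [Algebra (MvPowerSeries (Fin r) k) A] [Algebra k A] [IsScalarTower k (MvPowerSeries (Fin r) k) A]

/-- The differentials of the variables generate those of all series, up to small error. -/
theorem D_mem_span_sup (hT : ∀ i, algebraMap (MvPowerSeries (Fin r) k) A (X i) ∈ maximalIdeal A) :
    ∀ (n : ℕ) (c : MvPowerSeries (Fin r) k), KaehlerDifferential.D k A (algebraMap _ A c) ∈
      Submodule.span A (Set.range fun i => KaehlerDifferential.D k A (algebraMap _ A (X i : MvPowerSeries (Fin r) k))) ⊔
        maximalIdeal A ^ n • (⊤ : Submodule A Ω[A⁄k]) := by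
  intro n
  induction n with
  | zero => intro c; rw [pow_zero, one_smul]; exact Submodule.mem_sup_right trivial
  | succ n ih =>
    intro c
    have hc : c - C (constantCoeff c) ∈ Groth.SGA7.PS.varIdeal (Fin r) k := by
      rw [← Groth.SGA7.PS.maximalIdeal_eq, Groth.SGA7.PS.maximalIdeal_eq_ker, RingHom.mem_ker, map_sub,
        constantCoeff_C, sub_self]
    obtain ⟨g, hg⟩ := (Submodule.mem_span_range_iff_exists_fun (MvPowerSeries (Fin r) k)).mp hc
    let φ := algebraMap (MvPowerSeries (Fin r) k) A
    have hC : KaehlerDifferential.D k A (φ (C (constantCoeff c))) = 0 := by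
      rw [show φ (C (constantCoeff c)) = algebraMap k A (constantCoeff c) by
        rw [IsScalarTower.algebraMap_apply k (MvPowerSeries (Fin r) k) A, MvPowerSeries.algebraMap_apply,
          Algebra.algebraMap_self, RingHom.id_apply]]
      exact Derivation.map_algebraMap _ _
    have hcc : φ c = φ (C (constantCoeff c)) + ∑ i, φ (g i) * φ (X i) := by
      rw [← sub_eq_iff_eq_add', ← map_sub, ← hg, map_sum]
      simp
    rw [hcc, map_add, hC, zero_add, map_sum]
    refine Submodule.sum_mem _ fun i _ => ?_
    rw [Derivation.leibniz]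
    refine add_mem (Submodule.mem_sup_left (Submodule.smul_mem _ _ (Submodule.subset_span ⟨i, rfl⟩))) ?_
    have h2 := Submodule.smul_mem_smul (N := _) (hT i) (ih (g i))
    rw [Submodule.smul_sup, ← mul_smul, ← pow_succ'] at h2
    exact SetLike.le_def.mp (sup_le_sup_right (Submodule.smul_le_right : _ • Submodule.span A _ ≤ _) _) h2

variable [IsDomain A] [IsNoetherianRing A] [IsAdicComplete (maximalIdeal A) A]
  [Module.Finite (MvPowerSeries (Fin r) k) A]

/-- Shorthand for the class of `dx` in the completion. -/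
noncomputable abbrev dh (k : Type u) [Field k] (A : Type u) [CommRing A] [IsLocalRing A] [Algebra k A] (x : A) :
    AdicCompletion (maximalIdeal A) (Ω[A⁄k]) :=
  AdicCompletion.of (maximalIdeal A) (Ω[A⁄k]) (KaehlerDifferential.D k A x)

/-- Generators of the completed differentials. -/
theorem exists_generators (hT : ∀ i, algebraMap (MvPowerSeries (Fin r) k) A (X i) ∈ maximalIdeal A) :
    ∃ (N : ℕ) (f : (Fin N → A) →ₗ[A] Ω[A⁄k]), Function.Surjective (AdicCompletion.of (maximalIdeal A) (Ω[A⁄k]) ∘ₗ f) ∧
      ∀ c, f c ∈ Submodule.span A (Set.range (KaehlerDifferential.D k A)) := by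
  classical
  let A₀ := MvPowerSeries (Fin r) k
  let φ : A₀ →+* A := algebraMap A₀ A
  let T : Fin r → A := fun i => φ (X i)
  let d := KaehlerDifferential.D k A
  obtain ⟨N, a, ha⟩ := Module.Finite.exists_fin (R := A₀) (M := A)
  let M₀ : Submodule A (Ω[A⁄k]) := Submodule.span A (Set.range fun i => d (T i))
  let Ma : Submodule A (Ω[A⁄k]) := Submodule.span A (Set.range fun j => d (a j))
  have hD : ∀ (n : ℕ) (x : A), d x ∈ M₀ ⊔ Ma ⊔ maximalIdeal A ^ n • ⊤ := by
    intro n x
    have hx : x ∈ Submodule.span A₀ (Set.range a) := ha ▸ trivial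
    obtain ⟨c, rfl⟩ := (Submodule.mem_span_range_iff_exists_fun A₀).mp hx
    rw [map_sum]
    refine Submodule.sum_mem _ fun j _ => ?_
    rw [Algebra.smul_def, Derivation.leibniz]
    refine add_mem ?_ ?_
    · exact Submodule.mem_sup_left (Submodule.mem_sup_right (Submodule.smul_mem _ _ (Submodule.subset_span ⟨j, rfl⟩)))
    · refine Submodule.smul_mem _ _ ?_
      exact SetLike.le_def.mp (sup_le_sup_right le_sup_left _) (D_mem_span_sup (k := k) hT n (c j))
  -- generators of the completion
  let g : Fin (r + N) → Ω[A⁄k] := Fin.append (fun i => d (T i)) (fun j => d (a j))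
  have hg : LinearMap.range (Fintype.linearCombination A g) ⊔ maximalIdeal A • ⊤ = ⊤ := by
    rw [eq_top_iff]
    refine le_trans (le_of_eq (KaehlerDifferential.span_range_derivation k A).symm) (Submodule.span_le.mpr ?_)
    rintro _ ⟨x, rfl⟩
    have h := hD 1 x
    rw [pow_one] at h
    rw [Fintype.range_linearCombination]
    have hle : M₀ ⊔ Ma ≤ Submodule.span A (Set.range g) := by
      refine sup_le ?_ ?_
      · exact Submodule.span_mono (by rintro _ ⟨i, rfl⟩; exact ⟨Fin.castAdd N i, Fin.append_left _ _ i⟩)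
      · exact Submodule.span_mono (by rintro _ ⟨j, rfl⟩; exact ⟨Fin.natAdd r j, Fin.append_right _ _ j⟩)
    exact SetLike.le_def.mp (sup_le_sup_right hle _) h
  exact ⟨r + N, Fintype.linearCombination A g, Groth.Ega41Adic.surjective_of_comp_of_range_sup_eq_top (maximalIdeal A) _ hg, fun c => by
    rw [KaehlerDifferential.span_range_derivation]; trivial⟩

/-- The separable relation. -/
theorem exists_relation (hT : ∀ i, algebraMap (MvPowerSeries (Fin r) k) A (X i) ∈ maximalIdeal A) (hinj : Function.Injective (algebraMap (MvPowerSeries (Fin r) k) A)) (hsep : ∀ a : A, ∃ P : Polynomial (MvPowerSeries (Fin r) k), Polynomial.aeval a P = 0 ∧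
      (P.map (algebraMap (MvPowerSeries (Fin r) k) (FractionRing (MvPowerSeries (Fin r) k)))).Separable) (x : A) :
    ∃ e : A, e ≠ 0 ∧ ∀ n, e • dh k A x ∈ Submodule.span A (Set.range fun i => dh k A (algebraMap _ A (X i : MvPowerSeries (Fin r) k))) ⊔
      maximalIdeal A ^ n • ⊤ := by
  classical
  let A₀ := MvPowerSeries (Fin r) k
  let φ : A₀ →+* A := algebraMap A₀ A
  let E := FractionRing A
  let Ω' := AdicCompletion (maximalIdeal A) (Ω[A⁄k])
  let T : Fin r → A := fun i => φ (X i)
  let d := KaehlerDifferential.D k A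
  haveI : FaithfulSMul A₀ A := (faithfulSMul_iff_algebraMap_injective A₀ A).mpr hinj
  let M₀ : Submodule A (Ω[A⁄k]) := Submodule.span A (Set.range fun i => d (T i))
  let ι := AdicCompletion.of (maximalIdeal A) (Ω[A⁄k])
  let N₀ : Submodule A Ω' := Submodule.span A (Set.range fun i => ι (d (T i)))
  obtain ⟨P, hP, hPs⟩ := hsep x
  refine ⟨Polynomial.aeval x P.derivative, fun h0 => ?_, fun n => ?_⟩
  · let L₀ := FractionRing A₀
    letI : Algebra L₀ E := FractionRing.liftAlgebra A₀ E
    have h1 : Polynomial.aeval (algebraMap A E x) (P.map (algebraMap A₀ L₀)) = 0 := by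
      rw [Polynomial.aeval_map_algebraMap, Polynomial.aeval_algebraMap_apply, hP, map_zero]
    have h2 := hPs.aeval_derivative_ne_zero h1
    rw [Polynomial.derivative_map, Polynomial.aeval_map_algebraMap, Polynomial.aeval_algebraMap_apply, h0,
      map_zero] at h2
    exact h2 rfl
  · have h1 : Polynomial.aeval x P.derivative • d x = - P.sum (fun m c => x ^ m • d (φ c)) := by
      rw [eq_neg_iff_add_eq_zero]
      have h2 : d (Polynomial.aeval x P) = 0 := by rw [hP, map_zero]
      rw [← h2]
      clear h2 hP hPs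
      symm
      induction P using Polynomial.induction_on' with
      | add P Q hP hQ =>
          rw [map_add (Polynomial.aeval x), map_add d, hP, hQ, Polynomial.derivative_add, map_add,
            Polynomial.sum_add_index _ _ _ (by simp) (by intros; rw [map_add, map_add, smul_add]), add_smul]
          abel
      | monomial m c =>
          rw [Polynomial.sum_monomial_index _ _ (by simp), Polynomial.derivative_monomial, Polynomial.aeval_monomial,
            Polynomial.aeval_monomial, Derivation.leibniz, Derivation.leibniz_pow, map_mul, map_natCast,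
            ← Nat.cast_smul_eq_nsmul A, smul_smul, smul_smul, add_comm]
    have h3 : (M₀ ⊔ maximalIdeal A ^ n • ⊤).map ι ≤ N₀ ⊔ maximalIdeal A ^ n • ⊤ := by
      rw [Submodule.map_sup, Submodule.map_span, ← Set.range_comp, Submodule.map_smul'']
      exact sup_le_sup le_rfl (smul_mono_right _ le_top)
    rw [← map_smul, h1, map_neg]
    refine neg_mem (h3 (Submodule.mem_map_of_mem ?_))
    rw [Polynomial.sum_def]
    exact Submodule.sum_mem _ fun m _ => Submodule.smul_mem _ _ (D_mem_span_sup hT n _)

/-- The variables span generically. -/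
theorem span_eq_top (hT : ∀ i, algebraMap (MvPowerSeries (Fin r) k) A (X i) ∈ maximalIdeal A) (hinj : Function.Injective (algebraMap (MvPowerSeries (Fin r) k) A)) (hsep : ∀ a : A, ∃ P : Polynomial (MvPowerSeries (Fin r) k), Polynomial.aeval a P = 0 ∧
      (P.map (algebraMap (MvPowerSeries (Fin r) k) (FractionRing (MvPowerSeries (Fin r) k)))).Separable) :
    ⊤ ≤ Submodule.span (FractionRing A) (Set.range fun i =>
      (1 : FractionRing A) ⊗ₜ[A] dh k A (algebraMap _ A (X i : MvPowerSeries (Fin r) k))) := by
  classical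
  let A₀ := MvPowerSeries (Fin r) k
  let φ : A₀ →+* A := algebraMap A₀ A
  let E := FractionRing A
  let Ω' := AdicCompletion (maximalIdeal A) (Ω[A⁄k])
  let T : Fin r → A := fun i => φ (X i)
  let d := KaehlerDifferential.D k A
  let ι := AdicCompletion.of (maximalIdeal A) (Ω[A⁄k])
  let t : Fin r → E ⊗[A] Ω' := fun i => (1 : E) ⊗ₜ[A] ι (d (T i))
  let N₀ : Submodule A Ω' := Submodule.span A (Set.range fun i => ι (d (T i)))
  obtain ⟨N, f, hsurj, hf⟩ := exists_generators hT
  haveI : Module.Finite A Ω' := Module.Finite.of_surjective _ hsurj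
  have hrel := exists_relation hT hinj hsep
  -- upper bound
  have hclosed : ∀ w : Ω', (∀ n, w ∈ N₀ ⊔ maximalIdeal A ^ n • ⊤) → w ∈ N₀ := by
    intro w hw
    rw [← Submodule.Quotient.mk_eq_zero]
    have : N₀.mkQ w ∈ ⨅ n, maximalIdeal A ^ n • (⊤ : Submodule A (Ω' ⧸ N₀)) := by
      rw [Submodule.mem_iInf]
      intro n
      obtain ⟨u, hu, v, hv, huv⟩ := Submodule.mem_sup.mp (hw n)
      rw [← huv, map_add, show N₀.mkQ u = 0 from (Submodule.Quotient.mk_eq_zero N₀).mpr hu, zero_add]
      have := Submodule.mem_map_of_mem (f := N₀.mkQ) hv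
      rw [Submodule.map_smul''] at this
      exact SetLike.le_def.mp (smul_mono_right (maximalIdeal A ^ n) le_top) this
    rw [Ideal.iInf_pow_smul_eq_bot_of_isLocalRing _ (maximalIdeal.isMaximal A).ne_top] at this
    exact (Submodule.mem_bot A).mp this
  rintro z -
  induction z using TensorProduct.induction_on with
  | zero => exact zero_mem _
  | add u v hu hv => exact add_mem hu hv
  | tmul e w =>
    rw [show e ⊗ₜ[A] w = e • ((1 : E) ⊗ₜ[A] w) by rw [TensorProduct.smul_tmul', smul_eq_mul, mul_one]]
    refine Submodule.smul_mem _ _ ?_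
    obtain ⟨c, rfl⟩ := hsurj w
    have hgen : ∀ x : A, (1 : E) ⊗ₜ[A] ι (d x) ∈ Submodule.span E (Set.range t) := by
      intro x
      obtain ⟨e', he', hmem⟩ := hrel x
      obtain ⟨f, hf⟩ := (Submodule.mem_span_range_iff_exists_fun A).mp (hclosed _ hmem)
      have h1 : algebraMap A E e' • ((1 : E) ⊗ₜ[A] ι (d x)) = ∑ i, algebraMap A E (f i) • t i := by
        rw [IsScalarTower.algebraMap_smul, ← TensorProduct.tmul_smul, ← hf, TensorProduct.tmul_sum]
        exact Finset.sum_congr rfl fun i _ => by rw [IsScalarTower.algebraMap_smul, ← TensorProduct.tmul_smul]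
      have h2 : algebraMap A E e' ≠ 0 := (map_ne_zero_iff _ (IsFractionRing.injective A E)).mpr he'
      rw [← Submodule.smul_mem_iff _ h2, h1]
      exact Submodule.sum_mem _ fun i _ => Submodule.smul_mem _ _ (Submodule.subset_span ⟨i, rfl⟩)
    have hgen' : ∀ v ∈ Submodule.span A (Set.range d), (1 : E) ⊗ₜ[A] ι v ∈ Submodule.span E (Set.range t) := by
      intro v hv
      induction hv using Submodule.span_induction with
      | mem w hw => obtain ⟨x, rfl⟩ := hw; exact hgen x
      | zero => rw [map_zero, TensorProduct.tmul_zero]; exact zero_mem _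
      | add u v _ _ hu hv => rw [map_add, TensorProduct.tmul_add]; exact add_mem hu hv
      | smul c u _ hu =>
          rw [map_smul, TensorProduct.tmul_smul, ← IsScalarTower.algebraMap_smul E c]
          exact Submodule.smul_mem _ _ hu
    exact hgen' _ (hf c)

/-- Coordinates detecting the variables. -/
theorem exists_coordinates (hinj : Function.Injective (algebraMap (MvPowerSeries (Fin r) k) A)) (hsep : ∀ a : A, ∃ P : Polynomial (MvPowerSeries (Fin r) k), Polynomial.aeval a P = 0 ∧
      (P.map (algebraMap (MvPowerSeries (Fin r) k) (FractionRing (MvPowerSeries (Fin r) k)))).Separable) :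
    ∃ Ψ : FractionRing A ⊗[A] AdicCompletion (maximalIdeal A) (Ω[A⁄k]) →ₗ[FractionRing A] (Fin r → FractionRing A),
      ∀ i, Ψ ((1 : FractionRing A) ⊗ₜ[A] dh k A (algebraMap _ A (X i : MvPowerSeries (Fin r) k))) = Pi.single i 1 := by
  classical
  let A₀ := MvPowerSeries (Fin r) k
  let φ : A₀ →+* A := algebraMap A₀ A
  let E := FractionRing A
  let Ω' := AdicCompletion (maximalIdeal A) (Ω[A⁄k])
  let T : Fin r → A := fun i => φ (X i)
  let d := KaehlerDifferential.D k A
  let ι := AdicCompletion.of (maximalIdeal A) (Ω[A⁄k])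
  let t : Fin r → E ⊗[A] Ω' := fun i => (1 : E) ⊗ₜ[A] ι (d (T i))
  haveI : FaithfulSMul A₀ A := (faithfulSMul_iff_algebraMap_injective A₀ A).mpr hinj
  obtain ⟨N, a, ha⟩ := Module.Finite.exists_fin (R := A₀) (M := A)
  let L₀ := FractionRing A₀
  letI : Algebra L₀ E := FractionRing.liftAlgebra A₀ E
  haveI : Algebra.IsSeparable L₀ E := by
    refine ⟨fun z => ?_⟩
    have hA : ∀ x : A, algebraMap A E x ∈ separableClosure L₀ E := fun x => by
      obtain ⟨P, hP, hPs⟩ := hsep x
      refine mem_separableClosure_iff.mpr (hPs.of_dvd (minpoly.dvd L₀ _ ?_))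
      rw [Polynomial.aeval_map_algebraMap, Polynomial.aeval_algebraMap_apply, hP, map_zero]
    obtain ⟨x, y, -, rfl⟩ := IsFractionRing.div_surjective A z
    exact mem_separableClosure_iff.mp (div_mem (hA x) (hA y))
  haveI : Algebra.FormallyEtale L₀ E := Algebra.FormallyEtale.of_isSeparable L₀ E
  haveI : Algebra.FormallyEtale A₀ L₀ := Algebra.FormallyEtale.of_isLocalization (nonZeroDivisors A₀)
  haveI : Algebra.FormallyEtale A₀ E := Algebra.FormallyEtale.comp A₀ L₀ E
  let pd : Ω[A₀⁄k] →ₗ[A₀] (Fin r → E) :=
    LinearMap.pi fun i => ((Algebra.linearMap A₀ E).compDer (MvPowerSeries.pderiv k i)).liftKaehlerDifferential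
  let Φ : Ω[A⁄k] →ₗ[A] (Fin r → E) :=
    ((pd.liftBaseChange E) ∘ₗ (KaehlerDifferential.tensorKaehlerEquivOfFormallyEtale k A₀ E).symm.toLinearMap).restrictScalars A
      ∘ₗ KaehlerDifferential.map k k A E
  have hΦ : ∀ (c : A₀) i, Φ (d (φ c)) i = algebraMap A₀ E (MvPowerSeries.pderiv k i c) := by
    intro c i
    simp only [Φ, d, LinearMap.comp_apply, LinearMap.restrictScalars_apply, KaehlerDifferential.map_D]
    rw [show algebraMap A E (φ c) = algebraMap A₀ E c from (IsScalarTower.algebraMap_apply A₀ A E c).symm,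
      LinearEquiv.coe_coe, KaehlerDifferential.tensorKaehlerEquivOfFormallyEtale_symm_D_algebraMap,
      LinearMap.liftBaseChange_tmul, one_smul, LinearMap.pi_apply, Derivation.liftKaehlerDifferential_comp_D]
    rfl
  let N' : Submodule A (Fin r → E) := Submodule.span A
    (Set.range (fun j => Φ (d (a j))) ∪ Set.range (fun i : Fin r => (Pi.single i 1 : Fin r → E)))
  have hΦN : ∀ w, Φ w ∈ N' := by
    have hc : ∀ c : A₀, Φ (d (φ c)) ∈ N' := by
      intro c
      rw [show Φ (d (φ c)) = ∑ i, φ (MvPowerSeries.pderiv k i c) • (Pi.single i (1 : E) : Fin r → E) by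
        funext i
        rw [hΦ, Finset.sum_apply, Finset.sum_eq_single i (fun j _ hj => by simp [Pi.single_eq_of_ne hj.symm])
          (fun h => absurd (Finset.mem_univ i) h), Pi.smul_apply, Pi.single_eq_same, Algebra.smul_def, mul_one,
          ← IsScalarTower.algebraMap_apply]]
      exact Submodule.sum_mem _ fun i _ => N'.smul_mem _ (Submodule.subset_span (Or.inr ⟨i, rfl⟩))
    have hle : (⊤ : Submodule A (Ω[A⁄k])) ≤ N'.comap Φ := by
      rw [← KaehlerDifferential.span_range_derivation k A, Submodule.span_le]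
      rintro _ ⟨x, rfl⟩
      have hx : x ∈ Submodule.span A₀ (Set.range a) := ha ▸ trivial
      obtain ⟨c, rfl⟩ := (Submodule.mem_span_range_iff_exists_fun A₀).mp hx
      rw [map_sum]
      refine Submodule.sum_mem _ fun j _ => ?_
      rw [Algebra.smul_def, Derivation.leibniz]
      exact add_mem (Submodule.smul_mem _ _ (Submodule.subset_span (Or.inl ⟨j, rfl⟩) : Φ (d (a j)) ∈ N'))
        (Submodule.smul_mem _ _ (hc _ : d (φ (c j)) ∈ N'.comap Φ))
    exact fun w => hle trivial
  haveI : Module.Finite A N' := Module.Finite.iff_fg.mpr (Submodule.fg_span ((Set.finite_range _).union (Set.finite_range _)))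
  haveI : IsAdicComplete (maximalIdeal A) N' := Groth.AdicLinTop.Adic.isAdicComplete_of_finite (I := maximalIdeal A)
  let eN := LinearEquiv.ofBijective (AdicCompletion.of (maximalIdeal A) N')
    (AdicCompletion.of_bijective_iff.mpr inferInstance)
  let Ψ : E ⊗[A] Ω' →ₗ[E] (Fin r → E) := (N'.subtype ∘ₗ eN.symm.toLinearMap ∘ₗ
    ((AdicCompletion.map (maximalIdeal A) (Φ.codRestrict N' hΦN)).restrictScalars A)).liftBaseChange E
  have hΨ : ∀ i, Ψ (t i) = Pi.single i 1 := by
    intro i
    simp only [Ψ, t, LinearMap.liftBaseChange_tmul, one_smul, LinearMap.comp_apply, LinearMap.restrictScalars_apply,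
      ι, AdicCompletion.map_of]
    have h1 : eN.symm.toLinearMap (AdicCompletion.of (maximalIdeal A) N' (Φ.codRestrict N' hΦN (d (T i)))) =
        Φ.codRestrict N' hΦN (d (T i)) := eN.symm_apply_apply _
    rw [h1]
    funext j
    show Φ (d (φ (X i))) j = _
    rw [hΦ, MvPowerSeries.pderiv_X]
    by_cases hij : i = j
    · subst hij; simp
    · simp [Pi.single_apply, hij, Ne.symm hij]
  exact ⟨Ψ, hΨ⟩

end Lib

open IsLocalRing TensorProduct in
/-- Let A be a complete Noetherian local integral domain, A₀ a subring of A isomorphic to a power series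
ring k[[T_1, …, T_r]] over a field k such that A is a finite A₀-algebra and the field of fractions E
of A is a separable extension of the field of fractions L₀ of A₀ (here: A₀ = k[[T]] → A injective
and finite, A a k-algebra through A₀, and every element of A is a root of a polynomial over A₀ which
is separable over L₀). Then rk_A Ω̂_{A/k} = rk_E (Ω̂_{A/k} ⊗_A E) = dim A = r, where Ω̂_{A/k} is the
𝔪-adic completion of Ω_{A/k}; stated as dim_E (E ⊗_A Ω̂_{A/k}) = r. -/
theorem result (k : Type u) [Field k] (r : ℕ) (A : Type u) [CommRing A]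
    [IsDomain A] [IsLocalRing A] [IsNoetherianRing A] [IsAdicComplete (maximalIdeal A) A]
    [Algebra (MvPowerSeries (Fin r) k) A] [Algebra k A] [IsScalarTower k (MvPowerSeries (Fin r) k) A]
    (hinj : Function.Injective (algebraMap (MvPowerSeries (Fin r) k) A)) [Module.Finite (MvPowerSeries (Fin r) k) A]
    (hsep : ∀ a : A, ∃ P : Polynomial (MvPowerSeries (Fin r) k), Polynomial.aeval a P = 0 ∧
      (P.map (algebraMap (MvPowerSeries (Fin r) k) (FractionRing (MvPowerSeries (Fin r) k)))).Separable) :
    Module.finrank (FractionRing A) (FractionRing A ⊗[A] AdicCompletion (maximalIdeal A) (Ω[A⁄k])) = r := by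
  classical
  let A₀ := MvPowerSeries (Fin r) k
  have hT : ∀ i, algebraMap A₀ A (X i) ∈ maximalIdeal A := by
    intro i
    haveI : FaithfulSMul A₀ A := (faithfulSMul_iff_algebraMap_injective A₀ A).mpr hinj
    haveI : Algebra.IsIntegral A₀ A := Algebra.IsIntegral.of_finite A₀ A
    have h1 : (maximalIdeal A).comap (algebraMap A₀ A) = maximalIdeal A₀ :=
      IsLocalRing.eq_maximalIdeal (Ideal.isMaximal_comap_of_isIntegral_of_isMaximal (R := A₀) (maximalIdeal A))
    refine Ideal.mem_comap.mp ?_
    rw [h1, Groth.SGA7.PS.maximalIdeal_eq_ker, RingHom.mem_ker, constantCoeff_X]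
  obtain ⟨Ψ, hΨ⟩ := exists_coordinates hinj hsep
  let t : Fin r → FractionRing A ⊗[A] AdicCompletion (maximalIdeal A) (Ω[A⁄k]) := fun i =>
    (1 : FractionRing A) ⊗ₜ[A] dh k A (algebraMap A₀ A (X i))
  have hli : LinearIndependent (FractionRing A) t := by
    refine LinearIndependent.of_comp Ψ ?_
    rw [show (Ψ ∘ t) = fun i => (Pi.single i 1 : Fin r → FractionRing A) from funext hΨ]
    exact Pi.linearIndependent_single_one (Fin r) (FractionRing A)
  rw [Module.finrank_eq_card_basis (Module.Basis.mk hli (span_eq_top hT hinj hsep)), Fintype.card_fin]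

end Groth.Agent.S4557
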