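import Groth.Statements.S4560
import Groth.Agent.Ega41Adic.Unramified
open Groth.Ega41Adic

set_option autoImplicit false
universe u
open EGA41

namespace Groth.Agent.S4560

/-- Let A be a ring, 𝔪 an ideal of A, B an A-algebra; give A the 𝔪-adic topology and B the topology
deduced from it (the 𝔪B-adic topology), and put A₀ = A/𝔪, B₀ = B/𝔪B. Then B is a formally unramified
A-algebra (for these topologies: E discrete means killed by a power of 𝔪, and continuity of maps B →
E is then automatic) if and only if Ω_{B₀/A₀} = 0, i.e. B₀ is a formally unramified A₀-algebra. -/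
theorem result {A B : Type u} [CommRing A] [CommRing B] [Algebra A B] (𝔪 : Ideal A) :
    (∀ (E : Type u) [CommRing E] [Algebra A E], (∃ k : ℕ, (𝔪 ^ k).map (algebraMap A E) = ⊥) →
      ∀ J : Ideal E, IsNilpotent J → ∀ v₁ v₂ : B →ₐ[A] E,
        (∀ b : B, Ideal.Quotient.mk J (v₁ b) = Ideal.Quotient.mk J (v₂ b)) → v₁ = v₂) ↔
    Subsingleton (Ω[B ⧸ 𝔪.map (algebraMap A B)⁄A ⧸ 𝔪]) := by
  rw [subsingleton_kaehler_quotient_iff]
  refine ⟨fun h => kaehler_eq_of_unique (Or.inl le_rfl) fun E _ _ hE J hJ v₁ v₂ _ _ heq =>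
    h E hE J hJ v₁ v₂ heq, fun h E _ _ ⟨k, hk⟩ J hJ v₁ v₂ heq => eq_of_kaehler_eq h hJ v₁ v₂ (m := k) (fun x hx => ?_) heq⟩
  rw [← Ideal.map_pow] at hx
  have : (𝔪 ^ k).map (algebraMap A B) ≤ RingHom.ker v₁.toRingHom := by
    rw [Ideal.map_le_iff_le_comap]
    intro a ha
    show v₁ (algebraMap A B a) = 0
    rw [v₁.commutes]
    exact (Ideal.map_eq_bot_iff_le_ker _).mp hk ha
  exact this hx

end Groth.Agent.S4560
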