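import Groth.Statements.S4561
import Groth.Agent.Ega41Flat.SeriesSubfield
import Mathlib.Algebra.CharP.Algebra
import Mathlib.LinearAlgebra.FiniteDimensional.Basic
import Mathlib.FieldTheory.IntermediateField.Adjoin.Basic


set_option autoImplicit false
universe u
open EGA41

namespace Groth.Agent.S4561

/-- Let k₀ be a field of characteristic p > 0 with [k₀ : k₀^p] < ∞ and K₀ an extension of k₀. Inside
K₀((T_1, …, T_r)) one has (k₀(K₀^p))((T_1, …, T_r)) = k₀(K₀^p((T_1, …, T_r))); here, for a subfield
F of K₀, F((T)) denotes the subfield of the fraction field of K₀[[T]] generated by the power series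
with all coefficients in F. -/
theorem result (p : ℕ) [Fact p.Prime] {k₀ K₀ : Type u} [Field k₀] [Field K₀] [Algebra k₀ K₀] [CharP k₀ p]
    (hfin : Module.Finite (Subfield.closure (Set.range fun x : k₀ => x ^ p)) k₀) (r : ℕ) :
    Subfield.closure (algebraMap (MvPowerSeries (Fin r) K₀) (FractionRing (MvPowerSeries (Fin r) K₀)) ''
        {f | ∀ n, MvPowerSeries.coeff n f ∈
          Subfield.closure (Set.range (algebraMap k₀ K₀) ∪ Set.range fun y : K₀ => y ^ p)}) =
      Subfield.closure
        (Set.range (algebraMap k₀ (FractionRing (MvPowerSeries (Fin r) K₀))) ∪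
          (Subfield.closure (algebraMap (MvPowerSeries (Fin r) K₀) (FractionRing (MvPowerSeries (Fin r) K₀)) ''
            {f | ∀ n, MvPowerSeries.coeff n f ∈ Subfield.closure (Set.range fun y : K₀ => y ^ p)}) :
            Set (FractionRing (MvPowerSeries (Fin r) K₀)))) := by
  classical
  haveI : CharP K₀ p := charP_of_injective_algebraMap (algebraMap k₀ K₀).injective p
  let A := MvPowerSeries (Fin r) K₀
  let φ : A →+* FractionRing A := algebraMap A (FractionRing A)
  let P : Subfield K₀ := Subfield.closure (Set.range fun y : K₀ => y ^ p)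
  let F : Subfield K₀ := Subfield.closure (Set.range (algebraMap k₀ K₀) ∪ Set.range fun y : K₀ => y ^ p)
  have hC : ∀ c : k₀, algebraMap k₀ (FractionRing A) c = φ (MvPowerSeries.C (algebraMap k₀ K₀ c)) := fun c => by
    rw [IsScalarTower.algebraMap_apply k₀ A (FractionRing A), MvPowerSeries.algebraMap_apply]
  refine le_antisymm (Subfield.closure_le.mpr ?_) (Subfield.closure_le.mpr ?_)
  · rintro _ ⟨f, hf, rfl⟩
    obtain ⟨b, hb⟩ := (Module.finite_def.mp hfin)
    -- coefficients are combinations of the finite spanning set over the `p`-th powers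
    let W : Submodule P K₀ := Submodule.span P (algebraMap k₀ K₀ '' (b : Set k₀))
    have hk : ∀ c : k₀, algebraMap k₀ K₀ c ∈ W := by
      intro c
      have hc : c ∈ Submodule.span (Subfield.closure (Set.range fun x : k₀ => x ^ p)) (b : Set k₀) := by
        rw [hb]; trivial
      induction hc using Submodule.span_induction with
      | mem z hz => exact Submodule.subset_span ⟨z, hz, rfl⟩
      | zero => rw [map_zero]; exact zero_mem _
      | add y z _ _ hy hz => rw [map_add]; exact add_mem hy hz
      | smul a z _ hz =>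
          have ha : algebraMap k₀ K₀ (a : k₀) ∈ P := by
            have hle : Subfield.closure (Set.range fun x : k₀ => x ^ p) ≤ P.comap (algebraMap k₀ K₀) :=
              Subfield.closure_le.mpr (by
                rintro _ ⟨x, rfl⟩
                show algebraMap k₀ K₀ (x ^ p) ∈ P
                rw [map_pow]
                exact Subfield.subset_closure ⟨_, rfl⟩)
            exact hle a.2
          show algebraMap k₀ K₀ ((a : k₀) * z) ∈ W
          rw [map_mul]
          exact W.smul_mem (⟨_, ha⟩ : P) hz
    let S : Subalgebra P K₀ := (Submodule.span P (Set.range (algebraMap k₀ K₀))).toSubalgebra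
      (Submodule.subset_span ⟨1, map_one _⟩) (fun x y hx hy => by
        have h := Submodule.mul_mem_mul hx hy
        rw [Submodule.span_mul_span] at h
        refine Submodule.span_mono ?_ h
        rintro _ ⟨_, ⟨u, rfl⟩, _, ⟨v, rfl⟩, rfl⟩
        exact ⟨u * v, map_mul _ _ _⟩)
    have hSW : ∀ z ∈ S, z ∈ W := fun z hz => (Submodule.span_le.mpr (by rintro _ ⟨c, rfl⟩; exact hk c)) hz
    have hpS : ∀ z : K₀, z ^ p ∈ S := fun z =>
      S.algebraMap_mem (⟨z ^ p, Subfield.subset_closure ⟨z, rfl⟩⟩ : P)
    have hinv : ∀ z ∈ S, z⁻¹ ∈ S := by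
      intro z hz
      rcases eq_or_ne z 0 with rfl | h
      · simp
      have : z⁻¹ = z ^ (p - 1) * (z⁻¹) ^ p := by
        obtain ⟨m, hm⟩ : ∃ m, p = m + 1 := ⟨p - 1, (Nat.succ_pred_eq_of_pos (Fact.out : p.Prime).pos).symm⟩
        rw [hm, Nat.add_sub_cancel, pow_succ, ← mul_assoc, ← mul_pow, mul_inv_cancel₀ h, one_pow, one_mul]
      rw [this]
      exact mul_mem (pow_mem hz _) (hpS _)
    have hFS : ∀ z ∈ F, z ∈ S := by
      intro z hz
      refine (Subfield.closure_le.mpr ?_ : F ≤ (S.toIntermediateField hinv).toSubfield) hz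
      rintro w (⟨c, rfl⟩ | ⟨y, rfl⟩)
      · exact Submodule.subset_span ⟨c, rfl⟩
      · exact hpS y
    have hWb : ∀ z ∈ W, ∃ d : k₀ → K₀, (∀ j, d j ∈ P) ∧ ∑ j ∈ b, d j * algebraMap k₀ K₀ j = z := by
      intro z hz
      induction hz using Submodule.span_induction with
      | mem w hw =>
          obtain ⟨j₀, hj₀, rfl⟩ := hw
          refine ⟨fun j => if j = j₀ then 1 else 0, fun j => by beta_reduce; split_ifs <;> [exact P.one_mem; exact P.zero_mem], ?_⟩
          rw [Finset.sum_eq_single j₀ (fun j _ hj => by simp [hj]) (fun h => absurd hj₀ h)]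
          simp
      | zero => exact ⟨0, fun _ => P.zero_mem, by simp⟩
      | add y z _ _ hy hz =>
          obtain ⟨d, hd, hd'⟩ := hy
          obtain ⟨d', hd₁, hd₂⟩ := hz
          exact ⟨d + d', fun j => P.add_mem (hd j) (hd₁ j), by simp [add_mul, Finset.sum_add_distrib, hd', hd₂]⟩
      | smul a z _ hz =>
          obtain ⟨d, hd, hd'⟩ := hz
          refine ⟨fun j => (a : K₀) * d j, fun j => P.mul_mem a.2 (hd j), ?_⟩
          show _ = (a : K₀) * z
          rw [← hd', Finset.mul_sum]
          exact Finset.sum_congr rfl fun j _ => mul_assoc _ _ _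
    have hdec : ∀ n, ∃ d : k₀ → K₀, (∀ j, d j ∈ P) ∧ ∑ j ∈ b, d j * algebraMap k₀ K₀ j = MvPowerSeries.coeff n f :=
      fun n => hWb _ (hSW _ (hFS _ (hf n)))
    choose d hd hdsum using hdec
    let g : k₀ → A := fun j n => d n j
    have hfeq : f = ∑ j ∈ b, MvPowerSeries.C (algebraMap k₀ K₀ j) * g j := by
      ext n
      rw [map_sum, ← hdsum n]
      refine Finset.sum_congr rfl fun j _ => ?_
      rw [MvPowerSeries.coeff_C_mul, mul_comm]
      rfl
    change φ f ∈ _
    rw [hfeq, map_sum]
    refine Subfield.sum_mem _ fun j _ => ?_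
    rw [map_mul, ← hC]
    refine mul_mem (Subfield.subset_closure (Or.inl ⟨j, rfl⟩)) ?_
    exact Subfield.subset_closure (Or.inr (Subfield.subset_closure ⟨g j, fun n => hd n j, rfl⟩))
  · rintro x (⟨c, rfl⟩ | hx)
    · rw [hC]
      refine Subfield.subset_closure ⟨_, fun n => ?_, rfl⟩
      classical
      rw [MvPowerSeries.coeff_C]
      split_ifs
      · exact Subfield.subset_closure (Or.inl ⟨c, rfl⟩)
      · exact zero_mem _
    · refine Subfield.closure_mono (Set.image_mono (Set.ofPred_subset_ofPred.mpr fun f hf n => ?_)) hx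
      exact Subfield.closure_mono Set.subset_union_right (hf n)

end Groth.Agent.S4561
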