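import Groth.Statements.S4564
import Groth.Agent.Calg2.CompleteNagata
import Groth.Agent.SGA7.HenselVal
import Groth.Agent.AdicLinTop.Adic
import Groth.Agent.AdicLinTop.RigClosed

set_option autoImplicit false
universe u
open CAlg

namespace Groth.Agent.S4564

/-- Let A be a complete Noetherian local domain with fraction field K and K' a finite extension of K.
Then the integral closure of A in K' is a local ring, complete for the adic topology of its maximal
ideal. -/
theorem result {A K' : Type u} [CommRing A]
    [IsDomain A] [IsLocalRing A] [IsNoetherianRing A] [IsAdicComplete (IsLocalRing.maximalIdeal A) A]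
    [Field K'] [Algebra A K'] [Algebra (FractionRing A) K'] [IsScalarTower A (FractionRing A) K']
    [FiniteDimensional (FractionRing A) K'] :
    ∃ _ : IsLocalRing (integralClosure A K'),
      IsAdicComplete (IsLocalRing.maximalIdeal (integralClosure A K')) (integralClosure A K') := by
  haveI : Module.Finite A (integralClosure A K') :=
    Calg2.CompleteNagata.isN2_of_isAdicComplete A K' inferInstance
  haveI hH : HenselianLocalRing A :=
    { is_henselian := fun f hf a h1 h2 =>
        (IsAdicComplete.henselianRing A (IsLocalRing.maximalIdeal A)).is_henselian f hf a h1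
          (h2.map (Ideal.Quotient.mk _)) }
  haveI := Groth.SGA7.HenselVal.isLocalRing_integralClosure A K'
  refine ⟨inferInstance, ?_⟩
  let A' := integralClosure A K'
  haveI : IsNoetherianRing A' := IsNoetherianRing.of_finite A A'
  haveI : IsAdicComplete (IsLocalRing.maximalIdeal A) A' :=
    Groth.AdicLinTop.Adic.isAdicComplete_of_finite (I := IsLocalRing.maximalIdeal A)
  haveI : IsAdicComplete ((IsLocalRing.maximalIdeal A).map (algebraMap A A')) A' :=
    (IsAdicComplete.map_algebraMap_iff (IsLocalRing.maximalIdeal A) A' (S := A')).2 inferInstance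
  have hrad : IsLocalRing.maximalIdeal A' ≤ ((IsLocalRing.maximalIdeal A).map (algebraMap A A')).radical := by
    rw [Ideal.radical_eq_sInf]
    refine le_sInf fun q ⟨hq, hqp⟩ => le_of_eq (IsLocalRing.eq_maximalIdeal ?_).symm
    haveI := hqp
    refine Ideal.isMaximal_of_isIntegral_of_isMaximal_comap (R := A) q ?_
    rw [← (IsLocalRing.maximalIdeal.isMaximal A).eq_of_le (Ideal.IsPrime.ne_top inferInstance)
      (Ideal.map_le_iff_le_comap.1 hq)]
    exact IsLocalRing.maximalIdeal.isMaximal A
  obtain ⟨N, hN⟩ := Ideal.exists_pow_le_of_le_radical_of_fg hrad (IsNoetherian.noetherian _)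
  refine Groth.AdicLinTop.RigClosed.isAdicComplete_of_pow_le ?_ hN A'
  refine IsLocalRing.le_maximalIdeal fun h => ?_
  refine (IsLocalRing.maximalIdeal.isMaximal A).ne_top ?_
  refine (Ideal.map_eq_top_iff (algebraMap A A') ?_ (Algebra.IsIntegral.isIntegral)).1 h
  refine fun x y hxy => IsFractionRing.injective A (FractionRing A) ((algebraMap (FractionRing A) K').injective ?_)
  rw [← IsScalarTower.algebraMap_apply, ← IsScalarTower.algebraMap_apply]
  exact congrArg Subtype.val hxy

end Groth.Agent.S4564
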