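import Groth.Statements.S4567
import Groth.Agent.Hensel1.RadicialBirational
import Groth.Agent.S9812

set_option autoImplicit false
universe u
open AlgebraicGeometry CategoryTheory
open CAlg2

namespace Groth.Agent.S4567

/-- The generic point of the spectrum of a domain is the zero ideal. -/
theorem mem_genericPoints_spec_iff (R : CommRingCat.{u}) [IsDomain R] (x : Spec R) :
    x ∈ genericPoints (Spec R) ↔ x.asIdeal = ⊥ := by
  show closure {x} ∈ irreducibleComponents (Spec R) ↔ _
  rw [Groth.PropsBasic2.closure_mem_irreducibleComponents_iff]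
  refine ⟨fun h => ?_, fun h z hz => ?_⟩
  · let b : PrimeSpectrum R := ⟨⊥, Ideal.isPrime_bot⟩
    have hb : b ⤳ x := (PrimeSpectrum.le_iff_specializes b x).mp (bot_le (a := x.asIdeal))
    exact (congrArg PrimeSpectrum.asIdeal (h b hb)).symm
  · have hle : z.asIdeal ≤ ⊥ := h ▸ (PrimeSpectrum.le_iff_specializes z x).mpr hz
    exact PrimeSpectrum.ext ((le_bot_iff.mp hle).trans h.symm)

/-- Let A be a domain with integral closure A' (in its fraction field) and f : Spec A' → Spec A the
canonical morphism. Then f is radicial (universally injective) if and only if every local ring A_p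
is geometrically unibranch; when this holds f is a homeomorphism. -/
theorem result {A : Type u} [CommRing A] [IsDomain A] :
    (UniversallyInjective (Spec.map (CommRingCat.ofHom (algebraMap A (integralClosure A (FractionRing A))))) ↔
      ∀ (p : Ideal A) [p.IsPrime], CAlg2.IsGeomUnibranch (Localization.AtPrime p)) ∧
    ((∀ (p : Ideal A) [p.IsPrime], CAlg2.IsGeomUnibranch (Localization.AtPrime p)) →
      IsHomeomorph (PrimeSpectrum.comap (algebraMap A (integralClosure A (FractionRing A))))) := by
  let B := integralClosure A (FractionRing A)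
  let φ := CommRingCat.ofHom (algebraMap A B)
  let f := Spec.map φ
  have hinj : Function.Injective (algebraMap A B) := fun a b h =>
    IsFractionRing.injective A (FractionRing A) (congrArg Subtype.val h)
  have : IsIntegralHom f := (IsIntegralHom.SpecMap_iff).mpr fun x => Algebra.IsIntegral.isIntegral x
  have hbot : ∀ x : Spec (CommRingCat.of B), (f x).asIdeal = ⊥ ↔ x.asIdeal = ⊥ := fun x => by
    show x.asIdeal.comap (algebraMap A B) = ⊥ ↔ _
    refine ⟨fun h => Ideal.eq_bot_of_comap_eq_bot h, fun h => ?_⟩
    rw [h]; exact Ideal.comap_bot_of_injective _ hinj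
  have hf : RadPt.IsBirational f := by
    refine ⟨⟨fun x hx => ?_, fun x hx x' hx' _ => ?_, fun y hy => ?_⟩, fun y hy => ⟨fun x x' hx hx' => ?_, fun x hx => ?_⟩⟩
    · exact (mem_genericPoints_spec_iff _ _).mpr ((hbot x).mpr ((mem_genericPoints_spec_iff _ _).mp hx))
    · exact PrimeSpectrum.ext (((mem_genericPoints_spec_iff _ _).mp hx).trans
        ((mem_genericPoints_spec_iff _ _).mp hx').symm)
    · let b : PrimeSpectrum B := ⟨⊥, Ideal.isPrime_bot⟩
      exact ⟨b, (mem_genericPoints_spec_iff (CommRingCat.of B) b).mpr rfl,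
        PrimeSpectrum.ext (((hbot b).mpr rfl).trans ((mem_genericPoints_spec_iff _ _).mp hy).symm)⟩
    · have h := (mem_genericPoints_spec_iff _ _).mp hy
      exact PrimeSpectrum.ext (((hbot x).mp (hx.symm ▸ h)).trans ((hbot x').mp (hx'.symm ▸ h)).symm)
    · have h := (hbot x).mp (hx.symm ▸ (mem_genericPoints_spec_iff _ _).mp hy)
      have : IsIso (f.residueFieldMap x) := (Groth.HTopHyper.residueFieldMap_isIso_iff φ x).mpr fun c => by
        obtain ⟨a, s, hs, hc⟩ := IsFractionRing.div_surjective (A := A) c.1
        have hs0 : algebraMap A (FractionRing A) s ≠ 0 :=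
          IsFractionRing.to_map_ne_zero_of_mem_nonZeroDivisors hs
        refine ⟨a, s, fun hm => nonZeroDivisors.ne_zero hs (hinj ((h ▸ hm : _ ∈ (⊥ : Ideal B)).trans (map_zero _).symm)), ?_⟩
        rw [h, Ideal.mem_bot, sub_eq_zero]
        exact Subtype.ext (show algebraMap A (FractionRing A) s * c.1 = algebraMap A (FractionRing A) a by
          rw [← hc, mul_div_cancel₀ _ hs0])
      exact (ConcreteCategory.isIso_iff_bijective _).mp this
  have hX : ∀ x : Spec (CommRingCat.of B), CAlg2.IsGeomUnibranch ((Spec (CommRingCat.of B)).presheaf.stalk x) := fun x => by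
    let P : PrimeSpectrum B := x
    have : IsIntegrallyClosed B :=
      integralClosure.isIntegrallyClosedOfFiniteExtension (K := FractionRing A) (L := FractionRing A)
    have : IsIntegrallyClosed (Localization.AtPrime P.asIdeal) :=
      isIntegrallyClosed_of_isLocalization _ P.asIdeal.primeCompl P.asIdeal.primeCompl_le_nonZeroDivisors
    have : IsDomain (Localization.AtPrime P.asIdeal) :=
      IsLocalization.isDomain_localization P.asIdeal.primeCompl_le_nonZeroDivisors
    have : IsLocalRing ((Spec.structureSheaf B).presheaf.stalk P) :=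
      inferInstanceAs (IsLocalRing ((Spec (CommRingCat.of B)).presheaf.stalk x))
    exact Groth.PropsBasic.UnibranchPunctured.isGeomUnibranch_of_isLocalization B P.asIdeal
      (Localization.AtPrime P.asIdeal) ((Spec.structureSheaf B).presheaf.stalk P)
      (Groth.Agent.S9812.result (Localization.AtPrime P.asIdeal))
  have hY : (∀ y : Spec (CommRingCat.of A), CAlg2.IsGeomUnibranch ((Spec (CommRingCat.of A)).presheaf.stalk y)) ↔
      ∀ (p : Ideal A) [p.IsPrime], CAlg2.IsGeomUnibranch (Localization.AtPrime p) :=
    ⟨fun h p hp => by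
      let P : PrimeSpectrum A := ⟨p, hp⟩
      have : IsLocalRing ((Spec.structureSheaf A).presheaf.stalk P) :=
        inferInstanceAs (IsLocalRing ((Spec (CommRingCat.of A)).presheaf.stalk P))
      have := AlgebraicGeometry.StructureSheaf.IsLocalization.to_stalk (R := A) P
      exact Groth.PropsBasic.UnibranchPunctured.isGeomUnibranch_of_isLocalization A P.asIdeal
        ((Spec.structureSheaf A).presheaf.stalk P) (Localization.AtPrime P.asIdeal) (h P),
    fun h y => by
      let P : PrimeSpectrum A := y
      have : IsLocalRing ((Spec.structureSheaf A).presheaf.stalk P) :=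
        inferInstanceAs (IsLocalRing ((Spec (CommRingCat.of A)).presheaf.stalk P))
      exact Groth.PropsBasic.UnibranchPunctured.isGeomUnibranch_of_isLocalization A P.asIdeal
        (Localization.AtPrime P.asIdeal) ((Spec.structureSheaf A).presheaf.stalk P) (h P.asIdeal)⟩
  have key : UniversallyInjective f ↔ ∀ (p : Ideal A) [p.IsPrime], CAlg2.IsGeomUnibranch (Localization.AtPrime p) := by
    rw [← hY, Groth.Hensel1.isGeomUnibranch_iff_universallyInjective f hf]
    exact ⟨fun h => ⟨hX, h⟩, fun h => h.2⟩
  refine ⟨key, fun h => ?_⟩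
  have := key.mpr h
  refine isHomeomorph_iff_continuous_isClosedMap_bijective.mpr ⟨PrimeSpectrum.continuous_comap _, f.isClosedMap, f.injective, ?_⟩
  intro y
  obtain ⟨Q, -, hQ, hQy⟩ := Ideal.exists_ideal_over_prime_of_isIntegral (S := B) y.asIdeal (⊥ : Ideal B)
    (by rw [Ideal.comap_bot_of_injective _ hinj]; exact bot_le)
  exact ⟨⟨Q, hQ⟩, PrimeSpectrum.ext hQy⟩

end Groth.Agent.S4567
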