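import Groth.Statements.S4568
import Groth.Agent.Calg6.MoriNagata
import Groth.Agent.Calg2.CompleteNagata
import Groth.Agent.Calg4.Japanese
import Groth.Agent.Calg1.Completion

set_option autoImplicit false
set_option linter.style.haveILetI false
universe u
open CAlg

namespace Groth.Agent.S4568

theorem height_comap_eq {C D : Type u} [CommRing C] [CommRing D] (j : C →+* D) (hj : Function.Injective j)
    (N : Submonoid C) (hu : ∀ n ∈ N, IsUnit (j n)) (hs : ∀ z : D, ∃ c : C, ∃ n ∈ N, z * j n = j c) (p : Ideal D) :
    (p.comap j).height = p.height := by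
  letI := j.toAlgebra
  haveI : IsLocalization N D := by
    refine (isLocalization_iff N D).mpr ⟨fun n => hu n n.2, fun z => ?_, fun {a b} hab => ⟨1, by rw [hj hab]⟩⟩
    obtain ⟨c, n, hn, h⟩ := hs z
    exact ⟨(c, ⟨n, hn⟩), h⟩
  exact IsLocalization.height_under N p

/-- Mori–Nagata for a Noetherian local domain, inside any fraction field. -/
theorem exists_subalgebra {A : Type u} [CommRing A] [IsDomain A] [IsNoetherianRing A] [IsLocalRing A]
    (K : Type u) [Field K] [Algebra A K] [IsFractionRing A K] :
    ∃ C : Subalgebra A K, Module.Finite A C ∧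
      ∀ x : K, x ∈ integralClosure A K ↔
        ∀ (p : Ideal C) [p.IsPrime], p.height = 1 → ∃ s : C, s ∉ p ∧ IsIntegral C ((s : K) * x) := by
  classical
  let C := AdicCompletion (IsLocalRing.maximalIdeal A) A
  haveI : IsNoetherianRing C := Groth.Calg1.isNoetherianRing_adicCompletion _ (IsNoetherian.noetherian _)
  haveI : IsAdicComplete (IsLocalRing.maximalIdeal C) C :=
    AdicCompletion.isAdicComplete_of_fg (IsNoetherian.noetherian _)
  haveI : IsLocalHom (algebraMap A C) := ⟨fun a ha => by
    by_contra hna
    have h1 : algebraMap A C a ∈ (IsLocalRing.maximalIdeal A).map (algebraMap A C) :=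
      Ideal.mem_map_of_mem _ hna
    rw [← AdicCompletion.maximalIdeal_eq_map] at h1
    exact h1 ha⟩
  haveI : Module.FaithfullyFlat A C := Module.FaithfullyFlat.of_flat_of_isLocalHom
  obtain ⟨C₀, h1, -, h3, -⟩ := Groth.Calg6.MN.exists_finite_subalgebra (A := A) (C := C) (K := K) fun q =>
    Groth.Calg4.finite_ic_of_isN2 ((Groth.Calg2.CompleteNagata.isNagata_of_isAdicComplete C).2 q.1)
      (FractionRing (C ⧸ q.1)) (FractionRing (C ⧸ q.1))
  exact ⟨C₀, h1, h3⟩

attribute [local irreducible] Ideal.height in
set_option maxHeartbeats 1000000 in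
set_option synthInstance.maxHeartbeats 200000 in
/-- Let A be a Noetherian domain with fraction field K and A' its integral closure in K. Assume that for
every sub-A-algebra C of A' which is finite over A, every height-one prime of C lies over a
height-one prime of A. Then A' is the intersection in K of the localizations A'_p over the
height-one primes p of A. -/
theorem result {A : Type u} [CommRing A] [IsDomain A] [IsNoetherianRing A]
    (h : ∀ C : Subalgebra A (FractionRing A), C ≤ integralClosure A (FractionRing A) → Module.Finite A C →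
      ∀ (q : Ideal C) [q.IsPrime], q.height = 1 → (q.comap (algebraMap A C)).height = 1) :
    (integralClosure A (FractionRing A) : Set (FractionRing A)) =
      ⋂ (p : PrimeSpectrum A) (_ : p.asIdeal.height = 1),
        {x : FractionRing A | ∃ s : A, s ∉ p.asIdeal ∧
          algebraMap A (FractionRing A) s * x ∈ integralClosure A (FractionRing A)} := by
  classical
  refine Set.Subset.antisymm (fun x hx => ?_) (fun x hx => ?_)
  · simp only [Set.mem_iInter]
    intro p _
    exact ⟨1, p.asIdeal.one_notMem, by rw [map_one, one_mul]; exact hx⟩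
  simp only [Set.mem_iInter] at hx
  let L := FractionRing A
  let D : Ideal A := (integralClosure A L).toSubmodule.comap (LinearMap.toSpanSingleton A L x)
  have hD : ∀ a, a ∈ D ↔ algebraMap A L a * x ∈ integralClosure A L := fun a => by
    simp [D, Algebra.smul_def]
  by_contra hxA
  have hne : D ≠ ⊤ := fun h' => hxA (by simpa using (hD 1).mp (h'.symm ▸ Submodule.mem_top))
  obtain ⟨m, hm, hle⟩ := Ideal.exists_le_maximal D hne
  let M := m.primeCompl
  have hM : M ≤ nonZeroDivisors A := Ideal.primeCompl_le_nonZeroDivisors m
  let S := Localization.subalgebra.ofField L M hM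
  haveI : IsLocalization.AtPrime S m := Localization.subalgebra.isLocalization_ofField L _ hM
  haveI : IsLocalRing S := IsLocalization.AtPrime.isLocalRing S m
  haveI : IsNoetherianRing S := IsLocalization.isNoetherianRing M S inferInstance
  haveI : IsFractionRing S L := IsFractionRing.isFractionRing_of_isDomain_of_isLocalization M S L
  obtain ⟨Cm, hCm, hmem⟩ := exists_subalgebra (A := S) L
  obtain ⟨T, hT⟩ := Module.Finite.fg_top (R := S) (M := Cm)
  have hint : ∀ t : Cm, IsIntegral S (t : L) := fun t =>
    (Algebra.IsIntegral.isIntegral (R := S) t).map Cm.val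
  choose s hs using fun t : Cm => IsIntegral.exists_multiple_integral_of_isLocalization M (t : L) (hint t)
  let s0 : M := ∏ t ∈ T, s t
  let E : Set L := (fun t : Cm => algebraMap A L s0 * (t : L)) '' (T : Set Cm)
  have hE : ∀ z ∈ E, IsIntegral A z := by
    rintro _ ⟨t, ht, rfl⟩
    obtain ⟨r, hr⟩ := Finset.dvd_prod_of_mem s ht
    have : algebraMap A L s0 * (t : L) = algebraMap A L r * (algebraMap A L (s t) * (t : L)) := by
      simp only [s0, hr, Submonoid.coe_mul, map_mul]
      ring
    change IsIntegral A (algebraMap A L s0 * (t : L))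
    rw [this]
    refine (isIntegral_algebraMap).mul ?_
    have := hs t
    rwa [Submonoid.smul_def, Algebra.smul_def] at this
  let C : Subalgebra A L := Algebra.adjoin A E
  have hCint : C ≤ integralClosure A L := Algebra.adjoin_le hE
  have hCfin : Module.Finite A C :=
    Module.Finite.iff_fg.mpr (fg_adjoin_of_finite (T.finite_toSet.image _) hE)
  have hSL : ∀ a : A, algebraMap A L a ∈ Cm := fun a => by
    rw [IsScalarTower.algebraMap_apply A S L]; exact Cm.algebraMap_mem _
  have hCCm : C ≤ Cm.restrictScalars A := Algebra.adjoin_le (by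
    rintro _ ⟨t, -, rfl⟩
    exact Cm.mul_mem (hSL _) t.2)
  let j : C →+* Cm := (Subalgebra.inclusion hCCm).toRingHom
  let N : Submonoid C := M.map (algebraMap A C)
  have hdenom : ∀ z : Cm, ∃ n : M, algebraMap A L n * (z : L) ∈ C := by
    intro z
    have hz : z ∈ Submodule.span S (T : Set Cm) := hT ▸ Submodule.mem_top
    induction hz using Submodule.span_induction with
    | mem t ht => exact ⟨s0, Algebra.subset_adjoin ⟨t, ht, rfl⟩⟩
    | zero => exact ⟨1, by simp⟩
    | add a b _ _ ha hb =>
      obtain ⟨n, hn⟩ := ha
      obtain ⟨n', hn'⟩ := hb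
      refine ⟨n * n', ?_⟩
      have : algebraMap A L (n * n' : M) * ((a + b : Cm) : L) =
          algebraMap A L n' * (algebraMap A L n * (a : L)) + algebraMap A L n * (algebraMap A L n' * (b : L)) := by
        simp only [Submonoid.coe_mul, map_mul, Subalgebra.coe_add]
        ring
      rw [this]
      exact add_mem (C.mul_mem (C.algebraMap_mem _) hn) (C.mul_mem (C.algebraMap_mem _) hn')
    | smul c a _ ha =>
      obtain ⟨n, hn⟩ := ha
      obtain ⟨⟨b, n'⟩, hb⟩ := IsLocalization.surj M c
      refine ⟨n * n', ?_⟩
      have hb' : algebraMap S L c * algebraMap A L n' = algebraMap A L b := by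
        rw [IsScalarTower.algebraMap_apply A S L, IsScalarTower.algebraMap_apply A S L b, ← map_mul, hb]
      have : algebraMap A L (n * n' : M) * ((c • a : Cm) : L) =
          algebraMap A L b * (algebraMap A L n * (a : L)) := by
        rw [Subalgebra.coe_smul, Algebra.smul_def, ← hb', Submonoid.coe_mul, map_mul]
        ring
      rw [this]
      exact C.mul_mem (C.algebraMap_mem _) hn
  have hj : Function.Injective j := Subalgebra.inclusion_injective hCCm
  have hju : ∀ c ∈ N, IsUnit (j c) := by
    rintro _ ⟨n, hn, rfl⟩
    have : j (algebraMap A C n) = algebraMap S Cm (algebraMap A S n) := by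
      ext
      exact IsScalarTower.algebraMap_apply A S L n
    rw [this]
    exact (IsLocalization.map_units S (⟨n, hn⟩ : M)).map (algebraMap S Cm)
  have hjs : ∀ z : Cm, ∃ c : C, ∃ n ∈ N, z * j n = j c := by
    intro z
    obtain ⟨n, hn⟩ := hdenom z
    exact ⟨⟨_, hn⟩, algebraMap A C n, ⟨n, n.2, rfl⟩, Subtype.ext (mul_comm (z : L) (algebraMap A L n))⟩
  have key : x ∈ integralClosure S L := by
    refine (hmem x).mpr fun p _ hp => ?_
    let q : Ideal C := p.comap j
    have e := height_comap_eq (C := C) (D := Cm) j hj N hju hjs p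
    have hq : q.height = 1 := e.trans hp
    obtain ⟨a, ha, hax⟩ := hx ⟨q.comap (algebraMap A C), inferInstance⟩ (h C hCint hCfin q hq)
    have h1 : IsIntegral S (algebraMap A L a * x) := (show IsIntegral A _ from hax).tower_top
    have h2 : IsIntegral Cm (algebraMap A L a * x) := h1.tower_top
    exact ⟨j (algebraMap A C a), fun hmem => ha hmem,
      (show ((j (algebraMap A C a) : Cm) : L) = algebraMap A L a from rfl).symm ▸ h2⟩
  obtain ⟨n, hn⟩ := IsIntegral.exists_multiple_integral_of_isLocalization M x key
  refine n.2 (hle ((hD n).mpr ?_))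
  rwa [Submonoid.smul_def, Algebra.smul_def] at hn

end Groth.Agent.S4568
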