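import Groth.Statements.S4569
import Mathlib

set_option autoImplicit false
universe u
open CAlg

namespace Groth.Agent.S4569

/-- Let A be a ring, x a non-zero-divisor of A with p = xA prime. For every n > 0 the inverse image in A
of x^n A_p is x^n A. -/
theorem result {A : Type u} [CommRing A] (x : A)
    (hx : x ∈ nonZeroDivisors A) [(Ideal.span ({x} : Set A)).IsPrime] (n : ℕ) (hn : 0 < n) :
    Ideal.comap (algebraMap A (Localization.AtPrime (Ideal.span ({x} : Set A))))
      (Ideal.map (algebraMap A (Localization.AtPrime (Ideal.span ({x} : Set A)))) (Ideal.span ({x ^ n} : Set A))) =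
      Ideal.span ({x ^ n} : Set A) := by
  refine le_antisymm ?_ Ideal.le_comap_map
  intro a ha
  rw [Ideal.mem_comap, IsLocalization.algebraMap_mem_map_algebraMap_iff
    (Ideal.span ({x} : Set A)).primeCompl] at ha
  obtain ⟨s, hs, hsa⟩ := ha
  rw [Ideal.mem_span_singleton] at hsa ⊢
  have hs' : s ∉ Ideal.span ({x} : Set A) := hs
  clear hn hs
  induction n generalizing a with
  | zero => simp
  | succ n ih =>
    obtain ⟨c, rfl⟩ : x ∣ a := Ideal.mem_span_singleton.1 <|
      (Ideal.IsPrime.mem_or_mem inferInstance (Ideal.mem_span_singleton.2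
        ((dvd_pow_self x n.succ_ne_zero).trans hsa))).resolve_left hs'
    rw [pow_succ']
    refine mul_dvd_mul_left x (ih (a := c) ?_)
    obtain ⟨e, he⟩ := hsa
    refine ⟨e, ?_⟩
    have : x * (s * c) = x * (x ^ n * e) := by rw [← mul_left_comm, he]; ring
    exact (mul_cancel_left_mem_nonZeroDivisors hx).1 this

end Groth.Agent.S4569
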