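import Groth.Statements.S4573
import Groth.Agent.Ega41Exist.PRadicalConv

set_option autoImplicit false
universe u
open TensorProduct IsLocalRing
open EGA41

namespace Groth.Agent.S4573

/-- Let k be a field of characteristic exponent p and A a Noetherian local k-algebra. Then A is formally
smooth over k for the adic topology of its maximal ideal if and only if, for every finite extension
k' of k with k'^p ⊆ k, the ring k' ⊗_k A is regular. -/
theorem result {k A : Type u} [Field k] (p : ℕ)
    [ExpChar k p] [CommRing A] [IsLocalRing A] [IsNoetherianRing A] [Algebra k A] :
    CAlgX.IsAdicFormallySmooth k A (maximalIdeal A) ↔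
      ∀ (k' : Type u) [Field k'] [Algebra k k'], Module.Finite k k' →
        (∀ x : k', x ^ p ∈ (algebraMap k k').range) → IsRegularRing (k' ⊗[k] A) := by
  exact Groth.Ega41Exist.isAdicFormallySmooth_iff_regular_baseChange p

end Groth.Agent.S4573
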