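import Groth.Statements.S4574
import Groth.Agent.Ega41Exist.Geometric
import Groth.Agent.Calg4.GeomRegular

set_option autoImplicit false
universe u
open IsLocalRing
open EGA41

open TensorProduct
namespace Groth.Agent.S4574

/-- Let k be a field and A a Noetherian local k-algebra, formally smooth over k for its adic topology.
Then every localization A_p at a prime p is formally smooth over k for the pA_p-adic topology. -/
theorem result {k A : Type u} [Field k] [CommRing A]
    [IsLocalRing A] [IsNoetherianRing A] [Algebra k A] (h : CAlgX.IsAdicFormallySmooth k A (maximalIdeal A))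
    (p : Ideal A) [p.IsPrime] :
    CAlgX.IsAdicFormallySmooth k (Localization.AtPrime p) (maximalIdeal (Localization.AtPrime p)) := by
  obtain ⟨c, hc⟩ : ∃ c : ℕ, ExpChar k c := ExpChar.exists k
  refine (Groth.Ega41Exist.isAdicFormallySmooth_iff_regular_baseChange c).mpr fun k' _ _ _ _ => ?_
  haveI : IsRegularRing (k' ⊗[k] A) := Groth.Ega41Exist.isRegularRing_tensor_finite h
  haveI : IsRegularRing (A ⊗[k] k') := IsRegularRing.of_ringEquiv (Algebra.TensorProduct.comm k k' A).toRingEquiv
  haveI : IsRegularRing ((A ⊗[k] k') ⊗[A] Localization.AtPrime p) :=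
    Groth.Calg4.isRegularRing_of_isLocalization _ (Algebra.algebraMapSubmonoid (A ⊗[k] k') p.primeCompl)
  haveI : IsRegularRing (Localization.AtPrime p ⊗[A] (A ⊗[k] k')) :=
    IsRegularRing.of_ringEquiv (R := (A ⊗[k] k') ⊗[A] Localization.AtPrime p)
      (Algebra.TensorProduct.comm A (A ⊗[k] k') (Localization.AtPrime p)).toRingEquiv
  haveI : IsRegularRing (Localization.AtPrime p ⊗[k] k') :=
    IsRegularRing.of_ringEquiv (R := Localization.AtPrime p ⊗[A] (A ⊗[k] k'))
      (Algebra.TensorProduct.cancelBaseChange k A A (Localization.AtPrime p) k').toRingEquiv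
  exact IsRegularRing.of_ringEquiv (Algebra.TensorProduct.comm k (Localization.AtPrime p) k').toRingEquiv

end Groth.Agent.S4574
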