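import Groth.Statements.S4575
import Groth.Agent.Ega4Algebra2.RegularQuotient

set_option autoImplicit false
universe u
open IsLocalRing
open EGA41

namespace Groth.Agent.S4575

/-- Let R be a regular local ring with maximal ideal m and n a proper ideal with R/n regular. Then
(n/n²) ⊗_R K → (m/m²) ⊗_R K is injective, K the residue field; stated in the equivalent form n ∩ m²
= m·n (the kernel of n/mn → m/m² is (n ∩ m²)/mn). -/
theorem result {R : Type u} [CommRing R] [IsRegularLocalRing R]
    (n : Ideal R) (hn : n ≠ ⊤) (hreg : IsRegularRing (R ⧸ n)) :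
    n ⊓ maximalIdeal R ^ 2 = maximalIdeal R * n := by
  haveI := hreg
  haveI : IsLocalRing (R ⧸ n) := Groth.Ega4Algebra1.isLocalRing_quotient_of_le n (IsLocalRing.le_maximalIdeal hn)
  haveI : IsRegularLocalRing (R ⧸ n) := IsRegularLocalRing.of_isRegularRing_of_isLocalRing _
  refine le_antisymm (Groth.Ega4b.inf_sq_le_mul_of_regular_quotient R n) (le_inf Ideal.mul_le_right ?_)
  rw [pow_two]
  exact Ideal.mul_mono_right (IsLocalRing.le_maximalIdeal hn)

end Groth.Agent.S4575
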