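import Groth.Statements.S4576
import Groth.Agent.Ega41Jac.Localization
import Mathlib.RingTheory.Spectrum.Prime.Topology
open Groth.Ega41Adic Groth.Ega41Jac

set_option autoImplicit false
universe u
open EGA41

namespace Groth.Agent.S4576

/-- Let B be a formally smooth A-algebra (discrete topologies), C = B/J a quotient with J/J² finitely
generated. Then the set of primes p of C with C_p formally smooth over A is open in Spec C. (The
equivalent variant with C_p formally smooth over A_q, q the contraction of p to A, is not stated.) -/
theorem result {A B C : Type u} [CommRing A] [CommRing B] [CommRing C]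
    [Algebra A B] [Algebra B C] [Algebra A C] [IsScalarTower A B C] [Algebra.FormallySmooth A B]
    (hsurj : Function.Surjective (algebraMap B C)) [Module.Finite B (RingHom.ker (algebraMap B C)).Cotangent] :
    IsOpen {p : PrimeSpectrum C | Algebra.FormallySmooth A (Localization.AtPrime p.asIdeal)} := by
  let P := extOfSurjective (A := A) hsurj
  haveI : Algebra.FormallySmooth A P.Ring := inferInstanceAs (Algebra.FormallySmooth A B)
  haveI : Module.Finite C P.Cotangent := finite_cotangent hsurj
  haveI : Module.Projective C P.CotangentSpace := inferInstance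
  have : {p : PrimeSpectrum C | Algebra.FormallySmooth A (Localization.AtPrime p.asIdeal)} =
      (PrimeSpectrum.zeroLocus (splitIdeal P.cotangentComplex : Set C))ᶜ := by
    ext p
    simp only [Set.mem_setOf_eq, Set.mem_compl_iff, PrimeSpectrum.mem_zeroLocus, Set.not_subset,
      formallySmooth_iff_splitBy P p.asIdeal.primeCompl (Localization.AtPrime p.asIdeal)]
    exact ⟨fun ⟨a, ha, hs⟩ => ⟨a, hs, ha⟩, fun ⟨a, hs, ha⟩ => ⟨a, ha, hs⟩⟩
  rw [this]
  exact (PrimeSpectrum.isClosed_zeroLocus _).isOpen_compl

end Groth.Agent.S4576
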