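import Groth.Statements.S4577
import Groth.Agent.Ega41Jac.Localization
import Mathlib.RingTheory.Spectrum.Prime.Topology
open Groth.Ega41Adic Groth.Ega41Jac

set_option autoImplicit false
universe u
open EGA41

namespace Groth.Agent.S4577

/-- Let B be a formally smooth A-algebra (discrete topologies) and C = B/J a quotient with J/J² finitely
generated. Then C is formally smooth over A if and only if C_m is formally smooth over A for every
maximal ideal m of C (hence also if and only if every C_p, p prime, is). (Not stated: the variant of
the localised condition with C_m formally smooth over A_q, q the contraction of m to A, and the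
further assertion that for B Noetherian the discrete topologies in the localised condition may be
replaced by the adic ones.) -/
theorem result {A B C : Type u} [CommRing A] [CommRing B] [CommRing C]
    [Algebra A B] [Algebra B C] [Algebra A C] [IsScalarTower A B C] [Algebra.FormallySmooth A B]
    (hsurj : Function.Surjective (algebraMap B C)) [Module.Finite B (RingHom.ker (algebraMap B C)).Cotangent] :
    Algebra.FormallySmooth A C ↔
      ∀ (m : Ideal C) [m.IsMaximal], Algebra.FormallySmooth A (Localization.AtPrime m) := by
  let P := extOfSurjective (A := A) hsurj
  haveI : Algebra.FormallySmooth A P.Ring := inferInstanceAs (Algebra.FormallySmooth A B)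
  haveI : Module.Finite C P.Cotangent := finite_cotangent hsurj
  haveI : Module.Projective C P.CotangentSpace := inferInstance
  refine ⟨fun h m _ => (formallySmooth_iff_splitBy P m.primeCompl (Localization.AtPrime m)).mpr
    ⟨1, m.primeCompl.one_mem, (formallySmooth_iff_one_mem P).mp h⟩, fun h => (formallySmooth_iff_one_mem P).mpr ?_⟩
  show (1 : C) ∈ splitIdeal P.cotangentComplex
  by_contra hne
  obtain ⟨m, hm, hle⟩ := Ideal.exists_le_maximal (splitIdeal P.cotangentComplex) (fun ht => hne (ht ▸ trivial))
  obtain ⟨a, ha, hs⟩ := (formallySmooth_iff_splitBy P m.primeCompl (Localization.AtPrime m)).mp (@h m hm)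
  exact ha (hle hs)

end Groth.Agent.S4577
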