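import Groth.Statements.S4579
import Groth.Agent.S4578
import Groth.Agent.S4577
import Groth.Agent.Calg4.GeomRegularCrit

set_option autoImplicit false
universe u
open EGA41

namespace Groth.Agent.S4579

/-- Let k₀ be a field, k a separable (formally smooth) extension field of k₀ and C a k-algebra of finite
type. The following are equivalent: C is formally smooth over k₀ (discrete topologies); every C_p, p
prime, is formally smooth over k₀; every C_m, m maximal, is; C is geometrically regular over k₀.
(Geometric regularity is tested on finite extensions of k₀. The published statement quantifies the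
last condition over all extensions k' of k₀; for infinite ones the base change need not be
Noetherian, so it need not be regular in the Noetherian sense, and the printed proof passes through
the local rings as here.) -/
theorem result {k₀ k C : Type u} [Field k₀] [Field k] [Algebra k₀ k]
    [Algebra.FormallySmooth k₀ k] [CommRing C] [Algebra k C] [Algebra k₀ C] [IsScalarTower k₀ k C]
    [Algebra.FiniteType k C] :
    [Algebra.FormallySmooth k₀ C,
     ∀ (p : Ideal C) [p.IsPrime], Algebra.FormallySmooth k₀ (Localization.AtPrime p),
     ∀ (m : Ideal C) [m.IsMaximal], Algebra.FormallySmooth k₀ (Localization.AtPrime m),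
     CAlg.IsGeometricallyRegular k₀ C].TFAE := by
  have : IsNoetherianRing C := Algebra.FiniteType.isNoetherianRing k C
  tfae_have 1 → 2 := fun _ p _ =>
    have : Algebra.FormallySmooth C (Localization.AtPrime p) :=
      Algebra.FormallySmooth.of_isLocalization p.primeCompl
    Algebra.FormallySmooth.comp k₀ C _
  tfae_have 2 → 3 := fun h m _ => h m
  tfae_have 3 → 1 := by
    intro h
    obtain ⟨n, π, hπ⟩ := Algebra.FiniteType.iff_quotient_mvPolynomial''.mp ‹Algebra.FiniteType k C›
    let B := MvPolynomial (Fin n) k
    let : Algebra B C := π.toRingHom.toAlgebra
    have : IsScalarTower k₀ B C := IsScalarTower.of_algebraMap_eq fun a => by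
      rw [RingHom.algebraMap_toAlgebra, IsScalarTower.algebraMap_apply k₀ k B,
        IsScalarTower.algebraMap_apply k₀ k C]
      exact (π.commutes _).symm
    have : Algebra.FormallySmooth k₀ B := Algebra.FormallySmooth.comp k₀ k B
    have : Module.Finite B (RingHom.ker (algebraMap B C)).Cotangent :=
      Module.Finite.of_surjective _ (Ideal.toCotangent_surjective _)
    exact (Groth.Agent.S4577.result (A := k₀) (B := B) (C := C) hπ).mpr h
  tfae_have 2 → 4 := fun h => Groth.Calg4.isGeometricallyRegular_of_atPrime fun q _ =>
    ((Groth.Agent.S4578.aux (k := k) q).out 0 3).mp (h q)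
  tfae_have 4 → 2 := fun h p _ => ((Groth.Agent.S4578.aux (k := k) p).out 0 3).mpr
    (Groth.Calg4.isGeometricallyRegular_localization p.primeCompl _ h)
  tfae_finish

end Groth.Agent.S4579
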