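import Groth.Statements.S4580
import Groth.Agent.Ega41Jac.Zariski

set_option autoImplicit false
universe u
open EGA41

namespace Groth.Agent.S4580

/-- Let k₀ be a field, k a separable (formally smooth) extension field of k₀, B = k[T_1, ..., T_r], J an
ideal of B and q a prime of B containing J, with image p in C = B/J. Then C_p is formally smooth
over k₀ for the discrete topologies if and only if there exist f_1, ..., f_m ∈ J whose images
generate J B_q and k₀-derivations D_1, ..., D_m of B with det(D_j f_i) ∉ q. -/
theorem result {k₀ k : Type u} [Field k₀] [Field k] [Algebra k₀ k]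
    [Algebra.FormallySmooth k₀ k] (r : ℕ) (J q : Ideal (MvPolynomial (Fin r) k)) [q.IsPrime] (hJq : J ≤ q)
    [(q.map (Ideal.Quotient.mk J)).IsPrime] :
    Algebra.FormallySmooth k₀ (Localization.AtPrime (q.map (Ideal.Quotient.mk J))) ↔
      ∃ (m : ℕ) (f : Fin m → MvPolynomial (Fin r) k) (D : Fin m → Derivation k₀ (MvPolynomial (Fin r) k) (MvPolynomial (Fin r) k)),
        (∀ i, f i ∈ J) ∧
        J.map (algebraMap (MvPolynomial (Fin r) k) (Localization.AtPrime q)) =
          Ideal.span (Set.range fun i => algebraMap (MvPolynomial (Fin r) k) (Localization.AtPrime q) (f i)) ∧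
        Matrix.det (Matrix.of fun i j => D j (f i)) ∉ q := by
  haveI : Algebra.FormallySmooth k₀ (MvPolynomial (Fin r) k) := Algebra.FormallySmooth.comp k₀ k _
  exact Groth.Ega41Jac.formallySmooth_localization_iff_exists_det hJq

end Groth.Agent.S4580
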