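import Groth.Statements.S4581
import Groth.Agent.Calg1.Completion
import Groth.Agent.AdicLinTop.Adic
import Groth.Agent.AdicLinTop.RigClosed
import Mathlib.RingTheory.AdicCompletion.RingHom
import Mathlib.RingTheory.AdicCompletion.Completeness
import Mathlib.Algebra.TrivSqZeroExt.Basic
import Mathlib.RingTheory.Kaehler.Basic

set_option autoImplicit false
universe u
open EGA41

namespace Groth.Agent.S4581

open TensorProduct TrivSqZeroExt

theorem fg_and_complete_congr {T : Type u} [CommRing T] [IsNoetherianRing T] (L K : Ideal T) (hL : IsAdicComplete L T)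
    (h1 : K ^ 2 ≤ L) (h2 : L ^ 2 ≤ K) : IsAdicComplete K T := by
  haveI := hL
  haveI : IsAdicComplete (L ⊔ K) T := Groth.AdicLinTop.RigClosed.isAdicComplete_of_pow_le le_sup_left
    (N := 2) (by rw [sq, Ideal.sup_mul, Ideal.mul_sup, Ideal.mul_sup, ← sq K]
                 exact sup_le (sup_le Ideal.mul_le_left Ideal.mul_le_left) (sup_le Ideal.mul_le_right h1)) T
  exact Groth.Calg1.isAdicComplete_of_le K (L ⊔ K) le_sup_right (IsNoetherian.noetherian K) T

/-- A derivation into a finite module over the completion extends to the completion. -/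
theorem exists_derivation_aux {A₀ A : Type u} [CommRing A₀] [CommRing A] [Algebra A₀ A] [IsNoetherianRing A]
    (J : Ideal A) {M : Type u} [AddCommGroup M] [Module (AdicCompletion J A) M] [Module A M]
    [IsScalarTower A (AdicCompletion J A) M] [Module A₀ M] [IsScalarTower A₀ A M]
    [Module.Finite (AdicCompletion J A) M] (D : Derivation A₀ A M) :
    ∃ Δ : Derivation A₀ (AdicCompletion J A) M, ∀ a, Δ (algebraMap A (AdicCompletion J A) a) = D a := by
  let R := AdicCompletion J A
  have hJ : J.FG := IsNoetherian.noetherian J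
  haveI : IsNoetherianRing R := Groth.Calg1.isNoetherianRing_adicCompletion J hJ
  haveI : IsAdicComplete (J.map (algebraMap A R)) R :=
    (IsAdicComplete.map_algebraMap_iff _ _).mpr (AdicCompletion.isAdicComplete hJ)
  letI : Module Rᵐᵒᵖ M := Module.compHom _ ((RingHom.id R).fromOpposite mul_comm)
  haveI : IsCentralScalar R M := ⟨fun r m => by rfl⟩
  let JR := J.map (algebraMap A R)
  haveI : Module.Finite R (TrivSqZeroExt R M) := Module.Finite.prod
  haveI : IsNoetherianRing (TrivSqZeroExt R M) := IsNoetherianRing.of_finite R (TrivSqZeroExt R M)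
  let ψ : A →+* (TrivSqZeroExt R M) :=
    { toFun := fun a => inl (algebraMap A R a) + inr (D a)
      map_one' := by refine TrivSqZeroExt.ext ?_ ?_ <;> simp
      map_zero' := by refine TrivSqZeroExt.ext ?_ ?_ <;> simp
      map_add' := fun a b => by
        refine TrivSqZeroExt.ext ?_ ?_
        · simp only [fst_add, fst_inl, fst_inr, map_add]; ring
        · simp
      map_mul' := fun a b => by
        refine TrivSqZeroExt.ext ?_ ?_
        · simp only [fst_add, fst_inl, fst_inr, fst_mul, map_mul]; ring
        · rw [snd_mul, op_smul_eq_smul]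
          simp only [fst_add, fst_inl, fst_inr, add_zero, snd_add, snd_inl, snd_inr, zero_add, Derivation.leibniz,
            algebraMap_smul] }
  haveI : IsAdicComplete JR (TrivSqZeroExt R M) := Groth.AdicLinTop.Adic.isAdicComplete_of_finite (I := JR) (M := (TrivSqZeroExt R M))
  haveI hL : IsAdicComplete (JR.map (algebraMap R (TrivSqZeroExt R M))) (TrivSqZeroExt R M) :=
    (IsAdicComplete.map_algebraMap_iff JR (TrivSqZeroExt R M) (S := (TrivSqZeroExt R M))).2 inferInstance
  let L := JR.map (algebraMap R (TrivSqZeroExt R M))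
  let K := J.map ψ
  have hψ : ∀ a, ψ a = inl (algebraMap A R a) + inr (D a) := fun a => rfl
  have hinl : ∀ j ∈ J, (inl (algebraMap A R j) : (TrivSqZeroExt R M)) ∈ L := fun j hj =>
    Ideal.mem_map_of_mem _ (Ideal.mem_map_of_mem _ hj)
  have hprod : ∀ j m, j ∈ J → (inr (algebraMap A R j • m) : (TrivSqZeroExt R M)) ∈ L ∧ (inr (algebraMap A R j • m) : (TrivSqZeroExt R M)) ∈ K := by
    intro j m hj
    constructor
    · rw [← inl_mul_inr]; exact L.mul_mem_right _ (hinl j hj)
    · have : (inr (algebraMap A R j • m) : (TrivSqZeroExt R M)) = ψ j * inr m := by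
        rw [hψ, add_mul, inl_mul_inr, inr_mul_inr, add_zero]
      rw [this]; exact K.mul_mem_right _ (Ideal.mem_map_of_mem ψ hj)
  have h1 : K ^ 2 ≤ L := by
    rw [sq, ← Ideal.map_mul, Ideal.map_le_iff_le_comap, Ideal.mul_le]
    intro j hj j' hj'
    show ψ (j * j') ∈ L
    rw [hψ, Derivation.leibniz, ← algebraMap_smul R j, ← algebraMap_smul R j',
      inr_add]
    exact L.add_mem (hinl _ (J.mul_mem_right _ hj)) (L.add_mem (hprod j _ hj).1 (hprod j' _ hj').1)
  have h2 : L ^ 2 ≤ K := by
    show ((J.map (algebraMap A R)).map (algebraMap R (TrivSqZeroExt R M))) ^ 2 ≤ K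
    rw [Ideal.map_map, sq, ← Ideal.map_mul, Ideal.map_le_iff_le_comap, Ideal.mul_le]
    intro j hj j' hj'
    show (inl (algebraMap A R (j * j')) : (TrivSqZeroExt R M)) ∈ K
    have : (inl (algebraMap A R (j * j')) : (TrivSqZeroExt R M)) = ψ (j * j') - inr (D (j * j')) := by
      rw [hψ, add_sub_cancel_right]
    rw [this, Derivation.leibniz, ← algebraMap_smul R j, ← algebraMap_smul R j',
      inr_add]
    exact K.sub_mem (Ideal.mem_map_of_mem ψ (J.mul_mem_right _ hj)) (K.add_mem (hprod j _ hj).2 (hprod j' _ hj').2)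
  haveI : IsAdicComplete K (TrivSqZeroExt R M) := fg_and_complete_congr L K hL h1 h2
  have hpowle : ∀ n, J ^ n ≤ (K ^ n).comap ψ := fun n =>
    Ideal.map_le_iff_le_comap.mp (by rw [Ideal.map_pow])
  let f : ∀ n, R →+* (TrivSqZeroExt R M) ⧸ K ^ n := fun n => (Ideal.quotientMap (K ^ n) ψ (hpowle n)).comp (AdicCompletion.evalₐ J n).toRingHom
  have hf : ∀ {m n : ℕ} (hle : m ≤ n), (Ideal.Quotient.factorPow K hle).comp (f n) = f m := by
    intro m n hle
    ext x
    obtain ⟨s, rfl⟩ := AdicCompletion.mk_surjective J A x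
    obtain ⟨a, ha⟩ : ∃ a, Ideal.Quotient.mk (J ^ n) a = AdicCompletion.evalₐ J n (AdicCompletion.mk J A s) :=
      ⟨s.val n, (AdicCompletion.evalₐ_mk J n s).symm⟩
    have hm : AdicCompletion.evalₐ J m (AdicCompletion.mk J A s) = Ideal.Quotient.mk _ a := by
      rw [AdicCompletion.evalₐ_mk, Ideal.Quotient.eq]
      rw [AdicCompletion.evalₐ_mk, Ideal.Quotient.eq] at ha
      have h1 := SModEq.sub_mem.mp (s.property hle)
      rw [smul_eq_mul, Ideal.mul_top] at h1
      rw [show s.val m - a = (s.val m - s.val n) - (a - s.val n) by abel]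
      exact Ideal.sub_mem _ h1 (Ideal.pow_le_pow_right hle ha)
    show Ideal.Quotient.factorPow K hle (Ideal.quotientMap (K ^ n) ψ (hpowle n) (AdicCompletion.evalₐ J n (AdicCompletion.mk J A s))) =
      Ideal.quotientMap (K ^ m) ψ (hpowle m) (AdicCompletion.evalₐ J m (AdicCompletion.mk J A s))
    rw [← ha, hm]; rfl
  let g : R →+* (TrivSqZeroExt R M) := IsAdicComplete.liftRingHom K f hf
  have hmk : ∀ n x, Ideal.Quotient.mk (K ^ n) (g x) = f n x := fun n x => IsAdicComplete.mk_liftRingHom K f hf n x
  have hga : ∀ a, g (algebraMap A R a) = ψ a := by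
    intro a
    rw [IsHausdorff.eq_iff_smodEq (I := K)]
    intro n
    rw [smul_eq_mul, Ideal.mul_top, SModEq.sub_mem, ← Ideal.Quotient.eq, hmk]
    show Ideal.quotientMap (K ^ n) ψ (hpowle n) (AdicCompletion.evalₐ J n (algebraMap A R a)) = _
    rw [AlgHom.commutes]; rfl
  have hfst : ∀ x, (g x).fst = x := by
    intro x
    rw [IsHausdorff.eq_iff_smodEq (I := JR)]
    intro n
    rw [smul_eq_mul, Ideal.mul_top, SModEq.sub_mem]
    obtain ⟨a, ha⟩ := Ideal.Quotient.mk_surjective (AdicCompletion.evalₐ J n x)
    have hx : x - algebraMap A R a ∈ JR ^ n := by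
      have hk : x - algebraMap A R a ∈ LinearMap.ker (AdicCompletion.eval J A n) := by
        have h0 : AdicCompletion.evalₐ J n (x - algebraMap A R a) = 0 := by
          rw [map_sub, AlgHom.commutes, ← ha]; exact sub_self _
        refine LinearMap.mem_ker.mpr ?_
        rw [← AdicCompletion.factor_evalₐ_eq_eval J _ (le_of_eq (Ideal.mul_top _).symm), h0, map_zero]
      rw [← AdicCompletion.pow_smul_top_eq_ker_eval hJ, Ideal.smul_top_eq_map, Ideal.map_pow] at hk
      exact hk
    have hK : g x - ψ a ∈ K ^ n := by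
      rw [← Ideal.Quotient.eq, hmk]
      show Ideal.quotientMap (K ^ n) ψ (hpowle n) (AdicCompletion.evalₐ J n x) = _
      rw [← ha]; rfl
    have hKfst : K ^ n ≤ (JR ^ n).comap (fstHom R R M).toRingHom := by
      refine Ideal.map_le_iff_le_comap.mp ?_
      rw [Ideal.map_pow]
      refine Ideal.pow_right_mono ?_ n
      rw [Ideal.map_map]
      exact le_of_eq (congrArg (fun φ => Ideal.map φ J) (RingHom.ext fun a => by
        show (ψ a).fst = _
        rw [hψ, fst_add, fst_inl, fst_inr, add_zero]))
    have h3 : (g x).fst - (ψ a).fst ∈ JR ^ n := hKfst hK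
    rw [show (g x).fst - x = ((g x).fst - (ψ a).fst) - (x - algebraMap A R a) by
      rw [show (ψ a).fst = algebraMap A R a by simp [hψ]]; abel]
    exact Ideal.sub_mem _ h3 hx
  have hsnd : ∀ x y, (g (x * y)).snd = x • (g y).snd + y • (g x).snd := fun x y => by
    rw [map_mul, snd_mul, hfst, hfst, op_smul_eq_smul]
  let lin : R →ₗ[A₀] M :=
    { toFun := fun x => (g x).snd
      map_add' := fun x y => by rw [map_add, snd_add]
      map_smul' := fun c x => by
        rw [RingHom.id_apply, Algebra.smul_def, hsnd, IsScalarTower.algebraMap_apply A₀ A R, hga, hψ, snd_add, snd_inl,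
          snd_inr, Derivation.map_algebraMap, zero_add, smul_zero, add_zero, algebraMap_smul, algebraMap_smul] }
  refine ⟨Derivation.mk' lin fun x y => hsnd x y, fun a => ?_⟩
  show (g (algebraMap A R a)).snd = _
  rw [hga, hψ, snd_add, snd_inl, snd_inr, zero_add]

/-- The universal derivation extends to the completion. -/
theorem exists_derivation {A₀ A : Type u} [CommRing A₀] [CommRing A] [Algebra A₀ A] [IsNoetherianRing A]
    [Module.Finite A₀ A] (J : Ideal A) :
    ∃ Δ : Derivation A₀ (AdicCompletion J A) (AdicCompletion J A ⊗[A] Ω[A⁄A₀]),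
      ∀ a, Δ (algebraMap A (AdicCompletion J A) a) = 1 ⊗ₜ KaehlerDifferential.D A₀ A a :=
  exists_derivation_aux J
    (((TensorProduct.mk A (AdicCompletion J A) (Ω[A⁄A₀])) 1).compDer (KaehlerDifferential.D A₀ A))

/-- Let A₀ be a semi-local Noetherian ring, A a module-finite A₀-algebra and Â the completion of A for
the adic topology of its Jacobson radical. For the discrete topologies, Â is a formally smooth
A-algebra relative to A₀. -/
theorem result {A₀ A : Type u} [CommRing A₀]
    [IsNoetherianRing A₀] [Finite (MaximalSpectrum A₀)] [CommRing A] [Algebra A₀ A] [Module.Finite A₀ A] :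
    EGA41.IsFormallySmoothRel A₀ A (AdicCompletion (Ideal.jacobson (⊥ : Ideal A)) A) := by
  intro C _ _ _ _ I hI u₀ ⟨u, hu⟩
  let J := Ideal.jacobson (⊥ : Ideal A)
  let R := AdicCompletion J A
  haveI : IsNoetherianRing A := IsNoetherianRing.of_finite A₀ A
  obtain ⟨Δ, hΔ⟩ := exists_derivation (A₀ := A₀) J
  -- `I` is a module over the completion through `u`
  have hII : ∀ x ∈ I, ∀ y ∈ I, x * y = 0 := fun x hx y hy => by
    have := Ideal.mul_mem_mul hx hy
    rwa [← sq, hI, Ideal.mem_bot] at this
  letI : Module R I := Module.compHom _ u.toRingHom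
  have hsmul : ∀ (r : R) (i : I), ((r • i : I) : C) = u r * i := fun r i => rfl
  have hua : ∀ a : A, u (algebraMap A R a) - algebraMap A C a ∈ I := fun a => by
    rw [← Ideal.Quotient.eq]
    have h := AlgHom.congr_fun hu (algebraMap A R a)
    rw [AlgHom.restrictScalars_apply, AlgHom.commutes] at h
    exact h
  haveI : IsScalarTower A R I := ⟨fun a r i => Subtype.ext (by
    rw [hsmul, Algebra.smul_def a r, map_mul, Submodule.coe_smul_of_tower, hsmul, Algebra.smul_def, ← sub_eq_zero,
      mul_assoc, ← sub_mul]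
    exact hII _ (hua a) _ (I.mul_mem_left _ i.2))⟩
  let linδ : A →ₗ[A₀] I :=
    { toFun := fun a => ⟨u (algebraMap A R a) - algebraMap A C a, hua a⟩
      map_add' := fun a b => Subtype.ext (by simp; abel)
      map_smul' := fun c a => Subtype.ext (by
        simp only [RingHom.id_apply, SetLike.val_smul]
        rw [Submodule.coe_smul_of_tower, Algebra.smul_def c a, map_mul, map_mul, map_mul, ← IsScalarTower.algebraMap_apply,
          AlgHom.commutes, ← IsScalarTower.algebraMap_apply, Algebra.smul_def c, mul_sub]) }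
  let δ : Derivation A₀ A I := Derivation.mk' linδ fun a b => Subtype.ext (by
    show u (algebraMap A R (a * b)) - algebraMap A C (a * b) =
      a • (u (algebraMap A R b) - algebraMap A C b) + b • (u (algebraMap A R a) - algebraMap A C a)
    rw [map_mul, map_mul, map_mul, Algebra.smul_def, Algebra.smul_def]
    linear_combination hII _ (hua a) _ (hua b))
  let L : R ⊗[A] Ω[A⁄A₀] →ₗ[R] I := δ.liftKaehlerDifferential.liftBaseChange R
  have hL : ∀ a, ((L (Δ (algebraMap A R a))) : C) = u (algebraMap A R a) - algebraMap A C a := fun a => by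
    rw [hΔ]
    simp only [L, LinearMap.liftBaseChange_tmul, one_smul, Derivation.liftKaehlerDifferential_comp_D]
    rfl
  let v : R →ₐ[A] C :=
    { toFun := fun x => u x - (L (Δ x) : C)
      map_one' := by simp
      map_zero' := by simp
      map_add' := fun x y => by simp; abel
      map_mul' := fun x y => by
        rw [Derivation.leibniz, map_add, map_smul, map_smul, Submodule.coe_add, hsmul, hsmul, map_mul]
        linear_combination -(hII _ (L (Δ x)).2 _ (L (Δ y)).2)
      commutes' := fun a => by
        show u (algebraMap A R a) - _ = _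
        rw [hL, sub_sub_cancel] }
  refine ⟨v, AlgHom.ext fun x => ?_⟩
  show Ideal.Quotient.mk I (u x - (L (Δ x) : C)) = u₀ x
  rw [map_sub, Ideal.Quotient.eq_zero_iff_mem.mpr (L (Δ x)).2, sub_zero]
  exact AlgHom.congr_fun hu x

end Groth.Agent.S4581
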