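import Groth.Statements.S4582
import Groth.Agent.Ega41Flat.RegularLocal
import Groth.Agent.Ega4Algebra2.GRingComplete


set_option autoImplicit false
universe u
open IsLocalRing
open EGA41

namespace Groth.Agent.S4582

/-- Let A be a complete Noetherian local ring, p a prime of A, B = A_p, B̂ the completion of B, q a
prime of B̂ and r its contraction to B. Then B̂_q is formally smooth over B_r for the adic
topologies of the maximal ideals. -/
theorem result {A : Type u} [CommRing A]
    [IsLocalRing A] [IsNoetherianRing A] [IsAdicComplete (maximalIdeal A) A] (p : Ideal A) [p.IsPrime]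
    (q : Ideal (AdicCompletion (maximalIdeal (Localization.AtPrime p)) (Localization.AtPrime p))) [q.IsPrime]
    [Algebra (Localization.AtPrime (q.comap (algebraMap (Localization.AtPrime p)
        (AdicCompletion (maximalIdeal (Localization.AtPrime p)) (Localization.AtPrime p)))))
      (Localization.AtPrime q)]
    [IsScalarTower (Localization.AtPrime p)
      (Localization.AtPrime (q.comap (algebraMap (Localization.AtPrime p)
        (AdicCompletion (maximalIdeal (Localization.AtPrime p)) (Localization.AtPrime p)))))
      (Localization.AtPrime q)] :
    EGA41.IsFormallySmoothAdic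
      (Localization.AtPrime (q.comap (algebraMap (Localization.AtPrime p)
        (AdicCompletion (maximalIdeal (Localization.AtPrime p)) (Localization.AtPrime p)))))
      (maximalIdeal _) (Localization.AtPrime q) (maximalIdeal _) := by
  have hG : CAlg.IsGRing A := Groth.Ega4b.isGRing_of_isAdicComplete A
  let B := Localization.AtPrime p
  let C := AdicCompletion (maximalIdeal B) B
  haveI : IsNoetherianRing C :=
    Groth.Calg1.isNoetherianRing_adicCompletion _ (IsNoetherian.noetherian (maximalIdeal B))
  have h := Groth.Ega41Flat.isRegularHom_localization_atPrime (A' := Localization.AtPrime (q.comap (algebraMap B C)))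
    (q.comap (algebraMap B C)).primeCompl (hG.2 p) q (Localization.AtPrime q)
  haveI : IsLocalHom (algebraMap (Localization.AtPrime (q.comap (algebraMap B C))) (Localization.AtPrime q)) := by
    constructor
    intro x hx
    obtain ⟨a, s, rfl⟩ := IsLocalization.exists_mk'_eq (q.comap (algebraMap B C)).primeCompl x
    rw [IsLocalization.AtPrime.isUnit_mk'_iff]
    intro ha
    refine (IsLocalRing.mem_maximalIdeal _).mp ((IsLocalization.AtPrime.to_map_mem_maximal_iff (Localization.AtPrime q) q (algebraMap B C a)).mpr ha) ?_
    have h1 := hx.mul ((IsLocalization.map_units (Localization.AtPrime (q.comap (algebraMap B C))) s).map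
      (algebraMap _ (Localization.AtPrime q)))
    rw [← map_mul, IsLocalization.mk'_spec, ← IsScalarTower.algebraMap_apply] at h1
    rw [← IsScalarTower.algebraMap_apply]
    exact h1
  exact (Groth.Ega41Flat.isAdicFormallySmooth_iff_local).mp (Groth.Ega41Flat.isAdicFormallySmooth_of_isRegularHom h)

end Groth.Agent.S4582
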