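import Groth.Statements.S4583
import Groth.Agent.Ega41Flat.RegularLocal
import Groth.Agent.Ega4Algebra2.GRingComplete


set_option autoImplicit false
universe u
open IsLocalRing
open EGA41

namespace Groth.Agent.S4583

/-- Let A be a complete Noetherian local domain with fraction field K, p a prime of A, B = A_p, q a
prime of the completion B̂ of B with q ∩ B = 0. Then B̂_q is a K-algebra formally smooth over K for
the adic topology of its maximal ideal (the published statement adds that it is then geometrically
regular over K; that consequence is not stated). -/
theorem result {A : Type u} [CommRing A]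
    [IsDomain A] [IsLocalRing A] [IsNoetherianRing A] [IsAdicComplete (maximalIdeal A) A] (p : Ideal A) [p.IsPrime]
    (q : Ideal (AdicCompletion (maximalIdeal (Localization.AtPrime p)) (Localization.AtPrime p))) [q.IsPrime]
    (hq : q.comap (algebraMap (Localization.AtPrime p)
      (AdicCompletion (maximalIdeal (Localization.AtPrime p)) (Localization.AtPrime p))) = ⊥)
    [Algebra A (Localization.AtPrime q)]
    [IsScalarTower A (AdicCompletion (maximalIdeal (Localization.AtPrime p)) (Localization.AtPrime p))
      (Localization.AtPrime q)]
    [Algebra (FractionRing A) (Localization.AtPrime q)] [IsScalarTower A (FractionRing A) (Localization.AtPrime q)] :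
    CAlgX.IsAdicFormallySmooth (FractionRing A) (Localization.AtPrime q) (maximalIdeal (Localization.AtPrime q)) := by
  have hG : CAlg.IsGRing A := Groth.Ega4b.isGRing_of_isAdicComplete A
  let B := Localization.AtPrime p
  let C := AdicCompletion (maximalIdeal B) B
  haveI : IsNoetherianRing C :=
    Groth.Calg1.isNoetherianRing_adicCompletion _ (IsNoetherian.noetherian (maximalIdeal B))
  have hAK : ∀ a : A, algebraMap (FractionRing A) (Localization.AtPrime q) (algebraMap A (FractionRing A) a) =
      algebraMap C (Localization.AtPrime q) (algebraMap A C a) := fun a => by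
    rw [Algebra.algebraMap_eq_smul_one (A := Localization.AtPrime q), Algebra.algebraMap_eq_smul_one a, smul_assoc,
      one_smul, Algebra.algebraMap_eq_smul_one (A := Localization.AtPrime q), Algebra.algebraMap_eq_smul_one a,
      smul_assoc, one_smul]
  letI : Algebra B (FractionRing A) := (IsLocalization.lift (M := p.primeCompl) (g := algebraMap A (FractionRing A))
    (fun s => isUnit_iff_ne_zero.mpr ((map_ne_zero_iff _ (IsFractionRing.injective A (FractionRing A))).mpr
      fun h => s.2 (h ▸ p.zero_mem)))).toAlgebra
  haveI : IsScalarTower A B (FractionRing A) := IsScalarTower.of_algebraMap_eq fun a => (IsLocalization.lift_eq _ a).symm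
  haveI : IsFractionRing B (FractionRing A) := IsFractionRing.isFractionRing_of_isDomain_of_isLocalization p.primeCompl B _
  haveI : IsScalarTower B (FractionRing A) (Localization.AtPrime q) := IsScalarTower.of_algebraMap_eq' (by
    refine IsLocalization.ringHom_ext p.primeCompl (RingHom.ext fun a => ?_)
    rw [RingHom.comp_apply, RingHom.comp_apply, RingHom.comp_apply, ← IsScalarTower.algebraMap_apply A B (FractionRing A),
      hAK, IsScalarTower.algebraMap_apply A B C,
      ← IsScalarTower.algebraMap_apply B C (Localization.AtPrime q)])
  have h := Groth.Ega41Flat.isRegularHom_localization_atPrime (A' := FractionRing A)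
    (nonZeroDivisors B) (hG.2 p) q (Localization.AtPrime q)
  haveI : IsLocalHom (algebraMap (FractionRing A) (Localization.AtPrime q)) :=
    ⟨fun x hx => isUnit_iff_ne_zero.mpr fun h0 => by simp [h0] at hx⟩
  exact Groth.Ega41Flat.isAdicFormallySmooth_of_isRegularHom h

end Groth.Agent.S4583
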