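import Groth.Statements.S4584
import Mathlib.AlgebraicGeometry.Morphisms.FinitePresentation
import Mathlib.RingTheory.Spectrum.Prime.ConstructibleSet
import Mathlib.RingTheory.RingHom.FinitePresentation

set_option autoImplicit false
set_option backward.isDefEq.respectTransparency.types false
universe u
open AlgebraicGeometry CategoryTheory Topology
open EGA41
open CategoryTheory.Limits

namespace Groth.Agent.S4584

/-- Given a scheme X that is quasi-compact and quasi-separated, together with a constructible subset Z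
of X, one can find an affine scheme X' with a morphism X' → X of finite presentation whose image
equals Z. -/
theorem result (X : Scheme.{u}) [CompactSpace X]
    [QuasiSeparatedSpace X] (Z : Set X) (hZ : IsConstructible Z) :
    ∃ (X' : Scheme.{u}) (f : X' ⟶ X), IsAffine X' ∧ LocallyOfFinitePresentation f ∧ QuasiCompact f ∧
      QuasiSeparated f ∧ Set.range f.base = Z := by
  classical
  let P : Set X → Prop := fun E => ∃ (T : Scheme.{u}) (a : T ⟶ X), IsAffine T ∧ LocallyOfFinitePresentation a ∧ Set.range a = E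
  have hU : ∀ {κ : Type u} [Finite κ] (E : κ → Set X), (∀ k, P (E k)) → P (⋃ k, E k) := by
    intro κ _ E hE
    choose T a hT ha hr using hE
    refine ⟨∐ T, Sigma.desc a, inferInstance, IsZariskiLocalAtSource.sigmaDesc (P := @LocallyOfFinitePresentation) ha, ?_⟩
    refine Set.Subset.antisymm ?_ (Set.iUnion_subset fun k => ?_)
    · rintro _ ⟨x, rfl⟩
      obtain ⟨k, y, rfl⟩ : ∃ (k : κ) (y : T k), Sigma.ι T k y = x :=
        Scheme.Cover.exists_eq (sigmaOpenCover T) x
      exact Set.mem_iUnion.mpr ⟨k, hr k ▸ ⟨y, by rw [← Scheme.Hom.comp_apply, Sigma.ι_desc]⟩⟩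
    · rw [← hr k]
      rintro _ ⟨y, rfl⟩
      exact ⟨Sigma.ι T k y, by rw [← Scheme.Hom.comp_apply, Sigma.ι_desc]⟩
  have hW : ∀ W : X.Opens, IsAffineOpen W → P (Z ∩ (W : Set X)) := by
    intro W hW
    have := hW.fromSpec.isOpenEmbedding
    obtain ⟨s, hs⟩ := PrimeSpectrum.exists_constructibleSetData_iff.mpr
      (hZ.preimage_of_isOpenEmbedding hW.fromSpec.isOpenEmbedding)
    have key : ∀ C : {C // C ∈ s}, P (hW.fromSpec '' C.1.toSet) := by
      intro C
      let f := Ideal.Quotient.mk (Ideal.span (Set.range C.1.g)) C.1.f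
      let ψ : Γ(X, W) →+* Localization.Away f :=
        (algebraMap _ (Localization.Away f)).comp (Ideal.Quotient.mk (Ideal.span (Set.range C.1.g)))
      have hψ : ψ.FinitePresentation :=
        RingHom.FinitePresentation.comp (RingHom.finitePresentation_holdsForLocalizationAway _ f)
          (RingHom.FinitePresentation.of_surjective _ Ideal.Quotient.mk_surjective (by
            rw [Ideal.mk_ker]; exact ⟨Finset.univ.image C.1.g, by simp⟩))
      have hl : LocallyOfFinitePresentation (Spec.map (CommRingCat.ofHom ψ)) :=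
        (LocallyOfFinitePresentation.SpecMap_iff _).mpr hψ
      refine ⟨Spec (CommRingCat.of (Localization.Away f)), Spec.map (CommRingCat.ofHom ψ) ≫ hW.fromSpec,
        inferInstance, inferInstance, ?_⟩
      rw [Scheme.Hom.comp_base, TopCat.coe_comp, Set.range_comp]
      congr 1
      show Set.range (PrimeSpectrum.comap ψ) = _
      rw [PrimeSpectrum.comap_comp, Set.range_comp, PrimeSpectrum.localization_away_comap_range _ f,
        ← PrimeSpectrum.comap_basicOpen, TopologicalSpace.Opens.coe_comap, ContinuousMap.coe_mk,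
        Set.image_preimage_eq_inter_range, range_comap_of_surjective _ _ Ideal.Quotient.mk_surjective,
        PrimeSpectrum.BasicConstructibleSetData.toSet, Set.sdiff_eq_compl_inter,
        PrimeSpectrum.basicOpen_eq_zeroLocus_compl, Ideal.mk_ker, PrimeSpectrum.zeroLocus_span]
    have h := hU _ key
    rw [← Set.image_iUnion] at h
    have e : (⋃ C : {C // C ∈ s}, C.1.toSet) = hW.fromSpec ⁻¹' Z := by
      refine Eq.trans ?_ hs
      rw [PrimeSpectrum.ConstructibleSetData.toSet]
      exact Set.iUnion_subtype _ _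
    have h' : P (hW.fromSpec '' (hW.fromSpec ⁻¹' Z)) := Eq.mp (congrArg (fun S => P (hW.fromSpec '' S)) e) h
    rw [Set.image_preimage_eq_inter_range, hW.range_fromSpec] at h' 
    exact h'
  obtain ⟨t, ht⟩ := CompactSpace.isCompact_univ.elim_finite_subcover (fun W : X.affineOpens => (W.1 : Set X))
    (fun W => W.1.2) fun x _ => by
      obtain ⟨W, hW, hxW, -⟩ := exists_isAffineOpen_mem_and_subset (X := X) (U := ⊤) (Set.mem_univ x)
      exact Set.mem_iUnion.mpr ⟨⟨W, hW⟩, hxW⟩
  obtain ⟨T, a, hT, ha, hr⟩ := hU (fun W : ↑(↑t : Set X.affineOpens) => Z ∩ (W.1.1 : Set X)) fun W => hW _ W.1.2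
  refine ⟨T, a, hT, ha, inferInstance, inferInstance, hr.trans ?_⟩
  refine Set.Subset.antisymm (Set.iUnion_subset fun W => Set.inter_subset_left) fun z hz => ?_
  obtain ⟨W, hW, hzW⟩ := Set.mem_iUnion₂.mp (ht (Set.mem_univ z))
  exact Set.mem_iUnion.mpr ⟨⟨W, hW⟩, hz, hzW⟩

end Groth.Agent.S4584
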