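import Groth.Statements.S4585
import Groth.Agent.EGA41Two.GenericImage
import Mathlib.AlgebraicGeometry.Morphisms.FiniteType

set_option autoImplicit false
universe u
open AlgebraicGeometry CategoryTheory
open EGA41

namespace Groth.Agent.S4585

/-- Let Y be an irreducible scheme with generic point η and f : X → Y locally of finite type with
nonempty fibre over η. Then some open neighbourhood of η is contained in f(X). (The second
assertion, on fibres of a quasi-coherent module of finite type, is not stated.) -/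
theorem result {X Y : Scheme.{u}} (f : X ⟶ Y)
    [LocallyOfFiniteType f] [IrreducibleSpace Y] (h : genericPoint Y ∈ Set.range f.base) :
    genericPoint Y ∈ interior (Set.range f.base) := by
  obtain ⟨x, hx⟩ := h
  set η := genericPoint Y
  obtain ⟨V, hV, hηV, -⟩ := exists_isAffineOpen_mem_and_subset (X := Y) (U := ⊤) (Set.mem_univ η)
  obtain ⟨W, hW, hxW, hWV⟩ := exists_isAffineOpen_mem_and_subset (X := X) (U := f ⁻¹ᵁ V)
    (show f x ∈ V by rw [hx]; exact hηV)
  let φ := f.appLE V W hWV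
  have hft : φ.hom.FiniteType := LocallyOfFiniteType.finiteType_appLE f hV hW hWV
  let p₀ := hV.primeIdealOf ⟨η, hηV⟩
  have hp₀ : hV.fromSpec p₀ = η := hV.fromSpec_primeIdealOf _
  have hmin : ∀ p : PrimeSpectrum Γ(Y, V), p₀.asIdeal ≤ p.asIdeal := by
    intro p
    refine (PrimeSpectrum.le_iff_specializes p₀ p).mpr ?_
    refine (hV.fromSpec.isOpenEmbedding.isInducing.specializes_iff).mp ?_
    rw [hp₀]
    exact genericPoint_specializes _
  have hpt : ∀ q : Spec Γ(X, W), hV.fromSpec (Spec.map φ q) = f (hW.fromSpec q) := fun q => by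
    exact congr($(IsAffineOpen.SpecMap_appLE_fromSpec f hV hW hWV) q)
  let q₀ := hW.primeIdealOf ⟨x, hxW⟩
  have hq₀ : q₀.asIdeal.comap φ.hom = p₀.asIdeal := by
    refine congrArg PrimeSpectrum.asIdeal (hV.fromSpec.isOpenEmbedding.injective ?_ : (Spec.map φ) q₀ = p₀)
    exact (hpt q₀).trans ((congrArg f (hW.fromSpec_primeIdealOf _)).trans (hx.trans hp₀.symm))
  algebraize [φ.hom]
  let J : Ideal Γ(X, W) := p₀.asIdeal.map φ.hom
  let : Algebra (Γ(Y, V) ⧸ p₀.asIdeal) (Γ(X, W) ⧸ J) :=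
    (Ideal.quotientMap J φ.hom Ideal.le_comap_map).toAlgebra
  have : IsScalarTower Γ(Y, V) (Γ(Y, V) ⧸ p₀.asIdeal) (Γ(X, W) ⧸ J) := IsScalarTower.of_algebraMap_eq fun _ => rfl
  have : Algebra.FiniteType Γ(Y, V) (Γ(X, W) ⧸ J) :=
    Algebra.FiniteType.of_surjective (Ideal.Quotient.mkₐ _ J) Ideal.Quotient.mk_surjective
  have : Algebra.FiniteType (Γ(Y, V) ⧸ p₀.asIdeal) (Γ(X, W) ⧸ J) :=
    Algebra.FiniteType.of_restrictScalars_finiteType Γ(Y, V) _ _
  have hJq : J ≤ q₀.asIdeal := Ideal.map_le_iff_le_comap.mpr hq₀.ge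
  have : (q₀.asIdeal.map (Ideal.Quotient.mk J)).IsPrime :=
    Ideal.map_isPrime_of_surjective Ideal.Quotient.mk_surjective (by rwa [Ideal.mk_ker])
  obtain ⟨a, ha, hrange⟩ := Groth.EGA41Two.exists_ne_zero_forall_mem_range_comap
    (R := Γ(Y, V) ⧸ p₀.asIdeal) (q₀.asIdeal.map (Ideal.Quotient.mk J)) (by
      rw [eq_bot_iff]
      intro r hr
      obtain ⟨r, rfl⟩ := Ideal.Quotient.mk_surjective r
      rw [Submodule.mem_bot, Ideal.Quotient.eq_zero_iff_mem, ← hq₀, Ideal.mem_comap]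
      have h2 : φ.hom r ∈ (q₀.asIdeal.map (Ideal.Quotient.mk J)).comap (Ideal.Quotient.mk J) := hr
      rwa [Ideal.comap_map_of_surjective _ Ideal.Quotient.mk_surjective, ← RingHom.ker_eq_comap_bot, Ideal.mk_ker,
        sup_eq_left.mpr hJq] at h2)
  obtain ⟨a, rfl⟩ := Ideal.Quotient.mk_surjective a
  refine mem_interior.mpr ⟨hV.fromSpec '' (SetLike.coe (PrimeSpectrum.basicOpen a) : Set (PrimeSpectrum Γ(Y, V))), ?_,
    hV.fromSpec.isOpenEmbedding.isOpenMap _ (PrimeSpectrum.basicOpen a).2,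
    ⟨p₀, fun h => ha (Ideal.Quotient.eq_zero_iff_mem.mpr h), hp₀⟩⟩
  rintro _ ⟨p, hp, rfl⟩
  revert p
  intro (p : PrimeSpectrum Γ(Y, V)) hp
  let pb : PrimeSpectrum (Γ(Y, V) ⧸ p₀.asIdeal) := ⟨p.asIdeal.map (Ideal.Quotient.mk p₀.asIdeal),
    Ideal.map_isPrime_of_surjective Ideal.Quotient.mk_surjective (by rw [Ideal.mk_ker]; exact hmin p)⟩
  have hpb : pb.asIdeal.comap (Ideal.Quotient.mk p₀.asIdeal) = p.asIdeal := by
    show (p.asIdeal.map _).comap _ = _
    rw [Ideal.comap_map_of_surjective _ Ideal.Quotient.mk_surjective, ← RingHom.ker_eq_comap_bot, Ideal.mk_ker,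
      sup_eq_left.mpr (hmin p)]
  obtain ⟨Q, hQ⟩ := hrange pb fun h => hp (hpb ▸ h)
  let q : PrimeSpectrum Γ(X, W) := PrimeSpectrum.comap (Ideal.Quotient.mk J) Q
  refine ⟨hW.fromSpec q, ?_⟩
  show f (hW.fromSpec q) = _
  refine (hpt q).symm.trans (congrArg hV.fromSpec ?_)
  apply PrimeSpectrum.ext
  show q.asIdeal.comap φ.hom = p.asIdeal
  rw [← hpb, ← hQ]
  rfl

end Groth.Agent.S4585
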