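import Groth.Statements.S4587
import Mathlib.AlgebraicGeometry.Properties
import Mathlib.Topology.Sober

set_option autoImplicit false
universe u
open AlgebraicGeometry CategoryTheory
open EGA41

namespace Groth.Agent.S4587

/-- A morphism of schemes f : X → Y is generizing if and only if, for every irreducible closed subset Y'
of Y, each irreducible component of f⁻¹(Y') has dense image in Y'. -/
theorem result {X Y : Scheme.{u}} (f : X ⟶ Y) :
    GeneralizingMap f.base ↔
      ∀ Y' : Set Y, IsClosed Y' → IsIrreducible Y' →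
        ∀ Z ∈ irreducibleComponents ↥(f.base ⁻¹' Y'), closure (f.base '' (Subtype.val '' Z)) = Y' := by
  constructor
  · intro hf Y' hY' hY'irr Z hZ
    have hcl : Topology.IsClosedEmbedding (Subtype.val : ↥(f.base ⁻¹' Y') → X) :=
      (hY'.preimage f.continuous).isClosedEmbedding_subtypeVal
    have hZc : IsClosed Z := isClosed_of_mem_irreducibleComponents Z hZ
    have hZi : IsClosed (Subtype.val '' Z : Set X) := hcl.isClosedMap _ hZc
    have hirr : IsIrreducible (Subtype.val '' Z : Set X) :=
      hZ.prop.image _ continuous_subtype_val.continuousOn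
    obtain ⟨ζ, hζ⟩ := QuasiSober.sober hirr hZi
    obtain ⟨η, hη⟩ := QuasiSober.sober hY'irr hY'
    obtain ⟨⟨z, hz⟩, hzZ, hzζ⟩ := hζ.mem
    change z = ζ at hzζ
    subst hzζ
    obtain ⟨x', hx', hfx'⟩ := hf (hη.specializes hz : η ⤳ f.base z)
    have hx'mem : x' ∈ f.base ⁻¹' Y' := by
      show f.base x' ∈ Y'
      rw [hfx']; exact hη.mem
    have hZsub : Z ⊆ closure {(⟨x', hx'mem⟩ : ↥(f.base ⁻¹' Y'))} := by
      intro w hw
      rw [closure_subtype, Set.image_singleton]
      exact specializes_iff_mem_closure.mp (hx'.trans (hζ.specializes ⟨w, hw, rfl⟩))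
    have hx'Z : (⟨x', hx'mem⟩ : ↥(f.base ⁻¹' Y')) ∈ Z :=
      hZ.2 (isIrreducible_singleton.closure) hZsub (subset_closure rfl)
    have e : z = x' := ((hζ.specializes ⟨_, hx'Z, rfl⟩).antisymm hx').eq
    refine le_antisymm (closure_minimal ?_ hY') ?_
    · rintro _ ⟨_, ⟨w, -, rfl⟩, rfl⟩
      exact w.2
    · refine hη.def.symm.le.trans (closure_mono (Set.singleton_subset_iff.mpr ?_))
      exact ⟨z, ⟨_, hzZ, rfl⟩, by rw [e, hfx']⟩
  · intro H x y' hy'
    have hxmem : x ∈ f.base ⁻¹' closure {y'} := specializes_iff_mem_closure.mp hy'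
    set p : ↥(f.base ⁻¹' closure {y'}) := ⟨x, hxmem⟩
    have hZ := irreducibleComponent_mem_irreducibleComponents p
    have h := H (closure {y'}) isClosed_closure isIrreducible_singleton.closure _ hZ
    have hcl : Topology.IsClosedEmbedding (Subtype.val : ↥(f.base ⁻¹' closure {y'}) → X) :=
      (isClosed_closure.preimage f.continuous).isClosedEmbedding_subtypeVal
    have hirr : IsIrreducible (Subtype.val '' irreducibleComponent p : Set X) :=
      isIrreducible_irreducibleComponent.image _ continuous_subtype_val.continuousOn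
    obtain ⟨ζ, hζ⟩ := QuasiSober.sober hirr (hcl.isClosedMap _ isClosed_irreducibleComponent)
    refine ⟨ζ, hζ.specializes ⟨p, mem_irreducibleComponent, rfl⟩, ?_⟩
    refine Inseparable.eq (Specializes.antisymm ?_ ?_)
    · refine specializes_iff_mem_closure.mpr (closure_minimal ?_ isClosed_closure (h.symm.le (subset_closure (Set.mem_singleton y'))))
      rintro _ ⟨w, hw, rfl⟩
      exact specializes_iff_mem_closure.mp ((hζ.specializes hw).map f.continuous)
    · obtain ⟨w, -, hw⟩ := hζ.mem
      exact specializes_iff_mem_closure.mpr (hw ▸ w.2)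

end Groth.Agent.S4587
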