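import Groth.Statements.S4588
import Groth.Agent.EGA41Two.MonicVarsRegular

set_option autoImplicit false
universe u
open IsLocalRing
open EGA41

namespace Groth.Agent.S4588

open Groth.EGA41Two.MonicVars in
theorem aux {A : Type u} [CommRing A] [IsRegularLocalRing A] {r : ℕ} (d : Fin r → ℕ) (hd : ∀ i, 2 ≤ d i)
    (c : Fin r → ℕ → A) (hc : ∀ i k, c i k ∈ maximalIdeal A)
    (I : Ideal (MvPolynomial (Fin r) A)) (hI : I = finIdeal (fun i => monicPoly (d i) (c i))) :
    IsLocalRing (MvPolynomial (Fin r) A ⧸ I) ∧
    (∀ (M : Ideal (MvPolynomial (Fin r) A ⧸ I)) [M.IsMaximal],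
      Function.Surjective ((Ideal.Quotient.mk M).comp (algebraMap A _))) ∧
    (IsRegularRing (MvPolynomial (Fin r) A ⧸ I) ↔
      LinearIndependent (ResidueField A) (fun i => (maximalIdeal A).toCotangent ⟨c i 0, hc i 0⟩)) := by
  subst hI
  set f := fun i => monicPoly (d i) (c i) with hf
  have hmon : ∀ i, (f i).Monic := fun i => monic_monicPoly _ _
  have hd0 : ∀ i, 0 < d i := fun i => lt_of_lt_of_le two_pos (hd i)
  have hres : ∀ i, (f i).map (residue A) = Polynomial.X ^ d i := fun i => map_monicPoly _ _ (hc i)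
  have hx : ∀ i, ((⟨c i 0, hc i 0⟩ : maximalIdeal A) : A) = (f i).coeff 0 :=
    fun i => (coeff_zero_monicPoly (hd0 i) _).symm
  have hloc := Groth.EGA41Two.MonicVars.isLocalRing f hmon d hd0 hres
  refine ⟨hloc, fun M hM => surjective_mk_comp f hmon d hd0 hres M hM, ?_, ?_⟩
  · intro hreg
    have : IsRegularLocalRing (MvPolynomial (Fin r) A ⧸ finIdeal f) :=
      IsRegularLocalRing.of_isRegularRing_of_isLocalRing _
    exact linearIndependent_of_isRegularLocalRing f hmon d hd hres _ hx
  · intro hli
    have := isRegularLocalRing_of_linearIndependent f hmon d hd hres _ hx hli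
    refine Groth.EGA41Two.isRegularRing_of_forall_maximal fun M hM => ?_
    exact Groth.Ega4Algebra1.isRegularLocalRing_localization_atPrime _ M


/-- Let A be a regular local ring with maximal ideal m and residue field K, and F_i(T_i) = T_i^{d_i} +
Σ_{k<d_i} c_{ik} T_i^k (1 ≤ i ≤ r) monic one-variable polynomials of degrees d_i ≥ 2 with all
non-leading coefficients in m; put A' = A[T_1, …, T_r]/(F_1, …, F_r). Then (i) A' is local with
residue field K, and (ii) A' is regular if and only if the classes in m/m² of the constant terms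
c_{i0} are linearly independent over K. -/
theorem result {A : Type u} [CommRing A]
    [IsRegularLocalRing A] {r : ℕ} (d : Fin r → ℕ) (hd : ∀ i, 2 ≤ d i) (c : Fin r → ℕ → A)
    (hc : ∀ i k, c i k ∈ maximalIdeal A) :
    let F : Fin r → MvPolynomial (Fin r) A := fun i =>
      MvPolynomial.X i ^ d i + (Finset.range (d i)).sum fun k => MvPolynomial.C (c i k) * MvPolynomial.X i ^ k
    IsLocalRing (MvPolynomial (Fin r) A ⧸ Ideal.span (Set.range F)) ∧
    (∀ (M : Ideal (MvPolynomial (Fin r) A ⧸ Ideal.span (Set.range F))) [M.IsMaximal],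
      Function.Surjective ((Ideal.Quotient.mk M).comp (algebraMap A _))) ∧
    (IsRegularRing (MvPolynomial (Fin r) A ⧸ Ideal.span (Set.range F)) ↔
      LinearIndependent (ResidueField A) (fun i => (maximalIdeal A).toCotangent ⟨c i 0, hc i 0⟩)) := by
  intro F
  exact aux d hd c hc _ (Groth.EGA41Two.MonicVars.finIdeal_monicPoly d c).symm

end Groth.Agent.S4588
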