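import Groth.Statements.S4589
import Groth.Agent.Ega41Jac.Nagata

set_option autoImplicit false
universe u
open IsLocalRing
open EGA41

namespace Groth.Agent.S4589

/-- Under the hypotheses of Nagata's Jacobian criterion — k a field of characteristic exponent p with k
finite over k^p, A a complete Noetherian local ring with residue field finite over a separable
extension K₀ of k, A a K₀-algebra formally smooth for its adic topology, q an ideal of A and B = A/q
— the set of primes n of B with B_n formally smooth over k for the adic topology of its maximal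
ideal is open in Spec B. -/
theorem result (p : ℕ) {k K₀ A : Type u} [Field k] [ExpChar k p]
    (hk : p = 1 ∨ Module.Finite (frobenius k p).fieldRange k)
    [Field K₀] [Algebra k K₀] [Algebra.IsGeometricallyReduced k K₀]
    [CommRing A] [IsLocalRing A] [IsNoetherianRing A] [IsAdicComplete (maximalIdeal A) A]
    [Algebra k A] [Algebra K₀ A] [IsScalarTower k K₀ A] [Module.Finite K₀ (ResidueField A)]
    (hA : CAlgX.IsAdicFormallySmooth K₀ A (maximalIdeal A))
    (q : Ideal A) :
    IsOpen {n : PrimeSpectrum (A ⧸ q) |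
      CAlgX.IsAdicFormallySmooth k (Localization.AtPrime n.asIdeal) (maximalIdeal (Localization.AtPrime n.asIdeal))} := by
  classical
  have hAk := Groth.Ega41Jac.isAdicFormallySmooth_of_separable (k := k) hA
  refine isOpen_iff_forall_mem_open.mpr fun n hn => ?_
  let 𝔭 : Ideal A := n.asIdeal.comap (Ideal.Quotient.mk q)
  have hq : ∀ n' : PrimeSpectrum (A ⧸ q), q ≤ n'.asIdeal.comap (Ideal.Quotient.mk q) := fun n' a ha => by
    rw [Ideal.mem_comap, Ideal.Quotient.eq_zero_iff_mem.mpr ha]; exact zero_mem _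
  have hmap : ∀ n' : PrimeSpectrum (A ⧸ q),
      n'.asIdeal = (n'.asIdeal.comap (Ideal.Quotient.mk q)).map (Ideal.Quotient.mk q) := fun n' =>
    (Ideal.map_comap_of_surjective _ Ideal.Quotient.mk_surjective _).symm
  obtain ⟨m, D, f, hf, hgen, hdet⟩ := Groth.Ega41Jac.exists_equations p hk hAk q 𝔭 (hq n) n.asIdeal (hmap n) hn
  -- one denominator
  obtain ⟨G, hG⟩ := (IsNoetherian.noetherian q : q.FG)
  have hmem : ∀ a : (G : Set A), ∃ s : 𝔭.primeCompl, (s : A) * a ∈ Ideal.span (Set.range f) := fun a => by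
    have h1 : algebraMap A (Localization.AtPrime 𝔭) a ∈
        (Ideal.span (Set.range f)).map (algebraMap A (Localization.AtPrime 𝔭)) := by
      rw [Ideal.map_span, ← Set.range_comp]
      exact hgen ▸ Ideal.mem_map_of_mem _ (hG ▸ Ideal.subset_span a.2)
    obtain ⟨⟨⟨b, hb⟩, s⟩, hs⟩ := (IsLocalization.mem_map_algebraMap_iff 𝔭.primeCompl (Localization.AtPrime 𝔭)).mp h1
    rw [← map_mul] at hs
    obtain ⟨c, hc⟩ := (IsLocalization.eq_iff_exists 𝔭.primeCompl (Localization.AtPrime 𝔭)).mp hs
    refine ⟨c * s, ?_⟩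
    rw [Submonoid.coe_mul, mul_assoc, mul_comm (s : A), hc]
    exact Ideal.mul_mem_left _ _ hb
  choose s hs using hmem
  let S : 𝔭.primeCompl := ∏ a : (G : Set A), s a
  have hS : ∀ a ∈ q, (S : A) * a ∈ Ideal.span (Set.range f) := by
    intro a ha
    rw [← hG] at ha
    induction ha using Submodule.span_induction with
    | mem x hx =>
      obtain ⟨c, hc⟩ := Finset.dvd_prod_of_mem s (Finset.mem_univ (⟨x, hx⟩ : (G : Set A)))
      rw [show (S : A) = (s ⟨x, hx⟩ : A) * c from congrArg Subtype.val hc, mul_right_comm]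
      exact Ideal.mul_mem_right _ _ (hs ⟨x, hx⟩)
    | zero => simp
    | add x y _ _ hx hy => rw [mul_add]; exact add_mem hx hy
    | smul r x _ hx => rw [smul_eq_mul, mul_left_comm]; exact Ideal.mul_mem_left _ _ hx
  let e : A := Matrix.det (Matrix.of fun i j => D i (f j)) * (S : A)
  refine ⟨PrimeSpectrum.basicOpen (Ideal.Quotient.mk q e), fun n' hn' => ?_,
    (PrimeSpectrum.basicOpen _).isOpen, ?_⟩
  · have he : e ∉ n'.asIdeal.comap (Ideal.Quotient.mk q) := hn'
    haveI : (n'.asIdeal.comap (Ideal.Quotient.mk q)).IsPrime := Ideal.comap_isPrime _ _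
    refine Groth.Ega41Jac.isAdicFormallySmooth_of_equations hAk q _ (hq n') n'.asIdeal (hmap n') D f ?_
      fun h => he (Ideal.mul_mem_right _ _ h)
    refine le_antisymm (Ideal.map_le_iff_le_comap.mpr fun a ha => ?_) (Ideal.span_le.mpr ?_)
    · rw [Ideal.mem_comap]
      have hu : IsUnit (algebraMap A (Localization.AtPrime (n'.asIdeal.comap (Ideal.Quotient.mk q))) (S : A)) :=
        IsLocalization.map_units _ (⟨(S : A), fun h => he (Ideal.mul_mem_left _ _ h)⟩ :
          (n'.asIdeal.comap (Ideal.Quotient.mk q)).primeCompl)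
      rw [← Ideal.unit_mul_mem_iff_mem _ hu, ← map_mul]
      have := Ideal.mem_map_of_mem (algebraMap A (Localization.AtPrime (n'.asIdeal.comap (Ideal.Quotient.mk q)))) (hS a ha)
      rwa [Ideal.map_span, ← Set.range_comp] at this
    · rintro _ ⟨i, rfl⟩
      exact Ideal.mem_map_of_mem _ (hf i)
  · show e ∉ 𝔭
    exact fun h => ((Ideal.IsPrime.mem_or_mem inferInstance h).elim hdet S.2)

end Groth.Agent.S4589
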