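import Groth.Statements.S4590
import Mathlib

set_option autoImplicit false
universe u
open CAlg

namespace Groth.Agent.S4590

open scoped TensorProduct

/-- Let A be a domain with fraction field K, B a faithfully flat A-algebra, C = B_red and R the total
ring of fractions of C. Then A → C is injective with nonzero elements going to non-zero-divisors, so
that K embeds in R, and an element of K is integral over C in R if and only if it is integral over
A. -/
theorem result {A B : Type u} [CommRing A] [IsDomain A]
    [CommRing B] [Algebra A B] [Module.FaithfullyFlat A B] :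
    Function.Injective (algebraMap A (B ⧸ nilradical B)) ∧
    (∀ a : A, a ≠ 0 → algebraMap A (B ⧸ nilradical B) a ∈ nonZeroDivisors (B ⧸ nilradical B)) ∧
    ∀ (R : Type u) [CommRing R] [Algebra (B ⧸ nilradical B) R] [IsFractionRing (B ⧸ nilradical B) R]
      [Algebra A R] [IsScalarTower A (B ⧸ nilradical B) R] [Algebra (FractionRing A) R]
      [IsScalarTower A (FractionRing A) R] (x : FractionRing A),
      IsIntegral (B ⧸ nilradical B) (algebraMap (FractionRing A) R x) ↔ IsIntegral A x := by
  have hone : ∀ (M : Type u) [AddCommGroup M] [Module A M] (m : M), (1 : B) ⊗ₜ[A] m = 0 → m = 0 :=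
    fun M _ _ m hm => Module.FaithfullyFlat.tensorProduct_mk_injective (A := A) (B := B) M (show TensorProduct.mk A B M 1 m = TensorProduct.mk A B M 1 0 by simpa using hm)
  have hreg : ∀ a : A, a ≠ 0 → ∀ b : B, algebraMap A B a * b = 0 → b = 0 := fun a ha b hb => by
    have h1 : IsSMulRegular A a := fun u v h => mul_left_cancel₀ ha (by simpa using h)
    have h2 := h1.of_flat (S := B)
    exact h2 (by simpa using hb)
  have hinj : Function.Injective (algebraMap A B) := (injective_iff_map_eq_zero _).2 fun a h => by
    refine hone A a ?_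
    refine (TensorProduct.rid A B).injective ?_
    simp [Algebra.smul_def, h]
  have hmk : ∀ a : A, algebraMap A (B ⧸ nilradical B) a = Ideal.Quotient.mk _ (algebraMap A B a) :=
    fun a => rfl
  refine ⟨(injective_iff_map_eq_zero _).2 fun a h => ?_, fun a ha => ?_, ?_⟩
  · rw [hmk, Ideal.Quotient.eq_zero_iff_mem, mem_nilradical] at h
    obtain ⟨n, hn⟩ := h
    rw [← map_pow] at hn
    have := hinj (hn.trans (map_zero _).symm)
    exact pow_eq_zero_iff'.1 this |>.1
  · rw [mem_nonZeroDivisors_iff_right]
    intro c hc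
    obtain ⟨c, rfl⟩ := Ideal.Quotient.mk_surjective c
    rw [hmk, ← map_mul, Ideal.Quotient.eq_zero_iff_mem, mem_nilradical] at hc
    obtain ⟨n, hn⟩ := hc
    rw [Ideal.Quotient.eq_zero_iff_mem, mem_nilradical]
    refine ⟨n, hreg (a ^ n) (pow_ne_zero n ha) _ ?_⟩
    rw [map_pow, ← mul_pow, mul_comm, hn]
  · intro R _ _ _ _ _ _ _ x
    refine ⟨fun hx => ?_, fun hx => ?_⟩
    · letI : Algebra B R := ((algebraMap (B ⧸ nilradical B) R).comp (Ideal.Quotient.mk _)).toAlgebra
      haveI : IsScalarTower A B R := IsScalarTower.of_algebraMap_eq fun a => by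
        show algebraMap A R a = algebraMap (B ⧸ nilradical B) R (Ideal.Quotient.mk _ (algebraMap A B a))
        rw [← hmk, ← IsScalarTower.algebraMap_apply]
      let K := FractionRing A
      let ρ : B ⊗[A] K →ₐ[B] R := Algebra.TensorProduct.lift (Algebra.ofId B R)
        (IsScalarTower.toAlgHom A K R) fun _ _ => mul_comm _ _
      have hρ : ∀ u v, ρ (u ⊗ₜ[A] v) = algebraMap B R u * algebraMap K R v := fun u v =>
        Algebra.TensorProduct.lift_tmul (Algebra.ofId B R) (IsScalarTower.toAlgHom A K R) (fun _ _ => mul_comm _ _) u v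
      have hnil : ∀ z : B ⊗[A] K, ρ z = 0 → IsNilpotent z := by
        intro z hz
        obtain ⟨s, hs, b, hb⟩ : ∃ s : A, s ≠ 0 ∧ ∃ b : B, s • z = b ⊗ₜ[A] (1 : K) := by
          clear hz
          induction z with
          | zero => exact ⟨1, one_ne_zero, 0, by simp⟩
          | tmul u v =>
            obtain ⟨⟨r, t⟩, h⟩ := IsLocalization.surj (nonZeroDivisors A) v
            refine ⟨t, nonZeroDivisors.coe_ne_zero t, r • u, ?_⟩
            rw [← TensorProduct.tmul_smul, TensorProduct.smul_tmul, Algebra.smul_def, Algebra.smul_def,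
              mul_comm, h, mul_one]
          | add a b h1 h2 =>
            obtain ⟨t1, ht1, x1, e1⟩ := h1; obtain ⟨t2, ht2, x2, e2⟩ := h2
            refine ⟨t2 * t1, mul_ne_zero ht2 ht1, t2 • x1 + t1 • x2, ?_⟩
            rw [smul_add, mul_smul, e1, mul_comm, mul_smul, e2, TensorProduct.add_tmul]
            simp [TensorProduct.smul_tmul']
        have hb0 : algebraMap (B ⧸ nilradical B) R (Ideal.Quotient.mk _ b) = 0 := by
          have h0 := congrArg ρ hb
          rw [show ρ (s • z) = s • ρ z from map_smul (ρ.restrictScalars A) s z, hz, smul_zero] at h0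
          rw [hρ, map_one, mul_one] at h0
          exact h0.symm
        rw [← map_zero (algebraMap (B ⧸ nilradical B) R)] at hb0
        have hbn := IsFractionRing.injective (B ⧸ nilradical B) R hb0
        rw [Ideal.Quotient.eq_zero_iff_mem, mem_nilradical] at hbn
        have hsz : IsNilpotent (s • z) := by
          rw [hb]; exact hbn.map (Algebra.TensorProduct.includeLeft : B →ₐ[B] B ⊗[A] K)
        obtain ⟨n, hn⟩ := hsz
        refine ⟨n, ?_⟩
        rw [smul_pow] at hn
        have hu : IsUnit (algebraMap A (B ⊗[A] K) (s ^ n)) := by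
          rw [show algebraMap A (B ⊗[A] K) (s ^ n) =
            (Algebra.TensorProduct.includeRight : K →ₐ[A] B ⊗[A] K) (algebraMap A K (s ^ n)) from (AlgHom.commutes _ _).symm]
          refine IsUnit.map _ ?_
          exact IsLocalization.map_units K (⟨s ^ n, mem_nonZeroDivisors_of_ne_zero (pow_ne_zero n hs)⟩ : nonZeroDivisors A)
        exact (IsUnit.mul_right_eq_zero hu).1 ((Algebra.smul_def (s ^ n) (z ^ n)).symm.trans hn)
      obtain ⟨q, hq, hq0⟩ := hx
      obtain ⟨q', rfl⟩ : ∃ q' : Polynomial B, q'.map (Ideal.Quotient.mk _) = q :=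
        Polynomial.map_surjective _ Ideal.Quotient.mk_surjective q
      haveI : Nontrivial B := hinj.nontrivial
      haveI : Nontrivial (B ⧸ nilradical B) := Ideal.Quotient.nontrivial_iff.2 (by
        rw [Ideal.ne_top_iff_one, mem_nilradical]
        rintro ⟨k, hk⟩; simp at hk)
      obtain ⟨q'', hq'', -, hqm⟩ := Polynomial.lifts_and_degree_eq_and_monic
        (f := Ideal.Quotient.mk (nilradical B)) ((Polynomial.mem_lifts _).2 ⟨q', rfl⟩) hq
      have h0 : ρ (Polynomial.aeval ((1 : B) ⊗ₜ[A] x) q'') = 0 := by
        rw [← Polynomial.aeval_algHom_apply]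
        have hρx : ρ ((1 : B) ⊗ₜ[A] x) = algebraMap K R x := by rw [hρ, map_one, one_mul]
        rw [hρx, Polynomial.aeval_def, ← hq0, ← hq'', Polynomial.eval₂_map]
        rfl
      obtain ⟨N, hN⟩ := hnil _ h0
      let P := q'' ^ N
      have hP : P.Monic := hqm.pow N
      have hP0 : Polynomial.aeval ((1 : B) ⊗ₜ[A] x) P = 0 := by rw [map_pow, hN]
      let d := P.natDegree
      let N' : Submodule A K := Submodule.span A (Set.range fun j : Fin d => x ^ (j : ℕ))
      have hxd : x ^ d ∈ N' := by
        have key : (1 : B) ⊗ₜ[A] (N'.mkQ (x ^ d)) = 0 := by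
          rw [hP.as_sum, map_add, map_sum] at hP0
          simp only [map_mul, map_pow, Polynomial.aeval_X, Polynomial.aeval_C,
            Algebra.TensorProduct.tmul_pow, one_pow] at hP0
          have h' := congrArg (N'.mkQ.lTensor B) hP0
          rw [map_add, map_sum, map_zero, LinearMap.lTensor_tmul, Finset.sum_eq_zero, add_zero] at h'
          · exact h'
          · intro j hj
            rw [Algebra.TensorProduct.algebraMap_apply, Algebra.TensorProduct.tmul_mul_tmul,
              Algebra.algebraMap_self, RingHom.id_apply, one_mul, mul_one, LinearMap.lTensor_tmul,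
              Submodule.mkQ_apply, (Submodule.Quotient.mk_eq_zero N').2, TensorProduct.tmul_zero]
            exact Submodule.subset_span ⟨⟨j, Finset.mem_range.1 hj⟩, rfl⟩
        exact (Submodule.Quotient.mk_eq_zero N').1 (hone _ _ key)
      obtain ⟨c, hc⟩ := (Submodule.mem_span_range_iff_exists_fun A).1 hxd
      refine ⟨Polynomial.X ^ d - ∑ j : Fin d, Polynomial.C (c j) * Polynomial.X ^ (j : ℕ),
        Polynomial.monic_X_pow_sub (Polynomial.degree_sum_fin_lt c), ?_⟩
      rw [← Polynomial.aeval_def, map_sub, map_sum, map_pow, Polynomial.aeval_X]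
      simp only [map_mul, map_pow, Polynomial.aeval_X, Polynomial.aeval_C, ← Algebra.smul_def, hc, sub_self]
    · exact (hx.map (IsScalarTower.toAlgHom A (FractionRing A) R)).tower_top

end Groth.Agent.S4590
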