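import Groth.Statements.S4591
import Groth.Agent.Limits.ProConsImage

set_option autoImplicit false
universe u
open AlgebraicGeometry
open EGA41

namespace Groth.Agent.S4591

/-- Let X be a quasi-compact scheme, F a pro-constructible subset and (E_i) a family of
ind-constructible subsets covering F. Then some finite subfamily covers F. -/
theorem result (X : Scheme.{u}) [CompactSpace X]
    (F : Set X) (hF : ProCons.IsProConstructible F) {ι : Type u} (E : ι → Set X)
    (hE : ∀ i, ProCons.IsIndConstructible (E i)) (h : F ⊆ ⋃ i, E i) :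
    ∃ J : Finset ι, F ⊆ ⋃ i ∈ J, E i := by
  classical
  by_contra! hne
  have hne' : ∀ J : Finset ι, (F ∩ ⋂ i ∈ J, (E i)ᶜ).Nonempty := fun J => by
    obtain ⟨x, hx, hxn⟩ := Set.not_subset.mp (hne J)
    exact ⟨x, hx, Set.mem_iInter₂.mpr fun i hi hxi => hxn (Set.mem_iUnion₂.mpr ⟨i, hi, hxi⟩)⟩
  have hpc : ∀ J : Finset ι, Groth.Limits.PC (F ∩ ⋂ i ∈ J, (E i)ᶜ) := fun J => by
    induction J using Finset.induction with
    | empty => simpa using Groth.Limits.pc_of_isProConstructible hF
    | insert i J _ ih =>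
      rw [Finset.set_biInter_insert, Set.inter_left_comm]
      exact (Groth.Limits.pc_compl_of_isIndConstructible (hE i)).inter ih
  obtain ⟨x, hx⟩ := Groth.Limits.nonempty_iInter_of_directed (fun J : Finset ι => F ∩ ⋂ i ∈ J, (E i)ᶜ) hpc
    (fun J K => ⟨J ∪ K, fun x hx => ⟨hx.1, Set.mem_iInter₂.mpr fun i hi =>
        Set.mem_iInter₂.mp hx.2 i (Finset.mem_union_left _ hi)⟩,
      fun x hx => ⟨hx.1, Set.mem_iInter₂.mpr fun i hi =>
        Set.mem_iInter₂.mp hx.2 i (Finset.mem_union_right _ hi)⟩⟩) hne'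
  rw [Set.mem_iInter] at hx
  obtain ⟨i, hi⟩ := Set.mem_iUnion.mp (h (hx ∅).1)
  exact Set.mem_iInter₂.mp (hx {i}).2 i (Finset.mem_singleton_self i) hi

end Groth.Agent.S4591
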