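import Groth.Statements.S4593
import Mathlib.RingTheory.Spectrum.Prime.RingHom
import Mathlib.CategoryTheory.Limits.ConcreteCategory.Filtered
import Mathlib.Algebra.Category.Ring.FilteredColimits

set_option autoImplicit false
universe u
open CategoryTheory CategoryTheory.Limits AlgebraicGeometry
open EGA41

namespace Groth.Agent.S4593

/-- Let B be a ring, (A_i) a filtered system of B-algebras with colimit A. The image of Spec A in Spec B
is the intersection of the images of the Spec A_i. -/
theorem result {I : Type u} [SmallCategory I] [IsFiltered I]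
    (B : CommRingCat.{u}) (D : I ⥤ CommRingCat.{u}) (s : (Functor.const I).obj B ⟶ D) (c : Cocone D)
    (hc : IsColimit c) (i₀ : I) :
    Set.range (Spec.map (s.app i₀ ≫ c.ι.app i₀)).base = ⋂ i : I, Set.range (Spec.map (s.app i)).base := by
  have hnat : ∀ {i j : I} (u : i ⟶ j) (b : B), (D.map u).hom ((s.app i).hom b) = (s.app j).hom b :=
    fun {i j} u b => (congr($(s.naturality u) b)).symm
  have hcoc : ∀ {i j : I} (u : i ⟶ j) (a : D.obj i), (c.ι.app j).hom ((D.map u).hom a) = (c.ι.app i).hom a :=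
    fun u a => congr($(c.w u) a)
  have hconn : ∀ (i : I) (b : B), (c.ι.app i).hom ((s.app i).hom b) = (c.ι.app i₀).hom ((s.app i₀).hom b) := by
    intro i b
    rw [← hcoc (IsFiltered.leftToMax i i₀), hnat, ← hcoc (IsFiltered.rightToMax i i₀) ((s.app i₀).hom b), hnat]
  have hmap : ∀ {p : Ideal B} {i j : I} (u : i ⟶ j) (a : D.obj i), a ∈ p.map (s.app i).hom →
      (D.map u).hom a ∈ p.map (s.app j).hom := by
    intro p i j u a ha
    have h := Ideal.mem_map_of_mem (D.map u).hom ha
    have hcomp : (D.map u).hom.comp (s.app i).hom = (s.app j).hom := RingHom.ext (hnat u)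
    exact hcomp ▸ Ideal.map_map (I := p) (s.app i).hom (D.map u).hom ▸ h
  apply Set.Subset.antisymm
  · rintro p ⟨q, rfl⟩
    refine Set.mem_iInter.mpr fun i => ⟨(Spec.map (c.ι.app i)).base q, ?_⟩
    refine PrimeSpectrum.ext (Ideal.ext fun b => ?_)
    show (c.ι.app i).hom ((s.app i).hom b) ∈ q.asIdeal ↔ (c.ι.app i₀).hom ((s.app i₀).hom b) ∈ q.asIdeal
    rw [hconn]
  · intro p hp
    refine (PrimeSpectrum.mem_range_comap_iff (p := (p : PrimeSpectrum B))
      (f := (s.app i₀ ≫ c.ι.app i₀).hom)).mpr ?_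
    refine le_antisymm (fun b hb => ?_) Ideal.le_comap_map
    have key : ∀ a ∈ p.asIdeal.map (s.app i₀ ≫ c.ι.app i₀).hom,
        ∃ (i : I) (a' : D.obj i), a' ∈ p.asIdeal.map (s.app i).hom ∧ (c.ι.app i).hom a' = a := by
      intro a ha
      refine Submodule.span_induction ?_ ?_ ?_ ?_ ha
      · rintro _ ⟨b', hb', rfl⟩
        exact ⟨i₀, _, Ideal.mem_map_of_mem _ hb', rfl⟩
      · exact ⟨i₀, 0, zero_mem _, map_zero _⟩
      · rintro _ _ - - ⟨i, a, ha, rfl⟩ ⟨j, a', ha', rfl⟩
        exact ⟨IsFiltered.max i j,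
          (D.map (IsFiltered.leftToMax i j)).hom a + (D.map (IsFiltered.rightToMax i j)).hom a',
          add_mem (hmap _ _ ha) (hmap _ _ ha'), by rw [map_add, hcoc, hcoc]⟩
      · rintro r _ - ⟨i, a, ha, rfl⟩
        obtain ⟨j, r', rfl⟩ := Limits.Concrete.isColimit_exists_rep D hc r
        refine ⟨IsFiltered.max i j,
          (D.map (IsFiltered.rightToMax i j)).hom r' * (D.map (IsFiltered.leftToMax i j)).hom a,
          Ideal.mul_mem_left _ _ (hmap _ _ ha), ?_⟩
        rw [map_mul, hcoc, hcoc, smul_eq_mul]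
    obtain ⟨i, a', ha', hab⟩ := key _ (Ideal.mem_comap.mp hb)
    have heq : (c.ι.app i).hom a' = (c.ι.app i).hom ((s.app i).hom b) := by
      rw [hab, hconn]; rfl
    obtain ⟨k, u, hk⟩ := (Limits.IsColimit.eq_iff' hc _ _).mp heq
    change (D.map u).hom a' = (D.map u).hom ((s.app i).hom b) at hk
    have hb' : (s.app k).hom b ∈ p.asIdeal.map (s.app k).hom := by
      rw [← hnat u b, ← hk]
      exact hmap u a' ha'
    have hpk := (PrimeSpectrum.mem_range_comap_iff (p := (p : PrimeSpectrum B)) (f := (s.app k).hom)).mp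
      (Set.mem_iInter.mp hp k)
    exact hpk ▸ Ideal.mem_comap.mpr hb'

end Groth.Agent.S4593
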