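import Groth.Statements.S4594
import Mathlib.LinearAlgebra.TensorProduct.Quotient

set_option autoImplicit false
universe u
open TensorProduct KaehlerDifferential
open EGA41

namespace Groth.Agent.S4594

theorem ker_le {Λ A C : Type u} [CommRing Λ] [CommRing A]
    [CommRing C] [Algebra Λ A] [Algebra A C] [Algebra Λ C] [IsScalarTower Λ A C]
    (hsurj : Function.Surjective (algebraMap A C)) (p : ℕ)
    [Algebra (Λ ⧸ Ideal.span {(p : Λ)}) C] [IsScalarTower Λ (Λ ⧸ Ideal.span {(p : Λ)}) C]
    [Algebra.FormallySmooth (Λ ⧸ Ideal.span {(p : Λ)}) C]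
    (hp : (p : A) ∈ RingHom.ker (algebraMap A C)) (x : A) (hxJ : x ∈ RingHom.ker (algebraMap A C))
    (hx : (1 : C) ⊗ₜ[A] KaehlerDifferential.D Λ A x = 0) :
    x ∈ RingHom.ker (algebraMap A C) ^ 2 ⊔ Ideal.span {(p : A)} := by
  set J := RingHom.ker (algebraMap A C) with hJ
  set N := J ^ 2 ⊔ Ideal.span {(p : A)} with hN
  have hNJ : N ≤ J := sup_le (Ideal.pow_le_self two_ne_zero) ((Ideal.span_singleton_le_iff_mem _).mpr hp)
  letI : Algebra (Λ ⧸ Ideal.span {(p : Λ)}) (A ⧸ N) :=
    (Ideal.Quotient.lift (Ideal.span {(p : Λ)}) (algebraMap Λ (A ⧸ N)) fun a ha => by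
      obtain ⟨b, rfl⟩ := Ideal.mem_span_singleton.mp ha
      rw [map_mul, map_natCast, show ((p : ℕ) : A ⧸ N) = Ideal.Quotient.mk N (p : A) from (map_natCast _ p).symm,
        Ideal.Quotient.eq_zero_iff_mem.mpr (Ideal.mem_sup_right (Ideal.mem_span_singleton_self _)), zero_mul]).toAlgebra
  let q : (A ⧸ N) →ₐ[Λ ⧸ Ideal.span {(p : Λ)}] C :=
    { Ideal.Quotient.lift N (algebraMap A C) hNJ with
      commutes' := fun r => by
        obtain ⟨r, rfl⟩ := Ideal.Quotient.mk_surjective r
        show algebraMap A C (algebraMap Λ A r) = algebraMap (Λ ⧸ Ideal.span {(p : Λ)}) C (algebraMap Λ _ r)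
        rw [← IsScalarTower.algebraMap_apply, ← IsScalarTower.algebraMap_apply] }
  have hq : Function.Surjective q := fun c => by
    obtain ⟨a, rfl⟩ := hsurj c
    exact ⟨Ideal.Quotient.mk N a, rfl⟩
  have hkerq : RingHom.ker (q : (A ⧸ N) →+* C) = J.map (Ideal.Quotient.mk N) := by
    refine le_antisymm (fun y hy => ?_) (Ideal.map_le_iff_le_comap.mpr fun a ha => ha)
    obtain ⟨a, rfl⟩ := Ideal.Quotient.mk_surjective y
    exact Ideal.mem_map_of_mem _ hy
  have hnil : IsNilpotent (RingHom.ker (q : (A ⧸ N) →+* C)) := ⟨2, by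
    rw [hkerq, ← Ideal.map_pow, Submodule.zero_eq_bot, Ideal.map_eq_bot_iff_le_ker, Ideal.mk_ker]
    exact le_sup_left⟩
  let σ := Algebra.FormallySmooth.liftOfSurjective (AlgHom.id (Λ ⧸ Ideal.span {(p : Λ)}) C) q hq hnil
  have hσ : ∀ c, q (σ c) = c := fun c =>
    Algebra.FormallySmooth.liftOfSurjective_apply (AlgHom.id (Λ ⧸ Ideal.span {(p : Λ)}) C) q hq hnil c
  let δ : A → A ⧸ N := fun a => Ideal.Quotient.mk N a - σ (algebraMap A C a)
  have hδJ : ∀ a, δ a ∈ J.map (Ideal.Quotient.mk N) := fun a => by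
    rw [← hkerq, RingHom.mem_ker]
    show q (δ a) = 0
    rw [map_sub, hσ]
    exact sub_self _
  have hsq : ∀ u v, u ∈ J.map (Ideal.Quotient.mk N) → v ∈ J.map (Ideal.Quotient.mk N) → u * v = 0 := by
    intro u v hu hv
    have h := Ideal.mul_mem_mul hu hv
    rwa [← Ideal.map_mul, ← pow_two, show (J ^ 2).map (Ideal.Quotient.mk N) = ⊥ from by
      rw [Ideal.map_eq_bot_iff_le_ker, Ideal.mk_ker]; exact le_sup_left, Submodule.mem_bot] at h
  have hσΛ : ∀ r : Λ, σ (algebraMap Λ C r) = algebraMap Λ (A ⧸ N) r := fun r => by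
    rw [IsScalarTower.algebraMap_apply Λ (Λ ⧸ Ideal.span {(p : Λ)}) C, AlgHom.commutes]
    rfl
  let D' : Derivation Λ A (A ⧸ N) := Derivation.mk'
    { toFun := δ
      map_add' := fun a b => by simp only [δ, map_add]; ring
      map_smul' := fun r a => by
        show Ideal.Quotient.mk N (r • a) - σ (algebraMap A C (r • a)) = r • (Ideal.Quotient.mk N a - σ (algebraMap A C a))
        rw [Algebra.smul_def, Algebra.smul_def, map_mul, map_mul, map_mul, ← IsScalarTower.algebraMap_apply, hσΛ,
          show Ideal.Quotient.mk N (algebraMap Λ A r) = algebraMap Λ (A ⧸ N) r from rfl]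
        ring }
    fun a b => by
      show δ (a * b) = a • δ b + b • δ a
      have h := hsq _ _ (hδJ a) (hδJ b)
      simp only [Algebra.smul_def, Ideal.Quotient.algebraMap_eq, δ, map_mul] at h ⊢
      linear_combination (-1 : A ⧸ N) * h
  let φ := D'.liftKaehlerDifferential
  have hrange : ∀ w, φ w ∈ (J.map (Ideal.Quotient.mk N)).restrictScalars A := fun w => by
    have h : w ∈ Submodule.span A (Set.range (KaehlerDifferential.D Λ A)) := by
      rw [KaehlerDifferential.span_range_derivation]; exact Submodule.mem_top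
    refine Submodule.span_induction ?_ ?_ ?_ ?_ h
    · rintro _ ⟨a, rfl⟩
      rw [Derivation.liftKaehlerDifferential_comp_D]
      exact hδJ a
    · rw [map_zero]; exact zero_mem _
    · intro a b _ _ ha hb; rw [map_add]; exact add_mem ha hb
    · intro r a _ ha; rw [map_smul]; exact Submodule.smul_mem _ r ha
  have hkill : ∀ w ∈ J • (⊤ : Submodule A (Ω[A⁄Λ])), φ w = 0 := by
    intro w hw
    refine Submodule.smul_induction_on hw (fun r hr n _ => ?_) fun a b ha hb => by rw [map_add, ha, hb, add_zero]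
    rw [map_smul, Algebra.smul_def]
    exact hsq _ _ (Ideal.mem_map_of_mem _ hr) (hrange n)
  have hmem : KaehlerDifferential.D Λ A x ∈ J • (⊤ : Submodule A (Ω[A⁄Λ])) := by
    rw [← Submodule.Quotient.mk_eq_zero]
    let e : (A ⧸ J) ≃ₗ[A] C := (Submodule.quotEquivOfEq _ _ (by ext a; rfl)).trans
      (LinearMap.quotKerEquivOfSurjective (Algebra.linearMap A C) hsurj)
    have h := congrArg (fun z => TensorProduct.quotTensorEquivQuotSMul (Ω[A⁄Λ]) J
      (LinearMap.rTensor (Ω[A⁄Λ]) e.symm.toLinearMap z)) hx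
    simp only [map_zero, LinearMap.rTensor_tmul] at h
    have he : e.symm.toLinearMap (1 : C) = Ideal.Quotient.mk J 1 := by
      show e.symm 1 = _
      rw [LinearEquiv.symm_apply_eq]
      exact (map_one (algebraMap A C)).symm
    rw [he, TensorProduct.quotTensorEquivQuotSMul_mk_tmul, one_smul] at h
    exact h
  have h0 := hkill _ hmem
  rw [Derivation.liftKaehlerDifferential_comp_D] at h0
  have hx0 : δ x = 0 := h0
  simp only [δ, RingHom.mem_ker.mp hxJ, map_zero, sub_zero] at hx0
  exact Ideal.Quotient.eq_zero_iff_mem.mp hx0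


/-- Let Λ be a ring, A → C a surjection of Λ-algebras with kernel J, C of characteristic p > 0, and π
the class of p·1 in J/J². If C is formally smooth over Λ/pΛ for the discrete topologies, then 0 →
(J/J²)/Cπ → Ω_{A/Λ} ⊗_A C → Ω_{C/Λ} → 0 is exact: the kernel of the conormal map J/J² → Ω_{A/Λ} ⊗_A
C is the span of π, and the base-change map to Ω_{C/Λ} is surjective with kernel the image of J/J². -/
theorem result {Λ A C : Type u} [CommRing Λ] [CommRing A]
    [CommRing C] [Algebra Λ A] [Algebra A C] [Algebra Λ C] [IsScalarTower Λ A C]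
    (hsurj : Function.Surjective (algebraMap A C)) (p : ℕ) [Fact p.Prime] [CharP C p]
    [Algebra (Λ ⧸ Ideal.span {(p : Λ)}) C] [IsScalarTower Λ (Λ ⧸ Ideal.span {(p : Λ)}) C]
    [Algebra.FormallySmooth (Λ ⧸ Ideal.span {(p : Λ)}) C]
    (hp : (p : A) ∈ RingHom.ker (algebraMap A C)) :
    LinearMap.ker (kerCotangentToTensor Λ A C) =
        Submodule.span A {(RingHom.ker (algebraMap A C)).toCotangent ⟨(p : A), hp⟩} ∧
      LinearMap.range (kerCotangentToTensor Λ A C) = (LinearMap.ker (mapBaseChange Λ A C)).restrictScalars A ∧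
      Function.Surjective (mapBaseChange Λ A C) := by
  refine ⟨le_antisymm ?_ ?_, range_kerCotangentToTensor Λ A C hsurj, mapBaseChange_surjective Λ A C hsurj⟩
  · intro y hy
    obtain ⟨x, rfl⟩ := (RingHom.ker (algebraMap A C)).toCotangent_surjective y
    rw [LinearMap.mem_ker, kerCotangentToTensor_toCotangent] at hy
    have h := ker_le hsurj p hp x.1 x.2 hy
    obtain ⟨s, hs, t, ht, hst⟩ := Submodule.mem_sup.mp h
    obtain ⟨c, rfl⟩ := Ideal.mem_span_singleton'.mp ht
    refine Submodule.mem_span_singleton.mpr ⟨c, ?_⟩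
    rw [← map_smul, Ideal.toCotangent_eq]
    have : ((c • (⟨(p : A), hp⟩ : RingHom.ker (algebraMap A C)) : RingHom.ker (algebraMap A C)) : A) - x.1 = -s := by
      show c * (p : A) - x.1 = -s; rw [← hst]; ring
    rw [this]
    exact neg_mem hs
  · rw [Submodule.span_singleton_le_iff_mem, LinearMap.mem_ker, kerCotangentToTensor_toCotangent,
      Derivation.map_natCast, TensorProduct.tmul_zero]

end Groth.Agent.S4594
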