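import Groth.Statements.S4598
import Mathlib.AlgebraicGeometry.Morphisms.QuasiSeparated
import Mathlib.AlgebraicGeometry.PullbackCarrier
import Mathlib.CategoryTheory.MorphismProperty.Descent

set_option autoImplicit false
universe u
open AlgebraicGeometry CategoryTheory CategoryTheory.Limits
open EGA41

namespace Groth.Agent.S4598

open CategoryTheory CategoryTheory.Limits AlgebraicGeometry in
theorem descendsAlong_quasiCompact :
    MorphismProperty.DescendsAlong @QuasiCompact.{u} (@Surjective.{u} ⊓ @QuasiCompact.{u}) := by
  refine MorphismProperty.DescendsAlong.mk' fun {X Y Z f g} _ hf hfst => ?_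
  obtain ⟨hs, hq⟩ := hf
  haveI : Surjective f := hs
  haveI : QuasiCompact f := hq
  haveI : QuasiCompact (pullback.fst f g) := hfst
  rw [quasiCompact_iff]
  intro U hU hUc
  have h1 : IsCompact ((f ≫ 𝟙 Z) ⁻¹' U) := by
    rw [Category.comp_id]
    exact QuasiCompact.isCompact_preimage U hU hUc
  rw [Category.comp_id] at h1
  have h2 : IsCompact ((pullback.fst f g) ⁻¹' (f ⁻¹' U)) :=
    QuasiCompact.isCompact_preimage _ (hU.preimage f.continuous) h1
  have h3 : g ⁻¹' U = (pullback.snd f g) '' ((pullback.fst f g) ⁻¹' (f ⁻¹' U)) := by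
    ext y
    constructor
    · intro hy
      obtain ⟨x, rfl⟩ := (inferInstance : Surjective (pullback.snd f g)).surj y
      refine ⟨x, ?_, rfl⟩
      show f (pullback.fst f g x) ∈ U
      rw [← Scheme.Hom.comp_apply, pullback.condition, Scheme.Hom.comp_apply]
      exact hy
    · rintro ⟨x, hx, rfl⟩
      show g (pullback.snd f g x) ∈ U
      rw [← Scheme.Hom.comp_apply, ← pullback.condition, Scheme.Hom.comp_apply]
      exact hx
  rw [h3]
  exact h2.image (pullback.snd f g).continuous


/-- If g : Y' → Y is quasi-compact and surjective and the base change X ×_Y Y' → Y' of f : X → Y is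
quasi-separated, then f is quasi-separated. -/
theorem result {X Y Y' : Scheme.{u}} (f : X ⟶ Y)
    (g : Y' ⟶ Y) [QuasiCompact g] [Surjective g] [QuasiSeparated (pullback.snd f g)] :
    QuasiSeparated f := by
  haveI := descendsAlong_quasiCompact.{u}
  haveI : MorphismProperty.IsStableUnderBaseChange (@Surjective.{u} ⊓ @QuasiCompact.{u}) := inferInstance
  have h : (MorphismProperty.diagonal @QuasiCompact.{u}) f :=
    MorphismProperty.of_pullback_snd_of_descendsAlong (P := MorphismProperty.diagonal @QuasiCompact.{u})
      (Q := @Surjective.{u} ⊓ @QuasiCompact.{u}) (f := f) (g := g) ⟨inferInstance, inferInstance⟩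
      (by rw [← quasiSeparated_eq_diagonal_is_quasiCompact]; infer_instance)
  rwa [← quasiSeparated_eq_diagonal_is_quasiCompact] at h

end Groth.Agent.S4598
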