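import Groth.Statements.S4600
import Mathlib.RingTheory.Extension.Presentation.Core
import Mathlib.Algebra.Category.Ring.FilteredColimits
import Mathlib.CategoryTheory.Limits.Types.Filtered

set_option autoImplicit false
universe u
open CategoryTheory CategoryTheory.Limits TensorProduct
open EGA41

namespace Groth.Agent.S4600

/-- Let (A_i) be a filtered system of rings with colimit A and B a finitely presented A-algebra. Then
some stage A_i carries a finitely presented algebra B_i with B isomorphic to A ⊗_{A_i} B_i as
A-algebras (existence of an isomorphism; the base change is along the colimit map A_i → A). -/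
theorem result {I : Type u} [SmallCategory I] [IsFiltered I]
    (D : I ⥤ CommRingCat.{u}) (c : Cocone D) (hc : IsColimit c) (B : Type u) [CommRing B] [Algebra c.pt B]
    [Algebra.FinitePresentation c.pt B] :
    ∃ (i : I) (Bi : Type u) (_ : CommRing Bi) (_ : Algebra (D.obj i) Bi),
      Algebra.FinitePresentation (D.obj i) Bi ∧
      (letI : Algebra (D.obj i) c.pt := (c.ι.app i).hom.toAlgebra
       Nonempty (B ≃ₐ[c.pt] (c.pt ⊗[D.obj i] Bi))) := by
  classical
  let P := Algebra.Presentation.ofFinitePresentation c.pt B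
  obtain ⟨s, hs⟩ : ∃ s : Finset c.pt, (s : Set c.pt) = P.coeffs :=
    ⟨P.finite_coeffs.toFinset, P.finite_coeffs.coe_toFinset⟩
  have hstage : ∀ t : Finset c.pt, ∃ i : I, ∀ x ∈ t, x ∈ Set.range (c.ι.app i).hom := by
    intro t
    induction t using Finset.induction_on with
    | empty => exact ⟨(IsFiltered.nonempty (C := I)).some, by simp⟩
    | insert a t hat ih =>
      obtain ⟨i, hi⟩ := ih
      obtain ⟨k, y, hy⟩ := Types.jointly_surjective _ (isColimitOfPreserves (forget CommRingCat) hc) a
      refine ⟨IsFiltered.max i k, fun x hx => ?_⟩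
      have hw : ∀ {a b : I} (g : a ⟶ b) (z : D.obj a), (c.ι.app b).hom ((D.map g).hom z) = (c.ι.app a).hom z :=
        fun g z => by rw [← c.w g]; rfl
      rcases Finset.mem_insert.mp hx with rfl | hx
      · exact ⟨(D.map (IsFiltered.rightToMax i k)).hom y, (hw (IsFiltered.rightToMax i k) y).trans hy⟩
      · obtain ⟨z, hz⟩ := hi x hx
        exact ⟨(D.map (IsFiltered.leftToMax i k)).hom z, (hw (IsFiltered.leftToMax i k) z).trans hz⟩
  obtain ⟨i, hi⟩ := hstage s
  letI : Algebra (D.obj i) c.pt := (c.ι.app i).hom.toAlgebra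
  letI : Algebra (D.obj i) B := ((algebraMap c.pt B).comp (c.ι.app i).hom).toAlgebra
  haveI : IsScalarTower (D.obj i) c.pt B := IsScalarTower.of_algebraMap_eq fun _ => rfl
  haveI : P.HasCoeffs (D.obj i) := ⟨fun x hx => hi x (by rw [← Finset.mem_coe, hs]; exact hx)⟩
  exact ⟨i, P.ModelOfHasCoeffs (D.obj i), inferInstance, inferInstance, inferInstance,
    ⟨(P.tensorModelOfHasCoeffsEquiv (D.obj i)).symm⟩⟩

end Groth.Agent.S4600
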