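import Groth.Statements.S4601
import Mathlib.RingTheory.Flat.Stability
import Mathlib.LinearAlgebra.Basis.VectorSpace
import Mathlib.RingTheory.Flat.Localization
import Mathlib.RingTheory.Localization.FractionRing
import Mathlib.LinearAlgebra.TensorProduct.RightExactness

set_option autoImplicit false
universe u
open TensorProduct
open CAlg

namespace Groth.Agent.S4601

/-- Let A be a domain with fraction field K, B a Noetherian A-algebra which is flat over A, K' an
extension field of K, B₁ = B_red and R its total ring of fractions. For every sub-A-algebra A' of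
K', the map (A' ⊗_A B)_red → (K' ⊗_A R)_red is injective, i.e. an element of A' ⊗_A B with nilpotent
image in K' ⊗_A R is nilpotent. -/
theorem result {A B K' R : Type u} [CommRing A]
    [IsDomain A] [CommRing B] [Algebra A B] [IsNoetherianRing B] [Module.Flat A B]
    [Field K'] [Algebra A K'] [Algebra (FractionRing A) K'] [IsScalarTower A (FractionRing A) K']
    [CommRing R] [Algebra (B ⧸ nilradical B) R] [IsFractionRing (B ⧸ nilradical B) R]
    [Algebra B R] [IsScalarTower B (B ⧸ nilradical B) R] [Algebra A R] [IsScalarTower A B R]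
    (A' : Subalgebra A K') (x : ↥A' ⊗[A] B)
    (hx : IsNilpotent (Algebra.TensorProduct.map A'.val (IsScalarTower.toAlgHom A B R) x)) :
    IsNilpotent x := by
  have hcomm : IsScalarTower A (B ⧸ nilradical B) R := IsScalarTower.of_algebraMap_eq fun a => by
    rw [IsScalarTower.algebraMap_apply A B R, IsScalarTower.algebraMap_apply B (B ⧸ nilradical B) R,
      ← IsScalarTower.algebraMap_apply A B (B ⧸ nilradical B)]
  let g := IsScalarTower.toAlgHom A (B ⧸ nilradical B) R
  let q := Ideal.Quotient.mkₐ A (nilradical B)
  have : Module.Flat A (FractionRing A) := IsLocalization.flat (FractionRing A) (nonZeroDivisors A)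
  have : Module.Flat A K' := Module.Flat.trans A (FractionRing A) K'
  let θ : ↥A' ⊗[A] B →ₐ[A] K' ⊗[A] B := Algebra.TensorProduct.map A'.val (AlgHom.id A B)
  have hθ : Function.Injective θ :=
    Module.Flat.rTensor_preserves_injective_linearMap (M := B) A'.val.toLinearMap Subtype.val_injective
  let ψ : K' ⊗[A] B →ₐ[A] K' ⊗[A] (B ⧸ nilradical B) := Algebra.TensorProduct.map (AlgHom.id A K') q
  let χ : K' ⊗[A] (B ⧸ nilradical B) →ₐ[A] K' ⊗[A] R := Algebra.TensorProduct.map (AlgHom.id A K') g
  have hχ : Function.Injective χ :=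
    Module.Flat.lTensor_preserves_injective_linearMap (M := K') g.toLinearMap
      (IsFractionRing.injective (B ⧸ nilradical B) R)
  have he : Algebra.TensorProduct.map A'.val (IsScalarTower.toAlgHom A B R) = χ.comp (ψ.comp θ) := by
    ext b
    · simp [χ, ψ, θ, g, q]
    · simp [χ, ψ, θ, g, q, IsScalarTower.algebraMap_apply B (B ⧸ nilradical B) R]
  rw [he, AlgHom.comp_apply, IsNilpotent.map_iff hχ] at hx
  obtain ⟨n, hn⟩ := hx
  rw [AlgHom.comp_apply, ← map_pow] at hn
  have hle : RingHom.ker ψ ≤ nilradical (K' ⊗[A] B) := by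
    rw [show RingHom.ker ψ = _ from Algebra.TensorProduct.lTensor_ker q (Ideal.Quotient.mkₐ_surjective A _),
      Ideal.map_le_iff_le_comap]
    intro b hb
    have hb' : b ∈ nilradical B := Ideal.Quotient.eq_zero_iff_mem.1 hb
    exact (mem_nilradical.1 hb').map _
  obtain ⟨m, hm⟩ := mem_nilradical.1 (hle hn)
  rw [← IsNilpotent.map_iff hθ]
  exact ⟨n * m, by rw [pow_mul]; exact hm⟩

end Groth.Agent.S4601
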