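import Groth.Statements.S4602
import Groth.Agent.EGA41Two.CharZeroSmooth
import Groth.Agent.EGA41Two.CompletionFactor
import Groth.Agent.Calg4.GeomRegular
import Groth.Agent.Calg1.CompletionLocal
import Groth.Agent.S0564

set_option autoImplicit false
universe u
open IsLocalRing
open EGA41

open TensorProduct
namespace Groth.Agent.S4602

theorem isRegularRing_tensor_fractionRing {A B R : Type u} [CommRing A] [IsDomain A] [CharZero A] [CommRing B]
    [IsDomain B] [Algebra A B] [Module.Finite A B] (hinj : Function.Injective (algebraMap A B))
    [CommRing R] [Algebra A R] [IsRegularRing R] : IsRegularRing (FractionRing B ⊗[A] R) := by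
  haveI : FaithfulSMul A B := (faithfulSMul_iff_algebraMap_injective A B).mpr hinj
  haveI : FaithfulSMul A (FractionRing B) := (faithfulSMul_iff_algebraMap_injective A _).mpr (by
    rw [IsScalarTower.algebraMap_eq A B (FractionRing B)]
    exact (IsFractionRing.injective B (FractionRing B)).comp hinj)
  letI : Algebra (FractionRing A) (FractionRing B) := FractionRing.liftAlgebra A (FractionRing B)
  haveI : Algebra.IsIntegral A B := Algebra.IsIntegral.of_finite A B
  haveI : CharZero (FractionRing A) :=
    charZero_of_injective_ringHom (IsFractionRing.injective A (FractionRing A))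
  haveI : FiniteDimensional (FractionRing A) (FractionRing B) := inferInstance
  haveI : Algebra.FormallyEtale (FractionRing A) (FractionRing B) :=
    Algebra.FormallyEtale.of_isSeparable (FractionRing A) (FractionRing B)
  haveI : IsRegularRing (R ⊗[A] FractionRing A) :=
    Groth.Calg4.isRegularRing_of_isLocalization _ (Algebra.algebraMapSubmonoid R (nonZeroDivisors A))
  haveI : IsRegularRing (FractionRing A ⊗[A] R) :=
    IsRegularRing.of_ringEquiv (Algebra.TensorProduct.comm A R (FractionRing A)).toRingEquiv
  haveI := Groth.Calg4.isRegularRing_tensor_of_formallySmooth (FractionRing A) (FractionRing B)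
    (FractionRing A ⊗[A] R)
  exact IsRegularRing.of_ringEquiv
    (Algebra.TensorProduct.cancelBaseChange A (FractionRing A) (FractionRing A) (FractionRing B) R).toRingEquiv

theorem isRegularLocalRing_of_generic {D S : Type u} [CommRing D] [CommRing S] (ψ : D →+* S) (e : D)
    (he : letI := ψ.toAlgebra; IsLocalization.Away e S) (M : Submonoid D) (T : Type u) [CommRing T] [Algebra D T]
    [IsLocalization M T] [IsRegularRing T] (q : Ideal S) [q.IsPrime]
    (hdisj : Disjoint (M : Set D) (q.comap ψ)) : IsRegularLocalRing (Localization.AtPrime q) := by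
  letI := ψ.toAlgebra
  set Q := q.comap (algebraMap D S)
  haveI : Q.IsPrime := Ideal.IsPrime.comap _
  let P := Q.map (algebraMap D T)
  haveI : P.IsPrime := IsLocalization.isPrime_of_isPrime_disjoint M T Q inferInstance hdisj
  have hPQ : P.comap (algebraMap D T) = Q := IsLocalization.comap_map_of_isPrime_disjoint M T inferInstance hdisj
  have h1 := IsLocalization.isLocalization_isLocalization_atPrime_isLocalization M (Localization.AtPrime P) P
  haveI h1' : IsLocalization.AtPrime (Localization.AtPrime P) Q := by simp only [hPQ] at h1; exact h1
  haveI h2 : IsLocalization.AtPrime (Localization.AtPrime q) Q :=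
    IsLocalization.isLocalization_isLocalization_atPrime_isLocalization (Submonoid.powers e)
      (Localization.AtPrime q) q
  haveI : IsRegularLocalRing (Localization.AtPrime P) := IsRegularRing.isRegularLocalRing_localization P
  exact IsRegularLocalRing.of_ringEquiv
    (IsLocalization.algEquiv Q.primeCompl (Localization.AtPrime P) (Localization.AtPrime q)).toRingEquiv

/-- Let A be a regular local ring with fraction field of characteristic zero, B a domain containing A
and module-finite over it, with fraction field L, n a prime of B, C = B_n, q a prime of the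
completion Ĉ with q ∩ C = 0. Then Ĉ_q is formally smooth over L for the adic topology of its maximal
ideal. (Case (ii) of the published statement, in characteristic p with a suitable filtered family of
subrings, is not stated.) -/
theorem result
    {A B : Type u} [CommRing A] [IsRegularLocalRing A] [CharZero A] [CommRing B] [IsDomain B] [Algebra A B]
    [Module.Finite A B] (hinj : Function.Injective (algebraMap A B)) (n : Ideal B) [n.IsPrime]
    (q : Ideal (AdicCompletion (maximalIdeal (Localization.AtPrime n)) (Localization.AtPrime n))) [q.IsPrime]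
    (hq : q.comap (algebraMap (Localization.AtPrime n)
      (AdicCompletion (maximalIdeal (Localization.AtPrime n)) (Localization.AtPrime n))) = ⊥)
    [Algebra B (Localization.AtPrime q)]
    [IsScalarTower B (AdicCompletion (maximalIdeal (Localization.AtPrime n)) (Localization.AtPrime n))
      (Localization.AtPrime q)]
    [Algebra (FractionRing B) (Localization.AtPrime q)] [IsScalarTower B (FractionRing B) (Localization.AtPrime q)] :
    CAlgX.IsAdicFormallySmooth (FractionRing B) (Localization.AtPrime q) (maximalIdeal (Localization.AtPrime q)) := by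
  haveI : IsDomain A := hinj.isDomain (algebraMap A B)
  haveI : IsNoetherianRing B := IsNoetherianRing.of_finite A B
  haveI : CharZero B := charZero_of_injective_ringHom hinj
  haveI : CharZero (FractionRing B) := charZero_of_injective_ringHom (IsFractionRing.injective B (FractionRing B))
  haveI : IsNoetherianRing (AdicCompletion (maximalIdeal (Localization.AtPrime n)) (Localization.AtPrime n)) :=
    Groth.Calg1.isNoetherianRing_adicCompletion _ (IsNoetherian.noetherian _)
  haveI : IsNoetherianRing (Localization.AtPrime q) := IsLocalization.isNoetherianRing q.primeCompl _ inferInstance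
  rw [Groth.EGA41Two.isAdicFormallySmooth_iff_isRegularLocalRing]
  set p := n.comap (algebraMap A B) with hp
  obtain ⟨ψ, hψ, e, he⟩ := Groth.EGA41Two.exists_factor n p hp
  letI := ψ.toAlgebra
  set Q := q.comap ψ
  haveI : IsRegularLocalRing (Localization.AtPrime p) := Groth.Agent.S0564.result A p
  haveI : IsNoetherianRing (Groth.EGA41Two.CplAt p) :=
    Groth.Calg1.isNoetherianRing_adicCompletion _ (IsNoetherian.noetherian _)
  haveI : IsRegularLocalRing (Groth.EGA41Two.CplAt p) := (Groth.Calg1.isRegularLocalRing_adicCompletion_iff _).mp ‹_›
  haveI : IsRegularRing (Groth.EGA41Two.CplAt p) :=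
    isRegularRing_iff.mpr fun P _ => Groth.Agent.S0564.result _ P
  haveI : IsRegularRing (FractionRing B ⊗[A] Groth.EGA41Two.CplAt p) := isRegularRing_tensor_fractionRing hinj
  haveI : IsRegularRing (FractionRing B ⊗[B] (B ⊗[A] Groth.EGA41Two.CplAt p)) :=
    IsRegularRing.of_ringEquiv (Algebra.TensorProduct.cancelBaseChange A B B (FractionRing B)
      (Groth.EGA41Two.CplAt p)).toRingEquiv.symm
  haveI : IsRegularRing ((B ⊗[A] Groth.EGA41Two.CplAt p) ⊗[B] FractionRing B) :=
    IsRegularRing.of_ringEquiv (R := FractionRing B ⊗[B] (B ⊗[A] Groth.EGA41Two.CplAt p)) (Algebra.TensorProduct.comm B (FractionRing B) (B ⊗[A] Groth.EGA41Two.CplAt p)).toRingEquiv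
  let M := Algebra.algebraMapSubmonoid (B ⊗[A] Groth.EGA41Two.CplAt p) (nonZeroDivisors B)
  haveI : Q.IsPrime := Ideal.IsPrime.comap ψ
  have hdisj : Disjoint (M : Set (B ⊗[A] Groth.EGA41Two.CplAt p)) Q := by
    rw [Set.disjoint_left]
    rintro _ ⟨b, hb, rfl⟩ hbQ
    have h1 : algebraMap B (Localization.AtPrime n) b ∈ q.comap (algebraMap (Localization.AtPrime n) _) := by
      rw [Ideal.mem_comap, ← hψ]; exact hbQ
    rw [hq, Ideal.mem_bot] at h1
    exact nonZeroDivisors.ne_zero hb ((map_eq_zero_iff _ (IsLocalization.injective (Localization.AtPrime n)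
      n.primeCompl_le_nonZeroDivisors)).mp h1)
  exact isRegularLocalRing_of_generic ψ e he M ((B ⊗[A] Groth.EGA41Two.CplAt p) ⊗[B] FractionRing B) q hdisj

end Groth.Agent.S4602
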