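import Groth.Statements.S4603
import Groth.Agent.EGA41Two.LocalCons

set_option autoImplicit false
universe u
open AlgebraicGeometry CategoryTheory
open EGA41

namespace Groth.Agent.S4603

/-- Let f : X → Y be quasi-compact. The following are equivalent: f is dominant; the fibre of f over
every maximal point of Y (a point with no proper generization, i.e. the generic point of an
irreducible component) is nonempty; every maximal point of Y is the image of a maximal point of X. -/
theorem result {X Y : Scheme.{u}} (f : X ⟶ Y) [QuasiCompact f] :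
    [IsDominant f,
     ∀ y : Y, (∀ y' : Y, y' ⤳ y → y' = y) → y ∈ Set.range f.base,
     ∀ y : Y, (∀ y' : Y, y' ⤳ y → y' = y) → ∃ x : X, (∀ x' : X, x' ⤳ x → x' = x) ∧ f.base x = y].TFAE := by
  tfae_have 1 → 2 := by
    intro hd y hy
    obtain ⟨V, hV, hyV, -⟩ := exists_isAffineOpen_mem_and_subset (X := Y) (U := ⊤) (Set.mem_univ y)
    have := Groth.EGA41Two.spectralSpace_affine V hV
    obtain ⟨t, ht⟩ := (f.isCompact_preimage hV.isCompact).elim_finite_subcover
      (fun W : {W : X.Opens // IsAffineOpen W ∧ W ≤ f ⁻¹ᵁ V} => (W.1 : Set X)) (fun W => W.1.2) fun x hx => by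
        obtain ⟨W, hW, hxW, hle⟩ := exists_isAffineOpen_mem_and_subset (U := f ⁻¹ᵁ V) hx
        exact Set.mem_iUnion.mpr ⟨⟨W, hW, hle⟩, hxW⟩
    have hc : Groth.EGA41Two.ClosedAt (Set.range f.base) V := by
      refine Groth.EGA41Two.closedAt_of_finite_cover f hV t (fun W => W.1) (fun W => W.2.1) (fun W => W.2.2)
        (fun z hz hzV => ?_) fun W => ?_
      · obtain ⟨x, rfl⟩ := hz
        obtain ⟨i, hi, hxi⟩ := Set.mem_iUnion₂.mp (ht (show x ∈ f.base ⁻¹' (V : Set Y) from hzV))
        exact ⟨i, hi, x, hxi, rfl⟩
      · have e : (Subtype.val ⁻¹' (f.base ⁻¹' Set.range f.base) : Set (W.1 : Set X)) = Set.univ :=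
          Set.eq_univ_of_forall fun x => ⟨x.1, rfl⟩
        unfold Groth.EGA41Two.ClosedAt
        rw [e]
        exact @isClosed_univ _ (constructibleTopology _)
    have hyc : (⟨y, hyV⟩ : (V : Set Y)) ∈ closure (Subtype.val ⁻¹' Set.range f.base) := by
      rw [closure_subtype, Subtype.image_preimage_coe]
      exact V.2.inter_closure ⟨hyV, f.denseRange.closure_range ▸ Set.mem_univ y⟩
    obtain ⟨⟨e, heV⟩, he, hes⟩ := Groth.SpectralTopology.exists_specializes_of_mem_closure hc hyc
    exact hy e (hes.map continuous_subtype_val) ▸ he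
  tfae_have 2 → 3 := by
    intro h y hy
    obtain ⟨x, rfl⟩ := h y hy
    obtain ⟨ξ, hξ⟩ := QuasiSober.sober (isIrreducible_irreducibleComponent (x := x)) isClosed_irreducibleComponent
    refine ⟨ξ, fun x' hx' => ?_, hy _ ((hξ.specializes mem_irreducibleComponent).map f.continuous)⟩
    have hle : irreducibleComponent x ⊆ closure {x'} := fun w hw =>
      specializes_iff_mem_closure.mp (hx'.trans (hξ.specializes hw))
    have := (irreducibleComponent_mem_irreducibleComponents x).2 isIrreducible_singleton.closure hle
    exact (Specializes.antisymm hx' (hξ.specializes (this (subset_closure rfl)))).eq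
  tfae_have 3 → 1 := by
    intro h
    refine (isDominant_iff f).mpr fun y => ?_
    obtain ⟨η, hη⟩ := QuasiSober.sober (isIrreducible_irreducibleComponent (x := y)) isClosed_irreducibleComponent
    obtain ⟨x, -, hxη⟩ := h η fun (y' : Y) (hy' : y' ⤳ η) => by
      have hle : irreducibleComponent y ⊆ closure {y'} := fun w hw =>
        specializes_iff_mem_closure.mp (hy'.trans (hη.specializes hw))
      have := (irreducibleComponent_mem_irreducibleComponents y).2 isIrreducible_singleton.closure hle
      exact (Specializes.antisymm hy' (hη.specializes (this (subset_closure rfl)))).eq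
    exact closure_mono (Set.singleton_subset_iff.mpr (show η ∈ Set.range f.base from ⟨x, hxη⟩))
      (specializes_iff_mem_closure.mp (hη.specializes mem_irreducibleComponent))
  tfae_finish

end Groth.Agent.S4603
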