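import Groth.Statements.S4604
import Groth.Agent.EGA41Two.MonicVars

set_option autoImplicit false
universe u
open IsLocalRing
open EGA41

namespace Groth.Agent.S4604

open Groth.EGA41Two.MonicVars in
theorem aux {A : Type u} [CommRing A] [IsLocalRing A] (hm : maximalIdeal A ^ 2 = ⊥) {r : ℕ} (d : Fin r → ℕ)
    (hd : ∀ i, 2 ≤ d i) (c : Fin r → ℕ → A) (hc : ∀ i k, c i k ∈ maximalIdeal A)
    (I : Ideal (MvPolynomial (Fin r) A)) (hI : I = finIdeal (fun i => monicPoly (d i) (c i))) :
    ∃ _ : IsLocalRing (MvPolynomial (Fin r) A ⧸ I),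
      Function.Surjective ((Ideal.Quotient.mk (maximalIdeal (MvPolynomial (Fin r) A ⧸ I))).comp
        (algebraMap A (MvPolynomial (Fin r) A ⧸ I))) ∧
      maximalIdeal A ⊓ Ideal.comap (algebraMap A (MvPolynomial (Fin r) A ⧸ I))
          (maximalIdeal (MvPolynomial (Fin r) A ⧸ I) ^ 2) =
        Ideal.span (Set.range fun i => c i 0) := by
  subst hI
  set f := fun i => monicPoly (d i) (c i) with hf
  have hmon : ∀ i, (f i).Monic := fun i => monic_monicPoly _ _
  have hd0 : ∀ i, 0 < d i := fun i => lt_of_lt_of_le two_pos (hd i)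
  have hres : ∀ i, (f i).map (residue A) = Polynomial.X ^ d i := fun i => map_monicPoly _ _ (hc i)
  have hc0 : ∀ i, (f i).coeff 0 = c i 0 := fun i => coeff_zero_monicPoly (hd0 i) _
  have hloc := Groth.EGA41Two.MonicVars.isLocalRing f hmon d hd0 hres
  have hM := maximalIdeal_eq f hmon d hd0 hres
  refine ⟨hloc, surjective_mk_comp f hmon d hd0 hres _ (maximalIdeal.isMaximal _), ?_⟩
  rw [hM]
  refine le_antisymm ?_ (le_inf (Ideal.span_le.mpr ?_) (Ideal.span_le.mpr ?_))
  · rintro a ⟨ha, ha2⟩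
    let J := Ideal.span (Set.range fun i => c i 0)
    let φ : (MvPolynomial (Fin r) A ⧸ finIdeal f) →ₐ[A] A ⧸ J := homMk f 0 fun i => by
      rw [Pi.zero_apply, ← map_zero (algebraMap A (A ⧸ J)), Polynomial.aeval_algebraMap_apply_eq_algebraMap_eval,
        ← Polynomial.coeff_zero_eq_eval_zero, hc0, map_zero]
      exact Ideal.Quotient.eq_zero_iff_mem.mpr (Ideal.subset_span ⟨i, rfl⟩)
    have hφ : (maxIdeal f).map φ.toRingHom ≤ (maximalIdeal A).map (Ideal.Quotient.mk J) := by
      rw [maxIdeal, Ideal.map_sup, Ideal.map_map, Ideal.map_span]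
      refine sup_le (le_of_eq ?_) (Ideal.span_le.mpr ?_)
      · congr 1
        exact RingHom.ext φ.commutes
      · rintro _ ⟨_, ⟨i, rfl⟩, rfl⟩
        show φ (Ideal.Quotient.mk _ (MvPolynomial.X i)) ∈ _
        rw [homMk_X]; exact zero_mem _
    have h := Ideal.mem_map_of_mem φ.toRingHom (show algebraMap A _ a ∈ maxIdeal f ^ 2 from ha2)
    rw [Ideal.map_pow] at h
    have h' := Ideal.pow_right_mono hφ 2 h
    rw [← Ideal.map_pow, hm, Ideal.map_bot, Submodule.mem_bot] at h'
    exact Ideal.Quotient.eq_zero_iff_mem.mp ((φ.commutes a).symm.trans h')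
  · rintro _ ⟨i, rfl⟩; exact hc i 0
  · rintro _ ⟨i, rfl⟩
    show algebraMap A _ (c i 0) ∈ maxIdeal f ^ 2
    rw [← hc0]
    exact coeff_zero_mem_sq f hmon d hres hd i


/-- (i) and the kernel statement of (ii): let A be a local ring with maximal ideal m of square zero,
F_i(T_i) = T_i^{d_i} + Σ_{k<d_i} c_{ik} T_i^k (1 ≤ i ≤ r) monic of degrees d_i ≥ 2 with non-leading
coefficients in m, and A' = A[T_1, …, T_r]/(F_1, …, F_r). Then A' is local with residue field K, and
the kernel of m → m'/m'² (m' the maximal ideal of A') is the ideal generated by the constant terms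
c_{i0}. -/
theorem result {A : Type u} [CommRing A] [IsLocalRing A]
    (hm : maximalIdeal A ^ 2 = ⊥) {r : ℕ} (d : Fin r → ℕ) (hd : ∀ i, 2 ≤ d i) (c : Fin r → ℕ → A)
    (hc : ∀ i k, c i k ∈ maximalIdeal A) :
    let F : Fin r → MvPolynomial (Fin r) A := fun i =>
      MvPolynomial.X i ^ d i + (Finset.range (d i)).sum fun k => MvPolynomial.C (c i k) * MvPolynomial.X i ^ k
    ∃ _ : IsLocalRing (MvPolynomial (Fin r) A ⧸ Ideal.span (Set.range F)),
      Function.Surjective ((Ideal.Quotient.mk (maximalIdeal (MvPolynomial (Fin r) A ⧸ Ideal.span (Set.range F)))).comp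
        (algebraMap A (MvPolynomial (Fin r) A ⧸ Ideal.span (Set.range F)))) ∧
      maximalIdeal A ⊓ Ideal.comap (algebraMap A (MvPolynomial (Fin r) A ⧸ Ideal.span (Set.range F)))
          (maximalIdeal (MvPolynomial (Fin r) A ⧸ Ideal.span (Set.range F)) ^ 2) =
        Ideal.span (Set.range fun i => c i 0) := by
  intro F
  exact aux hm d hd c hc _ (Groth.EGA41Two.MonicVars.finIdeal_monicPoly d c).symm

end Groth.Agent.S4604
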