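import Groth.Statements.S4605
import Groth.Agent.EGA41Two.PRootsField
import Mathlib.RingTheory.LocalRing.MaximalIdeal.Basic
import Mathlib.RingTheory.LocalRing.ResidueField.Basic

set_option autoImplicit false
universe u
open IsLocalRing
open EGA41

namespace Groth.Agent.S4605

theorem aux {A : Type u} [CommRing A] [IsLocalRing A] (hm : maximalIdeal A ^ 2 = ⊥) (p : ℕ) [Fact p.Prime]
    [CharP (ResidueField A) p] {ι : Type u} (g : ι → MvPolynomial ι A) (f : ι → A)
    (hind : LinearIndependent (↥(frobenius (ResidueField A) p).fieldRange)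
      (fun e : {e : ι →₀ ℕ // ∀ i, e i < p} => EGA41.pMonomial (fun i => residue A (f i)) e.1))
    (F : ι → MvPolynomial ι A)
    (hF : ∀ i, F i = MvPolynomial.X i ^ p + (p : MvPolynomial ι A) * g i - MvPolynomial.C (f i)) :
    ∃ _ : IsLocalRing (MvPolynomial ι A ⧸ Ideal.span (Set.range F)),
      maximalIdeal (MvPolynomial ι A ⧸ Ideal.span (Set.range F)) =
        (maximalIdeal A).map (algebraMap A (MvPolynomial ι A ⧸ Ideal.span (Set.range F))) := by
  set I := Ideal.span (Set.range F) with hI
  set J := Groth.EGA41Two.pRootIdeal p (fun i => residue A (f i)) with hJ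
  set red := MvPolynomial.map (σ := ι) (residue A) with hred
  have hredF : ∀ i, red (F i) = (MvPolynomial.X i : MvPolynomial ι (ResidueField A)) ^ p - MvPolynomial.C (residue A (f i)) := by
    intro i
    rw [hred, hF, map_sub, map_add, map_pow, MvPolynomial.map_X, map_mul, map_natCast, CharP.cast_eq_zero, zero_mul,
      add_zero, MvPolynomial.map_C]
  have hmapI : I.map red = J := by
    rw [hI, Ideal.map_span, ← Set.range_comp, hJ, Groth.EGA41Two.pRootIdeal]
    congr 2
    funext i
    exact hredF i
  have hsurj : Function.Surjective red := MvPolynomial.map_surjective _ residue_surjective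
  have hker : RingHom.ker red = (maximalIdeal A).map MvPolynomial.C := by
    rw [hred, MvPolynomial.ker_map, show RingHom.ker (residue A) = maximalIdeal A from Ideal.mk_ker]
  have hJmax := Groth.EGA41Two.pRootIdeal_isMaximal p _ hind
  have hcomap : (J.comap red).IsMaximal := Ideal.comap_isMaximal_of_surjective red hsurj (H := hJmax)
  have heq : J.comap red = I ⊔ (maximalIdeal A).map MvPolynomial.C := by
    rw [← hmapI, Ideal.comap_map_of_surjective' red hsurj, hker]
  set M := (maximalIdeal A).map (algebraMap A (MvPolynomial ι A ⧸ I)) with hM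
  have hMeq : M = (J.comap red).map (Ideal.Quotient.mk I) := by
    rw [heq, Ideal.map_sup, Ideal.map_quotient_self, bot_sup_eq, Ideal.map_map]
    rfl
  have hMmax : M.IsMaximal := by
    have hle : I ≤ J.comap red := heq ▸ le_sup_left
    refine hMeq ▸ (Ideal.map_eq_top_or_isMaximal_of_surjective _ Ideal.Quotient.mk_surjective hcomap).resolve_left
      fun h => hcomap.ne_top ?_
    have := congrArg (Ideal.comap (Ideal.Quotient.mk I)) h
    rwa [Ideal.comap_map_of_surjective' _ Ideal.Quotient.mk_surjective, Ideal.mk_ker, sup_eq_left.mpr hle,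
      Ideal.comap_top] at this
  have hM2 : M ^ 2 = ⊥ := by rw [hM, ← Ideal.map_pow, hm, Ideal.map_bot]
  have huniq : ∀ N : Ideal (MvPolynomial ι A ⧸ I), N.IsMaximal → N = M := fun N hN =>
    (hMmax.eq_of_le hN.ne_top (hN.isPrime.le_of_pow_le (n := 2) (by rw [hM2]; exact bot_le))).symm
  have hloc : IsLocalRing (MvPolynomial ι A ⧸ I) := IsLocalRing.of_unique_max_ideal ⟨M, hMmax, fun N hN => huniq N hN⟩
  exact ⟨hloc, huniq _ (maximalIdeal.isMaximal _)⟩


/-- Let A be a local ring with maximal ideal m of square zero and residue field K of characteristic p >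
0, F_i(T_i) = T_i^p + p Σ_{k=1}^{p-1} c_{ik} T_i^{p-k} − f_i (i in a finite index set) with c_{ik},
f_i ∈ A, and suppose the residues of the f_i in K are p-independent over K^p. Then A' = A[T_i]/(F_i)
is local with maximal ideal m A'. (The identification of the residue field with K(a_i^{1/p}) is not
restated.) -/
theorem result {A : Type u} [CommRing A]
    [IsLocalRing A] (hm : maximalIdeal A ^ 2 = ⊥) (p : ℕ) [Fact p.Prime] [CharP (ResidueField A) p]
    {ι : Type u} [Finite ι] (c : ι → Fin p → A) (f : ι → A)
    (hind : LinearIndependent (↥(frobenius (ResidueField A) p).fieldRange)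
      (fun e : {e : ι →₀ ℕ // ∀ i, e i < p} => EGA41.pMonomial (fun i => residue A (f i)) e.1)) :
    let F : ι → MvPolynomial ι A := fun i =>
      MvPolynomial.X i ^ p + (p : MvPolynomial ι A) * (Finset.univ.sum fun j : Fin p =>
        if (j : ℕ) = 0 then 0 else MvPolynomial.C (c i j) * MvPolynomial.X i ^ (p - (j : ℕ))) - MvPolynomial.C (f i)
    ∃ _ : IsLocalRing (MvPolynomial ι A ⧸ Ideal.span (Set.range F)),
      maximalIdeal (MvPolynomial ι A ⧸ Ideal.span (Set.range F)) =
        (maximalIdeal A).map (algebraMap A (MvPolynomial ι A ⧸ Ideal.span (Set.range F))) := by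
  intro F
  exact aux hm p _ f hind F fun i => rfl

end Groth.Agent.S4605
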