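import Groth.Statements.S4607
import Mathlib.RingTheory.Flat.Basic
import Mathlib.RingTheory.LocalRing.ResidueField.Ideal
-- import your own Groth.Agent.* helpers here

set_option autoImplicit false
universe u
open TensorProduct
open EGA41

namespace Groth.Agent.S4607

/-- First assertion, case of two factors: for A-algebras A' and A'' the image of Spec(A' ⊗_A A'') in
Spec A is the intersection of the images of Spec A' and Spec A''. -/
theorem result {A A' A'' : Type u} [CommRing A] [CommRing A'] [CommRing A'']
    [Algebra A A'] [Algebra A A''] :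
    Set.range (PrimeSpectrum.comap (algebraMap A (A' ⊗[A] A''))) =
      Set.range (PrimeSpectrum.comap (algebraMap A A')) ∩ Set.range (PrimeSpectrum.comap (algebraMap A A'')) := by
  ext p
  constructor
  · rintro ⟨q, rfl⟩
    refine ⟨⟨q.comap (Algebra.TensorProduct.includeLeft (R := A) (S := A) (B := A'')).toRingHom, ?_⟩,
      ⟨q.comap (Algebra.TensorProduct.includeRight (R := A) (A := A')).toRingHom, ?_⟩⟩
    · rw [← PrimeSpectrum.comap_comp_apply, AlgHom.toRingHom_eq_coe, AlgHom.comp_algebraMap]
    · rw [← PrimeSpectrum.comap_comp_apply, AlgHom.toRingHom_eq_coe, AlgHom.comp_algebraMap]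
  · rintro ⟨⟨q, hq⟩, ⟨r, hr⟩⟩
    have : q.asIdeal.LiesOver p.asIdeal := ⟨(congrArg PrimeSpectrum.asIdeal hq).symm⟩
    have : r.asIdeal.LiesOver p.asIdeal := ⟨(congrArg PrimeSpectrum.asIdeal hr).symm⟩
    let := (Ideal.ResidueField.map p.asIdeal q.asIdeal (algebraMap A A') (Ideal.over_def _ _)).toAlgebra
    let := (Ideal.ResidueField.map p.asIdeal r.asIdeal (algebraMap A A'') (Ideal.over_def _ _)).toAlgebra
    have : IsScalarTower A p.asIdeal.ResidueField q.asIdeal.ResidueField :=
      IsScalarTower.of_algebraMap_eq fun a =>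
        ((Ideal.ResidueField.map_algebraMap p.asIdeal q.asIdeal (algebraMap A A') (Ideal.over_def _ _) a).trans
          (IsScalarTower.algebraMap_apply A A' _ a).symm).symm
    have : IsScalarTower A p.asIdeal.ResidueField r.asIdeal.ResidueField :=
      IsScalarTower.of_algebraMap_eq fun a =>
        ((Ideal.ResidueField.map_algebraMap p.asIdeal r.asIdeal (algebraMap A A'') (Ideal.over_def _ _) a).trans
          (IsScalarTower.algebraMap_apply A A'' _ a).symm).symm
    let T := q.asIdeal.ResidueField ⊗[p.asIdeal.ResidueField] r.asIdeal.ResidueField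
    have : Nontrivial T := Algebra.TensorProduct.nontrivial_of_algebraMap_injective_of_flat_left _ _ _ (RingHom.injective _)
    obtain ⟨m, hm⟩ := Ideal.exists_maximal T
    let φ : A' ⊗[A] A'' →ₐ[A] T := Algebra.TensorProduct.lift
      (((Algebra.TensorProduct.includeLeft (S := p.asIdeal.ResidueField)).restrictScalars A).comp
        (IsScalarTower.toAlgHom A A' q.asIdeal.ResidueField))
      (((Algebra.TensorProduct.includeRight).restrictScalars A).comp
        (IsScalarTower.toAlgHom A A'' r.asIdeal.ResidueField))
      (fun _ _ => Commute.all _ _)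
    have := hm.isPrime
    refine ⟨⟨m.comap φ, inferInstance⟩, ?_⟩
    apply PrimeSpectrum.ext
    simp only [PrimeSpectrum.comap_asIdeal]
    rw [show ((m.comap φ).comap (algebraMap A (A' ⊗[A] A''))) = m.comap (algebraMap A T) by
      ext a; simp only [Ideal.mem_comap, AlgHom.commutes]]
    rw [IsScalarTower.algebraMap_eq A p.asIdeal.ResidueField T, ← Ideal.comap_comap,
      Ideal.eq_bot_of_prime (m.comap (algebraMap p.asIdeal.ResidueField T)), ← RingHom.ker_eq_comap_bot,
      Ideal.ker_algebraMap_residueField]

end Groth.Agent.S4607
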