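import Groth.Statements.S4608
import Mathlib.AlgebraicGeometry.Limits

set_option autoImplicit false
universe u
open AlgebraicGeometry CategoryTheory CategoryTheory.Limits
open EGA41

namespace Groth.Agent.S4608

/-- A morphism from a disjoint union X' ⨿ X'' → Y is quasi-compact if and only if its two components
are. -/
theorem result {X' X'' Y : Scheme.{u}} (f' : X' ⟶ Y) (f'' : X'' ⟶ Y) :
    QuasiCompact (coprod.desc f' f'') ↔ QuasiCompact f' ∧ QuasiCompact f'' := by
  refine ⟨fun h => ⟨?_, ?_⟩, fun ⟨h1, h2⟩ => ⟨fun U hU hU' => ?_⟩⟩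
  · refine ⟨fun U hU hU' => ?_⟩
    have hc := ((coprodMk X' X'').isCompact_preimage).mpr (h.1 U hU hU')
    have e : f' ⁻¹' U = Sum.inl ⁻¹' (coprodMk X' X'' ⁻¹' (coprod.desc f' f'' ⁻¹' U)) := by
      ext x
      simp only [Set.mem_preimage]
      rw [coprodMk_inl, ← Scheme.Hom.comp_apply, coprod.inl_desc]
    rw [e]
    exact Topology.IsClosedEmbedding.inl.isCompact_preimage hc
  · refine ⟨fun U hU hU' => ?_⟩
    have hc := ((coprodMk X' X'').isCompact_preimage).mpr (h.1 U hU hU')
    have e : f'' ⁻¹' U = Sum.inr ⁻¹' (coprodMk X' X'' ⁻¹' (coprod.desc f' f'' ⁻¹' U)) := by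
      ext x
      simp only [Set.mem_preimage]
      rw [coprodMk_inr, ← Scheme.Hom.comp_apply, coprod.inr_desc]
    rw [e]
    exact Topology.IsClosedEmbedding.inr.isCompact_preimage hc
  · have h : coprod.desc f' f'' ⁻¹' U =
        (coprod.inl : X' ⟶ _) '' (f' ⁻¹' U) ∪ (coprod.inr : X'' ⟶ _) '' (f'' ⁻¹' U) := by
      ext x
      obtain ⟨(x | x), rfl⟩ := (coprodMk X' X'').surjective x
      · rw [coprodMk_inl]
        simp only [Set.mem_preimage, Set.mem_union, Set.mem_image]
        constructor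
        · intro hx
          exact Or.inl ⟨x, by rwa [← Scheme.Hom.comp_apply, coprod.inl_desc] at hx, rfl⟩
        · rintro (⟨y, hy, e⟩ | ⟨y, hy, e⟩)
          · rw [← e, ← Scheme.Hom.comp_apply, coprod.inl_desc]; exact hy
          · rw [← e, ← Scheme.Hom.comp_apply, coprod.inr_desc]; exact hy
      · rw [coprodMk_inr]
        simp only [Set.mem_preimage, Set.mem_union, Set.mem_image]
        constructor
        · intro hx
          exact Or.inr ⟨x, by rwa [← Scheme.Hom.comp_apply, coprod.inr_desc] at hx, rfl⟩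
        · rintro (⟨y, hy, e⟩ | ⟨y, hy, e⟩)
          · rw [← e, ← Scheme.Hom.comp_apply, coprod.inl_desc]; exact hy
          · rw [← e, ← Scheme.Hom.comp_apply, coprod.inr_desc]; exact hy
    rw [h]
    exact ((h1.1 U hU hU').image (Scheme.Hom.continuous _)).union
      ((h2.1 U hU hU').image (Scheme.Hom.continuous _))

end Groth.Agent.S4608
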