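import Groth.Statements.S4609
import Mathlib.AlgebraicGeometry.Limits

set_option autoImplicit false
set_option backward.isDefEq.respectTransparency.types false
universe u
open AlgebraicGeometry CategoryTheory CategoryTheory.Limits
open EGA41

namespace Groth.Agent.S4609

/-- A morphism from a disjoint union X' ⨿ X'' → Y is quasi-separated if and only if its two components
are. -/
theorem result {X' X'' Y : Scheme.{u}} (f' : X' ⟶ Y) (f'' : X'' ⟶ Y) :
    QuasiSeparated (coprod.desc f' f'') ↔ QuasiSeparated f' ∧ QuasiSeparated f'' := by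
  refine ⟨fun h => ⟨?_, ?_⟩, fun ⟨h1, h2⟩ => ?_⟩
  · rw [← coprod.inl_desc f' f'']; infer_instance
  · rw [← coprod.inr_desc f' f'']; infer_instance
  · rw [IsZariskiLocalAtTarget.iff_of_iSup_eq_top (P := @QuasiSeparated) _ (iSup_affineOpens_eq_top Y)]
    intro U
    have : IsAffine U.1.toScheme := U.2
    rw [HasAffineProperty.iff_of_isAffine (P := @QuasiSeparated)]
    refine (isQuasiSeparated_iff_quasiSeparatedSpace _ (coprod.desc f' f'' ⁻¹ᵁ U.1).2).mp ?_
    have q1 := (f'.isQuasiSeparated_preimage (U := U.1) U.2.isQuasiSeparated).image_of_isEmbedding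
      (Scheme.Hom.isOpenEmbedding (coprod.inl : X' ⟶ X' ⨿ X'')).isEmbedding
    have q2 := (f''.isQuasiSeparated_preimage (U := U.1) U.2.isQuasiSeparated).image_of_isEmbedding
      (Scheme.Hom.isOpenEmbedding (coprod.inr : X'' ⟶ X' ⨿ X'')).isEmbedding
    intro V W hV hVo hVc hW hWo hWc
    let A := coprodMk X' X'' '' Set.range Sum.inl
    have hA : IsClopen A := ⟨(coprodMk X' X'').isClosed_image.mpr isClosed_range_inl,
      (coprodMk X' X'').isOpen_image.mpr isOpen_range_inl⟩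
    have sA : ∀ S : Set ↥(X' ⨿ X''), S ⊆ coprod.desc f' f'' ⁻¹' U.1 →
        S ∩ A ⊆ (coprod.inl : X' ⟶ X' ⨿ X'') '' (f' ⁻¹' U.1) := by
      rintro S hS x ⟨hx, _, ⟨y, rfl⟩, rfl⟩
      have := hS hx
      rw [coprodMk_inl, Set.mem_preimage, ← Scheme.Hom.comp_apply, coprod.inl_desc] at this
      exact ⟨y, this, (coprodMk_inl _ _ _).symm⟩
    have sB : ∀ S : Set ↥(X' ⨿ X''), S ⊆ coprod.desc f' f'' ⁻¹' U.1 →
        S ∩ Aᶜ ⊆ (coprod.inr : X'' ⟶ X' ⨿ X'') '' (f'' ⁻¹' U.1) := by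
      rintro S hS x ⟨hx, hx'⟩
      obtain ⟨(y | y), rfl⟩ := (coprodMk X' X'').surjective x
      · exact absurd ⟨_, ⟨y, rfl⟩, rfl⟩ hx'
      · have := hS hx
        rw [coprodMk_inr, Set.mem_preimage, ← Scheme.Hom.comp_apply, coprod.inr_desc] at this
        exact ⟨y, this, (coprodMk_inr _ _ _).symm⟩
    have e : V ∩ W = ((V ∩ A) ∩ (W ∩ A)) ∪ ((V ∩ Aᶜ) ∩ (W ∩ Aᶜ)) := by
      ext x; by_cases hx : x ∈ A <;> simp [hx]
    rw [e]
    exact (q1 _ _ (sA _ hV) (hVo.inter hA.2) (hVc.inter_right hA.1) (sA _ hW) (hWo.inter hA.2)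
      (hWc.inter_right hA.1)).union (q2 _ _ (sB _ hV) (hVo.inter hA.compl.2) (hVc.inter_right hA.compl.1)
      (sB _ hW) (hWo.inter hA.compl.2) (hWc.inter_right hA.compl.1))

end Groth.Agent.S4609
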