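import Groth.Statements.S4610
import Groth.Agent.EGA41Two.MonicVars

set_option autoImplicit false
universe u
open EGA41

namespace Groth.Agent.S4610

/-- Let A be a nonzero ring and F_1, …, F_r monic one-variable polynomials of degrees d_1, …, d_r; then
A[T_1, …, T_r]/(F_1(T_1), …, F_r(T_r)) is a free A-module of rank ∏ d_i. (The published statement
assumes A local with maximal ideal of square zero and A' local, which this assertion does not use;
its bound [K' : K] ≤ d and part (ii) are not stated.) -/
theorem result {A : Type u} [CommRing A] [Nontrivial A]
    {r : ℕ} (F : Fin r → Polynomial A) (hF : ∀ i, (F i).Monic) :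
    Module.Free A (MvPolynomial (Fin r) A ⧸ Ideal.span (Set.range fun i => Polynomial.aeval (MvPolynomial.X i : MvPolynomial (Fin r) A) (F i))) ∧
      Module.finrank A (MvPolynomial (Fin r) A ⧸ Ideal.span (Set.range fun i => Polynomial.aeval (MvPolynomial.X i : MvPolynomial (Fin r) A) (F i))) =
        Finset.univ.prod fun i => (F i).natDegree := by
  exact Groth.EGA41Two.MonicVars.free_finrank F hF

end Groth.Agent.S4610
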