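import Groth.Statements.S4612
import Groth.Agent.Ega41Jac.RegularIndep
import Groth.Agent.Ega41Jac.QuotientLocalization
import Groth.Agent.Ega4Algebra2.NagataJacobian
import Groth.Agent.Ega4Algebra1.RegularLocal
import Groth.Agent.Calg4.GeomRegularLocal
import Groth.Agent.Ega41Exist.PRadicalConv
import Groth.Agent.S2477
import Groth.Agent.S4512

set_option autoImplicit false
universe u
open IsLocalRing
open EGA41

namespace Groth.Agent.S4612

/-- A derivation killing a subring over whose fraction field that of the domain is separable vanishes. -/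
theorem derivation_eq_zero_of_separable {Q R L' L : Type u} [CommRing Q] [CommRing R] [Field L'] [Field L]
    [Algebra Q L'] [IsFractionRing Q L'] [Algebra R L] [IsFractionRing R L] [Algebra L' L] [Algebra.IsSeparable L' L]
    (g : Q →+* R) (hcomp : ∀ z, algebraMap L' L (algebraMap Q L' z) = algebraMap R L (g z))
    (δ : Groth.Ega4b.Jac.IDer R) (hδg : ∀ z, δ (g z) = 0) (z : R) : δ z = 0 := by
  obtain ⟨δL, hδL⟩ := Groth.Ega4b.Jac.exists_derivation_localization (nonZeroDivisors R) L δ
  have hQ : ∀ z : Q, δL (algebraMap L' L (algebraMap Q L' z)) = 0 := fun z => by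
    rw [hcomp, hδL, hδg, map_zero]
  have hL' : ∀ x : L', δL (algebraMap L' L x) = 0 := fun x => by
    obtain ⟨a, b, hb, rfl⟩ := IsFractionRing.div_surjective Q x
    show algebraMap L' L (_ / _) ∈ Groth.Ega4b.Jac.kerSubfield δL
    rw [map_div₀]
    exact div_mem (hQ a) (hQ b)
  apply IsFractionRing.injective R L
  rw [map_zero, ← hδL]
  set x := algebraMap R L z
  have hsep : (minpoly L' x).Separable := Algebra.IsSeparable.isSeparable L' x
  have hne : Polynomial.aeval x (Polynomial.derivative (minpoly L' x)) ≠ 0 :=
    hsep.aeval_derivative_ne_zero (minpoly.aeval L' x)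
  have h1 : ∀ P : Polynomial L', δL (Polynomial.aeval x P) =
      Polynomial.aeval x (Polynomial.derivative P) * δL x := by
    intro P
    induction P using Polynomial.induction_on' with
    | add a b ha hb => simp only [map_add, ha, hb, add_mul]
    | monomial n c =>
      rw [Polynomial.derivative_monomial, Polynomial.aeval_monomial, Polynomial.aeval_monomial,
        Groth.Ega4b.Jac.IDer_mul, hL', δL.leibniz_pow, map_mul, map_natCast]
      simp only [nsmul_eq_mul, smul_eq_mul]
      ring
  have h2 := h1 (minpoly L' x)
  rw [minpoly.aeval, map_zero] at h2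
  exact (mul_eq_zero.1 h2.symm).resolve_left hne

/-- Derivations induced by the partial derivatives and killing the parameters vanish. -/
theorem eq_zero_of_separable {k R L' L : Type u} [Field k] [CommRing R] [IsDomain R] [IsLocalRing R] [IsNoetherianRing R]
    {r s : ℕ} [Field L'] [Field L] [Algebra (MvPowerSeries (Fin s) k) L'] [IsFractionRing (MvPowerSeries (Fin s) k) L']
    [Algebra R L] [IsFractionRing R L] [Algebra L' L] [Algebra.IsSeparable L' L]
    (π : MvPowerSeries (Fin r) k →+* R) (g : MvPowerSeries (Fin s) k →+* R)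
    (hC : ∀ c, g (MvPowerSeries.C c) = π (algebraMap k _ c)) (hg : ∀ i, g (MvPowerSeries.X i) ∈ maximalIdeal R)
    (hcomp : ∀ z, algebraMap L' L (algebraMap (MvPowerSeries (Fin s) k) L' z) = algebraMap R L (g z))
    (y : Fin s → MvPowerSeries (Fin r) k) (hy : ∀ l, π (y l) = g (MvPowerSeries.X l))
    (δ : Groth.Ega4b.Jac.IDer R) (w : ULift.{u} (Fin r) → R)
    (hδ : ∀ x, δ (π x) = ∑ i : ULift.{u} (Fin r), w i * π (MvPowerSeries.pderiv k i.down x))
    (hkill : ∀ l : ULift.{u} (Fin s), δ (π (y l.down)) = 0) : w = 0 := by
  classical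
  have hδC : ∀ c, δ (g (MvPowerSeries.C c)) = 0 := fun c => by
    rw [hC, hδ]
    exact Finset.sum_eq_zero fun i _ => by rw [Derivation.map_algebraMap, map_zero, mul_zero]
  have hδg : ∀ z, δ (g z) = 0 := fun z => Groth.Ega4b.Jac.derivation_image_eq_zero g hg δ z fun E =>
    Groth.Ega4b.Jac.derivation_image_prod_eq_zero g δ _ E (hδC _) fun l _ => by
      have h0 : δ (g (MvPowerSeries.X l)) = 0 := hy l ▸ hkill ⟨l⟩
      rw [δ.leibniz_pow, h0, smul_zero, smul_zero]
  have hδ0 := derivation_eq_zero_of_separable (L' := L') (L := L) g hcomp δ hδg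
  funext i
  have h1 := hδ (MvPowerSeries.X i.down)
  rw [hδ0, Finset.sum_eq_single i, MvPowerSeries.pderiv_X_self, map_one, mul_one] at h1
  · exact h1.symm
  · intro j _ hj
    rw [MvPowerSeries.pderiv_X_of_ne (fun h => hj (ULift.down_injective h.symm)), map_zero, mul_zero]
  · exact fun hi => absurd (Finset.mem_univ i) hi

/-- Power series over a field are formally smooth. -/
theorem isAdicFormallySmooth_powerSeries (k : Type u) [Field k] (r : ℕ) :
    CAlgX.IsAdicFormallySmooth k (MvPowerSeries (Fin r) k) (maximalIdeal (MvPowerSeries (Fin r) k)) := by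
  refine Groth.Ega41Adic.isAdicFormallySmooth_iff.mpr ?_
  rw [Groth.SGA7.PS.maximalIdeal_eq_ker]
  simpa [Ideal.map_bot] using Groth.Agent.S4533.result k ⊥ r

/-- Nagata's Jacobian criterion for quotients of power series rings: let k be a field, A = k[[T_1, …,
T_r]], q ⊆ p ideals of A with p prime, B = A/q. Suppose A/p contains a sub-k-algebra isomorphic to a
power series algebra k[[X_1, …, X_s]] over which A/p is finite and such that the fraction field L of
A/p is a separable extension of the fraction field L' of k[[X_1, …, X_s]]; here this is given as an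
injective k-algebra map k[[X_1, …, X_s]] → A/p making A/p a finite module, with fraction fields L',
L and a compatible L'-algebra structure on L. Then the following are equivalent: B_p is formally
smooth over k for the adic topology of its maximal ideal; there are k-derivations D_1, …, D_m of A
into itself and f_1, …, f_m ∈ q generating qA_p with det(D_i f_j) ∉ p; B_p is a regular local ring.
(The published statement remarks that the hypothesis on A/p always holds when k has characteristic
zero.) -/
theorem result {k : Type u} [Field k] (r : ℕ)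
    (q p : Ideal (MvPowerSeries (Fin r) k)) [p.IsPrime] (hqp : q ≤ p) [(p.map (Ideal.Quotient.mk q)).IsPrime]
    (s : ℕ) [Algebra (MvPowerSeries (Fin s) k) (MvPowerSeries (Fin r) k ⧸ p)]
    [IsScalarTower k (MvPowerSeries (Fin s) k) (MvPowerSeries (Fin r) k ⧸ p)]
    [Module.Finite (MvPowerSeries (Fin s) k) (MvPowerSeries (Fin r) k ⧸ p)]
    (hinj : Function.Injective (algebraMap (MvPowerSeries (Fin s) k) (MvPowerSeries (Fin r) k ⧸ p)))
    {L' L : Type u} [Field L'] [Field L]
    [Algebra (MvPowerSeries (Fin s) k) L'] [IsFractionRing (MvPowerSeries (Fin s) k) L']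
    [Algebra (MvPowerSeries (Fin r) k ⧸ p) L] [IsFractionRing (MvPowerSeries (Fin r) k ⧸ p) L]
    [Algebra L' L] [Algebra (MvPowerSeries (Fin s) k) L]
    [IsScalarTower (MvPowerSeries (Fin s) k) (MvPowerSeries (Fin r) k ⧸ p) L]
    [IsScalarTower (MvPowerSeries (Fin s) k) L' L] [Algebra.IsSeparable L' L] :
    [CAlgX.IsAdicFormallySmooth k (Localization.AtPrime (p.map (Ideal.Quotient.mk q)))
        (maximalIdeal (Localization.AtPrime (p.map (Ideal.Quotient.mk q)))),
     ∃ (m : ℕ) (D : Fin m → Derivation k (MvPowerSeries (Fin r) k) (MvPowerSeries (Fin r) k))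
        (f : Fin m → MvPowerSeries (Fin r) k), (∀ i, f i ∈ q) ∧
        q.map (algebraMap (MvPowerSeries (Fin r) k) (Localization.AtPrime p)) =
          Ideal.span (Set.range fun i => algebraMap (MvPowerSeries (Fin r) k) (Localization.AtPrime p) (f i)) ∧
        Matrix.det (Matrix.of fun i j => D i (f j)) ∉ p,
     IsRegularLocalRing (Localization.AtPrime (p.map (Ideal.Quotient.mk q)))].TFAE := by
  classical
  let A := MvPowerSeries (Fin r) k
  haveI : IsRegularLocalRing A := Groth.Calg6.isRegularLocalRing_mvPowerSeries k r
  haveI : IsRegularRing A := Groth.Ega4b.isRegularRing_of_isRegularLocalRing A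
  haveI : IsNoetherianRing A := (inferInstance : IsRegularLocalRing A).toIsNoetherian
  have hA : CAlgX.IsAdicFormallySmooth k A (maximalIdeal A) := isAdicFormallySmooth_powerSeries k r
  have hAp : CAlgX.IsAdicFormallySmooth k (Localization.AtPrime p) (maximalIdeal (Localization.AtPrime p)) := by
    obtain ⟨c, _⟩ := ExpChar.exists k
    refine (Groth.Ega41Exist.isAdicFormallySmooth_iff_regular_baseChange c).mpr fun k' _ _ hfin _ => ?_
    exact Groth.Calg4.isGeometricallyRegular_localization p.primeCompl (Localization.AtPrime p)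
      (Groth.Agent.S4512.result hA).1 k' hfin
  obtain ⟨θ, hθ, hθker⟩ := Groth.Ega41Jac.exists_localizationQuotient (k := k) q p hqp _ rfl
  tfae_have 1 → 3 := Groth.Ega41Adic.isRegularLocalRing_of_isAdicFormallySmooth
  tfae_have 2 → 1 := by
    rintro ⟨m, D, f, -, hgen, hdet⟩
    exact Groth.Ega41Jac.isAdicFormallySmooth_of_det p.primeCompl θ hθ hAp f D (hθker.trans hgen)
      (IsLocalization.map_units (Localization.AtPrime p) (⟨_, hdet⟩ : p.primeCompl))
  tfae_have 3 → 2 := by
    intro hreg
    let R := MvPowerSeries (Fin r) k ⧸ p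
    let Q := MvPowerSeries (Fin s) k
    let π : A →+* R := Ideal.Quotient.mk p
    have hπ : Function.Surjective π := Ideal.Quotient.mk_surjective
    let g : Q →+* R := algebraMap Q R
    have hint : g.IsIntegral := algebraMap_isIntegral_iff.mpr (Algebra.IsIntegral.of_finite Q R)
    haveI : IsLocalRing R := IsLocalRing.of_surjective' π hπ
    haveI : IsLocalHom g := RingHom.IsIntegral.isLocalHom hint hinj
    have hg : ∀ i, g (MvPowerSeries.X i) ∈ maximalIdeal R := fun i hu => by
      have h1 := ((isUnit_map_iff g _).1 hu).map (MvPowerSeries.constantCoeff (σ := Fin s) (R := k))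
      rw [MvPowerSeries.constantCoeff_X] at h1
      exact not_isUnit_zero h1
    choose y hy using fun l : Fin s => hπ (g (MvPowerSeries.X l))
    obtain ⟨t, ht⟩ := ENat.ne_top_iff_exists.1 (Ideal.height_ne_top (I := p) Ideal.IsPrime.ne_top')
    have htd : t + s ≤ r := by
      have h1 := Groth.Ega4b.Jac.height_add_ringKrullDim_quotient_le p
      rw [Groth.Calg8.ringKrullDim_eq_of_integral Q R hinj, Groth.Calg6.ringKrullDim_mvPowerSeries,
        Groth.Calg6.ringKrullDim_mvPowerSeries, ← ht] at h1
      exact_mod_cast h1
    let D : ULift.{u} (Fin r) → Derivation k A A := fun i => MvPowerSeries.pderiv k i.down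
    obtain ⟨F, hF, hind⟩ := Groth.Ega41Jac.exists_rank_of_bound π hπ D (fun l : ULift.{u} (Fin s) => y l.down)
      (h := t) (by simpa using htd)
      (eq_zero_of_separable (L' := L') (L := L) π g
        (fun c => by
          show algebraMap Q R (algebraMap k Q c) = algebraMap A R (algebraMap k A c)
          rw [← IsScalarTower.algebraMap_apply, ← IsScalarTower.algebraMap_apply])
        hg (fun z => by rw [← IsScalarTower.algebraMap_apply Q L' L]; exact IsScalarTower.algebraMap_apply Q R L z)
        y hy)
    haveI : IsRegularLocalRing (Localization.AtPrime p) :=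
      Groth.Ega41Adic.isRegularLocalRing_of_isAdicFormallySmooth hAp
    haveI : IsRegularLocalRing (Localization.AtPrime p ⧸ q.map (algebraMap A (Localization.AtPrime p))) :=
      haveI := hreg
      IsRegularLocalRing.of_ringEquiv (R := Localization.AtPrime (p.map (Ideal.Quotient.mk q)))
        ((RingHom.quotientKerEquivOfSurjective (f := θ.toRingHom) hθ).symm.trans (Ideal.quotEquivOfEq hθker))
    obtain ⟨m, G, hG, hGgen, hGdim⟩ := Groth.Ega41Jac.exists_regular_generators p q
      (L := Localization.AtPrime p)
    have hker : RingHom.ker π = p := Ideal.mk_ker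
    haveI : (RingHom.ker π).IsPrime := hker.symm ▸ (inferInstance : p.IsPrime)
    haveI : IsLocalization.AtPrime (Localization.AtPrime p) (RingHom.ker π) := by
      simp only [hker]; infer_instance
    haveI : IsRegularLocalRing (Localization.AtPrime p ⧸
        Ideal.span (Set.range fun i => algebraMap A (Localization.AtPrime p) (G i))) := by
      rw [← hGgen]; infer_instance
    have hindG := Groth.Ega41Jac.linearIndependent_of_regular π hπ (Localization.AtPrime p) D F hF hind
      (by rw [hker, ← ht]) G (fun i => Ideal.Quotient.eq_zero_iff_mem.mpr (hqp (hG i))) (by rw [← hGgen]; exact hGdim)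
    obtain ⟨D', hdet⟩ := Groth.Ega41Jac.exists_det_of_linearIndependent π hπ D G hindG
    exact ⟨m, D', G, hG, hGgen, fun h => hdet (Ideal.Quotient.eq_zero_iff_mem.mpr h)⟩
  tfae_finish

end Groth.Agent.S4612
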