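import Groth.Statements.S4613
import Groth.Agent.HTopHyper.BlowUpProper
import Mathlib.AlgebraicGeometry.Morphisms.FinitePresentation
import Mathlib.AlgebraicGeometry.Morphisms.ClosedImmersion

set_option autoImplicit false
universe u
open AlgebraicGeometry CategoryTheory
open EGA41

namespace Groth.Agent.S4613

/-- For a closed immersion j : X → Y: j is locally of finite presentation if and only if its ideal sheaf
is of finite type, i.e. for every affine open U of Y the kernel of Γ(U, O_Y) → Γ(j⁻¹U, O_X) is
finitely generated. (An immersion with image closed in an open U reduces to this case.) -/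
theorem result {X Y : Scheme.{u}} (j : X ⟶ Y)
    [IsClosedImmersion j] :
    LocallyOfFinitePresentation j ↔ ∀ U : Y.affineOpens, (RingHom.ker (j.app U).hom).FG := by
  constructor
  · intro h U
    rw [← Scheme.Hom.ker_apply]
    exact Groth.HTopHyper.fg_ker_of_closedImmersion j U
  · intro h
    apply IsZariskiLocalAtTarget.of_iSup_eq_top (P := @LocallyOfFinitePresentation) (fun U : Y.affineOpens => (U : Y.Opens))
      (iSup_affineOpens_eq_top Y)
    intro U
    haveI : IsAffine (U : Y.Opens).toScheme := U.2
    haveI : IsAffine (j ⁻¹ᵁ (U : Y.Opens)).toScheme := U.2.preimage j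
    rw [HasRingHomProperty.iff_of_isAffine (P := @LocallyOfFinitePresentation), morphismRestrict_appTop]
    let W : Y.affineOpens := ⟨(U : Y.Opens).ι ''ᵁ ⊤, by rw [Scheme.Opens.ι_image_top]; exact U.2⟩
    refine (RingHom.finitePresentation_respectsIso).1 _ (X.presheaf.mapIso
      (eqToIso (image_morphismRestrict_preimage j (U : Y.Opens) ⊤)).op).commRingCatIsoToRingEquiv ?_
    exact RingHom.FinitePresentation.of_surjective _ (j.app_surjective W.1 W.2) (h W)

end Groth.Agent.S4613
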