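import Groth.Statements.S4616
import Groth.Agent.Ega41SymGr.PrimeField
import Groth.Agent.Ega41Sep.FieldPBasis
import Groth.Agent.Ega41Sep.Separable
import Groth.Agent.EGA41Two.KerMap
import Mathlib.LinearAlgebra.LinearIndependent.Lemmas

set_option autoImplicit false
universe u
open TensorProduct KaehlerDifferential IsLocalRing
open EGA41

namespace Groth.Agent.S4616

/-- A finite family independent over the intersection of a directed family of subfields is independent over
one of them. -/
theorem exists_independent {k ι σ : Type*} [Field k] [Preorder ι] [IsDirected ι (fun a b => a ≤ b)]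
    (L : ι → Subfield k) (hL : Antitone L) (v : σ → k) (α₀ : ι) (s : Finset σ)
    (hv : ∀ c : σ → k, (∀ i, c i ∈ ⨅ α, L α) → ∑ i ∈ s, c i * v i = 0 → ∀ i ∈ s, c i = 0) :
    ∃ α, α₀ ≤ α ∧ ∀ c : σ → k, (∀ i, c i ∈ L α) → ∑ i ∈ s, c i * v i = 0 → ∀ i ∈ s, c i = 0 := by
  classical
  induction s using Finset.induction_on with
  | empty => exact ⟨α₀, le_rfl, fun c _ _ i hi => absurd hi (Finset.notMem_empty i)⟩
  | insert a s ha ih =>
    obtain ⟨α₁, h₁, hα₁⟩ := ih fun c hc hsum i hi => by
      have := hv (fun j => if j ∈ s then c j else 0) (fun j => by split_ifs <;> [exact hc j; exact zero_mem _])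
        (by rw [Finset.sum_insert ha, if_neg ha, zero_mul, zero_add]
            rw [← hsum]; exact Finset.sum_congr rfl fun j hj => by rw [if_pos hj])
        i (Finset.mem_insert_of_mem hi)
      rwa [if_pos hi] at this
    by_contra hno
    simp only [not_exists, not_and, not_forall] at hno
    have key : ∀ α, α₁ ≤ α → ∃ c : σ → k, (∀ i, c i ∈ L α) ∧ c a = 1 ∧ v a + ∑ i ∈ s, c i * v i = 0 := by
      intro α hα
      obtain ⟨c, hc, hsum, i, hi, hci⟩ := hno α (h₁.trans hα)
      rw [Finset.sum_insert ha] at hsum
      by_cases hca : c a = 0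
      · rw [hca, zero_mul, zero_add] at hsum
        rcases Finset.mem_insert.mp hi with rfl | hi
        · exact absurd hca hci
        · exact absurd (hα₁ c (fun j => hL hα (hc j)) hsum i hi) hci
      · refine ⟨fun j => (c a)⁻¹ * c j, fun j => mul_mem (inv_mem (hc a)) (hc j), inv_mul_cancel₀ hca, ?_⟩
        have h2 : (c a)⁻¹ * (c a * v a + ∑ j ∈ s, c j * v j) = 0 := by rw [hsum, mul_zero]
        rw [mul_add, ← mul_assoc, inv_mul_cancel₀ hca, one_mul, Finset.mul_sum] at h2
        rw [← h2]
        exact congrArg _ (Finset.sum_congr rfl fun j _ => mul_assoc _ _ _)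
    obtain ⟨c, hc, hca, hsum⟩ := key α₁ le_rfl
    have hmem : ∀ i ∈ s, c i ∈ ⨅ α, L α := by
      intro i hi
      rw [Subfield.mem_iInf]
      intro α
      obtain ⟨β, hβ, hβ'⟩ := exists_ge_ge α₁ α
      obtain ⟨d, hd, hda, hdsum⟩ := key β hβ
      have h0 := hα₁ (fun j => c j - d j) (fun j => sub_mem (hc j) (hL hβ (hd j))) (by
        simp only [sub_mul, Finset.sum_sub_distrib]
        linear_combination hsum - hdsum) i hi
      rw [sub_eq_zero] at h0
      exact hL hβ' (h0 ▸ hd i)
    have := hv (fun j => if j ∈ insert a s then c j else 0) (fun j => by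
        split_ifs with hj
        · rcases Finset.mem_insert.mp hj with rfl | hj
          · rw [hca]; exact one_mem _
          · exact hmem j hj
        · exact zero_mem _) (by
        rw [Finset.sum_insert ha, if_pos (Finset.mem_insert_self a s), hca, one_mul, ← hsum]
        exact congrArg _ (Finset.sum_congr rfl fun j hj => by rw [if_pos (Finset.mem_insert_of_mem hj)]))
      a (Finset.mem_insert_self a s)
    rw [if_pos (Finset.mem_insert_self a s), hca] at this
    exact one_ne_zero this

variable {k : Type u} [Field k] (p : ℕ) [Fact p.Prime] [CharP k p]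

/-- Independent absolute differentials stay independent over some member of the family. -/
theorem exists_linearIndependent {ι : Type u} [Preorder ι] [IsDirected ι (fun a b => a ≤ b)] (kα : ι → Subfield k)
    (hanti : Antitone kα) (hint : ⨅ α, (kα α ⊔ (frobenius k p).fieldRange) = (frobenius k p).fieldRange)
    (α₀ : ι) {σ : Type u} [Finite σ] {x : σ → k} (hx : LinearIndependent k fun i => D ℤ k (x i)) :
    ∃ α, α₀ ≤ α ∧ LinearIndependent k fun i => D (kα α) k (x i) := by
  classical
  haveI : Fintype {e : σ →₀ ℕ // ∀ i, e i < p} :=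
    @Fintype.ofFinite _ (Finite.of_injective (fun e => fun i => (⟨e.1 i, e.2 i⟩ : Fin p)) fun e e' h =>
      Subtype.ext (Finsupp.ext fun i => congrArg Fin.val (congrFun h i)))
  let F := (frobenius k p).fieldRange
  have hD : ∀ f : F, D ℤ k (algebraMap F k f) = 0 := fun f => by
    obtain ⟨b, hb⟩ := f.2
    show D ℤ k (f : k) = 0
    rw [← hb, frobenius_def, Derivation.leibniz_pow, ← Nat.cast_smul_eq_nsmul k, CharP.cast_eq_zero, zero_smul]
  have hxF : LinearIndependent k fun i => D F k (x i) := by
    have := hx.map' (KaehlerDifferential.map ℤ F k k)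
      (LinearMap.ker_eq_bot.mpr (Groth.Ega41Sep.map_bijective_of_D_eq_zero ℤ F k hD).1)
    simpa [Function.comp_def] using this
  have hind : IsPIndependent p F x := Groth.Ega41Sep.isPIndependent_of_linearIndependent hxF
  obtain ⟨α, hα, hv⟩ := exists_independent (fun α => kα α ⊔ F) (fun a b h => sup_le_sup_right (hanti h) F)
    (fun e : {e : σ →₀ ℕ // ∀ i, e i < p} => pMonomial x e.1) α₀ Finset.univ (fun c hc hsum => by
      have hc' : ∀ e, c e ∈ pPowerSubalgebra p F k := fun e => by
        have h1 := hc e
        rw [hint] at h1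
        exact Subalgebra.algebraMap_mem _ (⟨c e, h1⟩ : F)
      have := Fintype.linearIndependent_iff.mp hind (fun e => ⟨c e, hc' e⟩) hsum
      exact fun e _ => congrArg Subtype.val (this e))
  refine ⟨α, hα, Groth.Ega41Sep.isPIndependent_iff_linearIndependent.mp (Fintype.linearIndependent_iff.mpr fun g hg e => ?_)⟩
  have hle : ∀ b ∈ pPowerSubalgebra p (kα α) k, b ∈ kα α ⊔ F := by
    intro b hb
    induction hb using Algebra.adjoin_induction with
    | mem b hb => obtain ⟨a, rfl⟩ := hb; exact (le_sup_right : F ≤ kα α ⊔ F) ⟨a, rfl⟩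
    | algebraMap r => exact (le_sup_left : kα α ≤ kα α ⊔ F) r.2
    | add a b _ _ ha hb => exact add_mem ha hb
    | mul a b _ _ ha hb => exact mul_mem ha hb
  exact Subtype.ext (hv (fun e => (g e : k)) (fun e => hle _ (g e).2) hg e (Finset.mem_univ e))

theorem eq_zero_of_forall_map {V : Type u} [AddCommGroup V] [Module k V] {ι : Type u} [Preorder ι]
    [IsDirected ι (fun a b => a ≤ b)] (kα : ι → Subfield k) (hanti : Antitone kα)
    (hint : ⨅ α, (kα α ⊔ (frobenius k p).fieldRange) = (frobenius k p).fieldRange) (α₀ : ι)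
    (z : V ⊗[k] Ω[k⁄ℤ]) (hz : ∀ α, α₀ ≤ α → (KaehlerDifferential.map ℤ (kα α) k k).lTensor V z = 0) : z = 0 := by
  classical
  obtain ⟨T, -, -, hTspan, hTi⟩ := exists_linearIndepOn_extension (v := D ℤ k)
    (linearIndepOn_empty k _) (Set.empty_subset Set.univ)
  have htop : ⊤ ≤ Submodule.span k (Set.range fun t : T => D ℤ k t.1) := by
    rw [← span_range_derivation ℤ k, ← Set.image_univ]
    refine Submodule.span_le.mpr (hTspan.trans (Submodule.span_mono ?_))
    rintro _ ⟨t, ht, rfl⟩
    exact ⟨⟨t, ht⟩, rfl⟩
  let b : Module.Basis T k Ω[k⁄ℤ] := Module.Basis.mk hTi htop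
  obtain ⟨c, rfl⟩ : ∃ c : T →₀ V, z = c.sum fun t v => v ⊗ₜ[k] b t :=
    ⟨TensorProduct.equivFinsuppOfBasisRight b z,
      ((TensorProduct.equivFinsuppOfBasisRight b).symm_apply_apply z).symm.trans
        (TensorProduct.equivFinsuppOfBasisRight_symm_apply b _)⟩
  have hsub : LinearIndependent k fun t : c.support => D ℤ k (t.1.1) :=
    hTi.linearIndependent.comp (fun t : c.support => t.1) Subtype.val_injective
  obtain ⟨α, hα, hli⟩ := exists_linearIndependent p kα hanti hint α₀ hsub
  have h := hz α hα
  obtain ⟨g, hg⟩ := LinearMap.exists_leftInverse_of_injective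
    (Finsupp.linearCombination k fun t : c.support => D (kα α) k (t.1.1)) (LinearMap.ker_eq_bot.mpr hli)
  have hgt : ∀ t : c.support, g (D (kα α) k (t.1.1)) = Finsupp.single t 1 := fun t => by
    have := LinearMap.congr_fun hg (Finsupp.single t 1)
    simpa using this
  suffices hs : c = 0 by simp [hs]
  ext t
  by_contra ht
  have htS : t ∈ c.support := Finsupp.mem_support_iff.mpr ht
  let φ : V ⊗[k] Ω[k⁄(kα α)] →ₗ[k] V :=
    (TensorProduct.rid k V).toLinearMap ∘ₗ ((Finsupp.lapply ⟨t, htS⟩).comp g).lTensor V
  have hb : ∀ s : T, b s = D ℤ k s.1 := fun s => by simp [b]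
  have h2 : φ ((KaehlerDifferential.map ℤ (kα α) k k).lTensor V (c.sum fun t v => v ⊗ₜ[k] b t)) = c t := by
    rw [Finsupp.sum, map_sum, map_sum, Finset.sum_eq_single t]
    · simp [φ, hb, hgt ⟨t, htS⟩]
    · intro s hs hne
      simp [φ, hb, hgt ⟨s, hs⟩, Finsupp.single_apply, hne]
    · exact fun hn => absurd htS hn
  rw [h, map_zero] at h2
  exact ht h2.symm

/-- Let k be a field of characteristic p > 0, A a local k-algebra with maximal ideal m and residue field
K, (k_α) a decreasing directed family of subfields of k with ⋂ k_α(k^p) = k^p. Then A is formally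
smooth over k for the m-adic topology if and only if the maps Sym^n_K(m/m²) → m^n/m^(n+1) are
bijective (n ≥ 1) and, for all large α, Ω_{k/k_α} ⊗_k K → Ω_{A/k_α} ⊗_A K is injective. -/
theorem result {k A : Type u}
    [Field k] (p : ℕ) [Fact p.Prime] [CharP k p] [CommRing A] [IsLocalRing A] [Algebra k A]
    {ι : Type u} [Preorder ι] [IsDirected ι (fun a b => a ≤ b)] [Nonempty ι] (kα : ι → Subfield k)
    (hanti : Antitone kα) (hint : ⨅ α, (kα α ⊔ (frobenius k p).fieldRange) = (frobenius k p).fieldRange) :
    CAlgX.IsAdicFormallySmooth k A (maximalIdeal A) ↔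
      (PP16.SymGrBijective A (maximalIdeal A) ∧ ∃ α₀ : ι, ∀ α : ι, α₀ ≤ α →
        Function.Injective ((mapBaseChange (kα α) k A).lTensor (ResidueField A))) := by
  rw [Groth.Ega41SymGr.isAdicFormallySmooth_field_iff]
  refine and_congr_right fun _ => ?_
  let K := ResidueField A
  let ω := fun α : ι => (KaehlerDifferential.map ℤ (kα α) k k).baseChange A
  have hsq : ∀ α, (KaehlerDifferential.map ℤ (kα α) A A) ∘ₗ mapBaseChange ℤ k A =
      mapBaseChange (kα α) k A ∘ₗ ω α := by
    intro α
    refine TensorProduct.AlgebraTensorModule.ext fun a η => ?_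
    induction (show η ∈ Submodule.span k (Set.range (D ℤ k)) by
        rw [span_range_derivation]; trivial) using Submodule.span_induction with
    | mem η hη =>
      obtain ⟨c, rfl⟩ := hη
      simp [ω, mapBaseChange_tmul, KaehlerDifferential.map_D]
    | zero => simp
    | add x y _ _ hx hy => rw [tmul_add, map_add, map_add, hx, hy]
    | smul c x _ hx => rw [tmul_smul, LinearMap.map_smul_of_tower, LinearMap.map_smul_of_tower, hx]
  have hcomm : ∀ α z, (mapBaseChange (kα α) k A).lTensor K ((ω α).lTensor K z) =
      (KaehlerDifferential.map ℤ (kα α) A A).lTensor K ((mapBaseChange ℤ k A).lTensor K z) := fun α z => by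
    rw [← LinearMap.lTensor_comp_apply, ← LinearMap.lTensor_comp_apply, hsq]
  constructor
  · intro hinj
    refine ⟨Classical.arbitrary ι, fun α _ => ?_⟩
    rw [injective_iff_map_eq_zero]
    intro w hw
    have hsur : Function.Surjective ((ω α).lTensor K) :=
      LinearMap.lTensor_surjective K (by
        show Function.Surjective ⇑((KaehlerDifferential.map ℤ (kα α) k k).baseChange A)
        rw [LinearMap.baseChange_eq_ltensor]
        exact LinearMap.lTensor_surjective A (KaehlerDifferential.map_surjective ℤ (kα α) k))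
    obtain ⟨z, rfl⟩ := hsur w
    rw [hcomm, ← LinearMap.baseChange_eq_ltensor] at hw
    have hspan := Groth.EGA41Two.mem_span_of_baseChange_map_eq_zero K hw
    have hle : Submodule.span K (Set.range fun s : kα α => (1 : K) ⊗ₜ[A] D ℤ A (algebraMap (kα α) A s)) ≤
        Submodule.map ((mapBaseChange ℤ k A).baseChange K) (LinearMap.ker ((ω α).baseChange K)) := by
      rw [Submodule.span_le]
      rintro _ ⟨s, rfl⟩
      refine ⟨(1 : K) ⊗ₜ[A] ((1 : A) ⊗ₜ[k] D ℤ k (algebraMap (kα α) k s)), ?_, ?_⟩
      · show (ω α).baseChange K _ = 0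
        simp [ω, KaehlerDifferential.map_D]
      · simp [mapBaseChange_tmul, KaehlerDifferential.map_D, ← IsScalarTower.algebraMap_apply]
    obtain ⟨u, hu, hu'⟩ := hle hspan
    have hzu : z = u := hinj (by rw [LinearMap.baseChange_eq_ltensor] at hu'; exact hu'.symm)
    rw [hzu]
    exact hu
  · rintro ⟨α₀, hα₀⟩
    rw [injective_iff_map_eq_zero]
    intro z hz
    let e := TensorProduct.AlgebraTensorModule.cancelBaseChange k A A K Ω[k⁄ℤ]
    suffices e z = 0 from (LinearEquiv.map_eq_zero_iff e).mp this
    refine eq_zero_of_forall_map p kα hanti hint α₀ _ fun α hα => ?_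
    have h1 : (ω α).lTensor K z = 0 := by
      refine hα₀ α hα ?_
      rw [hcomm, hz, map_zero, map_zero]
    let e' := TensorProduct.AlgebraTensorModule.cancelBaseChange k A A K Ω[k⁄(kα α)]
    have h2 : ∀ z, (KaehlerDifferential.map ℤ (kα α) k k).lTensor K (e z) = e' ((ω α).lTensor K z) := by
      intro z
      induction z using TensorProduct.induction_on with
      | zero => simp
      | add x y hx hy => simp only [map_add, hx, hy]
      | tmul c y =>
        induction y using TensorProduct.induction_on with
        | zero => simp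
        | add x y hx hy => simp only [tmul_add, map_add, hx, hy]
        | tmul a η => simp [e, e', ω]
    rw [h2, h1, map_zero]

end Groth.Agent.S4616
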