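import Groth.Statements.S4625
import Groth.Agent.FBaseGeom.Descent

set_option autoImplicit false
open CategoryTheory AlgebraicGeometry
universe u
open FBase

namespace Groth.Agent.S4625

/-- Let X be a scheme over a field k and K an extension field of k. Then X is geometrically connected
over k if and only if X ⊗_k K, with its structure of K-scheme, is geometrically connected over K. -/
theorem result {k K : Type u} [Field k] [Field K] [Algebra k K]
    {X : Scheme.{u}} (f : X ⟶ Spec (CommRingCat.of k)) :
    GeometricallyConnected f ↔ GeometricallyConnected (FBase.bcStr f K) := by
  have := Groth.FBaseGeom.surjective_specMap (k := k) (K := K)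
  exact ⟨fun h => MorphismProperty.pullback_snd (P := @GeometricallyConnected) _ _ h,
    fun h => Groth.FBaseGeom.geometricallyConnected_of_pullback_snd f _ h⟩

end Groth.Agent.S4625
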