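import Groth.Statements.S4629
import Groth.Agent.DescentBase.GeomReduced

set_option autoImplicit false
open CategoryTheory AlgebraicGeometry
universe u
open FBase

namespace Groth.Agent.S4629

open CategoryTheory.Limits in
/-- If X and Y are schemes over a field k which are both geometrically reduced over k, then X ×_k Y is
geometrically reduced over k. -/
theorem result {k : Type u} [Field k] {X Y : Scheme.{u}}
    (f : X ⟶ Spec (CommRingCat.of k)) (g : Y ⟶ Spec (CommRingCat.of k)) [GeometricallyReduced f]
    [GeometricallyReduced g] : GeometricallyReduced (pullback.fst f g ≫ f) := by
  exact Groth.DescentBase.geometricallyReduced_pullback f g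

end Groth.Agent.S4629
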