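import Groth.Statements.S4632
import Groth.Agent.DescentBase.QuasiFlat
import Groth.Agent.DescentBase.TopDescent

set_option autoImplicit false
open CategoryTheory AlgebraicGeometry
universe u
open FDesc

namespace Groth.Agent.S4632

open CategoryTheory.Limits in
/-- Let f : X → Y be a quasi-compact dominant morphism and g : Y' → Y a quasi-flat morphism (for
instance a flat one). Then the base change X ×_Y Y' → Y' is dominant. -/
theorem result {X Y Y' : Scheme.{u}} (f : X ⟶ Y) (g : Y' ⟶ Y)
    [QuasiCompact f] [IsDominant f] (hg : FDesc.IsQuasiFlat g) : IsDominant (pullback.snd f g) := by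
  rw [isDominant_iff, DenseRange, dense_iff_closure_eq,
    Groth.DescentBase.range_fst_eq (CategoryTheory.IsPullback.of_hasPullback f g).flip,
    ← Groth.DescentBase.preimage_closure_range g
      (Groth.DescentBase.generalizingMap_of_isQuasiFlat hg) f, f.denseRange.closure_range,
    Set.preimage_univ]

end Groth.Agent.S4632
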