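import Groth.Statements.S4633
import Groth.Agent.DescentBase.QuasiFlat
import Groth.Agent.FlatMorOne.FlatBaseChangeScheme
import Groth.Agent.QCohMod.SupportPullback
import Groth.Agent.QCohMod.PullbackQCoh

set_option autoImplicit false
open CategoryTheory AlgebraicGeometry
universe u
open FDesc

namespace Groth.Agent.S4633

open CategoryTheory.Limits in
/-- Quasi-flatness is stable under base change. -/
theorem isQuasiFlat_fst {X Y Y' : Scheme.{u}} (f : X ⟶ Y) (g : Y' ⟶ Y) (hg : FDesc.IsQuasiFlat g) :
    FDesc.IsQuasiFlat (pullback.fst f g) := by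
  obtain ⟨M, hM, hfl, hne⟩ := hg
  haveI : M.IsQuasicoherent := hM.1
  refine ⟨(Scheme.Modules.pullback (pullback.snd f g)).obj M,
    ⟨Groth.QCohMod.isQCoh_pullback_obj _ M, Groth.QCohMod.isFT_pullback _ _ hM.2⟩,
    Groth.FlatMorOne.isFlatOver_baseChange (IsPullback.of_hasPullback f g).flip M hfl, fun w => ?_⟩
  have hw : pullback.snd f g w ∈ CohB1.support M := by
    simp only [CohB1.support, Set.mem_ofPred_eq, not_subsingleton_iff_nontrivial]
    exact hne _
  have : w ∈ CohB1.support ((Scheme.Modules.pullback (pullback.snd f g)).obj M) := by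
    rw [Groth.QCohMod.support_pullback _ M hM.2]; exact hw
  simpa only [CohB1.support, Set.mem_ofPred_eq, not_subsingleton_iff_nontrivial] using this

/-- Generic points of components are the points without proper generalization. -/
theorem mem_irreducibleComponents_iff {X : Scheme.{u}} (x : X) :
    closure {x} ∈ irreducibleComponents X ↔ ∀ z, z ⤳ x → z = x := by
  refine ⟨fun h z hz => ?_, fun h => ⟨isIrreducible_singleton.closure, fun T hT hle => ?_⟩⟩
  · have : closure {z} ⊆ closure {x} := h.2 isIrreducible_singleton.closure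
      (closure_minimal (Set.singleton_subset_iff.2 hz.mem_closure) isClosed_closure)
    exact (hz.antisymm (specializes_iff_mem_closure.2 (this (subset_closure rfl)))).eq
  · obtain ⟨η, hη⟩ := QuasiSober.sober hT.closure isClosed_closure
    have hx : η ⤳ x := hη.specializes (subset_closure (hle (subset_closure rfl)))
    rw [h η hx] at hη
    exact subset_closure.trans hη.def.ge

theorem closure_image_eq {X Y : Scheme.{u}} (f : X ⟶ Y) (x : X) :
    closure (f.base '' closure {x}) = closure {f x} := by
  rw [closure_image_closure f.continuous, Set.image_singleton]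

open CategoryTheory.Limits in
theorem flat_snd_fst {X Y Y' T : Scheme.{u}} (f : X ⟶ Y) (g : Y' ⟶ Y) (t : T ⟶ Y)
    (h : Flat (pullback.snd f t)) : Flat (pullback.snd (pullback.snd f g) (pullback.fst g t)) := by
  haveI := h
  let e : pullback (pullback.snd f g) (pullback.fst g t) ≅ pullback (pullback.snd f t) (pullback.snd g t) :=
    pullbackLeftPullbackSndIso f g (pullback.fst g t) ≪≫
      pullback.congrHom rfl pullback.condition ≪≫ (pullbackLeftPullbackSndIso f t (pullback.snd g t)).symm
  have he : e.hom ≫ pullback.snd _ _ = pullback.snd (pullback.snd f g) (pullback.fst g t) := by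
    simp only [e, Iso.trans_hom, Iso.symm_hom, Category.assoc, pullbackLeftPullbackSndIso_inv_snd_snd,
      pullback.congrHom_hom, pullback.map, pullback.lift_snd, Category.comp_id, pullbackLeftPullbackSndIso_hom_snd]
  exact he ▸ inferInstance

open CategoryTheory.Limits in
/-- Let f : X → Y be a morphism such that every irreducible component of X dominates an irreducible
component of Y (the closure of its image under f is an irreducible component of Y), and let g : Y' →
Y be quasi-flat (for instance flat). Then every irreducible component of X ×_Y Y' dominates an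
irreducible component of Y'. -/
theorem result {X Y Y' : Scheme.{u}} (f : X ⟶ Y) (g : Y' ⟶ Y)
    (hf : ∀ Z ∈ irreducibleComponents ↥X, closure (⇑f '' Z) ∈ irreducibleComponents ↥Y)
    (hg : FDesc.IsQuasiFlat g) (Z' : Set ↥(pullback f g)) (hZ' : Z' ∈ irreducibleComponents ↥(pullback f g)) :
    closure (⇑(pullback.snd f g) '' Z') ∈ irreducibleComponents ↥Y' := by
  obtain ⟨w, rfl⟩ : ∃ w, Z' = closure {w} := ⟨_, (hZ'.1.isGenericPoint_genericPoint
    (isClosed_of_mem_irreducibleComponents Z' hZ')).def.symm⟩
  rw [mem_irreducibleComponents_iff] at hZ'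
  rw [closure_image_eq, mem_irreducibleComponents_iff]
  set p := CategoryTheory.Limits.pullback.fst f g
  set q := CategoryTheory.Limits.pullback.snd f g
  have hz : ∀ z, z ⤳ p w → z = p w := fun z hz => by
    obtain ⟨w', hw', rfl⟩ := Groth.DescentBase.generalizingMap_of_isQuasiFlat (isQuasiFlat_fst f g hg) hz
    exact congrArg _ (hZ' w' hw')
  have hy := hf _ ((mem_irreducibleComponents_iff (p w)).2 hz)
  rw [closure_image_eq, mem_irreducibleComponents_iff] at hy
  intro y₁ hy₁
  have hgy : g (q w) = f (p w) := by
    rw [← Scheme.Hom.comp_apply, ← Scheme.Hom.comp_apply, CategoryTheory.Limits.pullback.condition]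
  have h1 : g y₁ = f (p w) := hy _ (hgy ▸ hy₁.map g.continuous)
  -- lift inside the fibre over `f (p w)`
  let i := g.fiberι (f (p w))
  let t := Y.fromSpecResidueField (f (p w))
  obtain ⟨a₁, ha₁⟩ : y₁ ∈ Set.range i := by rw [Scheme.Hom.range_fiberι]; exact h1
  obtain ⟨a, ha⟩ : q w ∈ Set.range i := by rw [Scheme.Hom.range_fiberι]; exact hgy
  have hspec : a₁ ⤳ a := by
    rw [← (g.fiberι (f (p w))).isEmbedding.toIsInducing.specializes_iff]
    change i a₁ ⤳ i a
    rw [ha₁, ha]; exact hy₁
  let π := CategoryTheory.Limits.pullback.snd q i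
  haveI : Flat π := flat_snd_fst f g t inferInstance
  obtain ⟨b, hb, hb'⟩ := Scheme.Pullback.exists_preimage_pullback (f := q) (g := i) w a ha.symm
  have hgm : GeneralizingMap π.base := Flat.generalizingMap π
  obtain ⟨b₁, hb₁, he⟩ := hgm (show a₁ ⤳ π b from hb'.symm ▸ hspec)
  have h3 := hb₁.map (CategoryTheory.Limits.pullback.fst q i).continuous
  have h4 : CategoryTheory.Limits.pullback.fst q i b₁ ⤳ w :=
    (congrArg (fun z => CategoryTheory.Limits.pullback.fst q i b₁ ⤳ z) hb).mp h3
  have hw1 := hZ' _ h4
  show y₁ = q w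
  calc y₁ = i (π b₁) := ha₁.symm.trans (congrArg _ he.symm)
    _ = q (CategoryTheory.Limits.pullback.fst q i b₁) :=
      (congr($(CategoryTheory.Limits.pullback.condition (f := q) (g := i)) b₁)).symm
    _ = q w := congrArg _ hw1

end Groth.Agent.S4633
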