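import Groth.Statements.S4637
import Groth.Agent.SchemeMorphisms.MaxSupp
-- import your own Groth.Agent.* helpers here

set_option autoImplicit false
open CategoryTheory AlgebraicGeometry
universe u
open AssSch

namespace Groth.Agent.S4637

open CategoryTheory Limits AlgebraicGeometry TopologicalSpace Groth.SchemeMorphisms
set_option backward.isDefEq.respectTransparency false

/-- Let X be a locally Noetherian scheme, F a coherent O_X-module and x a point of X. Then x is the
generic point of an irreducible component of Supp F (F_x ≠ 0 and every point y with F_y ≠ 0 that
specialises to x equals x) if and only if F_x is a nonzero module of finite length over the local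
ring O_{X,x}. -/
theorem result {X : Scheme.{u}} [IsLocallyNoetherian X] (F : X.Modules)
    (hF : Coh.IsCoh F) (x : X) :
    (Nontrivial ↑(F.presheaf.stalk x) ∧ ∀ y : X, Nontrivial ↑(F.presheaf.stalk y) → y ⤳ x → y = x) ↔
      (Nontrivial ↑(F.presheaf.stalk x) ∧ IsFiniteLength ↑(X.presheaf.stalk x) ↑(F.presheaf.stalk x)) := by
  rw [← maximal_support_iff_isFiniteLength hF]
  simp only [CohB1.support, Set.mem_setOf_eq, not_subsingleton_iff_nontrivial]

end Groth.Agent.S4637
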