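import Groth.Statements.S4639
import Groth.Agent.DescentBase.TopDescent

set_option autoImplicit false
open CategoryTheory AlgebraicGeometry
universe u
open FDesc

namespace Groth.Agent.S4639

open CategoryTheory.Limits

/-- The property of being quasi-compact and universally bicontinuous (every base change is a
homeomorphism onto its image) descends along a surjective, flat and quasi-compact base change. -/
theorem result :
    MorphismProperty.DescendsAlong
      (MorphismProperty.universally (topologically (fun f => Topology.IsEmbedding f)) ⊓ @QuasiCompact : MorphismProperty Scheme.{u})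
      (@Surjective ⊓ @Flat ⊓ @QuasiCompact : MorphismProperty Scheme.{u}) := by
  refine ⟨fun {A X Y Z fst snd f g} h hf hfst => ?_⟩
  haveI : Surjective f := hf.1.1
  haveI : Flat f := hf.1.2
  haveI : QuasiCompact f := hf.2
  haveI : QuasiCompact fst := hfst.2
  haveI : QuasiCompact g := Groth.DescentBase.quasiCompact_of_isPullback h
  refine ⟨fun Y' Z' i₁ i₂ g' hsq => ?_, inferInstance⟩
  have hX := IsPullback.of_hasPullback f i₂
  have hA := IsPullback.of_hasPullback (Limits.pullback.snd f i₂) g'
  let a := h.lift (Limits.pullback.fst _ _ ≫ Limits.pullback.fst f i₂) (Limits.pullback.snd _ _ ≫ i₁)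
    (by rw [Category.assoc, hX.w, ← Category.assoc, hA.w, Category.assoc, Category.assoc, ← hsq.w])
  have h1 := hA.paste_vert hsq
  have h2 : IsPullback a (Limits.pullback.fst (Limits.pullback.snd f i₂) g') fst (Limits.pullback.fst f i₂) := by
    refine IsPullback.of_right ?_ (by simp [a]) h.flip
    rw [show a ≫ snd = _ from h.lift_snd _ _ _, hX.w]
    exact hA.flip.paste_horiz hsq.flip
  haveI : Surjective (Limits.pullback.snd f i₂) := inferInstance
  haveI : QuasiCompact (Limits.pullback.fst (Limits.pullback.snd f i₂) g') :=
    MorphismProperty.of_isPullback h2 (inferInstance : QuasiCompact fst)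
  exact Groth.DescentBase.isEmbedding_of_isPullback hA (AlgebraicGeometry.Flat.generalizingMap _)
    (hfst.1 _ _ _ h2.flip)

end Groth.Agent.S4639
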