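import Groth.Statements.S4640
import Mathlib.RingTheory.Flat.TorsionFree
import Mathlib.RingTheory.TensorProduct.Maps


set_option autoImplicit false
universe u
open FDesc

namespace Groth.Agent.S4640

open TensorProduct in
theorem _root_.Groth.FBaseGeom.tmul_one_injective (A K N : Type u) [CommRing A] [IsDomain A] [Field K] [Algebra A K]
    [IsFractionRing A K] [AddCommGroup N] [Module A N] [Module.Flat A N] :
    Function.Injective (fun n : N => (1 : K) ⊗ₜ[A] n) := by
  intro a b h
  have hinj : Function.Injective ((Algebra.linearMap A K).rTensor N) :=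
    Module.Flat.rTensor_preserves_injective_linearMap _ (IsFractionRing.injective A K)
  exact (TensorProduct.lid A N).symm.injective (hinj (by simpa using h))

open TensorProduct in
/-- Let A be a Dedekind domain with fraction field K, M an A-module and P' a K-submodule of K ⊗_A M. Let
φ : M → (K ⊗_A M)/P' be m ↦ class of 1 ⊗ m. Then a submodule Q of M equals ker φ if and only if M/Q
is a flat A-module and the kernel of the induced surjection K ⊗_A M → K ⊗_A (M/Q) is P'. Thus M/ker
φ is the unique flat quotient of M with generic fibre (K ⊗_A M)/P'. (The published statement takes A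
Noetherian, regular and of dimension 1; a field is allowed here, where the statement is immediate.) -/
theorem result {A K : Type u} [CommRing A] [IsDedekindDomain A] [Field K]
    [Algebra A K] [IsFractionRing A K] {M : Type u} [AddCommGroup M] [Module A M]
    (P' : Submodule K (K ⊗[A] M)) (Q : Submodule A M) :
    Q = LinearMap.ker ((P'.restrictScalars A).mkQ ∘ₗ TensorProduct.mk A K M 1) ↔
      (Module.Flat A (M ⧸ Q) ∧ LinearMap.ker (Q.mkQ.baseChange K) = P') := by
  let mk1 := TensorProduct.mk A K M 1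
  let φ := (P'.restrictScalars A).mkQ ∘ₗ mk1
  have hker : ∀ m, m ∈ LinearMap.ker φ ↔ mk1 m ∈ P' := fun m => by simp [φ, mk1]
  have hloc : ∀ z : K ⊗[A] M, ∃ (s : A) (m : M), s ≠ 0 ∧ s • z = (1 : K) ⊗ₜ[A] m := by
    intro z
    induction z with
    | zero => exact ⟨1, 0, one_ne_zero, by simp⟩
    | tmul c m =>
      obtain ⟨⟨a, s⟩, h⟩ := IsLocalization.surj (nonZeroDivisors A) c
      refine ⟨s, a • m, nonZeroDivisors.coe_ne_zero s, ?_⟩
      rw [TensorProduct.tmul_smul, TensorProduct.smul_tmul', TensorProduct.smul_tmul', Algebra.smul_def, Algebra.smul_def, mul_one,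
        mul_comm, h]
    | add v w hv hw =>
      obtain ⟨s, m, hs, hv⟩ := hv
      obtain ⟨t, n, ht, hw⟩ := hw
      refine ⟨s * t, t • m + s • n, mul_ne_zero hs ht, ?_⟩
      rw [smul_add, TensorProduct.tmul_add, TensorProduct.tmul_smul, TensorProduct.tmul_smul, ← hv, ← hw,
        smul_smul, smul_smul, mul_comm t s]
  have hbc : ∀ (N : Submodule A M) (z : K ⊗[A] M) (s : A) (m : M), s ≠ 0 → s • z = (1 : K) ⊗ₜ[A] m →
      (z ∈ LinearMap.ker (N.mkQ.baseChange K) ↔ (1 : K) ⊗ₜ[A] (N.mkQ m) = 0) := by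
    intro N z s m hs h
    have h' := congrArg (N.mkQ.baseChange K) h
    rw [LinearMap.map_smul_of_tower, LinearMap.baseChange_tmul] at h'
    rw [LinearMap.mem_ker, ← h']
    refine ⟨fun h0 => by rw [h0, smul_zero], fun h0 => ?_⟩
    rw [← IsScalarTower.algebraMap_smul K s] at h0
    exact (smul_eq_zero.mp h0).resolve_left (by simpa using hs)
  have hP : ∀ (z : K ⊗[A] M) (s : A) (m : M), s ≠ 0 → s • z = (1 : K) ⊗ₜ[A] m → (z ∈ P' ↔ mk1 m ∈ P') := by
    intro z s m hs h
    show _ ↔ (1 : K) ⊗ₜ[A] m ∈ P'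
    rw [← h, ← IsScalarTower.algebraMap_smul K s z, P'.smul_mem_iff (by simpa using hs)]
  constructor
  · rintro rfl
    have htor : Submodule.torsion A (M ⧸ LinearMap.ker φ) = ⊥ := by
      rw [eq_bot_iff]
      rintro x ⟨⟨a, ha⟩, hx⟩
      obtain ⟨m, rfl⟩ := Submodule.Quotient.mk_surjective _ x
      rw [Submonoid.mk_smul, ← Submodule.Quotient.mk_smul, Submodule.Quotient.mk_eq_zero, hker, map_smul,
        ← IsScalarTower.algebraMap_smul K a, P'.smul_mem_iff (by simpa using nonZeroDivisors.ne_zero ha)] at hx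
      rw [Submodule.mem_bot, Submodule.Quotient.mk_eq_zero, hker]
      exact hx
    haveI : Module.Flat A (M ⧸ LinearMap.ker φ) := IsDedekindDomain.flat_iff_torsion_eq_bot.2 htor
    refine ⟨inferInstance, ?_⟩
    ext z
    obtain ⟨s, m, hs, h⟩ := hloc z
    rw [hbc _ z s m hs h, hP z s m hs h, ← hker, ← Submodule.Quotient.mk_eq_zero (LinearMap.ker φ), Submodule.mkQ_apply]
    refine ⟨fun h0 => ?_, fun h0 => by rw [h0, TensorProduct.tmul_zero]⟩
    exact (Groth.FBaseGeom.tmul_one_injective A K (M ⧸ LinearMap.ker φ)) (h0.trans (TensorProduct.tmul_zero _ _).symm)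
  · rintro ⟨hflat, hQ⟩
    ext m
    rw [hker, ← hQ, hbc Q (mk1 m) 1 m one_ne_zero (one_smul _ _)]
    haveI := hflat
    rw [← Submodule.Quotient.mk_eq_zero Q, Submodule.mkQ_apply]
    refine ⟨fun h0 => by rw [h0, TensorProduct.tmul_zero], fun h0 => ?_⟩
    exact (Groth.FBaseGeom.tmul_one_injective A K (M ⧸ Q)) (h0.trans (TensorProduct.tmul_zero _ _).symm)

end Groth.Agent.S4640
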