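import Groth.Statements.S4641
import Groth.Agent.SchemeMorphisms.Ass
import Groth.Agent.Divisors.AssocNzd
import Mathlib.RingTheory.Flat.TorsionFree
import Mathlib.RingTheory.Ideal.AssociatedPrime.Finiteness
import Mathlib.RingTheory.Ideal.AssociatedPrime.Localization
-- import your own Groth.Agent.* helpers here

set_option autoImplicit false
open CategoryTheory AlgebraicGeometry
universe u
open AssSch

namespace Groth.Agent.S4641


/-- The maximal ideal of a Noetherian local ring all of whose elements kill a nonzero element is associated. -/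
theorem maximalIdeal_mem_associatedPrimes {R : Type u} [CommRing R] [IsLocalRing R] [IsNoetherianRing R]
    (h : ∀ r ∈ IsLocalRing.maximalIdeal R, r ∉ nonZeroDivisors R) :
    IsLocalRing.maximalIdeal R ∈ associatedPrimes R R := by
  have hsub : (IsLocalRing.maximalIdeal R : Set R) ⊆
      ⋃ p ∈ (associatedPrimes.finite R R).toFinset, ((id p : Ideal R) : Set R) := by
    intro r hr
    have hr' : r ∈ ⋃ p ∈ associatedPrimes R R, (p : Set R) := by
      rw [biUnion_associatedPrimes_eq_compl_nonZeroDivisors]
      exact h r hr
    simpa using hr'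
  obtain ⟨p, hp, hle⟩ := (Ideal.subset_union_prime (f := id) ⊥ ⊥ (fun p hp _ _ =>
    ((associatedPrimes.finite R R).mem_toFinset.mp hp).isPrime)).mp hsub
  have hp' := (associatedPrimes.finite R R).mem_toFinset.mp hp
  exact (IsLocalRing.maximalIdeal.isMaximal R).eq_of_le hp'.isPrime.ne_top hle ▸ hp'

/-- The image of an associated point of a flat module is associated. -/
theorem map_mem_ass {X Y : Scheme.{u}} (f : X ⟶ Y) [IsLocallyNoetherian Y] (F : X.Modules)
    (hfl : FlatMod.IsFlatOver f F) {x : X} (hx : x ∈ AssSch.Ass F) :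
    f x ∈ AssSch.Ass (Coh.structureModule Y) := by
  obtain ⟨hp, n, hn⟩ := hx
  letI := FlatMod.moduleStalkOver f F x
  haveI : Module.Flat (Y.presheaf.stalk (f x)) (F.presheaf.stalk x) := hfl x
  have hassR : IsLocalRing.maximalIdeal (Y.presheaf.stalk (f x)) ∈
      associatedPrimes (Y.presheaf.stalk (f x)) (Y.presheaf.stalk (f x)) := by
    refine maximalIdeal_mem_associatedPrimes fun r hr hreg => ?_
    have hmem : (f.stalkMap x).hom r ∈ IsLocalRing.maximalIdeal (X.presheaf.stalk x) :=
      map_nonunit (f.stalkMap x).hom r hr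
    rw [hn, Ideal.mem_radical_iff] at hmem
    obtain ⟨k, hk⟩ := hmem
    rw [Submodule.mem_colon_singleton, Submodule.mem_bot, ← map_pow] at hk
    have hreg' : IsSMulRegular (F.presheaf.stalk x) (r ^ k) := by
      apply Module.Flat.isSMulRegular_of_isRegular
      exact ⟨isRegular_iff_mem_nonZeroDivisors.mpr (pow_mem hreg k) |>.left,
        isRegular_iff_mem_nonZeroDivisors.mpr (pow_mem hreg k) |>.right⟩
    have h0 : n = 0 := hreg' (show r ^ k • n = r ^ k • (0 : F.presheaf.stalk x) from hk.trans (smul_zero _).symm)
    apply (IsLocalRing.maximalIdeal.isMaximal (X.presheaf.stalk x)).ne_top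
    rw [hn, Ideal.eq_top_iff_one, h0]
    exact ⟨1, by simp⟩
  obtain ⟨_, ⟨V, hV, rfl⟩, hxV, -⟩ :=
    Y.isBasis_affineOpens.exists_subset_of_mem_open (Set.mem_univ (f x)) isOpen_univ
  rw [Groth.SchemeMorphisms.mem_ass_iff (Groth.Divisors.isQCoh_structureModule Y) hV hxV]
  haveI : IsNoetherianRing Γ(Y, V) := IsLocallyNoetherian.component_noetherian ⟨V, hV⟩
  letI := Y.presheaf.algebra_section_stalk ⟨f x, hxV⟩
  haveI := hV.isLocalization_stalk ⟨f x, hxV⟩
  have h := Module.associatedPrimes.comap_mem_associatedPrimes_of_mem_associatedPrimes_of_isLocalizedModule_of_fg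
    (hV.primeIdealOf ⟨f x, hxV⟩).asIdeal.primeCompl (Algebra.linearMap Γ(Y, V) (Y.presheaf.stalk (f x)))
    _ hassR (IsNoetherian.noetherian _)
  rw [show (IsLocalRing.maximalIdeal (Y.presheaf.stalk (f x))).comap (algebraMap Γ(Y, V) (Y.presheaf.stalk (f x))) =
    (hV.primeIdealOf ⟨f x, hxV⟩).asIdeal from IsLocalization.AtPrime.comap_maximalIdeal _ _] at h
  exact h

/-- Every point lies in the support of the structure sheaf. -/
theorem mem_support_structureModule {Y : Scheme.{u}} (y : Y) :
    y ∈ CohB1.support (Coh.structureModule Y) := by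
  intro h
  have h' : (Coh.structureModule Y).presheaf.germ ⊤ y trivial (show Γ(Coh.structureModule Y, ⊤) from (1 : Γ(Y, ⊤))) = 0 :=
    Subsingleton.elim _ _
  rw [Groth.Divisors.structure_germ_eq_zero_iff] at h'
  exact one_ne_zero ((map_one _).symm.trans h')


/-- Let f : X → Y be a morphism of locally Noetherian schemes such that Y has no embedded associated
points, and let F be a quasi-coherent O_X-module which is flat over Y. Then for every associated
point x of F, f(x) is a maximal point of Y (every point of Y specialising to f(x) equals f(x)). (The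
published statement assumes only Y locally Noetherian; X is taken locally Noetherian here so that
associated points are those whose maximal ideal is an annihilator.) -/
theorem result {X Y : Scheme.{u}} (f : X ⟶ Y) [IsLocallyNoetherian X]
    [IsLocallyNoetherian Y] (hY : AssSch.NoEmbedded (Coh.structureModule Y)) (F : X.Modules) (hF : Coh.IsQCoh F)
    (hfl : FlatMod.IsFlatOver f F) (x : X) (hx : x ∈ AssSch.Ass F) (y : Y) (hy : y ⤳ f x) : y = f x := by
  have h1 := map_mem_ass f F hfl hx
  have hy' : y ∈ CohB1.support (Coh.structureModule Y) := mem_support_structureModule y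
  obtain ⟨w, hw, hwy⟩ := Groth.SchemeMorphisms.exists_ass_specializes (Groth.Divisors.isQCoh_structureModule Y) hy'
  have he : f x = w := hY (f x) h1 w hw (hwy.trans hy)
  exact (hy.antisymm (he ▸ hwy)).eq

end Groth.Agent.S4641
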