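import Groth.Statements.S4645
import Groth.Agent.FBaseGeom.SepLevel

set_option autoImplicit false
open CategoryTheory AlgebraicGeometry
universe u
open FBase

namespace Groth.Agent.S4645

/-- Let X be a scheme over a field k with finitely many connected components, each of which contains a
point x such that the separable algebraic closure of k in κ(x) has finite degree over k. Then there
is a finite separable extension k'' of k such that all connected components of X ⊗_k k'' are
geometrically connected over k'': for every extension field K of k'' and every point x' of X ⊗_k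
k'', the inverse image in (X ⊗_k k'') ⊗_{k''} K of the connected component of x' is connected. -/
theorem result {k : Type u} [Field k] {X : Scheme.{u}}
    (f : X ⟶ Spec (CommRingCat.of k)) [Finite (_root_.ConnectedComponents ↥X)]
    (hx : ∀ c : _root_.ConnectedComponents ↥X, ∃ x : X, _root_.ConnectedComponents.mk x = c ∧
      FBase.ResidueFieldProp f x (fun K _ _ => FiniteDimensional k (separableClosure k K))) :
    ∃ (k'' : Type u) (_ : Field k'') (_ : Algebra k k''), FiniteDimensional k k'' ∧ Algebra.IsSeparable k k'' ∧
      ∀ (K : Type u) [Field K] [Algebra k'' K] (x' : ↥(FBase.bc f k'')),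
        _root_.IsConnected (⇑(FBase.bcπ (FBase.bcStr f k'') K) ⁻¹' connectedComponent x') := by
  letI : X.Over (Spec (CommRingCat.of k)) := ⟨f⟩
  choose x hxc hxp using hx
  have hfin : ∀ c, (letI := Curv2.resAlgebra k X (x c);
      FiniteDimensional k (separableClosure k (X.residueField (x c)))) := by
    intro c
    obtain ⟨φ, hφ, hP⟩ := hxp c
    revert hP
    change (letI := φ.toAlgebra; FiniteDimensional k (separableClosure k (X.residueField (x c)))) → _
    rw [Groth.FBaseGeom.toAlgebra_eq_resAlgebra (x c) φ hφ]
    exact id
  obtain ⟨E, hE, h⟩ := Groth.FBaseGeom.exists_sepClosedAt_level x hfin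
  refine ⟨E, inferInstance, inferInstance, hE, inferInstance, fun K _ _ x' => ?_⟩
  refine Groth.FBaseGeom.isConnected_preimage_component_level E x'
    (x (ConnectedComponents.mk (Curv2.bcFst k X E x'))) ?_ (fun z hz => h _ z hz) K
  rw [← ConnectedComponents.coe_eq_coe']
  exact hxc _

end Groth.Agent.S4645
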