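import Groth.Statements.S4646
import Groth.Agent.FBaseGeom.SepLevel

set_option autoImplicit false
open CategoryTheory AlgebraicGeometry
universe u
open FBase

namespace Groth.Agent.S4646

/-- Let X be a scheme over a field k having finitely many irreducible components, such that for the
generic point x of each irreducible component the separable algebraic closure of k in κ(x) has
finite degree over k. Then there is a finite separable extension L of k such that all irreducible
components of X ⊗_k L are geometrically irreducible over L: for every extension field K of L and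
every irreducible component Z' of X ⊗_k L, the inverse image of Z' in (X ⊗_k L) ⊗_L K is
irreducible. (No finite-type hypothesis on X.) -/
theorem result {k : Type u} [Field k] {X : Scheme.{u}}
    (f : X ⟶ Spec (CommRingCat.of k)) [Finite ↥(irreducibleComponents ↥X)]
    (hx : ∀ (Z : Set ↥X) (hZ : Z ∈ irreducibleComponents ↥X),
      FBase.ResidueFieldProp f hZ.1.genericPoint (fun K _ _ => FiniteDimensional k (separableClosure k K))) :
    ∃ (L : Type u) (_ : Field L) (_ : Algebra k L), FiniteDimensional k L ∧ Algebra.IsSeparable k L ∧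
      ∀ (K : Type u) [Field K] [Algebra L K] (Z' : Set ↥(FBase.bc f L)), Z' ∈ irreducibleComponents ↥(FBase.bc f L) →
        IsIrreducible (⇑(FBase.bcπ (FBase.bcStr f L) K) ⁻¹' Z') := by
  letI : X.Over (Spec (CommRingCat.of k)) := ⟨f⟩
  let x : ↥(irreducibleComponents ↥X) → X := fun Z => Z.2.1.genericPoint
  have hfin : ∀ Z, (letI := Curv2.resAlgebra k X (x Z);
      FiniteDimensional k (separableClosure k (X.residueField (x Z)))) := by
    intro Z
    obtain ⟨φ, hφ, hP⟩ := hx Z.1 Z.2
    revert hP
    change (letI := φ.toAlgebra; FiniteDimensional k (separableClosure k (X.residueField (x Z)))) → _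
    rw [Groth.FBaseGeom.toAlgebra_eq_resAlgebra (x Z) φ hφ]
    exact id
  obtain ⟨E, hE, h⟩ := Groth.FBaseGeom.exists_sepClosedAt_level x hfin
  refine ⟨E, inferInstance, inferInstance, hE, inferInstance, fun K _ _ Z' hZ' => ?_⟩
  let : (Curv2.bc k X E).Over (Spec (CommRingCat.of E)) := ⟨Curv2.bcSnd k X E⟩
  obtain ⟨z, hz⟩ := QuasiSober.sober hZ'.1 (isClosed_of_mem_irreducibleComponents Z' hZ')
  obtain ⟨Z, hZ, hg⟩ := Groth.FBaseGeom.exists_component_bcFst E hZ' hz
  have hirr := Groth.VarietyBC.isIrreducible_preimage_of_sepClosedAt K (h ⟨Z, hZ⟩ z hg.symm)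
  have e := (Groth.VarietyBC.isOpenMap_bcFst (k := E) (X := Curv2.bc k X E) K).preimage_closure_eq_closure_preimage
    (Curv2.bcFst E (Curv2.bc k X E) K).continuous ({z} : Set (Curv2.bc k X E))
  have hd : (closure {z} : Set (Curv2.bc k X E)) = Z' := hz.def
  change IsIrreducible (Curv2.bcFst E (Curv2.bc k X E) K ⁻¹' Z')
  rw [← hd]
  erw [e]
  exact hirr.closure

end Groth.Agent.S4646
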