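import Groth.Statements.S4647
import Groth.Agent.FBaseGeom.PtIntegral

set_option autoImplicit false
open CategoryTheory AlgebraicGeometry
universe u
open FDesc

namespace Groth.Agent.S4647

/-- Let f : X → Y be a faithfully flat (flat and surjective) morphism. If all local rings of X are
domains (in particular if X is locally integral) and the underlying space of Y is locally
Noetherian, then Y is locally integral: every point of Y has an open neighbourhood which is an
integral scheme. -/
theorem result {X Y : Scheme.{u}} (f : X ⟶ Y) [Flat f] [Surjective f]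
    (hX : ∀ x : X, IsDomain ↑(X.presheaf.stalk x))
    (hY : ∀ y : Y, ∃ U : Y.Opens, y ∈ U ∧ TopologicalSpace.NoetherianSpace ↥U) (y : Y) :
    ∃ U : Y.Opens, y ∈ U ∧ IsIntegral (U : Scheme.{u}) := by
  have hdom : ∀ z : Y, IsDomain (Y.presheaf.stalk z) := by
    intro z
    obtain ⟨x, rfl⟩ := f.surjective z
    haveI := hX x
    exact Groth.FBaseGeom.isDomain_stalk_of_flat f x rfl
  obtain ⟨U, hyU, hU⟩ := hY y
  haveI := hdom y
  let η : Y := Y.fromSpecStalk y (⟨⊥, Ideal.isPrime_bot⟩ : PrimeSpectrum (Y.presheaf.stalk y))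
  have hη : ∀ z : Y, z ⤳ y → η ⤳ z := by
    intro z hz
    obtain ⟨q, rfl⟩ := (Y.range_fromSpecStalk (x := y)).ge hz
    exact ((PrimeSpectrum.le_iff_specializes (⟨⊥, Ideal.isPrime_bot⟩ : PrimeSpectrum (Y.presheaf.stalk y)) q).1
      bot_le).map (Y.fromSpecStalk y).continuous
  have hηy : η ⤳ y := (Y.range_fromSpecStalk (x := y)).le ⟨_, rfl⟩
  haveI : TopologicalSpace.NoetherianSpace ↥U := hU
  let S : Set (Set ↥U) := {Z | Z ∈ irreducibleComponents ↥U ∧ (⟨y, hyU⟩ : ↥U) ∉ Z}
  have hS : IsClosed (⋃ Z ∈ S, Z) :=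
    (TopologicalSpace.NoetherianSpace.finite_irreducibleComponents.subset fun Z hZ => hZ.1).isClosed_biUnion
      fun Z hZ => isClosed_of_mem_irreducibleComponents Z hZ.1
  let V : Y.Opens := ⟨Subtype.val '' (⋃ Z ∈ S, Z)ᶜ,
    U.isOpen.isOpenMap_subtype_val _ hS.isOpen_compl⟩
  have hyV : y ∈ V := ⟨⟨y, hyU⟩, fun h => by
    obtain ⟨Z, hZ, hyZ⟩ := Set.mem_iUnion₂.1 h
    exact hZ.2 hyZ, rfl⟩
  have hηV : η ∈ V := hηy.mem_open V.isOpen hyV
  have hVcl : (V : Set Y) ⊆ closure {η} := by
    rintro _ ⟨z, hz, rfl⟩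
    let Z := irreducibleComponent z
    have hZ : Z ∈ irreducibleComponents ↥U := irreducibleComponent_mem_irreducibleComponents z
    have hyZ : (⟨y, hyU⟩ : ↥U) ∈ Z := by
      by_contra h
      exact hz (Set.mem_iUnion₂.2 ⟨Z, ⟨hZ, h⟩, mem_irreducibleComponent⟩)
    have hirr : IsIrreducible (Subtype.val '' Z : Set Y) := hZ.1.image _ continuous_subtype_val.continuousOn
    obtain ⟨ζ, hζ⟩ := QuasiSober.sober hirr.closure isClosed_closure
    have hζy : ζ ⤳ y := hζ.specializes (subset_closure ⟨_, hyZ, rfl⟩)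
    exact specializes_iff_mem_closure.1
      ((hη ζ hζy).trans (hζ.specializes (subset_closure ⟨_, mem_irreducibleComponent, rfl⟩)))
  haveI : IrreducibleSpace ↥(V : Scheme.{u}) := by
    have hirr : IsIrreducible (V : Set Y) :=
      ⟨⟨η, hηV⟩, (isIrreducible_singleton.closure.isPreirreducible.open_subset V.isOpen hVcl)⟩
    exact Subtype.irreducibleSpace hirr
  haveI : IsReduced (V : Scheme.{u}) := by
    haveI : ∀ v : ↥(V : Scheme.{u}), _root_.IsReduced ((V : Scheme.{u}).presheaf.stalk v) := fun v =>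
      haveI := hdom v.1
      isReduced_of_injective (V.stalkIso v).hom.hom (ConcreteCategory.bijective_of_isIso (V.stalkIso v).hom).1
    exact isReduced_of_isReduced_stalk _
  exact ⟨V, hyV, isIntegral_of_irreducibleSpace_of_isReduced _⟩

end Groth.Agent.S4647
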