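import Groth.Statements.S4648
import Groth.Agent.S15542
import Groth.Agent.S3398
import Groth.Agent.S2495
import Groth.Agent.Misc8.SubtrCore

set_option autoImplicit false
open CategoryTheory AlgebraicGeometry
universe u
open FDesc

namespace Groth.Agent.S4648

/-- Let f : X → Y be a quasi-flat, surjective and quasi-compact morphism and Z a subset of Y. Then Z is
a locally closed pro-constructible subset of Y if and only if f⁻¹(Z) is a locally closed
pro-constructible subset of X. -/
theorem result {X Y : Scheme.{u}} (f : X ⟶ Y)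
    (hf : FDesc.IsQuasiFlat f) [Surjective f] [QuasiCompact f] (Z : Set ↥Y) :
    (IsLocallyClosed Z ∧ ProCons.IsProConstructible Z) ↔
      (IsLocallyClosed (⇑f ⁻¹' Z) ∧ ProCons.IsProConstructible (⇑f ⁻¹' Z)) := by
  refine ⟨fun h => ⟨h.1.preimage f.continuous, Groth.Agent.S15542.result f Z h.2⟩, fun h => ?_⟩
  have hP : ProCons.IsProConstructible Z := by
    have := Groth.Agent.S3398.result f _ h.2
    rwa [Set.image_preimage_eq _ f.surjective] at this
  refine ⟨?_, hP⟩
  have hq := Groth.Agent.S2495.result f hf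
  have hgen := Groth.DescentBase.generalizingMap_of_isQuasiFlat hf
  have hcl : f.base ⁻¹' closure Z = closure (f.base ⁻¹' Z) := by
    refine Set.Subset.antisymm (fun x hx => ?_) (f.continuous.closure_preimage_subset Z)
    obtain ⟨y', hy', hyZ⟩ := Groth.Misc8.Subtr.exists_specializes_of_mem_closure_proCons hP hx
    obtain ⟨x', hx', he⟩ := hgen hy'
    exact hx'.mem_closed isClosed_closure (subset_closure (show f x' ∈ Z from he.symm ▸ hyZ))
  obtain ⟨O, hO, hOZ⟩ : ∃ O : Set X, IsOpen O ∧ f.base ⁻¹' Z = O ∩ closure (f.base ⁻¹' Z) := by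
    obtain ⟨O, C, hO, hC, e⟩ := h.1
    refine ⟨O, hO, Set.Subset.antisymm (fun x hx => ⟨(e.le hx).1, subset_closure hx⟩) fun x hx => ?_⟩
    exact e.ge ⟨hx.1, closure_minimal (e.le.trans Set.inter_subset_right) hC hx.2⟩
  refine ⟨(closure Z \ Z)ᶜ, closure Z, ?_, isClosed_closure, ?_⟩
  · rw [isOpen_compl_iff, ← hq.isClosed_preimage]
    have : f.base ⁻¹' (closure Z \ Z) = closure (f.base ⁻¹' Z) ∩ Oᶜ := by
      rw [Set.preimage_sdiff, hcl]
      ext x
      have := Set.ext_iff.mp hOZ x
      simp only [Set.mem_sdiff, Set.mem_inter_iff, Set.mem_compl_iff] at this ⊢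
      tauto
    rw [this]
    exact isClosed_closure.inter hO.isClosed_compl
  · ext y
    simp only [Set.mem_inter_iff, Set.mem_compl_iff, Set.mem_sdiff]
    exact ⟨fun hy => ⟨fun h => h.2 hy, subset_closure hy⟩, fun ⟨h1, h2⟩ => by_contra fun h3 => h1 ⟨h2, h3⟩⟩

end Groth.Agent.S4648
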