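import Groth.Statements.S4649
import Groth.Agent.GeomComp.PtIntegralComponents

set_option autoImplicit false
open CategoryTheory AlgebraicGeometry
universe u
open FBase

namespace Groth.Agent.S4649

/-- Let X be a scheme of finite type over a field k and Ω an algebraically closed extension field of k.
Then X is geometrically pointwise integral over k (every local ring of every X ⊗_k K is a domain) if
and only if X is geometrically reduced over k and the number of irreducible components of X ⊗_k Ω
equals the number of connected components of X ⊗_k Ω (the geometric numbers of irreducible and of
connected components agree). -/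
theorem result {k Ω : Type u} [Field k] [Field Ω] [Algebra k Ω] [IsAlgClosed Ω]
    {X : Scheme.{u}} (f : X ⟶ Spec (CommRingCat.of k)) [LocallyOfFiniteType f] [QuasiCompact f] :
    (∀ x : X, FBase.IsGeomPtIntegralAt f x) ↔
      (GeometricallyReduced f ∧
        Nat.card ↥(irreducibleComponents ↥(FBase.bc f Ω)) = Nat.card (_root_.ConnectedComponents ↥(FBase.bc f Ω))) := by
  exact Groth.GeomComp.PtIntegral.forall_isGeomPtIntegralAt_iff Ω f

end Groth.Agent.S4649
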