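import Groth.Statements.S4652
import Groth.Agent.PropsBasic.LocFree
import Groth.Agent.LocFree.Affine
import Groth.Agent.LocFree.Basic
import Groth.Agent.SchemeMorphisms.AssRestrict

set_option autoImplicit false
set_option linter.style.haveILetI false
open CategoryTheory AlgebraicGeometry
universe u
open FDesc

namespace Groth.Agent.S4652

set_option backward.isDefEq.respectTransparency.types false

/-- Let X be a scheme, F a finitely presented O_X-module and x a point of X. Then F_x is a flat module
over the local ring O_{X,x} if and only if x has an open neighbourhood U such that the restriction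
of F to U is finite locally free. -/
theorem result {X : Scheme.{u}} (F : X.Modules) (hF : CohB1.IsFP F) (x : X) :
    FlatMod.IsFlatAt F x ↔ ∃ U : X.Opens, x ∈ U ∧ FlatMod.IsFinLocFree ((Scheme.Modules.pullback U.ι).obj F) := by
  haveI : SheafOfModules.IsFinitePresentation.{u} (R := X.ringCatSheaf) F := hF
  haveI : SheafOfModules.IsQuasicoherent.{u} (R := X.ringCatSheaf) F := inferInstance
  constructor
  · intro hflat
    obtain ⟨V, hV, hxV⟩ := Groth.QCohMod.exists_affine_mem x
    haveI : Module.Flat (X.presheaf.stalk x) (F.presheaf.stalk x) := hflat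
    haveI := Groth.PropsBasic.FPSections.finitePresentation_sections F hF hV
    obtain ⟨D, n, hxD, ⟨e⟩⟩ := Groth.PropsBasic.LocFree.exists_free_nhd F hF x
      (Groth.LocFree.free_stalk_of_flat hV hxV)
    exact ⟨D, hxD, Groth.KTheory.LocFree.isFinLocFree_of_iso
      (e.symm ≪≫ (Scheme.Modules.restrictFunctorIsoPullback D.ι).app F)
      (Groth.LocFree.isFinLocFree_freeMod _ n)⟩
  · rintro ⟨U, hxU, hU⟩
    have h := Groth.KTheory.LocFree.isFinLocFree_of_iso
      ((Scheme.Modules.restrictFunctorIsoPullback U.ι).app F).symm hU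
    haveI := Groth.PropsBasic.LocFree.free_stalk _ h ⟨x, hxU⟩
    letI σ : (U : Scheme.{u}).presheaf.stalk ⟨x, hxU⟩ ≃+* X.presheaf.stalk x :=
      (asIso (U.ι.stalkMap ⟨x, hxU⟩)).symm.commRingCatIsoToRingEquiv
    haveI := RingHomInvPair.of_ringEquiv σ
    haveI := RingHomInvPair.of_ringEquiv σ.symm
    let e : ((Scheme.Modules.restrictFunctor U.ι).obj F).presheaf.stalk ⟨x, hxU⟩
        ≃ₛₗ[(σ : (U : Scheme.{u}).presheaf.stalk ⟨x, hxU⟩ →+* X.presheaf.stalk x)]
        F.presheaf.stalk x :=
      { Groth.SchemeMorphisms.restrictStalkEquiv U.ι F ⟨x, hxU⟩ with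
        map_smul' := fun a z =>
          Groth.SchemeMorphisms.restrictStalkEquiv_smul U.ι F ⟨x, hxU⟩ a z }
    haveI : Module.Free (X.presheaf.stalk x) (F.presheaf.stalk x) := Module.Free.of_equiv e
    show Module.Flat (X.presheaf.stalk x) (F.presheaf.stalk x)
    infer_instance

end Groth.Agent.S4652
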