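import Groth.Statements.S4653
import Groth.Agent.FBaseGeom.AssTensor
import Groth.Agent.FBaseGeom.SuppGoingDown
import Groth.Agent.SchemeMorphisms.Ass

set_option autoImplicit false
open CategoryTheory AlgebraicGeometry
universe u
open FDesc

namespace Groth.Agent.S4653

/-- Let f : X → Y be a morphism of schemes, F a quasi-coherent O_X-module of finite type which is flat
over Y, E a quasi-coherent O_Y-module of finite type, and x a point of X with image y. Then x is a
maximal point of the support of f^*E ⊗ F (a point of the support admitting no proper generization in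
it) if and only if y is a maximal point of Supp E and x, viewed in the fibre f⁻¹(y), is a maximal
point of the support of the restriction of F to that fibre. -/
theorem result {X Y : Scheme.{u}} (f : X ⟶ Y) (F : X.Modules) (hF : Coh.IsCoh F)
    (hfl : FlatMod.IsFlatOver f F) (E : Y.Modules) (hE : Coh.IsCoh E) (x : X) :
    (x ∈ CohB1.support (CohB1.tensorMod ((Scheme.Modules.pullback f).obj E) F) ∧
        ∀ z ∈ CohB1.support (CohB1.tensorMod ((Scheme.Modules.pullback f).obj E) F), z ⤳ x → z = x) ↔
      ((f x ∈ CohB1.support E ∧ ∀ w ∈ CohB1.support E, w ⤳ f x → w = f x) ∧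
        (f.asFiber x ∈ CohB1.support ((Scheme.Modules.pullback (f.fiberι (f x))).obj F) ∧
          ∀ z ∈ CohB1.support ((Scheme.Modules.pullback (f.fiberι (f x))).obj F), z ⤳ f.asFiber x → z = f.asFiber x)) := by
  haveI := hF.1
  haveI := hE.1
  have hS : CohB1.support (CohB1.tensorMod ((Scheme.Modules.pullback f).obj E) F) =
      f ⁻¹' CohB1.support E ∩ CohB1.support F := by
    rw [Groth.QCohMod.support_tensorMod _ F (Groth.QCohMod.isFT_pullback f E hE.2) hF.2, Groth.QCohMod.support_pullback f E hE.2]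
  have hsupp : ∀ y, CohB1.support ((Scheme.Modules.pullback (f.fiberι y)).obj F) =
      f.fiberι y ⁻¹' CohB1.support F := fun y => Groth.QCohMod.support_pullback _ F hF.2
  have hfib : ∀ (y : Y) (z : f.fiber y), f (f.fiberι y z) = y := fun y z => (f.range_fiberι y).le ⟨z, rfl⟩
  simp only [hS, hsupp, Set.mem_inter_iff, Set.mem_preimage, f.fiberι_asFiber]
  constructor
  · rintro ⟨⟨hxE, hxF⟩, hmax⟩
    refine ⟨⟨hxE, fun w hw hwx => ?_⟩, hxF, fun z hz hzx => ?_⟩
    · obtain ⟨x₂, hx₂, hx₂x, rfl⟩ :=
        Groth.FBaseGeom.exists_mem_support_specializes f F hF.2 hxF (hfl x) hwx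
      rw [hmax x₂ ⟨hw, hx₂⟩ hx₂x]
    · apply (f.fiberι (f x)).isEmbedding.injective
      have h := hzx.map (f.fiberι (f x)).continuous
      rw [f.fiberι_asFiber] at h ⊢
      exact hmax _ ⟨by rw [hfib]; exact hxE, hz⟩ h
  · rintro ⟨⟨hxE, hmax⟩, hxF, hfmax⟩
    refine ⟨⟨hxE, hxF⟩, fun z hz hzx => ?_⟩
    obtain ⟨v, rfl⟩ : z ∈ Set.range (f.fiberι (f x)) :=
      (f.range_fiberι _).ge (hmax _ hz.1 (hzx.map f.continuous))
    rw [hfmax v hz.2 ((f.fiberι (f x)).isEmbedding.isInducing.specializes_iff.mp (by rwa [f.fiberι_asFiber])),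
      f.fiberι_asFiber]

end Groth.Agent.S4653
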