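import Groth.Statements.S4654
import Groth.Agent.KTheory.LocFree
import Groth.Agent.S6304

set_option autoImplicit false
open CategoryTheory AlgebraicGeometry
universe u
open FDesc

namespace Groth.Agent.S4654

/-- Let f : X → Y be a morphism of schemes and 0 → F' → F → F'' → 0 a short exact sequence of
quasi-coherent O_X-modules such that F'' is flat over Y. Then F is flat over Y if and only if F' is
flat over Y. -/
theorem result {X Y : Scheme.{u}} (f : X ⟶ Y) (S : ShortComplex X.Modules)
    (hS : S.ShortExact) (h₁ : Coh.IsQCoh S.X₁) (h₂ : Coh.IsQCoh S.X₂) (h₃ : Coh.IsQCoh S.X₃)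
    (hflat : FlatMod.IsFlatOver f S.X₃) :
    FlatMod.IsFlatOver f S.X₂ ↔ FlatMod.IsFlatOver f S.X₁ := by
  have key : ∀ x : X, FlatMod.IsFlatOverAt f S.X₂ x ↔ FlatMod.IsFlatOverAt f S.X₁ x := by
    intro x
    letI := FlatMod.moduleStalkOver f S.X₁ x
    letI := FlatMod.moduleStalkOver f S.X₂ x
    letI := FlatMod.moduleStalkOver f S.X₃ x
    obtain ⟨hi, he, hs⟩ := Groth.KTheory.LocFree.stalk_exact hS x
    let φ : S.X₁.presheaf.stalk x →ₗ[Y.presheaf.stalk (f x)] S.X₂.presheaf.stalk x :=
      { (Groth.KTheory.LocFree.stalkₗ S.f x).toAddMonoidHom with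
        map_smul' := fun r m => (Groth.KTheory.LocFree.stalkₗ S.f x).map_smul _ m }
    let ψ : S.X₂.presheaf.stalk x →ₗ[Y.presheaf.stalk (f x)] S.X₃.presheaf.stalk x :=
      { (Groth.KTheory.LocFree.stalkₗ S.g x).toAddMonoidHom with
        map_smul' := fun r m => (Groth.KTheory.LocFree.stalkₗ S.g x).map_smul _ m }
    haveI : Module.Flat (Y.presheaf.stalk (f x)) (S.X₃.presheaf.stalk x) := hflat x
    obtain ⟨h12, h21⟩ := Groth.Agent.S6304.result φ ψ hi he hs
    exact ⟨h21, h12⟩
  exact forall_congr' key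

end Groth.Agent.S4654
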