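import Groth.Statements.S4656
import Groth.Agent.EtaleAlgebra.WeaklyEtale
import Mathlib.AlgebraicGeometry.Morphisms.Flat

set_option autoImplicit false
open CategoryTheory AlgebraicGeometry
universe u
open FDesc

namespace Groth.Agent.S4656

/-- Let f : X → Y and g : Y → Z be morphisms of schemes and x a point of X at which f is flat (the local
ring of X at x is flat over that of Y at f(x)). Then the composite g ∘ f is flat at x if and only if
g is flat at f(x). -/
theorem result {X Y Z : Scheme.{u}} (f : X ⟶ Y) (g : Y ⟶ Z) (x : X)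
    (hf : (f.stalkMap x).hom.Flat) :
    ((f ≫ g).stalkMap x).hom.Flat ↔ (g.stalkMap (f x)).hom.Flat := by
  rw [Scheme.Hom.stalkMap_comp]
  change ((f.stalkMap x).hom.comp (g.stalkMap (f x)).hom).Flat ↔ _
  refine ⟨fun h => ?_, fun h => h.comp hf⟩
  let iA : Algebra (Z.presheaf.stalk (g (f x))) (Y.presheaf.stalk (f x)) := (g.stalkMap (f x)).hom.toAlgebra
  let iB : Algebra (Y.presheaf.stalk (f x)) (X.presheaf.stalk x) := (f.stalkMap x).hom.toAlgebra
  let iC : Algebra (Z.presheaf.stalk (g (f x))) (X.presheaf.stalk x) :=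
    ((f.stalkMap x).hom.comp (g.stalkMap (f x)).hom).toAlgebra
  have : IsScalarTower (Z.presheaf.stalk (g (f x))) (Y.presheaf.stalk (f x)) (X.presheaf.stalk x) :=
    IsScalarTower.of_algebraMap_eq fun _ => rfl
  have : Module.Flat (Z.presheaf.stalk (g (f x))) (X.presheaf.stalk x) := h
  have : Module.FaithfullyFlat (Y.presheaf.stalk (f x)) (X.presheaf.stalk x) :=
    @Module.FaithfullyFlat.of_flat_of_isLocalHom _ _ _ _ _ _ _ hf (f.toLRSHom.prop x)
  exact Groth.EtaleAlgebra.flat_of_faithfullyFlat_target _ _ (X.presheaf.stalk x)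

end Groth.Agent.S4656
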