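import Groth.Statements.S4657
import Groth.Agent.SchemeMorphisms.AssRestrict
-- import your own Groth.Agent.* helpers here

set_option autoImplicit false
open CategoryTheory AlgebraicGeometry
universe u
open AssSch

namespace Groth.Agent.S4657

open CategoryTheory Limits AlgebraicGeometry TopologicalSpace Groth.SchemeMorphisms
set_option backward.isDefEq.respectTransparency false

/-- Let X be a locally Noetherian scheme, U an open subset of X and F a coherent O_X-module such that U
∩ Supp F is dense in Supp F. Then F is a reduced module if and only if its restriction to U is a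
reduced module and F has no embedded associated points. -/
theorem result {X : Scheme.{u}} [IsLocallyNoetherian X] (U : X.Opens) (F : X.Modules)
    (hF : Coh.IsCoh F) (hdense : CohB1.support F ⊆ closure ((U : Set ↥X) ∩ CohB1.support F)) :
    AssSch.IsReducedMod F ↔ AssSch.IsReducedMod ((Scheme.Modules.pullback U.ι).obj F) ∧ AssSch.NoEmbedded F := by
  constructor
  · rintro ⟨hne, hlen⟩
    refine ⟨⟨fun a ha b hb hba => ?_, fun a ha => ?_⟩, hne⟩
    · exact U.ι.isOpenEmbedding.injective (hne _ ((mem_ass_pullback_iff U.ι F a).mp ha) _
        ((mem_ass_pullback_iff U.ι F b).mp hb) (hba.map U.ι.continuous))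
    · rw [length_stalk_pullback U.ι F a]
      exact hlen _ ((mem_ass_pullback_iff U.ι F a).mp ha)
  · rintro ⟨⟨-, hlen⟩, hne⟩
    refine ⟨hne, fun x hx => ?_⟩
    obtain ⟨a, rfl⟩ : ∃ a, U.ι a = x := ⟨⟨x, ass_subset_of_dense hF hne hdense hx⟩, rfl⟩
    rw [← length_stalk_pullback U.ι F a]
    exact hlen a ((mem_ass_pullback_iff U.ι F a).mpr hx)

end Groth.Agent.S4657
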