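import Groth.Statements.S4660
import Groth.Agent.FBaseGeom.IntegralMod

set_option autoImplicit false
set_option backward.isDefEq.respectTransparency false
open CategoryTheory AlgebraicGeometry
universe u
open FBase

namespace Groth.Agent.S4660

/-- Let X be a locally Noetherian scheme over a field k and F a coherent O_X-module. A coherent module
is called integral when it has exactly one associated point and its stalk at that point has length
one over the local ring. Then F ⊗_k k' is integral on X ⊗_k k' for every finite extension k' of k if
and only if F ⊗_k K is integral on X ⊗_k K for every extension K of k such that X ⊗_k K is locally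
Noetherian. (The published statement takes K finitely generated over k, a hypothesis used only to
make X ⊗_k K locally Noetherian.) -/
theorem result {k : Type u} [Field k] {X : Scheme.{u}} [IsLocallyNoetherian X]
    (f : X ⟶ Spec (CommRingCat.of k)) (F : X.Modules) (hF : Coh.IsCoh F) :
    (∀ (k' : Type u) [Field k'] [Algebra k k'] [FiniteDimensional k k'],
        ∃ x' : ↥(FBase.bc f k'), AssSch.Ass ((Scheme.Modules.pullback (FBase.bcπ f k')).obj F) = {x'} ∧
          Module.length ↑((FBase.bc f k').presheaf.stalk x') ↑(((Scheme.Modules.pullback (FBase.bcπ f k')).obj F).presheaf.stalk x') = 1) ↔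
      ∀ (K : Type u) [Field K] [Algebra k K] [IsLocallyNoetherian (FBase.bc f K)],
        ∃ x' : ↥(FBase.bc f K), AssSch.Ass ((Scheme.Modules.pullback (FBase.bcπ f K)).obj F) = {x'} ∧
          Module.length ↑((FBase.bc f K).presheaf.stalk x') ↑(((Scheme.Modules.pullback (FBase.bcπ f K)).obj F).presheaf.stalk x') = 1 := by
  refine ⟨fun h K _ _ _ => Groth.FBaseGeom.isIntegralMod_bc_of_finite f F h K, fun h k' _ _ _ => ?_⟩
  have : IsFinite (Spec.map (CommRingCat.ofHom (algebraMap k k'))) :=
    (IsFinite.SpecMap_iff _).mpr (RingHom.finite_algebraMap.mpr inferInstance)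
  have : IsFinite (Limits.pullback.fst f (Spec.map (CommRingCat.ofHom (algebraMap k k')))) :=
    MorphismProperty.pullback_fst _ _ inferInstance
  have : IsLocallyNoetherian (FBase.bc f k') :=
    LocallyOfFiniteType.isLocallyNoetherian (Limits.pullback.fst f (Spec.map (CommRingCat.ofHom (algebraMap k k'))))
  exact h k'


end Groth.Agent.S4660
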