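import Groth.Statements.S4668
import Groth.Agent.FBaseGeom.AssProdTensor

set_option autoImplicit false
open CategoryTheory AlgebraicGeometry
universe u
open AssSch

namespace Groth.Agent.S4668

open CategoryTheory.Limits in
/-- Let f : X → S and g : Y → S be morphisms of schemes with X, Y and X ×_S Y locally Noetherian, F a
quasi-coherent O_X-module and G a quasi-coherent O_Y-module which is flat over S, and write F ⊗_S G
for the tensor product on X ×_S Y of the pull-backs of F and G along the two projections. For points
x of X and y of Y write T(x, y) = Spec κ(x) ×_S Spec κ(y) (empty unless f(x) = g(y), and then the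
spectrum of κ(x) ⊗_{κ(s)} κ(y)) with its canonical monomorphism into X ×_S Y, and I(x, y) for the
image in X ×_S Y of the set of associated points of the structure sheaf of T(x, y). Then the set of
associated points of F ⊗_S G is the union of the sets I(x, y) over the associated points x of F and,
for each such x with s = f(x), the points y of the fibre g⁻¹(s) which are associated to the
restriction of G to that fibre. (The published statement assumes only X and the fibres of g locally
Noetherian; this row assumes Y and X ×_S Y locally Noetherian, so that associated points are those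
whose maximal ideal is the annihilator of an element of the stalk.) -/
theorem result {X Y S : Scheme.{u}} (f : X ⟶ S) (g : Y ⟶ S)
    [IsLocallyNoetherian X] [IsLocallyNoetherian Y] [IsLocallyNoetherian (pullback f g)]
    (F : X.Modules) (hF : Coh.IsQCoh F) (G : Y.Modules) (hG : Coh.IsQCoh G) (hGfl : FlatMod.IsFlatOver g G) :
    AssSch.Ass (CohB1.tensorMod ((Scheme.Modules.pullback (pullback.fst f g)).obj F) ((Scheme.Modules.pullback (pullback.snd f g)).obj G)) =
      ⋃ (x : ↥X) (_ : x ∈ AssSch.Ass F) (y' : ↥(g.fiber (f x)))
        (_ : y' ∈ AssSch.Ass ((Scheme.Modules.pullback (g.fiberι (f x))).obj G)) (y : ↥Y) (_ : y = g.fiberι (f x) y'),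
        ⇑(pullback.map (X.fromSpecResidueField x ≫ f) (Y.fromSpecResidueField y ≫ g) f g (X.fromSpecResidueField x)
            (Y.fromSpecResidueField y) (𝟙 S) (Category.comp_id _) (Category.comp_id _)) ''
          AssSch.Ass (Coh.structureModule (pullback (X.fromSpecResidueField x ≫ f) (Y.fromSpecResidueField y ≫ g))) := by
  ext z
  rw [Groth.FBaseGeom.mem_ass_prod_iff f g F G hG hGfl z]
  simp only [Set.mem_iUnion, Set.mem_image]
  constructor
  · rintro ⟨x, hx, y', hy', t, ht, h⟩
    exact ⟨x, hx, y', hy', _, rfl, t, ht, h⟩
  · rintro ⟨x, hx, y', hy', y, rfl, t, ht, h⟩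
    exact ⟨x, hx, y', hy', t, ht, h⟩

end Groth.Agent.S4668
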