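import Groth.Statements.S4672
import Groth.Agent.FBaseGeom.Prod

set_option autoImplicit false
open CategoryTheory AlgebraicGeometry
universe u
open FBase

namespace Groth.Agent.S4672

open CategoryTheory.Limits in
/-- Let X and Y be locally Noetherian schemes over a field k such that X ×_k Y is locally Noetherian,
with projections p and q. Then a subset W of X ×_k Y is an irreducible component of X ×_k Y if and
only if there exist an irreducible component X' of X and an irreducible component Y' of Y such that
W is a maximal irreducible subset of p⁻¹(X') ∩ q⁻¹(Y') (that is, an irreducible component of the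
space underlying X' ×_k Y' for the reduced structures on X' and Y'). -/
theorem result {k : Type u} [Field k] {X Y : Scheme.{u}}
    (f : X ⟶ Spec (CommRingCat.of k)) (g : Y ⟶ Spec (CommRingCat.of k)) [IsLocallyNoetherian X]
    [IsLocallyNoetherian Y] [IsLocallyNoetherian (pullback f g)] (W : Set ↥(pullback f g)) :
    W ∈ irreducibleComponents ↥(pullback f g) ↔
      ∃ X' ∈ irreducibleComponents ↥X, ∃ Y' ∈ irreducibleComponents ↥Y,
        Maximal (fun V : Set ↥(pullback f g) => IsIrreducible V ∧ V ⊆ ⇑(pullback.fst f g) ⁻¹' X' ∩ ⇑(pullback.snd f g) ⁻¹' Y') W := Groth.FBaseGeom.mem_components_prod_iff f g W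

end Groth.Agent.S4672
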