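import Groth.Statements.S4673
import Groth.Agent.FBaseGeom.Dim

set_option autoImplicit false
open CategoryTheory AlgebraicGeometry
universe u
open FBase

namespace Groth.Agent.S4673

/-- Let X be a scheme locally of finite type over a field k and K an extension field of k. Then the set
of dimensions of the irreducible components of X ⊗_k K is equal to the set of dimensions of the
irreducible components of X (Krull dimensions of the underlying spaces, valued in WithBot ℕ∞). -/
theorem result {k K : Type u} [Field k] [Field K] [Algebra k K]
    {X : Scheme.{u}} (f : X ⟶ Spec (CommRingCat.of k)) [LocallyOfFiniteType f] :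
    (fun Z : Set ↥(FBase.bc f K) => topologicalKrullDim ↥Z) '' irreducibleComponents ↥(FBase.bc f K) =
      (fun Z : Set ↥X => topologicalKrullDim ↥Z) '' irreducibleComponents ↥X := Groth.FBaseGeom.image_dim_components f K

end Groth.Agent.S4673
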