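import Groth.Statements.S4674
import Mathlib.RingTheory.Flat.Basic
import Mathlib.RingTheory.Finiteness.Cardinality
import Mathlib.RingTheory.TensorProduct.Basic
import Mathlib.RingTheory.Ideal.Maps

set_option autoImplicit false
open scoped TensorProduct
universe u v w
open FDesc

namespace Groth.Agent.S4674

/-- Let B be a flat A-algebra and M a finitely presented A-module. Then the annihilator of the B-module
B ⊗_A M is the ideal of B generated by the image of the annihilator of M. -/
theorem result {A : Type u} {B : Type v} [CommRing A] [CommRing B] [Algebra A B]
    [Module.Flat A B] (M : Type w) [AddCommGroup M] [Module A M] [Module.FinitePresentation A M] :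
    Module.annihilator B (B ⊗[A] M) = (Module.annihilator A M).map (algebraMap A B) := by
  refine le_antisymm (fun b hb => ?_) (Ideal.map_le_iff_le_comap.mpr fun a ha => ?_)
  · obtain ⟨n, s, hs⟩ := Module.Finite.exists_fin (R := A) (M := M)
    let φ : A →ₗ[A] Fin n → M := LinearMap.pi fun i => LinearMap.toSpanSingleton A M (s i)
    have hker : LinearMap.ker φ = Module.annihilator A M := by
      ext a
      simp only [LinearMap.mem_ker, φ, funext_iff, LinearMap.pi_apply, LinearMap.toSpanSingleton_apply,
        Pi.zero_apply, Module.mem_annihilator]
      refine ⟨fun h m => ?_, fun h i => h _⟩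
      have hm : m ∈ Submodule.span A (Set.range s) := hs ▸ trivial
      induction hm using Submodule.span_induction with
      | mem x hx => obtain ⟨i, rfl⟩ := hx; exact h i
      | zero => simp
      | add x y _ _ hx hy => rw [smul_add, hx, hy, add_zero]
      | smul r x _ hx => rw [smul_comm, hx, smul_zero]
    have he := Module.Flat.lTensor_exact B (LinearMap.exact_subtype_ker_map φ)
    have h0 : φ.lTensor B (b ⊗ₜ[A] (1 : A)) = 0 := by
      apply (TensorProduct.piRight A A B fun _ : Fin n => M).injective
      funext i
      rw [map_zero, LinearMap.lTensor_tmul, TensorProduct.piRight_apply, TensorProduct.piRightHom_tmul]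
      simp only [φ, LinearMap.pi_apply, LinearMap.toSpanSingleton_apply, one_smul, Pi.zero_apply]
      simpa [TensorProduct.smul_tmul'] using Module.mem_annihilator.1 hb ((1 : B) ⊗ₜ s i)
    obtain ⟨z, hz⟩ := (he _).1 h0
    have hgoal : ∀ z : B ⊗[A] LinearMap.ker φ,
        TensorProduct.rid A B ((LinearMap.ker φ).subtype.lTensor B z) ∈ (Module.annihilator A M).map (algebraMap A B) := by
      intro z
      induction z using TensorProduct.induction_on with
      | zero => simp
      | add x y hx hy => rw [map_add, map_add]; exact add_mem hx hy
      | tmul c a =>
        rw [LinearMap.lTensor_tmul, TensorProduct.rid_tmul, Algebra.smul_def]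
        exact Ideal.mul_mem_right _ _ (Ideal.mem_map_of_mem _ (hker ▸ a.2))
    have := hgoal z
    rwa [hz, TensorProduct.rid_tmul, one_smul] at this
  · rw [Ideal.mem_comap, Module.mem_annihilator]
    intro m
    induction m using TensorProduct.induction_on with
    | zero => simp
    | add x y hx hy => rw [smul_add, hx, hy, add_zero]
    | tmul c m =>
      rw [algebraMap_smul, TensorProduct.smul_tmul', TensorProduct.smul_tmul, Module.mem_annihilator.1 ha m,
        TensorProduct.tmul_zero]

end Groth.Agent.S4674
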