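import Groth.Statements.S4675
import Mathlib

set_option autoImplicit false
universe u v
open FDesc

namespace Groth.Agent.S4675

/-- Let B be a ring, not necessarily commutative, and V, W two left B-modules which are isomorphic. For
a B-linear map u : V → W the following are equivalent: every B-linear map V → W can be written
uniquely as u ∘ c with c a B-linear endomorphism of V (that is, u is a basis of Hom_B(V, W) for its
right module structure over End_B(V)); u is bijective. -/
theorem result {B : Type u} [Ring B] {V W : Type v} [AddCommGroup V] [AddCommGroup W]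
    [Module B V] [Module B W] (e : V ≃ₗ[B] W) (u : V →ₗ[B] W) :
    (∀ v : V →ₗ[B] W, ∃! c : V →ₗ[B] V, v = u ∘ₗ c) ↔ Function.Bijective u := by
  constructor
  · intro h
    obtain ⟨c, hc, huniq⟩ := h e.toLinearMap
    refine ⟨?_, fun w => ⟨c (e.symm w), ?_⟩⟩
    · have h0 := h 0
      obtain ⟨c0, hc0, hu0⟩ := h0
      intro a b hab
      have hcs : Function.Surjective u := fun w => ⟨c (e.symm w), by
        have := LinearMap.congr_fun hc (e.symm w); simpa using this.symm⟩
      by_contra hne
      have key : ∀ d : V →ₗ[B] V, u ∘ₗ d = 0 → d = 0 := fun d hd =>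
        (hu0 d hd.symm).trans (hu0 0 (by simp)).symm
      -- the retraction `c ∘ e⁻¹` of `u` gives an endomorphism killed by `u`
      have hd : u ∘ₗ (LinearMap.id - c ∘ₗ e.symm.toLinearMap ∘ₗ u) = 0 := by
        ext v
        have := LinearMap.congr_fun hc (e.symm (u v))
        simp only [LinearMap.comp_apply, LinearEquiv.coe_coe, LinearEquiv.apply_symm_apply] at this
        simp [← this]
      have hid := key _ hd
      have ha := LinearMap.congr_fun hid a
      have hb := LinearMap.congr_fun hid b
      simp [sub_eq_zero] at ha hb
      exact hne (by rw [ha, hb, hab])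
    · have := LinearMap.congr_fun hc (e.symm w); simpa using this.symm
  · intro hu v
    let eu := LinearEquiv.ofBijective u hu
    refine ⟨eu.symm.toLinearMap ∘ₗ v, ?_, fun c hc => ?_⟩
    · ext x; exact (eu.apply_symm_apply (v x)).symm
    · ext x; exact eu.injective (by simp [eu, hc])

end Groth.Agent.S4675
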