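import Groth.Statements.S4677
import Groth.Agent.GrpschAbsch.PerfectReduced
import Mathlib.FieldTheory.PurelyInseparable.PerfectClosure
import Mathlib.RingTheory.EssentialFiniteness
import Mathlib.RingTheory.Localization.Submodule
import Mathlib.RingTheory.Spectrum.Prime.Homeomorph

set_option autoImplicit false
open scoped TensorProduct
universe u
open FBase

namespace Groth.Agent.S4677

open TensorProduct in
lemma noetherian_tensor (k P K : Type u) [Field k] [Field P] [Algebra k P] [Field K] [Algebra k K]
    [Algebra.EssFiniteType k K] : IsNoetherianRing (P ⊗[k] K) :=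
  Algebra.EssFiniteType.isNoetherianRing P _

open TensorProduct in
lemma isReduced_tensor_quotient {k k' P K : Type u} [Field k] [Field k'] [Field P] [Field K]
    [Algebra k k'] [Algebra k' P] [Algebra k P] [IsScalarTower k k' P] [Algebra k K]
    (m : Ideal (k' ⊗[k] K)) [hm : m.IsMaximal] (hnil : ∀ y ∈ m, IsNilpotent y)
    (gens : Set (P ⊗[k] K)) (hgens : Submodule.span (P ⊗[k] K) gens = nilradical (P ⊗[k] K))
    (hrange : ∀ x ∈ gens, ∃ y, Algebra.TensorProduct.map (IsScalarTower.toAlgHom k k' P) (AlgHom.id k K) y = x) :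
    IsReduced (P ⊗[k'] ((k' ⊗[k] K) ⧸ m)) := by
  let ι : k' ⊗[k] K →ₐ[k] P ⊗[k] K :=
    Algebra.TensorProduct.map (IsScalarTower.toAlgHom k k' P) (AlgHom.id k K)
  have hι : Function.Injective ι :=
    Module.Flat.rTensor_preserves_injective_linearMap (M := K) (IsScalarTower.toAlgHom k k' P).toLinearMap
      (algebraMap k' P).injective
  let L := (k' ⊗[k] K) ⧸ m
  let mkL : k' ⊗[k] K →ₐ[k'] L := Ideal.Quotient.mkₐ k' m
  let θ : P ⊗[k] K →ₐ[P] P ⊗[k'] L := Algebra.TensorProduct.lift (Algebra.ofId P _)
    (((Algebra.TensorProduct.includeRight : L →ₐ[k'] P ⊗[k'] L).comp mkL).restrictScalars k |>.comp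
      Algebra.TensorProduct.includeRight) (fun _ _ => mul_comm (G := P ⊗[k'] L) _ _)
  have hθι : ∀ y, θ (ι y) = (1 : P) ⊗ₜ[k'] mkL y := fun y => by
    induction y using TensorProduct.induction_on with
    | zero => rw [map_zero, map_zero, map_zero, TensorProduct.tmul_zero]
    | tmul a x =>
      have e1 : mkL (a ⊗ₜ[k] x) = a • mkL ((1 : k') ⊗ₜ[k] x) := by
        rw [← map_smul, TensorProduct.smul_tmul', smul_eq_mul, mul_one]
      rw [e1, ← TensorProduct.smul_tmul, show a • (1 : P) = algebraMap k' P a from (Algebra.smul_def _ _).trans (mul_one _)]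
      simp only [θ, ι, Algebra.TensorProduct.map_tmul, Algebra.TensorProduct.lift_tmul, AlgHom.id_apply,
        AlgHom.comp_apply, AlgHom.restrictScalars_apply, Algebra.TensorProduct.includeRight_apply]
      change ((algebraMap k' P a) ⊗ₜ[k'] (1 : L)) * ((1 : P) ⊗ₜ[k'] mkL ((1 : k') ⊗ₜ[k] x)) = _
      rw [Algebra.TensorProduct.tmul_mul_tmul, mul_one, one_mul]
    | add y z hy hz => rw [map_add, map_add, map_add, hy, hz, TensorProduct.tmul_add]
  have hsurj : Function.Surjective θ := fun z => by
    induction z using TensorProduct.induction_on with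
    | zero => exact ⟨0, map_zero _⟩
    | tmul p l =>
      obtain ⟨y, rfl⟩ := Ideal.Quotient.mkₐ_surjective k' m l
      refine ⟨p • ι y, ?_⟩
      rw [map_smul, hθι, TensorProduct.smul_tmul', smul_eq_mul, mul_one]
    | add a b ha hb =>
      obtain ⟨x, rfl⟩ := ha
      obtain ⟨y, rfl⟩ := hb
      exact ⟨x + y, map_add _ _ _⟩
  let Q := (P ⊗[k] K) ⧸ nilradical (P ⊗[k] K)
  let g : L →ₐ[k'] Q :=
    { toRingHom := Ideal.Quotient.lift m ((Ideal.Quotient.mk (nilradical (P ⊗[k] K))).comp ι.toRingHom)
        fun y hy => Ideal.Quotient.eq_zero_iff_mem.2 (mem_nilradical.2 ((hnil y hy).map ι.toRingHom))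
      commutes' := fun r => rfl }
  let ψ : P ⊗[k'] L →ₐ[P] Q := Algebra.TensorProduct.lift (Algebra.ofId P Q) g (fun _ _ => mul_comm (G := Q) _ _)
  have hψθ : ∀ x, ψ (θ x) = Ideal.Quotient.mk _ x := fun x => by
    induction x using TensorProduct.induction_on with
    | zero => rw [map_zero, map_zero, map_zero]
    | tmul p x =>
      have e1 : p ⊗ₜ[k] x = p • ι ((1 : k') ⊗ₜ[k] x) := by
        rw [show ι ((1 : k') ⊗ₜ[k] x) = (1 : P) ⊗ₜ[k] x by simp [ι], TensorProduct.smul_tmul', smul_eq_mul, mul_one]
      rw [e1, map_smul, hθι, map_smul]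
      change p • ((algebraMap P Q 1) * g (mkL ((1 : k') ⊗ₜ[k] x))) = _
      rw [map_one, one_mul]
      rfl
    | add y z hy hz => rw [map_add, map_add, hy, hz, map_add]
  have hgen : ∀ x ∈ nilradical (P ⊗[k] K), θ x = 0 := by
    intro x hx
    rw [← hgens] at hx
    induction hx using Submodule.span_induction with
    | mem z hz =>
      obtain ⟨y, rfl⟩ := hrange z hz
      have hy : IsNilpotent y := by
        obtain ⟨n, hn⟩ := mem_nilradical.1 (hgens ▸ Submodule.subset_span hz)
        exact ⟨n, hι (by rw [map_pow, hn, map_zero])⟩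
      rw [hθι, show mkL y = 0 from Ideal.Quotient.eq_zero_iff_mem.2
        (nilpotent_iff_mem_prime.1 hy m hm.isPrime), TensorProduct.tmul_zero]
    | zero => exact map_zero _
    | add a b _ _ ha hb => rw [map_add, ha, hb, add_zero]
    | smul c a _ ha => exact (map_mul θ c a).trans ((congrArg (θ c * ·) ha).trans (mul_zero (M₀ := P ⊗[k'] L) _))
  exact ⟨fun z hz => by
    obtain ⟨x, rfl⟩ := hsurj z
    refine hgen x ?_
    obtain ⟨n, hn⟩ : IsNilpotent (ψ (θ x)) := by
      obtain ⟨n, hn⟩ := hz
      exact ⟨n, (ψ.toRingHom.map_pow (θ x) n).symm.trans ((congrArg ψ.toRingHom hn).trans ψ.toRingHom.map_zero)⟩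
    rw [hψθ, ← map_pow, Ideal.Quotient.eq_zero_iff_mem] at hn
    exact mem_nilradical.2 (IsNilpotent.of_pow (mem_nilradical.1 hn))⟩

/-- Let K be a finitely generated extension field of a field k. Then there exists a finite purely
inseparable extension k' of k such that, for every maximal ideal m of the ring k' ⊗_k K, the residue
field (k' ⊗_k K)/m is geometrically reduced over k' (a separable, not necessarily algebraic,
extension of k'). -/
theorem result {k K : Type u} [Field k] [Field K] [Algebra k K]
    [Algebra.EssFiniteType k K] :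
    ∃ (k' : Type u) (_ : Field k') (_ : Algebra k k'), FiniteDimensional k k' ∧ IsPurelyInseparable k k' ∧
      ∀ (m : Ideal (k' ⊗[k] K)), m.IsMaximal → Algebra.IsGeometricallyReduced k' ((k' ⊗[k] K) ⧸ m) := by
  classical
  let C := AlgebraicClosure k
  let P : IntermediateField k C := perfectClosure k C
  have : IsNoetherianRing (P ⊗[k] K) := noetherian_tensor k P K
  obtain ⟨gens, hgens⟩ := IsNoetherian.noetherian (nilradical (P ⊗[k] K))
  choose S hS using fun x : P ⊗[k] K => TensorProduct.exists_finset x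
  let coeffs : Finset P := gens.biUnion fun x => (S x).image Prod.fst
  let k' : IntermediateField k P := IntermediateField.adjoin k (coeffs : Set P)
  have : FiniteDimensional k k' := IntermediateField.finiteDimensional_adjoin fun x _ =>
    Algebra.IsIntegral.isIntegral x
  have : IsPurelyInseparable k k' := IsPurelyInseparable.tower_bot k k' P
  let ι : k' ⊗[k] K →ₐ[k] P ⊗[k] K :=
    Algebra.TensorProduct.map (IsScalarTower.toAlgHom k k' P) (AlgHom.id k K)
  have hrange : ∀ x ∈ gens, ∃ y, ι y = x := fun x hx => by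
    have h1 : ∀ q ∈ S x, q.1 ∈ k' := fun q hq => IntermediateField.subset_adjoin k _
      (Finset.mem_biUnion.2 ⟨x, hx, Finset.mem_image_of_mem Prod.fst hq⟩)
    refine ⟨∑ q ∈ (S x).attach, (⟨q.1.1, h1 q.1 q.2⟩ : k') ⊗ₜ[k] q.1.2, ?_⟩
    rw [map_sum]
    refine Eq.trans ?_ (hS x).symm
    rw [← Finset.sum_attach (S x)]
    rfl
  refine ⟨k', inferInstance, inferInstance, inferInstance, inferInstance, fun m hm => ?_⟩
  have hnil : ∀ y ∈ m, IsNilpotent y := fun y hy => by
    let c := Algebra.TensorProduct.comm k k' K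
    have hsub : Subsingleton (PrimeSpectrum (K ⊗[k] k')) :=
      (PrimeSpectrum.isHomeomorph_comap_of_isPurelyInseparable k k' K).injective.subsingleton
    refine nilpotent_iff_mem_prime.2 fun p hp => ?_
    have e : PrimeSpectrum.comap c.symm.toRingEquiv.toRingHom ⟨p, hp⟩ =
        PrimeSpectrum.comap c.symm.toRingEquiv.toRingHom ⟨m, hm.isPrime⟩ := Subsingleton.elim _ _
    have := (PrimeSpectrum.comap_injective_of_surjective _ c.symm.surjective e)
    have e2 : p = m := congrArg PrimeSpectrum.asIdeal this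
    rw [e2]
    exact hy
  have hred : IsReduced (P ⊗[k'] ((k' ⊗[k] K) ⧸ m)) :=
    isReduced_tensor_quotient m hnil (gens : Set (P ⊗[k] K)) hgens hrange
  let L := (k' ⊗[k] K) ⧸ m
  have := Groth.GrpschAbsch.isGeometricallyReduced_of_perfectField P (P ⊗[k'] L)
  have : IsReduced (C ⊗[k'] L) := isReduced_of_injective
    (Algebra.TensorProduct.cancelBaseChange k' P P C L).symm
    (Algebra.TensorProduct.cancelBaseChange k' P P C L).symm.injective
  rw [Algebra.isGeometricallyReduced_field_iff]
  let j : AlgebraicClosure k' →ₐ[k'] C := IsAlgClosed.lift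
  exact isReduced_of_injective (Algebra.TensorProduct.map j (AlgHom.id k' L))
    (Module.Flat.rTensor_preserves_injective_linearMap (M := L) j.toLinearMap j.toRingHom.injective)

end Groth.Agent.S4677
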