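import Groth.Statements.S4681
import Groth.Agent.FBaseGeom.FibreNonzero
import Groth.Agent.FlatMorOne.FlatnessCriteria

set_option autoImplicit false
open CategoryTheory AlgebraicGeometry
universe u
open FDesc

namespace Groth.Agent.S4681

/-- Let f : X → Y and g : Y → Z be morphisms of schemes and F a quasi-coherent O_X-module which is
faithfully flat relative to Y: flat over Y, and for every point y of Y there is a point x over y
with F_x ⊗ κ(y) ≠ 0. Then g is flat and surjective (faithfully flat) if and only if F is faithfully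
flat relative to Z for the morphism f followed by g: flat over Z, and for every point z of Z there
is a point x of X over z with F_x ⊗ κ(z) ≠ 0. -/
theorem result {X Y Z : Scheme.{u}} (f : X ⟶ Y) (g : Y ⟶ Z)
    (F : X.Modules) (hF : Coh.IsQCoh F) (hFfl : FlatMod.IsFlatOver f F)
    (hFff : (∀ y : ↥Y, ∃ x : ↥X, f x = y ∧
      letI := FlatMod.moduleStalkOver f F x
      IsLocalRing.maximalIdeal (Y.presheaf.stalk (f x)) • (⊤ : Submodule (Y.presheaf.stalk (f x)) (F.presheaf.stalk x)) ≠ ⊤)) :
    (Flat g ∧ Surjective g) ↔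
      (FlatMod.IsFlatOver (f ≫ g) F ∧
        (∀ z : ↥Z, ∃ x : ↥X, (f ≫ g) x = z ∧
      letI := FlatMod.moduleStalkOver (f ≫ g) F x
      IsLocalRing.maximalIdeal (Z.presheaf.stalk ((f ≫ g) x)) • (⊤ : Submodule (Z.presheaf.stalk ((f ≫ g) x)) (F.presheaf.stalk x)) ≠ ⊤)) := by
  have hcomp : ∀ x : X, ∀ r : Z.presheaf.stalk (g (f x)),
      (f ≫ g).stalkMap x r = f.stalkMap x (g.stalkMap (f x) r) := fun x r => by
    rw [Scheme.Hom.stalkMap_comp]; rfl
  refine ⟨fun ⟨hg, hgs⟩ => ⟨fun x => ?_, fun z => ?_⟩, fun ⟨hfl, hne⟩ => ⟨?_, ⟨fun z => ?_⟩⟩⟩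
  · letI := (g.stalkMap (f x)).hom.toAlgebra
    letI := FlatMod.moduleStalkOver f F x
    letI : Module (Z.presheaf.stalk (g (f x))) (F.presheaf.stalk x) := FlatMod.moduleStalkOver (f ≫ g) F x
    haveI : IsScalarTower (Z.presheaf.stalk (g (f x))) (Y.presheaf.stalk (f x)) (F.presheaf.stalk x) :=
      .of_algebraMap_smul fun r m => by
        show f.stalkMap x (g.stalkMap (f x) r) • m = (f ≫ g).stalkMap x r • m
        rw [hcomp]
    haveI : Module.Flat (Y.presheaf.stalk (f x)) (F.presheaf.stalk x) := hFfl x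
    haveI : Module.Flat (Z.presheaf.stalk (g (f x))) (Y.presheaf.stalk (f x)) := Flat.stalkMap g (f x)
    exact Module.Flat.trans (Z.presheaf.stalk (g (f x))) (Y.presheaf.stalk (f x)) _
  · obtain ⟨y, rfl⟩ := hgs.surj z
    obtain ⟨x, rfl, hx⟩ := hFff y
    refine ⟨x, rfl, fun h => hx ?_⟩
    letI := FlatMod.moduleStalkOver f F x
    letI := FlatMod.moduleStalkOver (f ≫ g) F x
    rw [eq_top_iff]
    intro v _
    have hv : v ∈ IsLocalRing.maximalIdeal (Z.presheaf.stalk ((f ≫ g) x)) •
        (⊤ : Submodule (Z.presheaf.stalk ((f ≫ g) x)) (F.presheaf.stalk x)) := h.ge Submodule.mem_top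
    induction hv using Submodule.smul_induction_on' with
    | smul r hr w _ =>
      show (f ≫ g).stalkMap x r • w ∈ _
      rw [hcomp]
      exact Submodule.smul_mem_smul
        ((IsLocalRing.mem_maximalIdeal _).2 (map_nonunit (g.stalkMap (f x)).hom r hr)) Submodule.mem_top
    | add a _ b _ ha hb => exact add_mem (ha trivial) (hb trivial)
  · rw [Flat.iff_flat_stalkMap]
    intro y
    obtain ⟨x, rfl, hx⟩ := hFff y
    letI := (g.stalkMap (f x)).hom.toAlgebra
    letI := FlatMod.moduleStalkOver f F x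
    letI : Module (Z.presheaf.stalk (g (f x))) (F.presheaf.stalk x) := FlatMod.moduleStalkOver (f ≫ g) F x
    haveI : IsScalarTower (Z.presheaf.stalk (g (f x))) (Y.presheaf.stalk (f x)) (F.presheaf.stalk x) :=
      .of_algebraMap_smul fun r m => by
        show f.stalkMap x (g.stalkMap (f x) r) • m = (f ≫ g).stalkMap x r • m
        rw [hcomp]
    haveI : Module.Flat (Y.presheaf.stalk (f x)) (F.presheaf.stalk x) := hFfl x
    haveI : Module.Flat (Z.presheaf.stalk (g (f x))) (F.presheaf.stalk x) := hfl x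
    haveI : Module.FaithfullyFlat (Y.presheaf.stalk (f x)) (F.presheaf.stalk x) :=
      { submodule_ne_top := fun m hm => IsLocalRing.eq_maximalIdeal hm ▸ hx }
    exact Groth.FlatMorOne.flat_of_faithfullyFlat_module (R := Z.presheaf.stalk (g (f x))) (T := Y.presheaf.stalk (f x))
      (F.presheaf.stalk x)
  · obtain ⟨x, hx, -⟩ := hne z
    exact ⟨f x, hx⟩

end Groth.Agent.S4681
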