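import Groth.Statements.S4682
import Groth.Agent.DescentBase.GeomReduced
import Groth.Agent.PropsBasic2.Reduced

set_option autoImplicit false
open CategoryTheory CategoryTheory.Limits AlgebraicGeometry
universe u
open FBase

namespace Groth.Agent.S4682

/-- Let Y be a scheme over a field K', let K be an extension field of K' which is separable over K'
(Spec K → Spec K' is geometrically reduced), let g : Y ⊗_{K'} K → Y be the projection and T a closed
subset of Y ⊗_{K'} K. Then T is defined over K' as a closed subset, that is T = g⁻¹(T') for some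
closed subset T' of Y, if and only if the reduced closed subscheme of Y ⊗_{K'} K with support T is
defined over K', that is, there is a quasi-coherent ideal sheaf of O_Y whose inverse image in Y
⊗_{K'} K is the vanishing ideal sheaf of T. -/
theorem result {K' K : Type u} [Field K'] [Field K] [Algebra K' K]
    {Y : Scheme.{u}} (fY : Y ⟶ Spec (CommRingCat.of K'))
    [GeometricallyReduced (Spec.map (CommRingCat.ofHom (algebraMap K' K)))]
    (T : TopologicalSpace.Closeds ↥(FBase.bc fY K)) :
    (∃ T' : TopologicalSpace.Closeds ↥Y, (T : Set ↥(FBase.bc fY K)) = ⇑(FBase.bcπ fY K) ⁻¹' (T' : Set ↥Y)) ↔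
      ∃ J : Y.IdealSheafData, J.comap (FBase.bcπ fY K) = Scheme.IdealSheafData.vanishingIdeal T := by
  constructor
  · rintro ⟨T', hT⟩
    refine ⟨Scheme.IdealSheafData.vanishingIdeal T', ?_⟩
    let Z := (Scheme.IdealSheafData.vanishingIdeal T').subscheme
    let i := (Scheme.IdealSheafData.vanishingIdeal T').subschemeι
    haveI : AlgebraicGeometry.IsReduced Z :=
      Groth.PropsBasic2.isReduced_vanishingIdeal_subscheme T'
    let q : Spec (CommRingCat.of K) ⟶ Spec (CommRingCat.of K') :=
      Spec.map (CommRingCat.ofHom (algebraMap K' K))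
    haveI h1 : AlgebraicGeometry.IsReduced (pullback q (i ≫ fY)) :=
      Groth.DescentBase.isReduced_pullback_of_geometricallyReduced q (i ≫ fY)
    let e : pullback q (i ≫ fY) ≅ pullback (FBase.bcπ fY K) i :=
      pullbackSymmetry _ _ ≪≫ (pullbackRightPullbackFstIso fY q i).symm ≪≫ pullbackSymmetry _ _
    haveI : AlgebraicGeometry.IsReduced (pullback (FBase.bcπ fY K) i) :=
      isReduced_of_isOpenImmersion e.inv
    have hker : (pullback.fst (FBase.bcπ fY K) i).ker = Scheme.IdealSheafData.vanishingIdeal
        ⟨closure (Set.range (pullback.fst (FBase.bcπ fY K) i)), isClosed_closure⟩ := by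
      have h2 := Scheme.IdealSheafData.map_vanishingIdeal (pullback.fst (FBase.bcπ fY K) i)
        (⊤ : TopologicalSpace.Closeds ↥(pullback (FBase.bcπ fY K) i))
      rw [Scheme.IdealSheafData.vanishingIdeal_top, Scheme.nilradical_eq_bot,
        Scheme.IdealSheafData.map_bot] at h2
      rw [h2]
      congr 1
      ext1
      simp
    change (pullback.fst (FBase.bcπ fY K) i).ker = _
    rw [hker]
    congr 1
    ext1
    change closure (Set.range (pullback.fst (FBase.bcπ fY K) i)) = (T : Set ↥(FBase.bc fY K))
    rw [Scheme.Pullback.range_fst, Scheme.IdealSheafData.range_subschemeι,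
      Scheme.IdealSheafData.coe_support_vanishingIdeal, hT]
    exact (T'.isClosed.preimage (FBase.bcπ fY K).continuous).closure_eq
  · rintro ⟨J, hJ⟩
    refine ⟨J.support, ?_⟩
    have h := congrArg (fun S : TopologicalSpace.Closeds _ => (S : Set ↥(FBase.bc fY K)))
      (congrArg Scheme.IdealSheafData.support hJ)
    simp only [Scheme.IdealSheafData.support_comap, Scheme.IdealSheafData.coe_support_vanishingIdeal,
      TopologicalSpace.Closeds.coe_preimage, T.isClosed.closure_eq] at h
    exact h.symm

end Groth.Agent.S4682
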