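import Groth.Statements.S4684
import Groth.Agent.FlatQuot.Basic

set_option autoImplicit false
open CategoryTheory AlgebraicGeometry
universe u
open FDesc

namespace Groth.Agent.S4684

open CategoryTheory.Limits

/-- Let Y be an integral locally Noetherian scheme all of whose local rings are regular of dimension at
most one, with generic point η; let f : X → Y be a morphism, i : X_η → X the inclusion of the
generic fibre, F a quasi-coherent O_X-module and π : i^*F → G' a quotient of its restriction to the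
generic fibre, with G' quasi-coherent. Then there exist a quasi-coherent quotient ρ : F → G of F
which is flat over Y and an isomorphism i^*G ≅ G' carrying i^*ρ to π; and any two such quotients are
isomorphic under F. (The published statement takes Y of dimension exactly one and constructs G as
the image of F in i_*G'.) -/
theorem result {X Y : Scheme.{u}} [IsIntegral Y] [IsLocallyNoetherian Y]
    (hY : ∀ y : Y, IsRegularLocalRing (Y.presheaf.stalk y) ∧ ringKrullDim (Y.presheaf.stalk y) ≤ 1)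
    (f : X ⟶ Y) (F : X.Modules) (hF : Coh.IsQCoh F) (G' : (f.fiber (genericPoint Y)).Modules) (hG' : Coh.IsQCoh G')
    (π : (Scheme.Modules.pullback (f.fiberι (genericPoint Y))).obj F ⟶ G') [Epi π] :
    (∃ (G : X.Modules) (ρ : F ⟶ G) (e : (Scheme.Modules.pullback (f.fiberι (genericPoint Y))).obj G ≅ G'),
        Epi ρ ∧ Coh.IsQCoh G ∧ FlatMod.IsFlatOver f G ∧
          (Scheme.Modules.pullback (f.fiberι (genericPoint Y))).map ρ ≫ e.hom = π) ∧
      ∀ (G₁ G₂ : X.Modules) (ρ₁ : F ⟶ G₁) (ρ₂ : F ⟶ G₂)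
        (e₁ : (Scheme.Modules.pullback (f.fiberι (genericPoint Y))).obj G₁ ≅ G')
        (e₂ : (Scheme.Modules.pullback (f.fiberι (genericPoint Y))).obj G₂ ≅ G'),
        Epi ρ₁ → Epi ρ₂ → Coh.IsQCoh G₁ → Coh.IsQCoh G₂ → FlatMod.IsFlatOver f G₁ → FlatMod.IsFlatOver f G₂ →
        (Scheme.Modules.pullback (f.fiberι (genericPoint Y))).map ρ₁ ≫ e₁.hom = π →
        (Scheme.Modules.pullback (f.fiberι (genericPoint Y))).map ρ₂ ≫ e₂.hom = π →
        ∃ e : G₁ ≅ G₂, ρ₁ ≫ e.hom = ρ₂ := by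
  let ι := f.fiberι (genericPoint Y)
  let adj := Scheme.Modules.pullbackPushforwardAdjunction ι
  haveI : F.IsQuasicoherent := hF
  haveI : G'.IsQuasicoherent := hG'
  haveI : ((Scheme.Modules.pushforward ι).obj G').IsQuasicoherent := Groth.QCohMod.isQCoh_pushforward (M := G') ι
  haveI := Groth.FlatQuot.mono_counit ι G'
  refine ⟨?_, ?_⟩
  · let φ : F ⟶ (Scheme.Modules.pushforward ι).obj G' := adj.homEquiv _ _ π
    let m := Abelian.image.ι φ
    let ρ : F ⟶ Abelian.image φ := Abelian.factorThruImage φ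
    haveI : Mono ((Scheme.Modules.pullback ι).map m) := Groth.PrinPartsAux.mono_pullback_map ι m
    let e₀ : (Scheme.Modules.pullback ι).obj (Abelian.image φ) ⟶ G' :=
      (Scheme.Modules.pullback ι).map m ≫ adj.counit.app G'
    have hfac : (Scheme.Modules.pullback ι).map ρ ≫ e₀ = π := by
      rw [← Category.assoc, ← Functor.map_comp, Abelian.image.fac]
      exact (adj.homEquiv_counit (g := φ)).symm.trans ((adj.homEquiv _ _).symm_apply_apply π)
    haveI : Epi e₀ := epi_of_epi_fac hfac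
    haveI : IsIso e₀ := isIso_of_mono_of_epi e₀
    exact ⟨_, ρ, asIso e₀, inferInstance, Groth.QCohMod.isQCoh_image φ,
      Groth.FlatQuot.isFlatOver_of_noTorsion f hY
        (Groth.FlatQuot.noTorsion_of_mono f m (Groth.FlatQuot.noTorsion_pushforward f G')), hfac⟩
  · intro G₁ G₂ ρ₁ ρ₂ e₁ e₂ hρ₁ hρ₂ hG₁ hG₂ hf₁ hf₂ h₁ h₂
    haveI : G₁.IsQuasicoherent := hG₁
    haveI : G₂.IsQuasicoherent := hG₂
    haveI := Groth.FlatQuot.mono_unit f G₁ (Groth.FlatQuot.noTorsion_of_isFlatOver f hf₁)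
    haveI := Groth.FlatQuot.mono_unit f G₂ (Groth.FlatQuot.noTorsion_of_isFlatOver f hf₂)
    let m₁ : G₁ ⟶ (Scheme.Modules.pushforward ι).obj G' := adj.homEquiv _ _ e₁.hom
    let m₂ : G₂ ⟶ (Scheme.Modules.pushforward ι).obj G' := adj.homEquiv _ _ e₂.hom
    haveI : Mono m₁ := by rw [show m₁ = adj.unit.app G₁ ≫ (Scheme.Modules.pushforward ι).map e₁.hom from Adjunction.homEquiv_unit adj _ _ _]; exact mono_comp _ _
    haveI : Mono m₂ := by rw [show m₂ = adj.unit.app G₂ ≫ (Scheme.Modules.pushforward ι).map e₂.hom from Adjunction.homEquiv_unit adj _ _ _]; exact mono_comp _ _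
    have hm₁ : ρ₁ ≫ m₁ = adj.homEquiv _ _ π := by rw [← h₁, Adjunction.homEquiv_naturality_left]
    have hm₂ : ρ₂ ≫ m₂ = adj.homEquiv _ _ π := by rw [← h₂, Adjunction.homEquiv_naturality_left]
    have k₁ : kernel.ι ρ₁ ≫ ρ₂ = 0 := by
      rw [← cancel_mono m₂, Category.assoc, hm₂, ← hm₁, kernel.condition_assoc, zero_comp, zero_comp]
    have k₂ : kernel.ι ρ₂ ≫ ρ₁ = 0 := by
      rw [← cancel_mono m₁, Category.assoc, hm₁, ← hm₂, kernel.condition_assoc, zero_comp, zero_comp]
    refine ⟨⟨Abelian.epiDesc ρ₁ ρ₂ k₁, Abelian.epiDesc ρ₂ ρ₁ k₂, ?_, ?_⟩, Abelian.comp_epiDesc ρ₁ ρ₂ k₁⟩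
    · rw [← cancel_epi ρ₁, Abelian.comp_epiDesc_assoc, Abelian.comp_epiDesc, Category.comp_id]
    · rw [← cancel_epi ρ₂, Abelian.comp_epiDesc_assoc, Abelian.comp_epiDesc, Category.comp_id]

end Groth.Agent.S4684
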