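import Groth.Statements.S4685
import Groth.Agent.FBaseGeom.AssProdTensor

set_option autoImplicit false
open CategoryTheory AlgebraicGeometry
universe u
open AssSch

namespace Groth.Agent.S4685

open CategoryTheory.Limits in
/-- Let f : X → S and g : Y → S be morphisms of schemes with X, Y and X ×_S Y locally Noetherian, F a
quasi-coherent O_X-module without embedded associated points, and G a quasi-coherent O_Y-module,
flat over S, whose restriction to every fibre g⁻¹(s) has no embedded associated points. Then F ⊗_S G
(the tensor product on X ×_S Y of the pull-backs of F and G along the two projections) has no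
embedded associated points. (The published statement assumes only X, the fibres of g and the schemes
Spec κ(x) ×_S Spec κ(y) locally Noetherian; this row assumes Y and X ×_S Y locally Noetherian, which
implies all of these, so that associated points are those whose maximal ideal is the annihilator of
an element of the stalk.) -/
theorem result {X Y S : Scheme.{u}} (f : X ⟶ S) (g : Y ⟶ S)
    [IsLocallyNoetherian X] [IsLocallyNoetherian Y] [IsLocallyNoetherian (pullback f g)]
    (F : X.Modules) (hF : Coh.IsQCoh F) (G : Y.Modules) (hG : Coh.IsQCoh G) (hGfl : FlatMod.IsFlatOver g G)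
    (hFne : AssSch.NoEmbedded F)
    (hGne : ∀ s : ↥S, AssSch.NoEmbedded ((Scheme.Modules.pullback (g.fiberι s)).obj G)) :
    AssSch.NoEmbedded (CohB1.tensorMod ((Scheme.Modules.pullback (pullback.fst f g)).obj F) ((Scheme.Modules.pullback (pullback.snd f g)).obj G)) := by
  intro z hz z₂ hz₂ hsp
  obtain ⟨x, hx, y', hy', t, ht, rfl⟩ := (Groth.FBaseGeom.mem_ass_prod_iff f g F G hG hGfl z).mp hz
  obtain ⟨x₂, hx₂, y₂', hy₂', t₂, ht₂, rfl⟩ := (Groth.FBaseGeom.mem_ass_prod_iff f g F G hG hGfl z₂).mp hz₂
  have h₁ := hsp.map (Limits.pullback.fst f g).continuous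
  rw [Groth.FBaseGeom.fst_prodPtsι, Groth.FBaseGeom.fst_prodPtsι] at h₁
  obtain rfl := hFne x hx x₂ hx₂ h₁
  have h₂ := hsp.map (Limits.pullback.snd f g).continuous
  rw [Groth.FBaseGeom.snd_prodPtsι, Groth.FBaseGeom.snd_prodPtsι] at h₂
  obtain rfl : y' = y₂' := hGne (f x) y' hy' y₂' hy₂'
    ((g.fiberι (f x)).isEmbedding.isInducing.specializes_iff.mp h₂)
  rw [Groth.FBaseGeom.prodPts_eq_of_specializes f g x _ t t₂ ht
    ((Groth.FBaseGeom.prodPtsι f g x (g.fiberι (f x) y')).isEmbedding.isInducing.specializes_iff.mp hsp)]

end Groth.Agent.S4685
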