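import Groth.Statements.S4687
import Groth.Agent.FBaseGeom.LengthBC

set_option autoImplicit false
open CategoryTheory AlgebraicGeometry
universe u
open FBase CategoryTheory.Limits

namespace Groth.Agent.S4687

/-- Let X be an integral locally Noetherian scheme over a field k, k′ an extension field of k such that
X′ = X ⊗_k k′ is locally Noetherian, and k″ an extension field of k′ which is separable over k′
(Spec k″ → Spec k′ geometrically reduced) and such that (X′)_red ⊗_{k′} k″ is locally Noetherian.
Then for every maximal point x″ of X″ = X′ ⊗_{k′} k″ (generic point of an irreducible component),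
with image x′ in X′, the local rings O_{X″,x″} and O_{X′,x′} have the same length, each as a module
over itself, with values in ℕ∞. -/
theorem result {k k' k'' : Type u} [Field k] [Field k'] [Field k''] [Algebra k k']
    [Algebra k' k''] {X : Scheme.{u}} (f : X ⟶ Spec (CommRingCat.of k)) [IsIntegral X] [IsLocallyNoetherian X]
    [IsLocallyNoetherian (FBase.bc f k')] [GeometricallyReduced (Spec.map (CommRingCat.ofHom (algebraMap k' k'')))]
    [IsLocallyNoetherian (FBase.bc ((FBase.bc f k').nilradical.subschemeι ≫ FBase.bcStr f k') k'')]
    (x'' : ↥(FBase.bc (FBase.bcStr f k') k'')) (hx'' : ∀ z : ↥(FBase.bc (FBase.bcStr f k') k''), z ⤳ x'' → z = x'') :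
    Module.length ((FBase.bc (FBase.bcStr f k') k'').presheaf.stalk x'') ((FBase.bc (FBase.bcStr f k') k'').presheaf.stalk x'') =
      Module.length ((FBase.bc f k').presheaf.stalk (FBase.bcπ (FBase.bcStr f k') k'' x''))
        ((FBase.bc f k').presheaf.stalk (FBase.bcπ (FBase.bcStr f k') k'' x'')) := by
  haveI : Flat (FBase.bcπ (FBase.bcStr f k') k'') := MorphismProperty.pullback_fst _ _ inferInstance
  have hsq := Groth.FBaseGeom.isPullback_map_nilradical (FBase.bcStr f k')
    (Spec.map (CommRingCat.ofHom (algebraMap k' k'')))
  set X' := FBase.bc f k' with hX'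
  let j := pullback.map (X'.nilradical.subschemeι ≫ FBase.bcStr f k')
    (Spec.map (CommRingCat.ofHom (algebraMap k' k''))) (FBase.bcStr f k')
    (Spec.map (CommRingCat.ofHom (algebraMap k' k''))) X'.nilradical.subschemeι (𝟙 _) (𝟙 _)
    (Category.comp_id _) ((Category.comp_id _).trans (Category.id_comp _).symm)
  haveI : Surjective X'.nilradical.subschemeι := ⟨fun p => by
    have := X'.nilradical.range_subschemeι
    rw [Scheme.support_nilradical] at this
    exact this.symm.le trivial⟩
  haveI : Surjective j := MorphismProperty.of_isPullback (P := (@Surjective : MorphismProperty Scheme.{u})) hsq.flip ‹_›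
  obtain ⟨z'', hz⟩ := j.surjective x''
  haveI : IsReduced X'.nilradical.subscheme := Groth.PropsBasic2.isReduced_nilradical_subscheme X'
  haveI : IsLocallyNoetherian X'.nilradical.subscheme := LocallyOfFiniteType.isLocallyNoetherian X'.nilradical.subschemeι
  haveI : IsReduced (FBase.bc (X'.nilradical.subschemeι ≫ FBase.bcStr f k') k'') := by
    unfold FBase.bc; infer_instance
  have hjmax : ∀ w, w ⤳ z'' → w = z'' := fun w hw => by
    haveI : IsPreimmersion j := MorphismProperty.of_isPullback (P := (@IsPreimmersion : MorphismProperty Scheme.{u})) hsq.flip inferInstance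
    refine j.isEmbedding.injective ?_
    rw [hz]
    exact hx'' _ ((hw.map j.continuous).trans (specializes_of_eq hz))
  have h1 := Groth.FBaseGeom.length_stalk_eq_one (Z := FBase.bc (X'.nilradical.subschemeι ≫ FBase.bcStr f k') k'') hjmax
  exact (Groth.FBaseGeom.length_stalk_eq_mul (FBase.bcπ (FBase.bcStr f k') k'') j _ hsq x'' hx'' z'' hz).trans
    ((congrArg _ h1).trans (mul_one _))

end Groth.Agent.S4687
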