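import Groth.Statements.S4688
import Mathlib.RingTheory.KrullDimension.Polynomial
import Mathlib.RingTheory.KrullDimension.Field

set_option autoImplicit false
universe u
open EGA4

namespace Groth.Agent.S4688

open Polynomial in
/-- Let A be a Noetherian ring, p a prime ideal of A and q a prime ideal of the polynomial ring A[T]
lying over p. Then the extended ideal p A[T] has the same height as p, and if q is different from p
A[T] one has ht(q) = ht(p) + 1. (The remaining assertions of the published item, that p A[T] is
prime over p and that there are infinitely many pairwise incomparable such q, are not restated.) -/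
theorem result (A : Type u) [CommRing A] [IsNoetherianRing A]
    (p : Ideal A) [p.IsPrime] (q : Ideal A[X]) [q.IsPrime] [q.LiesOver p] :
    (p.map (Polynomial.C : A →+* A[X])).height = p.height ∧
      (q ≠ p.map (Polynomial.C : A →+* A[X]) → q.height = p.height + 1) := by
  have : (p.map (C : A →+* A[X])).IsPrime := Ideal.isPrime_map_C_of_isPrime (P := p)
  set J := p.map (C : A →+* A[X]) with hJ
  have : J.LiesOver p := ⟨by
    refine le_antisymm Ideal.le_comap_map fun a ha => ?_
    have := Ideal.mem_map_C_iff.mp ha 0
    simpa using this⟩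
  have hbot : (J.map (Ideal.Quotient.mk (p.map (algebraMap A A[X])))).height = 0 := by
    have : J.map (Ideal.Quotient.mk (p.map (algebraMap A A[X]))) = ⊥ := Ideal.map_quotient_self _
    rw [this]
    have : (⊥ : Ideal (A[X] ⧸ p.map (algebraMap A A[X]))).IsPrime := by
      have : (p.map (algebraMap A A[X])).IsPrime := ‹J.IsPrime›
      exact Ideal.isPrime_bot
    rw [Ideal.height_eq_zero_iff]
    exact minimalPrimes_eq_minimals (R := A[X] ⧸ p.map (algebraMap A A[X])) ▸ ⟨this, fun _ _ _ => bot_le⟩
  have hJp : J.height = p.height := by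
    rw [Ideal.height_eq_height_add_of_liesOver_of_hasGoingDown p J, hbot, add_zero]
  refine ⟨hJp, fun hne => ?_⟩
  rw [Ideal.height_eq_height_add_of_liesOver_of_hasGoingDown p q]
  congr 1
  let e : (A ⧸ p)[X] ≃+* A[X] ⧸ p.map (C : A →+* A[X]) := Ideal.polynomialQuotientEquivQuotientPolynomial p
  let Q := (q.map (Ideal.Quotient.mk J)).map e.symm.toRingHom
  have hJq : J ≤ q := Ideal.map_le_iff_le_comap.mpr (Ideal.LiesOver.over (P := q) (p := p)).le
  have : (q.map (Ideal.Quotient.mk J)).IsPrime :=
    Ideal.map_isPrime_of_surjective Ideal.Quotient.mk_surjective (Ideal.mk_ker.trans_le hJq)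
  have hQ : Q.IsPrime := Ideal.map_isPrime_of_equiv e.symm
  show (q.map (Ideal.Quotient.mk J)).height = 1
  rw [← RingEquiv.height_map e.symm (q.map (Ideal.Quotient.mk J))]
  show Q.height = 1
  have hQ0 : Q ≠ ⊥ := by
    intro h
    refine hne (le_antisymm ?_ hJq)
    change Ideal.map e.symm.toRingHom (q.map (Ideal.Quotient.mk J)) = ⊥ at h
    rw [Ideal.map_eq_bot_iff_of_injective (f := e.symm.toRingHom) e.symm.injective, Ideal.map_eq_bot_iff_le_ker, Ideal.mk_ker] at h
    exact h
  refine le_antisymm ?_ ?_
  · let K := FractionRing (A ⧸ p)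
    let T : Submonoid (A ⧸ p)[X] := (nonZeroDivisors (A ⧸ p)).map C
    have hdis : Disjoint (T : Set (A ⧸ p)[X]) Q := Set.disjoint_left.mpr fun x hx hxQ => by
      obtain ⟨c, hc, rfl⟩ := hx
      obtain ⟨a, rfl⟩ := Ideal.Quotient.mk_surjective c
      have h1 : (Ideal.Quotient.mk J) (C a) ∈ q.map (Ideal.Quotient.mk J) := by
        have := (Ideal.mem_map_of_equiv e.symm _).mp hxQ
        obtain ⟨y, hy, hye⟩ := this
        have : e (C (Ideal.Quotient.mk p a)) = y := by rw [← hye]; exact e.apply_symm_apply y
        rw [← this] at hy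
        have he : e (C (Ideal.Quotient.mk p a)) = Ideal.Quotient.mk J (C a) := by
          apply e.symm.injective
          rw [e.symm_apply_apply]
          exact ((Ideal.polynomialQuotientEquivQuotientPolynomial_symm_mk p (C a)).trans (Polynomial.map_C _)).symm
        rwa [he] at hy
      rw [Ideal.mem_quotient_iff_mem hJq] at h1
      refine nonZeroDivisors.ne_zero hc (Ideal.Quotient.eq_zero_iff_mem.mpr ?_)
      rw [Ideal.LiesOver.over (P := q) (p := p)]
      exact h1
    let : Algebra (A ⧸ p)[X] K[X] := Polynomial.algebra (A ⧸ p) K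
    have : IsLocalization T K[X] := Polynomial.isLocalization (nonZeroDivisors (A ⧸ p)) K
    rw [← IsLocalization.height_map_of_disjoint T (S := K[X]) Q hdis]
    have hp' : (Q.map (algebraMap (A ⧸ p)[X] K[X])).IsPrime := IsLocalization.isPrime_of_isPrime_disjoint T _ _ hQ hdis
    have h2 := Ideal.height_le_ringKrullDim_of_ne_top hp'.ne_top
    rw [Polynomial.ringKrullDim_of_isNoetherianRing, ringKrullDim_eq_zero_of_field, zero_add] at h2
    exact WithBot.coe_le_coe.mp h2
  · exact Order.one_le_iff_ne_zero.mpr fun h0 => hQ0 (by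
      rw [Ideal.height_eq_zero_iff, IsDomain.minimalPrimes_eq_singleton_bot] at h0
      exact h0)

end Groth.Agent.S4688
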