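import Groth.Statements.S4689
import Groth.Agent.FibreDim.DimensionFormula

set_option autoImplicit false
universe u
open EGA4

namespace Groth.Agent.S4689

/-- Let A be a universally catenary Noetherian local domain and B a domain containing A which is a
finite A-algebra. Then for every maximal ideal n of B the local ring B_n has the same Krull
dimension as A. -/
theorem result (A B : Type u) [CommRing A] [IsDomain A]
    [IsNoetherianRing A] [IsLocalRing A] (hA : CAlg.IsUniversallyCatenary A) [CommRing B] [IsDomain B]
    [Algebra A B] [FaithfulSMul A B] [Module.Finite A B] (n : Ideal B) [n.IsMaximal] :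
    ringKrullDim (Localization.AtPrime n) = ringKrullDim A := by
  haveI : n.LiesOver (IsLocalRing.maximalIdeal A) :=
    ⟨(IsLocalRing.eq_maximalIdeal (Ideal.isMaximal_comap_of_isIntegral_of_isMaximal n)).symm⟩
  haveI : IsNoetherianRing B := Algebra.FiniteType.isNoetherianRing A B
  obtain ⟨t, t₀, ht, ht₀, -, heq⟩ :=
    Groth.FibreDim.exists_trdeg_add_height (R := A) (IsLocalRing.maximalIdeal A) n
  have h := heq hA
  haveI : Algebra.IsAlgebraic A B := Algebra.IsIntegral.isAlgebraic
  haveI : Algebra.IsAlgebraic (A ⧸ IsLocalRing.maximalIdeal A) (B ⧸ n) := Algebra.IsIntegral.isAlgebraic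
  rw [trdeg_eq_zero] at ht ht₀
  obtain rfl : t = 0 := by exact_mod_cast ht.symm
  obtain rfl : t₀ = 0 := by exact_mod_cast ht₀.symm
  simp only [Nat.cast_zero, add_zero] at h
  rw [IsLocalization.AtPrime.ringKrullDim_eq_height n, h, IsLocalRing.maximalIdeal_height_eq_ringKrullDim]

end Groth.Agent.S4689
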