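import Groth.Statements.S4690
import Mathlib
import Groth.Agent.FibreDim.DimFormulaCor
import Groth.Agent.FibreDim.DimStalk
-- import your own Groth.Agent.* helpers here

set_option autoImplicit false
universe u
open EGA4

namespace Groth.Agent.S4690


open AlgebraicGeometry CategoryTheory in
/-- Let Y be an irreducible locally Noetherian scheme, X an irreducible scheme and f : X → Y a dominant
morphism locally of finite type; let e be the dimension of the generic fibre of f. Then dim X ≤ dim
Y + e. If moreover every local ring of Y is universally catenary, the two sides are equal if and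
only if dim Y equals the supremum of the dimensions of the local rings of Y at the points of f(X). -/
theorem result {X Y : Scheme.{u}} (f : X ⟶ Y) [IsLocallyNoetherian Y]
    [LocallyOfFiniteType f] [IrreducibleSpace X] [IrreducibleSpace Y] (hf : DenseRange f.base) :
    topologicalKrullDim X ≤ topologicalKrullDim Y + topologicalKrullDim (f.fiber (genericPoint Y)) ∧
      ((∀ y : Y, CAlg.IsUniversallyCatenary (Y.presheaf.stalk y)) →
        (topologicalKrullDim X = topologicalKrullDim Y + topologicalKrullDim (f.fiber (genericPoint Y)) ↔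
          topologicalKrullDim Y = ⨆ y ∈ Set.range f.base, ringKrullDim (Y.presheaf.stalk y))) := by
  haveI : IsDominant f := ⟨hf⟩
  haveI : IsLocallyNoetherian X := LocallyOfFiniteType.isLocallyNoetherian f
  obtain ⟨-, -, -, -, t₀, -, -, -, -, he, -, -, -⟩ := Groth.FibreDim.exists_dim_formula_nat f (genericPoint X)
  rw [he]
  have hY : ∀ y : Y, ringKrullDim (Y.presheaf.stalk y) ≤ topologicalKrullDim Y := fun y => by
    rw [Groth.FibreDim.dim_eq_iSup_stalk Y]
    exact le_iSup (fun y : Y => ringKrullDim (Y.presheaf.stalk y)) y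
  have key : ∀ x : X, ∃ a b t : ℕ, ringKrullDim (X.presheaf.stalk x) = a ∧
      ringKrullDim (Y.presheaf.stalk (f.base x)) = b ∧ Order.height (f.asFiber x) = t ∧ a + t ≤ b + t₀ ∧
      (CAlg.IsUniversallyCatenary (Y.presheaf.stalk (f.base x)) → a + t = b + t₀) := fun x => by
    obtain ⟨t, t₁, -, ht, -, ht₁, hle, heq⟩ := Groth.FibreDim.exists_dim_formula f x
    obtain ⟨a, ha⟩ := Groth.FibreDim.exists_ringKrullDim_eq_natCast (X.presheaf.stalk x)
    obtain ⟨b, hb⟩ := Groth.FibreDim.exists_ringKrullDim_eq_natCast (Y.presheaf.stalk (f.base x))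
    have e : t₁ = t₀ := by
      have := ht₁.symm.trans he
      exact_mod_cast this
    subst e
    rw [ha, hb] at hle
    refine ⟨a, b, t, ha, hb, ht, by exact_mod_cast hle, fun hc => ?_⟩
    have := heq hc
    rw [ha, hb] at this
    exact_mod_cast this
  have hle : ∀ x : X, ringKrullDim (X.presheaf.stalk x) ≤ ringKrullDim (Y.presheaf.stalk (f.base x)) + (t₀ : WithBot ℕ∞) := fun x => by
    obtain ⟨a, b, t, ha, hb, -, h, -⟩ := key x
    rw [ha, hb]
    norm_cast
    omega
  refine ⟨?_, fun hcat => ⟨fun heq => le_antisymm ?_ (iSup₂_le fun y _ => hY y), fun heq => le_antisymm ?_ ?_⟩⟩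
  · rw [Groth.FibreDim.dim_eq_iSup_stalk X]
    exact iSup_le fun x => (hle x).trans (add_le_add (hY _) le_rfl)
  · have h : topologicalKrullDim X ≤ (⨆ y ∈ Set.range f.base, ringKrullDim (Y.presheaf.stalk y)) + (t₀ : WithBot ℕ∞) := by
      rw [Groth.FibreDim.dim_eq_iSup_stalk X]
      exact iSup_le fun x => (hle x).trans (add_le_add (le_iSup₂ (f := fun y (_ : y ∈ Set.range f.base) =>
        ringKrullDim (Y.presheaf.stalk y)) (f.base x) ⟨x, rfl⟩) le_rfl)
    rw [heq] at h
    revert h
    generalize (⨆ y ∈ Set.range f.base, ringKrullDim (Y.presheaf.stalk y)) = D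
    generalize topologicalKrullDim Y = E
    intro h
    cases E with
    | bot => exact bot_le
    | coe E =>
      cases D with
      | bot => simp at h
      | coe D =>
        rw [← WithBot.coe_natCast, ← WithBot.coe_add, ← WithBot.coe_add, WithBot.coe_le_coe,
          ENat.add_le_add_iff_right (ENat.natCast_ne_top _)] at h
        exact WithBot.coe_le_coe.2 h
  · rw [Groth.FibreDim.dim_eq_iSup_stalk X]
    exact iSup_le fun x => (hle x).trans (add_le_add (hY _) le_rfl)
  · rw [heq]
    have hy : ∀ y ∈ Set.range f.base, ringKrullDim (Y.presheaf.stalk y) + (t₀ : WithBot ℕ∞) ≤ topologicalKrullDim X := by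
      rintro _ ⟨x₀, rfl⟩
      haveI : LocallyOfFiniteType (f.fiberToSpecResidueField (f.base x₀)) :=
        inferInstanceAs (LocallyOfFiniteType (Limits.pullback.snd f (Y.fromSpecResidueField (f.base x₀))))
      haveI : JacobsonSpace ↥(f.fiber (f.base x₀)) :=
        LocallyOfFiniteType.jacobsonSpace (f.fiberToSpecResidueField (f.base x₀))
      obtain ⟨z, -, hz⟩ := nonempty_inter_closedPoints (Z := (Set.univ : Set ↥(f.fiber (f.base x₀))))
        ⟨f.asFiber x₀, trivial⟩ isClosed_univ.isLocallyClosed
      have hx := Groth.FibreDim.apply_fiberι f _ z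
      obtain ⟨a, b, t, ha, hb, ht, -, hc⟩ := key (f.fiberι _ z)
      have hh : ∀ (y : Y) (_ : f.base (f.fiberι (f.base x₀) z) = y) (w : f.fiber y),
          f.fiberι y w = f.fiberι (f.base x₀) z → Order.height w = (t : ℕ∞) := by
        rintro _ rfl w hw
        rw [show w = f.asFiber _ from (f.fiberι _).isEmbedding.injective (hw.trans (f.fiberι_asFiber _).symm), ht]
      have h0 : Order.height z = 0 := Order.height_eq_zero.2 fun w hw => le_of_eq (by
        have := specializes_iff_mem_closure.1 (hw : z ⤳ w)
        rw [hz.closure_eq] at this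
        exact this.symm)
      have ht0 : t = 0 := by exact_mod_cast (hh _ hx z rfl).symm.trans h0
      have := hc (hcat _)
      rw [← hx, hb, Groth.FibreDim.dim_eq_iSup_stalk X]
      refine le_trans (le_of_eq ?_) (le_iSup (fun x : X => ringKrullDim (X.presheaf.stalk x)) (f.fiberι _ z))
      rw [ha]
      norm_cast
      omega
    have hne : topologicalKrullDim X ≠ ⊥ := by
      rw [Groth.FibreDim.dim_eq_iSup_stalk X]
      intro hbot
      obtain ⟨a, -, -, ha, -⟩ := key (genericPoint X)
      have := (iSup_eq_bot.1 hbot) (genericPoint X)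
      rw [ha] at this
      exact absurd this (by simp)
    obtain ⟨c, hc⟩ := WithBot.ne_bot_iff_exists.1 hne
    rw [← hc]
    cases c using ENat.recTopCoe with
    | top => exact le_top
    | coe c =>
      obtain ⟨a, b, t, -, hb, -, -, -⟩ := key (genericPoint X)
      have h1 := hy _ ⟨genericPoint X, rfl⟩
      rw [hb, ← hc] at h1
      have h1' : b + t₀ ≤ c := by exact_mod_cast h1
      have h2 : (⨆ y ∈ Set.range f.base, ringKrullDim (Y.presheaf.stalk y)) ≤ ((c - t₀ : ℕ) : WithBot ℕ∞) := by
        refine iSup₂_le fun y hym => ?_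
        obtain ⟨x, rfl⟩ := hym
        obtain ⟨a', b', t', -, hb', -, -, -⟩ := key x
        have h3 := hy _ ⟨x, rfl⟩
        rw [hb', ← hc] at h3
        have h3' : b' + t₀ ≤ c := by exact_mod_cast h3
        rw [hb']
        exact_mod_cast (show b' ≤ c - t₀ by omega)
      refine (add_le_add h2 le_rfl).trans (le_of_eq ?_)
      show ((c - t₀ : ℕ) : WithBot ℕ∞) + (t₀ : WithBot ℕ∞) = ((c : ℕ∞) : WithBot ℕ∞)
      rw [← Nat.cast_add, Nat.sub_add_cancel (le_trans le_add_self h1')]
      rfl

end Groth.Agent.S4690
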