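import Groth.Statements.S4692
import Groth.Agent.FibreDim.ComponentDim

set_option autoImplicit false
universe u
open EGA4

namespace Groth.Agent.S4692

open AlgebraicGeometry CategoryTheory in
/-- Let Y be a locally Noetherian scheme all of whose local rings are universally catenary, X an
irreducible scheme, f : X → Y a morphism locally of finite type and n a natural number. If every
fibre of f has dimension at least n then dim X ≥ dim Y + n; if every fibre has dimension exactly n
then dim X = dim Y + n. (The empty scheme has dimension ⊥, so either hypothesis forces f to be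
surjective.) -/
theorem result {X Y : Scheme.{u}} (f : X ⟶ Y) [IsLocallyNoetherian Y]
    [LocallyOfFiniteType f] [IrreducibleSpace X] (hY : ∀ y : Y, CAlg.IsUniversallyCatenary (Y.presheaf.stalk y))
    (n : ℕ) :
    ((∀ y : Y, (n : WithBot ℕ∞) ≤ topologicalKrullDim (f.fiber y)) →
        topologicalKrullDim Y + n ≤ topologicalKrullDim X) ∧
      ((∀ y : Y, topologicalKrullDim (f.fiber y) = n) →
        topologicalKrullDim X = topologicalKrullDim Y + n) := by
  have low : (∀ y : Y, (n : WithBot ℕ∞) ≤ topologicalKrullDim (f.fiber y)) →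
      topologicalKrullDim Y + n ≤ topologicalKrullDim X := fun h => by
    have hsurj : Function.Surjective f.base := fun y => by
      by_contra hc
      have hbot := (Groth.FibreDim.isEmpty_fiber_iff f y).2 hc
      exact absurd ((h y).trans hbot) (by simp)
    haveI : IrreducibleSpace Y := (irreducibleSpace_def _).2 (by
      have := (IrreducibleSpace.isIrreducible_univ X).image f.base f.continuous.continuousOn
      rwa [Set.image_univ, hsurj.range_eq] at this)
    haveI : IsDominant f := ⟨hsurj.denseRange⟩
    haveI : IsLocallyNoetherian X := LocallyOfFiniteType.isLocallyNoetherian f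
    rw [Groth.FibreDim.dim_eq_iSup_stalk Y, Groth.FibreDim.dim_eq_iSup_stalk X]
    haveI : Nonempty Y := ⟨genericPoint Y⟩
    simp only [ringKrullDim_stalk_eq_coheight]
    rw [← WithBot.coe_iSup (OrderTop.bddAbove _),
      show (n : WithBot ℕ∞) = ((n : ℕ∞) : WithBot ℕ∞) from rfl, ← WithBot.coe_add, ENat.iSup_add,
      WithBot.coe_iSup (OrderTop.bddAbove _)]
    refine iSup_le fun y => ?_
    obtain ⟨x₀, rfl⟩ := hsurj y
    haveI : LocallyOfFiniteType (f.fiberToSpecResidueField (f.base x₀)) :=
      inferInstanceAs (LocallyOfFiniteType (CategoryTheory.Limits.pullback.snd f (Y.fromSpecResidueField (f.base x₀))))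
    obtain ⟨w, -, hw⟩ := Groth.Variety2.Dim.exists_isClosed_singleton_mem
      (k := Y.residueField (f.base x₀)) (f.fiberToSpecResidueField (f.base x₀))
      isOpen_univ.isLocallyClosed ⟨f.asFiber x₀, trivial⟩
    rw [← Groth.Variety2.Dim.height_eq_zero_iff] at hw
    obtain ⟨x, hxy, hx0⟩ : ∃ x, f.base x = f.base x₀ ∧ Order.height (f.asFiber x) = 0 := by
      refine ⟨(f.fiberι _).base w, Groth.FibreDim.apply_fiberι f _ w, ?_⟩
      suffices key : ∀ (y : Y) (_ : f.base ((f.fiberι (f.base x₀)).base w) = y) (v : f.fiber y),
          (f.fiberι y).base v = (f.fiberι (f.base x₀)).base w →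
            Order.height v = Order.height (f.asFiber ((f.fiberι (f.base x₀)).base w)) from
        (key _ (Groth.FibreDim.apply_fiberι f _ w) w rfl).symm.trans hw
      rintro _ rfl v hv
      rw [(f.fiberι _).isEmbedding.injective (hv.trans (f.fiberι_asFiber _).symm)]
    obtain ⟨a, b, e, t, t₀, ha, hb, -, -, ht₀, -, -, heq⟩ := Groth.FibreDim.exists_dim_formula_nat f x
    obtain ⟨t', t₀', -, ht', -, ht₀', -, heq'⟩ := Groth.FibreDim.exists_dim_formula f x
    rw [hx0, ← Nat.cast_zero, Nat.cast_inj] at ht'
    subst ht'
    have := heq' (hY _)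
    rw [ha, hb, Nat.cast_zero, add_zero] at this
    have hn : (n : WithBot ℕ∞) ≤ t₀' := ht₀' ▸ h (genericPoint Y)
    refine le_iSup_of_le x ?_
    rw [← ringKrullDim_stalk_eq_coheight, ha, WithBot.coe_add, ← hxy,
      ← ringKrullDim_stalk_eq_coheight, hb, this]
    exact add_le_add le_rfl hn
  exact ⟨low, fun h => le_antisymm (Groth.FibreDim.dim_le_add f n fun y => (h y).le)
    (low fun y => (h y).ge)⟩

end Groth.Agent.S4692
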