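import Groth.Statements.S4693
import Groth.Agent.S2597
import Mathlib.LinearAlgebra.Matrix.Charpoly.LinearMap

set_option autoImplicit false
universe u
open EGA4

namespace Groth.Agent.S4693

open TensorProduct in
/-- An element outside `p` is regular on `N/pN` for `N` flat. -/
theorem mem_smul_top_of_smul_mem {A : Type u} [CommRing A] (N : Type u) [AddCommGroup N] [Module A N] [Module.Flat A N]
    (p : Ideal A) [p.IsPrime] {a : A} (ha : a ∉ p) {x : N} (hx : a • x ∈ p • (⊤ : Submodule A N)) :
    x ∈ p • (⊤ : Submodule A N) := by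
  have h1 : IsSMulRegular (A ⧸ p) a := by
    intro y z hyz
    obtain ⟨y, rfl⟩ := Ideal.Quotient.mk_surjective y
    obtain ⟨z, rfl⟩ := Ideal.Quotient.mk_surjective z
    simp only [Algebra.smul_def, Ideal.Quotient.algebraMap_eq] at hyz
    exact mul_left_cancel₀ (mt Ideal.Quotient.eq_zero_iff_mem.mp ha) hyz
  have h2 : IsSMulRegular (N ⧸ p • (⊤ : Submodule A N)) a :=
    ((TensorProduct.tensorQuotEquivQuotSMul N p).isSMulRegular_congr a).mp (IsSMulRegular.lTensor N h1)
  exact mem_of_isSMulRegular_quotient_of_smul_mem h2 hx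

open Polynomial in
/-- Going down along a flat module with full support. -/
theorem comap_ne_of_flat {A B : Type u} [CommRing A] [CommRing B] [Algebra A B]
    (N : Type u) [AddCommGroup N] [Module B N] [Module A N] [IsScalarTower A B N] [Module.Finite B N]
    [Module.Flat A N] (hN : Module.support B N = Set.univ) (m : Ideal A) [m.IsMaximal] (p : Ideal A) (hp : p.IsPrime)
    (hpm : p ≠ m) (hle : p ≤ m) (q : Ideal B) (hq : q ∈ (p.map (algebraMap A B)).minimalPrimes) :
    q.comap (algebraMap A B) ≠ m := by
  intro hqm
  have := hq.1.1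
  obtain ⟨a, ham, hap⟩ := SetLike.exists_of_lt (lt_of_le_of_ne hle hpm)
  let U : Submonoid B := q.primeCompl ⊔ Submonoid.powers (algebraMap A B a)
  by_cases hdis : Disjoint (p.map (algebraMap A B) : Set B) U
  · obtain ⟨P, hP, hpP, hPU⟩ := Ideal.exists_le_prime_disjoint _ U hdis
    have hPq : P ≤ q := fun x hx => by
      by_contra hxq
      exact Set.disjoint_left.mp hPU hx (Submonoid.mem_sup_left hxq)
    exact Set.disjoint_left.mp hPU ((hq.2 ⟨hP, hpP⟩ hPq) (hqm.ge ham : algebraMap A B a ∈ q))
      (Submonoid.mem_sup_right (Submonoid.mem_powers _))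
  · obtain ⟨_, hmem, hU⟩ := Set.not_disjoint_iff.mp hdis
    obtain ⟨s, hs, _, ⟨n, rfl⟩, rfl⟩ := Submonoid.mem_sup.mp hU
    have hsub : ∀ x : N, s • x ∈ q • (⊤ : Submodule B N) := by
      intro x
      have h1 : a ^ n • (s • x) ∈ ((p.map (algebraMap A B)) • (⊤ : Submodule B N)).restrictScalars A := by
        rw [Submodule.restrictScalars_mem, ← algebraMap_smul B (a ^ n) (s • x), map_pow, smul_smul, mul_comm]
        exact Submodule.smul_mem_smul hmem Submodule.mem_top
      rw [Ideal.smul_restrictScalars, Submodule.restrictScalars_top] at h1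
      have h2 := mem_smul_top_of_smul_mem N p (fun h => hap (hp.mem_of_pow_mem n h)) h1
      rw [← Submodule.restrictScalars_top A B N, ← Ideal.smul_restrictScalars, Submodule.restrictScalars_mem] at h2
      exact Submodule.smul_mono_left hq.1.2 h2
    obtain ⟨f, hf, -, hcoeff, hev⟩ := LinearMap.exists_monic_and_natDegree_eq_and_coeff_mem_pow_and_aeval_eq_zero B
      (algebraMap B (Module.End B N) s) q (by rintro _ ⟨x, rfl⟩; simpa using hsub x)
    have hann : f.eval s ∈ Module.annihilator B N := Module.mem_annihilator.mpr fun x => by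
      rw [Polynomial.aeval_algebraMap_apply_eq_algebraMap_eval] at hev
      simpa using LinearMap.congr_fun hev x
    have hmemq : f.eval s ∈ q :=
      Module.mem_support_iff_of_finite.mp (hN ▸ Set.mem_univ (⟨q, hq.1.1⟩ : PrimeSpectrum B)) hann
    have hpow : s ^ f.natDegree ∈ q := by
      have e := hf.as_sum
      rw [e, eval_add, eval_pow, eval_X, eval_finsetSum] at hmemq
      refine (q.add_mem_iff_left (Ideal.sum_mem _ fun i hi => ?_)).mp hmemq
      rw [eval_mul, eval_C, eval_pow, eval_X]
      exact q.mul_mem_right _ (Ideal.pow_le_self (Nat.sub_ne_zero_of_lt (Finset.mem_range.mp hi)) (hcoeff i))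
    exact hs (hq.1.1.mem_of_pow_mem _ hpow)

/-- Let A → B be a local homomorphism of Noetherian local rings such that the closed fibre ring B/m_A B
has Krull dimension 0 (that is, m_A B is an ideal of definition of B). Then dim B ≤ dim A. If
moreover some finite B-module which is flat over A has support equal to all of Spec B (for instance
if B is flat over A), then dim B = dim A. -/
theorem result (A B : Type u) [CommRing A] [CommRing B] [IsNoetherianRing A]
    [IsNoetherianRing B] [IsLocalRing A] [IsLocalRing B] [Algebra A B] [IsLocalHom (algebraMap A B)]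
    (h0 : ringKrullDim (EGA4.FibRing A B) = 0) :
    ringKrullDim B ≤ ringKrullDim A ∧
      (∀ (N : Type u) [AddCommGroup N] [Module B N] [Module A N] [IsScalarTower A B N] [Module.Finite B N]
          [Module.Flat A N], Module.support B N = Set.univ → ringKrullDim B = ringKrullDim A) := by
  have hle : ringKrullDim B ≤ ringKrullDim A := by
    refine (Groth.FibreDim.ringKrullDim_le_add_fibre A B).trans ?_
    rw [show ringKrullDim (B ⧸ (IsLocalRing.maximalIdeal A).map (algebraMap A B)) = 0 from h0, add_zero]
  refine ⟨hle, fun N _ _ _ _ _ _ hN => ?_⟩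
  rw [Groth.Agent.S2597.result A B fun p hp hpm q hq =>
    comap_ne_of_flat N hN (IsLocalRing.maximalIdeal A) p hp hpm (IsLocalRing.le_maximalIdeal hp.ne_top) q hq,
    h0, add_zero]

end Groth.Agent.S4693
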