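import Groth.Statements.S4694
import Groth.Agent.Ega4Algebra2.DepthFlat
-- import your own Groth.Agent.* helpers here

set_option autoImplicit false
universe u
open EGA4

namespace Groth.Agent.S4694

open TensorProduct in
/-- Let A → B be a local homomorphism of Noetherian local rings, M a finite A-module and N a nonzero
finite B-module, flat over A, whose closed-fibre module N/m_A N has finite length. Then the depth of
the B-module N ⊗_A M equals the depth of the A-module M. (The companion equality of codepths in the
published item is not restated.) -/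
theorem result {A B M N : Type u} [CommRing A] [CommRing B]
    [IsNoetherianRing A] [IsNoetherianRing B] [IsLocalRing A] [IsLocalRing B] [Algebra A B]
    [IsLocalHom (algebraMap A B)] [AddCommGroup M] [Module A M] [Module.Finite A M]
    [AddCommGroup N] [Module B N] [Module A N] [IsScalarTower A B N] [Module.Finite B N] [Nontrivial N]
    [Module.Flat A N] (hN : IsFiniteLength B (EGA4.FibMod A B N)) :
    LocCoh.depth B (N ⊗[A] M) = LocCoh.depth A M := by
  rw [Groth.Ega4b.depth_tensor' (R := A) (S := B) N M]
  suffices h0 : LocCoh.depth B (EGA4.FibMod A B N) = 0 by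
    show LocCoh.depth A M + LocCoh.depth B (EGA4.FibMod A B N) = _
    rw [h0, add_zero]
  haveI : Nontrivial (EGA4.FibMod A B N) := Submodule.Quotient.nontrivial_iff.mpr
    (Groth.LocCohBase.smul_maximalIdeal_ne_top (R := B) N
      (ne_top_of_le_ne_top (IsLocalRing.maximalIdeal.isMaximal B).ne_top
        (Groth.Ega4b.map_maximalIdeal_le (R := A) (S := B))))
  obtain ⟨q, hq⟩ := associatedPrimes.nonempty B (EGA4.FibMod A B N)
  have hmax : q = IsLocalRing.maximalIdeal B := by
    obtain ⟨hqp, a, ha⟩ := isAssociatedPrime_iff.mp hq
    haveI := hqp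
    haveI : IsArtinian B (EGA4.FibMod A B N) := (isFiniteLength_iff_isNoetherian_isArtinian.mp hN).2
    let f : (B ⧸ q) →ₗ[B] EGA4.FibMod A B N := Submodule.liftQ _ (LinearMap.toSpanSingleton B _ a)
      (fun r hr => by
        rw [ha, Submodule.mem_colon_singleton, Submodule.mem_bot] at hr
        simpa using hr)
    haveI : IsArtinian B (B ⧸ q) := isArtinian_of_injective f (by
      rw [← LinearMap.ker_eq_bot, Submodule.ker_liftQ_eq_bot']
      ext r
      rw [ha, Submodule.mem_colon_singleton, Submodule.mem_bot]
      simp)
    haveI : IsArtinianRing (B ⧸ q) := isArtinian_of_tower B inferInstance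
    exact IsLocalRing.eq_maximalIdeal (Ideal.Quotient.maximal_of_isField q (IsArtinianRing.isField_of_isDomain _))
  by_contra hne
  exact (Groth.Ega4b.one_le_depth_iff (A := B) _).mp (Order.one_le_iff_ne_zero.mpr hne) (hmax ▸ hq)

end Groth.Agent.S4694
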