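import Groth.Statements.S4695
import Groth.Agent.Calg4.RegularHomSmooth

set_option autoImplicit false
universe u
open EGA4

namespace Groth.Agent.S4695

open TensorProduct in
/-- Case of regular morphisms, affine form: let A → B be a homomorphism of Noetherian rings and A' a
Noetherian A-algebra, and assume that B or A' is of finite type over A. If A → B is regular then the
base change A' → A' ⊗_A B is regular; the converse holds when A' is faithfully flat over A. -/
theorem result (A B A' : Type u) [CommRing A] [CommRing B] [CommRing A']
    [IsNoetherianRing A] [IsNoetherianRing B] [IsNoetherianRing A'] [Algebra A B] [Algebra A A']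
    (hft : Algebra.FiniteType A B ∨ Algebra.FiniteType A A') :
    (CAlg.IsRegularHom A B → CAlg.IsRegularHom A' (A' ⊗[A] B)) ∧
      (Module.FaithfullyFlat A A' → CAlg.IsRegularHom A' (A' ⊗[A] B) → CAlg.IsRegularHom A B) := by
  refine ⟨fun h => ?_, fun hff h => ?_⟩
  · rcases hft with hB | hA'
    · exact Groth.Calg4.IsRegularHom.baseChange_of_finiteType h A'
    · exact Groth.Calg4.IsRegularHom.baseChange h A'
  · refine Groth.Calg4.isRegularHom_of_isRegularRing_tensor ?_ fun L _ _ hL => ?_
    · have := h.1
      exact Module.Flat.of_flat_tensorProduct A B A'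
    · obtain ⟨Q, hQ⟩ := Ideal.exists_maximal (A' ⊗[A] L)
      let M := Q.ResidueField
      have : Algebra.EssFiniteType A' M := Algebra.EssFiniteType.comp A' (A' ⊗[A] L) M
      have := Groth.Calg4.IsRegularHom.isRegularRing_tensor h M
      have : IsRegularRing (M ⊗[A] B) :=
        IsRegularRing.of_ringEquiv (Algebra.TensorProduct.cancelBaseChange A A' A' M B).toRingEquiv
      let : Algebra L M := ((algebraMap (A' ⊗[A] L) M).comp
        (Algebra.TensorProduct.includeRight (R := A) (A := A') (B := L)).toRingHom).toAlgebra
      have : IsScalarTower A L M := IsScalarTower.of_algebraMap_eq fun a => by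
        rw [IsScalarTower.algebraMap_apply A (A' ⊗[A] L) M]
        exact congrArg (algebraMap (A' ⊗[A] L) M)
          ((Algebra.TensorProduct.includeRight (R := A) (A := A') (B := L)).commutes a).symm
      have : IsRegularRing ((L ⊗[A] B) ⊗[L] M) :=
        IsRegularRing.of_ringEquiv (((Algebra.TensorProduct.comm L M (L ⊗[A] B)).symm).trans
          (Algebra.TensorProduct.cancelBaseChange A L L M B)).symm.toRingEquiv
      exact Groth.Agent.S9406.result (L ⊗[A] B) ((L ⊗[A] B) ⊗[L] M)

end Groth.Agent.S4695
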