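import Groth.Statements.S4698
import Groth.Agent.FlatMorOne.GenFlatModule
import Groth.Agent.QCohMod.FiniteType
-- import your own Groth.Agent.* helpers here

set_option autoImplicit false
universe u
open EGA4

namespace Groth.Agent.S4698

open AlgebraicGeometry CategoryTheory in
/-- Let Y be an integral locally Noetherian scheme, u : X → Y a morphism of finite type and F a coherent
O_X-module. Then there is a nonempty open subset U of Y such that F is flat over Y at every point of
u⁻¹(U). -/
theorem result {X Y : Scheme.{u}} (u : X ⟶ Y) [IsIntegral Y] [IsLocallyNoetherian Y]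
    [LocallyOfFiniteType u] [QuasiCompact u] (F : X.Modules) (hF : Coh.IsCoh F) :
    ∃ U : Y.Opens, (U : Set Y).Nonempty ∧ ∀ x : X, u.base x ∈ U → FlatMod.IsFlatOverAt u F x := by
  have : F.IsQuasicoherent := hF.1
  exact Groth.FlatMorOne.exists_open_isFlatOverAt u F fun U hU => Groth.QCohMod.finite_sections F hF.2 hU

end Groth.Agent.S4698
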