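import Groth.Statements.S4699
import Groth.Agent.Ega4Algebra1.GenericDepth

set_option autoImplicit false
universe u
open EGA4

namespace Groth.Agent.S4699

/-- Let A be a Noetherian ring, M a finite A-module and I an ideal of A whose radical p is a prime ideal
lying in the support of M (so V(I) is an irreducible closed subset whose generic point is in Supp
M). Then there is an element f outside p such that, for every prime q containing I with f outside q,
the dimension of M_q is the dimension of M_p plus the dimension of (A/I)_q, and the depth of M_q is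
the depth of M_p plus the depth of (A/I)_q (the module (A/I)_q = A_q / I A_q being regarded over
A_q). -/
theorem result (A : Type u) [CommRing A] [IsNoetherianRing A]
    (M : Type u) [AddCommGroup M] [Module A M] [Module.Finite A M] (I : Ideal A) [I.radical.IsPrime]
    (hp : (⟨I.radical, inferInstance⟩ : PrimeSpectrum A) ∈ Module.support A M) :
    ∃ f : A, f ∉ I.radical ∧ ∀ (q : Ideal A) [q.IsPrime], I ≤ q → f ∉ q →
      Module.supportDim (Localization.AtPrime q) (LocalizedModule q.primeCompl M) =
          Module.supportDim (Localization.AtPrime I.radical) (LocalizedModule I.radical.primeCompl M) +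
            Module.supportDim (Localization.AtPrime q)
              (Localization.AtPrime q ⧸ I.map (algebraMap A (Localization.AtPrime q))) ∧
        LocCoh.depth (Localization.AtPrime q) (LocalizedModule q.primeCompl M) =
          LocCoh.depth (Localization.AtPrime I.radical) (LocalizedModule I.radical.primeCompl M) +
            LocCoh.depth (Localization.AtPrime q)
              (Localization.AtPrime q ⧸ I.map (algebraMap A (Localization.AtPrime q))) := by
  classical
  set p := I.radical
  obtain ⟨f₁, hf₁, hdim⟩ := Groth.Ega4Algebra1.exists_supportDim_eq p hp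
  have : Nontrivial (LocalizedModule p.primeCompl M) := hp
  have hfin : LocCoh.depth (Localization.AtPrime p) (LocalizedModule p.primeCompl M) ≠ ⊤ :=
    Groth.LocCohBase.idealDepth_ne_top fun h => top_ne_bot
      (Submodule.eq_bot_of_le_smul_of_le_jacobson_bot _
        (⊤ : Submodule (Localization.AtPrime p) (LocalizedModule p.primeCompl M)) Module.Finite.fg_top h.ge
        (IsLocalRing.maximalIdeal_le_jacobson ⊥))
  obtain ⟨r, hr⟩ := ENat.ne_top_iff_exists.mp hfin
  obtain ⟨f₂, hf₂, hdepth⟩ := Groth.Ega4Algebra1.exists_depth_eq p r M hr.symm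
  have hpI : p ∈ associatedPrimes A (A ⧸ I) :=
    Module.associatedPrimes.minimalPrimes_annihilator_subset_associatedPrimes A (A ⧸ I) (by
      rw [Ideal.annihilator_quotient]
      exact ⟨⟨inferInstance, Ideal.le_radical⟩, fun J hJ _ => hJ.1.radical_le_iff.mpr hJ.2⟩)
  obtain ⟨f₃, hf₃, hdI⟩ := Groth.Ega4Algebra1.exists_depth_eq_of_mem_associatedPrimes p hpI
  refine ⟨f₁ * f₂ * f₃, p.primeCompl.mul_mem (p.primeCompl.mul_mem hf₁ hf₂) hf₃, fun q _ hIq hfq => ?_⟩
  have hpq : p ≤ q := ‹q.IsPrime›.radical_le_iff.mpr hIq
  have h12 : f₁ * f₂ ∉ q := fun h => hfq (q.mul_mem_right _ h)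
  constructor
  · rw [hdim q hpq fun h => h12 (q.mul_mem_right _ h), Module.supportDim_quotient_eq_ringKrullDim,
      ringKrullDim_quotient, ringKrullDim_quotient]
    have hz : PrimeSpectrum.zeroLocus ((p.map (algebraMap A (Localization.AtPrime q)) : Ideal _) : Set (Localization.AtPrime q)) =
        PrimeSpectrum.zeroLocus ((I.map (algebraMap A (Localization.AtPrime q)) : Ideal _) : Set (Localization.AtPrime q)) :=
      Set.ext fun Q => ⟨fun h => ((Ideal.map_mono Ideal.le_radical).trans h :),
        fun h => (Ideal.map_le_iff_le_comap.mpr ((Q.isPrime.comap (algebraMap A (Localization.AtPrime q))).radical_le_iff.mpr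
          (Ideal.map_le_iff_le_comap.mp (SetLike.coe_subset_coe.mp h))) :)⟩
    rw [hz]
  · rw [hdepth q hpq fun h => h12 (q.mul_mem_left _ h), ← hr]
    congr 1
    rw [← hdI q hpq fun h => hfq (q.mul_mem_left _ h)]
    exact (Groth.LocCohBase.idealDepth_congr (Groth.Ega4Algebra1.quotLocEquiv I q)).symm

end Groth.Agent.S4699
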