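import Groth.Statements.S4701
import Groth.Agent.Ega4Algebra1.GenericRegular
import Groth.Agent.S4700

set_option autoImplicit false
universe u
open EGA4

namespace Groth.Agent.S4701

/-- Let A be a Noetherian ring. The regular locus of every quotient ring A/I is open in its spectrum if
and only if, for every prime ideal p, the regular locus of the domain A/p contains a nonempty open
subset of Spec(A/p). (The published statement quantifies over all subschemes of Spec A; open
subschemes of the closed ones add nothing, so closed subschemes are used here.) -/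
theorem result (A : Type u) [CommRing A] [IsNoetherianRing A] :
    (∀ I : Ideal A, IsOpen (EGA4.regLocus (A ⧸ I))) ↔
      ∀ (p : Ideal A) [p.IsPrime],
        ∃ U : Set (PrimeSpectrum (A ⧸ p)), IsOpen U ∧ U.Nonempty ∧ U ⊆ EGA4.regLocus (A ⧸ p) := by
  constructor
  · intro h p _
    refine ⟨_, h p, ⟨⟨⊥, Ideal.isPrime_bot⟩, ?_⟩, subset_rfl⟩
    refine Groth.Ega4Algebra1.isRegularLocalRing_of_maximalIdeal_eq_bot ?_
    exact (Localization.AtPrime.map_eq_maximalIdeal (I := (⊥ : Ideal (A ⧸ p)))).symm.trans Ideal.map_bot
  · intro h I
    refine Groth.Agent.S4700.result (A ⧸ I) fun P _ => ?_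
    let f : A →+* (A ⧸ I) ⧸ P.asIdeal := (Ideal.Quotient.mk P.asIdeal).comp (Ideal.Quotient.mk I)
    have hf : Function.Surjective f := Ideal.Quotient.mk_surjective.comp Ideal.Quotient.mk_surjective
    have hker : RingHom.ker f = P.asIdeal.comap (Ideal.Quotient.mk I) := by
      rw [← RingHom.comap_ker, Ideal.mk_ker]
    exact Groth.Ega4Algebra1.exists_open_regLocus_ringEquiv
      ((Ideal.quotEquivOfEq hker.symm).trans (RingHom.quotientKerEquivOfSurjective hf))
      (h (P.asIdeal.comap (Ideal.Quotient.mk I)))

end Groth.Agent.S4701
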