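import Groth.Statements.S4702
import Mathlib
import Groth.Agent.Variety2.DimScheme
import Groth.Agent.FibreDim.DimFormulaCor
import Groth.Agent.FibreDim.DimStalk
-- import your own Groth.Agent.* helpers here

set_option autoImplicit false
universe u
open EGA4

namespace Groth.Agent.S4702


open AlgebraicGeometry CategoryTheory in
/-- Let Y be an irreducible locally Noetherian scheme of dimension 1, X an irreducible scheme and f : X
→ Y a dominant morphism of finite type. Then for every point y in the image of f, every irreducible
component of the fibre of f at y has dimension equal to the dimension of the generic fibre. -/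
theorem result {X Y : Scheme.{u}} (f : X ⟶ Y) [IsLocallyNoetherian Y]
    [IrreducibleSpace Y] [IrreducibleSpace X] (hY : topologicalKrullDim Y = 1) [LocallyOfFiniteType f]
    [QuasiCompact f] (hf : DenseRange f.base) (y : Y) (hy : y ∈ Set.range f.base)
    (Z : Set ↥(f.fiber y)) (hZ : Z ∈ irreducibleComponents ↥(f.fiber y)) :
    topologicalKrullDim Z = topologicalKrullDim ↥(f.fiber (genericPoint Y)) := by
  haveI : IsDominant f := ⟨hf⟩
  haveI : IsLocallyNoetherian X := LocallyOfFiniteType.isLocallyNoetherian f
  haveI : LocallyOfFiniteType (f.fiberToSpecResidueField y) :=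
    inferInstanceAs (LocallyOfFiniteType (CategoryTheory.Limits.pullback.snd f (Y.fromSpecResidueField y)))
  obtain ⟨ξ, hξ⟩ := QuasiSober.sober hZ.1 (isClosed_of_mem_irreducibleComponents Z hZ)
  have hZeq : Z = closure {ξ} := hξ.symm
  have hmax : IsMax ξ := fun w hw => by
    have hw' : w ⤳ ξ := Scheme.le_iff_specializes.1 hw
    have hsub : Z ⊆ closure {w} := by
      rw [hZeq]
      exact closure_minimal (Set.singleton_subset_iff.2 hw'.mem_closure) isClosed_closure
    exact Scheme.le_iff_specializes.2
      (hξ.specializes (hZ.2 isIrreducible_singleton.closure hsub (subset_closure rfl)))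
  rw [hZeq, Groth.Variety2.Dim.dim_closure_singleton]
  obtain ⟨x, hx⟩ : ∃ x, (f.fiberι y).base ξ = x := ⟨_, rfl⟩
  have hfx : f.base x = y := by
    have := Set.mem_of_eq_of_mem rfl (f.range_fiberι y ▸ ⟨ξ, hx⟩ : x ∈ f ⁻¹' {y})
    exact this
  subst hfx
  have hξx : ξ = f.asFiber x := (f.fiberι _).isEmbedding.injective (hx.trans (f.fiberι_asFiber x).symm)
  subst hξx
  obtain ⟨a, b, e, t, t₀, ha, hb, he, hfd, ht₀, h1, h2, -⟩ := Groth.FibreDim.exists_dim_formula_nat f x
  have he0 : e = 0 := by
    rw [ringKrullDim_stalk_eq_coheight, Order.coheight_eq_zero.2 hmax] at he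
    exact_mod_cast he.symm
  have ht : Order.height (f.asFiber x) = (t : ℕ∞) := by
    rw [Groth.FibreDim.fibreDimAt_eq_height_add, he, he0, add_zero, Nat.cast_zero, add_zero] at hfd
    exact_mod_cast hfd
  have hb1 : b ≤ 1 := by
    have := le_iSup (fun y : Y => ringKrullDim (Y.presheaf.stalk y)) (f.base x)
    rw [← Groth.FibreDim.dim_eq_iSup_stalk, hY, hb] at this
    exact_mod_cast this
  have hab : a = 0 → b = 0 := by
    intro h0
    rw [h0, ringKrullDim_stalk_eq_coheight] at ha
    have hxmax : IsMax x := Order.coheight_eq_zero.1 (by exact_mod_cast ha)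
    have hxg : genericPoint X ≤ x := hxmax (Scheme.le_iff_specializes.2 (genericPoint_specializes x))
    have hxy : f.base x ⤳ genericPoint Y := by
      have hd : f.base (genericPoint X) ⤳ genericPoint Y := by
        rw [specializes_iff_mem_closure]
        have := (genericPoint_spec X).image f.base.hom.2
        rw [Set.image_univ] at this
        have e : closure {f.base (genericPoint X)} = (Set.univ : Set Y) := this.def.trans hf.closure_range
        rw [e]
        trivial
      exact ((Scheme.le_iff_specializes.1 hxg).map f.base.hom.2).trans hd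
    have hymax : IsMax (f.base x) := fun w _ =>
      Scheme.le_iff_specializes.2 (hxy.trans (genericPoint_specializes w))
    rw [ringKrullDim_stalk_eq_coheight, Order.coheight_eq_zero.2 hymax] at hb
    exact_mod_cast hb.symm
  have htt : t = t₀ := by omega
  rw [ht, ht₀, htt]
  rfl

end Groth.Agent.S4702
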