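import Groth.Statements.S4704
import Groth.Agent.Calg4.RegularHom
import Groth.Agent.Calg4.CompletionFlat

set_option autoImplicit false
universe u
open EGA4

namespace Groth.Agent.S4704

open TensorProduct

/-- Let A → A' be a local homomorphism of Noetherian local rings which is regular (flat, with
geometrically regular fibres). If the completion map of A' is regular (the formal fibres of A' are
geometrically regular), then the completion map of A is regular. -/
theorem result (A A' : Type u) [CommRing A] [CommRing A'] [IsNoetherianRing A]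
    [IsNoetherianRing A'] [IsLocalRing A] [IsLocalRing A'] [Algebra A A'] [IsLocalHom (algebraMap A A')]
    (hf : CAlg.IsRegularHom A A') (hA' : CAlg.IsRegularHom A' (EGA4.Cpl A')) :
    CAlg.IsRegularHom A (EGA4.Cpl A) := by
  have := hf.1
  have := hA'.1
  have hN : IsNoetherianRing (EGA4.Cpl A') :=
    Groth.Calg1.isNoetherianRing_adicCompletion _ (IsNoetherian.noetherian _)
  have : IsScalarTower A A' (EGA4.Cpl A') := inferInstance
  have hAC : CAlg.IsRegularHom A (EGA4.Cpl A') :=
    Groth.Calg4.IsRegularHom.trans hf hA' fun p _ => by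
      have : IsNoetherianRing (EGA4.Cpl A' ⊗[A] p.ResidueField) :=
        Algebra.EssFiniteType.isNoetherianRing (EGA4.Cpl A') _
      exact isNoetherianRing_of_ringEquiv (EGA4.Cpl A' ⊗[A] p.ResidueField)
        (Algebra.TensorProduct.comm A (EGA4.Cpl A') p.ResidueField).toRingEquiv
  have hle : (IsLocalRing.maximalIdeal A).map (algebraMap A A') ≤ IsLocalRing.maximalIdeal A' :=
    ((IsLocalRing.local_hom_TFAE (algebraMap A A')).out 0 2).mp ‹_›
  let : Algebra (EGA4.Cpl A) (EGA4.Cpl A') :=
    (Groth.PropsBasic.GRingLocal.cplMap _ _ (algebraMap A A') hle).toAlgebra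
  have : IsScalarTower A (EGA4.Cpl A) (EGA4.Cpl A') := IsScalarTower.of_algebraMap_eq fun a =>
    (Groth.Calg4.cplMap_algebraMap _ _ (algebraMap A A') hle a).symm
  have : IsLocalHom (algebraMap A (EGA4.Cpl A')) := by
    refine ((IsLocalRing.local_hom_TFAE _).out 0 2).mpr ?_
    rw [IsScalarTower.algebraMap_eq A A' (EGA4.Cpl A'), ← Ideal.map_map,
      AdicCompletion.maximalIdeal_eq_map]
    exact Ideal.map_mono hle
  have := hAC.1
  have := Groth.Calg4.faithfullyFlat_completion_of_flat A (EGA4.Cpl A')
  exact Groth.Calg4.IsRegularHom.of_faithfullyFlat hAC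

end Groth.Agent.S4704
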