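import Groth.Statements.S4707
import Groth.Agent.Ega4Algebra2.NormalBaseChange

set_option autoImplicit false
universe u
open EGA4

namespace Groth.Agent.S4707

open TensorProduct in
/-- Let A be a Noetherian ring and A' a Noetherian A-algebra such that A → A' is a normal homomorphism
(flat, with geometrically normal fibres). Let B → C be a homomorphism of A-algebras and D the
integral closure of B in C. Then the integral closure in A' ⊗_A C of the image of A' ⊗_A B is the
image of A' ⊗_A D. (No finiteness is assumed on B or C.) -/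
theorem result (A A' : Type u) [CommRing A] [CommRing A']
    [IsNoetherianRing A] [IsNoetherianRing A'] [Algebra A A'] (h : EGA4.IsNormalHom A A')
    (B C : Type u) [CommRing B] [CommRing C] [Algebra A B] [Algebra A C] [Algebra B C] [IsScalarTower A B C] :
    (integralClosure
          ↥(Algebra.TensorProduct.map (AlgHom.id A' A') (IsScalarTower.toAlgHom A B C)).range (A' ⊗[A] C) :
        Set (A' ⊗[A] C)) =
      Set.range (Algebra.TensorProduct.map (AlgHom.id A' A')
        ((integralClosure B C).val.restrictScalars A)) := by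
  haveI := h.1
  let f := Algebra.TensorProduct.map (AlgHom.id A' A') (IsScalarTower.toAlgHom A B C)
  let Bi : Subalgebra A C := (IsScalarTower.toAlgHom A B C).range
  let g : B →ₐ[A] Bi := (IsScalarTower.toAlgHom A B C).rangeRestrict
  have hg : Function.Surjective g := (IsScalarTower.toAlgHom A B C).rangeRestrict_surjective
  have hint : ∀ c : C, IsIntegral B c ↔ IsIntegral Bi c := fun c => by
    constructor
    · rintro ⟨q, hq, hq0⟩
      refine ⟨q.map g.toRingHom, hq.map _, ?_⟩
      rw [Polynomial.eval₂_map]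
      exact hq0
    · rintro ⟨q, hq, hq0⟩
      obtain ⟨q', hq', hqm⟩ := Groth.Ega4b.ICBC.exists_monic_lift g.toRingHom hq fun n => hg _
      refine ⟨q', hqm, ?_⟩
      rw [← hq', Polynomial.eval₂_map] at hq0
      exact hq0
  let N : Submodule A C := ((integralClosure B C).restrictScalars A).toSubmodule
  let F := Algebra.TensorProduct.map (AlgHom.id A' A') ((integralClosure B C).val.restrictScalars A)
  have hto : ∀ {z : A' ⊗[A] C}, z ∈ Groth.Ega4b.ICBC.img A' N → z ∈ Set.range F := by
    rintro z ⟨w, rfl⟩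
    induction w using TensorProduct.induction_on with
    | zero => exact ⟨0, by rw [map_zero, map_zero]⟩
    | tmul a c => exact ⟨a ⊗ₜ[A] ⟨(c : C), c.2⟩, rfl⟩
    | add u v hu hv =>
      obtain ⟨u', hu'⟩ := hu
      obtain ⟨v', hv'⟩ := hv
      exact ⟨u' + v', by rw [map_add, map_add, hu', hv']⟩
  have hfrom : ∀ w, F w ∈ Groth.Ega4b.ICBC.img A' N := by
    intro w
    induction w using TensorProduct.induction_on with
    | zero => rw [map_zero]; exact zero_mem _
    | tmul a c => exact Groth.Ega4b.ICBC.tmul_mem_img A' a c.2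
    | add u v hu hv => rw [map_add]; exact add_mem hu hv
  ext z
  constructor
  · rintro ⟨q, hq, hq0⟩
    obtain ⟨q', hq', hqm⟩ := Groth.Ega4b.ICBC.exists_monic_lift f.rangeRestrict.toRingHom hq
      fun n => f.rangeRestrict_surjective _
    have hz : Groth.Ega4b.ICBC.IntOver A' Bi z := by
      refine ⟨q'.map (Groth.Ega4b.ICBC.bc A' g).toRingHom, hqm.map _, ?_⟩
      rw [← hq', Polynomial.eval₂_map] at hq0
      rw [Polynomial.eval₂_map, ← hq0]
      refine congrArg (fun F => Polynomial.eval₂ F z q') (RingHom.ext fun w => ?_)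
      show Groth.Ega4b.ICBC.bc A' Bi.val (Groth.Ega4b.ICBC.bc A' g w) = f w
      rw [Groth.Ega4b.ICBC.bc_comp]
      rfl
    exact hto (Groth.Ega4b.ICBC.img_mono A' (N' := N) (fun c hc => (hint c).mpr hc)
      (Groth.Ega4b.ICBC.mem_img_of_intOver A' h.2 Bi hz))
  · rintro ⟨w, rfl⟩
    obtain ⟨q, hq, hq0⟩ := Groth.Ega4b.ICBC.intOver_of_mem_img A' Bi
      (Groth.Ega4b.ICBC.img_mono A' (N := N) (fun c hc => (hint c).mp hc) (hfrom w))
    obtain ⟨q', hq', hqm⟩ := Groth.Ega4b.ICBC.exists_monic_lift (Groth.Ega4b.ICBC.bc A' g).toRingHom hq fun n => by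
      obtain ⟨v, hv⟩ := LinearMap.lTensor_surjective A' (g := g.toLinearMap) hg (q.coeff n)
      exact ⟨v, (Groth.Ega4b.ICBC.bc_eq_lTensor A' g v).trans hv⟩
    refine ⟨q'.map f.rangeRestrict.toRingHom, hqm.map _, ?_⟩
    rw [← hq', Polynomial.eval₂_map] at hq0
    rw [Polynomial.eval₂_map, ← hq0]
    refine congrArg (fun F => Polynomial.eval₂ F _ q') (RingHom.ext fun v => ?_)
    show f v = Groth.Ega4b.ICBC.bc A' Bi.val (Groth.Ega4b.ICBC.bc A' g v)
    rw [Groth.Ega4b.ICBC.bc_comp]
    rfl

end Groth.Agent.S4707
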