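import Groth.Statements.S4714
import Mathlib
import Groth.Agent.Variety2.DimScheme
-- import your own Groth.Agent.* helpers here

set_option autoImplicit false
universe u
open EGA4

namespace Groth.Agent.S4714

open AlgebraicGeometry in
/-- A point lying in a nowhere dense closed subset of a locally Noetherian scheme is not maximal. -/
theorem exists_lt_of_interior_eq_empty {X : Scheme.{u}} [IsLocallyNoetherian X] {Y : Set X}
    (hc : IsClosed Y) (hi : interior Y = ∅) {x : X} (hx : x ∈ Y) : ∃ x', x < x' := by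
  classical
  by_contra hmax
  push Not at hmax
  obtain ⟨U, hU, hxU, -⟩ := exists_isAffineOpen_mem_and_subset (U := ⊤) (Set.mem_univ x)
  haveI : IsNoetherianRing Γ(X, U) := IsLocallyNoetherian.component_noetherian ⟨U, hU⟩
  obtain ⟨q, rfl⟩ := Groth.Variety2.Dim.exists_prime_of_mem hU hxU
  have hmin : ∀ q' : PrimeSpectrum Γ(X, U), q' ≤ q → q' = q := fun q' h => by
    by_contra hne
    exact hmax _ ((Groth.Variety2.Dim.lt_fromSpec_iff hU q' q).2 (lt_of_le_of_ne h hne))
  let T := ((minimalPrimes.finite_of_isNoetherianRing Γ(X, U)).toFinset.erase q.asIdeal)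
  have hT : ¬ T.inf id ≤ q.asIdeal := fun h => by
    obtain ⟨p, hp, hpq⟩ := (Ideal.IsPrime.inf_le' q.2).1 h
    obtain ⟨hne, hp⟩ := Finset.mem_erase.1 hp
    have hp' : p.IsPrime := ((Set.Finite.mem_toFinset _).1 hp).1.1
    exact hne (congrArg PrimeSpectrum.asIdeal (hmin ⟨p, hp'⟩ hpq))
  obtain ⟨s, hs, hsq⟩ := SetLike.not_le_iff_exists.1 hT
  have hsub : (X.basicOpen s : Set X) ⊆ Y := by
    intro z hz
    obtain ⟨r, rfl⟩ := Groth.Variety2.Dim.exists_prime_of_mem hU (X.basicOpen_le s hz)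
    have hsr : s ∉ r.asIdeal := by
      have : r ∈ hU.fromSpec ⁻¹ᵁ X.basicOpen s := hz
      rwa [hU.fromSpec_preimage_basicOpen] at this
    obtain ⟨p, hp, hpr⟩ := Ideal.exists_minimalPrimes_le (bot_le : ⊥ ≤ r.asIdeal)
    have hpq : p = q.asIdeal := by
      by_contra hne
      have hmem : p ∈ T := Finset.mem_erase.2 ⟨hne, (Set.Finite.mem_toFinset _).2 hp⟩
      exact hsr (hpr (Finset.inf_le (f := id) hmem hs))
    have hqr : q ≤ r := hpq.symm.le.trans hpr
    exact (Scheme.le_iff_specializes.1 ((Groth.Variety2.Dim.le_fromSpec_iff hU q r).2 hqr)).mem_closed hc hx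
  have hz : hU.fromSpec q ∈ X.basicOpen s := by
    show q ∈ hU.fromSpec ⁻¹ᵁ X.basicOpen s
    rw [hU.fromSpec_preimage_basicOpen]
    exact hsq
  have := interior_maximal hsub (X.basicOpen s).2 hz
  rw [hi] at this
  exact this

open AlgebraicGeometry in
/-- Krull: on a scheme, a point `z` in the zero locus of `f` generized by `ξ` outside of it has a
generization in the zero locus covered by `ξ`. -/
theorem exists_covBy {X : Scheme.{u}} [IsLocallyNoetherian X] (f : Γ(X, ⊤)) {z ξ : X} (hzξ : z ≤ ξ)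
    (hz : z ∈ X.zeroLocus (U := ⊤) {f}) (hξ : ξ ∉ X.zeroLocus (U := ⊤) {f}) :
    ∃ y ∈ X.zeroLocus (U := ⊤) {f}, y ⋖ ξ := by
  obtain ⟨U, hU, hzU, -⟩ := exists_isAffineOpen_mem_and_subset (U := ⊤) (Set.mem_univ z)
  haveI : IsNoetherianRing Γ(X, U) := IsLocallyNoetherian.component_noetherian ⟨U, hU⟩
  let g : Γ(X, U) := X.presheaf.map (CategoryTheory.homOfLE (le_top : U ≤ ⊤)).op f
  have hg : ∀ r : PrimeSpectrum Γ(X, U), hU.fromSpec r ∈ X.zeroLocus (U := ⊤) {f} ↔ g ∈ r.asIdeal := by
    intro r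
    rw [Scheme.zeroLocus_singleton]
    have h1 : hU.fromSpec r ∈ X.basicOpen g ↔ g ∉ r.asIdeal := by
      show r ∈ hU.fromSpec ⁻¹ᵁ X.basicOpen g ↔ _
      rw [hU.fromSpec_preimage_basicOpen]
      exact Iff.rfl
    have h2 : X.basicOpen g = U ⊓ X.basicOpen f := Scheme.basicOpen_res X f _
    have h3 : hU.fromSpec r ∈ X.basicOpen g ↔ hU.fromSpec r ∈ X.basicOpen f := by
      rw [h2]
      exact ⟨fun h => h.2, fun h => ⟨Groth.Variety2.Dim.fromSpec_mem hU r, h⟩⟩
    rw [Set.mem_compl_iff, SetLike.mem_coe, ← h3, h1, not_not]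
  have hξU : ξ ∈ U := (Scheme.le_iff_specializes.1 hzξ).mem_open U.2 hzU
  obtain ⟨a, rfl⟩ := Groth.Variety2.Dim.exists_prime_of_mem hU hzU
  obtain ⟨p, rfl⟩ := Groth.Variety2.Dim.exists_prime_of_mem hU hξU
  rw [Groth.Variety2.Dim.le_fromSpec_iff hU] at hzξ
  rw [hg] at hz hξ
  obtain ⟨q, hq, hqa⟩ := Ideal.exists_minimalPrimes_le
    (sup_le hzξ ((Ideal.span_singleton_le_iff_mem _).2 hz) : p.asIdeal ⊔ Ideal.span {g} ≤ a.asIdeal)
  let q' : PrimeSpectrum Γ(X, U) := ⟨q, hq.1.1⟩
  have hgq : g ∈ q := hq.1.2 (Ideal.mem_sup_right (Ideal.mem_span_singleton_self g))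
  have hpq : p < q' := lt_of_le_of_ne (le_sup_left.trans hq.1.2) fun e => hξ (by rw [e]; exact hgq)
  refine ⟨hU.fromSpec q', (hg q').2 hgq, (Groth.Variety2.Dim.lt_fromSpec_iff hU p q').2 hpq, ?_⟩
  intro w h1 h2
  have hwU : w ∈ U :=
    (Scheme.le_iff_specializes.1 h1.le).mem_open U.2 (Groth.Variety2.Dim.fromSpec_mem hU q')
  obtain ⟨r, rfl⟩ := Groth.Variety2.Dim.exists_prime_of_mem hU hwU
  rw [Groth.Variety2.Dim.lt_fromSpec_iff hU] at h1 h2
  obtain ⟨h1, h2⟩ := And.intro h2 h1
  -- `p < r < q'`, contradicting Krull in `A ⧸ p`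
  let A := Γ(X, U) ⧸ p.asIdeal
  let π := Ideal.Quotient.mk p.asIdeal
  have hker : RingHom.ker π = p.asIdeal := Ideal.mk_ker
  have hs : Function.Surjective π := Ideal.Quotient.mk_surjective
  have hqm : q.map π ∈ (Ideal.span {π g}).minimalPrimes := by
    have : (Ideal.span {π g}).comap π = p.asIdeal ⊔ Ideal.span {g} := by
      rw [← Set.image_singleton, ← Ideal.map_span, Ideal.comap_map_of_surjective π hs,
        ← RingHom.ker_eq_comap_bot, hker, sup_comm]
    rw [← this] at hq
    rw [Ideal.comap_minimalPrimes_eq_of_surjective hs] at hq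
    obtain ⟨Q, hQ, hQq⟩ := hq
    rwa [← hQq, Ideal.map_comap_of_surjective π hs]
  haveI : (Ideal.span {π g}).IsPrincipal := ⟨⟨π g, rfl⟩⟩
  have hle := Ideal.height_le_one_of_isPrincipal_of_mem_minimalPrimes _ _ hqm
  haveI hP : (q.map π).IsPrime := hqm.1.1
  haveI hR : (r.asIdeal.map π).IsPrime :=
    Ideal.map_isPrime_of_surjective hs (hker.le.trans h1.le)
  have c1 : (⊥ : Ideal A) < r.asIdeal.map π := by
    refine bot_lt_iff_ne_bot.2 fun e => h1.not_ge ?_
    exact (Ideal.map_eq_bot_iff_le_ker _).1 e |>.trans hker.le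
  have c2 : r.asIdeal.map π < q.map π := by
    refine lt_of_le_of_ne (Ideal.map_mono h2.le) fun e => h2.ne ?_
    have := congrArg (Ideal.comap π) e
    rw [Ideal.comap_map_of_surjective π hs, Ideal.comap_map_of_surjective π hs,
      ← RingHom.ker_eq_comap_bot, hker, sup_of_le_left h1.le, sup_of_le_left (h1.trans h2).le] at this
    exact PrimeSpectrum.ext this
  haveI : (⊥ : Ideal A).IsPrime := Ideal.isPrime_bot
  have e1 := Ideal.height_strict_mono_of_isPrime c1
  have e2 := Ideal.height_strict_mono_of_isPrime c2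
  have : (1 : ℕ∞) ≤ (r.asIdeal.map π).height := by
    rw [Order.one_le_iff_ne_zero]
    exact fun e => not_lt_zero (e ▸ e1)
  exact absurd (this.trans_lt (e2.trans_le hle)) (lt_irrefl _)


open AlgebraicGeometry CategoryTheory in
/-- For a section of the structure sheaf: let X be a scheme locally of finite type over a field k and f
a global section of O_X whose zero locus Y is nowhere dense in X. Then dim Y + 1 ≤ dim X. If
moreover some irreducible component of X has dimension equal to dim X and Y meets every such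
component, then dim Y + 1 = dim X. (The published statement is for a section of an invertible sheaf;
the existence of a component of maximal dimension, implicit in the published wording, is made a
hypothesis of the equality clause.) -/
theorem result (k : Type u) [Field k] (X : Scheme.{u}) (p : X ⟶ Spec (CommRingCat.of k))
    [LocallyOfFiniteType p] (f : Γ(X, ⊤)) (hY : interior (X.zeroLocus (U := ⊤) {f}) = ∅) :
    topologicalKrullDim (X.zeroLocus (U := ⊤) {f}) + 1 ≤ topologicalKrullDim X ∧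
      ((∃ Z ∈ irreducibleComponents (X : Type u), topologicalKrullDim Z = topologicalKrullDim X) →
        (∀ Z ∈ irreducibleComponents (X : Type u), topologicalKrullDim Z = topologicalKrullDim X →
          (Z ∩ X.zeroLocus (U := ⊤) {f}).Nonempty) →
        topologicalKrullDim (X.zeroLocus (U := ⊤) {f}) + 1 = topologicalKrullDim X) := by
  haveI : IsLocallyNoetherian X := LocallyOfFiniteType.isLocallyNoetherian p
  set Y : Set X := X.zeroLocus (U := ⊤) {f} with hYdef
  have hc : IsClosed Y := Scheme.zeroLocus_isClosed X _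
  have hdimY : topologicalKrullDim Y = ⨆ x ∈ Y, ((Order.height x : ℕ∞) : WithBot ℕ∞) :=
    Groth.Variety2.Dim.dim_closed hc
  have hle : topologicalKrullDim Y + 1 ≤ topologicalKrullDim X := by
    rcases Set.eq_empty_or_nonempty Y with hE | hne
    · rw [hdimY, hE]
      simp
    · rw [hdimY]
      haveI : Nonempty Y := hne.to_subtype
      rw [iSup_subtype', Groth.Variety2.Dim.dim_eq_iSup_height X]
      calc (⨆ x : {x // x ∈ Y}, ((Order.height x.1 : ℕ∞) : WithBot ℕ∞)) + 1
          = ((⨆ x : {x // x ∈ Y}, Order.height x.1 : ℕ∞) : WithBot ℕ∞) + 1 := by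
            rw [WithBot.coe_iSup (OrderTop.bddAbove _)]
        _ = (((⨆ x : {x // x ∈ Y}, Order.height x.1) + 1 : ℕ∞) : WithBot ℕ∞) := rfl
        _ = ((⨆ x : {x // x ∈ Y}, (Order.height x.1 + 1) : ℕ∞) : WithBot ℕ∞) := by
            rw [ENat.iSup_add]
        _ ≤ _ := by
            rw [WithBot.coe_iSup (OrderTop.bddAbove _)]
            refine iSup_le fun x => ?_
            obtain ⟨x', hx'⟩ := exists_lt_of_interior_eq_empty hc hY x.2
            exact le_iSup_of_le x' (WithBot.coe_le_coe.2 (Order.height_add_one_le hx'))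
  refine ⟨hle, fun ⟨Z, hZ, hZd⟩ hmeet => le_antisymm hle ?_⟩
  obtain ⟨z, hzZ, hzY⟩ := hmeet Z hZ hZd
  obtain ⟨ξ, hξ⟩ := QuasiSober.sober hZ.1 (isClosed_of_mem_irreducibleComponents Z hZ)
  have hξZ : ξ ∈ Z := hξ.mem
  have hZeq : Z = closure {ξ} := hξ.symm
  have hzξ : z ≤ ξ := Scheme.le_iff_specializes.2 (hξ.specializes hzZ)
  have hξY : ξ ∉ Y := fun h => by
    obtain ⟨ξ', hlt⟩ := exists_lt_of_interior_eq_empty hc hY h
    obtain ⟨hs, hne⟩ := Groth.Variety2.Dim.lt_iff.1 hlt
    have hsub : Z ⊆ closure {ξ'} := by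
      rw [hZeq]
      exact closure_minimal (Set.singleton_subset_iff.2 hs.mem_closure) isClosed_closure
    have hmem : ξ' ∈ Z := hZ.2 isIrreducible_singleton.closure hsub (subset_closure rfl)
    exact hne ((hξ.specializes hmem).antisymm hs).eq
  obtain ⟨y, hy, hcov⟩ := exists_covBy f hzξ hzY hξY
  rw [← hZd, hZeq, Groth.Variety2.Dim.dim_closure_singleton,
    Groth.Variety2.Dim.height_eq_of_covBy p hcov, hdimY, WithBot.coe_add, WithBot.coe_one]
  exact add_le_add (le_iSup₂ (f := fun x (_ : x ∈ Y) => ((Order.height x : ℕ∞) : WithBot ℕ∞)) y hy) le_rfl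

end Groth.Agent.S4714
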