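import Groth.Statements.S4715
import Groth.Agent.Ega4Algebra1.DimMaps

set_option autoImplicit false
universe u
open EGA4

namespace Groth.Agent.S4715

open AlgebraicGeometry CategoryTheory in
/-- Let f : X → Y be a quasi-finite morphism (of finite type with discrete fibres) of locally Noetherian
schemes. Then dim X is at most the dimension of the closure of f(X), which is at most dim Y. -/
theorem result {X Y : Scheme.{u}} (f : X ⟶ Y) [IsLocallyNoetherian X] [IsLocallyNoetherian Y]
    [LocallyQuasiFinite f] [LocallyOfFiniteType f] [QuasiCompact f] :
    topologicalKrullDim X ≤ topologicalKrullDim (closure (Set.range f.base)) ∧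
      topologicalKrullDim (closure (Set.range f.base)) ≤ topologicalKrullDim Y := by
  have hrc : IsClosed (closure (Set.range f.base)) := isClosed_closure
  have : QuasiSober (closure (Set.range f.base)) := hrc.isClosedEmbedding_subtypeVal.quasiSober
  let g : X → closure (Set.range f.base) := fun x => ⟨f.base x, subset_closure ⟨x, rfl⟩⟩
  have hg : Continuous g := f.continuous.subtype_mk _
  refine ⟨Groth.DescentBase.topologicalKrullDim_le_of_discrete_fibres g hg fun y => ?_,
    hrc.isClosedEmbedding_subtypeVal.isEmbedding.toIsInducing.topologicalKrullDim_le⟩
  have : g ⁻¹' {y} = f.base ⁻¹' {y.1} := by ext; simp [g, Subtype.ext_iff]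
  rw [this]
  exact f.isDiscrete_preimage_singleton y.1

end Groth.Agent.S4715
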