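import Groth.Statements.S4717
import Groth.Agent.Ega4Algebra1.DimMaps

set_option autoImplicit false
universe u
open EGA4

namespace Groth.Agent.S4717

open AlgebraicGeometry CategoryTheory in
/-- Let f : X → Y be a finite morphism of locally Noetherian schemes. Then dim X equals the dimension of
the image f(X); in particular if f is surjective then dim X = dim Y. -/
theorem result {X Y : Scheme.{u}} (f : X ⟶ Y) [IsLocallyNoetherian X] [IsLocallyNoetherian Y]
    [IsFinite f] :
    topologicalKrullDim X = topologicalKrullDim (Set.range f.base) ∧
      (Function.Surjective f.base → topologicalKrullDim X = topologicalKrullDim Y) := by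
  have hcl : IsClosedMap f.base := f.isClosedMap
  have hrc : IsClosed (Set.range f.base) := hcl.isClosed_range
  have : QuasiSober (Set.range f.base) := hrc.isClosedEmbedding_subtypeVal.quasiSober
  let g : X → Set.range f.base := Set.rangeFactorization f.base
  have hg : Continuous g := f.continuous.subtype_mk _
  have hgc : IsClosedMap g := hcl.codRestrict _
  refine ⟨le_antisymm (Groth.DescentBase.topologicalKrullDim_le_of_discrete_fibres g hg fun y => ?_)
    (Groth.Ega4Algebra1.topologicalKrullDim_le_of_specializing g hgc.specializingMap Set.rangeFactorization_surjective),
    fun hs => le_antisymm (Groth.DescentBase.topologicalKrullDim_le_of_discrete_fibres f.base f.continuous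
      f.isDiscrete_preimage_singleton)
      (Groth.Ega4Algebra1.topologicalKrullDim_le_of_specializing f.base hcl.specializingMap hs)⟩
  have : g ⁻¹' {y} = f.base ⁻¹' {y.1} := by ext; simp [g, Set.rangeFactorization, Subtype.ext_iff]
  rw [this]
  exact f.isDiscrete_preimage_singleton y.1

end Groth.Agent.S4717
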