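import Groth.Statements.S4718
import Groth.Agent.Ega4Algebra1.DepthRestrict
import Groth.Agent.Ega4Algebra2.SkTensor
-- import your own Groth.Agent.* helpers here

set_option autoImplicit false
universe u
open EGA4

namespace Groth.Agent.S4718

/-- Let A be a Noetherian local ring, B a Noetherian ring, A → B a ring homomorphism and M a nonzero
B-module which is finite as an A-module. Then M is a Cohen–Macaulay A-module if and only if, for all
primes q of B lying over the maximal ideal of A and belonging to the support of M, the B_q-module
M_q is Cohen–Macaulay and all these modules M_q have the same dimension. -/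
theorem result (A B : Type u) [CommRing A] [CommRing B]
    [IsNoetherianRing A] [IsLocalRing A] [IsNoetherianRing B] [Algebra A B]
    (M : Type u) [AddCommGroup M] [Module B M] [Module A M] [IsScalarTower A B M] [Module.Finite A M]
    [Nontrivial M] :
    LocCoh.IsCohenMacaulayModule A M ↔
      (∀ q ∈ {q : PrimeSpectrum B | q.asIdeal.comap (algebraMap A B) = IsLocalRing.maximalIdeal A ∧
          q ∈ Module.support B M},
        LocCoh.IsCohenMacaulayModule (Localization.AtPrime q.asIdeal) (LocalizedModule q.asIdeal.primeCompl M)) ∧
      (∀ q ∈ {q : PrimeSpectrum B | q.asIdeal.comap (algebraMap A B) = IsLocalRing.maximalIdeal A ∧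
          q ∈ Module.support B M},
        ∀ q' ∈ {q : PrimeSpectrum B | q.asIdeal.comap (algebraMap A B) = IsLocalRing.maximalIdeal A ∧
          q ∈ Module.support B M},
          Module.supportDim (Localization.AtPrime q.asIdeal) (LocalizedModule q.asIdeal.primeCompl M) =
            Module.supportDim (Localization.AtPrime q'.asIdeal) (LocalizedModule q'.asIdeal.primeCompl M)) := by
  obtain ⟨hA1, hA2⟩ := Groth.Ega4b.SkTensor.localized_self_data (R := A) M
  obtain ⟨h1, h2⟩ := Groth.Ega4Algebra1.supportDim_depth_restrictScalars A B M (IsLocalRing.maximalIdeal A)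
  rw [hA2] at h1
  rw [hA1] at h2
  haveI : Module.Finite B M := Module.Finite.of_restrictScalars_finite A B M
  have hle : ∀ q : PrimeSpectrum B, q ∈ Module.support B M →
      ((LocCoh.depth (Localization.AtPrime q.asIdeal) (LocalizedModule q.asIdeal.primeCompl M) : ℕ∞) : WithBot ℕ∞) ≤
        Module.supportDim (Localization.AtPrime q.asIdeal) (LocalizedModule q.asIdeal.primeCompl M) := by
    intro q hq
    haveI : Module.Finite (Localization.AtPrime q.asIdeal) (LocalizedModule q.asIdeal.primeCompl M) :=
      Module.Finite.of_isLocalizedModule q.asIdeal.primeCompl (LocalizedModule.mkLinearMap q.asIdeal.primeCompl M)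
    haveI := Module.mem_support_iff.1 hq
    exact Groth.LocCohBase.depth_le_supportDim _
  constructor
  · intro h
    have key : ∀ q ∈ {q : PrimeSpectrum B | q.asIdeal.comap (algebraMap A B) = IsLocalRing.maximalIdeal A ∧
        q ∈ Module.support B M},
        Module.supportDim (Localization.AtPrime q.asIdeal) (LocalizedModule q.asIdeal.primeCompl M) =
            Module.supportDim A M ∧
          ((LocCoh.depth (Localization.AtPrime q.asIdeal) (LocalizedModule q.asIdeal.primeCompl M) : ℕ∞) : WithBot ℕ∞) =
            Module.supportDim A M := by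
      intro q hq
      have hs : Module.supportDim (Localization.AtPrime q.asIdeal) (LocalizedModule q.asIdeal.primeCompl M) ≤
          Module.supportDim A M := h1 ▸ le_iSup₂_of_le q hq le_rfl
      have hd : Module.supportDim A M ≤
          ((LocCoh.depth (Localization.AtPrime q.asIdeal) (LocalizedModule q.asIdeal.primeCompl M) : ℕ∞) : WithBot ℕ∞) := by
        rw [show Module.supportDim A M = _ from h, h2]
        exact WithBot.coe_le_coe.2 (iInf₂_le q hq)
      exact ⟨le_antisymm hs (hd.trans (hle q hq.2)), le_antisymm ((hle q hq.2).trans hs) hd⟩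
    exact ⟨fun q hq => (key q hq).1.trans (key q hq).2.symm, fun q hq q' hq' => (key q hq).1.trans (key q' hq').1.symm⟩
  · rintro ⟨hcm, hconst⟩
    obtain ⟨q₀, hq₀⟩ : ∃ q₀, q₀ ∈ {q : PrimeSpectrum B | q.asIdeal.comap (algebraMap A B) = IsLocalRing.maximalIdeal A ∧
        q ∈ Module.support B M} := by
      by_contra hne
      have hb : Module.supportDim A M = ⊥ := h1.trans (le_bot_iff.1 (iSup₂_le fun q hq => absurd ⟨q, hq⟩ hne))
      exact (Module.supportDim_ne_bot_iff_nontrivial A M).2 inferInstance hb
    have hdim : Module.supportDim A M = _ := h1.trans (le_antisymm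
      (iSup₂_le fun q hq => (hconst q hq q₀ hq₀).le) (le_iSup₂_of_le q₀ hq₀ le_rfl))
    have hdep : LocCoh.depth A M =
        LocCoh.depth (Localization.AtPrime q₀.asIdeal) (LocalizedModule q₀.asIdeal.primeCompl M) := by
      refine h2.trans (le_antisymm (iInf₂_le q₀ hq₀) (le_iInf₂ fun q hq => ?_))
      exact (WithBot.coe_inj.1 (((hcm q₀ hq₀).symm.trans (hconst q₀ hq₀ q hq)).trans (hcm q hq))).le
    show Module.supportDim A M = _
    rw [hdim, hdep]
    exact hcm q₀ hq₀

end Groth.Agent.S4718
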