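import Groth.Statements.S4719
import Groth.Agent.Ega4Algebra1.DepthRestrict
-- import your own Groth.Agent.* helpers here

set_option autoImplicit false
universe u
open EGA4

namespace Groth.Agent.S4719

/-- Let A → B be a homomorphism of Noetherian rings and M a B-module which is finite as an A-module. (i)
If M satisfies (S_k) as an A-module, it satisfies (S_k) as a B-module. (ii) If for every two primes
q, q' of B in the support of M having the same contraction to A the modules M_q and M_{q'} have the
same dimension, then (S_k) for M as a B-module implies (S_k) for M as an A-module. (The published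
statement asks the equal-dimension condition for all pairs of primes of B with the same contraction;
this row asks it only for primes in the support of M, which is all its proof uses.) -/
theorem result (k : ℕ) (A B : Type u) [CommRing A] [CommRing B] [IsNoetherianRing A]
    [IsNoetherianRing B] [Algebra A B] (M : Type u) [AddCommGroup M] [Module B M] [Module A M]
    [IsScalarTower A B M] [Module.Finite A M] :
    (LocCoh.HasSk k A M → LocCoh.HasSk k B M) ∧
      ((∀ q ∈ Module.support B M, ∀ q' ∈ Module.support B M,
          q.asIdeal.comap (algebraMap A B) = q'.asIdeal.comap (algebraMap A B) →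
            Module.supportDim (Localization.AtPrime q.asIdeal) (LocalizedModule q.asIdeal.primeCompl M) =
              Module.supportDim (Localization.AtPrime q'.asIdeal) (LocalizedModule q'.asIdeal.primeCompl M)) →
        LocCoh.HasSk k B M → LocCoh.HasSk k A M) := by
  have key := fun (p : Ideal A) [p.IsPrime] => Groth.Ega4Algebra1.supportDim_depth_restrictScalars A B M p
  constructor
  · intro h q _
    by_cases hq : (⟨q, inferInstance⟩ : PrimeSpectrum B) ∈ Module.support B M
    · obtain ⟨h1, h2⟩ := key (q.comap (algebraMap A B))
      have h3 := h (q.comap (algebraMap A B))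
      rw [h1, h2] at h3
      refine le_trans (min_le_min le_rfl ?_) (h3.trans (WithBot.coe_le_coe.2 ?_))
      · exact le_iSup₂_of_le (⟨q, inferInstance⟩ : PrimeSpectrum B) ⟨rfl, hq⟩ le_rfl
      · exact iInf₂_le (⟨q, inferInstance⟩ : PrimeSpectrum B) (⟨rfl, hq⟩ : _ ∧ _)
    · haveI := Module.notMem_support_iff.1 hq
      rw [Module.supportDim_eq_bot_of_subsingleton]
      exact (min_le_right _ _).trans bot_le
  · intro hconst h p _
    obtain ⟨h1, h2⟩ := key p
    rw [h1, h2]
    by_cases hne : ∃ q : PrimeSpectrum B, q.asIdeal.comap (algebraMap A B) = p ∧ q ∈ Module.support B M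
    · obtain ⟨q₀, hq₀⟩ := hne
      have hsup : (⨆ q ∈ {q : PrimeSpectrum B | q.asIdeal.comap (algebraMap A B) = p ∧ q ∈ Module.support B M},
          Module.supportDim (Localization.AtPrime q.asIdeal) (LocalizedModule q.asIdeal.primeCompl M)) =
          Module.supportDim (Localization.AtPrime q₀.asIdeal) (LocalizedModule q₀.asIdeal.primeCompl M) :=
        le_antisymm (iSup₂_le fun q hq => (hconst q hq.2 q₀ hq₀.2 (hq.1.trans hq₀.1.symm)).le)
          (le_iSup₂_of_le q₀ hq₀ le_rfl)
      rw [hsup]
      cases hd : (⨅ q ∈ {q : PrimeSpectrum B | q.asIdeal.comap (algebraMap A B) = p ∧ q ∈ Module.support B M},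
          LocCoh.depth (Localization.AtPrime q.asIdeal) (LocalizedModule q.asIdeal.primeCompl M)) with
      | top => exact (min_le_left _ _).trans (WithBot.coe_le_coe.2 le_top)
      | coe d =>
        by_contra hlt
        rw [not_le, lt_min_iff] at hlt
        have hlt' : ∀ q ∈ {q : PrimeSpectrum B | q.asIdeal.comap (algebraMap A B) = p ∧ q ∈ Module.support B M},
            ((d + 1 : ℕ) : ℕ∞) ≤ LocCoh.depth (Localization.AtPrime q.asIdeal) (LocalizedModule q.asIdeal.primeCompl M) := by
          intro q hq
          have h3 := lt_of_lt_of_le (lt_min hlt.1 hlt.2)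
            (le_of_eq_of_le (by rw [hconst q hq.2 q₀ hq₀.2 (hq.1.trans hq₀.1.symm)]) (h q.asIdeal))
          rw [WithBot.coe_lt_coe] at h3
          rw [Nat.cast_succ]
          exact Order.add_one_le_of_lt h3
        have h4 := le_iInf₂ hlt'
        rw [hd] at h4
        exact absurd (Nat.cast_le.1 h4) (by omega)
    · have : (⨆ q ∈ {q : PrimeSpectrum B | q.asIdeal.comap (algebraMap A B) = p ∧ q ∈ Module.support B M},
          Module.supportDim (Localization.AtPrime q.asIdeal) (LocalizedModule q.asIdeal.primeCompl M)) = ⊥ :=
        le_bot_iff.1 (iSup₂_le fun q hq => absurd ⟨q, hq⟩ hne)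
      rw [this]
      exact (min_le_right _ _).trans bot_le

end Groth.Agent.S4719
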