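import Groth.Statements.S4721
import Groth.Agent.Ega4Algebra1.PureClosed
import Groth.Agent.Ega4Algebra1.SuppLoc

set_option autoImplicit false
universe u
open EGA4 CategoryTheory

namespace Groth.Agent.S4721

/-- Let A be a Noetherian ring whose spectrum is connected and d a natural number such that for every
prime p of height at least d the local ring A_p has depth at least 2. Then for any two distinct
minimal primes p', p'' of A there is a finite chain of minimal primes starting at p' and ending at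
p'' such that any two consecutive members are both contained in a prime ideal of height at most d −
1 (the spectrum is connected in codimension at most d − 1). -/
theorem result (A : Type u) [CommRing A] [IsNoetherianRing A]
    [ConnectedSpace (PrimeSpectrum A)] (d : ℕ)
    (h : ∀ (p : Ideal A) [p.IsPrime], (d : ℕ∞) ≤ p.height →
      (2 : ℕ∞) ≤ LocCoh.depth (Localization.AtPrime p) (Localization.AtPrime p))
    (p' p'' : Ideal A) (hp' : p' ∈ minimalPrimes A) (hp'' : p'' ∈ minimalPrimes A) (hne : p' ≠ p'') :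
    ∃ (n : ℕ) (c : Fin (n + 1) → Ideal A), c 0 = p' ∧ c (Fin.last n) = p'' ∧ (∀ i, c i ∈ minimalPrimes A) ∧
      ∀ i : Fin n, ∃ (q : Ideal A) (_ : q.IsPrime),
        c i.castSucc ≤ q ∧ c i.succ ≤ q ∧ q.height + 1 ≤ (d : ℕ∞) := by
  classical
  let R : Ideal A → Ideal A → Prop := fun a b => a ∈ minimalPrimes A ∧ b ∈ minimalPrimes A ∧
    ∃ (q : Ideal A) (_ : q.IsPrime), a ≤ q ∧ b ≤ q ∧ q.height + 1 ≤ (d : ℕ∞)
  suffices hreach : Relation.ReflTransGen R p' p'' by
    clear hne hp''
    induction hreach with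
    | refl => exact ⟨0, fun _ => p', rfl, rfl, fun _ => hp', fun i => i.elim0⟩
    | @tail b c _ hbc ih =>
      obtain ⟨n, f, h0, hl, hmin, hstep⟩ := ih
      obtain ⟨-, hc, hq⟩ := hbc
      refine ⟨n + 1, Fin.snoc f c, ?_, by simp, fun i => ?_, fun i => ?_⟩
      · rw [← Fin.castSucc_zero, Fin.snoc_castSucc, h0]
      · induction i using Fin.lastCases with
        | last => simpa using hc
        | cast j => simpa using hmin j
      · induction i using Fin.lastCases with
        | last =>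
          obtain ⟨q, hqp, h1, h2, h3⟩ := hq
          exact ⟨q, hqp, by rw [Fin.snoc_castSucc, hl]; exact h1, by rw [Fin.succ_last, Fin.snoc_last]; exact h2, h3⟩
        | cast j =>
          obtain ⟨q, hqp, h1, h2, h3⟩ := hstep j
          exact ⟨q, hqp, by rw [Fin.snoc_castSucc]; exact h1, by rw [Fin.succ_castSucc, Fin.snoc_castSucc]; exact h2, h3⟩
  by_contra hnot
  let Z := EGA4.Zge A d
  have hZ : StableUnderSpecialization Z := fun p q hpq hp =>
    le_trans (show (d : ℕ∞) ≤ p.asIdeal.height from hp) (Ideal.height_mono ((PrimeSpectrum.le_iff_specializes p q).mpr hpq))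
  have hclosed : EGA4.IsClosedAlong Z A := (Groth.Ega4Algebra1.isClosedAlong_iff hZ).mpr fun p hp => h p.asIdeal hp
  -- the two unions of components
  have hfin := minimalPrimes.finite_of_isNoetherianRing A
  let C : Set (Ideal A) := {a ∈ minimalPrimes A | Relation.ReflTransGen R p' a}
  let D : Set (Ideal A) := {a ∈ minimalPrimes A | ¬ Relation.ReflTransGen R p' a}
  have hCf : C.Finite := hfin.subset fun a ha => ha.1
  have hDf : D.Finite := hfin.subset fun a ha => ha.1
  let I₁ := hCf.toFinset.inf id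
  let I₂ := hDf.toFinset.inf id
  have hI₁ : ∀ q : PrimeSpectrum A, I₁ ≤ q.asIdeal → ∃ a ∈ C, a ≤ q.asIdeal := fun q hq => by
    obtain ⟨a, ha, hle⟩ := (Ideal.IsPrime.inf_le' q.isPrime).mp hq
    exact ⟨a, hCf.mem_toFinset.mp ha, hle⟩
  have hI₂ : ∀ q : PrimeSpectrum A, I₂ ≤ q.asIdeal → ∃ a ∈ D, a ≤ q.asIdeal := fun q hq => by
    obtain ⟨a, ha, hle⟩ := (Ideal.IsPrime.inf_le' q.isPrime).mp hq
    exact ⟨a, hDf.mem_toFinset.mp ha, hle⟩
  let J := I₁ ⊔ I₂
  have hJ : PrimeSpectrum.zeroLocus (J : Set A) ⊆ Z := fun q hq => by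
    have hq' : J ≤ q.asIdeal := hq
    obtain ⟨a, haC, haq⟩ := hI₁ q (le_sup_left.trans hq')
    obtain ⟨b, hbD, hbq⟩ := hI₂ q (le_sup_right.trans hq')
    show (d : ℕ∞) ≤ q.asIdeal.height
    by_contra hlt
    exact hbD.2 (haC.2.tail ⟨haC.1, hbD.1, q.asIdeal, q.isPrime, haq, hbq, Order.add_one_le_of_lt (not_le.mp hlt)⟩)
  have hcover : ∀ q : PrimeSpectrum A, I₁ ≤ q.asIdeal ∨ I₂ ≤ q.asIdeal := fun q => by
    obtain ⟨a, ha, hle⟩ := Ideal.exists_minimalPrimes_le (I := (⊥ : Ideal A)) (J := q.asIdeal) bot_le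
    by_cases hr : Relation.ReflTransGen R p' a
    · exact Or.inl ((Finset.inf_le (hCf.mem_toFinset.mpr ⟨ha, hr⟩)).trans hle)
    · exact Or.inr ((Finset.inf_le (hDf.mem_toFinset.mpr ⟨ha, hr⟩)).trans hle)
  -- the idempotent section
  let s : Groth.Ega4Algebra1.Sect A J A := ⟨fun x => if I₁ ≤ (PrimeSpectrum.asIdeal x.1) then
      LocalizedModule.mkLinearMap _ A 1 else 0, fun x => by
    have hx := (Groth.Ega4Algebra1.mem_complOpen_iff x.1).mp x.2
    by_cases h1 : I₁ ≤ PrimeSpectrum.asIdeal x.1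
    · have h2 : ¬ I₂ ≤ PrimeSpectrum.asIdeal x.1 := fun h2 => hx (sup_le h1 h2)
      obtain ⟨r, hr, hrx⟩ := SetLike.not_le_iff_exists.mp h2
      refine ⟨PrimeSpectrum.basicOpen r, hrx, homOfLE fun y hy => (Groth.Ega4Algebra1.mem_complOpen_iff y).mpr
        fun hle => hy (le_sup_right.trans hle hr), 1, 1, fun y => ⟨Ideal.IsPrime.one_notMem (PrimeSpectrum.isPrime y.1), ?_⟩⟩
      refine (if_pos ((hcover y.1).resolve_right fun h' => y.2 (h' hr))).trans ?_
      rfl
    · obtain ⟨r, hr, hrx⟩ := SetLike.not_le_iff_exists.mp h1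
      refine ⟨PrimeSpectrum.basicOpen r, hrx, homOfLE fun y hy => (Groth.Ega4Algebra1.mem_complOpen_iff y).mpr
        fun hle => hy (le_sup_left.trans hle hr), 0, 1, fun y => ⟨Ideal.IsPrime.one_notMem (PrimeSpectrum.isPrime y.1), ?_⟩⟩
      exact (if_neg fun h' => y.2 (h' hr)).trans (LocalizedModule.zero_mk _).symm⟩
  obtain ⟨hinj, hsurj⟩ := Groth.Ega4Algebra1.bijective_restrCompl_iff.mp (hclosed J hJ)
  obtain ⟨a, ha⟩ := hsurj s
  have hval : ∀ x : Groth.Ega4Algebra1.complOpen A J, LocalizedModule.mkLinearMap (PrimeSpectrum.asIdeal x.1).primeCompl A a =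
      if I₁ ≤ PrimeSpectrum.asIdeal x.1 then LocalizedModule.mkLinearMap _ A 1 else 0 := fun x =>
    congrFun (congrArg Subtype.val ha) x
  have hidem : IsIdempotentElem a := hinj (Groth.Ega4Algebra1.Sect.ext fun x => by
    rw [Groth.Ega4Algebra1.toSect_apply, Groth.Ega4Algebra1.toSect_apply]
    rw [← smul_eq_mul, map_smul, hval]
    split
    · rw [← map_smul, smul_eq_mul, mul_one, hval, if_pos ‹_›]
    · rw [smul_zero])
  have hclop : IsClopen (PrimeSpectrum.zeroLocus ({a} : Set A)) := PrimeSpectrum.isClopen_iff_zeroLocus.mpr ⟨a, hidem, rfl⟩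
  have hout : ∀ e : Ideal A, e ∈ minimalPrimes A → ∀ he : e.IsPrime, (⟨e, he⟩ : PrimeSpectrum A) ∉ Z := fun e he hep hZe => by
    have hnt : Nontrivial A := Ideal.Quotient.mk_surjective.nontrivial (f := Ideal.Quotient.mk e) |> fun h => h
    have : e ∈ associatedPrimes A A := by
      refine Module.associatedPrimes.minimalPrimes_annihilator_subset_associatedPrimes A A ?_
      rwa [Module.annihilator_eq_bot.mpr inferInstance]
    exact (Groth.LocCohBase.one_le_depth_localized_iff e A).mp (le_trans (by norm_num) (h e hZe)) this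
  have hp'p := hp'.1.1
  have hp''p := hp''.1.1
  have key : ∀ (e : PrimeSpectrum A), e.asIdeal ∈ minimalPrimes A → (a ∈ e.asIdeal ↔ ¬ I₁ ≤ e.asIdeal) := fun e he => by
    have hx : e ∈ Groth.Ega4Algebra1.complOpen A J := (Groth.Ega4Algebra1.mem_complOpen_iff e).mpr fun hle =>
      hout e.asIdeal he e.isPrime (hJ hle)
    have h1 := hval ⟨e, hx⟩
    constructor
    · intro hae hI
      rw [if_pos hI, ← sub_eq_zero, ← map_sub, Groth.Ega4Algebra1.mkLinearMap_eq_zero_iff] at h1
      obtain ⟨u, hu, hu0⟩ := h1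
      refine hu ((e.isPrime.mem_or_mem (show u * (a - 1) ∈ e.asIdeal by rw [← smul_eq_mul, hu0]; exact zero_mem _)).resolve_right fun h' => ?_)
      exact e.isPrime.one_notMem (by simpa using e.asIdeal.sub_mem hae h')
    · intro hI
      rw [if_neg hI, Groth.Ega4Algebra1.mkLinearMap_eq_zero_iff] at h1
      obtain ⟨u, hu, hu0⟩ := h1
      exact (e.isPrime.mem_or_mem (show u * a ∈ e.asIdeal by rw [← smul_eq_mul, hu0]; exact zero_mem _)).resolve_left hu
  have h1 : a ∉ p' := fun h' => (key ⟨p', hp'p⟩ hp').mp h' (Finset.inf_le (hCf.mem_toFinset.mpr ⟨hp', .refl⟩))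
  have h2 : a ∈ p'' := (key ⟨p'', hp''p⟩ hp'').mpr fun hle => by
    obtain ⟨b, hbC, hb⟩ := hI₁ ⟨p'', hp''p⟩ hle
    have hbe : b = p'' := le_antisymm hb (hp''.2 hbC.1.1 hb)
    exact hnot (hbe ▸ hbC.2)
  rcases isClopen_iff.mp hclop with hE | hU
  · exact Set.eq_empty_iff_forall_notMem.mp hE ⟨p'', hp''p⟩ (by simpa using h2)
  · exact h1 (by simpa using Set.eq_univ_iff_forall.mp hU ⟨p', hp'p⟩)

end Groth.Agent.S4721
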