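import Groth.Statements.S4722
import Mathlib

set_option autoImplicit false
universe u
open EGA4

namespace Groth.Agent.S4722

/-- Let A be a Noetherian ring and M a finite A-module whose set of associated primes is a single prime
p. Then M has a finite decreasing filtration by submodules M = M_0 ⊇ M_1 ⊇ ⋯ ⊇ M_m = 0 such that
each quotient M_h/M_{h+1} is isomorphic to a submodule of A/p (i.e. embeds A-linearly into A/p). -/
theorem result (A : Type u) [CommRing A] [IsNoetherianRing A]
    (M : Type u) [AddCommGroup M] [Module A M] [Module.Finite A M] (p : Ideal A)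
    (hp : associatedPrimes A M = {p}) :
    ∃ (m : ℕ) (F : Fin (m + 1) → Submodule A M), Antitone F ∧ F 0 = ⊤ ∧ F (Fin.last m) = ⊥ ∧
      ∀ i : Fin m, ∃ g : (↥(F i.castSucc) ⧸ Submodule.comap (F i.castSucc).subtype (F i.succ)) →ₗ[A] (A ⧸ p),
        Function.Injective g := by
  classical
  have hpp : p.IsPrime := (show p ∈ associatedPrimes A M from hp ▸ rfl).isPrime
  let Good : Submodule A M → Prop := fun N =>
    (∀ s, s ∉ p → ∀ w, s • w ∈ N → w ∈ N) ∧ ∃ (m : ℕ) (F : Fin (m + 1) → Submodule A M), Antitone F ∧ F 0 = N ∧ F (Fin.last m) = ⊥ ∧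
      ∀ i : Fin m, ∃ g : (↥(F i.castSucc) ⧸ Submodule.comap (F i.castSucc).subtype (F i.succ)) →ₗ[A] (A ⧸ p),
        Function.Injective g
  have hbot : Good ⊥ := by
    refine ⟨fun s hs w hw => ?_, 0, fun _ => ⊥, fun _ _ _ => le_rfl, rfl, rfl, fun i => i.elim0⟩
    by_contra hw0
    have hw' : w ∈ {r : M | r ≠ 0} := fun h => hw0 (by rw [h]; exact zero_mem _)
    have : s ∈ ⋃ q ∈ associatedPrimes A M, (q : Set A) := by
      rw [biUnion_associatedPrimes_eq_compl_regular]
      intro hreg
      exact hw' (hreg (show s • w = s • 0 by rw [smul_zero]; exact (Submodule.mem_bot A).mp hw))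
    rw [hp] at this
    simp at this
    exact hs this
  obtain ⟨N, ⟨hsat, m, F, hanti, hF0, hlast, hstep⟩, hmax⟩ :=
    exists_maximal_of_wellFoundedGT Good ⟨⊥, hbot⟩
  suffices hN : N = ⊤ from ⟨m, F, hanti, hN ▸ hF0, hlast, hstep⟩
  by_contra hne
  have : Nontrivial (M ⧸ N) := Submodule.Quotient.nontrivial_iff.mpr hne
  -- the only associated prime of `M ⧸ N` is `p`
  have hass : ∀ q ∈ associatedPrimes A (M ⧸ N), q = p := fun q hq => by
    obtain ⟨hqp, z, hz⟩ := isAssociatedPrime_iff.mp hq
    obtain ⟨z, rfl⟩ := Submodule.Quotient.mk_surjective _ z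
    refine le_antisymm (fun r hr => ?_) ?_
    · by_contra hrp
      rw [hz, Submodule.mem_colon_singleton, Submodule.mem_bot, ← Submodule.Quotient.mk_smul,
        Submodule.Quotient.mk_eq_zero] at hr
      refine hqp.one_notMem ?_
      rw [hz, Submodule.mem_colon_singleton, Submodule.mem_bot, one_smul, Submodule.Quotient.mk_eq_zero]
      exact hsat r hrp z hr
    · obtain ⟨q', hq', hle⟩ := Ideal.exists_minimalPrimes_le
        (show Module.annihilator A M ≤ q from fun r hr => by
          rw [hz, Submodule.mem_colon_singleton, Submodule.mem_bot, ← Submodule.Quotient.mk_smul,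
            Module.mem_annihilator.mp hr z, Submodule.Quotient.mk_zero])
      have : q' ∈ associatedPrimes A M := Module.associatedPrimes.minimalPrimes_annihilator_subset_associatedPrimes A M hq'
      rw [hp, Set.mem_singleton_iff] at this
      exact this ▸ hle
  obtain ⟨q, hq⟩ := associatedPrimes.nonempty A (M ⧸ N)
  obtain ⟨-, z, hz⟩ := isAssociatedPrime_iff.mp hq
  rw [hass q hq] at hz
  obtain ⟨x, rfl⟩ := Submodule.Quotient.mk_surjective _ z
  have hx : ∀ r, r ∈ p ↔ r • x ∈ N := fun r => by
    rw [hz, Submodule.mem_colon_singleton, Submodule.mem_bot, ← Submodule.Quotient.mk_smul, Submodule.Quotient.mk_eq_zero]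
  let N' : Submodule A M :=
    { carrier := {w | ∃ s, s ∉ p ∧ ∃ a : A, s • w - a • x ∈ N}
      add_mem' := by
        rintro u v ⟨s, hs, a, ha⟩ ⟨t, ht, c, hc⟩
        refine ⟨s * t, (p.primeCompl).mul_mem hs ht, t * a + s * c, ?_⟩
        have := N.add_mem (N.smul_mem t ha) (N.smul_mem s hc)
        convert this using 1
        module
      zero_mem' := ⟨1, hpp.one_notMem, 0, by simp⟩
      smul_mem' := by
        rintro r w ⟨s, hs, a, ha⟩
        refine ⟨s, hs, r * a, ?_⟩
        convert N.smul_mem r ha using 1
        module }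
  have hle : N ≤ N' := fun w hw => ⟨1, hpp.one_notMem, 0, by simpa using hw⟩
  have hxN' : x ∈ N' := ⟨1, hpp.one_notMem, 1, by simp⟩
  have hxN : x ∉ N := fun h => hpp.one_notMem ((hx 1).mpr (by rwa [one_smul]))
  refine hxN (hmax ⟨fun s hs w h => ?_,
    m + 1, Fin.cons N' F, ?_, Fin.cons_zero _ _, ?_, ?_⟩ hle hxN')
  · obtain ⟨t, ht, a, ha⟩ := (h : ∃ t, t ∉ p ∧ ∃ a : A, t • s • w - a • x ∈ N)
    exact ⟨t * s, (p.primeCompl).mul_mem ht hs, a, by rwa [mul_smul]⟩
  · refine Fin.antitone_iff_succ_le.mpr fun i => ?_
    induction i using Fin.cases with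
    | zero => simpa [hF0] using hle
    | succ j => simpa [← Fin.succ_castSucc] using hanti (Fin.castSucc_le_succ j)
  · rw [← Fin.succ_last, Fin.cons_succ, hlast]
  · intro i
    induction i using Fin.cases with
    | succ j =>
      have h1 : Fin.cons (α := fun _ => Submodule A M) N' F j.succ.castSucc = F j.castSucc := by rw [← Fin.succ_castSucc, Fin.cons_succ]
      have h2 : Fin.cons (α := fun _ => Submodule A M) N' F j.succ.succ = F j.succ := Fin.cons_succ ..
      rw [h1, h2]; exact hstep j
    | zero =>
      suffices H : ∃ g : (↥N' ⧸ Submodule.comap N'.subtype N) →ₗ[A] (A ⧸ p), Function.Injective g by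
        have h2 : Fin.cons (α := fun _ => Submodule A M) N' F (Fin.succ 0) = N := by rw [Fin.cons_succ, hF0]
        rw [h2]; exact H
      obtain ⟨G, hG⟩ := (IsNoetherian.noetherian N' : N'.FG)
      choose s hs a ha using fun w : G => (show (w : M) ∈ N' from hG ▸ Submodule.subset_span w.2)
      let S := ∏ w ∈ G.attach, s w
      have hS : S ∉ p := prod_mem (S := p.primeCompl) fun w _ => hs w
      have hSw : ∀ w ∈ N', ∃ c : A, S • w - c • x ∈ N := by
        intro w hw
        rw [← hG] at hw
        induction hw using Submodule.span_induction with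
        | mem y hy =>
          refine ⟨(∏ w ∈ G.attach.erase ⟨y, hy⟩, s w) * a ⟨y, hy⟩, ?_⟩
          convert N.smul_mem (∏ w ∈ G.attach.erase ⟨y, hy⟩, s w) (ha ⟨y, hy⟩) using 1
          rw [smul_sub, smul_smul, smul_smul, Finset.prod_erase_mul _ _ (Finset.mem_attach G ⟨y, hy⟩)]
        | zero => exact ⟨0, by simp⟩
        | add y z _ _ hy hz =>
          obtain ⟨c, hc⟩ := hy
          obtain ⟨d, hd⟩ := hz
          refine ⟨c + d, ?_⟩
          convert N.add_mem hc hd using 1
          module
        | smul r y _ hy =>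
          obtain ⟨c, hc⟩ := hy
          refine ⟨r * c, ?_⟩
          convert N.smul_mem r hc using 1
          module
      choose c hc using fun w : N' => hSw w.1 w.2
      have huniq : ∀ (w : N') (d : A), S • (w : M) - d • x ∈ N → Ideal.Quotient.mk p d = Ideal.Quotient.mk p (c w) := fun w d hd => by
        rw [Ideal.Quotient.eq, hx, sub_smul]
        convert N.sub_mem (hc w) hd using 1
        module
      let g : N' →ₗ[A] A ⧸ p :=
        { toFun := fun w => Ideal.Quotient.mk p (c w)
          map_add' := fun v w => by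
            rw [← map_add]
            refine (huniq _ _ ?_).symm
            convert N.add_mem (hc v) (hc w) using 1
            rw [Submodule.coe_add]; module
          map_smul' := fun r w => by
            rw [RingHom.id_apply, Algebra.smul_def, Ideal.Quotient.algebraMap_eq, ← map_mul]
            refine (huniq _ _ ?_).symm
            convert N.smul_mem r (hc w) using 1
            rw [SetLike.val_smul]; module }
      refine ⟨Submodule.liftQ _ g fun w hw => ?_, ?_⟩
      · show Ideal.Quotient.mk p (c w) = 0
        refine ((huniq w 0 ?_).symm).trans (map_zero _)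
        simpa using N.smul_mem S (show (w : M) ∈ N from hw)
      · rw [← LinearMap.ker_eq_bot]
        refine Submodule.ker_liftQ_eq_bot _ _ _ fun w hw => ?_
        have h1 := (hx (c w)).mp (Ideal.Quotient.eq_zero_iff_mem.mp (show Ideal.Quotient.mk p (c w) = 0 from hw))
        exact hsat S hS _ (by simpa using N.add_mem (hc w) h1)

end Groth.Agent.S4722
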