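import Groth.Statements.S4726
import Mathlib.Algebra.Colimit.Ring
import Mathlib.Algebra.Module.FinitePresentation

set_option autoImplicit false
universe u
open EGA4

namespace Groth.Agent.S4726

open TensorProduct in
/-- A quotient of a free module by a span of vectors with entries in the image is a base change. -/
theorem quotient_span_equiv (R A : Type u) [CommRing R] [CommRing A] [Algebra R A] (n : ℕ) {κ : Type u}
    (w : κ → Fin n → R) :
    Nonempty (((Fin n → A) ⧸ Submodule.span A (Set.range fun j => algebraMap R A ∘ w j)) ≃ₗ[A]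
      A ⊗[R] ((Fin n → R) ⧸ Submodule.span R (Set.range w))) := by
  classical
  set K := Submodule.span A (Set.range fun j => algebraMap R A ∘ w j)
  set L := Submodule.span R (Set.range w)
  let ι : (Fin n → R) →ₗ[R] (Fin n → A) := (Algebra.linearMap R A).compLeft (Fin n)
  have hL : L ≤ LinearMap.ker ((K.mkQ.restrictScalars R).comp ι) := by
    rw [Submodule.span_le]
    rintro _ ⟨j, rfl⟩
    exact (Submodule.Quotient.mk_eq_zero K).mpr (Submodule.subset_span ⟨j, rfl⟩)
  let Φ : A ⊗[R] ((Fin n → R) ⧸ L) →ₗ[A] (Fin n → A) ⧸ K := (L.liftQ _ hL).liftBaseChange A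
  let c : (Fin n → R) →ₗ[R] A ⊗[R] ((Fin n → R) ⧸ L) := (TensorProduct.mk R A _ 1).comp L.mkQ
  let Ψ₀ : (Fin n → A) →ₗ[A] A ⊗[R] ((Fin n → R) ⧸ L) :=
    (Pi.basisFun A (Fin n)).constr ℕ fun k => c (Pi.single k 1)
  have hΨ : (Ψ₀.restrictScalars R).comp ι = c := by
    refine (Pi.basisFun R (Fin n)).ext fun k => ?_
    have : ι (Pi.single k 1) = Pi.single k (1 : A) := by
      funext l
      rcases eq_or_ne l k with rfl | h
      · simp [ι]
      · simp [ι, h]
    rw [Pi.basisFun_apply, LinearMap.comp_apply, this, LinearMap.restrictScalars_apply,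
      ← Pi.basisFun_apply, Module.Basis.constr_basis]
  have hK : K ≤ LinearMap.ker Ψ₀ := by
    rw [Submodule.span_le]
    rintro _ ⟨j, rfl⟩
    refine LinearMap.mem_ker.mpr (((LinearMap.congr_fun hΨ (w j)) :).trans ?_)
    show (1 : A) ⊗ₜ[R] L.mkQ (w j) = 0
    rw [Submodule.mkQ_apply, (Submodule.Quotient.mk_eq_zero L).mpr (Submodule.subset_span ⟨j, rfl⟩), tmul_zero]
  refine ⟨LinearEquiv.ofLinearMap (K.liftQ Ψ₀ hK) Φ ?_ ?_⟩
  · refine TensorProduct.AlgebraTensorModule.curry_injective (LinearMap.ext_ring (Submodule.linearMap_qext L ?_))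
    refine LinearMap.ext fun x => ?_
    simp only [LinearMap.comp_apply]
    show K.liftQ Ψ₀ hK (Φ ((1 : A) ⊗ₜ[R] L.mkQ x)) = (1 : A) ⊗ₜ[R] L.mkQ x
    rw [LinearMap.liftBaseChange_tmul, one_smul]
    exact LinearMap.congr_fun hΨ x
  · refine Submodule.linearMap_qext K ((Pi.basisFun A (Fin n)).ext fun k => ?_)
    simp only [LinearMap.comp_apply, Submodule.mkQ_apply, Submodule.liftQ_apply, LinearMap.id_apply]
    rw [Module.Basis.constr_basis]
    show Φ ((1 : A) ⊗ₜ[R] L.mkQ (Pi.single k 1)) = _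
    rw [LinearMap.liftBaseChange_tmul, one_smul, Submodule.mkQ_apply, Submodule.liftQ_apply]
    show K.mkQ (ι (Pi.single k 1)) = _
    rw [Pi.basisFun_apply]
    refine congrArg (Submodule.Quotient.mk (p := K)) ?_
    funext l
    rcases eq_or_ne l k with rfl | h
    · simp [ι]
    · simp [ι, h]

open TensorProduct in
/-- Let (A_i) be a directed system of commutative rings with direct limit A and M a finitely presented
A-module. Then there exist an index i and a finitely presented A_i-module M_i such that M is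
isomorphic, as an A-module, to A ⊗_{A_i} M_i (A being an A_i-algebra through the canonical map). -/
theorem result (ι : Type u) [Preorder ι] [Nonempty ι] [IsDirectedOrder ι]
    (G : ι → Type u) [∀ i, CommRing (G i)] (f : ∀ i j, i ≤ j → G i →+* G j)
    [DirectedSystem G (fun i j h ↦ f i j h)] (M : Type u) [AddCommGroup M]
    [Module (Ring.DirectLimit G (fun i j h ↦ f i j h)) M]
    [Module.FinitePresentation (Ring.DirectLimit G (fun i j h ↦ f i j h)) M] :
    ∃ (i : ι) (Mi : Type u) (_ : AddCommGroup Mi) (_ : Module (G i) Mi), Module.FinitePresentation (G i) Mi ∧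
      letI : Algebra (G i) (Ring.DirectLimit G (fun i j h ↦ f i j h)) :=
        (Ring.DirectLimit.of G (fun i j h ↦ f i j h) i).toAlgebra
      Nonempty (M ≃ₗ[Ring.DirectLimit G (fun i j h ↦ f i j h)] (Ring.DirectLimit G (fun i j h ↦ f i j h)) ⊗[G i] Mi) := by
  classical
  let A := Ring.DirectLimit G (fun i j h ↦ f i j h)
  obtain ⟨n, K, e, ⟨t, ht⟩⟩ := Module.FinitePresentation.exists_fin A M
  obtain ⟨i, hi⟩ : ∃ i, ∀ a ∈ t.biUnion (fun v => Finset.univ.image v), ∃ x : G i,
      Ring.DirectLimit.of G (fun i j h ↦ f i j h) i x = a := by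
    generalize t.biUnion (fun v => Finset.univ.image v) = u
    induction u using Finset.induction with
    | empty => exact ⟨Classical.arbitrary ι, by simp⟩
    | insert a u _ ih =>
      obtain ⟨i, hi⟩ := ih
      obtain ⟨j, x, rfl⟩ := Ring.DirectLimit.exists_of a
      obtain ⟨l, hil, hjl⟩ := exists_ge_ge i j
      refine ⟨l, fun b hb => ?_⟩
      rcases Finset.mem_insert.mp hb with rfl | hb
      · exact ⟨f j l hjl x, Ring.DirectLimit.of_f (f := fun i j h ↦ f i j h) hjl x⟩
      · obtain ⟨y, rfl⟩ := hi b hb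
        exact ⟨f i l hil y, Ring.DirectLimit.of_f (f := fun i j h ↦ f i j h) hil y⟩
  let : Algebra (G i) A := (Ring.DirectLimit.of G (fun i j h ↦ f i j h) i).toAlgebra
  choose w hw using fun (v : t) (k : Fin n) => hi (v.1 k)
    (Finset.mem_biUnion.mpr ⟨v.1, v.2, Finset.mem_image.mpr ⟨k, Finset.mem_univ _, rfl⟩⟩)
  refine ⟨i, (Fin n → G i) ⧸ Submodule.span (G i) (Set.range w), inferInstance, inferInstance, ?_, ?_⟩
  · exact Module.finitePresentation_of_surjective _ (Submodule.mkQ_surjective _)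
      (by rw [Submodule.ker_mkQ]; exact Submodule.fg_span (Set.finite_range w))
  · obtain ⟨e'⟩ := quotient_span_equiv (G i) A n w
    refine ⟨e.trans ((Submodule.quotEquivOfEq _ _ ?_).trans e')⟩
    rw [← ht]
    congr 1
    ext v
    simp only [Finset.mem_coe, Set.mem_range]
    exact ⟨fun hv => ⟨⟨v, hv⟩, funext fun k => hw ⟨v, hv⟩ k⟩, fun ⟨v', e⟩ =>
      e ▸ ((funext (hw v') : algebraMap (G i) A ∘ w v' = v'.1).symm ▸ v'.2)⟩

end Groth.Agent.S4726
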