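import Groth.Statements.S4728
import Groth.Agent.Ega4Algebra2.IntClosureBaseChange

set_option autoImplicit false
universe u
open EGA4
open scoped TensorProduct

namespace Groth.Agent.S4728

/-- Let A be a Noetherian local domain of dimension 1 with maximal ideal m, A' a Noetherian local ring
and A → A' a local homomorphism which is normal (flat, with geometrically normal fibres). Then the
ideal m A' of A' is prime and the local ring of A' at m A' has dimension 1. (The remaining clauses
of the published item, describing A' inside its total ring of fractions, are not restated.) -/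
theorem result (A A' : Type u) [CommRing A] [CommRing A']
    [IsNoetherianRing A] [IsNoetherianRing A'] [IsLocalRing A] [IsLocalRing A'] [IsDomain A]
    (hA : ringKrullDim A = 1) [Algebra A A'] [IsLocalHom (algebraMap A A')] (h : EGA4.IsNormalHom A A') :
    ((IsLocalRing.maximalIdeal A).map (algebraMap A A')).IsPrime ∧
      ((IsLocalRing.maximalIdeal A).map (algebraMap A A')).height = 1 := by
  haveI := h.1
  set m := IsLocalRing.maximalIdeal A
  set P := m.map (algebraMap A A')
  have hle : P ≤ IsLocalRing.maximalIdeal A' := by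
    rw [Ideal.map_le_iff_le_comap]
    exact fun a ha hu => ha (isUnit_of_map_unit (algebraMap A A') a hu)
  have h1 : EGA4.IsNormalRing (A' ⊗[A] (A ⧸ m)) :=
    letI := Ideal.Quotient.field m
    Groth.Ega4b.ICBC.isNormalRing_tensor_field A' h.2 (A ⧸ m)
  have h2 : EGA4.IsNormalRing (A' ⧸ P) :=
    Groth.Ega4b.isNormalRing_of_ringEquiv (Algebra.TensorProduct.quotIdealMapEquivTensorQuot A' m).symm.toRingEquiv h1
  have hne : P ≠ ⊤ := fun ht => (IsLocalRing.maximalIdeal.isMaximal A').ne_top (top_le_iff.mp (ht ▸ hle))
  haveI : Nontrivial (A' ⧸ P) := Ideal.Quotient.nontrivial_iff.mpr hne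
  haveI : IsLocalRing (A' ⧸ P) := IsLocalRing.of_surjective' _ Ideal.Quotient.mk_surjective
  have hP : P.IsPrime := by
    obtain ⟨hd, -⟩ := h2 (IsLocalRing.maximalIdeal (A' ⧸ P))
    let e : (A' ⧸ P) ≃ₐ[A' ⧸ P] Localization.AtPrime (IsLocalRing.maximalIdeal (A' ⧸ P)) :=
      IsLocalization.atUnits _ (IsLocalRing.maximalIdeal (A' ⧸ P)).primeCompl fun x hx => by
        by_contra hu
        exact hx hu
    rw [← Ideal.Quotient.isDomain_iff_prime]
    exact e.toRingEquiv.toMulEquiv.isDomain_iff.mpr hd
  refine ⟨hP, ?_⟩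
  haveI := hP
  haveI : P.LiesOver m := ⟨((IsLocalRing.maximalIdeal.isMaximal A).eq_of_le
    (fun ht => hne (Ideal.eq_top_of_isUnit_mem P (by
      have : (1 : A) ∈ P.comap (algebraMap A A') := (ht.symm ▸ Submodule.mem_top : (1 : A) ∈ P.under A)
      simpa using this) isUnit_one)) Ideal.le_comap_map)⟩
  rw [Ideal.height_eq_height_add_of_liesOver_of_hasGoingDown m P]
  have h3 : P.map (Ideal.Quotient.mk (m.map (algebraMap A A'))) = ⊥ := Ideal.map_quotient_self P
  haveI : IsDomain (A' ⧸ P) := Ideal.Quotient.isDomain P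
  rw [h3, Ideal.height_bot, add_zero]
  have h4 := IsLocalRing.maximalIdeal_height_eq_ringKrullDim (R := A)
  rw [hA] at h4
  exact_mod_cast h4

end Groth.Agent.S4728
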