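import Groth.Statements.S4730
import Groth.Agent.FibreDim.DimensionFormula

set_option autoImplicit false
universe u
open EGA4

namespace Groth.Agent.S4730

open Polynomial in
/-- Let A be a Noetherian ring, p a prime ideal of A and q a prime ideal of the polynomial ring A[T]
lying over p. Then ht(p) + 1 = ht(q) + deg.tr_{κ(p)} κ(q), the transcendence degree being that of
the domain A[T]/q over the domain A/p. -/
theorem result (A : Type u) [CommRing A] [IsNoetherianRing A]
    (p : Ideal A) [p.IsPrime] (q : Ideal A[X]) [q.IsPrime] [q.LiesOver p] :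
    (p.height : Cardinal.{u}) + 1 = (q.height : Cardinal.{u}) + Algebra.trdeg (A ⧸ p) (A[X] ⧸ q) := by
  let e : MvPolynomial (Fin 1) A ≃ₐ[A] A[X] := MvPolynomial.uniqueAlgEquiv A (Fin 1)
  haveI : (q.comap e.toRingEquiv.toRingHom).IsPrime := Ideal.IsPrime.comap _
  haveI : (q.comap e.toRingEquiv.toRingHom).LiesOver p := ⟨by
    rw [q.over_def p]; ext r
    show algebraMap A A[X] r ∈ q ↔ e (algebraMap A _ r) ∈ q
    rw [e.commutes]⟩
  obtain ⟨t, ht, heq⟩ := Groth.FibreDim.exists_trdeg_mvPolynomial 1 p (q.comap e.toRingEquiv.toRingHom)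
  have hh : (q.comap e.toRingEquiv.toRingHom).height = q.height := e.toRingEquiv.height_comap q
  let ψ : (MvPolynomial (Fin 1) A ⧸ q.comap e.toRingEquiv.toRingHom) →ₐ[A ⧸ p] (A[X] ⧸ q) :=
    ⟨Ideal.quotientMap q e.toRingEquiv.toRingHom le_rfl, fun x => by
      obtain ⟨r, rfl⟩ := Ideal.Quotient.mk_surjective x
      exact congrArg (Ideal.Quotient.mk q) (e.commutes r)⟩
  have htr : Algebra.trdeg (A ⧸ p) (A[X] ⧸ q) = t := ((AlgEquiv.ofBijective ψ
    ⟨Ideal.quotientMap_injective, Ideal.quotientMap_surjective (H := le_rfl) e.surjective⟩).trdeg_eq).symm.trans ht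
  obtain ⟨a, ha⟩ := ENat.ne_top_iff_exists.1 (Ideal.height_ne_top_of_isPrime (I := q))
  obtain ⟨b, hb⟩ := ENat.ne_top_iff_exists.1 (Ideal.height_ne_top_of_isPrime (I := p))
  rw [hh, ← ha, ← hb] at heq
  rw [htr, ← ha, ← hb]
  norm_cast at heq
  simp only [Cardinal.ofENat_nat]
  exact_mod_cast heq.symm

end Groth.Agent.S4730
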