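import Groth.Statements.S4732
import Mathlib
import Groth.Agent.Variety2.DimScheme
-- import your own Groth.Agent.* helpers here

set_option autoImplicit false
universe u
open EGA4

namespace Groth.Agent.S4732


open AlgebraicGeometry CategoryTheory in
/-- Let k be a field, X a scheme locally of finite type over k and x a point of X. Then there are an
open neighbourhood U of x, a k-scheme Y all of whose local rings are regular, and an immersion U → Y
compatible with the structure morphisms to Spec k. -/
theorem result (k : Type u) [Field k] {X : Scheme.{u}}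
    (f : X ⟶ Spec (CommRingCat.of k)) [LocallyOfFiniteType f] (x : X) :
    ∃ (U : X.Opens) (_ : x ∈ U) (Y : Scheme.{u}) (g : Y ⟶ Spec (CommRingCat.of k)) (i : (U : Scheme.{u}) ⟶ Y),
      IsImmersion i ∧ i ≫ g = U.ι ≫ f ∧ ∀ y : Y, IsRegularLocalRing (Y.presheaf.stalk y) := by
  obtain ⟨U, hU, hxU, -⟩ := exists_isAffineOpen_mem_and_subset (U := ⊤) (Set.mem_univ x)
  obtain ⟨φ, hφ, hft⟩ := Groth.Variety2.Dim.exists_algebra f hU
  let := φ.hom.toAlgebra
  haveI : Algebra.FiniteType k Γ(X, U) := hft
  obtain ⟨n, π, hπ⟩ := Algebra.FiniteType.iff_quotient_mvPolynomial''.1 ‹Algebra.FiniteType k Γ(X, U)›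
  let P : CommRingCat.{u} := CommRingCat.of (MvPolynomial (Fin n) k)
  let c : P ⟶ Γ(X, U) := CommRingCat.ofHom π.toRingHom
  haveI : IsClosedImmersion (Spec.map c) := IsClosedImmersion.spec_of_surjective c hπ
  refine ⟨U, hxU, Spec P, Spec.map (CommRingCat.ofHom (algebraMap k (MvPolynomial (Fin n) k))),
    hU.isoSpec.hom ≫ Spec.map c, inferInstance, ?_, fun y => ?_⟩
  · rw [Category.assoc, ← Spec.map_comp,
      show CommRingCat.ofHom (algebraMap k (MvPolynomial (Fin n) k)) ≫ c = φ from by
        ext r; exact π.commutes r,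
      hφ, ← Category.assoc, IsAffineOpen.isoSpec_hom_fromSpec hU]
  · haveI : IsRegularRing (MvPolynomial (Fin n) k) := inferInstance
    let q : PrimeSpectrum (MvPolynomial (Fin n) k) := y
    haveI : IsRegularLocalRing (Localization.AtPrime q.asIdeal) :=
      IsRegularRing.isRegularLocalRing_localization q.asIdeal
    exact IsRegularLocalRing.of_ringEquiv (StructureSheaf.stalkIso (MvPolynomial (Fin n) k) q).toCommRingCatIso.commRingCatIsoToRingEquiv

end Groth.Agent.S4732
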