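import Groth.Statements.S4734
import Groth.Agent.Ega4Algebra1.GenericDepth

set_option autoImplicit false
universe u
open EGA4

namespace Groth.Agent.S4734

private theorem key (A : Type u) [CommRing A] [IsNoetherianRing A] (I : Ideal A) (hI : IsNilpotent I) (M : Type u)
    [AddCommGroup M] [Module A M] [Module.Finite A M] (hsupp : Module.support A M = Set.univ)
    (hM : EGA4.IsNormallyFlat I M) (p : Ideal A) [p.IsPrime] :
    Module.supportDim (Localization.AtPrime p) (LocalizedModule p.primeCompl M) =
        Module.supportDim (Localization.AtPrime p) (LocalizedModule p.primeCompl (A ⧸ I)) ∧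
      LocCoh.depth (Localization.AtPrime p) (LocalizedModule p.primeCompl M) =
        LocCoh.depth (Localization.AtPrime p) (LocalizedModule p.primeCompl (A ⧸ I)) := by
  have : Nontrivial (LocalizedModule p.primeCompl M) :=
    (hsupp.ge (Set.mem_univ (⟨p, inferInstance⟩ : PrimeSpectrum A)) :)
  obtain ⟨n, hn⟩ := hI
  have hI' : IsNilpotent (I.map (algebraMap A (Localization.AtPrime p))) :=
    ⟨n, by rw [← Ideal.map_pow, hn]; exact Ideal.map_bot⟩
  have hN := Groth.Ega4Algebra1.isNormallyFlat_localizedModule I M hM p.primeCompl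
  refine ⟨(Groth.Ega4Algebra1.supportDim_eq_of_isNormallyFlat hI' hN).trans ?_,
    (Groth.Ega4Algebra1.depth_eq_of_isNormallyFlat hI' hN).trans
      (Groth.LocCohBase.idealDepth_congr (Groth.Ega4Algebra1.quotLocEquiv I p))⟩
  rw [← Module.supportDim_quotient_eq_ringKrullDim]
  exact Module.supportDim_eq_of_equiv (Groth.Ega4Algebra1.quotLocEquiv I p)

/-- Let A be a Noetherian ring, I a nilpotent ideal of A and M a finite A-module whose support is all of
Spec A and which is normally flat along I. Then for every prime p of A: M satisfies Serre's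
condition (S_n) at p if and only if the A-module A/I does; and the codepth of M_p is at most n if
and only if the codepth of the A_p-module (A/I)_p is at most n (codepth written additively as dim ≤
depth + n). -/
theorem result (n : ℕ) (A : Type u) [CommRing A] [IsNoetherianRing A]
    (I : Ideal A) (hI : IsNilpotent I) (M : Type u) [AddCommGroup M] [Module A M] [Module.Finite A M]
    (hsupp : Module.support A M = Set.univ) (hM : EGA4.IsNormallyFlat I M) (p : Ideal A) [p.IsPrime] :
    (EGA4.HasSkAt n A M p ↔ EGA4.HasSkAt n A (A ⧸ I) p) ∧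
      (Module.supportDim (Localization.AtPrime p) (LocalizedModule p.primeCompl M) ≤
          ((LocCoh.depth (Localization.AtPrime p) (LocalizedModule p.primeCompl M) : ℕ∞) : WithBot ℕ∞) + n ↔
        Module.supportDim (Localization.AtPrime p) (LocalizedModule p.primeCompl (A ⧸ I)) ≤
          ((LocCoh.depth (Localization.AtPrime p) (LocalizedModule p.primeCompl (A ⧸ I)) : ℕ∞) : WithBot ℕ∞) + n) := by
  obtain ⟨hdim, hdepth⟩ := key A I hI M hsupp hM p
  refine ⟨?_, by rw [hdim, hdepth]⟩
  let Ap := Localization.AtPrime p
  let J := I.map (algebraMap A Ap)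
  obtain ⟨m, hm⟩ := hI
  have hJ : IsNilpotent J := ⟨m, by rw [← Ideal.map_pow, hm]; exact Ideal.map_bot⟩
  have hN := Groth.Ega4Algebra1.isNormallyFlat_localizedModule I M hM p.primeCompl
  have hsupp' : Module.support Ap (LocalizedModule p.primeCompl M) = Set.univ := Set.eq_univ_of_forall fun Q =>
    (Groth.Ega4Algebra1.mem_support_localizedModule_iff p.primeCompl Q).mpr (hsupp.ge (Set.mem_univ _))
  have hQ : ∀ (Q : Ideal Ap) [Q.IsPrime],
      Module.supportDim (Localization.AtPrime Q) (LocalizedModule Q.primeCompl (LocalizedModule p.primeCompl M)) =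
          Module.supportDim (Localization.AtPrime Q) (LocalizedModule Q.primeCompl (LocalizedModule p.primeCompl (A ⧸ I))) ∧
        LocCoh.depth (Localization.AtPrime Q) (LocalizedModule Q.primeCompl (LocalizedModule p.primeCompl M)) =
          LocCoh.depth (Localization.AtPrime Q) (LocalizedModule Q.primeCompl (LocalizedModule p.primeCompl (A ⧸ I))) := by
    intro Q _
    obtain ⟨h1, h2⟩ := key Ap J hJ _ hsupp' hN Q
    let e := LinearEquiv.ofBijective (LocalizedModule.map Q.primeCompl (Groth.Ega4Algebra1.quotLocEquiv I p).toLinearMap)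
      ⟨LocalizedModule.map_injective _ _ (Groth.Ega4Algebra1.quotLocEquiv I p).injective,
        LocalizedModule.map_surjective _ _ (Groth.Ega4Algebra1.quotLocEquiv I p).surjective⟩
    exact ⟨h1.trans (Module.supportDim_eq_of_equiv e), h2.trans (Groth.LocCohBase.idealDepth_congr e)⟩
  refine ⟨fun h Q _ => ?_, fun h Q _ => ?_⟩
  · rw [← (hQ Q).1, ← (hQ Q).2]; exact h Q
  · rw [(hQ Q).1, (hQ Q).2]; exact h Q

end Groth.Agent.S4734
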