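import Groth.Statements.S4735
import Mathlib
import Groth.Agent.Calg7.StrictCatenaryEssFT
-- import your own Groth.Agent.* helpers here

set_option autoImplicit false
universe u
open EGA4

namespace Groth.Agent.S4735

/-- Let A be a strictly formally catenary Noetherian local ring. Then every Noetherian local ring B
which is an A-algebra essentially of finite type is strictly formally catenary. -/
theorem result (A : Type u) [CommRing A] [IsNoetherianRing A] [IsLocalRing A]
    (hA : EGA4.IsFormallyStrictlyCatenary A) (B : Type u) [CommRing B] [IsNoetherianRing B] [IsLocalRing B]
    [Algebra A B] [Algebra.EssFiniteType A B] : EGA4.IsFormallyStrictlyCatenary B := by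
  exact Groth.Calg7.StrictCatenaryEssFT.isFormallyStrictlyCatenary_of_essFiniteType A hA B

end Groth.Agent.S4735
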