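import Groth.Statements.S4738
import Groth.Agent.Ega4Algebra2.CplQuot
-- import your own Groth.Agent.* helpers here

set_option autoImplicit false
universe u
open EGA4

namespace Groth.Agent.S4738

/-- For the property 'geometrically reduced', case of a local ring: if the formal fibres of a Noetherian
local ring A are geometrically reduced, then so are the formal fibres of A/I for every proper ideal
I of A. -/
theorem result (A : Type u) [CommRing A] [IsNoetherianRing A] [IsLocalRing A]
    (hA : EGA4.HasGeomReducedFormalFibres A) (I : Ideal A) [Nontrivial (A ⧸ I)] :
    EGA4.HasGeomReducedFormalFibres (A ⧸ I) := by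
  intro p' _
  obtain ⟨ψ, e, he⟩ := Groth.Ega4b.exists_fibreEquiv_cplQuot A I p'
  exact Groth.Ega4b.isGeometricallyReduced_of_equiv ψ e he (hA _)

end Groth.Agent.S4738
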