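import Groth.Statements.S4739
import Groth.Agent.Ega4Algebra2.CplBaseChangeCpl
-- import your own Groth.Agent.* helpers here

set_option autoImplicit false
universe u
open EGA4

namespace Groth.Agent.S4739

open TensorProduct in
/-- Let A → B be a local homomorphism of Noetherian local rings and Â the completion of A, and suppose
B' = B ⊗_A Â is Noetherian. Then for every prime ideal n' of B' lying over the maximal ideal of B
and containing the image of the maximal ideal of A through Â (that is, lying over the maximal ideal
m_A Â of Â), the completion of B and the completion of the local ring B'_{n'} are isomorphic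
(existence of a ring isomorphism only). -/
theorem result (A B : Type u) [CommRing A] [CommRing B] [IsNoetherianRing A]
    [IsNoetherianRing B] [IsLocalRing A] [IsLocalRing B] [Algebra A B] [IsLocalHom (algebraMap A B)]
    [IsNoetherianRing (B ⊗[A] EGA4.Cpl A)] (n' : Ideal (B ⊗[A] EGA4.Cpl A)) [n'.IsPrime]
    (h1 : n'.comap (algebraMap B (B ⊗[A] EGA4.Cpl A)) = IsLocalRing.maximalIdeal B)
    (h2 : (IsLocalRing.maximalIdeal A).map
        ((Algebra.TensorProduct.includeRight.toRingHom : EGA4.Cpl A →+* B ⊗[A] EGA4.Cpl A).comp
          (algebraMap A (EGA4.Cpl A))) ≤ n') :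
    Nonempty (EGA4.Cpl B ≃+* EGA4.Cpl (Localization.AtPrime n')) := by
  exact Groth.Ega4b.nonempty_cpl_baseChange_cpl_equiv A B n' h1

end Groth.Agent.S4739
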