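import Groth.Statements.S4740
import Groth.Agent.Ega4Algebra1.CTensorSemilocal
import Mathlib
-- import your own Groth.Agent.* helpers here

set_option autoImplicit false
universe u
attribute [local instance] Algebra.TensorProduct.rightAlgebra
open EGA4

namespace Groth.Agent.S4740

open TensorProduct in
/-- Let k be a field and A, B complete Noetherian local rings containing k, the residue field of A being
a finite extension of k; let C be the completed tensor product of A and B over k (the completion of
A ⊗_k B at the ideal m_A ⊗ B + A ⊗ m_B). Then (i) C is Noetherian with finitely many maximal ideals;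
(ii) C is flat over A and over B; (iii) m_A C is contained in the Jacobson radical of C and C/m_A C
is isomorphic to (A/m_A) ⊗_k B; (iv) the residue field of C at each of its maximal ideals is a
finite B-module. (Completeness of C, also asserted in the published item, is not restated; the
isomorphism in (iii) is asserted to exist only.) -/
theorem result (k A B : Type u) [Field k] [CommRing A] [CommRing B] [Algebra k A] [Algebra k B]
    [IsNoetherianRing A] [IsNoetherianRing B] [IsLocalRing A] [IsLocalRing B]
    [IsAdicComplete (IsLocalRing.maximalIdeal A) A] [IsAdicComplete (IsLocalRing.maximalIdeal B) B]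
    [Module.Finite k (IsLocalRing.ResidueField A)] :
    (IsNoetherianRing (EGA4.CTensor k A B) ∧ (Set.univ : Set (MaximalSpectrum (EGA4.CTensor k A B))).Finite) ∧
      (Module.Flat A (EGA4.CTensor k A B) ∧ Module.Flat B (EGA4.CTensor k A B)) ∧
      ((IsLocalRing.maximalIdeal A).map (algebraMap A (EGA4.CTensor k A B)) ≤ (⊥ : Ideal (EGA4.CTensor k A B)).jacobson ∧
        Nonempty ((EGA4.CTensor k A B ⧸ (IsLocalRing.maximalIdeal A).map (algebraMap A (EGA4.CTensor k A B))) ≃+*
          ((A ⧸ IsLocalRing.maximalIdeal A) ⊗[k] B))) ∧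
      (∀ (M : Ideal (EGA4.CTensor k A B)) [M.IsMaximal], Module.Finite B (EGA4.CTensor k A B ⧸ M)) := by
  classical
  set mA := IsLocalRing.maximalIdeal A
  obtain ⟨d, a, -, ha, N, hN⟩ := Groth.Calg2.CompleteStructure.exists_parameters A
  let φ := Groth.Calg6.evalAdic (k := k) mA a ha
  let P := MvPowerSeries (Fin d) k
  let Q := MvPowerSeries (Fin d) B
  let : Algebra P A := φ.toRingHom.toAlgebra
  have : Module.Finite P A := Groth.Ega4Algebra1.finite_evalAdic (k := k) a ha hN
  have : IsScalarTower k P A := IsScalarTower.of_algebraMap_eq fun c => (φ.commutes c).symm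
  have hmem : ∀ i, algebraMap P A (MvPowerSeries.X i) ∈ mA := fun i => by
    show φ (MvPowerSeries.X i) ∈ _
    rw [Groth.Calg6.evalAdic_X]; exact ha i
  obtain ⟨e, he⟩ := Groth.Ega4Algebra1.exists_cTensor_equiv k A B d hmem
  let T := Q ⊗[P] A
  have : Module.Flat P Q := Groth.Ega4Algebra1.flat_mvPowerSeries (Fin d) k B
  have : IsNoetherianRing T := Algebra.FiniteType.isNoetherianRing Q T
  have heA : ∀ x : A, e (algebraMap A (EGA4.CTensor k A B) x) = (1 : Q) ⊗ₜ[P] x := fun x => by
    rw [show algebraMap A (EGA4.CTensor k A B) x =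
      AdicCompletion.of (EGA4.cTensorIdeal k A B) (A ⊗[k] B) (x ⊗ₜ (1 : B)) from rfl, he, map_one]
  have heB : ∀ b : B, e (algebraMap B (EGA4.CTensor k A B) b) = (MvPowerSeries.C b : Q) ⊗ₜ[P] (1 : A) := fun b => by
    rw [show algebraMap B (EGA4.CTensor k A B) b =
      AdicCompletion.of (EGA4.cTensorIdeal k A B) (A ⊗[k] B) ((1 : A) ⊗ₜ b) from rfl, he]
  let mT : Ideal T := mA.map (Algebra.TensorProduct.includeRight : A →ₐ[P] T).toRingHom
  have hmT : (mA.map (algebraMap A (EGA4.CTensor k A B))).map e.toRingHom = mT := by
    rw [Ideal.map_map]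
    congr 1
    exact RingHom.ext heA
  have hXQ : ∀ i, (MvPowerSeries.X i : Q) ∈ IsLocalRing.maximalIdeal Q := fun i => by
    rw [Groth.ArtfunDeform.mem_maximalIdeal_ps, MvPowerSeries.constantCoeff_X]; exact zero_mem _
  have hover : ∀ M : Ideal T, M.IsMaximal → M.under Q = IsLocalRing.maximalIdeal Q := fun M hM => by
    have := hM
    have : (M.under Q).IsMaximal := Ideal.isMaximal_comap_of_isIntegral_of_isMaximal (R := Q) M
    exact IsLocalRing.eq_maximalIdeal this
  have hXM : ∀ M : Ideal T, M.IsMaximal → ∀ i, algebraMap Q T (MvPowerSeries.X i) ∈ M := fun M hM i => by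
    have h := hXQ i
    rw [← hover M hM] at h
    exact h
  refine ⟨⟨isNoetherianRing_of_ringEquiv T e.symm, ?_⟩, ⟨?_, ?_⟩, ⟨?_, ?_⟩, ?_⟩
  · -- finitely many maximal ideals
    let J : Ideal T := (IsLocalRing.maximalIdeal Q).map (algebraMap Q T)
    let F : MaximalSpectrum (EGA4.CTensor k A B) → Ideal T := fun M => M.asIdeal.map e.toRingHom
    have hFinj : Function.Injective F := fun M M' h => by
      have h2 := congrArg (Ideal.comap e.toRingHom) h
      rw [Ideal.comap_map_of_bijective e.toRingHom e.bijective,
        Ideal.comap_map_of_bijective e.toRingHom e.bijective] at h2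
      exact MaximalSpectrum.ext h2
    refine Set.Finite.of_finite_image ((Ideal.finite_minimalPrimes_of_isNoetherianRing T J).subset ?_) hFinj.injOn
    rintro _ ⟨M, -, rfl⟩
    have := M.isMaximal
    have h1 : (F M).IsMaximal := Ideal.map_isMaximal_of_equiv e
    refine ⟨⟨h1.isPrime, Ideal.map_le_iff_le_comap.mpr (hover _ h1).ge⟩, fun q hq hle => ?_⟩
    have := hq.1
    have h2 : q.under Q = IsLocalRing.maximalIdeal Q :=
      le_antisymm (IsLocalRing.le_maximalIdeal (Ideal.IsPrime.ne_top inferInstance)) (Ideal.map_le_iff_le_comap.mp hq.2)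
    have h3 : q.IsMaximal := Ideal.isMaximal_of_isIntegral_of_isMaximal_comap (R := Q) q
      (show (q.under Q).IsMaximal by rw [h2]; infer_instance)
    exact (h3.eq_of_le h1.ne_top hle).ge
  · -- flat over `A`
    have : Module.Flat A (A ⊗[P] Q) := inferInstance
    let f : EGA4.CTensor k A B ≃ₗ[A] A ⊗[P] Q :=
      { (e.toAddEquiv.trans (TensorProduct.comm P Q A).toAddEquiv) with
        map_smul' := fun x z => by
          show TensorProduct.comm P Q A (e (x • z)) = x • TensorProduct.comm P Q A (e z)
          rw [Algebra.smul_def, map_mul, heA]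
          generalize e z = t
          induction t using TensorProduct.induction_on with
          | zero => simp
          | tmul q y =>
            rw [Algebra.TensorProduct.tmul_mul_tmul, one_mul, TensorProduct.comm_tmul, TensorProduct.comm_tmul,
              TensorProduct.smul_tmul', smul_eq_mul]
          | add s t hs ht => simp only [mul_add, map_add, hs, ht, smul_add] }
    exact Module.Flat.of_linearEquiv f
  · -- flat over `B`
    have : Module.Flat B T := Groth.Ega4Algebra1.flat_powerSeries_tensor
    let f : EGA4.CTensor k A B ≃ₗ[B] T :=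
      { e.toAddEquiv with
        map_smul' := fun b z => by
          show e (b • z) = b • e z
          rw [Algebra.smul_def, map_mul, heB]
          generalize e z = t
          induction t using TensorProduct.induction_on with
          | zero => exact (mul_zero _).trans (TensorProduct.smul_zero b).symm
          | tmul q y =>
            rw [Algebra.TensorProduct.tmul_mul_tmul, one_mul, TensorProduct.smul_tmul', Algebra.smul_def,
              MvPowerSeries.algebraMap_apply, Algebra.algebraMap_self, RingHom.id_apply]
          | add s t hs ht => exact ((mul_add _ _ _).trans (congrArg₂ (· + ·) hs ht)).trans (TensorProduct.smul_add b s t).symm }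
    exact Module.Flat.of_linearEquiv f
  · -- the Jacobson radical
    rw [Ideal.jacobson]
    refine le_sInf fun M ⟨_, hM⟩ => ?_
    have := hM
    have h1 : (M.map e.toRingHom).IsMaximal := Ideal.map_isMaximal_of_equiv e
    refine Ideal.map_le_iff_le_comap.mpr fun x hx => ?_
    have h2 : (1 : Q) ⊗ₜ[P] x ∈ M.map e.toRingHom := by
      have hrad : x ∈ ((Ideal.span (Set.range a)).radical) := ⟨N, hN (Ideal.pow_mem_pow hx N)⟩
      have h3 : Ideal.span (Set.range a) ≤
          (M.map e.toRingHom).comap (Algebra.TensorProduct.includeRight : A →ₐ[P] T).toRingHom := by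
        rw [Ideal.span_le]
        rintro _ ⟨i, rfl⟩
        rw [SetLike.mem_coe, Ideal.mem_comap]
        show (1 : Q) ⊗ₜ[P] a i ∈ _
        rw [← Groth.Calg6.evalAdic_X (k := k) mA a ha i,
          show Groth.Calg6.evalAdic (k := k) mA a ha (MvPowerSeries.X i) = (MvPowerSeries.X i : P) • (1 : A) from
            (Algebra.algebraMap_eq_smul_one (R := P) (A := A) (MvPowerSeries.X i)), ← TensorProduct.smul_tmul,
          ← Algebra.algebraMap_eq_smul_one,
          show algebraMap P Q (MvPowerSeries.X i) = MvPowerSeries.X i from MvPowerSeries.map_X _ i]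
        exact hXM _ h1 i
      have h4 := Ideal.radical_mono h3 hrad
      rw [(Ideal.IsPrime.comap _ (K := M.map e.toRingHom)).radical] at h4
      exact h4
    rw [← heA] at h2
    rw [Ideal.mem_comap, ← Ideal.comap_map_of_bijective e.toRingHom e.bijective (I := M)]
    exact h2
  · -- the fibre
    let κA := A ⧸ mA
    let S := κA ⊗[k] B
    have hvar : ∀ p : P, algebraMap P A p - algebraMap k A (MvPowerSeries.constantCoeff p) ∈ mA := fun p => by
      have h : p - MvPowerSeries.C (MvPowerSeries.constantCoeff p) ∈ Groth.SGA7.PS.varIdeal (Fin d) k :=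
        (Groth.SGA7.PS.mem_varIdeal_iff _).mpr (by simp)
      have h1 : Groth.SGA7.PS.varIdeal (Fin d) k ≤ mA.comap (algebraMap P A) :=
        Ideal.span_le.mpr (by rintro _ ⟨i, rfl⟩; exact hmem i)
      have h2 := h1 h
      rw [Ideal.mem_comap, map_sub] at h2
      rwa [IsScalarTower.algebraMap_apply k P A, MvPowerSeries.algebraMap_apply, Algebra.algebraMap_self, RingHom.id_apply]
    let inS : B →+* S := (Algebra.TensorProduct.includeRight : B →ₐ[k] S).toRingHom
    let qS : Q →+* S := inS.comp MvPowerSeries.constantCoeff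
    let gQ : Q →ₐ[P] S :=
      { qS with
        commutes' := fun p => by
          show (1 : κA) ⊗ₜ[k] MvPowerSeries.constantCoeff (MvPowerSeries.map (algebraMap k B) p) =
            algebraMap P κA p ⊗ₜ[k] (1 : B)
          rw [show algebraMap P κA p = Ideal.Quotient.mk mA (algebraMap P A p) from rfl,
            MvPowerSeries.constantCoeff_map, Ideal.Quotient.eq.mpr (hvar p), Ideal.Quotient.mk_algebraMap,
            Algebra.algebraMap_eq_smul_one (R := k) (A := κA), TensorProduct.smul_tmul,
            ← Algebra.algebraMap_eq_smul_one] }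
    let gA : A →ₐ[P] S :=
      { ((Algebra.TensorProduct.includeLeft : κA →ₐ[k] S).toRingHom.comp (Ideal.Quotient.mk mA)) with
        commutes' := fun p => rfl }
    let g : T →ₐ[P] S := Algebra.TensorProduct.lift gQ gA fun _ _ => Commute.all _ _
    have hg : ∀ (q : Q) (x : A), g (q ⊗ₜ x) = (Ideal.Quotient.mk mA x) ⊗ₜ[k] MvPowerSeries.constantCoeff q := fun q x => by
      rw [Algebra.TensorProduct.lift_tmul]
      show ((1 : κA) ⊗ₜ[k] MvPowerSeries.constantCoeff q) * ((Ideal.Quotient.mk mA x) ⊗ₜ[k] (1 : B)) = _
      rw [Algebra.TensorProduct.tmul_mul_tmul, one_mul, mul_one]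
    let f0 : A ⊗[k] B →+* T ⧸ mT := (Ideal.Quotient.mk mT).comp (e.toRingHom.comp
      (AdicCompletion.of (EGA4.cTensorIdeal k A B) (A ⊗[k] B) |> fun _ => algebraMap (A ⊗[k] B) (EGA4.CTensor k A B)))
    have hf0 : ∀ x b, f0 (x ⊗ₜ b) = Ideal.Quotient.mk mT ((MvPowerSeries.C b : Q) ⊗ₜ[P] x) := fun x b =>
      congrArg (Ideal.Quotient.mk mT) (he x b)
    have hdvd : ∀ t : T, ∃ s, f0 s = Ideal.Quotient.mk mT t := by
      intro t
      induction t using TensorProduct.induction_on with
      | zero => exact ⟨0, by simp⟩
      | add s t hs ht =>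
        obtain ⟨u, hu⟩ := hs
        obtain ⟨v, hv⟩ := ht
        exact ⟨u + v, by rw [map_add, hu, hv, map_add]⟩
      | tmul q x =>
        refine ⟨x ⊗ₜ MvPowerSeries.constantCoeff q, ?_⟩
        rw [hf0, Ideal.Quotient.eq, ← TensorProduct.sub_tmul]
        have hq : (MvPowerSeries.C (MvPowerSeries.constantCoeff q) : Q) - q ∈ Groth.SGA7.PS.varIdeal (Fin d) B :=
          (Groth.SGA7.PS.mem_varIdeal_iff _).mpr (by simp)
        have h1 : Groth.SGA7.PS.varIdeal (Fin d) B ≤ mT.comap (algebraMap Q T) := Ideal.span_le.mpr (by
          rintro _ ⟨i, rfl⟩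
          show (MvPowerSeries.X i : Q) ⊗ₜ[P] (1 : A) ∈ mT
          rw [show (MvPowerSeries.X i : Q) = algebraMap P Q (MvPowerSeries.X i) from (MvPowerSeries.map_X _ i).symm,
            Algebra.algebraMap_eq_smul_one, TensorProduct.smul_tmul, ← Algebra.algebraMap_eq_smul_one]
          exact Ideal.mem_map_of_mem (Algebra.TensorProduct.includeRight : A →ₐ[P] T).toRingHom (hmem i))
        have h2 := mT.mul_mem_right ((1 : Q) ⊗ₜ[P] x) (h1 hq)
        rwa [Algebra.TensorProduct.algebraMap_apply, Algebra.algebraMap_self, RingHom.id_apply,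
          Algebra.TensorProduct.tmul_mul_tmul, mul_one, one_mul] at h2
    have hgsurj : Function.Surjective g := fun z => by
      induction z using TensorProduct.induction_on with
      | zero => exact ⟨0, map_zero g⟩
      | add s t hs ht =>
        obtain ⟨u, rfl⟩ := hs
        obtain ⟨v, rfl⟩ := ht
        exact ⟨u + v, map_add g u v⟩
      | tmul y b =>
        obtain ⟨x, rfl⟩ := Ideal.Quotient.mk_surjective y
        exact ⟨(MvPowerSeries.C b : Q) ⊗ₜ x, by rw [hg, MvPowerSeries.constantCoeff_C]⟩
    have hker : RingHom.ker g.toRingHom = mT := by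
      refine le_antisymm (fun t ht => ?_) (Ideal.map_le_iff_le_comap.mpr fun x hx => ?_)
      · obtain ⟨s, hs⟩ := hdvd t
        let π : A ⊗[k] B →ₐ[k] S := Algebra.TensorProduct.map (Ideal.Quotient.mkₐ k mA) (AlgHom.id k B)
        have hmTle : mT ≤ RingHom.ker g.toRingHom := Ideal.map_le_iff_le_comap.mpr fun x hx => by
          show g ((1 : Q) ⊗ₜ x) = 0
          rw [hg, Ideal.Quotient.eq_zero_iff_mem.mpr hx, TensorProduct.zero_tmul]
        have hgs : ∀ s, g (e (algebraMap (A ⊗[k] B) (EGA4.CTensor k A B) s)) = π s := by
          intro s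
          induction s using TensorProduct.induction_on with
          | zero => simp
          | tmul x b =>
            rw [show e (algebraMap (A ⊗[k] B) (EGA4.CTensor k A B) (x ⊗ₜ b)) = (MvPowerSeries.C b : Q) ⊗ₜ[P] x from he x b, hg,
              MvPowerSeries.constantCoeff_C]
            rfl
          | add u v hu hv => simp only [map_add, hu, hv]
        have h3 : g (e (algebraMap (A ⊗[k] B) (EGA4.CTensor k A B) s)) = g t := by
          rw [← sub_eq_zero, ← map_sub]
          exact hmTle (Ideal.Quotient.eq.mp hs)
        have h4 : s ∈ RingHom.ker π := by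
          rw [RingHom.mem_ker, ← hgs, h3]; exact ht
        rw [Algebra.TensorProduct.map_ker _ _ Ideal.Quotient.mk_surjective Function.surjective_id] at h4
        have h5 : mA.map (Algebra.TensorProduct.includeLeft : A →ₐ[k] A ⊗[k] B) ⊔
            (RingHom.ker (AlgHom.id k B)).map Algebra.TensorProduct.includeRight ≤ RingHom.ker f0 := by
          refine sup_le (Ideal.map_le_iff_le_comap.mpr fun x hx => ?_) (Ideal.map_le_iff_le_comap.mpr fun b hb => ?_)
          · show f0 (x ⊗ₜ 1) = 0
            rw [hf0, map_one, Ideal.Quotient.eq_zero_iff_mem]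
            exact Ideal.mem_map_of_mem (Algebra.TensorProduct.includeRight : A →ₐ[P] T).toRingHom hx
          · show f0 (1 ⊗ₜ b) = 0
            rw [show b = 0 from hb, TensorProduct.tmul_zero, map_zero]
        rw [← Ideal.Quotient.eq_zero_iff_mem, ← hs]
        rw [show RingHom.ker (Ideal.Quotient.mkₐ k mA) = mA from Ideal.Quotient.mkₐ_ker k mA] at h4
        exact h5 h4
      · show g ((1 : Q) ⊗ₜ x) = 0
        rw [hg, Ideal.Quotient.eq_zero_iff_mem.mpr hx, TensorProduct.zero_tmul]
    exact ⟨(Ideal.quotientEquiv _ mT e (by rw [← hmT]; rfl)).trans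
      ((Ideal.quotEquivOfEq hker.symm).trans (RingHom.quotientKerEquivOfSurjective (f := g.toRingHom) hgsurj))⟩
  · -- residue fields
    intro M hM
    let M' : Ideal T := M.map e.toRingHom
    have h1 : M'.IsMaximal := Ideal.map_isMaximal_of_equiv e
    let F : T ⧸ M' ≃+* EGA4.CTensor k A B ⧸ M := (Ideal.quotientEquiv M M' e rfl).symm
    let f : (T ⧸ M') ≃ₗ[B] (EGA4.CTensor k A B ⧸ M) :=
      { F.toAddEquiv with
        map_smul' := fun b z => by
          show F (b • z) = b • F z
          rw [show b • z = algebraMap B (T ⧸ M') b * z from Algebra.smul_def b z, map_mul, Algebra.smul_def]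
          congr 1
          rw [RingEquiv.symm_apply_eq, IsScalarTower.algebraMap_apply B (EGA4.CTensor k A B) (EGA4.CTensor k A B ⧸ M)]
          show _ = Ideal.Quotient.mk M' (e (algebraMap B (EGA4.CTensor k A B) b))
          rw [heB, IsScalarTower.algebraMap_apply B T (T ⧸ M'), IsScalarTower.algebraMap_apply B Q T,
            Algebra.TensorProduct.algebraMap_apply, MvPowerSeries.algebraMap_apply]
          rfl }
    have : Module.Finite B (T ⧸ M') := by
      obtain ⟨n, s, hs⟩ := Module.Finite.exists_fin (R := Q) (M := T ⧸ M')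
      refine ⟨Submodule.fg_def.mpr ⟨Set.range s, Set.finite_range s, ?_⟩⟩
      rw [eq_top_iff]
      intro z hz0
      clear hz0
      have hz : z ∈ Submodule.span Q (Set.range s) := hs ▸ Submodule.mem_top
      induction hz using Submodule.span_induction with
      | mem y hy => exact Submodule.subset_span hy
      | zero => exact zero_mem _
      | add u v _ _ hu hv => exact add_mem hu hv
      | smul q y _ hy =>
        have hq : q - algebraMap B Q (MvPowerSeries.constantCoeff q) ∈ Groth.SGA7.PS.varIdeal (Fin d) B :=
          (Groth.SGA7.PS.mem_varIdeal_iff _).mpr (by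
            rw [map_sub, show algebraMap B Q (MvPowerSeries.constantCoeff q) = MvPowerSeries.C (MvPowerSeries.constantCoeff q) from rfl,
              MvPowerSeries.constantCoeff_C, sub_self])
        have h2 : Groth.SGA7.PS.varIdeal (Fin d) B ≤ RingHom.ker ((Ideal.Quotient.mk M').comp (algebraMap Q T)) := Ideal.span_le.mpr (by
          rintro _ ⟨i, rfl⟩
          exact Ideal.Quotient.eq_zero_iff_mem.mpr (hXM M' h1 i))
        have h3 : Ideal.Quotient.mk M' (algebraMap Q T q) =
            Ideal.Quotient.mk M' (algebraMap Q T (algebraMap B Q (MvPowerSeries.constantCoeff q))) := by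
          rw [← sub_eq_zero, ← map_sub, ← map_sub]
          exact h2 hq
        obtain ⟨t, rfl⟩ := Ideal.Quotient.mk_surjective y
        have h4 : q • Ideal.Quotient.mk M' t = MvPowerSeries.constantCoeff q • Ideal.Quotient.mk M' t := by
          show Ideal.Quotient.mk M' (q • t) = Ideal.Quotient.mk M' (MvPowerSeries.constantCoeff q • t)
          rw [← algebraMap_smul Q (MvPowerSeries.constantCoeff q) t, show q • t = algebraMap Q T q * t from Algebra.smul_def q t,
            show algebraMap B Q (MvPowerSeries.constantCoeff q) • t = algebraMap Q T (algebraMap B Q (MvPowerSeries.constantCoeff q)) * t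
              from Algebra.smul_def _ t, map_mul, map_mul, h3]
        rw [h4]
        exact Submodule.smul_mem _ _ hy
    exact Module.Finite.equiv f

end Groth.Agent.S4740
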