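import Groth.Statements.S4741
import Groth.Agent.Ega4Algebra2.SchemeFibre
import Groth.Agent.FibreDim.StalkFormula
-- import your own Groth.Agent.* helpers here

set_option autoImplicit false
universe u
open EGA4

namespace Groth.Agent.S4741

open AlgebraicGeometry CategoryTheory in
/-- Suppose X and Y are locally Noetherian schemes, f : X → Y is a morphism that is surjective, and Z is
a closed subset of Y. Then codim(f⁻¹(Z), X) ≤ codim(Z, Y), where the codimension of a closed subset
means the infimum over its points of the dimensions of the local rings there; when f is in addition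
flat, these two codimensions coincide. (In the published version the equality part assumes f
quasi-flat; here f is taken to be flat.) -/
theorem result {X Y : Scheme.{u}} (f : X ⟶ Y) [IsLocallyNoetherian X]
    [IsLocallyNoetherian Y] (hf : Function.Surjective f.base) (Z : Set Y) (hZ : IsClosed Z) :
    (⨅ x ∈ f.base ⁻¹' Z, ringKrullDim (X.presheaf.stalk x)) ≤ ⨅ y ∈ Z, ringKrullDim (Y.presheaf.stalk y) ∧
      (Flat f → (⨅ x ∈ f.base ⁻¹' Z, ringKrullDim (X.presheaf.stalk x)) = ⨅ y ∈ Z, ringKrullDim (Y.presheaf.stalk y)) := by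
  have hle : (⨅ x ∈ f.base ⁻¹' Z, ringKrullDim (X.presheaf.stalk x)) ≤ ⨅ y ∈ Z, ringKrullDim (Y.presheaf.stalk y) := by
    refine le_iInf₂ fun y hy => ?_
    obtain ⟨a, ha⟩ := hf y
    obtain ⟨z, hz⟩ : a ∈ Set.range (f.fiberι y) := by rw [f.range_fiberι]; exact ha
    obtain ⟨w, hw, -⟩ := Groth.Limits.exists_maximal_specializes z
    have hfw : f (f.fiberι y w) = y := by
      have : f.fiberι y w ∈ f ⁻¹' {y} := by rw [← f.range_fiberι]; exact ⟨w, rfl⟩
      exact this
    refine iInf₂_le_of_le (f.fiberι y w) (by show f (f.fiberι y w) ∈ Z; rwa [hfw]) ?_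
    refine (Groth.FibreDim.ringKrullDim_stalk_le_add f (f.fiberι y w)).trans ?_
    obtain ⟨e1⟩ := Groth.Ega4b.nonempty_fiber_stalk_equiv f y w _ rfl
    obtain ⟨e2⟩ := Groth.Ega4b.nonempty_fiberStalk_equiv f (f.fiberι y w)
    have h0 : ringKrullDim (CInt.fiberStalk f (f.fiberι y w)) = 0 := by
      rw [← ringKrullDim_eq_of_ringEquiv e2, ringKrullDim_eq_of_ringEquiv e1]
      exact Groth.Ega4b.ringKrullDim_stalk_eq_zero_of_maximal hw
    rw [show ringKrullDim ((f.fiber (f.base (f.fiberι y w))).presheaf.stalk (f.asFiber (f.fiberι y w))) = 0 from h0,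
      add_zero]
    have key : ∀ b : ↥Y, b = y → ringKrullDim (Y.presheaf.stalk b) ≤ ringKrullDim (Y.presheaf.stalk y) := by
      rintro b rfl; exact le_rfl
    exact key _ hfw
  refine ⟨hle, fun _ => le_antisymm hle (le_iInf₂ fun x hx => iInf₂_le_of_le (f.base x) hx ?_)⟩
  letI := (f.stalkMap x).hom.toAlgebra
  haveI : Module.Flat (Y.presheaf.stalk (f x)) (X.presheaf.stalk x) := Flat.stalkMap f x
  haveI : IsLocalHom (algebraMap (Y.presheaf.stalk (f x)) (X.presheaf.stalk x)) :=
    inferInstanceAs (IsLocalHom (f.stalkMap x).hom)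
  obtain ⟨e⟩ := Groth.Ega4b.nonempty_fiberStalk_equiv f x
  haveI : IsLocalRing (X.presheaf.stalk x ⧸ (IsLocalRing.maximalIdeal (Y.presheaf.stalk (f x))).map
      (algebraMap (Y.presheaf.stalk (f x)) (X.presheaf.stalk x))) := e.symm.isLocalRing
  rw [Groth.Calg4.ringKrullDim_eq_add_of_flat (Y.presheaf.stalk (f x)) (X.presheaf.stalk x)]
  exact le_add_of_nonneg_right ringKrullDim_nonneg_of_nontrivial

end Groth.Agent.S4741
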