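import Groth.Statements.S4742
import Groth.Agent.Calg5.CatenaryEquidim

set_option autoImplicit false
universe u
open EGA4

namespace Groth.Agent.S4742

/-- Let A be a Noetherian local ring which is equidimensional and catenary, t an element of A belonging
to a system of parameters (dim A/tA + 1 = dim A), and Z a set of prime ideals of A stable under
specialization. Write X = Spec A, X₀ = V(t), X₁ = X ∖ X₀ and Z₀ = Z ∩ X₀, Z₁ = Z ∩ X₁. Then
codim(Z₀, X₀) ≤ codim(Z, X) ≤ codim(Z₁, X₁), where each codimension is the infimum of the heights of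
the primes concerned, heights for Z₀ being taken in A/tA. -/
theorem result (A : Type u) [CommRing A] [IsNoetherianRing A] [IsLocalRing A]
    (hA : EGA4.IsEquidim A) (hA' : CAlg.IsCatenary A) (t : A)
    (ht : ringKrullDim (A ⧸ Ideal.span {t}) + 1 = ringKrullDim A) (Z : Set (PrimeSpectrum A))
    (hZ : StableUnderSpecialization Z) :
    (⨅ p ∈ {p ∈ Z | t ∈ p.asIdeal}, (p.asIdeal.map (Ideal.Quotient.mk (Ideal.span {t}))).height) ≤
        ⨅ p ∈ Z, p.asIdeal.height ∧
      (⨅ p ∈ Z, p.asIdeal.height) ≤ ⨅ p ∈ {p ∈ Z | t ∉ p.asIdeal}, p.asIdeal.height := by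
  refine ⟨le_iInf₂ fun p hp => ?_, le_iInf₂ fun p hp => iInf₂_le p hp.1⟩
  have htm : t ∈ IsLocalRing.maximalIdeal A := by
    rw [IsLocalRing.mem_maximalIdeal, mem_nonunits_iff]
    intro hu
    have : Subsingleton (A ⧸ Ideal.span {t}) := Ideal.Quotient.subsingleton_iff.2
      (Ideal.span_singleton_eq_top.2 hu)
    rw [ringKrullDim_eq_bot_of_subsingleton, WithBot.bot_add] at ht
    exact ringKrullDim_ne_bot ht.symm
  -- `t` lies in no minimal prime
  have hmin : ∀ r : PrimeSpectrum A, t ∈ r.asIdeal → ¬ IsMin r := by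
    intro r htr hr
    have h1 := hA r.asIdeal (PrimeSpectrum.isMin_iff.1 hr)
    have hsurj : Function.Surjective
        (Ideal.Quotient.factor ((Ideal.span_singleton_le_iff_mem r.asIdeal).2 htr)) :=
      Ideal.Quotient.factor_surjective _
    have h2 := ringKrullDim_le_of_surjective _ hsurj
    rw [h1, ← ht] at h2
    have : Nontrivial (A ⧸ Ideal.span {t}) := Ideal.Quotient.nontrivial_iff.2
      (Ideal.span_singleton_ne_top htm)
    obtain ⟨d, hd⟩ := WithBot.ne_bot_iff_exists.1 (ringKrullDim_ne_bot (R := A ⧸ Ideal.span {t}))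
    obtain ⟨m, hm⟩ := ENat.ne_top_iff_exists.1 (fun h : d = ⊤ => ringKrullDim_ne_top
      (R := A ⧸ Ideal.span {t}) (by rw [← hd, h]; rfl))
    rw [← hd, ← hm] at h2
    have h3 : ((m + 1 : ℕ) : ℕ∞) ≤ m := by
      rw [← WithBot.coe_one, ← WithBot.coe_add, WithBot.coe_le_coe] at h2
      exact_mod_cast h2
    norm_cast at h3
    omega
  -- a point of `Z₀` of height at most `ht p + 1`
  obtain ⟨q, hqZ, htq, hqh⟩ : ∃ q ∈ Z, t ∈ q.asIdeal ∧ Order.height q ≤ Order.height p + 1 := by
    by_cases htp : t ∈ p.asIdeal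
    · exact ⟨p, hp, htp, le_self_add⟩
    · obtain ⟨P, hP, -⟩ := Ideal.exists_minimalPrimes_le (I := p.asIdeal ⊔ Ideal.span {t})
        (J := IsLocalRing.maximalIdeal A) (sup_le (IsLocalRing.le_maximalIdeal p.isPrime.ne_top)
          ((Ideal.span_singleton_le_iff_mem _).2 htm))
      let q : PrimeSpectrum A := ⟨P, hP.1.1⟩
      have hcov : p ⋖ q := Groth.Ega4Algebra1.covBy_of_mem_minimalPrimes A htp hP
      exact ⟨q, hZ ((PrimeSpectrum.le_iff_specializes _ _).1 hcov.le) hp,
        hP.1.2 (Ideal.mem_sup_right (Ideal.mem_span_singleton_self t)),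
        (Groth.Calg5.CatenaryEquidim.height_eq_add_one_of_covBy hA' hA hcov).le⟩
  refine (iInf₂_le q ⟨hqZ, htq⟩).trans ?_
  let f := PrimeSpectrum.comap (Ideal.Quotient.mk (Ideal.span {t}))
  have hf : StrictMono f := RingHom.strictMono_comap_of_surjective Ideal.Quotient.mk_surjective
  have hle : Ideal.span {t} ≤ q.asIdeal := (Ideal.span_singleton_le_iff_mem _).2 htq
  let Q : PrimeSpectrum (A ⧸ Ideal.span {t}) :=
    ⟨q.asIdeal.map (Ideal.Quotient.mk _), Ideal.isPrime_map_quotientMk_of_isPrime hle⟩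
  have hfQ : f Q = q := PrimeSpectrum.ext (by
    show Ideal.comap _ (q.asIdeal.map _) = _
    rw [Ideal.comap_map_of_surjective _ Ideal.Quotient.mk_surjective, ← RingHom.ker_eq_comap_bot,
      Ideal.mk_ker, sup_eq_left.2 hle])
  have hQ : Order.height Q + 1 ≤ Order.height q := by
    obtain ⟨n, hn⟩ := ENat.ne_top_iff_exists.1
      (Groth.Calg5.CatenaryEquidim.ne_top_of_height (A := A ⧸ Ideal.span {t}) Q)
    obtain ⟨l, hl, hlen⟩ := Order.exists_series_of_height_eq_coe Q hn.symm
    have hhead : t ∈ (f l.head).asIdeal := by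
      show Ideal.Quotient.mk (Ideal.span {t}) t ∈ l.head.asIdeal
      rw [Ideal.Quotient.eq_zero_iff_mem.2 (Ideal.mem_span_singleton_self t)]
      exact zero_mem _
    obtain ⟨r, hr⟩ := not_isMin_iff.1 (hmin _ hhead)
    let l' := (l.map f hf).cons r (by simpa using hr)
    have h3 : (l'.length : ℕ∞) ≤ Order.height q := Order.length_le_height (by simp [l', hl, hfQ])
    rw [← hn, ← hlen]
    simpa [l'] using h3
  rw [PrimeSpectrum.height_eq_orderHeight]
  exact (ENat.add_le_add_iff_right ENat.one_ne_top).1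
    ((show (q.asIdeal.map (Ideal.Quotient.mk (Ideal.span {t}))).height + 1 ≤ Order.height q by
      rw [show q.asIdeal.map (Ideal.Quotient.mk (Ideal.span {t})) = Q.asIdeal from rfl,
        PrimeSpectrum.height_eq_orderHeight]
      exact hQ).trans hqh)

end Groth.Agent.S4742
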