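import Groth.Statements.S4746
import Groth.Agent.Ega4Algebra2.CompletedFibres
import Groth.Agent.Ega4Algebra2.LocalizationReduced
import Groth.Agent.Ega4Algebra2.GeomReducedComp
import Groth.Agent.Calg2.CompleteNagata
-- import your own Groth.Agent.* helpers here

set_option autoImplicit false
universe u
open EGA4

namespace Groth.Agent.S4746

/-- For the property 'reduced': let A → B be a local homomorphism of Noetherian local rings making B a
flat A-module, such that the residue field of B is a finite extension of the residue field k of A,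
and such that the formal fibres of A are geometrically reduced. If the k-algebra k ⊗_A B̂, where B̂
is the completion of B, is geometrically reduced over k, then every fibre k(p) ⊗_A B of A → B is
geometrically reduced over k(p). -/
theorem result (A B : Type u) [CommRing A] [CommRing B]
    [IsNoetherianRing A] [IsNoetherianRing B] [IsLocalRing A] [IsLocalRing B] [Algebra A B]
    [IsLocalHom (algebraMap A B)] [Module.Flat A B]
    [Module.Finite (IsLocalRing.ResidueField A) (IsLocalRing.ResidueField B)]
    (hA : EGA4.HasGeomReducedFormalFibres A)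
    (h : Algebra.IsGeometricallyReduced (IsLocalRing.maximalIdeal A).ResidueField
      ((IsLocalRing.maximalIdeal A).Fiber (EGA4.Cpl B))) :
    ∀ (p : Ideal A) [p.IsPrime], Algebra.IsGeometricallyReduced p.ResidueField (p.Fiber B) := by
  intro p _
  letI : Algebra (EGA4.Cpl A) (EGA4.Cpl B) := (Groth.Ega4b.cplHom A B).toAlgebra
  haveI : IsScalarTower A (EGA4.Cpl A) (EGA4.Cpl B) :=
    IsScalarTower.of_algebraMap_eq fun a => (Groth.Ega4b.cplHom_algebraMap A B a).symm
  haveI : IsNoetherianRing (EGA4.Cpl A) :=
    Groth.Calg1.isNoetherianRing_adicCompletion _ (IsNoetherian.noetherian _)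
  haveI : IsNoetherianRing (EGA4.Cpl B) :=
    Groth.Calg1.isNoetherianRing_adicCompletion _ (IsNoetherian.noetherian _)
  haveI := Groth.Ega4b.flat_cplHom A B
  haveI := Groth.Ega4b.faithfullyFlat_cpl B
  haveI : IsLocalHom (algebraMap (EGA4.Cpl A) (EGA4.Cpl B)) :=
    ((IsLocalRing.local_hom_TFAE _).out 0 2).mpr (by
      haveI := Groth.Ega4b.isLocalHom_cpl A B
      conv_lhs => rw [AdicCompletion.maximalIdeal_eq_map, Ideal.map_map, ← IsScalarTower.algebraMap_eq A (EGA4.Cpl A) (EGA4.Cpl B)]
      exact ((IsLocalRing.local_hom_TFAE (algebraMap A (EGA4.Cpl B))).out 0 2).mp (Groth.Ega4b.isLocalHom_cpl A B))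
  obtain ⟨ψ, e, he⟩ := Groth.Ega4b.exists_closedFibre_equiv A B
  have hc := Groth.Ega4b.isGeometricallyReduced_of_equiv ψ e he h
  have hfib : ∀ (q : Ideal (EGA4.Cpl A)) [q.IsPrime],
      Algebra.IsGeometricallyReduced q.ResidueField (q.Fiber (EGA4.Cpl B)) := fun q _ =>
    Groth.Ega4b.isGeometricallyReduced_fibres_of_closed (EGA4.Cpl A) (EGA4.Cpl B)
      (Groth.Calg2.CompleteNagata.isNagata_of_isAdicComplete (EGA4.Cpl A)) hc q
  haveI : IsNoetherianRing (TensorProduct A (EGA4.Cpl A) p.ResidueField) :=
    Algebra.EssFiniteType.isNoetherianRing (EGA4.Cpl A) _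
  haveI : IsNoetherianRing (p.Fiber (EGA4.Cpl A)) :=
    isNoetherianRing_of_ringEquiv _ (Algebra.TensorProduct.comm A (EGA4.Cpl A) p.ResidueField).toRingEquiv
  haveI := Groth.Ega4b.isGeometricallyReduced_fiber_comp A (EGA4.Cpl A) (EGA4.Cpl B) p (hA p) hfib
  exact Algebra.IsGeometricallyReduced.of_injective (Groth.Ega4b.fibreMap A B (EGA4.Cpl B) p)
    (Groth.Ega4b.fibreMap_injective A B (EGA4.Cpl B) p)

end Groth.Agent.S4746
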