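import Groth.Statements.S4747
import Groth.Agent.Ega4Algebra2.FlatNormalization
import Groth.Agent.Ega4Algebra2.CompletedFibres
import Groth.Agent.Calg4.RegularHom
-- import your own Groth.Agent.* helpers here

set_option autoImplicit false
universe u
open EGA4

namespace Groth.Agent.S4747

open TensorProduct IsLocalRing

lemma isCMLocal_of_ring {F : Type u} [CommRing F] [IsLocalRing F] (h : LocCoh.IsCohenMacaulayRing F) :
    LocCoh.IsCohenMacaulayLocalRing F := by
  refine Groth.Ega4b.isCohenMacaulayLocalRing_of_ringEquiv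
    (IsLocalization.atUnits F (maximalIdeal F).primeCompl (S := Localization.AtPrime (maximalIdeal F))
      ?_).toRingEquiv.symm (h.isCohenMacaulayLocalRing_localization _)
  intro x hx
  exact IsLocalRing.notMem_maximalIdeal.mp hx

lemma cm_fibres_baseChange (A₁ B₁ D : Type u) [CommRing A₁] [CommRing B₁] [CommRing D] [Algebra A₁ B₁]
    [Algebra A₁ D] (hsurj : (algebraMap A₁ D).SurjectiveOnStalks)
    (h : ∀ (q : Ideal A₁) [q.IsPrime], LocCoh.IsCohenMacaulayRing (q.Fiber B₁)) (q : Ideal D) [q.IsPrime] :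
    LocCoh.IsCohenMacaulayRing (q.Fiber (D ⊗[A₁] B₁)) := by
  letI : Algebra B₁ (D ⊗[A₁] B₁) := Algebra.TensorProduct.rightAlgebra
  exact Groth.Ega4b.isCohenMacaulayRing_of_ringEquiv
    (Groth.Ega4b.fibreEquiv A₁ B₁ D (D ⊗[A₁] B₁) (q.comap (algebraMap A₁ D)) q rfl
      (RingHom.SurjectiveOnStalks.residueFieldMap_bijective hsurj _ q rfl)) (h _)

set_option synthInstance.maxHeartbeats 400000 in
lemma fiber_cpl (A B : Type u) [CommRing A] [CommRing B] [IsNoetherianRing A] [IsNoetherianRing B]
    [IsLocalRing A] [IsLocalRing B] [Algebra A B] [IsLocalHom (algebraMap A B)] [Module.Flat A B]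
    [Module.Finite (ResidueField A) (ResidueField B)] (hA : EGA4.HasCMFormalFibres A)
    (hc : LocCoh.IsCohenMacaulayRing ((maximalIdeal A).Fiber (EGA4.Cpl B))) (p : Ideal A) [p.IsPrime] :
    LocCoh.IsCohenMacaulayRing (p.ResidueField ⊗[A] EGA4.Cpl B) := by
  let A₁ := EGA4.Cpl A
  let B₁ := EGA4.Cpl B
  letI : Algebra A₁ B₁ := (Groth.Ega4b.cplHom A B).toAlgebra
  haveI : IsScalarTower A A₁ B₁ :=
    IsScalarTower.of_algebraMap_eq fun a => (Groth.Ega4b.cplHom_algebraMap A B a).symm
  haveI : IsNoetherianRing A₁ :=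
    Groth.Calg1.isNoetherianRing_adicCompletion _ (IsNoetherian.noetherian _)
  haveI : IsNoetherianRing B₁ :=
    Groth.Calg1.isNoetherianRing_adicCompletion _ (IsNoetherian.noetherian _)
  haveI := Groth.Ega4b.flat_cplHom A B
  have hm : (maximalIdeal A₁).map (algebraMap A₁ B₁) = (maximalIdeal A).map (algebraMap A B₁) := by
    rw [AdicCompletion.maximalIdeal_eq_map, Ideal.map_map, ← IsScalarTower.algebraMap_eq A A₁ B₁]
  have hle : (maximalIdeal A).map (algebraMap A B₁) ≤ maximalIdeal B₁ :=
    ((local_hom_TFAE (algebraMap A B₁)).out 0 2).mp (Groth.Ega4b.isLocalHom_cpl A B)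
  haveI : IsLocalHom (algebraMap A₁ B₁) := ((local_hom_TFAE _).out 0 2).mpr (hm.le.trans hle)
  haveI : Module.Finite A (ResidueField B) := Module.Finite.trans (ResidueField A) (ResidueField B)
  haveI : Module.Finite A (ResidueField B₁) := by
    let g : ResidueField B →+* ResidueField B₁ := ResidueField.map (algebraMap B B₁)
    let l : ResidueField B →ₗ[A] ResidueField B₁ :=
      { g with
        map_smul' := fun a y => by
          obtain ⟨y, rfl⟩ := residue_surjective y
          show g _ = a • g _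
          rw [Algebra.smul_def, Algebra.smul_def, map_mul]
          congr 1 }
    exact Module.Finite.of_surjective l (AdicCompletion.residueField_map_bijective B).2
  haveI : Module.Finite A₁ (ResidueField B₁) := Module.Finite.of_restrictScalars_finite A A₁ _
  have hF : LocCoh.IsCohenMacaulayLocalRing (B₁ ⧸ (maximalIdeal A₁).map (algebraMap A₁ B₁)) := by
    haveI : Nontrivial (B₁ ⧸ (maximalIdeal A).map (algebraMap A B₁)) :=
      Ideal.Quotient.nontrivial_iff.mpr (ne_top_of_le_ne_top (maximalIdeal.isMaximal B₁).ne_top hle)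
    haveI : IsLocalRing (B₁ ⧸ (maximalIdeal A).map (algebraMap A B₁)) :=
      IsLocalRing.of_surjective' (Ideal.Quotient.mk _) Ideal.Quotient.mk_surjective
    obtain ⟨e, -⟩ := Groth.Ega4b.exists_fibre_equiv_quotient A B₁ (maximalIdeal A)
    exact Groth.Ega4b.isCohenMacaulayLocalRing_of_ringEquiv (Ideal.quotEquivOfEq hm.symm)
      (isCMLocal_of_ring (Groth.Ega4b.isCohenMacaulayRing_of_ringEquiv e hc))
  let D := A₁ ⊗[A] p.ResidueField
  haveI hD : LocCoh.IsCohenMacaulayRing D := Groth.Ega4b.isCohenMacaulayRing_of_ringEquiv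
    (Algebra.TensorProduct.comm A p.ResidueField A₁).toRingEquiv (hA p)
  let E := D ⊗[A₁] B₁
  haveI : IsNoetherianRing (B₁ ⊗[A] p.ResidueField) := Algebra.EssFiniteType.isNoetherianRing B₁ _
  let eG := Groth.Calg4.fibreTower A A₁ B₁ p.ResidueField
  haveI : IsNoetherianRing E :=
    isNoetherianRing_of_ringEquiv (B₁ ⊗[A] p.ResidueField)
      ((Algebra.TensorProduct.comm A B₁ p.ResidueField).toRingEquiv.trans eG.symm)
  have hfib : ∀ (q : Ideal A₁) [q.IsPrime], LocCoh.IsCohenMacaulayRing (q.Fiber B₁) := fun q _ => by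
    haveI : IsNoetherianRing (B₁ ⊗[A₁] q.ResidueField) := Algebra.EssFiniteType.isNoetherianRing B₁ _
    haveI : IsNoetherianRing (q.Fiber B₁) :=
      isNoetherianRing_of_ringEquiv _ (Algebra.TensorProduct.comm A₁ B₁ q.ResidueField).toRingEquiv
    exact Groth.Ega4b.isCM_fibres_of_closed A₁ B₁ hF q
  refine Groth.Ega4b.isCohenMacaulayRing_of_ringEquiv eG ?_
  exact Groth.Ega4b.isCM_of_flat_of_CM_fibers D E fun q _ => cm_fibres_baseChange A₁ B₁ D
    (RingHom.SurjectiveOnStalks.baseChange (S := A₁) (Ideal.surjectiveOnStalks_residueField p)) hfib q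

open TensorProduct in
/-- For the property 'Cohen–Macaulay': let A → B be a local homomorphism of Noetherian local rings
making B a flat A-module, such that the residue field of B is a finite extension of the residue
field k of A, and such that the formal fibres of A are Cohen–Macaulay. If for every finite extension
k' of k the ring k' ⊗_k (k ⊗_A B̂) is Cohen–Macaulay (B̂ the completion of B), then for every prime
p of A and every finite extension K of k(p) the ring K ⊗_{k(p)} (k(p) ⊗_A B) is Cohen–Macaulay; in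
particular all fibres of A → B are Cohen–Macaulay. -/
theorem result (A B : Type u) [CommRing A] [CommRing B]
    [IsNoetherianRing A] [IsNoetherianRing B] [IsLocalRing A] [IsLocalRing B] [Algebra A B]
    [IsLocalHom (algebraMap A B)] [Module.Flat A B]
    [Module.Finite (IsLocalRing.ResidueField A) (IsLocalRing.ResidueField B)]
    (hA : EGA4.HasCMFormalFibres A)
    (h : ∀ (k' : Type u) [Field k'] [Algebra (IsLocalRing.maximalIdeal A).ResidueField k'],
      Module.Finite (IsLocalRing.maximalIdeal A).ResidueField k' →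
        LocCoh.IsCohenMacaulayRing (k' ⊗[(IsLocalRing.maximalIdeal A).ResidueField]
          ((IsLocalRing.maximalIdeal A).Fiber (EGA4.Cpl B)))) :
    ∀ (p : Ideal A) [p.IsPrime] (K : Type u) [Field K] [Algebra p.ResidueField K],
      Module.Finite p.ResidueField K → LocCoh.IsCohenMacaulayRing (K ⊗[p.ResidueField] (p.Fiber B)) := by
  intro p _ K _ _ hK
  let κ := p.ResidueField
  have hc : LocCoh.IsCohenMacaulayRing ((IsLocalRing.maximalIdeal A).Fiber (EGA4.Cpl B)) :=
    Groth.Ega4b.isCohenMacaulayRing_of_ringEquiv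
      (Algebra.TensorProduct.lid (IsLocalRing.maximalIdeal A).ResidueField
        ((IsLocalRing.maximalIdeal A).Fiber (EGA4.Cpl B))).toRingEquiv
      (h (IsLocalRing.maximalIdeal A).ResidueField (Module.Finite.self _))
  have hB₁ := fiber_cpl A B hA hc p
  haveI := Groth.Ega4b.faithfullyFlat_cpl B
  let D' := B ⊗[A] κ
  haveI : IsNoetherianRing D' := Algebra.EssFiniteType.isNoetherianRing B _
  let E' := D' ⊗[B] EGA4.Cpl B
  haveI hE' : LocCoh.IsCohenMacaulayRing E' :=
    Groth.Ega4b.isCohenMacaulayRing_of_ringEquiv (Groth.Calg4.fibreTower A B (EGA4.Cpl B) κ).symm hB₁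
  haveI := hE'.toIsNoetherian
  have hD' : LocCoh.IsCohenMacaulayRing D' := Groth.Calg4.isCohenMacaulayRing_of_faithfullyFlat D' E'
  haveI hF : LocCoh.IsCohenMacaulayRing (p.Fiber B) :=
    Groth.Ega4b.isCohenMacaulayRing_of_ringEquiv (Algebra.TensorProduct.comm A B κ).toRingEquiv hD'
  haveI : LocCoh.IsCohenMacaulayRing ((p.Fiber B) ⊗[κ] K) :=
    Groth.Ega4b.isCM_of_finite_flat (p.Fiber B) ((p.Fiber B) ⊗[κ] K)
  exact Groth.Ega4b.isCohenMacaulayRing_of_ringEquiv
    (Algebra.TensorProduct.comm κ (p.Fiber B) K).toRingEquiv ‹_›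

end Groth.Agent.S4747
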