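import Groth.Statements.S4748
import Groth.Agent.Ega4Algebra2.NormalTensor
import Groth.Agent.Ega4Algebra1.FlatDescent
-- import your own Groth.Agent.* helpers here

set_option autoImplicit false
universe u
open EGA4

namespace Groth.Agent.S4748

open TensorProduct

lemma normal_of_localization (k S k' : Type u) [CommRing k] [CommRing S] [CommRing k'] [Algebra k S]
    [Algebra k k'] (q' : Ideal (S ⊗[k] k')) [q'.IsPrime]
    (h : EGA4.IsNormalRing (Localization.AtPrime (q'.comap (algebraMap S (S ⊗[k] k'))) ⊗[k] k')) :
    IsDomain (Localization.AtPrime q') ∧ IsIntegrallyClosed (Localization.AtPrime q') := by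
  let q := q'.comap (algebraMap S (S ⊗[k] k'))
  let Sq := Localization.AtPrime q
  letI : Algebra (S ⊗[k] k') (Sq ⊗[S] (S ⊗[k] k')) := Algebra.TensorProduct.rightAlgebra
  haveI : IsLocalization (Algebra.algebraMapSubmonoid (S ⊗[k] k') q.primeCompl) (Sq ⊗[S] (S ⊗[k] k')) :=
    inferInstance
  refine Groth.Ega4b.normal_atPrime_of_isLocalization
    (Algebra.algebraMapSubmonoid (S ⊗[k] k') q.primeCompl) (Sq ⊗[S] (S ⊗[k] k'))
    (Groth.Ega4b.isNormalRing_of_ringEquiv
      (Algebra.TensorProduct.cancelBaseChange k S Sq Sq k').symm.toRingEquiv h) q' ?_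
  rw [Set.disjoint_left]
  rintro _ ⟨s, hs, rfl⟩ hP
  exact hs hP

open TensorProduct in
/-- For the property 'normal' (affine form): let k be a field, S a Noetherian k-algebra and k' an
extension field of k such that S is of finite type over k or k' is essentially of finite type over
k; let q' be a prime of S ⊗_k k' and q its contraction to S. If (S ⊗_k k')_{q'} is an integrally
closed domain then so is S_q; conversely, if k' is separable over k (geometrically reduced) and S_q
is an integrally closed domain, then so is (S ⊗_k k')_{q'}. -/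
theorem result (k S k' : Type u) [Field k] [CommRing S] [Algebra k S]
    [IsNoetherianRing S] [Field k'] [Algebra k k'] (hft : Algebra.FiniteType k S ∨ Algebra.EssFiniteType k k')
    [IsNoetherianRing (S ⊗[k] k')] (q' : Ideal (S ⊗[k] k')) [q'.IsPrime] :
    ((IsDomain (Localization.AtPrime q') ∧ IsIntegrallyClosed (Localization.AtPrime q')) →
        (IsDomain (Localization.AtPrime (q'.comap (algebraMap S (S ⊗[k] k')))) ∧
          IsIntegrallyClosed (Localization.AtPrime (q'.comap (algebraMap S (S ⊗[k] k')))))) ∧
      (Algebra.IsGeometricallyReduced k k' →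
        (IsDomain (Localization.AtPrime (q'.comap (algebraMap S (S ⊗[k] k')))) ∧
          IsIntegrallyClosed (Localization.AtPrime (q'.comap (algebraMap S (S ⊗[k] k'))))) →
          (IsDomain (Localization.AtPrime q') ∧ IsIntegrallyClosed (Localization.AtPrime q'))) := by
  constructor
  · intro h
    letI := (Localization.localRingHom (q'.comap (algebraMap S (S ⊗[k] k'))) q' (algebraMap S (S ⊗[k] k')) rfl).toAlgebra
    haveI := Groth.Ega4Algebra1.faithfullyFlat_localization_atPrime S (S ⊗[k] k') q'
    haveI := h.1
    haveI := h.2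
    exact ⟨Groth.Ega4Algebra1.isDomain_of_faithfullyFlat _ (Localization.AtPrime q'),
      Groth.Ega4Algebra1.isIntegrallyClosed_of_faithfullyFlat _ (Localization.AtPrime q')⟩
  · intro hk h
    let q := q'.comap (algebraMap S (S ⊗[k] k'))
    let Sq := Localization.AtPrime q
    obtain ⟨h1, h2⟩ := h
    haveI : IsDomain Sq := h1
    haveI : IsIntegrallyClosed Sq := h2
    have hSq : EGA4.IsNormalRing Sq := fun p _ =>
      ⟨IsLocalization.isDomain_localization p.primeCompl_le_nonZeroDivisors,
        isIntegrallyClosed_of_isLocalization _ p.primeCompl p.primeCompl_le_nonZeroDivisors⟩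
    have hB' : EGA4.IsNormalRing (Sq ⊗[k] k') := Groth.Ega4b.isNormalRing_tensor_separable k Sq k' hSq
    exact normal_of_localization k S k' q' hB'

end Groth.Agent.S4748
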