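import Groth.Statements.S4749
import Groth.Agent.Ega4Algebra2.NormalFieldExt
-- import your own Groth.Agent.* helpers here

set_option autoImplicit false
universe u
open EGA4

namespace Groth.Agent.S4749

open TensorProduct in
/-- transitivity of fibres after a field extension -/
noncomputable def fibreEquiv (A B A' k k' K : Type u) [CommRing A] [CommRing B] [CommRing A'] [Algebra A B]
    [Algebra A A'] [Field k] [Algebra A k] [Field k'] [Algebra A' k'] [Field K] [Algebra k' K] [Algebra k K]
    [Algebra A K] [Algebra A' K] [IsScalarTower A k K] [IsScalarTower A A' K] [IsScalarTower A' k' K] :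
    K ⊗[k'] (k' ⊗[A'] (A' ⊗[A] B)) ≃+* (k ⊗[A] B) ⊗[k] K :=
  ((Algebra.TensorProduct.cancelBaseChange A' k' K K (A' ⊗[A] B)).toRingEquiv.trans
    (Algebra.TensorProduct.cancelBaseChange A A' K K B).toRingEquiv).trans
    ((Algebra.TensorProduct.cancelBaseChange A k K K B).symm.toRingEquiv.trans
      (Algebra.TensorProduct.comm k K (k ⊗[A] B)).toRingEquiv)

open TensorProduct in
/-- Case of normal morphisms, affine form: let A → B be a homomorphism of Noetherian rings and A' a
Noetherian A-algebra, and assume that B or A' is of finite type over A. If A → B is normal then the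
base change A' → A' ⊗_A B is normal; the converse holds when A' is faithfully flat over A. -/
theorem result (A B A' : Type u) [CommRing A] [CommRing B] [CommRing A']
    [IsNoetherianRing A] [IsNoetherianRing B] [IsNoetherianRing A'] [Algebra A B] [Algebra A A']
    (hft : Algebra.FiniteType A B ∨ Algebra.FiniteType A A') :
    (EGA4.IsNormalHom A B → EGA4.IsNormalHom A' (A' ⊗[A] B)) ∧
      (Module.FaithfullyFlat A A' → EGA4.IsNormalHom A' (A' ⊗[A] B) → EGA4.IsNormalHom A B) := by
  refine ⟨fun h => ⟨haveI := h.1; inferInstance, fun p' _ K' _ _ hK' => ?_⟩, fun hff h => ⟨?_, fun p _ K _ _ hK => ?_⟩⟩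
  · let p := p'.comap (algebraMap A A')
    letI : Algebra p.ResidueField K' :=
      ((algebraMap p'.ResidueField K').comp (Ideal.ResidueField.map p p' (algebraMap A A') rfl)).toAlgebra
    letI : Algebra A' K' := ((algebraMap p'.ResidueField K').comp (algebraMap A' p'.ResidueField)).toAlgebra
    letI : Algebra A K' := ((algebraMap A' K').comp (algebraMap A A')).toAlgebra
    haveI : IsScalarTower A' p'.ResidueField K' := IsScalarTower.of_algebraMap_eq fun _ => rfl
    haveI : IsScalarTower A A' K' := IsScalarTower.of_algebraMap_eq fun _ => rfl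
    haveI : IsScalarTower A p.ResidueField K' := IsScalarTower.of_algebraMap_eq fun a =>
      (congrArg (algebraMap p'.ResidueField K') (Ideal.ResidueField.map_algebraMap p p' (algebraMap A A') rfl a)).symm
    exact Groth.Ega4b.isNormalRing_of_ringEquiv (fibreEquiv A B A' p.ResidueField p'.ResidueField K').symm
      (Groth.Ega4b.isNormalRing_tensor_field p.ResidueField (p.Fiber B) K' (h.2 p))
  · haveI := hff
    haveI := h.1
    exact Module.Flat.of_flat_tensorProduct A B A'
  · haveI := hff
    haveI := hK
    obtain ⟨⟨p', hp'⟩, hpp⟩ := PrimeSpectrum.comap_surjective_of_faithfullyFlat (A := A) (B := A') ⟨p, ‹_›⟩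
    have hpp' : p = p'.comap (algebraMap A A') := (congrArg PrimeSpectrum.asIdeal hpp).symm
    letI : Algebra p.ResidueField p'.ResidueField :=
      (Ideal.ResidueField.map p p' (algebraMap A A') hpp').toAlgebra
    obtain ⟨K2, _, _, _, _, _, _, hfin⟩ := Groth.Ega4b.exists_compositum p.ResidueField p'.ResidueField K
    letI : Algebra A' K2 := ((algebraMap p'.ResidueField K2).comp (algebraMap A' p'.ResidueField)).toAlgebra
    letI : Algebra A K2 := ((algebraMap A' K2).comp (algebraMap A A')).toAlgebra
    haveI : IsScalarTower A' p'.ResidueField K2 := IsScalarTower.of_algebraMap_eq fun _ => rfl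
    haveI : IsScalarTower A A' K2 := IsScalarTower.of_algebraMap_eq fun _ => rfl
    haveI : IsScalarTower A p.ResidueField K2 := IsScalarTower.of_algebraMap_eq fun a => by
      rw [IsScalarTower.algebraMap_apply p.ResidueField p'.ResidueField K2]
      exact (congrArg (algebraMap p'.ResidueField K2) (Ideal.ResidueField.map_algebraMap p p' (algebraMap A A') hpp' a)).symm
    have h2 : EGA4.IsNormalRing ((p.Fiber B) ⊗[p.ResidueField] K2) :=
      Groth.Ega4b.isNormalRing_of_ringEquiv (fibreEquiv A B A' p.ResidueField p'.ResidueField K2) (h.2 p' K2 hfin)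
    exact Groth.Ega4b.isNormalRing_of_ringEquiv (Algebra.TensorProduct.comm p.ResidueField (p.Fiber B) K).toRingEquiv
      (Groth.Ega4b.isNormalRing_tensor_of_extension p.ResidueField (p.Fiber B) K K2 h2)

end Groth.Agent.S4749
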