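import Groth.Statements.S4750
import Groth.Agent.Ega4Algebra2.SkFlat
-- import your own Groth.Agent.* helpers here

set_option autoImplicit false
universe u
open EGA4

namespace Groth.Agent.S4750

/-- Let A → B → C be homomorphisms of Noetherian rings, both flat and with (S_n) fibres. Then the
composite A → C is flat with (S_n) fibres. -/
theorem result (n : ℕ) (A B C : Type u) [CommRing A] [CommRing B] [CommRing C] [IsNoetherianRing A]
    [IsNoetherianRing B] [IsNoetherianRing C] [Algebra A B] [Algebra B C] [Algebra A C] [IsScalarTower A B C]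
    [Module.Flat A B] [Module.Flat B C]
    (hAB : ∀ (p : Ideal A) [p.IsPrime], LocCoh.HasSk n (p.Fiber B) (p.Fiber B))
    (hBC : ∀ (q : Ideal B) [q.IsPrime], LocCoh.HasSk n (q.Fiber C) (q.Fiber C)) :
    Module.Flat A C ∧ ∀ (p : Ideal A) [p.IsPrime], LocCoh.HasSk n (p.Fiber C) (p.Fiber C) := by
  refine ⟨Module.Flat.trans A B C, fun p _ => ?_⟩
  rw [Groth.Ega4b.hasSk_fiber_iff]
  intro r _ hrp
  letI := Groth.Ega4b.fibLocRing_isLocalRing A C r
  set q := r.comap (algebraMap B C) with hq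
  letI := Groth.Ega4b.fibLocRing_isLocalRing A B q
  letI := Groth.Ega4b.fibLocRing_isLocalRing B C r
  obtain ⟨hd, hk⟩ := Groth.Ega4b.fibLocRing_tower A B C r q hq.symm
  have h1 : Groth.Ega4b.SkLoc n (EGA4.FibLocRing A B q) :=
    (Groth.Ega4b.hasSk_fiber_iff A B n (q.comap (algebraMap A B))).mp (hAB _) q rfl
  have h2 : Groth.Ega4b.SkLoc n (EGA4.FibLocRing B C r) :=
    (Groth.Ega4b.hasSk_fiber_iff B C n q).mp (hBC q) r hq.symm
  unfold Groth.Ega4b.SkLoc at h1 h2 ⊢
  rw [hd, hk]
  exact Groth.Ega4b.min_le_add_of_min_le h1 h2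

end Groth.Agent.S4750
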