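import Groth.Statements.S4751
import Groth.Agent.Ega4Algebra2.SkFlat
import Groth.Agent.DescentBase.FlatTower
-- import your own Groth.Agent.* helpers here

set_option autoImplicit false
universe u
open EGA4

namespace Groth.Agent.S4751

/-- Let A → B → C be homomorphisms of Noetherian rings such that B → C is faithfully flat with (S_n)
fibres and the composite A → C is flat with (S_n) fibres. Then A → B is flat with (S_n) fibres. -/
theorem result (n : ℕ) (A B C : Type u) [CommRing A] [CommRing B] [CommRing C]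
    [IsNoetherianRing A] [IsNoetherianRing B] [IsNoetherianRing C] [Algebra A B] [Algebra B C] [Algebra A C]
    [IsScalarTower A B C] [Module.FaithfullyFlat B C] [Module.Flat A C]
    (hBC : ∀ (q : Ideal B) [q.IsPrime], LocCoh.HasSk n (q.Fiber C) (q.Fiber C))
    (hAC : ∀ (p : Ideal A) [p.IsPrime], LocCoh.HasSk n (p.Fiber C) (p.Fiber C)) :
    Module.Flat A B ∧ ∀ (p : Ideal A) [p.IsPrime], LocCoh.HasSk n (p.Fiber B) (p.Fiber B) := by
  refine ⟨Groth.DescentBase.flat_of_flat_of_faithfullyFlat A B C, fun p _ => ?_⟩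
  rw [Groth.Ega4b.hasSk_fiber_iff]
  intro q _ hqp
  letI := Groth.Ega4b.fibLocRing_isLocalRing A B q
  obtain ⟨r0, hr0⟩ := PrimeSpectrum.comap_surjective_of_faithfullyFlat (A := B) (B := C) ⟨q, inferInstance⟩
  have hr0' : r0.asIdeal.comap (algebraMap B C) = q := congrArg PrimeSpectrum.asIdeal hr0
  obtain ⟨r, hr, hrle⟩ := Ideal.exists_minimalPrimes_le (I := q.map (algebraMap B C)) (J := r0.asIdeal)
    (Ideal.map_le_iff_le_comap.mpr hr0'.ge)
  haveI := hr.isPrime
  have hrq : r.comap (algebraMap B C) = q :=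
    le_antisymm ((Ideal.comap_mono hrle).trans hr0'.le) (Ideal.map_le_iff_le_comap.mp hr.1.2)
  letI := Groth.Ega4b.fibLocRing_isLocalRing A C r
  letI := Groth.Ega4b.fibLocRing_isLocalRing B C r
  obtain ⟨hd, hk⟩ := Groth.Ega4b.fibLocRing_tower A B C r q hrq
  have hdim : ringKrullDim (EGA4.FibLocRing B C r) = 0 := by
    refine (ringKrullDimZero_iff_ringKrullDim_eq_zero).mp (Ring.KrullDimLE.mk₀ fun P hP => ?_)
    let π := Ideal.Quotient.mk ((r.comap (algebraMap B C)).map (algebraMap B (Localization.AtPrime r)))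
    have hle : P.comap π ≤ IsLocalRing.maximalIdeal (Localization.AtPrime r) :=
      IsLocalRing.le_maximalIdeal ((Ideal.comap_ne_top _ hP.ne_top))
    have hP' : ((P.comap π).comap (algebraMap C (Localization.AtPrime r))) = r := by
      refine le_antisymm ((Ideal.comap_mono hle).trans (Localization.AtPrime.under_maximalIdeal).le) ?_
      refine hr.2 ⟨inferInstance, Ideal.map_le_iff_le_comap.mpr fun b hb => ?_⟩
        ((Ideal.comap_mono hle).trans (Localization.AtPrime.under_maximalIdeal).le)
      rw [Ideal.mem_comap, Ideal.mem_comap, Ideal.mem_comap, ← IsScalarTower.algebraMap_apply]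
      have : π (algebraMap B (Localization.AtPrime r) b) = 0 :=
        Ideal.Quotient.eq_zero_iff_mem.mpr (Ideal.mem_map_of_mem _ (hrq ▸ hb))
      rw [this]; exact zero_mem _
    have hPmax : P.comap π = IsLocalRing.maximalIdeal (Localization.AtPrime r) := by
      rw [← IsLocalization.map_under r.primeCompl _ (P.comap π), ← Localization.AtPrime.map_eq_maximalIdeal]
      exact congrArg (Ideal.map _) hP'
    rw [← Ideal.map_comap_of_surjective π Ideal.Quotient.mk_surjective P, hPmax,
      IsLocalRing.map_maximalIdeal_of_surjective π Ideal.Quotient.mk_surjective]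
    infer_instance
  have hdepth : LocCoh.depth (EGA4.FibLocRing B C r) (EGA4.FibLocRing B C r) = 0 := by
    have h := Groth.LocCohBase.depth_le_supportDim (R := EGA4.FibLocRing B C r) (EGA4.FibLocRing B C r)
    rw [Module.supportDim_self_eq_ringKrullDim, hdim] at h
    exact nonpos_iff_eq_zero.mp (WithBot.coe_le_coe.mp h)
  have h3 : Groth.Ega4b.SkLoc n (EGA4.FibLocRing A C r) :=
    (Groth.Ega4b.hasSk_fiber_iff A C n p).mp (hAC p) r (by
      rw [IsScalarTower.algebraMap_eq A B C, ← Ideal.comap_comap, hrq, hqp])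
  unfold Groth.Ega4b.SkLoc at h3 ⊢
  rw [hd, hk, hdim, hdepth, add_zero, add_zero] at h3
  exact h3

end Groth.Agent.S4751
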