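import Groth.Statements.S4752
import Groth.Agent.Ega4Algebra2.GeomReducedComp
-- import your own Groth.Agent.* helpers here

set_option autoImplicit false
universe u
open EGA4

namespace Groth.Agent.S4752

/-- Case of reduced morphisms, affine form: let A → B → C be homomorphisms of Noetherian rings, both
flat and with geometrically reduced fibres. Then the composite A → C is flat with geometrically
reduced fibres. -/
theorem result (A B C : Type u) [CommRing A] [CommRing B] [CommRing C] [IsNoetherianRing A]
    [IsNoetherianRing B] [IsNoetherianRing C] [Algebra A B] [Algebra B C] [Algebra A C] [IsScalarTower A B C]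
    [Module.Flat A B] [Module.Flat B C]
    (hAB : ∀ (p : Ideal A) [p.IsPrime], Algebra.IsGeometricallyReduced p.ResidueField (p.Fiber B))
    (hBC : ∀ (q : Ideal B) [q.IsPrime], Algebra.IsGeometricallyReduced q.ResidueField (q.Fiber C)) :
    Module.Flat A C ∧ ∀ (p : Ideal A) [p.IsPrime], Algebra.IsGeometricallyReduced p.ResidueField (p.Fiber C) := by
  exact ⟨Module.Flat.trans A B C, fun p _ => by
    haveI : IsNoetherianRing (TensorProduct A B p.ResidueField) := Algebra.EssFiniteType.isNoetherianRing B _
    haveI : IsNoetherianRing (p.Fiber B) :=
      isNoetherianRing_of_ringEquiv _ (Algebra.TensorProduct.comm A B p.ResidueField).toRingEquiv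
    exact Groth.Ega4b.isGeometricallyReduced_fiber_comp A B C p (hAB p) hBC⟩

end Groth.Agent.S4752
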