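import Groth.Statements.S4753
import Groth.Agent.DescentBase.FlatTower
import Mathlib
-- import your own Groth.Agent.* helpers here

set_option autoImplicit false
universe u
open EGA4

namespace Groth.Agent.S4753

/-- Case of reduced morphisms, affine form: let A → B → C be homomorphisms of Noetherian rings such that
B → C is faithfully flat with geometrically reduced fibres and the composite A → C is flat with
geometrically reduced fibres. Then A → B is flat with geometrically reduced fibres. -/
theorem result (A B C : Type u) [CommRing A] [CommRing B] [CommRing C]
    [IsNoetherianRing A] [IsNoetherianRing B] [IsNoetherianRing C] [Algebra A B] [Algebra B C] [Algebra A C]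
    [IsScalarTower A B C] [Module.FaithfullyFlat B C] [Module.Flat A C]
    (hBC : ∀ (q : Ideal B) [q.IsPrime], Algebra.IsGeometricallyReduced q.ResidueField (q.Fiber C))
    (hAC : ∀ (p : Ideal A) [p.IsPrime], Algebra.IsGeometricallyReduced p.ResidueField (p.Fiber C)) :
    Module.Flat A B ∧ ∀ (p : Ideal A) [p.IsPrime], Algebra.IsGeometricallyReduced p.ResidueField (p.Fiber B) := by
  refine ⟨Groth.DescentBase.flat_of_flat_of_faithfullyFlat A B C, fun p _ => ?_⟩
  haveI := hAC p
  let f : p.Fiber B →ₐ[p.ResidueField] p.Fiber C :=
    Algebra.TensorProduct.map (AlgHom.id p.ResidueField p.ResidueField) (IsScalarTower.toAlgHom A B C)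
  refine Algebra.IsGeometricallyReduced.of_injective f ?_
  let e : TensorProduct B C (TensorProduct A B p.ResidueField) ≃ₗ[B] TensorProduct A C p.ResidueField :=
    TensorProduct.AlgebraTensorModule.cancelBaseChange A B B C p.ResidueField
  have key : ∀ z : TensorProduct A B p.ResidueField,
      f (TensorProduct.comm A B p.ResidueField z) = TensorProduct.comm A C p.ResidueField (e (TensorProduct.tmul B 1 z)) := by
    intro z
    induction z with
    | zero => simp
    | tmul b k => simp [f, e, Algebra.smul_def]
    | add a b ha hb => simp only [map_add, TensorProduct.tmul_add, ha, hb]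
  intro a b hab
  obtain ⟨a, rfl⟩ := (TensorProduct.comm A B p.ResidueField).surjective a
  obtain ⟨b, rfl⟩ := (TensorProduct.comm A B p.ResidueField).surjective b
  rw [key, key] at hab
  exact congrArg _ (Module.FaithfullyFlat.tensorProduct_mk_injective (A := B) (B := C) _
    (e.injective ((TensorProduct.comm A C p.ResidueField).injective hab)))

end Groth.Agent.S4753
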