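import Groth.Statements.S4763
import Groth.Agent.Limits.Topology

set_option autoImplicit false
universe u
open CategoryTheory AlgebraicGeometry
open Lim8

namespace Groth.Agent.S4763

/-- Let S = lim S_i be a cofiltered limit of schemes with affine transition maps and let i be an index.
The canonical projection S ⟶ S_i is dominant if and only if every transition map S_j ⟶ S_i is
dominant. -/
theorem result {I : Type u} [SmallCategory I] [IsCofiltered I]
    (D : I ⥤ Scheme.{u}) (c : Limits.Cone D) (hc : Limits.IsLimit c)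
    [∀ (i j : I) (f : i ⟶ j), IsAffineHom (D.map f)] (i : I) :
    IsDominant (c.π.app i) ↔ ∀ (j : I) (φ : j ⟶ i), IsDominant (D.map φ) := by
  constructor
  · intro h j φ
    refine ⟨h.denseRange.mono ?_⟩
    rintro _ ⟨s, rfl⟩
    exact ⟨c.π.app j s, Groth.Limits.π_map_apply D c φ s⟩
  · intro h
    refine ⟨dense_iff_inter_open.mpr fun U hU hne ↦ ?_⟩
    obtain ⟨x, hx⟩ := hne
    obtain ⟨V, hV, hxV, hVU⟩ := exists_isAffineOpen_mem_and_subset (U := (⟨U, hU⟩ : (D.obj i).Opens)) hx
    by_contra hemp
    rw [Set.not_nonempty_iff_eq_empty] at hemp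
    have hq : Groth.Limits.QCImage (V : Set (D.obj i)) := by
      have := Groth.Limits.pc_univ V hV
      rwa [Set.univ_inter] at this
    obtain ⟨j, φ, hj⟩ := Groth.Limits.exists_preimage_eq_empty D c hc hq (by
      rw [Set.eq_empty_iff_forall_notMem] at hemp ⊢
      exact fun s hs ↦ hemp _ ⟨hVU hs, s, rfl⟩)
    obtain ⟨y, hy⟩ := (h j φ).denseRange.exists_mem_open V.isOpen ⟨x, hxV⟩
    exact Set.eq_empty_iff_forall_notMem.mp hj y hy

end Groth.Agent.S4763
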