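import Groth.Statements.S4764
import Groth.Agent.Limits.Stalk

set_option autoImplicit false
universe u
open CategoryTheory AlgebraicGeometry
open Lim8

namespace Groth.Agent.S4764

/-- Let S = lim S_i be a cofiltered limit of schemes with affine transition maps and let i be an index
such that every transition map S_j ⟶ S_i is flat. Then the canonical projection S ⟶ S_i is flat. -/
theorem result {I : Type u} [SmallCategory I] [IsCofiltered I]
    (D : I ⥤ Scheme.{u}) (c : Limits.Cone D) (hc : Limits.IsLimit c)
    [∀ (i j : I) (f : i ⟶ j), IsAffineHom (D.map f)] (i : I)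
    (hf : ∀ (j : I) (φ : j ⟶ i), Flat (D.map φ)) : Flat (c.π.app i) := by
  exact Groth.Limits.flat_π D c hc hf

end Groth.Agent.S4764
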