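import Groth.Statements.S4767
import Groth.Agent.Limits.Descend

set_option autoImplicit false
universe u
open CategoryTheory AlgebraicGeometry
open Lim8

namespace Groth.Agent.S4767

/-- Let S = lim S_i be a cofiltered limit of schemes with affine transition maps, some stage S_{i₀}
being quasi-compact and quasi-separated, and assume that the underlying topological space of S is
Noetherian. If S is not irreducible, then there is an index i over i₀ such that S_j is not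
irreducible for every index j over i. -/
theorem result {I : Type u} [SmallCategory I] [IsCofiltered I]
    (D : I ⥤ Scheme.{u}) (c : Limits.Cone D) (hc : Limits.IsLimit c)
    [∀ (i j : I) (f : i ⟶ j), IsAffineHom (D.map f)] (i₀ : I)
    [CompactSpace (D.obj i₀)] [QuasiSeparatedSpace (D.obj i₀)]
    [TopologicalSpace.NoetherianSpace c.pt] (h : ¬ IrreducibleSpace c.pt) :
    ∃ (i : I) (_ : i ⟶ i₀), ∀ (j : I) (_ : j ⟶ i), ¬ IrreducibleSpace (D.obj j) := by
  classical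
  rcases isEmpty_or_nonempty c.pt with hc0 | hc0
  · have hq : Groth.Limits.QCImage (Set.univ : Set (D.obj i₀)) := Groth.Limits.pc_univ.qcImage
    obtain ⟨i, φ, hi⟩ := Groth.Limits.exists_preimage_eq_empty D c hc hq
      (Set.eq_empty_iff_forall_notMem.mpr fun x _ ↦ hc0.false x)
    refine ⟨i, φ, fun j ψ hj ↦ ?_⟩
    obtain ⟨x⟩ := hj.toNonempty
    exact Set.eq_empty_iff_forall_notMem.mp hi (D.map ψ x) (Set.mem_univ _)
  · obtain ⟨U₁, U₂, hU₁, hU₂, ⟨x₁, hx₁⟩, ⟨x₂, hx₂⟩, hd⟩ : ∃ U₁ U₂ : Set c.pt,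
        IsOpen U₁ ∧ IsOpen U₂ ∧ U₁.Nonempty ∧ U₂.Nonempty ∧ ¬ (U₁ ∩ U₂).Nonempty := by
      by_contra! H
      have hne : Nonempty c.pt := hc0
      refine h { isPreirreducible_univ := fun U V hU hV hU' hV' ↦ ?_, toNonempty := hne }
      simpa using H U V hU hV (by simpa using hU') (by simpa using hV')
    obtain ⟨W₁, hW₁, hxW₁, hWU₁⟩ := exists_isAffineOpen_mem_and_subset (X := c.pt) (U := ⟨U₁, hU₁⟩) hx₁
    obtain ⟨W₂, hW₂, hxW₂, hWU₂⟩ := exists_isAffineOpen_mem_and_subset (X := c.pt) (U := ⟨U₂, hU₂⟩) hx₂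
    obtain ⟨j₁, a₁, V₁, hV₁, e₁⟩ := Groth.Limits.exists_isCompact_preimage_eq D c hc i₀ W₁ hW₁.isCompact
    obtain ⟨j₂, a₂, V₂, hV₂, e₂⟩ := Groth.Limits.exists_isCompact_preimage_eq D c hc i₀ W₂ hW₂.isCompact
    obtain ⟨k, f, g, -⟩ := IsCofiltered.cospan a₁ a₂
    let A : (D.obj k).Opens := D.map f ⁻¹ᵁ V₁
    let B : (D.obj k).Opens := D.map g ⁻¹ᵁ V₂
    have hA := Groth.Limits.isCompact_preimage_map D f V₁.isOpen hV₁
    have hB := Groth.Limits.isCompact_preimage_map D g V₂.isOpen hV₂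
    have := Groth.Limits.quasiSeparatedSpace_obj D (f ≫ a₁)
    obtain ⟨l, ψ, hl⟩ := Groth.Limits.exists_preimage_eq_empty D c hc
      ((Groth.Limits.qcImage_isOpen_isCompact D A hA).inter
        (Groth.Limits.qcImage_isOpen_isCompact D B hB)) (by
        rw [Set.preimage_inter]
        refine Set.eq_empty_iff_forall_notMem.mpr fun x hx ↦ hd ⟨x, hWU₁ ?_, hWU₂ ?_⟩
        · rw [show W₁.carrier = (W₁ : Set c.pt) from rfl, ← e₁, ← Groth.Limits.preimage_π D c f]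
          exact hx.1
        · rw [show W₂.carrier = (W₂ : Set c.pt) from rfl, ← e₂, ← Groth.Limits.preimage_π D c g]
          exact hx.2)
    refine ⟨l, ψ ≫ f ≫ a₁, fun j χ hj ↦ ?_⟩
    have hmem {W : c.pt.Opens} {i' : I} (f' : k ⟶ i') (V : (D.obj i').Opens)
        (e : ⇑(c.π.app i') ⁻¹' (V : Set (D.obj i')) = (W : Set c.pt)) {x : c.pt} (hx : x ∈ W) :
        (c.π.app j x) ∈ (D.map (χ ≫ ψ ≫ f') ⁻¹ᵁ V) := by
      show D.map (χ ≫ ψ ≫ f') (c.π.app j x) ∈ V
      rw [Groth.Limits.π_map_apply D c]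
      exact (Set.ext_iff.mp e x).mpr hx
    obtain ⟨z, -, hz₁, hz₂⟩ := hj.isPreirreducible_univ _ _
      (D.map (χ ≫ ψ ≫ f) ⁻¹ᵁ V₁).isOpen (D.map (χ ≫ ψ ≫ g) ⁻¹ᵁ V₂).isOpen
      ⟨_, trivial, hmem f V₁ e₁ hxW₁⟩ ⟨_, trivial, hmem g V₂ e₂ hxW₂⟩
    refine Set.eq_empty_iff_forall_notMem.mp hl (D.map χ z) ⟨?_, ?_⟩
    · show D.map f (D.map ψ (D.map χ z)) ∈ V₁
      simpa [Functor.map_comp] using hz₁
    · show D.map g (D.map ψ (D.map χ z)) ∈ V₂
      simpa [Functor.map_comp] using hz₂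

end Groth.Agent.S4767
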