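import Groth.Statements.S4768
import Groth.Agent.Limits.Descend

set_option autoImplicit false
universe u
open CategoryTheory AlgebraicGeometry
open Lim8

namespace Groth.Agent.S4768

/-- Let S = lim S_i be a cofiltered limit of schemes with affine transition maps, some stage S_{i₀}
being quasi-compact and quasi-separated. If S is not preconnected (that is, S is the disjoint union
of two nonempty open subsets), then there is an index i over i₀ such that S_j is not preconnected
for every index j over i. (The published statement assumes the stage only quasi-compact, which is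
not enough: over the affine space in infinitely many variables with a doubled origin, the closed
subschemes cut out by the first n coordinates form a system with affine transition maps in which
every stage is connected while the limit consists of two disjoint points. The published proof
descends the two pieces of S to quasi-compact open subsets of a stage and needs their intersection
to become empty at a later stage, which uses that quasi-compact open subsets of the stage are
constructible; so the stage is taken quasi-separated here, as in part (i).) -/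
theorem result {I : Type u} [SmallCategory I] [IsCofiltered I]
    (D : I ⥤ Scheme.{u}) (c : Limits.Cone D) (hc : Limits.IsLimit c)
    [∀ (i j : I) (f : i ⟶ j), IsAffineHom (D.map f)] (i₀ : I)
    [CompactSpace (D.obj i₀)] [QuasiSeparatedSpace (D.obj i₀)] (h : ¬ PreconnectedSpace c.pt) :
    ∃ (i : I) (_ : i ⟶ i₀), ∀ (j : I) (_ : j ⟶ i), ¬ PreconnectedSpace (D.obj j) := by
  classical
  have : CompactSpace c.pt := Groth.Limits.compactSpace_pt D c hc (i := i₀)
  obtain ⟨U, hU, hUne, hUne'⟩ : ∃ U : Set c.pt, IsClopen U ∧ U.Nonempty ∧ Uᶜ.Nonempty := by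
    by_contra! H
    exact h (preconnectedSpace_iff_clopen.mpr fun s hs ↦ by
      rcases s.eq_empty_or_nonempty with h0 | h0
      · exact Or.inl h0
      · exact Or.inr (Set.compl_empty_iff.mp (H s hs h0)))
  obtain ⟨j₁, a₁, V₁, hV₁, e₁⟩ :=
    Groth.Limits.exists_isCompact_preimage_eq D c hc i₀ ⟨U, hU.isOpen⟩ hU.isClosed.isCompact
  obtain ⟨j₂, a₂, V₂, hV₂, e₂⟩ :=
    Groth.Limits.exists_isCompact_preimage_eq D c hc i₀ ⟨Uᶜ, hU.compl.isOpen⟩ hU.compl.isClosed.isCompact
  simp only [TopologicalSpace.Opens.coe_mk] at e₁ e₂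
  obtain ⟨k, f, g, -⟩ := IsCofiltered.cospan a₁ a₂
  let A : (D.obj k).Opens := D.map f ⁻¹ᵁ V₁
  let B : (D.obj k).Opens := D.map g ⁻¹ᵁ V₂
  have hA := Groth.Limits.isCompact_preimage_map D f V₁.isOpen hV₁
  have hB := Groth.Limits.isCompact_preimage_map D g V₂.isOpen hV₂
  have := Groth.Limits.quasiSeparatedSpace_obj D (f ≫ a₁)
  have := Groth.Limits.compactSpace_obj D (f ≫ a₁)
  have eA : ⇑(c.π.app k) ⁻¹' (A : Set (D.obj k)) = U := (Groth.Limits.preimage_π D c f _).trans e₁
  have eB : ⇑(c.π.app k) ⁻¹' (B : Set (D.obj k)) = Uᶜ := (Groth.Limits.preimage_π D c g _).trans e₂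
  have hcomp : Groth.Limits.PC ((A : Set (D.obj k)) ∪ (B : Set (D.obj k)))ᶜ :=
    Groth.Limits.pc_of_isClosed (A.isOpen.union B.isOpen).isClosed_compl
  obtain ⟨l, ψ, hl⟩ := Groth.Limits.exists_preimage_eq_empty D c hc
    (((Groth.Limits.qcImage_isOpen_isCompact D A hA).inter
      (Groth.Limits.qcImage_isOpen_isCompact D B hB)).union hcomp.qcImage) (by
      rw [Set.preimage_union, Set.preimage_inter, Set.preimage_compl, Set.preimage_union, eA, eB]
      simp)
  refine ⟨l, ψ ≫ f ≫ a₁, fun j χ hj ↦ ?_⟩
  let F := ⇑(D.map χ ≫ D.map ψ)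
  have hdisj : ∀ x, ¬ (F x ∈ A ∧ F x ∈ B) ∧ (F x ∈ A ∨ F x ∈ B) := by
    intro x
    have h1 := Set.eq_empty_iff_forall_notMem.mp hl (D.map χ x)
    have hx : D.map ψ (D.map χ x) = F x := (Scheme.Hom.comp_apply _ _ x).symm
    simp only [Set.mem_preimage, Set.mem_union, Set.mem_inter_iff, Set.mem_compl_iff,
      SetLike.mem_coe, hx] at h1
    tauto
  have hcl : IsClopen (F ⁻¹' (A : Set (D.obj k))) := by
    refine ⟨?_, A.isOpen.preimage (D.map χ ≫ D.map ψ).continuous⟩
    rw [← isOpen_compl_iff]
    convert B.isOpen.preimage (D.map χ ≫ D.map ψ).continuous using 1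
    ext x
    have := hdisj x
    simp only [Set.mem_compl_iff, Set.mem_preimage, SetLike.mem_coe, F] at this ⊢
    tauto
  have hπ (x : c.pt) : F (c.π.app j x) = c.π.app k x := by
    show (D.map χ ≫ D.map ψ) (c.π.app j x) = _
    rw [← D.map_comp, Groth.Limits.π_map_apply D c]
  rcases isClopen_iff.mp hcl with h0 | h0
  · obtain ⟨x, hx⟩ := hUne
    refine Set.eq_empty_iff_forall_notMem.mp h0 (c.π.app j x) ?_
    show F (c.π.app j x) ∈ A
    rw [hπ]
    exact (Set.ext_iff.mp eA x).mpr hx
  · obtain ⟨x, hx⟩ := hUne'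
    refine (hdisj (c.π.app j x)).1 ⟨(Set.ext_iff.mp h0 _).mpr trivial, ?_⟩
    rw [hπ]
    exact (Set.ext_iff.mp eB x).mpr hx

end Groth.Agent.S4768
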