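import Groth.Statements.S4771
import Groth.Agent.Limits.Components
import Groth.Agent.S4763

set_option autoImplicit false
universe u
open CategoryTheory AlgebraicGeometry
open Lim8

namespace Groth.Agent.S4771

/-- Let S = lim S_i be a cofiltered limit of schemes whose transition maps are affine and dominant, some
stage S_{i₀} being quasi-compact, and assume that the underlying topological space of S is
Noetherian. Then S is irreducible if and only if there is an index i over i₀ such that S_j is
irreducible for every j over i. -/
theorem result {I : Type u} [SmallCategory I] [IsCofiltered I]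
    (D : I ⥤ Scheme.{u}) (c : Limits.Cone D) (hc : Limits.IsLimit c)
    [∀ (i j : I) (f : i ⟶ j), IsAffineHom (D.map f)] (i₀ : I)
    [CompactSpace (D.obj i₀)] [TopologicalSpace.NoetherianSpace c.pt]
    (hd : ∀ (i j : I) (φ : i ⟶ j), IsDominant (D.map φ)) :
    IrreducibleSpace c.pt ↔ ∃ (i : I) (_ : i ⟶ i₀), ∀ (j : I) (_ : j ⟶ i), IrreducibleSpace (D.obj j) := by
  have hdr : ∀ j, DenseRange (c.π.app j) := fun j ↦
    ((Groth.Agent.S4763.result D c hc j).mpr fun k φ ↦ hd k j φ).denseRange
  constructor
  · intro h
    have hS : _root_.IrreducibleSpace c.pt := h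
    refine ⟨i₀, 𝟙 _, fun j _ ↦ ?_⟩
    have h1 := (IrreducibleSpace.isIrreducible_univ c.pt).image (c.π.app j)
      (c.π.app j).continuous.continuousOn
    rw [Set.image_univ] at h1
    have h2 := h1.closure
    rw [(hdr j).closure_range] at h2
    exact (irreducibleSpace_def _).mpr h2
  · rintro ⟨i, a, h⟩
    obtain ⟨k, b, hk⟩ := Groth.Limits.exists_bijOn_irreducibleComponents D c hc i fun j _ ↦ hdr j
    have := h k b
    have hone : irreducibleComponents (D.obj k) ⊆ {Set.univ} := by
      rw [irreducibleComponents_eq_singleton]
    have hbij := hk k (𝟙 k)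
    obtain ⟨Z, hZ, -⟩ := hbij.surjOn (show Set.univ ∈ irreducibleComponents (D.obj k) by
      rw [irreducibleComponents_eq_singleton]; rfl)
    have hu : Z = Set.univ := Set.eq_univ_of_forall fun x ↦ by
      have hx := irreducibleComponent_mem_irreducibleComponents x
      rw [hbij.injOn hZ hx ((Set.mem_singleton_iff.mp (hone (hbij.mapsTo hZ))).trans
        (Set.mem_singleton_iff.mp (hone (hbij.mapsTo hx))).symm)]
      exact mem_irreducibleComponent
    exact (irreducibleSpace_def _).mpr (show IsIrreducible (Set.univ : Set c.pt) from hu ▸ hZ.1)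

end Groth.Agent.S4771
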