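import Groth.Statements.S4772
import Groth.Agent.Limits.Components
import Groth.Agent.S4763

set_option autoImplicit false
universe u
open CategoryTheory AlgebraicGeometry
open Lim8

namespace Groth.Agent.S4772

/-- Let S = lim S_i be a cofiltered limit of schemes whose transition maps are affine and dominant, some
stage S_{i₀} being quasi-compact. Then S is connected (in particular nonempty) if and only if there
is an index i over i₀ such that S_j is connected for every j over i. -/
theorem result {I : Type u} [SmallCategory I] [IsCofiltered I]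
    (D : I ⥤ Scheme.{u}) (c : Limits.Cone D) (hc : Limits.IsLimit c)
    [∀ (i j : I) (f : i ⟶ j), IsAffineHom (D.map f)] (i₀ : I)
    [CompactSpace (D.obj i₀)] (hd : ∀ (i j : I) (φ : i ⟶ j), IsDominant (D.map φ)) :
    ConnectedSpace c.pt ↔ ∃ (i : I) (_ : i ⟶ i₀), ∀ (j : I) (_ : j ⟶ i), ConnectedSpace (D.obj j) := by
  have hdr : ∀ j, DenseRange (c.π.app j) := fun j ↦
    ((Groth.Agent.S4763.result D c hc j).mpr fun k φ ↦ hd k j φ).denseRange
  constructor
  · intro h
    refine ⟨i₀, 𝟙 _, fun j _ ↦ ?_⟩
    have h1 := (isConnected_univ (α := c.pt)).image (c.π.app j) (c.π.app j).continuous.continuousOn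
    rw [Set.image_univ] at h1
    have h2 := h1.closure
    rw [(hdr j).closure_range] at h2
    exact connectedSpace_iff_univ.mpr h2
  · rintro ⟨i, a, h⟩
    have := Groth.Limits.compactSpace_obj D a
    have hne : Nonempty c.pt := by
      by_contra hne
      obtain ⟨x⟩ := (h i (𝟙 i)).toNonempty
      obtain ⟨s, -⟩ := (hdr i).exists_mem_open isOpen_univ ⟨x, trivial⟩
      exact hne ⟨s⟩
    have hp : PreconnectedSpace c.pt := by
      refine preconnectedSpace_iff_clopen.mpr fun s hs ↦ ?_
      by_contra hns
      rw [not_or, ← Set.compl_empty_iff, ← ne_eq, ← ne_eq, ← Set.nonempty_iff_ne_empty,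
        ← Set.nonempty_iff_ne_empty] at hns
      obtain ⟨⟨x, hx⟩, y, hy⟩ := hns
      obtain ⟨k, b, hk⟩ := Groth.Limits.exists_clopen_partition D c hc
        (fun q : Bool ↦ cond q s sᶜ) (by rintro (_ | _) <;> simp [hs.isOpen, hs.compl.isOpen])
        (by
          rintro (_ | _) (_ | _) hne
          · exact absurd rfl hne
          · exact disjoint_compl_left
          · exact disjoint_compl_right
          · exact absurd rfl hne)
        (by
          ext z
          simp only [Set.mem_iUnion, Bool.exists_bool, cond_false, cond_true, Set.mem_univ, iff_true]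
          exact (em (z ∈ s)).symm) i (fun j _ ↦ hdr j)
      obtain ⟨W, hWo, hWd, hWc, hWp⟩ := hk k (𝟙 k)
      have := h k b
      obtain ⟨z, -, hz₁, hz₂⟩ := (PreconnectedSpace.isPreconnected_univ (α := D.obj k)) (W true)
        (W false) (hWo _) (hWo _) (by
          rw [← hWc]; rintro z hz
          obtain ⟨(_ | _), hz⟩ := Set.mem_iUnion.mp hz
          exacts [Or.inr hz, Or.inl hz])
        ⟨c.π.app k x, trivial, (hWp true).ge hx⟩ ⟨c.π.app k y, trivial, (hWp false).ge hy⟩
      exact Set.disjoint_left.mp (hWd true false (by simp)) hz₁ hz₂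
    exact { toNonempty := hne, toPreconnectedSpace := hp }

end Groth.Agent.S4772
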