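import Groth.Statements.S4774
import Groth.Agent.Limits.Stalk

set_option autoImplicit false
universe u
open CategoryTheory AlgebraicGeometry
open Lim8

namespace Groth.Agent.S4774

/-- Let S = lim S_i be a cofiltered limit of schemes with affine transition maps. If S is not reduced,
then there is an index i such that S_j is not reduced for every index j over i. -/
theorem result {I : Type u} [SmallCategory I] [IsCofiltered I]
    (D : I ⥤ Scheme.{u}) (c : Limits.Cone D) (hc : Limits.IsLimit c)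
    [∀ (i j : I) (f : i ⟶ j), IsAffineHom (D.map f)] (h : ¬ IsReduced c.pt) :
    ∃ (i : I), ∀ (j : I) (_ : j ⟶ i), ¬ IsReduced (D.obj j) := by
  obtain ⟨s, a, ha, ha0⟩ : ∃ (s : c.pt) (a : c.pt.presheaf.stalk s), IsNilpotent a ∧ a ≠ 0 := by
    by_contra! H
    have : ∀ s : c.pt, _root_.IsReduced (c.pt.presheaf.stalk s) := fun s ↦ ⟨fun a ha ↦ H s a ha⟩
    exact h (isReduced_of_isReduced_stalk c.pt)
  obtain ⟨n, hn⟩ := ha
  obtain ⟨i₀⟩ := IsCofiltered.nonempty (C := I)
  obtain ⟨j, _, b, rfl⟩ := Groth.Limits.exists_stalkMap_eq D c hc i₀ s a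
  obtain ⟨k, φ, hk⟩ := Groth.Limits.exists_stalkMap_eq_zero D c hc s (b ^ n)
    (by rw [map_pow]; exact hn)
  replace hk : Groth.Limits.stalkTrans D c φ s (b ^ n) = 0 := hk
  refine ⟨k, fun l ψ hl ↦ ha0 ?_⟩
  let b' := Groth.Limits.stalkTrans D c ψ s (Groth.Limits.stalkTrans D c φ s b)
  have hnil : b' ^ n = 0 := by
    simp only [b']
    rw [← map_pow, ← map_pow, hk, map_zero]
  have hb' : b' = 0 := IsNilpotent.eq_zero ⟨n, hnil⟩
  have h1 := congr($(Groth.Limits.stalkTrans_π D c φ s) b)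
  have h2 := congr($(Groth.Limits.stalkTrans_π D c ψ s) (Groth.Limits.stalkTrans D c φ s b))
  rw [← h1]
  refine Eq.trans h2.symm ?_
  show (c.π.app l).stalkMap s b' = 0
  rw [hb', map_zero]

end Groth.Agent.S4774
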