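import Groth.Statements.S4775
import Groth.Agent.Limits.Stalk

set_option autoImplicit false
universe u
open CategoryTheory AlgebraicGeometry
open Lim8

namespace Groth.Agent.S4775

/-- Let S = lim S_i be a cofiltered limit of schemes whose transition maps are affine, flat and
surjective. Then S is reduced if and only if every S_i is reduced. -/
theorem result {I : Type u} [SmallCategory I] [IsCofiltered I]
    (D : I ⥤ Scheme.{u}) (c : Limits.Cone D) (hc : Limits.IsLimit c)
    [∀ (i j : I) (f : i ⟶ j), IsAffineHom (D.map f)]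
    (hf : ∀ (i j : I) (φ : i ⟶ j), Flat (D.map φ) ∧ Surjective (D.map φ)) :
    IsReduced c.pt ↔ ∀ (i : I), IsReduced (D.obj i) := by
  constructor
  · intro h i
    have := Groth.Limits.flat_π D c hc (i := i) fun j φ ↦ (hf j i φ).1
    have hsurj : Function.Surjective (c.π.app i) := fun x ↦ by
      show x ∈ Set.range ⇑(c.π.app i)
      rw [Groth.Limits.range_π D c hc i]
      exact Set.mem_iInter₂.mpr fun j φ ↦ (hf j i φ).2.surj x
    have : ∀ x : D.obj i, _root_.IsReduced ((D.obj i).presheaf.stalk x) := by
      intro x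
      obtain ⟨s, rfl⟩ := hsurj x
      let g : (D.obj i).presheaf.stalk (c.π.app i s) →+* c.pt.presheaf.stalk s :=
        ((c.π.app i).stalkMap s).hom
      have hred : _root_.IsReduced (c.pt.presheaf.stalk s) := inferInstance
      algebraize [g]
      have : RingHom.FaithfullyFlat g :=
        @Module.FaithfullyFlat.of_flat_of_isLocalHom _ _ _ _ _ _ _
          (Flat.stalkMap (c.π.app i) s) ((c.π.app i).toLRSHom.prop s)
      exact isReduced_of_injective g this.injective
    exact isReduced_of_isReduced_stalk _
  · intro h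
    obtain ⟨i₀⟩ := IsCofiltered.nonempty (C := I)
    have : ∀ s : c.pt, _root_.IsReduced (c.pt.presheaf.stalk s) := by
      refine fun s ↦ ⟨fun a ⟨n, hn⟩ ↦ ?_⟩
      obtain ⟨j, _, b, rfl⟩ := Groth.Limits.exists_stalkMap_eq D c hc i₀ s a
      obtain ⟨k, φ, hk⟩ := Groth.Limits.exists_stalkMap_eq_zero D c hc s (b ^ n)
        (by rw [map_pow]; exact hn)
      replace hk : Groth.Limits.stalkTrans D c φ s (b ^ n) = 0 := hk
      have := h k
      have hb : Groth.Limits.stalkTrans D c φ s b = 0 :=
        IsNilpotent.eq_zero ⟨n, by rw [← map_pow, hk]⟩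
      refine Eq.trans congr($(Groth.Limits.stalkTrans_π D c φ s) b).symm ?_
      exact (congrArg ((c.π.app k).stalkMap s) hb).trans (map_zero _)
    exact isReduced_of_isReduced_stalk _

end Groth.Agent.S4775
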