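import Groth.Statements.S4776
import Groth.Agent.Limits.Components
import Groth.Agent.S4763
import Groth.Agent.S4771
import Groth.Agent.S4775

set_option autoImplicit false
universe u
open CategoryTheory AlgebraicGeometry
open Lim8

namespace Groth.Agent.S4776

/-- Let S = lim S_i be a cofiltered limit of schemes whose transition maps are affine, flat and
surjective, some stage S_{i₀} being quasi-compact, and assume that the underlying topological space
of S is Noetherian. Then S is integral if and only if there is an index i over i₀ such that S_j is
integral for every j over i. (The published statement carries neither the quasi-compactness nor the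
Noetherian hypothesis; its proof combines the reducedness criterion with the irreducibility
criterion for limits, and the latter is proved only under these two hypotheses, so they are assumed
here.) -/
theorem result {I : Type u} [SmallCategory I] [IsCofiltered I]
    (D : I ⥤ Scheme.{u}) (c : Limits.Cone D) (hc : Limits.IsLimit c)
    [∀ (i j : I) (f : i ⟶ j), IsAffineHom (D.map f)] (i₀ : I)
    [CompactSpace (D.obj i₀)] [TopologicalSpace.NoetherianSpace c.pt]
    (hf : ∀ (i j : I) (φ : i ⟶ j), Flat (D.map φ) ∧ Surjective (D.map φ)) :
    IsIntegral c.pt ↔ ∃ (i : I) (_ : i ⟶ i₀), ∀ (j : I) (_ : j ⟶ i), IsIntegral (D.obj j) := by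
  have hd : ∀ (i j : I) (φ : i ⟶ j), IsDominant (D.map φ) := fun i j φ ↦ by
    have := (hf i j φ).2
    exact ⟨(D.map φ).surjective.denseRange⟩
  have hirr := Groth.Agent.S4771.result D c hc i₀ hd
  have hred := Groth.Agent.S4775.result D c hc hf
  simp only [isIntegral_iff_irreducibleSpace_and_isReduced]
  constructor
  · rintro ⟨h1, h2⟩
    obtain ⟨i, a, hi⟩ := hirr.mp h1
    exact ⟨i, a, fun j b ↦ ⟨hi j b, hred.mp h2 j⟩⟩
  · rintro ⟨i, a, hi⟩
    refine ⟨hirr.mpr ⟨i, a, fun j b ↦ (hi j b).1⟩, hred.mpr fun k ↦ ?_⟩
    obtain ⟨l, p, q, -⟩ := IsCofilteredOrEmpty.cone_objs i k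
    have := (hi l p).2
    have := (hf l k q).1
    have := (hf l k q).2
    exact Groth.Limits.isReduced_of_flat_surjective (D.map q)

end Groth.Agent.S4776
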