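import Groth.Statements.S4778
import Groth.Agent.Limits.LfpCriterion

set_option autoImplicit false
universe u
open CategoryTheory AlgebraicGeometry
open Lim8

namespace Groth.Agent.S4778

/-- Let f : X ⟶ S be a morphism of schemes. Suppose that for every affine open U of S and every
projective system (Z_λ) of U-schemes indexed by a nonempty directed preordered set, with every Z_λ
an affine scheme, the functor Hom_S(-, X) takes the limit of the system to the colimit of the
Hom_S(Z_λ, X) (the canonical map from the colimit is bijective). Then f is locally of finite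
presentation. -/
theorem result {X S : Scheme.{u}} (f : X ⟶ S)
    (h : ∀ (U : S.Opens), IsAffineOpen U →
      ∀ (J : Type u) [Preorder J] [IsDirected J (· ≤ ·)] [Nonempty J] (Z : Jᵒᵖ ⥤ Over (U : Scheme.{u})),
      (∀ j, IsAffine (Z.obj j).left) →
      Limits.PreservesColimit (Z ⋙ Over.map U.ι).op (yoneda.obj (Over.mk f))) :
    LocallyOfFinitePresentation f := by
  refine Groth.Limits.locallyOfFinitePresentation_of_exists_factor f
    fun U hU J _ _ _ D t c hc hD j₀ g hg ↦ ?_
  let Z : Jᵒᵖ ⥤ Over (U : Scheme.{u}) :=
    { obj := fun j ↦ Over.mk (t.app j)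
      map := fun {i k} m ↦ Over.homMk (D.map m) ((t.naturality m).trans (Category.comp_id _)) }
  have := h U hU J Z (fun j ↦ hD j)
  have : IsConnected Jᵒᵖ := IsCofiltered.isConnected Jᵒᵖ
  have hw : ∀ j, c.π.app j ≫ t.app j ≫ U.ι = g ≫ f := fun j ↦ by
    rw [hg, ← Category.assoc, ← Category.assoc]
    congr 1
    refine constant_of_preserves_morphisms (fun j ↦ c.π.app j ≫ t.app j) (fun i k m ↦ ?_) j j₀
    change _ = c.π.app k ≫ t.app k
    rw [← c.w m, Category.assoc, t.naturality]
    rfl
  let cc : Limits.Cone (Z ⋙ Over.map U.ι) :=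
    { pt := Over.mk (g ≫ f)
      π :=
      { app := fun j ↦ Over.homMk (c.π.app j) (hw j)
        naturality := fun i k m ↦ by
          ext
          exact c.π.naturality m } }
  have hcc : Limits.IsLimit cc := Limits.isLimitOfReflects (Over.forget S)
    (hc : Limits.IsLimit ((Over.forget S).mapCone cc))
  obtain ⟨j, u, hu⟩ := Limits.Types.jointly_surjective_of_isColimit
    (Limits.isColimitOfPreserves (yoneda.obj (Over.mk f)) hcc.op)
    (Over.homMk g rfl : Over.mk (g ≫ f) ⟶ Over.mk f)
  exact ⟨j.unop, u.left, Over.w u, congrArg CommaMorphism.left hu⟩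

end Groth.Agent.S4778
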