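import Groth.Statements.S4779
import Groth.Agent.Limits.UnivOpen
import Groth.Agent.Limits.DescentStage
import Groth.Agent.Limits.TopLimit

set_option autoImplicit false
set_option backward.isDefEq.respectTransparency false
universe u
open CategoryTheory AlgebraicGeometry
open Lim8

namespace Groth.Agent.S4779

/-- Let S = lim S_i be a cofiltered limit of schemes with affine transition maps, let f₀ : X₀ ⟶ Y₀ be a
morphism of schemes over a stage S_{i₀}, and let f : X ⟶ Y be its base change along S ⟶ S_{i₀} (all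
base changes are expressed by pullback squares). If there is an index i over i₀ such that, for every
j over i, the base change f_j : X_j ⟶ Y_j of f₀ along S_j ⟶ S_{i₀} is an open map, then f is an open
map. (The corresponding statement for universally open morphisms follows from this one by base
change.) -/
theorem result {I : Type u} [SmallCategory I] [IsCofiltered I]
    (D : I ⥤ Scheme.{u}) (c : Limits.Cone D) (hc : Limits.IsLimit c)
    [∀ (i j : I) (f : i ⟶ j), IsAffineHom (D.map f)] (i₀ : I)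
    {X₀ Y₀ : Scheme.{u}} (f₀ : X₀ ⟶ Y₀) (g₀ : Y₀ ⟶ D.obj i₀)
    {X Y : Scheme.{u}} (f : X ⟶ Y) (g : Y ⟶ c.pt) (qY : Y ⟶ Y₀) (qX : X ⟶ X₀)
    (hY : IsPullback qY g g₀ (c.π.app i₀)) (hX : IsPullback qX f f₀ qY)
    (h : ∃ (i : I) (φ : i ⟶ i₀), ∀ (j : I) (ψ : j ⟶ i) (Xj Yj : Scheme.{u}) (fj : Xj ⟶ Yj)
      (gj : Yj ⟶ D.obj j) (pY : Yj ⟶ Y₀) (pX : Xj ⟶ X₀),
      IsPullback pY gj g₀ (D.map (ψ ≫ φ)) → IsPullback pX fj f₀ pY → IsOpenMap ⇑fj) :
    IsOpenMap ⇑f := by
  obtain ⟨i, φ, h⟩ := h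
  let t := Groth.Limits.pullbackTrans D g₀
  let c' := Groth.Limits.pullbackCone D i₀ g₀ c
  let τ : c'.pt ⟶ Y₀ := Limits.pullback.snd (c.π.app i₀) g₀
  have hτ : ∀ j, c'.π.app j ≫ t.app j = τ := fun j ↦ Limits.pullback.lift_snd _ _ _
  let cX := Groth.Limits.bcCone t f₀ c' τ hτ
  have hcX := Groth.Limits.isLimitBcCone t f₀ c' τ hτ (Groth.Limits.isLimitPullbackCone D i₀ g₀ hc)
  have key : IsOpenMap ⇑(Limits.pullback.snd f₀ τ) := by
    intro U hU
    refine isOpen_iff_forall_mem_open.mpr ?_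
    rintro _ ⟨x, hx, rfl⟩
    obtain ⟨j, V, hxV, hVU⟩ := Groth.Limits.exists_preimage_π_subset_of_isOpen _ cX hcX hU hx
    obtain ⟨k, p, q, -⟩ := IsCofiltered.cospan j.hom φ
    obtain ⟨l, e, hl⟩ := IsCofilteredOrEmpty.cone_maps (p ≫ j.hom) (q ≫ φ)
    let m : Over i₀ := Over.mk ((e ≫ q) ≫ φ)
    let μ : m ⟶ j := Over.homMk (e ≫ p) (by simpa [m] using hl)
    have hopen : IsOpenMap ⇑(Limits.pullback.snd f₀ (t.app m)) :=
      h l (e ≫ q) _ _ _ _ _ _ (IsPullback.of_hasPullback (D.map ((e ≫ q) ≫ φ)) g₀).flip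
        (IsPullback.of_hasPullback f₀ (t.app m))
    let E := (⇑((Groth.Limits.bcDiagram t f₀).map μ) ⁻¹' (V : Set _))
    have hE : IsOpen E := V.isOpen.preimage ((Groth.Limits.bcDiagram t f₀).map μ).continuous
    have hsq : IsPullback (cX.π.app m) (Limits.pullback.snd f₀ τ) (Limits.pullback.snd f₀ (t.app m))
        (c'.π.app m) := by
      refine IsPullback.of_right ?_ (Groth.Limits.bcCone_w t f₀ c' τ hτ m).symm
        (IsPullback.of_hasPullback f₀ (t.app m))
      have h0 := IsPullback.of_hasPullback f₀ τ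
      convert h0 using 1
      all_goals first | rfl | exact hτ m | exact Limits.pullback.lift_fst _ _ _
    have hpre : ∀ y, cX.π.app m y ∈ E ↔ cX.π.app j y ∈ V := fun y ↦ by
      rw [← cX.w μ, Scheme.Hom.comp_apply]
      rfl
    refine ⟨⇑(Limits.pullback.snd f₀ τ) '' (⇑(cX.π.app m) ⁻¹' E), ?_, ?_,
      ⟨x, (hpre x).mpr hxV, rfl⟩⟩
    · exact Set.image_mono fun y hy ↦ hVU y ((hpre y).mp hy)
    · exact (Groth.Limits.image_preimage_of_isPullback hsq E).symm ▸
        (hopen E hE).preimage (c'.π.app m).continuous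
  let e := hY.flip.isoPullback
  have he : e.inv ≫ qY = τ := hY.flip.isoPullback_inv_snd
  have h' : IsPullback qX (f ≫ e.hom) f₀ τ :=
    hX.of_iso (Iso.refl _) (Iso.refl _) e (Iso.refl _) (by simp) (by simp) (by simp) (by simp [← he])
  have hf : f = h'.isoPullback.hom ≫ Limits.pullback.snd f₀ τ ≫ e.inv := by
    rw [← Category.assoc, h'.isoPullback_hom_snd, Category.assoc, e.hom_inv_id, Category.comp_id]
  rw [hf, Scheme.Hom.comp_base, Scheme.Hom.comp_base, TopCat.coe_comp, TopCat.coe_comp]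
  exact (e.inv.isOpenEmbedding.isOpenMap.comp key).comp h'.isoPullback.hom.isOpenEmbedding.isOpenMap

end Groth.Agent.S4779
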