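import Groth.Statements.S4781
import Groth.Agent.FibreDim.GenericFibre
import Groth.Agent.FibreDim.OpenFibreConst

set_option autoImplicit false
universe u
open CategoryTheory AlgebraicGeometry
open Cons9

namespace Groth.Agent.S4781

/-- Let S be a Noetherian irreducible scheme with generic point η, let X be an irreducible scheme and f
: X ⟶ S a dominant morphism of finite type. Then there is an open neighbourhood U of η in S such
that, for every s ∈ U, all irreducible components of the fibre f⁻¹(s) have dimension equal to dim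
f⁻¹(η). Fibres are taken as subspaces of X and dimensions are topological Krull dimensions. -/
theorem result {X S : Scheme.{u}} (f : X ⟶ S)
    [IsNoetherian S] [IrreducibleSpace S] [IrreducibleSpace X] [IsDominant f]
    [LocallyOfFiniteType f] [QuasiCompact f] :
    ∃ U : S.Opens, genericPoint S ∈ U ∧ ∀ s ∈ U, ∀ T ∈ irreducibleComponents ↥(⇑f ⁻¹' {s}),
      topologicalKrullDim ↥T = topologicalKrullDim ↥(⇑f ⁻¹' {genericPoint S}) := by
  have hξ : f.base (genericPoint X) = genericPoint S := by
    have h1 : IsGenericPoint (f.base (genericPoint X)) (closure (f.base '' Set.univ)) :=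
      (genericPoint_spec X).image f.continuous
    rw [Set.image_univ, f.denseRange.closure_range] at h1
    exact h1.eq (genericPoint_spec S)
  have hfib : ∀ s, topologicalKrullDim ↥(⇑f ⁻¹' {s}) = topologicalKrullDim ↥(f.fiber s) := fun s =>
    ((((f.fiberι s).isEmbedding.toHomeomorph.trans
      (Homeomorph.setCongr (f.range_fiberι s))).isHomeomorph.topologicalKrullDim_eq)).symm
  obtain ⟨n, hn⟩ : ∃ n : ℕ, topologicalKrullDim ↥(f.fiber (genericPoint S)) = n := by
    rcases hd : topologicalKrullDim ↥(f.fiber (genericPoint S)) with _ | d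
    · exact absurd ((Groth.FibreDim.isEmpty_fiber_iff f _).1 (le_of_eq hd)) (not_not.2 ⟨_, hξ⟩)
    rcases d with _ | d
    · exact absurd hd (Groth.FibreDim.dim_fiber_ne_top f _)
    · exact ⟨d, rfl⟩
  obtain ⟨V, hV, hVle⟩ := Groth.FibreDim.exists_open_dim_fiber_le f n hn.le
  refine ⟨V, (genericPoint_spec S).mem_open_set_iff V.isOpen |>.2 (by simpa using hV), fun s hs T hT => ?_⟩
  let e := (f.fiberι s).isEmbedding.toHomeomorph.trans (Homeomorph.setCongr (f.range_fiberι s))
  have hd : topologicalKrullDim ↥(e ⁻¹' T) ∈ (fun Z : Set ↥(f.fiber s) => topologicalKrullDim ↥Z) ''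
      irreducibleComponents ↥(f.fiber s) :=
    ⟨_, preimage_mem_irreducibleComponents_of_isPreirreducible_fiber hT e.continuous e.isOpenMap
      (fun t => (Set.subsingleton_singleton.preimage e.injective).isPreirreducible) (by
        obtain ⟨t, ht⟩ := hT.1.nonempty
        exact ⟨t, ht, e.surjective t⟩), rfl⟩
  have he : topologicalKrullDim ↥(e ⁻¹' T) = topologicalKrullDim ↥T :=
    (e.sets (s := e ⁻¹' T) (t := T) rfl).isHomeomorph.topologicalKrullDim_eq
  rw [Groth.FibreDim.component_dims_eq, he] at hd
  obtain ⟨z, ⟨hz, -⟩, hzd⟩ := hd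
  rw [← hzd, hfib, hn]
  refine le_antisymm ?_ (hn ▸ Groth.FibreDim.dim_generic_fiber_le f z)
  refine le_trans ?_ (hVle s hs)
  subst hz
  exact Groth.SpectralTopology.localDim_le_dim _

end Groth.Agent.S4781
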