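import Groth.Statements.S4783
import Groth.Agent.Limits.OpenImmersionSystem
import Groth.Agent.S4785
import Groth.Agent.S4841
import Mathlib.AlgebraicGeometry.Noetherian

set_option autoImplicit false
universe u
open CategoryTheory AlgebraicGeometry
open Lim8

namespace Groth.Agent.S4783

/-- Let S = lim S_i be a cofiltered limit of schemes whose transition maps are open immersions (in
particular affine), and let S_{i₀} be a Noetherian stage. Then S is integral if and only if there is
an index i over i₀ such that S_j is integral for every j over i. -/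
theorem result {I : Type u} [SmallCategory I] [IsCofiltered I]
    (D : I ⥤ Scheme.{u}) (c : Limits.Cone D) (hc : Limits.IsLimit c)
    [∀ (i j : I) (f : i ⟶ j), IsAffineHom (D.map f)] (i₀ : I)
    [IsNoetherian (D.obj i₀)] (hoi : ∀ (i j : I) (φ : i ⟶ j), IsOpenImmersion (D.map φ)) :
    IsIntegral c.pt ↔ ∃ (i : I) (_ : i ⟶ i₀), ∀ (j : I) (_ : j ⟶ i), IsIntegral (D.obj j) := by
  have hemb := (Groth.Agent.S4785.result D c hc hoi i₀).1
  have : TopologicalSpace.NoetherianSpace c.pt := hemb.toIsInducing.noetherianSpace
  have he : ∀ (i j : I) (φ : i ⟶ j), Topology.IsEmbedding ⇑(D.map φ) := fun i j φ ↦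
    have := hoi i j φ
    (D.map φ).isOpenEmbedding.isEmbedding
  simp only [isIntegral_iff_irreducibleSpace_and_isReduced]
  constructor
  · rintro ⟨h1, h2⟩
    obtain ⟨i, a, hi⟩ := Groth.Limits.exists_denseRange_π_of_isEmbedding D c hc i₀ he
    obtain ⟨k, b, hk⟩ := Groth.Limits.exists_forall_isReduced_of_isOpenImmersion D c hc i₀ hoi
      (fun U ↦ (IsLocallyNoetherian.component_noetherian U).noetherian _)
    obtain ⟨l, p, q, -⟩ := IsCofilteredOrEmpty.cone_objs i k
    refine ⟨l, p ≫ a, fun j r ↦ ⟨?_, hk j (r ≫ q)⟩⟩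
    have h3 := (IrreducibleSpace.isIrreducible_univ c.pt).image (c.π.app j)
      (c.π.app j).continuous.continuousOn
    rw [Set.image_univ] at h3
    have h4 := h3.closure
    rw [(hi j (r ≫ p)).closure_range] at h4
    exact (irreducibleSpace_def _).mpr h4
  · rintro ⟨i, a, h⟩
    have := (h i (𝟙 i)).2
    have := (h i (𝟙 i)).1
    refine ⟨?_, Groth.Limits.isReduced_of_isOpenImmersion D c hc hoi i⟩
    obtain ⟨η, hη⟩ : ∃ η, IsGenericPoint η (Set.univ : Set (D.obj i)) := ⟨_, genericPoint_spec _⟩
    have hmem : η ∈ Set.range (c.π.app i) := by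
      rw [Groth.Limits.range_π D c hc i]
      refine Set.mem_iInter₂.mpr fun j φ ↦ ?_
      have := hoi j i φ
      have := (h j φ).1
      exact hη.mem_open_set_iff (D.map φ).isOpenEmbedding.isOpen_range |>.mpr
        (by rw [Set.univ_inter]; exact Set.range_nonempty _)
    obtain ⟨s, rfl⟩ := hmem
    have hs : closure ({s} : Set c.pt) = Set.univ := by
      rw [(Groth.Agent.S4785.result D c hc hoi i).1.toIsInducing.closure_eq_preimage_closure_image,
        Set.image_singleton, hη.def, Set.preimage_univ]
    exact (irreducibleSpace_def _).mpr (show IsIrreducible (Set.univ : Set c.pt) from hs ▸ isIrreducible_singleton.closure)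

end Groth.Agent.S4783
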