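import Groth.Statements.S4786
import Groth.Agent.Limits.FlatClosure

set_option autoImplicit false
universe u
open CategoryTheory AlgebraicGeometry
open Lim8

namespace Groth.Agent.S4786

/-- Let S = lim S_i be a cofiltered limit of schemes whose transition maps are affine and flat, let
S_{i₁} be a quasi-compact stage, and let Z' and Z'' be pro-constructible subsets of S_{i₁} such that
the closure of Z' is constructible. Then the preimage of Z'' in S is contained in the closure of the
preimage of Z' in S if and only if there is an index j over i₁ such that the preimage of Z'' in S_j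
is contained in the closure of the preimage of Z' in S_j. -/
theorem result {I : Type u} [SmallCategory I] [IsCofiltered I]
    (D : I ⥤ Scheme.{u}) (c : Limits.Cone D) (hc : Limits.IsLimit c)
    [∀ (i j : I) (f : i ⟶ j), IsAffineHom (D.map f)] (i₁ : I) [CompactSpace (D.obj i₁)]
    (hfl : ∀ (i j : I) (φ : i ⟶ j), Flat (D.map φ))
    (Z' Z'' : Set (D.obj i₁)) (hZ' : ProCons.IsProConstructible Z') (hZ'' : ProCons.IsProConstructible Z'')
    (hcl : Topology.IsConstructible (closure Z')) :
    (⇑(c.π.app i₁) ⁻¹' Z'' : Set c.pt) ⊆ closure (⇑(c.π.app i₁) ⁻¹' Z' : Set c.pt) ↔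
      ∃ (j : I) (φ : j ⟶ i₁), ⇑(D.map φ) ⁻¹' Z'' ⊆ closure (⇑(D.map φ) ⁻¹' Z') := by
  exact Groth.Limits.preimage_subset_closure_iff D c hc i₁ hfl
    (Groth.Limits.pc_of_isProConstructible hZ') (Groth.Limits.pc_of_isProConstructible hZ'') hcl

end Groth.Agent.S4786
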