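import Groth.Statements.S4787
import Groth.Agent.Limits.Topology

set_option autoImplicit false
universe u
open CategoryTheory AlgebraicGeometry
open Lim8

namespace Groth.Agent.S4787

/-- Let S = lim S_i be a cofiltered limit of schemes with affine transition maps, some stage S_{i₀}
being quasi-compact. For every index let E_i be a pro-constructible and F_i an ind-constructible
subset of S_i such that, for every transition map S_i ⟶ S_j, E_i lies in the preimage of E_j and F_i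
contains the preimage of F_j. Put E = ⋂ (preimage of E_i in S) and F = ⋃ (preimage of F_i in S).
Then E ⊆ F if and only if there is an index i over i₀ such that E_j ⊆ F_j for every j over i. -/
theorem result {I : Type u} [SmallCategory I] [IsCofiltered I]
    (D : I ⥤ Scheme.{u}) (c : Limits.Cone D) (hc : Limits.IsLimit c)
    [∀ (i j : I) (f : i ⟶ j), IsAffineHom (D.map f)] (i₀ : I)
    [CompactSpace (D.obj i₀)] (E F : ∀ i : I, Set (D.obj i))
    (hE : ∀ i, ProCons.IsProConstructible (E i)) (hF : ∀ i, ProCons.IsIndConstructible (F i))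
    (hEm : ∀ (i j : I) (φ : i ⟶ j), E i ⊆ ⇑(D.map φ) ⁻¹' E j)
    (hFm : ∀ (i j : I) (φ : i ⟶ j), ⇑(D.map φ) ⁻¹' F j ⊆ F i) :
    (⋂ i, ⇑(c.π.app i) ⁻¹' E i : Set c.pt) ⊆ (⋃ i, ⇑(c.π.app i) ⁻¹' F i : Set c.pt) ↔
      ∃ (i : I) (_ : i ⟶ i₀), ∀ (j : I) (_ : j ⟶ i), E j ⊆ F j := by
  constructor
  · intro h
    by_contra! H
    let G (j : I) (_ : j ⟶ i₀) : Set (D.obj j) := E j ∩ (F j)ᶜ
    have hmap {j k : I} (ψ : k ⟶ j) (φ : j ⟶ i₀) : G k (ψ ≫ φ) ⊆ ⇑(D.map ψ) ⁻¹' G j φ :=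
      fun x hx ↦ ⟨hEm k j ψ hx.1, fun hF' ↦ hx.2 (hFm k j ψ hF')⟩
    obtain ⟨s, hs⟩ := Groth.Limits.exists_mem_of_pc D c hc (i := i₀) G
      (fun j φ ↦ (Groth.Limits.pc_of_isProConstructible (hE j)).inter
        (Groth.Limits.pc_compl_of_isIndConstructible (hF j)))
      (fun j k ψ φ ↦ hmap ψ φ) (fun j φ ↦ by
        obtain ⟨k, ψ, hk⟩ := H j φ
        obtain ⟨x, hxE, hxF⟩ := Set.not_subset.mp hk
        exact ⟨D.map ψ x, hmap ψ φ ⟨hxE, hxF⟩⟩)
    have hE' : s ∈ ⋂ j, ⇑(c.π.app j) ⁻¹' E j := by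
      refine Set.mem_iInter.mpr fun j ↦ ?_
      let k := IsCofiltered.min j i₀
      have := (hs k (IsCofiltered.minToRight j i₀)).1
      show c.π.app j s ∈ E j
      rw [← Groth.Limits.π_map_apply D c (IsCofiltered.minToLeft j i₀) s]
      exact hEm _ _ _ this
    obtain ⟨j, hj⟩ := Set.mem_iUnion.mp (h hE')
    let k := IsCofiltered.min j i₀
    refine (hs k (IsCofiltered.minToRight j i₀)).2 (hFm k j (IsCofiltered.minToLeft j i₀) ?_)
    show D.map (IsCofiltered.minToLeft j i₀) (c.π.app k s) ∈ F j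
    rw [Groth.Limits.π_map_apply D c]
    exact hj
  · rintro ⟨i, φ, h⟩ s hs
    exact Set.mem_iUnion.mpr ⟨i, h i (𝟙 i) (Set.mem_iInter.mp hs i)⟩

end Groth.Agent.S4787
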