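import Groth.Statements.S4790
import Groth.Agent.LimitMod.Modules
-- import your own Groth.Agent.* helpers here

set_option autoImplicit false
universe u
open CategoryTheory AlgebraicGeometry
open Lim8

namespace Groth.Agent.S4790

/-- Let S = lim S_i be a cofiltered limit of schemes with affine transition maps and S_{i₀} a
quasi-compact quasi-separated stage; let F₀ and G₀ be quasi-coherent O-modules of finite
presentation on S_{i₀}. Then the pullbacks of F₀ and G₀ along S ⟶ S_{i₀} are isomorphic if and only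
if, for some index j over i₀, their pullbacks along S_j ⟶ S_{i₀} are isomorphic. -/
theorem result {I : Type u} [SmallCategory I] [IsCofiltered I]
    (D : I ⥤ Scheme.{u}) (c : Limits.Cone D) (hc : Limits.IsLimit c)
    [∀ (i j : I) (f : i ⟶ j), IsAffineHom (D.map f)] (i₀ : I) [CompactSpace (D.obj i₀)]
    [QuasiSeparatedSpace (D.obj i₀)] (F₀ G₀ : (D.obj i₀).Modules)
    [Coh.IsQCoh F₀] (hF₀fp : CohB1.IsFP F₀)
    [Coh.IsQCoh G₀] (hG₀fp : CohB1.IsFP G₀) :
    Nonempty ((Scheme.Modules.pullback (c.π.app i₀)).obj F₀ ≅ (Scheme.Modules.pullback (c.π.app i₀)).obj G₀) ↔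
      ∃ (j : I) (φ : j ⟶ i₀),
        Nonempty ((Scheme.Modules.pullback (D.map φ)).obj F₀ ≅ (Scheme.Modules.pullback (D.map φ)).obj G₀) := by
  have : F₀.IsQuasicoherent := ‹Coh.IsQCoh F₀›
  have : G₀.IsQuasicoherent := ‹Coh.IsQCoh G₀›
  refine ⟨fun ⟨e⟩ => Groth.LimitMod.exists_iso_stage hc hF₀fp hG₀fp e, ?_⟩
  rintro ⟨j, φ, ⟨e⟩⟩
  let k := Groth.LimitMod.cmpIso (D.map φ) (c.π.app i₀) (c.π.app j) (c.w φ)
  exact ⟨(k.app F₀).symm ≪≫ (Scheme.Modules.pullback (c.π.app j)).mapIso e ≪≫ k.app G₀⟩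

end Groth.Agent.S4790
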