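import Groth.Statements.S4796
import Groth.Agent.Ega43Geom.ExactLocus

set_option autoImplicit false
universe u
open TensorProduct
open Cons9

namespace Groth.Agent.S4796

/-- Let R be a commutative ring, B an R-algebra of finite presentation, F, G, H three B-modules of
finite presentation and u : F → G, v : G → H homomorphisms of B-modules. Then the set of prime
ideals p of R for which the sequence of fibres κ(p) ⊗_R F → κ(p) ⊗_R G → κ(p) ⊗_R H is exact is a
constructible subset of Spec R. Affine form: S = Spec R, X = Spec B with B a finitely presented
R-algebra, the modules finitely presented B-modules, and the fibre of a module M at a prime p taken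
as κ(p) ⊗_R M; the published statement, for a morphism of finite presentation and quasi-coherent
modules of finite presentation, is local on S and on X and reduces to this one. -/
theorem result {R B : Type u} [CommRing R] [CommRing B] [Algebra R B] [Algebra.FinitePresentation R B]
    {F G H : Type u} [AddCommGroup F] [Module B F] [Module R F] [IsScalarTower R B F] [Module.FinitePresentation B F]
    [AddCommGroup G] [Module B G] [Module R G] [IsScalarTower R B G] [Module.FinitePresentation B G]
    [AddCommGroup H] [Module B H] [Module R H] [IsScalarTower R B H] [Module.FinitePresentation B H]
    (u : F →ₗ[B] G) (v : G →ₗ[B] H) :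
    Topology.IsConstructible {p : PrimeSpectrum R |
      Function.Exact ((u.restrictScalars R).baseChange p.asIdeal.ResidueField) ((v.restrictScalars R).baseChange p.asIdeal.ResidueField)} := by
  obtain ⟨n, φ, hφ, hker⟩ := Algebra.FinitePresentation.out (R := R) (A := B)
  let P := MvPolynomial (Fin n) R
  let : Algebra P B := φ.toRingHom.toAlgebra
  haveI : IsScalarTower R P B := IsScalarTower.of_algebraMap_eq fun r => (φ.commutes r).symm
  haveI : Module.FinitePresentation P B :=
    Module.finitePresentation_of_surjective (Algebra.linearMap P B) hφ hker
  let : Module P F := Module.compHom F φ.toRingHom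
  haveI : IsScalarTower P B F := IsScalarTower.of_algebraMap_smul fun _ _ => rfl
  haveI : IsScalarTower R P F := IsScalarTower.of_algebraMap_smul fun r x =>
    show φ (algebraMap R P r) • x = r • x by rw [AlgHom.commutes, algebraMap_smul]
  haveI : Module.FinitePresentation P F := Module.FinitePresentation.trans P F B
  let : Module P G := Module.compHom G φ.toRingHom
  haveI : IsScalarTower P B G := IsScalarTower.of_algebraMap_smul fun _ _ => rfl
  haveI : IsScalarTower R P G := IsScalarTower.of_algebraMap_smul fun r x =>
    show φ (algebraMap R P r) • x = r • x by rw [AlgHom.commutes, algebraMap_smul]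
  haveI : Module.FinitePresentation P G := Module.FinitePresentation.trans P G B
  let : Module P H := Module.compHom H φ.toRingHom
  haveI : IsScalarTower P B H := IsScalarTower.of_algebraMap_smul fun _ _ => rfl
  haveI : IsScalarTower R P H := IsScalarTower.of_algebraMap_smul fun r x =>
    show φ (algebraMap R P r) • x = r • x by rw [AlgHom.commutes, algebraMap_smul]
  haveI : Module.FinitePresentation P H := Module.FinitePresentation.trans P H B
  exact Groth.Ega43Geom.ExactLocus.isConstructible_exact (u.restrictScalars P) (v.restrictScalars P)

end Groth.Agent.S4796
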