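import Groth.Statements.S4806
import Groth.Agent.FlatmorThree.FibreClosedImmersion

set_option autoImplicit false
universe u
open CategoryTheory AlgebraicGeometry
open Lim8

namespace Groth.Agent.S4806

/-- Let f : X ⟶ Y be a proper morphism of finite presentation. Then f is a closed immersion if and only
if, for every point y of Y, the scheme-theoretic fibre of f at y is empty or its structure morphism
to Spec κ(y) is an isomorphism. -/
theorem result {X Y : Scheme.{u}} (f : X ⟶ Y) [IsProper f]
    [LocallyOfFinitePresentation f] :
    IsClosedImmersion f ↔ ∀ y : Y, IsEmpty (f.fiber y) ∨ IsIso (f.fiberToSpecResidueField y) := by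
  constructor
  · intro _ y
    have : IsClosedImmersion (f.fiberToSpecResidueField y) :=
      MorphismProperty.pullback_snd _ _ inferInstance
    by_cases h : IsEmpty (f.fiber y)
    · exact .inl h
    · right
      rw [not_isEmpty_iff] at h
      have : Surjective (f.fiberToSpecResidueField y) :=
        ⟨fun p ↦ ⟨h.some, Subsingleton.elim _ _⟩⟩
      exact isIso_of_isClosedImmersion_of_surjective _
  · intro H
    have hloc : ∀ y : Y, ∃ U : Y.Opens, y ∈ U ∧ IsClosedImmersion (f ∣_ U) := fun y ↦
      Groth.FlatmorThree.FibreCI.exists_of_universallyClosed f y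
        (by
          rcases H y with h | h
          · infer_instance
          · infer_instance) ⊤ trivial (IsZariskiLocalAtTarget.restrict (inferInstance : UniversallyClosed f) ⊤)
    choose U hyU hU using hloc
    exact IsZariskiLocalAtTarget.of_iSup_eq_top U
      (top_le_iff.1 fun y _ ↦ TopologicalSpace.Opens.mem_iSup.2 ⟨y, hyU y⟩) hU

end Groth.Agent.S4806
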