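import Groth.Statements.S4807
import Groth.Agent.LocImm.FiniteFactor
import Groth.Agent.Ega2Proj.QAffFactor
import Groth.Agent.Limits.ImmersionDescent
import Groth.Agent.Chow.AffineImm
-- import your own Groth.Agent.* helpers here

set_option autoImplicit false
universe u
open CategoryTheory AlgebraicGeometry
open Lim8

namespace Groth.Agent.S4807


open CategoryTheory CategoryTheory.Limits AlgebraicGeometry Opposite TopologicalSpace

theorem surjective_app_of_closedImmersion_restrict {X N : Scheme.{u}} (i : X ⟶ N) {U₀ : N.Opens}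
    [IsClosedImmersion (i ∣_ U₀)] {D : N.Opens} (hD : IsAffineOpen D) (hle : D ≤ U₀) :
    IsAffineOpen (i ⁻¹ᵁ D) ∧ Function.Surjective (i.app D) := by
  haveI hc : IsClosedImmersion (i ∣_ D) := by
    have h1 : IsClosedImmersion (i ∣_ U₀ ∣_ U₀.ι ⁻¹ᵁ D) := inferInstance
    rw [MorphismProperty.arrow_mk_iso_iff @IsClosedImmersion (morphismRestrictRestrict i U₀ (U₀.ι ⁻¹ᵁ D)),
      Scheme.Hom.image_preimage_eq_opensRange_inf, Scheme.Opens.opensRange_ι, inf_eq_right.mpr hle] at h1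
    exact h1
  haveI : IsAffine (D : Scheme.{u}) := hD
  haveI hA : IsAffine ((i ⁻¹ᵁ D : X.Opens) : Scheme.{u}) := isAffine_of_isAffineHom (i ∣_ D)
  refine ⟨hA, fun s => ?_⟩
  have hs : Function.Surjective (i ∣_ D).appTop :=
    (HasAffineProperty.iff_of_isAffine (P := @IsClosedImmersion) (f := i ∣_ D)).mp hc |>.2
  rw [← Scheme.Hom.resLE_eq_morphismRestrict] at hs
  obtain ⟨a, ha⟩ := hs ((i ⁻¹ᵁ D).topIso.inv s)
  refine ⟨D.topIso.hom a, (ConcreteCategory.bijective_of_isIso (i ⁻¹ᵁ D).topIso.inv).1 ?_⟩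
  rw [← ha, Scheme.Hom.appTop, Scheme.Hom.resLE_app_top, Scheme.Hom.app_eq_appLE]
  rfl

theorem exists_finite_factor {X Y : Scheme.{u}} (f : X ⟶ Y) [CompactSpace Y] [QuasiSeparatedSpace Y]
    [LocallyOfFiniteType f] [QuasiCompact f] [QuasiSeparated f] [IsImmersion f.toNormalization] :
    ∃ (Y' : Scheme.{u}) (f' : X ⟶ Y') (u : Y' ⟶ Y), IsImmersion f' ∧ IsFinite u ∧ f' ≫ u = f := by
  classical
  let N := f.normalization
  let π : N ⟶ Y := f.fromNormalization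
  let i : X ⟶ N := f.toNormalization
  have hiπ : i ≫ π = f := f.toNormalization_fromNormalization
  haveI : CompactSpace X := QuasiCompact.compactSpace_of_compactSpace f
  obtain ⟨U₀, -, hU₀, hc₀⟩ := Groth.Limits.exists_isCompact_isClosedImmersion_morphismRestrict i
  have hcharts : ∀ x : X, ∃ (U : Y.Opens) (hU : IsAffineOpen U) (b : Γ(N, π ⁻¹ᵁ U)),
      i x ∈ N.basicOpen b ∧ N.basicOpen b ≤ U₀ := by
    intro x
    obtain ⟨_, ⟨U, hU, rfl⟩, hxU, -⟩ :=
      Y.isBasis_affineOpens.exists_subset_of_mem_open (Set.mem_univ (π (i x))) isOpen_univ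
    have hx₀ : x ∈ i ⁻¹ᵁ U₀ := by rw [hU₀]; trivial
    obtain ⟨b, hb, hxb⟩ := (hU.preimage π).exists_basicOpen_le (V := U₀) ⟨i x, hx₀⟩
      (show i x ∈ π ⁻¹ᵁ U from hxU)
    exact ⟨U, hU, b, hxb, hb⟩
  choose U hU b hxb hbU using hcharts
  obtain ⟨s, hs⟩ := isCompact_univ.elim_finite_subcover
    (fun x : X => ((i ⁻¹ᵁ N.basicOpen (b x) : X.Opens) : Set X)) (fun x => (i ⁻¹ᵁ N.basicOpen (b x)).2)
    fun x _ => Set.mem_iUnion.2 ⟨x, hxb x⟩
  have hpiece : ∀ x, IsAffineOpen (i ⁻¹ᵁ N.basicOpen (b x)) ∧ Function.Surjective (i.app (N.basicOpen (b x))) :=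
    fun x => surjective_app_of_closedImmersion_restrict i (U₀ := U₀)
      (((hU x).preimage π).basicOpen (b x)) (hbU x)
  have hgen : ∀ x : X, ∃ T : Finset Γ(N, π ⁻¹ᵁ U x), b x ∈ T ∧
      ∀ c : Γ(X, i ⁻¹ᵁ N.basicOpen (b x)), c ∈ Subring.closure (Set.range
        ((π.appLE (U x) (N.basicOpen (b x)) (N.basicOpen_le (b x))) ≫ i.app (N.basicOpen (b x))).hom ∪
        {c | ∃ c' : Γ(N, N.basicOpen (b x)), i.app (N.basicOpen (b x)) c' = c ∧ ∃ m : ℕ, ∃ t ∈ T,
          c' * (N.presheaf.map (homOfLE (N.basicOpen_le (b x))).op (b x)) ^ m =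
            N.presheaf.map (homOfLE (N.basicOpen_le (b x))).op t}) := by
    intro x
    set D := N.basicOpen (b x)
    have e : i ⁻¹ᵁ D ≤ f ⁻¹ᵁ U x := by
      rw [← hiπ, Scheme.Hom.comp_preimage]; exact i.preimage_mono (N.basicOpen_le (b x))
    have hft : (f.appLE (U x) (i ⁻¹ᵁ D) e).hom.FiniteType :=
      HasRingHomProperty.appLE @LocallyOfFiniteType f inferInstance ⟨_, hU x⟩ ⟨_, (hpiece x).1⟩ e
    have hφ : f.appLE (U x) (i ⁻¹ᵁ D) e = π.appLE (U x) D (N.basicOpen_le (b x)) ≫ i.app D := by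
      rw [Scheme.Hom.app_eq_appLE i, Scheme.Hom.appLE_comp_appLE]
      exact Groth.Ega2Proj.QAff.appLE_congr_hom hiπ.symm _ _
    let φ := π.appLE (U x) D (N.basicOpen_le (b x)) ≫ i.app D
    rw [hφ] at hft
    letI := φ.hom.toAlgebra
    obtain ⟨G, hG⟩ := (hft : Algebra.FiniteType Γ(Y, U x) Γ(X, i ⁻¹ᵁ D)).out
    choose l hl using (hpiece x).2
    have := ((hU x).preimage π).isLocalization_basicOpen (b x)
    choose a ha using fun c : Γ(N, D) => IsLocalization.surj (Submonoid.powers (b x)) c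
    refine ⟨insert (b x) (G.image fun c => (a (l c)).1), Finset.mem_insert_self _ _, fun c => ?_⟩
    have hc : c ∈ Algebra.adjoin Γ(Y, U x) (G : Set Γ(X, i ⁻¹ᵁ D)) := hG ▸ Algebra.mem_top
    refine Algebra.adjoin_induction (fun g hg => Subring.subset_closure (Or.inr ⟨l g, hl g, ?_⟩))
      (fun r => Subring.subset_closure (Or.inl ⟨r, rfl⟩)) (fun _ _ _ _ => add_mem)
      (fun _ _ _ _ => mul_mem) hc
    obtain ⟨m, hm⟩ := (a (l g)).2.2
    refine ⟨m, (a (l g)).1, Finset.mem_insert_of_mem (Finset.mem_image_of_mem _ hg), ?_⟩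
    have := ha (l g)
    rw [← hm, map_pow] at this
    exact this
  choose T hbT hT using hgen
  obtain ⟨A, φ, -, hfin, hmem⟩ := Groth.LocImmersion.exists_finite_subalgebra π (fun x : s => U x.1) (fun x => hU x.1)
    (fun x => (T x.1 : Set Γ(N, π ⁻¹ᵁ U x.1))) fun x => (T x.1).finite_toSet
  obtain ⟨q, hq⟩ := Groth.Limits.RelSpecColimit.exists_isLift π φ
  have hqπ : q ≫ A.π = π := hq.comp_π
  haveI := Groth.LocImmersion.isFinite_spec A hfin
  refine ⟨A.spec, i ≫ q, A.π, ?_, inferInstance, by rw [Category.assoc, hqπ, hiπ]⟩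
  have hlift : ∀ x : s, ∀ t ∈ T x.1, ∃ β : Γ(A.spec, A.π ⁻¹ᵁ U x.1),
      q.appLE (A.π ⁻¹ᵁ U x.1) (π ⁻¹ᵁ U x.1) (by rw [← Scheme.Hom.comp_preimage, hqπ]) β = t := by
    intro x t ht
    obtain ⟨a, ha⟩ := hmem x ht
    have := Groth.Ega2P2.isIso_gammaAff A (U x.1) (hU x.1)
    obtain ⟨β, rfl⟩ := (ConcreteCategory.bijective_of_isIso (A.gammaAff (U x.1) (hU x.1))).2 a
    exact ⟨β, (Groth.Ega2Proj.QAff.lift_appLE hq (hU x.1) _ β).trans ha⟩
  choose β hβ using hlift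
  let R : s → A.spec.Opens := fun x => A.spec.basicOpen (β x _ (hbT x.1))
  have hqR : ∀ x : s, q ⁻¹ᵁ R x = N.basicOpen (b x.1) := fun x => by
    have hpre : q ⁻¹ᵁ (A.π ⁻¹ᵁ U x.1) = π ⁻¹ᵁ U x.1 := by rw [← Scheme.Hom.comp_preimage, hqπ]
    have e1 : N.basicOpen (b x.1) = N.basicOpen (q.appLE (A.π ⁻¹ᵁ U x.1) (π ⁻¹ᵁ U x.1)
        (by rw [← Scheme.Hom.comp_preimage, hqπ]) (β x _ (hbT x.1))) := by rw [hβ]
    rw [e1, Scheme.Hom.appLE, CommRingCat.comp_apply, Scheme.basicOpen_res, ← Scheme.preimage_basicOpen]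
    exact (inf_eq_right.2 ((q.preimage_mono (A.spec.basicOpen_le _)).trans hpre.le)).symm
  refine Groth.Chow.isImmersion_of_pieces (i ≫ q) R (fun x => ?_) fun x => ?_
  · obtain ⟨y, hy, hxy⟩ := Set.mem_iUnion₂.1 (hs (Set.mem_univ x))
    exact ⟨⟨y, hy⟩, (hqR ⟨y, hy⟩).ge hxy⟩
  have hVa : IsAffineOpen (A.π ⁻¹ᵁ U x.1) := (hU x.1).preimage A.π
  refine Groth.Ega2Proj.QEmb.isClosedImmersion_restrict (i ≫ q) (hVa.basicOpen _) (hpiece x.1).1
    (by rw [Scheme.Hom.comp_preimage, hqR]) ?_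
  set D := N.basicOpen (b x.1)
  let ρq := (q.appLE (R x) D (hqR x).ge).hom
  let ρ := ((i ≫ q).appLE (R x) (i ⁻¹ᵁ D) (by rw [Scheme.Hom.comp_preimage, hqR])).hom
  have hρ : ∀ z, ρ z = i.app D (ρq z) := fun z => by
    show ((i ≫ q).appLE (R x) (i ⁻¹ᵁ D) _).hom z = (q.appLE (R x) D (hqR x).ge ≫ i.app D).hom z
    rw [Scheme.Hom.app_eq_appLE i, Scheme.Hom.appLE_comp_appLE]
  let resR := (A.spec.presheaf.map (homOfLE (A.spec.basicOpen_le (β x _ (hbT x.1)))).op).hom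
  have hres : ∀ t (ht : t ∈ T x.1), ρq (resR (β x t ht)) = N.presheaf.map (homOfLE (N.basicOpen_le (b x.1))).op t := by
    intro t ht
    refine Eq.trans ?_ (congrArg (N.presheaf.map (homOfLE (N.basicOpen_le (b x.1))).op) (hβ x t ht))
    refine (congr(($(q.map_appLE (hqR x).ge (homOfLE (A.spec.basicOpen_le _)).op)).hom (β x t ht))).trans ?_
    exact (congr(($(q.appLE_map _ (homOfLE (N.basicOpen_le (b x.1))).op)).hom (β x t ht))).symm
  suffices h : ρ.range = ⊤ from RingHom.range_eq_top.1 h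
  refine top_le_iff.1 fun z _ => Subring.closure_le.2 ?_ (hT x.1 z)
  rintro z (⟨r, rfl⟩ | ⟨c', rfl, m, t, ht, e⟩)
  · refine ⟨A.π.appLE (U x.1) (R x) (A.spec.basicOpen_le _) r, ?_⟩
    rw [hρ]
    show i.app D ((A.π.appLE (U x.1) (R x) _ ≫ q.appLE (R x) D _).hom r) = _
    rw [Scheme.Hom.appLE_comp_appLE, Groth.Ega2Proj.QAff.appLE_congr_hom hqπ _ (N.basicOpen_le (b x.1))]
    rfl
  · obtain ⟨w, hw⟩ : IsUnit (resR (β x _ (hbT x.1))) := RingedSpace.isUnit_res_basicOpen _ _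
    refine ⟨resR (β x t ht) * (↑w⁻¹ : Γ(A.spec, R x)) ^ m, ?_⟩
    rw [hρ]
    refine congrArg _ ?_
    rw [map_mul, map_pow, hres, ← e, ← hres _ (hbT x.1), ← hw, mul_assoc, ← mul_pow, ← map_mul,
      Units.mul_inv, map_one, one_pow, mul_one]


/-- Let Y be a quasi-compact quasi-separated scheme and f : X ⟶ Y a separated morphism of finite type.
Let X' be the relative normalization of Y in X, the spectrum of the integral closure of O_Y in
f_*O_X, with its canonical morphism g : X ⟶ X'. Then f admits a factorization X ⟶ Y' ⟶ Y into an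
immersion followed by a finite morphism if and only if g is an immersion. -/
theorem result {X Y : Scheme.{u}} (f : X ⟶ Y)
    [CompactSpace Y] [QuasiSeparatedSpace Y] [IsSeparated f] [LocallyOfFiniteType f] [QuasiCompact f] :
    (∃ (Y' : Scheme.{u}) (f' : X ⟶ Y') (u : Y' ⟶ Y), IsImmersion f' ∧ IsFinite u ∧ f' ≫ u = f) ↔
      IsImmersion f.toNormalization := by
  constructor
  · rintro ⟨Y', f', u, hf', hu, rfl⟩
    have h := (f' ≫ u).toNormalization_normalizationDesc f' u rfl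
    haveI : IsImmersion ((f' ≫ u).toNormalization ≫ (f' ≫ u).normalizationDesc f' u rfl) := by rw [h]; exact hf'
    exact IsImmersion.of_comp _ ((f' ≫ u).normalizationDesc f' u rfl)
  · intro h
    exact exists_finite_factor f

end Groth.Agent.S4807
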