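import Groth.Statements.S4815
import Groth.Agent.Limits.ImmersionDescent
import Groth.Agent.SpectralTopology.DescendFP

set_option autoImplicit false
set_option backward.isDefEq.respectTransparency false
set_option backward.defeqAttrib.useBackward true
universe u
open CategoryTheory AlgebraicGeometry
open Lim8

namespace Groth.Agent.S4815

/-- Let S = lim S_i be a cofiltered limit of schemes with affine transition maps and S_{i₀} a
quasi-compact quasi-separated stage. Then every subscheme of finite presentation of S, that is every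
immersion ι : Z ⟶ S which is locally of finite presentation and quasi-compact, is the base change
along S ⟶ S_j of an immersion of finite presentation Z_j ⟶ S_j, for some index j over i₀ (the base
change is expressed by a pullback square). -/
theorem result {I : Type u} [SmallCategory I] [IsCofiltered I]
    (D : I ⥤ Scheme.{u}) (c : Limits.Cone D) (hc : Limits.IsLimit c)
    [∀ (i j : I) (f : i ⟶ j), IsAffineHom (D.map f)] (i₀ : I)
    [CompactSpace (D.obj i₀)] [QuasiSeparatedSpace (D.obj i₀)]
    {Z : Scheme.{u}} (ι : Z ⟶ c.pt) [IsImmersion ι] [LocallyOfFinitePresentation ι] [QuasiCompact ι] :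
    ∃ (j : I) (_ : j ⟶ i₀) (Zj : Scheme.{u}) (ιj : Zj ⟶ D.obj j) (q : Z ⟶ Zj),
      IsImmersion ιj ∧ LocallyOfFinitePresentation ιj ∧ QuasiCompact ιj ∧ IsPullback q ι ιj (c.π.app j) := by
  let D' := Over.forget i₀ ⋙ D
  let c' := c.whisker (Over.forget i₀)
  let hc' : Limits.IsLimit c' := (Functor.Initial.isLimitWhiskerEquiv (Over.forget i₀) c).symm hc
  have : ∀ a : Over i₀, CompactSpace (D'.obj a) := fun a ↦
    QuasiCompact.compactSpace_of_compactSpace (D.map a.hom)
  have : ∀ a : Over i₀, QuasiSeparatedSpace (D'.obj a) := fun a ↦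
    quasiSeparatedSpace_of_quasiSeparated (D.map a.hom)
  have : ∀ (a b : Over i₀) (m : a ⟶ b), IsAffineHom (D'.map m) :=
    fun a b m ↦ inferInstanceAs (IsAffineHom (D.map m.left))
  have : QuasiSeparated ι := inferInstance
  obtain ⟨i, ⟨M⟩⟩ := Groth.SpectralTopology.exists_stageModel hc' ι
  have hY : IsPullback (c'.π.app i) (𝟙 c'.pt) (𝟙 (D'.obj i)) (c'.π.app i) :=
    haveI : IsIso (𝟙 c'.pt) := IsIso.id _
    haveI : IsIso (𝟙 (D'.obj i)) := IsIso.id _
    IsPullback.of_vert_isIso ⟨(Category.comp_id _).trans (Category.id_comp _).symm⟩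
  have : CompactSpace M.obj := QuasiCompact.compactSpace_of_compactSpace M.hom
  have : LocallyOfFiniteType M.hom := inferInstance
  obtain ⟨j, hj⟩ := Groth.Limits.exists_isImmersion_stage hc' hY M.sq
  let N := M.pull j.hom
  have hN : IsImmersion N.hom := by
    let e := Limits.pullback.fst (D'.map j.hom) (𝟙 (D'.obj i))
    have : IsIso e := inferInstance
    have hcomp : inv e ≫ Limits.pullback.snd (D'.map j.hom) (𝟙 (D'.obj i)) = D'.map j.hom := by
      rw [IsIso.inv_comp_eq, Limits.pullback.condition, Category.comp_id]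
    have h1 := Groth.Limits.prop_snd_comp @IsImmersion M.hom (inv e) _ _ hcomp hj
    have : IsImmersion (Limits.pullback.fst (D'.map j.hom) M.hom) := by
      rw [← Limits.pullbackSymmetry_hom_comp_snd (D'.map j.hom) M.hom]
      infer_instance
    exact this
  exact ⟨j.left.left, j.left.hom, N.obj, N.hom, N.map, hN, N.lfp, N.qc, N.sq⟩

end Groth.Agent.S4815
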