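import Groth.Statements.S4818
import Groth.Agent.Limits.DescentStage

set_option autoImplicit false
universe u
open CategoryTheory AlgebraicGeometry
open Lim8

namespace Groth.Agent.S4818

open CategoryTheory.Limits in
/-- Let S = lim S_i be a cofiltered limit of schemes with affine transition maps and S_{i₀} a
quasi-compact stage; let ι₀ : Z₀ ⟶ S_{i₀} be a subscheme of finite presentation (an immersion which
is locally of finite presentation and quasi-compact). Then the base change Z₀ ×_{S_{i₀}} S ⟶ S of ι₀
is a closed immersion if and only if, for some index j over i₀, the base change Z₀ ×_{S_{i₀}} S_j ⟶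
S_j is a closed immersion. This is the case of closed subschemes. -/
theorem result {I : Type u} [SmallCategory I] [IsCofiltered I]
    (D : I ⥤ Scheme.{u}) (c : Limits.Cone D) (hc : Limits.IsLimit c)
    [∀ (i j : I) (f : i ⟶ j), IsAffineHom (D.map f)] (i₀ : I) [CompactSpace (D.obj i₀)]
    {Z₀ : Scheme.{u}} (ι₀ : Z₀ ⟶ D.obj i₀) [IsImmersion ι₀] [LocallyOfFinitePresentation ι₀] [QuasiCompact ι₀] :
    IsClosedImmersion (pullback.snd ι₀ (c.π.app i₀)) ↔
      ∃ (j : I) (φ : j ⟶ i₀), IsClosedImmersion (pullback.snd ι₀ (D.map φ)) := by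
  have hX := IsPullback.of_hasPullback ι₀ (c.π.app i₀)
  have hY : IsPullback (c.π.app i₀) (𝟙 c.pt) (𝟙 (D.obj i₀)) (c.π.app i₀) :=
    (IsPullback.id_horiz (c.π.app i₀)).flip
  constructor
  · intro _
    obtain ⟨j, hj⟩ := Groth.Limits.exists_isClosedImmersion_stage hc hY hX
    refine ⟨j.left, j.hom, ?_⟩
    exact Groth.Limits.prop_snd_comp @IsClosedImmersion ι₀
      (CategoryTheory.Limits.pullback.lift (𝟙 _) (D.map j.hom) (by simp)) _ _
      (CategoryTheory.Limits.pullback.lift_snd _ _ _) hj
  · rintro ⟨j, φ, h⟩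
    exact Groth.Limits.prop_of_stage @IsClosedImmersion hY hX φ
      ((IsPullback.id_horiz (D.map φ)).flip)
      (IsPullback.of_hasPullback ι₀ (D.map φ)) h

end Groth.Agent.S4818
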