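import Groth.Statements.S4821
import Mathlib

set_option autoImplicit false
universe u
open Cons9

namespace Groth.Agent.S4821

/-- Let A be an integral domain with fraction field K, and (P_i) a finite family of polynomials in
A[T_1, …, T_m], generating an ideal 𝔞; for a point s of Spec A write 𝔞_s for the ideal of κ(s)[T_1,
…, T_m] generated by the images of the P_i. If the zero locus of 𝔞_η in affine m-space over K = κ(η)
is empty, that is if 𝔞_η is the unit ideal, then there is an open neighbourhood D(f) (f ≠ 0) of the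
generic point such that 𝔞_s is the unit ideal (its zero locus is empty) for every s in D(f). -/
theorem result {A : Type u} [CommRing A] [IsDomain A] {m : ℕ}
    (P : Finset (MvPolynomial (Fin m) A))
    (hη : Ideal.span ((MvPolynomial.map (algebraMap A (FractionRing A))) '' (P : Set (MvPolynomial (Fin m) A))) = ⊤) :
    ∃ f : A, f ≠ 0 ∧ ∀ p : PrimeSpectrum A, f ∉ p.asIdeal →
      Ideal.span ((MvPolynomial.map (algebraMap A p.asIdeal.ResidueField)) '' (P : Set (MvPolynomial (Fin m) A))) = ⊤ := by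
  classical
  obtain ⟨c, hc⟩ := Submodule.mem_span_image_iff_exists_fun _ |>.1
    ((Ideal.eq_top_iff_one _).1 hη)
  obtain ⟨t, htP, c, hc⟩ : ∃ t : Finset (MvPolynomial (Fin m) A), t ⊆ P ∧
      ∃ c : MvPolynomial (Fin m) A → MvPolynomial (Fin m) (FractionRing A),
        ∑ x ∈ t, c x * MvPolynomial.map (algebraMap A (FractionRing A)) x = 1 := by
    obtain ⟨htP, d, hd⟩ := hc
    refine ⟨c, Finset.coe_subset.1 htP, fun x ↦ if h : x ∈ c then d ⟨x, h⟩ else 0, ?_⟩
    rw [← hd, ← Finset.sum_attach]
    exact Finset.sum_congr rfl fun x _ ↦ by simp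
  obtain ⟨⟨f, hf⟩, hint⟩ := IsLocalization.exist_integer_multiples_of_finset (nonZeroDivisors A)
    (t.biUnion fun x ↦ (c x).coeffs)
  have hc' (x) (hx : x ∈ t) : ∃ d, MvPolynomial.map (algebraMap A (FractionRing A)) d =
      MvPolynomial.C (algebraMap A (FractionRing A) f) * c x := by
    refine MvPolynomial.mem_range_map_iff_coeffs_subset.2 fun a ha ↦ ?_
    obtain ⟨n, hn, rfl⟩ := MvPolynomial.mem_coeffs_iff.1 ha
    rw [MvPolynomial.coeff_C_mul]
    by_cases h0 : (c x).coeff n = 0
    · exact ⟨0, by rw [h0, mul_zero, map_zero]⟩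
    · obtain ⟨d, hd⟩ := hint _ (Finset.mem_biUnion.2 ⟨x, hx, MvPolynomial.coeff_mem_coeffs n h0⟩)
      exact ⟨d, by rw [hd, Algebra.smul_def]⟩
  choose! d hd using hc'
  have key : ∑ x ∈ t, d x * x = MvPolynomial.C f := by
    refine MvPolynomial.map_injective _ (IsFractionRing.injective A (FractionRing A)) ?_
    rw [map_sum, MvPolynomial.map_C]
    rw [Finset.sum_congr rfl fun x hx ↦ by rw [map_mul, hd x hx, mul_assoc],
      ← Finset.mul_sum, hc, mul_one]
  refine ⟨f, nonZeroDivisors.ne_zero hf, fun p hp ↦ ?_⟩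
  refine Ideal.eq_top_of_isUnit_mem (x := MvPolynomial.C (algebraMap A p.asIdeal.ResidueField f)) _ ?_ ?_
  · rw [← MvPolynomial.map_C, ← key, map_sum]
    refine Ideal.sum_mem _ fun x hx ↦ ?_
    rw [map_mul]
    exact Ideal.mul_mem_left _ _ (Ideal.subset_span ⟨x, htP hx, rfl⟩)
  · refine (IsUnit.mk0 _ ?_).map MvPolynomial.C
    rwa [Ne, Ideal.algebraMap_residueField_eq_zero]

end Groth.Agent.S4821
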