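import Groth.Statements.S4826
import Groth.Agent.SpectralTopology.GeomUnibranchLocus

set_option autoImplicit false
open CategoryTheory AlgebraicGeometry
universe u
open Cons9
open scoped Set.Notation

namespace Groth.Agent.S4826

/-- Let X be a locally Noetherian scheme whose reduction has a normalization finite over X: for every
affine open U of X, the integral closure of Γ(U)_red in its total ring of fractions is a finite
module over Γ(U)_red. Then the set of points x of X at which X is geometrically unibranch (the local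
ring O_{X,x} is geometrically unibranch) is locally constructible in X. -/
theorem result (X : Scheme.{u}) [IsLocallyNoetherian X]
    (hfin : ∀ U : X.affineOpens, Module.Finite (CAlg2.red Γ(X, U.1)) (CAlg2.normRed Γ(X, U.1))) :
    Topology.IsLocallyConstructible {x : X | CAlg2.IsGeomUnibranch (X.presheaf.stalk x)} := by
  intro x
  obtain ⟨_, ⟨U, hU, rfl⟩, hxU, -⟩ :=
    X.isBasis_affineOpens.exists_subset_of_mem_open (Set.mem_univ x) isOpen_univ
  replace hU : IsAffineOpen U := hU
  refine ⟨U, U.2.mem_nhds hxU, U.2, ?_⟩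
  haveI : IsNoetherianRing Γ(X, U) := IsLocallyNoetherian.component_noetherian ⟨U, hU⟩
  have hR := Groth.GeomUnibranchLocus.isConstructible_ring Γ(X, U) (hfin ⟨U, hU⟩)
  let h : PrimeSpectrum Γ(X, U) ≃ₜ (U : Set X) :=
    (hU.fromSpec.isOpenEmbedding.isEmbedding.toHomeomorph).trans (Homeomorph.setCongr hU.range_fromSpec)
  have key : ∀ P : PrimeSpectrum Γ(X, U),
      CAlg2.IsGeomUnibranch (Localization.AtPrime P.asIdeal) ↔
        CAlg2.IsGeomUnibranch (X.presheaf.stalk (hU.fromSpec P)) := by
    intro P
    have hP : hU.fromSpec P ∈ U := (h P).2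
    let _ : Algebra Γ(X, U) (X.presheaf.stalk (hU.fromSpec P)) :=
      TopCat.Presheaf.algebra_section_stalk X.presheaf ⟨hU.fromSpec P, hP⟩
    haveI : IsLocalization.AtPrime (X.presheaf.stalk (hU.fromSpec P)) P.asIdeal :=
      hU.isLocalization_stalk' P hP
    exact ⟨Groth.PropsBasic.UnibranchPunctured.isGeomUnibranch_of_isLocalization Γ(X, U) P.asIdeal
        (Localization.AtPrime P.asIdeal) (X.presheaf.stalk (hU.fromSpec P)),
      Groth.PropsBasic.UnibranchPunctured.isGeomUnibranch_of_isLocalization Γ(X, U) P.asIdeal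
        (X.presheaf.stalk (hU.fromSpec P)) (Localization.AtPrime P.asIdeal)⟩
  have heq : ((U : Set X) ↓∩ {x : X | CAlg2.IsGeomUnibranch (X.presheaf.stalk x)}) =
      h.symm ⁻¹' {P | CAlg2.IsGeomUnibranch (Localization.AtPrime P.asIdeal)} := by
    ext y
    obtain ⟨P, rfl⟩ := h.surjective y
    rw [Set.mem_preimage, Set.mem_preimage, h.symm_apply_apply]
    exact (key P).symm
  rw [heq]
  exact hR.preimage_of_isOpenEmbedding h.symm.isOpenEmbedding

end Groth.Agent.S4826
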