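import Groth.Statements.S4827
import Groth.Agent.Ega43Geom.ConsBase

set_option autoImplicit false
open CategoryTheory AlgebraicGeometry
universe u
open Cons9

namespace Groth.Agent.S4827

/-- Let f : X ⟶ S be a morphism of finite presentation (locally of finite presentation, quasi-compact
and quasi-separated). Then the set of points s of S whose fibre X_s is geometrically normal over
κ(s), i.e. such that for every extension field K of κ(s) all local rings of X_s ⊗_{κ(s)} K are
integrally closed domains, is locally constructible in S. This is the case of geometric normality. -/
theorem result {X S : Scheme.{u}} (f : X ⟶ S)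
    [LocallyOfFinitePresentation f] [QuasiCompact f] [QuasiSeparated f] :
    Topology.IsLocallyConstructible {s : S |
      ∀ (K : Type u) [Field K] [Algebra (IsLocalRing.ResidueField (S.presheaf.stalk s)) K]
        (x' : ↥(FBase.bc (f.fiberToSpecResidueField s) K)),
        IsDomain ((FBase.bc (f.fiberToSpecResidueField s) K).presheaf.stalk x') ∧
          IsIntegrallyClosed ((FBase.bc (f.fiberToSpecResidueField s) K).presheaf.stalk x')} := by
  exact Groth.Ega43Geom.isLocallyConstructible_geomNormal_fibre f

end Groth.Agent.S4827
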