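import Groth.Statements.S7630
import Groth.Agent.VarietyBC.AmpleFieldDescent
import Groth.Agent.EtaleBase.FpqcDescent

set_option autoImplicit false
universe u
open CategoryTheory CategoryTheory.Limits AlgebraicGeometry
open Variety

namespace Groth.Agent.S7630

/-- Let X be a scheme over a field k and K an extension field of k. If X_K → Spec K is quasi-projective
(of finite type and admitting a relatively ample invertible module), then so is X → Spec k. -/
theorem result (k : Type u) [Field k] (X : Scheme.{u}) [X.Over (Spec (CommRingCat.of k))] (K : Type u) [Field K] [Algebra k K]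
    (h : RelProj.IsQuasiProjective (Curv2.bcSnd k X K)) : RelProj.IsQuasiProjective (X ↘ (Spec (CommRingCat.of k))) := by
  obtain ⟨hft, hqc, L', hL'⟩ := h
  let gK : Spec (CommRingCat.of K) ⟶ Spec (CommRingCat.of k) :=
    Spec.map (CommRingCat.ofHom (algebraMap k K))
  have hQ : (@Surjective ⊓ @Flat ⊓ @QuasiCompact : MorphismProperty Scheme.{u}) gK :=
    ⟨⟨inferInstance, Flat.SpecMap_iff.2 (RingHom.flat_algebraMap_iff.2 inferInstance)⟩, inferInstance⟩
  have h1 : LocallyOfFiniteType (X ↘ Spec (CommRingCat.of k)) :=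
    MorphismProperty.of_pullback_snd_of_descendsAlong (P := @LocallyOfFiniteType) hQ hft
  have h2 : QuasiCompact (X ↘ Spec (CommRingCat.of k)) :=
    MorphismProperty.of_pullback_snd_of_descendsAlong (P := @QuasiCompact)
      (Q := Groth.EtaleBase.Fpqc.{u}) hQ hqc
  haveI := hqc
  haveI : CompactSpace (Curv2.bc k X K) :=
    QuasiCompact.compactSpace_of_compactSpace (Curv2.bcSnd k X K)
  obtain ⟨L, hL⟩ := Groth.VarietyBC.AmpleFieldDescent.exists_isAmple k X K _
    (Groth.Ega2Proj.isAmple_of_isRelAmple hL' ⟨⊤, isAffineOpen_top _⟩ (𝟙 _) (fun _ _ => trivial))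
  haveI := h2
  refine ⟨h1, h2, L, Groth.Ega2Proj.isRelAmple_of_local _ fun x =>
    ⟨⊤, X, 𝟙 X, inferInstance, trivial, fun y _ => ⟨y, rfl⟩, ?_⟩⟩
  exact Groth.Ega2Proj.isAmple_of_iso ((Scheme.Modules.restrictFunctorId (X := X)).symm.app L) hL

end Groth.Agent.S7630
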