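import Groth.Statements.S4830
import Groth.Agent.S7630
import Groth.Agent.Chow.QuasiProjective
import Groth.Agent.S9705

set_option autoImplicit false
set_option linter.style.haveILetI false
open CategoryTheory AlgebraicGeometry
universe u
open Cons9

namespace Groth.Agent.S4830

open CategoryTheory.Limits in
/-- Let k be a field, X a scheme over k and K an extension field of k. If the base change X ⊗_k K admits
an immersion over K into a projective space P^n_K (X ⊗_k K is quasi-projective over K), then X
admits an immersion over k into some projective space P^n_k (X is quasi-projective over k). This is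
the quasi-projective case (projective spaces are Proj of polynomial rings base-changed to the base;
the base change X ⊗_k K is the chosen fibre product). -/
theorem result {k : Type u} [Field k] {X : Scheme.{u}}
    (p : X ⟶ Spec (CommRingCat.of k)) (K : Type u) [Field K] [Algebra k K]
    (h : ∃ (n : ℕ) (i : pullback p (Spec.map (CommRingCat.ofHom (algebraMap k K))) ⟶ CohB1.ProjSpaceOver n (Spec (CommRingCat.of K))),
      IsImmersion i ∧ i ≫ CohB1.ProjSpaceOver.toBase n (Spec (CommRingCat.of K)) = pullback.snd p (Spec.map (CommRingCat.ofHom (algebraMap k K)))) :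
    ∃ (n : ℕ) (i : X ⟶ CohB1.ProjSpaceOver n (Spec (CommRingCat.of k))),
      IsImmersion i ∧ i ≫ CohB1.ProjSpaceOver.toBase n (Spec (CommRingCat.of k)) = p := by
  obtain ⟨n, i, hi, hip⟩ := h
  letI : X.Over (Spec (CommRingCat.of k)) := ⟨p⟩
  haveI := Groth.Variety2.isProper_projSpaceOver_toBase n (Spec (CommRingCat.of K))
  haveI : IsLocallyNoetherian (CohB1.ProjSpaceOver n (Spec (CommRingCat.of K))) :=
    LocallyOfFiniteType.isLocallyNoetherian (CohB1.ProjSpaceOver.toBase n (Spec (CommRingCat.of K)))
  haveI : CompactSpace (CohB1.ProjSpaceOver n (Spec (CommRingCat.of K))) :=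
    QuasiCompact.compactSpace_of_compactSpace (CohB1.ProjSpaceOver.toBase n (Spec (CommRingCat.of K)))
  haveI : IsNoetherian (CohB1.ProjSpaceOver n (Spec (CommRingCat.of K))) := ⟨⟩
  haveI : IsImmersion i := hi
  haveI : CompactSpace (pullback p (Spec.map (CommRingCat.ofHom (algebraMap k K))) : Scheme.{u}) :=
    ⟨i.isEmbedding.isInducing.isCompact_iff.2
      (TopologicalSpace.NoetherianSpace.isCompact _)⟩
  have hqi : QuasiCompact i := quasiCompact_of_compactSpace _
  have hii : IsImmersion i := inferInstance
  have hq : RelProj.IsQuasiProjective p := Groth.Agent.S7630.result k X K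
    (Groth.Chow.isQuasiProjective_of_isHQuasiProjective ⟨n, i, hii, hqi, hip⟩)
  obtain ⟨h1, h2, L, hL⟩ := hq
  haveI := h2
  haveI : CompactSpace X := QuasiCompact.compactSpace_of_compactSpace p
  have hH : RelProj.IsHQuasiProjective p := Groth.Chow.isHQuasiProjective_of_isAmple p
    (Groth.Ega2Proj.isAmple_of_isRelAmple hL ⟨⊤, isAffineOpen_top _⟩ (𝟙 _) (fun _ _ => trivial))
  obtain ⟨m, j, hj, -, hjp⟩ := hH
  exact ⟨m, j, hj, hjp⟩

end Groth.Agent.S4830
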