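import Groth.Statements.S4837
import Groth.Agent.RelSpecH.Gamma
import Mathlib.AlgebraicGeometry.Morphisms.SchemeTheoreticallyDominant
-- import your own Groth.Agent.* helpers here

set_option autoImplicit false
open CategoryTheory AlgebraicGeometry
universe u
open Lim8

namespace Groth.Agent.S4837

/-- Let f : X ⟶ Y be a quasi-compact quasi-separated morphism, C a quasi-coherent O_Y-algebra with
relative spectrum Z = Spec(C) over Y, g : X ⟶ Z a Y-morphism which is an immersion, and φ : C ⟶
f_*O_X the homomorphism of O_Y-algebras corresponding to g (the canonical identification of C with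
the direct image of O_Z followed by the map induced by g). Then the scheme-theoretic image of g is
the whole of Z, i.e. the kernel ideal of g vanishes, if and only if φ is injective; and when this
holds g is an open immersion. -/
theorem result {X Y : Scheme.{u}} (f : X ⟶ Y)
    [QuasiCompact f] [QuasiSeparated f] (C : RelSpec.QCAlg Y) (g : X ⟶ C.spec) (w : g ≫ C.π = f)
    [IsImmersion g] (φ : C ⟶ RelSpec.QCAlg.directImage f)
    (hφ : C.gammaMap ≫ φ.hom = AffAlg.algHom C.π f g w) :
    (g.ker = ⊥ ↔ ∀ U : Y.Opens, Function.Injective (φ.hom.app (Opposite.op U)).hom) ∧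
      (g.ker = ⊥ → IsOpenImmersion g) := by
  subst w
  haveI : QuasiCompact g := QuasiCompact.of_comp g C.π
  haveI : IsIso C.gammaMap := Groth.RelSpecH.isIso_gammaMap C
  have key : ∀ U : Y.Opens, Function.Injective (φ.hom.app (Opposite.op U)).hom ↔
      Function.Injective (g.app (C.π ⁻¹ᵁ U)).hom := by
    intro U
    have h : C.gammaMap.app (Opposite.op U) ≫ φ.hom.app (Opposite.op U) =
        (AffAlg.algHom C.π (g ≫ C.π) g rfl).app (Opposite.op U) := CategoryTheory.NatTrans.congr_app hφ _
    have h2 : (AffAlg.algHom C.π (g ≫ C.π) g rfl).app (Opposite.op U) = g.app (C.π ⁻¹ᵁ U) := by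
      simp [AffAlg.algHom]
      rfl
    rw [h2] at h
    have hb : Function.Bijective (C.gammaMap.app (Opposite.op U)).hom :=
      CategoryTheory.ConcreteCategory.bijective_of_isIso (C.gammaMap.app (Opposite.op U))
    rw [← h]
    exact (Function.Injective.of_comp_iff' _ hb).symm
  refine ⟨⟨fun hk U => ?_, fun hinj => ?_⟩, fun hk => ?_⟩
  · haveI : IsSchemeTheoreticallyDominant g := ⟨hk⟩
    exact (key U).2 (g.app_injective _)
  · refine Scheme.IdealSheafData.ext_of_iSup_eq_top
      (fun U : Y.affineOpens => (⟨C.π ⁻¹ᵁ U.1, U.2.preimage C.π⟩ : C.spec.affineOpens)) ?_ fun U => ?_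
    · rw [← Scheme.Hom.preimage_iSup, AlgebraicGeometry.iSup_affineOpens_eq_top Y]
      rfl
    · rw [g.ker_apply, Scheme.IdealSheafData.ideal_bot, Pi.bot_apply]
      exact (RingHom.injective_iff_ker_eq_bot _).1 ((key U.1).1 (hinj U.1))
  · haveI : CategoryTheory.IsIso g.imageι := by
      simpa [Scheme.Hom.imageι, Scheme.Hom.image] using hk ▸ inferInstance
    rw [← g.toImage_imageι]
    infer_instance

end Groth.Agent.S4837

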