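import Groth.Statements.S4838
import Groth.Agent.GeomComp.PtIntegralConstructible

set_option autoImplicit false
open CategoryTheory AlgebraicGeometry
universe u
open Cons9

namespace Groth.Agent.S4838

/-- Let f : X ⟶ S be a morphism of finite presentation (locally of finite presentation, quasi-compact
and quasi-separated). Then the set of points s of S whose fibre X_s is geometrically pointwise
integral over κ(s), i.e. such that for every extension field K of κ(s) all local rings of X_s
⊗_{κ(s)} K are integral domains, is locally constructible in S. -/
theorem result {X S : Scheme.{u}} (f : X ⟶ S)
    [LocallyOfFinitePresentation f] [QuasiCompact f] [QuasiSeparated f] :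
    Topology.IsLocallyConstructible {s : S |
      ∀ x : ↥(f.fiber s), FBase.IsGeomPtIntegralAt (f.fiberToSpecResidueField s) x} := by
  exact Groth.GeomComp.PtIntegral.isLocallyConstructible_forall_isGeomPtIntegralAt f

end Groth.Agent.S4838
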