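import Groth.Statements.S4839
import Groth.Agent.SpectralTopology.AlgSystem
import Groth.Agent.SpectralTopology.AffineStageModel
import Mathlib
import Mathlib.AlgebraicGeometry.Morphisms.QuasiSeparated

set_option autoImplicit false
open CategoryTheory AlgebraicGeometry
universe u
open Cons9

namespace Groth.Agent.S4839
open Groth.SpectralTopology CategoryTheory.Limits

theorem isCofiltered_algSub (R A : CommRingCat.{u}) [Algebra R A] : IsCofiltered (AlgSub R A)ᵒᵖ :=
  isCofiltered_op_of_isFiltered _

open CategoryTheory.Limits in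
/-- Let k be a field and X, Y two schemes of finite type over k. If for some field extension K of k
there is a K-isomorphism X ⊗_k K ≅ Y ⊗_k K (X and Y are geometrically isomorphic), then there are a
finite extension k' of k and a k'-isomorphism X ⊗_k k' ≅ Y ⊗_k k'. This is the case of the property
of being an isomorphism (base changes are the chosen fibre products with Spec of the extension). -/
theorem result {k : Type u} [Field k] {X Y : Scheme.{u}}
    (p : X ⟶ Spec (CommRingCat.of k)) (q : Y ⟶ Spec (CommRingCat.of k))
    [LocallyOfFiniteType p] [QuasiCompact p] [LocallyOfFiniteType q] [QuasiCompact q]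
    (K : Type u) [Field K] [Algebra k K]
    (e : pullback p (Spec.map (CommRingCat.ofHom (algebraMap k K))) ≅ pullback q (Spec.map (CommRingCat.ofHom (algebraMap k K))))
    (he : e.hom ≫ pullback.snd q (Spec.map (CommRingCat.ofHom (algebraMap k K))) = pullback.snd p (Spec.map (CommRingCat.ofHom (algebraMap k K)))) :
    ∃ (k' : Type u) (_ : Field k') (_ : Algebra k k') (_ : Module.Finite k k')
      (e' : pullback p (Spec.map (CommRingCat.ofHom (algebraMap k k'))) ≅ pullback q (Spec.map (CommRingCat.ofHom (algebraMap k k')))),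
      e'.hom ≫ pullback.snd q (Spec.map (CommRingCat.ofHom (algebraMap k k'))) = pullback.snd p (Spec.map (CommRingCat.ofHom (algebraMap k k'))) := by
  let D := algSchemes (CommRingCat.of k) (CommRingCat.of K)
  let c := algCone (CommRingCat.of k) (CommRingCat.of K)
  let s₀ : (AlgSub (CommRingCat.of k) (CommRingCat.of K))ᵒᵖ := Opposite.op ⟨⊥, Subalgebra.fg_bot⟩
  let t₀ := algToBase (CommRingCat.of k) (CommRingCat.of K) s₀
  let aK := Spec.map (CommRingCat.ofHom (algebraMap k K))
  have ht : c.π.app s₀ ≫ t₀ = aK := algCone_π_toBase _ _ _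
  have : IsLocallyNoetherian X := LocallyOfFiniteType.isLocallyNoetherian p
  have : IsLocallyNoetherian Y := LocallyOfFiniteType.isLocallyNoetherian q
  have : QuasiSeparated p := quasiSeparated_of_quasiSeparatedSpace p
  have : QuasiSeparated q := quasiSeparated_of_quasiSeparatedSpace q
  have : LocallyOfFinitePresentation p :=
    LocallyOfFinitePresentation.iff_locallyOfFiniteType.2 inferInstance
  have : LocallyOfFinitePresentation q :=
    LocallyOfFinitePresentation.iff_locallyOfFiniteType.2 inferInstance
  let f : pullback p aK ⟶ c.pt := pullback.snd p aK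
  let M : StageModel (c := c) f s₀ :=
    { obj := pullback p t₀
      hom := pullback.snd p t₀
      map := pullback.lift (pullback.fst p aK) (f ≫ c.π.app s₀)
        (pullback.condition.trans ((congrArg (_ ≫ ·) ht.symm).trans (Category.assoc _ _ _).symm))
      sq := IsPullback.of_right (by rw [pullback.lift_fst]; convert IsPullback.of_hasPullback p aK using 1 <;> first | exact ht | exact heq_of_eq ht | rfl)
        (pullback.lift_snd _ _ _) (IsPullback.of_hasPullback p t₀) }
  have sqY : IsPullback (pullback.lift (pullback.fst q aK) (pullback.snd q aK ≫ c.π.app s₀)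
        (pullback.condition.trans ((congrArg (_ ≫ ·) ht.symm).trans (Category.assoc _ _ _).symm)))
      (pullback.snd q aK) (pullback.snd q t₀) (c.π.app s₀) :=
    IsPullback.of_right (by rw [pullback.lift_fst]; convert IsPullback.of_hasPullback q aK using 1; exact ht)
      (pullback.lift_snd _ _ _) (IsPullback.of_hasPullback q t₀)
  let N : StageModel (c := c) f s₀ :=
    { obj := pullback q t₀
      hom := pullback.snd q t₀
      map := e.hom ≫ pullback.lift (pullback.fst q aK) (pullback.snd q aK ≫ c.π.app s₀)
        (pullback.condition.trans ((congrArg (_ ≫ ·) ht.symm).trans (Category.assoc _ _ _).symm))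
      sq := by
        have := (IsPullback.of_horiz_isIso (fst := e.hom) (snd := pullback.snd p aK)
          (f := pullback.snd q aK) (g := 𝟙 (Spec (CommRingCat.of K))) ⟨he.trans (Category.comp_id _).symm⟩).paste_horiz sqY
        convert this using 1
        all_goals rfl }
  have := isCofiltered_algSub (CommRingCat.of k) (CommRingCat.of K)
  have : ∀ (i j : (AlgSub (CommRingCat.of k) (CommRingCat.of K))ᵒᵖ) (g : i ⟶ j),
      IsAffineHom (D.map g) := isAffineHom_algSchemes (CommRingCat.of k) (CommRingCat.of K)
  have : ∀ i, CompactSpace ↥(D.obj i) := fun i ↦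
    inferInstanceAs (CompactSpace (PrimeSpectrum _))
  have : ∀ i, QuasiSeparatedSpace ↥(D.obj i) := fun i ↦
    inferInstanceAs (QuasiSeparatedSpace (PrimeSpectrum _))
  obtain ⟨j, φ, e₁, he₁, -⟩ := StageModel.exists_iso (isLimitAlgCone _ _) M N
  let A := j.unop.1
  have : Algebra.FiniteType k A := A.fg_iff_finiteType.1 j.unop.2
  obtain ⟨m, hm⟩ := Ideal.exists_maximal A
  let := Ideal.Quotient.field m
  have : Algebra.FiniteType k (A ⧸ m) :=
    Algebra.FiniteType.of_surjective (Ideal.Quotient.mkₐ k m) Ideal.Quotient.mk_surjective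
  have hfin : Module.Finite k (A ⧸ m) := finite_of_finite_type_of_isJacobsonRing k (A ⧸ m)
  let b : Spec (CommRingCat.of (A ⧸ m)) ⟶ D.obj j :=
    Spec.map (CommRingCat.ofHom (Ideal.Quotient.mk m))
  let a' := Spec.map (CommRingCat.ofHom (algebraMap k (A ⧸ m)))
  have hb : (b ≫ D.map φ) ≫ t₀ = a' := by
    rw [Category.assoc, show D.map φ ≫ t₀ = algToBase _ _ j from algSchemes_map_toBase _ _ φ]
    exact (Spec.map_comp _ _).symm
  refine ⟨A ⧸ m, inferInstance, inferInstance, hfin, ?_⟩
  have model (Z : Scheme.{u}) (g : Z ⟶ Spec (CommRingCat.of k)) :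
      ∃ r, IsPullback r (pullback.snd g a') (pullback.fst (D.map φ) (pullback.snd g t₀)) b := by
    let h := pullback.snd g t₀
    have h0 : IsPullback (pullback.lift (pullback.fst g a') (pullback.snd g a' ≫ b ≫ D.map φ)
        (by rw [pullback.condition, ← hb]; simp only [Category.assoc]))
        (pullback.snd g a') h (b ≫ D.map φ) :=
      IsPullback.of_right (by rw [pullback.lift_fst, hb]; exact IsPullback.of_hasPullback g a')
        (pullback.lift_snd _ _ _) (IsPullback.of_hasPullback g t₀)
    have sR := (IsPullback.of_hasPullback (D.map φ) h).flip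
    exact ⟨sR.lift _ (pullback.snd g a' ≫ b) (by rw [h0.w, Category.assoc]),
      IsPullback.of_right (by rw [sR.lift_fst]; exact h0) (sR.lift_snd _ _ _) sR⟩
  obtain ⟨r₁, s₁⟩ := model X p
  obtain ⟨r₂, s₂⟩ := model Y q
  have s₁' : IsPullback (r₁ ≫ e₁.hom) (pullback.snd p a') (pullback.fst (D.map φ) (pullback.snd q t₀)) b := by
    have := s₁.paste_horiz (IsPullback.of_horiz_isIso (fst := e₁.hom)
      (snd := pullback.fst (D.map φ) (pullback.snd p t₀))
      (f := pullback.fst (D.map φ) (pullback.snd q t₀)) (g := 𝟙 (D.obj j))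
      ⟨he₁.trans (Category.comp_id _).symm⟩)
    rwa [Category.comp_id] at this
  exact ⟨s₁'.isoIsPullback _ _ s₂, IsPullback.isoIsPullback_hom_snd _ _ _ _⟩

end Groth.Agent.S4839
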