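import Groth.Statements.S4843
import Groth.Agent.ConsAmple.QProj
import Groth.Agent.S12416
-- import your own Groth.Agent.* helpers here

set_option autoImplicit false
open CategoryTheory AlgebraicGeometry
universe u
open Cons9

namespace Groth.Agent.S4843

open CategoryTheory.Limits in
/-- Let g : Y ⟶ S and f : X ⟶ Y be such that X and Y are of finite presentation over S (locally of
finite presentation, quasi-compact and quasi-separated). For each point s of S let f_s : X_s ⟶ Y_s
be the morphism induced on the fibres over s. Then the set of s for which f_s is projective (X_s is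
isomorphic over Y_s to the homogeneous spectrum of a quasi-coherent graded O_{Y_s}-algebra generated
by its degree-one part, which is of finite type) is ind-constructible in S. -/
theorem result {X Y S : Scheme.{u}} (f : X ⟶ Y) (g : Y ⟶ S)
    [LocallyOfFinitePresentation g] [QuasiCompact g] [QuasiSeparated g]
    [LocallyOfFinitePresentation (f ≫ g)] [QuasiCompact (f ≫ g)] [QuasiSeparated (f ≫ g)] :
    ProCons.IsIndConstructible {s : S |
      RelProj.IsProjective
        (pullback.lift (pullback.fst (f ≫ g) (S.fromSpecResidueField s) ≫ f) (pullback.snd (f ≫ g) (S.fromSpecResidueField s))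
          ((Category.assoc _ _ _).trans pullback.condition) :
        pullback (f ≫ g) (S.fromSpecResidueField s) ⟶ pullback g (S.fromSpecResidueField s))} := by
  convert Groth.ConsAmple.isIndConstructible_qpLocus_inter_proper f g using 1
  ext s
  have : CompactSpace (g.fiber s) :=
    QuasiCompact.compactSpace_of_compactSpace (g.fiberToSpecResidueField s)
  have : IsLocallyNoetherian (g.fiber s) :=
    LocallyOfFiniteType.isLocallyNoetherian (g.fiberToSpecResidueField s)
  have : QuasiSeparatedSpace (g.fiber s) := inferInstance
  constructor
  · intro h
    exact ⟨(Groth.Ega2Proj.isQuasiProjective_of_isProjective h).2.2,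
      Groth.Chow.isProper_of_isProjective h⟩
  · rintro ⟨⟨L, hL⟩, hp⟩
    have : IsProper (MoreMor.fiberMap f g s) := hp
    exact Groth.Agent.S12416.result (MoreMor.fiberMap f g s) ⟨inferInstance, inferInstance, L, hL⟩

end Groth.Agent.S4843
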