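import Groth.Statements.S4850
import Groth.Agent.EgaInjFlat.Basic

set_option autoImplicit false
universe u
open EGA43

namespace Groth.Agent.S4850

open AlgebraicGeometry CategoryTheory Limits in
/-- Equivalence of a: and b)): let f : X ⟶ Y be locally of finite presentation, F and F' quasi-coherent
O_X-modules of finite presentation, u : F' ⟶ F a homomorphism and x a point with y = f x, such that
F is f-flat at x. Then the stalk map u_x is injective and Coker u is f-flat at x, if and only if u_x
induces an injective map F'_x / m_y F'_x → F_x / m_y F_x. The second condition is written out: an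
element of F'_x whose image under u_x lies in m_y F_x already lies in m_y F'_x. (The vanishing of
the stalk (Ker u)_x is expressed as injectivity of u_x.) -/
theorem result {X Y : Scheme.{u}} (f : X ⟶ Y)
    [LocallyOfFinitePresentation f] (F F' : X.Modules) [Coh.IsQCoh F] [Coh.IsQCoh F']
    (hF : CohB1.IsFP F) (hF' : CohB1.IsFP F') (u : F' ⟶ F) (x : X) (hflat : FlatMod.IsFlatOverAt f F x) :
    letI J : Ideal ↑(X.presheaf.stalk x) :=
      Ideal.map (f.stalkMap x).hom (IsLocalRing.maximalIdeal ↑(Y.presheaf.stalk (f x)))
    letI ux := (TopCat.Presheaf.stalkFunctor Ab x).map (Scheme.Modules.Hom.mapPresheaf u)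
    (Function.Injective ux ∧ FlatMod.IsFlatOverAt f (cokernel u) x) ↔
      ∀ m : ↑(F'.presheaf.stalk x),
        ux m ∈ (J • (⊤ : Submodule ↑(X.presheaf.stalk x) ↑(F.presheaf.stalk x))) →
          m ∈ (J • (⊤ : Submodule ↑(X.presheaf.stalk x) ↑(F'.presheaf.stalk x))) := by
  haveI : F.IsQuasicoherent := ‹Coh.IsQCoh F›
  haveI : F'.IsQuasicoherent := ‹Coh.IsQCoh F'›
  exact Groth.EgaInjFlat.injective_and_flat_coker_iff f F F' hF hF' u x hflat

end Groth.Agent.S4850
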