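import Groth.Statements.S4851
import Groth.Agent.FlatMorOne.FlatLocusInjective

set_option autoImplicit false
universe u
open EGA43

namespace Groth.Agent.S4851

open AlgebraicGeometry CategoryTheory Limits in
/-- Let f : X ⟶ Y be locally of finite presentation, F and F' quasi-coherent O_X-modules of finite
presentation and u : F' ⟶ F a homomorphism. Then the set of points x of X at which the stalk map u_x
is injective and Coker u is f-flat at x is open in X. (No flatness hypothesis on F is made; the form
of this openness statement in which F is moreover assumed f-flat is a special case.) -/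
theorem result {X Y : Scheme.{u}} (f : X ⟶ Y)
    [LocallyOfFinitePresentation f] (F F' : X.Modules) [Coh.IsQCoh F] [Coh.IsQCoh F']
    (hF : CohB1.IsFP F) (hF' : CohB1.IsFP F') (u : F' ⟶ F) :
    IsOpen {x : X | Function.Injective ((TopCat.Presheaf.stalkFunctor Ab x).map (Scheme.Modules.Hom.mapPresheaf u)) ∧
      FlatMod.IsFlatOverAt f (cokernel u) x} := by
  haveI : F.IsQuasicoherent := ‹Coh.IsQCoh F›
  haveI : F'.IsQuasicoherent := ‹Coh.IsQCoh F'›
  exact Groth.FlatMorOne.isOpen_injective_and_flat_coker u f hF hF'

end Groth.Agent.S4851
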