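import Groth.Statements.S4854
import Groth.Agent.EGA43Desc.ProperFlat
import Mathlib
-- import your own Groth.Agent.* helpers here

set_option autoImplicit false
universe u
open CategoryTheory AlgebraicGeometry
open EGA43

namespace Groth.Agent.S4854

open CategoryTheory.Limits in
/-- Let f : X ⟶ Y be locally of finite presentation, F a quasi-coherent O_X-module of finite
presentation, x a point of X with y = f x, and g : Y' ⟶ Y a proper morphism of finite presentation.
Assume (i) the map O_{Y,y} → (g_* O_{Y'})_y is injective, i.e. a section of O_Y on a neighbourhood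
of y whose pullback to Y' vanishes is zero on some neighbourhood of y, and (ii) the pullback F' of F
to X' = X ×_Y Y' is flat over Y' at every point of X' above x. Then F is f-flat at x. -/
theorem result {X Y Y' : Scheme.{u}} (f : X ⟶ Y)
    [LocallyOfFinitePresentation f] (F : X.Modules) [Coh.IsQCoh F] (hF : CohB1.IsFP F) (x : X)
    (g : Y' ⟶ Y) [IsProper g] [LocallyOfFinitePresentation g]
    (hinj : ∀ (V : Y.Opens) (s : Γ(Y, V)), f x ∈ V → g.app V s = 0 →
      ∃ W : Y.Opens, f x ∈ W ∧ ∃ hWV : W ≤ V, Y.presheaf.map (homOfLE hWV).op s = 0)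
    (hflat : ∀ x' : ↥(pullback f g), pullback.fst f g x' = x →
      FlatMod.IsFlatOverAt (pullback.snd f g) ((Scheme.Modules.pullback (pullback.fst f g)).obj F) x') :
    FlatMod.IsFlatOverAt f F x := by
  haveI : F.IsQuasicoherent := inferInstance
  exact Groth.EGA43Desc.isFlatOverAt_of_proper f F hF x g hinj hflat

end Groth.Agent.S4854
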