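import Groth.Statements.S4855
import Groth.Agent.HTopHyper.FlatDescentH
import Groth.Agent.SpectralTopology.AlgSystem
import Groth.Agent.SpectralTopology.SpreadProper
import Groth.Agent.SpectralTopology.DescendFP
import Groth.Agent.Limits.FlatDescent
import Groth.Agent.Limits.ApproxSystem

set_option backward.isDefEq.respectTransparency false

set_option autoImplicit false
universe u
open CategoryTheory AlgebraicGeometry
open EGA43

namespace Groth.Agent.S4855

open CategoryTheory CategoryTheory.Limits AlgebraicGeometry TensorProduct Opposite Groth.HTopHyper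

open Groth.CohC3 in
/-- A proper morphism to a Noetherian affine scheme, injective on functions, is flat once its self
product is flat over it. -/
theorem flat_noetherian {A : CommRingCat.{u}} [IsNoetherianRing A] {X : Scheme.{u}} (f : X ⟶ Spec A)
    [IsProper f] (hinj : Function.Injective f.appTop) (hflat : Flat (pullback.fst f f)) : Flat f := by
  letI : X.Over (Spec (CommRingCat.of A)) := ⟨f⟩
  haveI : IsProper (X ↘ Spec (CommRingCat.of A)) := ‹IsProper f›
  have hflat' : Flat (pullback.snd f f) := by
    rw [← pullbackSymmetry_hom_comp_fst]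
    exact MorphismProperty.comp_mem (W := @Flat) _ _ inferInstance hflat
  haveI : CompactSpace X := QuasiCompact.compactSpace_of_compactSpace f
  obtain ⟨t, ht⟩ := isCompact_univ.elim_finite_subcover (fun W : X.affineOpens => (W.1 : Set X))
    (fun W => W.1.2) (fun z _ => by
      obtain ⟨W, hW, hz, -⟩ := exists_isAffineOpen_mem_and_subset (x := z) (U := ⊤) trivial
      exact Set.mem_iUnion.2 ⟨⟨W, hW⟩, hz⟩)
  have hcov : ⨆ W : t, W.1.1 = ⊤ := eq_top_iff.2 fun z _ => by
    obtain ⟨W, hW, hz⟩ := Set.mem_iUnion₂.1 (ht (Set.mem_univ z))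
    exact TopologicalSpace.Opens.mem_iSup.2 ⟨⟨W, hW⟩, hz⟩
  let φ : ∀ W : X.Opens, A ⟶ Γ(X, W) := fun W => CommRingCat.ofHom (baseApp (A := A) X W)
  have hφ : ∀ {W : X.Opens} (hW : IsAffineOpen W), Spec.map (φ W) = hW.fromSpec ≫ f :=
      fun {W} hW => by
    have h := (isAffineOpen_top (Spec A)).SpecMap_appLE_fromSpec f hW (le_top : W ≤ f ⁻¹ᵁ ⊤)
    rw [IsAffineOpen.fromSpec_top, Scheme.isoSpec_Spec_inv, ← Spec.map_comp] at h
    exact h
  have hinj' : Function.Injective (baseApp (A := A) X ⊤) := by
    intro x y hxy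
    have key : ∀ z, baseApp (A := A) X ⊤ z = f.appTop ((Scheme.ΓSpecIso A).inv z) := fun z =>
      QCohMod.resFun_self _
    rw [key, key] at hxy
    exact (ConcreteCategory.bijective_of_isIso (Scheme.ΓSpecIso A).inv).injective (hinj hxy)
  refine IsZariskiLocalAtSource.of_openCover (P := @Flat) X.affineCover fun i => ?_
  let V : X.Opens := (X.affineCover.f i).opensRange
  have hV : IsAffineOpen V := isAffineOpen_opensRange _
  have hr : Set.range (X.affineCover.f i) = Set.range hV.fromSpec := by rw [hV.range_fromSpec]; rfl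
  rw [← IsOpenImmersion.isoOfRangeEq_hom_fac (X.affineCover.f i) hV.fromSpec hr, Category.assoc,
    ← hφ hV]
  have hflatV : (φ V).hom.Flat := by
    letI := (φ V).hom.toAlgebra
    haveI : Algebra.FiniteType A Γ(X, V) := by
      refine RingHom.finiteType_algebraMap.1 ((HasRingHomProperty.Spec_iff (P := @LocallyOfFiniteType)).1 ?_)
      show LocallyOfFiniteType (Spec.map (φ V))
      rw [hφ hV]; infer_instance
    letI : ∀ W : t, Algebra A Γ(X, W.1.1) := fun W => (baseApp X W.1.1).toAlgebra
    refine RingHom.flat_algebraMap_iff.2 (FlatBound.flat_of_bound (fun W : t => Γ(X, W.1.1)) (fun W => ?_)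
      fun p _ k => exists_pow_bound X hinj' (fun W : t => W.1.1) (fun W => W.1.2) hcov p k)
    exact flat_tensor_of_flat_pullback f f hflat' (𝟙 _) hV.fromSpec (φ V)
      (by rw [Category.comp_id, hφ hV]) (φ W.1.1) W.1.2.fromSpec
      (by rw [Category.comp_id, hφ W.1.2])
  haveI := Flat.SpecMap_iff.2 hflatV
  infer_instance

/-- The projection of a self product is a base change. -/
theorem isPullback_fst_self {X X₀ T T₀ : Scheme.{u}} {q : X ⟶ X₀} {h : X ⟶ T} {g₀ : X₀ ⟶ T₀}
    {t : T ⟶ T₀} (hsq : IsPullback q h g₀ t) :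
    IsPullback (pullback.map h h g₀ g₀ q q t hsq.w.symm hsq.w.symm) (pullback.fst h h)
      (pullback.fst g₀ g₀) q := by
  refine IsPullback.of_right ?_ (pullback.lift_fst _ _ _) (IsPullback.of_hasPullback g₀ g₀).flip
  rw [pullback.lift_snd]
  have big := (IsPullback.of_hasPullback h h).flip.paste_horiz hsq
  rwa [← hsq.w] at big

/-- The affine case. -/
theorem flat_affine {A : CommRingCat.{u}} {X : Scheme.{u}} (f : X ⟶ Spec A) [IsProper f]
    [LocallyOfFinitePresentation f] (hinj : Function.Injective f.appTop)
    (hflat : Flat (pullback.fst f f)) : Flat f := by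
  let R : CommRingCat.{u} := CommRingCat.of (ULift.{u} ℤ)
  letI : Algebra R A :=
    ((Int.castRingHom A).comp (ULift.ringEquiv : ULift.{u} ℤ ≃+* ℤ).toRingHom).toAlgebra
  let D := Groth.SpectralTopology.algSchemes R A
  let c := Groth.SpectralTopology.algCone R A
  have hc := Groth.SpectralTopology.isLimitAlgCone R A
  haveI : IsNoetherianRing R := inferInstanceAs (IsNoetherianRing (ULift.{u} ℤ))
  haveI hN : ∀ s, IsNoetherianRing (s : (Groth.SpectralTopology.AlgSub R A)ᵒᵖ).unop.1 := fun s => by
    haveI : Algebra.FiniteType R s.unop.1 := ⟨(Subalgebra.fg_top _).2 s.unop.2⟩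
    exact Algebra.FiniteType.isNoetherianRing R _
  haveI : ∀ s, IsLocallyNoetherian (D.obj s) := fun s => by
    haveI := hN s
    exact inferInstanceAs (IsLocallyNoetherian (Spec (CommRingCat.of s.unop.1)))
  haveI : ∀ s, CompactSpace (D.obj s) := fun s =>
    inferInstanceAs (CompactSpace (Spec (CommRingCat.of s.unop.1)))
  haveI : ∀ s, QuasiSeparatedSpace (D.obj s) := fun s => inferInstance
  haveI : ∀ {s t} (a : s ⟶ t), IsAffineHom (D.map a) := fun a => by
    dsimp [D]; infer_instance
  haveI : IsFiltered (Groth.SpectralTopology.AlgSub R A) :=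
    haveI : IsDirected (Groth.SpectralTopology.AlgSub R A) (· ≤ ·) :=
      ⟨fun s t => ⟨⟨s.1 ⊔ t.1, s.2.sup t.2⟩, le_sup_left (a := s.1), le_sup_right (a := s.1)⟩⟩
    haveI : Nonempty (Groth.SpectralTopology.AlgSub R A) := ⟨⟨⊥, Subalgebra.fg_bot⟩⟩
    isFiltered_of_directed_le_nonempty _
  obtain ⟨i, ⟨M⟩⟩ := Groth.SpectralTopology.exists_stageModel (D := D) (c := c) hc f
  obtain ⟨j, φ, hj⟩ := Groth.SpectralTopology.baseSpreads_isProper D c hc M.hom (by
    rw [← M.sq.isoPullback_inv_snd]; infer_instance)
  let M₁ := M.pull φ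
  haveI : IsProper M₁.hom := by
    show IsProper (pullback.fst (D.map φ) M.hom)
    rw [← pullbackSymmetry_hom_comp_snd]; infer_instance
  haveI : CompactSpace (pullback M₁.hom M₁.hom : Scheme.{u}) :=
    haveI : CompactSpace M₁.obj := QuasiCompact.compactSpace_of_compactSpace M₁.hom
    QuasiCompact.compactSpace_of_compactSpace (pullback.fst M₁.hom M₁.hom)
  obtain ⟨k, hk⟩ := Groth.Limits.exists_prop_stage (D := D) (c := c) @Flat Groth.Limits.ringDescends_flat
    (fun _ _ g (_ : IsOpenImmersion g) => inferInstance) hc M₁.sq (isPullback_fst_self M₁.sq) hflat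
  let M₂ := M₁.pull k.hom
  haveI : IsProper M₂.hom := MorphismProperty.pullback_fst _ _ inferInstance
  have hflat₂ : Flat (pullback.fst M₂.hom M₂.hom) := by
    rw [← (isPullback_fst_self (IsPullback.of_hasPullback (D.map k.hom) M₁.hom).flip).isoPullback_hom_snd]
    exact MorphismProperty.comp_mem (W := @Flat) _ _ inferInstance hk
  have hinj₂ : Function.Injective M₂.hom.appTop := by
    refine Function.Injective.of_comp (f := M₂.map.appTop) ?_
    have e : M₂.hom.appTop ≫ M₂.map.appTop = (c.π.app k.left).appTop ≫ f.appTop := by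
      rw [← Scheme.Hom.comp_appTop, ← Scheme.Hom.comp_appTop, M₂.sq.w]
    have hπ : Function.Injective (c.π.app k.left).appTop := by
      let v : CommRingCat.of k.left.unop.1 ⟶ A :=
        CommRingCat.ofHom (S := (A : Type u)) k.left.unop.1.val.toRingHom
      have hv : Function.Injective v := Subtype.val_injective
      have hnat : (Spec.map v).appTop =
          (Scheme.ΓSpecIso (CommRingCat.of k.left.unop.1)).hom ≫ v ≫ (Scheme.ΓSpecIso A).inv := by
        rw [← Scheme.ΓSpecIso_naturality_assoc, Iso.hom_inv_id, Category.comp_id]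
      show Function.Injective (Spec.map v).appTop
      rw [hnat]
      exact ((ConcreteCategory.bijective_of_isIso (Scheme.ΓSpecIso A).inv).injective.comp hv).comp
        (ConcreteCategory.bijective_of_isIso (Scheme.ΓSpecIso (CommRingCat.of k.left.unop.1)).hom).injective
    intro x y hxy
    exact hπ (hinj ((congr($e x)).symm.trans (hxy.trans congr($e y))))
  haveI : IsNoetherianRing (Opposite.unop ((Groth.SpectralTopology.algDiagram R A).op.obj k.left) : CommRingCat.{u}) := hN k.left
  have : Flat M₂.hom := flat_noetherian M₂.hom hinj₂ hflat₂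
  exact MorphismProperty.of_isPullback M₂.sq this

end Groth.Agent.S4855

namespace Groth.Agent.S4855

open CategoryTheory.Limits in
/-- Let f : X ⟶ Y be a proper morphism of finite presentation such that the map O_Y → f_* O_X is
injective (on sections over every open subset of Y). Then f is flat if and only if the first
projection X ×_Y X ⟶ X is flat. -/
theorem result {X Y : Scheme.{u}} (f : X ⟶ Y)
    [IsProper f] [LocallyOfFinitePresentation f] (hinj : ∀ V : Y.Opens, Function.Injective (f.app V)) :
    Flat f ↔ Flat (pullback.fst f f) := by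
  constructor
  · intro h
    infer_instance
  intro h
  refine IsZariskiLocalAtTarget.of_iSup_eq_top (P := @Flat) _ (iSup_affineOpens_eq_top Y) fun U => ?_
  haveI : IsAffine (U.1 : Scheme.{u}) := U.2
  let g := f ∣_ U.1 ≫ (U.1 : Scheme.{u}).isoSpec.hom
  haveI : IsProper g := inferInstance
  haveI : LocallyOfFinitePresentation g := inferInstance
  have hinjU : Function.Injective (f ∣_ U.1).appTop := by
    rw [Scheme.Hom.appTop, morphismRestrict_app]
    intro x y hxy
    exact hinj _ ((ConcreteCategory.bijective_of_isIso _).injective hxy)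
  have hinjg : Function.Injective g.appTop := by
    show Function.Injective ((f ∣_ U.1) ≫ (U.1 : Scheme.{u}).isoSpec.hom).appTop
    rw [Scheme.Hom.comp_appTop]
    exact hinjU.comp (ConcreteCategory.bijective_of_isIso _).injective
  have hg : Flat (pullback.fst g g) := by
    have h3 : IsPullback (pullback.fst (f ∣_ U.1) (f ∣_ U.1)) (pullback.snd (f ∣_ U.1) (f ∣_ U.1)) g g :=
      IsPullback.of_isLimit (PullbackCone.isLimitOfCompMono (f ∣_ U.1) (f ∣_ U.1)
        (U.1 : Scheme.{u}).isoSpec.hom _ (pullback.isLimit _ _))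
    rw [← h3.isoPullback_inv_fst]
    haveI : Flat (pullback.fst (f ∣_ U.1) (f ∣_ U.1)) :=
      MorphismProperty.of_isPullback
        (isPullback_fst_self (isPullback_morphismRestrict f U.1).flip) h
    infer_instance
  have := flat_affine g hinjg hg
  exact (MorphismProperty.cancel_right_of_respectsIso @Flat (f ∣_ U.1) (U.1 : Scheme.{u}).isoSpec.hom).1 this

end Groth.Agent.S4855
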