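import Groth.Statements.S4856
import Groth.Agent.EGA43Closed.Scheme
import Groth.Agent.QCohMod.FiniteType

set_option autoImplicit false
set_option backward.isDefEq.respectTransparency.types false
universe u
open CategoryTheory AlgebraicGeometry
open EGA43

namespace Groth.Agent.S4856

open CategoryTheory.Limits in
/-- Let A be an Artinian local ring, f : X ⟶ Spec A locally of finite type, F a coherent O_X-module and
x a point of X. Let (u_i : A → A_i) be a family of ring homomorphisms into local rings such that an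
element of A killed by every u_i is zero. If, for every i, the pullback of F to X_i = X ×_{Spec A}
Spec A_i is flat over Spec A_i at every point of X_i whose images are x in X and the closed point in
Spec A_i, then F is f-flat at x. -/
theorem result {A : Type u} [CommRing A]
    [IsArtinianRing A] [IsLocalRing A] {X : Scheme.{u}} (f : X ⟶ Spec (CommRingCat.of A))
    [LocallyOfFiniteType f] (F : X.Modules) (hF : Coh.IsCoh F) (x : X)
    {ι : Type u} (A' : ι → Type u) [∀ i, CommRing (A' i)] [∀ i, IsLocalRing (A' i)] (u : ∀ i, A →+* A' i)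
    (hu : ∀ a : A, (∀ i, u i a = 0) → a = 0)
    (hflat : ∀ (i : ι) (x' : ↥(pullback f (Spec.map (CommRingCat.ofHom (u i))))),
      pullback.fst f (Spec.map (CommRingCat.ofHom (u i))) x' = x →
      pullback.snd f (Spec.map (CommRingCat.ofHom (u i))) x' = IsLocalRing.closedPoint (A' i) →
      FlatMod.IsFlatOverAt (pullback.snd f (Spec.map (CommRingCat.ofHom (u i))))
        ((Scheme.Modules.pullback (pullback.fst f (Spec.map (CommRingCat.ofHom (u i))))).obj F) x') :
    FlatMod.IsFlatOverAt f F x := by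
  have : F.IsQuasicoherent := hF.1
  have : IsNoetherianRing A := inferInstance
  have : IsLocallyNoetherian X := LocallyOfFiniteType.isLocallyNoetherian f
  obtain ⟨U, hU, hx, -⟩ := exists_isAffineOpen_mem_and_subset (X := X) (U := ⊤) (x := x) trivial
  have e₁ : U ≤ f ⁻¹ᵁ ⊤ := le_top
  have : IsNoetherianRing Γ(X, U) := IsLocallyNoetherian.component_noetherian ⟨U, hU⟩
  have : Module.Finite Γ(X, U) Γ(F, U) := Groth.QCohMod.finite_sections F hF.2 hU
  let eA : A ≃+* Γ(Spec (CommRingCat.of A), ⊤) :=
    (Scheme.ΓSpecIso (CommRingCat.of A)).symm.commRingCatIsoToRingEquiv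
  have : IsArtinianRing Γ(Spec (CommRingCat.of A), ⊤) := eA.surjective.isArtinianRing
  have : IsLocalRing Γ(Spec (CommRingCat.of A), ⊤) := eA.isLocalRing
  let g := fun i => Spec.map (CommRingCat.ofHom (u i))
  let A₁ := fun i => (Γ(Spec (CommRingCat.of (A' i)), ⊤) : Type u)
  have e₂ : ∀ i, (⊤ : (Spec (CommRingCat.of (A' i))).Opens) ≤ g i ⁻¹ᵁ ⊤ := fun i => le_top
  letI : ∀ i, Algebra Γ(Spec (CommRingCat.of A), ⊤) (A₁ i) := fun i =>
    ((g i).appLE ⊤ ⊤ (e₂ i)).hom.toAlgebra
  letI := (f.appLE ⊤ U e₁).hom.toAlgebra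
  letI : Module Γ(Spec (CommRingCat.of A), ⊤) Γ(F, U) :=
    Module.compHom _ (f.appLE ⊤ U e₁).hom
  haveI : IsScalarTower Γ(Spec (CommRingCat.of A), ⊤) Γ(X, U) Γ(F, U) :=
    IsScalarTower.of_algebraMap_smul fun _ _ => rfl
  have hloc : ∀ i, IsLocalRing (A₁ i) := fun i =>
    (Scheme.ΓSpecIso (CommRingCat.of (A' i))).symm.commRingCatIsoToRingEquiv.isLocalRing
  have hall := fun i =>
    have := hloc i
    Groth.EGA43Closed.detect_pointsOver_closed f (g i) e₁ (e₂ i) (isAffineOpen_top _)
      (isAffineOpen_top (Spec (CommRingCat.of (A' i)))) hU F x hx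
      (IsLocalRing.maximalIdeal (A₁ i)) fun y hy => by
        refine hflat i y.1 y.2.2 ?_
        let T := Spec (CommRingCat.of (A' i))
        let pt : ↥(⊤ : T.Opens) := ⟨pullback.snd f (g i) y.1, y.2.1.2⟩
        let c : ↥(⊤ : T.Opens) := ⟨IsLocalRing.closedPoint (A' i), trivial⟩
        have h1 : (isAffineOpen_top T).primeIdealOf c = (isAffineOpen_top T).primeIdealOf pt := by
          apply PrimeSpectrum.ext
          refine le_antisymm (((IsLocalRing.le_maximalIdeal
            ((isAffineOpen_top T).primeIdealOf c).isPrime.ne_top)).trans hy) ?_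
          intro r hr
          by_contra hrc
          have h2 := (Groth.QCohMod.mem_basicOpen_iff_notMem_primeIdealOf (isAffineOpen_top T) r _ c.2).2 hrc
          have h3 : T.basicOpen r = ⊤ := (IsLocalRing.closedPoint_mem_iff (T.basicOpen r)).1 h2
          exact (Groth.QCohMod.mem_basicOpen_iff_notMem_primeIdealOf (isAffineOpen_top T) r _ pt.2).1
            (by rw [h3]; trivial) hr
        have h4 := congrArg (isAffineOpen_top T).fromSpec h1
        rw [(isAffineOpen_top T).fromSpec_primeIdealOf, (isAffineOpen_top T).fromSpec_primeIdealOf] at h4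
        exact h4.symm
  choose κ N hN₁ hN₂ hN₃ hN₄ hN₅ ψ hdet using hall
  set 𝔭 := (hU.primeIdealOf ⟨x, hx⟩).asIdeal with h𝔭
  have hflatloc : Module.Flat Γ(Spec (CommRingCat.of A), ⊤)
      (LocalizedModule 𝔭.primeCompl Γ(F, U)) := by
    refine Groth.EGA43Closed.flat_of_detect_residue A₁ (fun a ha => ?_) N ψ hdet
    refine eA.symm.injective ((hu (eA.symm a) fun i => ?_).trans (map_zero _).symm)
    have h1 : (g i).appTop a = 0 := by
      rw [show (g i).appTop = (g i).appLE ⊤ ⊤ (e₂ i) from Scheme.Hom.app_eq_appLE _]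
      exact ha i
    have h2 := congrArg (fun χ => χ.hom a) (Scheme.ΓSpecIso_naturality (CommRingCat.ofHom (u i)))
    simp only [CommRingCat.hom_comp, RingHom.comp_apply, g] at h2 h1
    rw [h1, map_zero] at h2
    exact h2.symm
  -- back to the stalk
  let _ := FlatMod.moduleStalkOver f F x
  let _ := Groth.QCohMod.stalkModule F x hx
  let _ : Module Γ(Spec (CommRingCat.of A), ⊤) (F.presheaf.stalk x) :=
    Module.compHom _ ((X.presheaf.germ U x hx).hom.comp (f.appLE ⊤ U e₁).hom)
  have : IsScalarTower Γ(Spec (CommRingCat.of A), ⊤) Γ(X, U) (F.presheaf.stalk x) :=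
    IsScalarTower.of_algebraMap_smul fun _ _ => rfl
  have := Groth.QCohMod.isLocalizedModule_germ F hU x hx
  let e : LocalizedModule 𝔭.primeCompl Γ(F, U) ≃ₗ[Γ(X, U)] F.presheaf.stalk x :=
    IsLocalizedModule.iso 𝔭.primeCompl (Groth.QCohMod.germₗ F x hx)
  have hstalk : Module.Flat Γ(Spec (CommRingCat.of A), ⊤) (F.presheaf.stalk x) :=
    Module.Flat.of_linearEquiv (e.restrictScalars Γ(Spec (CommRingCat.of A), ⊤)).symm
  let S := Spec (CommRingCat.of A)
  have hfx : f x ∈ (⊤ : S.Opens) := trivial
  let _ := TopCat.Presheaf.algebra_section_stalk S.presheaf (U := (⊤ : S.Opens)) ⟨f x, hfx⟩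
  have : IsScalarTower Γ(Spec (CommRingCat.of A), ⊤)
      ((Spec (CommRingCat.of A)).presheaf.stalk (f x)) (F.presheaf.stalk x) :=
    IsScalarTower.of_algebraMap_smul fun r v => by
      change f.stalkMap x ((Spec (CommRingCat.of A)).presheaf.germ ⊤ _ hfx r) • v =
        X.presheaf.germ U x hx (f.appLE ⊤ U e₁ r) • v
      erw [Scheme.Hom.germ_stalkMap_apply]
      congr 1
      exact (TopCat.Presheaf.germ_res_apply X.presheaf (homOfLE e₁) x hx _).symm
  have := (isAffineOpen_top S).isLocalization_stalk ⟨f x, hfx⟩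
  exact (Module.flat_iff_of_isLocalization (S.presheaf.stalk (f x))
    ((isAffineOpen_top S).primeIdealOf ⟨f x, hfx⟩).asIdeal.primeCompl (F.presheaf.stalk x)).2
      hstalk

end Groth.Agent.S4856
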