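import Groth.Statements.S4857
import Groth.Agent.S4856
import Groth.Agent.EGA43Art.Adic
import Groth.Agent.FlatMorOne.FlatStageGlobal

set_option autoImplicit false
set_option backward.isDefEq.respectTransparency.types false
universe u
open CategoryTheory AlgebraicGeometry
open EGA43

namespace Groth.Agent.S4857

open CategoryTheory.Limits in
/-- Let Y be a locally Noetherian scheme, f : X ⟶ Y locally of finite type, F a coherent O_X-module and
x a point of X with y = f x. Let (φ_i : O_{Y,y} → A_i) be a family of local homomorphisms into local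
rings such that, for every N, some finite intersection of the ideals φ_i⁻¹(m_{A_i}^n) is contained
in m_y^N. Let Y_i = Spec A_i ⟶ Y be the induced Y-schemes and X_i = X ×_Y Y_i. If for every i the
pullback of F to X_i is flat over Y_i at every point of X_i lying over x and over the closed point
of Y_i, then F is f-flat at x. -/
theorem result {X Y : Scheme.{u}} [IsLocallyNoetherian Y]
    (f : X ⟶ Y) [LocallyOfFiniteType f] (F : X.Modules) (hF : Coh.IsCoh F) (x : X)
    {ι : Type u} (A : ι → Type u) [∀ i, CommRing (A i)] [∀ i, IsLocalRing (A i)]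
    (φ : ∀ i, (Y.presheaf.stalk (f x) : Type u) →+* A i) [∀ i, IsLocalHom (φ i)]
    (htop : ∀ N : ℕ, ∃ s : Finset (ι × ℕ),
      ⨅ p ∈ s, Ideal.comap (φ p.1) (IsLocalRing.maximalIdeal (A p.1) ^ p.2) ≤
        IsLocalRing.maximalIdeal ↑(Y.presheaf.stalk (f x)) ^ N) :
    letI g : ∀ i, Spec (CommRingCat.of (A i)) ⟶ Y :=
      fun i => Spec.map (CommRingCat.ofHom (φ i)) ≫ Y.fromSpecStalk (f x)
    (∀ (i : ι) (x' : ↥(pullback f (g i))), pullback.fst f (g i) x' = x →
      pullback.snd f (g i) x' = IsLocalRing.closedPoint (A i) →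
      FlatMod.IsFlatOverAt (pullback.snd f (g i)) ((Scheme.Modules.pullback (pullback.fst f (g i))).obj F) x') →
    FlatMod.IsFlatOverAt f F x := by
  intro hflat
  have : F.IsQuasicoherent := hF.1
  let O : CommRingCat := Y.presheaf.stalk (f x)
  let m := IsLocalRing.maximalIdeal O
  refine Groth.EGA43Art.Adic.isFlatOverAt_of_quotients f F hF x fun k hk => ?_
  obtain ⟨s, hs⟩ := htop k
  let I : Ideal O := ⨅ p ∈ s, Ideal.comap (φ p.1) (IsLocalRing.maximalIdeal (A p.1) ^ p.2)
  have hIm : I ≤ m := hs.trans (Ideal.pow_le_self hk.ne')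
  have hmI : ∃ n, m ^ n ≤ I := by
    refine ⟨s.sup Prod.snd, le_iInf₂ fun p hp => (Ideal.pow_le_pow_right (Finset.le_sup hp)).trans ?_⟩
    refine le_trans ?_ (Ideal.le_comap_pow (φ p.1) p.2)
    exact Ideal.pow_right_mono (fun a ha => Ideal.mem_comap.2 <| (IsLocalRing.mem_maximalIdeal _).2 fun hu =>
      (IsLocalRing.mem_maximalIdeal a).1 ha (isUnit_of_map_unit (φ p.1) a hu)) _
  have : Nontrivial (O ⧸ I) := Ideal.Quotient.nontrivial_iff.2
    (ne_top_of_le_ne_top (IsLocalRing.maximalIdeal.isMaximal O).ne_top hIm)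
  have hloc : IsLocalRing (O ⧸ I) := .of_surjective' _ Ideal.Quotient.mk_surjective
  have : IsArtinianRing (O ⧸ I) := by
    rw [isArtinianRing_iff_isNilpotent_maximalIdeal]
    obtain ⟨n, hn⟩ := hmI
    refine ⟨n, ?_⟩
    rw [← IsLocalRing.map_maximalIdeal_of_surjective (Ideal.Quotient.mk I) Ideal.Quotient.mk_surjective,
      ← Ideal.map_pow, Submodule.zero_eq_bot, Ideal.map_eq_bot_iff_le_ker, Ideal.mk_ker]
    exact hn
  let R : CommRingCat.{u} := CommRingCat.of (O ⧸ I)
  let π : O ⟶ R := CommRingCat.ofHom (Ideal.Quotient.mk I)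
  have : IsLocalHom π.hom := .of_surjective _ Ideal.Quotient.mk_surjective
  have : IsClosedImmersion (Spec.map π) :=
    IsClosedImmersion.spec_of_surjective π Ideal.Quotient.mk_surjective
  let h : Spec R ⟶ Y := Spec.map π ≫ Y.fromSpecStalk (f x)
  have : IsPreimmersion h := inferInstanceAs (IsPreimmersion (Spec.map π ≫ Y.fromSpecStalk (f x)))
  have hcp : f x = h (IsLocalRing.closedPoint R) := by
    show f x = Y.fromSpecStalk (f x) ((Spec.map π) (IsLocalRing.closedPoint R))
    rw [Spec_closedPoint]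
    exact Scheme.fromSpecStalk_closedPoint.symm
  obtain ⟨z, hz, -⟩ := Scheme.Pullback.exists_preimage_pullback (f := f) (g := h) x (IsLocalRing.closedPoint R) hcp
  refine ⟨I, hs, hloc, ‹IsPreimmersion h›, z, hz, ?_⟩
  let pr := pullback.fst f h
  let fR := pullback.snd f h
  have : LocallyOfFiniteType fR := MorphismProperty.pullback_snd f h ‹_›
  let F' := (Scheme.Modules.pullback pr).obj F
  have hF' : Coh.IsCoh F' := ⟨inferInstanceAs ((Scheme.Modules.pullback pr).obj F).IsQuasicoherent,
    Groth.QCohMod.isFT_pullback _ F hF.2⟩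
  let κ := {p : ι × ℕ // p ∈ s ∧ p.2 ≠ 0}
  let Q := fun p : κ => A p.1.1 ⧸ IsLocalRing.maximalIdeal (A p.1.1) ^ p.1.2
  have hQn : ∀ p : κ, Nontrivial (Q p) := fun p => Ideal.Quotient.nontrivial_iff.2
    (ne_top_of_le_ne_top (IsLocalRing.maximalIdeal.isMaximal _).ne_top (Ideal.pow_le_self p.2.2))
  have hQl : ∀ p : κ, IsLocalRing (Q p) := fun p =>
    have := hQn p
    .of_surjective' _ Ideal.Quotient.mk_surjective
  have hle : ∀ p : κ, I ≤ (IsLocalRing.maximalIdeal (A p.1.1) ^ p.1.2).comap (φ p.1.1) :=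
    fun p => iInf₂_le p.1 p.2.1
  let v := fun p : κ => Ideal.quotientMap _ (φ p.1.1) (hle p)
  refine Groth.Agent.S4856.result (A := O ⧸ I) fR F' hF' z Q v (fun a ha => ?_)
    fun p d hd hclosedd => ?_
  · obtain ⟨a, rfl⟩ := Ideal.Quotient.mk_surjective a
    refine Ideal.Quotient.eq_zero_iff_mem.2 (Submodule.mem_iInf _ |>.2 fun p =>
      Submodule.mem_iInf _ |>.2 fun hp => ?_)
    by_cases h0 : p.2 = 0
    · rw [Ideal.mem_comap, h0, pow_zero, Ideal.one_eq_top]
      trivial
    · have := ha ⟨p, hp, h0⟩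
      exact Ideal.mem_comap.2 (Ideal.Quotient.eq_zero_iff_mem.1 this)
  · have := hQl p
    let gi := Spec.map (CommRingCat.ofHom (φ p.1.1)) ≫ Y.fromSpecStalk (f x)
    let w : Spec (CommRingCat.of (Q p)) ⟶ Spec R := Spec.map (CommRingCat.ofHom (v p))
    let k' : Spec (CommRingCat.of (Q p)) ⟶ Spec (CommRingCat.of (A p.1.1)) :=
      Spec.map (CommRingCat.ofHom (Ideal.Quotient.mk _))
    have hwk : w ≫ h = k' ≫ gi := by
      show Spec.map _ ≫ Spec.map π ≫ _ = Spec.map _ ≫ Spec.map _ ≫ _
      rw [← Spec.map_comp_assoc, ← Spec.map_comp_assoc]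
      rfl
    let q₁ := pullback.fst fR w
    let q₂ := pullback.snd fR w
    let u : pullback fR w ⟶ pullback f gi := pullback.lift (q₁ ≫ pr) (q₂ ≫ k') (by
      rw [Category.assoc, Category.assoc, pullback.condition, ← hwk, reassoc_of% pullback.condition])
    have hu1 : u ≫ pullback.fst f gi = q₁ ≫ pr := pullback.lift_fst ..
    have hu2 : u ≫ pullback.snd f gi = q₂ ≫ k' := pullback.lift_snd ..
    have H : IsPullback u q₂ (pullback.snd f gi) k' := by
      refine IsPullback.of_right ?_ hu2 (IsPullback.of_hasPullback f gi)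
      rw [hu1, ← hwk]
      exact (IsPullback.of_hasPullback fR w).paste_horiz (IsPullback.of_hasPullback f h)
    have : IsLocalHom (CommRingCat.ofHom (Ideal.Quotient.mk
        (IsLocalRing.maximalIdeal (A p.1.1) ^ p.1.2))).hom :=
      IsLocalHom.of_surjective _ Ideal.Quotient.mk_surjective
    have hx' : pullback.fst f gi (u d) = x := by
      have := congrArg (fun ξ : pullback fR w ⟶ X => ξ d) hu1
      exact this.trans ((congrArg pr hd).trans hz)
    have hclosed : pullback.snd f gi (u d) = IsLocalRing.closedPoint (A p.1.1) := by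
      have := congrArg (fun ξ : pullback fR w ⟶ Spec (CommRingCat.of (A p.1.1)) => ξ d) hu2
      exact this.trans ((congrArg k' hclosedd).trans (Spec_closedPoint
        (f := CommRingCat.ofHom (Ideal.Quotient.mk
          (IsLocalRing.maximalIdeal (A p.1.1) ^ p.1.2)))))
    refine (Groth.FlatMorOne.isFlatOverAt_congr _ ((Scheme.Modules.pullbackComp q₁ pr).app F) d).mpr ?_
    exact Groth.FlatMorOne.isFlatOverAt_of_square F H hu1 d (hflat p.1.1 (u d) hx' hclosed)

end Groth.Agent.S4857
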