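import Groth.Statements.S4858
import Groth.Agent.EGA43Topo.QuasiHomeo

set_option autoImplicit false
universe u
open EGA43

open Set TopologicalSpace Topology Groth.EGA43Topo

namespace Groth.Agent.S4858

/-- Conditions a), a′), c), c′) (very dense subsets): for a subset X₀ of a topological space X the
following are equivalent: every nonempty locally closed subset of X meets X₀; every closed subset Z
of X equals the closure of Z ∩ X₀; the map U ↦ U ∩ X₀ is injective on open subsets of X; the map F ↦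
F ∩ X₀ is injective on closed subsets of X. -/
theorem result {X : Type u} [TopologicalSpace X] (X₀ : Set X) :
    [∀ Z : Set X, IsLocallyClosed Z → Z.Nonempty → (Z ∩ X₀).Nonempty,
      ∀ Z : Set X, IsClosed Z → closure (Z ∩ X₀) = Z,
      ∀ U V : Set X, IsOpen U → IsOpen V → U ∩ X₀ = V ∩ X₀ → U = V,
      ∀ F F' : Set X, IsClosed F → IsClosed F' → F ∩ X₀ = F' ∩ X₀ → F = F'].TFAE := by
  tfae_have 1 → 2 := by
    intro h Z hZ
    refine (closure_minimal inter_subset_left hZ).antisymm fun z hz => ?_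
    by_contra hc
    obtain ⟨w, ⟨hwZ, hwc⟩, hw⟩ :=
      h (Z ∩ (closure (Z ∩ X₀))ᶜ) (hZ.isLocallyClosed.inter isClosed_closure.isOpen_compl.isLocallyClosed)
        ⟨z, hz, hc⟩
    exact hwc (subset_closure ⟨hwZ, hw⟩)
  tfae_have 2 → 4 := fun h F F' hF hF' he => (h F hF).symm.trans (he ▸ h F' hF')
  tfae_have 4 → 3 := by
    intro h U V hU hV he
    refine compl_inj_iff.1 (h _ _ hU.isClosed_compl hV.isClosed_compl ?_)
    ext x
    refine ⟨fun hx => ⟨fun hxV => hx.1 (he.symm ▸ ⟨hxV, hx.2⟩ : x ∈ U ∩ X₀).1, hx.2⟩,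
      fun hx => ⟨fun hxU => hx.1 (he ▸ ⟨hxU, hx.2⟩ : x ∈ V ∩ X₀).1, hx.2⟩⟩
  tfae_have 3 → 1 := fun h => IsVeryDense.isLocallyClosed_of_open_inter h
  tfae_finish

end Groth.Agent.S4858
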