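import Groth.Statements.S4859
import Groth.Agent.EGA43Topo.QuasiHomeo

set_option autoImplicit false
universe u
open EGA43

open Set TopologicalSpace Topology Groth.EGA43Topo

namespace Groth.Agent.S4859

/-- Conditions a), a′), b) (quasi-homeomorphisms): for a continuous map f : X₀ → X the following are
equivalent: taking preimages is a bijection from the open subsets of X onto the open subsets of X₀;
taking preimages is a bijection from the closed subsets of X onto the closed subsets of X₀; the
topology of X₀ is induced from X through f and the image f(X₀) is very dense in X, in the sense that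
two open subsets of X with the same trace on f(X₀) coincide. -/
theorem result {X₀ X : Type u} [TopologicalSpace X₀] [TopologicalSpace X]
    (f : X₀ → X) (hf : Continuous f) :
    [Function.Bijective (fun U : TopologicalSpace.Opens X =>
        (⟨f ⁻¹' (U : Set X), U.isOpen.preimage hf⟩ : TopologicalSpace.Opens X₀)),
      Function.Bijective (fun F : TopologicalSpace.Closeds X =>
        (⟨f ⁻¹' (F : Set X), F.isClosed.preimage hf⟩ : TopologicalSpace.Closeds X₀)),
      Topology.IsInducing f ∧
        ∀ U V : Set X, IsOpen U → IsOpen V → U ∩ Set.range f = V ∩ Set.range f → U = V].TFAE := by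
  tfae_have 1 → 2 := by
    intro h
    have hq := QH.of_bijective hf h
    refine ⟨fun F F' he => Closeds.ext (hq.eq_of_preimage_eq (.of_isLocallyClosed F.isClosed.isLocallyClosed)
      (.of_isLocallyClosed F'.isClosed.isLocallyClosed) (congrArg SetLike.coe he)), fun F => ?_⟩
    obtain ⟨G, hG, he⟩ := hq.exists_isClosed F.isClosed
    exact ⟨⟨G, hG⟩, Closeds.ext he⟩
  tfae_have 2 → 3 := by
    intro h
    refine ⟨⟨le_antisymm hf.le_induced ?_⟩, fun U V hU hV he => ?_⟩
    · intro V hV
      obtain ⟨G, hG⟩ := h.2 ⟨Vᶜ, hV.isClosed_compl⟩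
      refine ⟨(G : Set X)ᶜ, G.isClosed.isOpen_compl, ?_⟩
      rw [preimage_compl, show f ⁻¹' (G : Set X) = Vᶜ from congrArg SetLike.coe hG, compl_compl]
    · refine compl_inj_iff.1 (congrArg SetLike.coe
        (h.1 (a₁ := ⟨Uᶜ, hU.isClosed_compl⟩) (a₂ := ⟨Vᶜ, hV.isClosed_compl⟩) (Closeds.ext ?_)))
      show f ⁻¹' Uᶜ = f ⁻¹' Vᶜ
      rw [preimage_compl, preimage_compl, ← preimage_inter_range, he, preimage_inter_range]
  tfae_have 3 → 1 := by
    rintro ⟨hi, hd⟩
    exact QH.bijective ⟨hf, fun U V hU hV he => hd U V hU hV (by
        rw [← image_preimage_eq_inter_range, he, image_preimage_eq_inter_range]),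
      fun V hV => hi.isOpen_iff.1 hV⟩
  tfae_finish

end Groth.Agent.S4859
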