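import Groth.Statements.S4861
import Groth.Agent.Calg2.GDomain


set_option autoImplicit false
universe u
open EGA43

namespace Groth.Agent.S4861

/-- For a Noetherian integral domain B the following are equivalent (and hence equivalent to: the
fraction field of B is a finitely generated B-algebra; the generic point of Spec B is open): a) the
localization B_f is a field for some nonzero f; e) Spec B is finite; f) B is semi-local (finitely
many maximal ideals) of Krull dimension at most 1. -/
theorem result (B : Type u) [CommRing B] [IsDomain B]
    [IsNoetherianRing B] :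
    [∃ f : B, f ≠ 0 ∧ IsField (Localization.Away f),
      Finite (PrimeSpectrum B),
      Finite (MaximalSpectrum B) ∧ ringKrullDim B ≤ 1].TFAE := by
  tfae_have 1 → 2 := by
    rintro ⟨f, hf, h⟩
    exact Groth.Calg2.GDomain.finite_of_forall_mem B f hf
      ((Groth.Calg2.GDomain.isField_away_iff B f hf).1 h)
  tfae_have 2 → 3 := by
    intro h
    refine ⟨Finite.of_injective (fun m : MaximalSpectrum B => m.toPrimeSpectrum)
      MaximalSpectrum.toPrimeSpectrum_injective, ?_⟩
    have := Groth.Calg2.GDomain.krullDimLE_one_of_finite B
    exact_mod_cast (Ring.krullDimLE_iff (n := 1) (R := B)).1 this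
  tfae_have 3 → 1 := by
    rintro ⟨h, hd⟩
    have : Ring.KrullDimLE 1 B := (Ring.krullDimLE_iff (n := 1) (R := B)).2 (by exact_mod_cast hd)
    obtain ⟨f, hf, hall⟩ := Groth.Calg2.GDomain.exists_mem_of_finite_maximal B h
    exact ⟨f, hf, (Groth.Calg2.GDomain.isField_away_iff B f hf).2 hall⟩
  tfae_finish

end Groth.Agent.S4861
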