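import Groth.Statements.S4862
import Groth.Agent.Calg2.IsolatedPoint
import Groth.Agent.S7547
import Mathlib.RingTheory.KrullDimension.Field


set_option autoImplicit false
universe u
open EGA43

namespace Groth.Agent.S4862

/-- For a commutative ring A the following are equivalent: a) A is a Jacobson ring; b) for every prime
ideal p of A which is not maximal and every nonzero f of B = A/p, the localization B_f is not a
field; b′) every finitely generated A-algebra which is a field is a finite A-module. -/
theorem result (A : Type u) [CommRing A] :
    [IsJacobsonRing A,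
      ∀ (p : Ideal A) [p.IsPrime], ¬ p.IsMaximal → ∀ f : A ⧸ p, f ≠ 0 → ¬ IsField (Localization.Away f),
      ∀ (K : Type u) [Field K] [Algebra A K], Algebra.FiniteType A K → Module.Finite A K].TFAE := by
  tfae_have 1 → 3 := fun h K _ _ hK => by
    have := hK
    exact finite_of_finite_type_of_isJacobsonRing A K
  tfae_have 3 → 2 := by
    intro h p _ hp f hf hF
    let K := Localization.Away f
    let _ : Field K := hF.toField
    have : Algebra.FiniteType A K := Algebra.FiniteType.trans (S := A ⧸ p) inferInstance inferInstance
    have h1 : Module.Finite A K := h K this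
    have h2 : Module.Finite (A ⧸ p) K := Module.Finite.of_restrictScalars_finite A (A ⧸ p) K
    have hinj : Function.Injective (algebraMap (A ⧸ p) K) :=
      IsLocalization.injective _ (powers_le_nonZeroDivisors_of_noZeroDivisors hf)
    exact hp (Ideal.Quotient.maximal_of_isField _ (isField_of_isIntegral_of_isField hinj hF))
  tfae_have 2 → 1 := by
    intro h
    rw [PrimeSpectrum.isJacobsonRing_iff_jacobsonSpace]
    by_contra hJ
    obtain ⟨x, hxcl, hxlc⟩ := Groth.Agent.S7547.result hJ
    obtain ⟨f, hf, hall⟩ := Groth.Calg2.IsolatedPoint.exists_mem_of_isLocallyClosed x hxlc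
    have hf' : Ideal.Quotient.mk x.asIdeal f ≠ 0 := fun h => hf (Ideal.Quotient.eq_zero_iff_mem.1 h)
    exact h x.asIdeal (fun hm => hxcl ((PrimeSpectrum.isClosed_singleton_iff_isMaximal x).2 hm)) _ hf'
      ((Groth.Calg2.GDomain.isField_away_iff _ _ hf').2 hall)
  tfae_finish

end Groth.Agent.S4862
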