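import Groth.Statements.S4864
import Groth.Agent.FlatMorOne.FlatLocusBelowScheme

set_option autoImplicit false
universe u
open EGA43

namespace Groth.Agent.S4864

open AlgebraicGeometry CategoryTheory Limits in
/-- Let f : X ⟶ Y and g : Y ⟶ Z be morphisms of finite presentation and F a quasi-coherent O_X-module of
finite presentation. Then the set U of points y of Y such that, for every generization y' of y, F is
(f ≫ g)-flat at every point of X above y', is open in Y. -/
theorem result {X Y Z : Scheme.{u}} (f : X ⟶ Y) (g : Y ⟶ Z)
    [LocallyOfFinitePresentation f] [QuasiCompact f] [QuasiSeparated f]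
    [LocallyOfFinitePresentation g] [QuasiCompact g] [QuasiSeparated g]
    (F : X.Modules) [Coh.IsQCoh F] (hF : CohB1.IsFP F) :
    IsOpen {y : Y | ∀ y' : Y, y' ⤳ y → ∀ x : X, f x = y' → FlatMod.IsFlatOverAt (f ≫ g) F x} := by
  haveI : F.IsQuasicoherent := ‹Coh.IsQCoh F›
  exact Groth.FlatMorOne.isOpen_flat_over_all_generizations f g F hF

end Groth.Agent.S4864
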