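import Groth.Statements.S4865
import Groth.Agent.FlatMorOne.FlatLocusRestrict

set_option autoImplicit false
universe u
open EGA43

namespace Groth.Agent.S4865

/-- Let A be a commutative ring, B a finitely presented A-algebra, C a finitely presented B-algebra and
M a finitely presented C-module. Then the set of prime ideals q of B such that the localized module
M_q (M regarded as a B-module) is flat over A is open in Spec B. -/
theorem result {A B C : Type u} [CommRing A] [CommRing B] [CommRing C]
    [Algebra A B] [Algebra B C] [Algebra A C] [IsScalarTower A B C]
    [Algebra.FinitePresentation A B] [Algebra.FinitePresentation B C]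
    (M : Type u) [AddCommGroup M] [Module C M] [Module B M] [Module A M]
    [IsScalarTower B C M] [IsScalarTower A C M] [IsScalarTower A B M] [Module.FinitePresentation C M] :
    IsOpen {q : PrimeSpectrum B | Module.Flat A (LocalizedModule q.asIdeal.primeCompl M)} := by
  exact Groth.FlatMorOne.isOpen_flatLocus_below C

end Groth.Agent.S4865
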