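import Groth.Statements.S4866
import Mathlib
import Groth.Agent.Ega43FP2.FibreRegularOpen
import Groth.Agent.FlatMorOne.FlatLocusScheme
import Groth.Agent.QCohMod.Affine
import Groth.Agent.SchemeMorphisms.MaxSupp
-- import your own Groth.Agent.* helpers here

set_option autoImplicit false
universe u
open EGA43

namespace Groth.Agent.S4866


open AlgebraicGeometry CategoryTheory Limits in
/-- Let Y be a locally Noetherian scheme, f : X ⟶ Y locally of finite type, F a coherent f-flat
O_X-module and g₁, …, gₙ sections of O_X over X. Then the set of points x of X, with y = f x, such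
that the germs (gᵢ)_x form a weakly regular sequence on the fibre module F_x / m_y F_x (each gᵢ is a
non-zero-divisor on the quotient by the preceding ones; the quotient by all of them may be zero) is
open in X. -/
theorem result {X Y : Scheme.{u}} [IsLocallyNoetherian Y] (f : X ⟶ Y)
    [LocallyOfFiniteType f] (F : X.Modules) (hF : Coh.IsCoh F) (hflat : FlatMod.IsFlatOver f F)
    (n : ℕ) (g : Fin n → Γ(X, ⊤)) :
    IsOpen {x : X |
      RingTheory.Sequence.IsWeaklyRegular
        (↑(F.presheaf.stalk x) ⧸ (Ideal.map (f.stalkMap x).hom (IsLocalRing.maximalIdeal ↑(Y.presheaf.stalk (f x))) •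
          (⊤ : Submodule ↑(X.presheaf.stalk x) ↑(F.presheaf.stalk x))))
        (List.ofFn fun i => (X.presheaf.germ ⊤ x trivial) (g i))} := by
  haveI : F.IsQuasicoherent := hF.1
  haveI : IsLocallyNoetherian X := LocallyOfFiniteType.isLocallyNoetherian f
  rw [isOpen_iff_forall_mem_open]
  intro x₀ hx₀
  obtain ⟨O, hO, hxO, -⟩ := exists_isAffineOpen_mem_and_subset (U := (⊤ : Y.Opens)) (x := f x₀) trivial
  obtain ⟨W, hW, hxW, hWO⟩ := exists_isAffineOpen_mem_and_subset (U := f ⁻¹ᵁ O) (x := x₀) hxO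
  letI : Algebra Γ(Y, O) Γ(X, W) := (f.appLE O W hWO).hom.toAlgebra
  letI := Groth.Flatmor4.sectionModule f F hWO
  haveI : IsScalarTower Γ(Y, O) Γ(X, W) Γ(F, W) := IsScalarTower.of_algebraMap_smul fun _ _ => rfl
  haveI : IsNoetherianRing Γ(Y, O) := IsLocallyNoetherian.component_noetherian ⟨O, hO⟩
  haveI : Algebra.FiniteType Γ(Y, O) Γ(X, W) := f.finiteType_appLE hO hW hWO
  haveI : Module.Finite Γ(X, W) Γ(F, W) := Groth.QCohMod.finite_sections F hF.2 hW
  let gs : List Γ(X, W) := List.ofFn fun i => X.presheaf.map (homOfLE (le_top : W ≤ ⊤)).op (g i)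
  let S : Set (PrimeSpectrum Γ(X, W)) := {q | Module.Flat Γ(Y, O) (TensorProduct Γ(X, W) (Localization.AtPrime q.asIdeal) Γ(F, W)) ∧
    RingTheory.Sequence.IsWeaklyRegular (Groth.Ega43FP2.fibreAt Γ(Y, O) q Γ(F, W)) gs}
  have hS : IsOpen S := Groth.Ega43FP2.isOpen_flat_fibreRegular gs Γ(F, W)
  let j : ↥W → PrimeSpectrum Γ(X, W) := fun w => hW.primeIdealOf w
  have hj : Continuous j := hW.isoSpec.hom.continuous
  have key : ∀ w : ↥W, j w ∈ S ↔ RingTheory.Sequence.IsWeaklyRegular
      (↑(F.presheaf.stalk w.1) ⧸ (Ideal.map (f.stalkMap w.1).hom (IsLocalRing.maximalIdeal ↑(Y.presheaf.stalk (f w.1))) •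
        (⊤ : Submodule ↑(X.presheaf.stalk w.1) ↑(F.presheaf.stalk w.1))))
      (List.ofFn fun i => (X.presheaf.germ ⊤ w.1 trivial) (g i)) := by
    rintro ⟨x, hx⟩
    let q := hW.primeIdealOf ⟨x, hx⟩
    let C := Γ(X, W)
    let Cq := Localization.AtPrime q.asIdeal
    letI := Groth.QCohMod.stalkModule F x hx
    letI : Algebra C (X.presheaf.stalk x) := (X.presheaf.germ W x hx).hom.toAlgebra
    haveI : IsScalarTower C (X.presheaf.stalk x) (F.presheaf.stalk x) := IsScalarTower.of_algebraMap_smul fun _ _ => rfl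
    haveI := Groth.QCohMod.isLocalizedModule_germ F hW x hx
    let e : TensorProduct C Cq Γ(F, W) ≃ₗ[C] F.presheaf.stalk x :=
      ((LocalizedModule.equivTensorProduct q.asIdeal.primeCompl Γ(F, W)).symm.restrictScalars C).trans
        (IsLocalizedModule.iso q.asIdeal.primeCompl (Groth.QCohMod.germₗ F x hx))
    have hflatq : Module.Flat Γ(Y, O) (TensorProduct C Cq Γ(F, W)) :=
      (Module.Flat.equiv_iff ((LocalizedModule.equivTensorProduct q.asIdeal.primeCompl Γ(F, W)).restrictScalars Γ(Y, O))).1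
        ((Groth.FlatMorOne.isFlatOverAt_iff_localized f F hW hO hWO ⟨x, hx⟩).1 (hflat x))
    have hP : q.asIdeal.under Γ(Y, O) = (hO.primeIdealOf ⟨f x, hWO hx⟩).asIdeal := by
      refine congrArg PrimeSpectrum.asIdeal (hO.fromSpec.isEmbedding.injective
        (a₁ := PrimeSpectrum.comap (f.appLE O W hWO).hom q) ?_)
      rw [hO.fromSpec_primeIdealOf]
      show (Spec.map (f.appLE O W hWO) ≫ hO.fromSpec) q = _
      rw [hO.SpecMap_appLE_fromSpec f hW hWO]
      show f (hW.fromSpec q) = _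
      rw [hW.fromSpec_primeIdealOf]
    let : Algebra Γ(Y, O) (Y.presheaf.stalk (f x)) := (Y.presheaf.germ O (f x) (hWO hx)).hom.toAlgebra
    haveI : IsLocalization.AtPrime (Y.presheaf.stalk (f x)) (hO.primeIdealOf ⟨f x, hWO hx⟩).asIdeal :=
      hO.isLocalization_stalk ⟨f x, hWO hx⟩
    have hJ : ((q.asIdeal.under Γ(Y, O)).map (algebraMap Γ(Y, O) C)).map (algebraMap C (X.presheaf.stalk x)) =
        Ideal.map (f.stalkMap x).hom (IsLocalRing.maximalIdeal ↑(Y.presheaf.stalk (f x))) := by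
      rw [hP, ← IsLocalization.AtPrime.map_eq_maximalIdeal (hO.primeIdealOf ⟨f x, hWO hx⟩).asIdeal
        (Y.presheaf.stalk (f x)), Ideal.map_map, Ideal.map_map]
      congr 1
      ext a
      show X.presheaf.germ W x hx (f.appLE O W hWO a) = f.stalkMap x (Y.presheaf.germ O (f x) (hWO hx) a)
      rw [Scheme.Hom.germ_stalkMap_apply]
      exact TopCat.Presheaf.germ_res_apply X.presheaf (homOfLE hWO) x hx _
    let e' : Groth.Ega43FP2.fibreAt Γ(Y, O) q Γ(F, W) ≃ₗ[C] (↑(F.presheaf.stalk x) ⧸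
        (Ideal.map (f.stalkMap x).hom (IsLocalRing.maximalIdeal ↑(Y.presheaf.stalk (f x))) •
          (⊤ : Submodule ↑(X.presheaf.stalk x) ↑(F.presheaf.stalk x)))) :=
      (Submodule.Quotient.equiv _ _ e (by
        rw [Submodule.map_smul'', Submodule.map_top, LinearEquiv.range])).trans
        ((Submodule.quotEquivOfEq _ _ (by rw [← hJ, Groth.EGA41Two.FlatFibre.smul_restrictScalars_eq])).trans
          (Submodule.Quotient.restrictScalarsEquiv C _))
    have hlist : (List.ofFn fun i => (X.presheaf.germ ⊤ x trivial) (g i)) = gs.map (algebraMap C (X.presheaf.stalk x)) := by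
      rw [List.map_ofFn]
      congr 1
      funext i
      exact (TopCat.Presheaf.germ_res_apply X.presheaf (homOfLE (le_top : W ≤ ⊤)) x hx _).symm
    show _ ∧ _ ↔ _
    rw [and_iff_right hflatq, hlist, RingTheory.Sequence.isWeaklyRegular_map_algebraMap_iff]
    exact e'.isWeaklyRegular_congr gs
  refine ⟨Subtype.val '' (j ⁻¹' S), ?_, W.isOpen.isOpenMap_subtype_val _ (hS.preimage hj), ⟨x₀, hxW⟩,
    (key ⟨x₀, hxW⟩).2 hx₀, rfl⟩
  rintro _ ⟨w, hw, rfl⟩
  exact (key w).1 hw

end Groth.Agent.S4866
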