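import Groth.Statements.S4879
import Mathlib
import Groth.Agent.SchDom.Charts
import Groth.Agent.SchDom.StalkChart
import Groth.Agent.SchDom.FibreRegular
import Groth.Agent.Flatmor4.FlatModAffine
import Groth.Agent.Flatmor4.FPSections
import Groth.Agent.Divisors.QCohLoc
import Groth.Agent.QCohMod.PullbackQCoh
-- import your own Groth.Agent.* helpers here

set_option autoImplicit false
universe u
open CategoryTheory AlgebraicGeometry
open EGA43

namespace Groth.Agent.S4879

open scoped TensorProduct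

section Aux

open TopologicalSpace

theorem lTensor_field_injective {R : Type u} [CommRing R] {κ K : Type u} [Field κ] [Field K] [Algebra R κ] [Algebra R K]
    (e : κ →ₐ[R] K) (B : Type u) [AddCommGroup B] [Module R B] : Function.Injective (e.toLinearMap.lTensor B) := by
  let := e.toRingHom.toAlgebra
  have : IsScalarTower R κ K := IsScalarTower.of_algebraMap_eq fun r => (e.commutes r).symm
  obtain ⟨r, hr⟩ := LinearMap.exists_leftInverse_of_injective (Algebra.linearMap κ K)
    (LinearMap.ker_eq_bot.2 (FaithfulSMul.algebraMap_injective κ K))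
  have h : (r.restrictScalars R) ∘ₗ e.toLinearMap = LinearMap.id :=
    LinearMap.ext fun x => LinearMap.congr_fun hr x
  intro x y hxy
  have := congrArg ((r.restrictScalars R).lTensor B) hxy
  rwa [← LinearMap.comp_apply, ← LinearMap.comp_apply, ← LinearMap.lTensor_comp, h, LinearMap.lTensor_id] at this

/-- `(B ⊗ R') ⊗_B M = M ⊗ R'`. -/
noncomputable def fibEquiv {R B M R' : Type u} [CommRing R] [CommRing B] [Algebra R B] [AddCommGroup M] [Module B M]
    [Module R M] [IsScalarTower R B M] [CommRing R'] [Algebra R R'] :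
    (B ⊗[R] R') ⊗[B] M ≃ₗ[B] M ⊗[R] R' :=
  (TensorProduct.comm B (B ⊗[R] R') M).trans (TensorProduct.AlgebraTensorModule.cancelBaseChange R B B M R')

theorem exists_germ_res_zero {P : Scheme.{u}} (F : P.Modules) {V : P.Opens} {y : P} (hy : y ∈ V) (m : Γ(F, V))
    (h : F.presheaf.germ V y hy m = 0) :
    ∃ (V' : P.Opens) (hle : V' ≤ V), y ∈ V' ∧ F.presheaf.map (homOfLE hle).op m = 0 := by
  obtain ⟨V', hyV', i₁, i₂, e⟩ := F.presheaf.germ_eq y hy hy m 0 (h.trans (map_zero _).symm)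
  rw [map_zero] at e
  exact ⟨V', i₁.le, hyV', e⟩

variable {P X : Scheme.{u}} {π : P ⟶ X} {U : X.Opens} {T : CommRingCat.{u}} (a : Spec T ⟶ P) [IsOpenImmersion a]

/-- An element of the chart ring as a section. -/
noncomputable def chartSec (t : T) : Γ(P, a ''ᵁ ⊤) := (a.appIso ⊤).inv ((Scheme.ΓSpecIso T).inv t)

theorem germ_chartSec (Q : Spec T) (hQ : a Q ∈ a ''ᵁ ⊤) (t : T) :
    P.presheaf.germ (a ''ᵁ ⊤) (a Q) hQ (chartSec a t) = Groth.SchDom.chartStalkHom a Q t := by
  apply (asIso (a.stalkMap Q)).commRingCatIsoToRingEquiv.injective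
  show a.stalkMap Q _ = a.stalkMap Q _
  rw [Groth.SchDom.stalkMap_chartStalkHom, Scheme.Hom.germ_stalkMap_apply]
  have := congrArg (fun m => m ((Scheme.ΓSpecIso T).inv t)) (a.appIso_inv_app ⊤)
  simp only [CategoryTheory.comp_apply] at this
  rw [show a.app (a ''ᵁ ⊤) (chartSec a t) = _ from this]
  exact TopCat.Presheaf.germ_res_apply _ _ _ _ _

/-- A fibre-type argument: associated points of the chart lie in the preimage of `U`. -/
theorem mem_of_isAssociatedPrime [IsNoetherianRing T] (F' : P.Modules)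
    (hinj : ∀ V : P.Opens, Function.Injective (F'.presheaf.map (homOfLE (inf_le_left : V ⊓ π ⁻¹ᵁ U ≤ V)).op))
    (Q : Spec T) (ξ : F'.presheaf.stalk (a Q))
    (hnil : ∀ t ∈ Q.asIdeal, ∃ k : ℕ, Groth.SchDom.chartStalkHom a Q t ^ k • ξ = 0) (hξ : ξ ≠ 0) :
    π (a Q) ∈ U := by
  classical
  by_contra hU
  obtain ⟨V, hyV, m, rfl⟩ := TopCat.Presheaf.exists_germ_eq F'.presheaf ξ
  obtain ⟨s, hs⟩ := IsNoetherian.noetherian Q.asIdeal
  have hq : ∀ q : s, q.1 ∈ Q.asIdeal := fun q => hs ▸ Ideal.subset_span q.2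
  choose k hk using fun q : s => hnil q.1 (hq q)
  have hyR : a Q ∈ a ''ᵁ ⊤ := ⟨Q, trivial, rfl⟩
  let V₀ : P.Opens := V ⊓ a ''ᵁ ⊤
  let m₀ : Γ(F', V₀) := F'.presheaf.map (homOfLE inf_le_left).op m
  let σ : s → Γ(P, V₀) := fun q => P.presheaf.map (homOfLE inf_le_right).op (chartSec a q.1) ^ k q
  have hzero : ∀ q : s, F'.presheaf.germ V₀ (a Q) ⟨hyV, hyR⟩ (σ q • m₀) = 0 := fun q => by
    rw [Groth.Divisors.germ_smul_mod, TopCat.Presheaf.germ_res_apply]
    simp only [σ, map_pow, TopCat.Presheaf.germ_res_apply, germ_chartSec]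
    exact hk q
  choose V' hle hyV' hres using fun q => exists_germ_res_zero F' _ _ (hzero q)
  let V'' : P.Opens := V₀ ⊓ Finset.univ.inf V'
  have hle'' : V'' ≤ V₀ := inf_le_left
  have hy'' : a Q ∈ V'' := by
    refine ⟨⟨hyV, hyR⟩, ?_⟩
    show a Q ∈ Finset.univ.inf V'
    refine Finset.inf_induction (p := fun O : P.Opens => a Q ∈ O) trivial (fun _ h₁ _ h₂ => ⟨h₁, h₂⟩) fun q _ => hyV' q
  let m' : Γ(F', V'') := F'.presheaf.map (homOfLE hle'').op m₀
  have hm' : m' = 0 := by
    apply hinj V''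
    rw [map_zero]
    refine TopCat.Presheaf.section_ext ⟨F'.presheaf, F'.isSheaf⟩ _ _ 0 fun z hz => ?_
    erw [map_zero]
    change F'.presheaf.germ (V'' ⊓ π ⁻¹ᵁ U) z hz (F'.presheaf.map _ m') = 0
    rw [TopCat.Presheaf.germ_res_apply]
    obtain ⟨Q', -, hz'⟩ := (hle'' hz.1).2
    have hz'' : a Q' = z := hz'
    clear hz'
    subst hz''
    by_cases hQQ : Q.asIdeal ≤ Q'.asIdeal
    · exact absurd ((((PrimeSpectrum.le_iff_specializes Q Q').mp hQQ).map a.continuous).mem_open
        (π ⁻¹ᵁ U).isOpen hz.2) hU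
    obtain ⟨q, hq⟩ : ∃ q : s, q.1 ∉ Q'.asIdeal := by
      by_contra hall
      push Not at hall
      exact hQQ (hs ▸ Ideal.span_le.2 fun t ht => hall ⟨t, ht⟩)
    let := (Groth.SchDom.chartStalkHom a Q').hom.toAlgebra
    have := Groth.SchDom.isLocalization_chartStalkHom a Q'
    have hu : IsUnit (Groth.SchDom.chartStalkHom a Q' q.1) :=
      IsLocalization.map_units (P.presheaf.stalk (a Q')) (⟨q.1, hq⟩ : Q'.asIdeal.primeCompl)
    have hzV : a Q' ∈ V' q := (Finset.inf_le (Finset.mem_univ q) : Finset.univ.inf V' ≤ V' q) hz.1.2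
    have h0 := congrArg (F'.presheaf.germ (V' q) (a Q') hzV) (hres q)
    rw [map_zero, TopCat.Presheaf.germ_res_apply, Groth.Divisors.germ_smul_mod] at h0
    simp only [σ, map_pow, TopCat.Presheaf.germ_res_apply, germ_chartSec] at h0
    rw [TopCat.Presheaf.germ_res_apply]
    exact (hu.pow (k q)).smul_eq_zero.1 h0
  apply hξ
  have h0 := congrArg (F'.presheaf.germ V'' (a Q) hy'') hm'
  rw [map_zero, TopCat.Presheaf.germ_res_apply, TopCat.Presheaf.germ_res_apply] at h0
  exact h0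

end Aux


open CategoryTheory.Limits in
set_option maxHeartbeats 4000000 in
/-- An element supported outside `U` that is regular on the fibre. -/
theorem exists_regular {X S : Scheme.{u}} (f : X ⟶ S) [LocallyOfFinitePresentation f] (F : X.Modules) [Coh.IsQCoh F]
    (U : X.Opens) {O : S.Opens} (hO : IsAffineOpen O) {W : X.Opens} (hW : IsAffineOpen W) (hWO : W ≤ f ⁻¹ᵁ O)
    (x : X) (hxW : x ∈ W) (hsO : f x ∈ O) (K : Type u) [Field K] (i : Spec (CommRingCat.of K) ⟶ S) (hi : ∀ z, i z = f x)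
    (hinj : ∀ V : (pullback f i).Opens,
      Function.Injective (((Scheme.Modules.pullback (pullback.fst f i)).obj F).presheaf.map
        (homOfLE (inf_le_left : V ⊓ (pullback.fst f i) ⁻¹ᵁ U ≤ V)).op))
    [Algebra Γ(S, O) Γ(X, W)] [Algebra.FinitePresentation Γ(S, O) Γ(X, W)]
    (halg : algebraMap Γ(S, O) Γ(X, W) = (f.appLE O W hWO).hom)
    [Module Γ(S, O) Γ(F, W)] [IsScalarTower Γ(S, O) Γ(X, W) Γ(F, W)] [Module.FinitePresentation Γ(X, W) Γ(F, W)] :
    ∃ hh : Γ(X, W), X.basicOpen hh ≤ U ∧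
      Function.Injective ((Groth.RelS1H.smulHom (M := Γ(F, W)) Γ(S, O) hh).rTensor
        ((hW.primeIdealOf ⟨x, hxW⟩).asIdeal.comap (algebraMap Γ(S, O) Γ(X, W))).ResidueField) := by
    have ha : hW.fromSpec ≫ f = Spec.map (CommRingCat.ofHom (algebraMap Γ(S, O) Γ(X, W))) ≫ hO.fromSpec := by
      rw [halg]
      exact (IsAffineOpen.SpecMap_appLE_fromSpec f hO hW hWO).symm
    let q := hW.primeIdealOf ⟨x, hxW⟩
    let p : Ideal Γ(S, O) := q.asIdeal.comap (algebraMap Γ(S, O) Γ(X, W))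
    have hr : Set.range i ⊆ Set.range hO.fromSpec := by
      rw [hO.range_fromSpec]; rintro _ ⟨z, rfl⟩; rw [hi]; exact hsO
    let l : Spec (CommRingCat.of K) ⟶ Spec Γ(S, O) := IsOpenImmersion.lift hO.fromSpec i hr
    let ρ : Γ(S, O) ⟶ CommRingCat.of K := Spec.preimage l
    let algK : Algebra Γ(S, O) K := ρ.hom.toAlgebra
    have ho : 𝟙 (Spec (CommRingCat.of K)) ≫ i =
        Spec.map (CommRingCat.ofHom (algebraMap Γ(S, O) K)) ≫ hO.fromSpec := by
      rw [Category.id_comp]
      show _ = Spec.map ρ ≫ hO.fromSpec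
      rw [Spec.map_preimage, IsOpenImmersion.lift_fac]
    have hker : ∀ r : Γ(S, O), r ∈ p ↔ algebraMap Γ(S, O) K r = 0 := by
      intro r
      let z : ↥(Spec (CommRingCat.of K)) := IsLocalRing.closedPoint K
      have hz' : (Spec.map ρ) z = (Spec.map (CommRingCat.ofHom (algebraMap Γ(S, O) Γ(X, W)))) q :=
        hO.fromSpec.isOpenEmbedding.injective (by
          rw [← Scheme.Hom.comp_apply, ← Scheme.Hom.comp_apply, ← ha, Spec.map_preimage,
            IsOpenImmersion.lift_fac, Scheme.Hom.comp_apply, hW.fromSpec_primeIdealOf]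
          exact hi _)
      have e : p = z.asIdeal.comap ρ.hom := (congrArg PrimeSpectrum.asIdeal hz').symm
      rw [e, Ideal.mem_comap]
      show ρ.hom r ∈ IsLocalRing.maximalIdeal K ↔ ρ.hom r = 0
      rw [IsLocalRing.maximalIdeal_eq_bot, Ideal.mem_bot]
    let e : p.ResidueField →ₐ[Γ(S, O)] K := Ideal.ResidueField.liftₐ p (Algebra.ofId Γ(S, O) K)
      (fun r hr => RingHom.mem_ker.2 ((hker r).1 hr)) (fun r hr => (Ne.isUnit fun h0 => hr ((hker r).2 h0)))
    let T := Γ(X, W) ⊗[Γ(S, O)] K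
    have : IsNoetherianRing T := by
      have : IsNoetherianRing (K ⊗[Γ(S, O)] Γ(X, W)) := Algebra.FiniteType.isNoetherianRing K _
      exact isNoetherianRing_of_ringEquiv _ (Algebra.TensorProduct.comm Γ(S, O) K Γ(X, W)).toRingEquiv
    let a : Spec (CommRingCat.of T) ⟶ pullback f i :=
      Groth.SchDom.tensorChart Γ(S, O) K f i hO.fromSpec (𝟙 (Spec (CommRingCat.of K))) hW.fromSpec ha ho
    have : IsOpenImmersion a := by unfold a Groth.SchDom.tensorChart; infer_instance
    let ι : Γ(X, W) ⟶ CommRingCat.of T := CommRingCat.ofHom Algebra.TensorProduct.includeLeftRingHom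
    have hw : a ≫ pullback.fst f i = Spec.map ι ≫ hW.fromSpec :=
      Groth.SchDom.tensorChart_fst hW.fromSpec ha ho
    have hass : ∀ Q ∈ associatedPrimes T (T ⊗[Γ(X, W)] Γ(F, W)), ∃ P : PrimeSpectrum Γ(X, W),
        P.asIdeal = Q.comap ι.hom ∧ hW.fromSpec P ∈ U := by
      intro Q hQ
      let Qp : ↥(Spec (CommRingCat.of T)) := ⟨Q, hQ.1⟩
      have : Qp.asIdeal.IsPrime := hQ.1
      have hfst : pullback.fst f i (a Qp) = hW.fromSpec ((Spec.map ι) Qp) := by
        rw [← Scheme.Hom.comp_apply, hw, Scheme.Hom.comp_apply]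
      have hW' : pullback.fst f i (a Qp) ∈ W := by
        rw [hfst]; exact hW.range_fromSpec.subset ⟨_, rfl⟩
      refine ⟨(Spec.map ι) Qp, rfl, hfst ▸ ?_⟩
      obtain ⟨θ⟩ := Groth.SchDom.nonempty_pullStalk_equiv (pullback.fst f i) F hW (a Qp) hW'
      let := Groth.SchDom.secAlg (pullback.fst f i) (a Qp) hW'
      let algT : Algebra T ((pullback f i).presheaf.stalk (a Qp)) :=
        (Groth.SchDom.chartStalkHom a Qp).hom.toAlgebra
      have : IsScalarTower Γ(X, W) T ((pullback f i).presheaf.stalk (a Qp)) :=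
        IsScalarTower.of_algebraMap_eq fun b => Groth.SchDom.chartStalkHom_comp _ a Qp hW ι hw hW' b
      have hloc : IsLocalization.AtPrime ((pullback f i).presheaf.stalk (a Qp))
          Qp.asIdeal := Groth.SchDom.isLocalization_chartStalkHom a Qp
      obtain ⟨hQp, n, hn⟩ := hQ
      let L := (TensorProduct.mk T ((pullback f i).presheaf.stalk (a Qp))
        (T ⊗[Γ(X, W)] Γ(F, W))) 1
      have hL : IsLocalizedModule Qp.asIdeal.primeCompl L := inferInstance
      let ξ := θ (TensorProduct.AlgebraTensorModule.cancelBaseChange Γ(X, W) T ((pullback f i).presheaf.stalk (a Qp)) ((pullback f i).presheaf.stalk (a Qp)) Γ(F, W) (L n))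
      have hmem : ∀ t : T, t ∈ Q ↔ ∃ k : ℕ, t ^ k • n = 0 := fun t => by
        rw [hn]
        simp [Ideal.mem_radical_iff, Submodule.mem_colon_singleton]
      refine mem_of_isAssociatedPrime a _ hinj Qp ξ (fun t ht => ?_) (fun hξ => ?_)
      · obtain ⟨k, hk⟩ := (hmem t).1 ht
        refine ⟨k, ?_⟩
        simp only [ξ]
        rw [← map_smul, ← map_smul, ← map_pow]
        rw [show (Groth.SchDom.chartStalkHom a Qp) (t ^ k) • L n = L (t ^ k • n) from ?_, hk, map_zero, map_zero, map_zero]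
        rw [map_smul]
        exact algebraMap_smul _ (t ^ k) (L n)
      · simp only [ξ, EmbeddingLike.map_eq_zero_iff] at hξ
        obtain ⟨⟨c, hc⟩, hc0⟩ := (IsLocalizedModule.eq_zero_iff Qp.asIdeal.primeCompl L).1 hξ
        exact hc ((hmem c).2 ⟨1, by rw [pow_one]; exact hc0⟩)
    let C : Set (PrimeSpectrum Γ(X, W)) := (hW.fromSpec ⁻¹' (U : Set X))ᶜ
    have hC : IsClosed C := (U.isOpen.preimage hW.fromSpec.continuous).isClosed_compl
    let I : Ideal Γ(X, W) := PrimeSpectrum.vanishingIdeal C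
    have hfin := associatedPrimes.finite T (T ⊗[Γ(X, W)] Γ(F, W))
    obtain ⟨hh, hhI, hhQ⟩ : ∃ hh ∈ I, ∀ Q ∈ associatedPrimes T (T ⊗[Γ(X, W)] Γ(F, W)), ι hh ∉ Q := by
      by_contra hall
      push Not at hall
      have hsub : (I : Set Γ(X, W)) ⊆ ⋃ Q ∈ (hfin.toFinset : Set (Ideal T)), (Q.comap ι.hom : Set Γ(X, W)) := by
        intro b hb
        obtain ⟨Q, hQ, hbQ⟩ := hall b hb
        exact Set.mem_iUnion₂.2 ⟨Q, hfin.mem_toFinset.2 hQ, hbQ⟩
      obtain ⟨Q, hQ, hIQ⟩ := (Ideal.subset_union_prime (f := fun Q : Ideal T => Q.comap ι.hom) (⊤ : Ideal T) (⊤ : Ideal T)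
        fun Q hQ _ _ => by have := (hfin.mem_toFinset.1 hQ).1; exact Ideal.IsPrime.comap _).1 hsub
      obtain ⟨P, hP, hPU⟩ := hass Q (hfin.mem_toFinset.1 hQ)
      have hPC : P ∈ PrimeSpectrum.zeroLocus (I : Set Γ(X, W)) := fun b hb => hP ▸ hIQ hb
      rw [PrimeSpectrum.zeroLocus_vanishingIdeal_eq_closure, hC.closure_eq] at hPC
      exact hPC hPU
    refine ⟨hh, fun w hw => ?_, ?_⟩
    · obtain ⟨P, rfl⟩ : w ∈ Set.range hW.fromSpec := hW.range_fromSpec ▸ (X.basicOpen_le hh hw)
      have hP : P ∈ PrimeSpectrum.basicOpen hh := by rw [← hW.fromSpec_preimage_basicOpen]; exact hw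
      by_contra hwU
      exact hP ((PrimeSpectrum.mem_vanishingIdeal _ _).1 hhI P hwU)
    · have hregT : IsSMulRegular (T ⊗[Γ(X, W)] Γ(F, W)) (ι hh) := by
        intro u v huv
        by_contra hne
        have h' : ι hh ∈ ⋃ Q ∈ associatedPrimes T (T ⊗[Γ(X, W)] Γ(F, W)), (Q : Set T) := by
          rw [biUnion_associatedPrimes_eq_zero_divisors]
          exact ⟨u - v, sub_ne_zero.2 hne, by rw [smul_sub, sub_eq_zero]; exact huv⟩
        obtain ⟨Q, hQ, hmem⟩ := Set.mem_iUnion₂.1 h'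
        exact hhQ Q hQ hmem
      have hregK : ∀ z : Γ(F, W) ⊗[Γ(S, O)] K, hh • z = 0 → z = 0 := by
        intro z hz
        obtain ⟨u, hu'⟩ := (fibEquiv (R := Γ(S, O)) (B := Γ(X, W)) (M := Γ(F, W)) (R' := K)).surjective z
        rw [← hu'] at hz ⊢
        rw [← map_smul, EmbeddingLike.map_eq_zero_iff] at hz
        rw [← algebraMap_smul T hh] at hz
        have hu : u = 0 := hregT (show ι hh • u = ι hh • 0 by rw [smul_zero]; exact hz)
        rw [hu, map_zero]
      rw [injective_iff_map_eq_zero]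
      intro z hz
      rw [Groth.SchDom.smulHom_rTensor_apply] at hz
      apply lTensor_field_injective e Γ(F, W)
      rw [map_zero]
      refine hregK _ ?_
      have : ∀ z, (e.toLinearMap.lTensor Γ(F, W)) (hh • z) = hh • e.toLinearMap.lTensor Γ(F, W) z := fun z => by
        induction z using TensorProduct.induction_on with
        | zero => simp
        | tmul m c => simp [TensorProduct.smul_tmul']
        | add u v hu hv => simp only [smul_add, map_add, hu, hv]
      rw [← this, hz, map_zero]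

open CategoryTheory.Limits in
/-- Let f : X ⟶ S be locally of finite presentation, F a quasi-coherent f-flat O_X-module of finite
presentation, U an open subset of X and u : F → j_*j^*F the canonical map (j : U → X), i.e. the
restriction maps Γ(V, F) → Γ(V ∩ U, F). Then u is universally injective relative to S (the analogous
maps for the pullback of F to X ×_S S' and the preimage of U are injective for every S' ⟶ S) if and
only if u_s is injective for every point s of S (the analogous maps for the pullback of F to the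
fibre X_s and U_s = U ∩ X_s). -/
theorem result {X S : Scheme.{u}} (f : X ⟶ S)
    [LocallyOfFinitePresentation f] (F : X.Modules) [Coh.IsQCoh F] (hF : CohB1.IsFP F)
    (hflat : FlatMod.IsFlatOver f F) (U : X.Opens) :
    (∀ (S' : Scheme.{u}) (g : S' ⟶ S) (V : (↑(pullback f g) : Scheme.{u}).Opens),
      Function.Injective (((Scheme.Modules.pullback (pullback.fst f g)).obj F).presheaf.map
        (homOfLE (inf_le_left : V ⊓ (pullback.fst f g) ⁻¹ᵁ U ≤ V)).op)) ↔
    ∀ (s : S) (V : (↑(f.fiber s) : Scheme.{u}).Opens),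
      Function.Injective (((Scheme.Modules.pullback (f.fiberι s)).obj F).presheaf.map
        (homOfLE (inf_le_left : V ⊓ (f.fiberι s) ⁻¹ᵁ U ≤ V)).op) := by
  refine ⟨fun h s V => h _ (S.fromSpecResidueField s) V, fun h S' g V => ?_⟩
  have hFq : F.IsQuasicoherent := (inferInstance : Coh.IsQCoh F)
  rw [injective_iff_map_eq_zero]
  intro m hm
  let F' := (Scheme.Modules.pullback (pullback.fst f g)).obj F
  refine TopCat.Presheaf.section_ext ⟨((Scheme.Modules.pullback (pullback.fst f g)).obj F).presheaf,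
    ((Scheme.Modules.pullback (pullback.fst f g)).obj F).isSheaf⟩ V m 0 fun y hy => ?_
  erw [map_zero]
  change ((Scheme.Modules.pullback (pullback.fst f g)).obj F).presheaf.germ V y hy m = 0
  by_cases hyU : y ∈ (pullback.fst f g) ⁻¹ᵁ U
  · have := congrArg (F'.presheaf.germ (V ⊓ (pullback.fst f g) ⁻¹ᵁ U) y ⟨hy, hyU⟩) hm
    rwa [TopCat.Presheaf.germ_res_apply, map_zero] at this
  set x := pullback.fst f g y with hxdef
  obtain ⟨O, hO, hsO, -⟩ := exists_isAffineOpen_mem_and_subset (U := (⊤ : S.Opens)) (x := f x) trivial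
  obtain ⟨W, hW, hxW, hWO⟩ := exists_isAffineOpen_mem_and_subset (U := f ⁻¹ᵁ O) (x := x) hsO
  obtain ⟨O', hO', hyO', hO'O⟩ := exists_isAffineOpen_mem_and_subset (U := g ⁻¹ᵁ O) (x := pullback.snd f g y) (by
    show g (pullback.snd f g y) ∈ O
    rw [← Scheme.Hom.comp_apply, ← pullback.condition, Scheme.Hom.comp_apply]
    exact hsO)
  let : Algebra Γ(S, O) Γ(X, W) := (f.appLE O W hWO).hom.toAlgebra
  let : Algebra Γ(S, O) Γ(S', O') := (g.appLE O O' hO'O).hom.toAlgebra
  let := Groth.Flatmor4.sectionModule f F hWO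
  have : IsScalarTower Γ(S, O) Γ(X, W) Γ(F, W) := IsScalarTower.of_algebraMap_smul fun _ _ => rfl
  have : Algebra.FinitePresentation Γ(S, O) Γ(X, W) :=
    f.finitePresentation_appLE hO hW hWO
  have : Module.FinitePresentation Γ(X, W) Γ(F, W) := Groth.Flatmor4.finitePresentation_sections_of_isFP F hF hW
  have : Module.Flat Γ(S, O) Γ(F, W) :=
    (Groth.Flatmor4.flat_sections_iff f F hW hO hWO).2 fun z _ => hflat z
  have ha : hW.fromSpec ≫ f = Spec.map (CommRingCat.ofHom (algebraMap Γ(S, O) Γ(X, W))) ≫ hO.fromSpec :=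
    (IsAffineOpen.SpecMap_appLE_fromSpec f hO hW hWO).symm
  let q := hW.primeIdealOf ⟨x, hxW⟩
  let p : Ideal Γ(S, O) := q.asIdeal.comap (algebraMap Γ(S, O) Γ(X, W))
  -- an element regular on the fibre, supported outside `U`
  obtain ⟨hh, hhU, hreg⟩ := exists_regular f F U hO hW hWO x hxW hsO (S.residueField (f x))
    (S.fromSpecResidueField (f x)) (fun z => Scheme.fromSpecResidueField_apply _ z) (h (f x)) rfl
  -- the chart at `y`
  have ho : hO'.fromSpec ≫ g = Spec.map (CommRingCat.ofHom (algebraMap Γ(S, O) Γ(S', O'))) ≫ hO.fromSpec :=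
    (IsAffineOpen.SpecMap_appLE_fromSpec g hO hO' hO'O).symm
  let a := Groth.SchDom.tensorChart Γ(S, O) Γ(S', O') f g hO.fromSpec hO'.fromSpec hW.fromSpec ha ho
  have : IsOpenImmersion a := by unfold a Groth.SchDom.tensorChart; infer_instance
  let ι : Γ(X, W) ⟶ CommRingCat.of (Γ(X, W) ⊗[Γ(S, O)] Γ(S', O')) :=
    CommRingCat.ofHom Algebra.TensorProduct.includeLeftRingHom
  have hw : a ≫ pullback.fst f g = Spec.map ι ≫ hW.fromSpec := Groth.SchDom.tensorChart_fst hW.fromSpec ha ho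
  obtain ⟨Q, hQy⟩ : y ∈ Set.range a := by
    rw [Groth.SchDom.range_tensorChart, hW.range_fromSpec, hO'.range_fromSpec]
    exact ⟨hxW, hyO'⟩
  subst hQy
  obtain ⟨θ⟩ := Groth.SchDom.nonempty_pullStalk_equiv (pullback.fst f g) F hW (a Q) hxW
  let := Groth.SchDom.secAlg (pullback.fst f g) (a Q) hxW
  let algT : Algebra (Γ(X, W) ⊗[Γ(S, O)] Γ(S', O')) ((pullback f g).presheaf.stalk (a Q)) :=
    (Groth.SchDom.chartStalkHom a Q).hom.toAlgebra
  have : IsScalarTower Γ(X, W) (Γ(X, W) ⊗[Γ(S, O)] Γ(S', O')) ((pullback f g).presheaf.stalk (a Q)) :=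
    IsScalarTower.of_algebraMap_eq fun b => Groth.SchDom.chartStalkHom_comp _ a Q hW ι hw hxW b
  have hloc : IsLocalization.AtPrime ((pullback f g).presheaf.stalk (a Q)) Q.asIdeal :=
    Groth.SchDom.isLocalization_chartStalkHom a Q
  have : Module.Flat (Γ(X, W) ⊗[Γ(S, O)] Γ(S', O')) ((pullback f g).presheaf.stalk (a Q)) :=
    IsLocalization.flat _ Q.asIdeal.primeCompl
  -- regularity on the stalk
  have hstalk : ∀ ξ : F'.presheaf.stalk (a Q),
      (pullback.fst f g).stalkMap (a Q) (X.presheaf.germ W _ hxW hh) • ξ = 0 → ξ = 0 := by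
    intro ξ hξ
    obtain ⟨w, rfl⟩ := θ.surjective ξ
    rw [← map_smul, EmbeddingLike.map_eq_zero_iff] at hξ
    rw [Groth.SchDom.eq_zero_of_smul_eq_zero (T := Γ(X, W) ⊗[Γ(S, O)] Γ(S', O')) hh (fun z hz => ?_) w hξ, map_zero]
    rw [algebraMap_smul] at hz
    obtain ⟨c, hc, hc0⟩ := Groth.SchDom.exists_kill_of_fibre_regular hh q.asIdeal p rfl hreg Γ(S', O')
      (fibEquiv z) (by rw [← map_smul, hz, map_zero])
    refine ⟨c, ?_, fibEquiv.injective (by rw [map_smul, hc0, map_zero])⟩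
    exact ((Groth.Divisors.isUnit_germ_iff hW hxW c).2 hc).map ((pullback.fst f g).stalkMap (a Q)).hom
  -- killed by a power near `a Q`
  obtain ⟨V'', hV'', hyV'', hV''le⟩ := exists_isAffineOpen_mem_and_subset
    (U := V ⊓ (pullback.fst f g) ⁻¹ᵁ W) (x := a Q) ⟨hy, hxW⟩
  have hle1 : V'' ≤ V := fun z hz => (hV''le hz).1
  have hle2 : V'' ≤ (pullback.fst f g) ⁻¹ᵁ W := fun z hz => (hV''le hz).2
  let h'' : Γ(pullback f g, V'') :=
    (pullback f g).presheaf.map (homOfLE hle2).op ((pullback.fst f g).app W hh)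
  have hbo : (pullback f g).basicOpen h'' ≤ V ⊓ (pullback.fst f g) ⁻¹ᵁ U := by
    intro z hz
    refine ⟨hle1 ((pullback f g).basicOpen_le h'' hz), ?_⟩
    have hz' : z ∈ (pullback f g).basicOpen ((pullback.fst f g).app W hh) := by
      simp only [h'', Scheme.basicOpen_res] at hz
      exact hz.2
    rw [← Scheme.preimage_basicOpen] at hz'
    exact hhU hz'
  have hres : F'.presheaf.map (homOfLE ((pullback f g).basicOpen_le h'')).op
      (F'.presheaf.map (homOfLE hle1).op m) = 0 := by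
    have e := congrArg (F'.presheaf.map (homOfLE hbo).op) hm
    rw [map_zero, Groth.Divisors.res_res_mod] at e
    rw [Groth.Divisors.res_res_mod]
    exact e
  obtain ⟨n, hn⟩ := Groth.Divisors.exists_pow_smul_eq_zero hV'' (inferInstance : Coh.IsQCoh F') h''
    (F'.presheaf.map (homOfLE hle1).op m) hres
  have e := congrArg (F'.presheaf.germ V'' (a Q) hyV'') hn
  rw [map_zero, Groth.Divisors.germ_smul_mod, map_pow, TopCat.Presheaf.germ_res_apply,
    TopCat.Presheaf.germ_res_apply] at e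
  have hg : (pullback f g).presheaf.germ ((pullback.fst f g) ⁻¹ᵁ W) (a Q) hxW ((pullback.fst f g).app W hh) =
      (pullback.fst f g).stalkMap (a Q) (X.presheaf.germ W _ hxW hh) :=
    (Scheme.Hom.germ_stalkMap_apply (pullback.fst f g) W (a Q) hxW hh).symm
  rw [hg] at e
  have key : ∀ n : ℕ, ∀ ξ : F'.presheaf.stalk (a Q),
      (pullback.fst f g).stalkMap (a Q) (X.presheaf.germ W _ hxW hh) ^ n • ξ = 0 → ξ = 0 := by
    intro n
    induction n with
    | zero => intro ξ hξ; rwa [pow_zero, one_smul] at hξ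
    | succ n ih => intro ξ hξ; rw [pow_succ, mul_smul] at hξ; exact hstalk ξ (ih _ hξ)
  exact key n _ e

end Groth.Agent.S4879
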