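import Groth.Statements.S4871
import Mathlib
import Groth.Agent.S4879
import Groth.Agent.PicAux.Pullback
import Groth.Agent.QCohMod.Category
import Groth.Agent.QCohMod.ExtendFP
import Groth.Agent.Misc13.FlatBC
-- import your own Groth.Agent.* helpers here

set_option autoImplicit false
universe u
open CategoryTheory AlgebraicGeometry
open EGA43

namespace Groth.Agent.S4871

theorem injective_res_of_iso {P : Scheme.{u}} {M N : P.Modules} (e : M ≅ N) {V W : P.Opens} (h : W ≤ V)
    (hM : Function.Injective (M.presheaf.map (homOfLE h).op)) : Function.Injective (N.presheaf.map (homOfLE h).op) := by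
  intro a b hab
  have hinj : Function.Injective (e.inv.app V) := Function.LeftInverse.injective
    (g := e.hom.app V) fun x => congr(($(e.inv_hom_id)).app V x)
  apply hinj
  apply hM
  have nat : ∀ x, M.presheaf.map (homOfLE h).op (e.inv.app V x) = e.inv.app W (N.presheaf.map (homOfLE h).op x) :=
    fun x => ((Scheme.Modules.Hom.mapPresheaf e.inv).naturality_apply (homOfLE h).op x).symm
  rw [nat, nat, hab]

theorem injective_res_unit_iff {P Q : Scheme.{u}} (π : P ⟶ Q) {V W : P.Opens} (h : W ≤ V) :
    Function.Injective (((Scheme.Modules.pullback π).obj (Coh.structureModule Q)).presheaf.map (homOfLE h).op) ↔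
      Function.Injective (P.presheaf.map (homOfLE h).op) := by
  have := Groth.PicAux.isIso_pullUnit π
  exact ⟨fun hM => injective_res_of_iso (asIso (Groth.PicAux.pullUnit π)) h hM,
    fun hN => injective_res_of_iso (asIso (Groth.PicAux.pullUnit π)).symm h hN⟩


open CategoryTheory.Limits in
/-- Let f : X ⟶ S be flat and locally of finite presentation and U an open subscheme of X. Then U is
universally schematically dense in X relative to S, i.e. for every base change S' ⟶ S the preimage
of U in X ×_S S' is schematically dense, if and only if for every point s of S the trace U_s of U on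
the fibre X_s is schematically dense in X_s. -/
theorem result {X S : Scheme.{u}} (f : X ⟶ S) [Flat f]
    [LocallyOfFinitePresentation f] (U : X.Opens) :
    (∀ (S' : Scheme.{u}) (g : S' ⟶ S), CInt.IsSchematicallyDense ((pullback.fst f g) ⁻¹ᵁ U)) ↔
      ∀ s : S, CInt.IsSchematicallyDense ((f.fiberι s) ⁻¹ᵁ U) := by
  have : Coh.IsQCoh (Coh.structureModule X) := Groth.QCohMod.isQCoh_unit X
  have : (Coh.structureModule X).IsQuasicoherent := Groth.QCohMod.isQCoh_unit X
  have hFP : CohB1.IsFP (Coh.structureModule X) := Groth.LocFree.isFP_of_affine_cover _ fun x => by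
    obtain ⟨A, hA, hxA, -⟩ := exists_isAffineOpen_mem_and_subset (U := (⊤ : X.Opens)) (x := x) trivial
    exact ⟨A, hA, hxA, (inferInstance : Module.FinitePresentation Γ(X, A) Γ(X, A))⟩
  have hflat : FlatMod.IsFlatOver f (Coh.structureModule X) := fun x =>
    (Groth.Misc13.FlatBC.flat_stalkMap_iff_structure f x).2 (Flat.stalkMap f x)
  have key := Groth.Agent.S4879.result f (Coh.structureModule X) hFP hflat U
  constructor
  · intro h s V
    exact h _ (S.fromSpecResidueField s) V
  · intro h S' g V
    exact (injective_res_unit_iff _ _).1 ((key.2 fun s V => (injective_res_unit_iff _ _).2 (h s V)) S' g V)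

end Groth.Agent.S4871
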