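import Groth.Statements.S4872
import Mathlib
import Groth.Agent.SchDom.Charts
-- import your own Groth.Agent.* helpers here

set_option autoImplicit false
universe u
open CategoryTheory AlgebraicGeometry
open EGA43

namespace Groth.Agent.S4872


/-- Conditions b), c), d) (schematically dominant families): let p : X ⟶ S be a morphism and (f_i : Z_i
⟶ X) a family of morphisms. The following are equivalent: b) for every open V of X, a section of O_X
over V whose images in all the Γ(f_i⁻¹(V), O_{Z_i}) are zero is zero; c) for every open U of X, a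
closed immersion j : Y ⟶ U through which each restriction f_i⁻¹(U) ⟶ U factors is an isomorphism; d)
for every separated S-scheme X', every open U of X and every pair of S-morphisms u, v : U ⟶ X'
having the same composite with each f_i⁻¹(U) ⟶ U, one has u = v. -/
theorem result {X S : Scheme.{u}} (p : X ⟶ S) {ι : Type u} (Z : ι → Scheme.{u})
    (f : ∀ i, Z i ⟶ X) :
    [(∀ (V : (X).Opens) (t : Γ(X, V)), (∀ i, (f i).app V t = 0) → t = 0),
      ∀ (U : X.Opens) (Y : Scheme.{u}) (j : Y ⟶ (U : Scheme.{u})), IsClosedImmersion j →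
        (∀ i, ∃ g : ((f i) ⁻¹ᵁ U : Scheme.{u}) ⟶ Y, g ≫ j = (f i) ∣_ U) → IsIso j,
      ∀ (X' : Scheme.{u}) (q : X' ⟶ S), IsSeparated q → ∀ (U : X.Opens) (u v : (U : Scheme.{u}) ⟶ X'),
        u ≫ q = U.ι ≫ p → v ≫ q = U.ι ≫ p → (∀ i, ((f i) ∣_ U) ≫ u = ((f i) ∣_ U) ≫ v) → u = v].TFAE := by
  tfae_have 1 → 2 := by
    intro h U Y j hj hfac
    rw [IsClosedImmersion.isIso_iff_ker_eq_bot, eq_bot_iff]
    intro W s hs
    rw [Scheme.Hom.ker_apply, RingHom.mem_ker] at hs
    show s ∈ (⊥ : Ideal _)
    rw [Ideal.mem_bot]
    refine h (U.ι ''ᵁ W.1) s fun i => ?_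
    obtain ⟨g, hg⟩ := hfac i
    have e : ∀ m : ((f i) ⁻¹ᵁ U : Scheme.{u}) ⟶ U, m = g ≫ j → m.app W.1 s = 0 := by
      intro m hm
      subst hm
      show g.app _ (j.app W.1 s) = 0
      exact (congrArg (g.app (j ⁻¹ᵁ W.1)).hom hs).trans (map_zero _)
    have h1 := e _ hg.symm
    rw [morphismRestrict_app] at h1
    exact (ConcreteCategory.bijective_of_isIso
      (CategoryTheory.Functor.map (Z i).presheaf (eqToHom (image_morphismRestrict_preimage (f i) U W.1)).op)).1
      (h1.trans (map_zero _).symm)
  tfae_have 2 → 3 := by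
    intro h X' q _ U u v hu hv huv
    let uv : (U : Scheme.{u}) ⟶ Limits.pullback q q := Limits.pullback.lift u v (hu.trans hv.symm)
    let j := Limits.pullback.fst uv (Limits.pullback.diagonal q)
    have hj : IsClosedImmersion j := MorphismProperty.pullback_fst _ _ IsSeparated.isClosedImmersion_diagonal
    have : IsIso j := h U _ j hj fun i => ⟨Limits.pullback.lift ((f i) ∣_ U) (((f i) ∣_ U) ≫ u)
      (by apply Limits.pullback.hom_ext <;> simp [uv, Limits.pullback.lift_fst, Limits.pullback.lift_snd, huv i]), Limits.pullback.lift_fst _ _ _⟩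
    rw [← cancel_epi j]
    have hc : j ≫ uv = Limits.pullback.snd uv (Limits.pullback.diagonal q) ≫ Limits.pullback.diagonal q :=
      Limits.pullback.condition
    have h1 : j ≫ u = Limits.pullback.snd uv (Limits.pullback.diagonal q) := by
      have := congrArg (fun m => m ≫ Limits.pullback.fst q q) hc
      simp only [Category.assoc, Limits.pullback.diagonal_fst, Category.comp_id] at this
      rwa [show uv ≫ Limits.pullback.fst q q = u from Limits.pullback.lift_fst _ _ _] at this
    have h2 : j ≫ v = Limits.pullback.snd uv (Limits.pullback.diagonal q) := by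
      have := congrArg (fun m => m ≫ Limits.pullback.snd q q) hc
      simp only [Category.assoc, Limits.pullback.diagonal_snd, Category.comp_id] at this
      rwa [show uv ≫ Limits.pullback.snd q q = v from Limits.pullback.lift_snd _ _ _] at this
    exact h1.trans h2.symm
  tfae_have 3 → 1 := by
    intro h V t ht
    let s : Γ((V : Scheme.{u}), ⊤) := V.topIso.inv t
    let A := AffineSpace PUnit.{u + 1} S
    let u : (V : Scheme.{u}) ⟶ A := AffineSpace.homOfVector (V.ι ≫ p) (fun _ => s)
    let v : (V : Scheme.{u}) ⟶ A := AffineSpace.homOfVector (V.ι ≫ p) (fun _ => 0)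
    have hsep : IsSeparated (A ↘ S) := inferInstance
    have hz : ∀ i, ((f i) ∣_ V).appTop s = 0 := by
      intro i
      rw [morphismRestrict_appTop]
      show (Z i).presheaf.map _ ((f i).app (V.ι ''ᵁ ⊤) s) = 0
      have : (f i).app (V.ι ''ᵁ ⊤) s = 0 := by
        have hV : V.ι ''ᵁ ⊤ ≤ V := Scheme.Opens.ι_image_le _ _
        have e : s = X.presheaf.map (homOfLE hV).op t := rfl
        rw [e, Groth.SchDom.app_res (f i) hV, ht, map_zero]
      exact (congrArg _ this).trans (map_zero _)
    have huv : u = v := by
      refine h A (A ↘ S) hsep V u v (AffineSpace.homOfVector_over _ _) (AffineSpace.homOfVector_over _ _) fun i => ?_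
      rw [AffineSpace.comp_homOfVector, AffineSpace.comp_homOfVector]
      congr 1
      funext _
      exact (hz i).trans (map_zero _).symm
    have hs : s = 0 := by
      have := congrArg (fun m : (V : Scheme.{u}) ⟶ A => m.appTop (AffineSpace.coord S PUnit.unit)) huv
      exact (AffineSpace.homOfVector_appTop_coord (V.ι ≫ p) (fun _ => s) PUnit.unit).symm.trans
        (this.trans (AffineSpace.homOfVector_appTop_coord (V.ι ≫ p) (fun _ => 0) PUnit.unit))
    exact V.topIso.commRingCatIsoToRingEquiv.symm.injective (hs.trans (map_zero _).symm)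
  tfae_finish

end Groth.Agent.S4872
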