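import Groth.Statements.S4873
import Mathlib
-- import your own Groth.Agent.* helpers here

set_option autoImplicit false
universe u
open CategoryTheory AlgebraicGeometry
open EGA43

namespace Groth.Agent.S4873


/-- Let (f_i : Z_i ⟶ X) be a family of morphisms. If the family is schematically dominant, i.e. a
section of O_X over an open V whose pullback to every f_i⁻¹(V) vanishes is zero, then the union of
the images f_i(Z_i) is dense in X. Conversely, if X is reduced and this union is dense, the family
is schematically dominant. -/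
theorem result {X : Scheme.{u}} {ι : Type u} (Z : ι → Scheme.{u})
    (f : ∀ i, Z i ⟶ X) :
    ((∀ (V : (X).Opens) (t : Γ(X, V)), (∀ i, (f i).app V t = 0) → t = 0) → Dense (⋃ i, Set.range (f i))) ∧
    (IsReduced X → Dense (⋃ i, Set.range (f i)) → (∀ (V : (X).Opens) (t : Γ(X, V)), (∀ i, (f i).app V t = 0) → t = 0)) := by
  constructor
  · intro h
    rw [dense_iff_inter_open]
    intro U hU hne
    by_contra hemp
    obtain ⟨x, hx⟩ := hne
    let V : X.Opens := ⟨U, hU⟩
    have : (1 : Γ(X, V)) = 0 := h V 1 fun i => by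
      have hbot : (f i) ⁻¹ᵁ V = ⊥ := TopologicalSpace.Opens.ext (Set.eq_empty_iff_forall_notMem.2 fun z hz =>
        hemp ⟨f i z, hz, Set.mem_iUnion.2 ⟨i, z, rfl⟩⟩)
      have : Subsingleton Γ(Z i, (f i) ⁻¹ᵁ V) := by
        rw [hbot]; exact CommRingCat.subsingleton_of_isTerminal (Z i).sheaf.isTerminalOfEmpty
      exact Subsingleton.elim _ _
    have h1 := congrArg (X.presheaf.germ V x hx) this
    rw [map_one, map_zero] at h1
    exact one_ne_zero h1
  · intro _ hd V t ht
    rw [← basicOpen_eq_bot_iff]
    refine TopologicalSpace.Opens.ext (Set.eq_empty_iff_forall_notMem.2 fun x hx => ?_)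
    obtain ⟨y, hy, hy'⟩ := hd.inter_open_nonempty _ (X.basicOpen t).isOpen ⟨x, hx⟩
    obtain ⟨i, z, rfl⟩ := Set.mem_iUnion.1 hy'
    have : z ∈ (f i) ⁻¹ᵁ X.basicOpen t := hy
    rw [Scheme.preimage_basicOpen, ht i, Scheme.basicOpen_zero] at this
    exact this

end Groth.Agent.S4873
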