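import Groth.Statements.S4874
import Mathlib
import Groth.Agent.SchDom.Charts
-- import your own Groth.Agent.* helpers here

set_option autoImplicit false
universe u
open CategoryTheory AlgebraicGeometry
open EGA43

namespace Groth.Agent.S4874


/-- Let (f_i : Z_i ⟶ X) be a family of morphisms, g : X' ⟶ X a faithfully flat morphism and f'_i : Z_i
×_X X' ⟶ X' the base changes. If the family (f'_i) is schematically dominant, then so is the family
(f_i). (Schematically dominant: a section of the structure sheaf over an open whose pullback along
every member of the family vanishes is zero.) -/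
theorem result {X X' : Scheme.{u}} {ι : Type u} (Z : ι → Scheme.{u})
    (f : ∀ i, Z i ⟶ X) (g : X' ⟶ X) [Flat g] [Surjective g]
    (h : (∀ (V : (X').Opens) (t : Γ(X', V)), (∀ i, (Limits.pullback.snd (f i) g).app V t = 0) → t = 0)) :
    (∀ (V : (X).Opens) (t : Γ(X, V)), (∀ i, (f i).app V t = 0) → t = 0) := by
  intro V t ht
  have h0 : g.app V t = 0 := by
    refine h _ _ fun i => ?_
    exact Groth.SchDom.chain_zero (U := V) (t := t) (c := Limits.pullback.snd (f i) g) (f := g)
      Limits.pullback.condition.symm (by rw [ht, map_zero])
  refine TopCat.Presheaf.section_ext X.sheaf V t 0 fun x hx => ?_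
  rw [map_zero]
  obtain ⟨y, rfl⟩ := g.surjective x
  have hmem : y ∈ g ⁻¹ᵁ V := hx
  have hinj : Function.Injective (g.stalkMap y) := by
    let := (g.stalkMap y).hom.toAlgebra
    have : Module.Flat (X.presheaf.stalk (g y)) (X'.presheaf.stalk y) := Flat.stalkMap g y
    have : IsLocalHom (algebraMap (X.presheaf.stalk (g y)) (X'.presheaf.stalk y)) :=
      inferInstanceAs (IsLocalHom (g.stalkMap y).hom)
    have : Module.FaithfullyFlat (X.presheaf.stalk (g y)) (X'.presheaf.stalk y) :=
      Module.FaithfullyFlat.of_flat_of_isLocalHom
    exact FaithfulSMul.algebraMap_injective _ _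
  apply hinj
  refine ((Scheme.Hom.germ_stalkMap_apply g V y hx t).trans ?_).trans (map_zero (g.stalkMap y).hom).symm
  rw [h0, map_zero]

end Groth.Agent.S4874
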