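import Groth.Statements.S4875
import Mathlib
import Groth.Agent.SchDom.Charts
-- import your own Groth.Agent.* helpers here

set_option autoImplicit false
universe u
open CategoryTheory AlgebraicGeometry
open EGA43

namespace Groth.Agent.S4875


/-- Let (f_i : Z_i ⟶ X) be a schematically dominant family of morphisms and g : X' ⟶ X a flat morphism
locally of finite presentation. Then the family of base changes f'_i : Z_i ×_X X' ⟶ X' is
schematically dominant. (No quasi-compactness of the f_i and no finiteness of the family is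
assumed.) -/
theorem result {X X' : Scheme.{u}} {ι : Type u} (Z : ι → Scheme.{u})
    (f : ∀ i, Z i ⟶ X) (g : X' ⟶ X) [Flat g] [LocallyOfFinitePresentation g]
    (h : (∀ (V : (X).Opens) (t : Γ(X, V)), (∀ i, (f i).app V t = 0) → t = 0)) :
    (∀ (V : (X').Opens) (t : Γ(X', V)), (∀ i, (Limits.pullback.snd (f i) g).app V t = 0) → t = 0) := by
  refine Groth.SchDom.sd_of_dom_spec fun x => ?_
  obtain ⟨y, hy⟩ := X.affineOpenCover.covers (g x)
  let B := X.affineOpenCover.X (X.affineOpenCover.idx (g x))
  let a : Spec B ⟶ X := X.affineOpenCover.f (X.affineOpenCover.idx (g x))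
  have : IsOpenImmersion a := inferInstance
  obtain ⟨A, a', ρ, _, hxa, ha⟩ := Groth.SchDom.exists_chart_at g a x ⟨y, hy⟩
  choose J C c φ hc hcov using fun i => Groth.SchDom.exists_charts (f i) a
  let : Algebra B A := ρ.hom.toAlgebra
  let : ∀ j : Σ i, J i, Algebra B (C j.1 j.2) := fun j => (φ j.1 j.2).hom.toAlgebra
  have hflat : Flat (a' ≫ g) := inferInstance
  have hlfp : LocallyOfFinitePresentation (a' ≫ g) := inferInstance
  rw [ha] at hflat hlfp
  have h2 : Flat (Spec.map ρ) :=
    MorphismProperty.of_postcomp (W := @Flat) (W' := @IsOpenImmersion) _ a inferInstance hflat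
  have h3 : LocallyOfFinitePresentation (Spec.map ρ) :=
    MorphismProperty.of_postcomp (W := @LocallyOfFinitePresentation) (W' := @IsOpenImmersion) _ a inferInstance hlfp
  have : Module.Flat B A := Flat.SpecMap_iff.mp h2
  have : Algebra.FinitePresentation B A := (LocallyOfFinitePresentation.SpecMap_iff ρ).mp h3
  have hB : Groth.SchDom.Dom fun j : Σ i, J i => algebraMap B (C j.1 j.2) :=
    Groth.SchDom.dom_of_sd_spec h a Sigma.fst (C := fun j : Σ i, J i => C j.1 j.2) (fun j => φ j.1 j.2)
      (fun j => c j.1 j.2) (fun j => (hc j.1 j.2).1) (fun j => (hc j.1 j.2).2) fun i z hz => by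
      obtain ⟨j, hj⟩ := hcov i z hz
      exact ⟨⟨i, j⟩, rfl, by simp only [eqToHom_refl, Category.comp_id]; exact hj⟩
  let c' : ∀ j : Σ i, J i, Spec (CommRingCat.of (TensorProduct B (C j.1 j.2) A)) ⟶ Limits.pullback (f j.1) g :=
    fun j => Groth.SchDom.tensorChart B A (f j.1) g a a' (c j.1 j.2) (hc j.1 j.2).2 ha
  refine ⟨A, a', inferInstance, (Σ i, J i), Sigma.fst,
    fun j => CommRingCat.of (TensorProduct B (C j.1 j.2) A),
    fun j => CommRingCat.ofHom (Algebra.TensorProduct.includeRight : A →ₐ[B] TensorProduct B (C j.1 j.2) A).toRingHom,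
    c', fun j => Groth.SchDom.tensorChart_snd _ _ _, hxa, ?_⟩
  exact (Groth.SchDom.Dom.tensor_flat hB A).of_injective (RingHom.id A) Function.injective_id
    (fun j => (Algebra.TensorProduct.comm B (C j.1 j.2) A).toRingEquiv.toRingHom) fun j b => by simp

end Groth.Agent.S4875
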