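import Groth.Statements.S4876
import Mathlib
import Groth.Agent.SchDom.Charts
-- import your own Groth.Agent.* helpers here

set_option autoImplicit false
universe u
open CategoryTheory AlgebraicGeometry
open EGA43

namespace Groth.Agent.S4876

open TensorProduct in
theorem lTensor_field_injective {R : Type u} [CommRing R] {κ K : Type u} [Field κ] [Field K] [Algebra R κ] [Algebra R K]
    (e : κ →ₐ[R] K) (B : Type u) [AddCommGroup B] [Module R B] : Function.Injective (e.toLinearMap.lTensor B) := by
  let := e.toRingHom.toAlgebra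
  have : IsScalarTower R κ K := IsScalarTower.of_algebraMap_eq fun r => (e.commutes r).symm
  obtain ⟨r, hr⟩ := LinearMap.exists_leftInverse_of_injective (Algebra.linearMap κ K)
    (LinearMap.ker_eq_bot.2 (FaithfulSMul.algebraMap_injective κ K))
  have h : (r.restrictScalars R) ∘ₗ e.toLinearMap = LinearMap.id :=
    LinearMap.ext fun x => LinearMap.congr_fun hr x
  intro x y hxy
  have := congrArg ((r.restrictScalars R).lTensor B) hxy
  rwa [← LinearMap.comp_apply, ← LinearMap.comp_apply, ← LinearMap.lTensor_comp, h, LinearMap.lTensor_id] at this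


/-- Let p : X ⟶ S be a morphism with X locally Noetherian and (f_i : Z_i ⟶ X) a family of morphisms with
every Z_i flat over S. Then the family (f_i) is universally schematically dominant relative to S,
i.e. for every base change S' ⟶ S the family Z_i ×_S S' ⟶ X ×_S S' is schematically dominant, if and
only if for every point s of S the family of fibres (Z_i)_s ⟶ X_s is schematically dominant.
(Schematically dominant: a section of the structure sheaf over an open whose pullback along every
member vanishes is zero.) -/
theorem result {X S : Scheme.{u}} [IsLocallyNoetherian X]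
    (p : X ⟶ S) {ι : Type u} (Z : ι → Scheme.{u}) (f : ∀ i, Z i ⟶ X) [∀ i, Flat (f i ≫ p)] :
    (∀ (S' : Scheme.{u}) (g : S' ⟶ S),
      (∀ (V : (Limits.pullback p g).Opens) (t : Γ(Limits.pullback p g, V)), (∀ i, (Limits.pullback.map (f i ≫ p) g p g (f i) (𝟙 S') (𝟙 S) (Category.comp_id _) ((Category.comp_id _).trans (Category.id_comp _).symm)).app V t = 0) → t = 0)) ↔
    ∀ s : S, (∀ (V : (p.fiber s).Opens) (t : Γ(p.fiber s, V)), (∀ i, (MoreMor.fiberMap (f i) p s).app V t = 0) → t = 0) := by
  have hfm : ∀ (s : S) (i : ι), Groth.SchDom.bcFam p (S.fromSpecResidueField s) f i = MoreMor.fiberMap (f i) p s := by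
    intro s i
    apply Limits.pullback.hom_ext <;> simp [Groth.SchDom.bcFam, MoreMor.fiberMap] <;> rfl
  refine ⟨fun h s V t ht => h _ (S.fromSpecResidueField s) V t fun i => ?_, fun h S' g => ?_⟩
  · show (Groth.SchDom.bcFam p (S.fromSpecResidueField s) f i).app V t = 0
    rw [hfm]; exact ht i
  refine Groth.SchDom.sd_bcFam_of_dom p g f ?_
  intro R _ B _ _ R' _ _ o _ o' _ a _ J idx C _ _ φ c hc ha _ w hcov
  have : IsNoetherianRing B := by
    have : IsLocallyNoetherian (Spec (CommRingCat.of B)) := isLocallyNoetherian_of_isOpenImmersion a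
    exact isLocallyNoetherian_Spec.mp this
  have : ∀ j, Module.Flat R (C j) := fun j => by
    have := hc j
    have h1 : Flat (c j ≫ f (idx j) ≫ p) := inferInstance
    rw [Groth.SchDom.chart_over φ c ha w j] at h1
    have h2 : Flat (Spec.map (CommRingCat.ofHom (algebraMap R (C j)))) :=
      MorphismProperty.of_postcomp (W := @Flat) (W' := @IsOpenImmersion) _ o inferInstance h1
    exact RingHom.flat_algebraMap_iff.mp (Flat.SpecMap_iff.mp h2)
  refine Groth.SchDom.Dom.univ_of_fibres φ (fun q _ => ?_) R'
  let x : ↥(Spec (CommRingCat.of R)) := ⟨q, inferInstance⟩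
  let K := S.residueField (o x)
  have hr : Set.range (S.fromSpecResidueField (o x)) ⊆ Set.range o := by
    rw [Scheme.range_fromSpecResidueField]; rintro _ rfl; exact ⟨x, rfl⟩
  let l : Spec K ⟶ Spec (CommRingCat.of R) := IsOpenImmersion.lift o (S.fromSpecResidueField (o x)) hr
  let ρ : CommRingCat.of R ⟶ K := Spec.preimage l
  let algK : Algebra R K := ρ.hom.toAlgebra
  have ho : 𝟙 (Spec K) ≫ S.fromSpecResidueField (o x) = Spec.map (CommRingCat.ofHom (algebraMap R K)) ≫ o := by
    rw [Category.id_comp]
    show _ = Spec.map ρ ≫ o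
    rw [Spec.map_preimage, IsOpenImmersion.lift_fac]
  have hker : ∀ r : R, r ∈ q ↔ algebraMap R K r = 0 := by
    intro r
    let z : ↥(Spec K) := IsLocalRing.closedPoint K
    have hz : l z = x := o.isOpenEmbedding.injective (by
      rw [← Scheme.Hom.comp_apply, IsOpenImmersion.lift_fac]
      exact Scheme.fromSpecResidueField_apply _ _)
    have hz' : (Spec.map ρ) z = x := by rw [Spec.map_preimage]; exact hz
    have e : q = z.asIdeal.comap ρ.hom := (congrArg PrimeSpectrum.asIdeal hz').symm
    rw [e, Ideal.mem_comap]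
    show ρ.hom r ∈ IsLocalRing.maximalIdeal K ↔ ρ.hom r = 0
    rw [IsLocalRing.maximalIdeal_eq_bot, Ideal.mem_bot]
  let e : q.ResidueField →ₐ[R] K := Ideal.ResidueField.liftₐ q (Algebra.ofId R K)
    (fun r hr => RingHom.mem_ker.2 ((hker r).1 hr)) (fun r hr => (Ne.isUnit fun h0 => hr ((hker r).2 h0)))
  have hsd : Groth.SchDom.SD (Groth.SchDom.bcFam p (S.fromSpecResidueField (o x)) f) :=
    fun V t ht => h (o x) V t fun i => by rw [← hfm]; exact ht i
  have hdom : Groth.SchDom.Dom fun j => (Algebra.TensorProduct.map (φ j) (AlgHom.id R K)).toRingHom :=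
    @Groth.SchDom.dom_tensor_of_sd R B K _ _ _ _ algK S X (Spec K) p (S.fromSpecResidueField (o x)) o _ (𝟙 (Spec K)) _ a _ ι Z f J idx C _ _ φ c ha ho hc w hcov hsd
  refine hdom.of_injective (Algebra.TensorProduct.map (AlgHom.id R B) e).toRingHom ?_
    (fun j => (Algebra.TensorProduct.map (AlgHom.id R (C j)) e).toRingHom) fun j t => ?_
  · exact lTensor_field_injective e B
  · induction t using TensorProduct.induction_on with
    | zero => simp
    | add a b ha hb => simp only [map_add, ha, hb]
    | tmul a b => simp

end Groth.Agent.S4876
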