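import Groth.Statements.S4877
import Mathlib
import Groth.Agent.SchDom.Charts
-- import your own Groth.Agent.* helpers here

set_option autoImplicit false
universe u
open CategoryTheory AlgebraicGeometry
open EGA43

namespace Groth.Agent.S4877


/-- Let k be a field, X a k-scheme, (f_i : Z_i ⟶ X) a schematically dominant family of morphisms and S'
an arbitrary k-scheme. Then the family of base changes Z_i ×_k S' ⟶ X ×_k S' is schematically
dominant. (Schematically dominant: a section of the structure sheaf over an open whose pullback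
along every member vanishes is zero.) -/
theorem result {k : Type u} [Field k] {X S' : Scheme.{u}}
    (p : X ⟶ Spec (CommRingCat.of k)) (q : S' ⟶ Spec (CommRingCat.of k))
    {ι : Type u} (Z : ι → Scheme.{u}) (f : ∀ i, Z i ⟶ X)
    (h : (∀ (V : (X).Opens) (t : Γ(X, V)), (∀ i, (f i).app V t = 0) → t = 0)) :
    (∀ (V : (Limits.pullback p q).Opens) (t : Γ(Limits.pullback p q, V)), (∀ i, (Limits.pullback.map (f i ≫ p) q p q (f i) (𝟙 S') (𝟙 _) (Category.comp_id _) ((Category.comp_id _).trans (Category.id_comp _).symm)).app V t = 0) → t = 0) := by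
  refine Groth.SchDom.sd_bcFam_of_dom p q f ?_
  intro R _ B _ _ R' _ _ o _ o' _ a _ J idx C _ _ φ c hc _ _ w hcov
  have hB : Groth.SchDom.Dom fun j => (φ j).toRingHom :=
    Groth.SchDom.dom_of_sd_spec h a idx (C := fun j => CommRingCat.of (C j))
      (fun j => CommRingCat.ofHom (φ j).toRingHom) c hc w hcov
  rcases subsingleton_or_nontrivial R with hR | hR
  · intro t b _
    have : Subsingleton (TensorProduct R B R') := Module.subsingleton R _
    exact ⟨0, Subsingleton.elim _ _⟩
  · have : Nonempty ↥(Spec (CommRingCat.of R)) := inferInstanceAs (Nonempty (PrimeSpectrum R))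
    have : Surjective o := ⟨fun y => ⟨Classical.arbitrary _, Subsingleton.elim _ _⟩⟩
    have : Epi o.base := (TopCat.epi_iff_surjective _).2 o.surjective
    have : IsIso o := (isIso_iff_isOpenImmersion_and_epi_base o).2 ⟨inferInstance, inferInstance⟩
    let ρ : CommRingCat.of k ⟶ CommRingCat.of R := Spec.preimage o
    have : IsIso (Spec.map ρ) := by rw [Spec.map_preimage]; infer_instance
    have : IsIso (Scheme.Spec.map ρ.op) := ‹IsIso (Spec.map ρ)›
    have : IsIso ρ.op := isIso_of_reflects_iso ρ.op Scheme.Spec
    have : IsIso ρ := isIso_of_op ρ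
    let e : R ≃+* k := (asIso ρ).symm.commRingCatIsoToRingEquiv
    have hF : IsField R := e.toMulEquiv.isField (Field.toIsField k)
    let := hF.toField
    exact Groth.SchDom.Dom.tensor_field φ hB R'

end Groth.Agent.S4877
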