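import Groth.Statements.S4878
import Mathlib.LinearAlgebra.DirectSum.Finsupp
import Mathlib.Algebra.Module.Projective

set_option autoImplicit false
universe u
open TensorProduct
open EGA43

namespace Groth.Agent.S4878

/-- Let A be a commutative ring, (u_i : M → M_i) a family of A-linear maps whose kernels have zero
intersection, and N a projective A-module. Then the kernels of the maps u_i ⊗ 1 : M ⊗_A N → M_i ⊗_A
N have zero intersection. -/
theorem result {A : Type u} [CommRing A]
    {M : Type u} [AddCommGroup M] [Module A M] {ι : Type u} (M' : ι → Type u)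
    [∀ i, AddCommGroup (M' i)] [∀ i, Module A (M' i)] (u : ∀ i, M →ₗ[A] M' i)
    (hu : ⨅ i, LinearMap.ker (u i) = ⊥)
    (N : Type u) [AddCommGroup N] [Module A N] [Module.Projective A N] :
    ⨅ i, LinearMap.ker ((u i).rTensor N) = ⊥ := by
  rw [eq_bot_iff]
  intro t ht
  rw [Submodule.mem_bot]
  classical
  obtain ⟨s, hs⟩ := Module.projective_def'.1 (inferInstance : Module.Projective A N)
  suffices h : s.lTensor M t = 0 by
    have := congrArg ((Finsupp.linearCombination A id).lTensor M) h
    rwa [← LinearMap.lTensor_comp_apply, hs, LinearMap.lTensor_id, map_zero] at this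
  refine (TensorProduct.finsuppScalarRight A A M N).injective (Finsupp.ext fun j => ?_)
  rw [map_zero, Finsupp.zero_apply]
  have hker : (TensorProduct.finsuppScalarRight A A M N) (s.lTensor M t) j ∈
      ⨅ i, LinearMap.ker (u i) := by
    simp only [Submodule.mem_iInf, LinearMap.mem_ker]
    intro i
    have h0 : (u i).rTensor N t = 0 := LinearMap.mem_ker.1 ((Submodule.mem_iInf _).1 ht i)
    have key : ∀ z : M ⊗[A] N, u i (TensorProduct.finsuppScalarRight A A M N (s.lTensor M z) j) =
        TensorProduct.finsuppScalarRight A A (M' i) N (s.lTensor (M' i) ((u i).rTensor N z)) j := by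
      intro z
      induction z with
      | zero => simp
      | tmul m n => simp
      | add x y hx hy => simp only [map_add, Finsupp.add_apply, hx, hy]
    rw [key, h0, map_zero, map_zero, Finsupp.zero_apply]
  rwa [hu, Submodule.mem_bot] at hker

end Groth.Agent.S4878
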