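import Groth.Statements.S4883
import Mathlib.RingTheory.Ideal.KrullsHeightTheorem
import Mathlib.RingTheory.Ideal.MinimalPrime.Noetherian
import Mathlib.Topology.Sober
-- import your own Groth.Agent.* helpers here

set_option autoImplicit false
universe u
open CategoryTheory AlgebraicGeometry
open EGA43

namespace Groth.Agent.S4883

section Helpers

/-- In a Noetherian domain, if `f ≠ 0` lies in every nonzero prime, every nonzero prime is minimal over `f`. -/
theorem mem_minimalPrimes_of_forall_mem {R : Type u} [CommRing R] [IsDomain R] [IsNoetherianRing R] {f : R}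
    (hf : f ≠ 0) (h : ∀ P : Ideal R, P.IsPrime → P ≠ ⊥ → f ∈ P) (P : Ideal R) (hP : P.IsPrime) (hP0 : P ≠ ⊥) :
    P ∈ (Ideal.span {f}).minimalPrimes := by
  have hmin := Ideal.finite_minimalPrimes_of_isNoetherianRing R (Ideal.span {f})
  have hfP : f ∈ P := h P hP hP0
  have hsub : (P : Set R) ⊆ ⋃ m ∈ (Ideal.span {f}).minimalPrimes, (m : Set R) := by
    intro a ha
    rcases eq_or_ne a 0 with rfl | ha0
    · obtain ⟨m, hm, -⟩ := Ideal.exists_minimalPrimes_le ((Ideal.span_singleton_le_iff_mem P).mpr hfP)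
      exact Set.mem_biUnion hm m.zero_mem
    obtain ⟨q, hq, -⟩ := Ideal.exists_minimalPrimes_le ((Ideal.span_singleton_le_iff_mem P).mpr ha)
    have hqp : q.IsPrime := hq.1.1
    have haq : a ∈ q := hq.1.2 (Ideal.mem_span_singleton_self a)
    have hfq : f ∈ q := h q hqp fun e => ha0 (by rw [e] at haq; exact haq)
    obtain ⟨q', hq', hle⟩ := Ideal.exists_minimalPrimes_le ((Ideal.span_singleton_le_iff_mem q).mpr hfq)
    have hq'p : q'.IsPrime := hq'.1.1
    rcases hle.lt_or_eq with hlt | rfl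
    · exfalso
      have h1 := Ideal.height_le_one_of_isPrincipal_of_mem_minimalPrimes (Ideal.span {a}) q hq
      have h2 := (Ideal.height_strict_mono_of_isPrime_of_isPrime hlt).trans_le h1
      rw [Order.lt_one_iff, Ideal.height_eq_zero_iff, IsDomain.minimalPrimes_eq_singleton_bot,
        Set.mem_singleton_iff] at h2
      exact hf (by
        have := hq'.1.2 (Ideal.mem_span_singleton_self f)
        rwa [h2] at this)
    · exact Set.mem_biUnion hq' haq
  obtain ⟨m, hm, hPm⟩ := (Ideal.subset_union_prime_finite hmin (f := id) ⊥ ⊥ fun m hm _ _ => hm.1.1).mp hsub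
  have : P = m := le_antisymm hPm (hm.2 ⟨hP, (Ideal.span_singleton_le_iff_mem P).mpr hfP⟩ hPm)
  exact this ▸ hm

theorem finite_primeSpectrum {R : Type u} [CommRing R] [IsDomain R] [IsNoetherianRing R] {f : R} (hf : f ≠ 0)
    (h : ∀ P : Ideal R, P.IsPrime → P ≠ ⊥ → f ∈ P) : Finite (PrimeSpectrum R) := by
  have hmin := Ideal.finite_minimalPrimes_of_isNoetherianRing R (Ideal.span {f})
  have key := mem_minimalPrimes_of_forall_mem hf h
  have : Finite ↥(insert (⊥ : Ideal R) (Ideal.span {f}).minimalPrimes) := (hmin.insert ⊥).to_subtype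
  refine Finite.of_injective (fun P : PrimeSpectrum R =>
    (⟨P.asIdeal, ?_⟩ : ↥(insert (⊥ : Ideal R) (Ideal.span {f}).minimalPrimes)))
    fun P Q h => PrimeSpectrum.ext (congrArg Subtype.val h)
  by_cases h0 : P.asIdeal = ⊥
  · exact Or.inl h0
  · exact Or.inr (key _ P.2 h0)

theorem finite_closure_inter {X : Scheme.{u}} [IsNoetherian X] (x : X) {U : Set X} (hU : IsOpen U) (hxU : x ∈ U)
    (hUx : ∀ y ∈ closure ({x} : Set X), y ∈ U → y = x) {V : X.Opens} (hV : IsAffineOpen V) :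
    (closure ({x} : Set X) ∩ V).Finite := by
  by_cases hxV : x ∈ V
  swap
  · refine Set.finite_empty.subset fun y hy => ?_
    obtain ⟨z, hz1, hz2⟩ := mem_closure_iff.mp hy.1 V V.2 hy.2
    rw [Set.mem_singleton_iff] at hz2
    exact absurd (hz2 ▸ hz1) hxV
  obtain ⟨p, hp⟩ : x ∈ Set.range hV.fromSpec := by rw [hV.range_fromSpec]; exact hxV
  obtain ⟨_, ⟨f, rfl⟩, hpf, hfU⟩ := PrimeSpectrum.isTopologicalBasis_basic_opens.exists_subset_of_mem_open
    (show p ∈ hV.fromSpec ⁻¹' U by rw [Set.mem_preimage, hp]; exact hxU) (hU.preimage hV.fromSpec.continuous)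
  let R : CommRingCat := Γ(X, V)
  obtain ⟨q₀, rfl⟩ : ∃ q : PrimeSpectrum R, q = p := ⟨p, rfl⟩
  have : IsNoetherianRing R := IsLocallyNoetherian.component_noetherian ⟨V, hV⟩
  have hsurj : Function.Surjective (Ideal.Quotient.mk q₀.asIdeal) := Ideal.Quotient.mk_surjective
  have hfin : Finite (PrimeSpectrum (R ⧸ q₀.asIdeal)) := by
    refine finite_primeSpectrum (f := Ideal.Quotient.mk q₀.asIdeal f)
      (fun e => hpf (Ideal.Quotient.eq_zero_iff_mem.mp e)) fun Q hQ hQ0 => ?_
    by_contra hfQ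
    let q : PrimeSpectrum R := PrimeSpectrum.comap (Ideal.Quotient.mk q₀.asIdeal) ⟨Q, hQ⟩
    have hle : q₀ ≤ q := fun a ha => by
      show Ideal.Quotient.mk q₀.asIdeal a ∈ Q
      rw [Ideal.Quotient.eq_zero_iff_mem.mpr ha]
      exact Q.zero_mem
    have hcl : hV.fromSpec q ∈ closure ({x} : Set X) := by
      rw [← hp]
      exact (((PrimeSpectrum.le_iff_specializes q₀ q).mp hle).map hV.fromSpec.continuous).mem_closure
    have hqU : hV.fromSpec q ∈ U := hfU (show f ∉ q.asIdeal from hfQ)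
    have heq : q = q₀ := hV.fromSpec.isOpenEmbedding.injective ((hUx _ hcl hqU).trans hp.symm)
    refine hQ0 (le_bot_iff.mp fun b hb => ?_)
    obtain ⟨b, rfl⟩ := hsurj b
    have hb' : b ∈ q.asIdeal := hb
    rw [heq] at hb'
    exact Ideal.Quotient.eq_zero_iff_mem.mpr hb'
  refine (Set.finite_range fun Q : PrimeSpectrum (R ⧸ q₀.asIdeal) =>
    hV.fromSpec (PrimeSpectrum.comap (Ideal.Quotient.mk q₀.asIdeal) Q)).subset ?_
  rintro y ⟨hy, hyV⟩
  obtain ⟨r, rfl⟩ : y ∈ Set.range hV.fromSpec := by rw [hV.range_fromSpec]; exact hyV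
  obtain ⟨r₀, rfl⟩ : ∃ r' : PrimeSpectrum R, r' = r := ⟨r, rfl⟩
  rw [← hp, ← specializes_iff_mem_closure] at hy
  have hspec := hV.fromSpec.isOpenEmbedding.isInducing.specializes_iff.mp hy
  have hle : q₀ ≤ r₀ := (PrimeSpectrum.le_iff_specializes q₀ r₀).mpr hspec
  obtain ⟨Q, hQ⟩ : r₀ ∈ Set.range (PrimeSpectrum.comap (Ideal.Quotient.mk q₀.asIdeal)) := by
    rw [range_comap_of_surjective _ _ hsurj, Ideal.mk_ker]
    exact hle
  exact ⟨Q, congrArg hV.fromSpec hQ⟩

end Helpers

/-- Let X be a Noetherian scheme. Then the set of points x of X whose closure is finite is very dense in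
X: every nonempty locally closed subset of X contains a point with finite closure. -/
theorem result (X : Scheme.{u}) [IsNoetherian X]
    (Z : Set X) (hZ : IsLocallyClosed Z) (hne : Z.Nonempty) :
    ∃ x ∈ Z, (closure ({x} : Set X)).Finite := by
  obtain ⟨U, C, hU, hC, rfl⟩ := hZ
  have : CompactSpace ↥(U ∩ C) := isCompact_iff_compactSpace.mp (TopologicalSpace.NoetherianSpace.isCompact _)
  have : Nonempty ↥(U ∩ C) := hne.to_subtype
  obtain ⟨⟨x, hxU, hxC⟩, -, hx⟩ := IsClosed.exists_closed_singleton (isClosed_univ (X := ↥(U ∩ C))) Set.univ_nonempty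
  have hUx : ∀ y ∈ closure ({x} : Set X), y ∈ U → y = x := by
    intro y hy hyU
    have hyC : y ∈ C := closure_minimal (Set.singleton_subset_iff.mpr hxC) hC hy
    have h1 : (⟨y, hyU, hyC⟩ : ↥(U ∩ C)) ∈ closure ({⟨x, hxU, hxC⟩} : Set ↥(U ∩ C)) := by
      rw [closure_subtype, Set.image_singleton]
      exact hy
    rw [hx.closure_eq] at h1
    exact congrArg Subtype.val h1
  refine ⟨x, ⟨hxU, hxC⟩, ?_⟩
  obtain ⟨s, hs, hfin, hcov⟩ : ∃ s : Set X.Opens, (∀ V ∈ s, IsAffineOpen V) ∧ s.Finite ∧ ∀ y : X, ∃ V ∈ s, y ∈ V := by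
    obtain ⟨t, ht⟩ := isCompact_univ.elim_finite_subcover (fun V : X.affineOpens => (V.1 : Set X))
      (fun V => V.1.isOpen) (fun y _ => by
        obtain ⟨_, ⟨V, hV, rfl⟩, hyV, -⟩ :=
          X.isBasis_affineOpens.exists_subset_of_mem_open (Set.mem_univ y) isOpen_univ
        exact Set.mem_iUnion.mpr ⟨⟨V, hV⟩, hyV⟩)
    refine ⟨Subtype.val '' (t : Set X.affineOpens), ?_, t.finite_toSet.image _, fun y => ?_⟩
    · rintro _ ⟨V, -, rfl⟩; exact V.2
    · obtain ⟨V, hV, hy⟩ := Set.mem_iUnion₂.mp (ht (Set.mem_univ y))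
      exact ⟨V.1, ⟨V, hV, rfl⟩, hy⟩
  refine (hfin.biUnion (t := fun V : X.Opens => closure ({x} : Set X) ∩ V) fun V hV => ?_).subset fun y hy => by
    obtain ⟨V, hV, hyV⟩ := hcov y
    exact Set.mem_biUnion hV ⟨hy, hyV⟩
  exact finite_closure_inter x hU hxU hUx (hs V hV)

end Groth.Agent.S4883
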