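import Groth.Statements.S4880
import Groth.Agent.S4883
import Mathlib.Order.KrullDimension
import Mathlib.Topology.KrullDimension
-- import your own Groth.Agent.* helpers here

set_option autoImplicit false
universe u
open CategoryTheory AlgebraicGeometry
open EGA43

namespace Groth.Agent.S4880

section Helpers

theorem krullDim_eq (X : Scheme.{u}) : topologicalKrullDim X = Order.krullDim X :=
  Order.krullDim_eq_of_orderIso irreducibleSetEquivPoints

theorem isClosed_iff_isMin {X : Scheme.{u}} (y : X) : IsClosed ({y} : Set X) ↔ IsMin y := by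
  constructor
  · intro h z hz
    have h1 : z ∈ closure ({y} : Set X) := (Scheme.le_iff_specializes.mp hz).mem_closure
    rw [h.closure_eq, Set.mem_singleton_iff] at h1
    exact h1.ge
  · intro h
    refine closure_subset_iff_isClosed.mp fun z hz => ?_
    have hzy : z ≤ y := Scheme.le_iff_specializes.mpr (specializes_iff_mem_closure.mpr hz)
    exact ((Scheme.le_iff_specializes.mp hzy).antisymm (Scheme.le_iff_specializes.mp (h hzy))).eq.symm

theorem isClosed_of_dim_le_one {X : Scheme.{u}} [IrreducibleSpace X] (h : topologicalKrullDim X ≤ 1) (y : X)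
    (hy : y ≠ genericPoint X) : IsClosed ({y} : Set X) := by
  rw [krullDim_eq, Order.krullDim_le_one_iff] at h
  refine (isClosed_iff_isMin y).mpr ((h y).resolve_right fun hmax => hy ?_)
  have hle : y ≤ genericPoint X := Scheme.le_iff_specializes.mpr (genericPoint_specializes y)
  exact ((Scheme.le_iff_specializes.mp hle).antisymm (Scheme.le_iff_specializes.mp (hmax hle))).eq.symm

theorem dim_le_one {X : Scheme.{u}} [IsNoetherian X] [IrreducibleSpace X]
    (h : IsOpen ({genericPoint X} : Set X)) : topologicalKrullDim X ≤ 1 := by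
  rw [krullDim_eq, Order.krullDim_le_one_iff]
  intro b
  by_cases hb : b = genericPoint X
  · exact Or.inr fun c _ => hb ▸ Scheme.le_iff_specializes.mpr (genericPoint_specializes c)
  refine Or.inl ((isClosed_iff_isMin b).mp (closure_subset_iff_isClosed.mp fun c hc => ?_))
  obtain ⟨_, ⟨V, hV, rfl⟩, hcV, -⟩ := X.isBasis_affineOpens.exists_subset_of_mem_open (Set.mem_univ c) isOpen_univ
  have hbc : b ⤳ c := specializes_iff_mem_closure.mpr hc
  obtain ⟨p, hp⟩ : genericPoint X ∈ Set.range hV.fromSpec := by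
    rw [hV.range_fromSpec]
    exact (genericPoint_specializes c).mem_open V.2 hcV
  obtain ⟨q, hq⟩ : b ∈ Set.range hV.fromSpec := by rw [hV.range_fromSpec]; exact hbc.mem_open V.2 hcV
  obtain ⟨r, hr⟩ : c ∈ Set.range hV.fromSpec := by rw [hV.range_fromSpec]; exact hcV
  let R : CommRingCat := Γ(X, V)
  obtain ⟨p, rfl⟩ : ∃ p' : PrimeSpectrum R, p' = p := ⟨p, rfl⟩
  obtain ⟨q, rfl⟩ : ∃ q' : PrimeSpectrum R, q' = q := ⟨q, rfl⟩
  obtain ⟨r, rfl⟩ : ∃ r' : PrimeSpectrum R, r' = r := ⟨r, rfl⟩
  have : IsNoetherianRing R := IsLocallyNoetherian.component_noetherian ⟨V, hV⟩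
  have hle : ∀ a a' : PrimeSpectrum R, hV.fromSpec a ⤳ hV.fromSpec a' → a ≤ a' := fun a a' ha =>
    (PrimeSpectrum.le_iff_specializes a a').mpr (hV.fromSpec.isOpenEmbedding.isInducing.specializes_iff.mp ha)
  have hpq : p ≤ q := hle p q (by rw [hp]; exact genericPoint_specializes _)
  have hqr : q ≤ r := hle q r (by rw [hq, hr]; exact hbc)
  obtain ⟨_, ⟨f, rfl⟩, hpf, hfU⟩ := PrimeSpectrum.isTopologicalBasis_basic_opens.exists_subset_of_mem_open
    (show p ∈ hV.fromSpec ⁻¹' {genericPoint X} from hp) (h.preimage hV.fromSpec.continuous)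
  let φ := Ideal.Quotient.mk p.asIdeal
  have hall : ∀ P : Ideal (R ⧸ p.asIdeal), P.IsPrime → P ≠ ⊥ → φ f ∈ P := by
    intro P hP hP0
    by_contra hfP
    let s : PrimeSpectrum R := PrimeSpectrum.comap φ ⟨P, hP⟩
    have hs : s = p := hV.fromSpec.isOpenEmbedding.injective
      ((hfU (show f ∉ s.asIdeal from hfP) : hV.fromSpec s = _).trans hp.symm)
    refine hP0 (le_bot_iff.mp fun a ha => ?_)
    obtain ⟨a, rfl⟩ := Ideal.Quotient.mk_surjective a
    have ha' : a ∈ s.asIdeal := ha
    rw [hs] at ha'
    exact Ideal.Quotient.eq_zero_iff_mem.mpr ha'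
  have hφf : φ f ≠ 0 := fun e => hpf (Ideal.Quotient.eq_zero_iff_mem.mp e)
  have key : ∀ a : PrimeSpectrum R, p ≤ a → a ≠ p →
      ∃ P ∈ (Ideal.span {φ f}).minimalPrimes, P.comap φ = a.asIdeal := by
    intro a hpa hne
    have hker : RingHom.ker φ ≤ a.asIdeal := by rw [Ideal.mk_ker]; exact hpa
    have hP : (a.asIdeal.map φ).IsPrime := Ideal.map_isPrime_of_surjective Ideal.Quotient.mk_surjective hker
    have hcm : (a.asIdeal.map φ).comap φ = a.asIdeal := Ideal.comap_map_of_surjective' φ Ideal.Quotient.mk_surjective _ |>.trans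
      (sup_eq_left.mpr hker)
    refine ⟨_, Groth.Agent.S4883.mem_minimalPrimes_of_forall_mem hφf hall _ hP fun h0 => hne ?_, hcm⟩
    refine PrimeSpectrum.ext ?_
    rw [← hcm, h0]
    exact Ideal.mk_ker
  have hqne : q ≠ p := fun e => hb (by rw [← hq, e, hp])
  have hrne : r ≠ p := fun e => hqne (le_antisymm (e ▸ hqr) hpq)
  obtain ⟨P, hP, hPq⟩ := key q hpq hqne
  obtain ⟨P', hP', hPr⟩ := key r (hpq.trans hqr) hrne
  have hPP : P ≤ P' := (Ideal.comap_le_comap_iff_of_surjective φ Ideal.Quotient.mk_surjective P P').mp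
    (by rw [hPq, hPr]; exact hqr)
  have : P = P' := le_antisymm hPP (hP'.2 hP.1 hPP)
  rw [Set.mem_singleton_iff, ← hr, ← hq, PrimeSpectrum.ext (hPr.symm.trans (this ▸ hPq))]

end Helpers

/-- For a Noetherian irreducible scheme X the following are equivalent: a) the generic point of X is an
isolated point; b) the underlying set of X is finite; c) X has dimension at most 1 and finitely many
closed points. -/
theorem result (X : Scheme.{u}) [IsNoetherian X]
    [IrreducibleSpace X] :
    [IsOpen ({genericPoint X} : Set X),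
      Finite X,
      topologicalKrullDim X ≤ 1 ∧ {x : X | IsClosed ({x} : Set X)}.Finite].TFAE := by
  tfae_have 1 → 2 := fun h => by
    obtain ⟨t, ht⟩ := isCompact_univ.elim_finite_subcover (fun V : X.affineOpens => (V.1 : Set X))
      (fun V => V.1.isOpen) (fun y _ => by
        obtain ⟨_, ⟨V, hV, rfl⟩, hyV, -⟩ :=
          X.isBasis_affineOpens.exists_subset_of_mem_open (Set.mem_univ y) isOpen_univ
        exact Set.mem_iUnion.mpr ⟨⟨V, hV⟩, hyV⟩)
    refine Set.finite_univ_iff.mp ((t.finite_toSet.biUnion (t := fun V : X.affineOpens =>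
      closure ({genericPoint X} : Set X) ∩ (V.1 : Set X)) fun V _ => ?_).subset fun y _ => ?_)
    · exact Groth.Agent.S4883.finite_closure_inter _ h (Set.mem_singleton _) (fun y _ hy => hy) V.2
    · obtain ⟨V, hV, hy⟩ := Set.mem_iUnion₂.mp (ht (Set.mem_univ y))
      exact Set.mem_biUnion hV ⟨(genericPoint_specializes y).mem_closure, hy⟩
  tfae_have 2 → 1 := fun h => by
    obtain ⟨U, hU, hfin⟩ : ∃ U : Set X, IsOpen U ∧ U = {genericPoint X} := by
      refine ⟨_, ((Set.toFinite {y : X | y ≠ genericPoint X}).isClosed_biUnion (f := fun y => closure {y})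
        fun y _ => isClosed_closure).isOpen_compl, ?_⟩
      ext z
      simp only [Set.mem_compl_iff, Set.mem_iUnion, Set.mem_setOf_eq, not_exists, Set.mem_singleton_iff]
      refine ⟨fun hz => by_contra fun hne => hz z hne (subset_closure rfl), ?_⟩
      rintro rfl y hy hmem
      exact hy ((specializes_iff_mem_closure.mpr hmem).antisymm (genericPoint_specializes y)).eq
    exact hfin ▸ hU
  tfae_have 1 → 3 := fun h => by
    have : Finite X := tfae_1_to_2 h
    exact ⟨dim_le_one h, Set.toFinite _⟩
  tfae_have 3 → 1 := fun h => by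
    have hrest : ({genericPoint X} : Set X)ᶜ = {x : X | IsClosed ({x} : Set X)} \ {genericPoint X} := by
      refine Set.Subset.antisymm (fun y hy => ⟨?_, hy⟩) (Set.diff_subset_compl _ _)
      exact isClosed_of_dim_le_one h.1 y hy
    have hfin : ({genericPoint X} : Set X)ᶜ.Finite := hrest ▸ h.2.sdiff
    have hcl : IsClosed ({genericPoint X} : Set X)ᶜ := by
      rw [← Set.biUnion_of_singleton ({genericPoint X} : Set X)ᶜ]
      refine hfin.isClosed_biUnion fun y hy => ?_
      rw [hrest] at hy
      exact hy.1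
    exact isClosed_compl_iff.mp hcl
  tfae_finish

end Groth.Agent.S4880
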