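import Groth.Statements.S4881
-- import your own Groth.Agent.* helpers here

set_option autoImplicit false
universe u
open CategoryTheory AlgebraicGeometry
open EGA43

namespace Groth.Agent.S4881

/-- Let X be a locally Noetherian scheme which is Jacobson, whose local rings are universally catenary,
and whose irreducible components X' are equidimensional in the sense that for every closed point x
of X' the dimension of X' equals the dimension of the set of generizations of x in X'. Then for
every dense open subset U of X, dim U = dim X. -/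
theorem result (X : Scheme.{u}) [IsLocallyNoetherian X] [JacobsonSpace X]
    (h2 : ∀ x : X, CAlg.IsUniversallyCatenary (X.presheaf.stalk x))
    (h3 : ∀ X' ∈ irreducibleComponents (X : Type u), ∀ x ∈ X', IsClosed ({x} : Set X) →
      topologicalKrullDim (↥X' : Type u) = topologicalKrullDim ↥{t : X | t ∈ X' ∧ t ⤳ x})
    (U : Set X) (hU : IsOpen U) (hd : Dense U) :
    topologicalKrullDim ↥U = topologicalKrullDim X := by
  refine le_antisymm (topologicalKrullDim_subspace_le X U) (iSup_le fun l => ?_)
  obtain ⟨X', hX', hle⟩ := exists_mem_irreducibleComponents_subset_of_isIrreducible _ l.last.isIrreducible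
  have hcl := isClosed_of_mem_irreducibleComponents X' hX'
  -- the chain lives in `X'`
  have hsub : ∀ i, (l i : Set X) ⊆ X' := fun i => subset_trans (l.monotone (Fin.le_last i)) hle
  have hirr : ∀ i, IsIrreducible (Subtype.val ⁻¹' (l i : Set X) : Set ↥X') := by
    intro i
    obtain ⟨⟨y, hy⟩, hp⟩ := (l i).isIrreducible
    refine ⟨⟨⟨y, hsub i hy⟩, hy⟩, fun a b ha hb ⟨p, hp1, hp2⟩ ⟨q, hq1, hq2⟩ => ?_⟩
    obtain ⟨a', ha', rfl⟩ := isOpen_induced_iff.1 ha
    obtain ⟨b', hb', rfl⟩ := isOpen_induced_iff.1 hb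
    obtain ⟨w, hw1, hw2⟩ := hp a' b' ha' hb' ⟨p.1, hp1, hp2⟩ ⟨q.1, hq1, hq2⟩
    exact ⟨⟨w, hsub i hw1⟩, hw1, hw2⟩
  let g : LTSeries (TopologicalSpace.IrreducibleCloseds ↥X') :=
    { length := l.length
      toFun := fun i => ⟨Subtype.val ⁻¹' (l i : Set X), hirr i,
        (l i).isClosed.preimage continuous_subtype_val⟩
      step := fun i => by
        have h := l.strictMono (show i.castSucc < i.succ from Fin.castSucc_lt_succ)
        show (Subtype.val ⁻¹' (l i.castSucc : Set X) : Set ↥X') ⊂ Subtype.val ⁻¹' (l i.succ : Set X)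
        refine ⟨Set.preimage_mono h.le, fun hh => h.not_ge ?_⟩
        intro y hy
        exact @hh ⟨y, hsub _ hy⟩ hy }
  have h1 : (l.length : WithBot ℕ∞) ≤ topologicalKrullDim (↥X' : Type u) := le_iSup_of_le g le_rfl
  refine h1.trans ?_
  obtain ⟨x, hxI, hxc⟩ : ((X' ∩ U) ∩ closedPoints (X : Type u)).Nonempty := by
    refine nonempty_inter_closedPoints ?_ (hcl.isLocallyClosed.inter hU.isLocallyClosed)
    obtain ⟨z, hz⟩ := hX'.1.nonempty
    obtain ⟨V, hV, hzV, -⟩ := exists_isAffineOpen_mem_and_subset (U := ⊤) (x := z) trivial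
    haveI : TopologicalSpace.NoetherianSpace ↥(V : Set X) :=
      (TopologicalSpace.noetherianSpace_iff_of_homeomorph (Scheme.homeoOfIso hV.isoSpec)).2
        (by
          haveI := IsLocallyNoetherian.component_noetherian ⟨V, hV⟩
          infer_instance)
    have hV' : (Subtype.val ⁻¹' X' : Set ↥(V : Set X)) ∈ irreducibleComponents _ :=
      preimage_mem_irreducibleComponents hX' V.isOpen.isOpenEmbedding_subtypeVal ⟨z, hz, ⟨z, hzV⟩, rfl⟩
    obtain ⟨o, ho, ⟨w, hw⟩, hoZ⟩ :=
      TopologicalSpace.NoetherianSpace.exists_isOpen_nonempty_subset_irreducibleComponent _ hV'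
    obtain ⟨p, hpo, hpU⟩ := hd.inter_open_nonempty _
      (V.isOpen.isOpenEmbedding_subtypeVal.isOpenMap o ho) ⟨w.1, w, hw, rfl⟩
    obtain ⟨w', hw', rfl⟩ := hpo
    exact ⟨w'.1, hoZ hw', hpU⟩
  rw [h3 X' hX' x hxI.1 hxc]
  refine Topology.IsInducing.topologicalKrullDim_le (f := fun t => (⟨t.1, t.2.2.mem_open hU hxI.2⟩ : ↥U)) ?_
  exact Topology.IsInducing.of_comp (by fun_prop) continuous_subtype_val Topology.IsInducing.subtypeVal

end Groth.Agent.S4881
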