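import Groth.Statements.S4882
import Groth.Agent.EGA43Topo.QuasiHomeo

set_option autoImplicit false
universe u
open EGA43

open Set TopologicalSpace Topology Groth.EGA43Topo

namespace Groth.Agent.S4882

/-- Let X be a Jacobson space and Z a locally quasi-constructible subset of X, i.e. every point of X has
an open neighbourhood U such that U ∩ Z is a finite union of locally closed subsets of X. Then the
subspace Z is a Jacobson space, and a point of Z is closed in Z if and only if it is closed in X. -/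
theorem result {X : Type u} [TopologicalSpace X] [JacobsonSpace X]
    (Z : Set X)
    (hZ : ∀ x : X, ∃ U : Set X, IsOpen U ∧ x ∈ U ∧
      ∃ T : Set (Set X), T.Finite ∧ (∀ t ∈ T, IsLocallyClosed t) ∧ U ∩ Z = ⋃₀ T) :
    JacobsonSpace ↥Z ∧ ∀ z : ↥Z, IsClosed ({z} : Set ↥Z) ↔ IsClosed ({(z : X)} : Set X) := by
  have hvd : IsVeryDense (closedPoints X) := fun L hL hne => nonempty_inter_closedPoints hne hL
  have h2 : ∀ z : ↥Z, IsClosed ({z} : Set ↥Z) ↔ IsClosed ({(z : X)} : Set X) := by
    intro z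
    refine ⟨fun hz => ?_, fun hz => ?_⟩
    · obtain ⟨F, hF, hFz⟩ := isClosed_induced_iff.1 hz
      have he : F ∩ Z = {(z : X)} := by
        rw [inter_comm, ← Subtype.image_preimage_coe, hFz, image_singleton]
      obtain ⟨w, hw, hwc⟩ := hvd.inter_nonempty
        ((IsLQC.of_isLocallyClosed hF.isLocallyClosed).inter hZ)
        (show (F ∩ Z).Nonempty from he ▸ singleton_nonempty _)
      rw [he, mem_singleton_iff] at hw
      exact hw ▸ hwc
    · have : ({z} : Set ↥Z) = Subtype.val ⁻¹' {(z : X)} := by ext w; simp [Subtype.ext_iff]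
      exact this ▸ hz.preimage continuous_subtype_val
  refine ⟨jacobsonSpace_iff_locallyClosed.2 fun L hne hL => ?_, h2⟩
  obtain ⟨L', hL', rfl⟩ := (IsInducing.subtypeVal.isLocallyClosed_iff).1 hL
  obtain ⟨z, hz⟩ := hne
  obtain ⟨w, ⟨hwL, hwZ⟩, hwc⟩ := hvd.inter_nonempty
    ((IsLQC.of_isLocallyClosed hL').inter hZ) ⟨z.1, hz, z.2⟩
  exact ⟨⟨w, hwZ⟩, hwL, (h2 ⟨w, hwZ⟩).2 hwc⟩

end Groth.Agent.S4882
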