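import Groth.Statements.S4885
import Mathlib
-- import your own Groth.Agent.* helpers here

set_option autoImplicit false
universe u
open EGA43

namespace Groth.Agent.S4885


/-- Every finite algebra A' over a commutative ring A is a directed colimit (filtered inductive limit)
of A-algebras which are finite and of finite presentation over A. -/
theorem result (A A' : Type u) [CommRing A] [CommRing A']
    [Algebra A A'] [Module.Finite A A'] :
    ∃ (ι : Type u) (_ : Preorder ι) (G : ι → Type u) (_ : ∀ i, CommRing (G i)) (_ : ∀ i, Algebra A (G i))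
      (g : ∀ i j, i ≤ j → G i →ₐ[A] G j) (_ : ∀ i, Algebra (G i) A') (_ : ∀ i, IsScalarTower A (G i) A'),
      FlatCA.IsDirectedColimitRing G (fun i j h => (g i j h).toRingHom) A' ∧
        ∀ i, Module.Finite A (G i) ∧ Algebra.FinitePresentation A (G i) := by
  classical
  obtain ⟨s, hs⟩ := (Module.finite_def.1 ‹Module.Finite A A'›)
  have hint : ∀ a : A', IsIntegral A a := fun a => Algebra.IsIntegral.isIntegral a
  choose p hpm hp0 using hint
  let R := MvPolynomial s A
  let I₀ : Ideal R := Ideal.span (Set.range fun i : s => Polynomial.aeval (MvPolynomial.X i : R) (p i.1))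
  have hI₀fg : I₀.FG := Submodule.fg_span (Set.finite_range _)
  let φ : R →ₐ[A] A' := MvPolynomial.aeval fun i : s => i.1
  have hφ : Function.Surjective φ := by
    intro a
    have : a ∈ Submodule.span A (s : Set A') := hs ▸ Submodule.mem_top
    refine Submodule.span_le (p := φ.toLinearMap.range) |>.2 (fun x hx => ⟨MvPolynomial.X ⟨x, hx⟩, ?_⟩) this
    exact MvPolynomial.aeval_X _ _
  have hI₀ker : I₀ ≤ RingHom.ker φ := by
    rw [Ideal.span_le]
    rintro _ ⟨i, rfl⟩
    rw [SetLike.mem_coe, RingHom.mem_ker, ← Polynomial.aeval_algHom_apply, MvPolynomial.aeval_X]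
    exact hp0 i.1
  let ι := {J : Ideal R // J.FG ∧ I₀ ≤ J ∧ J ≤ RingHom.ker φ}
  let ψ : ∀ J : ι, R ⧸ J.1 →ₐ[A] A' := fun J => Ideal.Quotient.liftₐ J.1 φ fun x hx => J.2.2.2 hx
  have hfin₀ : ∀ J : ι, Module.Finite A (R ⧸ J.1) := fun J => by
    have hgen : Algebra.adjoin A (Set.range fun i : s => Ideal.Quotient.mkₐ A J.1 (MvPolynomial.X i)) = ⊤ := by
      rw [show (Set.range fun i : s => Ideal.Quotient.mkₐ A J.1 (MvPolynomial.X i)) =
          Ideal.Quotient.mkₐ A J.1 '' Set.range MvPolynomial.X by rw [← Set.range_comp]; rfl,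
        ← AlgHom.map_adjoin, MvPolynomial.adjoin_range_X, Algebra.map_top, AlgHom.range_eq_top]
      exact Ideal.Quotient.mkₐ_surjective A J.1
    refine ⟨?_⟩
    rw [← Algebra.top_toSubmodule, ← hgen]
    refine fg_adjoin_of_finite (Set.finite_range _) ?_
    rintro _ ⟨i, rfl⟩
    refine ⟨p i.1, hpm i.1, ?_⟩
    rw [← Polynomial.aeval_def, Polynomial.aeval_algHom_apply, Ideal.Quotient.mkₐ_eq_mk]
    exact Ideal.Quotient.eq_zero_iff_mem.2 (J.2.2.1 (Ideal.subset_span ⟨i, rfl⟩))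
  refine ⟨ι, inferInstance, fun J => R ⧸ J.1, inferInstance, inferInstance,
    fun J K h => Ideal.Quotient.factorₐ A h, fun J => (ψ J).toRingHom.toAlgebra, ?_, ⟨⟨fun J K => ?_⟩, ⟨⟨I₀, hI₀fg, le_rfl, hI₀ker⟩⟩, fun J => ?_, fun J K L h h' => ?_, fun J K h => ?_, fun a => ?_, fun J x hx => ?_⟩, fun J => ⟨hfin₀ J, ?_⟩⟩
  · intro J
    letI := (ψ J).toRingHom.toAlgebra
    exact IsScalarTower.of_algebraMap_eq fun r => ((ψ J).commutes r).symm
  · exact ⟨⟨J.1 ⊔ K.1, Submodule.FG.sup J.2.1 K.2.1, J.2.2.1.trans le_sup_left, sup_le J.2.2.2 K.2.2.2⟩,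
      (le_sup_left : J.1 ≤ J.1 ⊔ K.1), (le_sup_right : K.1 ≤ J.1 ⊔ K.1)⟩
  · exact Ideal.Quotient.ringHom_ext (RingHom.ext fun x => rfl)
  · exact Ideal.Quotient.ringHom_ext (RingHom.ext fun x => rfl)
  · exact Ideal.Quotient.ringHom_ext (RingHom.ext fun x => rfl)
  · obtain ⟨r, rfl⟩ := hφ a
    exact ⟨⟨I₀, hI₀fg, le_rfl, hI₀ker⟩, Ideal.Quotient.mk _ r, rfl⟩
  · obtain ⟨r, rfl⟩ := Ideal.Quotient.mk_surjective x
    refine ⟨⟨J.1 ⊔ Ideal.span {r}, Submodule.FG.sup J.2.1 (Submodule.fg_span_singleton r), J.2.2.1.trans le_sup_left,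
      sup_le J.2.2.2 ((Ideal.span_singleton_le_iff_mem _).2 hx)⟩, (le_sup_left : J.1 ≤ J.1 ⊔ Ideal.span {r}), ?_⟩
    exact Ideal.Quotient.eq_zero_iff_mem.2 (Ideal.mem_sup_right (Ideal.mem_span_singleton_self r))
  · exact Algebra.FinitePresentation.quotient J.2.1

end Groth.Agent.S4885
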