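import Groth.Statements.S4887
import Mathlib
import Groth.Agent.Ega43FP2.Syzygy
import Groth.Agent.LocFree.FP
import Groth.Agent.Flatmor4.FlatModAffine
import Groth.Agent.Flatmor4.FPSections
import Groth.Agent.QCohMod.Category
-- import your own Groth.Agent.* helpers here

set_option autoImplicit false
universe u
open EGA43

namespace Groth.Agent.S4887

theorem finitePresentation_ker {B G H : Type u} [CommRing B] [AddCommGroup G] [Module B G] [AddCommGroup H]
    [Module B H] [Module.FinitePresentation B G] (φ : G →ₗ[B] H) (hφ : Function.Surjective φ) (k : ℕ)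
    (g₀ : (Fin k → B) →ₗ[B] H) (hg₀ : Function.Surjective g₀)
    (hK : Module.FinitePresentation B (LinearMap.ker g₀)) :
    Module.FinitePresentation B (LinearMap.ker φ) := by
  let P : Submodule B (G × (Fin k → B)) := LinearMap.ker (φ.coprod (-g₀))
  have hP : ∀ v : P, φ v.1.1 = g₀ v.1.2 := fun v => by
    have h := v.2
    simp only [P, LinearMap.mem_ker, LinearMap.coprod_apply, LinearMap.neg_apply] at h
    exact eq_of_sub_eq_zero (by rwa [sub_eq_add_neg])
  let p₁ : P →ₗ[B] G := LinearMap.fst B G _ ∘ₗ P.subtype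
  have hp₁ : Function.Surjective p₁ := fun x => by
    obtain ⟨v, hv⟩ := hg₀ (φ x)
    exact ⟨⟨(x, v), by simp [P, hv]⟩, rfl⟩
  let e : LinearMap.ker p₁ ≃ₗ[B] LinearMap.ker g₀ :=
    LinearEquiv.ofBijective
      ((LinearMap.snd B G _ ∘ₗ P.subtype ∘ₗ (LinearMap.ker p₁).subtype).codRestrict _ fun v => by
        have h : v.1.1.1 = 0 := v.2
        show g₀ v.1.1.2 = 0
        rw [← hP v.1, h, map_zero])
      ⟨fun a b hab => Subtype.ext (Subtype.ext (Prod.ext
          ((show a.1.1.1 = 0 from a.2).trans (show b.1.1.1 = 0 from b.2).symm) (congrArg Subtype.val hab))),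
        fun w => ⟨⟨⟨(0, w.1), by simp [P, LinearMap.mem_ker.1 w.2]⟩, rfl⟩, rfl⟩⟩
  have : Module.FinitePresentation B (LinearMap.ker p₁) := Module.FinitePresentation.of_equiv (R := B) (M := LinearMap.ker g₀) (N := LinearMap.ker p₁) e.symm
  have : Module.FinitePresentation B P := Module.finitePresentation_of_ker p₁ hp₁
  obtain ⟨s, hs⟩ := Module.projective_lifting_property φ g₀ hφ
  let r : P →ₗ[B] LinearMap.ker φ := (p₁ - s ∘ₗ LinearMap.snd B G _ ∘ₗ P.subtype).codRestrict _ fun v => by
    show φ (v.1.1 - s v.1.2) = 0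
    rw [map_sub, hP v, ← LinearMap.comp_apply, hs, sub_self]
  let t : (Fin k → B) →ₗ[B] P := (s.prod LinearMap.id).codRestrict _ fun v => by
    simp [P, ← LinearMap.comp_apply φ s, hs]
  refine Module.finitePresentation_of_surjective r (fun w => ⟨⟨(w.1, 0), by simp [P, LinearMap.mem_ker.1 w.2]⟩,
    Subtype.ext (by simp [r, p₁])⟩) ?_
  have e' : LinearMap.ker r = LinearMap.range t := by
    ext v
    constructor
    · intro hv
      refine ⟨v.1.2, Subtype.ext (Prod.ext ?_ rfl)⟩
      exact (sub_eq_zero.1 (congrArg Subtype.val (LinearMap.mem_ker.1 hv))).symm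
    · rintro ⟨w, rfl⟩
      exact Subtype.ext (by simp [r, t, p₁])
  rw [e', LinearMap.range_eq_map]
  exact Module.Finite.fg_top.map t


open AlgebraicGeometry CategoryTheory Limits in
/-- Let f : X ⟶ Y be locally of finite presentation, G and H quasi-coherent O_X-modules of finite
presentation with H f-flat, and p : G ⟶ H an epimorphism. Then Ker p is an O_X-module of finite
presentation. -/
theorem result {X Y : Scheme.{u}} (f : X ⟶ Y) [LocallyOfFinitePresentation f]
    (G H : X.Modules) [Coh.IsQCoh G] [Coh.IsQCoh H] (hG : CohB1.IsFP G) (hH : CohB1.IsFP H)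
    (hflat : FlatMod.IsFlatOver f H) (p : G ⟶ H) [Epi p] :
    CohB1.IsFP (kernel p) := by
  have : G.IsQuasicoherent := (inferInstance : Coh.IsQCoh G)
  have : H.IsQuasicoherent := (inferInstance : Coh.IsQCoh H)
  refine Groth.LocFree.isFP_of_affine_cover _ fun x => ?_
  obtain ⟨O, hO, hxO, -⟩ := exists_isAffineOpen_mem_and_subset (U := (⊤ : Y.Opens)) (x := f x) trivial
  obtain ⟨W, hW, hxW, hWO⟩ := exists_isAffineOpen_mem_and_subset (U := f ⁻¹ᵁ O) (x := x) hxO
  refine ⟨W, hW, hxW, ?_⟩
  let : Algebra Γ(Y, O) Γ(X, W) := (f.appLE O W hWO).hom.toAlgebra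
  let := Groth.Flatmor4.sectionModule f H hWO
  have : IsScalarTower Γ(Y, O) Γ(X, W) Γ(H, W) := IsScalarTower.of_algebraMap_smul fun _ _ => rfl
  have : Algebra.FinitePresentation Γ(Y, O) Γ(X, W) := f.finitePresentation_appLE hO hW hWO
  have : Module.FinitePresentation Γ(X, W) Γ(H, W) := Groth.Flatmor4.finitePresentation_sections_of_isFP H hH hW
  have : Module.FinitePresentation Γ(X, W) Γ(G, W) := Groth.Flatmor4.finitePresentation_sections_of_isFP G hG hW
  have : Module.Flat Γ(Y, O) Γ(H, W) :=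
    (Groth.Flatmor4.flat_sections_iff f H hW hO hWO).2 fun z _ => hflat z
  obtain ⟨k, g₀, hg₀, hK⟩ := Groth.Ega43FP2.exists_surjective_finitePresentation_ker Γ(Y, O) Γ(X, W) Γ(H, W)
  let φ : Γ(G, W) →ₗ[Γ(X, W)] Γ(H, W) :=
    { toFun := p.app W, map_add' := map_add _, map_smul' := fun r a => Scheme.Modules.Hom.app_smul p r a }
  have hφ : Function.Surjective φ := Groth.QCohMod.app_surjective_of_epi p hW
  have := finitePresentation_ker φ hφ k g₀ hg₀ hK
  let ι : Γ(kernel p, W) →ₗ[Γ(X, W)] Γ(G, W) :=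
    { toFun := (kernel.ι p).app W, map_add' := map_add _, map_smul' := fun r a => Scheme.Modules.Hom.app_smul _ r a }
  have h0 : ∀ v, φ (ι v) = 0 := fun v => congr(($(kernel.condition p)).app W v)
  have : Mono (ShortComplex.mk (kernel.ι p) p (kernel.condition p)).f := inferInstanceAs (Mono (kernel.ι p))
  let e : Γ(kernel p, W) ≃ₗ[Γ(X, W)] LinearMap.ker φ :=
    LinearEquiv.ofBijective (ι.codRestrict _ h0)
      ⟨fun a b hab => Groth.QCohMod.app_injective_of_mono (kernel.ι p) W (congrArg Subtype.val hab), fun w => by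
        obtain ⟨v, hv⟩ := Groth.QCohMod.exists_app_eq_of_mono_exact (S := ShortComplex.mk (kernel.ι p) p (kernel.condition p))
          (ShortComplex.exact_of_f_is_kernel _ (kernelIsKernel p)) W w.1 w.2
        exact ⟨v, Subtype.ext hv⟩⟩
  exact Module.FinitePresentation.of_equiv e.symm

end Groth.Agent.S4887
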