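import Groth.Statements.S4888
import Groth.Agent.EGA43Topo.JacobsonLocalDim

set_option autoImplicit false
universe u
open CategoryTheory AlgebraicGeometry
open EGA43

namespace Groth.Agent.S4888

/-- Let X be a locally Noetherian Jacobson scheme whose local rings are universally catenary and whose
irreducible components are equidimensional (for every irreducible component X' and closed point x of
X', dim X' equals the dimension of the space of generizations of x in X'); let Y be a closed subset
of X and x a point of Y. Then dim_x(Y) = dim(U ∩ Y) = dim cl{x} + codim(cl{x}, Y) = sup_i dim(Y_i);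
that is, the local dimension of Y at x equals the dimension of the closure of x plus the codimension
of that closure in Y (the Krull dimension of the space of generizations of x in Y), equals the
supremum of the dimensions of the irreducible components Y_i of Y through x, and equals dim(U ∩ Y)
for every open neighbourhood U of x meeting no irreducible component of Y that avoids x. (The
published statement assumes only the Jacobson and universally-catenary conditions; its proof applies
the dimension formula for dense opens to the irreducible components, which needs their
equidimensionality, and for an irreducible Noetherian Jacobson scheme with universally catenary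
local rings having two closed points with local rings of different dimensions n − 1 and n — such
schemes exist — the two sides differ at the first of these points; so equidimensionality of the
components is assumed here.) -/
theorem result (X : Scheme.{u}) [IsLocallyNoetherian X] [JacobsonSpace X]
    (h2 : ∀ x : X, CAlg.IsUniversallyCatenary (X.presheaf.stalk x))
    (h3 : ∀ X' ∈ irreducibleComponents (X : Type u), ∀ x ∈ X', IsClosed ({x} : Set X) →
      topologicalKrullDim (↥X' : Type u) = topologicalKrullDim ↥{t : X | t ∈ X' ∧ t ⤳ x})
    (Y : Set X) (hY : IsClosed Y) (x : X) (hx : x ∈ Y) :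
    FlatMor.localDim ↥Y ⟨x, hx⟩ =
        topologicalKrullDim ↥(closure ({x} : Set X)) + topologicalKrullDim ↥{t : X | t ∈ Y ∧ t ⤳ x} ∧
      FlatMor.localDim ↥Y ⟨x, hx⟩ =
        ⨆ C ∈ {C : Set ↥Y | C ∈ irreducibleComponents ↥Y ∧ (⟨x, hx⟩ : ↥Y) ∈ C}, topologicalKrullDim ↥C ∧
      ∀ U : Set X, IsOpen U → x ∈ U →
        (∀ C ∈ irreducibleComponents ↥Y, (⟨x, hx⟩ : ↥Y) ∉ C → Disjoint (Subtype.val ⁻¹' U) C) →
        topologicalKrullDim ↥(U ∩ Y) = FlatMor.localDim ↥Y ⟨x, hx⟩ := by
  exact Groth.EGA43Topo.JacobsonDim.localDim_closed_eq h2 (Groth.EGA43Topo.JacobsonDim.hasDimHeight_base h2 h3) Y hY x hx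

end Groth.Agent.S4888
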