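import Groth.Statements.S4889
import Groth.Agent.EGA43Topo.JacobsonLocalDim

set_option autoImplicit false
universe u
open CategoryTheory AlgebraicGeometry
open EGA43

namespace Groth.Agent.S4889

/-- Stated as the dimension equality to which its two-line proof reduces it: let S be a locally
Noetherian Jacobson scheme whose local rings are universally catenary and whose irreducible
components are equidimensional (for every irreducible component S' and every closed point s of S',
dim S' equals the dimension of the space of generizations of s in S'); let g : X ⟶ S be a morphism
locally of finite type, F a coherent O_X-module, Y its support and x a point of Y. Then dim(cl{x}) +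
dim(F_x) = dim_x(Y), where dim(F_x) is the Krull dimension of the O_{X,x}-module F_x (the Krull
dimension of its support in Spec O_{X,x}) and dim_x(Y) is the local dimension of Y at x. (The
published statement reads prof*_x(F) = dim_x(Y) − coprof(F_x), with the rectified depth prof*_x(F) =
prof(F_x) + dim cl{x} and the codepth coprof(F_x) = dim(F_x) − prof(F_x); for the nonzero finitely
generated module F_x this is the equality stated here. The published form of the special case in
which the base is X itself assumes only the Jacobson and universally-catenary conditions; this row
keeps the equidimensionality of the irreducible components of the base, which the proof uses and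
without which the formula fails.) -/
theorem result {X S : Scheme.{u}} [IsLocallyNoetherian S]
    [JacobsonSpace S] (h2 : ∀ s : S, CAlg.IsUniversallyCatenary (S.presheaf.stalk s))
    (h3 : ∀ S' ∈ irreducibleComponents (S : Type u), ∀ s ∈ S', IsClosed ({s} : Set S) →
      topologicalKrullDim (↥S' : Type u) = topologicalKrullDim ↥{t : S | t ∈ S' ∧ t ⤳ s})
    (g : X ⟶ S) [LocallyOfFiniteType g] (F : X.Modules) (hF : Coh.IsCoh F) (x : X) (hx : x ∈ CohB1.support F) :
    topologicalKrullDim ↥(closure ({x} : Set X)) + Module.supportDim ↑(X.presheaf.stalk x) ↑(F.presheaf.stalk x) =
      FlatMor.localDim ↥(CohB1.support F) ⟨x, hx⟩ := by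
  haveI : IsLocallyNoetherian X := LocallyOfFiniteType.isLocallyNoetherian g
  haveI : JacobsonSpace X := LocallyOfFiniteType.jacobsonSpace g
  have hX := Groth.EGA43Topo.JacobsonDim.hasDimHeight_of_lft h2 (Groth.EGA43Topo.JacobsonDim.hasDimHeight_base h2 h3) g
  rw [Groth.EGA43Topo.JacobsonDim.supportDim_stalk F hF x,
    (Groth.EGA43Topo.JacobsonDim.localDim_closed_eq (fun z => Groth.EGA43Topo.JacobsonDim.isUnivCat_stalk g z (h2 _)) hX
      _ (Groth.CohTwo.isClosed_support F hF) x hx).1]

end Groth.Agent.S4889
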