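import Groth.Statements.S4891
import Groth.Agent.EGA43Flat.Nilpotent
import Mathlib.RingTheory.Flat.FaithfullyFlat.Basic

set_option autoImplicit false
universe u
open TensorProduct
open EGA43

namespace Groth.Agent.S4891

/-- Let A be a commutative ring, J a nilpotent ideal of A, B a commutative A-algebra and M a B-module.
If M is flat over A, M/JM is flat over B/JB, B/JB is flat over A/J and mM ≠ M for every maximal
ideal m of B containing JB, then B is flat over A. (Under the first two hypotheses M is also flat
over B; that implication is stated elsewhere and not repeated here.) -/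
theorem result {A B : Type u} [CommRing A] [CommRing B] [Algebra A B]
    (J : Ideal A) (hJ : IsNilpotent J) (M : Type u) [AddCommGroup M] [Module B M] [Module A M] [IsScalarTower A B M]
    (hc1 : Module.Flat A M)
    (hc2 : Module.Flat (B ⧸ J.map (algebraMap A B)) ((B ⧸ J.map (algebraMap A B)) ⊗[B] M))
    (hd1 : Module.Flat (A ⧸ J) ((A ⧸ J) ⊗[A] B))
    (hd2 : ∀ m : Ideal B, m.IsMaximal → J.map (algebraMap A B) ≤ m → (m • (⊤ : Submodule B M)) ≠ ⊤) :
    Module.Flat A B := by
  let JB : Ideal B := J.map (algebraMap A B)
  have hnil : IsNilpotent JB := by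
    obtain ⟨n, hn⟩ := hJ
    exact ⟨n, by rw [← Ideal.map_pow, hn, Ideal.zero_eq_bot, Ideal.map_bot, Ideal.zero_eq_bot]⟩
  let g : J ⊗[A] M →ₗ[A] JB ⊗[B] M := TensorProduct.lift (LinearMap.mk₂ A
    (fun a m => (⟨algebraMap A B a, Ideal.mem_map_of_mem _ a.2⟩ : JB) ⊗ₜ[B] m)
    (fun a a' m => by rw [← add_tmul]; congr 1; exact Subtype.ext (map_add _ _ _))
    (fun c a m => by
      rw [smul_tmul']; congr 1; exact Subtype.ext (by simp [Algebra.smul_def]))
    (fun a m m' => tmul_add _ _ _)
    (fun c a m => by
      rw [← algebraMap_smul B c m, tmul_smul, algebraMap_smul]))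
  have hg : Function.Surjective g := by
    rw [← LinearMap.range_eq_top, eq_top_iff]
    rintro t -
    induction t with
    | zero => exact Submodule.zero_mem _
    | add x y hx hy => exact Submodule.add_mem _ hx hy
    | tmul x m =>
      obtain ⟨x, hx⟩ := x
      induction hx using Submodule.span_induction generalizing m with
      | mem x hx =>
        obtain ⟨a, ha, rfl⟩ := hx
        exact ⟨⟨a, ha⟩ ⊗ₜ m, rfl⟩
      | zero => exact ⟨0, by rw [map_zero]; exact (zero_tmul _ _).symm⟩
      | add x y hx hy ihx ihy =>
        have := Submodule.add_mem _ (ihx m) (ihy m)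
        rw [← add_tmul] at this
        exact this
      | smul b x hx ih =>
        have := ih (b • m)
        rw [← smul_tmul] at this
        exact this
  have hinj : Function.Injective (JB.subtype.rTensor M) := by
    rw [injective_iff_map_eq_zero]
    intro t ht
    obtain ⟨z, rfl⟩ := hg t
    have key : ∀ z, TensorProduct.lid B M (JB.subtype.rTensor M (g z)) =
        TensorProduct.lid A M (J.subtype.rTensor M z) := by
      intro z
      induction z with
      | zero => simp
      | tmul a m => simp [g]
      | add x y hx hy => simp only [map_add, hx, hy]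
    have hz := key z
    rw [ht, map_zero, eq_comm, EmbeddingLike.map_eq_zero_iff] at hz
    rw [(injective_iff_map_eq_zero _).1 (Module.Flat.rTensor_preserves_injective_linearMap
      J.subtype Subtype.val_injective) z hz, map_zero]
  haveI := hc2
  haveI : Module.Flat B M := Groth.EGA43Flat.flat_of_flat_quotient_of_rTensor_injective hnil hinj
  haveI : Module.FaithfullyFlat B M := ⟨fun m hm => hd2 m hm (by
    obtain ⟨n, hn⟩ := hnil
    exact hm.isPrime.le_of_pow_le (by rw [hn, Ideal.zero_eq_bot]; exact bot_le))⟩
  rw [Module.Flat.iff_lTensor_preserves_injective_linearMap]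
  intro N N' _ _ _ _ f hf
  show Function.Injective (f.baseChange B)
  rw [← Module.FaithfullyFlat.lTensor_injective_iff_injective B M (f.baseChange B)]
  let e := AlgebraTensorModule.cancelBaseChange A B B M N
  let e' := AlgebraTensorModule.cancelBaseChange A B B M N'
  have hc : ∀ z, (f.baseChange B).lTensor M z = e'.symm (f.lTensor M (e z)) := by
    intro z
    induction z with
    | zero => simp
    | add x y hx hy => simp only [map_add, hx, hy]
    | tmul m y =>
      induction y with
      | zero => simp
      | add x y hx hy => simp only [tmul_add, map_add, hx, hy]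
      | tmul b n => apply e'.injective; simp [e, e']
  intro z z' hz
  rw [hc, hc] at hz
  exact e.injective (Module.Flat.lTensor_preserves_injective_linearMap f hf (e'.symm.injective hz))

end Groth.Agent.S4891
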