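import Groth.Statements.S4894
import Groth.Agent.EGA43Topo.QuasiHomeo

set_option autoImplicit false
universe u
open EGA43

open Set TopologicalSpace Topology Groth.EGA43Topo

namespace Groth.Agent.S4894

/-- Let f : X → Y be continuous and (W_i) an open covering of Y such that every restriction f⁻¹(W_i) →
W_i is a quasi-homeomorphism (taking preimages is a bijection on open subsets). Then f is a
quasi-homeomorphism. -/
theorem result {X Y : Type u} [TopologicalSpace X]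
    [TopologicalSpace Y] (f : X → Y) (hf : Continuous f) {ι : Type u} (W : ι → Set Y)
    (hWo : ∀ i, IsOpen (W i)) (hWc : ⋃ i, W i = Set.univ)
    (h : ∀ i, ((∀ U₁ U₂ : Set ↥(W i), IsOpen U₁ → IsOpen U₂ → ((W i).restrictPreimage f) ⁻¹' U₁ = ((W i).restrictPreimage f) ⁻¹' U₂ → U₁ = U₂) ∧ (∀ V : Set ↥(f ⁻¹' W i), IsOpen V → ∃ U : Set ↥(W i), IsOpen U ∧ ((W i).restrictPreimage f) ⁻¹' U = V))) :
    ((∀ U₁ U₂ : Set Y, IsOpen U₁ → IsOpen U₂ → (f) ⁻¹' U₁ = (f) ⁻¹' U₂ → U₁ = U₂) ∧ (∀ V : Set X, IsOpen V → ∃ U : Set Y, IsOpen U ∧ (f) ⁻¹' U = V)) := by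
  have h' := QH.of_openCover hf hWo hWc fun i => ⟨hf.restrictPreimage, (h i).1, (h i).2⟩
  exact ⟨h'.inj, h'.surj⟩

end Groth.Agent.S4894
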