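import Groth.Statements.S4896
import Mathlib
import Groth.Agent.Ega43FP2.RectifiedDepthScheme
-- import your own Groth.Agent.* helpers here

set_option autoImplicit false
universe u
open CategoryTheory AlgebraicGeometry
open EGA43

namespace Groth.Agent.S4896


/-- Let S be locally Noetherian, Jacobson and regular with equidimensional irreducible components, g : X
⟶ S locally of finite type and F a coherent O_X-module. For every point x of X the rectified depth
prof*_x(F) = prof(F_x) + dim cl{x} is the unique n (a natural number or ∞) such that, for some open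
neighbourhood U of x, prof(F_{x'}) = n for every point x' of U ∩ cl{x} which is closed in U. -/
theorem result {X S : Scheme.{u}} [IsLocallyNoetherian S] [JacobsonSpace S]
    (hreg : ∀ s : S, IsRegularLocalRing ↑(S.presheaf.stalk s))
    (h3 : ∀ S' ∈ irreducibleComponents (S : Type u), ∀ s ∈ S', IsClosed ({s} : Set S) →
      topologicalKrullDim (↥S' : Type u) = topologicalKrullDim ↥{t : S | t ∈ S' ∧ t ⤳ s})
    (g : X ⟶ S) [LocallyOfFiniteType g] (F : X.Modules) (hF : Coh.IsCoh F) (x : X) :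
    letI pstar : WithBot ℕ∞ :=
      ((LocCoh.depth ↑(X.presheaf.stalk x) ↑(F.presheaf.stalk x) : ℕ∞) : WithBot ℕ∞) +
        topologicalKrullDim ↥(closure ({x} : Set X))
    ∀ n : ℕ∞,
      (∃ U : X.Opens, x ∈ U ∧ ∀ x' : ↥U, (x' : X) ∈ closure ({x} : Set X) → IsClosed ({x'} : Set ↥U) →
        LocCoh.depth ↑(X.presheaf.stalk (x' : X)) ↑(F.presheaf.stalk (x' : X)) = n) ↔
      ((n : WithBot ℕ∞) = pstar) := by
  intro n
  have : IsLocallyNoetherian X := LocallyOfFiniteType.isLocallyNoetherian g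
  have : JacobsonSpace X := LocallyOfFiniteType.jacobsonSpace g
  simp only [Groth.Variety2.Dim.dim_closure_singleton, ← WithBot.coe_add, WithBot.coe_inj]
  let ψ : X → ℕ∞ := fun z => LocCoh.depth ↑(X.presheaf.stalk z) ↑(F.presheaf.stalk z) + Order.height z
  have hopen : ∀ m : ℕ, IsOpen {z | (m : ℕ∞) ≤ ψ z} := Groth.Ega43FP2.isOpen_le_depth_add_height hreg h3 g F hF
  have hclosed : ∀ z : X, IsClosed ({z} : Set X) →
      ψ z = LocCoh.depth ↑(X.presheaf.stalk z) ↑(F.presheaf.stalk z) := fun z hz => by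
    show _ + Order.height z = _
    rw [Groth.Ega43FP2.height_eq_zero_of_isClosed hz, add_zero]
  have hmono : ∀ z, x ⤳ z → ψ z ≤ ψ x := fun z hz =>
    ENat.forall_natCast_le_iff_le.1 fun m hm => hz.mem_open (hopen m) hm
  obtain ⟨U₀, hxU₀, hU₀⟩ : ∃ U₀ : X.Opens, x ∈ U₀ ∧ ∀ z ∈ U₀, ψ x ≤ ψ z := by
    cases hψ : ψ x using ENat.recTopCoe with
    | coe m => exact ⟨⟨_, hopen m⟩, hψ.ge, fun z hz => hz⟩
    | top =>
      refine ⟨⟨_, (Groth.CohTwo.isClosed_support F hF).isOpen_compl⟩, ?_, fun z hz => ?_⟩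
      · show ¬ x ∈ CohB1.support F
        have hfin : Order.height x ≠ ⊤ := by
          have h2 : ∀ s : S, CAlg.IsUniversallyCatenary (S.presheaf.stalk s) := fun s => by
            have := hreg s
            exact Groth.Ega43FP2.isUniversallyCatenary_regular
          have hX := Groth.EGA43Topo.JacobsonDim.hasDimHeight_of_lft h2
            (Groth.EGA43Topo.JacobsonDim.hasDimHeight_base h2 h3) g
          obtain ⟨z, -, hz, hzc⟩ := Groth.EGA43Topo.JacobsonDim.exists_closed_le_of_mem (X := X) Set.univ isOpen_univ (Set.mem_univ x)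
          exact (hX z x hz hzc).2
        have hd := (ENat.add_eq_top.1 hψ).resolve_right hfin
        exact not_not.2 ((Groth.Ega43FP2.depth_eq_top_iff_stalk F hF x).1 hd)
      · refine le_of_eq ?_
        show ⊤ = _ + _
        rw [(Groth.Ega43FP2.depth_eq_top_iff_stalk F hF z).2 (not_not.1 hz), top_add]
  constructor
  · rintro ⟨U, hxU, hU⟩
    obtain ⟨z, ⟨hzU, hzU₀⟩, hzx, hzc⟩ := Groth.EGA43Topo.JacobsonDim.exists_closed_le_of_mem (X := X)
      ((U : Set X) ∩ U₀) (U.isOpen.inter U₀.isOpen) ⟨hxU, hxU₀⟩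
    have hcl : IsClosed ({(⟨z, hzU⟩ : ↥U)} : Set ↥U) := by
      convert hzc.preimage (continuous_subtype_val : Continuous (Subtype.val : ↥U → X)) using 1
      ext w
      simp [Subtype.ext_iff]
    have h := hU ⟨z, hzU⟩ (specializes_iff_mem_closure.1 (hzx : x ⤳ z)) hcl
    rw [← h, ← hclosed z hzc]
    exact le_antisymm (hmono z hzx) (hU₀ z hzU₀)
  · intro hn
    refine ⟨U₀, hxU₀, fun x' hx' hcl => ?_⟩
    rw [← hclosed _ (Groth.Ega43FP2.isClosed_singleton_of_isClosed_subtype hcl), hn]
    exact le_antisymm (hmono _ (specializes_iff_mem_closure.2 hx')) (hU₀ _ x'.2)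

end Groth.Agent.S4896
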