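import Groth.Statements.S4897
import Groth.Agent.EGA43Topo.QuasiHomeo

set_option autoImplicit false
universe u
open EGA43

open Set TopologicalSpace Topology Groth.EGA43Topo

namespace Groth.Agent.S4897

/-- Let f : X → Y be a quasi-homeomorphism, i.e. a continuous map such that U ↦ f⁻¹(U) is a bijection
from the open subsets of Y onto the open subsets of X. Then Z ↦ f⁻¹(Z) induces bijections from the
locally closed (resp. constructible, resp. locally constructible) subsets of Y onto those of X. -/
theorem result {X Y : Type u}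
    [TopologicalSpace X] [TopologicalSpace Y] (f : X → Y) (hf : Continuous f)
    (hq : Function.Bijective (fun U : TopologicalSpace.Opens Y =>
      (⟨f ⁻¹' (U : Set Y), U.isOpen.preimage hf⟩ : TopologicalSpace.Opens X))) :
    Function.Bijective (fun Z : {Z : Set Y // IsLocallyClosed Z} =>
        (⟨f ⁻¹' Z.1, Z.2.preimage hf⟩ : {Z : Set X // IsLocallyClosed Z})) ∧
      Set.BijOn (fun Z : Set Y => f ⁻¹' Z) {Z | Topology.IsConstructible Z} {Z | Topology.IsConstructible Z} ∧
      Set.BijOn (fun Z : Set Y => f ⁻¹' Z) {Z | Topology.IsLocallyConstructible Z}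
        {Z | Topology.IsLocallyConstructible Z} := by
  have h := QH.of_bijective hf hq
  refine ⟨⟨fun Z Z' he => Subtype.ext (h.eq_of_preimage_eq (.of_isLocallyClosed Z.2)
    (.of_isLocallyClosed Z'.2) (congrArg Subtype.val he)), fun Z => ?_⟩, ?_, ?_⟩
  · obtain ⟨Z', hZ', he⟩ := h.exists_isLocallyClosed Z.2
    exact ⟨⟨Z', hZ'⟩, Subtype.ext he⟩
  · exact ⟨fun Z hZ => h.isConstructible_preimage hZ, fun Z hZ Z' hZ' he =>
      h.eq_of_preimage_eq (isQC_of_isConstructible hZ).isLQC (isQC_of_isConstructible hZ').isLQC he,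
      fun Z hZ => h.exists_isConstructible hZ⟩
  · exact ⟨fun Z hZ => h.isLocallyConstructible_preimage hZ, fun Z hZ Z' hZ' he =>
      h.eq_of_preimage_eq (isLQC_of_isLocallyConstructible hZ)
        (isLQC_of_isLocallyConstructible hZ') he,
      fun Z hZ => h.exists_isLocallyConstructible hZ⟩

end Groth.Agent.S4897
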