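import Groth.Statements.S4898
import Groth.Agent.EGA43Strat.GenericIdeal
import Groth.Agent.EGA43Strat.Sections
import Groth.Agent.FlatMorOne.FlatStratScheme

set_option autoImplicit false
universe u
open CategoryTheory AlgebraicGeometry
open EGA43
open scoped TensorProduct
set_option backward.isDefEq.respectTransparency.types false

namespace Groth.Agent.S4898

open CategoryTheory.Limits in
/-- Over an affine irreducible base, tested on affine base changes, to which the general statement
reduces: let A be a commutative ring whose spectrum is irreducible, f : X ⟶ Spec A a morphism of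
finite presentation and F a quasi-coherent O_X-module of finite presentation. Then there are an
element h of A which is not nilpotent (so that U = Spec A_h is a nonempty open subset of Spec A) and
a finitely generated ideal J of A_h contained in the nilradical (so that the closed subscheme Z =
V(J) of U, of finite presentation over U, has the same underlying space as U) such that for every
A_h-algebra A' the pullback of F to X ×_{Spec A} Spec A' is flat over Spec A' if and only if J
generates the zero ideal of A', i.e. if and only if Spec A' ⟶ U factors through Z. (The published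
statement also asserts that, for a finite affine open cover (W_i) of X, U can be chosen so that the
sections of the pullback of F over each W_i ×_{Spec A} Spec A' form a free A'-module whenever Spec
A' ⟶ U factors through Z; this row omits that assertion.) -/
theorem result {A : Type u} [CommRing A] [IrreducibleSpace (PrimeSpectrum A)]
    {X : Scheme.{u}} (f : X ⟶ Spec (CommRingCat.of A))
    [LocallyOfFinitePresentation f] [QuasiCompact f] [QuasiSeparated f]
    (F : X.Modules) [Coh.IsQCoh F] (hF : CohB1.IsFP F) :
    ∃ (h : A) (_ : ¬ IsNilpotent h) (J : Ideal (Localization.Away h)) (_ : J.FG)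
      (_ : J ≤ nilradical (Localization.Away h)),
      ∀ (A' : Type u) [CommRing A'] [Algebra (Localization.Away h) A'],
        letI g : Spec (CommRingCat.of A') ⟶ Spec (CommRingCat.of A) :=
          Spec.map (CommRingCat.ofHom ((algebraMap (Localization.Away h) A').comp (algebraMap A (Localization.Away h))))
        (FlatMod.IsFlatOver (pullback.snd f g) ((Scheme.Modules.pullback (pullback.fst f g)).obj F) ↔
          Ideal.map (algebraMap (Localization.Away h) A') J = ⊥) := by
  have : F.IsQuasicoherent := ‹Coh.IsQCoh F›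
  let S := Spec (CommRingCat.of A)
  let R : Type u := Γ(S, ⊤)
  let ε : R ≃+* A := (Scheme.ΓSpecIso (CommRingCat.of A)).commRingCatIsoToRingEquiv
  have hnA : (nilradical A).IsPrime := PrimeSpectrum.irreducibleSpace_iff_isPrime_nilradical.mp inferInstance
  have hnil : (nilradical R).IsPrime := by
    have : nilradical R = (nilradical A).comap ε := by
      ext x
      exact (IsNilpotent.map_iff (f := ε) ε.injective).symm
    exact this ▸ hnA.comap _
  have : CompactSpace X := QuasiCompact.compactSpace_of_compactSpace f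
  obtain ⟨s, hs⟩ := isCompact_univ.elim_finite_subcover (fun U : X.affineOpens => (U.1 : Set X))
    (fun U => U.1.isOpen) (fun x _ => by
      obtain ⟨_, ⟨U, hU, rfl⟩, hxU, -⟩ :=
        X.isBasis_affineOpens.exists_subset_of_mem_open (Set.mem_univ x) isOpen_univ
      exact Set.mem_iUnion.mpr ⟨⟨U, hU⟩, hxU⟩)
  have key : ∀ W : X.affineOpens, ∃ (a : R) (_ : a ∉ nilradical R)
      (J : Ideal (Localization.Away a)) (_ : J.FG) (_ : J ≤ nilradical (Localization.Away a)),
      letI := Groth.Flatmor4.sectionModule f F (U := W.1) (V := ⊤) le_top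
      ∀ (A' : Type u) [CommRing A'] [Algebra R A'] [Algebra (Localization.Away a) A']
        [IsScalarTower R (Localization.Away a) A'],
        Module.Flat A' (A' ⊗[R] Γ(F, W.1)) ↔ J.map (algebraMap (Localization.Away a) A') = ⊥ := by
    intro W
    have e : W.1 ≤ f ⁻¹ᵁ ⊤ := le_top
    letI : Algebra R Γ(X, W.1) := (f.appLE ⊤ W.1 e).hom.toAlgebra
    letI : Module R Γ(F, W.1) := Groth.Flatmor4.sectionModule f F e
    haveI : IsScalarTower R Γ(X, W.1) Γ(F, W.1) := .of_algebraMap_smul fun _ _ => rfl
    have : Algebra.FinitePresentation R Γ(X, W.1) :=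
      f.finitePresentation_appLE (isAffineOpen_top S) W.2 e
    have := Groth.PropsBasic.FPSections.finitePresentation_sections F hF W.2
    exact Groth.EGA43Strat.exists_generic_flattening_ideal R Γ(X, W.1) Γ(F, W.1) (hN := hnil)
  choose a ha J hJfg hJnil hiff using key
  let h : A := ε (∏ W ∈ s, a W)
  have hh : ¬ IsNilpotent h := by
    rw [IsNilpotent.map_iff ε.injective, ← mem_nilradical, Ideal.IsPrime.prod_mem_iff (hp := hnil)]
    exact fun ⟨W, _, hW⟩ => ha W hW
  let Ah := Localization.Away h
  let u₀ : R →+* Ah := (algebraMap A Ah).comp ε.toRingHom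
  have hu : ∀ W : {W // W ∈ s}, IsUnit (u₀ (a W.1)) := fun W =>
    isUnit_of_dvd_unit (map_dvd u₀ (Finset.dvd_prod_of_mem a W.2))
      (show IsUnit (u₀ (∏ W ∈ s, a W)) from IsLocalization.Away.algebraMap_isUnit h)
  let ν : ∀ W : {W // W ∈ s}, Localization.Away (a W.1) →+* Ah := fun W =>
    IsLocalization.Away.lift (a W.1) (hu W)
  let JJ : Ideal Ah := ⨆ W, (J W.1).map (ν W)
  refine ⟨h, hh, JJ, ?_, iSup_le fun W => Ideal.map_le_iff_le_comap.2 fun x hx =>
    (mem_nilradical.1 (hJnil W.1 hx)).map (ν W), fun A' _ _ => ?_⟩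
  · exact Submodule.fg_iSup _ fun W => Ideal.FG.map (hJfg W.1) (ν W)
  let δ : A' ≃+* Γ(Spec (CommRingCat.of A'), ⊤) :=
    (Scheme.ΓSpecIso (CommRingCat.of A')).symm.commRingCatIsoToRingEquiv
  let T := Spec (CommRingCat.of A')
  let c : A →+* A' := (algebraMap Ah A').comp (algebraMap A Ah)
  let g₀ : T ⟶ S := Spec.map (CommRingCat.ofHom c)
  have hg₀ : ∀ r : R, g₀.appLE ⊤ ⊤ le_top r = δ (algebraMap Ah A' (u₀ r)) := by
    intro r
    have h2 := congrArg (fun ξ => ξ.hom r) (Scheme.ΓSpecIso_naturality (CommRingCat.ofHom c))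
    rw [show g₀.appLE ⊤ ⊤ le_top = g₀.appTop from (Scheme.Hom.app_eq_appLE _).symm]
    simp only [CommRingCat.hom_comp, RingHom.comp_apply] at h2
    exact (δ.apply_symm_apply (g₀.appTop r)).symm.trans (congrArg δ h2)
  have main : ∀ W : {W // W ∈ s},
      (∀ x : ↥(pullback f g₀), pullback.fst f g₀ x ∈ W.1.1 →
        FlatMod.IsFlatOverAt (pullback.snd f g₀)
          ((Scheme.Modules.pullback (pullback.fst f g₀)).obj F) x) ↔
      ((J W.1).map (ν W)).map (algebraMap Ah A') = ⊥ := by
    intro W
    rw [← Groth.EGA43Strat.flat_baseChange_iff_sections f F W.1.2 g₀]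
    letI : Algebra R Γ(T, ⊤) := (g₀.appLE ⊤ ⊤ le_top).hom.toAlgebra
    letI : Algebra (Localization.Away (a W.1)) Γ(T, ⊤) :=
      (δ.toRingHom.comp ((algebraMap Ah A').comp (ν W))).toAlgebra
    haveI : IsScalarTower R (Localization.Away (a W.1)) Γ(T, ⊤) :=
      .of_algebraMap_eq fun r => (hg₀ r).trans
        (congrArg (fun z => δ (algebraMap Ah A' z))
          (IsLocalization.Away.lift_eq (a W.1) (hu W) r).symm)
    refine (hiff W.1 Γ(T, ⊤)).trans ?_
    rw [Ideal.map_map, show algebraMap (Localization.Away (a W.1)) Γ(T, ⊤) =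
      δ.toRingHom.comp ((algebraMap Ah A').comp (ν W)) from rfl, ← Ideal.map_map]
    exact Ideal.map_eq_bot_iff_of_injective δ.injective
  show (FlatMod.IsFlatOver (pullback.snd f g₀) _ ↔ _)
  rw [show Ideal.map (algebraMap Ah A') JJ = ⨆ W, ((J W.1).map (ν W)).map (algebraMap Ah A') from
    Ideal.map_iSup _ _, iSup_eq_bot]
  refine ⟨fun hf W => (main W).1 fun x _ => hf x, fun hW x => ?_⟩
  obtain ⟨W, hWs, hxW⟩ := Set.mem_iUnion₂.1 (hs (Set.mem_univ (pullback.fst f g₀ x)))
  exact (main ⟨W, hWs⟩).2 (hW ⟨W, hWs⟩) x hxW

end Groth.Agent.S4898
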