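import Groth.Statements.S4899
import Groth.Agent.EGA43Art.PointScheme
import Groth.Agent.QCohMod.FiniteType

set_option autoImplicit false
universe u
open CategoryTheory AlgebraicGeometry
open EGA43

namespace Groth.Agent.S4899

open CategoryTheory.Limits in
/-- Let A be an Artinian local ring, f : X ⟶ Spec A locally of finite type, F a coherent O_X-module and
x a point of X; let (u_i : A → A_i) be a family of ring homomorphisms into local rings such that an
element of A killed by every u_i is zero. Assume (ii) that the residue field k(x) is a primary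
extension of the residue field of the base (every element of k(x) which is separable algebraic over
it already lies in it; automatic when that field is separably closed), and (iii) that for every i
there is a point x' of X_i = X ×_{Spec A} Spec A_i above x and above the closed point of Spec A_i at
which the pullback of F is flat over Spec A_i. Then F is f-flat at x. -/
theorem result {A : Type u} [CommRing A]
    [IsArtinianRing A] [IsLocalRing A] {X : Scheme.{u}} (f : X ⟶ Spec (CommRingCat.of A))
    [LocallyOfFiniteType f] (F : X.Modules) (hF : Coh.IsCoh F) (x : X)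
    {ι : Type u} (A' : ι → Type u) [∀ i, CommRing (A' i)] [∀ i, IsLocalRing (A' i)] (u : ∀ i, A →+* A' i)
    (hu : ∀ a : A, (∀ i, u i a = 0) → a = 0)
    (hprim : letI := (f.residueFieldMap x).hom.toAlgebra
      ∀ a : ↑(X.residueField x), IsSeparable ↑((Spec (CommRingCat.of A)).residueField (f x)) a →
        a ∈ (f.residueFieldMap x).hom.range)
    (hflat : ∀ i : ι, ∃ x' : ↥(pullback f (Spec.map (CommRingCat.ofHom (u i)))),
      pullback.fst f (Spec.map (CommRingCat.ofHom (u i))) x' = x ∧
      pullback.snd f (Spec.map (CommRingCat.ofHom (u i))) x' = IsLocalRing.closedPoint (A' i) ∧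
      FlatMod.IsFlatOverAt (pullback.snd f (Spec.map (CommRingCat.ofHom (u i))))
        ((Scheme.Modules.pullback (pullback.fst f (Spec.map (CommRingCat.ofHom (u i))))).obj F) x') :
    FlatMod.IsFlatOverAt f F x := by
  have : F.IsQuasicoherent := hF.1
  have : IsNoetherianRing A := inferInstance
  have : IsLocallyNoetherian X := LocallyOfFiniteType.isLocallyNoetherian f
  obtain ⟨U, hU, hx, -⟩ := exists_isAffineOpen_mem_and_subset (X := X) (U := ⊤) (x := x) trivial
  have e₁ : U ≤ f ⁻¹ᵁ ⊤ := le_top
  have : IsNoetherianRing Γ(X, U) := IsLocallyNoetherian.component_noetherian ⟨U, hU⟩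
  have : Module.Finite Γ(X, U) Γ(F, U) := Groth.QCohMod.finite_sections F hF.2 hU
  let eA : A ≃+* Γ(Spec (CommRingCat.of A), ⊤) :=
    (Scheme.ΓSpecIso (CommRingCat.of A)).symm.commRingCatIsoToRingEquiv
  have : IsArtinianRing Γ(Spec (CommRingCat.of A), ⊤) := eA.surjective.isArtinianRing
  have : IsLocalRing Γ(Spec (CommRingCat.of A), ⊤) := eA.isLocalRing
  let g := fun i => Spec.map (CommRingCat.ofHom (u i))
  let A₁ := fun i => (Γ(Spec (CommRingCat.of (A' i)), ⊤) : Type u)
  have e₂ : ∀ i, (⊤ : (Spec (CommRingCat.of (A' i))).Opens) ≤ g i ⁻¹ᵁ ⊤ := fun i => le_top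
  letI : ∀ i, Algebra Γ(Spec (CommRingCat.of A), ⊤) (A₁ i) := fun i =>
    ((g i).appLE ⊤ ⊤ (e₂ i)).hom.toAlgebra
  have hloc : ∀ i, IsLocalRing Γ(Spec (CommRingCat.of (A' i)), ⊤) := fun i =>
    (Scheme.ΓSpecIso (CommRingCat.of (A' i))).symm.commRingCatIsoToRingEquiv.isLocalRing
  letI := (f.appLE ⊤ U e₁).hom.toAlgebra
  letI : Module Γ(Spec (CommRingCat.of A), ⊤) Γ(F, U) :=
    Module.compHom _ (f.appLE ⊤ U e₁).hom
  haveI : IsScalarTower Γ(Spec (CommRingCat.of A), ⊤) Γ(X, U) Γ(F, U) :=
    IsScalarTower.of_algebraMap_smul fun _ _ => rfl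
  choose x' hx' hclosed hflat' using hflat
  have hall := fun i =>
    have := hloc i
    Groth.EGA43Art.detect_pointScheme f (g i) e₁ (e₂ i) (isAffineOpen_top _)
      (isAffineOpen_top (Spec (CommRingCat.of (A' i)))) hU F x hx
      ⟨x' i, ⟨(congrArg (· ∈ U) (hx' i)).mpr hx, trivial⟩, hx' i⟩
      (by
        let T := Spec (CommRingCat.of (A' i))
        have hcl : (pullback.snd f (g i)) (x' i) = IsLocalRing.closedPoint (A' i) := hclosed i
        refine IsLocalRing.eq_maximalIdeal (Ideal.isMaximal_def.2 ⟨Ideal.IsPrime.ne_top', fun J hJ => ?_⟩)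
        by_contra hJt
        obtain ⟨r, hrJ, hr⟩ := SetLike.exists_of_lt hJ
        have hmem := (Groth.QCohMod.mem_basicOpen_iff_notMem_primeIdealOf
          (isAffineOpen_top T) r _ trivial).2 hr
        rw [hcl] at hmem
        have htop : T.basicOpen r = ⊤ := (IsLocalRing.closedPoint_mem_iff (T.basicOpen r)).1 hmem
        have hu : IsUnit (T.presheaf.map (homOfLE (T.basicOpen_le r)).op r) :=
          T.toRingedSpace.isUnit_res_basicOpen r
        have hu' : IsUnit r := by
          have : IsIso (T.presheaf.map (homOfLE (T.basicOpen_le r)).op) := by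
            have : homOfLE (T.basicOpen_le r) = eqToHom htop := Subsingleton.elim _ _
            rw [this]
            infer_instance
          exact isUnit_of_map_unit (T.presheaf.map (homOfLE (T.basicOpen_le r)).op).hom r hu
        exact hJt (Ideal.eq_top_of_isUnit_mem _ hrJ hu'))
      hprim (hflat' i)
  choose κ N hN₁ hN₂ hN₃ hN₄ hN₅ ψ hdet using hall
  set 𝔭 := (hU.primeIdealOf ⟨x, hx⟩).asIdeal with h𝔭
  have hflatloc : Module.Flat Γ(Spec (CommRingCat.of A), ⊤)
      (LocalizedModule 𝔭.primeCompl Γ(F, U)) := by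
    refine Groth.EGA43Art.flat_of_detect A₁ (fun a ha => ?_) N ψ hdet
    refine eA.symm.injective ((hu (eA.symm a) fun i => ?_).trans (map_zero _).symm)
    have h1 : (g i).appTop a = 0 := by
      rw [show (g i).appTop = (g i).appLE ⊤ ⊤ (e₂ i) from Scheme.Hom.app_eq_appLE _]
      exact ha i
    have h2 := congrArg (fun χ => χ.hom a) (Scheme.ΓSpecIso_naturality (CommRingCat.ofHom (u i)))
    simp only [CommRingCat.hom_comp, RingHom.comp_apply, g] at h2 h1
    rw [h1, map_zero] at h2
    exact h2.symm
  -- back to the stalk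
  let _ := FlatMod.moduleStalkOver f F x
  let _ := Groth.QCohMod.stalkModule F x hx
  let _ : Module Γ(Spec (CommRingCat.of A), ⊤) (F.presheaf.stalk x) :=
    Module.compHom _ ((X.presheaf.germ U x hx).hom.comp (f.appLE ⊤ U e₁).hom)
  have : IsScalarTower Γ(Spec (CommRingCat.of A), ⊤) Γ(X, U) (F.presheaf.stalk x) :=
    IsScalarTower.of_algebraMap_smul fun _ _ => rfl
  have := Groth.QCohMod.isLocalizedModule_germ F hU x hx
  let e : LocalizedModule 𝔭.primeCompl Γ(F, U) ≃ₗ[Γ(X, U)] F.presheaf.stalk x :=
    IsLocalizedModule.iso 𝔭.primeCompl (Groth.QCohMod.germₗ F x hx)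
  have hstalk : Module.Flat Γ(Spec (CommRingCat.of A), ⊤) (F.presheaf.stalk x) :=
    Module.Flat.of_linearEquiv (e.restrictScalars Γ(Spec (CommRingCat.of A), ⊤)).symm
  let S := Spec (CommRingCat.of A)
  have hfx : f x ∈ (⊤ : S.Opens) := trivial
  let _ := TopCat.Presheaf.algebra_section_stalk S.presheaf (U := (⊤ : S.Opens)) ⟨f x, hfx⟩
  have : IsScalarTower Γ(Spec (CommRingCat.of A), ⊤)
      ((Spec (CommRingCat.of A)).presheaf.stalk (f x)) (F.presheaf.stalk x) :=
    IsScalarTower.of_algebraMap_smul fun r v => by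
      change f.stalkMap x ((Spec (CommRingCat.of A)).presheaf.germ ⊤ _ hfx r) • v =
        X.presheaf.germ U x hx (f.appLE ⊤ U e₁ r) • v
      erw [Scheme.Hom.germ_stalkMap_apply]
      congr 1
      exact (TopCat.Presheaf.germ_res_apply X.presheaf (homOfLE e₁) x hx _).symm
  have := (isAffineOpen_top S).isLocalization_stalk ⟨f x, hfx⟩
  exact (Module.flat_iff_of_isLocalization (S.presheaf.stalk (f x))
    ((isAffineOpen_top S).primeIdealOf ⟨f x, hfx⟩).asIdeal.primeCompl (F.presheaf.stalk x)).2
      hstalk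

end Groth.Agent.S4899
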