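import Groth.Statements.S4901
import Groth.Agent.FlatMorOne.GoodStage

set_option autoImplicit false
universe u
open CategoryTheory AlgebraicGeometry
open EGA43

namespace Groth.Agent.S4901

open CategoryTheory.Limits in
/-- Let S be the limit of a cofiltered system (S_i) of schemes with affine transition morphisms, i₀ an
index, f₀ : X₀ ⟶ Y₀ a morphism locally of finite presentation of S_{i₀}-schemes, F₀ and G₀
quasi-coherent O_{X₀}-modules of finite presentation and h₀ : F₀ ⟶ G₀ a homomorphism; let f : X ⟶ Y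
and h = q^*h₀ be the base changes to S and x a point of X. Then the stalk map h_x is injective and
Coker h is f-flat at x if and only if there are an index i over i₀ and base changes f_i : X_i ⟶ Y_i,
h_i = p^*h₀ to S_i (pullback squares with the compatible morphisms X ⟶ X_i, Y ⟶ Y_i) such that
(h_i)_{x_i} is injective and Coker h_i is f_i-flat at the image x_i of x. -/
theorem result {I : Type u} [SmallCategory I] [IsCofiltered I]
    (D : I ⥤ Scheme.{u}) (c : Limits.Cone D) (hc : Limits.IsLimit c)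
    [∀ (i j : I) (φ : i ⟶ j), IsAffineHom (D.map φ)] (i₀ : I)
    {X₀ Y₀ : Scheme.{u}} (f₀ : X₀ ⟶ Y₀) (g₀ : Y₀ ⟶ D.obj i₀) [LocallyOfFinitePresentation f₀]
    (F₀ G₀ : X₀.Modules) [Coh.IsQCoh F₀] [Coh.IsQCoh G₀] (hF₀ : CohB1.IsFP F₀) (hG₀ : CohB1.IsFP G₀)
    (h₀ : F₀ ⟶ G₀)
    {X Y : Scheme.{u}} (f : X ⟶ Y) (g : Y ⟶ c.pt) (qY : Y ⟶ Y₀) (qX : X ⟶ X₀)
    (hY : IsPullback qY g g₀ (c.π.app i₀)) (hX : IsPullback qX f f₀ qY) (x : X) :
    (Function.Injective ((TopCat.Presheaf.stalkFunctor Ab x).map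
        (Scheme.Modules.Hom.mapPresheaf ((Scheme.Modules.pullback qX).map h₀))) ∧
      FlatMod.IsFlatOverAt f (cokernel ((Scheme.Modules.pullback qX).map h₀)) x) ↔
      ∃ (i : I) (φ : i ⟶ i₀) (Xi Yi : Scheme.{u}) (fi : Xi ⟶ Yi) (gi : Yi ⟶ D.obj i)
        (pY : Yi ⟶ Y₀) (pX : Xi ⟶ X₀) (vY : Y ⟶ Yi) (vX : X ⟶ Xi),
        IsPullback pY gi g₀ (D.map φ) ∧ IsPullback pX fi f₀ pY ∧
          vY ≫ pY = qY ∧ vY ≫ gi = g ≫ c.π.app i ∧ vX ≫ pX = qX ∧ vX ≫ fi = f ≫ vY ∧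
          Function.Injective ((TopCat.Presheaf.stalkFunctor Ab (vX x)).map
            (Scheme.Modules.Hom.mapPresheaf ((Scheme.Modules.pullback pX).map h₀))) ∧
          FlatMod.IsFlatOverAt fi (cokernel ((Scheme.Modules.pullback pX).map h₀)) (vX x) := by
  haveI : F₀.IsQuasicoherent := ‹Coh.IsQCoh F₀›
  haveI : G₀.IsQuasicoherent := ‹Coh.IsQCoh G₀›
  constructor
  · intro h
    obtain ⟨i, φ, Xi, Yi, fi, gi, pY, pX, vY, vX, h1, h2, h3, h4, h5, h6, h7⟩ :=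
      Groth.FlatMorOne.exists_stage_goodAt hc f₀ g₀ hG₀ hF₀ h₀ hY hX x h
    exact ⟨i, φ, Xi, Yi, fi, gi, pY, pX, vY, vX, h1, h2, h3, h4, h5, h6, h7⟩
  · rintro ⟨i, φ, Xi, Yi, fi, gi, pY, pX, vY, vX, -, h2, h3, -, h5, h6, h7⟩
    exact Groth.FlatMorOne.goodAt_of_stage (g₀ := g₀) hG₀ hF₀ h₀ hX h2 h3 h5 h6 x h7

end Groth.Agent.S4901
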