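import Groth.Statements.S4905
import Groth.Agent.EGA43Mult.BaseFieldBasis

set_option autoImplicit false
universe u
open CategoryTheory AlgebraicGeometry
open EGA43
set_option backward.isDefEq.respectTransparency.types false

namespace Groth.Agent.S4905

open CategoryTheory.Limits in
/-- Let k be a field, X a k-scheme, (f_i : Z_i ⟶ X) a family of k-morphisms with every Z_i geometrically
reduced over k, and Y the reduced closed subscheme of X whose underlying space is the closure of ⋃
f_i(Z_i), i.e. the closed subscheme defined by the vanishing ideal sheaf of that closed set. Let k'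
be a field extension of k, X' = X ⊗_k k' and f'_i : Z_i ⊗_k k' ⟶ X' the base changes. Then the
reduced closed subscheme of X' on the closure of ⋃ f'_i(Z_i ⊗_k k') is Y ⊗_k k': the vanishing ideal
sheaf of that closure equals the pullback (comap) along X' ⟶ X of the vanishing ideal sheaf defining
Y. (The published statement also concludes that Y is geometrically reduced over k; this row states
only the equality of Y' with Y ⊗_k k'.) -/
theorem result {k : Type u} [Field k] {X : Scheme.{u}}
    (p : X ⟶ Spec (CommRingCat.of k)) {ι : Type u} (Z : ι → Scheme.{u}) (f : ∀ i, Z i ⟶ X)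
    (hred : ∀ (i : ι) (z : Z i), FBase.IsGeomReducedAt (f i ≫ p) z)
    (k' : Type u) [Field k'] [Algebra k k'] :
    letI q : Spec (CommRingCat.of k') ⟶ Spec (CommRingCat.of k) := Spec.map (CommRingCat.ofHom (algebraMap k k'))
    letI f' : ∀ i, pullback (f i ≫ p) q ⟶ pullback p q :=
      fun i => pullback.map (f i ≫ p) q p q (f i) (𝟙 _) (𝟙 _) (Category.comp_id _) ((Category.comp_id _).trans (Category.id_comp _).symm)
    Scheme.IdealSheafData.vanishingIdeal (TopologicalSpace.Closeds.closure (⋃ i, Set.range (f' i))) =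
      (Scheme.IdealSheafData.vanishingIdeal (TopologicalSpace.Closeds.closure (⋃ i, Set.range (f i)))).comap
        (pullback.fst p q) := by
  let q : Spec (CommRingCat.of k') ⟶ Spec (CommRingCat.of k) :=
    Spec.map (CommRingCat.ofHom (algebraMap k k'))
  let f' : ∀ i, pullback (f i ≫ p) q ⟶ pullback p q :=
    fun i => pullback.map (f i ≫ p) q p q (f i) (𝟙 _) (𝟙 _) (Category.comp_id _)
      ((Category.comp_id _).trans (Category.id_comp _).symm)
  have h1 : ∀ i, f' i ≫ pullback.fst p q = pullback.fst (f i ≫ p) q ≫ f i := fun i =>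
    pullback.lift_fst ..
  have h2 : ∀ i, f' i ≫ pullback.snd p q = pullback.snd (f i ≫ p) q := fun i =>
    (pullback.lift_snd ..).trans (Category.comp_id _)
  let C := TopologicalSpace.Closeds.closure (⋃ i, Set.range (f i))
  let C' := TopologicalSpace.Closeds.closure (⋃ i, Set.range (f' i))
  let I := Scheme.IdealSheafData.vanishingIdeal C
  show Scheme.IdealSheafData.vanishingIdeal C' = I.comap (pullback.fst p q)
  refine le_antisymm ?_ ?_
  swap
  · refine Scheme.IdealSheafData.le_support_iff_le_vanishingIdeal.1 ?_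
    refine TopologicalSpace.Closeds.closure_le.2 ?_
    rintro _ ⟨_, ⟨i, rfl⟩, z, rfl⟩
    rw [Scheme.IdealSheafData.support_comap, TopologicalSpace.Closeds.coe_preimage,
      Set.mem_preimage, ← Scheme.Hom.comp_apply, h1, Scheme.Hom.comp_apply,
      Scheme.IdealSheafData.coe_support_vanishingIdeal]
    exact subset_closure (Set.mem_iUnion_of_mem i ⟨_, rfl⟩)
  -- the bases
  have hfield : IsField Γ(Spec (CommRingCat.of k), ⊤) :=
    MulEquiv.isField (Field.toIsField k)
      (Scheme.ΓSpecIso (CommRingCat.of k)).commRingCatIsoToRingEquiv.toMulEquiv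
  letI := (q.appLE ⊤ ⊤ le_top).hom.toAlgebra
  have hfree : Module.Free Γ(Spec (CommRingCat.of k), ⊤) Γ(Spec (CommRingCat.of k'), ⊤) :=
    letI := hfield.toField
    Module.Free.of_divisionRing _ _
  let b := Module.Free.chooseBasis Γ(Spec (CommRingCat.of k), ⊤) Γ(Spec (CommRingCat.of k'), ⊤)
  -- an open cover by preimages of affine opens
  intro W
  suffices key : ∀ U : X.affineOpens,
      (Scheme.IdealSheafData.vanishingIdeal C').ideal
          ⟨_, Groth.EGA43Mult.isAffineOpen_bcOpen p q U.2⟩ ≤
        (I.comap (pullback.fst p q)).ideal ⟨_, Groth.EGA43Mult.isAffineOpen_bcOpen p q U.2⟩ by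
    have hle : Scheme.IdealSheafData.vanishingIdeal C' ≤ I.comap (pullback.fst p q) := by
      rw [← sup_eq_right]
      refine Scheme.IdealSheafData.ext_of_iSup_eq_top
        (fun U : X.affineOpens => ⟨_, Groth.EGA43Mult.isAffineOpen_bcOpen p q U.2⟩) ?_ fun U => ?_
      · rw [eq_top_iff]
        intro x _
        obtain ⟨U, hU, hxU, -⟩ := exists_isAffineOpen_mem_and_subset (X := X) (U := ⊤)
          (x := pullback.fst p q x) trivial
        exact TopologicalSpace.Opens.mem_iSup.2 ⟨⟨U, hU⟩, hxU, trivial⟩
      · rw [Scheme.IdealSheafData.ideal_sup]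
        exact sup_eq_right.2 (key U)
    exact hle W
  intro U a ha
  let P := Groth.EGA43Mult.bcOpen p q U.1
  letI := ((pullback.fst p q).appLE U.1 P inf_le_left).hom.toAlgebra
  obtain ⟨e, he⟩ := Groth.EGA43Mult.exists_basis_bcOpen p q b U.2
  have hcoef : ∀ j, e.repr a j ∈ I.ideal U := by
    intro j
    rw [Groth.EGA43Mult.mem_vanishingIdeal_iff]
    intro x hxU hxC hxr
    obtain ⟨_, hxr', _, ⟨i, rfl⟩, z, rfl⟩ := mem_closure_iff.1 hxC
      (X.basicOpen (e.repr a j) : Set X) (X.basicOpen _).isOpen hxr
    have hzU : z ∈ f i ⁻¹ᵁ U.1 := X.basicOpen_le _ hxr'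
    obtain ⟨V, hV, hzV, hVU⟩ := exists_isAffineOpen_mem_and_subset hzU
    let P' := Groth.EGA43Mult.bcOpen (f i ≫ p) q V
    letI := ((pullback.fst (f i ≫ p) q).appLE V P' inf_le_left).hom.toAlgebra
    obtain ⟨e', he'⟩ := Groth.EGA43Mult.exists_basis_bcOpen (f i ≫ p) q b hV
    have eP : P' ≤ f' i ⁻¹ᵁ P := fun w hw => by
      refine ⟨?_, trivial⟩
      show pullback.fst p q (f' i w) ∈ U.1
      rw [← Scheme.Hom.comp_apply, h1, Scheme.Hom.comp_apply]
      exact hVU hw.1
    have : IsReduced (pullback (f i ≫ p) q) :=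
      haveI : ∀ z' : ↥(pullback (f i ≫ p) q),
          _root_.IsReduced ((pullback (f i ≫ p) q).presheaf.stalk z') := fun z' =>
        hred i (pullback.fst (f i ≫ p) q z') k' z' rfl
      isReduced_of_isReduced_stalk _
    let φ := ((f' i).appLE P P' eP).hom
    let u := ((f i).appLE U.1 V hVU).hom
    have hφa : φ a = 0 := by
      rw [← basicOpen_eq_bot_iff]
      refine (Scheme.basicOpen_appLE (f' i) P' P eP a).trans ?_
      rw [eq_bot_iff]
      intro w hw
      exact ((Groth.EGA43Mult.mem_vanishingIdeal_iff C' _ a).1 ha (f' i w) (eP hw.1)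
        (subset_closure (Set.mem_iUnion_of_mem i ⟨w, rfl⟩)) hw.2).elim
    have hφalg : ∀ r, φ (algebraMap Γ(X, U.1) Γ(pullback p q, P) r) =
        algebraMap Γ(Z i, V) Γ(pullback (f i ≫ p) q, P') (u r) := by
      intro r
      show ((pullback.fst p q).appLE U.1 P inf_le_left ≫ (f' i).appLE P P' eP).hom r =
        ((f i).appLE U.1 V hVU ≫ (pullback.fst (f i ≫ p) q).appLE V P' inf_le_left).hom r
      rw [Scheme.Hom.appLE_comp_appLE, Scheme.Hom.appLE_comp_appLE]
      simp only [h1]
    have hφe : ∀ l, φ (e l) = e' l := by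
      intro l
      rw [he, he']
      show ((pullback.snd p q).appLE ⊤ P inf_le_right ≫ (f' i).appLE P P' eP).hom (b l) = _
      rw [Scheme.Hom.appLE_comp_appLE]
      simp only [h2]
      rfl
    have hsum : ∀ c : _ →₀ Γ(X, U.1), φ (Finsupp.linearCombination Γ(X, U.1) e c) =
        Finsupp.linearCombination Γ(Z i, V) e' (c.mapRange u (map_zero u)) := by
      intro c
      induction c using Finsupp.induction_linear with
      | zero => simp
      | add c d hc hd =>
        rw [map_add, map_add, hc, hd, Finsupp.mapRange_add (map_add u), map_add]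
      | single l r =>
        rw [Finsupp.mapRange_single, Finsupp.linearCombination_single,
          Finsupp.linearCombination_single, Algebra.smul_def, Algebra.smul_def, map_mul, hφalg, hφe]
    have hzero : (e.repr a).mapRange u (map_zero u) = 0 := by
      have h := hsum (e.repr a)
      rw [e.linearCombination_repr, hφa] at h
      have := congrArg e'.repr h
      rwa [map_zero, e'.repr_linearCombination, eq_comm] at this
    have hu : u (e.repr a j) = 0 := by simpa using DFunLike.congr_fun hzero j
    have : z ∈ (Z i).basicOpen (u (e.repr a j)) := by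
      rw [show (Z i).basicOpen (u (e.repr a j)) = _ from
        Scheme.basicOpen_appLE (f i) V U.1 hVU (e.repr a j)]
      exact ⟨hzV, hxr'⟩
    rw [hu, Scheme.basicOpen_zero] at this
    exact this
  rw [Groth.Divisors.ideal_comap_affine I (pullback.fst p q) U _ inf_le_left]
  rw [← e.linearCombination_repr a, Finsupp.linearCombination_apply]
  refine Submodule.sum_mem _ fun j _ => ?_
  show e.repr a j • e j ∈ _
  rw [Algebra.smul_def]
  exact Ideal.mul_mem_right _ _ (Ideal.mem_map_of_mem _ (hcoef j))

end Groth.Agent.S4905
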