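import Groth.Statements.S4909
import Groth.Agent.EGA43Sep.Sheaf

set_option autoImplicit false
universe u
open CategoryTheory AlgebraicGeometry
open EGA43

namespace Groth.Agent.S4909

/-- Case Z_λ = X: let X be a scheme, u_i : F ⟶ G_i a separating family of homomorphisms of
quasi-coherent O_X-modules (a section of F over an open subset killed by every u_i is zero) and g :
X' ⟶ X a flat morphism locally of finite presentation. Then the family (g^*u_i : g^*F ⟶ g^*G_i) is
separating. (The published statement allows homomorphisms into direct images (f_λ)_*G_λ; this row is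
the case Z_λ = X, to which the general case reduces.) -/
theorem result {X X' : Scheme.{u}} (F : X.Modules) [Coh.IsQCoh F] {ι : Type u}
    (G : ι → X.Modules) [∀ i, Coh.IsQCoh (G i)] (u : ∀ i, F ⟶ G i) (g : X' ⟶ X) [Flat g] [LocallyOfFinitePresentation g]
    (h : (∀ (V : (X).Opens) (t : ↑((F).presheaf.obj (Opposite.op V))), (∀ i, (Scheme.Modules.Hom.mapPresheaf (u i)).app (Opposite.op V) t = 0) → t = 0)) :
    (∀ (V : (X').Opens) (t : ↑(((Scheme.Modules.pullback g).obj F).presheaf.obj (Opposite.op V))), (∀ i, (Scheme.Modules.Hom.mapPresheaf ((Scheme.Modules.pullback g).map (u i))).app (Opposite.op V) t = 0) → t = 0) := by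
  intro V t ht
  have : F.IsQuasicoherent := ‹Coh.IsQCoh F›
  have : ∀ i, (G i).IsQuasicoherent := fun i => (inferInstance : Coh.IsQCoh (G i))
  refine Groth.DescentBase.eq_zero_of_germ _ t fun y hy => ?_
  obtain ⟨U, hU, hxU, -⟩ := exists_isAffineOpen_mem_and_subset (X := X) (U := ⊤) (x := g y) trivial
  obtain ⟨W, hW, hyW, hWU⟩ :=
    exists_isAffineOpen_mem_and_subset (X := X') (U := g ⁻¹ᵁ U) (x := y) hxU
  have e : W ≤ g ⁻¹ᵁ U := hWU
  refine Groth.EGA43Sep.germ_eq_zero_of_sep g e u hU hW ?_ t ht y hyW hy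
  let _ := Groth.QCohMod.sectionsAlg g e
  have : Module.Flat Γ(X, U) Γ(X', W) :=
    HasRingHomProperty.appLE @Flat g inferInstance ⟨U, hU⟩ ⟨W, hW⟩ e
  have : Algebra.FinitePresentation Γ(X, U) Γ(X', W) :=
    HasRingHomProperty.appLE @LocallyOfFinitePresentation g inferInstance ⟨U, hU⟩ ⟨W, hW⟩ e
  exact Groth.EGA43Sep.exists_pow_smul_eq_zero_of_sep (Groth.EGA43Sep.sep_sections u h hU)

end Groth.Agent.S4909
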