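import Groth.Statements.S4910
import Groth.Agent.EGA43Sep.Geom
import Groth.Agent.Flatmor4.FlatModAffine
import Groth.Agent.QCohMod.FiniteType

set_option autoImplicit false
universe u
open CategoryTheory AlgebraicGeometry
open EGA43

namespace Groth.Agent.S4910

open CategoryTheory.Limits in
/-- Case Z_λ = X: let p : X ⟶ S be a morphism with X locally Noetherian, F a coherent O_X-module, (G_i)
a family of quasi-coherent O_X-modules flat over S and u_i : F ⟶ G_i homomorphisms. Then the family
(u_i) is universally separating relative to S — for every base change S' ⟶ S the pulled-back family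
on X ×_S S' is separating (a section of the pulled-back F over an open subset killed by every member
is zero) — if and only if, for every point s of S, the family pulled back to the fibre X_s is
separating. (The published statement allows homomorphisms into direct images (f_λ)_*G_λ with the G_λ
flat over S; this row is the case Z_λ = X.) -/
theorem result {X S : Scheme.{u}} [IsLocallyNoetherian X]
    (p : X ⟶ S) (F : X.Modules) (hF : Coh.IsCoh F) {ι : Type u} (G : ι → X.Modules) [∀ i, Coh.IsQCoh (G i)]
    (hG : ∀ i, FlatMod.IsFlatOver p (G i)) (u : ∀ i, F ⟶ G i) :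
    (∀ (S' : Scheme.{u}) (g : S' ⟶ S),
      (∀ (V : (pullback p g).Opens) (t : ↑(((Scheme.Modules.pullback (pullback.fst p g)).obj F).presheaf.obj (Opposite.op V))), (∀ i, (Scheme.Modules.Hom.mapPresheaf ((Scheme.Modules.pullback (pullback.fst p g)).map (u i))).app (Opposite.op V) t = 0) → t = 0)) ↔
    ∀ s : S, (∀ (V : (p.fiber s).Opens) (t : ↑(((Scheme.Modules.pullback (p.fiberι s)).obj F).presheaf.obj (Opposite.op V))), (∀ i, (Scheme.Modules.Hom.mapPresheaf ((Scheme.Modules.pullback (p.fiberι s)).map (u i))).app (Opposite.op V) t = 0) → t = 0) := by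
  have : F.IsQuasicoherent := hF.1
  have : ∀ i, (G i).IsQuasicoherent := fun i => (inferInstance : Coh.IsQCoh (G i))
  constructor
  · intro h s
    exact h (Spec (S.residueField s)) (S.fromSpecResidueField s)
  intro h S' g O t ht
  refine Groth.DescentBase.eq_zero_of_germ _ t fun y hy => ?_
  obtain ⟨V, hV, hyV, -⟩ := exists_isAffineOpen_mem_and_subset (X := S) (U := ⊤)
    (x := p (pullback.fst p g y)) trivial
  obtain ⟨U, hU, hyU, e₁'⟩ := exists_isAffineOpen_mem_and_subset (X := X) (U := p ⁻¹ᵁ V)
    (x := pullback.fst p g y) hyV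
  have hyW' : g (pullback.snd p g y) ∈ V := by
    have h1 : g (pullback.snd p g y) = p (pullback.fst p g y) := by
      rw [← Scheme.Hom.comp_apply, ← Scheme.Hom.comp_apply, pullback.condition]
    rw [h1]
    exact hyV
  obtain ⟨W, hW, hyW, e₂'⟩ := exists_isAffineOpen_mem_and_subset (X := S') (U := g ⁻¹ᵁ V)
    (x := pullback.snd p g y) hyW'
  have e₁ : U ≤ p ⁻¹ᵁ V := e₁'
  have e₂ : W ≤ g ⁻¹ᵁ V := e₂'
  refine Groth.EGA43Sep.germ_eq_zero_of_sepAlg_tensor p g e₁ e₂ hV hW hU u ?_ t ht y hyU hyW hy
  let _ := (p.appLE V U e₁).hom.toAlgebra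
  let _ := (g.appLE V W e₂).hom.toAlgebra
  have : IsNoetherianRing Γ(X, U) := IsLocallyNoetherian.component_noetherian ⟨U, hU⟩
  have : Module.Finite Γ(X, U) Γ(F, U) := Groth.QCohMod.finite_sections F hF.2 hU
  let _ : ∀ i, Module Γ(S, V) Γ(G i, U) := fun i => Groth.Flatmor4.sectionModule p (G i) e₁
  have : ∀ i, IsScalarTower Γ(S, V) Γ(X, U) Γ(G i, U) :=
    fun i => IsScalarTower.of_algebraMap_smul fun _ _ => rfl
  have : ∀ i, Module.Flat Γ(S, V) Γ(G i, U) := fun i =>
    (Groth.Flatmor4.flat_sections_iff p (G i) hU hV e₁).2 fun x _ => hG i x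
  exact Groth.EGA43Sep.SepAlg.of_fibres (A := Γ(S, V)) Γ(S', W) fun L _ _ =>
    Groth.EGA43Sep.sepAlg_field_of_fibres p e₁ u (fun s => h s) hV hU L

end Groth.Agent.S4910
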