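import Groth.Statements.S4911
import Groth.Agent.EGA43Sep.Sheaf

set_option autoImplicit false
universe u
open CategoryTheory AlgebraicGeometry
open EGA43

namespace Groth.Agent.S4911

open CategoryTheory.Limits in
/-- Case Z_λ = X: let k be a field, X a k-scheme, u_i : F ⟶ G_i a separating family of homomorphisms of
quasi-coherent O_X-modules (a section of F over an open subset killed by every u_i is zero) and S'
an arbitrary k-scheme. Then the family pulled back to X ×_k S' is separating. (The published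
statement allows homomorphisms into direct images (f_λ)_*G_λ; this row is the case Z_λ = X.) -/
theorem result {k : Type u} [Field k] {X S' : Scheme.{u}}
    (p : X ⟶ Spec (CommRingCat.of k)) (q : S' ⟶ Spec (CommRingCat.of k))
    (F : X.Modules) [Coh.IsQCoh F] {ι : Type u} (G : ι → X.Modules) [∀ i, Coh.IsQCoh (G i)] (u : ∀ i, F ⟶ G i)
    (h : (∀ (V : (X).Opens) (t : ↑((F).presheaf.obj (Opposite.op V))), (∀ i, (Scheme.Modules.Hom.mapPresheaf (u i)).app (Opposite.op V) t = 0) → t = 0)) :
    (∀ (V : (pullback p q).Opens) (t : ↑(((Scheme.Modules.pullback (pullback.fst p q)).obj F).presheaf.obj (Opposite.op V))), (∀ i, (Scheme.Modules.Hom.mapPresheaf ((Scheme.Modules.pullback (pullback.fst p q)).map (u i))).app (Opposite.op V) t = 0) → t = 0) := by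
  intro V t ht
  have : F.IsQuasicoherent := ‹Coh.IsQCoh F›
  have : ∀ i, (G i).IsQuasicoherent := fun i => (inferInstance : Coh.IsQCoh (G i))
  refine Groth.DescentBase.eq_zero_of_germ _ t fun y hy => ?_
  obtain ⟨U, hU, hxU, -⟩ := exists_isAffineOpen_mem_and_subset (X := X) (U := ⊤)
    (x := pullback.fst p q y) trivial
  obtain ⟨W, hW, hyW, -⟩ := exists_isAffineOpen_mem_and_subset (X := S') (U := ⊤)
    (x := pullback.snd p q y) trivial
  let P : (pullback p q).Opens := pullback.fst p q ⁻¹ᵁ U ⊓ pullback.snd p q ⁻¹ᵁ W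
  have hP : IsAffineOpen P := by
    have : IsAffine _ := hU
    have : IsAffine _ := hW
    have : IsAffine _ := isAffineOpen_top (Spec (CommRingCat.of k))
    exact .of_isIso (Scheme.Hom.isPullback_resLE (IsPullback.of_hasPullback p q)
      (US := ⊤) (UT := W) (UX := U) le_top le_top rfl).isoPullback.hom
  have hpush := (isIso_pushoutSection_iff (IsPullback.of_hasPullback p q)
    (US := ⊤) (UT := W) (UX := U) (UY := P) le_top le_top rfl).1
    (isIso_pushoutSection_of_isAffineOpen (IsPullback.of_hasPullback p q) le_top le_top rfl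
      (isAffineOpen_top _) hW hU)
  have hfld : IsField Γ(Spec (CommRingCat.of k), ⊤) :=
    (Scheme.ΓSpecIso (CommRingCat.of k)).commRingCatIsoToRingEquiv.toMulEquiv.isField
      (Field.toIsField k)
  let _ := hfld.toField
  have e : P ≤ pullback.fst p q ⁻¹ᵁ U := inf_le_left
  refine Groth.EGA43Sep.germ_eq_zero_of_sep (pullback.fst p q) e u hU hP ?_ t ht y ⟨hxU, hyW⟩ hy
  let _ := Groth.QCohMod.sectionsAlg (pullback.fst p q) e
  let _ : Algebra Γ(S', W) Γ(pullback p q, P) :=
    ((pullback.snd p q).appLE W P inf_le_right).hom.toAlgebra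
  let _ : Algebra Γ(Spec (CommRingCat.of k), ⊤) Γ(X, U) := (p.appLE ⊤ U le_top).hom.toAlgebra
  let _ : Algebra Γ(Spec (CommRingCat.of k), ⊤) Γ(S', W) := (q.appLE ⊤ W le_top).hom.toAlgebra
  let _ : Algebra Γ(Spec (CommRingCat.of k), ⊤) Γ(pullback p q, P) :=
    ((p.appLE ⊤ U le_top) ≫ (pullback.fst p q).appLE U P e).hom.toAlgebra
  have : IsScalarTower Γ(Spec (CommRingCat.of k), ⊤) Γ(X, U) Γ(pullback p q, P) :=
    IsScalarTower.of_algebraMap_eq fun _ => rfl
  have : IsScalarTower Γ(Spec (CommRingCat.of k), ⊤) Γ(S', W) Γ(pullback p q, P) :=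
    IsScalarTower.of_algebraMap_eq fun r => congrArg (fun φ => φ.hom r) hpush.w
  have : Algebra.IsPushout Γ(Spec (CommRingCat.of k), ⊤) Γ(X, U) Γ(S', W) Γ(pullback p q, P) :=
    CommRingCat.isPushout_iff_isPushout.1 hpush
  exact Groth.EGA43Sep.exists_pow_smul_eq_zero_of_sep_isPushout
    (k := Γ(Spec (CommRingCat.of k), ⊤)) (B := Γ(S', W)) (Groth.EGA43Sep.sep_sections u h hU)

end Groth.Agent.S4911
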