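import Groth.Statements.S4912
import Groth.Agent.Calg5.SepFamily
import Groth.Agent.S0397

set_option autoImplicit false
universe u
open CategoryTheory AlgebraicGeometry
open EGA43

namespace Groth.Agent.S4912

/-- Case Z_λ = X: let X be an Artinian scheme (Noetherian of dimension ≤ 0), u_i : F ⟶ G_i a separating
family of homomorphisms of quasi-coherent O_X-modules (a section of F over an open subset killed by
every u_i is zero) and g : X' ⟶ X a flat morphism; for instance X the spectrum of a field and g
arbitrary. Then the family (g^*u_i) on X' is separating. (The published statement allows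
homomorphisms into direct images (f_λ)_*G_λ; this row is the case Z_λ = X, to which the general case
reduces.) -/
theorem result {X X' : Scheme.{u}} [IsNoetherian X]
    (hX : topologicalKrullDim X ≤ 0) (F : X.Modules) [Coh.IsQCoh F] {ι : Type u}
    (G : ι → X.Modules) [∀ i, Coh.IsQCoh (G i)] (u : ∀ i, F ⟶ G i) (g : X' ⟶ X) [Flat g]
    (h : (∀ (V : (X).Opens) (t : ↑((F).presheaf.obj (Opposite.op V))), (∀ i, (Scheme.Modules.Hom.mapPresheaf (u i)).app (Opposite.op V) t = 0) → t = 0)) :
    (∀ (V : (X').Opens) (t : ↑(((Scheme.Modules.pullback g).obj F).presheaf.obj (Opposite.op V))), (∀ i, (Scheme.Modules.Hom.mapPresheaf ((Scheme.Modules.pullback g).map (u i))).app (Opposite.op V) t = 0) → t = 0) := by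
  have : IsLocallyArtinian X := IsLocallyArtinian.of_topologicalKrullDim_le_zero hX
  intro V t ht
  refine Groth.Calg5.SepFamily.separating_pullback g F G u (fun y z hz => ?_) V t ht
  let _ := Groth.QCohMod.stalkAlg g y
  have : Module.Flat (X.presheaf.stalk (g y)) (X'.presheaf.stalk y) := Flat.stalkMap g y
  have := Groth.Calg5.SepFamily.isArtinianRing_stalk_of_isOpen_singleton (g y)
  have : Module.Free (X.presheaf.stalk (g y)) (X'.presheaf.stalk y) :=
    Groth.Agent.S0397.result (by
      rw [← IsLocalRing.jacobson_eq_maximalIdeal ⊥ bot_ne_top]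
      exact IsArtinianRing.isNilpotent_jacobson_bot)
  exact Groth.Calg5.SepFamily.eq_zero_of_lTensor_of_free _
    (Groth.Calg5.SepFamily.stalk_injective_of_isOpen_singleton F G u h (g y)
      (isOpen_discrete _)) z hz

end Groth.Agent.S4912
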