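import Groth.Statements.S4914
import Groth.Agent.EGA43Topo.QuasiHomeo

set_option autoImplicit false
open CategoryTheory AlgebraicGeometry
universe u v w
open EGA43

open Set TopologicalSpace Topology Groth.EGA43Topo

namespace Groth.Agent.S4914

/-- Let ψ : X → Y be a continuous map, x a point of X, and (Y_i) a locally finite covering of Y by
closed subsets. If for every index i with ψ x ∈ Y_i the restriction ψ⁻¹(Y_i) → Y_i of ψ is open at
x, then ψ is open at x. -/
theorem result {α : Type u} {β : Type v} {ι : Type w} [TopologicalSpace α]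
    [TopologicalSpace β] (ψ : α → β) (hψ : Continuous ψ) (x : α) (Y : ι → Set β) (hY : LocallyFinite Y)
    (hcl : ∀ i, IsClosed (Y i)) (hcov : ⋃ i, Y i = Set.univ)
    (h : ∀ i, ∀ hi : ψ x ∈ Y i, EGA43.IsOpenAt ((Y i).restrictPreimage ψ) ⟨x, hi⟩) :
    EGA43.IsOpenAt ψ x := by
  intro U hU
  have hfin := hY.point_finite (ψ x)
  have h1 : ∀ i, ψ x ∈ Y i → ∀ᶠ y in nhds (ψ x), y ∈ Y i → y ∈ ψ '' U := by
    intro i hi
    obtain ⟨B, hB, hBU⟩ := (mem_nhds_subtype _ _ _).1
      (h i hi _ (continuous_subtype_val.continuousAt.preimage_mem_nhds hU : Subtype.val ⁻¹' U ∈ _))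
    filter_upwards [hB] with y hy hyY
    obtain ⟨⟨v, hv⟩, hvU, hvy⟩ := hBU (show (⟨y, hyY⟩ : Y i) ∈ Subtype.val ⁻¹' B from hy)
    exact ⟨v, hvU, congrArg Subtype.val hvy⟩
  filter_upwards [(hfin.eventually_all).2 h1, hY.eventually_subset hcl (ψ x)] with y hy hy'
  obtain ⟨i, hi⟩ := mem_iUnion.1 (hcov.symm ▸ mem_univ y : y ∈ ⋃ i, Y i)
  exact hy i (hy' hi) hi

end Groth.Agent.S4914
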