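import Groth.Statements.S4916
import Groth.Agent.EGA43Topo.QuasiHomeo

set_option autoImplicit false
open CategoryTheory AlgebraicGeometry
universe u v w
open EGA43

open Set TopologicalSpace Topology Groth.EGA43Topo

namespace Groth.Agent.S4916

/-- Let ψ : X → Y be a continuous map of topological spaces and y a point of Y. The set of points x of
the fibre ψ⁻¹(y) at which ψ is open is a closed subset of ψ⁻¹(y). -/
theorem result {α : Type u} {β : Type v} [TopologicalSpace α] [TopologicalSpace β]
    (ψ : α → β) (hψ : Continuous ψ) (y : β) :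
    IsClosed {x : ↥(ψ ⁻¹' {y}) | EGA43.IsOpenAt ψ x.1} := by
  rw [← isOpen_compl_iff, isOpen_iff_mem_nhds]
  intro z hz
  simp only [mem_compl_iff, mem_ofPred_eq, EGA43.IsOpenAt, not_forall] at hz
  obtain ⟨U, hU, hU'⟩ := hz
  refine Filter.mem_of_superset (continuous_subtype_val.continuousAt.preimage_mem_nhds
    (interior_mem_nhds.2 hU)) fun w hw hwo => hU' ?_
  have := Filter.mem_of_superset (hwo _ (isOpen_interior.mem_nhds hw)) (image_mono interior_subset)
  rwa [show ψ (w : α) = y from w.2, ← show ψ (z : α) = y from z.2] at this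

end Groth.Agent.S4916
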