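import Groth.Statements.S4917
import Groth.Agent.FibreDim.Equidim

set_option autoImplicit false
open CategoryTheory AlgebraicGeometry
universe u v w
open EGA43

namespace Groth.Agent.S4917

/-- Assume Y is a locally Noetherian scheme and X is an irreducible scheme, and consider a dominant
morphism f : X ⟶ Y that is locally of finite type. Fix a point x of X and write y = f x. If, for
every irreducible component of the fibre X_y that contains x, the morphism f is open at the generic
point of that component, then f is equidimensional at x. -/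
theorem result {X Y : Scheme.{u}} [IsLocallyNoetherian Y]
    [IrreducibleSpace X] (f : X ⟶ Y) [LocallyOfFiniteType f] [IsDominant f] (x : X)
    (h : ∀ z : ↥(f.fiber (f.base x)), f.asFiber x ∈ closure {z} →
      (∀ z' : ↥(f.fiber (f.base x)), z ∈ closure {z'} → z' = z) →
      EGA43.IsOpenAt f.base ((f.fiberι (f.base x)).base z)) :
    EGA43.IsEquidimAt f x := by
  rw [Groth.FibreDim.isEquidimAt_iff]
  obtain ⟨d, hd⟩ := Groth.FibreDim.fibreDimAt_ne_top f (genericPoint X)
  have hgen : ∀ w : X, IsMax w → w = genericPoint X := fun w hw =>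
    Groth.FibreDim.eq_genericPoint_of_isMax hw
  obtain ⟨z, hzy, hzx, hz0, hzd⟩ := Groth.FibreDim.exists_maximal_fibre_point f x
  have hzmax : ∀ z', f.base z' = f.base z → z' ⤳ z → z' = z :=
    (Groth.FibreDim.isMax_asFiber_iff f z).1 (Order.coheight_eq_zero.1 hz0)
  obtain ⟨w, hw⟩ : z ∈ Set.range (f.fiberι (f.base x)).base := by rw [f.range_fiberι]; exact hzy
  have hopen : EGA43.IsOpenAt f.base z := by
    refine hw ▸ h w ?_ fun w' hw' => ?_
    · rw [← specializes_iff_mem_closure, ← (f.fiberι _).isEmbedding.toIsInducing.specializes_iff, hw,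
        f.fiberι_asFiber]
      exact hzx
    · rw [← specializes_iff_mem_closure, ← (f.fiberι _).isEmbedding.toIsInducing.specializes_iff, hw] at hw'
      exact (f.fiberι _).isEmbedding.injective
        ((hzmax _ ((Groth.FibreDim.apply_fiberι f _ w').trans hzy.symm) hw').trans hw.symm)
  obtain ⟨ξ, hξmax, -, hfmax, hξd⟩ := Groth.FibreDim.exists_component_of_isOpenAt f hzmax hopen
  obtain rfl := hgen ξ hξmax
  have hx : FlatMor.fibreDimAt f x = d := by
    rw [← hzd, ← (Groth.FibreDim.fibreDimAt_eq_height_of_max f hzmax).1, ← hξd, hd]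
  refine ⟨d, ⟨_, Groth.FibreDim.isOpen_fibreDimAt_le f d⟩, hx.le, fun η _ hη => ?_, fun x' hx' => ?_⟩
  · rw [hgen η hη]
    exact ⟨hfmax, (genericPoint_specializes x).map f.continuous⟩
  · exact le_antisymm hx' (hd ▸ Groth.FibreDim.fibreDimAt_le_of_specializes f (genericPoint_specializes x'))

end Groth.Agent.S4917
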