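import Groth.Statements.S4918
import Groth.Agent.FibreDim.Equidim
import Groth.Agent.FibreDim.StalkFormula

set_option autoImplicit false
open CategoryTheory AlgebraicGeometry
universe u v w
open EGA43

namespace Groth.Agent.S4918

/-- Assume Y is a locally Noetherian scheme and consider a morphism f : X ⟶ Y that is locally of finite
type. Given a point x of X with image y = f x, suppose both local rings O_{X,x} and O_{Y,y} are
equidimensional. Whenever f is open at the generic point of each irreducible component of the fibre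
X_y that contains x, the morphism f is equidimensional at x. -/
theorem result {X Y : Scheme.{u}} [IsLocallyNoetherian Y] (f : X ⟶ Y)
    [LocallyOfFiniteType f] (x : X) (hX : EGA4.IsEquidim (X.presheaf.stalk x))
    (hY : EGA4.IsEquidim (Y.presheaf.stalk (f.base x)))
    (h : ∀ z : ↥(f.fiber (f.base x)), f.asFiber x ∈ closure {z} →
      (∀ z' : ↥(f.fiber (f.base x)), z ∈ closure {z'} → z' = z) →
      EGA43.IsOpenAt f.base ((f.fiberι (f.base x)).base z)) :
    EGA43.IsEquidimAt f x := by
  haveI : IsLocallyNoetherian X := LocallyOfFiniteType.isLocallyNoetherian f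
  rw [Groth.FibreDim.isEquidimAt_iff]
  obtain ⟨D, hD⟩ := Groth.FibreDim.fibreDimAt_ne_top f x
  obtain ⟨B, hB⟩ := Groth.FibreDim.exists_coheight_eq_natCast (f.base x)
  have hform := Groth.FibreDim.ringKrullDim_stalk_eq_add f x h
  have hkey : ∀ ξ : X, IsMax ξ → ξ ⤳ x → IsMax (f.base ξ) ∧ FlatMor.fibreDimAt f ξ = D := by
    intro ξ hξ hξx
    obtain ⟨s, hs1, hs2, hs3⟩ := Groth.FibreDim.exists_series_of_isEquidim hX hξx hξ
    obtain ⟨t, t₀, a, b, ht, ht₀, hle, -, -, hchain, hb, hbmax, -, -, -, -⟩ :=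
      Groth.FibreDim.exists_dim_formula_along f hξx
    obtain ⟨t', e, ht', -, he, hfd⟩ := Groth.FibreDim.exists_fibre_quantities f x
    have ha := hchain s hs1 hs2
    rw [ht', Nat.cast_inj] at ht
    rw [ringKrullDim_stalk_eq_coheight, ← hs3, ringKrullDim_stalk_eq_coheight (f.base x), hB, he] at hform
    have hA : s.length = B + e := by exact_mod_cast hform
    have hξd : FlatMor.fibreDimAt f ξ = (t₀ : ℕ) := by
      rw [(Groth.FibreDim.fibreDimAt_eq_height_of_max f fun z _ hz => (hz.antisymm (hξ hz)).eq).1, ht₀]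
      rfl
    have hmono := Groth.FibreDim.fibreDimAt_le_of_specializes f hξx
    rw [hξd, hfd] at hmono
    have hmono' : t₀ ≤ t' + e := by exact_mod_cast hmono
    rw [hB, Nat.cast_le] at hb
    rw [hfd] at hD
    have hD' : t' + e = D := by exact_mod_cast hD
    refine ⟨?_, by rw [hξd]; norm_cast; omega⟩
    by_contra hc
    have h2 := hbmax hc
    rw [hB, Nat.cast_le] at h2
    omega
  obtain ⟨U, hxU, hU⟩ := Groth.FibreDim.exists_open_forall_max_specializes x
  refine ⟨D, U ⊓ ⟨_, Groth.FibreDim.isOpen_fibreDimAt_le f D⟩, ⟨hxU, hD.le⟩, fun η hη hmax => ?_, fun x' hx' => ?_⟩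
  · exact ⟨(hkey η hmax (hU η hη.1 hmax)).1, (hU η hη.1 hmax).map f.continuous⟩
  · obtain ⟨ξ, hξ, hξx⟩ := Groth.FibreDim.exists_max_specializes x'
    exact le_antisymm hx'.2 ((hkey ξ hξ (hU ξ (hξx.mem_open U.isOpen hx'.1) hξ)).2 ▸
      Groth.FibreDim.fibreDimAt_le_of_specializes f hξx)

end Groth.Agent.S4918
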