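import Groth.Statements.S4919
import Groth.Agent.FibreDim.OpenFibre

set_option autoImplicit false
open CategoryTheory AlgebraicGeometry
universe u v w
open EGA43

namespace Groth.Agent.S4919

/-- Let Y be an irreducible locally Noetherian scheme with generic point η, f : X ⟶ Y a morphism locally
of finite type, y a point of Y and Z an irreducible component of the fibre f⁻¹(y) (a maximal
irreducible subset of f⁻¹(y), with the topology induced from X) such that f is open at the generic
point ζ of Z. Then there is an irreducible component X' of X containing Z and dominating Y such that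
the local dimension of X' ∩ f⁻¹(y) at ζ equals dim Z, and dim Z = dim (X' ∩ f⁻¹(η)). (The published
statement writes the middle term as the dimension of the whole of X' ∩ f⁻¹(y); its proof yields only
the local dimension at the generic point of Z, and the global equality can fail: for the
endomorphism (a, b) ↦ (ab, b² − b) of the affine plane over a field, the fibre over the origin is
the line b = 0 together with the isolated point (0, 1), at which the map is étale, hence open; with
Z that point, X' is the whole plane, X' ∩ f⁻¹(y) has dimension 1 and dim Z = 0. So the local form is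
stated here.) -/
theorem result {X Y : Scheme.{u}} [IrreducibleSpace Y]
    [IsLocallyNoetherian Y] (f : X ⟶ Y) [LocallyOfFiniteType f] (y : Y) (Z : Set X)
    (hZy : Z ⊆ f.base ⁻¹' {y}) (hZ : IsIrreducible Z)
    (hZmax : ∀ Z' : Set X, IsIrreducible Z' → Z' ⊆ f.base ⁻¹' {y} → Z ⊆ Z' → Z' = Z)
    (hopen : ∀ ζ ∈ Z, Z ⊆ closure {ζ} → EGA43.IsOpenAt f.base ζ) :
    ∃ X' ∈ irreducibleComponents (X : Type u), Z ⊆ X' ∧ Dense (f.base '' X') ∧
      (∀ ζ ∈ Z, Z ⊆ closure {ζ} → ∀ hζ : ζ ∈ X' ∩ f.base ⁻¹' {y},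
        FlatMor.localDim ↥(X' ∩ f.base ⁻¹' {y}) ⟨ζ, hζ⟩ = topologicalKrullDim ↥Z) ∧
      topologicalKrullDim ↥Z = topologicalKrullDim ↥(X' ∩ f.base ⁻¹' {genericPoint Y}) := by
  haveI : LocallyOfFiniteType (f.fiberToSpecResidueField y) :=
    inferInstanceAs (LocallyOfFiniteType (CategoryTheory.Limits.pullback.snd f (Y.fromSpecResidueField y)))
  let ι := (f.fiberι y).base
  have hι := (f.fiberι y).isEmbedding
  have hr : Set.range ι = f.base ⁻¹' {y} := f.range_fiberι y
  let Z₀ := ι ⁻¹' Z
  have himg : ι '' Z₀ = Z := Set.image_preimage_eq_of_subset (hr ▸ hZy)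
  have hZ₀ : IsIrreducible Z₀ := by
    refine ⟨?_, fun u v hu hv ⟨a, ha, hau⟩ ⟨b, hb, hbv⟩ => ?_⟩
    swap
    · obtain ⟨u', hu', rfl⟩ := hι.toIsInducing.isOpen_iff.1 hu
      obtain ⟨v', hv', rfl⟩ := hι.toIsInducing.isOpen_iff.1 hv
      obtain ⟨c, hcZ, hcu, hcv⟩ := hZ.2 u' v' hu' hv' ⟨ι a, ha, hau⟩ ⟨ι b, hb, hbv⟩
      obtain ⟨c', rfl⟩ := hr.ge (hZy hcZ)
      exact ⟨c', hcZ, hcu, hcv⟩
    obtain ⟨z, hz⟩ := hZ.nonempty
    obtain ⟨w, rfl⟩ := hr.ge (hZy hz)
    exact ⟨w, hz⟩
  obtain ⟨η, hη⟩ := QuasiSober.sober hZ₀.closure isClosed_closure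
  have hZeq : ι '' closure {η} = Z := by
    refine hZmax _ ((hη.isIrreducible.image _ (f.fiberι y).continuous.continuousOn) |> fun h => hη.def.symm ▸ h)
      (Set.image_subset_range _ _ |>.trans hr.le) ?_
    rw [hη.def, ← himg]
    exact Set.image_mono subset_closure
  let ζ := ι η
  have hζy : f.base ζ = y := Groth.FibreDim.apply_fiberι f y η
  have hζZ : ζ ∈ Z := hZeq.le ⟨η, subset_closure rfl, rfl⟩
  have hZcl : Z = closure {ζ} ∩ f.base ⁻¹' {y} := by
    rw [← hZeq, hι.closure_eq_preimage_closure_image, Set.image_preimage_eq_inter_range,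
      Set.image_singleton, hr]
  have hζgen : Z ⊆ closure {ζ} := hZcl.le.trans Set.inter_subset_left
  have hmax : ∀ z', f.base z' = f.base ζ → z' ⤳ ζ → z' = ζ := fun z' hz' hsp => by
    have hsub : IsIrreducible (closure {z'} ∩ f.base ⁻¹' {y}) := by
      obtain ⟨w, rfl⟩ := hr.ge (show f.base z' = y from hz'.trans hζy)
      have := (isIrreducible_singleton (x := w)).closure.image ι (f.fiberι y).continuous.continuousOn
      rwa [hι.closure_eq_preimage_closure_image, Set.image_preimage_eq_inter_range,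
        Set.image_singleton, hr] at this
    have h2 := hZmax _ hsub Set.inter_subset_right (fun w hw =>
      ⟨closure_minimal (Set.singleton_subset_iff.2 (specializes_iff_mem_closure.1 hsp)) isClosed_closure
        (hζgen hw), hZy hw⟩)
    have h3 : z' ∈ Z := h2.le ⟨subset_closure rfl, hz'.trans hζy⟩
    exact (hsp.antisymm (specializes_iff_mem_closure.2 (hζgen h3))).eq
  obtain ⟨ξ, hξmax, hξζ, hfmax, hd⟩ :=
    Groth.FibreDim.exists_component_of_isOpenAt f hmax (hopen ζ hζZ hζgen)
  have hξfib : ∀ z', f.base z' = f.base ξ → z' ⤳ ξ → z' = ξ := fun z' _ h =>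
    (h.antisymm (hξmax h)).eq
  have hdimZ : topologicalKrullDim ↥Z = FlatMor.fibreDimAt f ζ := by
    rw [hZcl, (Groth.FibreDim.fibreDimAt_eq_height_of_max f hmax).1, ← hζy]
    exact Groth.FibreDim.dim_closure_inter_fibre f ζ
  refine ⟨closure {ξ}, Groth.FibreDim.mem_irreducibleComponents_of_isMax hξmax, hζgen.trans
    (closure_minimal (Set.singleton_subset_iff.2 (specializes_iff_mem_closure.1 hξζ)) isClosed_closure),
    Groth.FibreDim.dense_image_of_isMax f hfmax, fun ζ' h1 h2 h3 => ?_, ?_⟩
  · obtain rfl : ζ' = ζ := ((specializes_iff_mem_closure.2 (h2 hζZ)).antisymm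
      (specializes_iff_mem_closure.2 (hζgen h1))).eq
    rw [hdimZ, (Groth.FibreDim.fibreDimAt_eq_height_of_max f hmax).1]
    revert h3
    rw [← hζy]
    exact fun h3 => Groth.FibreDim.localDim_closure_inter_fibre f hξζ hmax h3
  · rw [hdimZ, ← hd, (Groth.FibreDim.fibreDimAt_eq_height_of_max f hξfib).1,
      ← Groth.FibreDim.eq_genericPoint_of_isMax hfmax]
    exact (Groth.FibreDim.dim_closure_inter_fibre f ξ).symm

end Groth.Agent.S4919
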