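import Groth.Statements.S4921
import Groth.Agent.FibreDim.OpenFibreConst

set_option autoImplicit false
open CategoryTheory AlgebraicGeometry
universe u v w
open EGA43

namespace Groth.Agent.S4921

/-- Let Y be a locally Noetherian scheme, f : X ⟶ Y a proper morphism and y a point of Y such that f is
open at every point of the fibre over y. Then the function z ↦ dim X_z is constant on a
neighbourhood of y. -/
theorem result {X Y : Scheme.{u}} [IsLocallyNoetherian Y] (f : X ⟶ Y)
    [IsProper f] (y : Y) (h : ∀ x : X, f.base x = y → EGA43.IsOpenAt f.base x) :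
    ∃ V ∈ nhds y, ∀ z ∈ V, topologicalKrullDim ↥(f.fiber z) = topologicalKrullDim ↥(f.fiber y) := by
  refine ⟨_, Groth.FibreDim.eventually_dim_fiber_eq f y h fun y' hy' => ?_, fun z hz => hz⟩
  exact hy'.mem_open (Groth.FibreDim.isOpen_dim_fiber_le f f.isClosedMap
    (topologicalKrullDim ↥(f.fiber y))) (le_refl (topologicalKrullDim ↥(f.fiber y)))

end Groth.Agent.S4921
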