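import Groth.Statements.S4924
import Groth.Agent.FibreDim.OpenFibreConst

set_option autoImplicit false
open CategoryTheory AlgebraicGeometry
universe u v w
open EGA43

namespace Groth.Agent.S4924

/-- Let Y be a locally Noetherian scheme, f : X ⟶ Y an open morphism of finite type and y a point of Y.
Then there is an open neighbourhood U of the fibre f⁻¹(y) in X such that the function z ↦ dim (U ∩
f⁻¹(z)) is constant on a neighbourhood of y. -/
theorem result {X Y : Scheme.{u}} [IsLocallyNoetherian Y]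
    (f : X ⟶ Y) [LocallyOfFiniteType f] [QuasiCompact f] (hf : IsOpenMap f.base) (y : Y) :
    ∃ U : X.Opens, f.base ⁻¹' {y} ⊆ (U : Set X) ∧ ∃ V ∈ nhds y, ∀ z ∈ V,
      topologicalKrullDim ↥((U : Set X) ∩ f.base ⁻¹' {z}) = topologicalKrullDim ↥((U : Set X) ∩ f.base ⁻¹' {y}) := by
  rcases hd : topologicalKrullDim ↥(f.fiber y) with _ | d
  · refine ⟨⊥, fun x hx => absurd ((Groth.FibreDim.isEmpty_fiber_iff f y).1 (le_of_eq hd)) (not_not.2 ⟨x, hx⟩),
      Set.univ, Filter.univ_mem, fun z _ => ?_⟩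
    rw [show ((⊥ : X.Opens) : Set X) = ∅ from rfl, Set.empty_inter, Set.empty_inter]
  rcases d with _ | d
  · exact absurd hd (Groth.FibreDim.dim_fiber_ne_top f y)
  let U : X.Opens := ⟨{x | FlatMor.fibreDimAt f x ≤ (d : ℕ)}, Groth.FibreDim.isOpen_fibreDimAt_le f d⟩
  have hU : f.base ⁻¹' {y} ⊆ (U : Set X) := fun x hx => by
    show FlatMor.fibreDimAt f x ≤ _
    have h1 : FlatMor.fibreDimAt f x ≤ topologicalKrullDim ↥(f.fiber (f.base x)) :=
      Groth.SpectralTopology.localDim_le_dim _
    rw [show f.base x = y from hx, hd] at h1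
    exact h1
  haveI : IsLocallyNoetherian X := LocallyOfFiniteType.isLocallyNoetherian f
  let h := U.ι ≫ f
  have hy : topologicalKrullDim ↥(h.fiber y) = topologicalKrullDim ↥(f.fiber y) := by
    rw [← Groth.FibreDim.dim_inter_preimage_eq, Set.inter_eq_right.2 hU]
    exact (((f.fiberι y).isEmbedding.toHomeomorph.trans
      (Homeomorph.setCongr (f.range_fiberι y))).isHomeomorph.topologicalKrullDim_eq).symm
  refine ⟨U, hU, _, Groth.FibreDim.eventually_dim_fiber_eq h y
    (fun x _ V hV => (hf.comp U.ι.isOpenEmbedding.isOpenMap).image_mem_nhds hV) fun z hzy => ?_,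
    fun z hz => ?_⟩
  · rw [Groth.FibreDim.dim_fiber_eq_iSup, hy, hd]
    refine iSup_le fun w => ?_
    rw [← Groth.FibreDim.fibreDimAt_fiberι, Groth.FibreDim.fibreDimAt_openImmersion_comp]
    exact ((h.fiberι z).base w).2
  · rw [Groth.FibreDim.dim_inter_preimage_eq, Groth.FibreDim.dim_inter_preimage_eq]
    exact hz

end Groth.Agent.S4924
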