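import Groth.Statements.S4928
import Groth.Agent.EGA43Topo.OpenAt

set_option autoImplicit false
open CategoryTheory AlgebraicGeometry
universe u v w
open EGA43

namespace Groth.Agent.S4928

open CategoryTheory.Limits in
/-- Let f : X ⟶ Y be locally of finite presentation, x a point of X, y = f x, and f₁ : X ×_Y Spec
O_{Y,y} ⟶ Spec O_{Y,y} the base change of f to the local scheme of Y at y. Then for every point x₁
of X ×_Y Spec O_{Y,y} projecting to x, f is universally open at x if and only if f₁ is universally
open at x₁. -/
theorem result {X Y : Scheme.{u}} (f : X ⟶ Y) [LocallyOfFinitePresentation f]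
    (x : X) (x₁ : ↥(pullback f (Y.fromSpecStalk (f.base x))))
    (hx₁ : (pullback.fst f (Y.fromSpecStalk (f.base x))).base x₁ = x) :
    EGA43.IsUnivOpenAt f x ↔ EGA43.IsUnivOpenAt (pullback.snd f (Y.fromSpecStalk (f.base x))) x₁ := by
  exact Groth.EGA43Topo.isUnivOpenAt_iff_fromSpecStalk f x x₁ hx₁

end Groth.Agent.S4928
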