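import Groth.Statements.S4929
import Groth.Agent.EGA43Topo.OpenAt

set_option autoImplicit false
open CategoryTheory AlgebraicGeometry
universe u v w
open EGA43

namespace Groth.Agent.S4929

open CategoryTheory.Limits in
/-- Let f : X ⟶ Y be a morphism of schemes, x a point of X, and (Y_i ⟶ Y) a finite family of closed
immersions whose images cover Y. If for every i the base change X ×_Y Y_i ⟶ Y_i is universally open
at every point lying over x, then f is universally open at x. -/
theorem result {X Y : Scheme.{u}} (f : X ⟶ Y) (x : X) {ι : Type w}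
    [Finite ι] (T : ι → Scheme.{u}) (g : ∀ i, T i ⟶ Y) [∀ i, IsClosedImmersion (g i)]
    (hcov : ⋃ i, Set.range (g i).base = Set.univ)
    (h : ∀ i, ∀ x' : ↥(pullback f (g i)), (pullback.fst f (g i)).base x' = x →
      EGA43.IsUnivOpenAt (pullback.snd f (g i)) x') :
    EGA43.IsUnivOpenAt f x := by
  exact Groth.EGA43Topo.isUnivOpenAt_of_closed_cover g hcov h

end Groth.Agent.S4929
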