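import Groth.Statements.S4934
import Groth.Agent.EGA43Topo.UnibranchApps

set_option autoImplicit false
open CategoryTheory AlgebraicGeometry
universe u v w
open EGA43

namespace Groth.Agent.S4934

/-- Let Y be a locally Noetherian scheme, f : X ⟶ Y a morphism locally of finite type, x a maximal point
of its fibre X_y, and suppose y = f x is a geometrically unibranch point of Y (so that y lies on
exactly one irreducible component Y₀ of Y, with generic point η). The following are equivalent: a) f
is universally open at x; b) there is an irreducible component Z of X containing x and dominating Y₀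
with dim_x(Z ∩ X_y) = dim(Z ∩ X_η); b') for every open neighbourhood U of x and every generization
y' of y, dim(U ∩ X_{y'}) ≥ dim_x(X_y); c) f is open at x. (The published statement asserts a) ⇔ b) ⇔
b') over an arbitrary base and adds c) for a locally Noetherian one; over the spectrum Y of an
infinite product of copies of a field, the inclusion of a non-open closed point satisfies b) and not
a), and the published proof of b) ⇒ a) uses the openness criterion by lifting of generizations and a
finiteness of irreducible components, both available over a locally Noetherian base, which is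
assumed here throughout.) -/
theorem result {X Y : Scheme.{u}} [IsLocallyNoetherian Y] (f : X ⟶ Y)
    [LocallyOfFiniteType f] (x : X) (hmax : ∀ x' : X, f.base x' = f.base x → x ∈ closure {x'} → x' = x)
    (hy : CAlg2.IsGeomUnibranch (Y.presheaf.stalk (f.base x))) :
    List.TFAE [EGA43.IsUnivOpenAt f x,
      (∀ Y₀ ∈ irreducibleComponents (Y : Type u), f.base x ∈ Y₀ →
        ∃ Z ∈ irreducibleComponents (X : Type u), ∃ hx : x ∈ Z, closure (f.base '' Z) = Y₀ ∧
          ∀ η : Y, closure ({η} : Set Y) = Y₀ →
            FlatMor.localDim ↥(Z ∩ f.base ⁻¹' {f.base x}) ⟨x, ⟨hx, rfl⟩⟩ =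
              topologicalKrullDim ↥(Z ∩ f.base ⁻¹' {η})),
      (∀ U : X.Opens, x ∈ U → ∀ y' : Y, y' ⤳ f.base x →
        FlatMor.fibreDimAt f x ≤ topologicalKrullDim ↥((U : Set X) ∩ f.base ⁻¹' {y'})),
      EGA43.IsOpenAt f.base x] := by
  have hz : ∀ x' : X, f.base x' = f.base x → x' ⤳ x → x' = x :=
    fun x' h1 h2 => hmax x' h1 (specializes_iff_mem_closure.1 h2)
  tfae_have 1 → 4 := Groth.EGA43Topo.isOpenAt_of_isUnivOpenAt
  tfae_have 4 → 3 := fun h U hxU y' hy' => by
    obtain ⟨ξ, rfl, hξx, -, hd⟩ := Groth.FibreDim.exists_generization_of_isOpenAt f hz h hy'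
    exact hd.ge.trans (Groth.EGA43Topo.fibreDimAt_le_dim_inter (hξx.mem_open U.isOpen hxU))
  tfae_have 3 → 2 := fun h Y₀ hY₀ hyY₀ => by
    have hg := hY₀.1.isGenericPoint_genericPoint (isClosed_of_mem_irreducibleComponents _ hY₀)
    generalize hY₀.1.genericPoint = η₀ at hg
    obtain rfl := hg.def
    obtain ⟨ξ, hfξ, hξ, hξx, hd⟩ := Groth.EGA43Topo.exists_component_of_dim_inter f
      (specializes_iff_mem_closure.2 hyY₀) (Groth.FibreDim.isMax_of_mem_genericPoints hY₀)
      fun U hU => h U hU η₀ (specializes_iff_mem_closure.2 hyY₀)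
    subst hfξ
    exact ⟨_, Groth.FibreDim.mem_irreducibleComponents_of_isMax hξ, specializes_iff_mem_closure.1 hξx,
      Groth.EGA43Topo.closure_image_closure_singleton f ξ, fun η hη => (Groth.EGA43Topo.component_condition f
        specializes_rfl hz le_rfl hξx hξ hd.le (Groth.EGA43Topo.eq_of_closure_eq hη) (specializes_iff_mem_closure.1 hξx)).2⟩
  tfae_have 2 → 1 := Groth.EGA43Topo.isUnivOpenAt_of_exists_component f hy hz
  tfae_finish

end Groth.Agent.S4934
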