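import Groth.Statements.S4936
import Groth.Agent.Hensel1.SmoothBranches
import Groth.Agent.Hensel1.SmoothBranchesScheme
import Groth.Agent.GrpschAbsch.AffineSpaceExtra

set_option autoImplicit false
open CategoryTheory AlgebraicGeometry
universe u v w
open EGA43

namespace Groth.Agent.S4936

/-- Let Y be a scheme, Y' = Y[T_1, …, T_n] affine n-space over Y, y' a point of Y' and y its image in Y.
If Y is geometrically unibranch at y, then Y' is geometrically unibranch at y'. -/
theorem result {Y : Scheme.{u}} (n : ℕ) (y' : ↥𝔸(ULift.{u} (Fin n); Y))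
    (hy : CAlg2.IsGeomUnibranch (Y.presheaf.stalk ((𝔸(ULift.{u} (Fin n); Y) ↘ Y).base y'))) :
    CAlg2.IsGeomUnibranch ((𝔸(ULift.{u} (Fin n); Y)).presheaf.stalk y') := by
  have := Groth.GrpschAbsch.smooth_affineSpace (ULift.{u} (Fin n)) Y
  exact (Groth.Hensel1.isGeomUnibranch_stalk_iff_of_smooth (𝔸(ULift.{u} (Fin n); Y) ↘ Y) y').mpr hy

end Groth.Agent.S4936
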