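import Groth.Statements.S4937
import Groth.Agent.EGA43Topo.UnibranchQuasiFinite
import Groth.Agent.EGA43Topo.UnibranchScheme

set_option autoImplicit false
open CategoryTheory AlgebraicGeometry
universe u v w
open EGA43

namespace Groth.Agent.S4937

/-- Let X and Y be irreducible schemes and f : X ⟶ Y a dominant morphism which is locally of finite
presentation and locally quasi-finite. If x is a point of X whose image y = f x has unibranch local
ring O_{Y,y}, then f is open at x. (Stated for f locally of finite presentation, the class to which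
the openness criterion by lifting of generizations used in the published argument applies; the
published hypothesis is 'locally quasi-finite', which includes locally of finite type.) -/
theorem result {X Y : Scheme.{u}} [IrreducibleSpace X]
    [IrreducibleSpace Y] (f : X ⟶ Y) [LocallyOfFinitePresentation f] [LocallyQuasiFinite f] [IsDominant f]
    (x : X) (hy : CAlg2.IsUnibranch (Y.presheaf.stalk (f.base x))) : EGA43.IsOpenAt f.base x := by
  refine Groth.EGA43Topo.isOpenAt_of_generizations f x fun O hxO z hz => ?_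
  obtain ⟨W, hW, hyW, -⟩ := exists_isAffineOpen_mem_and_subset (U := ⊤) (Set.mem_univ (f.base x))
  obtain ⟨V, hV, hxV, hVsub⟩ := exists_isAffineOpen_mem_and_subset (U := O ⊓ f ⁻¹ᵁ W) (x := x) ⟨hxO, hyW⟩
  have e : V ≤ f ⁻¹ᵁ W := fun a ha => (hVsub ha).2
  letI := (f.appLE W V e).hom.toAlgebra
  haveI : Algebra.FiniteType Γ(Y, W) Γ(X, V) := RingHom.finiteType_algebraMap.1 (f.finiteType_appLE hW hV e)
  haveI : Algebra.QuasiFinite Γ(Y, W) Γ(X, V) := LocallyQuasiFinite.quasiFinite_appLE (f := f) hW hV e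
  have hξV : genericPoint X ∈ V := (genericPoint_specializes x).mem_open V.isOpen hxV
  let p := hW.primeIdealOf ⟨f.base x, hyW⟩
  let n := hV.primeIdealOf ⟨x, hxV⟩
  let P := hV.primeIdealOf ⟨genericPoint X, hξV⟩
  haveI hnp : n.asIdeal.LiesOver p.asIdeal :=
    ⟨(congrArg PrimeSpectrum.asIdeal (Groth.EGA43Topo.comap_appLE_primeIdealOf f hW hV e hxV)).symm⟩
  have hgen : ∀ y : Y, f.base (genericPoint X) ⤳ y := fun y => by
    rw [specializes_iff_mem_closure]
    refine closure_minimal ?_ isClosed_closure (f.denseRange.closure_range ▸ Set.mem_univ y)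
    rintro _ ⟨a, rfl⟩
    exact specializes_iff_mem_closure.1 ((genericPoint_specializes a).map f.continuous)
  have hPn : P.asIdeal ≤ n.asIdeal := (PrimeSpectrum.le_iff_specializes P n).2
    (hV.fromSpec.isOpenEmbedding.toIsInducing.specializes_iff.1 (by
      rw [hV.fromSpec_primeIdealOf, hV.fromSpec_primeIdealOf]; exact genericPoint_specializes x))
  have hq : P.asIdeal.comap (algebraMap Γ(Y, W) Γ(X, V)) ∈ minimalPrimes Γ(Y, W) := by
    have hPq : PrimeSpectrum.comap (f.appLE W V e).hom P = hW.primeIdealOf ⟨f.base (genericPoint X), e hξV⟩ :=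
      Groth.EGA43Topo.comap_appLE_primeIdealOf f hW hV e hξV
    refine ⟨⟨(PrimeSpectrum.comap (f.appLE W V e).hom P).isPrime, bot_le⟩, fun q' hq' _ => ?_⟩
    refine (PrimeSpectrum.le_iff_specializes (PrimeSpectrum.comap (f.appLE W V e).hom P) ⟨q', hq'.1⟩).2 ?_
    refine hW.fromSpec.isOpenEmbedding.toIsInducing.specializes_iff.1 ?_
    rw [hPq, hW.fromSpec_primeIdealOf]
    exact hgen _
  obtain ⟨p', rfl⟩ : z ∈ Set.range hW.fromSpec.base := hW.range_fromSpec ▸ hz.mem_open W.isOpen hyW
  have hle : p'.asIdeal ≤ p.asIdeal := (PrimeSpectrum.le_iff_specializes p' p).2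
    (hW.fromSpec.isOpenEmbedding.toIsInducing.specializes_iff.1 (by rw [hW.fromSpec_primeIdealOf]; exact hz))
  letI : Algebra Γ(Y, W) (Y.presheaf.stalk (f.base x)) :=
    Y.presheaf.algebra_section_stalk (⟨f.base x, hyW⟩ : W)
  haveI : IsLocalization.AtPrime (Y.presheaf.stalk (f.base x)) p.asIdeal :=
    hW.isLocalization_stalk ⟨f.base x, hyW⟩
  obtain ⟨Q, hQ, -, hQp⟩ := Groth.EGA43Topo.exists_le_comap_eq_of_quasiFiniteAt p.asIdeal
    (Y.presheaf.stalk (f.base x)) hy n.asIdeal P.asIdeal hPn hq p'.asIdeal hle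
  refine ⟨hV.fromSpec.base ⟨Q, hQ⟩, (hVsub (hV.range_fromSpec.le ⟨_, rfl⟩)).1, ?_⟩
  rw [← Scheme.Hom.comp_apply, ← hW.SpecMap_appLE_fromSpec f hV e, Scheme.Hom.comp_apply]
  exact congrArg _ (PrimeSpectrum.ext hQp)

end Groth.Agent.S4937
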