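import Groth.Statements.S4943
import Groth.Agent.Misc6.Equidim2

set_option autoImplicit false
open CategoryTheory AlgebraicGeometry
universe u v w
open EGA43

namespace Groth.Agent.S4943

/-- Let Y be an irreducible locally Noetherian scheme, f : X ⟶ Y a morphism locally of finite type which
is equidimensional at the point x, y = f x and e = dim_x(X_y). Let X' be an irreducible closed
subset of X containing x, with generic point x', and n a natural number such that codim(X', X) ≤ n
(the codimension being dim O_{X,x'}) and dim_x(X' ∩ X_y) ≤ e − n. Then codim(X', X) = n, dim_x(X' ∩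
X_y) = e − n, and the restriction of f to X' with its reduced subscheme structure is equidimensional
at x. -/
theorem result {X Y : Scheme.{u}} [IrreducibleSpace Y]
    [IsLocallyNoetherian Y] (f : X ⟶ Y) [LocallyOfFiniteType f] (x : X) (hf : EGA43.IsEquidimAt f x)
    (X' : TopologicalSpace.Closeds X) (x' : X) (hx' : closure ({x'} : Set X) = (X' : Set X)) (hx : x ∈ X') (n : ℕ)
    (hcodim : ringKrullDim (X.presheaf.stalk x') ≤ n)
    (hdim : FlatMor.localDim ↥((X' : Set X) ∩ f.base ⁻¹' {f.base x}) ⟨x, ⟨hx, rfl⟩⟩ + n ≤ FlatMor.fibreDimAt f x) :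
    ringKrullDim (X.presheaf.stalk x') = n ∧
      FlatMor.localDim ↥((X' : Set X) ∩ f.base ⁻¹' {f.base x}) ⟨x, ⟨hx, rfl⟩⟩ + n = FlatMor.fibreDimAt f x ∧
      ∀ w : ↥(Scheme.IdealSheafData.vanishingIdeal X').subscheme,
        (Scheme.IdealSheafData.vanishingIdeal X').subschemeι.base w = x →
        EGA43.IsEquidimAt ((Scheme.IdealSheafData.vanishingIdeal X').subschemeι ≫ f) w := by
  have hcod : Order.coheight x' ≤ n := by
    rw [ringKrullDim_stalk_eq_coheight] at hcodim
    exact_mod_cast hcodim
  have h : x ∈ (X' : Set X) ∩ f.base ⁻¹' {f.base x} := ⟨hx, rfl⟩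
  obtain ⟨h1, h2, h3, h4⟩ := Groth.Misc6.Equidim.of_codim f hf hx' h hcod hdim
  refine ⟨?_, ?_, fun w hw => Groth.Misc6.Equidim.isEquidimAt_closure f hx'
    (Groth.Misc6.Equidim.component_of_eq_genericPoint h1) h h4.le w hw⟩
  · rw [ringKrullDim_stalk_eq_coheight, h2]; rfl
  · rw [h4, h3]

end Groth.Agent.S4943
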