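import Groth.Statements.S4947
import Groth.Agent.Ega41SymGr.Regular
import Mathlib
-- import your own Groth.Agent.* helpers here

set_option autoImplicit false
universe u
open EGA43

namespace Groth.Agent.S4947

section Helpers

open IsLocalRing MvPolynomial

variable {A : Type u} [CommRing A] [IsRegularLocalRing A]

/-- A quasi-regular system of parameters. -/
theorem exists_system : ∃ (d : ℕ) (f : Fin d → A),
    Ideal.span (Set.range f) = maximalIdeal A ∧ CAlgX.IsQuasiRegular f := by
  classical
  obtain ⟨s, hs, hspan⟩ := Submodule.FG.exists_span_set_encard_eq_spanFinrank (IsNoetherian.noetherian (maximalIdeal A))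
  haveI : Finite s := Set.finite_of_encard_eq_coe hs
  haveI : Fintype s := Fintype.ofFinite s
  let f : Fin (Fintype.card s) → A := fun i => ((Fintype.equivFin s).symm i : A)
  have hr : Set.range f = s := by
    ext x
    exact ⟨by rintro ⟨i, rfl⟩; exact ((Fintype.equivFin s).symm i).2,
      fun hx => ⟨Fintype.equivFin s ⟨x, hx⟩, by simp [f]⟩⟩
  have hf : ∀ i, f i ∈ maximalIdeal A := fun i => hspan.le (Submodule.subset_span ((Fintype.equivFin s).symm i).2)
  have hsp : Ideal.span (Set.range f) = maximalIdeal A := by rw [hr]; exact hspan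
  have hcard : Fintype.card s = Module.finrank (ResidueField A) (CotangentSpace A) := by
    rw [← spanFinrank_maximalIdeal_eq_finrank_cotangentSpace, ← ENat.coe_inj, ← hs, ← Set.coe_fintypeCard]
  have hlen : ∀ k : ℕ, Module.length A (A ⧸ maximalIdeal A ^ (k + 1)) = ((k + Fintype.card s).choose k : ℕ∞) := fun k => by
    rw [hcard]; exact (Groth.EGA41Two.GrLength.regular_iff.mp inferInstance) k
  exact ⟨_, f, hsp, fun n => (Groth.EGA41Two.GrLength.injective_Φ_iff f hf hsp n).mp
    ((Groth.EGA41Two.GrLength.length_eq_choose_iff f hf hsp).mp hlen n)⟩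

variable {d : ℕ} {f : Fin d → A} (hspan : Ideal.span (Set.range f) = maximalIdeal A)
  (hqr : CAlgX.IsQuasiRegular f)

include hspan hqr in
theorem map_residue_eq_zero {n : ℕ} (P : MvPolynomial (Fin d) A) (hP : P.IsHomogeneous n)
    (h : eval f P ∈ maximalIdeal A ^ (n + 1)) : MvPolynomial.map (residue A) P = 0 := by
  ext e
  rw [coeff_map, coeff_zero, residue_eq_zero_iff, ← hspan]
  exact hqr n P hP (by rw [hspan]; exact h) e

include hspan in
theorem exists_poly {n : ℕ} {a : A} (ha : a ∈ maximalIdeal A ^ n) :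
    ∃ P : MvPolynomial (Fin d) A, P.IsHomogeneous n ∧ eval f P = a :=
  Groth.EGA41Two.exists_homogeneous f (by rw [hspan]; exact ha)

include hspan in
theorem eval_mem {n : ℕ} (P : MvPolynomial (Fin d) A) (hP : P.IsHomogeneous n) :
    eval f P ∈ maximalIdeal A ^ n := by
  have h := Groth.EGA41Two.eval_mem_pow f (Groth.EGA41Two.isForm_self hP)
  rwa [Groth.EGA41Two.headSpan_self, hspan] at h

include hspan in
theorem eval_mem_succ {n : ℕ} (P : MvPolynomial (Fin d) A) (hP : P.IsHomogeneous n)
    (h : MvPolynomial.map (residue A) P = 0) : eval f P ∈ maximalIdeal A ^ (n + 1) := by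
  classical
  rw [P.as_sum, map_sum]
  refine sum_mem fun e he => ?_
  rw [eval_monomial, pow_succ', Finsupp.prod]
  refine Ideal.mul_mem_mul ((residue_eq_zero_iff _).mp ?_) ?_
  · have := congrArg (coeff e) h
    rwa [coeff_map, coeff_zero] at this
  · have hdeg : ∑ i ∈ e.support, e i = n := by
      rw [← hP (mem_support_iff.mp he)]
      simp [Finsupp.weight_apply, Finsupp.sum]
    rw [← hdeg, ← Finset.prod_pow_eq_pow_sum]
    exact Ideal.prod_mem_prod fun i _ =>
      Ideal.pow_mem_pow (hspan.le (Ideal.subset_span ⟨i, rfl⟩)) _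

/-- `a` has order exactly `n`. -/
def HasOrd (a : A) (n : ℕ) : Prop := a ∈ maximalIdeal A ^ n ∧ a ∉ maximalIdeal A ^ (n + 1)

theorem exists_ord {a : A} (ha : a ≠ 0) : ∃ n, HasOrd a n := by
  classical
  have h : ∃ n, a ∉ maximalIdeal A ^ n := by
    by_contra hcon
    push Not at hcon
    have h2 : a ∈ ⨅ n : ℕ, maximalIdeal A ^ n := Submodule.mem_iInf _ |>.mpr hcon
    rw [Ideal.iInf_pow_eq_bot_of_isLocalRing _ (maximalIdeal.isMaximal A).ne_top] at h2
    exact ha h2
  have h0 : Nat.find h ≠ 0 := fun h0 => by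
    have := Nat.find_spec h
    rw [h0, pow_zero, Ideal.one_eq_top] at this
    exact this Submodule.mem_top
  obtain ⟨n, hn⟩ := Nat.exists_eq_succ_of_ne_zero h0
  exact ⟨n, not_not.mp (Nat.find_min h (hn ▸ Nat.lt_succ_self n)), by have := Nat.find_spec h; rwa [hn] at this⟩

theorem HasOrd.ne_zero {a : A} {n : ℕ} (h : HasOrd a n) : a ≠ 0 := fun h0 => h.2 (h0 ▸ zero_mem _)

include hspan hqr in
theorem HasOrd.mul {a b : A} {n m : ℕ} (ha : HasOrd a n) (hb : HasOrd b m) : HasOrd (a * b) (n + m) := by
  refine ⟨pow_add (maximalIdeal A) n m ▸ Ideal.mul_mem_mul ha.1 hb.1, fun h => ?_⟩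
  obtain ⟨P, hP, rfl⟩ := exists_poly hspan ha.1
  obtain ⟨Q, hQ, rfl⟩ := exists_poly hspan hb.1
  have h1 := map_residue_eq_zero hspan hqr (P * Q) (hP.mul hQ) (by rw [map_mul]; exact h)
  rw [map_mul, mul_eq_zero] at h1
  exact h1.elim (fun h2 => ha.2 (eval_mem_succ hspan P hP h2)) (fun h2 => hb.2 (eval_mem_succ hspan Q hQ h2))

local notation "K" => FractionRing A
local notation "ι" => algebraMap A (FractionRing A)

/-- The valuation ring of the order function. -/
def ordRing (hspan : Ideal.span (Set.range f) = maximalIdeal A) (hqr : CAlgX.IsQuasiRegular f) :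
    Subalgebra A K where
  carrier := {z | ∃ (a b : A) (n : ℕ), HasOrd b n ∧ a ∈ maximalIdeal A ^ n ∧ z * ι b = ι a}
  mul_mem' := by
    rintro z z' ⟨a, b, n, hb, ha, hz⟩ ⟨a', b', n', hb', ha', hz'⟩
    refine ⟨a * a', b * b', n + n', hb.mul hspan hqr hb', pow_add (maximalIdeal A) n n' ▸ Ideal.mul_mem_mul ha ha', ?_⟩
    rw [map_mul, map_mul, ← hz, ← hz']; ring
  add_mem' := by
    rintro z z' ⟨a, b, n, hb, ha, hz⟩ ⟨a', b', n', hb', ha', hz'⟩
    refine ⟨a * b' + b * a', b * b', n + n', hb.mul hspan hqr hb',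
      pow_add (maximalIdeal A) n n' ▸ add_mem (Ideal.mul_mem_mul ha hb'.1) (Ideal.mul_mem_mul hb.1 ha'), ?_⟩
    rw [map_mul, map_add, map_mul, map_mul, ← hz, ← hz']; ring
  algebraMap_mem' := fun a => ⟨a, 1, 0, ⟨by simp, fun h => (maximalIdeal.isMaximal A).ne_top
    ((Ideal.eq_top_iff_one _).mpr (by simpa using h))⟩, by simp, by simp⟩

end Helpers

/-- Let A be a regular local ring which is not a field, K its fraction field and k its residue field.
Then there is a discrete valuation ring V between A and K, with fraction field K, dominating A,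
whose residue field is a purely transcendental extension of k: for some ring map from k compatible
with A → V there is an algebraically independent family generating the residue field of V as a field
over k. -/
theorem result (A : Type u) [CommRing A] [IsRegularLocalRing A]
    (hA : ¬ IsField A) :
    ∃ (V : Subalgebra A (FractionRing A)) (_ : IsDomain V) (_ : IsDiscreteValuationRing V), IsFractionRing V (FractionRing A) ∧
      (IsLocalRing.maximalIdeal V).comap (algebraMap A V) = IsLocalRing.maximalIdeal A ∧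
      ∃ (φ : IsLocalRing.ResidueField A →+* IsLocalRing.ResidueField V),
        φ.comp (IsLocalRing.residue A) = (IsLocalRing.residue V).comp (algebraMap A V) ∧
        letI := φ.toAlgebra
        ∃ (ι : Type u) (t : ι → IsLocalRing.ResidueField V), AlgebraicIndependent (IsLocalRing.ResidueField A) t ∧
          IntermediateField.adjoin (IsLocalRing.ResidueField A) (Set.range t) = ⊤ := by
  classical
  obtain ⟨d, f, hspan, hqr⟩ := exists_system (A := A)
  have : IsDomain A := Groth.Ega4Algebra1.isDomain_of_isRegularLocalRing A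
  obtain ⟨i₀⟩ : Nonempty (Fin d) := by
    by_contra hd
    rw [not_nonempty_iff] at hd
    refine hA (IsLocalRing.isField_iff_maximalIdeal_eq.mpr ?_)
    rw [← hspan, Set.range_eq_empty f, Ideal.span_empty]
  let V := ordRing hspan hqr
  let k := IsLocalRing.ResidueField A
  set R := algebraMap A (FractionRing A) with hR
  have hinj : Function.Injective R := IsFractionRing.injective A (FractionRing A)
  let π : A := f i₀
  have hπ1 : HasOrd π 1 := by
    refine ⟨by rw [pow_one, ← hspan]; exact Ideal.subset_span ⟨i₀, rfl⟩, fun h => ?_⟩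
    have h1 := map_residue_eq_zero hspan hqr (MvPolynomial.X i₀) (MvPolynomial.isHomogeneous_X A i₀)
      (by rw [MvPolynomial.eval_X]; exact h)
    rw [MvPolynomial.map_X] at h1
    exact MvPolynomial.X_ne_zero i₀ h1
  have hπn : ∀ n, HasOrd (π ^ n) n := by
    intro n
    induction n with
    | zero => exact ⟨by simp, fun h => (IsLocalRing.maximalIdeal.isMaximal A).ne_top
        ((Ideal.eq_top_iff_one _).mpr (by simpa using h))⟩
    | succ n ih => rw [pow_succ]; exact ih.mul hspan hqr hπ1
  have hπ0 : R π ≠ 0 := fun h => hπ1.ne_zero (hinj (by rw [h, map_zero]))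
  -- units
  have hunit : ∀ (z : V) (a b : A) (n : ℕ), HasOrd b n → HasOrd a n → (z : FractionRing A) * R b = R a →
      IsUnit z := by
    intro z a b n hb ha hz
    have hw : R b / R a ∈ V := ⟨b, a, n, ha, hb.1,
      div_mul_cancel₀ _ fun h => ha.ne_zero (hinj (by rw [h, map_zero]))⟩
    refine IsUnit.of_mul_eq_one ⟨_, hw⟩ (Subtype.ext ?_)
    show (z : FractionRing A) * (R b / R a) = 1
    rw [mul_div_assoc', hz, div_self fun h => ha.ne_zero (hinj (by rw [h, map_zero]))]
  have hnonunit : ∀ (z : V) (a b : A) (n : ℕ), HasOrd b n → a ∈ IsLocalRing.maximalIdeal A ^ (n + 1) →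
      (z : FractionRing A) * R b = R a → ¬ IsUnit z := by
    intro z a b n hb ha hz hu
    obtain ⟨⟨w, a', b', n', hb', ha', hw⟩, hzw⟩ := hu.exists_right_inv
    have h1 : (z : FractionRing A) * w = 1 := congrArg Subtype.val hzw
    have h2 : b * b' = a * a' := hinj (by rw [map_mul, map_mul, ← hz, ← hw]; linear_combination (-(R b) * R b') * h1)
    refine (hb.mul hspan hqr hb').2 ?_
    rw [h2, show n + n' + 1 = n + 1 + n' by ring, pow_add]
    exact Ideal.mul_mem_mul ha ha'
  let πV : V := algebraMap A V π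
  have hπV : ∀ e : ℕ, ((πV ^ e : V) : FractionRing A) = R (π ^ e) := fun e => by
    rw [SubmonoidClass.coe_pow, map_pow]; rfl
  have hnu : ¬ IsUnit πV := hnonunit _ π 1 0 ⟨by simp, fun h => (IsLocalRing.maximalIdeal.isMaximal A).ne_top
    ((Ideal.eq_top_iff_one _).mpr (by simpa using h))⟩ (by simpa using hπ1.1) (by rw [map_one, mul_one]; rfl)
  have hdec : ∀ z : V, z ≠ 0 → ∃ e : ℕ, Associated (πV ^ e) z := by
    intro z hz
    obtain ⟨a, b, n, hb, ha, he⟩ := z.2
    have ha0 : a ≠ 0 := by
      rintro rfl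
      rw [map_zero] at he
      exact hz (Subtype.ext ((mul_eq_zero.mp he).resolve_right fun h => hb.ne_zero (hinj (by rw [map_zero]; exact h))))
    obtain ⟨j, hj⟩ := exists_ord ha0
    have hnj : n ≤ j := by
      by_contra hlt
      exact hj.2 (Ideal.pow_le_pow_right (by omega) ha)
    obtain ⟨e, rfl⟩ := Nat.exists_eq_add_of_le hnj
    have hd2 := (hπn e).mul hspan hqr hb
    have hu0 : R a / R (π ^ e * b) ∈ V := ⟨a, π ^ e * b, e + n, hd2, by rw [add_comm]; exact hj.1,
      div_mul_cancel₀ _ fun h => hd2.ne_zero (hinj (by rw [h, map_zero]))⟩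
    have hu := hunit ⟨_, hu0⟩ a (π ^ e * b) (e + n) hd2 (by rw [add_comm]; exact hj)
      (div_mul_cancel₀ _ fun h => hd2.ne_zero (hinj (by rw [h, map_zero])))
    refine ⟨e, hu.unit, Subtype.ext ?_⟩
    show ((πV ^ e : V) : FractionRing A) * (R a / R (π ^ e * b)) = z
    change _ * R b = R a at he
    rw [hπV, ← he, map_mul]
    have h1 : R (π ^ e) ≠ 0 := fun h => (hπn e).ne_zero (hinj (by rw [h, map_zero]))
    have h2 : R b ≠ 0 := fun h => hb.ne_zero (hinj (by rw [h, map_zero]))
    field_simp
  have hirr : Irreducible πV := by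
    refine ⟨hnu, fun y w hyw => ?_⟩
    by_contra hcon
    push Not at hcon
    have hy : y ≠ 0 := by rintro rfl; rw [zero_mul] at hyw; exact hπ0 (congrArg Subtype.val hyw)
    have hw : w ≠ 0 := by rintro rfl; rw [mul_zero] at hyw; exact hπ0 (congrArg Subtype.val hyw)
    obtain ⟨i, ui, hi⟩ := hdec y hy
    obtain ⟨j, uj, hj⟩ := hdec w hw
    have hi0 : i ≠ 0 := by rintro rfl; exact hcon.1 (hi ▸ by rw [pow_zero, one_mul]; exact ui.isUnit)
    have hj0 : j ≠ 0 := by rintro rfl; exact hcon.2 (hj ▸ by rw [pow_zero, one_mul]; exact uj.isUnit)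
    obtain ⟨i, rfl⟩ := Nat.exists_eq_succ_of_ne_zero hi0
    obtain ⟨j, rfl⟩ := Nat.exists_eq_succ_of_ne_zero hj0
    refine hnu (IsUnit.of_mul_eq_one (πV ^ (i + j) * ui * uj) (mul_left_cancel₀ (a := πV) ?_ ?_))
    · exact fun h => hπ0 (congrArg Subtype.val h)
    · conv_rhs => rw [mul_one, hyw, ← hi, ← hj]
      simp only [Nat.succ_eq_add_one, pow_add, pow_one]
      ring
  have hDVR : IsDiscreteValuationRing V :=
    IsDiscreteValuationRing.ofHasUnitMulPowIrreducibleFactorization ⟨πV, hirr, fun {z} hz => hdec z hz⟩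
  refine ⟨V, inferInstance, hDVR, ?_, ?_, ?_⟩
  · refine IsFractionRing.of_field _ _ fun z => ?_
    obtain ⟨a, b, hb, rfl⟩ := IsFractionRing.div_surjective (A := A) z
    exact ⟨algebraMap A V a, algebraMap A V b, rfl⟩
  · have hloc : ∀ a : A, algebraMap A V a ∈ IsLocalRing.maximalIdeal V ↔ a ∈ IsLocalRing.maximalIdeal A := by
      intro a
      refine ⟨fun h => by_contra fun hn => ?_, fun h => (IsLocalRing.mem_maximalIdeal _).mpr ?_⟩
      · exact (IsLocalRing.mem_maximalIdeal _).mp h ((IsLocalRing.notMem_maximalIdeal.mp hn).map (algebraMap A V))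
      · exact hnonunit _ a 1 0 ⟨by simp, fun h => (IsLocalRing.maximalIdeal.isMaximal A).ne_top
          ((Ideal.eq_top_iff_one _).mpr (by simpa using h))⟩ (by simpa using h) (by rw [map_one, mul_one]; rfl)
    exact Ideal.ext fun a => hloc a
  have hlocal : IsLocalHom (algebraMap A V) := by
    refine ⟨fun a ha => by_contra fun hn => ?_⟩
    exact hnonunit _ a 1 0 ⟨by simp, fun h => (IsLocalRing.maximalIdeal.isMaximal A).ne_top
          ((Ideal.eq_top_iff_one _).mpr (by simpa using h))⟩
      (by simpa using (IsLocalRing.mem_maximalIdeal a).mpr hn) (by rw [map_one, mul_one]; rfl) ha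
  refine ⟨IsLocalRing.ResidueField.map (algebraMap A V), RingHom.ext fun a => IsLocalRing.ResidueField.map_residue _ a, ?_⟩
  let _ := (IsLocalRing.ResidueField.map (algebraMap A V)).toAlgebra
  have hfm : ∀ i, f i ∈ IsLocalRing.maximalIdeal A := fun i => hspan.le (Ideal.subset_span ⟨i, rfl⟩)
  let y : Fin d → V := fun i => ⟨R (f i) / R π, f i, π, 1, hπ1, by simpa using hfm i, div_mul_cancel₀ _ hπ0⟩
  let t : ULift.{u} {i : Fin d // i ≠ i₀} → IsLocalRing.ResidueField V := fun i =>
    IsLocalRing.residue V (y i.down.1)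
  -- dehomogenised evaluation
  have hdh : ∀ (n : ℕ) (P : MvPolynomial (Fin d) A), P.IsHomogeneous n →
      ((MvPolynomial.aeval y P : V) : FractionRing A) * R (π ^ n) = R (MvPolynomial.eval f P) := by
    intro n P hP
    conv_lhs => rw [P.as_sum]
    conv_rhs => rw [P.as_sum]
    simp only [map_sum, AddSubmonoidClass.coe_finsetSum, Finset.sum_mul]
    refine Finset.sum_congr rfl fun e he => ?_
    have hdeg : ∑ i, e i = n := by
      rw [← hP (MvPolynomial.mem_support_iff.mp he)]
      simp [Finsupp.weight_apply, Finsupp.sum_fintype]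
    rw [MvPolynomial.aeval_monomial, MvPolynomial.eval_monomial, Finsupp.prod_fintype _ _ (fun i => pow_zero _),
      Finsupp.prod_fintype _ _ (fun i => pow_zero _), map_mul, map_prod, MulMemClass.coe_mul,
      SubmonoidClass.coe_finsetProd, ← hdeg, ← Finset.prod_pow_eq_pow_sum, map_prod, mul_assoc,
      ← Finset.prod_mul_distrib]
    refine congrArg (R (P.coeff e) * ·) (Finset.prod_congr rfl fun i _ => ?_)
    rw [SubmonoidClass.coe_pow, map_pow, map_pow, ← mul_pow]
    exact congrArg (· ^ e i) (div_mul_cancel₀ _ hπ0)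
  refine ⟨_, t, ?_, ?_⟩
  · rw [algebraicIndependent_iff]
    intro P hP0
    obtain ⟨P', rfl⟩ := MvPolynomial.map_surjective (IsLocalRing.residue A) IsLocalRing.residue_surjective P
    let N := P'.totalDegree
    let M : (ULift.{u} {i : Fin d // i ≠ i₀} →₀ ℕ) → MvPolynomial (Fin d) A := fun e =>
      (∏ i ∈ e.support, MvPolynomial.X i.down.1 ^ e i) * MvPolynomial.X i₀ ^ (N - ∑ i ∈ e.support, e i)
    let H : MvPolynomial (Fin d) A := ∑ e ∈ P'.support, MvPolynomial.C (P'.coeff e) * M e
    have hH : H.IsHomogeneous N := by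
      refine MvPolynomial.IsHomogeneous.sum _ _ _ fun e he => MvPolynomial.IsHomogeneous.C_mul ?_ _
      have hle : ∑ i ∈ e.support, e i ≤ N := MvPolynomial.le_totalDegree he
      have := (MvPolynomial.IsHomogeneous.prod e.support _ (fun i => 1 * e i)
        fun i _ => (MvPolynomial.isHomogeneous_X A i.down.1).pow (e i)).mul
        ((MvPolynomial.isHomogeneous_X A i₀).pow (N - ∑ i ∈ e.support, e i))
      simpa [Nat.add_sub_of_le hle] using this
    have hy0 : y i₀ = 1 := Subtype.ext (div_self hπ0)
    have hHy : MvPolynomial.aeval y H = MvPolynomial.aeval (fun i : ULift.{u} {i : Fin d // i ≠ i₀} => y i.down.1) P' := by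
      conv_rhs => rw [P'.as_sum]
      simp only [H, M, map_sum, map_mul, map_prod, map_pow, MvPolynomial.aeval_X, MvPolynomial.aeval_C, hy0,
        one_pow, mul_one, MvPolynomial.aeval_monomial, Finsupp.prod]
    have hres : IsLocalRing.residue V (MvPolynomial.aeval y H) = 0 := by
      rw [hHy, ← hP0, MvPolynomial.aeval_def, MvPolynomial.eval₂_comp_left, MvPolynomial.aeval_def, MvPolynomial.eval₂_map]
      rfl
    have hker : MvPolynomial.eval f H ∈ IsLocalRing.maximalIdeal A ^ (N + 1) := by
      by_contra hn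
      exact (IsLocalRing.mem_maximalIdeal _).mp ((IsLocalRing.residue_eq_zero_iff _).mp hres)
        (hunit _ _ _ N (hπn N) ⟨eval_mem hspan H hH, hn⟩ (hdh N H hH))
    have hz := map_residue_eq_zero hspan hqr H hH hker
    let g : MvPolynomial (Fin d) (IsLocalRing.ResidueField A) →ₐ[IsLocalRing.ResidueField A]
        MvPolynomial (ULift.{u} {i : Fin d // i ≠ i₀}) (IsLocalRing.ResidueField A) :=
      MvPolynomial.aeval fun i => if h : i = i₀ then 1 else MvPolynomial.X ⟨⟨i, h⟩⟩
    have hg := congrArg g hz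
    rw [map_zero] at hg
    rw [← hg]
    conv_lhs => rw [P'.as_sum]
    simp only [H, M, map_sum, map_mul, map_prod, map_pow, MvPolynomial.map_C, MvPolynomial.map_X, g,
      MvPolynomial.aeval_C, MvPolynomial.aeval_X, dif_pos, one_pow, mul_one, MvPolynomial.map_monomial]
    refine Finset.sum_congr rfl fun e _ => ?_
    rw [MvPolynomial.monomial_eq, MvPolynomial.algebraMap_eq, Finsupp.prod]
    refine congrArg (MvPolynomial.C _ * ·) (Finset.prod_congr rfl fun i _ => ?_)
    rw [dif_neg i.down.2]
  · rw [eq_top_iff]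
    intro z _
    set F := IntermediateField.adjoin (IsLocalRing.ResidueField A) (Set.range t)
    have hpoly : ∀ P : MvPolynomial (Fin d) A, IsLocalRing.residue V (MvPolynomial.aeval y P) ∈ F := by
      intro P
      induction P using MvPolynomial.induction_on with
      | C a =>
        rw [MvPolynomial.aeval_C, ← IsLocalRing.ResidueField.map_residue]
        exact F.algebraMap_mem (IsLocalRing.residue A a)
      | add P Q hP hQ => rw [map_add, map_add]; exact add_mem hP hQ
      | mul_X P i hP =>
        rw [map_mul, MvPolynomial.aeval_X, map_mul]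
        refine mul_mem hP ?_
        by_cases hi : i = i₀
        · rw [hi, show y i₀ = 1 from Subtype.ext (div_self hπ0), map_one]
          exact one_mem F
        · exact IntermediateField.subset_adjoin _ _ ⟨⟨⟨i, hi⟩⟩, rfl⟩
    obtain ⟨z, rfl⟩ := IsLocalRing.residue_surjective z
    obtain ⟨a, b, n, hb, ha, he⟩ := z.2
    obtain ⟨P, hP, rfl⟩ := exists_poly hspan ha
    obtain ⟨Q, hQ, rfl⟩ := exists_poly hspan hb.1
    have hu : IsUnit (MvPolynomial.aeval y Q) := hunit _ _ _ n (hπn n) hb (hdh n Q hQ)
    have heq : z * MvPolynomial.aeval y Q = MvPolynomial.aeval y P := Subtype.ext (by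
      refine mul_right_cancel₀ (b := R (π ^ n)) (fun h => (hπn n).ne_zero (hinj (by rw [h, map_zero]))) ?_
      rw [MulMemClass.coe_mul, mul_assoc, hdh n Q hQ, hdh n P hP]
      exact he)
    have hne : IsLocalRing.residue V (MvPolynomial.aeval y Q) ≠ 0 := (hu.map _).ne_zero
    rw [show IsLocalRing.residue V z =
        IsLocalRing.residue V (MvPolynomial.aeval y P) / IsLocalRing.residue V (MvPolynomial.aeval y Q) by
      rw [eq_div_iff hne, ← map_mul, heq]]
    exact div_mem (hpoly P) (hpoly Q)

end Groth.Agent.S4947
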