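import Groth.Statements.S4951
-- import your own Groth.Agent.* helpers here

set_option autoImplicit false
universe u
open EGA43

namespace Groth.Agent.S4951

/-- Let X be a locally Noetherian topological space in which every irreducible closed subset has a
unique generic point (X quasi-sober and T₀), and Z a closed nowhere dense subset of X such that for
every point x of Z the set of generizations of x distinct from x is connected (possibly empty). If X
is connected, then X − Z is connected. (Uniqueness of generic points, automatic for the underlying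
space of a scheme, is needed: in the four-point space {u, v, z₁, z₂} whose open sets are ∅, {u},
{v}, {u, v} and the whole space, the closed nowhere dense set Z = {z₁, z₂} satisfies the hypothesis,
since z₂ is a generization of z₁ and conversely, yet X − Z = {u, v} is not connected.) -/
theorem result {X : Type u} [TopologicalSpace X]
    [QuasiSober X] [T0Space X] (hloc : ∀ x : X, ∃ U ∈ nhds x, TopologicalSpace.NoetherianSpace ↥U) [ConnectedSpace X]
    (Z : Set X) (hZ : IsClosed Z) (hZn : IsNowhereDense Z)
    (hgen : ∀ x ∈ Z, IsPreconnected ({x' : X | x' ⤳ x} \ {x})) :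
    IsConnected Zᶜ := by
  classical
  refine ⟨?_, ?_⟩
  · rw [Set.nonempty_compl]
    intro h
    have : Nonempty X := inferInstance
    simp [IsNowhereDense, h] at hZn
  · intro U V hU hV hsub hUne hVne
    by_contra H
    let U₁ := U ∩ Zᶜ
    let U₂ := V ∩ Zᶜ
    have h12 : U₁ ∩ U₂ = ∅ := by
      refine Set.eq_empty_iff_forall_notMem.2 fun y hy => H ⟨y, hy.1.2, hy.1.1, hy.2.1⟩
    have hdense : Dense Zᶜ := by
      rw [← interior_eq_empty_iff_dense_compl]
      rwa [IsNowhereDense, hZ.closure_eq] at hZn
    have hcl : closure U₁ ∪ closure U₂ = Set.univ := by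
      rw [← closure_union, ← hdense.closure_eq]
      congr 1
      refine Set.Subset.antisymm (fun y hy => hy.elim (·.2) (·.2)) fun y hy => ?_
      exact (hsub hy).elim (fun h => Or.inl ⟨h, hy⟩) fun h => Or.inr ⟨h, hy⟩
    have hU1 : U₁.Nonempty := hUne.mono fun y hy => ⟨hy.2, hy.1⟩
    have hU2 : U₂.Nonempty := hVne.mono fun y hy => ⟨hy.2, hy.1⟩
    obtain ⟨e, -, he1, he2⟩ := isPreconnected_closed_iff.1 isPreconnected_univ (closure U₁) (closure U₂)
      isClosed_closure isClosed_closure hcl.ge (hU1.mono fun y hy => ⟨trivial, subset_closure hy⟩)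
      (hU2.mono fun y hy => ⟨trivial, subset_closure hy⟩)
    let E : Set X := closure U₁ ∩ closure U₂
    have hEclosed : IsClosed E := isClosed_closure.inter isClosed_closure
    have hEZ : E ⊆ Z := by
      intro y hy
      by_contra hyZ
      have hyUV := hsub hyZ
      rcases hyUV with h | h
      · have h1 : Disjoint U₁ (closure U₂) :=
          (Set.disjoint_iff_inter_eq_empty.2 h12).closure_right (hU.inter hZ.isOpen_compl)
        exact Set.disjoint_left.1 h1 ⟨h, hyZ⟩ hy.2
      · have h1 : Disjoint (closure U₁) U₂ :=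
          (Set.disjoint_iff_inter_eq_empty.2 h12).closure_left (hV.inter hZ.isOpen_compl)
        exact Set.disjoint_right.1 h1 ⟨h, hyZ⟩ hy.1
    let e' : E := ⟨e, he1, he2⟩
    let C : Set X := Subtype.val '' irreducibleComponent e'
    have hC : IsIrreducible C :=
      isIrreducible_irreducibleComponent.image _ continuous_subtype_val.continuousOn
    have hCc : IsClosed C := hEclosed.isClosedEmbedding_subtypeVal.isClosedMap _ isClosed_irreducibleComponent
    obtain ⟨η, hη⟩ := QuasiSober.sober hC hCc
    have hηE : η ∈ E := by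
      obtain ⟨z, -, rfl⟩ := (hη.mem : η ∈ C)
      exact z.2
    have hmax : ∀ y ∈ E, y ⤳ η → y = η := by
      intro y hy hyη
      have h1 : C ⊆ closure {y} := by
        rw [← hη.def]
        exact closure_minimal (Set.singleton_subset_iff.2 (specializes_iff_mem_closure.1 hyη)) isClosed_closure
      have h2 : irreducibleComponent e' ⊆ closure {(⟨y, hy⟩ : E)} := by
        intro w hw
        rw [← specializes_iff_mem_closure, subtype_specializes_iff]
        exact specializes_iff_mem_closure.2 (h1 ⟨w, hw, rfl⟩)
      have h3 := eq_irreducibleComponent (isIrreducible_singleton.closure.isPreirreducible) h2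
      have h4 : (⟨y, hy⟩ : E) ∈ irreducibleComponent e' := h3 ▸ subset_closure rfl
      exact hyη.antisymm (specializes_iff_mem_closure.2 (hη.def ▸ (⟨_, h4, rfl⟩ : y ∈ C))) |>.eq
    have hgenpt : ∀ W : Set X, IsOpen W → η ∈ closure W → ∃ y ∈ W, y ⤳ η := by
      intro W hW hηW
      obtain ⟨O, hO, hON⟩ := hloc η
      obtain ⟨O', hO'O, hO', hηO'⟩ := mem_nhds_iff.1 hO
      have hN : TopologicalSpace.NoetherianSpace (W ∩ O' : Set X) := by
        have := hON
        exact (Topology.IsEmbedding.inclusion (fun z hz => hO'O hz.2 : W ∩ O' ⊆ O)).isInducing.noetherianSpace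
      have hfin := TopologicalSpace.NoetherianSpace.finite_irreducibleComponents (α := (W ∩ O' : Set X))
      have hη' : η ∈ closure (W ∩ O') := by
        rw [Set.inter_comm]
        exact hO'.inter_closure ⟨hηO', hηW⟩
      have heq : (W ∩ O' : Set X) = ⋃ C ∈ irreducibleComponents (W ∩ O' : Set X), Subtype.val '' C := by
        refine Set.Subset.antisymm (fun z hz => Set.mem_iUnion₂.2
          ⟨irreducibleComponent ⟨z, hz⟩, irreducibleComponent_mem_irreducibleComponents _,
            ⟨z, hz⟩, mem_irreducibleComponent, rfl⟩) (Set.iUnion₂_subset fun C _ => ?_)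
        rintro _ ⟨z, -, rfl⟩
        exact z.2
      rw [heq, hfin.closure_biUnion] at hη'
      obtain ⟨C', hC', hηC'⟩ := Set.mem_iUnion₂.1 hη'
      have hirr : IsIrreducible (Subtype.val '' C') := hC'.1.image _ continuous_subtype_val.continuousOn
      obtain ⟨ξ, hξ⟩ := QuasiSober.sober hirr.closure isClosed_closure
      refine ⟨ξ, ?_, specializes_iff_mem_closure.2 (hξ.def.symm ▸ hηC')⟩
      obtain ⟨z, hz⟩ := hirr.1
      have hzW : z ∈ W := by
        obtain ⟨w, -, rfl⟩ := hz
        exact w.2.1
      exact (hξ.specializes (subset_closure hz)).mem_open hW hzW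
    obtain ⟨y₁, hy₁, hy₁η⟩ := hgenpt U₁ (hU.inter hZ.isOpen_compl) hηE.1
    obtain ⟨y₂, hy₂, hy₂η⟩ := hgenpt U₂ (hV.inter hZ.isOpen_compl) hηE.2
    have hne1 : y₁ ≠ η := fun h => hy₁.2 (h ▸ hEZ hηE)
    have hne2 : y₂ ≠ η := fun h => hy₂.2 (h ▸ hEZ hηE)
    obtain ⟨w, ⟨hwη, hwne⟩, hw1, hw2⟩ := isPreconnected_closed_iff.1 (hgen η (hEZ hηE)) (closure U₁) (closure U₂)
      isClosed_closure isClosed_closure (fun z _ => hcl ▸ trivial)
      ⟨y₁, ⟨hy₁η, hne1⟩, subset_closure hy₁⟩ ⟨y₂, ⟨hy₂η, hne2⟩, subset_closure hy₂⟩
    exact hwne (hmax w ⟨hw1, hw2⟩ hwη)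

end Groth.Agent.S4951
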