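import Groth.Statements.S4952
import Groth.Agent.EGA43Topo.SectionCompDim

set_option autoImplicit false
open CategoryTheory AlgebraicGeometry
universe u v w
open EGA43

namespace Groth.Agent.S4952

/-- Let Y be a locally Noetherian scheme, f : X ⟶ Y a morphism locally of finite type and g : Y ⟶ X a
section of f; for z in Y let X_z^0 be the connected component of the fibre f⁻¹(z) containing g z (a
subset of X with the induced topology). Let y be a point of Y and y' a generization of y. (i) If
there is an irreducible component Z of f⁻¹(y') containing g y' with dim Z = dim X_{y'}^0, then dim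
X_y^0 ≥ dim X_{y'}^0. (ii) If moreover X_y^0 is irreducible and dim X_y^0 = dim X_{y'}^0, then X_y^0
is contained in the closure of X_{y'}^0 in X. -/
theorem result {X Y : Scheme.{u}} [IsLocallyNoetherian Y] (f : X ⟶ Y)
    [LocallyOfFiniteType f] (g : Y ⟶ X) (hg : g ≫ f = 𝟙 Y) (y y' : Y) (hy : y' ⤳ y)
    (hZ : ∃ Z : Set X, Z ⊆ f.base ⁻¹' {y'} ∧ IsIrreducible Z ∧
      (∀ Z' : Set X, IsIrreducible Z' → Z' ⊆ f.base ⁻¹' {y'} → Z ⊆ Z' → Z' = Z) ∧ g.base y' ∈ Z ∧
      topologicalKrullDim ↥Z = topologicalKrullDim ↥(connectedComponentIn (f.base ⁻¹' {y'}) (g.base y'))) :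
    topologicalKrullDim ↥(connectedComponentIn (f.base ⁻¹' {y'}) (g.base y')) ≤ topologicalKrullDim ↥(connectedComponentIn (f.base ⁻¹' {y}) (g.base y)) ∧
      (IsIrreducible (connectedComponentIn (f.base ⁻¹' {y}) (g.base y)) → topologicalKrullDim ↥(connectedComponentIn (f.base ⁻¹' {y}) (g.base y)) = topologicalKrullDim ↥(connectedComponentIn (f.base ⁻¹' {y'}) (g.base y')) →
        connectedComponentIn (f.base ⁻¹' {y}) (g.base y) ⊆ closure (connectedComponentIn (f.base ⁻¹' {y'}) (g.base y'))) := by
  obtain ⟨Z, hZsub, hZirr, hZmax, hgZ, hZdim⟩ := hZ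
  -- the generic point of `Z`
  let S := (f.fiberι y').base ⁻¹' Z
  have hZS : (f.fiberι y').base '' S = Z := Set.image_preimage_eq_of_subset (by
    rw [f.range_fiberι]; exact hZsub)
  obtain ⟨η, hη⟩ : ∃ η : f.fiber y', closure {η} = S := by
    have hS : IsIrreducible S := by
      obtain ⟨z₀, hz₀⟩ := hZirr.1
      obtain ⟨a, rfl⟩ : z₀ ∈ Set.range (f.fiberι y').base := by rw [f.range_fiberι]; exact hZsub hz₀
      refine ⟨⟨a, hz₀⟩, fun U V hU hV hSU hSV => ?_⟩
      obtain ⟨U', hU', rfl⟩ := (f.fiberι y').isEmbedding.isInducing.isOpen_iff.1 hU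
      obtain ⟨V', hV', rfl⟩ := (f.fiberι y').isEmbedding.isInducing.isOpen_iff.1 hV
      obtain ⟨u, hu, hu'⟩ := hSU
      obtain ⟨v, hv, hv'⟩ := hSV
      obtain ⟨w, hw, hwU, hwV⟩ := hZirr.2 U' V' hU' hV' ⟨_, hu, hu'⟩ ⟨_, hv, hv'⟩
      obtain ⟨w', rfl⟩ : w ∈ Set.range (f.fiberι y').base := by rw [f.range_fiberι]; exact hZsub hw
      exact ⟨w', hw, hwU, hwV⟩
    have hcl : closure S = S := by
      have h1 := hZmax ((f.fiberι y').base '' closure S)
        (hS.closure.image _ (Scheme.Hom.continuous _).continuousOn)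
        (fun _ ⟨a, _, ha⟩ => ha ▸ Groth.FibreDim.apply_fiberι f y' a)
        (hZS.symm.le.trans (Set.image_mono subset_closure))
      exact (f.fiberι y').isEmbedding.injective.image_injective (h1.trans hZS.symm)
    obtain ⟨η, hη⟩ := QuasiSober.sober hS (closure_eq_iff_isClosed.1 hcl)
    exact ⟨η, hη⟩
  let ζ := (f.fiberι y').base η
  have hζg : ζ ⤳ g.base y' := by
    obtain ⟨b, hb, hbe⟩ := hZS.ge hgZ
    rw [← hbe]
    exact (specializes_iff_mem_closure.2 (hη ▸ hb)).map (f.fiberι y').continuous
  have hdimS : topologicalKrullDim ↥Z = topologicalKrullDim ↥S := by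
    conv_lhs => rw [← hZS]
    exact (((f.fiberι y').isEmbedding.homeomorphImage S).isHomeomorph.topologicalKrullDim_eq _).symm
  have hmaxη : IsMax η := fun b hb => by
    have h1 := hZmax ((f.fiberι y').base '' closure {b})
      (isIrreducible_singleton.closure.image _ (Scheme.Hom.continuous _).continuousOn)
      (fun _ ⟨a, _, ha⟩ => ha ▸ Groth.FibreDim.apply_fiberι f y' a)
      (hZS.symm.le.trans (Set.image_mono (hη.ge.trans (closure_minimal (Set.singleton_subset_iff.2
        (specializes_iff_mem_closure.1 (hb : b ⤳ η))) isClosed_closure))))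
    have h2 := (f.fiberι y').isEmbedding.injective.image_injective (h1.trans hZS.symm)
    exact specializes_iff_mem_closure.2 (hη.ge (h2.le (subset_closure rfl)))
  have hdZ : topologicalKrullDim ↥Z ≤ FlatMor.fibreDimAt f (g.base y') := by
    rw [hdimS, ← hη, Groth.Variety2.Dim.dim_closure_singleton]
    refine le_trans ?_ (Groth.FibreDim.fibreDimAt_le_of_specializes f hζg)
    show _ ≤ FlatMor.fibreDimAt f ((f.fiberι y').base η)
    rw [Groth.FibreDim.fibreDimAt_fiberι]
    haveI hl : LocallyOfFiniteType (f.fiberToSpecResidueField y') :=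
      inferInstanceAs (LocallyOfFiniteType (Limits.pullback.snd f (Y.fromSpecResidueField y')))
    exact @Groth.FibreDim.height_le_localDim (Y.residueField y') _ _ (f.fiberToSpecResidueField y') hl η
  constructor
  · rw [← hZdim]
    exact hdZ.trans ((Groth.FibreDim.fibreDimAt_le_of_specializes f (hy.map g.continuous)).trans
      (Groth.EGA43Topo.SecComp.fibreDimAt_le_dim (Groth.EGA43Topo.SecComp.section_mem hg y)))
  · intro hirr hdim
    obtain ⟨ζ', hζ', hspec⟩ := Groth.EGA43Topo.SecComp.exists_closure_point hg hy hirr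
      (show topologicalKrullDim ↥(connectedComponentIn (f.base ⁻¹' {y}) (g.base y)) ≤ _ by
        rw [hdim, ← hZdim]; exact hdZ)
    exact fun x hx => closure_mono (Set.singleton_subset_iff.2 hζ') (hspec x hx).mem_closure

end Groth.Agent.S4952
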