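import Groth.Statements.S4957
import Groth.Agent.EGA43Topo.ProperAtSection
import Groth.Agent.Misc6.Equidim2
import Groth.Agent.FibreDim.Semicontinuity

set_option autoImplicit false
open CategoryTheory AlgebraicGeometry
universe u v w
open EGA43

namespace Groth.Agent.S4957

/-- Let f : X ⟶ Y be a separated morphism of finite presentation with a section g : Y ⟶ X, and X_z^0 the
connected component of f⁻¹(z) containing g z. Let y be a point such that X_y^0, as an open subscheme
of the fibre X_y, is proper over κ(y). Then for every generization y' of y one has dim X_{y'}^0 ≤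
dim X_y^0. -/
theorem result {X Y : Scheme.{u}} (f : X ⟶ Y) [IsSeparated f]
    [LocallyOfFinitePresentation f] [QuasiCompact f] [QuasiSeparated f] (g : Y ⟶ X) (hg : g ≫ f = 𝟙 Y) (y : Y)
    (hop : IsOpen ((f.fiberι y).base ⁻¹' connectedComponentIn (f.base ⁻¹' {y}) (g.base y)))
    (hprop : IsProper (Scheme.Opens.ι (⟨(f.fiberι y).base ⁻¹' connectedComponentIn (f.base ⁻¹' {y}) (g.base y), hop⟩ : (f.fiber y).Opens) ≫
      f.fiberToSpecResidueField y))
    (y' : Y) (hy' : y' ⤳ y) :
    topologicalKrullDim ↥(connectedComponentIn (f.base ⁻¹' {y'}) (g.base y')) ≤ topologicalKrullDim ↥(connectedComponentIn (f.base ⁻¹' {y}) (g.base y)) := by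
  have he := Groth.EGA43Topo.ProperConn.sectionComponents_inter (f := f) g y
  have key : ∀ (C : Set ↥(f.fiber y)) (ho : IsOpen C),
      C = (f.fiberι y).base ⁻¹' MoreMor.sectionComponents f g →
      IsProper (Scheme.Opens.ι (⟨C, ho⟩ : (f.fiber y).Opens) ≫ f.fiberToSpecResidueField y) →
      ∃ U : Y.Opens, y ∈ U ∧ ∃ hC : IsClosed ((f ⁻¹ᵁ U).ι.base ⁻¹' MoreMor.sectionComponents f g),
        IsProper ((Scheme.IdealSheafData.vanishingIdeal
          (⟨(f ⁻¹ᵁ U).ι.base ⁻¹' MoreMor.sectionComponents f g, hC⟩ : TopologicalSpace.Closeds ↥(f ⁻¹ᵁ U))).subschemeι ≫ (f ∣_ U)) := by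
    rintro C ho rfl hp
    exact Groth.EGA43Topo.ProperConn.exists_proper_nhd_section g hg y ho hp
  obtain ⟨U, hyU, hC, hφ⟩ := key _ hop he.symm hprop
  let j := (Scheme.IdealSheafData.vanishingIdeal (X := (f ⁻¹ᵁ U).toScheme)
    (⟨(f ⁻¹ᵁ U).ι.base ⁻¹' MoreMor.sectionComponents f g, hC⟩ : TopologicalSpace.Closeds ↥((f ⁻¹ᵁ U).toScheme))).subschemeι
  let φ := j ≫ (f ∣_ U)
  haveI : IsProper φ := hφ
  have hj : Set.range j.base = (f ⁻¹ᵁ U).ι.base ⁻¹' MoreMor.sectionComponents f g :=
    Groth.PropsBasic2.range_vanishingIdeal_subschemeι _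
  have hfib : ∀ v : U.toScheme, topologicalKrullDim ↥(φ.fiber v) =
      topologicalKrullDim ↥(connectedComponentIn (f.base ⁻¹' {U.ι.base v}) (g.base (U.ι.base v))) := by
    intro v
    let m := φ.fiberι v ≫ j ≫ (f ⁻¹ᵁ U).ι
    have hemb : Topology.IsEmbedding m.base := m.isEmbedding
    have hr : Set.range m.base = connectedComponentIn (f.base ⁻¹' {U.ι.base v}) (g.base (U.ι.base v)) := by
      ext x
      constructor
      · rintro ⟨w, rfl⟩
        have hw : j.base ((φ.fiberι v).base w) ∈ Set.range j.base := ⟨_, rfl⟩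
        rw [hj] at hw
        have hfw : f.base (m.base w) = U.ι.base v := by
          rw [← Scheme.Hom.comp_apply]
          simp only [m, Category.assoc, ← morphismRestrict_ι]
          rw [Scheme.Hom.comp_apply, Scheme.Hom.comp_apply, Scheme.Hom.comp_apply]
          exact congrArg U.ι.base (Groth.FibreDim.apply_fiberι φ v w)
        have hw' : m.base w ∈ connectedComponentIn (f.base ⁻¹' {f.base (m.base w)}) (g.base (f.base (m.base w))) := hw
        rwa [hfw] at hw'
      · intro hx
        have hfx : f.base x = U.ι.base v := (connectedComponentIn_subset _ _ hx : _)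
        have hxU : x ∈ f ⁻¹ᵁ U := by
          show f.base x ∈ U
          rw [hfx]; exact v.2
        obtain ⟨r, hr⟩ := hj.ge (show (⟨x, hxU⟩ : ↥((f ⁻¹ᵁ U).toScheme)) ∈ (f ⁻¹ᵁ U).ι.base ⁻¹' MoreMor.sectionComponents f g from by
          show x ∈ connectedComponentIn (f.base ⁻¹' {f.base x}) (g.base (f.base x))
          rw [hfx]; exact hx)
        obtain ⟨w, hw⟩ : r ∈ Set.range (φ.fiberι v).base := (φ.range_fiberι v).ge (by
          show φ.base r = v
          refine U.ι.isEmbedding.injective ?_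
          rw [Scheme.Hom.comp_apply, hr, ← Scheme.Hom.comp_apply, morphismRestrict_ι, Scheme.Hom.comp_apply]
          exact hfx)
        refine ⟨w, ?_⟩
        simp only [m, Scheme.Hom.comp_apply, hw, hr]
        rfl
    exact (IsHomeomorph.topologicalKrullDim_eq _
      ((Homeomorph.setCongr hr).isHomeomorph.comp hemb.toHomeomorph.isHomeomorph)).trans rfl
  let v : U.toScheme := ⟨y, hyU⟩
  let v' : U.toScheme := ⟨y', hy'.mem_open U.isOpen hyU⟩
  have hvv : v' ⤳ v := U.ι.isEmbedding.toIsInducing.specializes_iff.1 hy'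
  show topologicalKrullDim ↥(connectedComponentIn (f.base ⁻¹' {U.ι.base v'}) (g.base (U.ι.base v'))) ≤
    topologicalKrullDim ↥(connectedComponentIn (f.base ⁻¹' {U.ι.base v}) (g.base (U.ι.base v)))
  haveI : LocallyOfFiniteType φ := inferInstance
  haveI : LocallyOfFiniteType (φ.fiberToSpecResidueField v') :=
    inferInstanceAs (LocallyOfFiniteType (CategoryTheory.Limits.pullback.snd φ (U.toScheme.fromSpecResidueField v')))
  rw [← hfib, ← hfib, Groth.FibreDim.dim_eq_iSup_localDim (k := U.toScheme.residueField v') (φ.fiberToSpecResidueField v')]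
  refine iSup_le fun p => ?_
  have hcl := φ.isClosedMap (closure {(φ.fiberι v').base p}) isClosed_closure
  obtain ⟨q, hq, hqv⟩ := hvv.mem_closed hcl ⟨_, subset_closure rfl, Groth.FibreDim.apply_fiberι φ v' p⟩
  have hpq : (φ.fiberι v').base p ⤳ q := specializes_iff_mem_closure.2 hq
  have h1 : FlatMor.localDim ↥(φ.fiber v') p = FlatMor.fibreDimAt φ ((φ.fiberι v').base p) :=
    (Groth.FibreDim.fibreDimAt_fiberι φ v' p).symm
  rw [h1]
  refine (Groth.Misc6.Equidim.fibreDimAt_mono φ hpq).trans ?_
  rw [← hqv]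
  exact Groth.SpectralTopology.localDim_le_dim _

end Groth.Agent.S4957
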