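import Groth.Statements.S4958
import Groth.Agent.FibreDim.OpenFibre

set_option autoImplicit false
open CategoryTheory AlgebraicGeometry
universe u v w
open EGA43

namespace Groth.Agent.S4958

/-- Let Y be an irreducible locally Noetherian scheme with generic point η, f : X ⟶ Y a morphism of
finite type and y a point of Y whose local ring O_{Y,y} is universally catenary. Suppose that dim
O_{X,z} = dim O_{Y,y} for every maximal point z of the fibre X_y. For z' in Y let E(z') be the set
of dimensions of the irreducible components of X_{z'}. Then E(y) ⊆ E(η), and hence dim X_y ≤ dim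
X_η. -/
theorem result {X Y : Scheme.{u}} [IrreducibleSpace Y]
    [IsLocallyNoetherian Y] (f : X ⟶ Y) [LocallyOfFiniteType f] [QuasiCompact f] (y : Y)
    (hcat : CAlg.IsUniversallyCatenary (Y.presheaf.stalk y))
    (hb : ∀ z : X, f.base z = y → (∀ z' : X, f.base z' = y → z ∈ closure {z'} → z' = z) →
      ringKrullDim (X.presheaf.stalk z) = ringKrullDim (Y.presheaf.stalk y)) :
    letI E : Y → Set (WithBot ℕ∞) := fun z =>
      (fun Z : Set ↥(f.fiber z) => topologicalKrullDim ↥Z) '' irreducibleComponents ↥(f.fiber z)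
    E y ⊆ E (genericPoint Y) ∧
      topologicalKrullDim ↥(f.fiber y) ≤ topologicalKrullDim ↥(f.fiber (genericPoint Y)) := by
  have key : ∀ z : X, f.base z = y → (∀ z', f.base z' = y → z' ⤳ z → z' = z) →
      ∃ ξ, f.base ξ = genericPoint Y ∧ (∀ w, f.base w = genericPoint Y → w ⤳ ξ → w = ξ) ∧
        FlatMor.fibreDimAt f ξ = FlatMor.fibreDimAt f z := fun z hzy hmax => by
    subst hzy
    obtain ⟨ξ, hξmax, -, hfmax, hd⟩ := Groth.FibreDim.exists_component_of_dim_eq f hmax
      (hb z rfl fun z' h1 h2 => hmax z' h1 (specializes_iff_mem_closure.2 h2))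
    exact ⟨ξ, Groth.FibreDim.eq_genericPoint_of_isMax hfmax,
      fun w _ hw => (hw.antisymm (hξmax hw)).eq, hd⟩
  refine ⟨?_, ?_⟩
  · show _ '' _ ⊆ _ '' _
    rw [Groth.FibreDim.component_dims_eq, Groth.FibreDim.component_dims_eq]
    rintro _ ⟨z, ⟨hzy, hmax⟩, rfl⟩
    obtain ⟨ξ, h1, h2, h3⟩ := key z hzy hmax
    exact ⟨ξ, ⟨h1, h2⟩, h3⟩
  · rw [Groth.FibreDim.dim_fiber_eq_iSup_max, Groth.FibreDim.dim_fiber_eq_iSup_max]
    refine iSup₂_le fun z hz => ?_
    obtain ⟨ξ, h1, h2, h3⟩ := key z hz.1 hz.2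
    exact h3 ▸ le_iSup₂ (f := fun z _ => FlatMor.fibreDimAt f z) ξ ⟨h1, h2⟩

end Groth.Agent.S4958
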