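import Groth.Statements.S4965
import Mathlib
import Groth.Agent.Ega43FP2.AssFibre
-- import your own Groth.Agent.* helpers here

set_option autoImplicit false
open CategoryTheory AlgebraicGeometry
universe u v w
open EGA43

namespace Groth.Agent.S4965


/-- Let f : X ⟶ Y be a proper morphism of finite presentation and F a finitely presented O_X-module
which is f-flat; for y in Y write F_y for the restriction of F to the fibre X_y. Let Φ be a finite
set of natural numbers. Then the set of points y of Y such that the set of dimensions of the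
irreducible components of Supp(F_y) contains Φ is open in Y. -/
theorem result {X Y : Scheme.{u}} (f : X ⟶ Y) [IsProper f]
    [LocallyOfFinitePresentation f] (F : X.Modules) (hF : CohB1.IsFP F) (hflat : FlatMod.IsFlatOver f F) (Φ : Finset ℕ) :
    IsOpen {y : Y | ∀ n ∈ Φ, ∃ Z ∈ irreducibleComponents ↥{z : ↥(f.fiber y) | Nontrivial (((Scheme.Modules.pullback (f.fiberι y)).obj F).presheaf.stalk z)},
      topologicalKrullDim ↥Z = (n : WithBot ℕ∞)} := by
  have : F.IsQuasicoherent := inferInstance
  have h : IsOpen (⋂ n ∈ Φ, {y : Y | ∃ z ∈ Groth.Ega43FP2.suppFib f F y,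
      (∀ w ∈ Groth.Ega43FP2.suppFib f F y, w ⤳ z → w = z) ∧ Order.height z = (n : ℕ∞)}) :=
    isOpen_biInter_finset fun n _ => Groth.Ega43FP2.isOpen_exists_max_height f F hF hflat n
  convert h using 1
  ext y
  simp only [Set.mem_iInter, Set.mem_ofPred_eq]
  refine forall₂_congr fun n _ => ?_
  have hc := congrArg (fun S => ((n : WithBot ℕ∞)) ∈ S) (Groth.Ega43FP2.componentDims_eq f F hF y)
  simp only [eq_iff_iff, Set.mem_image, Set.mem_ofPred_eq] at hc
  refine hc.trans ⟨?_, ?_⟩
  · rintro ⟨z, ⟨hz, hmax⟩, hd⟩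
    exact ⟨z, hz, hmax, WithBot.coe_inj.1 hd⟩
  · rintro ⟨z, hz, hmax, hd⟩
    exact ⟨z, ⟨hz, hmax⟩, by rw [hd]; rfl⟩

end Groth.Agent.S4965
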