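import Groth.Statements.S4966
import Mathlib
import Groth.Agent.Ega43FP2.AssFibre
-- import your own Groth.Agent.* helpers here

set_option autoImplicit false
open CategoryTheory AlgebraicGeometry
universe u v w
open EGA43

namespace Groth.Agent.S4966


/-- Let f : X ⟶ Y be a proper morphism of finite presentation and F a finitely presented O_X-module
which is f-flat; for y in Y write F_y for the restriction of F to the fibre X_y. Let Φ be a finite
set of natural numbers. Then the set of points y of Y such that F_y has no embedded associated point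
and the set of dimensions of the irreducible components of Supp(F_y) is exactly Φ is open in Y. -/
theorem result {X Y : Scheme.{u}} (f : X ⟶ Y) [IsProper f]
    [LocallyOfFinitePresentation f] (F : X.Modules) (hF : CohB1.IsFP F) (hflat : FlatMod.IsFlatOver f F) (Φ : Finset ℕ) :
    IsOpen {y : Y | AssSch.NoEmbedded ((Scheme.Modules.pullback (f.fiberι y)).obj F) ∧
      (fun Z : Set ↥{z : ↥(f.fiber y) | Nontrivial (((Scheme.Modules.pullback (f.fiberι y)).obj F).presheaf.stalk z)} => topologicalKrullDim ↥Z) '' irreducibleComponents ↥{z : ↥(f.fiber y) | Nontrivial (((Scheme.Modules.pullback (f.fiberι y)).obj F).presheaf.stalk z)} =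
        (fun n : ℕ => (n : WithBot ℕ∞)) '' (Φ : Set ℕ)} := by
  have : F.IsQuasicoherent := inferInstance
  have hFT : CohB1.IsFT F := inferInstance
  let Pb : ∀ y : Y, (f.fiber y).Modules := fun y => (Scheme.Modules.pullback (f.fiberι y)).obj F
  let Qe : ∀ y, f.fiber y → Prop := fun y x => ∀ z ∈ AssSch.Ass (Pb y), x ∈ closure {z} →
      ∀ z' ∈ AssSch.Ass (Pb y), z ∈ closure {z'} → z' = z
  have h1 : IsOpen {y : Y | ∀ z, Qe y z} := by
    refine Groth.Ega43FP2.isOpen_target f f.isClosedMap Qe ?_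
    convert Groth.Ega43FP2.isOpen_hasSk f F hF hflat 1 using 1
    ext x
    exact Groth.Ega43FP2.noEmbedded_iff_hasSk_one f F hF _ (f.asFiber x)
  let Qd : ∀ y, f.fiber y → Prop := fun y x => ∀ z ∈ AssSch.Ass (Pb y), x ∈ closure {z} → ∃ n ∈ (Φ : Set ℕ),
      topologicalKrullDim ↥(closure ({z} : Set ↥(f.fiber y))) = (n : WithBot ℕ∞)
  have h2 : IsOpen {y : Y | ∀ z, Qd y z} :=
    Groth.Ega43FP2.isOpen_target f f.isClosedMap Qd (Groth.Ega43FP2.isOpen_assDims f F hF hflat (Φ : Set ℕ))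
  have h3 : IsOpen (⋂ n ∈ Φ, {y : Y | ∃ z ∈ Groth.Ega43FP2.suppFib f F y,
      (∀ w ∈ Groth.Ega43FP2.suppFib f F y, w ⤳ z → w = z) ∧ Order.height z = (n : ℕ∞)}) :=
    isOpen_biInter_finset fun n _ => Groth.Ega43FP2.isOpen_exists_max_height f F hF hflat n
  convert (h1.inter h2).inter h3 using 1
  ext y
  rw [Set.mem_ofPred_eq, Groth.Ega43FP2.componentDims_eq f F hF y]
  simp only [Set.mem_inter_iff, Set.mem_iInter, Set.mem_ofPred_eq]
  have hass : ∀ z, z ∈ AssSch.Ass (Pb y) ↔ Groth.Ega43FP2.depthAt f F y z = 0 :=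
    Groth.Ega43FP2.mem_ass_fibre_iff f F hFT y
  constructor
  · rintro ⟨hne, heq⟩
    refine ⟨⟨fun x z hz _ z' hz' hzz' => (hne z hz z' hz' (specializes_iff_mem_closure.2 hzz')).symm, fun x z hz _ => ?_⟩,
      fun n hn => ?_⟩
    · have hzs := Groth.Ega43FP2.mem_suppFib_of_depth_eq_zero f F ((hass z).1 hz)
      obtain ⟨w, hw, hwz, hmax⟩ := Groth.Ega43FP2.exists_max_above f F hFT hzs
      obtain rfl : w = z := (hne z hz w ((hass w).2 (Groth.Ega43FP2.depthAt_eq_zero_of_max f F hFT hw hmax).2) hwz).symm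
      obtain ⟨n, hn, hn'⟩ := heq.subset ⟨w, ⟨hw, hmax⟩, rfl⟩
      exact ⟨n, hn, (Groth.Ega43FP2.clDimAt_eq f y w).trans hn'.symm⟩
    · obtain ⟨z, ⟨hz, hmax⟩, hd⟩ := heq.superset ⟨n, hn, rfl⟩
      exact ⟨z, hz, hmax, WithBot.coe_inj.1 hd⟩
  · rintro ⟨⟨he, hd⟩, hsup⟩
    refine ⟨fun z hz z' hz' hzz' => (he z z hz (subset_closure rfl) z' hz' (specializes_iff_mem_closure.1 hzz')).symm,
      Set.Subset.antisymm ?_ ?_⟩
    · rintro _ ⟨z, ⟨hz, hmax⟩, rfl⟩
      obtain ⟨n, hn, hn'⟩ := hd z z ((hass z).2 (Groth.Ega43FP2.depthAt_eq_zero_of_max f F hFT hz hmax).2) (subset_closure rfl)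
      exact ⟨n, hn, hn'.symm.trans (Groth.Ega43FP2.clDimAt_eq f y z)⟩
    · rintro _ ⟨n, hn, rfl⟩
      obtain ⟨z, hz, hmax, hh⟩ := hsup n hn
      exact ⟨z, ⟨hz, hmax⟩, by simp only [hh]; rfl⟩

end Groth.Agent.S4966
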