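import Groth.Statements.S4973
import Mathlib
-- import your own Groth.Agent.* helpers here

set_option autoImplicit false
open CategoryTheory AlgebraicGeometry
universe u v w
open EGA43

namespace Groth.Agent.S4973


open CategoryTheory.Limits in
/-- Let Y₀ and Y be integral schemes, g : Y ⟶ Y₀ a dominant morphism, f₀ : X₀ ⟶ Y₀ a dominant morphism
whose fibre over the generic point of Y₀ is irreducible, and X'₀ an irreducible component of X₀
meeting that generic fibre (it is unique), regarded as a reduced closed subscheme of X₀. If X = X₀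
×_{Y₀} Y is an integral scheme, then the morphism X'₀ ×_{Y₀} Y ⟶ X induced by the inclusion of X'₀
is an isomorphism. -/
theorem result {X₀ Y₀ Y : Scheme.{u}} [IsIntegral Y₀] [IsIntegral Y]
    (g : Y ⟶ Y₀) [IsDominant g] (f₀ : X₀ ⟶ Y₀) [IsDominant f₀]
    (hirr : IsIrreducible (f₀.base ⁻¹' {genericPoint Y₀}))
    (C : TopologicalSpace.Closeds X₀) (hC : (C : Set X₀) ∈ irreducibleComponents (X₀ : Type u))
    (hCη : ((C : Set X₀) ∩ f₀.base ⁻¹' {genericPoint Y₀}).Nonempty) [IsIntegral (pullback f₀ g)]
    (e₁ : ((Scheme.IdealSheafData.vanishingIdeal C).subschemeι ≫ f₀) ≫ 𝟙 Y₀ =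
      (Scheme.IdealSheafData.vanishingIdeal C).subschemeι ≫ f₀) (e₂ : g ≫ 𝟙 Y₀ = 𝟙 Y ≫ g) :
    IsIso (pullback.map ((Scheme.IdealSheafData.vanishingIdeal C).subschemeι ≫ f₀) g f₀ g
      (Scheme.IdealSheafData.vanishingIdeal C).subschemeι (𝟙 Y) (𝟙 Y₀) e₁ e₂) := by
  classical
  set ι := (Scheme.IdealSheafData.vanishingIdeal C).subschemeι with hι
  have hr : Set.range ι.base = (C : Set X₀) := by
    simp [hι, Scheme.IdealSheafData.range_subschemeι]
  have hgη : g.base (genericPoint Y) = genericPoint Y₀ := by
    have h1 := (genericPoint_spec Y).image g.continuous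
    have h2 : closure (g.base '' Set.univ) = Set.univ := by
      simpa [Set.image_univ] using g.denseRange.closure_range
    rw [h2] at h1
    exact h1.eq (genericPoint_spec Y₀)
  have hCsub : f₀.base ⁻¹' {genericPoint Y₀} ⊆ (C : Set X₀) := by
    obtain ⟨x, hxC, hxη⟩ := hCη
    have hc := hC.1.isGenericPoint_genericPoint C.isClosed
    have hcs : hC.1.genericPoint ⤳ x := hc.specializes hxC
    have hcη : f₀.base hC.1.genericPoint = genericPoint Y₀ := by
      have h1 : f₀.base hC.1.genericPoint ⤳ genericPoint Y₀ := by
        have := hcs.map f₀.continuous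
        rw [show f₀.base x = genericPoint Y₀ from hxη] at this
        exact this
      exact (h1.antisymm ((genericPoint_spec Y₀).specializes trivial)).eq
    have hsub : (C : Set X₀) ⊆ closure (f₀.base ⁻¹' {genericPoint Y₀}) := by
      rw [← hc.def]
      exact closure_mono (Set.singleton_subset_iff.mpr hcη)
    exact subset_closure.trans (hC.2 hirr.closure hsub)
  have hsurj : Surjective (pullback.map (ι ≫ f₀) g f₀ g ι (𝟙 Y) (𝟙 Y₀) e₁ e₂) := by
    constructor
    rw [← Set.range_eq_univ]
    show Set.range (pullback.map (ι ≫ f₀) g f₀ g ι (𝟙 Y) (𝟙 Y₀) e₁ e₂).base = Set.univ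
    rw [Scheme.Pullback.range_map]
    obtain ⟨x, hx⟩ := hirr.nonempty
    obtain ⟨z, -, hz⟩ := Scheme.Pullback.exists_preimage_pullback x (genericPoint Y)
      (hx.trans hgη.symm)
    have hξ : (pullback.snd f₀ g).base (genericPoint (pullback f₀ g : Scheme)) = genericPoint Y := by
      have h1 : (pullback.snd f₀ g).base (genericPoint (pullback f₀ g : Scheme)) ⤳ genericPoint Y := by
        have := ((genericPoint_spec (pullback f₀ g : Scheme)).specializes (y := z) trivial).map
          (pullback.snd f₀ g).continuous
        rw [show (pullback.snd f₀ g).base z = genericPoint Y from hz] at this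
        exact this
      exact (h1.antisymm ((genericPoint_spec Y).specializes trivial)).eq
    have hξ' : (pullback.fst f₀ g).base (genericPoint (pullback f₀ g : Scheme)) ∈ (C : Set X₀) := by
      apply hCsub
      show f₀.base _ = genericPoint Y₀
      rw [← hgη, ← hξ, ← Scheme.Hom.comp_apply, pullback.condition, Scheme.Hom.comp_apply]
    have h2 : (pullback.fst f₀ g).base ⁻¹' Set.range ι.base = Set.univ := by
      rw [hr]
      refine Set.eq_univ_of_univ_subset ?_
      have := (genericPoint_spec (pullback f₀ g : Scheme)).def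
      rw [← this]
      exact closure_minimal (Set.singleton_subset_iff.mpr hξ')
        (C.isClosed.preimage (pullback.fst f₀ g).continuous)
    simp [h2]
  have : MorphismProperty.IsStableUnderComposition (@IsClosedImmersion : MorphismProperty Scheme.{u}) :=
    ⟨fun f g hf hg => @IsClosedImmersion.comp _ _ _ f g hf hg⟩
  have : IsClosedImmersion (pullback.map (ι ≫ f₀) g f₀ g ι (𝟙 Y) (𝟙 Y₀) e₁ e₂) :=
    MorphismProperty.pullbackMap (P := (@IsClosedImmersion : MorphismProperty Scheme.{u})) (inferInstance : IsClosedImmersion ι)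
      (inferInstance : IsClosedImmersion (𝟙 Y)) rfl (Category.id_comp g).symm
  exact isIso_of_isClosedImmersion_of_surjective _

end Groth.Agent.S4973
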