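import Groth.Statements.S4974
import Groth.Agent.S4944
import Groth.Agent.Hensel1.QFSplit
import Groth.Agent.EtaleAlgebra.HensDomain

set_option autoImplicit false
open CategoryTheory AlgebraicGeometry
universe u v w
open EGA43

namespace Groth.Agent.S4974

/-- Consider a complete Noetherian local domain A and put Y = Spec A. Suppose f : X ⟶ Y is locally of
finite type, and take a point x ∈ X mapping to the closed point of Y, where f is equidimensional at
x and x is closed in the fibre containing it. Then one can find a local domain A' that contains A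
and is finite as an A-algebra, together with a Y-morphism h : Spec A' ⟶ X that is an immersion and
has x in its image. -/
theorem result {A : Type u} [CommRing A] [IsDomain A]
    [IsNoetherianRing A] [IsLocalRing A] [IsAdicComplete (IsLocalRing.maximalIdeal A) A] {X : Scheme.{u}}
    (f : X ⟶ Spec (CommRingCat.of A)) [LocallyOfFiniteType f] (x : X) (hx : f.base x = IsLocalRing.closedPoint A)
    (hf : EGA43.IsEquidimAt f x) (hcl : ∀ x' : X, f.base x' = f.base x → x ⤳ x' → x' = x) :
    ∃ (A' : Type u) (_ : CommRing A') (_ : IsDomain A') (_ : IsLocalRing A') (_ : Algebra A A') (_ : Module.Finite A A'),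
      Function.Injective (algebraMap A A') ∧
      ∃ h : Spec (CommRingCat.of A') ⟶ X, h ≫ f = Spec.map (CommRingCat.ofHom (algebraMap A A')) ∧
        IsImmersion h ∧ x ∈ Set.range h.base := by
  have : IsNoetherianRing (CommRingCat.of A) := ‹IsNoetherianRing A›
  have : IsDomain (CommRingCat.of A) := ‹IsDomain A›
  obtain ⟨T, i, hi, hTirr, hTred, ⟨t, ht⟩, hlft, hlqf, -, hdom⟩ := Groth.Agent.S4944.result f x hf hcl
  obtain ⟨O, hO, htO, -⟩ := exists_isAffineOpen_mem_and_subset (U := (⊤ : T.Opens)) (x := t) trivial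
  have : IsIntegral T := isIntegral_of_irreducibleSpace_of_isReduced T
  have hne : Nonempty ↥O := ⟨⟨t, htO⟩⟩
  have : IsDomain Γ(T, O) := @IsIntegral.component_integral _ _ O hne
  have : IsDominant hO.fromSpec := ⟨by
    rw [DenseRange, hO.range_fromSpec]
    exact O.2.dense ⟨t, htO⟩⟩
  obtain ⟨φ, hφ⟩ := Spec.map_surjective ((hO.fromSpec ≫ i) ≫ f)
  have h1 : LocallyQuasiFinite ((hO.fromSpec ≫ i) ≫ f) := by rw [Category.assoc]; infer_instance
  have h2 : LocallyOfFiniteType ((hO.fromSpec ≫ i) ≫ f) := by rw [Category.assoc]; infer_instance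
  have h3 : IsDominant ((hO.fromSpec ≫ i) ≫ f) := by rw [Category.assoc]; infer_instance
  rw [← hφ] at h1 h2 h3
  have hqf : φ.hom.QuasiFinite := (HasRingHomProperty.Spec_iff (P := @LocallyQuasiFinite)).1 h1
  have hft : φ.hom.FiniteType := (HasRingHomProperty.Spec_iff (P := @LocallyOfFiniteType)).1 h2
  have : HenselianLocalRing A :=
    { ‹IsLocalRing A› with
      is_henselian := fun g hg a₀ ha₀ hd => HenselianRing.is_henselian g hg a₀ ha₀ (hd.map _) }
  algebraize [φ.hom]
  let q : PrimeSpectrum Γ(T, O) := hO.primeIdealOf ⟨t, htO⟩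
  have hq : (Spec.map φ).base q = IsLocalRing.closedPoint A := by
    rw [hφ]
    show f.base (i.base (hO.fromSpec.base q)) = _
    rw [hO.fromSpec_primeIdealOf, ← hx, ← ht]
  have : q.asIdeal.LiesOver (IsLocalRing.maximalIdeal A) := ⟨(congrArg PrimeSpectrum.asIdeal hq).symm⟩
  obtain ⟨e, heq, he, -⟩ := Groth.Hensel1.exists_idempotent_of_quasiFiniteAt (R := A) q.asIdeal
  obtain rfl : e = 1 := (IsIdempotentElem.iff_eq_zero_or_one.1 he.1).resolve_left fun h =>
    heq (h ▸ Ideal.zero_mem _)
  have hfin : Module.Finite A Γ(T, O) := ⟨by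
    have := he.2
    rwa [Ideal.span_singleton_one, Submodule.restrictScalars_top] at this⟩
  have hker : Function.Injective (algebraMap A Γ(T, O)) := by
    rw [RingHom.injective_iff_ker_eq_bot, ← le_bot_iff]
    refine ((PrimeSpectrum.denseRange_comap_iff_ker_le_nilRadical φ.hom).1 h3.1).trans (le_of_eq ?_)
    exact nilradical_eq_zero A
  refine ⟨Γ(T, O), inferInstance, inferInstance, Groth.EtaleAlgebra.isLocalRing_of_finite_domain A _, φ.hom.toAlgebra,
    hfin, hker, hO.fromSpec ≫ i, hφ.symm, inferInstance, ⟨q, ?_⟩⟩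
  show i.base (hO.fromSpec.base q) = x
  rw [hO.fromSpec_primeIdealOf, ht]

end Groth.Agent.S4974
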