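import Groth.Statements.S4975
import Groth.Agent.EGA43Topo.SectionCompNhd

set_option autoImplicit false
open CategoryTheory AlgebraicGeometry
universe u v w
open EGA43

namespace Groth.Agent.S4975

/-- Let f : X ⟶ Y be a morphism locally of finite type with Y locally Noetherian, g : Y ⟶ X a section of
f, X_y^0 the connected component of f⁻¹(y) containing g y, and X^0 ⊆ X their union. Suppose every
X_y^0 is geometrically integral over κ(y) (its preimage in X_y ⊗ K is irreducible and has reduced
local rings, for every field extension K of κ(y)). Then y ↦ dim X_y^0 is locally constant on Y if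
and only if f is universally open at every point of X^0; and when this holds, X^0 is open in X. (The
published statement also lists, as a further equivalent condition, flatness of the base change of f
to the reduced closed subscheme Y_red at the points of X^0; that condition is not stated here.) -/
theorem result {X Y : Scheme.{u}}
    [IsLocallyNoetherian Y] (f : X ⟶ Y) [LocallyOfFiniteType f] (g : Y ⟶ X) (hg : g ≫ f = 𝟙 Y)
    (hint : ∀ y : Y, (∀ (K : Type u) [Field K] [Algebra (IsLocalRing.ResidueField (Y.presheaf.stalk y)) K],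
        IsIrreducible ((FBase.bcπ (f.fiberToSpecResidueField y) K ≫ f.fiberι y).base ⁻¹' connectedComponentIn (f.base ⁻¹' {y}) (g.base y)) ∧
        ∀ x' : ↥(FBase.bc (f.fiberToSpecResidueField y) K),
          (FBase.bcπ (f.fiberToSpecResidueField y) K ≫ f.fiberι y).base x' ∈ connectedComponentIn (f.base ⁻¹' {y}) (g.base y) →
          _root_.IsReduced ((FBase.bc (f.fiberToSpecResidueField y) K).presheaf.stalk x'))) :
    (IsLocallyConstant (fun y : Y => topologicalKrullDim ↥(connectedComponentIn (f.base ⁻¹' {y}) (g.base y))) ↔ ∀ x ∈ MoreMor.sectionComponents f g, EGA43.IsUnivOpenAt f x) ∧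
      (IsLocallyConstant (fun y : Y => topologicalKrullDim ↥(connectedComponentIn (f.base ⁻¹' {y}) (g.base y))) → IsOpen (MoreMor.sectionComponents f g)) := by
  have hgi : ∀ y, Groth.EGA43Topo.SecComp.GeomIrr f g y := fun y K _ _ => (hint y K).1
  have hirr0 : ∀ y, IsIrreducible (Groth.EGA43Topo.SecComp.comp f g y) :=
    fun y => Groth.EGA43Topo.SecComp.isIrreducible_of_geomIrr (hgi y)
  have hred : ∀ x ∈ MoreMor.sectionComponents f g,
      FBase.IsGeomReducedAt (f.fiberToSpecResidueField (f.base x)) (f.asFiber x) := by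
    intro x hx K _ _ x' hx'
    refine (hint (f.base x) K).2 x' ?_
    have : (FBase.bcπ (f.fiberToSpecResidueField (f.base x)) K ≫ f.fiberι (f.base x)).base x' = x :=
      (congrArg (f.fiberι (f.base x)).base hx').trans (f.fiberι_asFiber x)
    exact this.symm ▸ hx
  have hd : IsLocallyConstant (fun y : Y => topologicalKrullDim ↥(connectedComponentIn (f.base ⁻¹' {y}) (g.base y))) →
      ∀ y z, z ⤳ y → topologicalKrullDim ↥(Groth.EGA43Topo.SecComp.comp f g y) ≤ FlatMor.fibreDimAt f (g.base z) :=
    fun hc y z hz => Groth.EGA43Topo.SecComp.le_fibreDimAt_of_eventually hg hirr0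
      ⟨_, (hc.isOpen_fiber (topologicalKrullDim ↥(connectedComponentIn (f.base ⁻¹' {y}) (g.base y)))).mem_nhds rfl,
        fun w hw => hw⟩ hz
  refine ⟨⟨fun hc x hx => Groth.EGA43Topo.SecComp.isUnivOpenAt_of_dim hg (hgi _) (hd hc _) hx, fun hopen => ?_⟩,
    fun hc => isOpen_iff_mem_nhds.2 fun x hx =>
      Groth.EGA43Topo.SecComp.sectionComponents_mem_nhds_noetherian hg hirr0 (hgi _) (hd hc _) hx (hred x hx)⟩
  refine (IsLocallyConstant.iff_eventually_eq _).2 fun y => ?_
  have hmem : ∀ ξ ∈ Groth.EGA43Topo.SecComp.comp f g y, ξ ∈ MoreMor.sectionComponents f g :=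
    fun ξ hξ => ((Groth.EGA43Topo.SecComp.comp_eq y).le hξ).1
  obtain ⟨V, hV, hVc⟩ := Groth.EGA43Topo.SecComp.eventually_dim_eq_of_goodFibre hg hirr0
    (Groth.EGA43Topo.SecComp.goodFibre_of (hirr0 y) (fun ξ hξ _ => hopen ξ (hmem ξ hξ))
      (Groth.EGA43Topo.SecComp.section_mem hg y) (hred _ (hmem _ (Groth.EGA43Topo.SecComp.section_mem hg y))))
  exact Filter.mem_of_superset hV hVc

end Groth.Agent.S4975
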