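import Groth.Statements.S4977
import Groth.Agent.EGA43Topo.ProperAtCons
import Groth.Agent.EGA43Topo.FibreComponent

set_option autoImplicit false
open CategoryTheory AlgebraicGeometry
universe u v w
open EGA43

namespace Groth.Agent.S4977

open CategoryTheory.Limits in
/-- Let Y be a locally Noetherian scheme, y a point of Y, f : X ⟶ Y a separated morphism of finite type,
and Z a locally constructible subset of X such that: (i) for every generization y' of y, Z ∩ f⁻¹(y')
is a connected component of the fibre f⁻¹(y') and is geometrically connected over κ(y'); (ii) Z ∩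
f⁻¹(y), an open and closed subscheme of the fibre X_y, is proper over κ(y); (iii) Z is universally
submersive onto f(Z): for every morphism h : Y' ⟶ Y, writing p and f' for the two projections of X
×_Y Y', a subset E of h⁻¹(f(Z)) is open in h⁻¹(f(Z)) as soon as f'⁻¹(E) ∩ p⁻¹(Z) is open in p⁻¹(Z)
(induced topologies). Then Z is proper over Y at y: there is an open neighbourhood U of y such that
Z ∩ f⁻¹(U) is closed in f⁻¹(U) and, with its reduced subscheme structure, proper over U. -/
theorem result {X Y : Scheme.{u}} [IsLocallyNoetherian Y] (y : Y)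
    (f : X ⟶ Y) [IsSeparated f] [LocallyOfFiniteType f] [QuasiCompact f] (Z : Set X)
    (hZ : Topology.IsLocallyConstructible Z)
    (h1 : ∀ y' : Y, y' ⤳ y → (∃ x ∈ Z, f.base x = y' ∧ Z ∩ f.base ⁻¹' {y'} = connectedComponentIn (f.base ⁻¹' {y'}) x) ∧
      ∀ (K : Type u) [Field K] [Algebra (IsLocalRing.ResidueField (Y.presheaf.stalk y')) K],
        _root_.IsPreconnected ((FBase.bcπ (f.fiberToSpecResidueField y') K ≫ f.fiberι y').base ⁻¹' Z))
    (hop : IsOpen ((f.fiberι y).base ⁻¹' Z))
    (h2 : IsProper (Scheme.Opens.ι (⟨(f.fiberι y).base ⁻¹' Z, hop⟩ : (f.fiber y).Opens) ≫ f.fiberToSpecResidueField y))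
    (h3 : ∀ (Y' : Scheme.{u}) (h : Y' ⟶ Y) (E : Set Y'), E ⊆ h.base ⁻¹' (f.base '' Z) →
      (∃ W : Set ↥(pullback f h), IsOpen W ∧
        W ∩ (pullback.fst f h).base ⁻¹' Z = (pullback.snd f h).base ⁻¹' E ∩ (pullback.fst f h).base ⁻¹' Z) →
      ∃ V : Set Y', IsOpen V ∧ V ∩ h.base ⁻¹' (f.base '' Z) = E) :
    ∃ U : Y.Opens, y ∈ U ∧ ∃ hC : IsClosed ((f ⁻¹ᵁ U).ι.base ⁻¹' Z),
      IsProper ((Scheme.IdealSheafData.vanishingIdeal
        (⟨(f ⁻¹ᵁ U).ι.base ⁻¹' Z, hC⟩ : TopologicalSpace.Closeds ↥(f ⁻¹ᵁ U))).subschemeι ≫ (f ∣_ U)) := by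
  refine Groth.EGA43Topo.ProperConn.exists_proper_nhd_cons f hZ (fun y' hy' => ?_) (fun y' hy' L _ m hm => ?_)
    (fun A _ _ _ a ha => ?_) h2
  · obtain ⟨⟨x, -, hfx, hZx⟩, -⟩ := h1 y' hy'
    have : (f.fiberι y').base ⁻¹' Z = (f.fiberι y').base ⁻¹' connectedComponentIn (f.base ⁻¹' {y'}) x := by
      rw [← hZx]
      ext w
      exact ⟨fun h => ⟨h, Groth.FibreDim.apply_fiberι f y' w⟩, fun h => h.1⟩
    rw [this]
    exact Groth.EGA43Topo.ProperConn.isClopen_preimage_connectedComponentIn f hfx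
  · obtain ⟨θ, hθ⟩ := Groth.Valuative.exists_factor_residue m hm
    letI : Algebra (IsLocalRing.ResidueField (Y.presheaf.stalk y')) L := θ.hom.toAlgebra
    have hc := (h1 y' hy').2 L
    let g := f.fiberToSpecResidueField y'
    have hsq : IsPullback (FBase.bcπ g L ≫ f.fiberι y') (FBase.bcStr g L) f m := by
      rw [← hθ]
      exact (IsPullback.of_hasPullback g (Spec.map θ)).paste_horiz
        (IsPullback.of_hasPullback f (Y.fromSpecResidueField y'))
    let e := hsq.isoPullback
    have he : e.inv ≫ FBase.bcπ g L ≫ f.fiberι y' = pullback.fst f m := hsq.isoPullback_inv_fst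
    have hset : (pullback.fst f m).base ⁻¹' Z = e.hom.base '' ((FBase.bcπ g L ≫ f.fiberι y').base ⁻¹' Z) := by
      ext w
      constructor
      · intro hw
        refine ⟨e.inv.base w, ?_, by rw [← Scheme.Hom.comp_apply, e.inv_hom_id]; rfl⟩
        rw [Set.mem_preimage, ← Scheme.Hom.comp_apply, he]
        exact hw
      · rintro ⟨v, hv, rfl⟩
        rw [Set.mem_preimage, ← Scheme.Hom.comp_apply, hsq.isoPullback_hom_fst]
        exact hv
    rw [hset]
    exact hc.image _ e.hom.continuous.continuousOn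
  · by_contra hno
    have hfZ : a.base (IsLocalRing.closedPoint A) ∈ f.base '' Z := by
      obtain ⟨⟨x, hx, hfx, -⟩, -⟩ := h1 _ ha
      exact ⟨x, hx, hfx⟩
    let P := pullback.fst f a
    let p := pullback.snd f a
    let G : Set ↥(pullback f a) := P.base ⁻¹' Z ∩ p.base ⁻¹' {IsLocalRing.closedPoint A}ᶜ
    have hW : IsOpen (closure G)ᶜ := isClosed_closure.isOpen_compl
    obtain ⟨V, hVo, hV⟩ := h3 _ a {IsLocalRing.closedPoint A} (Set.singleton_subset_iff.2 hfZ)
      ⟨(closure G)ᶜ, hW, by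
        ext w
        constructor
        · rintro ⟨hw, hwZ⟩
          exact ⟨by_contra fun hne => hw (subset_closure ⟨hwZ, hne⟩), hwZ⟩
        · rintro ⟨(hw : p.base w = IsLocalRing.closedPoint A), hwZ⟩
          refine ⟨fun hcl => hno ?_, hwZ⟩
          have hopen : IsOpen ({IsLocalRing.closedPoint A}ᶜ : Set ↥(Spec (CommRingCat.of A))) :=
            (IsLocalRing.isClosed_singleton_closedPoint A).isOpen_compl
          have hfin : ({IsLocalRing.closedPoint A}ᶜ : Set ↥(Spec (CommRingCat.of A))).Subsingleton := by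
            intro u hu v hv
            rw [← Groth.EGA43Topo.ProperConn.eq_genericPt_of_ne_closedPoint (FractionRing A) hu,
              ← Groth.EGA43Topo.ProperConn.eq_genericPt_of_ne_closedPoint (FractionRing A) hv]
          have hpc : Groth.Limits.PC G := ((Groth.Limits.pc_of_isLocallyConstructible hZ).preimage P).inter
            ((Groth.Limits.pc_of_isConstructible
              ((hfin.finite.isCompact).isConstructible hopen)).preimage p)
          obtain ⟨z, ⟨hzZ, hz⟩, hzw⟩ := Groth.Limits.exists_specializes_of_mem_closure hpc hcl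
          exact ⟨z, w, hzw, hz, hzZ, hw, hwZ⟩⟩
    have hbot : a.base (⟨⊥, Ideal.isPrime_bot⟩ : PrimeSpectrum A) ∈ f.base '' Z := by
      obtain ⟨⟨x, hx, hfx, -⟩, -⟩ := h1 _
        (((IsLocalRing.specializes_closedPoint (⟨⊥, Ideal.isPrime_bot⟩ : PrimeSpectrum A)).map a.continuous).trans ha)
      exact ⟨x, hx, hfx⟩
    have hcV : IsLocalRing.closedPoint A ∈ V := (hV.ge rfl).1
    have hmem : (⟨⊥, Ideal.isPrime_bot⟩ : PrimeSpectrum A) ∈ ({IsLocalRing.closedPoint A} : Set ↥(Spec (CommRingCat.of A))) :=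
      hV.le ⟨(IsLocalRing.specializes_closedPoint (⟨⊥, Ideal.isPrime_bot⟩ : PrimeSpectrum A)).mem_open hVo hcV, hbot⟩
    exact IsDiscreteValuationRing.not_a_field A (congrArg PrimeSpectrum.asIdeal hmem).symm

end Groth.Agent.S4977
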