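import Groth.Statements.S4978
import Groth.Agent.Valuative.ProperAt

set_option autoImplicit false
open CategoryTheory AlgebraicGeometry
universe u v w
open EGA43

namespace Groth.Agent.S4978

open CategoryTheory.Limits in
theorem residueFieldMap_bijective {X Y : Scheme.{u}} (f : X ⟶ Y) [IsPreimmersion f] (x : X) :
    Function.Bijective (f.residueFieldMap x).hom := by
  refine ⟨RingHom.injective _, fun z ↦ ?_⟩
  obtain ⟨s, rfl⟩ := X.residue_surjective x z
  obtain ⟨t, rfl⟩ := f.stalkMap_surjective x s
  exact ⟨Y.residue (f x) t, ConcreteCategory.congr_hom (Scheme.residue_residueFieldMap f x) t⟩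

open CategoryTheory.Limits in
/-- Two points with values in a field over the same base point agree if the point is rational. -/
theorem eq_of_rational {P T : Scheme.{u}} (q : P ⟶ T) {K : Type u} [Field K]
    (k k' : Spec (CommRingCat.of K) ⟶ P) {x : P} (hx : k (IsLocalRing.closedPoint K) = x)
    (hx' : k' (IsLocalRing.closedPoint K) = x) (hr : Function.Bijective (q.residueFieldMap x).hom)
    (h : k ≫ q = k' ≫ q) : k = k' := by
  obtain ⟨θ, rfl⟩ := Groth.Valuative.exists_factor_residue k hx
  obtain ⟨θ', rfl⟩ := Groth.Valuative.exists_factor_residue k' hx'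
  simp only [Category.assoc, ← Scheme.Hom.SpecMap_residueFieldMap_fromSpecResidueField,
    ← Spec.map_comp_assoc, cancel_mono] at h
  have h' := Spec.map_injective h
  rw [show θ = θ' from CommRingCat.hom_ext (RingHom.ext fun z ↦ by
    obtain ⟨w, rfl⟩ := hr.2 z
    exact ConcreteCategory.congr_hom h' w)]

open CategoryTheory.Limits in
/-- The hypothesis on rational points of base changes to discrete valuation rings gives lifts. -/
theorem exists_lift_of_sections {X Y : Scheme.{u}} (f : X ⟶ Y) (Z : Set X) (y : Y)
    (H : ∀ (A' : Type u) [CommRing A'] [IsDomain A'] [IsDiscreteValuationRing A']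
      (g : Spec (CommRingCat.of A') ⟶ Y), g.base (IsLocalRing.closedPoint A') = y →
        ∀ x' : ↥(pullback f g), (pullback.fst f g).base x' ∈ Z →
          (pullback.snd f g).base x' = genericPoint (Spec (CommRingCat.of A')) →
          Function.Bijective ((pullback.snd f g).residueFieldMap x').hom →
          ∃ s : Spec (CommRingCat.of A') ⟶ pullback f g,
            s ≫ pullback.snd f g = 𝟙 _ ∧ x' ∈ Set.range s.base)
    {K : Type u} [Field K] (A : ValuationSubring K) [IsDiscreteValuationRing A]
    (k₀ : Spec (CommRingCat.of K) ⟶ X) (hk₀ : k₀ (IsLocalRing.closedPoint K) ∈ Z)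
    (a : Spec (CommRingCat.of A) ⟶ Y) (hcl : a (IsLocalRing.closedPoint A) = y)
    (hsq : Spec.map (CommRingCat.ofHom A.subtype) ≫ a = k₀ ≫ f) :
    ∃ l : Spec (CommRingCat.of A) ⟶ X, l ≫ f = a ∧
      Spec.map (CommRingCat.ofHom A.subtype) ≫ l = k₀ ∧ Set.range l ⊆ closure Z := by
  let gen : Spec (CommRingCat.of K) ⟶ Spec (CommRingCat.of A) :=
    Spec.map (CommRingCat.ofHom A.subtype)
  let k : Spec (CommRingCat.of K) ⟶ pullback f a := pullback.lift k₀ gen hsq.symm
  let c : Spec (CommRingCat.of K) := IsLocalRing.closedPoint K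
  have hkf : k ≫ pullback.fst f a = k₀ := pullback.lift_fst _ _ _
  have hks : k ≫ pullback.snd f a = gen := pullback.lift_snd _ _ _
  have hfst : pullback.fst f a (k c) ∈ Z := by
    rw [← Scheme.Hom.comp_apply, hkf]
    exact hk₀
  have hgenη : gen c = genericPoint (Spec (CommRingCat.of A)) := by
    rw [genericPoint_eq_bot_of_affine]
    apply PrimeSpectrum.ext
    refine Eq.trans ?_ ((RingHom.injective_iff_ker_eq_bot A.subtype).1 Subtype.val_injective)
    change Ideal.comap A.subtype (IsLocalRing.maximalIdeal K) = _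
    rw [IsLocalRing.isField_iff_maximalIdeal_eq.1 (Field.toIsField _)]
    rfl
  have hsnd : pullback.snd f a (k c) = genericPoint (Spec (CommRingCat.of A)) := by
    rw [← Scheme.Hom.comp_apply, hks, hgenη]
  have : IsPreimmersion gen :=
    IsPreimmersion.of_isLocalization (R := A) (S := K) (nonZeroDivisors A)
  have : IsPreimmersion (k ≫ pullback.snd f a) := hks.symm ▸ inferInstance
  have hrat : Function.Bijective ((pullback.snd f a).residueFieldMap (k c)).hom := by
    refine ⟨RingHom.injective _, fun z ↦ ?_⟩
    obtain ⟨w, hw⟩ := (residueFieldMap_bijective (k ≫ pullback.snd f a) c).2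
      ((k.residueFieldMap c).hom z)
    refine ⟨w, RingHom.injective (k.residueFieldMap c).hom ?_⟩
    rw [← hw, Scheme.residueFieldMap_comp]
    rfl
  obtain ⟨s, hs, t, ht⟩ := H A a hcl (k c) hfst hsnd hrat
  have htη : gen c = t := by
    rw [hgenη, ← hsnd, ← ht, ← Scheme.Hom.comp_apply, hs]
    rfl
  have hk : gen ≫ s = k := eq_of_rational (pullback.snd f a) (gen ≫ s) k
    (by rw [Scheme.Hom.comp_apply]; exact htη ▸ ht) rfl hrat
    (by rw [Category.assoc, hs, Category.comp_id, hks])
  refine ⟨s ≫ pullback.fst f a, ?_, ?_, ?_⟩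
  · rw [Category.assoc, pullback.condition, reassoc_of% hs]
  · rw [← Category.assoc, show Spec.map (CommRingCat.ofHom A.subtype) ≫ s = k from hk, hkf]
  · rintro _ ⟨z, rfl⟩
    have hgz : gen c ⤳ z := hgenη ▸ genericPoint_specializes z
    refine (hgz.map (s ≫ pullback.fst f a).continuous).mem_closed isClosed_closure (subset_closure ?_)
    rw [← Scheme.Hom.comp_apply gen, reassoc_of% hk, hkf]
    exact hk₀

open CategoryTheory.Limits in
/-- Let Y be a Noetherian scheme, f : X ⟶ Y a separated morphism of finite type, Z a subset of X such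
that every maximal point of the closure of Z belongs to Z, and y a point of Y. Then the closure of Z
is proper over Y at y (for some open U ∋ y, its trace on f⁻¹(U) is proper over U with the reduced
structure) if and only if: for every discrete valuation ring A' and every morphism g : Spec A' ⟶ Y
mapping the closed point to y, every point x' of X' = X ×_Y Spec A' which projects into Z, lies over
the generic point η' of Spec A' and is rational over κ(η') is in the image of some section of X' ⟶
Spec A'. -/
theorem result {X Y : Scheme.{u}} [IsNoetherian Y] (f : X ⟶ Y) [IsSeparated f]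
    [LocallyOfFiniteType f] [QuasiCompact f] (Z : Set X)
    (hZ : ∀ z ∈ closure Z, (∀ z' ∈ closure Z, z ∈ closure {z'} → z' = z) → z ∈ Z) (y : Y) :
    (∃ U : Y.Opens, y ∈ U ∧ ∃ hC : IsClosed ((f ⁻¹ᵁ U).ι.base ⁻¹' closure Z),
      IsProper ((Scheme.IdealSheafData.vanishingIdeal
        (⟨(f ⁻¹ᵁ U).ι.base ⁻¹' closure Z, hC⟩ : TopologicalSpace.Closeds ↥(f ⁻¹ᵁ U))).subschemeι ≫ (f ∣_ U))) ↔
      ∀ (A' : Type u) [CommRing A'] [IsDomain A'] [IsDiscreteValuationRing A'] (g : Spec (CommRingCat.of A') ⟶ Y),
        g.base (IsLocalRing.closedPoint A') = y →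
        ∀ x' : ↥(pullback f g), (pullback.fst f g).base x' ∈ Z →
          (pullback.snd f g).base x' = genericPoint (Spec (CommRingCat.of A')) →
          Function.Bijective ((pullback.snd f g).residueFieldMap x').hom →
          ∃ s : Spec (CommRingCat.of A') ⟶ pullback f g, s ≫ pullback.snd f g = 𝟙 _ ∧ x' ∈ Set.range s.base := by
  let Zc : TopologicalSpace.Closeds X := ⟨closure Z, isClosed_closure⟩
  let i := (Scheme.IdealSheafData.vanishingIdeal Zc).subschemeι
  have hred := Groth.PropsBasic2.isReduced_vanishingIdeal_subscheme Zc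
  have hi : Set.range i = closure Z := Groth.PropsBasic2.range_vanishingIdeal_subschemeι Zc
  constructor
  · rintro ⟨U, hyU, hC, hP⟩ A' _ _ _ g hg x' hxZ hxη hrat
    let gen := Groth.Limits.genericPointMap A'
    have hgenη : gen (IsLocalRing.closedPoint (FractionRing A')) =
        genericPoint (Spec (CommRingCat.of A')) := by
      rw [genericPoint_eq_bot_of_affine]
      apply PrimeSpectrum.ext
      refine Eq.trans ?_ ((RingHom.injective_iff_ker_eq_bot _).1
        (IsFractionRing.injective A' (FractionRing A')))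
      change Ideal.comap (algebraMap A' (FractionRing A')) (IsLocalRing.maximalIdeal _) = _
      rw [IsLocalRing.isField_iff_maximalIdeal_eq.1 (Field.toIsField _)]
      rfl
    obtain ⟨θ₀, hθ₀⟩ := Groth.Valuative.exists_factor_residue gen (hgenη.trans hxη.symm)
    let e := RingEquiv.ofBijective _ hrat
    let k : Spec (CommRingCat.of (FractionRing A')) ⟶ pullback f g :=
      Spec.map (CommRingCat.ofHom (θ₀.hom.comp e.symm.toRingHom)) ≫
        (pullback f g).fromSpecResidueField x'
    have hksnd : k ≫ pullback.snd f g = gen := by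
      rw [Category.assoc, ← Scheme.Hom.SpecMap_residueFieldMap_fromSpecResidueField,
        ← Spec.map_comp_assoc, ← hθ₀]
      refine congrArg (· ≫ _) (congrArg Spec.map ?_)
      refine CommRingCat.hom_ext (RingHom.ext fun z ↦ ?_)
      exact congrArg θ₀.hom (e.symm_apply_apply z)
    have hkx : k (IsLocalRing.closedPoint (FractionRing A')) = x' := by
      rw [Scheme.Hom.comp_apply, Scheme.fromSpecResidueField_apply]
    have hgU : ∀ z, g z ∈ U := fun z ↦
      ((IsLocalRing.specializes_closedPoint z).map g.continuous).mem_open U.isOpen (hg.symm ▸ hyU)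
    let C' : TopologicalSpace.Closeds (f ⁻¹ᵁ U).toScheme := ⟨(f ⁻¹ᵁ U).ι.base ⁻¹' closure Z, hC⟩
    let i' := (Scheme.IdealSheafData.vanishingIdeal C').subschemeι
    have hkU : Set.range (k ≫ pullback.fst f g) ⊆ Set.range (f ⁻¹ᵁ U).ι := by
      rintro _ ⟨z, rfl⟩
      rw [Scheme.Opens.range_ι]
      change f ((k ≫ pullback.fst f g) z) ∈ U
      rw [← Scheme.Hom.comp_apply, Category.assoc, pullback.condition, ← Category.assoc,
        Scheme.Hom.comp_apply]
      exact hgU _
    obtain ⟨k', hk'⟩ := Groth.PropsBasic2.exists_lift_of_isReduced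
      (IsOpenImmersion.lift (f ⁻¹ᵁ U).ι _ hkU) i' (by
        rintro _ ⟨z, rfl⟩
        rw [Groth.PropsBasic2.range_vanishingIdeal_subschemeι]
        refine subset_closure ?_
        rw [← Scheme.Hom.comp_apply, IsOpenImmersion.lift_fac,
          Subsingleton.elim z (IsLocalRing.closedPoint (FractionRing A')),
          Scheme.Hom.comp_apply, hkx]
        exact hxZ)
    let gU : Spec (CommRingCat.of A') ⟶ U.toScheme :=
      IsOpenImmersion.lift U.ι g (by
        rintro _ ⟨z, rfl⟩
        rw [Scheme.Opens.range_ι]
        exact hgU z)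
    have hP' : IsProper (i' ≫ f ∣_ U) := hP
    obtain ⟨l, hl₁, hl₂⟩ := Groth.Limits.dvr_lift_of_universallyClosed (i' ≫ f ∣_ U) A' k' gU (by
      rw [← cancel_mono U.ι, Category.assoc, Category.assoc, morphismRestrict_ι, reassoc_of% hk',
        IsOpenImmersion.lift_fac_assoc, Category.assoc, pullback.condition, reassoc_of% hksnd,
        Category.assoc, IsOpenImmersion.lift_fac])
    let s : Spec (CommRingCat.of A') ⟶ pullback f g :=
      pullback.lift (l ≫ i' ≫ (f ⁻¹ᵁ U).ι) (𝟙 _) (by
        simp only [Category.assoc, Category.id_comp]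
        rw [← morphismRestrict_ι f U]
        have := congrArg (· ≫ U.ι) hl₁
        simpa [gU] using this)
    refine ⟨s, pullback.lift_snd _ _ _, gen (IsLocalRing.closedPoint (FractionRing A')), ?_⟩
    have hks : gen ≫ s = k := by
      refine pullback.hom_ext ?_ ?_
      · rw [Category.assoc, pullback.lift_fst, reassoc_of% hl₂, reassoc_of% hk',
          IsOpenImmersion.lift_fac]
      · rw [Category.assoc, pullback.lift_snd, Category.comp_id, hksnd]
    rw [← hkx, ← hks]
    rfl
  · intro H
    obtain ⟨U, hyU, hP⟩ := Groth.Valuative.exists_proper_nhd_of_through (i ≫ f)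
      {η | closure {η} ∈ irreducibleComponents ↥(Scheme.IdealSheafData.vanishingIdeal Zc).subscheme}
      (fun c ↦ Groth.Limits.exists_generic_specializes c) y (by
      intro V o ho u hu A hA a hcl hsq
      have hZη : i (o u) ∈ Z := by
        refine hZ _ (hi.le ⟨_, rfl⟩) fun z' hz' hcl' ↦ ?_
        obtain ⟨w, rfl⟩ := hi.ge hz'
        have hw : w ⤳ o u := by
          rw [← i.isClosedEmbedding.toIsInducing.specializes_iff]
          exact specializes_iff_mem_closure.2 hcl'
        have hsub : closure {o u} ⊆ closure {w} := hw.closure_subset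
        have hmax : closure {w} = closure {o u} :=
          (hu.2 isIrreducible_singleton.closure hsub).antisymm hsub
        exact congrArg i ((specializes_iff_mem_closure.2 (hmax ▸ subset_closure rfl)).antisymm hw).eq.symm
      obtain ⟨lX, h1, h2, h3⟩ := exists_lift_of_sections f Z y H (K := V.residueField u) A
        (V.fromSpecResidueField u ≫ o ≫ i)
        (by rw [Scheme.Hom.comp_apply, Scheme.Hom.comp_apply, Scheme.fromSpecResidueField_apply]
            exact hZη) a hcl (by simpa only [Category.assoc] using hsq)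
      obtain ⟨l, hl⟩ := Groth.PropsBasic2.exists_lift_of_isReduced lX i (h3.trans hi.ge)
      refine ⟨l, ?_, ?_⟩
      · rw [← Category.assoc, hl, h1]
      · rw [← cancel_mono i, Category.assoc, hl, h2, Category.assoc])
    refine ⟨U, hyU, (isClosed_closure (s := Z)).preimage (f ⁻¹ᵁ U).ι.continuous, ?_⟩
    rw [morphismRestrict_comp] at hP
    have hred' := Groth.PropsBasic2.isReduced_vanishingIdeal_subscheme
      (⟨_, (isClosed_closure (s := Z)).preimage (f ⁻¹ᵁ U).ι.continuous⟩ : TopologicalSpace.Closeds (f ⁻¹ᵁ U).toScheme)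
    have : IsReduced (i ⁻¹ᵁ (f ⁻¹ᵁ U)).toScheme := inferInstance
    obtain ⟨e, he⟩ := Groth.PropsBasic2.exists_iso_of_range_eq
      (Scheme.IdealSheafData.vanishingIdeal
        (⟨_, (isClosed_closure (s := Z)).preimage (f ⁻¹ᵁ U).ι.continuous⟩ :
          TopologicalSpace.Closeds (f ⁻¹ᵁ U).toScheme)).subschemeι (i ∣_ (f ⁻¹ᵁ U)) (by
        rw [Groth.PropsBasic2.range_vanishingIdeal_subschemeι]
        ext z
        constructor
        · intro hz
          obtain ⟨w, hw⟩ := hi.ge hz
          refine ⟨⟨w, show i w ∈ f ⁻¹ᵁ U from hw.symm ▸ z.2⟩, Subtype.ext ?_⟩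
          rw [morphismRestrict_base_coe]
          exact hw
        · rintro ⟨w, rfl⟩
          exact hi.le ⟨w.1, (morphismRestrict_base_coe _ _ w).symm⟩)
    have hcomp := MorphismProperty.comp_mem @IsProper e.hom _ inferInstance hP
    rw [← Category.assoc, he] at hcomp
    exact hcomp

end Groth.Agent.S4978
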