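import Groth.Statements.S4979
import Groth.Agent.AmpleFinite.OpenSections
import Groth.Agent.AmpleFinite.Reduce
import Groth.Agent.Chow.NormRestrict
import Groth.Agent.LocFree.Basic
import Groth.Agent.S2332
import Groth.Agent.S4381

set_option autoImplicit false
open CategoryTheory AlgebraicGeometry
universe u v w
open EGA43

namespace Groth.Agent.S4979

open CategoryTheory.Limits in
/-- Ampleness after a base change with affine source which lifts locally to `Y'`. -/
theorem isAmple_of_sections {X Y Y' Y₁ P : Scheme.{u}} (f : X ⟶ Y) (g : Y' ⟶ Y) (L : X.Modules)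
    (h : RelAmple.IsRelAmple (pullback.snd f g) ((Scheme.Modules.pullback (pullback.fst f g)).obj L))
    [IsAffine Y₁] (q : Y₁ ⟶ Y) {n : ℕ} (V : Fin n → Y₁.Opens) (hV : ⨆ i, V i = ⊤)
    (hs : ∀ i, ∃ k : (↑(V i) : Scheme.{u}) ⟶ Y', k ≫ g = (V i).ι ≫ q)
    (a : P ⟶ X) (b : P ⟶ Y₁) (sq : IsPullback a b f q) :
    CompactSpace P ∧ CohB1.IsAmple ((Scheme.Modules.pullback a).obj L) := by
  have key : ∀ (W : Y₁.Opens) (k : (W : Scheme.{u}) ⟶ Y'), k ≫ g = W.ι ≫ q →
      ∃ l : (↑(b ⁻¹ᵁ W) : Scheme.{u}) ⟶ pullback f g,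
        l ≫ pullback.fst f g = (b ⁻¹ᵁ W).ι ≫ a ∧ IsPullback l (b ∣_ W) (pullback.snd f g) k := by
    intro W k hk
    have hw : ((b ⁻¹ᵁ W).ι ≫ a) ≫ f = ((b ∣_ W) ≫ k) ≫ g := by
      rw [Category.assoc, sq.w, Category.assoc, hk, morphismRestrict_ι_assoc]
    refine ⟨pullback.lift _ _ hw, pullback.lift_fst _ _ _, ?_⟩
    have big := (isPullback_morphismRestrict b W).flip.paste_horiz sq
    rw [← hk, ← pullback.lift_fst _ _ hw] at big
    exact IsPullback.of_right big (pullback.lift_snd _ _ hw) (IsPullback.of_hasPullback f g)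
  have hqc : QuasiCompact b := by
    refine IsZariskiLocalAtTarget.of_iSup_eq_top (P := @QuasiCompact) V hV fun i => ?_
    obtain ⟨k, hk⟩ := hs i
    obtain ⟨l, -, hl⟩ := key _ k hk
    exact MorphismProperty.of_isPullback (P := @QuasiCompact) hl h.1
  haveI := hqc
  refine ⟨QuasiCompact.compactSpace_of_compactSpace b, (Groth.Agent.S4381.result b _).1 ?_⟩
  refine Groth.Ega2Proj.isRelAmple_of_local b fun x => ?_
  obtain ⟨i, hi⟩ := TopologicalSpace.Opens.mem_iSup.mp (hV.ge (Set.mem_univ (b x)))
  obtain ⟨W, hW, hxW, hWV⟩ := exists_isAffineOpen_mem_and_subset hi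
  haveI : IsAffine (W : Scheme.{u}) := hW
  obtain ⟨k, hk⟩ := hs i
  let k' : (W : Scheme.{u}) ⟶ Y' := Y₁.homOfLE hWV ≫ k
  have hk' : k' ≫ g = W.ι ≫ q := by simp [k', hk]
  obtain ⟨l, hla, hl⟩ := key W k' hk'
  haveI := h.1
  have h2 := (Groth.Agent.S4381.result _ _).1 (Groth.Agent.S2332.result (pullback.snd f g) k' _ h)
  refine ⟨W, _, (b ⁻¹ᵁ W).ι, inferInstance, hxW, fun y hy => ⟨⟨y, hy⟩, rfl⟩, ?_⟩
  refine Groth.Chow.isAmple_of_iso ?_ (Groth.Chow.isAmple_pullback_of_isAffineHom hl.isoPullback.hom h2)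
  refine (Scheme.Modules.pullbackComp _ _).app _ ≪≫ (Scheme.Modules.pullbackComp _ _).app L ≪≫
    (Scheme.Modules.pullbackCongr ?_).app L ≪≫ ((Scheme.Modules.pullbackComp _ _).app L).symm ≪≫
    ((Scheme.Modules.restrictFunctorIsoPullback _).app _).symm
  rw [hl.isoPullback_hom_fst, hla]

open CategoryTheory.Limits TopologicalSpace in
/-- The part of the reverse implication over one affine open of the base. -/
theorem aux {X Y Y' : Scheme.{u}} [IsLocallyNoetherian Y] (f : X ⟶ Y) [LocallyOfFiniteType f]
    (g : Y' ⟶ Y) [LocallyOfFiniteType g] [UniversallyOpen g] [Surjective g] (L : X.Modules)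
    (hL : PicF.IsInvertible L) (Z : Closeds X)
    [IsProper ((Scheme.IdealSheafData.vanishingIdeal Z).subschemeι ≫ f)]
    (hnor : ∀ x : X, x ∉ (Z : Set X) → IsDomain (X.presheaf.stalk x) ∧ IsIntegrallyClosed (X.presheaf.stalk x))
    (h : RelAmple.IsRelAmple (pullback.snd f g) ((Scheme.Modules.pullback (pullback.fst f g)).obj L))
    (V : Y.affineOpens) :
    IsCompact (f ⁻¹' (V.1 : Set Y)) ∧ CohB1.IsAmple (L.restrict (f ⁻¹ᵁ V.1).ι) := by
  classical
  haveI : IsNoetherianRing Γ(Y, V.1) := IsLocallyNoetherian.component_noetherian V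
  let ι := V.2.fromSpec
  let fS := pullback.snd f ι
  let j := pullback.fst f ι
  haveI : LocallyOfFiniteType (pullback.snd g ι) := MorphismProperty.pullback_snd _ _ inferInstance
  haveI : UniversallyOpen (pullback.snd g ι) := MorphismProperty.pullback_snd _ _ inferInstance
  haveI : Surjective (pullback.snd g ι) := MorphismProperty.pullback_snd _ _ inferInstance
  obtain ⟨Y₁, p, n, W, hp, hps, hWt, hsec⟩ :=
    Groth.AmpleFinite.exists_finite_sections (pullback.snd g ι)
  haveI := hp
  haveI := hps
  haveI : IsAffine Y₁ := isAffine_of_isAffineHom p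
  let k : pullback fS p ⟶ pullback f ι := pullback.fst fS p
  haveI : IsFinite k := MorphismProperty.pullback_fst _ _ inferInstance
  haveI : Surjective k := MorphismProperty.pullback_fst _ _ inferInstance
  have sq : IsPullback (k ≫ j) (pullback.snd fS p) f (p ≫ ι) :=
    (IsPullback.of_hasPullback fS p).paste_horiz (IsPullback.of_hasPullback f ι)
  obtain ⟨hPc, hP⟩ := isAmple_of_sections f g L h (p ≫ ι) W hWt (fun i => by
    obtain ⟨s, hs⟩ := hsec i
    refine ⟨s ≫ pullback.fst g ι, ?_⟩
    rw [Category.assoc, pullback.condition, ← Category.assoc, hs, Category.assoc]) _ _ sq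
  haveI := hPc
  haveI : CompactSpace (pullback f ι : Scheme.{u}) :=
    k.surjective.compactSpace k.continuous
  have hrange : Set.range j = f ⁻¹' (V.1 : Set Y) := by
    rw [Scheme.Pullback.range_fst, V.2.range_fromSpec]
  refine ⟨hrange ▸ isCompact_range j.continuous, ?_⟩
  haveI : CompactSpace (f ⁻¹ᵁ V.1 : Scheme.{u}) :=
    isCompact_iff_compactSpace.mp (show IsCompact (f ⁻¹' (V.1 : Set Y)) from hrange ▸ isCompact_range j.continuous)
  refine Groth.Ega2Proj.isAmple_restrict_of_range_le _ j ?_ ?_
  · rw [Scheme.Opens.range_ι, hrange]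
    exact subset_rfl
  haveI : LocallyOfFiniteType fS := MorphismProperty.pullback_snd _ _ inferInstance
  haveI : QuasiCompact fS := (quasiCompact_iff_compactSpace fS).2 inferInstance
  haveI : IsLocallyNoetherian X := LocallyOfFiniteType.isLocallyNoetherian f
  haveI : IsLocallyNoetherian (pullback f ι : Scheme.{u}) := LocallyOfFiniteType.isLocallyNoetherian j
  let ZS : Closeds (pullback f ι : Scheme.{u}) := Z.preimage j.continuous
  let I := Scheme.IdealSheafData.vanishingIdeal ZS
  haveI : IsReduced I.subscheme := Groth.PropsBasic2.isReduced_vanishingIdeal_subscheme _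
  haveI : IsProper (I.subschemeι ≫ fS) := by
    refine Groth.AmpleFinite.isProper_reduced f Z (I.subschemeι ≫ j) ι _ ?_ ?_
    · rw [Category.assoc, Category.assoc, ← pullback.condition]
    · change Set.range (j ∘ I.subschemeι) = _
      rw [Set.range_comp, Scheme.IdealSheafData.range_subschemeι,
        Scheme.IdealSheafData.coe_support_vanishingIdeal]
      change j '' (j ⁻¹' (Z : Set X)) = _
      rw [Set.image_preimage_eq_inter_range, hrange, V.2.range_fromSpec]
  refine Groth.AmpleFinite.isAmple_of_pullback_affine fS k ZS (fun z hz => Or.inl ?_) ?_ ?_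
  · obtain ⟨hd, hic⟩ := hnor (j z) hz
    let e := (asIso (j.stalkMap z)).commRingCatIsoToRingEquiv
    haveI := hd
    haveI := hic
    exact ⟨e.symm.toMulEquiv.isDomain, IsIntegrallyClosed.of_equiv e⟩
  · exact Groth.Ega2Proj.isInvertible_restrict j hL
  · exact Groth.Chow.isAmple_of_iso (((Scheme.Modules.pullback k).mapIso
      ((Scheme.Modules.restrictFunctorIsoPullback j).app L)).trans
        ((Scheme.Modules.pullbackComp k j).app L)).symm hP

open CategoryTheory.Limits in
/-- Let Y be a locally Noetherian scheme, f : X ⟶ Y a morphism locally of finite type, g : Y' ⟶ Y a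
morphism locally of finite type which is universally open and surjective, f' : X ×_Y Y' ⟶ Y' the
base change of f, L an invertible O_X-module and L' its pullback to X ×_Y Y'. Suppose there is a
closed subset Z of X which, with its reduced subscheme structure, is proper over Y, and such that
the local rings of X at the points outside Z are integrally closed domains. Then L is ample relative
to f if and only if L' is ample relative to f'. -/
theorem result {X Y Y' : Scheme.{u}}
    [IsLocallyNoetherian Y] (f : X ⟶ Y) [LocallyOfFiniteType f] (g : Y' ⟶ Y) [LocallyOfFiniteType g]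
    [UniversallyOpen g] [Surjective g] (L : X.Modules) (hL : FlatMod.IsFinLocFreeOfRank 1 L)
    (Z : TopologicalSpace.Closeds X) (hZ : IsProper ((Scheme.IdealSheafData.vanishingIdeal Z).subschemeι ≫ f))
    (hnor : ∀ x : X, x ∉ (Z : Set X) → IsDomain (X.presheaf.stalk x) ∧ IsIntegrallyClosed (X.presheaf.stalk x)) :
    RelAmple.IsRelAmple f L ↔
      RelAmple.IsRelAmple (pullback.snd f g) ((Scheme.Modules.pullback (pullback.fst f g)).obj L) := by
  constructor
  · intro h
    haveI := h.1
    exact Groth.Agent.S2332.result f g L h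
  · intro h
    haveI := hZ
    have hL' := Groth.LocFree.isInvertible_iff_ofRank_one.2 hL
    refine ⟨?_, fun V => (aux f g L hL' Z hnor h V).2⟩
    exact quasiCompact_iff_forall_isAffineOpen.2 fun U hU => (aux f g L hL' Z hnor h ⟨U, hU⟩).1

end Groth.Agent.S4979
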