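import Groth.Statements.S5754
import Mathlib.RingTheory.Ideal.AssociatedPrime.Localization
import Mathlib.RingTheory.Support
import Mathlib.RingTheory.Regular.IsSMulRegular

set_option autoImplicit false
universe u
open EGA41
open scoped Pointwise

namespace Groth.Agent.S5754

/-- Let A be a Noetherian ring, M a finitely generated A-module and t an element of A which is
M-regular. For every associated prime p of M, every prime ideal minimal among those containing p +
tA is an associated prime of M/tM. -/
theorem result (A : Type u) [CommRing A]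
    [IsNoetherianRing A] (M : Type u) [AddCommGroup M] [Module A M] [Module.Finite A M] (t : A)
    (ht : IsSMulRegular M t) (p : Ideal A) (hp : p ∈ associatedPrimes A M) (q : Ideal A)
    (hq : q ∈ (p ⊔ Ideal.span {t}).minimalPrimes) : q ∈ associatedPrimes A (QuotSMulTop t M) := by
  haveI hqp : q.IsPrime := hq.1.1
  have hpq : p ⊔ Ideal.span {t} ≤ q := hq.1.2
  let N : Submodule A M :=
    { carrier := {x | ∀ a ∈ p, a • x = 0}
      add_mem' := fun hx hy a ha => by rw [smul_add, hx a ha, hy a ha, add_zero]
      zero_mem' := fun a _ => smul_zero a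
      smul_mem' := fun b x hx a ha => by rw [smul_comm, hx a ha, smul_zero] }
  obtain ⟨-, x, hx⟩ := (isAssociatedPrime_iff).mp hp
  have hxN : x ∈ N := fun a ha => by
    rw [hx, Submodule.mem_colon_singleton] at ha
    exact ha
  have hannN : Module.annihilator A N ≤ p := fun a ha => by
    rw [hx, Submodule.mem_colon_singleton]
    exact congrArg Subtype.val (Module.mem_annihilator.mp ha ⟨x, hxN⟩)
  -- `N/tN → M/tM` is injective
  let e := Submodule.quotEquivOfEq _ _ (Submodule.ideal_span_singleton_smul t (⊤ : Submodule A N)).symm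
  let φ : QuotSMulTop t N →ₗ[A] QuotSMulTop t M := Submodule.mapQ _ _ N.subtype (fun z hz => by
    obtain ⟨w, -, rfl⟩ := Submodule.mem_smul_pointwise_iff_exists _ _ _ |>.mp hz
    exact Submodule.smul_mem_pointwise_smul _ _ _ Submodule.mem_top)
  have hφ : Function.Injective φ := by
    rw [injective_iff_map_eq_zero]
    intro z hz
    obtain ⟨z, rfl⟩ := Submodule.Quotient.mk_surjective _ z
    obtain ⟨w, -, hw⟩ := (Submodule.mem_smul_pointwise_iff_exists _ _ _).mp ((Submodule.Quotient.mk_eq_zero _).mp hz)
    have hwN : w ∈ N := fun a ha => ht (by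
      show t • (a • w) = t • 0
      rw [smul_zero, smul_comm, hw]
      exact z.2 a ha)
    rw [Submodule.Quotient.mk_eq_zero]
    refine (Submodule.mem_smul_pointwise_iff_exists _ _ _).mpr ⟨⟨w, hwN⟩, Submodule.mem_top, Subtype.ext hw⟩
  refine associatedPrimes.subset_of_injective hφ ?_
  apply Module.associatedPrimes.minimalPrimes_annihilator_subset_associatedPrimes
  have hsup : (⟨q, hqp⟩ : PrimeSpectrum A) ∈ Module.support A (QuotSMulTop t N) := by
    rw [show Module.support A (QuotSMulTop t N) = Module.support A (N ⧸ (Ideal.span {t} • (⊤ : Submodule A N))) from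
      e.support_eq, Module.support_quotient, Module.support_eq_zeroLocus]
    exact ⟨fun a ha => hpq (Ideal.mem_sup_left (hannN ha)), fun a ha => hpq (Ideal.mem_sup_right ha)⟩
  refine ⟨⟨hqp, fun a ha => ?_⟩, fun r hr hrq => hq.2 ⟨hr.1, le_trans ?_ hr.2⟩ hrq⟩
  · rw [Module.support_eq_zeroLocus] at hsup
    exact hsup ha
  · refine sup_le (fun a ha => Module.mem_annihilator.mpr fun z => ?_) ((Ideal.span_singleton_le_iff_mem _).mpr ?_)
    · obtain ⟨z, rfl⟩ := Submodule.Quotient.mk_surjective _ z
      rw [← Submodule.Quotient.mk_smul, show a • z = 0 from Subtype.ext (z.2 a ha)]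
      rfl
    · refine Module.mem_annihilator.mpr fun z => ?_
      obtain ⟨z, rfl⟩ := Submodule.Quotient.mk_surjective _ z
      rw [← Submodule.Quotient.mk_smul, Submodule.Quotient.mk_eq_zero]
      exact Submodule.smul_mem_pointwise_smul _ _ _ Submodule.mem_top

end Groth.Agent.S5754
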