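import Groth.Statements.S4980
import Groth.Agent.EGA43Mult.Dict
import Groth.Agent.S5754
import Groth.Agent.RefRank.EmbeddedPoints
import Groth.Agent.QCohMod.PullbackQCoh
import Groth.Agent.Flatmor4.FlatModAffine

set_option autoImplicit false
open CategoryTheory AlgebraicGeometry
universe u v w
open EGA43
open Groth.MilnorKLambda.Per (lq)
set_option backward.isDefEq.respectTransparency.types false
set_option maxHeartbeats 1000000

namespace Groth.Agent.S4980

/-- Let A be a discrete valuation ring, Y = Spec A with closed point y and generic point y', f : X ⟶ Y a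
proper morphism and F a coherent O_X-module which is f-flat; write F_y, F_{y'} for the restrictions
of F to the two fibres and suppose F_y has no embedded associated point. Then the sum, over the
maximal points z' of Supp(F_{y'}), of the lengths of the stalks (F_{y'})_{z'} is at most the sum,
over the maximal points z of Supp(F_y), of the lengths of the stalks (F_y)_z (lengths over the local
rings of the fibres). -/
theorem result {A : Type u} [CommRing A] [IsDomain A]
    [IsDiscreteValuationRing A] {X : Scheme.{u}} (f : X ⟶ Spec (CommRingCat.of A)) [IsProper f] (F : X.Modules)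
    (hF : Coh.IsCoh F) (hflat : FlatMod.IsFlatOver f F)
    (hemb : AssSch.NoEmbedded ((Scheme.Modules.pullback (f.fiberι (IsLocalRing.closedPoint A))).obj F)) :
    letI y : ↥(Spec (CommRingCat.of A)) := IsLocalRing.closedPoint A
    letI y' : ↥(Spec (CommRingCat.of A)) := genericPoint (Spec (CommRingCat.of A))
    ∑ᶠ z' : {v : ↥(f.fiber y') // Nontrivial (((Scheme.Modules.pullback (f.fiberι y')).obj F).presheaf.stalk v) ∧
        ∀ w : ↥(f.fiber y'), Nontrivial (((Scheme.Modules.pullback (f.fiberι y')).obj F).presheaf.stalk w) → v ∈ closure {w} → w = v},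
        Module.length ((f.fiber y').presheaf.stalk z'.1) (((Scheme.Modules.pullback (f.fiberι y')).obj F).presheaf.stalk z'.1) ≤
      ∑ᶠ z : {v : ↥(f.fiber y) // Nontrivial (((Scheme.Modules.pullback (f.fiberι y)).obj F).presheaf.stalk v) ∧
        ∀ w : ↥(f.fiber y), Nontrivial (((Scheme.Modules.pullback (f.fiberι y)).obj F).presheaf.stalk w) → v ∈ closure {w} → w = v},
        Module.length ((f.fiber y).presheaf.stalk z.1) (((Scheme.Modules.pullback (f.fiberι y)).obj F).presheaf.stalk z.1) := by
  classical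
  have : F.IsQuasicoherent := hF.1
  have : IsLocallyNoetherian X := LocallyOfFiniteType.isLocallyNoetherian f
  let S := Spec (CommRingCat.of A)
  let y : S := IsLocalRing.closedPoint A
  let η : S := genericPoint S
  obtain ⟨ϖ, hϖ⟩ := IsDiscreteValuationRing.exists_irreducible A
  let ϖ' : Γ(S, ⊤) := (Scheme.ΓSpecIso (CommRingCat.of A)).inv ϖ
  have hϖ' : ϖ' ≠ 0 := fun h => hϖ.ne_zero
    ((ConcreteCategory.bijective_of_isIso (Scheme.ΓSpecIso (CommRingCat.of A)).inv).1
      (h.trans (map_zero _).symm))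
  have hmax_y : ∀ s : S, s = y → IsLocalRing.maximalIdeal (S.presheaf.stalk s) =
      Ideal.span {(S.presheaf.germ ⊤ s trivial).hom ϖ'} := by
    rintro s rfl
    letI : Algebra A (S.presheaf.stalk y) := (StructureSheaf.toStalk A y).hom.toAlgebra
    haveI : IsLocalization.AtPrime (S.presheaf.stalk y) (y : PrimeSpectrum A).asIdeal :=
      inferInstanceAs (IsLocalization.AtPrime ((Spec.structureSheaf A).presheaf.stalk y) _)
    rw [← IsLocalization.AtPrime.map_eq_maximalIdeal (y : PrimeSpectrum A).asIdeal (S.presheaf.stalk y),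
      show (y : PrimeSpectrum A).asIdeal = Ideal.span {ϖ} from
        (IsDiscreteValuationRing.irreducible_iff_uniformizer ϖ).1 hϖ, Ideal.map_span,
      Set.image_singleton]
    rfl
  have hmax_η : ∀ s : S, s = η → IsLocalRing.maximalIdeal (S.presheaf.stalk s) = ⊥ := by
    rintro s rfl
    exact IsLocalRing.isField_iff_maximalIdeal_eq.mp (Field.toIsField S.functionField)
  have hηmem : η ∈ S.basicOpen ϖ' :=
    ((genericPoint_spec S).mem_open_set_iff (S.basicOpen ϖ').isOpen).mpr
      (by
        have hne : S.basicOpen ϖ' ≠ ⊥ := fun h => hϖ' ((basicOpen_eq_bot_iff ϖ').mp h)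
        rw [Set.univ_inter]
        exact Set.nonempty_iff_ne_empty.mpr fun h => hne (TopologicalSpace.Opens.ext h))
  have hynot : y ∉ S.basicOpen ϖ' := by
    rw [Scheme.mem_basicOpen_top]
    intro hu
    exact (IsLocalRing.mem_maximalIdeal _).1
      ((hmax_y y rfl).ge (Ideal.mem_span_singleton_self _)) hu
  have : CompactSpace X := QuasiCompact.compactSpace_of_compactSpace f
  -- facts about the two fibres
  have hcompact : ∀ s : S, CompactSpace (f.fiber s) := fun s =>
    QuasiCompact.compactSpace_of_compactSpace (f.fiberToSpecResidueField s)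
  have hnoeth : ∀ s : S, IsLocallyNoetherian (f.fiber s) := fun s =>
    have : LocallyOfFiniteType (f.fiberToSpecResidueField s) :=
      MorphismProperty.pullback_snd _ _ inferInstance
    LocallyOfFiniteType.isLocallyNoetherian (f.fiberToSpecResidueField s)
  let G := fun s : S => (Scheme.Modules.pullback (f.fiberι s)).obj F
  have hG : ∀ s, Coh.IsCoh (G s) := fun s =>
    ⟨inferInstanceAs ((Scheme.Modules.pullback (f.fiberι s)).obj F).IsQuasicoherent,
      Groth.QCohMod.isFT_pullback _ F hF.2⟩
  have hsupp : ∀ s (v : f.fiber s), v ∈ CohB1.support (G s) ↔ f.fiberι s v ∈ CohB1.support F := by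
    intro s v
    rw [show CohB1.support (G s) = f.fiberι s ⁻¹' CohB1.support F from
      Groth.QCohMod.support_pullback _ F hF.2]
    rfl
  have hmem : ∀ s (v : f.fiber s), f (f.fiberι s v) = s := by
    intro s v
    have : f.fiberι s v ∈ f ⁻¹' {s} := by rw [← Scheme.Hom.range_fiberι]; exact ⟨v, rfl⟩
    exact this
  let M := fun s : S => {v : ↥(f.fiber s) // Nontrivial ((G s).presheaf.stalk v) ∧
    ∀ w : ↥(f.fiber s), Nontrivial ((G s).presheaf.stalk w) → v ∈ closure {w} → w = v}
  have hmaxSupp : ∀ s (v : M s), v.1 ∈ Groth.RefRank.Embedded.maxSupp (G s) := fun s v =>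
    ⟨not_subsingleton_iff_nontrivial.mpr v.2.1, fun w hw hwv =>
      v.2.2 w (not_subsingleton_iff_nontrivial.mp hw) (specializes_iff_mem_closure.mp hwv)⟩
  have hfin : ∀ s, Finite (M s) := by
    intro s
    haveI := hcompact s
    haveI := hnoeth s
    obtain ⟨T, hT⟩ := isCompact_univ.elim_finite_subcover
      (fun U : (f.fiber s).affineOpens => (U.1 : Set (f.fiber s))) (fun U => U.1.isOpen) (fun v _ => by
        obtain ⟨_, ⟨U, hU, rfl⟩, hxU, -⟩ :=
          (f.fiber s).isBasis_affineOpens.exists_subset_of_mem_open (Set.mem_univ v) isOpen_univ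
        exact Set.mem_iUnion.mpr ⟨⟨U, hU⟩, hxU⟩)
    have : (Groth.RefRank.Embedded.maxSupp (G s)).Finite :=
      ((T.finite_toSet.biUnion fun U _ => Groth.RefRank.Embedded.finite_maxSupp_inter (hG s) U.2)).subset
        fun v hv => by
          obtain ⟨U, hUT, hvU⟩ := Set.mem_iUnion₂.1 (hT (Set.mem_univ v))
          exact Set.mem_iUnion₂.2 ⟨U, hUT, hv, hvU⟩
    haveI := this.to_subtype
    exact Finite.of_injective (fun v : M s => (⟨v.1, hmaxSupp s v⟩ :
      ↥(Groth.RefRank.Embedded.maxSupp (G s)))) fun a b h => Subtype.ext (congrArg (fun z => z.1) h :)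
  let len := fun (s : S) (v : M s) => Module.length ((f.fiber s).presheaf.stalk v.1) ((G s).presheaf.stalk v.1)
  show ∑ᶠ v, len η v ≤ ∑ᶠ v, len y v
  haveI := hfin η
  haveI := hfin y
  letI := Fintype.ofFinite (M η)
  letI := Fintype.ofFinite (M y)
  rw [finsum_eq_sum_of_fintype, finsum_eq_sum_of_fintype]
  -- the affine picture
  let tU := fun U : X.Opens => (f.appLE ⊤ U le_top).hom ϖ'
  have htU : ∀ (U : X.Opens) (hU : IsAffineOpen U) (w : X) (hw : w ∈ U),
      tU U ∉ (hU.primeIdealOf ⟨w, hw⟩).asIdeal ↔ f w ∈ S.basicOpen ϖ' := by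
    intro U hU w hw
    rw [← Groth.QCohMod.mem_basicOpen_iff_notMem_primeIdealOf hU _ w hw, Scheme.basicOpen_appLE]
    exact ⟨fun h => h.2, fun h => ⟨hw, h⟩⟩
  have hgerm : ∀ (U : X.Opens) (w : X) (hw : w ∈ U),
      (X.presheaf.germ U w hw).hom (tU U) =
        (f.stalkMap w).hom ((S.presheaf.germ ⊤ (f w) trivial).hom ϖ') := by
    intro U w hw
    refine Eq.trans ?_ (Scheme.Hom.germ_stalkMap_apply f ⊤ w trivial ϖ').symm
    exact TopCat.Presheaf.germ_res_apply X.presheaf (homOfLE le_top) w hw _
  have hreg : ∀ (U : X.Opens), IsAffineOpen U → IsSMulRegular Γ(F, U) (tU U) := by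
    intro U hU
    have e : U ≤ f ⁻¹ᵁ ⊤ := le_top
    letI := Groth.Flatmor4.sectionModule f F (U := U) (V := ⊤) e
    haveI : Module.Flat Γ(S, ⊤) Γ(F, U) :=
      (Groth.Flatmor4.flat_sections_iff f F hU (isAffineOpen_top S) e).mpr fun x _ => hflat x
    intro a b h
    exact Module.Flat.isSMulRegular_of_isRegular (M := Γ(F, U)) (IsRegular.of_ne_zero hϖ') h
  -- every maximal point of the generic fibre goes to one of the special fibre
  have hspec : ∀ v : M η, ∃ z : M y, f.fiberι η v.1 ⤳ f.fiberι y z.1 := by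
    intro v
    haveI := hnoeth y
    let z' := f.fiberι η v.1
    obtain ⟨x, hx, hfx⟩ : y ∈ f '' closure {z'} := by
      refine (f.isClosedMap _ isClosed_closure).closure_subset ?_
      have h1 : η ∈ f '' closure {z'} := ⟨z', subset_closure rfl, hmem η v.1⟩
      exact closure_mono (Set.singleton_subset_iff.mpr h1)
        (((genericPoint_spec S).specializes trivial).mem_closure)
    obtain ⟨U, hU, hxU, -⟩ := exists_isAffineOpen_mem_and_subset (X := X) (U := ⊤) (x := x) trivial
    have hz'x : z' ⤳ x := specializes_iff_mem_closure.mpr hx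
    have hz'U : z' ∈ U := hz'x.mem_open U.isOpen hxU
    haveI : IsNoetherianRing Γ(X, U) := IsLocallyNoetherian.component_noetherian ⟨U, hU⟩
    haveI := Groth.QCohMod.finite_sections F hF.2 hU
    let p := hU.primeIdealOf ⟨z', hz'U⟩
    let P := hU.primeIdealOf ⟨x, hxU⟩
    have hpP : p.asIdeal ≤ P.asIdeal := by
      refine (PrimeSpectrum.le_iff_specializes p P).mpr ?_
      refine hU.fromSpec.isOpenEmbedding.isInducing.specializes_iff.mp ?_
      rw [hU.fromSpec_primeIdealOf, hU.fromSpec_primeIdealOf]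
      exact hz'x
    have htP : tU U ∈ P.asIdeal := by
      by_contra h
      exact hynot (hfx ▸ (htU U hU x hxU).mp h)
    obtain ⟨q, hq, hqP⟩ := Ideal.exists_minimalPrimes_le
      (sup_le hpP ((Ideal.span_singleton_le_iff_mem _).mpr htP) :
        p.asIdeal ⊔ Ideal.span {tU U} ≤ P.asIdeal)
    haveI := hq.1.1
    have hpsupp : z' ∈ CohB1.support F := (hsupp η v.1).mp (hmaxSupp η v).1
    have hpass : p.asIdeal ∈ associatedPrimes Γ(X, U) Γ(F, U) := by
      refine (Groth.SchemeMorphisms.mem_ass_iff hF.1 hU hz'U).mp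
        (((Groth.SchemeMorphisms.maximal_ass_iff_maximal_support hF.1 z').mpr ⟨hpsupp, ?_⟩).1)
      intro w hw hwz
      have hfw : f w = η := ((hmem η v.1 ▸ hwz.map f.continuous).antisymm
        ((genericPoint_spec S).specializes trivial)).eq
      obtain ⟨w, rfl⟩ : w ∈ Set.range (f.fiberι η) := by
        rw [Scheme.Hom.range_fiberι]; exact hfw
      exact congrArg (f.fiberι η) ((hmaxSupp η v).2 w ((hsupp η w).mpr hw)
        ((f.fiberι η).isEmbedding.isInducing.specializes_iff.mp hwz))
    have hqass := Groth.Agent.S5754.result Γ(X, U) Γ(F, U) (tU U) (hreg U hU) p.asIdeal hpass q hq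
    let Q : Spec Γ(X, U) := ⟨q, inferInstance⟩
    let z₀ := hU.fromSpec Q
    have hz₀U : z₀ ∈ U := Groth.SchemeMorphisms.fromSpec_mem hU Q
    have hQ : hU.primeIdealOf ⟨z₀, hz₀U⟩ = Q := Groth.SchemeMorphisms.primeIdealOf_fromSpec hU Q
    have hfz₀ : f z₀ = y := by
      have hsp : z₀ ⤳ x := by
        have := ((PrimeSpectrum.le_iff_specializes Q P).mp hqP).map hU.fromSpec.continuous
        rwa [hU.fromSpec_primeIdealOf] at this
      have h1 : f z₀ ∉ S.basicOpen ϖ' := fun h => (htU U hU z₀ hz₀U).mpr h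
        (by rw [hQ]; exact hq.1.2 (Ideal.mem_sup_right (Ideal.mem_span_singleton_self _)))
      -- the only point outside `D(ϖ)` is the closed one
      let s : PrimeSpectrum A := f z₀
      refine PrimeSpectrum.ext (?_ : s.asIdeal = IsLocalRing.maximalIdeal A)
      refine le_antisymm (IsLocalRing.le_maximalIdeal s.2.ne_top) ?_
      rw [(IsDiscreteValuationRing.irreducible_iff_uniformizer ϖ).1 hϖ,
        Ideal.span_singleton_le_iff_mem]
      by_contra h
      refine h1 ?_
      rw [show S.basicOpen ϖ' = PrimeSpectrum.basicOpen ϖ from basicOpen_eq_of_affine (R := CommRingCat.of A) ϖ]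
      exact h
    have hpz : z' ⤳ z₀ := by
      have := ((PrimeSpectrum.le_iff_specializes p Q).mp (le_sup_left.trans hq.1.2)).map
        hU.fromSpec.continuous
      rwa [hU.fromSpec_primeIdealOf] at this
    obtain ⟨z, hz⟩ : z₀ ∈ Set.range (f.fiberι y) := by
      rw [Scheme.Hom.range_fiberι]; exact hfz₀
    have key : ∀ (z : f.fiber y) (hzU : f.fiberι y z ∈ U),
        (hU.primeIdealOf ⟨_, hzU⟩).asIdeal ∈ associatedPrimes Γ(X, U) (QuotSMulTop (tU U) Γ(F, U)) →
        z ∈ AssSch.Ass (G y) := by
      intro z hzU hass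
      letI := TopCat.Presheaf.algebra_section_stalk X.presheaf (U := U) ⟨f.fiberι y z, hzU⟩
      haveI := hU.isLocalization_stalk ⟨f.fiberι y z, hzU⟩
      letI := Groth.QCohMod.stalkModule F (f.fiberι y z) hzU
      haveI : IsScalarTower Γ(X, U) (X.presheaf.stalk (f.fiberι y z))
          (F.presheaf.stalk (f.fiberι y z)) := IsScalarTower.of_compHom _ _ _
      haveI := Groth.QCohMod.isLocalizedModule_germ F hU (f.fiberι y z) hzU
      refine Groth.EGA43Mult.isAssPoint_fibre f F y z ?_
      have h2 := Groth.EGA43Mult.mem_ass_quotient (hU.primeIdealOf ⟨_, hzU⟩).asIdeal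
        (O := X.presheaf.stalk (f.fiberι y z)) (Groth.QCohMod.germₗ F (f.fiberι y z) hzU) (tU U) hass
      have hJ : Groth.EGA43Mult.fibIdeal f y z =
          Ideal.span {(X.presheaf.germ U _ hzU).hom (tU U)} := by
        rw [hgerm U _ hzU, Groth.EGA43Mult.fibIdeal, hmax_y _ (hmem y z), Ideal.map_span,
          Set.image_singleton]
      rw [hJ]
      exact h2
    have hzU : f.fiberι y z ∈ U := hz.symm ▸ hz₀U
    have hzass : z ∈ AssSch.Ass (G y) := key z hzU (by
      rw [show hU.primeIdealOf ⟨f.fiberι y z, hzU⟩ = Q from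
        (congrArg hU.primeIdealOf (Subtype.ext hz)).trans hQ]
      exact hqass)
    obtain ⟨w, hw, hwz⟩ := Groth.RefRank.Embedded.exists_maxSupp_specializes (hG y)
      (Groth.SchemeMorphisms.ass_subset_support hzass)
    have hwe : z = w := hemb z hzass w (Groth.RefRank.Embedded.maxSupp_subset_ass (hG y) hw) hwz
    rw [← hwe] at hw
    exact ⟨⟨z, not_subsingleton_iff_nontrivial.mp hw.1, fun v hv hvz =>
      hw.2 v (not_subsingleton_iff_nontrivial.mpr hv) (specializes_iff_mem_closure.mpr hvz)⟩,
      hz ▸ hpz⟩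
  choose φ hφ using hspec
  rw [← Finset.sum_fiberwise Finset.univ φ]
  refine Finset.sum_le_sum fun z _ => ?_
  obtain ⟨U, hU, hxU, -⟩ :=
    exists_isAffineOpen_mem_and_subset (X := X) (U := ⊤) (x := f.fiberι y z.1) trivial
  haveI : IsNoetherianRing Γ(X, U) := IsLocallyNoetherian.component_noetherian ⟨U, hU⟩
  haveI := Groth.QCohMod.finite_sections F hF.2 hU
  let P := hU.primeIdealOf ⟨f.fiberι y z.1, hxU⟩
  let T := Finset.univ.filter fun v => φ v = z
  have hvU : ∀ v : T, f.fiberι η v.1.1 ∈ U := fun v => by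
    have h : φ v.1 = z := (Finset.mem_filter.mp v.2).2
    exact (h ▸ hφ v.1).mem_open U.isOpen hxU
  let ψ : T → PrimeSpectrum Γ(X, U) := fun v => hU.primeIdealOf ⟨f.fiberι η v.1.1, hvU v⟩
  have hψfs : ∀ v : T, hU.fromSpec (ψ v) = f.fiberι η v.1.1 := fun v => hU.fromSpec_primeIdealOf _
  have hψ : Function.Injective ψ := fun a b h => by
    refine Subtype.ext (Subtype.ext ((f.fiberι η).isEmbedding.injective ?_))
    rw [← hψfs a, ← hψfs b, h]
  have hlenη : ∀ v : T, len η v.1 = lq (ψ v).asIdeal Γ(F, U) := by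
    intro v
    let w := f.fiberι η v.1.1
    letI := TopCat.Presheaf.algebra_section_stalk X.presheaf (U := U) ⟨w, hvU v⟩
    haveI := hU.isLocalization_stalk ⟨w, hvU v⟩
    letI := Groth.QCohMod.stalkModule F w (hvU v)
    haveI : IsScalarTower Γ(X, U) (X.presheaf.stalk w) (F.presheaf.stalk w) :=
      IsScalarTower.of_compHom _ _ _
    haveI := Groth.QCohMod.isLocalizedModule_germ F hU w (hvU v)
    rw [Groth.EGA43Mult.lq_eq_length (ψ v).asIdeal (O := X.presheaf.stalk w)
      (g := Groth.QCohMod.germₗ F w (hvU v))]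
    refine (Groth.EGA43Mult.length_fibre_stalk f F η v.1.1).trans ?_
    refine (Submodule.quotEquivOfEqBot _ ?_).length_eq
    rw [Groth.EGA43Mult.fibIdeal, hmax_η _ (hmem η v.1.1), Ideal.map_bot, Submodule.bot_smul]
  have hleny : len y z = lq P.asIdeal (QuotSMulTop (tU U) Γ(F, U)) := by
    let w := f.fiberι y z.1
    letI := TopCat.Presheaf.algebra_section_stalk X.presheaf (U := U) ⟨w, hxU⟩
    haveI := hU.isLocalization_stalk ⟨w, hxU⟩
    letI := Groth.QCohMod.stalkModule F w hxU
    haveI : IsScalarTower Γ(X, U) (X.presheaf.stalk w) (F.presheaf.stalk w) :=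
      IsScalarTower.of_compHom _ _ _
    haveI := Groth.QCohMod.isLocalizedModule_germ F hU w hxU
    rw [Groth.EGA43Mult.lq_quotSMulTop_eq P.asIdeal (O := X.presheaf.stalk w)
      (g := Groth.QCohMod.germₗ F w hxU)]
    refine (Groth.EGA43Mult.length_fibre_stalk f F y z.1).trans ?_
    refine (Submodule.quotEquivOfEq _ _ ?_).length_eq
    rw [Groth.EGA43Mult.fibIdeal, hmax_y _ (hmem y z.1), Ideal.map_span, Set.image_singleton,
      ← hgerm U w hxU]
    rfl
  have hstep := Groth.TopPrimeCount.step P.asIdeal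
    (show tU U ∈ P.asIdeal by
      by_contra h
      exact hynot (hmem y z.1 ▸ (htU U hU _ hxU).mp h))
    (Finset.univ.map ⟨ψ, hψ⟩) ?_ ?_ Γ(F, U) ?_
  · rw [Finset.sum_map, ← hleny] at hstep
    refine le_trans (le_of_eq ?_) hstep
    rw [← Finset.sum_coe_sort T]
    exact Finset.sum_congr rfl fun v _ => hlenη v
  · intro q hq
    obtain ⟨v, -, rfl⟩ := Finset.mem_map.mp hq
    refine (PrimeSpectrum.le_iff_specializes (ψ v) P).mpr ?_
    refine hU.fromSpec.isOpenEmbedding.isInducing.specializes_iff.mp ?_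
    rw [hψfs v, hU.fromSpec_primeIdealOf]
    have h := hφ v.1
    have h' : φ v.1 = z := (Finset.mem_filter.mp v.2).2
    rwa [h'] at h
  · intro q hq
    obtain ⟨v, -, rfl⟩ := Finset.mem_map.mp hq
    exact (htU U hU _ (hvU v)).mpr ((hmem η v.1.1).symm ▸ hηmem)
  · intro q hq r hr hrq
    obtain ⟨v, -, rfl⟩ := Finset.mem_map.mp hq
    let w := hU.fromSpec r
    have hwU : w ∈ U := Groth.SchemeMorphisms.fromSpec_mem hU r
    have hsp : w ⤳ f.fiberι η v.1.1 := by
      have := ((PrimeSpectrum.le_iff_specializes r (ψ v)).mp hrq).map hU.fromSpec.continuous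
      rwa [hψfs v] at this
    have hfw : f w = η := ((hmem η v.1.1 ▸ hsp.map f.continuous).antisymm
      ((genericPoint_spec S).specializes trivial)).eq
    obtain ⟨w', hw'⟩ : w ∈ Set.range (f.fiberι η) := by
      rw [Scheme.Hom.range_fiberι]; exact hfw
    have hws : w ∈ CohB1.support F := by
      rw [Groth.QCohMod.mem_support_iff F hU w hwU, Groth.SchemeMorphisms.primeIdealOf_fromSpec]
      exact hr
    have he : w' = v.1.1 := (hmaxSupp η v.1).2 w' ((hsupp η w').mpr (hw'.symm ▸ hws))
      ((f.fiberι η).isEmbedding.isInducing.specializes_iff.mp (hw'.symm ▸ hsp))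
    apply hU.fromSpec.isOpenEmbedding.injective
    show hU.fromSpec r = hU.fromSpec (ψ v)
    rw [hψfs v, ← he, hw']

end Groth.Agent.S4980
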