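import Groth.Statements.S4982
import Mathlib
import Groth.Agent.Ega43FP2.AssFibre
-- import your own Groth.Agent.* helpers here

set_option autoImplicit false
open CategoryTheory AlgebraicGeometry
universe u v w
open EGA43

namespace Groth.Agent.S4982


/-- Let f : X ⟶ Y be a morphism locally of finite presentation and F a finitely presented O_X-module
which is f-flat; for x in X write F_{f x} for the restriction of F to the fibre of f through x. Let
Φ be a finite set of natural numbers. Then the set of points x such that every associated point of
F_{f x} specializing to x has closure (in the fibre) of dimension belonging to Φ is open in X. In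
particular (Φ = {k}), the set of x such that every associated point of F_{f x} specializing to x has
closure of dimension k is open. -/
theorem result {X Y : Scheme.{u}} (f : X ⟶ Y) [LocallyOfFinitePresentation f]
    (F : X.Modules) (hF : CohB1.IsFP F) (hflat : FlatMod.IsFlatOver f F) (Φ : Finset ℕ) :
    IsOpen {x : X | ∀ z ∈ AssSch.Ass ((Scheme.Modules.pullback (f.fiberι (f.base x))).obj F), f.asFiber x ∈ closure {z} →
      ∃ n ∈ Φ, topologicalKrullDim ↥(closure ({z} : Set ↥(f.fiber (f.base x)))) = (n : WithBot ℕ∞)} := by
  have : F.IsQuasicoherent := inferInstance
  exact Groth.Ega43FP2.isOpen_assDims f F hF hflat (Φ : Set ℕ)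

end Groth.Agent.S4982
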