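import Groth.Statements.S4983
import Mathlib
import Groth.Agent.Ega43FP2.AssFibre
-- import your own Groth.Agent.* helpers here

set_option autoImplicit false
open CategoryTheory AlgebraicGeometry
universe u v w
open EGA43

namespace Groth.Agent.S4983


/-- Let f : X ⟶ Y be a morphism locally of finite presentation and F a finitely presented O_X-module
which is f-flat; for x in X write F_{f x} for the restriction of F to the fibre of f through x. Then
the set of points x which lie on no embedded associated cycle of F_{f x} — every associated point of
F_{f x} specializing to x is not a specialization of another associated point — is open in X. -/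
theorem result {X Y : Scheme.{u}} (f : X ⟶ Y) [LocallyOfFinitePresentation f]
    (F : X.Modules) (hF : CohB1.IsFP F) (hflat : FlatMod.IsFlatOver f F) :
    IsOpen {x : X | ∀ z ∈ AssSch.Ass ((Scheme.Modules.pullback (f.fiberι (f.base x))).obj F), f.asFiber x ∈ closure {z} →
      ∀ z' ∈ AssSch.Ass ((Scheme.Modules.pullback (f.fiberι (f.base x))).obj F), z ∈ closure {z'} → z' = z} := by
  have : F.IsQuasicoherent := inferInstance
  convert Groth.Ega43FP2.isOpen_hasSk f F hF hflat 1 using 1
  ext x
  exact Groth.Ega43FP2.noEmbedded_iff_hasSk_one f F hF _ (f.asFiber x)

end Groth.Agent.S4983
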