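import Groth.Statements.S4985
import Mathlib
import Groth.Agent.Ega43FP2.DimEqAlong
-- import your own Groth.Agent.* helpers here

set_option autoImplicit false
open CategoryTheory AlgebraicGeometry
universe u v w
open EGA43

namespace Groth.Agent.S4985


/-- Let Y be a locally Noetherian scheme, f : X ⟶ Y a morphism of finite type, x a point of X with y = f
x, X' an irreducible closed subset of X containing x, regarded as a reduced closed subscheme, and Y'
the closure of f(X') regarded as a reduced closed subscheme of Y, with generic point η'. Write A, B,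
A', B' for the local rings of Y at y, of X at x, of Y' at y and of X' at x, and B ⊗ κ(y), B' ⊗ κ(y)
for the local rings at x of the fibres over y of X and of X'. Then dim B' = dim A + dim(B ⊗ κ(y)) if
and only if all of the following hold: (i) dim A' = dim A; (ii) dim(B' ⊗ κ(y)) = dim(B ⊗ κ(y));
(iii) X' is equidimensional over Y' at x, i.e. the local dimension at x of the fibre of X' over y
equals dim(X' ∩ f⁻¹(η')); (iv) dim B' = dim A' + dim(B' ⊗ κ(y)) (the published (iv) carries the
correction term dim_x − dim of (iii), which vanishes under (iii)). -/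
theorem result {X Y : Scheme.{u}} [IsLocallyNoetherian Y] (f : X ⟶ Y)
    [LocallyOfFiniteType f] [QuasiCompact f] (x : X) (X' : TopologicalSpace.Closeds X) (hirr : IsIrreducible (X' : Set X))
    (hx : x ∈ X') (w : ↥(Scheme.IdealSheafData.vanishingIdeal X').subscheme)
    (hw : (Scheme.IdealSheafData.vanishingIdeal X').subschemeι.base w = x)
    (v : ↥(Scheme.IdealSheafData.vanishingIdeal
      (⟨closure (f.base '' (X' : Set X)), isClosed_closure⟩ : TopologicalSpace.Closeds Y)).subscheme)
    (hv : (Scheme.IdealSheafData.vanishingIdeal
      (⟨closure (f.base '' (X' : Set X)), isClosed_closure⟩ : TopologicalSpace.Closeds Y)).subschemeι.base v = f.base x)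
    (η' : Y) (hη' : closure ({η'} : Set Y) = closure (f.base '' (X' : Set X))) :
    letI ιX := (Scheme.IdealSheafData.vanishingIdeal X').subschemeι
    letI dA := ringKrullDim (Y.presheaf.stalk (f.base x))
    letI dB := ringKrullDim (X.presheaf.stalk x)
    letI dA' := ringKrullDim ((Scheme.IdealSheafData.vanishingIdeal
      (⟨closure (f.base '' (X' : Set X)), isClosed_closure⟩ : TopologicalSpace.Closeds Y)).subscheme.presheaf.stalk v)
    letI dB' := ringKrullDim ((Scheme.IdealSheafData.vanishingIdeal X').subscheme.presheaf.stalk w)
    letI dBk := ringKrullDim ((f.fiber (f.base x)).presheaf.stalk (f.asFiber x))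
    letI dB'k := ringKrullDim (((ιX ≫ f).fiber ((ιX ≫ f).base w)).presheaf.stalk ((ιX ≫ f).asFiber w))
    letI e' := topologicalKrullDim ↥((X' : Set X) ∩ f.base ⁻¹' {η'})
    (dB' = dA + dBk ↔
      (dA' = dA ∧ dB'k = dBk ∧ FlatMor.fibreDimAt (ιX ≫ f) w = e' ∧ dB' = dA' + dB'k)) := by
  dsimp only
  subst hw
  have hr : Set.range (Scheme.IdealSheafData.vanishingIdeal X').subschemeι.base = (X' : Set X) := by
    rw [Scheme.IdealSheafData.range_subschemeι]
    exact Scheme.IdealSheafData.coe_support_vanishingIdeal X'
  have : IrreducibleSpace ↥(Scheme.IdealSheafData.vanishingIdeal X').subscheme := by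
    have he := ((Scheme.IdealSheafData.vanishingIdeal X').subschemeι.isClosedEmbedding.isEmbedding.toHomeomorph.trans
      (Homeomorph.setCongr hr))
    have : IrreducibleSpace (X' : Set X) := Subtype.irreducibleSpace hirr
    exact he.symm.surjective.irreducibleSpace he.symm.continuous
  have h := Groth.Ega43FP2.dim_eq_iff_of_irreducible f (Scheme.IdealSheafData.vanishingIdeal X').subschemeι
    (Scheme.IdealSheafData.vanishingIdeal
      (⟨closure (f.base '' (X' : Set X)), isClosed_closure⟩ : TopologicalSpace.Closeds Y)).subschemeι
    (by rw [Scheme.IdealSheafData.range_subschemeι, Scheme.IdealSheafData.coe_support_vanishingIdeal, hr]; rfl)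
    w v hv η' (by rw [hr]; exact hη')
  rw [hr] at h
  exact h

end Groth.Agent.S4985
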