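import Groth.Statements.S4986
import Groth.Agent.S4985
import Groth.Agent.FibreDim.Composition
import Groth.Agent.FibreDim.DimFormulaCor
import Groth.Agent.Misc6.Equidim
import Mathlib

set_option autoImplicit false
open CategoryTheory AlgebraicGeometry
universe u v w
open EGA43

set_option backward.isDefEq.respectTransparency.types false

namespace Groth.Agent.S4986

/-- Let Y be locally Noetherian, f : X ⟶ Y of finite type, x ∈ X, y = f x, X' an irreducible closed
subset containing x with its reduced structure, Y' the closure of f(X') with its reduced structure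
and generic point η', and A, B, A', B' the local rings of Y at y, of X at x, of Y' at y and of X' at
x. Suppose dim B = dim A + dim(B ⊗ κ(y)). Then X' satisfies the four conditions (i) dim A' = dim A,
(ii) dim_x(X' ∩ X_y) = dim_x(X_y), (iii) X' equidimensional over Y' at x, (iv) dim B' = dim A' +
dim(B' ⊗ κ(y)), if and only if dim B' = dim B. -/
theorem result {X Y : Scheme.{u}} [IsLocallyNoetherian Y] (f : X ⟶ Y)
    [LocallyOfFiniteType f] [QuasiCompact f] (x : X) (X' : TopologicalSpace.Closeds X) (hirr : IsIrreducible (X' : Set X))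
    (hx : x ∈ X') (w : ↥(Scheme.IdealSheafData.vanishingIdeal X').subscheme)
    (hw : (Scheme.IdealSheafData.vanishingIdeal X').subschemeι.base w = x)
    (v : ↥(Scheme.IdealSheafData.vanishingIdeal
      (⟨closure (f.base '' (X' : Set X)), isClosed_closure⟩ : TopologicalSpace.Closeds Y)).subscheme)
    (hv : (Scheme.IdealSheafData.vanishingIdeal
      (⟨closure (f.base '' (X' : Set X)), isClosed_closure⟩ : TopologicalSpace.Closeds Y)).subschemeι.base v = f.base x)
    (η' : Y) (hη' : closure ({η'} : Set Y) = closure (f.base '' (X' : Set X))) :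
    letI ιX := (Scheme.IdealSheafData.vanishingIdeal X').subschemeι
    letI dA := ringKrullDim (Y.presheaf.stalk (f.base x))
    letI dB := ringKrullDim (X.presheaf.stalk x)
    letI dA' := ringKrullDim ((Scheme.IdealSheafData.vanishingIdeal
      (⟨closure (f.base '' (X' : Set X)), isClosed_closure⟩ : TopologicalSpace.Closeds Y)).subscheme.presheaf.stalk v)
    letI dB' := ringKrullDim ((Scheme.IdealSheafData.vanishingIdeal X').subscheme.presheaf.stalk w)
    letI dBk := ringKrullDim ((f.fiber (f.base x)).presheaf.stalk (f.asFiber x))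
    letI dB'k := ringKrullDim (((ιX ≫ f).fiber ((ιX ≫ f).base w)).presheaf.stalk ((ιX ≫ f).asFiber w))
    letI e' := topologicalKrullDim ↥((X' : Set X) ∩ f.base ⁻¹' {η'})
    dB = dA + dBk →
      ((dA' = dA ∧ FlatMor.localDim ↥((X' : Set X) ∩ f.base ⁻¹' {f.base x}) ⟨x, ⟨hx, rfl⟩⟩ = FlatMor.fibreDimAt f x ∧
        FlatMor.fibreDimAt (ιX ≫ f) w = e' ∧ dB' = dA' + dB'k) ↔ dB' = dB) := by
  dsimp only
  intro hB
  have h85 := Groth.Agent.S4985.result f x X' hirr hx w hw v hv η' hη'
  dsimp only at h85
  rw [hB]
  refine Iff.trans ?_ h85.symm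
  clear h85 hB
  subst hw
  set ιX := (Scheme.IdealSheafData.vanishingIdeal X').subschemeι with hι
  set h := ιX ≫ f with hh
  have hrι : Set.range ιX.base = (X' : Set X) := by
    rw [hι, Scheme.IdealSheafData.range_subschemeι]
    exact Scheme.IdealSheafData.coe_support_vanishingIdeal X'
  -- the fibre of `X'` is a subspace of the fibre of `X`
  have hloc : FlatMor.localDim ↥((X' : Set X) ∩ f.base ⁻¹' {f.base (ιX.base w)})
      ⟨ιX.base w, ⟨hx, rfl⟩⟩ = FlatMor.fibreDimAt h w := by
    have he : Topology.IsEmbedding (ιX.base ∘ (h.fiberι (h.base w)).base) :=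
      ιX.isClosedEmbedding.isEmbedding.comp (h.fiberι _).isEmbedding
    have hr : Set.range (ιX.base ∘ (h.fiberι (h.base w)).base) =
        Set.range (Subtype.val : ↥((X' : Set X) ∩ f.base ⁻¹' {f.base (ιX.base w)}) → X) := by
      rw [Set.range_comp, h.range_fiberι, Subtype.range_coe, ← hrι]
      ext z
      constructor
      · rintro ⟨u, hu, rfl⟩
        exact ⟨⟨u, rfl⟩, hu⟩
      · rintro ⟨⟨u, rfl⟩, hu⟩
        exact ⟨u, hu, rfl⟩
    exact (Groth.FibreDim.localDim_eq_of_range he Topology.IsEmbedding.subtypeVal hr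
      (a := h.asFiber w) (b := ⟨ιX.base w, ⟨hx, rfl⟩⟩) (congrArg ιX.base (h.fiberι_asFiber w))).symm
  rw [hloc, Groth.FibreDim.fibreDimAt_eq_height_add h w, Groth.FibreDim.fibreDimAt_eq_height_add f (ιX.base w)]
  obtain ⟨t, ht, hht⟩ := Groth.FibreDim.exists_relTrdeg_eq_height h w
  obtain ⟨t', ht', hht'⟩ := Groth.FibreDim.exists_relTrdeg_eq_height f (ιX.base w)
  have htt : t = t' := by
    rw [hh, Groth.Misc6.Equidim.relTrdeg_comp_preimmersion, ht'] at ht
    exact_mod_cast ht.symm
  rw [hht, hht', ← htt]
  refine and_congr_right fun _ => and_congr_left fun _ => ⟨fun he => ?_, fun he => by rw [he]⟩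
  revert he
  generalize ringKrullDim ((h.fiber (h.base w)).presheaf.stalk (h.asFiber w)) = a
  generalize ringKrullDim ((f.fiber (f.base (ιX.base w))).presheaf.stalk (f.asFiber (ιX.base w))) = b
  intro he
  cases a with
  | bot => cases b with
    | bot => rfl
    | coe b => rw [WithBot.add_bot, ← WithBot.coe_add] at he; exact absurd he WithBot.bot_ne_coe
  | coe a => cases b with
    | bot => rw [WithBot.add_bot, ← WithBot.coe_add] at he; exact absurd he WithBot.coe_ne_bot
    | coe b =>
      rw [← WithBot.coe_add, ← WithBot.coe_add, WithBot.coe_inj] at he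
      rw [(ENat.addLECancellable_natCast t).inj.1 he]

end Groth.Agent.S4986
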