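import Groth.Statements.S4988
import Groth.Agent.EtaleAlgebra.AgreeLocus
-- import your own Groth.Agent.* helpers here

set_option autoImplicit false
universe u
open CategoryTheory CategoryTheory.Limits AlgebraicGeometry TopologicalSpace
open Unram17

namespace Groth.Agent.S4988

/-- Let h : Y ⟶ S be formally unramified, locally of finite type and separated, let f, g : X ⟶ Y be
morphisms over S whose common composite X ⟶ S is both open and closed as a map of topological
spaces, and let s be a point of S. If f and g have the same restriction to the scheme-theoretic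
fibre of X over s, then there is an open and closed subset V of S containing s such that f and g
agree on the preimage of V; in particular f = g when S is connected. -/
theorem result {X Y S : Scheme.{u}} (h : Y ⟶ S)
    [FormallyUnramified h] [LocallyOfFiniteType h] [IsSeparated h]
    (f g : X ⟶ Y) (w : g ≫ h = f ≫ h)
    (ho : IsOpenMap (f ≫ h).base) (hc : IsClosedMap (f ≫ h).base) (s : ↥S)
    (hs : (f ≫ h).fiberι s ≫ f = (f ≫ h).fiberι s ≫ g) :
    ∃ V : S.Opens, IsClosed (V : Set ↥S) ∧ s ∈ V ∧
      ((f ≫ h) ⁻¹ᵁ V).ι ≫ f = ((f ≫ h) ⁻¹ᵁ V).ι ≫ g := by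
  obtain ⟨V, h1, h2, h3⟩ := Groth.EtaleAlgebra.exists_agree_nhd h f g w s hs hc
  exact ⟨V, h3 inferInstance ho, h1, h2⟩

end Groth.Agent.S4988
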