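import Groth.Statements.S4989
import Groth.Agent.Ega4Algebra2.NormalTensor
import Groth.Agent.Calg4.SmoothReduced
-- import your own Groth.Agent.* helpers here

set_option autoImplicit false
universe u
open CategoryTheory CategoryTheory.Limits AlgebraicGeometry TopologicalSpace
open Unram17

namespace Groth.Agent.S4989

open TensorProduct in
/-- local ring form -/
theorem local_iff (A B : Type u) [CommRing A] [CommRing B] [Algebra A B] [Algebra.Smooth A B]
    (p : Ideal A) (q : Ideal B) [p.IsPrime] [q.IsPrime] (hpq : p = q.comap (algebraMap A B)) :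
    (IsReduced (Localization.AtPrime q) ↔ IsReduced (Localization.AtPrime p)) ∧
    ((IsDomain (Localization.AtPrime q) ∧ IsIntegrallyClosed (Localization.AtPrime q)) ↔
      (IsDomain (Localization.AtPrime p) ∧ IsIntegrallyClosed (Localization.AtPrime p))) := by
  subst hpq
  letI := (Localization.localRingHom (q.comap (algebraMap A B)) q (algebraMap A B) rfl).toAlgebra
  haveI := Groth.Ega4Algebra1.faithfullyFlat_localization_atPrime A B q
  let R := Localization.AtPrime (q.comap (algebraMap A B))
  let B' := R ⊗[A] B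
  letI : Algebra B B' := Algebra.TensorProduct.rightAlgebra
  let M := Algebra.algebraMapSubmonoid B (q.comap (algebraMap A B)).primeCompl
  have hdisj : Disjoint (M : Set B) (q : Set B) := by
    rw [Set.disjoint_left]
    rintro _ ⟨s, hs, rfl⟩ hP
    exact hs hP
  haveI : IsLocalization M B' := inferInstance
  refine ⟨⟨fun h => isReduced_of_injective (algebraMap R (Localization.AtPrime q))
      (FaithfulSMul.algebraMap_injective R (Localization.AtPrime q)), fun h => ?_⟩,
    ⟨fun ⟨h1, h2⟩ => ⟨Groth.Ega4Algebra1.isDomain_of_faithfullyFlat _ (Localization.AtPrime q),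
      Groth.Ega4Algebra1.isIntegrallyClosed_of_faithfullyFlat _ (Localization.AtPrime q)⟩, fun ⟨h1, h2⟩ => ?_⟩⟩
  · haveI : IsReduced B' := Groth.Calg4.isReduced_of_smooth R B'
    refine ⟨fun z ⟨n, hn⟩ => ?_⟩
    obtain ⟨⟨x, s⟩, rfl⟩ := IsLocalization.mk'_surjective q.primeCompl z
    rw [← IsLocalization.mk'_pow, IsLocalization.mk'_eq_zero_iff] at hn
    obtain ⟨t, ht⟩ := hn
    have h0 : IsNilpotent (algebraMap B B' ((t : B) * x)) := ⟨n + 1, by
      rw [← map_pow, show ((t : B) * x) ^ (n + 1) = (t : B) ^ n * x * ((t : B) * x ^ n) by ring, ht,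
        mul_zero, map_zero]⟩
    obtain ⟨m, hm⟩ := (IsLocalization.map_eq_zero_iff M B' _).mp h0.eq_zero
    refine (IsLocalization.mk'_eq_zero_iff (M := q.primeCompl) (S := Localization.AtPrime q) x s).mpr
      ⟨⟨m, fun hm' => Set.disjoint_left.mp hdisj m.2 hm'⟩ * t, ?_⟩
    rw [Submonoid.coe_mul, mul_assoc]
    exact hm
  · exact Groth.Ega4b.normal_atPrime_of_isLocalization M B'
      (Groth.Ega4b.isNormalRing_of_smooth_domain R B') q hdisj

/-- Let f : X ⟶ Y be locally of finite presentation and smooth at a point x with image y. Then the local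
ring of X at x is reduced if and only if the local ring of Y at y is reduced, and it is an
integrally closed domain if and only if the local ring of Y at y is one. (The published statement
also covers geometrically unibranch local rings; this row states only the reduced and the integrally
closed cases.) -/
theorem result {X Y : Scheme.{u}} (f : X ⟶ Y)
    [LocallyOfFinitePresentation f] (x : ↥X) (hx : x ∈ f.smoothLocus) :
    (IsReduced ↑(X.presheaf.stalk x) ↔ IsReduced ↑(Y.presheaf.stalk (f.base x))) ∧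
    ((IsDomain ↑(X.presheaf.stalk x) ∧ IsIntegrallyClosed ↑(X.presheaf.stalk x)) ↔
      (IsDomain ↑(Y.presheaf.stalk (f.base x)) ∧ IsIntegrallyClosed ↑(Y.presheaf.stalk (f.base x)))) := by
  obtain ⟨U, hU, V, hV, hVU, hxV, H⟩ := exists_smooth_of_formallySmooth_stalk f x hx
  algebraize [(f.appLE U V hVU).hom]
  let p := (hU.primeIdealOf ⟨f.base x, hVU hxV⟩).asIdeal
  let q := (hV.primeIdealOf ⟨x, hxV⟩).asIdeal
  obtain ⟨h1, h2⟩ := local_iff Γ(Y, U) Γ(X, V) p q
    (congrArg PrimeSpectrum.asIdeal (IsAffineOpen.comap_primeIdealOf_appLE U hU V hV hVU hxV)).symm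
  letI : Algebra Γ(X, V) ↑(X.presheaf.stalk x) :=
    TopCat.Presheaf.algebra_section_stalk X.presheaf (⟨x, hxV⟩ : V)
  haveI := hV.isLocalization_stalk ⟨x, hxV⟩
  letI : Algebra Γ(Y, U) ↑(Y.presheaf.stalk (f.base x)) :=
    TopCat.Presheaf.algebra_section_stalk Y.presheaf (⟨f.base x, hVU hxV⟩ : U)
  haveI := hU.isLocalization_stalk ⟨f.base x, hVU hxV⟩
  let eX : ↑(X.presheaf.stalk x) ≃+* Localization.AtPrime q :=
    (IsLocalization.algEquiv q.primeCompl _ _).toRingEquiv
  let eY : ↑(Y.presheaf.stalk (f.base x)) ≃+* Localization.AtPrime p :=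
    (IsLocalization.algEquiv p.primeCompl _ _).toRingEquiv
  have red : ∀ {R S : Type u} [CommRing R] [CommRing S] (e : R ≃+* S), IsReduced R ↔ IsReduced S :=
    fun e => ⟨fun _ => isReduced_of_injective e.symm e.symm.injective,
      fun _ => isReduced_of_injective e e.injective⟩
  have nor : ∀ {R S : Type u} [CommRing R] [CommRing S] (e : R ≃+* S),
      (IsDomain R ∧ IsIntegrallyClosed R) ↔ (IsDomain S ∧ IsIntegrallyClosed S) :=
    fun e => ⟨fun ⟨a, b⟩ => ⟨e.toMulEquiv.isDomain_iff.mp a, @IsIntegrallyClosed.of_equiv _ _ _ _ e b⟩,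
      fun ⟨a, b⟩ => ⟨e.toMulEquiv.isDomain_iff.mpr a, @IsIntegrallyClosed.of_equiv _ _ _ _ e.symm b⟩⟩
  exact ⟨(red eX).trans (h1.trans (red eY).symm), (nor eX).trans (h2.trans (nor eY).symm)⟩

end Groth.Agent.S4989
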