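import Groth.Statements.S4990
import Groth.Agent.Calg4.RegularFlat


set_option autoImplicit false
universe u
open CategoryTheory CategoryTheory.Limits AlgebraicGeometry TopologicalSpace
open Unram17

namespace Groth.Agent.S4990

/-- Let Y be locally Noetherian and f : X ⟶ Y locally of finite type, smooth on an open neighbourhood of
a point x with image y. Then the Krull dimension of the local ring of X at x is the sum of the Krull
dimension of the local ring of Y at y and of the Krull dimension of the local ring of the fibre, the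
quotient of the local ring at x by the extension of the maximal ideal at y. -/
theorem result {X Y : Scheme.{u}} (f : X ⟶ Y)
    [IsLocallyNoetherian Y] [LocallyOfFiniteType f] (x : ↥X)
    (hx : ∃ U : X.Opens, x ∈ U ∧ Smooth (U.ι ≫ f)) :
    ringKrullDim ↑(X.presheaf.stalk x) =
      ringKrullDim ↑(Y.presheaf.stalk (f.base x)) +
        ringKrullDim (↑(X.presheaf.stalk x) ⧸
          (IsLocalRing.maximalIdeal ↑(Y.presheaf.stalk (f.base x))).map (f.stalkMap x).hom) := by
  obtain ⟨U, hxU, hU⟩ := hx
  haveI : IsLocallyNoetherian X := LocallyOfFiniteType.isLocallyNoetherian f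
  have hflat : (f.stalkMap x).hom.Flat := by
    haveI : Flat (U.ι ≫ f) := inferInstance
    let y : U.toScheme := ⟨x, hxU⟩
    have h := Flat.stalkMap (U.ι ≫ f) y
    rw [Scheme.Hom.stalkMap_comp] at h
    haveI i : IsIso (U.ι.stalkMap y) := by rw [← U.stalkIso_inv y]; infer_instance
    exact (RingHom.Flat.respectsIso.cancel_right_isIso (f.stalkMap (U.ι y)) (U.ι.stalkMap y)).mp h
  algebraize [(f.stalkMap x).hom]
  haveI : IsLocalHom (algebraMap (Y.presheaf.stalk (f.base x)) (X.presheaf.stalk x)) :=
    inferInstanceAs (IsLocalHom (f.stalkMap x).hom)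
  haveI : Nontrivial (↑(X.presheaf.stalk x) ⧸ (IsLocalRing.maximalIdeal ↑(Y.presheaf.stalk (f.base x))).map
      (algebraMap (Y.presheaf.stalk (f.base x)) (X.presheaf.stalk x))) :=
    Ideal.Quotient.nontrivial_iff.2 (ne_top_of_le_ne_top (IsLocalRing.maximalIdeal.isMaximal _).ne_top
      (IsLocalRing.map_maximalIdeal_le _))
  haveI : IsLocalRing (↑(X.presheaf.stalk x) ⧸ (IsLocalRing.maximalIdeal ↑(Y.presheaf.stalk (f.base x))).map
      (algebraMap (Y.presheaf.stalk (f.base x)) (X.presheaf.stalk x))) :=
    IsLocalRing.of_surjective' _ Ideal.Quotient.mk_surjective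
  exact Groth.Calg4.ringKrullDim_eq_add_of_flat _ _

end Groth.Agent.S4990
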