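import Groth.Statements.S4991
import Groth.Agent.Agf.RegularPoints

set_option autoImplicit false
universe u
open CategoryTheory CategoryTheory.Limits AlgebraicGeometry TopologicalSpace
open Unram17

namespace Groth.Agent.S4991

/-- Let Y be locally Noetherian and f : X ⟶ Y locally of finite type, smooth on an open neighbourhood of
a point x with image y. Then the local ring of X at x is regular if and only if the local ring of Y
at y is regular. -/
theorem result {X Y : Scheme.{u}} (f : X ⟶ Y)
    [IsLocallyNoetherian Y] [LocallyOfFiniteType f] (x : ↥X)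
    (hx : ∃ U : X.Opens, x ∈ U ∧ Smooth (U.ι ≫ f)) :
    IsRegularLocalRing ↑(X.presheaf.stalk x) ↔ IsRegularLocalRing ↑(Y.presheaf.stalk (f.base x)) := by
  obtain ⟨U, hxU, hs⟩ := hx
  have hb : Function.Bijective (U.ι.stalkMap ⟨x, hxU⟩).hom := ConcreteCategory.bijective_of_isIso _
  let e : X.presheaf.stalk x ≃+* (U : Scheme.{u}).presheaf.stalk ⟨x, hxU⟩ := RingEquiv.ofBijective _ hb
  constructor
  · intro h
    have := IsRegularLocalRing.of_ringEquiv e
    exact Groth.Agf.RegularPoints.isRegularLocalRing_stalk_of_smooth' (U.ι ≫ f) ⟨x, hxU⟩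
  · intro h
    have : IsRegularLocalRing (Y.presheaf.stalk ((U.ι ≫ f) ⟨x, hxU⟩)) := h
    have := Groth.Agf.RegularPoints.isRegularLocalRing_stalk_of_smooth (U.ι ≫ f) ⟨x, hxU⟩
    exact IsRegularLocalRing.of_ringEquiv e.symm

end Groth.Agent.S4991
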