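import Groth.Statements.S4992
import Groth.Agent.FibreDim.Composition

set_option autoImplicit false
universe u
open CategoryTheory CategoryTheory.Limits AlgebraicGeometry TopologicalSpace
open Unram17

namespace Groth.Agent.S4992

/-- Let f : X ⟶ Y and g : Y ⟶ Z be smooth. For every point x of X, the local dimension at x of the fibre
of f ≫ g through x equals the local dimension at x of the fibre of f through x plus the local
dimension at f(x) of the fibre of g through f(x). -/
theorem result {X Y Z : Scheme.{u}} (f : X ⟶ Y) (g : Y ⟶ Z) [Smooth f] [Smooth g]
    (x : ↥X) :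
    FlatMor.fibreDimAt (f ≫ g) x = FlatMor.fibreDimAt f x + FlatMor.fibreDimAt g (f.base x) := by
  exact (Groth.FibreDim.fibreDimAt_comp f g x).2
    (Groth.FibreDim.generalizing_of_flat_stalkMap f x (Flat.stalkMap f x))

end Groth.Agent.S4992
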