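import Groth.Statements.S4994
import Groth.Agent.Syntomic.SectionScheme

set_option autoImplicit false
universe u
open CategoryTheory CategoryTheory.Limits AlgebraicGeometry TopologicalSpace
open Unram17

namespace Groth.Agent.S4994

/-- Let f : X ⟶ Y be locally of finite presentation. The diagonal X ⟶ X ×_Y X is a quasi-regular
immersion (that is, f is differentially smooth) if and only if the second projection X ×_Y X ⟶ X is
smooth at every point of the image of the diagonal. -/
theorem result {X Y : Scheme.{u}} (f : X ⟶ Y)
    [LocallyOfFinitePresentation f] :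
    RegImm.IsRegularImmersion RegImm.Kind.quasi (pullback.diagonal f) ↔
      ∀ x : ↥X, (pullback.diagonal f).base x ∈ (pullback.snd f f).smoothLocus := by
  haveI : LocallyOfFinitePresentation (pullback.snd f f) :=
    MorphismProperty.pullback_snd (P := @LocallyOfFinitePresentation) _ _ inferInstance
  have hu : pullback.diagonal f ≫ pullback.snd f f = 𝟙 X := pullback.diagonal_snd f
  refine ⟨fun h x => ?_, fun h => ?_⟩
  · have h' : RegImm.IsRegularImmersionAt RegImm.Kind.quasi (𝟙 X ≫ pullback.diagonal f) x := by
      rw [Category.id_comp]
      exact h.2 x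
    exact Groth.Syntomic.SectionScheme.mem_smoothLocus_of_quasi (pullback.snd f f) _ hu (𝟙 X) x x rfl h'
  · rw [← Category.id_comp (pullback.diagonal f)]
    exact Groth.Syntomic.SectionScheme.isRegularImmersion_quasi_of_le (pullback.snd f f) _ hu (𝟙 X) h

end Groth.Agent.S4994
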