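import Groth.Statements.S4998
import Groth.Agent.EtaleAlgebra.UnramFieldSep
-- import your own Groth.Agent.* helpers here

set_option autoImplicit false
universe u
open Unram17

namespace Groth.Agent.S4998

/-- Let A be an algebra of finite type over a field k. Then A is formally unramified over k if and only
if A is finite over k and every element of A has separable minimal polynomial over k (equivalently,
A is a finite product of finite separable extensions of k). -/
theorem result (k A : Type u) [Field k] [CommRing A]
    [Algebra k A] [Algebra.FiniteType k A] :
    Algebra.FormallyUnramified k A ↔ Module.Finite k A ∧ Algebra.IsSeparable k A := by
  exact Groth.EtaleAlgebra.formallyUnramified_iff_finite_and_isSeparable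

end Groth.Agent.S4998
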