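import Groth.Statements.S4999
import Groth.Agent.Calg4.SmoothFreeKaehler
import Groth.Agent.Calg4.RegularHomSmooth

set_option autoImplicit false
universe u
open Unram17

namespace Groth.Agent.S4999

open TensorProduct

/-- Let A be an algebra of finite type over a field k. Then A is smooth over k if and only if the module
of differentials of A over k is projective (locally free) and, at every minimal prime p of A, the
local ring A_p is geometrically reduced over k, which for this Artinian local ring says that A_p is
a field and a separable (not necessarily algebraic) extension of k. -/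
theorem result (k A : Type u) [Field k] [CommRing A]
    [Algebra k A] [Algebra.FiniteType k A] :
    Algebra.Smooth k A ↔
      Module.Projective A (KaehlerDifferential k A) ∧
        ∀ (p : Ideal A) [p.IsPrime], p ∈ minimalPrimes A →
          Algebra.IsGeometricallyReduced k (Localization.AtPrime p) := by
  refine ⟨fun h => ⟨inferInstance, fun p _ hp => ?_⟩, fun ⟨hproj, hgr⟩ => ?_⟩
  · have : IsNoetherianRing A := Algebra.FiniteType.isNoetherianRing k A
    have : Algebra.FormallySmooth A (Localization.AtPrime p) :=
      Algebra.FormallySmooth.of_isLocalization p.primeCompl
    have : Algebra.FormallySmooth k (Localization.AtPrime p) := Algebra.FormallySmooth.comp k A _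
    have : IsRegularLocalRing (Localization.AtPrime p) :=
      Groth.Ega41Adic.isRegularLocalRing_of_isAdicFormallySmooth
        (Groth.Calg4.isAdicFormallySmooth_of_formallySmooth_kaehler (A := k) _)
    have : IsDomain (Localization.AtPrime p) := Groth.Agent.S0558.result _
    let e := Groth.Calg4.residueEquivOfReduced (k := k) p hp
    have : Algebra.FormallySmooth k p.ResidueField := Algebra.FormallySmooth.of_equiv e
    have := (Groth.Ega41Sep.formallySmooth_iff_isGeometricallyReduced k p.ResidueField).mp inferInstance
    exact Algebra.IsGeometricallyReduced.of_injective e.toAlgHom e.injective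
  · have : IsNoetherianRing A := Algebra.FiniteType.isNoetherianRing k A
    have : Algebra.FinitePresentation k A := Algebra.FinitePresentation.of_finiteType.mp inferInstance
    refine ⟨Algebra.smoothLocus_eq_univ_iff.mp (Set.eq_univ_of_forall fun q => ?_), inferInstance⟩
    obtain ⟨p, hp, hpq⟩ := Ideal.exists_minimalPrimes_le (J := q.asIdeal) (I := (⊥ : Ideal A)) bot_le
    have : p.IsPrime := hp.1.1
    let B := Localization.AtPrime q.asIdeal
    have : Algebra.FormallyEtale A B := Algebra.FormallyEtale.of_isLocalization q.asIdeal.primeCompl
    let e := KaehlerDifferential.tensorKaehlerEquivOfFormallyEtale k A B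
    have : Module.Free B (B ⊗[A] Ω[A⁄k]) := Module.free_of_flat_of_isLocalRing
    have : Module.Free B Ω[B⁄k] := Module.Free.of_equiv e
    have := hgr p hp
    have := Groth.Calg4.formallySmooth_of_isGeometricallyReduced (k := k) p hp
    exact Groth.Calg4.isSmoothAt_of_free_of_minimal q.asIdeal p hpq hp

end Groth.Agent.S4999
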