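import Groth.Statements.S5000
import Groth.Agent.Calg4.SmoothFreeKaehler

set_option autoImplicit false
universe u
open Unram17

namespace Groth.Agent.S5000

open TensorProduct

open KaehlerDifferential IsLocalRing TensorProduct

/-- In characteristic zero free differentials force the local rings at minimal primes to be reduced. -/
theorem isReduced_of_free {k A : Type u} [Field k] [CharZero k] [CommRing A] [Algebra k A]
    [Algebra.FiniteType k A] (q p : Ideal A) [q.IsPrime] [p.IsPrime] (hpq : p ≤ q) (hmin : p ∈ minimalPrimes A)
    [Module.Free (Localization.AtPrime q) Ω[Localization.AtPrime q⁄k]] :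
    IsReduced (Localization.AtPrime p) := by
  classical
  have : IsNoetherianRing A := Algebra.FiniteType.isNoetherianRing k A
  let B := Localization.AtPrime q
  let C := Localization.AtPrime p
  have hu : ∀ y : q.primeCompl, IsUnit (algebraMap A C y) := fun y =>
    IsLocalization.map_units C (⟨y, fun h => y.2 (hpq h)⟩ : p.primeCompl)
  let : Algebra B C := (IsLocalization.lift (M := q.primeCompl) (g := algebraMap A C) hu).toAlgebra
  have : IsScalarTower A B C := IsScalarTower.of_algebraMap_eq fun a => (IsLocalization.lift_eq hu a).symm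
  have : IsScalarTower k B C := IsScalarTower.of_algebraMap_eq fun c => by
    rw [IsScalarTower.algebraMap_apply k A B, ← IsScalarTower.algebraMap_apply A B C,
      ← IsScalarTower.algebraMap_apply k A C]
  have : IsLocalization (Algebra.algebraMapSubmonoid B p.primeCompl) C :=
    IsLocalization.isLocalization_of_submonoid_le B C q.primeCompl p.primeCompl (fun y hy h => hy (hpq h))
  have : Algebra.FormallyEtale B C :=
    Algebra.FormallyEtale.of_isLocalization (Algebra.algebraMapSubmonoid B p.primeCompl)
  have : Module.Free C Ω[C⁄k] :=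
    Module.Free.of_equiv (KaehlerDifferential.tensorKaehlerEquivOfFormallyEtale k B C)
  have : Ring.KrullDimLE 0 C := by
    rw [Ring.krullDimLE_iff, IsLocalization.AtPrime.ringKrullDim_eq_height p C,
      Ideal.height_eq_zero_iff.mpr hmin]
    rfl
  by_contra hred
  have hm : maximalIdeal C ≠ ⊥ := fun h => hred (by
    let := (IsLocalRing.isField_iff_maximalIdeal_eq.mpr h).toField
    infer_instance)
  obtain ⟨x, hx, hx2⟩ : ∃ x ∈ maximalIdeal C, x ∉ maximalIdeal C ^ 2 := by
    by_contra hc
    push Not at hc
    refine hm (Submodule.eq_bot_of_le_smul_of_le_jacobson_bot _ _ (IsNoetherian.noetherian _) ?_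
      (IsLocalRing.jacobson_eq_maximalIdeal ⊥ bot_ne_top).ge)
    rw [smul_eq_mul, ← pow_two]
    exact hc
  have hker : RingHom.ker (algebraMap C (ResidueField C)) = maximalIdeal C := IsLocalRing.ker_residue
  have : Algebra.EssFiniteType k (ResidueField C) :=
    (Algebra.EssFiniteType.comp k A p.ResidueField : Algebra.EssFiniteType k p.ResidueField)
  have : Algebra.FormallySmooth k (ResidueField C) := Algebra.FormallySmooth.of_perfectField
  have hne : (1 : ResidueField C) ⊗ₜ[C] D k C x ≠ 0 := fun h => by
    have h' := Groth.Calg4.injective_kerCotangentToTensor_of_formallySmooth k C (ResidueField C)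
      IsLocalRing.residue_surjective (a₁ := Ideal.toCotangent _ ⟨x, hker.ge hx⟩) (a₂ := 0)
      (by rw [map_zero, kerCotangentToTensor_toCotangent]; exact h)
    rw [Ideal.toCotangent_eq_zero] at h'
    exact hx2 (Ideal.pow_right_mono hker.le 2 h')
  let b := Module.Free.chooseBasis C Ω[C⁄k]
  obtain ⟨i, hi⟩ : ∃ i, IsUnit (b.repr (D k C x) i) := by
    by_contra hc
    push Not at hc
    apply hne
    rw [← b.linearCombination_repr (D k C x), Finsupp.linearCombination_apply, Finsupp.sum,
      TensorProduct.tmul_sum]
    refine Finset.sum_eq_zero fun i _ => ?_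
    rw [TensorProduct.tmul_smul, TensorProduct.smul_tmul', ← Algebra.algebraMap_eq_smul_one,
      RingHom.mem_ker.mp (hker.ge (hc i)), TensorProduct.zero_tmul]
  let δ : Derivation k C C := (b.coord i).compDer (D k C)
  have hnil : IsNilpotent x := Ring.KrullDimLE.isNilpotent_iff_mem_maximalIdeal.mpr hx
  have hx0 : x ≠ 0 := fun h => hx2 (h ▸ zero_mem _)
  obtain ⟨N, hN, hN1⟩ : ∃ N, x ^ N ≠ 0 ∧ x ^ (N + 1) = 0 := by
    have hex : ∃ N, x ^ N = 0 := hnil
    have hpos : Nat.find hex ≠ 0 := fun h0 => by
      have := Nat.find_spec hex
      rw [h0, pow_zero] at this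
      exact one_ne_zero this
    refine ⟨Nat.find hex - 1, Nat.find_min hex (by omega), ?_⟩
    rw [Nat.sub_add_cancel (Nat.pos_of_ne_zero hpos)]
    exact Nat.find_spec hex
  have h0 : δ (x ^ (N + 1)) = 0 := by rw [hN1, map_zero]
  rw [δ.leibniz_pow, Nat.add_sub_cancel, nsmul_eq_mul, smul_eq_mul] at h0
  have hunit : IsUnit ((N + 1 : ℕ) : C) := by
    rw [← map_natCast (algebraMap k C) (N + 1)]
    exact RingHom.isUnit_map _ (isUnit_iff_ne_zero.mpr (Nat.cast_ne_zero.mpr (Nat.succ_ne_zero N)))
  have hδ : δ x = b.repr (D k C x) i := rfl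
  rw [hunit.mul_right_eq_zero, hδ, hi.mul_left_eq_zero] at h0
  exact hN h0

/-- Let k be a field of characteristic zero, A a k-algebra of finite type and q a prime of A. Then A is
smooth over k at q if and only if the module of differentials of the local ring A_q over k is free. -/
theorem result (k A : Type u) [Field k] [CharZero k] [CommRing A]
    [Algebra k A] [Algebra.FiniteType k A] (q : Ideal A) [q.IsPrime] :
    Algebra.IsSmoothAt k q ↔
      Module.Free (Localization.AtPrime q) (KaehlerDifferential k (Localization.AtPrime q)) := by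
  have : IsNoetherianRing A := Algebra.FiniteType.isNoetherianRing k A
  let B := Localization.AtPrime q
  have : Algebra.FormallyEtale A B := Algebra.FormallyEtale.of_isLocalization q.primeCompl
  refine ⟨fun h => ?_, fun h => ?_⟩
  · have : Algebra.FormallySmooth k B := h
    have : Module.Finite B Ω[B⁄k] :=
      Module.Finite.equiv (KaehlerDifferential.tensorKaehlerEquivOfFormallyEtale k A B)
    exact Module.free_of_flat_of_isLocalRing
  · have : Module.Free B Ω[B⁄k] := h
    obtain ⟨p, hp, hpq⟩ := Ideal.exists_minimalPrimes_le (J := q) (I := (⊥ : Ideal A)) bot_le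
    have : p.IsPrime := hp.1.1
    let C := Localization.AtPrime p
    have : IsReduced C := isReduced_of_free (k := k) q p hpq hp
    let eF := Groth.Calg4.residueEquivOfReduced (k := k) p hp
    have : Algebra.EssFiniteType k p.ResidueField := Algebra.EssFiniteType.comp k A _
    have : Algebra.FormallySmooth k p.ResidueField := Algebra.FormallySmooth.of_perfectField
    have : Algebra.FormallySmooth k C := Algebra.FormallySmooth.of_equiv eF.symm
    exact Groth.Calg4.isSmoothAt_of_free_of_minimal q p hpq hp

end Groth.Agent.S5000
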