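import Groth.Statements.S5001
import Groth.Agent.EtaleAlgebra.EtaleCriterion
-- import your own Groth.Agent.* helpers here

set_option autoImplicit false
universe u
open Unram17

namespace Groth.Agent.S5001

/-- Let k be a field, A a k-algebra of finite type equipped with a k-algebra map from the polynomial
ring in n variables, with images g_i of the variables, and p a prime of A such that Spec A has local
dimension n at p, the residue field of p is a finite separable extension of k, and every g_i lies in
p. Then A is etale over the polynomial ring at p if and only if the images of the g_i generate the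
maximal ideal of the local ring A_p. -/
theorem result (k A : Type u) [Field k] [CommRing A] [Algebra k A]
    [Algebra.FiniteType k A] (n : ℕ) [Algebra (MvPolynomial (Fin n) k) A]
    [IsScalarTower k (MvPolynomial (Fin n) k) A] (p : Ideal A) [p.IsPrime]
    (hn : FlatMor.localDim (PrimeSpectrum A) ⟨p, inferInstance⟩ = (n : WithBot ℕ∞))
    [Module.Finite k p.ResidueField] [Algebra.IsSeparable k p.ResidueField]
    (hg : ∀ i : Fin n, algebraMap (MvPolynomial (Fin n) k) A (MvPolynomial.X i) ∈ p) :
    Algebra.IsEtaleAt (MvPolynomial (Fin n) k) p ↔
      Ideal.span (Set.range fun i : Fin n =>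
        algebraMap A (Localization.AtPrime p) (algebraMap (MvPolynomial (Fin n) k) A (MvPolynomial.X i))) =
        IsLocalRing.maximalIdeal (Localization.AtPrime p) := by
  let P := MvPolynomial (Fin n) k
  haveI : Algebra.FiniteType P A := Algebra.FiniteType.of_restrictScalars_finiteType k P A
  let p0 : Ideal P := p.under P
  have hle : Ideal.span (Set.range (MvPolynomial.X : Fin n → P)) ≤ p0 := by
    rw [Ideal.span_le]; rintro _ ⟨i, rfl⟩; exact hg i
  have hp0 : p0 = Ideal.span (Set.range (MvPolynomial.X : Fin n → P)) := by
    refine le_antisymm (fun f hf => ?_) hle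
    have h1 : f - MvPolynomial.C (MvPolynomial.constantCoeff f) ∈
        Ideal.span (Set.range (MvPolynomial.X : Fin n → P)) := by
      rw [← Set.image_univ, MvPolynomial.mem_ideal_span_X_image]
      intro m hm
      obtain ⟨i, hi⟩ : ∃ i, m i ≠ 0 := by
        by_contra h
        push Not at h
        obtain rfl : m = 0 := Finsupp.ext h
        simp [MvPolynomial.mem_support_iff, ← MvPolynomial.constantCoeff_eq] at hm
      exact ⟨i, trivial, hi⟩
    by_cases hc : MvPolynomial.constantCoeff f = 0
    · simpa [hc] using h1
    · exfalso
      refine (Ideal.IsPrime.ne_top' : p0 ≠ ⊤) (Ideal.eq_top_of_isUnit_mem _ ?_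
        ((IsUnit.mk0 _ hc).map (MvPolynomial.C (σ := Fin n))))
      simpa using p0.sub_mem hf (hle h1)
  letI := Localization.AtPrime.algebraOfLiesOver p0 p
  have hmap : p0.map (algebraMap P (Localization.AtPrime p)) =
      Ideal.span (Set.range fun i : Fin n =>
        algebraMap A (Localization.AtPrime p) (algebraMap P A (MvPolynomial.X i))) := by
    rw [hp0, Ideal.map_span, ← Set.range_comp]
    congr 2
  have hiff := Algebra.isUnramifiedAt_iff_map_eq P p0 p
  rw [hmap] at hiff
  refine ⟨fun h => ?_, fun h => ?_⟩
  · haveI : Algebra.FormallyEtale P (Localization.AtPrime p) := h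
    exact (hiff.mp (show Algebra.FormallyUnramified P (Localization.AtPrime p) from inferInstance)).2
  · haveI : Algebra.IsUnramifiedAt P p := hiff.mpr
      ⟨Algebra.isSeparable_tower_top_of_isSeparable k p0.ResidueField p.ResidueField, h⟩
    exact Groth.Agent.EtaleAlgebra.EtaleCriterion.isEtaleAt_of_isUnramifiedAt p fun f hf =>
      Groth.Agent.EtaleAlgebra.EtaleCriterion.natCast_le_ringKrullDim_of_localDim ⟨p, inferInstance⟩ hn f hf

end Groth.Agent.S5001
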