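import Groth.Statements.S5004
import Groth.Agent.KoszulLCI.Kinds
-- import your own Groth.Agent.* helpers here

set_option autoImplicit false
universe u
open CategoryTheory CategoryTheory.Limits AlgebraicGeometry TopologicalSpace
open Nrm16

namespace Groth.Agent.S5004

/-- On a locally Noetherian scheme, every quasi-regular (quasi-coherent) ideal sheaf is a regular ideal
sheaf. -/
theorem result {X : Scheme.{u}} [IsLocallyNoetherian X] (I : X.IdealSheafData)
    (h : RegImm.IsRegularIdeal RegImm.Kind.quasi I) : RegImm.IsRegularIdeal RegImm.Kind.regular I := by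
  intro x hx
  obtain ⟨z, rfl⟩ : x ∈ Set.range I.subschemeι := by
    rw [Scheme.IdealSheafData.range_subschemeι]; exact hx
  obtain ⟨U, hxU, rs, hrs, hI⟩ := h (I.subschemeι z) hx
  have hker : ∀ V : X.affineOpens, RingHom.ker (I.subschemeι.app V.1).hom = I.ideal V := fun V => by
    rw [← Scheme.Hom.ker_apply, Scheme.IdealSheafData.ker_subschemeι]
  obtain ⟨V, hxV, -, ss, hss, hJ⟩ := Groth.KoszulLCI.isRegularImmersionAt_regular I.subschemeι .quasi z
    ⟨U, hxU, Groth.KoszulReg.isClosedImmersion_restrict (U := ⊤) _ le_top, rs, hrs, (hker U).trans hI⟩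
  exact ⟨V, hxV, ss, hss, (hker V).symm.trans hJ⟩

end Groth.Agent.S5004
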