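import Groth.Statements.S5005
import Groth.Agent.OmegaSheaf.Universal

set_option autoImplicit false
universe u
open CategoryTheory CategoryTheory.Limits AlgebraicGeometry TopologicalSpace
open Nrm16

namespace Groth.Agent.S5005

/-- Let f : X ⟶ Y be a quasi-separated morphism of schemes. The differential d_{X/Y} from the structure
sheaf to the sheaf of differentials (the conormal sheaf of the diagonal) is a universal derivation:
composition with it is a bijection between O_X-linear maps out of the sheaf of differentials into
any O_X-module F and Y-derivations of O_X into F. (The published statement applies to every morphism
f; this row assumes f quasi-separated, the case in which the differential d_{X/Y} into the conormal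
sheaf of the diagonal is constructed here.) -/
theorem result {X Y : Scheme.{u}} (f : X ⟶ Y) [QuasiSeparated f] :
    OmegaSh.IsUniversal (OmegaSh.dOmega f) := by
  exact Groth.OmegaSheaf.isUniversal_dOmega f

end Groth.Agent.S5005
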