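import Groth.Statements.S5006
import Groth.Agent.SchemeMorphisms.AssAlg.Small
-- import your own Groth.Agent.* helpers here

set_option autoImplicit false
universe u
open Nrm16

namespace Groth.Agent.S5006

/-- Let A be a commutative ring, I a finitely generated ideal and p a prime ideal containing I. Then
some basic open neighbourhood of p in Spec A is contained in the closed set V(I) (so that V(I) ⟶
Spec A is a local homeomorphism onto an open set near p) if and only if there is an integer n > 0
with I^n A_p = I^(n+1) A_p in the local ring at p. Affine form. -/
theorem result (A : Type u) [CommRing A] (I : Ideal A) (hI : I.FG)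
    (p : Ideal A) [p.IsPrime] (hp : I ≤ p) :
    (∃ f : A, f ∉ p ∧ ∀ q : Ideal A, q.IsPrime → f ∉ q → I ≤ q) ↔
      ∃ n : ℕ, 0 < n ∧
        (I ^ n).map (algebraMap A (Localization.AtPrime p)) =
          (I ^ (n + 1)).map (algebraMap A (Localization.AtPrime p)) := by
  exact Groth.AssAlgAux.exists_nhd_le_iff hI p hp

end Groth.Agent.S5006
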