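import Groth.Statements.S5007
import Groth.Agent.GrpschAbsch.GrpEtaleRel
-- import your own Groth.Agent.* helpers here

set_option autoImplicit false
universe u
open CategoryTheory CategoryTheory.Limits AlgebraicGeometry TopologicalSpace
open Unram17

namespace Groth.Agent.S5007

/-- Let g : Y ⟶ S and h : X ⟶ S be locally of finite presentation and f : X ⟶ Y a morphism over S. Then
f is (formally) unramified if and only if for every point s of S the base change of f along the
fibre Y_s ⟶ Y, which is the fibre map X_s ⟶ Y_s, is (formally) unramified. -/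
theorem result {X Y S : Scheme.{u}} (g : Y ⟶ S) (h : X ⟶ S)
    [LocallyOfFinitePresentation g] [LocallyOfFinitePresentation h] (f : X ⟶ Y) (w : f ≫ g = h) :
    FormallyUnramified f ↔ ∀ s : ↥S, FormallyUnramified (pullback.snd f (g.fiberι s)) := by
  refine ⟨fun hf s => MorphismProperty.pullback_snd _ _ hf, fun hf => ?_⟩
  have : LocallyOfFiniteType (f ≫ g) := by rw [w]; infer_instance
  have : LocallyOfFiniteType f := locallyOfFiniteType_of_comp f g
  refine Groth.GrpschAbsch.formallyUnramified_of_unramified_fiber f fun y => ?_
  let l : Spec (Y.residueField y) ⟶ g.fiber (g.base y) :=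
    pullback.lift (Y.fromSpecResidueField y) (Spec.map (g.residueFieldMap y)) (by simp)
  have hl : l ≫ g.fiberι (g.base y) = Y.fromSpecResidueField y := pullback.lift_fst _ _ _
  let m : f.fiber y ⟶ pullback f (g.fiberι (g.base y)) :=
    pullback.lift (f.fiberι y) (f.fiberToSpecResidueField y ≫ l) (by rw [Category.assoc, hl, f.fiber_fac])
  have h1 : IsPullback m (f.fiberToSpecResidueField y) (pullback.snd f (g.fiberι (g.base y))) l := by
    refine IsPullback.of_right (h₁₂ := pullback.fst f (g.fiberι (g.base y))) ?_
      (pullback.lift_snd _ _ _) (IsPullback.of_hasPullback f (g.fiberι (g.base y)))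
    rw [show m ≫ pullback.fst f (g.fiberι (g.base y)) = f.fiberι y from pullback.lift_fst _ _ _, hl]
    exact IsPullback.of_hasPullback f (Y.fromSpecResidueField y)
  exact MorphismProperty.of_isPullback h1 (hf (g.base y))

end Groth.Agent.S5007
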