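import Groth.Statements.S5008
import Groth.Agent.Syntomic.SmoothLiftLocal

set_option autoImplicit false
universe u
open CategoryTheory CategoryTheory.Limits AlgebraicGeometry TopologicalSpace
open Unram17

namespace Groth.Agent.S5008

/-- Let f : X ⟶ Y be locally of finite presentation and x a point of X. Then f is smooth at x if and
only if for every surjection of local rings B' → B with square-zero kernel, every morphism Spec B ⟶
X sending the closed point to x and every morphism Spec B' ⟶ Y making the square commute, there is a
lift Spec B' ⟶ X compatible with both. (No Noetherian hypothesis on Y.) -/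
theorem result {X Y : Scheme.{u}} (f : X ⟶ Y)
    [LocallyOfFinitePresentation f] (x : ↥X) :
    x ∈ f.smoothLocus ↔ ∀ (B B' : Type u) [CommRing B] [CommRing B'] [IsLocalRing B] [IsLocalRing B'] (φ : B' →+* B),
      Function.Surjective φ → RingHom.ker φ ^ 2 = ⊥ →
      ∀ (α : Spec (CommRingCat.of B) ⟶ X) (β : Spec (CommRingCat.of B') ⟶ Y),
        α.base (IsLocalRing.closedPoint B) = x → Spec.map (CommRingCat.ofHom φ) ≫ β = α ≫ f →
        ∃ γ : Spec (CommRingCat.of B') ⟶ X, Spec.map (CommRingCat.ofHom φ) ≫ γ = α ∧ γ ≫ f = β := by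
  refine ⟨fun hx B B' _ _ _ _ φ hφ hsq α β hα w =>
    Groth.Syntomic.exists_lift_of_mem_smoothLocus f x hx B B' φ hφ hsq α β hα w,
    Groth.Syntomic.mem_smoothLocus_of_lift f x⟩

end Groth.Agent.S5008
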