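import Groth.Statements.S5009
import Groth.Agent.Unram17SmallLifts.Basic
import Groth.Agent.FlatmorThree.SmoothLift

set_option autoImplicit false
universe u
open CategoryTheory CategoryTheory.Limits AlgebraicGeometry TopologicalSpace
open Unram17

namespace Groth.Agent.S5009

/-- Let f : X ⟶ Y be locally of finite presentation and x a point of X. Then f is (formally) unramified
on an open neighbourhood of x if and only if for every surjection of local rings B' → B with
square-zero kernel, every morphism Spec B ⟶ X sending the closed point to x and every morphism Spec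
B' ⟶ Y making the square commute, any two lifts Spec B' ⟶ X compatible with both are equal. -/
theorem result {X Y : Scheme.{u}} (f : X ⟶ Y)
    [LocallyOfFinitePresentation f] (x : ↥X) :
    (∃ U : X.Opens, x ∈ U ∧ FormallyUnramified (U.ι ≫ f)) ↔
      ∀ (B B' : Type u) [CommRing B] [CommRing B'] [IsLocalRing B] [IsLocalRing B'] (φ : B' →+* B),
      Function.Surjective φ → RingHom.ker φ ^ 2 = ⊥ →
      ∀ (α : Spec (CommRingCat.of B) ⟶ X) (β : Spec (CommRingCat.of B') ⟶ Y),
        α.base (IsLocalRing.closedPoint B) = x → Spec.map (CommRingCat.ofHom φ) ≫ β = α ≫ f →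
        ∀ γ₁ γ₂ : Spec (CommRingCat.of B') ⟶ X,
          Spec.map (CommRingCat.ofHom φ) ≫ γ₁ = α → γ₁ ≫ f = β →
          Spec.map (CommRingCat.ofHom φ) ≫ γ₂ = α → γ₂ ≫ f = β → γ₁ = γ₂ := by
  constructor
  · rintro ⟨U, hxU, hU⟩ B B' _ _ _ _ φ hφ hsq α β hα hαβ γ₁ γ₂ h11 h12 h21 h22
    haveI : IsLocalHom φ := hφ.isLocalHom φ
    have hrange : ∀ γ : Spec (CommRingCat.of B') ⟶ X, Spec.map (CommRingCat.ofHom φ) ≫ γ = α →
        Set.range γ ⊆ Set.range U.ι := by
      intro γ hγ
      have hx' : γ (IsLocalRing.closedPoint B') ∈ U := by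
        have h := congr($hγ (IsLocalRing.closedPoint B))
        rw [Scheme.Hom.comp_apply] at h
        have e : Spec.map (CommRingCat.ofHom φ) (IsLocalRing.closedPoint B) =
            IsLocalRing.closedPoint B' := IsLocalRing.comap_closedPoint φ
        rw [e] at h
        rw [h]
        exact hα.symm ▸ hxU
      rw [Scheme.Opens.range_ι]
      rintro _ ⟨p, rfl⟩
      exact ((Scheme.preimage_eq_top_of_closedPoint_mem γ hx').ge (Set.mem_univ p) : p ∈ γ ⁻¹ᵁ U)
    obtain ⟨hcl, -, hker⟩ := Groth.FlatmorThree.SmoothLift.isFirstOrder_sp φ hφ hsq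
    have hnil : IsNilpotent (Spec.map (CommRingCat.ofHom φ)).ker := ⟨2, by rw [pow_two]; exact hker⟩
    haveI : IsClosedImmersion (Spec.map (CommRingCat.ofHom φ)) := hcl
    haveI : FormallyUnramified (U.ι ≫ f) := hU
    have h := FormallyUnramified.hom_ext (Spec.map (CommRingCat.ofHom φ)) hnil (U.ι ≫ f)
      (g₁ := IsOpenImmersion.lift U.ι γ₁ (hrange γ₁ h11))
      (g₂ := IsOpenImmersion.lift U.ι γ₂ (hrange γ₂ h21))
      (by rw [← cancel_mono U.ι]; simp [h11, h21])
      (by simp [h12, h22])
    have := congr_arg (· ≫ U.ι) h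
    simpa using this
  · intro h
    letI : Algebra (Y.presheaf.stalk (f x)) (X.presheaf.stalk x) := (f.stalkMap x).hom.toAlgebra
    have hC : Algebra.FormallyUnramified (Y.presheaf.stalk (f x)) (X.presheaf.stalk x) := by
      refine Groth.Agent.Unram17SmallLifts.formallyUnramified_of_unique _ _ fun M _ _ _ _ ψ₁ ψ₂ hψ₁ hψ₂ hA => ?_
      let T := TrivSqZeroExt (X.presheaf.stalk x) M
      let π : T →+* X.presheaf.stalk x := (TrivSqZeroExt.fstHom (X.presheaf.stalk x) (X.presheaf.stalk x) M).toRingHom
      haveI : Nontrivial T := π.domain_nontrivial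
      have hu : ∀ t : T, IsUnit t ↔ IsUnit (π t) := fun t => TrivSqZeroExt.isUnit_iff_isUnit_fst
      haveI : IsLocalRing T := IsLocalRing.of_nonunits_add fun a b ha hb hab => by
        rw [mem_nonunits_iff, hu] at ha hb
        rw [hu, map_add] at hab
        exact IsLocalRing.nonunits_add ha hb hab
      have hπ : Function.Surjective π := fun c => ⟨TrivSqZeroExt.inl c, rfl⟩
      have hker : RingHom.ker π ^ 2 = ⊥ := by
        rw [pow_two, ← le_bot_iff, Ideal.mul_le]
        intro a ha b hb
        simp only [RingHom.mem_ker] at ha hb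
        change a * b = 0
        have ha' : TrivSqZeroExt.fst a = 0 := ha
        have hb' : TrivSqZeroExt.fst b = 0 := hb
        refine TrivSqZeroExt.ext ?_ ?_
        · exact (TrivSqZeroExt.fst_mul a b).trans (by rw [ha', zero_mul]; rfl)
        · exact (TrivSqZeroExt.snd_mul a b).trans (by rw [ha', hb']; simp)
      haveI hl₁ : IsLocalHom (CommRingCat.ofHom ψ₁).hom :=
        ⟨fun r hr => by
          have := (hu _).1 hr
          rwa [show π ((CommRingCat.ofHom ψ₁).hom r) = r from RingHom.congr_fun hψ₁ r] at this⟩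
      haveI hl₂ : IsLocalHom (CommRingCat.ofHom ψ₂).hom :=
        ⟨fun r hr => by
          have := (hu _).1 hr
          rwa [show π ((CommRingCat.ofHom ψ₂).hom r) = r from RingHom.congr_fun hψ₂ r] at this⟩
      have hid : ∀ ψ : X.presheaf.stalk x →+* T, π.comp ψ = RingHom.id _ →
          Spec.map (CommRingCat.ofHom π) ≫ Spec.map (CommRingCat.ofHom ψ) ≫ X.fromSpecStalk x =
            X.fromSpecStalk x := by
        intro ψ hψ
        rw [← Category.assoc, ← Spec.map_comp, ← CommRingCat.ofHom_comp, hψ, CommRingCat.ofHom_id,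
          Spec.map_id, Category.id_comp]
      have hf : ∀ ψ : X.presheaf.stalk x →+* T,
          (Spec.map (CommRingCat.ofHom ψ) ≫ X.fromSpecStalk x) ≫ f =
            Spec.map (CommRingCat.ofHom (ψ.comp (algebraMap (Y.presheaf.stalk (f x)) _))) ≫
              Y.fromSpecStalk (f x) := by
        intro ψ
        rw [Category.assoc, ← Scheme.SpecMap_stalkMap_fromSpecStalk, ← Category.assoc, ← Spec.map_comp]
        rfl
      have heq := h (X.presheaf.stalk x) T π hπ hker (X.fromSpecStalk x)
        (Spec.map (CommRingCat.ofHom (ψ₁.comp (algebraMap (Y.presheaf.stalk (f x)) _))) ≫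
          Y.fromSpecStalk (f x)) Scheme.fromSpecStalk_closedPoint
        (by rw [← hf, ← Category.assoc, hid ψ₁ hψ₁])
        _ (Spec.map (CommRingCat.ofHom ψ₂) ≫ X.fromSpecStalk x) (hid ψ₁ hψ₁) (hf ψ₁) (hid ψ₂ hψ₂)
        (by rw [hA]; exact hf ψ₂)
      obtain ⟨e, he⟩ := Groth.Agent.UnramArtinLift.hom_ext_iff (X := X) (R := CommRingCat.of T)
        (CommRingCat.ofHom ψ₁) (CommRingCat.ofHom ψ₂) heq
      have he' : (CommRingCat.ofHom ψ₁ : X.presheaf.stalk x ⟶ CommRingCat.of T) =
          CommRingCat.ofHom ψ₂ := he.trans (by simp; rfl)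
      exact congr_arg CommRingCat.Hom.hom he'
    obtain ⟨V, W, e, hxW, hW⟩ := Groth.Agent.Unram17SmallLifts.exists_opens_of_stalk f x
      (P := @FormallyUnramified) (Q := RingHom.FormallyUnramified)
      (R' := fun {R S} _ _ φ => letI := RingHom.toAlgebra φ; Algebra.FormallyUnramified R S)
      (fun A B S _ _ _ _ _ _ _ _ q _ _ h => by
        rw [toAlgebra_algebraMap] at h
        let ε := (IsLocalization.algEquiv q.primeCompl S (Localization.AtPrime q)).restrictScalars A
        have : Algebra.IsUnramifiedAt A q := Algebra.FormallyUnramified.of_equiv ε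
        obtain ⟨g, hg, hg'⟩ := Algebra.exists_formallyUnramified_of_isUnramifiedAt (R := A) q
        exact ⟨g, hg, RingHom.formallyUnramified_algebraMap.2 hg'⟩
        ) (fun V hV hy => by
        let := Y.presheaf.algebra_section_stalk (⟨f x, hy⟩ : V)
        have := hV.isLocalization_stalk ⟨f x, hy⟩
        let := (Y.presheaf.germ V (f x) hy ≫ f.stalkMap x).hom.toAlgebra
        have : IsScalarTower Γ(Y, V) (Y.presheaf.stalk (f x)) (X.presheaf.stalk x) := .of_algebraMap_eq' rfl
        have : Algebra.FormallyUnramified Γ(Y, V) (Y.presheaf.stalk (f x)) :=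
          .of_isLocalization (hV.primeIdealOf ⟨f x, hy⟩).asIdeal.primeCompl
        exact Algebra.FormallyUnramified.comp Γ(Y, V) (Y.presheaf.stalk (f x)) (X.presheaf.stalk x))
    exact ⟨W, hxW, by rw [← Scheme.Hom.resLE_comp_ι f e]; exact MorphismProperty.comp_mem _ _ _ hW inferInstance⟩

end Groth.Agent.S5009
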