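import Groth.Statements.S5012
import Groth.Agent.Calg4.SmoothRegularField

set_option autoImplicit false
universe u
open Unram17

namespace Groth.Agent.S5012


theorem mem_of_dense_of_minimal {A : Type u} [CommRing A] [IsNoetherianRing A]
    (U : TopologicalSpace.Opens (PrimeSpectrum A)) (hU : Dense (U : Set (PrimeSpectrum A)))
    (p : PrimeSpectrum A) (hp : p.asIdeal ∈ minimalPrimes A) : p ∈ U := by
  classical
  by_contra hpU
  let s := ((minimalPrimes.finite_of_isNoetherianRing A).toFinset).erase p.asIdeal
  have hnot : ¬ s.inf id ≤ p.asIdeal := fun hle => by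
    obtain ⟨q, hq, hqp⟩ := (p.isPrime.inf_le').mp hle
    obtain ⟨hne, hqm⟩ := Finset.mem_erase.mp hq
    rw [Set.Finite.mem_toFinset] at hqm
    exact hne (le_antisymm hqp (hp.2 ⟨hqm.1.1, bot_le⟩ hqp))
  obtain ⟨f, hf, hfp⟩ := SetLike.not_le_iff_exists.mp hnot
  obtain ⟨r, hrU, hrf⟩ := hU.exists_mem_open (PrimeSpectrum.basicOpen f).2 ⟨p, hfp⟩
  obtain ⟨m, hm, hmr⟩ := Ideal.exists_minimalPrimes_le (J := r.asIdeal) (I := (⊥ : Ideal A)) bot_le
  by_cases hmp : m = p.asIdeal
  · subst hmp
    exact hpU (((PrimeSpectrum.le_iff_specializes p r).mp hmr).mem_open U.2 hrU)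
  · exact hrf (hmr ((Finset.inf_le (f := id) (Finset.mem_erase.mpr ⟨hmp, by
      rw [Set.Finite.mem_toFinset]; exact hm⟩) : s.inf id ≤ m) hf))

theorem isField_of_minimal {A : Type u} [CommRing A] (p : Ideal A) [p.IsPrime] (hp : p ∈ minimalPrimes A)
    [IsReduced (Localization.AtPrime p)] : IsField (Localization.AtPrime p) := by
  have : Ring.KrullDimLE 0 (Localization.AtPrime p) := by
    refine Ring.KrullDimLE.mk₀ fun q hq => ?_
    have h1 : (q.comap (algebraMap A (Localization.AtPrime p))) ≤ p := by
      intro x hx
      by_contra hxp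
      exact hq.ne_top (Ideal.eq_top_of_isUnit_mem _ hx (IsLocalization.map_units _ (⟨x, hxp⟩ : p.primeCompl)))
    have h2 : q.comap (algebraMap A (Localization.AtPrime p)) = p :=
      le_antisymm h1 (hp.2 ⟨Ideal.IsPrime.comap _, bot_le⟩ h1)
    have : q = IsLocalRing.maximalIdeal (Localization.AtPrime p) := by
      rw [← IsLocalization.map_under p.primeCompl (Localization.AtPrime p) q,
        ← IsLocalization.map_under p.primeCompl (Localization.AtPrime p) (IsLocalRing.maximalIdeal (Localization.AtPrime p))]
      congr 1
      rw [Localization.AtPrime.under_maximalIdeal]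
      exact h2
    rw [this]
    exact IsLocalRing.maximalIdeal.isMaximal _
  exact Ring.KrullDimLE.isField_of_isReduced

theorem geometricallyReduced_of_smooth (k A : Type u) [Field k] [CommRing A] [Algebra k A]
    [Algebra.FiniteType k A] (p : Ideal A) [p.IsPrime] (hp : p ∈ minimalPrimes A)
    (h : Algebra.IsSmoothAt k p) : Algebra.IsGeometricallyReduced k (Localization.AtPrime p) := by
  have := Groth.Calg4.isRegularLocalRing_of_isSmoothAt (k := k) p
  have := Groth.Ega4Algebra1.isDomain_of_isRegularLocalRing (Localization.AtPrime p)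
  let := (isField_of_minimal p hp).toField
  exact (Groth.Ega41Sep.formallySmooth_iff_isGeometricallyReduced k (Localization.AtPrime p)).mp h

theorem smoothAt_of_geometricallyReduced (k A : Type u) [Field k] [CommRing A] [Algebra k A]
    [Algebra.FiniteType k A] (p : Ideal A) [p.IsPrime] (hp : p ∈ minimalPrimes A)
    (h : Algebra.IsGeometricallyReduced k (Localization.AtPrime p)) : Algebra.IsSmoothAt k p := by
  have : IsReduced (Localization.AtPrime p) :=
    Algebra.isReduced_of_isGeometricallyReduced k
  let := (isField_of_minimal p hp).toField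
  exact (Groth.Ega41Sep.formallySmooth_iff_isGeometricallyReduced k (Localization.AtPrime p)).mpr h

/-- Let A be an algebra of finite type over a field k. Then Spec A has a dense open subset consisting of
points at which A is smooth over k if and only if, for every minimal prime p of A, the local ring
A_p is geometrically reduced over k (that is, A_p is a field and a separable extension of k). -/
theorem result (k A : Type u) [Field k] [CommRing A] [Algebra k A]
    [Algebra.FiniteType k A] :
    (∃ U : TopologicalSpace.Opens (PrimeSpectrum A), Dense (U : Set (PrimeSpectrum A)) ∧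
        ∀ p ∈ U, Algebra.IsSmoothAt k p.asIdeal) ↔
      ∀ (p : Ideal A) [p.IsPrime], p ∈ minimalPrimes A →
        Algebra.IsGeometricallyReduced k (Localization.AtPrime p) := by
  have : IsNoetherianRing A := Algebra.FiniteType.isNoetherianRing k A
  have : Algebra.FinitePresentation k A := Algebra.FinitePresentation.of_finiteType.mp inferInstance
  constructor
  · rintro ⟨U, hU, hsm⟩ p _ hp
    refine geometricallyReduced_of_smooth k A p hp (hsm ⟨p, inferInstance⟩ ?_)
    exact mem_of_dense_of_minimal U hU ⟨p, inferInstance⟩ hp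
  · intro h
    refine ⟨⟨Algebra.smoothLocus k A, Algebra.isOpen_smoothLocus⟩, ?_, fun p hp => hp⟩
    intro q
    obtain ⟨p, hp, hpq⟩ := Ideal.exists_minimalPrimes_le (J := q.asIdeal) (I := (⊥ : Ideal A)) bot_le
    have := hp.1.1
    have hsm : Algebra.IsSmoothAt k p := smoothAt_of_geometricallyReduced k A p hp (h p hp)
    have hspec : (⟨p, inferInstance⟩ : PrimeSpectrum A) ⤳ q := (PrimeSpectrum.le_iff_specializes _ _).mp hpq
    exact hspec.mem_closed isClosed_closure (subset_closure hsm)

end Groth.Agent.S5012
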