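import Groth.Statements.S5017
import Groth.Agent.Unram17SmallLifts.Basic

set_option autoImplicit false
universe u
open CategoryTheory CategoryTheory.Limits AlgebraicGeometry TopologicalSpace
open Unram17 CategoryTheory.Limits

namespace Groth.Agent.S5017

/-- Let f : X ⟶ Y be locally of finite type. Then f is a monomorphism if and only if, for every point x
of X with image y, x is the only point of its fibre and the canonical map from the residue field
κ(y) to the quotient of the local ring of X at x by the extension of the maximal ideal at y is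
bijective (each nonempty fibre is Spec κ(y)). -/
theorem result {X Y : Scheme.{u}} (f : X ⟶ Y) [LocallyOfFiniteType f] :
    Mono f ↔ ∀ x : ↥X,
      (∀ x' : ↥X, f.base x' = f.base x → x' = x) ∧
        Function.Bijective
          (Ideal.quotientMap
            ((IsLocalRing.maximalIdeal ↑(Y.presheaf.stalk (f.base x))).map (f.stalkMap x).hom)
            (f.stalkMap x).hom Ideal.le_comap_map) := by
  have hmax : ∀ x : X, (IsLocalRing.maximalIdeal ↑(Y.presheaf.stalk (f.base x))).map (f.stalkMap x).hom ≤
      IsLocalRing.maximalIdeal _ := fun x => ((IsLocalRing.local_hom_TFAE (f.stalkMap x).hom).out 0 2 rfl rfl).mp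
        (inferInstanceAs (IsLocalHom (f.stalkMap x).hom))
  constructor
  · intro hmono
    haveI : IsIso (pullback.diagonal f) := inferInstance
    haveI : FormallyUnramified f := inferInstance
    have hUI : UniversallyInjective f := ((tfae_universallyInjective f).out 3 0 rfl rfl).mp
      (inferInstanceAs (Surjective (pullback.diagonal f)))
    obtain ⟨hinj, hpi⟩ := ((tfae_universallyInjective f).out 0 2 rfl rfl).mp hUI
    intro x
    refine ⟨fun x' h => hinj h, ?_⟩
    letI : Algebra (Y.presheaf.stalk (f x)) (X.presheaf.stalk x) := (f.stalkMap x).hom.toAlgebra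
    haveI : IsLocalHom (algebraMap (Y.presheaf.stalk (f x)) (X.presheaf.stalk x)) :=
      inferInstanceAs (IsLocalHom (f.stalkMap x).hom)
    haveI : Algebra.FormallyUnramified (Y.presheaf.stalk (f x)) (X.presheaf.stalk x) :=
      FormallyUnramified.stalkMap f x
    haveI : Algebra.EssFiniteType (Y.presheaf.stalk (f x)) (X.presheaf.stalk x) :=
      RingHom.essFiniteType_algebraMap.1 (LocallyOfFiniteType.stalkMap f x)
    have hm : (IsLocalRing.maximalIdeal ↑(Y.presheaf.stalk (f x))).map (f.stalkMap x).hom =
        IsLocalRing.maximalIdeal _ :=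
      Algebra.FormallyUnramified.map_maximalIdeal
    have hres : Function.Surjective (f.residueFieldMap x).hom := by
      let _ := (f.residueFieldMap x).hom.toAlgebra
      haveI : IsPurelyInseparable (Y.residueField (f x)) (X.residueField x) := hpi x
      haveI : Algebra.IsSeparable (Y.residueField (f x)) (X.residueField x) := inferInstance
      exact IsPurelyInseparable.surjective_algebraMap_of_isSeparable (Y.residueField (f x)) (X.residueField x)
    refine ⟨Ideal.quotientMap_injective' ?_, fun b => ?_⟩
    · rw [hm]
      exact le_of_eq (IsLocalRing.maximalIdeal_comap (algebraMap (Y.presheaf.stalk (f x)) (X.presheaf.stalk x)))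
    · obtain ⟨b, rfl⟩ := Ideal.Quotient.mk_surjective b
      obtain ⟨a, ha⟩ := hres (X.residue x b)
      obtain ⟨a, rfl⟩ := Scheme.residue_surjective Y (f x) a
      refine ⟨Ideal.Quotient.mk _ a, ?_⟩
      have h1 := congr($(Scheme.residue_residueFieldMap f x).hom a)
      rw [Ideal.quotientMap_mk, Ideal.Quotient.eq, hm, ← IsLocalRing.residue_eq_zero_iff, map_sub,
        sub_eq_zero]
      exact h1.symm.trans ha
  · intro h
    have hm : ∀ x : X, (IsLocalRing.maximalIdeal ↑(Y.presheaf.stalk (f x))).map (f.stalkMap x).hom =
        IsLocalRing.maximalIdeal _ ∧ Function.Surjective (f.residueFieldMap x).hom := by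
      intro x
      obtain ⟨-, hi, hs⟩ := h x
      set J := (IsLocalRing.maximalIdeal ↑(Y.presheaf.stalk (f x))).map (f.stalkMap x).hom with hJ
      have hJle : J ≤ IsLocalRing.maximalIdeal _ := hmax x
      refine ⟨le_antisymm hJle fun b hb => ?_, fun r => ?_⟩
      · obtain ⟨a, ha⟩ := hs (Ideal.Quotient.mk J b)
        obtain ⟨a, rfl⟩ := Ideal.Quotient.mk_surjective a
        rw [Ideal.quotientMap_mk, Ideal.Quotient.eq] at ha
        have hb' : (f.stalkMap x).hom a ∈ IsLocalRing.maximalIdeal _ := by
          simpa using add_mem (hJle ha) hb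
        have : (f.stalkMap x).hom a ∈ J := Ideal.mem_map_of_mem _ fun hu => hb' (hu.map _)
        simpa using sub_mem this ha
      · obtain ⟨b, rfl⟩ := Scheme.residue_surjective X x r
        obtain ⟨a, ha⟩ := hs (Ideal.Quotient.mk J b)
        obtain ⟨a, rfl⟩ := Ideal.Quotient.mk_surjective a
        rw [Ideal.quotientMap_mk, Ideal.Quotient.eq] at ha
        refine ⟨Y.residue (f x) a, ?_⟩
        have h1 := congr($(Scheme.residue_residueFieldMap f x).hom a)
        refine h1.trans ?_
        have := (IsLocalRing.residue_eq_zero_iff _).2 (hJle ha)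
        rw [map_sub, sub_eq_zero] at this
        exact this
    haveI : UniversallyInjective f := ((tfae_universallyInjective f).out 2 0 rfl rfl).mp
      ⟨fun x x' hxx' => ((h x').1 x hxx'), fun x => by
        algebraize [(f.residueFieldMap x).hom]
        exact ⟨⟨fun r => by obtain ⟨a, rfl⟩ := (hm x).2 r; exact isIntegral_algebraMap⟩,
          fun r _ => (hm x).2 r⟩⟩
    haveI : FormallyUnramified f := by
      have hloc : ∀ x : X, ∃ U : X.Opens, x ∈ U ∧ FormallyUnramified (U.ι ≫ f) := by
        intro x
        letI : Algebra (Y.presheaf.stalk (f x)) (X.presheaf.stalk x) := (f.stalkMap x).hom.toAlgebra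
        haveI : IsLocalHom (algebraMap (Y.presheaf.stalk (f x)) (X.presheaf.stalk x)) :=
          inferInstanceAs (IsLocalHom (f.stalkMap x).hom)
        haveI : Algebra.EssFiniteType (Y.presheaf.stalk (f x)) (X.presheaf.stalk x) :=
          RingHom.essFiniteType_algebraMap.1 (LocallyOfFiniteType.stalkMap f x)
        have hs : Function.Surjective (algebraMap (IsLocalRing.ResidueField (Y.presheaf.stalk (f x)))
            (IsLocalRing.ResidueField (X.presheaf.stalk x))) := by
          intro r
          obtain ⟨a, ha⟩ := (hm x).2 r
          obtain ⟨a, rfl⟩ := Scheme.residue_surjective Y (f x) a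
          exact ⟨IsLocalRing.residue _ a, ha⟩
        haveI : Module.Finite (IsLocalRing.ResidueField (Y.presheaf.stalk (f x)))
            (IsLocalRing.ResidueField (X.presheaf.stalk x)) :=
          Module.Finite.of_surjective (Algebra.linearMap _ _) hs
        haveI : Algebra.IsSeparable (IsLocalRing.ResidueField (Y.presheaf.stalk (f x)))
            (IsLocalRing.ResidueField (X.presheaf.stalk x)) := ⟨fun r => by
          obtain ⟨a, rfl⟩ := hs r
          exact isSeparable_algebraMap a⟩
        have : Algebra.FormallyUnramified (Y.presheaf.stalk (f x)) (X.presheaf.stalk x) :=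
          .of_map_maximalIdeal (hm x).1
        obtain ⟨V, W, e, hxW, hW⟩ := Groth.Agent.Unram17SmallLifts.exists_opens_of_stalk f x
          (P := @FormallyUnramified) (Q := RingHom.FormallyUnramified)
          (R' := fun {R S} _ _ φ => letI := RingHom.toAlgebra φ; Algebra.FormallyUnramified R S)
          (fun A B S _ _ _ _ _ _ _ _ q _ _ h => by
            rw [toAlgebra_algebraMap] at h
            let ε := (IsLocalization.algEquiv q.primeCompl S (Localization.AtPrime q)).restrictScalars A
            have : Algebra.IsUnramifiedAt A q := Algebra.FormallyUnramified.of_equiv ε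
            obtain ⟨g, hg, hg'⟩ := Algebra.exists_formallyUnramified_of_isUnramifiedAt (R := A) q
            exact ⟨g, hg, RingHom.formallyUnramified_algebraMap.2 hg'⟩
            ) (fun V hV hy => by
            let := Y.presheaf.algebra_section_stalk (⟨f x, hy⟩ : V)
            have := hV.isLocalization_stalk ⟨f x, hy⟩
            let := (Y.presheaf.germ V (f x) hy ≫ f.stalkMap x).hom.toAlgebra
            have : IsScalarTower Γ(Y, V) (Y.presheaf.stalk (f x)) (X.presheaf.stalk x) := .of_algebraMap_eq' rfl
            have : Algebra.FormallyUnramified Γ(Y, V) (Y.presheaf.stalk (f x)) :=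
              .of_isLocalization (hV.primeIdealOf ⟨f x, hy⟩).asIdeal.primeCompl
            exact Algebra.FormallyUnramified.comp Γ(Y, V) (Y.presheaf.stalk (f x)) (X.presheaf.stalk x))
        exact ⟨W, hxW, by rw [← Scheme.Hom.resLE_comp_ι f e]; exact MorphismProperty.comp_mem _ _ _ hW inferInstance⟩
      choose U hxU hU using hloc
      exact IsZariskiLocalAtSource.of_iSup_eq_top (P := @FormallyUnramified) U
        (eq_top_iff.2 fun x _ => TopologicalSpace.Opens.mem_iSup.2 ⟨x, hxU x⟩) hU
    haveI : Surjective (pullback.diagonal f) :=
      ((tfae_universallyInjective f).out 0 3 rfl rfl).mp inferInstance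
    haveI : Epi (pullback.diagonal f).base := (TopCat.epi_iff_surjective _).mpr this.surj
    haveI : IsIso (pullback.diagonal f) := IsOpenImmersion.isIso (pullback.diagonal f)
    exact (pullback.isIso_diagonal_iff f).1 inferInstance

end Groth.Agent.S5017
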