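import Groth.Statements.S5018
import Groth.Agent.OmegaSheaf.SmoothRank

set_option autoImplicit false
universe u
open CategoryTheory CategoryTheory.Limits AlgebraicGeometry TopologicalSpace
open Unram17

namespace Groth.Agent.S5018

/-- Let f : X ⟶ Y be formally smooth and locally of finite type, and let (Ω', d) be a sheaf of
differentials of X over Y, i.e. d a universal Y-derivation of O_X into Ω'. Then Ω' is finite locally
free. (The published statement also shows that the sheaf of differentials is locally projective for
every formally smooth f; this row states only the case of f locally of finite type.) -/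
theorem result {X Y : Scheme.{u}} (f : X ⟶ Y)
    (hf : MoreMor.IsFormallySmoothHom f) [LocallyOfFiniteType f]
    (Ω' : X.Modules) (d : OmegaSh.Der f Ω') (hd : OmegaSh.IsUniversal d) :
    FlatMod.IsFinLocFree Ω' := by
  exact Groth.OmegaSheaf.isFinLocFree_of_formallySmooth hf hd

end Groth.Agent.S5018
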