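import Groth.Statements.S5024
import Groth.Agent.Unram17SmoothLocal.Basic

set_option autoImplicit false
universe u
open CategoryTheory CategoryTheory.Limits AlgebraicGeometry TopologicalSpace
open Unram17

namespace Groth.Agent.S5024

/-- Let Y be locally Noetherian and f : X ⟶ Y locally of finite type, smooth on an open neighbourhood of
a point x with image y. Then for every n the local ring of X at x has Serre's property (S_n),
respectively (R_n), if and only if the local ring of Y at y has it. -/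
theorem result {X Y : Scheme.{u}} (f : X ⟶ Y)
    [IsLocallyNoetherian Y] [LocallyOfFiniteType f] (x : ↥X)
    (hx : ∃ U : X.Opens, x ∈ U ∧ Smooth (U.ι ≫ f)) (n : ℕ) :
    (LocCoh.HasSk n ↑(X.presheaf.stalk x) ↑(X.presheaf.stalk x) ↔
        LocCoh.HasSk n ↑(Y.presheaf.stalk (f.base x)) ↑(Y.presheaf.stalk (f.base x))) ∧
      (LocCoh.HasRk n ↑(X.presheaf.stalk x) ↔ LocCoh.HasRk n ↑(Y.presheaf.stalk (f.base x))) := by
  obtain ⟨U, hxU, hU⟩ := hx
  haveI : IsLocallyNoetherian X := LocallyOfFiniteType.isLocallyNoetherian f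
  have hflat : (f.stalkMap x).hom.Flat := by
    let y : U.toScheme := ⟨x, hxU⟩
    have h := Flat.stalkMap (U.ι ≫ f) y
    rw [Scheme.Hom.stalkMap_comp] at h
    haveI : IsIso (U.ι.stalkMap y) := by rw [← U.stalkIso_inv y]; infer_instance
    exact (RingHom.Flat.respectsIso.cancel_right_isIso (f.stalkMap (U.ι y)) (U.ι.stalkMap y)).mp h
  algebraize [(f.stalkMap x).hom]
  haveI : IsLocalHom (algebraMap (Y.presheaf.stalk (f.base x)) (X.presheaf.stalk x)) :=
    inferInstanceAs (IsLocalHom (f.stalkMap x).hom)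
  haveI : Module.FaithfullyFlat (Y.presheaf.stalk (f.base x)) (X.presheaf.stalk x) :=
    Module.FaithfullyFlat.of_flat_of_isLocalHom
  refine ⟨⟨fun h => (Groth.Agent.S9437.result n _ (X.presheaf.stalk x) h).2, fun h => ?_⟩,
    ⟨fun h p _ hp => ?_, fun h => ?_⟩⟩
  · rw [Groth.Ega43FP2.hasSk_stalk_iff] at h ⊢
    intro w hw
    have hwU : w ∈ U := hw.mem_open U.2 hxU
    obtain ⟨d, h1, h2, -⟩ := Groth.Agent.Unram17SmoothLocal.exists_depth_dim_of_mem f U w hwU
    have hy := h (f.base w) (hw.map f.continuous)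
    unfold Groth.Ega4b.SkLoc at hy ⊢
    rw [h1, h2, WithBot.coe_add]
    exact Groth.Ega4b.min_le_add_of_min_le hy (min_le_right _ _)
  · have hq : EGA4.HasRkAt n (X.presheaf.stalk x) (IsLocalRing.maximalIdeal _) := by
      rw [Groth.Ega4Algebra1.hasRkAt_iff]
      intro q _ _ hq
      exact h q hq
    have hA := Groth.Agent.S2608.result n (Y.presheaf.stalk (f.base x)) (X.presheaf.stalk x) _ hq
    rw [Groth.Ega4Algebra1.hasRkAt_iff] at hA
    refine hA p ?_ hp
    rw [show (IsLocalRing.maximalIdeal (X.presheaf.stalk x)).comap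
        (algebraMap (Y.presheaf.stalk (f.base x)) (X.presheaf.stalk x)) =
        IsLocalRing.maximalIdeal (Y.presheaf.stalk (f.base x)) from
      IsLocalRing.maximalIdeal_comap _]
    exact IsLocalRing.le_maximalIdeal (Ideal.IsPrime.ne_top ‹_›)
  · rw [Groth.Ega43Geom.hasRk_stalk_iff] at h ⊢
    intro w hw hd
    have hwU : w ∈ U := hw.mem_open U.2 hxU
    obtain ⟨d, -, h2, h3⟩ := Groth.Agent.Unram17SmoothLocal.exists_depth_dim_of_mem f U w hwU
    refine h3 (h (f.base w) (hw.map f.continuous) (le_trans ?_ hd))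
    rw [h2]
    exact le_add_of_nonneg_right (by exact_mod_cast Nat.zero_le d)

end Groth.Agent.S5024
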