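import Groth.Statements.S5026
import Groth.Agent.Syntomic.AdaptedGerms
import Groth.Agent.S2790

set_option autoImplicit false
universe u
open Unram17

namespace Groth.Agent.S5026

/-- Let k be a field, A a k-algebra of finite type equipped with a k-algebra map from the polynomial
ring in n variables (images g_i of the variables), p a prime of A such that Spec A has local
dimension n at p, r the Krull dimension of the local ring A_p, and suppose g_i ∈ p for the indices i
< r. Then A is etale at p over the polynomial ring if and only if the images of the g_i with i < r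
generate the maximal ideal of A_p and the differentials of the residue classes of the g_i with i ≥ r
generate the module of differentials of the residue field κ(p) over k. (The published statement adds
that these conditions imply that A is smooth at p over k and that κ(p) is separable over k; this row
does not state that consequence.) -/
theorem result (k A : Type u) [Field k]
    [CommRing A] [Algebra k A] [Algebra.FiniteType k A] (n r : ℕ) [Algebra (MvPolynomial (Fin n) k) A]
    [IsScalarTower k (MvPolynomial (Fin n) k) A] (p : Ideal A) [p.IsPrime]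
    (hn : FlatMor.localDim (PrimeSpectrum A) ⟨p, inferInstance⟩ = (n : WithBot ℕ∞))
    (hr : ringKrullDim (Localization.AtPrime p) = (r : WithBot ℕ∞))
    (hg : ∀ i : Fin n, (i : ℕ) < r → algebraMap (MvPolynomial (Fin n) k) A (MvPolynomial.X i) ∈ p) :
    Algebra.IsEtaleAt (MvPolynomial (Fin n) k) p ↔
      Ideal.span ((fun i : Fin n =>
          algebraMap A (Localization.AtPrime p) (algebraMap (MvPolynomial (Fin n) k) A (MvPolynomial.X i))) ''
            {i : Fin n | (i : ℕ) < r}) = IsLocalRing.maximalIdeal (Localization.AtPrime p) ∧
        Submodule.span p.ResidueField ((fun i : Fin n =>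
          KaehlerDifferential.D k p.ResidueField
            (IsLocalRing.residue (Localization.AtPrime p)
              (algebraMap A (Localization.AtPrime p) (algebraMap (MvPolynomial (Fin n) k) A (MvPolynomial.X i))))) ''
            {i : Fin n | r ≤ (i : ℕ)}) = ⊤ := by
  haveI : IsNoetherianRing A := Algebra.FiniteType.isNoetherianRing k A
  haveI : Algebra.EssFiniteType k p.ResidueField := Algebra.EssFiniteType.comp k A _
  haveI : Algebra.EssFiniteType k (Localization.AtPrime p) := Algebra.EssFiniteType.comp k A _
  obtain ⟨t, ht⟩ := Groth.Syntomic.exists_trdeg_residueField_eq k A p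
  obtain rfl : n = r + t := by
    have h := Groth.Agent.S2141.result p t ht
    rw [hn, hr] at h
    exact_mod_cast h
  rw [Groth.Agent.S2790.result k A (r + t) p hn]
  let L := Localization.AtPrime p
  let P := MvPolynomial (Fin (r + t)) k
  let g : Fin (r + t) → L := fun i => algebraMap A L (algebraMap P A (MvPolynomial.X i))
  let S₁ : Set (Fin (r + t)) := {i | (i : ℕ) < r}
  let S₂ : Set (Fin (r + t)) := {i | r ≤ (i : ℕ)}
  refine ⟨fun hsp => ?_, fun ⟨h1, h2⟩ => Groth.Syntomic.span_D_eq_top_of_local k g S₁ S₂ h1 h2⟩
  have hzero : ∀ i ∈ S₁, IsLocalRing.residue L (g i) = 0 := fun i hi =>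
    (IsLocalRing.residue_eq_zero_iff _).2 ((IsLocalization.AtPrime.to_map_mem_maximal_iff L p _).2 (hg i hi))
  have h2 : Submodule.span p.ResidueField ((fun i => KaehlerDifferential.D k p.ResidueField
      (IsLocalRing.residue L (g i))) '' S₂) = ⊤ := by
    refine eq_top_iff.2 fun z hz => ?_
    clear hz
    obtain ⟨y, rfl⟩ := KaehlerDifferential.map_surjective_of_surjective k k L p.ResidueField
      IsLocalRing.residue_surjective z
    have hy : y ∈ Submodule.span L (Set.range fun i => KaehlerDifferential.D k L (g i)) := hsp ▸ trivial
    induction hy using Submodule.span_induction with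
    | mem w hw =>
      obtain ⟨i, rfl⟩ := hw
      rw [KaehlerDifferential.map_D]
      by_cases hi : (i : ℕ) < r
      · rw [IsLocalRing.ResidueField.algebraMap_eq, hzero i hi, map_zero]
        exact zero_mem _
      · exact Submodule.subset_span ⟨i, not_lt.1 hi, rfl⟩
    | zero => rw [map_zero]; exact zero_mem _
    | add a b _ _ ha hb => rw [map_add]; exact add_mem ha hb
    | smul c a _ ha =>
      rw [map_smul, ← algebraMap_smul p.ResidueField c]
      exact Submodule.smul_mem _ _ ha
  refine ⟨?_, h2⟩
  let x : Fin t → p.ResidueField := fun j => IsLocalRing.residue L (g (Fin.natAdd r j))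
  have hx : AlgebraicIndependent k x := by
    refine Groth.Syntomic.algebraicIndependent_of_span_D_eq_top k x ?_ (by rw [ht, Nat.card_fin])
    rw [eq_top_iff, ← h2]
    refine Submodule.span_mono ?_
    rintro _ ⟨i, hi, rfl⟩
    have hi' : r ≤ (i : ℕ) := hi
    exact ⟨⟨i - r, by omega⟩, by simp [x, show Fin.natAdd r ⟨(i : ℕ) - r, by omega⟩ = i from Fin.ext (by simp; omega)]⟩
  let p0 : Ideal P := p.under P
  haveI : Algebra.EssFiniteType P A := Algebra.EssFiniteType.of_comp k P A
  haveI : Algebra.FormallyEtale P L := (Groth.Agent.S2790.result k A (r + t) p hn).2 hsp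
  letI := Localization.AtPrime.algebraOfLiesOver p0 p
  have hm := ((Algebra.isUnramifiedAt_iff_map_eq P p0 p).1
    (show Algebra.FormallyUnramified P L from inferInstance)).2
  refine le_antisymm (Ideal.span_le.2 ?_) ?_
  · rintro _ ⟨i, hi, rfl⟩
    exact (IsLocalization.AtPrime.to_map_mem_maximal_iff L p _).2 (hg i hi)
  rw [← hm, Ideal.map_le_iff_le_comap]
  intro f hf
  let f' : MvPolynomial (Fin t) k :=
    MvPolynomial.aeval (Fin.addCases (motive := fun _ => MvPolynomial (Fin t) k) (fun _ => 0) MvPolynomial.X) f
  have hf' : f' = 0 := by
    refine hx.eq_zero_of_aeval_eq_zero f' ?_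
    let ε : P →ₐ[k] p.ResidueField := IsScalarTower.toAlgHom k P p.ResidueField
    have he : (MvPolynomial.aeval x).comp (MvPolynomial.aeval
        (Fin.addCases (motive := fun _ => MvPolynomial (Fin t) k) (fun _ => 0) MvPolynomial.X)) = ε := by
      refine MvPolynomial.algHom_ext fun i => ?_
      induction i using Fin.addCases with
      | left j =>
        simp [ε, IsScalarTower.algebraMap_apply P A p.ResidueField]
        exact (hzero (Fin.castAdd t j) j.2).symm
      | right j =>
        simp [ε, x, g, IsScalarTower.algebraMap_apply P A p.ResidueField]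
        rfl
    refine (AlgHom.congr_fun he f).trans ?_
    show algebraMap P p.ResidueField f = 0
    rw [IsScalarTower.algebraMap_apply P A p.ResidueField, Ideal.algebraMap_residueField_eq_zero]
    exact hf
  let J : Ideal P := Ideal.span (MvPolynomial.X '' S₁)
  have hfJ : f ∈ J := by
    have he : ((Ideal.Quotient.mkₐ k J).comp (MvPolynomial.rename (Fin.natAdd r))).comp (MvPolynomial.aeval
        (Fin.addCases (motive := fun _ => MvPolynomial (Fin t) k) (fun _ => 0) MvPolynomial.X)) =
        Ideal.Quotient.mkₐ k J := by
      refine MvPolynomial.algHom_ext fun i => ?_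
      induction i using Fin.addCases with
      | left j =>
        simp
        exact (Ideal.Quotient.eq_zero_iff_mem.2
          (Ideal.subset_span (s := MvPolynomial.X '' S₁) ⟨Fin.castAdd t j, j.2, rfl⟩)).symm
      | right j =>
        simp
        rw [MvPolynomial.rename_X]
    refine Ideal.Quotient.eq_zero_iff_mem.1 ((AlgHom.congr_fun he f).symm.trans ?_)
    show (Ideal.Quotient.mkₐ k J).comp (MvPolynomial.rename (Fin.natAdd r)) f' = 0
    rw [hf', map_zero]
  have hle : J.map (algebraMap P L) ≤ Ideal.span (g '' S₁) := by
    rw [Ideal.map_span, Set.image_image]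
    refine Ideal.span_mono ?_
    rintro _ ⟨i, hi, rfl⟩
    exact ⟨i, hi, (IsScalarTower.algebraMap_apply P A L (MvPolynomial.X i)).symm⟩
  exact hle (Ideal.mem_map_of_mem _ hfJ)

end Groth.Agent.S5026
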