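import Groth.Statements.S5027
import Groth.Agent.Syntomic.AdaptedGerms
import Groth.Agent.Ega4Algebra1.RegularLocal

set_option autoImplicit false
universe u
open Unram17

namespace Groth.Agent.S5027

/-- Let A be an algebra of finite type over a field k, p a prime of A such that Spec A has local
dimension n at p, and r the Krull dimension of the local ring A_p. Then A_p is regular and the
residue field κ(p) is a separable extension of k (geometrically reduced over k) if and only if there
exist n elements of the local ring A_p (germs at p in place of sections over an open neighbourhood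
of p, which is equivalent) of which those with index < r generate the maximal ideal and the residue
classes of the remaining ones have differentials generating the module of differentials of κ(p) over
k. -/
theorem result (k A : Type u) [Field k]
    [CommRing A] [Algebra k A] [Algebra.FiniteType k A] (n r : ℕ) (p : Ideal A) [p.IsPrime]
    (hn : FlatMor.localDim (PrimeSpectrum A) ⟨p, inferInstance⟩ = (n : WithBot ℕ∞))
    (hr : ringKrullDim (Localization.AtPrime p) = (r : WithBot ℕ∞)) :
    (IsRegularLocalRing (Localization.AtPrime p) ∧ Algebra.IsGeometricallyReduced k p.ResidueField) ↔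
      ∃ g : Fin n → Localization.AtPrime p,
        Ideal.span (g '' {i : Fin n | (i : ℕ) < r}) = IsLocalRing.maximalIdeal (Localization.AtPrime p) ∧
          Submodule.span p.ResidueField ((fun i : Fin n =>
            KaehlerDifferential.D k p.ResidueField (IsLocalRing.residue (Localization.AtPrime p) (g i))) ''
              {i : Fin n | r ≤ (i : ℕ)}) = ⊤ := by
  haveI : IsNoetherianRing A := Algebra.FiniteType.isNoetherianRing k A
  haveI : Algebra.EssFiniteType k p.ResidueField := Algebra.EssFiniteType.comp k A _
  obtain ⟨t, ht⟩ := Groth.Syntomic.exists_trdeg_residueField_eq k A p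
  obtain rfl : n = r + t := by
    have h := Groth.Agent.S2141.result p t ht
    rw [hn, hr] at h
    exact_mod_cast h
  have hP : {i : Fin (r + t) | (i : ℕ) < r} = Set.range (Fin.castAdd t) := by
    ext i; constructor
    · intro hi; exact ⟨⟨i, hi⟩, rfl⟩
    · rintro ⟨j, rfl⟩; exact j.2
  have hQ : {i : Fin (r + t) | r ≤ (i : ℕ)} = Set.range (Fin.natAdd r) := by
    ext i; constructor
    · intro hi; have hi' : r ≤ (i : ℕ) := hi; exact ⟨⟨i - r, by omega⟩, Fin.ext (by simp; omega)⟩
    · rintro ⟨j, rfl⟩; simp
  rw [hP, hQ, Groth.Syntomic.isGeometricallyReduced_residueField_iff k A p t ht]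
  simp only [← Set.range_comp]
  constructor
  · rintro ⟨hreg, hsep⟩
    obtain ⟨x, hx⟩ := Groth.Ega4Algebra1.exists_span_eq_maximalIdeal (R := Localization.AtPrime p) (d := r)
      (by
        have h := IsRegularLocalRing.spanFinrank_maximalIdeal (R := Localization.AtPrime p)
        rw [hr] at h
        exact_mod_cast h)
    obtain ⟨y, hy⟩ := Groth.Syntomic.exists_fin_residue_D_span k (L := Localization.AtPrime p) t hsep
    refine ⟨Fin.append x y, ?_, ?_⟩
    · simpa [Function.comp_def, Fin.append_left] using hx
    · simpa [Function.comp_def, Fin.append_right] using hy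
  · rintro ⟨g, hg1, hg2⟩
    constructor
    · refine IsRegularLocalRing.of_spanFinrank_maximalIdeal_le _ ?_
      rw [hr, ← hg1, Nat.cast_le]
      refine (Submodule.spanFinrank_span_le_ncard_of_finite (Set.finite_range _)).trans ?_
      rw [← Nat.card_coe_set_eq]
      exact (Finite.card_range_le _).trans_eq (Nat.card_fin r)
    · rw [← finrank_top p.ResidueField Ω[p.ResidueField⁄k], ← hg2]
      exact (finrank_range_le_card _).trans_eq (Fintype.card_fin t)

end Groth.Agent.S5027
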