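import Groth.Statements.S5028
import Groth.Agent.Syntomic.GeomRegularFibre
import Groth.Agent.S2561
import Groth.Agent.AlgSp2.SmoothAtLifts

set_option autoImplicit false
universe u
open CategoryTheory CategoryTheory.Limits AlgebraicGeometry TopologicalSpace
open Unram17

namespace Groth.Agent.S5028

/-- Let Y be locally Noetherian, f : X ⟶ Y locally of finite type, x a point of X with image y, and
suppose the local ring of Y at y is reduced. Then f is smooth on an open neighbourhood of x if and
only if f is universally open at every point of some neighbourhood of x in the fibre over y (that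
is, for the points x' of some open neighbourhood of x in X lying over y, every base change of f is
open at each point lying over x') and the local ring of the fibre at x (the quotient of the local
ring of X at x by the extension of the maximal ideal at y) is geometrically regular over the residue
field κ(y). -/
theorem result {X Y : Scheme.{u}} (f : X ⟶ Y)
    [IsLocallyNoetherian Y] [LocallyOfFiniteType f] (x : ↥X)
    (hred : IsReduced ↑(Y.presheaf.stalk (f.base x))) :
    letI φ := (f.stalkMap x).hom
    letI 𝔪 := IsLocalRing.maximalIdeal ↑(Y.presheaf.stalk (f.base x))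
    letI : Algebra (IsLocalRing.ResidueField ↑(Y.presheaf.stalk (f.base x))) (↑(X.presheaf.stalk x) ⧸ 𝔪.map φ) :=
      (Ideal.quotientMap (𝔪.map φ) φ Ideal.le_comap_map).toAlgebra
    (∃ U : X.Opens, x ∈ U ∧ Smooth (U.ι ≫ f)) ↔
      (∃ W : X.Opens, x ∈ W ∧ ∀ x' ∈ W, f.base x' = f.base x → EGA43.IsUnivOpenAt f x') ∧
        CAlg.IsGeometricallyRegular (IsLocalRing.ResidueField ↑(Y.presheaf.stalk (f.base x)))
          (↑(X.presheaf.stalk x) ⧸ 𝔪.map φ) := by
  haveI : LocallyOfFinitePresentation f := Groth.AlgSp2.lfp_of_lft f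
  refine Iff.trans (Groth.Syntomic.smooth_nhd_iff_flat_and_fibreGeomRegular f x) ⟨?_, ?_⟩
  · rintro ⟨hflat, hreg⟩
    obtain ⟨U, hxU, hU⟩ := (Groth.Syntomic.smooth_nhd_iff_flat_and_fibreGeomRegular f x).2 ⟨hflat, hreg⟩
    exact ⟨⟨U, hxU, fun x' hx' _ => Groth.Syntomic.isUnivOpenAt_of_open_universallyOpen f U hx'⟩, hreg⟩
  · rintro ⟨⟨W, hxW, hW⟩, hreg⟩
    refine ⟨Groth.Agent.S2561.result f x (fun z hz _ => ?_)
      (Groth.Syntomic.regular_and_geomReducedAt_of_fibreGeomRegular f x hreg).2 hred, hreg⟩
    refine hW _ ?_ ?_
    · have h := (specializes_iff_mem_closure.2 hz).map (f.fiberι (f.base x)).continuous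
      rw [Scheme.Hom.fiberι_asFiber] at h
      exact h.mem_open W.2 hxW
    · have h := f.range_fiberι (f.base x)
      exact (Set.ext_iff.1 h _).1 ⟨z, rfl⟩

end Groth.Agent.S5028
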