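import Groth.Statements.S5029
import Groth.Agent.SymAlg.Univ
import Groth.Agent.LocFree.Affine
import Groth.Agent.NeronArea.SymSmooth
-- import your own Groth.Agent.* helpers here

set_option autoImplicit false
universe u
open CategoryTheory CategoryTheory.Limits AlgebraicGeometry TopologicalSpace
open Unram17

namespace Groth.Agent.S5029

/-- Let S be a scheme and E a quasi-coherent O_S-module that is finite locally free. If A is a
quasi-coherent O_S-algebra which is the symmetric algebra of E (through j : E ⟶ A), then the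
structure morphism of the relative spectrum of A, i.e. of the vector bundle V(E), is smooth. -/
theorem result {S : Scheme.{u}} (E : S.Modules) (hE : Coh.IsQCoh E)
    (hlf : FlatMod.IsFinLocFree E) (A : RelSpec.QCAlg S) (j : E ⟶ A.toModule) (hA : RelSpec.IsSymAlg E A j) :
    Smooth A.π := by
  have : E.IsQuasicoherent := hE
  choose M hM hxM using fun x : S =>
    (show ∃ M : S.Opens, IsAffineOpen M ∧ x ∈ M from by
      obtain ⟨_, ⟨M, hM, rfl⟩, hx, -⟩ :=
        S.isBasis_affineOpens.exists_subset_of_mem_open (Set.mem_univ x) isOpen_univ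
      exact ⟨M, hM, hx⟩)
  have hmem : ∀ z : A.spec, z ∈ (A.ι (M (A.π z)) (hM _)).opensRange := fun z => by
    rw [← A.π_preimage]
    exact hxM (A.π z)
  let 𝒰 : A.spec.OpenCover := Scheme.Cover.mkOfCovers A.spec (fun z => Spec (A.presheaf.obj (Opposite.op (M (A.π z)))))
    (fun z => A.ι (M (A.π z)) (hM _)) (fun z => ⟨z, hmem z⟩) (fun _ => inferInstance)
  refine (IsZariskiLocalAtSource.iff_of_openCover (P := @Smooth) 𝒰).mpr fun z => ?_
  show Smooth (A.ι (M (A.π z)) (hM _) ≫ A.π)
  rw [A.ι_π (M (A.π z)) (hM _)]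
  obtain ⟨_, _⟩ := Groth.LocFree.finite_projective_sections hlf (hM (A.π z))
  have hstr : (A.str.app (Opposite.op (M (A.π z)))).hom.Smooth := by
    let e := RingEquiv.ofBijective (Groth.SymAlg.liftSec A j (M (A.π z))) (Groth.SymAlg.bijective_liftSec hA (hM _))
    have h1 : (algebraMap Γ(S, M (A.π z)) (SymmetricAlgebra Γ(S, M (A.π z)) Γ(E, M (A.π z)))).Smooth :=
      RingHom.smooth_algebraMap.mpr inferInstance
    have h2 := RingHom.Smooth.respectsIso.1 _ e h1
    have h3 : (A.str.app (Opposite.op (M (A.π z)))).hom = e.toRingHom.comp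
        (algebraMap Γ(S, M (A.π z)) (SymmetricAlgebra Γ(S, M (A.π z)) Γ(E, M (A.π z)))) :=
      RingHom.ext fun r => (Groth.SymAlg.liftSec_algebraMap A j _ r).symm
    rw [h3]; exact h2
  have : Smooth (Spec.map (A.str.app (Opposite.op (M (A.π z))))) := (HasRingHomProperty.Spec_iff (P := @Smooth)).mpr hstr
  infer_instance

end Groth.Agent.S5029
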