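import Groth.Statements.S5030
import Groth.Agent.EtaleAlgebra.FGModelProp
-- import your own Groth.Agent.* helpers here

set_option autoImplicit false
universe u
open CategoryTheory CategoryTheory.Limits AlgebraicGeometry TopologicalSpace
open Unram17

namespace Groth.Agent.S5030

/-- Let A be a commutative ring and f : X ⟶ Spec A a smooth morphism that is quasi-compact and
quasi-separated (hence of finite presentation). Then there exist a finitely generated ℤ-subalgebra
A₀ of A, a scheme X₀ with a smooth morphism of finite type f₀ : X₀ ⟶ Spec A₀, and a morphism X ⟶ X₀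
making X the base change of X₀ along Spec A ⟶ Spec A₀. This is the case of smooth morphisms (the
converse is stability under base change). -/
theorem result (A : Type u) [CommRing A] {X : Scheme.{u}}
    (f : X ⟶ Spec (CommRingCat.of A)) [Smooth f] [QuasiCompact f] [QuasiSeparated f] :
    ∃ A₀ : Subalgebra ℤ A, A₀.FG ∧
      ∃ (X₀ : Scheme.{u}) (f₀ : X₀ ⟶ Spec (CommRingCat.of ↥A₀)) (g : X ⟶ X₀),
        Smooth f₀ ∧ QuasiCompact f₀ ∧
          IsPullback g f f₀ (Spec.map (CommRingCat.ofHom (algebraMap (↥A₀) A))) := by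
  obtain ⟨A₀, h₀, X₀, f₀, g, h₁, -, h₂, h₃⟩ :=
    Groth.EtaleAlgebra.exists_prop_model_over_fgSubalgebra @Smooth
      Groth.Limits.ringDescends_smooth (fun _ _ _ _ => inferInstance) A f ‹_›
  exact ⟨A₀, h₀, X₀, f₀, g, h₁, h₂, h₃⟩

end Groth.Agent.S5030
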