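import Groth.Statements.S5035
import Groth.Agent.Hensel1.QFSplit
import Groth.Agent.Hensel1.Root

set_option autoImplicit false
universe u
open Hensel

namespace Groth.Agent.S5035

/-- a) iff c') (affine form): a local ring R is henselian if and only if, for every R-algebra S of
finite type and every prime q of S lying over the maximal ideal of R such that S is quasi-finite
over R at q, the local ring S_q is a finitely generated R-module. -/
theorem result (R : Type u) [CommRing R] [IsLocalRing R] :
    HenselianLocalRing R ↔
      ∀ (S : Type u) [CommRing S] [Algebra R S] [Algebra.FiniteType R S] (q : Ideal S) [q.IsPrime],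
        q.LiesOver (IsLocalRing.maximalIdeal R) → Algebra.QuasiFiniteAt R q →
          Module.Finite R (Localization.AtPrime q) := by
  refine ⟨fun _ S _ _ _ q _ _ _ => ?_, fun h => ⟨fun f hf a₀ ha₀ hu => ?_⟩⟩
  · obtain ⟨f, hfq, hf, _⟩ := Groth.Hensel1.exists_idempotent_of_quasiFiniteAt (R := R) q
    have := hf.finite
    have h1f : 1 - f ∈ q := by
      have : f * (1 - f) ∈ q := by rw [hf.1.mul_one_sub_self]; exact q.zero_mem
      exact ((inferInstance : q.IsPrime).mem_or_mem this).resolve_left hfq
    let π := Ideal.Quotient.mk (Ideal.span {1 - f})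
    have hker : Ideal.span {1 - f} ≤ q := Ideal.span_le.mpr (Set.singleton_subset_iff.mpr h1f)
    have hp : (q.map π).IsPrime := Ideal.map_isPrime_of_surjective Ideal.Quotient.mk_surjective
      (by rwa [Ideal.mk_ker])
    have hqc : (q.map π).comap π = q := by
      rw [Ideal.comap_map_of_surjective' _ Ideal.Quotient.mk_surjective, Ideal.mk_ker,
        sup_eq_left.mpr hker]
    have : Algebra.IsIntegral R (S ⧸ Ideal.span {1 - f}) := Algebra.IsIntegral.of_finite R _
    have hmax : (q.map π).IsMaximal := by
      refine Ideal.isMaximal_of_isIntegral_of_isMaximal_comap (R := R) _ ?_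
      have : (q.map π).comap (algebraMap R (S ⧸ Ideal.span {1 - f})) =
          IsLocalRing.maximalIdeal R := by
        rw [show algebraMap R (S ⧸ Ideal.span {1 - f}) = π.comp (algebraMap R S) from rfl,
          ← Ideal.comap_comap, hqc]
        exact (q.over_def (IsLocalRing.maximalIdeal R)).symm
      rw [this]
      exact IsLocalRing.maximalIdeal.isMaximal R
    have : IsLocalization q.primeCompl (S ⧸ Ideal.span {1 - f}) := by
      refine ⟨fun s => ?_, fun z => ?_, fun {x y} hxy => ?_⟩
      · by_contra hn
        rw [← mem_nonunits_iff, ← IsLocalRing.mem_maximalIdeal,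
          ← IsLocalRing.eq_maximalIdeal hmax] at hn
        exact s.2 (hqc.le hn)
      · obtain ⟨x, rfl⟩ := Ideal.Quotient.mk_surjective z
        exact ⟨(x, 1), by simp⟩
      · obtain ⟨c, hc⟩ := Ideal.mem_span_singleton.mp (Ideal.Quotient.eq.mp hxy)
        refine ⟨⟨f, hfq⟩, ?_⟩
        show f * x = f * y
        linear_combination f * hc + c * hf.1.mul_one_sub_self
    exact Module.Finite.equiv ((IsLocalization.algEquiv q.primeCompl (S ⧸ Ideal.span {1 - f})
      (Localization.AtPrime q)).restrictScalars R).toLinearEquiv
  · have : Module.Finite R (AdjoinRoot f) := hf.finite_adjoinRoot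
    have : Module.Free R (AdjoinRoot f) := hf.free_adjoinRoot
    have ha₀' : f.eval₂ (IsLocalRing.residue R) (IsLocalRing.residue R a₀) = 0 := by
      rw [Polynomial.eval₂_at_apply, IsLocalRing.residue_eq_zero_iff]; exact ha₀
    let φ : AdjoinRoot f →+* IsLocalRing.ResidueField R :=
      AdjoinRoot.lift (IsLocalRing.residue R) (IsLocalRing.residue R a₀) ha₀'
    have : (RingHom.ker φ).IsPrime := RingHom.ker_isPrime φ
    have hlo : (RingHom.ker φ).LiesOver (IsLocalRing.maximalIdeal R) := ⟨by
      ext r
      simp [φ, Ideal.under_def, AdjoinRoot.algebraMap_eq, IsLocalRing.residue_eq_zero_iff]⟩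
    have := h (AdjoinRoot f) (RingHom.ker φ) hlo inferInstance
    let L := Localization.AtPrime (RingHom.ker φ)
    have : Module.Flat (AdjoinRoot f) L := IsLocalization.flat _ (RingHom.ker φ).primeCompl
    have : Module.Flat R L := Module.Flat.trans R (AdjoinRoot f) L
    refine Groth.Hensel1.exists_root_of_localAlgebra ha₀ hu
      (algebraMap (AdjoinRoot f) L (AdjoinRoot.root f)) ?_ ?_ fun y => ?_
    · rw [Polynomial.aeval_algebraMap_apply, AdjoinRoot.aeval_eq, AdjoinRoot.mk_self, map_zero]
    · rw [IsScalarTower.algebraMap_apply R (AdjoinRoot f) L, ← map_sub]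
      refine (IsLocalization.AtPrime.to_map_mem_maximal_iff L (RingHom.ker φ) _).mpr ?_
      simp [φ, AdjoinRoot.algebraMap_eq]
    · obtain ⟨⟨x, s⟩, hxs⟩ := IsLocalization.surj (RingHom.ker φ).primeCompl y
      obtain ⟨p, hp⟩ := AdjoinRoot.mk_surjective x
      obtain ⟨t, ht⟩ := AdjoinRoot.mk_surjective (s : AdjoinRoot f)
      refine ⟨p, t, ?_, ?_⟩
      · rw [Polynomial.aeval_algebraMap_apply, AdjoinRoot.aeval_eq, ht]
        exact IsLocalization.map_units L s
      · rw [Polynomial.aeval_algebraMap_apply, Polynomial.aeval_algebraMap_apply,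
          AdjoinRoot.aeval_eq, AdjoinRoot.aeval_eq, hp, ht]
        exact hxs

end Groth.Agent.S5035
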