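import Groth.Statements.S5037
import Groth.Agent.Hensel1.ClopenScheme

set_option autoImplicit false
open CategoryTheory CategoryTheory.Limits AlgebraicGeometry
universe u
open Hensel

namespace Groth.Agent.S5037

/-- b) implies a'): let i : S₀ ⟶ S be a closed immersion. Suppose that for every étale separated
morphism g : S' ⟶ S and every section u₀ of S' ×_S S₀ ⟶ S₀ there is exactly one section u of g with
i ≫ u = u₀ followed by the first projection. Then for every finite locally free morphism g : S' ⟶ S
(finite, flat and locally of finite presentation), every open-closed subset of S' ×_S S₀ is the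
inverse image under the first projection of exactly one open-closed subset of S'. -/
theorem result {S S₀ : Scheme.{u}} (i : S₀ ⟶ S) [IsClosedImmersion i]
    (hb : ∀ (S' : Scheme.{u}) (g : S' ⟶ S), Etale g → IsSeparated g →
      ∀ u₀ : S₀ ⟶ pullback g i, u₀ ≫ pullback.snd g i = 𝟙 S₀ →
        ∃! u : S ⟶ S', u ≫ g = 𝟙 S ∧ i ≫ u = u₀ ≫ pullback.fst g i)
    {S' : Scheme.{u}} (g : S' ⟶ S) [IsFinite g] [Flat g] [LocallyOfFinitePresentation g]
    (V : Set ↥(pullback g i)) (hV : IsClopen V) :
    ∃! U : Set ↥S', IsClopen U ∧ (pullback.fst g i).base ⁻¹' U = V := by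
  exact Groth.Hensel1.clopen_lift_of_sections_lift i hb g V hV

end Groth.Agent.S5037
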