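import Groth.Statements.S5039
import Groth.Agent.EtaleAlgebra.HensNagata
import Groth.Agent.S0567
-- import your own Groth.Agent.* helpers here

set_option autoImplicit false
universe u
open Hensel

namespace Groth.Agent.S5039

/-- Let R be a Noetherian local ring and S its henselization. Then S is universally Japanese if and only
if R is. -/
theorem result (R S : Type u) [CommRing R] [IsLocalRing R] [IsNoetherianRing R]
    [CommRing S] [IsLocalRing S] [Algebra R S] [IsLocalHom (algebraMap R S)] [Hensel.IsHenselization R S] :
    CAlg.IsUniversallyJapanese S ↔ CAlg.IsUniversallyJapanese R := by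
  obtain ⟨M⟩ := Groth.Hensel1.hensModel_of_isHenselization (R := R) (S := S)
  have hSN : IsNoetherianRing S := M.isNoetherianRing_iff.mp inferInstance
  have hR : CAlg.IsUniversallyJapanese R ↔ CAlg.IsNagata R :=
    ⟨fun h => (Groth.Agent.S0567.result R).2 ⟨inferInstance, h⟩, fun h => ((Groth.Agent.S0567.result R).1 h).2⟩
  have hS : CAlg.IsUniversallyJapanese S ↔ CAlg.IsNagata S :=
    ⟨fun h => (Groth.Agent.S0567.result S).2 ⟨hSN, h⟩, fun h => ((Groth.Agent.S0567.result S).1 h).2⟩
  rw [hR, hS, Groth.EtaleAlgebra.HensNagata.isNagata_iff, Groth.EtaleAlgebra.HensNagata.isNagata_iff]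
  exact Groth.EtaleAlgebra.HensNagata.hasGeomReducedFormalFibres_iff

end Groth.Agent.S5039
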