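import Groth.Statements.S5042
import Groth.Agent.Calg1.GRingHens.Basic
import Groth.Agent.Hensel1.Catenary
import Groth.Agent.EtaleAlgebra.HensDomain
import Groth.Agent.Ega4Algebra1.FormalFibreLoci
import Groth.Agent.Ega4Algebra1.GRingDescent
import Groth.Agent.PropsBasic.GRingLocal
import Groth.Agent.Ega4Algebra1.J2

set_option autoImplicit false
universe u
open Hensel

namespace Groth.Agent.S5042

/-- The henselization S of an excellent local ring R is excellent. -/
theorem result (R S : Type u) [CommRing R] [IsLocalRing R]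
    [CommRing S] [IsLocalRing S] [Algebra R S] [IsLocalHom (algebraMap R S)] [Hensel.IsHenselization R S]
    (h : EGA4.IsExcellent R) : EGA4.IsExcellent S := by
  obtain ⟨hN, hUC, hG, -⟩ := h
  obtain ⟨M⟩ := Groth.Hensel1.hensModel_of_isHenselization (R := R) (S := S)
  have hSN : IsNoetherianRing S := M.isNoetherianRing_iff.mp hN
  have hSG := Groth.Calg1.GRingHens.isGRing_hensModel M hG
  have hSH : HenselianLocalRing S := Hensel.IsHenselization.henselian R
  refine ⟨hSN, M.isUniversallyCatenary hUC, hSG, (Groth.Ega4Algebra1.isJ2_iff S).2 fun A' _ _ _ hfin => ?_⟩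
  have := IsNoetherianRing.of_finite S A'
  have : Algebra.IsIntegral S A' := Algebra.IsIntegral.of_finite S A'
  have : IsLocalRing A' := Groth.EtaleAlgebra.isLocalRing_of_isIntegral_domain S A'
  have hA' := Groth.Ega4Algebra1.isGRing_of_finiteType S hSG A'
  have hreg : CAlg.IsRegularHom A' (EGA4.Cpl A') :=
    Groth.PropsBasic.GRingLocal.isRegularHom_completion_of_equiv
    (IsLocalization.atUnits A' (IsLocalRing.maximalIdeal A').primeCompl
      (S := Localization.AtPrime (IsLocalRing.maximalIdeal A'))
      fun x hx => IsLocalRing.notMem_maximalIdeal.1 hx).toRingEquiv.symm (hA'.2 (IsLocalRing.maximalIdeal A'))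
  refine ⟨_, Groth.Ega4Algebra1.isOpen_regLocus_of_regularHom A' hreg, ⟨⟨⊥, Ideal.isPrime_bot⟩, ?_⟩, subset_rfl⟩
  refine Groth.Ega4Algebra1.isRegularLocalRing_of_maximalIdeal_eq_bot ?_
  exact (Localization.AtPrime.map_eq_maximalIdeal (I := (⊥ : Ideal A'))).symm.trans Ideal.map_bot

end Groth.Agent.S5042
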