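import Groth.Statements.S5044
import Groth.Agent.Hensel1.LocalFibre
import Groth.Agent.S9437
import Groth.Agent.S9438

set_option autoImplicit false
universe u
open Hensel

namespace Groth.Agent.S5044

/-- Let R be a Noetherian local ring with strict henselization S. A prime ideal P of S is an associated
prime of S if and only if its inverse image in R is an associated prime of R. -/
theorem result (R S : Type u) [CommRing R] [IsLocalRing R] [IsNoetherianRing R]
    [CommRing S] [IsLocalRing S] [Algebra R S] [IsLocalHom (algebraMap R S)] [Hensel.IsStrictHenselization R S]
    (P : Ideal S) [P.IsPrime] :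
    P ∈ associatedPrimes S S ↔ P.comap (algebraMap R S) ∈ associatedPrimes R R := by
  obtain ⟨M⟩ := Groth.Hensel1.hensModel_of_isStrictHenselization (R := R) (S := S)
  exact M.mem_associatedPrimes_iff P

end Groth.Agent.S5044
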