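import Groth.Statements.S5045
import Groth.Agent.HensPair.UnibranchGlobal
-- import your own Groth.Agent.* helpers here

set_option autoImplicit false
open CategoryTheory AlgebraicGeometry
universe u
open Unram

namespace Groth.Agent.S5045

/-- Let X and Y be locally Noetherian schemes with X connected and all local rings of Y geometrically
unibranch, and let f : X ⟶ Y be flat with geometrically reduced fibres. Then for every closed subset
T of X whose image is nowhere dense in Y, the complement of T in X is connected. -/
theorem result {X Y : Scheme.{u}} [IsLocallyNoetherian X]
    [IsLocallyNoetherian Y] [ConnectedSpace ↥X] (hY : ∀ y : Y, CAlg2.IsGeomUnibranch (Y.presheaf.stalk y))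
    (f : X ⟶ Y) [Flat f] [GeometricallyReduced f]
    (T : Set ↥X) (hT : IsClosed T) (hT' : interior (closure (f.base '' T)) = ∅) :
    IsConnected Tᶜ := by
  exact Groth.HensPair.UnibranchIdem.isConnected_compl_scheme hY f T hT hT'

end Groth.Agent.S5045
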