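import Groth.Statements.S5046
import Groth.Agent.HensPair.UnibranchCompl

set_option autoImplicit false
open CategoryTheory AlgebraicGeometry
universe u
open Unram

namespace Groth.Agent.S5046

/-- Let A be a Noetherian local domain of Krull dimension at least 2 which is geometrically unibranch, X
a connected locally Noetherian scheme and f : X ⟶ Spec A a flat morphism. Then for every closed
subset T of X lying over the closed point of Spec A, the complement of T in X is connected. -/
theorem result (A : Type u) [CommRing A]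
    [IsNoetherianRing A] [IsLocalRing A] [IsDomain A] (hA : CAlg2.IsGeomUnibranch A) (hdim : 2 ≤ ringKrullDim A)
    {X : Scheme.{u}} [IsLocallyNoetherian X] [ConnectedSpace ↥X] (f : X ⟶ Spec (CommRingCat.of A)) [Flat f]
    (T : Set ↥X) (hT : IsClosed T) (hTy : ∀ x ∈ T, f.base x = IsLocalRing.closedPoint A) :
    IsConnected Tᶜ := by
  have hne : IsLocalRing.maximalIdeal A ≠ ⊥ := by
    intro h
    rw [ringKrullDim_eq_zero_of_isField (IsLocalRing.isField_iff_maximalIdeal_eq.2 h)] at hdim
    exact absurd hdim (by decide)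
  have hdense : ∀ x : X, x ∈ closure Tᶜ := by
    intro x
    have hgen : (⟨⊥, Ideal.isPrime_bot⟩ : PrimeSpectrum A) ⤳ f.base x :=
      (PrimeSpectrum.le_iff_specializes (⟨⊥, Ideal.isPrime_bot⟩ : PrimeSpectrum A) (f.base x)).1 bot_le
    obtain ⟨g, hg, hgf⟩ := Flat.generalizingMap f hgen
    have hgT : g ∈ Tᶜ := fun hgT => hne (congrArg PrimeSpectrum.asIdeal (hgf.symm.trans (hTy g hgT))).symm
    exact closure_mono (Set.singleton_subset_iff.2 hgT) (specializes_iff_mem_closure.1 hg)
  obtain ⟨x₀⟩ : Nonempty X := inferInstance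
  refine ⟨closure_nonempty_iff.1 ⟨x₀, hdense x₀⟩, fun u v hu hv huv hnu hnv => ?_⟩
  have hcov : Set.univ ⊆ closure (Tᶜ ∩ u) ∪ closure (Tᶜ ∩ v) := fun x _ => by
    rw [← closure_union, ← Set.inter_union_distrib_left, Set.inter_eq_left.2 huv]
    exact hdense x
  obtain ⟨t, -, htu, htv⟩ := isPreconnected_closed_iff.1 isPreconnected_univ _ _ isClosed_closure
    isClosed_closure hcov (hnu.mono fun z hz => ⟨trivial, subset_closure hz⟩)
    (hnv.mono fun z hz => ⟨trivial, subset_closure hz⟩)
  by_cases htT : t ∈ T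
  swap
  · rcases huv htT with h | h
    · obtain ⟨w, hw1, hw2⟩ := mem_closure_iff.1 htv u hu h
      exact ⟨w, hw2.1, hw1, hw2.2⟩
    · obtain ⟨w, hw1, hw2⟩ := mem_closure_iff.1 htu v hv h
      exact ⟨w, hw2.1, hw2.2, hw1⟩
  obtain ⟨g₁, hg₁, hg₁t⟩ := Groth.HensPair.UnibranchIdem.exists_specializes_of_mem_closure
    (hT.isOpen_compl.inter hu) htu
  obtain ⟨g₂, hg₂, hg₂t⟩ := Groth.HensPair.UnibranchIdem.exists_specializes_of_mem_closure
    (hT.isOpen_compl.inter hv) htv
  obtain ⟨P₁, rfl⟩ := Scheme.range_fromSpecStalk.ge hg₁t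
  obtain ⟨P₂, rfl⟩ := Scheme.range_fromSpecStalk.ge hg₂t
  let φ : CommRingCat.of A ⟶ X.presheaf.stalk t := Spec.preimage (X.fromSpecStalk t ≫ f)
  have hφ : Spec.map φ = X.fromSpecStalk t ≫ f := Spec.map_preimage _
  letI : Algebra A (X.presheaf.stalk t) := φ.hom.toAlgebra
  haveI : Module.Flat A (X.presheaf.stalk t) := by
    have h : Flat (Spec.map φ) := by rw [hφ]; infer_instance
    exact (HasRingHomProperty.Spec_iff (P := @Flat)).1 h
  have hcomap : ∀ P : PrimeSpectrum (X.presheaf.stalk t),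
      PrimeSpectrum.comap (algebraMap A (X.presheaf.stalk t)) P = f.base ((X.fromSpecStalk t).base P) := fun P =>
    congrArg (fun m : Spec (X.presheaf.stalk t) ⟶ Spec (CommRingCat.of A) => m.base P) hφ
  haveI : IsLocalHom (algebraMap A (X.presheaf.stalk t)) := by
    refine ((IsLocalRing.local_hom_TFAE (algebraMap A (X.presheaf.stalk t))).out 0 4).2 ?_
    have h := hcomap (IsLocalRing.closedPoint _)
    rw [Scheme.fromSpecStalk_closedPoint, hTy t htT] at h
    exact congrArg PrimeSpectrum.asIdeal h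
  obtain ⟨P, hP⟩ := Groth.HensPair.UnibranchIdem.not_separated_compl (B := X.presheaf.stalk t) hA hdim
    ((X.fromSpecStalk t).base ⁻¹' T) (hT.preimage (X.fromSpecStalk t).continuous)
    (fun q hq => congrArg PrimeSpectrum.asIdeal ((hcomap q).trans (hTy _ hq)))
    ((X.fromSpecStalk t).base ⁻¹' u) ((X.fromSpecStalk t).base ⁻¹' v)
    (hu.preimage (X.fromSpecStalk t).continuous) (hv.preimage (X.fromSpecStalk t).continuous)
    (fun q hq => huv hq) ⟨P₁, hg₁⟩ ⟨P₂, hg₂⟩
  exact ⟨_, hP⟩

end Groth.Agent.S5046
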