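import Groth.Statements.S5048
import Mathlib
-- import your own Groth.Agent.* helpers here

set_option autoImplicit false
open CategoryTheory AlgebraicGeometry
universe u
open Unram

namespace Groth.Agent.S5048

/-- Let Y be an irreducible scheme with generic point η and f : X ⟶ Y flat, locally of finite type and
locally quasi-finite. Then a point x of X maps to η if and only if its closure is an irreducible
component of X; thus the irreducible components of X are in canonical bijection with the fibre over
η. -/
theorem result {X Y : Scheme.{u}} [IrreducibleSpace ↥Y] (f : X ⟶ Y)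
    [Flat f] [LocallyOfFiniteType f] [LocallyQuasiFinite f] (x : X) :
    f.base x = genericPoint Y ↔ closure ({x} : Set ↥X) ∈ irreducibleComponents ↥X := by
  have hgen : ∀ z : X, closure ({z} : Set X) ∈ irreducibleComponents X ↔ ∀ z' : X, z' ⤳ z → z' = z := by
    intro z
    refine ⟨fun hz z' hz' => ?_, fun hz => ⟨isIrreducible_singleton.closure, fun t ht hle => ?_⟩⟩
    · have hsub : closure ({z} : Set X) ⊆ closure ({z'} : Set X) :=
        closure_minimal (Set.singleton_subset_iff.2 (specializes_iff_mem_closure.1 hz')) isClosed_closure
      have heq := (hz.2 isIrreducible_singleton.closure hsub).antisymm hsub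
      exact (hz'.antisymm (specializes_iff_mem_closure.2 (heq ▸ subset_closure rfl))).eq
    · obtain ⟨z', hz'⟩ := QuasiSober.sober ht.closure isClosed_closure
      have h1 : z' ⤳ z := hz'.specializes (subset_closure (hle (subset_closure rfl)))
      rw [← hz z' h1, hz'.def]
      exact subset_closure
  rw [hgen]
  refine ⟨fun hx z hz => ?_, fun hx => ?_⟩
  · have hfz : f.base z = genericPoint Y :=
      ((hz.map f.continuous).trans (hx ▸ specializes_rfl)).antisymm (genericPoint_specializes _) |>.eq
    have hd := f.isDiscrete_preimage_singleton (genericPoint Y)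
    have : DiscreteTopology (f.base ⁻¹' {genericPoint Y}) := hd.to_subtype
    have h1 : (⟨z, hfz⟩ : f.base ⁻¹' {genericPoint Y}) ⤳ ⟨x, hx⟩ :=
      (Topology.IsInducing.subtypeVal.specializes_iff).1 hz
    exact congrArg Subtype.val h1.eq
  · obtain ⟨z, hz, hfz⟩ := Flat.generalizingMap f (genericPoint_specializes (f.base x))
    rw [← hx z hz]
    exact hfz

end Groth.Agent.S5048
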