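import Groth.Statements.S5049
import Groth.Agent.AlgSp2.ImmersionLocality
import Mathlib

set_option autoImplicit false
open CategoryTheory AlgebraicGeometry
universe u
open Unram

namespace Groth.Agent.S5049

/-- Let f : X ⟶ Y be flat, locally of finite type and locally quasi-finite. If the irreducible
components of Y form a locally finite family of subsets, then so do the irreducible components of X. -/
theorem result {X Y : Scheme.{u}} (f : X ⟶ Y)
    [Flat f] [LocallyOfFiniteType f] [LocallyQuasiFinite f]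
    (hY : LocallyFinite (fun Z : ↥(irreducibleComponents ↥Y) => (Z : Set ↥Y))) :
    LocallyFinite (fun Z : ↥(irreducibleComponents ↥X) => (Z : Set ↥X)) := by
  intro x
  obtain ⟨t, ht, hfin⟩ := hY (f x)
  obtain ⟨W, hWt, hWo, hfxW⟩ := mem_nhds_iff.1 ht
  obtain ⟨_, ⟨V : Y.Opens, hV, rfl⟩, hxV, hVW⟩ := Y.isBasis_affineOpens.exists_subset_of_mem_open hfxW hWo
  obtain ⟨_, ⟨U : X.Opens, hU, rfl⟩, hxU, hUV⟩ := X.isBasis_affineOpens.exists_subset_of_mem_open
    (show x ∈ f ⁻¹ᵁ V from hxV) (f ⁻¹ᵁ V).2
  have e : U ≤ f ⁻¹ᵁ V := hUV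
  haveI : IsAffine U := hU
  haveI : IsAffine V := hV
  let g := f.resLE V U e
  haveI : QuasiCompact g := inferInstance
  haveI : LocallyQuasiFinite g := by
    haveI : LocallyQuasiFinite (g ≫ V.ι) := by rw [Scheme.Hom.resLE_comp_ι]; infer_instance
    exact LocallyQuasiFinite.of_comp g V.ι
  haveI : Flat g := (inferInstance : Flat (X.homOfLE e ≫ f ∣_ V))
  have hgen := Groth.AlgSp2.generalizingMap_of_flat g
  let T : Set Y := {y | ∃ hc : closure {y} ∈ irreducibleComponents Y, (closure {y} ∩ t).Nonempty}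
  have hT : T.Finite := by
    refine Set.Finite.of_finite_image (f := fun y => closure ({y} : Set Y))
      ((hfin.image Subtype.val).subset ?_) ?_
    · rintro _ ⟨y, ⟨hc, hne⟩, rfl⟩
      exact ⟨⟨_, hc⟩, hne, rfl⟩
    · intro a _ b _ hab
      exact ((IsGenericPoint.eq (isGenericPoint_closure (x := a))) ((show closure ({b} : Set Y) = closure {a} from hab.symm) ▸ isGenericPoint_closure (x := b)))
  have key : ∀ η : X, closure {η} ∈ irreducibleComponents X → η ∈ U → f η ∈ T := by
    intro η hη hηU
    have hfV : f η ∈ V := e hηU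
    have hcomp : closure {f η} ∈ irreducibleComponents Y := by
      refine ⟨isIrreducible_singleton.closure, fun s hs hle => ?_⟩
      obtain ⟨y', hy'⟩ := QuasiSober.sober hs.closure isClosed_closure
      have hspec : y' ⤳ f η := hy'.specializes (subset_closure (hle (subset_closure rfl)))
      have hy'V : y' ∈ V := hspec.mem_open V.2 hfV
      let z : U.toScheme := ⟨η, hηU⟩
      have hgz : (g z).1 = f η := congr($(Scheme.Hom.resLE_comp_ι f e) z)
      have hspecV : (⟨y', hy'V⟩ : V.toScheme) ⤳ g z :=
        V.ι.isOpenEmbedding.isInducing.specializes_iff.1 (by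
          change y' ⤳ (g z).1
          rw [hgz]; exact hspec)
      obtain ⟨z', hz', hgz'⟩ := hgen hspecV
      have hz'' : z'.1 ⤳ η := hz'.map U.ι.continuous
      have heq : closure {η} = closure {z'.1} := subset_antisymm
        (closure_minimal (Set.singleton_subset_iff.2 (specializes_iff_mem_closure.1 hz'')) isClosed_closure)
        (hη.2 isIrreducible_singleton.closure
          (closure_minimal (Set.singleton_subset_iff.2 (specializes_iff_mem_closure.1 hz'')) isClosed_closure))
      have hzz : z' = z := Subtype.ext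
        ((IsGenericPoint.eq (isGenericPoint_closure (x := η))) (heq ▸ isGenericPoint_closure (x := z'.1))).symm
      rw [hzz] at hgz'
      have hy'eq : y' = f η := (congr_arg Subtype.val hgz').symm.trans hgz
      intro w hw
      have : w ∈ closure {y'} := hy'.def.ge (subset_closure hw)
      rwa [hy'eq] at this
    exact ⟨hcomp, f η, subset_closure rfl, hWt (hVW hfV)⟩
  refine ⟨U, U.2.mem_nhds hxU, ?_⟩
  have hG : {η : X | η ∈ U ∧ f η ∈ T}.Finite := by
    refine (((g.finite_preimage (hT.preimage (Subtype.val_injective.injOn))).image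
      (fun z : U.toScheme => z.1))).subset ?_
    rintro η ⟨hηU, hηT⟩
    exact ⟨⟨η, hηU⟩, by
      change (g ⟨η, hηU⟩).1 ∈ T
      rw [show (g ⟨η, hηU⟩).1 = f η from congr($(Scheme.Hom.resLE_comp_ι f e) (⟨η, hηU⟩ : U.toScheme))]
      exact hηT, rfl⟩
  refine Set.Finite.of_finite_image (f := Subtype.val) ((hG.image fun η => closure ({η} : Set X)).subset ?_)
    Subtype.val_injective.injOn
  rintro _ ⟨⟨Z, hZ⟩, ⟨w, hwZ, hwU⟩, rfl⟩
  obtain ⟨η, hη⟩ := QuasiSober.sober hZ.1 (isClosed_of_mem_irreducibleComponents Z hZ)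
  have hηU : η ∈ U := (hη.specializes hwZ).mem_open U.2 hwU
  exact ⟨η, ⟨hηU, key η (hη.def.symm ▸ hZ) hηU⟩, hη.def⟩

end Groth.Agent.S5049
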