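import Groth.Statements.S5050
import Mathlib
-- import your own Groth.Agent.* helpers here

set_option autoImplicit false
universe u v
open CInt

namespace Groth.Agent.S5050

/-- Let A be a Noetherian ring, N a finitely generated A-module, E and F submodules of N and Q an ideal
of A. For every natural number k there is h > 0 with E ⊓ (F ⊔ Q^h N) ≤ (E ⊓ F) ⊔ Q^k N. -/
theorem result {A : Type u} [CommRing A] [IsNoetherianRing A] {N : Type v} [AddCommGroup N]
    [Module A N] [Module.Finite A N] (E F : Submodule A N) (Q : Ideal A) (k : ℕ) :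
    ∃ h : ℕ, 0 < h ∧ E ⊓ (F ⊔ Q ^ h • (⊤ : Submodule A N)) ≤ (E ⊓ F) ⊔ Q ^ k • (⊤ : Submodule A N) := by
  obtain ⟨c, hc⟩ := Ideal.exists_pow_inf_eq_pow_smul Q (E ⊔ F)
  refine ⟨c + k + 1, Nat.succ_pos _, fun e he => ?_⟩
  obtain ⟨heE, heF⟩ := he
  obtain ⟨f, hf, q, hq, rfl⟩ := Submodule.mem_sup.mp heF
  have hqEF : q ∈ E ⊔ F := by
    have : q = (f + q) - f := by abel
    rw [this]
    exact sub_mem (Submodule.mem_sup_left heE) (Submodule.mem_sup_right hf)
  have h1 : q ∈ Q ^ k • E ⊔ Q ^ k • F := by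
    rw [← Submodule.smul_sup]
    have : q ∈ Q ^ (c + k + 1) • (⊤ : Submodule A N) ⊓ (E ⊔ F) := ⟨hq, hqEF⟩
    rw [hc _ (by omega)] at this
    exact Submodule.smul_mono (Ideal.pow_le_pow_right (by omega)) inf_le_right this
  obtain ⟨e', he', f', hf', rfl⟩ := Submodule.mem_sup.mp h1
  have : f + (e' + f') = (f + f') + e' := by abel
  rw [this]
  refine Submodule.add_mem_sup ⟨?_, add_mem hf (Submodule.smul_le_right hf')⟩
    (Submodule.smul_mono le_rfl le_top he')
  have : f + f' = (f + (e' + f')) - e' := by abel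
  rw [this]
  exact sub_mem heE (Submodule.smul_le_right he')

end Groth.Agent.S5050
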