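import Groth.Statements.S5055
import Groth.Agent.Ega418Omega.Etale

set_option autoImplicit false
universe u
open EGA418

namespace Groth.Agent.S5055

/-- Let k be a field, A a complete Noetherian local k-algebra of Krull dimension n whose residue field
is a finite extension of k, p a prime ideal distinct from the maximal ideal and containing a minimal
prime q with dim A/q = n, and Ω̂ the completion of the module of differentials of A over k. If the
A_p-module Ω̂_p is generated by n elements, then it is free of rank n and A_p is a geometrically
regular k-algebra. -/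
theorem result (k A : Type u) [Field k] [CommRing A]
    [IsLocalRing A] [IsNoetherianRing A] [Algebra k A] [IsAdicComplete (IsLocalRing.maximalIdeal A) A]
    [Module.Finite k (IsLocalRing.ResidueField A)]
    (n : ℕ) (hn : ringKrullDim A = n) (p : Ideal A) [p.IsPrime] (hp : p ≠ IsLocalRing.maximalIdeal A)
    (hq : ∃ q ∈ minimalPrimes A, q ≤ p ∧ ringKrullDim (A ⧸ q) = n)
    (hgen : ∃ s : Fin n → (LocalizedModule p.primeCompl (AdicCompletion (IsLocalRing.maximalIdeal A) (KaehlerDifferential k A))), Submodule.span (Localization.AtPrime p) (Set.range s) = ⊤) :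
    (Module.Free (Localization.AtPrime p) (LocalizedModule p.primeCompl (AdicCompletion (IsLocalRing.maximalIdeal A) (KaehlerDifferential k A))) ∧
      Module.finrank (Localization.AtPrime p) (LocalizedModule p.primeCompl (AdicCompletion (IsLocalRing.maximalIdeal A) (KaehlerDifferential k A))) = n) ∧
      CAlg.IsGeometricallyRegular k (Localization.AtPrime p) := by
  obtain ⟨s, hs⟩ := Groth.Ega418Omega.exists_span_localized_iff.mp hgen
  obtain ⟨q, hq1, hqp, hqd⟩ := hq
  haveI : q.IsPrime := hq1.1.1
  obtain ⟨_, _, -, _, hX, hun⟩ := Groth.Ega418Omega.exists_unramified_map (k := k) (p := p) hp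
    (Groth.Ega418Omega.finrank_le_of_gen s hs) hn.le
  haveI := hun
  haveI := Groth.Ega418Omega.isEtaleAt_of_isUnramifiedAt (k := k) p q hqp hqd
  exact Groth.Ega418Omega.free_and_geomRegular_of_isEtaleAt hX p

end Groth.Agent.S5055
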