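import Groth.Statements.S5056
import Groth.Agent.Ega4Algebra2.HenselFormalFibre

set_option autoImplicit false
universe u
open Hensel

namespace Groth.Agent.S5056

open TensorProduct in
/-- Base changes of the fraction field of the completion are domains. -/
theorem isDomain_tensor_frac (A : Type u) [CommRing A] [IsNoetherianRing A] [HenselianLocalRing A] [IsDomain A]
    (h : EGA4.HasGeomNormalFormalFibres A) [IsDomain (EGA4.Cpl A)]
    (K L : Type u) [Field K] [Field L] [Algebra A K] [IsFractionRing A K]
    [Algebra (EGA4.Cpl A) L] [IsFractionRing (EGA4.Cpl A) L] [Algebra K L] [Algebra A L]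
    [IsScalarTower A K L] [IsScalarTower A (EGA4.Cpl A) L]
    (K' : Type u) [Field K'] [Algebra K K'] : IsDomain (K' ⊗[K] L) := by
  letI : Algebra A K' := ((algebraMap K K').comp (algebraMap A K)).toAlgebra
  haveI : IsScalarTower A K K' := IsScalarTower.of_algebraMap_eq fun _ => rfl
  have hA : Function.Injective (algebraMap A K') :=
    (algebraMap K K').injective.comp (IsFractionRing.injective A K)
  let p : Ideal A := ⊥
  let j : p.ResidueField →ₐ[A] K' := Ideal.ResidueField.liftₐ p (Algebra.ofId A K') bot_le
    (fun x hx => isUnit_iff_ne_zero.mpr fun h0 => hx (hA (h0.trans (map_zero _).symm)))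
  letI : Algebra p.ResidueField K' := j.toRingHom.toAlgebra
  haveI : IsScalarTower A p.ResidueField K' := IsScalarTower.of_algebraMap_eq fun a => (j.commutes a).symm
  let D := K' ⊗[A] EGA4.Cpl A
  haveI hD : IsDomain D :=
    (Algebra.TensorProduct.cancelBaseChange A p.ResidueField K' K' (EGA4.Cpl A)).toRingEquiv.toMulEquiv.isDomain_iff.mp
      (Groth.Ega4b.HenselFib.isDomain_formalFibre A h p K')
  haveI := (Groth.Ega4b.HenselFib.faithfullyFlat_cpl A).toFlat
  let ψ := Algebra.TensorProduct.map (AlgHom.id A K') (IsScalarTower.toAlgHom A (EGA4.Cpl A) L)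
  letI : Algebra D (K' ⊗[A] L) := ψ.toRingHom.toAlgebra
  haveI : IsScalarTower K' D (K' ⊗[A] L) :=
    .of_algebraMap_eq fun l => by show l ⊗ₜ[A] (1 : L) = ψ (l ⊗ₜ[A] (1 : EGA4.Cpl A)); simp [ψ]
  haveI := IsLocalization.tensorProduct_tensorProduct_right A K' (nonZeroDivisors (EGA4.Cpl A)) L
    (by ext; simp [RingHom.algebraMap_toAlgebra, ψ, D])
  haveI : IsDomain (K' ⊗[A] L) := by
    refine IsLocalization.isDomain_of_le_nonZeroDivisors (R := D)
      (M := (nonZeroDivisors (EGA4.Cpl A)).map (Algebra.TensorProduct.includeRight (R := A) (A := K'))) (K' ⊗[A] L) ?_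
    rintro _ ⟨c, hc, rfl⟩
    refine mem_nonZeroDivisors_of_ne_zero ((map_ne_zero_iff _ ?_).mpr (nonZeroDivisors.ne_zero hc))
    exact Algebra.TensorProduct.includeRight_injective hA
  haveI : TensorProduct.CompatibleSMul A K K' L :=
    IsLocalization.tensorProduct_compatibleSMul (nonZeroDivisors A) K K' L
  exact (Algebra.TensorProduct.equivOfCompatibleSMul A K K' K' L).toRingEquiv.toMulEquiv.isDomain_iff.mpr inferInstance

/-- Let A be a Noetherian henselian local domain whose formal fibres are geometrically normal, Â its
completion (an integral domain), K and L fraction fields of A and Â with L a K-algebra compatibly.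
Then L is geometrically reduced over K (a separable extension) and every element of L algebraic over
K lies in K. -/
theorem result (A : Type u) [CommRing A] [IsNoetherianRing A]
    [HenselianLocalRing A] [IsDomain A] (h : EGA4.HasGeomNormalFormalFibres A) [IsDomain (EGA4.Cpl A)]
    (K L : Type u) [Field K] [Field L] [Algebra A K] [IsFractionRing A K]
    [Algebra (EGA4.Cpl A) L] [IsFractionRing (EGA4.Cpl A) L] [Algebra K L] [Algebra A L]
    [IsScalarTower A K L] [IsScalarTower A (EGA4.Cpl A) L] :
    Algebra.IsGeometricallyReduced K L ∧ ∀ x : L, IsAlgebraic K x → x ∈ Set.range (algebraMap K L) := by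
  refine ⟨?_, fun x hx => ?_⟩
  · rw [Algebra.isGeometricallyReduced_field_iff]
    haveI := isDomain_tensor_frac A h K L (AlgebraicClosure K)
    infer_instance
  let E := IntermediateField.adjoin K {x}
  haveI : FiniteDimensional K E := IntermediateField.adjoin.finiteDimensional hx.isIntegral
  haveI := isDomain_tensor_frac A h K L E
  let f := Algebra.TensorProduct.map (AlgHom.id K E) E.val
  have hf : Function.Injective f :=
    Module.Flat.lTensor_preserves_injective_linearMap (M := E) E.val.toLinearMap Subtype.val_injective
  haveI : IsDomain (TensorProduct K E E) := hf.isDomain f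
  haveI : IsArtinianRing (TensorProduct K E E) := isArtinian_of_tower K (inferInstance)
  letI : Field (TensorProduct K E E) := (IsArtinianRing.isField_of_isDomain (TensorProduct K E E)).toField
  let μ : TensorProduct K E E →ₐ[K] E := Algebra.TensorProduct.lmul' K
  have hμs : Function.Surjective μ := fun e => ⟨e ⊗ₜ[K] 1, by simp [μ]⟩
  have hμ : Function.Injective μ := RingHom.injective μ.toRingHom
  have hn := (LinearEquiv.ofBijective μ.toLinearMap ⟨hμ, hμs⟩).finrank_eq
  rw [Module.finrank_tensorProduct] at hn
  have hpos : 0 < Module.finrank K E := Module.finrank_pos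
  have h1 : Module.finrank K E = 1 := Nat.eq_of_mul_eq_mul_left hpos (hn.trans (mul_one _).symm)
  have hbot : E = ⊥ := IntermediateField.finrank_eq_one_iff.mp h1
  have hxE : x ∈ E := IntermediateField.subset_adjoin K _ rfl
  rw [hbot] at hxE
  exact hxE

end Groth.Agent.S5056
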