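import Groth.Statements.S5057
import Mathlib.AlgebraicGeometry.Morphisms.Finite
import Mathlib.AlgebraicGeometry.IdealSheaf.Subscheme

set_option autoImplicit false
open CategoryTheory CategoryTheory.Limits AlgebraicGeometry
universe u
open Hensel

namespace Groth.Agent.S5057

/-- Let i : S₀ ⟶ S be a closed immersion such that for every finite morphism g : S' ⟶ S every
open-closed subset of S' ×_S S₀ is the inverse image under the first projection of exactly one
open-closed subset of S'. Then for every finite morphism g : S' ⟶ S, every open subset of S'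
containing the image of S' ×_S S₀ is all of S'. -/
theorem result {S S₀ : Scheme.{u}} (i : S₀ ⟶ S) [IsClosedImmersion i]
    (ha : ∀ (S' : Scheme.{u}) (g : S' ⟶ S), IsFinite g →
      ∀ V : Set ↥(pullback g i), IsClopen V → ∃! U : Set ↥S', IsClopen U ∧ (pullback.fst g i).base ⁻¹' U = V)
    {S' : Scheme.{u}} (g : S' ⟶ S) [IsFinite g] (U : Set ↥S') (hU : IsOpen U)
    (hU₀ : Set.range (pullback.fst g i).base ⊆ U) : U = Set.univ := by
  by_contra hne
  obtain ⟨z₀, hz₀⟩ := (Set.ne_univ_iff_exists_notMem U).mp hne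
  let Z : TopologicalSpace.Closeds S' := ⟨Uᶜ, hU.isClosed_compl⟩
  let J := Scheme.IdealSheafData.vanishingIdeal Z
  let j := J.subschemeι
  have hj : Set.range j.base = Uᶜ := by
    rw [Scheme.IdealSheafData.range_subschemeι, Scheme.IdealSheafData.coe_support_vanishingIdeal]
    rfl
  have hempty : IsEmpty ↥(pullback (j ≫ g) i) := ⟨fun w => by
    let m : pullback (j ≫ g) i ⟶ pullback g i :=
      pullback.map _ _ _ _ j (𝟙 _) (𝟙 _) (by simp) (by simp)
    have h1 : (pullback.fst g i).base (m.base w) = j.base ((pullback.fst (j ≫ g) i).base w) := by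
      rw [← Scheme.Hom.comp_apply, pullback.lift_fst, Scheme.Hom.comp_apply]
    have h2 : j.base ((pullback.fst (j ≫ g) i).base w) ∈ Uᶜ := hj ▸ Set.mem_range_self _
    exact h2 (h1 ▸ hU₀ (Set.mem_range_self _))⟩
  obtain ⟨U₁, -, hu⟩ := ha J.subscheme (j ≫ g) inferInstance ∅ isClopen_empty
  have h3 := (hu ∅ ⟨isClopen_empty, Set.preimage_empty⟩).trans
    (hu Set.univ ⟨isClopen_univ, Set.eq_empty_of_isEmpty _⟩).symm
  obtain ⟨w, -⟩ : z₀ ∈ Set.range j.base := hj ▸ hz₀
  exact Set.eq_empty_iff_forall_notMem.mp h3.symm w trivial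

end Groth.Agent.S5057
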