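import Groth.Statements.S5058
import Groth.Agent.SpectralTopology.CanDescend
import Groth.Agent.Hensel1.Universal
import Groth.Agent.Hensel1.Noetherian

set_option autoImplicit false
open CategoryTheory CategoryTheory.Limits AlgebraicGeometry
universe u
open Hensel

namespace Groth.Agent.S5058

/-- Let A be a henselian local ring and f : X ⟶ Spec A a morphism of finite presentation. Then there
exist a Noetherian henselian local ring A₀, a local ring homomorphism φ : A₀ → A, a morphism of
finite type f₀ : X₀ ⟶ Spec A₀ and a cartesian square exhibiting X as the base change of X₀ along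
Spec φ. -/
theorem result (A : Type u) [CommRing A] [HenselianLocalRing A]
    {X : Scheme.{u}} (f : X ⟶ Spec (CommRingCat.of A)) [LocallyOfFinitePresentation f] [QuasiCompact f] [QuasiSeparated f] :
    ∃ (A₀ : Type u) (_ : CommRing A₀) (_ : HenselianLocalRing A₀) (_ : IsNoetherianRing A₀) (φ : A₀ →+* A) (_ : IsLocalHom φ)
      (X₀ : Scheme.{u}) (f₀ : X₀ ⟶ Spec (CommRingCat.of A₀)) (g : X ⟶ X₀),
      LocallyOfFiniteType f₀ ∧ QuasiCompact f₀ ∧ IsPullback g f f₀ (Spec.map (CommRingCat.ofHom φ)) := by
  classical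
  obtain ⟨i, Xi, fi, g, hlfp, hqc, -, hsq⟩ :=
    Groth.SpectralTopology.canDescend (CommRingCat.of A) X f ‹_› ‹_› ‹_›
  let B := i.unop.1
  have : Algebra.FiniteType ℤ B := i.unop.1.fg_iff_finiteType.1 i.unop.2
  have : IsNoetherianRing B := Algebra.FiniteType.isNoetherianRing ℤ _
  let ι : B →+* A := B.val.toRingHom
  let p : Ideal B := (IsLocalRing.maximalIdeal A).comap ι
  have : p.IsPrime := Ideal.IsPrime.comap ι
  let R := Localization.AtPrime p
  have : IsNoetherianRing R := IsLocalization.isNoetherianRing p.primeCompl R inferInstance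
  have hu : ∀ y : p.primeCompl, IsUnit (ι y) := fun y =>
    IsLocalRing.notMem_maximalIdeal.mp y.2
  let ρ : R →+* A := IsLocalization.lift hu
  let _ : Algebra R A := ρ.toAlgebra
  have hρ : IsLocalHom ρ := ⟨fun x hx => by
    obtain ⟨b, s, rfl⟩ := IsLocalization.exists_mk'_eq p.primeCompl x
    have h1 : ρ (IsLocalization.mk' R b s) * ι s = ι b := by
      rw [← IsLocalization.lift_eq (S := R) hu (s : B), ← map_mul, IsLocalization.mk'_spec,
        IsLocalization.lift_eq]
    have h2 : IsUnit (ι b) := h1 ▸ hx.mul (hu s)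
    exact (IsLocalization.AtPrime.isUnit_mk'_iff R p b s).mpr fun h => h h2⟩
  have : IsLocalHom (algebraMap R A) := hρ
  obtain ⟨ψ, hψ, -⟩ := Groth.Hensel1.Hens.existsUnique_lift (R := R) (Ω := IsLocalRing.ResidueField R) (T := A)
    (IsLocalRing.ResidueField.map ρ) (fun r => IsLocalRing.ResidueField.map_residue ρ r)
  let A₀ := Groth.Hensel1.Hens R (IsLocalRing.ResidueField R)
  have hN : IsNoetherianRing A₀ := Groth.Hensel1.Hens.isNoetherianRing
  have hloc : IsLocalHom ψ.toRingHom := ⟨fun x hx => by
    rw [Groth.Hensel1.Hens.isUnit_iff]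
    intro h0
    have := hψ x
    rw [h0, map_zero] at this
    exact IsLocalRing.notMem_maximalIdeal.mpr hx (Ideal.Quotient.eq_zero_iff_mem.mp this)⟩
  let γ : B →+* A₀ := (algebraMap R A₀).comp (algebraMap B R)
  have hγ : ψ.toRingHom.comp γ = ι := RingHom.ext fun b => by
    show ψ (algebraMap R A₀ (algebraMap B R b)) = ι b
    rw [AlgHom.commutes]
    exact IsLocalization.lift_eq hu b
  let m : Spec (CommRingCat.of A₀) ⟶ (Groth.SpectralTopology.fgSchemes (CommRingCat.of A)).obj i :=
    Spec.map (CommRingCat.ofHom γ)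
  have hm : Spec.map (CommRingCat.ofHom ψ.toRingHom) ≫ m =
      (Groth.SpectralTopology.fgCone (CommRingCat.of A)).π.app i := by
    refine (Spec.map_comp (CommRingCat.ofHom γ) (CommRingCat.ofHom ψ.toRingHom)).symm.trans ?_
    refine (congrArg Spec.map (?_ : _ = CommRingCat.ofHom ι)).trans rfl
    rw [← CommRingCat.ofHom_comp]
    exact congrArg _ hγ
  have : LocallyOfFinitePresentation fi := hlfp
  have : QuasiCompact fi := hqc
  refine ⟨A₀, inferInstance, inferInstance, hN, ψ.toRingHom, hloc, pullback fi m, pullback.snd fi m,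
    pullback.lift g (f ≫ Spec.map (CommRingCat.ofHom ψ.toRingHom)) (by rw [Category.assoc, hm]; exact hsq.w),
    inferInstance, inferInstance, ?_⟩
  refine IsPullback.of_right ?_ (pullback.lift_snd _ _ _) (IsPullback.of_hasPullback fi m)
  rw [pullback.lift_fst, hm]
  exact hsq

end Groth.Agent.S5058
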