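import Groth.Statements.S5061
import Groth.Agent.GrpschAbsch.PerfectReduced
import Mathlib.RingTheory.TensorProduct.Quotient
import Mathlib.RingTheory.Noetherian.OfPrime
import Mathlib.RingTheory.HopkinsLevitzki
import Mathlib.FieldTheory.IsPerfectClosure
import Mathlib.FieldTheory.PurelyInseparable.Basic
-- import your own Groth.Agent.* helpers here

set_option autoImplicit false
open scoped TensorProduct
universe u
open EGA418

namespace Groth.Agent.S5061

section Helpers

open TensorProduct Algebra.TensorProduct

variable (p : ℕ) [Fact p.Prime] (k K : Type u) [Field k] [CharP k p] [Field K] [Algebra k K]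
  (P : Type u) [Field P] [Algebra k P] [PerfectRing P p] [IsPRadical (algebraMap k P) p]

include p in
theorem exists_pow_eq (z : P ⊗[k] K) : ∃ (e : ℕ) (c : K), z ^ p ^ e = 1 ⊗ₜ c := by
  have : Nontrivial (P ⊗[k] K) :=
    (includeRight_injective (R := k) (A := P) (B := K) (RingHom.injective _)).nontrivial
  have : CharP (P ⊗[k] K) p := charP_of_injective_algebraMap (algebraMap k (P ⊗[k] K)).injective p
  have : ExpChar (P ⊗[k] K) p := ExpChar.prime Fact.out
  induction z using TensorProduct.induction_on with
  | zero => exact ⟨0, 0, by simp⟩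
  | tmul x b =>
    obtain ⟨n, y, hy⟩ := IsPRadical.pow_mem (algebraMap k P) p x
    refine ⟨n, y • b ^ p ^ n, ?_⟩
    rw [tmul_pow, ← hy, Algebra.algebraMap_eq_smul_one, smul_tmul]
  | add u v hu hv =>
    obtain ⟨e, c, hc⟩ := hu
    obtain ⟨f, d, hd⟩ := hv
    refine ⟨e + f, c ^ p ^ f + d ^ p ^ e, ?_⟩
    have h1 : u ^ p ^ (e + f) = (1 : P) ⊗ₜ (c ^ p ^ f) := by
      rw [pow_add, pow_mul, hc, tmul_pow, one_pow]
    have h2 : v ^ p ^ (e + f) = (1 : P) ⊗ₜ (d ^ p ^ e) := by
      rw [add_comm e f, pow_add, pow_mul, hd, tmul_pow, one_pow]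
    rw [add_pow_expChar_pow, h1, h2, tmul_add]

include p in
theorem prime_eq_nilradical (Q : Ideal (P ⊗[k] K)) (hQ : Q.IsPrime) : Q = nilradical _ := by
  refine le_antisymm (fun z hz => ?_) (nilradical_le_prime Q)
  obtain ⟨e, c, hc⟩ := exists_pow_eq p k K P z
  rw [mem_nilradical]
  by_cases h : c = 0
  · exact ⟨p ^ e, by rw [hc, h, tmul_zero]⟩
  · exfalso
    refine hQ.ne_top (Ideal.eq_top_of_isUnit_mem _ (Ideal.pow_mem_of_mem _ hz (p ^ e)
      (pow_pos (Fact.out : p.Prime).pos e)) ?_)
    rw [hc]
    exact (isUnit_iff_ne_zero.2 h).map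
      (includeRight : K →ₐ[k] P ⊗[k] K)

include p in
theorem isArtinianRing_of_fg (h : (nilradical (P ⊗[k] K)).FG) : IsArtinianRing (P ⊗[k] K) := by
  have : IsNoetherianRing (P ⊗[k] K) :=
    IsNoetherianRing.of_prime fun Q hQ => prime_eq_nilradical p k K P Q hQ ▸ h
  have : Ring.KrullDimLE 0 (P ⊗[k] K) := Ring.KrullDimLE.mk₀ fun Q hQ => by
    obtain ⟨M, hM, hQM⟩ := Ideal.exists_le_maximal Q hQ.ne_top
    rw [prime_eq_nilradical p k K P Q hQ, ← prime_eq_nilradical p k K P M hM.isPrime]
    exact hM
  exact isArtinianRing_iff_isNoetherianRing_krullDimLE_zero.2 ⟨‹_›, ‹_›⟩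

omit [Fact p.Prime] [CharP k p] [PerfectRing P p] [IsPRadical (algebraMap k P) p] in
theorem mem_range_map_of_finset (z : P ⊗[k] K) :
    ∃ T : Finset P, z ∈ (Algebra.TensorProduct.map (IntermediateField.adjoin k (T : Set P)).val
      (AlgHom.id k K)).range := by
  classical
  induction z using TensorProduct.induction_on with
  | zero => exact ⟨∅, zero_mem _⟩
  | tmul x b =>
    exact ⟨{x}, ⟨x, IntermediateField.subset_adjoin k _ (by simp)⟩ ⊗ₜ b, rfl⟩
  | add u v hu hv =>
    obtain ⟨S, hS⟩ := hu
    obtain ⟨T, hT⟩ := hv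
    have hle : ∀ (A B : Finset P), A ⊆ B → ∀ z, z ∈ (Algebra.TensorProduct.map
        (IntermediateField.adjoin k (A : Set P)).val (AlgHom.id k K)).range →
        z ∈ (Algebra.TensorProduct.map (IntermediateField.adjoin k (B : Set P)).val
          (AlgHom.id k K)).range := by
      rintro A B hAB _ ⟨w, rfl⟩
      refine ⟨Algebra.TensorProduct.map (IntermediateField.inclusion
        (IntermediateField.adjoin.mono _ _ _ (Finset.coe_subset.2 hAB))) (AlgHom.id k K) w, ?_⟩
      simp only [AlgHom.toRingHom_eq_coe, RingHom.coe_coe]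
      induction w using TensorProduct.induction_on with
      | zero => simp
      | tmul a b => simp
      | add a b ha hb => rw [map_add, map_add, map_add, ha, hb]
    exact ⟨S ∪ T, add_mem (hle _ _ Finset.subset_union_left _ hS)
      (hle _ _ Finset.subset_union_right _ hT)⟩

omit [Fact p.Prime] [CharP k p] [PerfectRing P p] [IsPRadical (algebraMap k P) p] in
/-- `P ⊗_E (R/I)` is reduced iff the extension of `I` is the nilradical, for nilpotent `I`. -/
theorem isReduced_tensor_quotient_iff {E : Type u} [Field E] [Algebra E P] {R : Type u} [CommRing R]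
    [Algebra E R] :
    IsReduced (P ⊗[E] (R ⧸ nilradical R)) ↔
      nilradical (P ⊗[E] R) ≤ (nilradical R).map (includeRight : R →ₐ[E] P ⊗[E] R) := by
  let e := Algebra.TensorProduct.tensorQuotientEquiv (R := E) P R P (nilradical R)
  constructor
  · intro h z hz
    rw [← Ideal.Quotient.eq_zero_iff_mem]
    have := (mem_nilradical.1 hz).map (e.symm.toAlgHom.comp (Ideal.Quotient.mkₐ P _))
    have h0 := this.eq_zero
    simp only [AlgHom.coe_comp, Function.comp_apply, Ideal.Quotient.mkₐ_eq_mk] at h0
    exact e.symm.injective (h0.trans (map_zero e.symm).symm)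
  · intro h
    have h2 : IsReduced ((P ⊗[E] R) ⧸ (nilradical R).map (includeRight : R →ₐ[E] P ⊗[E] R)) := by
      refine ⟨fun z ⟨n, hn⟩ => ?_⟩
      obtain ⟨z, rfl⟩ := Ideal.Quotient.mk_surjective z
      rw [← map_pow, Ideal.Quotient.eq_zero_iff_mem] at hn
      rw [Ideal.Quotient.eq_zero_iff_mem]
      refine h (mem_nilradical.2 ?_)
      have hle : (nilradical R).map (includeRight : R →ₐ[E] P ⊗[E] R) ≤ nilradical (P ⊗[E] R) :=
        Ideal.map_le_iff_le_comap.2 fun r hr => mem_nilradical.2 ((mem_nilradical.1 hr).map _)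
      exact IsNilpotent.of_pow (mem_nilradical.1 (hle hn))
    exact isReduced_of_injective e e.injective

theorem geomReduced_core {E : Type u} [Field E] [Algebra k E] [Algebra E P] [IsScalarTower k E P]
    (G : Finset (P ⊗[k] K)) (hG : Submodule.span (P ⊗[k] K) (G : Set (P ⊗[k] K)) = nilradical _)
    (hT : ∀ g ∈ G, ∃ w, Algebra.TensorProduct.map (IsScalarTower.toAlgHom k E P) (AlgHom.id k K) w = g)
    [Algebra.IsAlgebraic k P] [PerfectField P] :
    Algebra.IsGeometricallyReduced E ((E ⊗[k] K) ⧸ nilradical (E ⊗[k] K)) := by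
  have hinj : Function.Injective (Algebra.TensorProduct.map (IsScalarTower.toAlgHom k E P) (AlgHom.id k K)) :=
    Module.Flat.rTensor_preserves_injective_linearMap (IsScalarTower.toAlgHom k E P).toLinearMap (IsScalarTower.toAlgHom k E P).toRingHom.injective
  let e := Algebra.TensorProduct.cancelBaseChange k E P P K
  have hinc : ∀ r, e (Algebra.TensorProduct.includeRight r) = Algebra.TensorProduct.map (IsScalarTower.toAlgHom k E P) (AlgHom.id k K) r := by
    intro r
    induction r using TensorProduct.induction_on with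
    | zero => simp
    | tmul a b =>
      rw [Algebra.TensorProduct.includeRight_apply, Algebra.TensorProduct.cancelBaseChange_tmul, Algebra.smul_def,
        mul_one]
      rfl
    | add a b ha hb => rw [map_add, map_add, map_add, ha, hb]
  have hred : IsReduced (P ⊗[E] ((E ⊗[k] K) ⧸ nilradical (E ⊗[k] K))) := by
    rw [isReduced_tensor_quotient_iff]
    intro z hz
    have hz' : e z ∈ Ideal.span (G : Set (P ⊗[k] K)) := by
      rw [← Ideal.submodule_span_eq, hG]
      exact mem_nilradical.2 ((mem_nilradical.1 hz).map e)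
    have hsub : Ideal.span (G : Set (P ⊗[k] K)) ≤
        ((nilradical (E ⊗[k] K)).map (Algebra.TensorProduct.includeRight : E ⊗[k] K →ₐ[E] P ⊗[E] (E ⊗[k] K))).map e := by
      rw [Ideal.span_le]
      intro g hg
      obtain ⟨w', hw'⟩ := hT g hg
      have hgn : IsNilpotent g := mem_nilradical.1 (hG ▸ Submodule.subset_span hg)
      have hwn : w' ∈ nilradical (E ⊗[k] K) := by
        obtain ⟨n, hn⟩ := hgn
        exact mem_nilradical.2 ⟨n, hinj (by rw [map_pow, hw', hn, map_zero])⟩
      rw [← hw', ← hinc]
      exact Ideal.mem_map_of_mem _ (Ideal.mem_map_of_mem _ hwn)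
    obtain ⟨z', hz'', hze⟩ :=
      (Ideal.mem_map_iff_of_surjective e e.surjective).1 (hsub hz')
    exact e.injective hze ▸ hz''
  have := Groth.GrpschAbsch.isGeometricallyReduced_of_perfectField P
    (P ⊗[E] ((E ⊗[k] K) ⧸ nilradical (E ⊗[k] K)))
  rw [Algebra.isGeometricallyReduced_field_iff]
  have hAC : IsReduced (AlgebraicClosure P ⊗[E] ((E ⊗[k] K) ⧸ nilradical (E ⊗[k] K))) :=
    isReduced_of_injective (Algebra.TensorProduct.cancelBaseChange E P P (AlgebraicClosure P) _).symm
      (Algebra.TensorProduct.cancelBaseChange E P P (AlgebraicClosure P) _).symm.injective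
  have : Algebra.IsAlgebraic E P := Algebra.IsAlgebraic.tower_top (K := k) E
  have : IsAlgClosure E (AlgebraicClosure P) :=
    ⟨inferInstance, Algebra.IsAlgebraic.trans E P (AlgebraicClosure P)⟩
  let σ : AlgebraicClosure E ≃ₐ[E] AlgebraicClosure P := IsAlgClosure.equiv E _ _
  exact isReduced_of_injective (Algebra.TensorProduct.congr σ AlgEquiv.refl)
    (Algebra.TensorProduct.congr σ AlgEquiv.refl).injective

end Helpers

/-- a) iff c): let k be a field of characteristic p > 0, P a perfect closure of k (a perfect field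
purely inseparable over k) and K an extension field of k. Then the ring K ⊗_k P is Artinian if and
only if there exists a finite purely inseparable extension k' of k such that (k' ⊗_k K) modulo its
nilradical is geometrically reduced over k'. -/
theorem result (p : ℕ) [Fact p.Prime]
    (k K : Type u) [Field k] [CharP k p] [Field K] [Algebra k K]
    (P : Type u) [Field P] [Algebra k P] [PerfectRing P p] [IsPRadical (algebraMap k P) p] :
    IsArtinianRing (K ⊗[k] P) ↔
      ∃ (k' : Type u) (_ : Field k') (_ : Algebra k k'), Module.Finite k k' ∧ IsPurelyInseparable k k' ∧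
        Algebra.IsGeometricallyReduced k' ((k' ⊗[k] K) ⧸ nilradical (k' ⊗[k] K)) := by
  let c : K ⊗[k] P ≃ₐ[k] P ⊗[k] K := Algebra.TensorProduct.comm k K P
  have : IsPurelyInseparable k P := IsPRadical.isPurelyInseparable (p := p) k P
  have : PerfectField P :=
    have : CharP P p := charP_of_injective_algebraMap (algebraMap k P).injective p
    have : ExpChar P p := ExpChar.prime Fact.out
    PerfectRing.toPerfectField P p
  constructor
  · intro h
    have hA : IsArtinianRing (P ⊗[k] K) :=
      Function.Surjective.isArtinianRing (f := c.toRingEquiv.toRingHom) c.surjective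
    classical
    obtain ⟨G, hG⟩ := (IsNoetherian.noetherian (nilradical (P ⊗[k] K)) :
      (nilradical (P ⊗[k] K)).FG)
    choose T hT using mem_range_map_of_finset k K P
    let E := IntermediateField.adjoin k ((G.biUnion T : Finset P) : Set P)
    have : FiniteDimensional k E :=
      IntermediateField.finiteDimensional_adjoin fun x _ => Algebra.IsIntegral.isIntegral x
    have : IsPurelyInseparable k E := IsPurelyInseparable.tower_bot k E P
    refine ⟨E, inferInstance, inferInstance, inferInstance, inferInstance, ?_⟩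
    refine geomReduced_core k K P G hG fun g hg => ?_
    obtain ⟨w, hw⟩ := hT g
    refine ⟨Algebra.TensorProduct.map (IntermediateField.inclusion
      (IntermediateField.adjoin.mono k _ _
        (Finset.coe_subset.2 (Finset.subset_biUnion_of_mem T hg)))) (AlgHom.id k K) w, ?_⟩
    refine Eq.trans ?_ hw
    rw [← AlgHom.comp_apply, ← Algebra.TensorProduct.map_comp]
    rfl
  · rintro ⟨k', _, _, hfin, hpi, hgr⟩
    have : CharP k' p := charP_of_injective_algebraMap (algebraMap k k').injective p
    have : ExpChar k' p := ExpChar.prime Fact.out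
    have : ExpChar k p := ExpChar.prime Fact.out
    have : IsPRadical (algebraMap k k') p := IsPurelyInseparable.isPRadical k k' p
    have : CharP P p := charP_of_injective_algebraMap (algebraMap k P).injective p
    have : ExpChar P p := ExpChar.prime Fact.out
    let f : k' →+* P := PerfectRing.lift (algebraMap k k') (algebraMap k P) p
    let : Algebra k' P := f.toAlgebra
    have : IsScalarTower k k' P := IsScalarTower.of_algebraMap_eq fun x =>
      (PerfectRing.lift_comp_apply (algebraMap k k') (algebraMap k P) p x).symm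
    have : Algebra.IsAlgebraic k' P := Algebra.IsAlgebraic.tower_top (K := k) k'
    have hred : IsReduced (P ⊗[k'] ((k' ⊗[k] K) ⧸ nilradical (k' ⊗[k] K))) := inferInstance
    rw [isReduced_tensor_quotient_iff] at hred
    have : IsNoetherianRing (k' ⊗[k] K) :=
      have : IsNoetherianRing (K ⊗[k] k') := IsNoetherianRing.of_finite K _
      isNoetherianRing_of_ringEquiv (K ⊗[k] k') (Algebra.TensorProduct.comm k K k').toRingEquiv
    have hle : (nilradical (k' ⊗[k] K)).map
        (Algebra.TensorProduct.includeRight : k' ⊗[k] K →ₐ[k'] P ⊗[k'] (k' ⊗[k] K)) ≤ nilradical _ :=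
      Ideal.map_le_iff_le_comap.2 fun r hr => mem_nilradical.2 ((mem_nilradical.1 hr).map _)
    have hfg : (nilradical (P ⊗[k'] (k' ⊗[k] K))).FG := by
      rw [le_antisymm hred hle]
      exact Ideal.FG.map (IsNoetherian.noetherian (nilradical (k' ⊗[k] K))) _
    let e := Algebra.TensorProduct.cancelBaseChange k k' P P K
    have hfg' : (nilradical (P ⊗[k] K)).FG := by
      have : nilradical (P ⊗[k] K) = (nilradical (P ⊗[k'] (k' ⊗[k] K))).map e.toRingEquiv.toRingHom := by
        refine le_antisymm (fun z hz => ?_)
          (Ideal.map_le_iff_le_comap.2 fun r hr => mem_nilradical.2 ((mem_nilradical.1 hr).map _))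
        have hzs : e.symm z ∈ nilradical (P ⊗[k'] (k' ⊗[k] K)) :=
          mem_nilradical.2 ((mem_nilradical.1 hz).map e.symm)
        have := Ideal.mem_map_of_mem e.toRingEquiv.toRingHom hzs
        simpa using this
      rw [this]
      exact hfg.map _
    have := isArtinianRing_of_fg p k K P hfg'
    exact Function.Surjective.isArtinianRing (f := c.symm.toRingEquiv.toRingHom) c.symm.surjective

end Groth.Agent.S5061
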