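import Groth.Statements.S5062
import Groth.Agent.Hensel1.SepPoints
import Mathlib.AlgebraicGeometry.Morphisms.Etale
import Mathlib.RingTheory.Etale.StandardEtale
import Mathlib.RingTheory.AdjoinRoot

set_option autoImplicit false
open CategoryTheory AlgebraicGeometry
universe u
open Hensel

namespace Groth.Agent.S5062

open scoped TensorProduct

/-- Points of étale algebras over strictly henselian rings lift. -/
theorem exists_point (A B : Type u) [CommRing A] [HenselianLocalRing A]
    [IsSepClosed (IsLocalRing.ResidueField A)] [CommRing B] [Algebra A B] [Algebra.Etale A B]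
    (p : Ideal B) [p.IsPrime] (hp : p.comap (algebraMap A B) = IsLocalRing.maximalIdeal A) :
    ∃ φ : B →ₐ[A] A, (IsLocalRing.maximalIdeal A).comap φ.toRingHom = p := by
  let k := IsLocalRing.ResidueField A
  let K := p.ResidueField
  let _ : Algebra k K := (Ideal.Quotient.lift (IsLocalRing.maximalIdeal A) (algebraMap A K)
    (fun a ha => by
      rw [IsScalarTower.algebraMap_apply A B K, ← RingHom.mem_ker, Ideal.ker_algebraMap_residueField]
      rw [← hp] at ha
      exact ha)).toAlgebra
  have : IsScalarTower A k K := .of_algebraMap_eq fun _ => rfl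
  let ψ : k ⊗[A] B →ₐ[k] K :=
    Algebra.TensorProduct.lift (Algebra.ofId k K) (IsScalarTower.toAlgHom A B K) fun _ _ => .all _ _
  obtain ⟨c, hc⟩ := Groth.Hensel1.exists_algHom_of_isSepClosed ψ
  let σ : B →ₐ[A] k := (c.restrictScalars A).comp Algebra.TensorProduct.includeRight
  obtain ⟨φ, hφ, -⟩ := Groth.Hensel1.existsUnique_algHom_lift_residue σ
  refine ⟨φ, Ideal.ext fun b => ?_⟩
  have h1 : algebraMap k K (σ b) = algebraMap B K b := by
    show (Algebra.ofId k K).comp c ((1 : k) ⊗ₜ[A] b) = _
    rw [hc]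
    simp [ψ]
  show φ b ∈ IsLocalRing.maximalIdeal A ↔ b ∈ p
  rw [← IsLocalRing.residue_eq_zero_iff, hφ, ← map_eq_zero_iff _ (algebraMap k K).injective, h1,
    ← RingHom.mem_ker, Ideal.ker_algebraMap_residueField]

/-- Sections of standard étale algebras give roots. -/
theorem exists_root_of_sections (A : Type u) [CommRing A] [IsLocalRing A]
    (h : ∀ (X : Scheme.{u}) (f : X ⟶ Spec (CommRingCat.of A)), Etale f →
        ∀ x : X, f.base x = IsLocalRing.closedPoint A →
          ∃ u : Spec (CommRingCat.of A) ⟶ X, u ≫ f = 𝟙 _ ∧ u.base (IsLocalRing.closedPoint A) = x)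
    (P : Polynomial A) (hP : P.Monic) (Ω : Type u) [Field Ω] [Algebra A Ω]
    [Algebra (IsLocalRing.ResidueField A) Ω] [IsScalarTower A (IsLocalRing.ResidueField A) Ω]
    (z : Ω) (hz : Polynomial.aeval z P = 0) (hz' : Polynomial.aeval z P.derivative ≠ 0) :
    ∃ r : A, P.IsRoot r ∧
      ∀ F : Polynomial A, Polynomial.aeval z F = 0 → IsLocalRing.residue A (F.eval r) = 0 := by
  let E : StandardEtalePair A :=
    { f := P, monic_f := hP, g := P.derivative, cond := ⟨1, 0, 1, by ring⟩ }
  let σ : E.Ring →ₐ[A] Ω := E.lift z ⟨hz, IsUnit.mk0 _ hz'⟩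
  let x : PrimeSpectrum E.Ring := ⟨RingHom.ker σ.toRingHom, RingHom.ker_isPrime _⟩
  have hE : Etale (Spec.map (CommRingCat.ofHom (algebraMap A E.Ring))) := by
    rw [HasRingHomProperty.Spec_iff (P := @Etale)]
    exact RingHom.etale_algebraMap.mpr inferInstance
  obtain ⟨u, hu, hux⟩ := h _ _ hE x (by
    refine PrimeSpectrum.ext ?_
    show (RingHom.ker σ.toRingHom).comap (algebraMap A E.Ring) = IsLocalRing.maximalIdeal A
    rw [RingHom.comap_ker, show σ.toRingHom.comp (algebraMap A E.Ring) =
      (algebraMap (IsLocalRing.ResidueField A) Ω).comp (IsLocalRing.residue A) from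
      σ.comp_algebraMap.trans (IsScalarTower.algebraMap_eq A (IsLocalRing.ResidueField A) Ω),
      RingHom.ker_comp_of_injective _ (algebraMap (IsLocalRing.ResidueField A) Ω).injective,
      IsLocalRing.ker_residue])
  let φ : CommRingCat.of E.Ring ⟶ CommRingCat.of A := Spec.preimage u
  have hφ : CommRingCat.ofHom (algebraMap A E.Ring) ≫ φ = 𝟙 _ := by
    apply Spec.map_injective
    rw [Spec.map_comp, Spec.map_preimage, hu, Spec.map_id]
  let φₐ : E.Ring →ₐ[A] A :=
    { φ.hom with commutes' := fun a => DFunLike.congr_fun (congrArg CommRingCat.Hom.hom hφ) a }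
  have hker : ∀ b : E.Ring, IsLocalRing.residue A (φₐ b) = 0 ↔ σ b = 0 := fun b => by
    have h1 : (Spec.map φ).base (IsLocalRing.closedPoint A) = x := by rw [Spec.map_preimage]; exact hux
    have h2 := congrArg PrimeSpectrum.asIdeal h1
    rw [IsLocalRing.residue_eq_zero_iff]
    exact SetLike.ext_iff.mp h2 b
  have hev : ∀ F : Polynomial A, F.eval (φₐ E.X) = φₐ (Polynomial.aeval E.X F) := fun F => by
    rw [← Polynomial.aeval_algHom_apply, Polynomial.coe_aeval_eq_eval]
  refine ⟨φₐ E.X, ?_, fun F hF => ?_⟩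
  · show P.eval (φₐ E.X) = 0
    rw [hev, E.hasMap_X.1, map_zero]
  · rw [hev, hker, ← Polynomial.aeval_algHom_apply, show σ E.X = z from E.lift_X z _, hF]

/-- a) iff c): a local ring A is henselian with separably closed residue field if and only if, for every
étale morphism f : X ⟶ Spec A and every point x of X lying over the closed point s, there is a
section u of f with u s = x. -/
theorem result (A : Type u) [CommRing A] [IsLocalRing A] :
    (HenselianLocalRing A ∧ IsSepClosed (IsLocalRing.ResidueField A)) ↔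
      ∀ (X : Scheme.{u}) (f : X ⟶ Spec (CommRingCat.of A)), Etale f →
        ∀ x : X, f.base x = IsLocalRing.closedPoint A →
          ∃ u : Spec (CommRingCat.of A) ⟶ X, u ≫ f = 𝟙 _ ∧ u.base (IsLocalRing.closedPoint A) = x := by
  classical
  constructor
  · rintro ⟨_, _⟩ X f _ x hx
    obtain ⟨_, ⟨V, hV, rfl⟩, hxV, -⟩ :=
      X.isBasis_affineOpens.exists_subset_of_mem_open (Set.mem_univ x) isOpen_univ
    replace hV : IsAffineOpen V := hV
    have : Etale f := ‹_›
    let a : CommRingCat.of A ⟶ Γ(X, V) := Spec.preimage (hV.fromSpec ≫ f)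
    have ha : Spec.map a = hV.fromSpec ≫ f := Spec.map_preimage _
    have het : a.hom.Etale := by
      rw [← HasRingHomProperty.Spec_iff (P := @Etale), ha]
      infer_instance
    algebraize [a.hom]
    obtain ⟨φ, hφ⟩ := exists_point A Γ(X, V) (hV.primeIdealOf ⟨x, hxV⟩).asIdeal (by
      have h1 : (Spec.map a).base (hV.primeIdealOf ⟨x, hxV⟩) = IsLocalRing.closedPoint A := by
        rw [ha]
        refine (Scheme.Hom.comp_apply _ _ _).trans ?_
        exact (congrArg f.base (hV.fromSpec_primeIdealOf ⟨x, hxV⟩)).trans hx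
      exact congrArg PrimeSpectrum.asIdeal h1)
    refine ⟨Spec.map (CommRingCat.ofHom φ.toRingHom) ≫ hV.fromSpec, ?_, ?_⟩
    · rw [Category.assoc, ← ha, ← Spec.map_comp, ← Spec.map_id]
      congr 1
      ext c
      exact φ.commutes c
    · refine (Scheme.Hom.comp_apply _ _ _).trans ?_
      have h2 : (Spec.map (CommRingCat.ofHom φ.toRingHom)).base (IsLocalRing.closedPoint A) =
          hV.primeIdealOf ⟨x, hxV⟩ := PrimeSpectrum.ext hφ
      rw [h2]
      exact hV.fromSpec_primeIdealOf ⟨x, hxV⟩
  · intro h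
    have hroot := exists_root_of_sections A h
    have : HenselianLocalRing A := by
      refine { is_henselian := fun P hP a₀ h₁ h₂ => ?_ }
      have e0 : IsLocalRing.residue A a₀ = algebraMap A (IsLocalRing.ResidueField A) a₀ := rfl
      obtain ⟨r, hr, hrx⟩ := hroot P hP (IsLocalRing.ResidueField A) (IsLocalRing.residue A a₀)
        (by rw [e0, Polynomial.aeval_algebraMap_apply_eq_algebraMap_eval, IsLocalRing.ResidueField.algebraMap_eq]
            exact (IsLocalRing.residue_eq_zero_iff _).mpr h₁)
        (by rw [e0, Polynomial.aeval_algebraMap_apply_eq_algebraMap_eval, IsLocalRing.ResidueField.algebraMap_eq]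
            exact (IsLocalRing.residue_ne_zero_iff_isUnit _).mpr h₂)
      refine ⟨r, hr, (IsLocalRing.residue_eq_zero_iff _).mp ?_⟩
      have h3 := hrx (Polynomial.X - Polynomial.C a₀) (by simp [e0])
      simpa using h3
    refine ⟨this, IsSepClosed.of_exists_root _ fun p hpm hpi hps => ?_⟩
    have hp : p ∈ Polynomial.lifts (IsLocalRing.residue A) := by
      rw [Polynomial.lifts_iff_coeff_lifts]
      exact fun n => IsLocalRing.residue_surjective _
    obtain ⟨P, hPp, -, hPm⟩ := Polynomial.lifts_and_degree_eq_and_monic hp hpm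
    have : Fact (Irreducible p) := ⟨hpi⟩
    let Ω := AdjoinRoot p
    let z : Ω := AdjoinRoot.root p
    have e1 : ∀ F : Polynomial A, Polynomial.aeval z F = Polynomial.aeval z (F.map (IsLocalRing.residue A)) :=
      fun F => (Polynomial.aeval_map_algebraMap (IsLocalRing.ResidueField A) z F).symm
    obtain ⟨r, hr, -⟩ := hroot P hPm Ω z
      (by rw [e1, hPp, AdjoinRoot.aeval_eq, AdjoinRoot.mk_self])
      (by
        rw [e1, ← Polynomial.derivative_map, hPp]
        exact hps.aeval_derivative_ne_zero (by rw [AdjoinRoot.aeval_eq, AdjoinRoot.mk_self]))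
    exact ⟨IsLocalRing.residue A r, hPp ▸ Polynomial.IsRoot.map hr⟩

end Groth.Agent.S5062
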