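import Groth.Statements.S5064
import Groth.Agent.Purity.FlatLocalImmersion
-- import your own Groth.Agent.* helpers here

set_option autoImplicit false
open CategoryTheory CategoryTheory.Limits AlgebraicGeometry
universe u
open Unram
set_option backward.isDefEq.respectTransparency false

namespace Groth.Agent.S5064

/-- Let f : X ⟶ Y be locally of finite presentation. If f is étale then there are étale morphisms g_a :
Y'_a ⟶ Y and opens U_a of the fibre products X ×_Y Y'_a whose images under the first projections
cover X, such that each U_a ⟶ Y'_a (inclusion followed by the second projection) is an open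
immersion. Conversely, the existence of such a family with the g_a only assumed flat implies that f
is étale. -/
theorem result {X Y : Scheme.{u}} (f : X ⟶ Y) [LocallyOfFinitePresentation f] :
    (Etale f → ∃ (ι : Type u) (Y' : ι → Scheme.{u}) (g : ∀ a, Y' a ⟶ Y) (U : ∀ a, (pullback f (g a)).Opens),
      (∀ a, Etale (g a)) ∧ (∀ x : X, ∃ a, x ∈ (pullback.fst f (g a)).base '' (U a : Set ↥(pullback f (g a)))) ∧
        ∀ a, IsOpenImmersion ((U a).ι ≫ pullback.snd f (g a))) ∧
    ((∃ (ι : Type u) (Y' : ι → Scheme.{u}) (g : ∀ a, Y' a ⟶ Y) (U : ∀ a, (pullback f (g a)).Opens),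
      (∀ a, Flat (g a)) ∧ (∀ x : X, ∃ a, x ∈ (pullback.fst f (g a)).base '' (U a : Set ↥(pullback f (g a)))) ∧
        ∀ a, IsOpenImmersion ((U a).ι ≫ pullback.snd f (g a))) → Etale f) := by
  refine ⟨fun h => Groth.Purity.exists_cover f @IsOpenImmersion fun x => ?_, fun ⟨_, Y', g, U, hg, hU, hc⟩ =>
    Groth.Purity.etale_of_flat_local_openImmersion f Y' g U hg hU hc⟩
  exact ⟨X, f, X, 𝟙 X, 𝟙 X, h, inferInstance, ⟨x, rfl⟩, ⟨inferInstance, inferInstance⟩, rfl⟩

end Groth.Agent.S5064
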