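import Groth.Statements.S5065
import Mathlib.RingTheory.Smooth.IntegralClosure
import Mathlib.RingTheory.Unramified.Field
import Mathlib.RingTheory.Etale.Basic
import Mathlib.RingTheory.Localization.Away.Lemmas

set_option autoImplicit false
universe u
open Unram
open TensorProduct

namespace Groth.Agent.S5065

namespace Helper

/-- A finite étale algebra `S` over a normal domain `R`, mapped to a field generated by its image:
the image is étale over `R` and is the integral closure of `R`. -/
theorem etale_range_and_integralClosure {R S L₁ : Type u} [CommRing R] [IsDomain R]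
    [IsIntegrallyClosed R] [CommRing S] [Algebra R S] [Algebra.Etale R S] [Module.Finite R S]
    [Field L₁] [Algebra R L₁] (hR : Function.Injective (algebraMap R L₁)) (φ : S →ₐ[R] L₁)
    (hgen : Subfield.closure (Set.range φ) = ⊤) :
    Algebra.Etale R φ.range ∧ integralClosure R L₁ = φ.range := by
  classical
  let g : FractionRing R →ₐ[R] L₁ := IsFractionRing.liftAlgHom (g := Algebra.ofId R L₁) hR
  let ψ : S ⊗[R] FractionRing R →ₐ[R] L₁ :=
    Algebra.TensorProduct.lift φ g (fun _ _ => mul_comm _ _)
  have hj : Function.Injective (algebraMap S (S ⊗[R] FractionRing R)) := fun a b hab =>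
    Algebra.TensorProduct.includeLeft_injective (R := R) (S := R) (A := S) (B := FractionRing R)
      (IsFractionRing.injective R (FractionRing R))
      (show (Algebra.TensorProduct.includeLeft (S := R)) a =
          (Algebra.TensorProduct.includeLeft (S := R)) b by
        rw [Algebra.TensorProduct.includeLeft_apply, Algebra.TensorProduct.includeLeft_apply]
        rw [Algebra.TensorProduct.algebraMap_apply, Algebra.TensorProduct.algebraMap_apply] at hab
        exact hab)
  have hψ : ∀ s : S, ψ (algebraMap S (S ⊗[R] FractionRing R) s) = φ s := fun s => by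
    rw [Algebra.TensorProduct.algebraMap_apply]
    refine (Algebra.TensorProduct.lift_tmul _ _ _ _ _).trans ?_
    rw [map_one, mul_one]
    rfl
  -- integral elements of the generic fibre come from S
  have hint : ∀ x : S ⊗[R] FractionRing R, IsIntegral S x →
      ∃ s : S, algebraMap S (S ⊗[R] FractionRing R) s = x := by
    intro x hx
    obtain ⟨z, hz⟩ := (TensorProduct.toIntegralClosure_bijective_of_smooth
      (R := R) (S := S) (B := FractionRing R)).2 ⟨x, hx⟩
    have hl : ∀ w : S ⊗[R] integralClosure R (FractionRing R), ∃ l : S,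
        algebraMap S (S ⊗[R] FractionRing R) l =
          Algebra.TensorProduct.map (AlgHom.id S S) (integralClosure R (FractionRing R)).val w := by
      intro w
      induction w using TensorProduct.induction_on with
      | zero => exact ⟨0, by simp⟩
      | tmul l y =>
        obtain ⟨r, hr⟩ := IsIntegrallyClosed.algebraMap_eq_of_integral y.2
        refine ⟨r • l, ?_⟩
        rw [Algebra.TensorProduct.map_tmul, AlgHom.id_apply, Subalgebra.coe_val, ← hr,
          Algebra.algebraMap_eq_smul_one r]
        exact (TensorProduct.smul_tmul r l (1 : FractionRing R))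
      | add z₁ z₂ h₁ h₂ =>
        obtain ⟨l₁, h₁⟩ := h₁; obtain ⟨l₂, h₂⟩ := h₂
        exact ⟨l₁ + l₂, by rw [map_add, map_add, h₁, h₂]⟩
    obtain ⟨l, hl⟩ := hl z
    exact ⟨l, hl.trans (congr_arg Subtype.val hz)⟩
  -- the generic fibre
  let e' : FractionRing R ⊗[R] S ≃+* S ⊗[R] FractionRing R :=
    (Algebra.TensorProduct.comm R (FractionRing R) S).toRingEquiv
  have : IsArtinianRing (FractionRing R ⊗[R] S) :=
    isArtinian_of_tower (FractionRing R) inferInstance
  have : IsReduced (FractionRing R ⊗[R] S) :=
    Algebra.FormallyUnramified.isReduced_of_field (FractionRing R) _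
  have : IsArtinianRing (S ⊗[R] FractionRing R) := e'.surjective.isArtinianRing
  have : IsReduced (S ⊗[R] FractionRing R) := isReduced_of_injective e'.symm e'.symm.injective
  have := IsArtinianRing.isSemisimpleRing_of_isReduced (R := S ⊗[R] FractionRing R)
  obtain ⟨e, he, hker⟩ := IsSemisimpleRing.ideal_eq_span_idempotent (RingHom.ker ψ)
  have hψe : ψ e = 0 := by
    have : e ∈ RingHom.ker ψ := hker ▸ Ideal.mem_span_singleton_self e
    exact this
  obtain ⟨u, hu⟩ := hint e ⟨Polynomial.X ^ 2 - Polynomial.X,
    Polynomial.monic_X_pow_sub (n := 2) (Polynomial.degree_X_le.trans_lt (by norm_num)),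
    by simp [pow_two, he.eq]⟩
  have hu2 : IsIdempotentElem u := hj (by rw [map_mul, hu, he.eq])
  -- kernel of φ
  have hkerφ : RingHom.ker φ = Ideal.span {u} := by
    apply le_antisymm
    · intro x hx
      have h1 : algebraMap S _ x ∈ RingHom.ker ψ := by
        rw [RingHom.mem_ker, hψ]; exact hx
      rw [hker, Ideal.mem_span_singleton'] at h1
      obtain ⟨r, hr⟩ := h1
      rw [Ideal.mem_span_singleton']
      refine ⟨x, hj ?_⟩
      rw [map_mul, hu, ← hr, mul_assoc, he.eq]
    · rw [Ideal.span_le, Set.singleton_subset_iff, SetLike.mem_coe, RingHom.mem_ker, ← hψ, hu, hψe]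
  -- etaleness of the range
  have : IsLocalization.Away (1 - u) (S ⧸ Ideal.span {u}) := by
    have := IsLocalization.Away.quotient_of_isIdempotentElem hu2.one_sub
    rwa [sub_sub_cancel] at this
  have : Algebra.Etale S (S ⧸ Ideal.span {u}) := Algebra.Etale.of_isLocalizationAway (1 - u)
  have : Algebra.Etale R (S ⧸ Ideal.span {u}) := Algebra.Etale.comp R S _
  have het : Algebra.Etale R φ.range := Algebra.Etale.of_equiv
    ((Ideal.quotientEquivAlgOfEq R hkerφ.symm).trans (Ideal.quotientKerEquivRange φ))
  refine ⟨het, ?_⟩
  -- ψ is surjective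
  have hkmax : (RingHom.ker ψ.toRingHom).IsMaximal := by
    have : (RingHom.ker ψ.toRingHom).IsPrime := RingHom.ker_isPrime _
    exact IsArtinianRing.isMaximal_of_isPrime _
  have hfield : IsField ψ.range := MulEquiv.isField
    ((Ideal.Quotient.maximal_ideal_iff_isField_quotient _).mp hkmax)
    (RingHom.quotientKerEquivRange ψ.toRingHom).symm.toMulEquiv
  have hsurj : ∀ x : L₁, ∃ t : S ⊗[R] FractionRing R, ψ t = x := by
    intro x
    let F : Subfield L₁ :=
      { ψ.range.toSubring with
        inv_mem' := fun x hx => by
          rcases eq_or_ne x 0 with rfl | hx0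
          · rw [inv_zero]; exact ψ.range.zero_mem
          · obtain ⟨⟨b, hb⟩, hab⟩ := hfield.mul_inv_cancel (a := (⟨x, hx⟩ : ψ.range))
              (fun h => hx0 (congr_arg Subtype.val h))
            have h3 : x * b = 1 := congr_arg Subtype.val hab
            rw [inv_eq_of_mul_eq_one_right h3]
            exact hb }
    have hF : F = ⊤ := by
      rw [eq_top_iff, ← hgen, Subfield.closure_le]
      rintro _ ⟨s, rfl⟩
      exact ⟨_, hψ s⟩
    have : x ∈ F := hF ▸ Subfield.mem_top x
    exact this
  have : Algebra.IsIntegral R S := Algebra.IsIntegral.of_finite R S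
  apply le_antisymm
  · intro x hx
    obtain ⟨p, hpm, hp⟩ := hx
    obtain ⟨t, rfl⟩ := hsurj x
    have hf : IsIdempotentElem (1 - e) := he.one_sub
    have h0 : (Polynomial.aeval t p) * (1 - e) = 0 := by
      have h1 : Polynomial.aeval t p ∈ RingHom.ker ψ := by
        rw [RingHom.mem_ker, ← Polynomial.aeval_algHom_apply]
        exact hp
      rw [hker, Ideal.mem_span_singleton'] at h1
      obtain ⟨r, hr⟩ := h1
      rw [← hr, mul_assoc, mul_sub, mul_one, he.eq, sub_self, mul_zero]
    have h2 : ∀ q : Polynomial R,
        Polynomial.aeval (t * (1 - e)) q * (1 - e) = Polynomial.aeval t q * (1 - e) := by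
      intro q
      induction q using Polynomial.induction_on' with
      | add p q hp hq => rw [map_add, map_add, add_mul, add_mul, hp, hq]
      | monomial n c =>
        rw [Polynomial.aeval_monomial, Polynomial.aeval_monomial, mul_pow, mul_assoc,
          mul_assoc (t ^ n), ← pow_succ, hf.pow_succ_eq n, ← mul_assoc]
    have hti : IsIntegral R (t * (1 - e)) := by
      refine ⟨p * Polynomial.X, hpm.mul Polynomial.monic_X, ?_⟩
      rw [← Polynomial.aeval_def, map_mul, Polynomial.aeval_X, mul_left_comm, h2, h0, mul_zero]
    obtain ⟨s, hs⟩ := hint _ hti.tower_top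
    refine ⟨s, ?_⟩
    show φ s = _
    rw [← hψ, hs, map_mul, map_sub, map_one, hψe, sub_zero, mul_one]
  · rintro _ ⟨s, rfl⟩
    exact (Algebra.IsIntegral.isIntegral (R := R) s).map φ

end Helper

/-- Let A ⊆ A' be integrally closed domains, L a field algebraic over the fraction field of A in which A
embeds and whose integral closure C over A is an étale A-algebra, and L₁ a field in which A' and L
both embed, compatibly over A, and which is generated as a field by the images of A' and L (a
compositum of L with the fraction field of A'; the map A' → L₁ is injective, so that the fraction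
field of A' is a subfield of L₁). Then the integral closure of A' in L₁ is an étale A'-algebra and
coincides with the A'-subalgebra generated by the image of C. -/
theorem result (A A' L L₁ : Type u) [CommRing A] [IsDomain A]
    [IsIntegrallyClosed A] [CommRing A'] [IsDomain A'] [IsIntegrallyClosed A'] [Algebra A A']
    [Field L] [Algebra A L] [Algebra.IsAlgebraic A L] (hinj : Function.Injective (algebraMap A L))
    [Algebra.Etale A ↥(integralClosure A L)]
    [Field L₁] [Algebra A' L₁] [Algebra L L₁] [Algebra A L₁] [IsScalarTower A A' L₁] [IsScalarTower A L L₁]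
    (hinj' : Function.Injective (algebraMap A' L₁))
    (hgen : Subfield.closure (Set.range (algebraMap A' L₁) ∪ Set.range (algebraMap L L₁)) = ⊤) :
    Algebra.Etale A' ↥(integralClosure A' L₁) ∧
      integralClosure A' L₁ = Algebra.adjoin A' ((algebraMap L L₁) '' {x : L | IsIntegral A x}) := by
  let C := integralClosure A L
  have : Algebra.IsIntegral A (integralClosure A L) := IsIntegralClosure.isIntegral_algebra A L
  have : Module.Finite A (integralClosure A L) := Algebra.IsIntegral.finite
  let φ : A' ⊗[A] (integralClosure A L) →ₐ[A'] L₁ :=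
    Algebra.TensorProduct.lift (Algebra.ofId A' L₁)
      ((IsScalarTower.toAlgHom A L L₁).comp (integralClosure A L).val) (fun _ _ => mul_comm _ _)
  have himg : ∀ c : integralClosure A L, φ ((1 : A') ⊗ₜ c) = algebraMap L L₁ (c : L) := fun c => by
    refine (Algebra.TensorProduct.lift_tmul _ _ _ _ _).trans ?_
    rw [map_one, one_mul]
    rfl
  have hrange : φ.range = Algebra.adjoin A' ((algebraMap L L₁) '' {x : L | IsIntegral A x}) := by
    apply le_antisymm
    · rintro _ ⟨s, rfl⟩
      show φ s ∈ _
      induction s using TensorProduct.induction_on with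
      | zero => rw [map_zero]; exact Subalgebra.zero_mem _
      | tmul a c =>
        have : φ (a ⊗ₜ c) = a • algebraMap L L₁ (c : L) := by
          rw [← himg, ← map_smul, TensorProduct.smul_tmul', smul_eq_mul, mul_one]
        rw [this]
        exact Subalgebra.smul_mem _ (Algebra.subset_adjoin (Set.mem_image_of_mem _ c.2)) a
      | add x y hx hy =>
        rw [map_add]
        exact Subalgebra.add_mem _ hx hy
    · rw [Algebra.adjoin_le_iff]
      rintro _ ⟨x, hx, rfl⟩
      exact ⟨(1 : A') ⊗ₜ (⟨x, hx⟩ : integralClosure A L), himg _⟩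
  have hgen' : Subfield.closure (Set.range φ) = ⊤ := by
    rw [eq_top_iff, ← hgen, Subfield.closure_le]
    rintro _ (⟨a, rfl⟩ | ⟨x, rfl⟩)
    · exact Subfield.subset_closure ⟨algebraMap A' _ a, φ.commutes a⟩
    · obtain ⟨a, ha0, hay⟩ :=
        (Algebra.IsAlgebraic.isAlgebraic (R := A) x).exists_integral_multiple
      have hne : algebraMap A L a ≠ 0 := (map_ne_zero_iff _ hinj).mpr ha0
      have h1 : algebraMap L L₁ x =
          algebraMap L L₁ (a • x) / algebraMap L L₁ (algebraMap A L a) := by
        rw [← map_div₀, Algebra.smul_def, mul_div_cancel_left₀ _ hne]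
      rw [SetLike.mem_coe, h1]
      refine div_mem (Subfield.subset_closure ⟨_, himg ⟨a • x, hay⟩⟩)
        (Subfield.subset_closure ⟨algebraMap A' _ (algebraMap A A' a), ?_⟩)
      rw [φ.commutes, ← IsScalarTower.algebraMap_apply A A' L₁,
        ← IsScalarTower.algebraMap_apply A L L₁]
  obtain ⟨het, hcl⟩ := Helper.etale_range_and_integralClosure hinj' φ hgen'
  exact ⟨hcl.symm ▸ het, hcl.trans hrange⟩

end Groth.Agent.S5065
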