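import Groth.Statements.S5066
import Groth.Agent.Hensel1.BaseLift
import Groth.Agent.Hensel1.Local

set_option autoImplicit false
universe u
open Hensel

namespace Groth.Agent.S5066

/-- Case of a local ring, affine étale schemes: a local ring A with maximal ideal m is henselian if and
only if, for every finite A-algebra C and every étale A-algebra E, composing with the projection C →
C/mC is a bijection from the set of A-algebra homomorphisms E → C onto the set of A-algebra
homomorphisms E → C/mC. -/
theorem result (A : Type u) [CommRing A] [IsLocalRing A] :
    HenselianLocalRing A ↔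
      ∀ (C : Type u) [CommRing C] [Algebra A C] [Module.Finite A C] (E : Type u) [CommRing E] [Algebra A E] [Algebra.Etale A E],
        Function.Bijective (fun φ : E →ₐ[A] C =>
          (Ideal.Quotient.mkₐ A (Ideal.map (algebraMap A C) (IsLocalRing.maximalIdeal A))).comp φ) := by
  refine ⟨fun _ C _ _ _ E _ _ _ => ?_, fun h => ?_⟩
  · have : Algebra.IsIntegral A C := Algebra.IsIntegral.of_finite A C
    have : HenselianRing A (IsLocalRing.maximalIdeal A) := inferInstance
    have := Groth.Hensel1.henselianRing_of_isIntegral (I := IsLocalRing.maximalIdeal A) C
    exact Groth.Hensel1.bijective_comp_mk _ E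
  · have : HenselianRing A (IsLocalRing.maximalIdeal A) := by
      refine Groth.Hensel1.henselianRing_iff_etaleLifts.mpr fun E _ _ _ σ => ?_
      have hI : IsLocalRing.maximalIdeal A =
          Ideal.map (algebraMap A A) (IsLocalRing.maximalIdeal A) := (Ideal.map_id _).symm
      obtain ⟨τ, hτ⟩ := (h A E).2 ((Ideal.quotientEquivAlgOfEq A hI).toAlgHom.comp σ)
      refine ⟨τ, AlgHom.ext fun e => (Ideal.quotientEquivAlgOfEq A hI).injective ?_⟩
      exact DFunLike.congr_fun hτ e
    exact Groth.Hensel1.henselianLocalRing_of_henselianRing

end Groth.Agent.S5066
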