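import Groth.Statements.S5067
import Groth.Agent.DescentBase.DimEtale

set_option autoImplicit false
set_option linter.style.haveILetI false
set_option backward.isDefEq.respectTransparency.types false
set_option backward.defeqAttrib.useBackward true
open CategoryTheory AlgebraicGeometry CategoryTheory.Limits
universe u
open Unram

namespace Groth.Agent.S5067

/-- Let f : X ⟶ Y be an étale separated morphism of integral schemes which maps the generic point of X
to the generic point of Y and induces a bijection between the residue fields of the generic points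
(f is birational). Then f is an open immersion. -/
theorem result {X Y : Scheme.{u}} [IsIntegral X] [IsIntegral Y]
    (f : X ⟶ Y) [Etale f] [IsSeparated f] (hgen : f.base (genericPoint X) = genericPoint Y)
    (hbir : Function.Bijective (f.residueFieldMap (genericPoint X)).hom) : IsOpenImmersion f := by
  classical
  haveI : LocallyQuasiFinite f := Groth.DescentBase.locallyQuasiFinite_of_etale f
  set η := genericPoint X with hη
  have huniq : ∀ x : X, f x = f η → x = η := by
    intro x hx
    have hd := f.isDiscrete_preimage_singleton (f η)
    have hsp : η ⤳ x := genericPoint_specializes x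
    haveI := hd.to_subtype
    have h1 : (⟨η, rfl⟩ : f ⁻¹' {f η}) ⤳ ⟨x, hx⟩ :=
      (Topology.IsInducing.subtypeVal.specializes_iff).1 hsp
    exact (congrArg Subtype.val h1.eq).symm
  have hgenr : ∀ z : ↑(pullback f f), (pullback.fst f f) z = η →
      z ∈ Set.range (pullback.diagonal f) := by
    intro z hz1
    have hz2 : (pullback.snd f f) z = η := huniq _ (by
      rw [← Scheme.Hom.comp_apply, ← pullback.condition, Scheme.Hom.comp_apply, hz1])
    let φ := (pullback f f).fromSpecResidueField z
    have hinj : ∀ (K : Type u) [Field K] (g₁ g₂ : Spec (CommRingCat.of K) ⟶ X),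
        g₁ (IsLocalRing.closedPoint _) = η → g₂ (IsLocalRing.closedPoint _) = η →
        g₁ ≫ f = g₂ ≫ f → g₁ = g₂ := by
      intro K _ g₁ g₂ h₁ h₂ hg
      obtain ⟨e, h⟩ := Scheme.SpecToEquivOfField_eq_iff.mp
        congr((Y.SpecToEquivOfField K) $(hg))
      apply (X.SpecToEquivOfField K).injective
      dsimp at e h
      simp only [Scheme.descResidueField_stalkClosedPointTo_comp] at e h
      rw [← f.residueFieldMap_congr'_assoc (h₁.trans h₂.symm), CommRingCat.hom_ext_iff] at h
      rw [Scheme.SpecToEquivOfField_eq_iff]
      refine ⟨h₁.trans h₂.symm, CommRingCat.hom_ext (RingHom.ext fun a => ?_)⟩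
      have hs : Function.Surjective (f.residueFieldMap (g₁ (IsLocalRing.closedPoint _))).hom := by
        rw [h₁]
        exact hbir.2
      obtain ⟨b, rfl⟩ := hs a
      exact RingHom.congr_fun h b
    have hφ₁ : φ ≫ pullback.fst f f = φ ≫ pullback.snd f f := by
      refine hinj ((pullback f f).residueField z) _ _ ?_ ?_ (by simp [pullback.condition])
      · exact (congrArg (pullback.fst f f) (Scheme.fromSpecResidueField_apply _ _)).trans hz1
      · exact (congrArg (pullback.snd f f) (Scheme.fromSpecResidueField_apply _ _)).trans hz2
    have hφ₂ : φ = (φ ≫ pullback.fst f f) ≫ pullback.diagonal f := by cat_disch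
    refine ⟨(φ ≫ pullback.fst f f) (IsLocalRing.closedPoint _), ?_⟩
    rw [← Scheme.Hom.comp_apply, ← hφ₂, Scheme.fromSpecResidueField_apply]
  haveI : Flat (pullback.fst f f) := inferInstance
  haveI : IsClosedImmersion (pullback.diagonal f) := IsSeparated.isClosedImmersion_diagonal
  haveI : IsOpenImmersion (pullback.diagonal f) := inferInstance
  haveI : Surjective (pullback.diagonal f) := ⟨fun p => by
    have hg := Flat.generalizingMap (pullback.fst f f)
    obtain ⟨p', hp', hp'η⟩ := hg (genericPoint_specializes ((pullback.fst f f) p) :
      η ⤳ (pullback.fst f f) p)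
    exact hp'.mem_closed (pullback.diagonal f).isClosedEmbedding.isClosed_range (hgenr p' hp'η)⟩
  haveI : IsIso (pullback.diagonal f) := by
    haveI : Epi (pullback.diagonal f).base := (TopCat.epi_iff_surjective _).2 Surjective.surj
    exact IsOpenImmersion.isIso _
  haveI : Mono f := (pullback.isIso_diagonal_iff f).1 inferInstance
  exact IsOpenImmersion.of_flat_of_mono f

end Groth.Agent.S5067
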