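import Groth.Statements.S5069
import Mathlib.RingTheory.Artinian.Ring
import Mathlib.RingTheory.HopkinsLevitzki

set_option autoImplicit false
universe u v
open Hensel

namespace Groth.Agent.S5069

/-- First assertion, phrased for the images of the inductive system: let B be a Noetherian commutative
ring and (C_i) a family of Artinian subrings of B, directed under inclusion, whose union is B. Then
B is an Artinian ring. -/
theorem result (B : Type u) [CommRing B] [IsNoetherianRing B]
    {ι : Type v} [Nonempty ι] (C : ι → Subring B) (hdir : Directed (fun a b => a ≤ b) C)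
    (hart : ∀ i, IsArtinianRing ↥(C i)) (hcov : ∀ b : B, ∃ i, b ∈ C i) : IsArtinianRing B := by
  rw [isArtinianRing_iff_isNoetherianRing_krullDimLE_zero]
  refine ⟨inferInstance, Ring.krullDimLE_zero_iff.mpr fun P hP => ?_⟩
  refine Ideal.isMaximal_iff.mpr ⟨fun h => hP.ne_top ((Ideal.eq_top_iff_one _).mpr h),
    fun J x hJ hxP hxJ => ?_⟩
  obtain ⟨i, hi⟩ := hcov x
  have := hart i
  obtain ⟨n, y, hy⟩ := IsArtinian.exists_pow_succ_smul_dvd (⟨x, hi⟩ : ↥(C i)) (1 : ↥(C i))
  have hy' : x ^ (n + 1) * (y : B) = x ^ n := by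
    simpa using congr_arg Subtype.val hy
  have h1 : x ^ n * (x * (y : B) - 1) ∈ P := by
    rw [mul_sub, ← mul_assoc, ← pow_succ, hy', mul_one, sub_self]
    exact P.zero_mem
  have h2 : x * (y : B) - 1 ∈ J :=
    hJ ((hP.mem_or_mem h1).resolve_left fun h => hxP (hP.mem_of_pow_mem _ h))
  simpa using J.sub_mem (J.mul_mem_right (y : B) hxJ) h2

end Groth.Agent.S5069
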