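import Groth.Statements.S5071
import Groth.Agent.Ega4Algebra2.FlatPowers
-- import your own Groth.Agent.* helpers here

set_option autoImplicit false
universe u
open CInt

namespace Groth.Agent.S5071

/-- Let B be an A-algebra and J an ideal of B generated by a sequence which is transversally regular
relative to A. Then for n < m the module J^n/J^m is flat over A, and for every prime q of B
containing J the localisation (J^n)_q is flat over A (modules regarded as A-modules by restriction
of scalars). -/
theorem result (A B : Type u) [CommRing A] [CommRing B] [Algebra A B]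
    (rs : List B) (hrs : RegImm.IsTransRegularSeq A B rs) (n m : ℕ) (hnm : n < m) :
    Module.Flat A (RestrictScalars A B
      (↥(Ideal.ofList rs ^ n) ⧸ (Submodule.comap (Ideal.ofList rs ^ n).subtype (Ideal.ofList rs ^ m)))) ∧
      ∀ (q : Ideal B) [q.IsPrime], Ideal.ofList rs ≤ q →
        Module.Flat A (RestrictScalars A B (LocalizedModule q.primeCompl ↥(Ideal.ofList rs ^ n))) := by
  obtain ⟨h1, h2⟩ := Groth.Ega4b.FlatPow.flat_pow_quotients rs hrs
  refine ⟨Groth.Ega4b.FlatPow.flat_restrictScalars _ (h1 n m hnm.le), fun q _ _ => ?_⟩
  haveI := h2 n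
  exact Groth.Ega4b.FlatPow.flat_restrictScalars _ (Groth.Calg5.RelGCI.flat_localizedModule q.primeCompl)

end Groth.Agent.S5071
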