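import Groth.Statements.S5072
import Groth.Agent.Hensel1.Finite
import Mathlib.FieldTheory.PurelyInseparable.Basic

set_option autoImplicit false
open scoped TensorProduct
universe u
open Hensel

namespace Groth.Agent.S5072

/-- Case of a local ring A and a local finite A-algebra B: let S be a strict henselization of A and T a
strict henselization of B. Then there is a maximal ideal q of B ⊗_A S such that T is isomorphic, as
a B-algebra, to the local ring (B ⊗_A S)_q. -/
theorem result (A B S T : Type u) [CommRing A] [IsLocalRing A]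
    [CommRing B] [IsLocalRing B] [Algebra A B] [Module.Finite A B]
    [CommRing S] [IsLocalRing S] [Algebra A S] [IsLocalHom (algebraMap A S)] [Hensel.IsStrictHenselization A S]
    [CommRing T] [IsLocalRing T] [Algebra B T] [IsLocalHom (algebraMap B T)] [Hensel.IsStrictHenselization B T] :
    ∃ (q : Ideal (B ⊗[A] S)) (_ : q.IsMaximal), Nonempty (Localization.AtPrime q ≃ₐ[B] T) := by
  classical
  have hS := (inferInstance : Hensel.IsStrictHenselization A S)
  have hT := (inferInstance : Hensel.IsStrictHenselization B T)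
  have := hS.henselian
  have := hT.henselian
  have := hS.isSepClosure.sep_closed
  have := hS.isSepClosure.separable
  have := hT.isSepClosure.sep_closed
  have := hT.isSepClosure.separable
  have : Algebra.IsIntegral A B := Algebra.IsIntegral.of_finite A B
  have hAB : IsLocalHom (algebraMap A B) :=
    ((IsLocalRing.local_hom_TFAE (algebraMap A B)).out 0 4).mpr
      (IsLocalRing.eq_maximalIdeal (Ideal.isMaximal_comap_of_isIntegral_of_isMaximal
        (IsLocalRing.maximalIdeal B)))
  let hAT : A →+* T := (algebraMap B T).comp (algebraMap A B)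
  let _ : Algebra A T := hAT.toAlgebra
  let _ : Algebra (IsLocalRing.ResidueField A) (IsLocalRing.ResidueField T) :=
    (IsLocalRing.ResidueField.map hAT).toAlgebra
  let τ₀ := IsSepClosed.lift (K := IsLocalRing.ResidueField A) (L := IsLocalRing.ResidueField S)
    (M := IsLocalRing.ResidueField T)
  obtain ⟨g₀, ⟨hg₀, hg₀τ⟩, -⟩ := hS.universal T hAT τ₀.toRingHom
    (RingHom.ext fun z => τ₀.commutes z)
  have hg₀loc : IsLocalHom g₀ := ⟨fun s hs => by
    by_contra hns
    have h1 : IsLocalRing.residue S s = 0 :=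
      (IsLocalRing.residue_eq_zero_iff s).mpr ((IsLocalRing.mem_maximalIdeal _).mpr hns)
    have h2 := hg₀τ s
    rw [h1, map_zero] at h2
    exact (IsLocalRing.residue_ne_zero_iff_isUnit _).mpr hs h2⟩
  let bₐ : B →ₐ[A] T := { algebraMap B T with commutes' := fun _ => rfl }
  let sₐ : S →ₐ[A] T := { g₀ with commutes' := fun a => RingHom.congr_fun hg₀ a }
  let ψ : B ⊗[A] S →ₐ[A] T := Algebra.TensorProduct.lift bₐ sₐ fun _ _ => Commute.all _ _
  have hψS : ∀ s : S, ψ ((1 : B) ⊗ₜ[A] s) = g₀ s := fun s => by simp [ψ, bₐ, sₐ]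
  have hψB : ∀ b : B, ψ (b ⊗ₜ[A] (1 : S)) = algebraMap B T b := fun b => by simp [ψ, bₐ, sₐ]
  let q : Ideal (B ⊗[A] S) := (IsLocalRing.maximalIdeal T).comap ψ.toRingHom
  let _ : Algebra S (B ⊗[A] S) := Algebra.TensorProduct.rightAlgebra
  have : Module.Finite S (B ⊗[A] S) :=
    Module.Finite.equiv (Algebra.TensorProduct.commRight A S B).toLinearEquiv
  have : Algebra.IsIntegral S (B ⊗[A] S) := Algebra.IsIntegral.of_finite S _
  have hqS : q.comap (algebraMap S (B ⊗[A] S)) = IsLocalRing.maximalIdeal S := by
    rw [Ideal.comap_comap, show ψ.toRingHom.comp (algebraMap S (B ⊗[A] S)) = g₀ from RingHom.ext hψS]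
    exact ((IsLocalRing.local_hom_TFAE g₀).out 0 4).mp hg₀loc
  have : q.IsPrime := Ideal.IsPrime.comap _
  have hqmax : q.IsMaximal := Ideal.isMaximal_of_isIntegral_of_isMaximal_comap (R := S) q
    (hqS ▸ IsLocalRing.maximalIdeal.isMaximal S)
  refine ⟨q, hqmax, ?_⟩
  obtain ⟨ι, _, e, he, hloc⟩ := Groth.Hensel1.exists_completeOrthogonalIdempotents_local S (B ⊗[A] S)
  obtain ⟨i, hi⟩ : ∃ i, e i ∉ q := by
    by_contra! hall
    exact hqmax.ne_top ((Ideal.eq_top_iff_one _).mpr (he.complete ▸ Ideal.sum_mem _ fun i _ => hall i))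
  have := hloc i
  set f := e i
  let K : Ideal (B ⊗[A] S) := Ideal.span {1 - f}
  have hK : K ≤ q := by
    rw [Ideal.span_le, Set.singleton_subset_iff, SetLike.mem_coe]
    exact (‹q.IsPrime›.mem_or_mem (x := f) (y := 1 - f)
      (by rw [(he.idem i).mul_one_sub_self]; exact q.zero_mem)).resolve_left hi
  let T' := (B ⊗[A] S) ⧸ K
  have hqmap : q.map (Ideal.Quotient.mk K) = IsLocalRing.maximalIdeal T' :=
    IsLocalRing.eq_maximalIdeal (Ideal.IsMaximal.map_of_surjective_of_ker_le
      Ideal.Quotient.mk_surjective (by rwa [Ideal.mk_ker]))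
  have hmem : ∀ a, Ideal.Quotient.mk K a ∈ IsLocalRing.maximalIdeal T' ↔ a ∈ q := fun a => by
    rw [← hqmap, ← Ideal.mem_comap, Ideal.comap_map_of_surjective' _ Ideal.Quotient.mk_surjective,
      Ideal.mk_ker, sup_eq_left.mpr hK]
  have : IsLocalization.AtPrime T' q :=
    { map_units := fun s => IsLocalRing.notMem_maximalIdeal.mp fun h => s.2 ((hmem _).mp h)
      surj := fun z => by
        obtain ⟨a, rfl⟩ := Ideal.Quotient.mk_surjective z
        exact ⟨⟨a, 1⟩, (mul_one _).trans rfl⟩
      exists_of_eq := fun {a b} hab => by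
        obtain ⟨c, hc⟩ := Ideal.mem_span_singleton.mp (Ideal.Quotient.eq.mp hab)
        refine ⟨⟨f, hi⟩, sub_eq_zero.mp ?_⟩
        show f * a - f * b = 0
        rw [← mul_sub, hc, ← mul_assoc, (he.idem i).mul_one_sub_self, zero_mul] }
  let e₁ : Localization.AtPrime q ≃ₐ[B] T' :=
    (IsLocalization.algEquiv q.primeCompl (Localization.AtPrime q) T').restrictScalars B
  -- the map `T' → T`
  have hker : ∀ a ∈ K, ψ a = 0 := fun a ha => by
    obtain ⟨c, rfl⟩ := Ideal.mem_span_singleton.mp ha
    have hu : IsUnit (ψ f) := IsLocalRing.notMem_maximalIdeal.mp hi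
    have : ψ f = 1 := hu.mul_left_cancel (by rw [← map_mul, (he.idem i).eq, mul_one])
    rw [map_mul, map_sub, map_one, this, sub_self, zero_mul]
  let π : T' →+* T := Ideal.Quotient.lift K ψ.toRingHom hker
  have hπloc : IsLocalHom π := ⟨fun z hz => by
    obtain ⟨a, rfl⟩ := Ideal.Quotient.mk_surjective z
    exact IsLocalRing.notMem_maximalIdeal.mp fun h => IsLocalRing.notMem_maximalIdeal.mpr hz ((hmem a).mp h)⟩
  have : Algebra.IsIntegral S T' := inferInstance
  have : HenselianLocalRing T' := Groth.Hensel1.henselianLocalRing_of_finite S T'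
  have hπB : π.comp (algebraMap B T') = algebraMap B T := RingHom.ext fun b => by
    show ψ (algebraMap B (B ⊗[A] S) b) = _
    rw [Algebra.TensorProduct.algebraMap_apply, Algebra.algebraMap_self, RingHom.id_apply, hψB]
  have hBloc : IsLocalHom (algebraMap B T') := ⟨fun z hz => by
    refine isUnit_of_map_unit (algebraMap B T) _ ?_
    rw [← hπB]
    exact hz.map π⟩
  let iS : S →+* T' := algebraMap S T'
  have hπS : π.comp iS = g₀ := RingHom.ext hψS
  have hSloc : IsLocalHom iS := ⟨fun z hz => by
    refine isUnit_of_map_unit g₀ _ ?_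
    rw [← hπS]
    exact hz.map π⟩
  let kπ := IsLocalRing.ResidueField.map π
  let _ : Algebra (IsLocalRing.ResidueField T') (IsLocalRing.ResidueField T) := kπ.toAlgebra
  let _ : Algebra (IsLocalRing.ResidueField B) (IsLocalRing.ResidueField T') :=
    (IsLocalRing.ResidueField.map (algebraMap B T')).toAlgebra
  let _ : Algebra (IsLocalRing.ResidueField S) (IsLocalRing.ResidueField T') :=
    (IsLocalRing.ResidueField.map iS).toAlgebra
  let _ : Algebra (IsLocalRing.ResidueField S) (IsLocalRing.ResidueField T) :=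
    (IsLocalRing.ResidueField.map g₀).toAlgebra
  have : IsScalarTower (IsLocalRing.ResidueField B) (IsLocalRing.ResidueField T')
      (IsLocalRing.ResidueField T) := by
    refine IsScalarTower.of_algebraMap_eq fun z => ?_
    obtain ⟨z, rfl⟩ := IsLocalRing.residue_surjective z
    exact congrArg (IsLocalRing.residue T) (RingHom.congr_fun hπB z).symm
  have : IsScalarTower (IsLocalRing.ResidueField S) (IsLocalRing.ResidueField T')
      (IsLocalRing.ResidueField T) := by
    refine IsScalarTower.of_algebraMap_eq fun z => ?_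
    obtain ⟨z, rfl⟩ := IsLocalRing.residue_surjective z
    exact congrArg (IsLocalRing.residue T) (RingHom.congr_fun hπS z).symm
  have : Algebra.IsSeparable (IsLocalRing.ResidueField T') (IsLocalRing.ResidueField T) :=
    Algebra.isSeparable_tower_top_of_isSeparable
      (IsLocalRing.ResidueField B) (IsLocalRing.ResidueField T') (IsLocalRing.ResidueField T)
  have : Algebra.IsAlgebraic (IsLocalRing.ResidueField S) (IsLocalRing.ResidueField T') := ⟨fun z => by
    obtain ⟨z, rfl⟩ := IsLocalRing.residue_surjective z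
    obtain ⟨F, hFm, hF⟩ := Algebra.IsIntegral.isIntegral (R := S) z
    refine ⟨F.map (IsLocalRing.residue S), (hFm.map _).ne_zero, ?_⟩
    have h9 := congrArg (IsLocalRing.residue T') hF
    rw [map_zero, Polynomial.hom_eval₂] at h9
    rw [Polynomial.aeval_def, Polynomial.eval₂_map]
    exact h9⟩
  have : Algebra.IsAlgebraic (IsLocalRing.ResidueField S) (IsLocalRing.ResidueField T) :=
    Algebra.IsAlgebraic.trans (IsLocalRing.ResidueField S) (IsLocalRing.ResidueField T')
      (IsLocalRing.ResidueField T)
  have : IsPurelyInseparable (IsLocalRing.ResidueField T') (IsLocalRing.ResidueField T) :=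
    IsPurelyInseparable.tower_top (IsLocalRing.ResidueField S) (IsLocalRing.ResidueField T')
      (IsLocalRing.ResidueField T)
  let eκ : IsLocalRing.ResidueField T' ≃+* IsLocalRing.ResidueField T := RingEquiv.ofBijective kπ
    ⟨kπ.injective, IsPurelyInseparable.surjective_algebraMap_of_isSeparable
      (IsLocalRing.ResidueField T') (IsLocalRing.ResidueField T)⟩
  obtain ⟨g, ⟨hg, hgτ⟩, -⟩ := hT.universal T' (algebraMap B T') eκ.symm.toRingHom (by
    refine (RingHom.cancel_right IsLocalRing.residue_surjective).mp (RingHom.ext fun z => ?_)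
    show eκ.symm (IsLocalRing.residue T (algebraMap B T z)) = IsLocalRing.residue T' (algebraMap B T' z)
    rw [RingEquiv.symm_apply_eq, ← hπB]
    rfl)
  obtain ⟨e', -, he'⟩ := hT.universal T (algebraMap B T) (RingHom.id _) (RingHom.id_comp _)
  have hsec : π.comp g = RingHom.id T := by
    refine (he' _ ⟨?_, fun x => ?_⟩).trans (he' _ ⟨RingHom.id_comp _, fun _ => rfl⟩).symm
    · rw [RingHom.comp_assoc, hg, hπB]
    · show kπ (IsLocalRing.residue _ (g x)) = _
      rw [hgτ]
      exact eκ.apply_symm_apply _
  have hres : ∀ x, IsLocalRing.residue T' (g (π x)) = IsLocalRing.residue _ x := fun x => by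
    rw [hgτ]
    exact eκ.symm_apply_apply (IsLocalRing.residue _ x)
  have hgB : ∀ b, g (π (algebraMap B T' b)) = algebraMap B T' b := fun b => by
    rw [← RingHom.comp_apply π, hπB, ← RingHom.comp_apply g, hg]
  have hgS : ∀ s, g (π (iS s)) = iS s := by
    obtain ⟨e'', -, he''⟩ := hS.universal T' (iS.comp (algebraMap A S))
      (IsLocalRing.ResidueField.map iS)
      ((RingHom.cancel_right IsLocalRing.residue_surjective).mp (RingHom.ext fun z => rfl))
    refine fun s => RingHom.congr_fun ((he'' ((g.comp π).comp iS) ⟨?_, fun y => hres (iS y)⟩).trans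
      (he'' iS ⟨rfl, fun y => rfl⟩).symm) s
    refine RingHom.ext fun a => ?_
    have h5 : iS (algebraMap A S a) = algebraMap B T' (algebraMap A B a) := by
      refine congrArg (Ideal.Quotient.mk K) ?_
      show (1 : B) ⊗ₜ[A] algebraMap A S a = _
      rw [Algebra.TensorProduct.algebraMap_apply, Algebra.algebraMap_self, RingHom.id_apply,
        Algebra.algebraMap_eq_smul_one (R := A) (A := S), Algebra.algebraMap_eq_smul_one (R := A) (A := B),
        TensorProduct.smul_tmul]
    show g (π (iS (algebraMap A S a))) = iS (algebraMap A S a)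
    rw [h5, hgB]
  have hgπ : ∀ z, g (π z) = z := fun z => by
    obtain ⟨x, rfl⟩ := Ideal.Quotient.mk_surjective z
    induction x with
    | zero => simp
    | tmul b s =>
      have h3 : b ⊗ₜ[A] s = algebraMap B (B ⊗[A] S) b * algebraMap S (B ⊗[A] S) s := by
        simp [Algebra.TensorProduct.algebraMap_eq_includeRight]
      rw [h3, map_mul, map_mul, map_mul]
      exact congr_arg₂ (· * ·) (hgB b) (hgS s)
    | add x y hx hy => rw [map_add, map_add, map_add, hx, hy]
  let e₂ : T' ≃ₐ[B] T := AlgEquiv.ofBijective { π with commutes' := RingHom.congr_fun hπB }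
    ⟨Function.LeftInverse.injective (g := g) hgπ,
      Function.RightInverse.surjective (g := g) fun x => RingHom.congr_fun hsec x⟩
  exact ⟨e₁.trans e₂⟩

end Groth.Agent.S5072
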