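import Groth.Statements.S5073
import Mathlib.RingTheory.Localization.AtPrime.Basic
import Mathlib.RingTheory.Ideal.Operations
import Mathlib.RingTheory.Ideal.MinimalPrime.Localization
import Mathlib.RingTheory.Ideal.MinimalPrime.Noetherian

set_option autoImplicit false
universe u
open EGA418

namespace Groth.Agent.S5073

/-- Let A be a Noetherian local ring, p a prime ideal and x an element of A. Then there is an element x'
of A whose image in A_p equals that of x and which belongs to no minimal prime ideal of A not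
contained in p. -/
theorem result (A : Type u) [CommRing A] [IsNoetherianRing A] [IsLocalRing A]
    (p : Ideal A) [p.IsPrime] (x : A) :
    ∃ x' : A, algebraMap A (Localization.AtPrime p) x' = algebraMap A (Localization.AtPrime p) x ∧
      ∀ q ∈ minimalPrimes A, ¬ q ≤ p → x' ∉ q := by
  classical
  let S : Finset (Ideal A) := (minimalPrimes.finite_of_isNoetherianRing A).toFinset
  let K : Ideal A := RingHom.ker (algebraMap A (Localization.AtPrime p))
  have hS : ∀ q, q ∈ S ↔ q ∈ minimalPrimes A := fun q => Set.Finite.mem_toFinset _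
  have hK : ∀ q ∈ minimalPrimes A, ¬ q ≤ p → ¬ K ≤ q := by
    intro q hq hqp hle
    obtain ⟨c, hcq, hcp⟩ := SetLike.not_le_iff_exists.1 hqp
    haveI := Ideal.minimalPrimes_isPrime hq
    have hc : algebraMap A (Localization.AtPrime q) c ∈
        ((⊥ : Ideal A).map (algebraMap A (Localization.AtPrime q))).radical := by
      rw [IsLocalization.AtPrime.radical_map_of_mem_minimalPrimes (A := Localization.AtPrime q) q ⊥ hq]
      exact Ideal.mem_map_of_mem _ hcq
    obtain ⟨n, hn⟩ := hc
    rw [Ideal.map_bot, Ideal.mem_bot, ← map_pow] at hn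
    obtain ⟨s, hs⟩ := (IsLocalization.map_eq_zero_iff q.primeCompl (Localization.AtPrime q) _).1 hn
    refine s.2 (hle ?_)
    show algebraMap A (Localization.AtPrime p) (s : A) = 0
    refine (IsLocalization.map_eq_zero_iff p.primeCompl (Localization.AtPrime p) _).2
      ⟨⟨c ^ n, fun h => hcp (Ideal.IsPrime.mem_of_pow_mem ‹p.IsPrime› n h)⟩, ?_⟩
    show c ^ n * (s : A) = 0
    rw [mul_comm]; exact hs
  let Q1 : Finset (Ideal A) := S.filter fun q => ¬ q ≤ p ∧ x ∈ q
  let Q2 : Finset (Ideal A) := S.filter fun q => ¬ q ≤ p ∧ x ∉ q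
  let J : Ideal A := K ⊓ Q2.inf id
  have hJ : ∀ q ∈ Q1, ¬ J ≤ q := by
    intro q hq hle
    obtain ⟨hqS, hqp, hxq⟩ := Finset.mem_filter.1 hq
    have hqm := (hS q).1 hqS
    haveI := Ideal.minimalPrimes_isPrime hqm
    rcases (Ideal.IsPrime.inf_le ‹q.IsPrime›).1 hle with h | h
    · exact hK q hqm hqp h
    · obtain ⟨q', hq', hle'⟩ := (Ideal.IsPrime.inf_le' ‹q.IsPrime›).1 h
      obtain ⟨hq'S, -, hxq'⟩ := Finset.mem_filter.1 hq'
      have hle2 : q' ≤ q := hle'
      have hm := (hS q').1 hq'S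
      exact hxq' (hqm.2 ⟨Ideal.minimalPrimes_isPrime hm, bot_le⟩ hle2 hxq)
  obtain ⟨z, hzJ, hz⟩ : ∃ z ∈ J, ∀ q ∈ Q1, z ∉ q := by
    by_contra hne
    simp only [not_exists, not_and, not_forall, not_not] at hne
    obtain ⟨q, hq, hle⟩ := (Ideal.subset_union_prime (f := id) (I := J) (s := Q1) ⊥ ⊥
      (fun i hi _ _ => Ideal.minimalPrimes_isPrime ((hS i).1 (Finset.mem_filter.1 hi).1))).1
      (fun z hz => by
        obtain ⟨q, hq, hzq⟩ := hne z hz
        exact Set.mem_biUnion hq hzq)
    exact hJ q hq hle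
  refine ⟨x + z, ?_, fun q hq hqp hxz => ?_⟩
  · rw [map_add, show algebraMap A (Localization.AtPrime p) z = 0 from hzJ.1, add_zero]
  · by_cases hxq : x ∈ q
    · exact hz q (Finset.mem_filter.2 ⟨(hS q).2 hq, hqp, hxq⟩)
        ((Ideal.add_mem_iff_right q hxq).1 hxz)
    · have hz2 : z ∈ q :=
        (Finset.inf_le (f := id) (Finset.mem_filter.2 ⟨(hS q).2 hq, hqp, hxq⟩) : Q2.inf id ≤ q) hzJ.2
      exact hxq ((Ideal.add_mem_iff_left q hz2).1 hxz)

end Groth.Agent.S5073
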