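import Groth.Statements.S5076
import Mathlib

set_option autoImplicit false
universe u
open Unram

namespace Groth.Agent.S5076

/-- Let A be a local ring with maximal ideal m, C a finite A-algebra, r a maximal ideal of C, and u an
element of C which lies in every maximal ideal of C other than r, does not lie in r, and whose image
generates C_r modulo m C_r as an A-algebra. Let B = A[u] be the A-subalgebra of C generated by u and
n the inverse image of r in B. Then the canonical homomorphism B_n → C_r is bijective. -/
theorem result (A C : Type u) [CommRing A] [IsLocalRing A]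
    [CommRing C] [Algebra A C] [Module.Finite A C] (r : Ideal C) [r.IsMaximal] (u : C)
    (hu₁ : ∀ r' : Ideal C, r'.IsMaximal → r' ≠ r → u ∈ r') (hu₂ : u ∉ r)
    (hu₃ : Subalgebra.toSubmodule (Algebra.adjoin A {algebraMap C (Localization.AtPrime r) u}) ⊔
        Submodule.restrictScalars A (Ideal.map (algebraMap A (Localization.AtPrime r)) (IsLocalRing.maximalIdeal A)) = ⊤) :
    Function.Bijective (Localization.localRingHom (Ideal.comap (Algebra.adjoin A ({u} : Set C)).val.toRingHom r) r
      (Algebra.adjoin A ({u} : Set C)).val.toRingHom rfl) := by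
  classical
  let C' := Algebra.adjoin A ({u} : Set C)
  let p : Ideal C' := Ideal.comap C'.val.toRingHom r
  haveI : p.IsPrime := Ideal.comap_isPrime _ r
  haveI : r.LiesOver p := ⟨rfl⟩
  haveI : Module.Finite C' C := Module.Finite.of_restrictScalars_finite A C' C
  have hinj : Function.Injective (algebraMap C' C) := Subtype.val_injective
  haveI : FaithfulSMul C' C := (faithfulSMul_iff_algebraMap_injective C' C).2 hinj
  have hu' : (⟨u, Algebra.self_mem_adjoin_singleton A u⟩ : C') ∉ p := hu₂
  have hq : p.primesOver C = {r} := by
    refine Set.eq_singleton_iff_unique_mem.2 ⟨⟨inferInstance, inferInstance⟩, ?_⟩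
    rintro q ⟨hq1, hq2⟩
    obtain ⟨M, hM, hqM⟩ := q.exists_le_maximal hq1.ne_top
    have hpmax : p.IsMaximal := Ideal.isMaximal_comap_of_isIntegral_of_isMaximal (R := C') r
    have hqmax : q.IsMaximal := Ideal.isMaximal_of_isIntegral_of_isMaximal_comap (R := C') q
      (by rw [show q.comap (algebraMap C' C) = p from hq2.over.symm]; exact hpmax)
    by_contra hne
    have : (⟨u, Algebra.self_mem_adjoin_singleton A u⟩ : C') ∈ p := by
      rw [hq2.over]
      exact hu₁ q hqmax hne
    exact hu' this
  refine ⟨Localization.localRingHom_injective_of_primesOver_eq_singleton hq, ?_⟩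
  let φ := Localization.localRingHom p r C'.val.toRingHom rfl
  letI : Algebra (Localization.AtPrime p) (Localization.AtPrime r) := φ.toAlgebra
  haveI : Localization.AtPrime.IsLiesOverAlgebra p r := ⟨rfl⟩
  haveI := Localization.finite_of_primesOver_eq_singleton hq
  change Function.Surjective (Algebra.linearMap (Localization.AtPrime p) (Localization.AtPrime r))
  rw [← LinearMap.range_eq_top, ← top_le_iff]
  apply Submodule.le_of_le_smul_of_le_jacobson_bot Module.Finite.fg_top
    (IsLocalRing.maximalIdeal_le_jacobson _)
  rw [Ideal.smul_top_eq_map]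
  have key : ∀ c : C', φ (algebraMap C' (Localization.AtPrime p) c) =
      algebraMap C (Localization.AtPrime r) (c : C) :=
    fun c => Localization.localRingHom_to_map p r C'.val.toRingHom rfl c
  intro x _
  obtain ⟨y, hy, z, hz, rfl⟩ := Submodule.mem_sup.1
    (hu₃.ge (Submodule.mem_top (x := x) (R := A)))
  refine add_mem (Submodule.mem_sup_left ?_) (Submodule.mem_sup_right ?_)
  · have hle : Algebra.adjoin A {algebraMap C (Localization.AtPrime r) u} ≤
        C'.map (IsScalarTower.toAlgHom A C (Localization.AtPrime r)) := by
      rw [Algebra.adjoin_le_iff]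
      rintro _ rfl
      exact ⟨u, Algebra.self_mem_adjoin_singleton A u, rfl⟩
    obtain ⟨c, hc, rfl⟩ := hle hy
    exact ⟨algebraMap C' (Localization.AtPrime p) ⟨c, hc⟩, key ⟨c, hc⟩⟩
  · have hle : Ideal.map (algebraMap A (Localization.AtPrime r)) (IsLocalRing.maximalIdeal A) ≤
        Ideal.map φ (IsLocalRing.maximalIdeal (Localization.AtPrime p)) := by
      rw [Ideal.map_le_iff_le_comap]
      intro a ha
      rw [Ideal.mem_comap, IsScalarTower.algebraMap_apply A C (Localization.AtPrime r)]
      have hmem : algebraMap A C' a ∈ p := by
        change algebraMap A C a ∈ r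
        have h1 : (r.comap (algebraMap A C)).IsMaximal :=
          Ideal.isMaximal_comap_of_isIntegral_of_isMaximal (R := A) r
        rw [← IsLocalRing.eq_maximalIdeal h1] at ha
        exact ha
      rw [show algebraMap A C a = ((algebraMap A C' a : C') : C) from rfl, ← key]
      exact Ideal.mem_map_of_mem _ ((IsLocalization.AtPrime.to_map_mem_maximal_iff
        (Localization.AtPrime p) p (algebraMap A C' a)).2 hmem)
    exact hle hz

end Groth.Agent.S5076
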