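import Groth.Statements.S5077
import Groth.Agent.Purity.Killed
-- import your own Groth.Agent.* helpers here

set_option autoImplicit false
universe u
open Unram

namespace Groth.Agent.S5077

/-- Let A be a local ring and B a finite A-algebra generated by a single element u. Then there is a
monic polynomial F with coefficients in A such that F(u) = 0 and F'(u) does not belong to any
maximal ideal n of B at which B is unramified over A. -/
theorem result (A B : Type u) [CommRing A] [IsLocalRing A]
    [CommRing B] [Algebra A B] [Module.Finite A B] (u : B) (hu : Algebra.adjoin A ({u} : Set B) = ⊤) :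
    ∃ F : Polynomial A, F.Monic ∧ Polynomial.aeval u F = 0 ∧
      ∀ (n : Ideal B) [n.IsMaximal], Algebra.IsUnramifiedAt A n → Polynomial.aeval u (Polynomial.derivative F) ∉ n := by
  classical
  let m := IsLocalRing.maximalIdeal A
  let π := IsLocalRing.residue A
  let ev : Polynomial A →ₐ[A] B := Polynomial.aeval u
  have hev : Function.Surjective ev := by
    rw [← AlgHom.range_eq_top, ← Algebra.adjoin_singleton_eq_range_aeval, hu]
  let mp : Polynomial A →+* Polynomial (IsLocalRing.ResidueField A) := Polynomial.mapRingHom π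
  have hmp : Function.Surjective mp := Polynomial.map_surjective π IsLocalRing.residue_surjective
  let I : Ideal (Polynomial (IsLocalRing.ResidueField A)) := (RingHom.ker ev.toRingHom).map mp
  have hmB : ∀ q : Polynomial A, mp q = 0 → ev q ∈ m • (⊤ : Submodule A B) := fun q hq => by
    have hc : ∀ i, q.coeff i ∈ m := fun i => (IsLocalRing.residue_eq_zero_iff _).mp (by
      have := congr_arg (fun r => Polynomial.coeff r i) hq
      simpa [mp, π] using this)
    show Polynomial.aeval u q ∈ _
    rw [Polynomial.aeval_eq_sum_range]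
    exact Submodule.sum_mem _ fun i _ => Submodule.smul_mem_smul (hc i) Submodule.mem_top
  obtain ⟨G, hG, hG0⟩ := Algebra.IsIntegral.isIntegral (R := A) u
  have hI : I ≠ ⊥ := fun h => by
    have h1 : mp G ∈ I := Ideal.mem_map_of_mem mp (show G ∈ RingHom.ker ev.toRingHom from hG0)
    rw [h, Ideal.mem_bot] at h1
    exact (hG.map π).ne_zero h1
  let g := Submodule.IsPrincipal.generator I
  have hg0 : g ≠ 0 := fun h => hI ((Submodule.IsPrincipal.eq_bot_iff_generator_eq_zero I).mpr h)
  let f := g * Polynomial.C g.leadingCoeff⁻¹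
  have hf : f.Monic := Polynomial.monic_mul_leadingCoeff_inv hg0
  have hfI : f ∈ I := I.mul_mem_right _ (Submodule.IsPrincipal.generator_mem I)
  have hfd : ∀ r ∈ I, f ∣ r := fun r hr => by
    have h1 : g ∣ r := (Submodule.IsPrincipal.mem_iff_generator_dvd I).mp hr
    exact ((associated_mul_unit_right g _ (Polynomial.isUnit_C.mpr
      (isUnit_iff_ne_zero.mpr (inv_ne_zero (Polynomial.leadingCoeff_ne_zero.mpr hg0))))).symm.dvd).trans h1
  let d := f.natDegree
  let N : Submodule A B := (Polynomial.degreeLT A d).map ev.toLinearMap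
  have hspan : ⊤ ≤ N ⊔ m • (⊤ : Submodule A B) := by
    rintro b -
    obtain ⟨p, rfl⟩ := hev b
    have hdiv := Polynomial.modByMonic_add_div (mp p) f
    obtain ⟨q, hq, hq'⟩ := (Ideal.mem_map_iff_of_surjective mp hmp).mp
      (I.mul_mem_right (mp p /ₘ f) hfI)
    obtain ⟨R, hR, hRdeg⟩ := Polynomial.mem_lifts_and_degree_eq
      (f := π) (p := mp p %ₘ f) (Polynomial.map_surjective π IsLocalRing.residue_surjective _)
    have h0 : mp (p - q - R) = 0 := by
      rw [map_sub, map_sub, hq', show mp R = mp p %ₘ f from hR]
      linear_combination -hdiv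
    refine Submodule.mem_sup.mpr ⟨ev R, Submodule.mem_map_of_mem ?_, ev (p - q - R), hmB _ h0, ?_⟩
    · rw [Polynomial.mem_degreeLT, hRdeg, ← Polynomial.degree_eq_natDegree hf.ne_zero]
      exact Polynomial.degree_modByMonic_lt _ hf
    · rw [map_sub, map_sub, show ev q = 0 from hq]
      abel
  have hN : ⊤ ≤ N := Submodule.le_of_le_smul_of_le_jacobson_bot Module.Finite.fg_top
    (IsLocalRing.maximalIdeal_le_jacobson _) hspan
  obtain ⟨R, hR, hRu⟩ := hN (Submodule.mem_top (x := u ^ d))
  rw [SetLike.mem_coe, Polynomial.mem_degreeLT] at hR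
  let F := Polynomial.X ^ d - R
  have hF : F.Monic := Polynomial.monic_X_pow_sub hR
  have hFu : ev F = 0 := by
    rw [map_sub, map_pow, show ev R = u ^ d from hRu]
    simp [ev]
  have hFf : mp F = f := by
    show Polynomial.map π F = f
    refine (Polynomial.eq_of_monic_of_dvd_of_natDegree_le hf (hF.map π)
      (hfd _ (Ideal.mem_map_of_mem mp (show F ∈ RingHom.ker ev.toRingHom from hFu))) ?_)
    show (Polynomial.map π F).natDegree ≤ d
    refine Polynomial.natDegree_map_le.trans (le_of_eq ?_)
    rw [Polynomial.natDegree_eq_of_degree_eq_some]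
    rw [Polynomial.degree_sub_eq_left_of_degree_lt (by rwa [Polynomial.degree_X_pow]), Polynomial.degree_X_pow]
  refine ⟨F, hF, hFu, fun n _ hn hF' => ?_⟩
  have hmn : ∀ x ∈ m • (⊤ : Submodule A B), x ∈ n := fun x hx => by
    have h1 : n.comap (algebraMap A B) = m :=
      IsLocalRing.eq_maximalIdeal (Ideal.isMaximal_comap_of_isIntegral_of_isMaximal n)
    refine Submodule.smul_induction_on hx (fun a ha b _ => ?_) fun a b => n.add_mem
    rw [Algebra.smul_def]
    exact n.mul_mem_right _ (by rw [← h1] at ha; exact ha)
  have key : ∀ p : Polynomial A, ev p = 0 → ev (Polynomial.derivative p) ∈ n := fun p hp => by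
    obtain ⟨h, hh⟩ := hfd _ (Ideal.mem_map_of_mem mp (show p ∈ RingHom.ker ev.toRingHom from hp))
    obtain ⟨H, rfl⟩ := hmp h
    have h0 : mp (Polynomial.derivative (p - F * H)) = 0 := by
      show Polynomial.map π (Polynomial.derivative (p - F * H)) = 0
      rw [← Polynomial.derivative_map]
      have : mp (p - F * H) = 0 := by rw [map_sub, map_mul, hFf, hh, sub_self]
      rw [show Polynomial.map π (p - F * H) = 0 from this, Polynomial.derivative_zero]
    have h1 := hmn _ (hmB _ h0)
    rw [Polynomial.derivative_sub, Polynomial.derivative_mul, map_sub, map_add, map_mul, map_mul, hFu,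
      zero_mul, add_zero] at h1
    have h2 := n.add_mem h1 (n.mul_mem_right (ev H) (show ev (Polynomial.derivative F) ∈ n from hF'))
    rwa [sub_add_cancel] at h2
  let s := Function.surjInv hev
  have hs : ∀ b, ev (s b) = b := Function.surjInv_eq hev
  let δ₀ : B → B ⧸ n := fun b => Ideal.Quotient.mk n (ev (Polynomial.derivative (s b)))
  have hδ : ∀ p : Polynomial A, δ₀ (ev p) = Ideal.Quotient.mk n (ev (Polynomial.derivative p)) := fun p => by
    refine Ideal.Quotient.eq.mpr ?_
    rw [← map_sub, ← Polynomial.derivative_sub]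
    exact key _ (by rw [map_sub, hs, sub_self])
  let δ : Derivation A B (B ⧸ n) :=
    { toFun := δ₀
      map_add' := fun a b => by
        obtain ⟨p, rfl⟩ := hev a
        obtain ⟨q, rfl⟩ := hev b
        rw [← map_add, hδ, hδ, hδ, Polynomial.derivative_add, map_add, map_add]
      map_smul' := fun r a => by
        obtain ⟨p, rfl⟩ := hev a
        rw [← map_smul, hδ, hδ, Polynomial.derivative_smul, map_smul]
        rfl
      map_one_eq_zero' := by
        show δ₀ 1 = 0
        rw [← map_one ev, hδ, Polynomial.derivative_one, map_zero, map_zero]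
      leibniz' := fun a b => by
        obtain ⟨p, rfl⟩ := hev a
        obtain ⟨q, rfl⟩ := hev b
        show δ₀ (ev p * ev q) = ev p • δ₀ (ev q) + ev q • δ₀ (ev p)
        rw [← map_mul, hδ, hδ, hδ, Polynomial.derivative_mul, map_add, map_add, map_mul, map_mul,
          map_mul, map_mul, Algebra.smul_def, Algebra.smul_def, Ideal.Quotient.algebraMap_eq]
        ring }
  haveI := hn
  obtain ⟨j, hj, hk⟩ := Groth.Purity.exists_killed_of_isUnramifiedAt (R := A) n
  have h3 := congr_arg δ.liftKaehlerDifferential (hk u)
  rw [map_smul, map_zero, Derivation.liftKaehlerDifferential_comp_D] at h3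
  apply hj
  rw [← Ideal.Quotient.eq_zero_iff_mem]
  rw [Algebra.smul_def, Ideal.Quotient.algebraMap_eq] at h3
  have h4 : δ u = 1 := by
    show δ₀ u = 1
    have := hδ Polynomial.X
    rw [show ev Polynomial.X = u from Polynomial.aeval_X u] at this
    rw [this, Polynomial.derivative_X, map_one, map_one]
  rw [h4, mul_one] at h3
  exact h3

end Groth.Agent.S5077
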