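import Groth.Statements.S5078
import Mathlib.RingTheory.Finiteness.Projective


set_option autoImplicit false
universe u v
open Hensel

namespace Groth.Agent.S5078

/-- Let A be a ring, I an ideal such that A is I-adically separated and complete, and M a finitely
generated projective A-module. Then M is I-adically separated and complete. -/
theorem result {A : Type u} [CommRing A] (I : Ideal A) [IsAdicComplete I A]
    (M : Type v) [AddCommGroup M] [Module A M] [Module.Finite A M] [Module.Projective A M] :
    IsAdicComplete I M := by
  obtain ⟨n, π, s, -, hs, hcomp⟩ := Module.Finite.exists_comp_eq_id_of_projective A M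
  have hmap : ∀ (φ : M →ₗ[A] A) (k : ℕ) (x y : M), x ≡ y [SMOD (I ^ k • ⊤ : Submodule A M)] →
      φ x ≡ φ y [SMOD (I ^ k • ⊤ : Submodule A A)] := fun φ k x y h => by
    rw [SModEq.sub_mem] at h ⊢
    rw [← map_sub]
    have := Submodule.mem_map_of_mem (f := φ) h
    rw [Submodule.map_smul''] at this
    exact Submodule.smul_mono le_rfl le_top this
  refine { haus' := fun x hx => hs ?_, prec' := fun f hf => ?_ }
  · rw [map_zero]
    funext i
    refine IsHausdorff.haus (inferInstance : IsHausdorff I A) _ fun k => ?_
    simpa using hmap ((LinearMap.proj i).comp s) k x 0 (hx k)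
  · choose L hL using fun i : Fin n => IsPrecomplete.prec (inferInstance : IsPrecomplete I A)
      (f := fun k => s (f k) i) (fun h => hmap ((LinearMap.proj i).comp s) _ _ _ (hf h))
    refine ⟨π L, fun k => ?_⟩
    rw [show f k = π (s (f k)) from (LinearMap.congr_fun hcomp (f k)).symm, SModEq.sub_mem, ← map_sub]
    rw [pi_eq_sum_univ (s (f k) - L), map_sum]
    refine Submodule.sum_mem _ fun i _ => ?_
    rw [map_smul]
    refine Submodule.smul_mem_smul ?_ Submodule.mem_top
    have := SModEq.sub_mem.mp (hL i k)
    rwa [smul_eq_mul, Ideal.mul_top] at this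

end Groth.Agent.S5078
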