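import Groth.Statements.S5079
import Groth.Agent.S4568
import Groth.Agent.EtaleAlgebra.ExtBaseChange
import Mathlib.AlgebraicGeometry.AffineScheme
-- import your own Groth.Agent.* helpers here

set_option autoImplicit false
set_option linter.style.haveILetI false
open CategoryTheory AlgebraicGeometry Opposite
universe u
open Unram

namespace Groth.Agent.S5079

section Helper

/-- Primes of the total ring of fractions of a reduced Noetherian ring are maximal. -/
theorem isMaximal_of_isPrime_fractionRing (A : Type u) [CommRing A] [IsNoetherianRing A] [IsReduced A]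
    (P : Ideal (FractionRing A)) [P.IsPrime] : P.IsMaximal := by
  have hmin : ∀ P : Ideal (FractionRing A), P.IsPrime → P.comap (algebraMap A (FractionRing A)) ∈ minimalPrimes A := by
    intro P hP
    have hfin : (minimalPrimes A).Finite := minimalPrimes.finite_of_isNoetherianRing A
    have hsub : ((P.comap (algebraMap A (FractionRing A)) : Ideal A) : Set A) ⊆
        ⋃ q ∈ (↑hfin.toFinset : Set (Ideal A)), ((id q : Ideal A) : Set A) := by
      intro a ha
      have hna : a ∉ nonZeroDivisors A := fun h =>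
        hP.ne_top (P.eq_top_of_isUnit_mem ha (IsLocalization.map_units _ (⟨a, h⟩ : nonZeroDivisors A)))
      rw [mem_nonZeroDivisors_iff_right] at hna
      push Not at hna
      obtain ⟨b, hb, hb0⟩ := hna
      obtain ⟨q, hq, hbq⟩ : ∃ q ∈ minimalPrimes A, b ∉ q := by
        by_contra h
        push Not at h
        have : b ∈ sInf (minimalPrimes A) := (Submodule.mem_sInf).2 h
        rw [minimalPrimes, Ideal.sInf_minimalPrimes, Ideal.mem_radical_iff] at this
        obtain ⟨n, hn⟩ := this
        exact hb0 (IsReduced.eq_zero b ⟨n, by simpa using hn⟩)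
      simp only [Set.mem_iUnion, Set.Finite.coe_toFinset, id_eq, exists_prop]
      exact ⟨q, hq, ((hq.1.1).mem_or_mem (hb ▸ q.zero_mem : b * a ∈ q)).resolve_left hbq⟩
    rw [Ideal.subset_union_prime (f := id) ⊥ ⊥ (fun q hq _ _ => (hfin.mem_toFinset.mp hq).1.1)] at hsub
    obtain ⟨q, hq, hle⟩ := hsub
    have hq' := hfin.mem_toFinset.mp hq
    exact le_antisymm hle (hq'.2 ⟨Ideal.IsPrime.comap _, bot_le⟩ hle) ▸ hq'
  obtain ⟨M, hM, hPM⟩ := Ideal.exists_le_maximal P (Ideal.IsPrime.ne_top ‹_›)
  have h : P.comap (algebraMap A (FractionRing A)) = M.comap (algebraMap A (FractionRing A)) :=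
    le_antisymm (Ideal.comap_mono hPM) ((hmin M inferInstance).2 ⟨Ideal.IsPrime.comap _, bot_le⟩ (Ideal.comap_mono hPM))
  have := congrArg (Ideal.map (algebraMap A (FractionRing A))) h
  rw [IsLocalization.map_under (nonZeroDivisors A), IsLocalization.map_under (nonZeroDivisors A)] at this
  exact this ▸ hM

/-- A function on the punctured spectrum is integral. -/
theorem isIntegral_of_forall (A : Type u) [CommRing A] [IsNoetherianRing A] [IsLocalRing A] [IsReduced A]
    (hdim : ∀ (m' : Ideal ↥(integralClosure A (FractionRing A))) [m'.IsMaximal],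
      m'.comap (algebraMap A ↥(integralClosure A (FractionRing A))) = IsLocalRing.maximalIdeal A →
        2 ≤ ringKrullDim (Localization.AtPrime m'))
    (z : FractionRing A)
    (hz : ∀ p : Ideal A, p.IsPrime → p ≠ IsLocalRing.maximalIdeal A → ∃ d ∉ p, ∃ a : A,
      algebraMap A (FractionRing A) d * z = algebraMap A (FractionRing A) a) :
    IsIntegral A z := by
  classical
  let Q := FractionRing A
  haveI : IsNoetherianRing Q := IsLocalization.isNoetherianRing (nonZeroDivisors A) Q inferInstance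
  haveI : IsReduced Q := inferInstanceAs (IsReduced (Localization (nonZeroDivisors A)))
  suffices hcomp : ∀ P : Ideal Q, P.IsPrime → ∃ f : Polynomial A, f.Monic ∧
      Polynomial.eval₂ (algebraMap A Q) z f ∈ P by
    have hfin : (minimalPrimes Q).Finite := minimalPrimes.finite_of_isNoetherianRing Q
    choose f hf hfP using hcomp
    refine ⟨∏ P ∈ hfin.toFinset.attach, f P.1 (hfin.mem_toFinset.1 P.2).1.1,
      Polynomial.monic_prod_of_monic _ _ fun P _ => hf _ _, ?_⟩
    rw [← Polynomial.coe_eval₂RingHom, map_prod]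
    refine IsReduced.eq_zero _ (nilpotent_iff_mem_prime.2 fun J hJ => ?_)
    obtain ⟨P, hP, hPJ⟩ := Ideal.exists_minimalPrimes_le (J := J) (I := ⊥) bot_le
    exact hPJ (Ideal.mem_of_dvd _ (Finset.dvd_prod_of_mem _
      (Finset.mem_attach hfin.toFinset ⟨P, hfin.mem_toFinset.2 hP⟩)) (hfP P hP.1.1))
  intro P hP
  haveI := isMaximal_of_isPrime_fractionRing A P
  let K := Q ⧸ P
  letI : Field K := Ideal.Quotient.field P
  let π : Q →+* K := Ideal.Quotient.mk P
  let 𝔭 := P.comap (algebraMap A Q)
  let A₁ := A ⧸ 𝔭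
  haveI : IsLocalRing A₁ := IsLocalRing.of_surjective' (Ideal.Quotient.mk 𝔭) Ideal.Quotient.mk_surjective
  letI : Algebra A₁ K := (Ideal.Quotient.lift 𝔭 (π.comp (algebraMap A Q)) fun a ha =>
    Ideal.Quotient.eq_zero_iff_mem.2 ha).toAlgebra
  haveI hA₁K : IsScalarTower A A₁ K := IsScalarTower.of_algebraMap_eq (R := A) (S := A₁) (A := K) fun _ => rfl
  haveI : FaithfulSMul A₁ K := (faithfulSMul_iff_algebraMap_injective A₁ K).2 <| by
    rw [injective_iff_map_eq_zero]
    intro x hx
    obtain ⟨x, rfl⟩ := Ideal.Quotient.mk_surjective x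
    exact Ideal.Quotient.eq_zero_iff_mem.2
      (Ideal.mem_comap.2 (Ideal.Quotient.eq_zero_iff_mem.1 (show π (algebraMap A Q x) = 0 from hx)))
  haveI : IsFractionRing A₁ K := by
    refine IsFractionRing.of_field A₁ K fun x => ?_
    obtain ⟨q, rfl⟩ := Ideal.Quotient.mk_surjective x
    obtain ⟨⟨a, b⟩, hab⟩ := IsLocalization.surj (nonZeroDivisors A) q
    refine ⟨Ideal.Quotient.mk 𝔭 a, Ideal.Quotient.mk 𝔭 (b : A), ?_⟩
    show π q = π (algebraMap A Q a) / π (algebraMap A Q (b : A))
    rw [← hab, map_mul, mul_div_cancel_right₀ _ ((IsLocalization.map_units Q b).map π).ne_zero]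
  haveI : Algebra.IsIntegral A A₁ := ⟨fun x => by
    obtain ⟨x, rfl⟩ := Ideal.Quotient.mk_surjective x
    exact isIntegral_algebraMap⟩
  suffices hint : IsIntegral A₁ (π z) by
    obtain ⟨f, hf, hf0⟩ := isIntegral_trans (R := A) (π z) hint
    refine ⟨f, hf, Ideal.Quotient.eq_zero_iff_mem.1 ?_⟩
    rw [Polynomial.hom_eval₂]
    exact hf0
  obtain ⟨C, hC, hCi⟩ := Groth.Agent.S4568.exists_subalgebra (A := A₁) K
  refine (hCi (π z)).2 fun p hp hht => ?_
  let q := (p.comap (algebraMap A₁ C)).comap (Ideal.Quotient.mk 𝔭)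
  by_cases hq : q = IsLocalRing.maximalIdeal A
  swap
  · obtain ⟨d, hd, a, hda⟩ := hz q inferInstance hq
    refine ⟨algebraMap A₁ C (Ideal.Quotient.mk 𝔭 d), hd, ?_⟩
    have : ((algebraMap A₁ C (Ideal.Quotient.mk 𝔭 d) : C) : K) * π z = π (algebraMap A Q a) := by
      rw [← hda, map_mul]; rfl
    rw [this]
    exact isIntegral_algebraMap (x := algebraMap A₁ C (Ideal.Quotient.mk 𝔭 a))
  exfalso
  haveI : Algebra.IsIntegral A₁ C := Algebra.IsIntegral.of_finite A₁ C
  let C' := integralClosure A K
  have hle : ∀ x : C, (x : K) ∈ C' := fun x =>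
    isIntegral_trans (R := A) (x : K) ((Algebra.IsIntegral.isIntegral (R := A₁) x).map C.val)
  let ι : C →+* C' := C.val.toRingHom.codRestrict C' hle
  letI : Algebra C C' := ι.toAlgebra
  haveI : Algebra.IsIntegral C C' := ⟨fun x => by
    obtain ⟨f, hf, hf0⟩ := x.2
    refine ⟨f.map ((algebraMap A₁ C).comp (Ideal.Quotient.mk 𝔭)), hf.map _, Subtype.val_injective ?_⟩
    rw [Polynomial.eval₂_map]
    exact (Polynomial.hom_eval₂ f _ C'.val.toRingHom x).trans hf0⟩
  have hιinj : Function.Injective ι := fun a b h => Subtype.ext (congrArg (fun w : C' => (w : K)) h)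
  obtain ⟨M, -, hMp, hMc⟩ := Ideal.exists_ideal_over_prime_of_isIntegral p (⊥ : Ideal C')
    (by show (⊥ : Ideal C').comap ι ≤ p; rw [Ideal.comap_bot_of_injective _ hιinj]; exact bot_le)
  -- the map of normalizations is surjective
  let A' := integralClosure A Q
  let φ : A' →+* C' := (π.comp A'.val.toRingHom).codRestrict C' fun x => by
    obtain ⟨f, hf, hf0⟩ := x.2
    exact ⟨f, hf, (Polynomial.hom_eval₂ f (algebraMap A Q) π (x : Q)).symm.trans ((congrArg π hf0).trans (map_zero π))⟩
  obtain ⟨e, he, heP⟩ : ∃ e : Q, π e = 1 ∧ ∀ y ∈ P, e * y = 0 := by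
    obtain ⟨T, hT⟩ := IsNoetherian.noetherian P
    choose s hs hsy using fun y : T => Groth.EtaleAlgebra.exists_notMem_mul_eq_zero
      (fun J hJ => isMaximal_of_isPrime_fractionRing A J) P (hT.le (Submodule.subset_span y.2))
    have hs0 : π (∏ y, s y) ≠ 0 := by
      rw [map_prod]
      exact Finset.prod_ne_zero_iff.2 fun y _ h => hs y (Ideal.Quotient.eq_zero_iff_mem.1 h)
    obtain ⟨r, hr⟩ := Ideal.Quotient.mk_surjective (π (∏ y, s y))⁻¹
    refine ⟨r * ∏ y, s y, by rw [map_mul, show π r = _ from hr, inv_mul_cancel₀ hs0], fun y hy => ?_⟩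
    rw [← hT] at hy
    induction hy using Submodule.span_induction with
    | mem w hw =>
      rw [← Finset.prod_erase_mul Finset.univ s (Finset.mem_univ (⟨w, hw⟩ : T)), mul_assoc, mul_assoc, hsy ⟨w, hw⟩,
        mul_zero, mul_zero]
    | zero => rw [mul_zero]
    | add u v _ _ hu hv => rw [mul_add, hu, hv, add_zero]
    | smul c u _ hu => rw [smul_eq_mul, mul_left_comm, hu, mul_zero]
  have hkill : ∀ y : Q, π y = 0 → e * y = 0 := fun y hy => heP y (Ideal.Quotient.eq_zero_iff_mem.1 hy)
  have hφ : Function.Surjective φ := fun y => by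
    obtain ⟨w, hw⟩ := Ideal.Quotient.mk_surjective (y : K)
    obtain ⟨f, hf, hf0⟩ := y.2
    have hint : IsIntegral A (e * w) := by
      refine ⟨Polynomial.X * f, Polynomial.monic_X.mul hf, ?_⟩
      rw [Polynomial.eval₂_mul, Polynomial.eval₂_X, mul_assoc, mul_comm w, ← mul_assoc, hkill _ ?_, zero_mul]
      rw [Polynomial.hom_eval₂, map_mul, he, one_mul, show π w = (y : K) from hw]
      exact hf0
    refine ⟨⟨e * w, hint⟩, Subtype.ext ?_⟩
    show π (e * w) = _
    rw [map_mul, he, one_mul]
    exact hw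
  have hMC : M.IsMaximal := by
    refine Ideal.isMaximal_of_isIntegral_of_isMaximal_comap (R := C) M ?_
    rw [hMc]
    refine Ideal.isMaximal_of_isIntegral_of_isMaximal_comap (R := A₁) p ?_
    have hq' : (Ideal.comap (Ideal.Quotient.mk 𝔭) (p.comap (algebraMap A₁ C))).IsMaximal := by
      show q.IsMaximal
      rw [hq]; exact IsLocalRing.maximalIdeal.isMaximal A
    rcases Ideal.map_eq_top_or_isMaximal_of_surjective (Ideal.Quotient.mk 𝔭) Ideal.Quotient.mk_surjective hq'
      with h | h <;> rw [Ideal.map_comap_of_surjective _ Ideal.Quotient.mk_surjective] at h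
    · exact absurd h (Ideal.IsPrime.ne_top (Ideal.IsPrime.comap _))
    · exact h
  let m' := M.comap φ
  haveI : m'.IsMaximal := Ideal.comap_isMaximal_of_surjective φ hφ
  have hm' : m'.comap (algebraMap A A') = IsLocalRing.maximalIdeal A := by
    rw [← hq]
    show (M.comap φ).comap (algebraMap A A') = ((p.comap (algebraMap A₁ C)).comap (Ideal.Quotient.mk 𝔭))
    rw [← hMc, Ideal.comap_comap, Ideal.comap_comap, Ideal.comap_comap]
    exact congrArg (fun ψ => M.comap ψ) (RingHom.ext fun a => Subtype.ext rfl)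
  have h2 := hdim m' hm'
  rw [IsLocalization.AtPrime.ringKrullDim_eq_height m' (Localization.AtPrime m')] at h2
  obtain ⟨J, hJp, hJm, hJ⟩ : ∃ J : Ideal A', J.IsPrime ∧ J < m' ∧ J.height ≠ 0 := by
    by_contra h
    push Not at h
    have : m'.height ≤ (1 : ℕ) := Ideal.height_le_iff.2 fun J hJ hlt => by
      rw [h J hJ hlt]; exact Nat.cast_pos.2 one_pos
    have h3 : ((2 : ℕ) : ℕ∞) ≤ m'.height := WithBot.coe_le_coe.1 h2
    exact absurd (h3.trans this) (by norm_num)
  obtain ⟨J₀, hJ₀, hJ₀J⟩ := Ideal.exists_minimalPrimes_le (J := J) (I := (⊥ : Ideal A')) bot_le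
  haveI := hJ₀.1.1
  have hne : J₀ ≠ J := fun h => hJ (h ▸ by
    exact Ideal.height_eq_zero_iff.2 hJ₀)
  have heA : IsIntegral A e := by
    have h1 : e * (e - 1) = 0 := hkill _ (by rw [map_sub, he, map_one, sub_self])
    exact ⟨Polynomial.X * (Polynomial.X - 1), Polynomial.monic_X.mul (Polynomial.monic_X_sub_C (1 : A) |> fun h => by simpa using h),
      by simpa [Polynomial.eval₂_mul, Polynomial.eval₂_sub] using h1⟩
  have hker : ∀ I : Ideal A', I.IsPrime → I ≤ m' → RingHom.ker φ ≤ I := by
    intro I hI hIm x hx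
    have h1 : (⟨e, heA⟩ : A') * x = 0 := Subtype.ext (hkill (x : Q) (congrArg (fun w : C' => (w : K)) hx))
    refine (hI.mem_or_mem (h1 ▸ I.zero_mem)).resolve_left fun he' => ?_
    have h3 : φ (⟨e, heA⟩ : A') = 1 := Subtype.ext he
    have h4 : φ (⟨e, heA⟩ : A') ∈ M := hIm he'
    rw [h3] at h4
    exact hMC.ne_top ((M.eq_top_iff_one).2 h4)
  have hstep : ∀ I I' : Ideal A', I.IsPrime → I'.IsPrime → I < I' → I' ≤ m' →
      (I.map φ).comap ι < (I'.map φ).comap ι ∧ ((I.map φ).comap ι).IsPrime := by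
    intro I I' hI hI' hlt hle'
    haveI := Ideal.map_isPrime_of_surjective hφ (hker I hI (hlt.le.trans hle'))
    refine ⟨Ideal.IsIntegral.comap_lt_comap (R := C) (lt_of_le_of_ne (Ideal.map_mono hlt.le) fun h => hlt.ne ?_),
      Ideal.IsPrime.comap _⟩
    have := congrArg (Ideal.comap φ) h
    rwa [Ideal.comap_map_of_surjective φ hφ, Ideal.comap_map_of_surjective φ hφ,
      ← RingHom.ker_eq_comap_bot, sup_eq_left.2 (hker I hI (hlt.le.trans hle')), sup_eq_left.2 (hker I' hI' hle')] at this
  obtain ⟨h01, hp0⟩ := hstep J₀ J hJ₀.1.1 hJp (lt_of_le_of_ne hJ₀J hne) hJm.le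
  obtain ⟨h12, hp1⟩ := hstep J m' hJp inferInstance hJm le_rfl
  have hM' : (m'.map φ).comap ι = p := by
    rw [Ideal.map_comap_of_surjective φ hφ]; exact hMc
  rw [hM'] at h12
  have a1 := Ideal.height_add_one_le_of_lt_of_isPrime h01
  have a2 := Ideal.height_add_one_le_of_lt_of_isPrime h12
  rw [hht] at a2
  have : (2 : ℕ∞) ≤ 1 := le_trans (by
    calc (2 : ℕ∞) = 0 + 1 + 1 := by norm_num
      _ ≤ ((J₀.map φ).comap ι).height + 1 + 1 := by gcongr; exact bot_le
      _ ≤ ((J.map φ).comap ι).height + 1 := by gcongr) a2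
  norm_num at this

end Helper

/-- Let A be a reduced Noetherian local ring, A' the integral closure of A in its total ring of
fractions and U the punctured spectrum of A. Assume that for every maximal ideal m' of A' lying over
the maximal ideal of A the local ring A'_{m'} has dimension at least 2. Then, writing ρ for the
restriction map A = Γ(Spec A, O) → Γ(U, O), the ring Γ(U, O) is integral over A via ρ and there is
an injective ring homomorphism Γ(U, O) → A' compatible with ρ and the inclusion of A in A'. -/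
theorem result (A : Type u) [CommRing A] [IsNoetherianRing A]
    [IsLocalRing A] [IsReduced A]
    (hdim : ∀ (m' : Ideal ↥(integralClosure A (FractionRing A))) [m'.IsMaximal],
      m'.comap (algebraMap A ↥(integralClosure A (FractionRing A))) = IsLocalRing.maximalIdeal A →
        2 ≤ ringKrullDim (Localization.AtPrime m')) :
    (((Spec (CommRingCat.of A)).presheaf.map (homOfLE (le_top : FEt.puncturedSpec A ≤ ⊤)).op).hom.comp
        (Scheme.ΓSpecIso (CommRingCat.of A)).inv.hom).IsIntegral ∧
      ∃ φ : ↑((Spec (CommRingCat.of A)).presheaf.obj (op (FEt.puncturedSpec A))) →+* ↥(integralClosure A (FractionRing A)),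
        Function.Injective φ ∧
          φ.comp (((Spec (CommRingCat.of A)).presheaf.map (homOfLE (le_top : FEt.puncturedSpec A ≤ ⊤)).op).hom.comp
            (Scheme.ΓSpecIso (CommRingCat.of A)).inv.hom) = algebraMap A ↥(integralClosure A (FractionRing A)) := by
  classical
  let S := Spec (CommRingCat.of A)
  let U : S.Opens := FEt.puncturedSpec A
  let ρ : A →+* Γ(S, U) := (S.presheaf.map (homOfLE (le_top : U ≤ ⊤)).op).hom.comp
    (Scheme.ΓSpecIso (CommRingCat.of A)).inv.hom
  let D : A → S.Opens := fun t => PrimeSpectrum.basicOpen t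
  have hDU : ∀ t ∈ IsLocalRing.maximalIdeal A, D t ≤ U := fun t ht p hp hp' => by
    rw [Set.mem_singleton_iff.1 hp'] at hp
    exact hp ht
  let toD : ∀ t : A, A →+* Γ(S, D t) := fun t => (S.presheaf.map (homOfLE (le_top : D t ≤ ⊤)).op).hom.comp
    (Scheme.ΓSpecIso (CommRingCat.of A)).inv.hom
  letI aD : ∀ t : A, Algebra A Γ(S, D t) := fun t => (toD t).toAlgebra
  have hlocD : ∀ t : A, IsLocalization.Away t Γ(S, D t) := fun t => by
    have e : aD t = StructureSheaf.openAlgebra A (op (PrimeSpectrum.basicOpen t)) :=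
      Algebra.algebra_ext _ _ fun a => rfl
    show @IsLocalization.Away A _ t Γ(S, D t) _ (aD t)
    rw [e]
    exact StructureSheaf.IsLocalization.to_basicOpen A t
  let res : ∀ {V W : S.Opens}, W ≤ V → Γ(S, V) →+* Γ(S, W) := fun h => (S.presheaf.map (homOfLE h).op).hom
  have hres : ∀ {V W W' : S.Opens} (h : W ≤ V) (h' : W' ≤ W) (s : Γ(S, V)),
      res h' (res h s) = res (h'.trans h) s := fun h h' s => by
    show (S.presheaf.map _ ≫ S.presheaf.map _) s = _
    rw [← Functor.map_comp]
    rfl
  have hρD : ∀ t (ht : t ∈ IsLocalRing.maximalIdeal A) a, res (hDU t ht) (ρ a) = algebraMap A Γ(S, D t) a :=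
    fun t ht a => hres le_top (hDU t ht) _
  obtain ⟨t, htm, htnz⟩ : ∃ t ∈ IsLocalRing.maximalIdeal A, t ∈ nonZeroDivisors A := by
    by_contra hcon
    push Not at hcon
    have hunit : ∀ t : A, t ∈ nonZeroDivisors A → IsUnit t := fun t ht => by
      by_contra h
      exact hcon t h ht
    let e := IsLocalization.atUnits A (nonZeroDivisors A) (S := FractionRing A) hunit
    let A' := integralClosure A (FractionRing A)
    have hsurj : Function.Surjective (algebraMap A A') := fun x => by
      obtain ⟨a, ha⟩ := e.surjective (x : FractionRing A)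
      exact ⟨a, Subtype.ext ((e.commutes a).symm.trans ha)⟩
    have hinjA : Function.Injective (algebraMap A A') := fun a b h =>
      IsFractionRing.injective A (FractionRing A) (congrArg Subtype.val h)
    let eA := RingEquiv.ofBijective (algebraMap A A') ⟨hinjA, hsurj⟩
    let m' : Ideal A' := (IsLocalRing.maximalIdeal A).map (algebraMap A A')
    haveI : m'.IsMaximal :=
      (Ideal.isMaximal_map_iff_of_bijective (f := algebraMap A A') ⟨hinjA, hsurj⟩).2 inferInstance
    have hm' : m'.comap (algebraMap A A') = IsLocalRing.maximalIdeal A := by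
      rw [Ideal.comap_map_of_surjective _ hsurj, Ideal.comap_bot_of_injective _ hinjA, sup_bot_eq]
    have h2 := hdim m' hm'
    rw [IsLocalization.AtPrime.ringKrullDim_eq_height m' (Localization.AtPrime m')] at h2
    have hmin : IsLocalRing.maximalIdeal A ∈ minimalPrimes A := by
      refine ⟨⟨inferInstance, bot_le⟩, fun J hJ hle x hx => ?_⟩
      by_contra hxJ
      haveI := hJ.1
      obtain ⟨q, hq, hqJ⟩ := Ideal.exists_minimalPrimes_le (J := J) (I := (⊥ : Ideal A)) bot_le
      have hsub : ((IsLocalRing.maximalIdeal A : Ideal A) : Set A) ⊆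
          ⋃ q ∈ (⊥ : Ideal A).minimalPrimes, (q : Set A) := fun y hy => by
        rw [Ideal.iUnion_minimalPrimes]
        have hy' : y ∉ nonZeroDivisors A := fun h => hy (hunit y h)
        rw [mem_nonZeroDivisors_iff_right] at hy'
        push Not at hy'
        obtain ⟨w, hw, hw0⟩ := hy'
        refine ⟨w, fun h => hw0 (IsReduced.eq_zero w ?_), ?_⟩
        · simpa [Ideal.radical, IsNilpotent] using h
        · rw [mul_comm, hw]; exact zero_mem _
      have hfin := (minimalPrimes.finite_of_isNoetherianRing A)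
      have hsub' : ((IsLocalRing.maximalIdeal A : Ideal A) : Set A) ⊆
          ⋃ q ∈ (↑hfin.toFinset : Set (Ideal A)), ((id q : Ideal A) : Set A) := by
        simpa [minimalPrimes] using hsub
      rw [Ideal.subset_union_prime (f := id) ⊥ ⊥ (fun q hq _ _ => (hfin.mem_toFinset.mp hq).1.1)] at hsub'
      obtain ⟨q', hq', hle'⟩ := hsub'
      have hq'm := hfin.mem_toFinset.mp hq'
      have : q' ≤ J := hq'm.2 hJ (hle.trans hle')
      exact hxJ (this (hle' hx))
    have h0 : m'.height = 0 := by
      rw [← RingEquiv.height_comap eA m', show m'.comap eA = IsLocalRing.maximalIdeal A from hm',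
        Ideal.height_eq_zero_iff]
      exact hmin
    rw [h0] at h2
    norm_num at h2
  let Q := FractionRing A
  have huQ : ∀ y : Submonoid.powers t, IsUnit (algebraMap A Q (y : A)) := fun y => by
    obtain ⟨n, hn⟩ := y.2
    exact IsLocalization.map_units Q (⟨(y : A), hn ▸ pow_mem htnz n⟩ : nonZeroDivisors A)
  haveI := hlocD t
  let α : Γ(S, D t) →+* Q := IsLocalization.lift huQ
  let ψ : Γ(S, U) →+* Q := α.comp (res (hDU t htm))
  have hψρ : ∀ a, ψ (ρ a) = algebraMap A Q a := fun a => by
    show α (res (hDU t htm) (ρ a)) = _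
    rw [hρD t htm]
    exact IsLocalization.lift_eq huQ a
  -- vanishing transfers between `D t` and `D d`
  have hkill : ∀ (d : A) (hd : d ∈ IsLocalRing.maximalIdeal A) (s : Γ(S, U)) ,
      (res (hDU d hd) s = 0 → ∃ j : ℕ, algebraMap A Q (d ^ j) * ψ s = 0) := by
    intro d hd s hs
    obtain ⟨⟨a, y⟩, hay⟩ := IsLocalization.surj (Submonoid.powers t) (res (hDU t htm) s)
    have hle : D (d * t) ≤ D d := (PrimeSpectrum.basicOpen_mul d t).le.trans inf_le_left
    have hle' : D (d * t) ≤ D t := (PrimeSpectrum.basicOpen_mul d t).le.trans inf_le_right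
    have h1 : algebraMap A Γ(S, D (d * t)) a = 0 := by
      have := congrArg (res hle') hay
      rw [map_mul, hres, ← hres (hDU d hd) hle, hs, map_zero, zero_mul] at this
      refine Eq.trans ?_ this.symm
      exact (hres le_top hle' _).symm
    haveI := hlocD (d * t)
    obtain ⟨⟨_, j, rfl⟩, hj⟩ := (IsLocalization.map_eq_zero_iff (Submonoid.powers (d * t)) Γ(S, D (d * t)) a).1 h1
    have h2 : d ^ j * a = 0 := by
      have : t ^ j * (d ^ j * a) = 0 := by rw [← mul_assoc, ← mul_pow, mul_comm t d]; exact hj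
      exact (mem_nonZeroDivisors_iff_left.1 (pow_mem htnz j)) _ this
    refine ⟨j, (huQ y).mul_left_eq_zero.1 ?_⟩
    rw [mul_assoc, ← IsLocalization.lift_eq (S := Γ(S, D t)) huQ (y : A)]
    show algebraMap A Q (d ^ j) * (α (res (hDU t htm) s) * α (algebraMap A _ (y : A))) = 0
    rw [← map_mul α, hay, IsLocalization.lift_eq, ← map_mul, h2, map_zero]
  have hint : ∀ s : Γ(S, U), IsIntegral A (ψ s) := fun s => by
    refine isIntegral_of_forall A hdim (ψ s) fun p hp hpm => ?_
    obtain ⟨d, hdm, hdp⟩ := SetLike.not_le_iff_exists.1 fun h : IsLocalRing.maximalIdeal A ≤ p =>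
      hpm ((IsLocalRing.maximalIdeal.isMaximal A).eq_of_le hp.ne_top h).symm
    haveI := hlocD d
    obtain ⟨⟨a, ⟨_, n, rfl⟩⟩, hay⟩ := IsLocalization.surj (Submonoid.powers d) (res (hDU d hdm) s)
    obtain ⟨j, hj⟩ := hkill d hdm (ρ (d ^ n) * s - ρ a) (by
      rw [map_sub, map_mul, hρD d hdm, hρD d hdm, sub_eq_zero, mul_comm]
      exact hay)
    refine ⟨d ^ (j + n), fun h => hdp (hp.mem_of_pow_mem _ h), d ^ j * a, ?_⟩
    rw [map_sub, map_mul, hψρ, hψρ, mul_sub, sub_eq_zero, ← mul_assoc, ← map_mul, ← map_mul, ← pow_add] at hj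
    exact hj
  have hψinj : Function.Injective ψ := by
    rw [injective_iff_map_eq_zero]
    intro s hs
    have ht0 : res (hDU t htm) s = 0 := by
      obtain ⟨⟨a, y⟩, hay⟩ := IsLocalization.surj (Submonoid.powers t) (res (hDU t htm) s)
      have h1 := congrArg α hay
      rw [map_mul, show α (res (hDU t htm) s) = 0 from hs, zero_mul, IsLocalization.lift_eq] at h1
      have ha : a = 0 := IsFractionRing.injective A Q (h1.symm.trans (map_zero _).symm)
      rw [ha, map_zero] at hay
      exact (IsLocalization.map_units _ y).mul_left_eq_zero.1 hay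
    refine S.sheaf.eq_of_locally_eq' (fun d : {d : A // d ∈ IsLocalRing.maximalIdeal A} => D d.1) U
      (fun d => homOfLE (hDU d.1 d.2)) ?_ s 0 fun d => ?_
    · intro p hp
      obtain ⟨d, hdm, hdp⟩ := SetLike.not_le_iff_exists.1 fun h : IsLocalRing.maximalIdeal A ≤ p.asIdeal =>
        hp (Set.mem_singleton_iff.2 (PrimeSpectrum.ext
          ((IsLocalRing.maximalIdeal.isMaximal A).eq_of_le p.isPrime.ne_top h).symm))
      exact TopologicalSpace.Opens.mem_iSup.2 ⟨⟨d, hdm⟩, hdp⟩
    · haveI := hlocD d.1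
      show res (hDU d.1 d.2) s = res (hDU d.1 d.2) 0
      rw [map_zero]
      obtain ⟨⟨a, y⟩, hay⟩ := IsLocalization.surj (Submonoid.powers d.1) (res (hDU d.1 d.2) s)
      refine (IsLocalization.map_units _ y).mul_left_eq_zero.1 (hay.trans ?_)
      have hle : D (d.1 * t) ≤ D d.1 := (PrimeSpectrum.basicOpen_mul d.1 t).le.trans inf_le_left
      have hle' : D (d.1 * t) ≤ D t := (PrimeSpectrum.basicOpen_mul d.1 t).le.trans inf_le_right
      have h1 : algebraMap A Γ(S, D (d.1 * t)) a = 0 := by
        have := congrArg (res hle) hay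
        rw [map_mul, hres, ← hres (hDU t htm) hle', ht0, map_zero, zero_mul] at this
        refine Eq.trans ?_ this.symm
        exact (hres le_top hle _).symm
      haveI := hlocD (d.1 * t)
      obtain ⟨⟨_, j, rfl⟩, hj⟩ := (IsLocalization.map_eq_zero_iff (Submonoid.powers (d.1 * t)) Γ(S, D (d.1 * t)) a).1 h1
      refine (IsLocalization.map_eq_zero_iff (Submonoid.powers d.1) Γ(S, D d.1) a).2 ⟨⟨d.1 ^ j, j, rfl⟩, ?_⟩
      have : t ^ j * (d.1 ^ j * a) = 0 := by rw [← mul_assoc, ← mul_pow, mul_comm t d.1]; exact hj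
      exact (mem_nonZeroDivisors_iff_left.1 (pow_mem htnz j)) _ this
  refine ⟨fun s => ?_, ψ.codRestrict (integralClosure A Q) hint, fun a b h => hψinj (congrArg Subtype.val h),
    RingHom.ext fun a => Subtype.ext (hψρ a)⟩
  obtain ⟨f, hf, hf0⟩ := hint s
  refine ⟨f, hf, hψinj ?_⟩
  rw [Polynomial.hom_eval₂, map_zero, show ψ.comp ρ = algebraMap A Q from RingHom.ext hψρ]
  exact hf0

end Groth.Agent.S5079
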