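import Groth.Statements.S5080
import Groth.Agent.Ega418Omega.Generators

set_option autoImplicit false
universe u
open EGA418

namespace Groth.Agent.S5080

/-- Let k be a field, A a complete Noetherian local k-algebra with maximal ideal m whose residue field
is a finite extension of k, p a prime ideal distinct from m, Ω̂ the completion of the module of
differentials of A over k, and M the least number of generators of the A_p-module Ω̂_p. Then for
every family x_1, …, x_M of elements of m not in p there are units u_1, …, u_M of A such that the
images in Ω̂_p of the differentials d(u_i x_i) generate Ω̂_p. -/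
theorem result (k A : Type u) [Field k] [CommRing A]
    [IsLocalRing A] [IsNoetherianRing A] [Algebra k A] [IsAdicComplete (IsLocalRing.maximalIdeal A) A]
    [Module.Finite k (IsLocalRing.ResidueField A)] (p : Ideal A) [p.IsPrime] (hp : p ≠ IsLocalRing.maximalIdeal A)
    (M : ℕ) (hgen : ∃ s : Fin M → (LocalizedModule p.primeCompl (AdicCompletion (IsLocalRing.maximalIdeal A) (KaehlerDifferential k A))), Submodule.span (Localization.AtPrime p) (Set.range s) = ⊤)
    (hmin : ∀ (s : Finset (LocalizedModule p.primeCompl (AdicCompletion (IsLocalRing.maximalIdeal A) (KaehlerDifferential k A)))), Submodule.span (Localization.AtPrime p) (↑s : Set (LocalizedModule p.primeCompl (AdicCompletion (IsLocalRing.maximalIdeal A) (KaehlerDifferential k A)))) = ⊤ → M ≤ s.card)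
    (x : Fin M → A) (hx : ∀ i, x i ∈ IsLocalRing.maximalIdeal A ∧ x i ∉ p) :
    ∃ u : Fin M → Aˣ, Submodule.span (Localization.AtPrime p)
      (Set.range (fun i => LocalizedModule.mkLinearMap p.primeCompl (AdicCompletion (IsLocalRing.maximalIdeal A) (KaehlerDifferential k A)) (AdicCompletion.of (IsLocalRing.maximalIdeal A) (KaehlerDifferential k A) (KaehlerDifferential.D k A ((u i : A) * x i))))) = ⊤ := by
  obtain ⟨s, hs⟩ := Groth.Ega418Omega.exists_gen_of_finrank_le (k := k) (p := p) le_rfl
  have hle : M ≤ Module.finrank p.ResidueField (Groth.Ega418Omega.Fib (k := k) p) := by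
    classical
    have h := hmin (Finset.univ.image fun i => LocalizedModule.mkLinearMap p.primeCompl _ (s i)) (by
      rw [Finset.coe_image, Finset.coe_univ, Set.image_univ]
      have h0 := (Groth.Ega418Omega.gen_iff_span_eq_top _).mp hs
      rwa [← Set.range_comp] at h0)
    exact h.trans (Finset.card_image_le.trans (by simp))
  obtain ⟨t, ht⟩ := Groth.Ega418Omega.exists_span_localized_iff.mp hgen
  have hge := Groth.Ega418Omega.finrank_le_of_gen t ht
  obtain ⟨u, hu⟩ := Groth.Ega418Omega.exists_units (k := k) (p := p) hge x (fun i => (hx i).2)
  refine ⟨u, ?_⟩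
  have h0 := (Groth.Ega418Omega.gen_iff_span_eq_top _).mp hu
  rwa [← Set.range_comp] at h0

end Groth.Agent.S5080
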