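import Groth.Statements.S5081
import Groth.Agent.EtaleAlgebra.MonogenicKaehler
-- import your own Groth.Agent.* helpers here

set_option autoImplicit false
universe u
open Unram

namespace Groth.Agent.S5081

/-- Let B be a finite A-algebra generated by a single element u and F a polynomial with coefficients in
A such that F(u) = 0. Then the ideal generated by F'(u) is contained in the annihilator of the
module of differentials of B over A, and equals it when the kernel of the surjection A[T] → B
sending T to u is generated by F. -/
theorem result (A B : Type u) [CommRing A] [CommRing B] [Algebra A B]
    [Module.Finite A B] (u : B) (hu : Algebra.adjoin A ({u} : Set B) = ⊤) (F : Polynomial A) (hF : Polynomial.aeval u F = 0) :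
    Ideal.span {Polynomial.aeval u (Polynomial.derivative F)} ≤ Module.annihilator B (KaehlerDifferential A B) ∧
      (RingHom.ker (Polynomial.aeval u : Polynomial A →ₐ[A] B) = Ideal.span {F} →
        Module.annihilator B (KaehlerDifferential A B) = Ideal.span {Polynomial.aeval u (Polynomial.derivative F)}) := by
  exact ⟨Groth.EtaleAlgebra.span_le_annihilator hu hF,
    Groth.EtaleAlgebra.annihilator_eq_span hu hF⟩

end Groth.Agent.S5081
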