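import Groth.Statements.S5082
import Groth.Agent.PicAux.MeroDepth
import Groth.Agent.S12513
import Groth.Agent.Ega4Algebra2.CMEquiv

set_option autoImplicit false
universe u
open CategoryTheory CategoryTheory.Limits AlgebraicGeometry TopologicalSpace
open Mero

namespace Groth.Agent.S5082

/-- Let A be a Noetherian local ring. Then the group of divisors of Spec A is trivial (every divisor
equals the unit divisor, divisors being written multiplicatively) if and only if A has depth 0, that
is, if and only if every element of the maximal ideal of A is a zero-divisor. -/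
theorem result (A : Type u) [CommRing A] [IsNoetherianRing A] [IsLocalRing A] :
    (∀ D : Mero.Divisor (Spec (CommRingCat.of A)), D = 1) ↔ LocCoh.depth A A = 0 := by
  let R : CommRingCat.{u} := CommRingCat.of A
  let x₀ : Spec R := IsLocalRing.closedPoint A
  have hspec : ∀ y : Spec R, y ⤳ x₀ := fun y => IsLocalRing.specializes_closedPoint y
  let η := Scheme.ΓSpecIso R
  constructor
  · intro h
    by_contra hd
    have hI : IsLocalRing.maximalIdeal A ≠ ⊤ := (IsLocalRing.maximalIdeal.isMaximal A).ne_top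
    obtain ⟨c, hc, hcreg⟩ := Groth.LocCohBase.exists_regular_of_one_le
      (Groth.LocCohBase.smul_maximalIdeal_ne_top (R := A) A hI)
      (Order.one_le_iff_pos.2 (pos_iff_ne_zero.2 hd))
    have hb : η.inv c ∈ Mero.regSub (Spec R) ⊤ := by
      rw [Groth.Agent.S12513.result (Spec R) ⊤ (isAffineOpen_top _)]
      refine mem_nonZeroDivisors_iff_right.2 fun r hr => ?_
      have h1 := congrArg η.hom hr
      have e : η.hom (η.inv c) = c := congr($(η.inv_hom_id) c)
      rw [map_mul, map_zero, e] at h1
      have h2 : η.hom r = 0 := hcreg.right_eq_zero_of_smul ((mul_comm _ _).trans h1)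
      have e2 : η.inv (η.hom r) = r := congr($(η.hom_inv_id) r)
      rw [← e2, h2, map_zero]
    let b : Mero.regSub (Spec R) ⊤ := ⟨η.inv c, hb⟩
    have h1 : (Mero.div (Groth.PicAux.regUnit b)⁻¹).1 x₀ =
        Mero.germOf (Groth.PicAux.regUnit (1 : Mero.regSub (Spec R) ⊤) *
          (Groth.PicAux.regUnit b)⁻¹) ⟨x₀, trivial⟩ := by
      have e1 : Groth.PicAux.regUnit (1 : Mero.regSub (Spec R) ⊤) = 1 := Units.ext (map_one _)
      rw [e1, one_mul]
      rfl
    have heff : Mero.IsEffectiveAt (Mero.div (Groth.PicAux.regUnit b)⁻¹) x₀ := by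
      rw [h (Mero.div (Groth.PicAux.regUnit b)⁻¹)]
      exact Groth.PicAux.effectiveAt_one x₀
    have hdvd := (Groth.PicAux.isEffectiveAt_iff (U := ⊤) (a := 1) (b := b) (fun y => by
      have e1 : Groth.PicAux.regUnit (1 : Mero.regSub (Spec R) ⊤) = 1 := Units.ext (map_one _)
      rw [e1, one_mul]
      rfl) ⟨x₀, trivial⟩).1 heff
    rw [Submonoid.coe_one, map_one] at hdvd
    have hu : IsUnit ((Spec R).presheaf.germ ⊤ x₀ trivial (η.inv c)) := isUnit_of_dvd_one hdvd
    have hmem : x₀ ∈ (Spec R).basicOpen (η.inv c) := ((Spec R).mem_basicOpen_top _ _).2 hu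
    rw [AlgebraicGeometry.basicOpen_eq_of_affine] at hmem
    exact hmem hc
  · intro h D
    have triv : D.1 x₀ = 1 := by
      by_contra hx
      obtain ⟨c, hc, hcm⟩ := Groth.PicAux.exists_regular_nonunit (D := D) hx
      let e : A ≃+* (Spec R).presheaf.stalk x₀ :=
        (AlgebraicGeometry.stalkClosedPointIso R).commRingCatIsoToRingEquiv.symm
      have h1 := Groth.PicAux.one_le_depth_of_regular hcm
        (isSMulRegular_iff_right_eq_zero_of_smul.2 fun r hr =>
          mem_nonZeroDivisors_iff_right.1 hc r ((mul_comm _ _).trans hr))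
      rw [← Groth.Ega4b.depth_eq_of_ringEquiv e, h] at h1
      exact absurd h1 (by norm_num)
    obtain ⟨W, a, b, hxW, hD⟩ := Groth.PicAux.exists_frac_rep D x₀
    have hWtop : ∀ y : Spec R, y ∈ W.1 := fun y => (hspec y).mem_open W.1.2 hxW
    have hab : ∀ E : Mero.Divisor (Spec R), E.1 x₀ = 1 → Mero.IsEffectiveAt E x₀ := fun E hE => by
      obtain ⟨c, hc⟩ := Groth.PicAux.effectiveAt_one (X := Spec R) x₀
      exact ⟨c, hE.trans hc⟩
    have hDinv : ∀ y : (W.1 : (Spec R).Opens), D⁻¹.1 y.1 =
        Mero.germOf (Groth.PicAux.regUnit b * (Groth.PicAux.regUnit a)⁻¹) y := fun y => by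
      change (D.1 y.1)⁻¹ = _
      rw [hD y, Mero.germOf, Mero.germOf, ← QuotientGroup.mk_inv, ← map_inv, mul_inv_rev, inv_inv]
    have h1 := (Groth.PicAux.isEffectiveAt_iff hD ⟨x₀, hxW⟩).1 (hab D triv)
    have h2 := (Groth.PicAux.isEffectiveAt_iff hDinv ⟨x₀, hxW⟩).1
      (hab D⁻¹ (by change (D.1 x₀)⁻¹ = 1; rw [triv, inv_one]))
    refine Subtype.ext (funext fun y => ?_)
    refine Groth.PicAux.eq_one_of_effectiveAt_inv
      ((Groth.PicAux.isEffectiveAt_iff hD ⟨y, hWtop y⟩).2 ?_)
      ((Groth.PicAux.isEffectiveAt_iff hDinv ⟨y, hWtop y⟩).2 ?_)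
    · have := map_dvd ((Spec R).presheaf.stalkSpecializes (hspec y)).hom h1
      erw [TopCat.Presheaf.germ_stalkSpecializes_apply, TopCat.Presheaf.germ_stalkSpecializes_apply] at this
      exact this
    · have := map_dvd ((Spec R).presheaf.stalkSpecializes (hspec y)).hom h2
      erw [TopCat.Presheaf.germ_stalkSpecializes_apply, TopCat.Presheaf.germ_stalkSpecializes_apply] at this
      exact this

end Groth.Agent.S5082
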