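import Groth.Statements.S5084
import Groth.Agent.Divisors.AssocNzd
import Groth.Agent.CohTwo.Glue
import Groth.Agent.PicAux.MeroExtend

set_option autoImplicit false
universe u
open CategoryTheory CategoryTheory.Limits AlgebraicGeometry TopologicalSpace
open Mero

namespace Groth.Agent.S5084

/-- Let X be a locally Noetherian scheme and F a quasi-coherent O_X-module. Then F is torsion-free — the
canonical map from F to its sheaf of meromorphic sections K_X(F), m ↦ m/1, is a monomorphism, i.e.
at every point no germ of a regular function kills a nonzero element of the stalk of F — if and only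
if every associated point of F is an associated point of the structure sheaf (a point x such that
the maximal ideal of O_{X,x} is an associated prime of O_{X,x}). -/
theorem result (X : Scheme.{u}) [IsLocallyNoetherian X]
    (F : X.Modules) (hF : Coh.IsQCoh F) :
    Mono (Mero.toMer F) ↔
      ∀ x : ↥X, Curv2.IsAssPoint F x →
        IsAssociatedPrime (IsLocalRing.maximalIdeal ↑(X.presheaf.stalk x)) ↑(X.presheaf.stalk x) := by
  rw [CohTwo.mono_iff_app_injective]
  constructor
  · intro hmono x hx
    by_contra hn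
    obtain ⟨z, h1, h2⟩ := (Groth.Divisors.isWeakAssPoint_iff (F := F)).mp (Groth.Divisors.isAssPoint_iff_weak.mp hx)
    -- a nonzerodivisor in the maximal ideal
    obtain ⟨r, hr, hrm⟩ : ∃ r ∈ nonZeroDivisors (X.presheaf.stalk x), ¬ IsUnit r := by
      by_contra hall
      push Not at hall
      refine hn ?_
      have hsub : (IsLocalRing.maximalIdeal (X.presheaf.stalk x) : Set (X.presheaf.stalk x)) ⊆
          ⋃ p ∈ associatedPrimes (X.presheaf.stalk x) (X.presheaf.stalk x), (p : Set (X.presheaf.stalk x)) := by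
        rw [biUnion_associatedPrimes_eq_compl_regular]
        intro r hr hreg
        exact hr (hall r (mem_nonZeroDivisors_iff_right.2 fun s hs =>
          hreg.right_eq_zero_of_smul ((mul_comm r s).trans hs)))
      obtain ⟨p, hp, hle⟩ := (Ideal.subset_union_prime_finite (f := id)
        (associatedPrimes.finite (X.presheaf.stalk x) (X.presheaf.stalk x)) ⊥ ⊥
        (fun p hp _ _ => IsAssociatedPrime.isPrime hp)).1 hsub
      rw [(IsLocalRing.maximalIdeal.isMaximal _).eq_of_le (IsAssociatedPrime.isPrime hp).ne_top hle]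
      exact hp
    obtain ⟨n, hn0⟩ := h2 r hrm
    obtain ⟨U, hxU, t, ht, rfl⟩ := Groth.Divisors.exists_isNzdSec_of_germ r hr
    obtain ⟨V, hxV, s, rfl⟩ := TopCat.Presheaf.exists_germ_eq F.presheaf z
    have hx' : x ∈ U ⊓ V := ⟨hxU, hxV⟩
    rw [← TopCat.Presheaf.germ_res_apply X.presheaf (homOfLE (inf_le_left : U ⊓ V ≤ U)) x hx' t,
      ← TopCat.Presheaf.germ_res_apply F.presheaf (homOfLE (inf_le_right : U ⊓ V ≤ V)) x hx', ← map_pow] at hn0
    erw [← Mero.germ_smul F (U ⊓ V) x hx'] at hn0
    rw [← map_zero (F.presheaf.germ (U ⊓ V) x hx').hom] at hn0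
    obtain ⟨W, hxW, i, j, he⟩ := F.presheaf.germ_eq x _ _ _ _ hn0
    rw [map_zero] at he
    have hs0 : F.presheaf.map i.op (F.presheaf.map (homOfLE (inf_le_right : U ⊓ V ≤ V)).op s) = 0 := by
      refine hmono W ?_
      rw [map_zero]
      refine Subtype.ext (funext fun y => ?_)
      show LocalizedModule.mk (F.presheaf.germ W y.1 y.2 _) 1 = 0
      rw [← LocalizedModule.zero_mk (1 : Mero.regStalk X y.1)]
      have hy : y.1 ∈ U := (i.le y.2).1
      refine LocalizedModule.mk_eq.2 ⟨Mero.regGerm ⟨y.1, hy⟩ ⟨t, fun z => ht z.1 z.2⟩ ^ n, ?_⟩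
      rw [smul_zero, smul_zero, one_smul, Submonoid.smul_def, SubmonoidClass.coe_pow]
      have h0 := congrArg (F.presheaf.germ W y.1 y.2).hom he
      rw [map_zero] at h0
      erw [TopCat.Presheaf.germ_res_apply, Mero.germ_smul F (U ⊓ V) y.1 (i.le y.2)] at h0
      rw [map_pow, TopCat.Presheaf.germ_res_apply] at h0
      rw [TopCat.Presheaf.germ_res_apply F.presheaf i]
      exact h0
    refine h1 1 ?_ isUnit_one
    rw [one_smul, ← TopCat.Presheaf.germ_res_apply F.presheaf (homOfLE (inf_le_right : U ⊓ V ≤ V)) x (i.le hxW),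
      ← TopCat.Presheaf.germ_res_apply F.presheaf i x hxW, hs0, map_zero]
  · intro h U
    refine (injective_iff_map_eq_zero ((Mero.toMer F).app U).hom).mpr fun s hs => ?_
    refine Groth.Divisors.eq_zero_of_germ_weakAss hF s fun x hx hwa => ?_
    have h0 : LocalizedModule.mk (F.presheaf.germ U x hx s) (1 : Mero.regStalk X x) = 0 :=
      congrArg (fun f : Γ(Mero.merMod F, U) => f.1 ⟨x, hx⟩) hs
    rw [← LocalizedModule.zero_mk (1 : Mero.regStalk X x)] at h0
    obtain ⟨b, hb⟩ := LocalizedModule.mk_eq.1 h0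
    rw [smul_zero, smul_zero, one_smul, Submonoid.smul_def] at hb
    obtain ⟨z, h1, h2⟩ := (Groth.Divisors.isAssociatedPrime_stalk_iff x).mp
      (h x (Groth.Divisors.isAssPoint_iff_weak.mpr hwa))
    have hbu : IsUnit (b : X.presheaf.stalk x) := by
      by_contra hbu
      obtain ⟨n, hn⟩ := h2 _ hbu
      exact h1 1 (by rw [mem_nonZeroDivisors_iff_right.mp (pow_mem (Mero.regStalk_le_nonZeroDivisors x b.2) n) z
        (by rw [mul_comm]; exact hn), mul_zero]) isUnit_one
    exact hbu.smul_eq_zero.mp hb

end Groth.Agent.S5084
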