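import Groth.Statements.S5090
import Groth.Agent.RefRank.CDivNormal
import Groth.Agent.ParaFormal.StalkIdeal
import Groth.Agent.ParaFormal.DescentDiv
import Groth.Agent.SchemeMorphisms.Points
import Groth.Agent.Curves1.Node.NodalLocal

set_option autoImplicit false
universe u
open CategoryTheory CategoryTheory.Limits AlgebraicGeometry TopologicalSpace
open Div21

namespace Groth.Agent.S5090

open IsLocalRing in
theorem ufd_of_height_one_principal {R : Type u} [CommRing R] [IsNoetherianRing R] [IsLocalRing R]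
    (hdim : ringKrullDim R ≠ 0)
    (h : ∀ P : Ideal R, P.IsPrime → P.height = 1 → ∃ t, t ∈ nonZeroDivisors R ∧ P = Ideal.span {t}) :
    ∃ _ : IsDomain R, UniqueFactorizationMonoid R := by
  have hm0 : (maximalIdeal R).height ≠ 0 := fun e => hdim (by rw [← maximalIdeal_height_eq_ringKrullDim, e]; rfl)
  obtain ⟨x, hxm, hx⟩ : ∃ x ∈ maximalIdeal R, ∀ q ∈ minimalPrimes R, x ∉ q := by
    by_contra! hall
    have hsub : (maximalIdeal R : Set R) ⊆ ⋃ q ∈ minimalPrimes R, (q : Set R) := fun z hz => by
      obtain ⟨q, hq, hzq⟩ := hall z hz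
      exact Set.mem_biUnion hq hzq
    obtain ⟨q, hq, hle⟩ := (Ideal.subset_union_prime_finite (minimalPrimes.finite_of_isNoetherianRing R) ⊥ ⊥
      fun q hq _ _ => hq.1.1).1 hsub
    refine hm0 ((Ideal.height_eq_zero_iff).2 ?_)
    rwa [(maximalIdeal.isMaximal R).eq_of_le hq.1.1.ne_top hle]
  obtain ⟨P₁, hP₁m, -⟩ := Ideal.exists_minimalPrimes_le (I := Ideal.span {x}) (J := maximalIdeal R)
    ((Ideal.span_singleton_le_iff_mem _).2 hxm)
  have hP₁ : P₁.IsPrime := hP₁m.1.1
  have hxP : x ∈ P₁ := hP₁m.1.2 (Ideal.mem_span_singleton_self x)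
  have hP₁h : P₁.height = 1 := le_antisymm (Ideal.height_le_one_of_isPrincipal_of_mem_minimalPrimes _ P₁ hP₁m)
    (Order.one_le_iff_ne_zero.2 fun h0 => hx P₁ ((Ideal.height_eq_zero_iff).1 h0) hxP)
  obtain ⟨p, hp, hpP⟩ := Ideal.exists_minimalPrimes_le (bot_le : (⊥ : Ideal R) ≤ P₁)
  have hpp : p.IsPrime := hp.1.1
  have hpP₁ : p < P₁ := lt_of_le_of_ne hpP fun e => hx P₁ (e ▸ hp) hxP
  obtain ⟨t, htnzd, htP⟩ := h P₁ hP₁ hP₁h
  have hbot : p = ⊥ := by
    have htp : t ∉ p := fun htp => hpP₁.ne (le_antisymm hpP₁.le (htP ▸ (Ideal.span_singleton_le_iff_mem _).2 htp))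
    refine Submodule.eq_bot_of_le_smul_of_le_jacobson_bot (Ideal.span {t}) p (IsNoetherian.noetherian p)
      (fun z hz => ?_) ((htP ▸ le_maximalIdeal hP₁.ne_top).trans (maximalIdeal_le_jacobson _))
    obtain ⟨y, rfl⟩ := Ideal.mem_span_singleton'.1 (htP ▸ hpP₁.le hz)
    rw [smul_eq_mul, mul_comm y t]
    exact Ideal.mul_mem_mul (Ideal.mem_span_singleton_self t) ((hpp.mem_or_mem hz).resolve_right htp)
  have hdom : IsDomain R := by
    subst hbot
    exact IsDomain.of_bot_isPrime R
  refine ⟨hdom, UniqueFactorizationMonoid.iff_exists_prime_mem_of_isPrime.2 fun Q hQ hQp => ?_⟩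
  obtain ⟨c, hcQ, hc0⟩ := Submodule.exists_mem_ne_zero_of_ne_bot hQ
  obtain ⟨Q₁, hQ₁, hQ₁Q⟩ := Ideal.exists_minimalPrimes_le ((Ideal.span_singleton_le_iff_mem _).2 hcQ)
  have hQ₁p : Q₁.IsPrime := hQ₁.1.1
  have hQ₁0 : Q₁ ≠ ⊥ := fun e => hc0 (by simpa [e] using hQ₁.1.2 (Ideal.mem_span_singleton_self c))
  have hQ₁h : Q₁.height = 1 := le_antisymm (Ideal.height_le_one_of_isPrincipal_of_mem_minimalPrimes _ Q₁ hQ₁)
    (Order.one_le_iff_ne_zero.2 fun h0 => hQ₁0 (Ideal.height_eq_zero_iff_eq_bot.1 h0))
  obtain ⟨t', ht', htQ⟩ := h Q₁ hQ₁p hQ₁h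
  exact ⟨t', hQ₁Q (htQ ▸ Ideal.mem_span_singleton_self t'),
    (Ideal.span_singleton_prime (nonZeroDivisors.ne_zero ht')).1 (htQ ▸ hQ₁p)⟩

/-- Equivalence of conditions a'') and c): let X be a locally Noetherian scheme which is reduced at each
of its isolated points (for every point x such that {x} is open, the local ring O_{X,x} is reduced).
Then the following are equivalent. (a'') Every integral closed subscheme of X of codimension 1 is
regularly immersed in X: for every point ζ whose local ring has dimension 1 and every specialization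
x of ζ, the ideal of O_{X,x} defining the closure of ζ with its reduced structure (the preimage of
the maximal ideal of O_{X,ζ} under the specialization map) is generated by one non-zero-divisor of
O_{X,x}. (c) X is locally factorial: every local ring of X is a unique factorisation domain. -/
theorem result (X : Scheme.{u}) [IsLocallyNoetherian X]
    (hred : ∀ x : ↥X, IsOpen ({x} : Set ↥X) → IsReduced ↑(X.presheaf.stalk x)) :
    (∀ ζ : ↥X, ringKrullDim ↑(X.presheaf.stalk ζ) = 1 → ∀ (x : ↥X) (h : ζ ⤳ x),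
        ∃ t : ↑(X.presheaf.stalk x), t ∈ nonZeroDivisors ↑(X.presheaf.stalk x) ∧
          (IsLocalRing.maximalIdeal ↑(X.presheaf.stalk ζ)).comap (X.presheaf.stalkSpecializes h).hom =
            Ideal.span {t}) ↔
      ∀ x : ↥X, ∃ _ : IsDomain ↑(X.presheaf.stalk x), UniqueFactorizationMonoid ↑(X.presheaf.stalk x) := by
  constructor
  · intro h
    have key : ∀ x : ↥X, ringKrullDim (X.presheaf.stalk x) ≠ 0 →
        ∃ _ : IsDomain ↑(X.presheaf.stalk x), UniqueFactorizationMonoid ↑(X.presheaf.stalk x) := fun x hx => by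
      refine ufd_of_height_one_principal hx fun P hP hP1 => ?_
      obtain ⟨ζ, hζ, hζP⟩ := Groth.ParaFormal.exists_spec_comap_eq x P
      have hd : ringKrullDim ↑(X.presheaf.stalk ζ) = 1 := by
        rw [← Groth.RefRank.CDivNormal.height_primeAt hζ,
          show Groth.RefRank.CDivNormal.primeAt hζ = P from hζP, hP1]
        rfl
      obtain ⟨t, ht, htP⟩ := h ζ hd x hζ
      exact ⟨t, ht, hζP.symm.trans htP⟩
    intro x
    by_cases hx : ringKrullDim ↑(X.presheaf.stalk x) = 0
    · have hred' : IsReduced ↑(X.presheaf.stalk x) := by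
        by_cases hopen : IsOpen ({x} : Set ↥X)
        · exact hred x hopen
        obtain ⟨y, hxy, hne⟩ : ∃ y : ↥X, x ⤳ y ∧ y ≠ x := by
          by_contra! hall
          refine hopen (Groth.SchemeMorphisms.isOpen_singleton_of_isClosed_of_forall_specializes X x ?_ ?_)
          · rw [← closure_subset_iff_isClosed]
            exact fun y hy => hall y (specializes_iff_mem_closure.2 hy)
          · intro y hy
            by_contra hne
            have h1 := Groth.ParaFormal.dim_lt_of_specializes hy hne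
            rw [hx] at h1
            exact absurd h1 (not_lt.2 ringKrullDim_nonneg_of_nontrivial)
        have h1 := Groth.ParaFormal.dim_lt_of_specializes hxy (Ne.symm hne)
        obtain ⟨hdom, -⟩ := key y (fun e => by rw [hx, e] at h1; exact lt_irrefl _ h1)
        have : _root_.IsReduced ↑(X.presheaf.stalk y) := inferInstance
        exact Groth.Curves1.Node.isReduced_stalk_of_specializes hxy
      have : Ring.KrullDimLE 0 ↑(X.presheaf.stalk x) := Ring.krullDimLE_iff.2 (by rw [hx]; rfl)
      have hF : IsField ↑(X.presheaf.stalk x) := IsLocalRing.isField_iff_maximalIdeal_eq.2 (by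
        refine le_antisymm (fun a ha => ?_) bot_le
        rw [Submodule.mem_bot]
        refine IsNilpotent.eq_zero ?_
        rwa [← mem_nilradical, Ring.KrullDimLE.nilradical_eq_maximalIdeal])
      let := hF.toField
      exact ⟨inferInstance, inferInstance⟩
    · exact key x hx
  · intro h ζ hζ x hx
    obtain ⟨hdom, hufd⟩ := h x
    set P := Groth.RefRank.CDivNormal.primeAt hx
    have hP1 : P.height = 1 := by
      have := Groth.RefRank.CDivNormal.height_primeAt hx
      rw [hζ] at this
      exact_mod_cast this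
    have hP0 : P ≠ ⊥ := fun e => by rw [e, Ideal.height_bot] at hP1; exact zero_ne_one hP1
    obtain ⟨q, hqP, hq⟩ := UniqueFactorizationMonoid.iff_exists_prime_mem_of_isPrime.1 hufd P hP0 inferInstance
    refine ⟨q, mem_nonZeroDivisors_of_ne_zero hq.ne_zero, ?_⟩
    change P = _
    by_contra hne
    have hqp : (Ideal.span {q}).IsPrime := (Ideal.span_singleton_prime hq.ne_zero).2 hq
    have hlt : Ideal.span {q} < P :=
      lt_of_le_of_ne ((Ideal.span_singleton_le_iff_mem _).2 hqP) (Ne.symm hne)
    have h1 := Ideal.height_strict_mono_of_isPrime hlt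
    rw [hP1, Order.lt_one_iff, Ideal.height_eq_zero_iff_eq_bot, Ideal.span_singleton_eq_bot] at h1
    exact hq.ne_zero h1

end Groth.Agent.S5090
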