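import Groth.Statements.S5093
import Groth.Agent.Divisors.AssocNzd

set_option autoImplicit false
universe u
open CategoryTheory CategoryTheory.Limits AlgebraicGeometry TopologicalSpace
open Mero

namespace Groth.Agent.S5093

/-- Let f : X → Y be a morphism of schemes such that the set of irreducible components of Y is locally
finite, X is reduced, and every irreducible component of X dominates an irreducible component of Y
(f sends every maximal point of X, i.e. every point with no proper generization, to a maximal point
of Y). Then for every open subset U of Y and every regular function s on U (germ a non-zero-divisor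
at every point of U), the pulled-back function on f⁻¹(U) is regular; consequently the pullback along
f of every meromorphic function and of every divisor on Y is defined. -/
theorem result {X Y : Scheme.{u}} [IsReduced X] (f : X ⟶ Y)
    (hY : ∀ y : ↥Y, ∃ W : Y.Opens, y ∈ W ∧
      {Z : Set ↥Y | Z ∈ irreducibleComponents ↥Y ∧ (Z ∩ (W : Set ↥Y)).Nonempty}.Finite)
    (hf : ∀ ξ : ↥X, (∀ z : ↥X, z ⤳ ξ → z = ξ) → ∀ z : ↥Y, z ⤳ f ξ → z = f ξ) :
    ∀ (U : Y.Opens) (s : Γ(Y, U)), s ∈ Mero.regSub Y U → f.app U s ∈ Mero.regSub X (f ⁻¹ᵁ U) := by
  intro U s hs
  suffices h : Groth.Divisors.IsNzdSec (f.app U s) from fun x => h x.1 x.2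
  exact Groth.Divisors.isNzdSec_app_of_weakAss_to_maximal f
    (fun x hwa => hf x (Groth.Divisors.weakAss_structure_iff_of_reduced.mp hwa)) fun y hy => hs ⟨y, hy⟩

end Groth.Agent.S5093
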