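import Groth.Statements.S5098
import Groth.Agent.PicAux.MeroDepth

set_option autoImplicit false
universe u
open CategoryTheory CategoryTheory.Limits AlgebraicGeometry TopologicalSpace
open Mero

namespace Groth.Agent.S5098

/-- General form, for divisors on a scheme that need not be integral: let X be a locally Noetherian
scheme and D a divisor on X. If the germ of D is effective (resp. trivial) at every point x whose
local ring O_{X,x} has depth 1, then D is effective (resp. D is the unit divisor, in the
multiplicative notation used here). -/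
theorem result (X : Scheme.{u}) [IsLocallyNoetherian X] (D : Mero.Divisor X) :
    ((∀ x : ↥X, LocCoh.depth ↑(X.presheaf.stalk x) ↑(X.presheaf.stalk x) = 1 → Mero.IsEffectiveAt D x) →
        Mero.IsEffective D) ∧
      ((∀ x : ↥X, LocCoh.depth ↑(X.presheaf.stalk x) ↑(X.presheaf.stalk x) = 1 → D.1 x = 1) → D = 1) := by
  have key : (∀ x : ↥X, LocCoh.depth ↑(X.presheaf.stalk x) ↑(X.presheaf.stalk x) = 1 →
      Mero.IsEffectiveAt D x) → Mero.IsEffective D := fun h x => by
    by_contra hx
    obtain ⟨y, -, hy, hy'⟩ := Groth.PicAux.exists_depth_one_not_effective D x hx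
    exact hy' (h y hy)
  refine ⟨key, fun h => ?_⟩
  have hone : ∀ (E : Mero.Divisor X) (x : X), E.1 x = 1 → Mero.IsEffectiveAt E x := fun E x hx => by
    obtain ⟨c, hc⟩ := Groth.PicAux.effectiveAt_one (X := X) x
    exact ⟨c, hx.trans hc⟩
  refine Subtype.ext (funext fun x => ?_)
  by_contra hx
  refine hx (Groth.PicAux.eq_one_of_effectiveAt_inv (key (fun y hy => hone D y (h y hy)) x) ?_)
  by_contra hinv
  obtain ⟨y, -, hy, hy'⟩ := Groth.PicAux.exists_depth_one_not_effective D⁻¹ x hinv
  refine hy' (hone _ y ?_)
  change (D.1 y)⁻¹ = 1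
  rw [h y hy, inv_one]

end Groth.Agent.S5098
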