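import Groth.Statements.S5099
import Groth.Agent.PicAux.MeroDepth

set_option autoImplicit false
universe u
open CategoryTheory CategoryTheory.Limits AlgebraicGeometry TopologicalSpace
open Mero

namespace Groth.Agent.S5099

/-- General form, for divisors on a scheme that need not be integral: let X be a locally Noetherian
scheme, D a divisor on X and x a maximal point of the support of D (a point at which the germ of D
is not trivial and none of whose proper generizations has that property). Then the local ring of X
at x has depth 1. -/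
theorem result (X : Scheme.{u}) [IsLocallyNoetherian X] (D : Mero.Divisor X)
    (x : ↥X) (hx : x ∈ Mero.supp D) (hmax : ∀ z : ↥X, z ∈ Mero.supp D → z ⤳ x → z = x) :
    LocCoh.depth ↑(X.presheaf.stalk x) ↑(X.presheaf.stalk x) = 1 := by
  have hne : ¬ Mero.IsEffectiveAt D x ∨ ¬ Mero.IsEffectiveAt D⁻¹ x := by
    by_contra h
    push Not at h
    exact hx (Groth.PicAux.eq_one_of_effectiveAt_inv h.1 h.2)
  have hone : ∀ (E : Mero.Divisor X) (y : X), ¬ Mero.IsEffectiveAt E y → E.1 y ≠ 1 := fun E y h e => by
    obtain ⟨c, hc⟩ := Groth.PicAux.effectiveAt_one (X := X) y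
    exact h ⟨c, e.trans hc⟩
  rcases hne with h | h
  · obtain ⟨y, hyx, hy, hy'⟩ := Groth.PicAux.exists_depth_one_not_effective D x h
    obtain rfl := hmax y (hone D y hy') hyx
    exact hy
  · obtain ⟨y, hyx, hy, hy'⟩ := Groth.PicAux.exists_depth_one_not_effective D⁻¹ x h
    obtain rfl := hmax y (fun e => hone _ y hy' (by change (D.1 y)⁻¹ = 1; rw [e, inv_one])) hyx
    exact hy

end Groth.Agent.S5099
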