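import Groth.Statements.S5104
import Groth.Agent.GrpschAbsch.SchDense
import Mathlib.AlgebraicGeometry.SpreadingOut
import Mathlib.AlgebraicGeometry.Morphisms.SchemeTheoreticallyDominant
import Mathlib.RingTheory.Ideal.MinimalPrime.Basic
-- import your own Groth.Agent.* helpers here

set_option autoImplicit false
universe u
open CategoryTheory CategoryTheory.Limits AlgebraicGeometry TopologicalSpace
open Rat20

namespace Groth.Agent.S5104

theorem isGermInjectiveAt_of_locFinite {X : Scheme.{u}} [IsReduced X] (x : X)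
    (hfin : ∃ W : X.Opens, x ∈ W ∧
      {Z : Set ↥X | Z ∈ irreducibleComponents ↥X ∧ (Z ∩ (W : Set ↥X)).Nonempty}.Finite) :
    X.IsGermInjectiveAt x := by
  classical
  obtain ⟨W₀, hxW₀, hfin⟩ := hfin
  obtain ⟨_, ⟨W, hW, rfl⟩, hxW, hWW₀⟩ := X.isBasis_affineOpens.exists_subset_of_mem_open hxW₀ W₀.2
  replace hW : IsAffineOpen W := hW
  let R := Γ(X, W)
  have hmem : ∀ q : PrimeSpectrum R, hW.fromSpec q ∈ W := fun q => by
    have := Set.mem_range_self (f := hW.fromSpec) q
    rwa [hW.range_fromSpec] at this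
  have hcomp : ∀ q : PrimeSpectrum R, q.asIdeal ∈ minimalPrimes R →
      closure {hW.fromSpec q} ∈ irreducibleComponents ↥X := fun q hq => by
    refine ⟨isIrreducible_singleton.closure, fun Z hZ hle => ?_⟩
    obtain ⟨η, hη⟩ := QuasiSober.sober hZ.closure isClosed_closure
    have h1 : η ⤳ hW.fromSpec q := hη.specializes (subset_closure (hle (subset_closure rfl)))
    obtain ⟨q', rfl⟩ : ∃ q' : PrimeSpectrum R, hW.fromSpec q' = η := by
      change η ∈ Set.range hW.fromSpec
      rw [hW.range_fromSpec]; exact h1.mem_open W.2 (hmem q)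
    have h2 : q' ⤳ q := hW.fromSpec.isOpenEmbedding.isInducing.specializes_iff.1 h1
    rw [← PrimeSpectrum.le_iff_specializes] at h2
    obtain rfl : q' = q := le_antisymm h2 (hq.2 ⟨q'.2, bot_le⟩ h2)
    exact subset_closure.trans hη.def.ge
  have hminfin : (minimalPrimes R).Finite := by
    let φ : minimalPrimes R → {Z : Set ↥X | Z ∈ irreducibleComponents ↥X ∧ (Z ∩ (W₀ : Set ↥X)).Nonempty} :=
      fun q => ⟨closure {hW.fromSpec ⟨q.1, q.2.1.1⟩},
        hcomp ⟨q.1, q.2.1.1⟩ q.2, _, subset_closure rfl, hWW₀ (hmem _)⟩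
    have : Finite {Z : Set ↥X | Z ∈ irreducibleComponents ↥X ∧ (Z ∩ (W₀ : Set ↥X)).Nonempty} := hfin.to_subtype
    have : Finite (minimalPrimes R) := Finite.of_injective φ fun a b h => Subtype.ext (congrArg PrimeSpectrum.asIdeal
      (hW.fromSpec.isOpenEmbedding.injective ((inseparable_iff_closure_eq.2 (congrArg Subtype.val h)).eq)))
    exact Set.toFinite _
  have : (Spec R).IsGermInjective := by
    refine Scheme.IsGermInjective.Spec fun I hI => ?_
    have : ∀ q ∈ hminfin.toFinset.filter (fun q => ¬ q ≤ I), ∃ y ∈ q, y ∉ I := fun q hq => by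
      obtain ⟨-, hq⟩ := Finset.mem_filter.1 hq
      exact SetLike.not_le_iff_exists.1 hq
    choose y hyq hyI using this
    refine ⟨∏ q ∈ (hminfin.toFinset.filter (fun q => ¬ q ≤ I)).attach, y q.1 q.2, fun h => ?_,
      fun a b hab hb => ⟨1, IsReduced.eq_zero _ ?_⟩⟩
    · obtain ⟨q, -, hq⟩ := hI.prod_mem_iff.1 h
      exact hyI _ q.2 hq
    · rw [pow_one]
      have : (∏ q ∈ (hminfin.toFinset.filter (fun q => ¬ q ≤ I)).attach, y q.1 q.2) * a ∈ sInf (minimalPrimes R) :=
        Submodule.mem_sInf.2 fun q hq => by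
          by_cases hqI : q ≤ I
          · exact Ideal.mul_mem_left _ _ ((hq.1.1.mem_or_mem (show b * a ∈ q by rw [hab]; exact zero_mem q)).resolve_left
              fun h => hb (hqI h))
          · exact Ideal.mul_mem_right _ _ (Ideal.prod_mem q (Finset.mem_attach _ ⟨q, by simp [hq, hqI]⟩) (hyq q _))
      have h2 := (Ideal.sInf_minimalPrimes (I := (⊥ : Ideal R))).le this
      rw [Ideal.mem_radical_iff] at h2
      exact h2
  have h : X.IsGermInjectiveAt (hW.fromSpec (hW.primeIdealOf ⟨x, hxW⟩)) := inferInstance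
  rwa [hW.fromSpec_primeIdealOf] at h

/-- Let X be an S-scheme which is locally Noetherian, or reduced with locally finite set of irreducible
components; let Y be separated and locally of finite presentation over S, U a schematically dense
open subset of X, h : U → Y an S-morphism (a pseudo-S-morphism ω of X into Y) and x a point of X.
Then ω is defined at x — some S-morphism from an open neighbourhood V of x to Y agrees with h on U ∩
V — if and only if the restriction of ω to Spec O_{X,x} is everywhere defined — some S-morphism Spec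
O_{X,x} → Y agrees with h after pulling back to Spec O_{X,x} ×_X U. (The published statement does
not assume Y separated over S and compares morphisms only on some schematically dense open; this row
assumes Y separated over S, where the two readings agree.) -/
theorem result {X Y S : Scheme.{u}} (pX : X ⟶ S) (pY : Y ⟶ S)
    [IsSeparated pY] [LocallyOfFinitePresentation pY]
    (hX : IsLocallyNoetherian X ∨ (IsReduced X ∧ ∀ x : ↥X, ∃ W : X.Opens, x ∈ W ∧
      {Z : Set ↥X | Z ∈ irreducibleComponents ↥X ∧ (Z ∩ (W : Set ↥X)).Nonempty}.Finite))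
    (U : X.Opens) (hU : CInt.IsSchematicallyDense U) (h : (U : Scheme.{u}) ⟶ Y) (hh : h ≫ pY = U.ι ≫ pX)
    (x : ↥X) :
    (∃ (V : X.Opens) (v : (V : Scheme.{u}) ⟶ Y), x ∈ V ∧ v ≫ pY = V.ι ≫ pX ∧
        X.homOfLE (inf_le_right : U ⊓ V ≤ V) ≫ v = X.homOfLE (inf_le_left : U ⊓ V ≤ U) ≫ h) ↔
      ∃ w : Spec (X.presheaf.stalk x) ⟶ Y, w ≫ pY = X.fromSpecStalk x ≫ pX ∧
        pullback.fst (X.fromSpecStalk x) U.ι ≫ w = pullback.snd (X.fromSpecStalk x) U.ι ≫ h := by
  have : X.IsGermInjectiveAt x := by
    rcases hX with hX | ⟨hred, hfin⟩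
    · infer_instance
    · exact isGermInjectiveAt_of_locFinite x (hfin x)
  constructor
  · rintro ⟨V, v, hxV, hvS, hv⟩
    refine ⟨V.fromSpecStalkOfMem x hxV ≫ v, ?_, ?_⟩
    · rw [Category.assoc, hvS, ← Category.assoc, Scheme.Opens.fromSpecStalkOfMem_ι]
    · let r : pullback (X.fromSpecStalk x) U.ι ⟶ ((U ⊓ V : X.Opens) : Scheme.{u}) :=
        IsOpenImmersion.lift (U ⊓ V).ι (pullback.fst (X.fromSpecStalk x) U.ι ≫ X.fromSpecStalk x) (by
          rintro _ ⟨z, rfl⟩
          rw [Scheme.Opens.range_ι]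
          refine ⟨?_, ?_⟩
          · rw [pullback.condition, Scheme.Hom.comp_apply]
            exact (pullback.snd (X.fromSpecStalk x) U.ι z).2
          · rw [show pullback.fst (X.fromSpecStalk x) U.ι ≫ X.fromSpecStalk x =
              (pullback.fst (X.fromSpecStalk x) U.ι ≫ V.fromSpecStalkOfMem x hxV) ≫ V.ι by
                rw [Category.assoc, Scheme.Opens.fromSpecStalkOfMem_ι], Scheme.Hom.comp_apply, Scheme.Hom.comp_apply]
            exact ((V.fromSpecStalkOfMem x hxV) _).2)
      have hr : r ≫ (U ⊓ V).ι = pullback.fst (X.fromSpecStalk x) U.ι ≫ X.fromSpecStalk x :=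
        IsOpenImmersion.lift_fac _ _ _
      have h1 : r ≫ X.homOfLE (inf_le_right : U ⊓ V ≤ V) = pullback.fst _ _ ≫ V.fromSpecStalkOfMem x hxV := by
        rw [← cancel_mono V.ι, Category.assoc, Scheme.homOfLE_ι, hr, Category.assoc,
          Scheme.Opens.fromSpecStalkOfMem_ι]
      have h2 : r ≫ X.homOfLE (inf_le_left : U ⊓ V ≤ U) = pullback.snd _ _ := by
        rw [← cancel_mono U.ι, Category.assoc, Scheme.homOfLE_ι, hr, pullback.condition]
      rw [← Category.assoc, ← h1, Category.assoc, hv, ← Category.assoc, h2]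
  · rintro ⟨w, hwS, hw⟩
    obtain ⟨W, hxW, v, hv, hvS⟩ := spread_out_of_isGermInjective' pX pY w hwS
    obtain ⟨W', hxW', hW', hle, hinj⟩ := X.exists_le_and_germ_injective x W hxW
    let v' := X.homOfLE hle ≫ v
    have hv'S : v' ≫ pY = W'.ι ≫ pX := by
      simp only [v', Category.assoc, hvS]
      rw [← Category.assoc, Scheme.homOfLE_ι]
    refine ⟨W', v', hxW', hv'S, ?_⟩
    let j := W'.fromSpecStalkOfMem x hxW'
    have hjv : j ≫ v' = w := by
      have : j ≫ X.homOfLE hle = W.fromSpecStalkOfMem x hxW := by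
        rw [← cancel_mono W.ι, Category.assoc, Scheme.homOfLE_ι, Scheme.Opens.fromSpecStalkOfMem_ι,
          Scheme.Opens.fromSpecStalkOfMem_ι]
      simp only [v', ← Category.assoc, this]
      exact hv.symm
    have : IsAffine (W' : Scheme.{u}) := hW'
    have : IsSchemeTheoreticallyDominant j := ⟨by
      refine Scheme.IdealSheafData.ext_of_isAffine ?_
      rw [Scheme.Hom.ker_apply, Scheme.IdealSheafData.ideal_bot, Pi.bot_apply, ← RingHom.injective_iff_ker_eq_bot]
      have e : j = Spec.map (X.presheaf.germ W' x hxW') ≫ hW'.isoSpec.inv := by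
        rw [← cancel_mono W'.ι, Scheme.Opens.fromSpecStalkOfMem_ι, Category.assoc, hW'.isoSpec_inv_ι,
          ← IsAffineOpen.fromSpecStalk, IsAffineOpen.fromSpecStalk_eq_fromSpecStalk]
      have e2 : j.appTop = (hW'.isoSpec.inv.appTop ≫ (Scheme.ΓSpecIso _).hom) ≫ X.presheaf.germ W' x hxW' ≫ (Scheme.ΓSpecIso _).inv := by
        rw [e, Scheme.Hom.comp_appTop, Category.assoc]
        congr 1
        rw [← Scheme.ΓSpecIso_naturality_assoc, Iso.hom_inv_id, Category.comp_id]
      have : IsIso hW'.isoSpec.inv.appTop := inferInstanceAs (IsIso (Scheme.Γ.map hW'.isoSpec.inv.op))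
      change Function.Injective j.appTop
      rw [e2]
      exact ((ConcreteCategory.bijective_of_isIso (Scheme.ΓSpecIso _).inv).injective.comp hinj).comp
        (ConcreteCategory.bijective_of_isIso (hW'.isoSpec.inv.appTop ≫ (Scheme.ΓSpecIso _).hom)).injective⟩
    let a := X.homOfLE (inf_le_right : U ⊓ W' ≤ W')
    refine Groth.GrpschAbsch.ext_of_isSchemeTheoreticallyDominant pY ?_ (pullback.snd j a) ?_
    · rw [Category.assoc, hv'S, Category.assoc, hh, ← Category.assoc, ← Category.assoc, Scheme.homOfLE_ι,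
        Scheme.homOfLE_ι]
    · let s : pullback j a ⟶ pullback (X.fromSpecStalk x) U.ι :=
        pullback.lift (pullback.fst j a) (pullback.snd j a ≫ X.homOfLE (inf_le_left : U ⊓ W' ≤ U)) (by
          rw [← Scheme.Opens.fromSpecStalkOfMem_ι W' x hxW', ← Category.assoc, pullback.condition, Category.assoc,
            Category.assoc, Scheme.homOfLE_ι, Scheme.homOfLE_ι])
      rw [← Category.assoc, ← pullback.condition, Category.assoc, hjv,
        show pullback.fst j a = s ≫ pullback.fst _ _ from (pullback.lift_fst _ _ _).symm, Category.assoc, hw,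
        ← Category.assoc, pullback.lift_snd, Category.assoc]

end Groth.Agent.S5104
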