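import Groth.Statements.S5105
import Groth.Agent.ParaFormal.InvDivisor
import Groth.Agent.RefRank.RegularRef
import Groth.Agent.RefRank.DivSheaf

set_option autoImplicit false
universe u
open CategoryTheory CategoryTheory.Limits AlgebraicGeometry TopologicalSpace
open Div21

namespace Groth.Agent.S5105

/-- For an integral scheme (X is locally factorial exactly when the canonical map Pic(X) → Cl(X) is a
bijection; in the presence of (i), being bijective means that each codimension-1 cycle arises as the
Weil divisor of some rational section of an invertible module): suppose X is an integral scheme that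
is normal and locally Noetherian. Then these two conditions are equivalent: (1) whenever Z is a
function from the points of X to the integers that is zero away from the points of codimension 1
(coheight 1) and whose support is locally finite, one can find an invertible O_X-module L together
with a nonzero rational section s of L (a nonzero element of the generic fibre of L) such that, at
each point of codimension 1, the order of s equals the value Z takes there; (2) each local ring of X
is a unique factorisation domain. -/
theorem result (X : Scheme.{u}) [IsIntegral X]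
    [IsLocallyNoetherian X] (hX : Pi1.IsNormalScheme X) :
    (∀ Z : ↥X → ℤ, (∀ x : ↥X, Order.coheight x ≠ 1 → Z x = 0) →
        (∀ x : ↥X, ∃ W : X.Opens, x ∈ W ∧ {z : ↥X | z ∈ W ∧ Z z ≠ 0}.Finite) →
        ∃ (L : X.Modules) (_ : PicF.IsInvertible L) (s : Cyc.secFibre L (genericPoint ↥X)), s ≠ 0 ∧
          ∀ x : ↥X, Order.coheight x = 1 →
            Cyc.secOrdAt L (genericPoint ↥X) x (genericPoint_specializes x) s = Z x) ↔
      ∀ x : ↥X, UniqueFactorizationMonoid ↑(X.presheaf.stalk x) := by
  classical
  constructor
  · intro h y
    refine Groth.ParaFormal.ufd_of_local_equation hX y fun x₀ _ hx₀ => ?_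
    obtain ⟨L, hL, s, hs, hord⟩ := h (fun x => if x = x₀ then 1 else 0)
      (fun x hx => if_neg fun (e : x = x₀) => hx (e ▸ hx₀))
      (fun x => ⟨⊤, trivial, (Set.finite_singleton x₀).subset fun z hz => by_contra fun hne => hz.2 (if_neg hne)⟩)
    obtain ⟨w, rfl⟩ := Submodule.Quotient.mk_surjective _ s
    have hw : w ≠ 0 := fun e => hs (by rw [e]; rfl)
    have := Groth.RefRank.isQuasicoherent_of_isInvertible hL
    obtain ⟨U, e, hy, he⟩ := (Groth.PicAux.isInvertible_iff_exists_gen L).1 hL y
    obtain ⟨φ, hφ, hφw⟩ := Groth.RefRank.exists_coeff (Groth.RefRank.isStalkBasis_germ_of_gen he hy) hw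
    refine ⟨φ, hφ, fun x hxy hx => ?_⟩
    have hxU : x ∈ U := hxy.mem_open U.2 hy
    have hx1 := (Groth.RefRank.coheight_eq_one_iff x).1 hx
    have h1 := hord x hx
    refine Eq.trans ?_ h1
    refine ((Groth.RefRank.ord_eq_ordK hx φ).trans ?_)
    refine (Groth.RefRank.ordSec_eq hx1.le (Groth.RefRank.isStalkBasis_germ_of_gen he hxU) ?_).symm
    rw [← hφw]
    congr 1
    exact (Groth.RefRank.mspec_germ _ _ hxU e).trans (Groth.RefRank.mspec_germ _ _ hy e).symm
  · intro hu Z hZ hZfin
    let D : AlgebraicCycle X ℤ := ⟨Z, Set.subset_univ _, fun z _ => by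
      obtain ⟨W, hW, hfin⟩ := hZfin z
      exact ⟨W, W.2.mem_nhds hW, hfin.subset fun a ha => ha⟩⟩
    obtain ⟨F, hF, w, hw, hd⟩ := Groth.RefRank.exists_ref1_hasDiv hX D hZ
    have hinv : PicF.IsInvertible F := by
      refine (Groth.PicAux.isInvertible_iff_exists_gen F).2 fun x => ?_
      have := hu x
      obtain ⟨t, ht⟩ := Groth.RefRank.exists_isStalkBasis_of_ufd hF.1 hF.2.1
        (Groth.RefRank.isRankOne_of_genInvertible hF.2.2) x
      exact Groth.RefRank.exists_gen_of_isStalkBasis hF.1 ht
    exact ⟨F, hinv, Submodule.Quotient.mk w, fun e => hw (Groth.RefRank.eq_zero_of_mk_eq_zero e),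
      fun x hx => hd x ((Groth.RefRank.coheight_eq_one_iff x).1 hx)⟩

end Groth.Agent.S5105
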