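import Groth.Statements.S5107
import Groth.Agent.CycleLimits.Stages
import Groth.Agent.Limits.Stalk
import Groth.Agent.SchemeMorphisms.ZClos.QCoh
import Groth.Agent.SchemeMorphisms.Decomp
import Groth.Agent.FBaseGeom.AssTensor
import Groth.Agent.Divisors.AssocMore
import Groth.Agent.QCohMod.Coherent
-- import your own Groth.Agent.* helpers here

set_option autoImplicit false
universe u
open CategoryTheory CategoryTheory.Limits AlgebraicGeometry TopologicalSpace
open Lim8

namespace Groth.Agent.S5107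


open CategoryTheory AlgebraicGeometry TopologicalSpace Opposite

theorem ass_subset_of_isSchematicallyDense {X : Scheme.{u}} [IsLocallyNoetherian X] {U : X.Opens}
    (h : CInt.IsSchematicallyDense U) : AssSch.Ass (Coh.structureModule X) ⊆ (U : Set X) := by
  intro x hx
  by_contra hxU
  obtain ⟨_, ⟨W, hW, rfl⟩, hxW, -⟩ :=
    X.isBasis_affineOpens.exists_subset_of_mem_open (Set.mem_univ x) isOpen_univ
  replace hW : IsAffineOpen W := hW
  have := IsLocallyNoetherian.component_noetherian (X := X) ⟨W, hW⟩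
  have hp := (Groth.SchemeMorphisms.mem_ass_iff (Groth.Divisors.isQCoh_structureModule X) hW hxW).mp hx
  obtain ⟨hprime, z, hz⟩ := isAssociatedPrime_iff.mp hp
  let a : Γ(X, W) := z
  have hmul : ∀ r ∈ (hW.primeIdealOf ⟨x, hxW⟩).asIdeal, r * a = 0 := fun r hr => by
    rw [hz, Submodule.mem_colon_singleton, Submodule.mem_bot] at hr
    exact hr
  have ha : a ≠ 0 := fun h0 => hprime.ne_top ((Ideal.eq_top_iff_one _).mpr (by
    rw [hz, Submodule.mem_colon_singleton, Submodule.mem_bot, show z = 0 from h0, smul_zero]))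
  refine ha (h W ?_)
  refine TopCat.Presheaf.section_ext X.sheaf _ _ _ fun y hy => ?_
  erw [map_zero, map_zero, TopCat.Presheaf.germ_res_apply]
  have hne : ¬ (hW.primeIdealOf ⟨x, hxW⟩).asIdeal ≤ (hW.primeIdealOf ⟨y, hy.1⟩).asIdeal := fun hle => by
    have hs := ((PrimeSpectrum.le_iff_specializes _ _).mp hle).map hW.fromSpec.continuous
    rw [hW.fromSpec_primeIdealOf, hW.fromSpec_primeIdealOf] at hs
    exact hxU (hs.mem_open U.isOpen hy.2)
  obtain ⟨r, hr, hry⟩ := SetLike.not_le_iff_exists.mp hne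
  have hu : IsUnit (X.presheaf.germ W y hy.1 r) := by
    rw [← X.mem_basicOpen r y hy.1, Groth.QCohMod.mem_basicOpen_iff_notMem_primeIdealOf hW r y hy.1]
    exact hry
  have h0 := congrArg (X.presheaf.germ W y hy.1).hom (hmul r hr)
  rw [map_mul, map_zero] at h0
  exact hu.mul_right_eq_zero.mp h0

theorem isSchematicallyDense_of_ass {X : Scheme.{u}} [IsLocallyNoetherian X] {U : X.Opens}
    (h : AssSch.Ass (Coh.structureModule X) ⊆ (U : Set X)) : CInt.IsSchematicallyDense U := fun V =>
  Groth.ZClosAux.res_injective_of_ass (F := Coh.structureModule X)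
    (Groth.Divisors.isQCoh_structureModule X) (inf_le_left : V ⊓ U ≤ V) fun _ hx hxV => ⟨hxV, h hx⟩

theorem finite_ass {X : Scheme.{u}} [IsNoetherian X] :
    (AssSch.Ass (Coh.structureModule X)).Finite := by
  obtain ⟨s, hs, hX⟩ := isCompact_and_isOpen_iff_finite_and_eq_biUnion_affineOpens.mp
    ⟨isCompact_univ (X := X), isOpen_univ⟩
  refine (hs.biUnion fun W _ =>
    Groth.SchemeMorphisms.finite_ass_inter Groth.QCohMod.isCoh_unit W.2).subset fun x hx => ?_
  obtain ⟨W, hW, hxW⟩ := Set.mem_iUnion₂.1 (hX ▸ Set.mem_univ x : x ∈ ⋃ i ∈ s, (i.1 : Set X))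
  exact Set.mem_iUnion₂.2 ⟨W, hW, hx, hxW⟩

theorem mem_ass_of_flat {X Y : Scheme.{u}} [IsLocallyNoetherian Y] (f : X ⟶ Y) [Flat f] {x : X}
    (hx : x ∈ AssSch.Ass (Coh.structureModule X)) : f x ∈ AssSch.Ass (Coh.structureModule Y) :=
  ((Groth.FBaseGeom.mem_ass_iff_relAss f _ x (Groth.FBaseGeom.isFlatOver_structureModule f x)).mp hx).1

theorem exists_ass_over {X Y : Scheme.{u}} [IsLocallyNoetherian Y] (f : X ⟶ Y) [Flat f] {x : X}
    (hy : f x ∈ AssSch.Ass (Coh.structureModule Y)) :
    ∃ x' ∈ AssSch.Ass (Coh.structureModule X), f x' = f x := by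
  obtain ⟨z, hz, -⟩ := Groth.SchemeMorphisms.exists_ass_specializes
    (F := Coh.structureModule (f.fiber (f x))) (Groth.Divisors.isQCoh_structureModule _) (y := f.asFiber x)
    (not_subsingleton_iff_nontrivial.mpr
      ((Groth.RefRank.oneEquiv (f.asFiber x)).toEquiv.symm.nontrivial ) |> fun h => h)
  have hfib : f (f.fiberι (f x) z) = f x := (f.range_fiberι (f x)).le ⟨z, rfl⟩
  refine ⟨_, (Groth.FBaseGeom.mem_ass_iff_relAss f _ _
    (Groth.FBaseGeom.isFlatOver_structureModule f _)).mpr ⟨by rw [hfib]; exact hy, ?_⟩, hfib⟩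
  exact (Groth.FBaseGeom.mem_relAss_structure_iff_fibre
    (IsPullback.of_hasPullback f (Y.fromSpecResidueField (f x))) z).mpr hz


/-- Let (X_i) be a cofiltered system of Noetherian schemes with affine and flat transition morphisms, X
its limit, assumed Noetherian as well, and U₀ an open subset of X_{i₀}, with inverse images U_i in
X_i (for i over i₀) and U in X. Then U is schematically dense in X if and only if there is an index
i over i₀ such that U_i is schematically dense in X_i (and then, the transition morphisms being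
flat, U_j is schematically dense in X_j for every j over i). -/
theorem result {I : Type u} [SmallCategory I]
    [IsCofiltered I] (D : I ⥤ Scheme.{u}) (c : Limits.Cone D) (hc : Limits.IsLimit c)
    [∀ (i j : I) (g : i ⟶ j), IsAffineHom (D.map g)] [∀ (i j : I) (g : i ⟶ j), Flat (D.map g)]
    [∀ i : I, IsNoetherian (D.obj i)] [IsNoetherian c.pt] (i₀ : I) (U₀ : (D.obj i₀).Opens) :
    CInt.IsSchematicallyDense ((c.π.app i₀) ⁻¹ᵁ U₀) ↔
      ∃ (i : I) (g : i ⟶ i₀), CInt.IsSchematicallyDense ((D.map g) ⁻¹ᵁ U₀) := by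
  constructor
  · intro h
    haveI : Flat (c.π.app i₀) := Groth.Limits.flat_π D c hc fun j φ => inferInstance
    let S : Set (D.obj i₀) := AssSch.Ass (Coh.structureModule (D.obj i₀)) \ U₀
    haveI : Finite S := (finite_ass.subset Set.sdiff_subset).to_subtype
    have hbad : ∀ a ∈ S, a ∉ Set.range (c.π.app i₀) := by
      rintro _ ha ⟨x, rfl⟩
      obtain ⟨x', hx', hxx⟩ := exists_ass_over (c.π.app i₀) ha.1
      have := ass_subset_of_isSchematicallyDense (X := c.pt) h hx'
      exact ha.2 (hxx ▸ this)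
    choose J g hJ using fun a : S => Groth.CycleLimits.exists_not_mem_range_of_not_mem_range hc a.1 (hbad a.1 a.2)
    classical
    haveI := Fintype.ofFinite S
    obtain ⟨k, t, ht⟩ := IsCofiltered.inf_exists (insert i₀ (Finset.univ.image J))
      (Finset.univ.image fun a => (⟨J a, i₀, by simp, by simp, g a⟩ :
        Σ' (X Y : I) (_ : X ∈ insert i₀ (Finset.univ.image J)) (_ : Y ∈ insert i₀ (Finset.univ.image J)), X ⟶ Y))
    refine ⟨k, t (by simp), isSchematicallyDense_of_ass fun y hy => ?_⟩
    by_contra hyU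
    let a : S := ⟨_, mem_ass_of_flat (D.map (t (by simp))) hy, hyU⟩
    have e := ht (X := J a) (Y := i₀) (mX := by simp) (mY := by simp) (f := g a)
      (Finset.mem_image.mpr ⟨a, Finset.mem_univ _, rfl⟩)
    refine hJ a ⟨D.map (t (by simp)) y, ?_⟩
    rw [← Scheme.Hom.comp_apply, ← D.map_comp, e]
  · rintro ⟨i, g, h⟩
    haveI : Flat (c.π.app i) := Groth.Limits.flat_π D c hc fun j φ => inferInstance
    refine isSchematicallyDense_of_ass (X := c.pt) fun x hx => ?_
    have h1 := ass_subset_of_isSchematicallyDense h (mem_ass_of_flat (c.π.app i) hx)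
    show c.π.app i₀ x ∈ U₀
    rw [← c.w g, Scheme.Hom.comp_apply]
    exact h1

end Groth.Agent.S5107
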