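import Groth.Statements.S5109
import Groth.Agent.PRedWeil.ConditionWScheme

set_option autoImplicit false
universe u
open CategoryTheory CategoryTheory.Limits AlgebraicGeometry TopologicalSpace
open Pur21

namespace Groth.Agent.S5109

/-- Let X and Y be locally Noetherian schemes with X irreducible, g : X → Y a morphism locally of finite
type, and V the largest open subset of X on which g is a local isomorphism. Suppose that for every
point y of Y the local ring O_{Y,y} satisfies the following condition (W): every open subset of its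
punctured spectrum which contains no irreducible component of the punctured spectrum and whose
inclusion is affine is itself affine. Then every irreducible component of T = X − V either has
codimension ≤ 1 in X or has its generic point z isolated in the fibre g⁻¹(g(z)): for every point z
with no open neighbourhood on which g is a local isomorphism, and maximal with this property under
generization, either dim O_{X,z} ≤ 1 or some open neighbourhood of z meets the fibre through z only
in z. -/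
theorem result {X Y : Scheme.{u}}
    [IsLocallyNoetherian X] [IsLocallyNoetherian Y] [IrreducibleSpace ↥X] (g : X ⟶ Y) [LocallyOfFiniteType g]
    (hW : ∀ y : ↥Y, (∀ U : (Spec (Y.presheaf.stalk y)).Opens, ∀ hU : U ≤ FEt.puncturedSpec ↑(Y.presheaf.stalk y),
        (∀ T ∈ irreducibleComponents ↥(FEt.puncturedSpec ↑(Y.presheaf.stalk y)), ¬ Subtype.val '' T ⊆ (U : Set _)) →
        IsAffineHom ((Spec (Y.presheaf.stalk y)).homOfLE hU) → IsAffineOpen U))
    (z : ↥X) (hz : ¬ ∃ W : X.Opens, z ∈ W ∧ IsLocalIso (W.ι ≫ g))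
    (hmax : ∀ z' : ↥X, (¬ ∃ W : X.Opens, z' ∈ W ∧ IsLocalIso (W.ι ≫ g)) → z' ⤳ z → z' = z) :
    ringKrullDim ↑(X.presheaf.stalk z) ≤ 1 ∨
      ∃ O : X.Opens, z ∈ O ∧ ∀ z' : ↥X, z' ∈ O → g z' = g z → z' = z := by
  let good : Set ↥X := {x | ∃ W : X.Opens, x ∈ W ∧ IsLocalIso (W.ι ≫ g)}
  have hgood : IsOpen good := isOpen_iff_forall_mem_open.2 fun x ⟨W, hxW, hW'⟩ =>
    ⟨W, fun x' hx' => ⟨W, hx', hW'⟩, W.2, hxW⟩
  have hloc : ∀ x ∈ good, ∃ O : X.Opens, x ∈ O ∧ IsOpenImmersion (O.ι ≫ g) := by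
    rintro x ⟨W, hxW, hW'⟩
    obtain ⟨O, hxO, hO⟩ := hW'.exists_isOpenImmersion ⟨x, hxW⟩
    refine ⟨(O.ι ≫ W.ι).opensRange, ⟨⟨⟨x, hxW⟩, hxO⟩, rfl⟩, ?_⟩
    have e : (O.ι ≫ W.ι).isoOpensRange.inv ≫ O.ι ≫ W.ι ≫ g = (O.ι ≫ W.ι).opensRange.ι ≫ g := by
      rw [← Category.assoc O.ι, ← Category.assoc, Scheme.Hom.isoOpensRange_inv_comp]
    rw [← e]
    infer_instance
  obtain ⟨_, ⟨U, hU, rfl⟩, hyU, -⟩ :=
    Y.isBasis_affineOpens.exists_subset_of_mem_open (Set.mem_univ (g z)) isOpen_univ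
  obtain ⟨V, hV, hzV, hVU, hcl⟩ := Groth.PRedWeil.CondW.exists_affine_nbhd_closure goodᶜ hgood.isClosed_compl
    (g ⁻¹ᵁ U) z hyU hz hmax
  -- no good point of `V` lies in the fibre, and the good points of `V` have distinct images
  have hsep : ∀ x ∈ V, x ∈ good → ∀ x' ∈ V, g x = g x' → x' ⤳ x := fun x hxV hx x' hx'V h => by
    obtain ⟨O, hxO, hO⟩ := hloc x hx
    exact Groth.PRedWeil.CondW.specializes_of_map_eq g hU hV hVU O hxO hxV hx'V h
  have hnf : ∀ x ∈ V, g x = g z → x ∉ good := fun x hxV hgx hx => by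
    have hsp : z ⤳ x := hsep x hxV hx z hzV hgx
    exact hz (hsp.mem_open hgood hx)
  let Wo : X.Opens := V ⊓ ⟨good, hgood⟩
  haveI : IsOpenImmersion (Wo.ι ≫ g) := by
    refine Groth.PRedWeil.CondW.isOpenImmersion_of_injective _ (fun w => ?_) fun w w' h => ?_
    · obtain ⟨O, hwO, hO⟩ := hloc _ w.2.2
      refine ⟨Wo.ι ⁻¹ᵁ O, hwO, ?_⟩
      rw [← Category.assoc, ← morphismRestrict_ι, Category.assoc]
      infer_instance
    · exact Subtype.ext ((hsep _ w.2.1 w.2.2 _ w'.2.1 h).antisymm (hsep _ w'.2.1 w'.2.2 _ w.2.1 h.symm)).eq.symm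
  rcases Groth.PRedWeil.CondW.dim_le_one_or_singleton g (g z) (hW (g z)) hU hyU hV hVU z hzV rfl
      (fun x hx hgx => hcl x hx (hnf x hx hgx)) Wo (fun x hx hxy hne => ⟨hx, by
        by_contra hbad
        exact hne (hxy.antisymm ((hcl x hx hbad).map g.continuous)).eq⟩) with h | h
  · exact Or.inl h
  · exact Or.inr ⟨V, hzV, fun z' hz'V hgz' => h z' hz'V hgz'⟩

end Groth.Agent.S5109
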