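import Groth.Statements.S5110
import Groth.Agent.Limits.FlatClosure
import Groth.Agent.Limits.Descend

set_option autoImplicit false
universe u
open CategoryTheory CategoryTheory.Limits AlgebraicGeometry TopologicalSpace
open Lim8

namespace Groth.Agent.S5110

/-- Let (S_i) be a cofiltered system of schemes with affine transition morphisms and S its limit, such
that every S_i has finitely many maximal points and the transition morphisms send maximal points to
maximal points; let S_{i₀} be quasi-compact and V₀ an open subset of S_{i₀}, with inverse images V_i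
in the S_i over i₀ and V in S. If V₀ is dense in S_{i₀} then every V_i and V are dense. Conversely,
if V is dense in S and S has only finitely many maximal points, then V_i is dense in S_i for some i
over i₀. -/
theorem result {I : Type u} [SmallCategory I] [IsCofiltered I]
    (D : I ⥤ Scheme.{u}) (c : Limits.Cone D) (hc : Limits.IsLimit c)
    [∀ (i j : I) (g : i ⟶ j), IsAffineHom (D.map g)]
    (hfin : ∀ i : I, {s : ↥(D.obj i) | ∀ z : ↥(D.obj i), z ⤳ s → z = s}.Finite)
    (hsys : ∀ (i j : I) (g : i ⟶ j) (s : ↥(D.obj i)), (∀ z : ↥(D.obj i), z ⤳ s → z = s) →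
      ∀ z : ↥(D.obj j), z ⤳ D.map g s → z = D.map g s)
    (i₀ : I) [CompactSpace ↥(D.obj i₀)] (V₀ : (D.obj i₀).Opens) :
    (Dense (V₀ : Set ↥(D.obj i₀)) →
        (∀ (i : I) (g : i ⟶ i₀), Dense (((D.map g) ⁻¹ᵁ V₀ : (D.obj i).Opens) : Set ↥(D.obj i))) ∧
          Dense (((c.π.app i₀) ⁻¹ᵁ V₀ : c.pt.Opens) : Set ↥c.pt)) ∧
      (Dense (((c.π.app i₀) ⁻¹ᵁ V₀ : c.pt.Opens) : Set ↥c.pt) →
        {s : ↥c.pt | ∀ z : ↥c.pt, z ⤳ s → z = s}.Finite →
          ∃ (i : I) (g : i ⟶ i₀), Dense (((D.map g) ⁻¹ᵁ V₀ : (D.obj i).Opens) : Set ↥(D.obj i))) := by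
  refine ⟨fun h ↦ ?_, fun h hS ↦ ?_⟩
  · have h0 : ∀ s : D.obj i₀, (∀ z, z ⤳ s → z = s) → s ∈ V₀ :=
      fun s hs ↦ Groth.Limits.maximal_mem_of_dense (hfin i₀) V₀ h hs
    exact ⟨fun i g ↦ Groth.Limits.dense_of_maximal_mem _ fun s hs ↦ h0 _ (hsys i i₀ g s hs),
      Groth.Limits.dense_of_maximal_mem _ fun s hs ↦
        h0 _ ((Groth.Limits.maximal_iff D c hc hfin hsys s).mp hs i₀)⟩
  · by_contra H
    push Not at H
    have : ∀ (j k : Over i₀) (g : j ⟶ k), IsAffineHom ((Over.forget i₀ ⋙ D).map g) := fun j k g ↦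
      inferInstanceAs (IsAffineHom (D.map g.left))
    have hne : ∀ j : Over i₀, {z : D.obj j.left | (∀ w, w ⤳ z → w = z) ∧
        D.map j.hom z ∉ V₀}.Nonempty := fun j ↦ by
      by_contra hemp
      refine H j.left j.hom (Groth.Limits.dense_of_maximal_mem _ fun s hs ↦ ?_)
      by_contra hsV
      exact hemp ⟨s, hs, hsV⟩
    obtain ⟨s, hs⟩ := Groth.Limits.exists_maximal_of_forall (Over.forget i₀ ⋙ D)
      (c.whisker (Over.forget i₀))
      ((Functor.Initial.isLimitWhiskerEquiv (Over.forget i₀) c).symm hc)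
      (fun j ↦ hfin j.left) (fun j k g ↦ hsys j.left k.left g.left)
      (fun j ↦ {z : D.obj j.left | (∀ w, w ⤳ z → w = z) ∧ D.map j.hom z ∉ V₀})
      (fun j z hz ↦ hz.1) hne (fun j k g z hz ↦ ⟨hsys j.left k.left g.left z hz.1, by
        show D.map k.hom (D.map g.left z) ∉ V₀
        rw [← Scheme.Hom.comp_apply, ← D.map_comp, Over.w]
        exact hz.2⟩)
    have hmax : ∀ z : c.pt, z ⤳ s → z = s := (Groth.Limits.maximal_iff (Over.forget i₀ ⋙ D)
      (c.whisker (Over.forget i₀))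
      ((Functor.Initial.isLimitWhiskerEquiv (Over.forget i₀) c).symm hc)
      (fun j ↦ hfin j.left) (fun j k g ↦ hsys j.left k.left g.left) s).mpr
      fun j z hz ↦ (hs j).1 z hz
    have h1 := Groth.Limits.maximal_mem_of_dense hS ((c.π.app i₀) ⁻¹ᵁ V₀) h hmax
    have h2 : D.map (𝟙 i₀) (c.π.app i₀ s) ∉ V₀ := (hs (Over.mk (𝟙 i₀))).2
    rw [D.map_id] at h2
    exact h2 h1

end Groth.Agent.S5110
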