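import Groth.Statements.S5112
import Groth.Agent.ParaFormal.StalkDivisor
import Groth.Agent.ParaFormal.Principal

set_option autoImplicit false
universe u
open CategoryTheory CategoryTheory.Limits AlgebraicGeometry TopologicalSpace
open Div21

namespace Groth.Agent.S5112

/-- The implication from (b) to (a), for an integral scheme (a normal locally Noetherian scheme is the
disjoint union of its integral components): let X be a normal locally Noetherian integral scheme and
S a subset of X. A codimension-1 cycle Z (an integer-valued function on points, zero off the points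
of codimension 1, i.e. of coheight 1, with locally finite support) is principal at a point x when
there is a nonzero rational function whose order at every codimension-1 point generizing x is the
value of Z there (the trace of Z on Spec O_{X,x} is a principal divisor). Suppose (b): for every
point x of X which is not a generization of a point of S (the closure of x does not meet S) and
whose local ring has dimension at least 2, the local ring O_{X,x} is parafactorial. Then (a): every
codimension-1 cycle which is principal at all points of S is principal at every point of X (it is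
locally principal). (The published statement asserts that (a) and (b) are equivalent. The
implication from (a) to (b) fails: on the quotient of the real 2-sphere x² + y² + z² = 1 by (x, y,
z) ↦ (−x, −y, z), a normal Noetherian integral surface with exactly two singular points and divisor
class group of order 2, take S to be one singular point; every cycle principal there is principal
everywhere, while the local ring at the other singular point has dimension 2 and is not
parafactorial. This row states the implication from (b) to (a), which the published argument does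
prove.) -/
theorem result (X : Scheme.{u}) [IsIntegral X]
    [IsLocallyNoetherian X] (hX : Pi1.IsNormalScheme X) (S : Set ↥X)
    (hpar : ∀ x : ↥X, closure {x} ∩ S = ∅ → (2 : WithBot ℕ∞) ≤ ringKrullDim ↑(X.presheaf.stalk x) →
        ParaF.IsParafactorialLocalRing ↑(X.presheaf.stalk x))
    (Z : ↥X → ℤ) (hZ : ∀ x : ↥X, Order.coheight x ≠ 1 → Z x = 0)
    (hZfin : ∀ x : ↥X, ∃ W : X.Opens, x ∈ W ∧ {z : ↥X | z ∈ W ∧ Z z ≠ 0}.Finite)
    (hS : ∀ s : ↥X, s ∈ S →
        ∃ f : ↑X.functionField, f ≠ 0 ∧ ∀ x' : ↥X, Order.coheight x' = 1 → x' ⤳ s → Z x' = Scheme.ord f x')
    (x : ↥X) :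
    ∃ f : ↑X.functionField, f ≠ 0 ∧ ∀ x' : ↥X, Order.coheight x' = 1 → x' ⤳ x → Z x' = Scheme.ord f x' := by
  classical
  suffices key : ∀ (n : ℕ∞) (x : ↥X), Order.coheight x = n →
      ∃ f : ↑X.functionField, f ≠ 0 ∧ ∀ x' : ↥X, Order.coheight x' = 1 → x' ⤳ x → Z x' = Scheme.ord f x' from
    key _ x rfl
  intro n
  induction n using WellFoundedLT.induction with
  | ind n ih =>
    intro x hn
    by_cases hcl : closure {x} ∩ S = ∅
    swap
    · obtain ⟨s, hsx, hsS⟩ := Set.nonempty_iff_ne_empty.2 hcl
      obtain ⟨f, hf, hf'⟩ := hS s hsS
      exact ⟨f, hf, fun x' hx' h => hf' x' hx' (h.trans (specializes_iff_mem_closure.2 hsx))⟩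
    have hlt : ∀ y : ↥X, y ⤳ x → y ≠ x → Order.coheight y < n := by
      intro y hy hne
      have := Groth.ParaFormal.dim_lt_of_specializes hy hne
      rwa [ringKrullDim_stalk_eq_coheight, ringKrullDim_stalk_eq_coheight, WithBot.coe_lt_coe, hn] at this
    rcases lt_trichotomy n 1 with h1 | h1 | h1
    · refine ⟨1, one_ne_zero, fun x' hx' hx'x => ?_⟩
      exfalso
      by_cases he : x' = x
      · rw [he, hn] at hx'
        exact h1.ne hx'
      · have h2 := hlt x' hx'x he
        rw [hx'] at h2
        exact absurd (h2.trans h1) (lt_irrefl _)
    · have hx1 : Order.coheight x = 1 := hn.trans h1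
      have := Groth.RefRank.isDiscreteValuationRing_stalk hX ((Groth.RefRank.coheight_eq_one_iff x).1 hx1)
      obtain ⟨π, hπ⟩ := IsDiscreteValuationRing.exists_irreducible (X.presheaf.stalk x)
      have hπ0 : algebraMap (X.presheaf.stalk x) X.functionField π ≠ 0 := fun e =>
        hπ.ne_zero (IsFractionRing.injective (X.presheaf.stalk x) X.functionField (e.trans (map_zero _).symm))
      refine ⟨algebraMap (X.presheaf.stalk x) X.functionField π ^ Z x, zpow_ne_zero _ hπ0, fun x' hx' hx'x => ?_⟩
      obtain rfl : x' = x := by
        by_contra he
        have h2 := hlt x' hx'x he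
        rw [hx', h1] at h2
        exact lt_irrefl _ h2
      rw [Groth.ParaFormal.Principal.ord_zpow hπ0 hx', Groth.RefRank.CDivNormal.ord_uniformizer hx' hπ.ne_zero hπ.maximalIdeal_eq, mul_one]
    · have h2 : (2 : WithBot ℕ∞) ≤ ringKrullDim ↑(X.presheaf.stalk x) := by
        rw [ringKrullDim_stalk_eq_coheight, hn]
        exact WithBot.coe_le_coe.2 ((ENat.add_one_le_iff ENat.one_ne_top).2 h1)
      exact Groth.ParaFormal.StalkDivisor.principal_step hX Z hZfin x h2 (hpar x hcl h2) fun y hy hne =>
        ih _ (hlt y hy hne) y rfl

end Groth.Agent.S5112
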