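import Groth.Statements.S5113


set_option autoImplicit false
universe u
open SGA1

namespace Groth.Agent.S5113

open AlgebraicGeometry CategoryTheory CategoryTheory.Limits in
/-- Let g : S' ⟶ S be submersive, i.e. surjective and making S a topological quotient of S'. Then the
sequence of sets of open subsets Ouv(S) → Ouv(S') ⇉ Ouv(S' ×_S S') (inverse images along g and along
the two projections) is exact: an open subset U' of S' whose inverse images under the two
projections of S' ×_S S' agree is the inverse image of one and only one open subset of S. -/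
theorem result {S' S : Scheme.{u}} (g : S' ⟶ S)
    (hg : Topology.IsQuotientMap g.base) (U' : S'.Opens)
    (h : (pullback.fst g g) ⁻¹ᵁ U' = (pullback.snd g g) ⁻¹ᵁ U') :
    ∃! U : S.Opens, g ⁻¹ᵁ U = U' := by
  have hs : Function.Surjective g.base := hg.surjective
  have key : g.base ⁻¹' (g.base '' (U' : Set S')) = (U' : Set S') := by
    refine Set.Subset.antisymm ?_ (Set.subset_preimage_image _ _)
    rintro x ⟨y, hy, hyx⟩
    obtain ⟨z, hz1, hz2⟩ := Scheme.Pullback.exists_preimage_pullback (f := g) (g := g) y x hyx
    have hmem : z ∈ (pullback.fst g g) ⁻¹ᵁ U' := by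
      change (pullback.fst g g) z ∈ U'
      rw [hz1]; exact hy
    rw [h] at hmem
    change (pullback.snd g g) z ∈ U' at hmem
    rwa [hz2] at hmem
  have hopen : IsOpen (g.base '' (U' : Set S')) := by
    rw [← hg.isOpen_preimage, key]
    exact U'.2
  refine ⟨⟨_, hopen⟩, TopologicalSpace.Opens.ext key, ?_⟩
  intro U hU
  apply TopologicalSpace.Opens.ext
  change (U : Set S) = g.base '' (U' : Set S')
  rw [← hU]
  exact (Set.image_preimage_eq _ hs).symm

end Groth.Agent.S5113
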