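import Groth.Statements.S5114
import Groth.Agent.Hensel1.QFSplit
import Groth.Agent.Calg6.BranchCount
import Groth.Agent.Pi1Quot.SigmaFinite
import Mathlib.AlgebraicGeometry.Morphisms.QuasiFinite

set_option backward.isDefEq.respectTransparency false
set_option linter.style.haveILetI false

set_option autoImplicit false
universe u
open SGA1

namespace Groth.Agent.S5114

open AlgebraicGeometry CategoryTheory CategoryTheory.Limits in
/-- An isolated point of the closed fibre has a neighbourhood finite over a henselian base. -/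
theorem exists_finite_nbhd (A : Type u) [CommRing A] [HenselianLocalRing A]
    {S' : Scheme.{u}} (g : S' ⟶ Spec (CommRingCat.of A)) [LocallyOfFiniteType g]
    (hfin : (g.base ⁻¹' {IsLocalRing.closedPoint A}).Finite) (x : S')
    (hx : g.base x = IsLocalRing.closedPoint A) :
    ∃ (W : Scheme.{u}) (j : W ⟶ S'), IsOpenImmersion j ∧ IsFinite (j ≫ g) ∧ x ∈ Set.range j.base := by
  obtain ⟨_, ⟨V, hV, rfl⟩, hxV, -⟩ :=
    S'.isBasis_affineOpens.exists_subset_of_mem_open (Set.mem_univ x) isOpen_univ
  change S'.Opens at V
  haveI := IsAffineOpen.isOpenImmersion_fromSpec hV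
  let φ : CommRingCat.of A ⟶ Γ(S', V) := Spec.preimage (hV.fromSpec ≫ g)
  have hφ : Spec.map φ = hV.fromSpec ≫ g := Spec.map_preimage _
  haveI : LocallyOfFiniteType (Spec.map φ) := by rw [hφ]; infer_instance
  obtain ⟨q, hq⟩ : x ∈ Set.range hV.fromSpec.base := by rw [hV.range_fromSpec]; exact hxV
  algebraize [φ.hom]
  haveI : Algebra.FiniteType A Γ(S', V) :=
    (HasRingHomProperty.Spec_iff (P := @LocallyOfFiniteType)).1 ‹LocallyOfFiniteType (Spec.map φ)›
  have hqm : PrimeSpectrum.comap (algebraMap A Γ(S', V)) q = IsLocalRing.closedPoint A :=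
    ((congrArg (fun f => f.base q) hφ).trans (congrArg g.base hq)).trans hx
  haveI : q.asIdeal.LiesOver (IsLocalRing.maximalIdeal A) := ⟨(congrArg PrimeSpectrum.asIdeal hqm).symm⟩
  haveI : Algebra.QuasiFiniteAt A q.asIdeal := by
    refine (Algebra.quasiFiniteAt_iff_isOpen_singleton_fiber q).2 ?_
    let e := (Spec.map φ).fiberHomeo (PrimeSpectrum.comap (algebraMap A Γ(S', V)) q)
    have : Finite ↥((Spec.map φ).base ⁻¹' {PrimeSpectrum.comap (algebraMap A Γ(S', V)) q}) := by
      refine Set.Finite.to_subtype ?_
      rw [hqm, hφ, Scheme.Hom.comp_base, TopCat.coe_comp, Set.preimage_comp]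
      exact hfin.preimage hV.fromSpec.isOpenEmbedding.injective.injOn
    haveI : Finite ↥((Spec.map φ).fiber (PrimeSpectrum.comap (algebraMap A Γ(S', V)) q)) :=
      Finite.of_equiv _ e.toEquiv.symm
    haveI : DiscreteTopology ↥((Spec.map φ).base ⁻¹' {PrimeSpectrum.comap (algebraMap A Γ(S', V)) q}) :=
      e.symm.isEmbedding.discreteTopology
    exact isOpen_discrete (α := ↥((Spec.map φ).base ⁻¹' {PrimeSpectrum.comap (algebraMap A Γ(S', V)) q}))
      {⟨q, rfl⟩}
  obtain ⟨f, hfq, hf, -⟩ := Groth.Hensel1.exists_idempotent_of_quasiFiniteAt (R := A) q.asIdeal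
  haveI := hf.finite
  let π : Γ(S', V) ⟶ CommRingCat.of (Γ(S', V) ⧸ Ideal.span {1 - f}) :=
    CommRingCat.ofHom (Ideal.Quotient.mk _)
  haveI : IsOpenImmersion (Spec.map π) :=
    (isOpenImmersion_SpecMap_iff_of_surjective π Ideal.Quotient.mk_surjective).2
      ⟨1 - f, hf.1.one_sub, Ideal.mk_ker⟩
  refine ⟨_, Spec.map π ≫ hV.fromSpec, inferInstance, ?_, ?_⟩
  · rw [Category.assoc, ← hφ, ← Spec.map_comp, HasAffineProperty.iff_of_isAffine (P := @IsFinite)]
    refine ⟨inferInstance, ?_⟩
    rw [RingHom.finite_respectsIso.arrow_mk_iso_iff (arrowIsoΓSpecOfIsAffine (φ ≫ π)).symm]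
    exact RingHom.finite_algebraMap.2 hf.finite
  · have h1 : q ∈ Set.range (Spec.map π).base := by
      have h2 : q ∈ PrimeSpectrum.zeroLocus
          (RingHom.ker (Ideal.Quotient.mk (Ideal.span {1 - f})) : Set Γ(S', V)) := by
        rw [Ideal.mk_ker, PrimeSpectrum.mem_zeroLocus, SetLike.coe_subset_coe, Ideal.span_le,
          Set.singleton_subset_iff]
        refine (Ideal.IsPrime.mem_or_mem inferInstance (x := f) ?_).resolve_left hfq
        rw [hf.1.mul_one_sub_self]
        exact q.asIdeal.zero_mem
      rw [← range_comap_of_surjective _ _ Ideal.Quotient.mk_surjective] at h2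
      exact h2
    obtain ⟨r, hr⟩ := h1
    exact ⟨r, (congrArg hV.fromSpec.base hr).trans hq⟩

open AlgebraicGeometry CategoryTheory CategoryTheory.Limits in
/-- Let A be a complete Noetherian local ring, S = Spec A, and g : S' ⟶ S a surjective morphism of
finite type whose fibre over the closed point s is finite. If every point of S' specialises to some
point of the fibre over s (equivalently: the disjoint union of the spectra of the local rings of S'
at the points over s maps onto S'), then g is universally submersive. (The published statement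
asserts an equivalence and does not mention surjectivity of g; the converse fails: for A a complete
discrete valuation ring with fraction field K, S' = S ⊔ Spec K ⟶ S has a section, hence is
universally submersive, while the isolated point Spec K specialises to no point over s. This row
states the implication the published proof establishes, with the surjectivity it uses.) -/
theorem result (A : Type u) [CommRing A]
    [IsNoetherianRing A] [IsLocalRing A] [IsAdicComplete (IsLocalRing.maximalIdeal A) A]
    {S' : Scheme.{u}} (g : S' ⟶ Spec (CommRingCat.of A)) [LocallyOfFiniteType g] [QuasiCompact g]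
    [Surjective g]
    (hfin : (g.base ⁻¹' {IsLocalRing.closedPoint A}).Finite)
    (hsp : ∀ t : S', ∃ s' : S', g.base s' = IsLocalRing.closedPoint A ∧ t ⤳ s') :
    SGA1.UnivSubmersive g := by
  haveI := Groth.Calg6.Branch.henselianLocalRing_of_isAdicComplete A
  haveI := hfin.to_subtype
  choose W j hj hf hm using fun x : g.base ⁻¹' {IsLocalRing.closedPoint A} =>
    exists_finite_nbhd A g hfin x.1 x.2
  haveI : IsFinite (Sigma.desc j ≫ g) := by
    have : Sigma.desc j ≫ g = Sigma.desc fun x => j x ≫ g := by ext x; simp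
    rw [this]
    exact Groth.Pi1Quot.isFinite_sigmaDesc _
  haveI : Surjective (Sigma.desc j) := ⟨fun t => by
    obtain ⟨s', hs', hts⟩ := hsp t
    obtain ⟨r, hr⟩ := hm ⟨s', hs'⟩
    obtain ⟨r', hr'⟩ : t ∈ Set.range (j ⟨s', hs'⟩).base :=
      hts.mem_open (hj ⟨s', hs'⟩).base_open.isOpen_range ⟨r, hr⟩
    exact ⟨(Sigma.ι W ⟨s', hs'⟩).base r', by
      rw [← Scheme.Hom.comp_apply, Sigma.ι_desc]; exact hr'⟩⟩
  haveI : UniversallyClosed g := UniversallyClosed.of_comp_surjective (Sigma.desc j) g
  intro X' Y' i₁ i₂ f' H
  haveI : UniversallyClosed f' := MorphismProperty.of_isPullback H.flip ‹UniversallyClosed g›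
  haveI : Surjective f' := MorphismProperty.of_isPullback H.flip ‹Surjective g›
  exact f'.isClosedMap.isQuotientMap f'.continuous f'.surjective

end Groth.Agent.S5114
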