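import Groth.Statements.S5118
import Mathlib.RingTheory.Etale.StandardEtale
import Mathlib.RingTheory.AdjoinRoot
import Mathlib.Algebra.DualNumber

set_option autoImplicit false
universe u
open SGA1t

namespace Groth.Agent.S5118

open Polynomial in
/-- The etaleness criterion for the Kummer group scheme: Let A be a commutative ring and n ≥ 1. The
group scheme μ_n over Spec A is the spectrum of A[t]/(t^n − 1), a free A-module of rank n; it is
etale over A if and only if n is a unit of A (equivalently, n is prime to the characteristic of the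
residue field at every point of Spec A). -/
theorem result (A : Type u) [CommRing A] (n : ℕ) (hn : 1 ≤ n) :
    Algebra.Etale A (AdjoinRoot ((X : A[X]) ^ n - 1)) ↔ IsUnit ((n : ℕ) : A) := by
  constructor
  · intro het
    by_contra hu
    obtain ⟨m, hm, hnm⟩ := exists_max_ideal_of_mem_nonunits hu
    have _ : Nontrivial (A ⧸ m) := Ideal.Quotient.nontrivial_iff.mpr hm.ne_top
    have hn0 : ((n : ℕ) : A ⧸ m) = 0 := by
      rw [← map_natCast (Ideal.Quotient.mk m)]
      exact Ideal.Quotient.eq_zero_iff_mem.mpr hnm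
    have hpow : ((1 : (DualNumber (A ⧸ m))) + DualNumber.eps) ^ n = 1 := by
      apply TrivSqZeroExt.ext
      · simp
      · simp [hn0]
    have h1 : aeval ((1 : (DualNumber (A ⧸ m))) + DualNumber.eps) ((X : A[X]) ^ n - 1) = 0 := by simp [hpow]
    have h2 : aeval (1 : (DualNumber (A ⧸ m))) ((X : A[X]) ^ n - 1) = 0 := by simp
    let I : Ideal (DualNumber (A ⧸ m)) := RingHom.ker (TrivSqZeroExt.fstHom (A ⧸ m) (A ⧸ m) (A ⧸ m)).toRingHom
    have hI : IsNilpotent I := by
      refine ⟨2, ?_⟩
      refine le_antisymm (le_of_eq_of_le (sq I) (Ideal.mul_le.mpr fun a ha b hb => ?_)) bot_le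
      change TrivSqZeroExt.fst a = 0 at ha
      change TrivSqZeroExt.fst b = 0 at hb
      exact TrivSqZeroExt.ext (by simp [ha]) (by simp [ha, hb])
    have key := Algebra.FormallyUnramified.ext (R := A) (A := AdjoinRoot ((X : A[X]) ^ n - 1)) I hI
      (g₁ := AdjoinRoot.liftAlgHom _ (Algebra.ofId A (DualNumber (A ⧸ m))) _ h1)
      (g₂ := AdjoinRoot.liftAlgHom _ (Algebra.ofId A (DualNumber (A ⧸ m))) _ h2) (by
        intro x
        rw [Ideal.Quotient.eq, RingHom.mem_ker, map_sub, sub_eq_zero]
        exact AlgHom.congr_fun (AdjoinRoot.algHom_ext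
          (g₁ := ((TrivSqZeroExt.fstHom (A ⧸ m) (A ⧸ m) (A ⧸ m)).restrictScalars A).comp
            (AdjoinRoot.liftAlgHom _ (Algebra.ofId A (DualNumber (A ⧸ m))) _ h1))
          (g₂ := ((TrivSqZeroExt.fstHom (A ⧸ m) (A ⧸ m) (A ⧸ m)).restrictScalars A).comp
            (AdjoinRoot.liftAlgHom _ (Algebra.ofId A (DualNumber (A ⧸ m))) _ h2)) (by
            dsimp only [AlgHom.comp_apply]
            erw [AdjoinRoot.liftAlgHom_root, AdjoinRoot.liftAlgHom_root]; simp)) x)
    have hroot := AlgHom.congr_fun key (AdjoinRoot.root _)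
    erw [AdjoinRoot.liftAlgHom_root, AdjoinRoot.liftAlgHom_root] at hroot
    have := congrArg TrivSqZeroExt.snd hroot
    simp at this
  · rintro ⟨v, hv⟩
    let P : StandardEtalePair A :=
      { f := X ^ n - 1
        monic_f := by simpa using Polynomial.monic_X_pow_sub_C (1 : A) (n := n) (by omega)
        g := 1
        cond := ⟨C (↑v⁻¹ : A) * X, -1, 0, by
          rw [derivative_sub, derivative_one, sub_zero, derivative_X_pow, pow_zero,
            show C ((n : ℕ) : A) * X ^ (n - 1) * (C (↑v⁻¹ : A) * X) = (X : A[X]) ^ n by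
              rw [mul_mul_mul_comm, ← C_mul, ← pow_succ, ← hv, Units.mul_inv, C_1, one_mul]
              congr 1; omega]
          ring⟩ }
    have hone : IsUnit (AdjoinRoot.mk P.f P.g) := by simp [P]
    exact Algebra.Etale.of_equiv (P.equivAwayAdjoinRoot.trans
      ((IsLocalization.atUnit (AdjoinRoot P.f) (Localization.Away (AdjoinRoot.mk P.f P.g)) _ hone).symm.restrictScalars A))

end Groth.Agent.S5118
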