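import Groth.Statements.S5119
import Mathlib.Algebra.Polynomial.Laurent

set_option autoImplicit false
universe u
open scoped LaurentPolynomial
open SGA1t

namespace Groth.Agent.S5119

/-- The computation behind the exactness of the Kummer sequence 0 → μ_n → G_m → G_m → 0, i.e. faithful
flatness of the n-th power map u_n of G_m: Let A be a commutative ring and n ≥ 1, and let u_n be the
ring endomorphism of A[t, t⁻¹] with u_n(t) = t^n (on monomials, t^k ↦ t^{nk}). Then A[t, t⁻¹] is
free of rank n over itself via u_n, with basis 1, t, …, t^{n−1}: every Laurent polynomial q can be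
written in exactly one way as Σ_{i<n} u_n(c_i) t^i. -/
theorem result (A : Type u) [CommRing A] (n : ℕ) (hn : 1 ≤ n) (q : A[T;T⁻¹]) :
    ∃! c : Fin n → A[T;T⁻¹],
      q = ∑ i : Fin n, (AddMonoidAlgebra.mapDomainRingHom A (AddMonoidHom.mulLeft (n : ℤ)) : A[T;T⁻¹] →+* A[T;T⁻¹]) (c i) *
        LaurentPolynomial.T (i : ℤ) := by
  let N : ℤ := n
  have hN : N ≠ 0 := by simp only [N]; omega
  have hinjN : Function.Injective (AddMonoidHom.mulLeft N : ℤ →+ ℤ) := fun a b hab => by
    simpa [hN] using hab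
  have key : ∀ (c : Fin n → A[T;T⁻¹]) (a : ℤ) (j : Fin n),
      (∑ i : Fin n, (AddMonoidAlgebra.mapDomainRingHom A (AddMonoidHom.mulLeft (n : ℤ)) : A[T;T⁻¹] →+* A[T;T⁻¹]) (c i) *
        LaurentPolynomial.T (i : ℤ)).coeff (N * a + (j : ℤ)) = (c j).coeff a := by
    intro c a j
    rw [AddMonoidAlgebra.coeff_sum, Finsupp.finsetSum_apply]
    rw [Finset.sum_eq_single j]
    · rw [LaurentPolynomial.T, AddMonoidAlgebra.coeff_mul_single_apply, mul_one]
      simp only [AddMonoidAlgebra.mapDomainRingHom_apply, AddMonoidAlgebra.coeff_mapDomain]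
      rw [show N * a + (j : ℤ) + -(j : ℤ) = (AddMonoidHom.mulLeft N : ℤ →+ ℤ) a by simp]
      exact Finsupp.mapDomain_apply hinjN _ _
    · intro i _ hij
      rw [LaurentPolynomial.T, AddMonoidAlgebra.coeff_mul_single_apply, mul_one]
      simp only [AddMonoidAlgebra.mapDomainRingHom_apply, AddMonoidAlgebra.coeff_mapDomain]
      refine Finsupp.mapDomain_of_notMem_range _ _ ?_
      rintro ⟨b, hb⟩
      simp only [AddMonoidHom.coe_mulLeft, N] at hb
      have h1 : (n : ℤ) ∣ (j : ℤ) - (i : ℤ) := ⟨b - a, by rw [mul_sub]; linarith⟩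
      have h2 : ((j : ℤ) - (i : ℤ)).natAbs < ((n : ℤ)).natAbs := by omega
      have h3 := Int.eq_zero_of_dvd_of_natAbs_lt_natAbs h1 h2
      exact hij (Fin.ext (by omega))
    · simp
  let c0 : Fin n → A[T;T⁻¹] := fun j =>
    AddMonoidAlgebra.comapDomain (fun a : ℤ => N * a + (j : ℤ))
      (fun a b hab => by simpa [hN] using hab) q
  have hk : ∀ k : ℤ, ∃ (a : ℤ) (j : Fin n), k = N * a + (j : ℤ) := by
    intro k
    have h0 := Int.emod_nonneg k hN
    have h1 := Int.emod_lt_of_pos k (show (0:ℤ) < N by simp only [N]; omega)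
    refine ⟨k / N, ⟨(k % N).toNat, by simp only [N] at h0 h1 ⊢; omega⟩, ?_⟩
    have := Int.mul_ediv_add_emod k N
    simp only [Int.toNat_of_nonneg h0]
    omega
  refine ⟨c0, ?_, ?_⟩
  · ext k
    obtain ⟨a, j, rfl⟩ := hk k
    rw [key]
    rfl
  · intro c hc
    funext j
    ext a
    rw [← key c a j, ← hc]
    rfl

end Groth.Agent.S5119
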