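import Groth.Statements.S5120
import Groth.Agent.Pi1Etale.PolyBasis

set_option autoImplicit false
universe u
open SGA1t

namespace Groth.Agent.S5120

open Polynomial in
/-- The computation behind the exactness of the Artin-Schreier sequence 0 → Z/p → G_a → G_a → 0 in
characteristic p, i.e. faithful flatness of ℘ = id − F: Let p be a prime and A a ring of
characteristic p. Then A[t] is free of rank p over itself via the endomorphism t ↦ t − t^p, with
basis 1, t, …, t^{p−1}: every polynomial q can be written in exactly one way as Σ_{i<p} c_i(t − t^p)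
t^i. -/
theorem result (p : ℕ) [Fact p.Prime] (A : Type u) [CommRing A] [CharP A p]
    (q : A[X]) :
    ∃! c : Fin p → A[X], q = ∑ i : Fin p, aeval (X - X ^ p : A[X]) (c i) * X ^ (i : ℕ) := by
  have hp2 : 2 ≤ p := (Fact.out : p.Prime).two_le
  have hN : Nontrivial A := CharP.nontrivial_of_char_ne_one (by omega : p ≠ 1)
  have hdeg : (X : A[X]).degree < ((p : ℕ) : WithBot ℕ) := by
    rw [degree_X]; exact_mod_cast hp2
  have hg : ((X : A[X]) ^ p - X).Monic := monic_X_pow_sub (by rw [degree_X]; exact_mod_cast hp2)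
  have hnd : ((X : A[X]) ^ p - X).natDegree = p := by
    rw [natDegree_sub_eq_left_of_natDegree_lt (by rw [natDegree_X, natDegree_X_pow]; omega), natDegree_X_pow]
  have hf : (X - X ^ p : A[X]) = -((X : A[X]) ^ p - X) := (neg_sub _ _).symm
  rw [hf]
  obtain ⟨c, hc⟩ := Groth.Pi1Etale.exists_repr hg hnd (by omega) q
  refine ⟨c, hc, fun c' hc' => ?_⟩
  obtain ⟨N, hN'⟩ : ∃ N : ℕ, ∀ i, (c' i - c i).natDegree < N :=
    ⟨(Finset.univ.sup fun i => (c' i - c i).natDegree) + 1, fun i =>
      Nat.lt_succ_of_le (Finset.le_sup (f := fun i => (c' i - c i).natDegree) (Finset.mem_univ i))⟩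
  have h0 := Groth.Pi1Etale.eq_zero_of_repr_eq_zero hg hnd N (fun i => c' i - c i)
    (fun i => degree_le_natDegree.trans_lt (by exact_mod_cast hN' i))
    (by
      simp only [map_sub, sub_mul, Finset.sum_sub_distrib]
      rw [sub_eq_zero]
      exact hc'.symm.trans hc)
  funext i
  exact sub_eq_zero.mp (congrFun h0 i)

end Groth.Agent.S5120
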