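import Groth.Statements.S5121
import Groth.Agent.PiTopGen.Proper

set_option autoImplicit false
universe u
open Pi1
set_option backward.isDefEq.respectTransparency false

namespace Groth.Agent.S5121

open AlgebraicGeometry CategoryTheory CategoryTheory.Limits in
/-- For a proper surjective morphism onto a Noetherian base. Let S be a connected Noetherian scheme and
g : S' ⟶ S proper and surjective (so g is an effective descent morphism for finite etale covers, and
S', S' ×_S S', S' ×_S S' ×_S S' have finitely many connected components). Suppose that for every
connected open and closed subscheme C of S' and every geometric point η of C the fundamental group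
π₁(C, η) is topologically finitely generated. Then for every geometric point ξ of S the fundamental
group π₁(S, ξ) is topologically finitely generated. -/
theorem result {S S' : Scheme.{u}} [IsNoetherian S]
    [ConnectedSpace S] (g : S' ⟶ S) [IsProper g] [Surjective g]
    (hfg : ∀ (C : S'.Opens), IsClosed (C : Set S') → ConnectedSpace C →
      ∀ (Ω : Type u) [Field Ω] [IsAlgClosed Ω] (η : Spec (CommRingCat.of Ω) ⟶ (C : Scheme.{u})),
        ∃ F : Finset (FEt.piOne (C : Scheme.{u}) η), PiSp.TopGenerates (F : Set (FEt.piOne (C : Scheme.{u}) η)))
    {Ω : Type u} [Field Ω] [IsAlgClosed Ω] (ξ : Spec (CommRingCat.of Ω) ⟶ S) :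
    ∃ F : Finset (FEt.piOne S ξ), PiSp.TopGenerates (F : Set (FEt.piOne S ξ)) := by
  exact Groth.PiTopGen.exists_topGenerates ξ g hfg

end Groth.Agent.S5121
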