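import Groth.Statements.S5122
import Groth.Agent.Pi1EtDesc.Fpqc

set_option backward.isDefEq.respectTransparency false
set_option linter.style.haveILetI false

set_option autoImplicit false
universe u
open SGA1

namespace Groth.Agent.S5122

open AlgebraicGeometry CategoryTheory CategoryTheory.Limits in
/-- Let g : S' ⟶ S be universally submersive, D a descent datum relative to g (functor-of-points form,
for the one-member family g) whose underlying S'-scheme is etale, separated and of finite type over
S', and p : S₁ ⟶ S faithfully flat and quasi-compact. Then D is effective in the fibred category of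
etale separated finite-type schemes (isomorphic to the canonical datum of some etale, separated,
quasi-compact S-scheme) if and only if the descent datum obtained by base change along p, relative
to S' ×_S S₁ ⟶ S₁, is effective in the same sense over S₁. -/
theorem result {S S' S₁ : Scheme.{u}} (g : S' ⟶ S) (hg : SGA1.UnivSubmersive g)
    (D : Desc.SchDDFam (fun _ : PUnit.{1} => g))
    [Etale (D.obj PUnit.unit).hom] [IsSeparated (D.obj PUnit.unit).hom] [QuasiCompact (D.obj PUnit.unit).hom]
    (p : S₁ ⟶ S) [Flat p] [Surjective p] [QuasiCompact p] :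
    (∃ U : Over S, Etale U.hom ∧ IsSeparated U.hom ∧ QuasiCompact U.hom ∧ Nonempty ((Desc.toDDFam (fun _ : PUnit.{1} => g)).obj U ≅ D)) ↔
      (∃ U : Over S₁, Etale U.hom ∧ IsSeparated U.hom ∧ QuasiCompact U.hom ∧
        Nonempty ((Desc.toDDFam (fun _ : PUnit.{1} => pullback.snd g p)).obj U ≅
          (Desc.pullDDFam (f := fun _ : PUnit.{1} => g) (f' := fun _ : PUnit.{1} => pullback.snd g p)
        (α := id) (p := p) (p' := fun _ => pullback.fst g p) (fun _ => pullback.condition)).obj D)) := by
  haveI : Groth.Pi1EtDesc.IsUS g := ⟨hg⟩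
  constructor
  · rintro ⟨U, _, _, _, hU⟩
    exact ⟨Over.mk (pullback.snd U.hom p), (inferInstance : Etale (pullback.snd U.hom p)),
      (inferInstance : IsSeparated (pullback.snd U.hom p)), (inferInstance : QuasiCompact (pullback.snd U.hom p)),
      (Groth.Pi1EtDesc.effWith_actBC_iff D p (Over.mk (pullback.snd U.hom p))).1
        (Groth.Pi1EtDesc.effWith_pullback _ _ ((Groth.Pi1EtDesc.effWith_fam_iff D U).2 hU) p)⟩
  · rintro ⟨U₁, _, _, _, hU⟩
    obtain ⟨q, hq, hc⟩ := (Groth.Pi1EtDesc.effWith_actBC_iff D p U₁).2 hU
    obtain ⟨U, π, h1, h2, h3, h4⟩ := Groth.Pi1EtDesc.exists_effWith_of_fpqc hq hc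
    exact ⟨Over.mk π, h1, h2, h3, (Groth.Pi1EtDesc.effWith_fam_iff D (Over.mk π)).1 h4⟩

end Groth.Agent.S5122
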