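import Groth.Statements.S5124
import Groth.Agent.Pi1EtDesc.Spread
import Groth.Agent.Limits.LocalLimit

set_option backward.isDefEq.respectTransparency false
set_option backward.defeqAttrib.useBackward true
set_option linter.style.haveILetI false

set_option autoImplicit false
universe u
open SGA1

namespace Groth.Agent.S5124

open AlgebraicGeometry CategoryTheory CategoryTheory.Limits in
/-- Let g : S' ⟶ S be universally submersive and of finite presentation, D a descent datum relative to g
(functor-of-points form, for the one-member family g) whose underlying S'-scheme is etale and of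
finite presentation (quasi-compact and quasi-separated) over S', and a a point of S. Then there is
an open neighbourhood U of a over which the induced descent datum (relative to S' ×_S U ⟶ U) is the
canonical datum of some etale U-scheme if and only if the descent datum induced over Spec O_{S,a}
(relative to S' ×_S Spec O_{S,a} ⟶ Spec O_{S,a}) is the canonical datum of some etale scheme over
Spec O_{S,a}. -/
theorem result {S S' : Scheme.{u}} (g : S' ⟶ S) (hg : SGA1.UnivSubmersive g)
    [LocallyOfFinitePresentation g] [QuasiCompact g] [QuasiSeparated g]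
    (D : Desc.SchDDFam (fun _ : PUnit.{1} => g)) [Etale (D.obj PUnit.unit).hom]
    [QuasiCompact (D.obj PUnit.unit).hom] [QuasiSeparated (D.obj PUnit.unit).hom] (a : S) :
    (∃ W : S.Opens, a ∈ W ∧ (∃ U : Over (W : Scheme.{u}), Etale U.hom ∧
        Nonempty ((Desc.toDDFam (fun _ : PUnit.{1} => pullback.snd g W.ι)).obj U ≅
          (Desc.pullDDFam (f := fun _ : PUnit.{1} => g) (f' := fun _ : PUnit.{1} => pullback.snd g W.ι)
        (α := id) (p := W.ι) (p' := fun _ => pullback.fst g W.ι) (fun _ => pullback.condition)).obj D))) ↔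
      (∃ U : Over (Spec (S.presheaf.stalk a)), Etale U.hom ∧
        Nonempty ((Desc.toDDFam (fun _ : PUnit.{1} => pullback.snd g (S.fromSpecStalk a))).obj U ≅
          (Desc.pullDDFam (f := fun _ : PUnit.{1} => g) (f' := fun _ : PUnit.{1} => pullback.snd g (S.fromSpecStalk a))
        (α := id) (p := (S.fromSpecStalk a)) (p' := fun _ => pullback.fst g (S.fromSpecStalk a)) (fun _ => pullback.condition)).obj D)) := by
  let A := Groth.Pi1Desc.ofDD ((Desc.SchDDFam.toSchDD g).obj D)
  constructor
  · rintro ⟨W, haW, hU⟩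
    refine (Groth.Pi1EtDesc.effEt_actBC_iff D _).1 (Groth.Pi1EtDesc.effEt_actBC_congr A
      (Scheme.Opens.fromSpecStalkOfMem_ι W a haW) ((Groth.Pi1EtDesc.effEt_actBC_comp_iff A _ _).1 ?_))
    exact Groth.Pi1EtDesc.effEt_pullback _ _ (IsPullback.of_hasPullback _ _)
      ((Groth.Pi1EtDesc.effEt_actBC_iff D _).2 hU)
  · intro hU
    haveI : Surjective g := ⟨(MorphismProperty.universally_le _ _ hg :
      Topology.IsQuotientMap g.base).surjective⟩
    obtain ⟨_, ⟨W, hW, rfl⟩, haW, -⟩ :=
      S.isBasis_affineOpens.exists_subset_of_mem_open (Set.mem_univ a) isOpen_univ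
    change S.Opens at W
    haveI := Groth.Limits.nonempty_basicNhd (W := W) haW
    haveI : ∀ V, IsAffine ((Groth.Limits.nhdDiagram W a).obj V) := fun V =>
      Groth.Limits.isAffineOpen_nhd hW V
    haveI : ∀ (V V' : Groth.Limits.BasicNhd W a) (m : V ⟶ V'),
        IsAffineHom ((Groth.Limits.nhdDiagram W a).map m) := fun _ _ _ => inferInstance
    obtain ⟨hc⟩ := Groth.Limits.nonempty_isLimit_nhdCone hW haW
    let i : Groth.Limits.BasicNhd W a := Groth.Limits.BasicNhd.top haW
    let A₁ := Groth.Pi1EtDesc.actBC A i.1.ι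
    haveI : Etale ((Desc.SchDDFam.toSchDD g).obj D).obj.hom := ‹Etale (D.obj PUnit.unit).hom›
    haveI : QuasiCompact ((Desc.SchDDFam.toSchDD g).obj D).obj.hom := ‹QuasiCompact (D.obj PUnit.unit).hom›
    haveI : QuasiSeparated ((Desc.SchDDFam.toSchDD g).obj D).obj.hom := ‹QuasiSeparated (D.obj PUnit.unit).hom›
    have h1 : Groth.Pi1EtDesc.EffEt (Groth.Pi1EtDesc.actBC A₁ ((Groth.Limits.nhdCone W a).π.app i)) := by
      refine (Groth.Pi1EtDesc.effEt_actBC_comp_iff A _ _).2 (Groth.Pi1EtDesc.effEt_actBC_congr A ?_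
        ((Groth.Pi1EtDesc.effEt_actBC_iff D _).2 hU))
      exact (Scheme.Opens.fromSpecStalkOfMem_ι _ _ _).symm
    obtain ⟨j, φ, hj⟩ := Groth.Pi1EtDesc.exists_effEt_stage hc A₁ h1
    exact ⟨j.1, j.2.1, (Groth.Pi1EtDesc.effEt_actBC_iff D _).1 (Groth.Pi1EtDesc.effEt_actBC_congr A
      (S.homOfLE_ι (leOfHom φ : j ≤ i)) ((Groth.Pi1EtDesc.effEt_actBC_comp_iff A i.1.ι _).1 hj))⟩

end Groth.Agent.S5124
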