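import Groth.Statements.S5126
import Groth.Agent.S5125
import Groth.Agent.Pi1EtDesc.FpqcEff
import Groth.Agent.Calg6.LimitFlatComplete

set_option backward.isDefEq.respectTransparency false
set_option linter.style.haveILetI false

set_option autoImplicit false
universe u
open SGA1

namespace Groth.Agent.S5126

open AlgebraicGeometry CategoryTheory CategoryTheory.Limits in
/-- Let S be locally Noetherian, g : S' ⟶ S universally submersive and of finite presentation, and D a
descent datum relative to g (functor-of-points form, for the one-member family g) whose underlying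
S'-scheme is etale, separated and of finite presentation over S'. Then D is the canonical datum of
some etale S-scheme if and only if for every point a of S the descent datum induced over the
spectrum of the adic completion Ô of the local ring O_{S,a} (mapping to S through Spec O_{S,a}) is
the canonical datum of some etale Ô-scheme. -/
theorem result {S S' : Scheme.{u}} [IsLocallyNoetherian S] (g : S' ⟶ S)
    (hg : SGA1.UnivSubmersive g) [LocallyOfFinitePresentation g] [QuasiCompact g] [QuasiSeparated g]
    (D : Desc.SchDDFam (fun _ : PUnit.{1} => g)) [Etale (D.obj PUnit.unit).hom]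
    [QuasiCompact (D.obj PUnit.unit).hom] [IsSeparated (D.obj PUnit.unit).hom] :
    (∃ U : Over S, Etale U.hom ∧ Nonempty ((Desc.toDDFam (fun _ : PUnit.{1} => g)).obj U ≅ D)) ↔ ∀ a : S,
      (∃ U : Over (Spec (CommRingCat.of (AdicCompletion (IsLocalRing.maximalIdeal (S.presheaf.stalk a)) (S.presheaf.stalk a)))), Etale U.hom ∧
        Nonempty ((Desc.toDDFam (fun _ : PUnit.{1} => pullback.snd g (Spec.map (CommRingCat.ofHom (algebraMap (S.presheaf.stalk a)
          (AdicCompletion (IsLocalRing.maximalIdeal (S.presheaf.stalk a)) (S.presheaf.stalk a)))) ≫ S.fromSpecStalk a))).obj U ≅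
          (Desc.pullDDFam (f := fun _ : PUnit.{1} => g) (f' := fun _ : PUnit.{1} => pullback.snd g (Spec.map (CommRingCat.ofHom (algebraMap (S.presheaf.stalk a)
          (AdicCompletion (IsLocalRing.maximalIdeal (S.presheaf.stalk a)) (S.presheaf.stalk a)))) ≫ S.fromSpecStalk a))
        (α := id) (p := (Spec.map (CommRingCat.ofHom (algebraMap (S.presheaf.stalk a)
          (AdicCompletion (IsLocalRing.maximalIdeal (S.presheaf.stalk a)) (S.presheaf.stalk a)))) ≫ S.fromSpecStalk a)) (p' := fun _ => pullback.fst g (Spec.map (CommRingCat.ofHom (algebraMap (S.presheaf.stalk a)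
          (AdicCompletion (IsLocalRing.maximalIdeal (S.presheaf.stalk a)) (S.presheaf.stalk a)))) ≫ S.fromSpecStalk a)) (fun _ => pullback.condition)).obj D)) := by
  haveI : Groth.Pi1EtDesc.IsUS g := ⟨hg⟩
  refine ⟨fun h a => Groth.Pi1EtDesc.exists_pull_of_exists D (IsPullback.of_hasPullback g _) h,
    fun h => (Groth.Agent.S5125.result g hg D).2 fun a => ?_⟩
  let A := Groth.Pi1Desc.ofDD ((Desc.SchDDFam.toSchDD g).obj D)
  let φ := CommRingCat.ofHom (algebraMap (S.presheaf.stalk a)
    (AdicCompletion (IsLocalRing.maximalIdeal (S.presheaf.stalk a)) (S.presheaf.stalk a)))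
  haveI := Groth.Calg6.LimitFlat.faithfullyFlat_completion (S.presheaf.stalk a)
  haveI : Flat (Spec.map φ) := (HasRingHomProperty.Spec_iff (P := @Flat)).2 (RingHom.flat_algebraMap_iff.2 inferInstance)
  haveI : Surjective (Spec.map φ) := ⟨PrimeSpectrum.comap_surjective_of_faithfullyFlat⟩
  haveI : Etale ((Desc.SchDDFam.toSchDD g).obj D).obj.hom := ‹Etale (D.obj PUnit.unit).hom›
  haveI : QuasiCompact ((Desc.SchDDFam.toSchDD g).obj D).obj.hom := ‹QuasiCompact (D.obj PUnit.unit).hom›
  haveI : IsSeparated ((Desc.SchDDFam.toSchDD g).obj D).obj.hom := ‹IsSeparated (D.obj PUnit.unit).hom›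
  haveI := Groth.Pi1EtDesc.isUS_of_isPullback (IsPullback.of_hasPullback g (S.fromSpecStalk a))
  exact (Groth.Pi1EtDesc.effEt_actBC_iff D _).1 (Groth.Pi1EtDesc.effEt_of_fpqc _ (Spec.map φ)
    ((Groth.Pi1EtDesc.effEt_actBC_comp_iff A _ _).2 ((Groth.Pi1EtDesc.effEt_actBC_iff D _).2 (h a))))

end Groth.Agent.S5126
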