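import Groth.Statements.S5127
import Groth.Agent.S5126
import Groth.Agent.S2363
import Groth.Agent.Calg1.Completion
import Groth.Agent.Ega41Exist.Geometric

set_option backward.isDefEq.respectTransparency false
set_option linter.style.haveILetI false

set_option autoImplicit false
universe u
open SGA1

namespace Groth.Agent.S5127

open AlgebraicGeometry IsLocalRing in
/-- A Noetherian local ring has a faithfully flat complete Noetherian local algebra with algebraically
closed residue field. -/
theorem exists_complete_algClosed (R : CommRingCat.{u}) [IsNoetherianRing R] [IsLocalRing R] :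
    ∃ (B : Type u) (_ : CommRing B) (_ : IsNoetherianRing B) (_ : IsLocalRing B)
      (_ : IsAdicComplete (maximalIdeal B) B) (_ : IsAlgClosed (ResidueField B)) (φ : R ⟶ CommRingCat.of B),
      Flat (Spec.map φ) ∧ Surjective (Spec.map φ) := by
  obtain ⟨B₀, _, _, hN, hL, hlh, hF, e, -⟩ :=
    Groth.Agent.S2363.result (A := R) (AlgebraicClosure (ResidueField R))
  haveI := hN; haveI := hL; haveI := hlh; haveI := hF
  have hm : (maximalIdeal R).map (algebraMap R B₀) = maximalIdeal B₀ :=
    eq_maximalIdeal (Ideal.Quotient.maximal_of_isField _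
      (MulEquiv.isField (Field.toIsField (AlgebraicClosure (ResidueField R))) e.toMulEquiv))
  let e' : ResidueField B₀ ≃+* AlgebraicClosure (ResidueField R) :=
    (Ideal.quotEquivOfEq hm.symm).trans e
  haveI : IsAlgClosed (ResidueField B₀) := IsAlgClosed.of_ringEquiv _ _ e'.symm
  haveI := Groth.Calg1.isNoetherianRing_adicCompletion (maximalIdeal B₀) (IsNoetherian.noetherian _)
  let r := RingEquiv.ofBijective _ (Groth.Ega41Exist.bijective_residueField_map_completion (A := B₀))
  haveI : IsAlgClosed (ResidueField (AdicCompletion (maximalIdeal B₀) B₀)) :=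
    IsAlgClosed.of_ringEquiv _ _ r
  haveI : IsAdicComplete (maximalIdeal (AdicCompletion (maximalIdeal B₀) B₀))
      (AdicCompletion (maximalIdeal B₀) B₀) := by
    rw [AdicCompletion.maximalIdeal_eq_map, IsAdicComplete.map_algebraMap_iff]
    exact AdicCompletion.isAdicComplete (IsNoetherian.noetherian _)
  haveI := Groth.Calg6.LimitFlat.faithfullyFlat_completion B₀
  haveI : Module.Flat R (AdicCompletion (maximalIdeal B₀) B₀) := Module.Flat.trans R B₀ _
  haveI : Module.FaithfullyFlat R B₀ := Module.FaithfullyFlat.of_flat_of_isLocalHom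
  haveI : Module.FaithfullyFlat R (AdicCompletion (maximalIdeal B₀) B₀) :=
    Module.FaithfullyFlat.trans R B₀ _
  refine ⟨AdicCompletion (maximalIdeal B₀) B₀, inferInstance, inferInstance, inferInstance, inferInstance,
    inferInstance, CommRingCat.ofHom (algebraMap R _),
    (HasRingHomProperty.Spec_iff (P := @Flat)).2 (RingHom.flat_algebraMap_iff.2 inferInstance),
    ⟨PrimeSpectrum.comap_surjective_of_faithfullyFlat⟩⟩

open AlgebraicGeometry CategoryTheory CategoryTheory.Limits in
/-- Let S be locally Noetherian, g : S' ⟶ S universally submersive and of finite presentation, and D a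
descent datum relative to g (functor-of-points form, for the one-member family g) whose underlying
S'-scheme is etale, separated and of finite presentation over S'. Then D is the canonical datum of
some etale S-scheme if and only if, for every complete Noetherian local ring B with algebraically
closed residue field and every morphism q : Spec B ⟶ S, the descent datum induced over Spec B
(relative to S' ×_S Spec B ⟶ Spec B) is the canonical datum of some etale B-scheme. -/
theorem result {S S' : Scheme.{u}} [IsLocallyNoetherian S]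
    (g : S' ⟶ S) (hg : SGA1.UnivSubmersive g) [LocallyOfFinitePresentation g] [QuasiCompact g] [QuasiSeparated g]
    (D : Desc.SchDDFam (fun _ : PUnit.{1} => g)) [Etale (D.obj PUnit.unit).hom]
    [QuasiCompact (D.obj PUnit.unit).hom] [IsSeparated (D.obj PUnit.unit).hom] :
    (∃ U : Over S, Etale U.hom ∧ Nonempty ((Desc.toDDFam (fun _ : PUnit.{1} => g)).obj U ≅ D)) ↔ ∀ (B : Type u) [CommRing B] [IsNoetherianRing B] [IsLocalRing B]
      [IsAdicComplete (IsLocalRing.maximalIdeal B) B] [IsAlgClosed (IsLocalRing.ResidueField B)]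
      (q : Spec (CommRingCat.of B) ⟶ S), (∃ U : Over (Spec (CommRingCat.of B)), Etale U.hom ∧
        Nonempty ((Desc.toDDFam (fun _ : PUnit.{1} => pullback.snd g q)).obj U ≅
          (Desc.pullDDFam (f := fun _ : PUnit.{1} => g) (f' := fun _ : PUnit.{1} => pullback.snd g q)
        (α := id) (p := q) (p' := fun _ => pullback.fst g q) (fun _ => pullback.condition)).obj D)) := by
  haveI : Groth.Pi1EtDesc.IsUS g := ⟨hg⟩
  refine ⟨fun h B _ _ _ _ _ q => Groth.Pi1EtDesc.exists_pull_of_exists D (IsPullback.of_hasPullback g q) h,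
    fun h => (Groth.Agent.S5125.result g hg D).2 fun a => ?_⟩
  let A := Groth.Pi1Desc.ofDD ((Desc.SchDDFam.toSchDD g).obj D)
  obtain ⟨B, _, _, _, _, _, φ, hf, hs⟩ := exists_complete_algClosed (S.presheaf.stalk a)
  haveI := hf; haveI := hs
  haveI : Etale ((Desc.SchDDFam.toSchDD g).obj D).obj.hom := ‹Etale (D.obj PUnit.unit).hom›
  haveI : QuasiCompact ((Desc.SchDDFam.toSchDD g).obj D).obj.hom := ‹QuasiCompact (D.obj PUnit.unit).hom›
  haveI : IsSeparated ((Desc.SchDDFam.toSchDD g).obj D).obj.hom := ‹IsSeparated (D.obj PUnit.unit).hom›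
  haveI := Groth.Pi1EtDesc.isUS_of_isPullback (IsPullback.of_hasPullback g (S.fromSpecStalk a))
  exact (Groth.Pi1EtDesc.effEt_actBC_iff D _).1 (Groth.Pi1EtDesc.effEt_of_fpqc _ (Spec.map φ)
    ((Groth.Pi1EtDesc.effEt_actBC_comp_iff A _ _).2 ((Groth.Pi1EtDesc.effEt_actBC_iff D _).2
      (h B (Spec.map φ ≫ S.fromSpecStalk a)))))

end Groth.Agent.S5127
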