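import Groth.Statements.S5128
import Groth.Agent.Pi1Etale.EqLocus
import Groth.Agent.EtaleBase.Sections

set_option autoImplicit false
universe u
open SGA1

namespace Groth.Agent.S5128

open AlgebraicGeometry CategoryTheory CategoryTheory.Limits in
/-- Let X and Y be S-schemes with Y etale over S. The map f ↦ Γ_f sending an S-morphism f : X ⟶ Y to the
subset of X ×_S Y underlying its graph is a bijection from Hom_S(X, Y) onto the set of open subsets
Γ of X ×_S Y for which the restriction Γ → X of the first projection is radicial (universally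
injective) and surjective. Stated as: the graph of every S-morphism is an open immersion, and every
such open Γ is the image of the graph of exactly one S-morphism. -/
theorem result {S X Y : Scheme.{u}} (p : X ⟶ S)
    (q : Y ⟶ S) [Etale q] :
    (∀ f : {f : X ⟶ Y // f ≫ q = p},
      IsOpenImmersion (pullback.lift (𝟙 X) f.1 ((Category.id_comp p).trans f.2.symm) : X ⟶ pullback p q)) ∧
    ∀ Γ : (pullback p q).Opens, UniversallyInjective (Γ.ι ≫ pullback.fst p q) → Surjective (Γ.ι ≫ pullback.fst p q) →
      ∃! f : {f : X ⟶ Y // f ≫ q = p},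
        Set.range (pullback.lift (𝟙 X) f.1 ((Category.id_comp p).trans f.2.symm) : X ⟶ pullback p q).base =
          (Γ : Set ↥(pullback p q)) := by
  refine ⟨fun f => Groth.EtaleBase.isOpenImmersion_section (pullback.fst p q) _ (pullback.lift_fst _ _ _),
    fun Γ hinj hsurj => ?_⟩
  have : Etale (Γ.ι ≫ pullback.fst p q) := inferInstance
  have : IsIso (Γ.ι ≫ pullback.fst p q) :=
    Groth.Pi1Etale.isIso_of_etale_universallyInjective_surjective _
  let s : X ⟶ pullback p q := inv (Γ.ι ≫ pullback.fst p q) ≫ Γ.ι
  have hs : s ≫ pullback.fst p q = 𝟙 X := by simp [s]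
  have hrange : Set.range s.base = (Γ : Set _) := by
    simp only [s, Scheme.Hom.comp_base, TopCat.coe_comp]
    rw [Set.range_comp, Set.range_eq_univ.2 (inv (Γ.ι ≫ pullback.fst p q)).surjective, Set.image_univ]
    exact Γ.range_ι
  have hf : (s ≫ pullback.snd p q) ≫ q = p := by
    rw [Category.assoc, ← pullback.condition, reassoc_of% hs]
  have hlift : pullback.lift (𝟙 X) (s ≫ pullback.snd p q) ((Category.id_comp p).trans hf.symm) = s :=
    pullback.hom_ext (by simp [hs, pullback.lift_fst]) (by simp [pullback.lift_snd])
  refine ⟨⟨s ≫ pullback.snd p q, hf⟩, ?_, ?_⟩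
  · simp only [hlift]; exact hrange
  · rintro ⟨g, hg⟩ hgr
    refine Subtype.ext ?_
    have := Groth.EtaleBase.section_eq_of_range_eq (pullback.fst p q)
      (pullback.lift (𝟙 X) g ((Category.id_comp p).trans hg.symm)) s (pullback.lift_fst _ _ _) hs
      (hgr.trans hrange.symm)
    change g = s ≫ pullback.snd p q
    rw [← this, pullback.lift_snd]

end Groth.Agent.S5128
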