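import Groth.Statements.S5131
import Groth.Agent.SteinComp.Main
import Groth.Agent.Pi1FEt.Splitting

set_option backward.isDefEq.respectTransparency false
set_option backward.isDefEq.respectTransparency.types false
set_option linter.style.haveILetI false
set_option maxHeartbeats 1000000

set_option autoImplicit false
universe u
open SGA1

namespace Groth.Agent.S5131

open AlgebraicGeometry CategoryTheory CategoryTheory.Limits

theorem exists_residueField_hom {S : Scheme.{u}} {L : Type u} [Field L]
    (ζ : Spec (CommRingCat.of L) ⟶ S) (s : S) (h : ζ.base (IsLocalRing.closedPoint L) = s) :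
    ∃ j : S.residueField s ⟶ CommRingCat.of L, Spec.map j ≫ S.fromSpecResidueField s = ζ := by
  subst h
  exact ⟨_, S.descResidueField_stalkClosedPointTo_fromSpecResidueField L ζ⟩

theorem exists_singleton_fibre_nhd {N S : Scheme.{u}} (ν : N ⟶ S) [LocallyQuasiFinite ν] (s' : N)
    (U : N.Opens) (hU : s' ∈ U) :
    ∃ U₂ : N.Opens, U₂ ≤ U ∧ s' ∈ U₂ ∧ ∀ y ∈ U₂, ν.base y = ν.base s' → y = s' := by
  haveI := isDiscrete_iff_discreteTopology.1 (ν.isDiscrete_preimage_singleton (ν.base s'))
  obtain ⟨O, hO, hO'⟩ := isOpen_induced_iff.1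
    (isOpen_discrete ({⟨s', rfl⟩} : Set ↥(ν.base ⁻¹' {ν.base s'})))
  refine ⟨U ⊓ ⟨O, hO⟩, inf_le_left, ⟨hU, ?_⟩, fun y hy h => ?_⟩
  · exact (Set.ext_iff.1 hO' ⟨s', rfl⟩).2 rfl
  · exact congrArg Subtype.val ((Set.ext_iff.1 hO' ⟨y, h⟩).1 hy.2)

/-- A finite étale base change of a finite étale scheme over a field splits over an algebraically
closed extension. -/
theorem isSplit_of_base_change {X : Scheme.{u}} {k : CommRingCat.{u}} {Ω : Type u}
    [Field Ω] [IsAlgClosed Ω] (fk : X ⟶ Spec k) (γ : Spec (CommRingCat.of Ω) ⟶ Spec k)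
    {C F : Scheme.{u}} (cC : C ⟶ X) [IsFinite cC] [Etale cC] (qC : C ⟶ F) (φ : F ⟶ Spec k)
    [IsFinite φ] [Etale φ] (hp : IsPullback cC qC fk φ) :
    Pi1.IsSplit ((FEt.restrict (pullback.fst fk γ)).obj
      (MorphismProperty.Over.mk ⊤ cC ⟨‹IsFinite cC›, ‹Etale cC›⟩)) := by
  let ι := {e : Spec (CommRingCat.of Ω) ⟶ F // e ≫ φ = γ}
  haveI : Subsingleton ↥(Spec (CommRingCat.of Ω)) := inferInstanceAs (Subsingleton (PrimeSpectrum Ω))
  have hfin : Finite ι := by
    by_cases h0 : 0 < φ.finrank (γ default)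
    · exact Groth.Pi1FEt.finite_geomFibre φ γ h0
    · haveI : IsEmpty ι := ⟨fun e => by
        apply h0
        rw [← show φ (e.1 default) = γ default by rw [← Scheme.Hom.comp_apply, e.2]]
        exact φ.one_le_finrank_map _⟩
      infer_instance
  let ψ := pullback.fst fk γ
  let E : ι → (pullback fk γ ⟶ C) := fun e => hp.lift ψ (pullback.snd fk γ ≫ e.1)
    (by rw [Category.assoc, e.2, pullback.condition])
  have hE : ∀ e, E e ≫ cC = ψ := fun e => hp.lift_fst _ _ _
  have hu : ∀ (K : Type u) [Field K] [IsAlgClosed K] (t : Spec (CommRingCat.of K) ⟶ pullback fk γ)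
      (x : Spec (CommRingCat.of K) ⟶ C), x ≫ cC = t ≫ ψ → ∃! e, t ≫ E e = x := by
    intro K _ _ t x hx
    let w := t ≫ pullback.snd fk γ
    haveI : Subsingleton ↥(Spec (CommRingCat.of K)) := inferInstanceAs (Subsingleton (PrimeSpectrum K))
    haveI : Surjective w := ⟨fun y => ⟨default, Subsingleton.elim _ _⟩⟩
    obtain ⟨j, hj⟩ : ∃ j, Spec.map j = w := ⟨Spec.preimage w, Spec.map_preimage w⟩
    haveI : Flat w := by
      rw [← hj, HasRingHomProperty.Spec_iff (P := @Flat)]
      algebraize [j.hom]
      exact RingHom.flat_algebraMap_iff.2 (inferInstance : Module.Flat Ω K)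
    haveI : Epi w := Flat.epi_of_flat_of_surjective w
    have hF : (x ≫ qC) ≫ φ = w ≫ γ := by
      rw [Category.assoc, ← hp.w, ← Category.assoc, hx, Category.assoc, pullback.condition,
        ← Category.assoc]
    let Φ : ι → {y : Spec (CommRingCat.of K) ⟶ F // y ≫ φ = w ≫ γ} :=
      fun e => ⟨w ≫ e.1, by rw [Category.assoc, e.2]⟩
    have hinj : Function.Injective Φ := fun e e' h =>
      Subtype.ext ((cancel_epi w).1 (congrArg Subtype.val h))
    have hcard : Nat.card ι = Nat.card {y : Spec (CommRingCat.of K) ⟶ F // y ≫ φ = w ≫ γ} := by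
      rw [← Groth.Pi1FEt.finrank_eq_natCard, ← Groth.Pi1FEt.finrank_eq_natCard,
        Scheme.Hom.comp_apply, Subsingleton.elim (w default) default]
    haveI : Nonempty {y : Spec (CommRingCat.of K) ⟶ F // y ≫ φ = w ≫ γ} := ⟨⟨_, hF⟩⟩
    haveI : Finite {y : Spec (CommRingCat.of K) ⟶ F // y ≫ φ = w ≫ γ} := by
      refine Groth.Pi1FEt.finite_geomFibre φ (w ≫ γ) ?_
      rw [← show φ ((x ≫ qC) default) = (w ≫ γ) default by rw [← Scheme.Hom.comp_apply, hF]]
      exact φ.one_le_finrank_map _
    have hbij := (Nat.bijective_iff_injective_and_card Φ).2 ⟨hinj, hcard⟩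
    obtain ⟨e, he⟩ := hbij.2 ⟨_, hF⟩
    have he' : w ≫ e.1 = x ≫ qC := congrArg Subtype.val he
    refine ⟨e, hp.hom_ext ?_ ?_, fun e' h' => hinj (Subtype.ext ?_)⟩
    · rw [Category.assoc, hE, hx]
    · rw [Category.assoc, hp.lift_snd, ← Category.assoc, he']
    · show w ≫ e'.1 = w ≫ e.1
      rw [he', ← h', Category.assoc t (E e'), hp.lift_snd, ← Category.assoc]
  haveI := hfin
  haveI := Groth.Pi1FEt.isIso_sigmaDesc_lift cC ψ E hE hu
  refine ⟨ι, hfin, (asIso (Sigma.desc fun e => pullback.lift (f := cC) (g := ψ) (E e) (𝟙 (pullback fk γ))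
    ((hE e).trans (Category.id_comp ψ).symm))).symm, fun e => ?_⟩
  exact (Sigma.ι_desc_assoc _ _ _).trans (pullback.lift_snd _ _ _)

open AlgebraicGeometry CategoryTheory CategoryTheory.Limits in
/-- Let f : X ⟶ S be a proper morphism of locally Noetherian schemes with f_* O_X = O_S (the maps O_S(U)
→ O_X(f⁻¹U) are bijective), X' a scheme proper over X via g, and X' → S' → S the Stein factorisation
of g ≫ f (S' the normalisation of S in X'), with c : X' ⟶ X ×_S S' the canonical morphism. Let s be
a point of S, s' a point of S' over s, and F'₁ the open and closed part of the fibre X'_s consisting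
of the points sent to s' (a connected component of X'_s). Then c is an isomorphism over some open
neighbourhood U' of s' with U' etale over S if and only if X' is etale over X at every point of F'₁
and F'₁ is a finite etale cover of the fibre X_s which splits completely after base change to an
algebraic closure of k(s). -/
theorem result {X X' S : Scheme.{u}} [IsLocallyNoetherian S]
    [IsLocallyNoetherian X] (f : X ⟶ S) [IsProper f] (hO : ∀ U : S.Opens, Function.Bijective (f.app U).hom)
    (g : X' ⟶ X) [IsProper g]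
    (c : X' ⟶ pullback f (g ≫ f).fromNormalization)
    (hc1 : c ≫ pullback.fst f (g ≫ f).fromNormalization = g)
    (hc2 : c ≫ pullback.snd f (g ≫ f).fromNormalization = (g ≫ f).toNormalization)
    (s : S) (s' : ↥((g ≫ f).normalization)) (hs' : (g ≫ f).fromNormalization.base s' = s)
    (C : (pullback (g ≫ f) (S.fromSpecResidueField s)).Opens)
    (hC : ∀ x : ↥(pullback (g ≫ f) (S.fromSpecResidueField s)),
      x ∈ C ↔ (g ≫ f).toNormalization.base ((pullback.fst (g ≫ f) (S.fromSpecResidueField s)).base x) = s') :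
    (∃ U' : ((g ≫ f).normalization).Opens, s' ∈ U' ∧ Etale (U'.ι ≫ (g ≫ f).fromNormalization) ∧
        IsIso (c ∣_ ((pullback.snd f (g ≫ f).fromNormalization) ⁻¹ᵁ U'))) ↔
      ((∀ x : C, (pullback.fst (g ≫ f) (S.fromSpecResidueField s)).base x.1 ∈ Pi1X.etaleLocus g) ∧
        ∃ (hF : IsFinite (C.ι ≫ pullback.map (g ≫ f) (S.fromSpecResidueField s) f (S.fromSpecResidueField s) g (𝟙 _) (𝟙 S)
        (Category.comp_id _) ((Category.comp_id _).trans (Category.id_comp _).symm)))
          (hE : Etale (C.ι ≫ pullback.map (g ≫ f) (S.fromSpecResidueField s) f (S.fromSpecResidueField s) g (𝟙 _) (𝟙 S)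
        (Category.comp_id _) ((Category.comp_id _).trans (Category.id_comp _).symm))),
          Pi1.IsSplit ((FEt.restrict (pullback.fst (pullback.snd f (S.fromSpecResidueField s))
            (Spec.map (CommRingCat.ofHom (algebraMap (S.residueField s) (AlgebraicClosure (S.residueField s))))))).obj
            (MorphismProperty.Over.mk ⊤ (C.ι ≫ pullback.map (g ≫ f) (S.fromSpecResidueField s) f (S.fromSpecResidueField s) g (𝟙 _) (𝟙 S)
        (Category.comp_id _) ((Category.comp_id _).trans (Category.id_comp _).symm)) ⟨hF, hE⟩))) := by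
  classical
  let h := g ≫ f
  let κ := S.fromSpecResidueField s
  let ν := h.fromNormalization
  let π := h.toNormalization
  haveI : IsFinite ν := Groth.HensPair.isFinite_fromNormalization h Groth.CohFin.projFinite
  haveI : IsProper π := Groth.HensPair.isProper_toNormalization h
  have hw : π ≫ ν = g ≫ f := h.toNormalization_fromNormalization
  haveI : Surjective π := Groth.SteinComp.surjective_of_isIso_app π
    fun V _ => Groth.HensPair.isIso_toNormalization_app h V
  let fX := pullback.snd f κ
  let cC := C.ι ≫ pullback.map h κ f κ g (𝟙 _) (𝟙 S)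
        (Category.comp_id _) ((Category.comp_id _).trans (Category.id_comp _).symm)
  have hcC : cC ≫ pullback.fst f κ = (C.ι ≫ pullback.fst h κ) ≫ g := by
    simp [cC]
  have hcC' : cC ≫ fX = C.ι ≫ pullback.snd h κ := by
    simp [cC, fX]
  constructor
  · rintro ⟨U', hsU', hU', hcU'⟩
    obtain ⟨U, hUU', hsU, huniq⟩ := exists_singleton_fibre_nhd ν s' U' hsU'
    haveI : Etale (U.ι ≫ ν) := by
      rw [← Scheme.homOfLE_ι _ hUU', Category.assoc]
      infer_instance
    let V' := pullback.snd f ν ⁻¹ᵁ U'
    let V := pullback.snd f ν ⁻¹ᵁ U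
    have hVV' : V ≤ V' := fun y hy => hUU' hy
    haveI : IsIso (c ∣_ V) := by
      have h1 : IsPullback ((c ⁻¹ᵁ V).ι) (c ∣_ V) c V.ι := (isPullback_morphismRestrict c V).flip
      rw [← Scheme.homOfLE_ι _ hVV', ← Scheme.homOfLE_ι _ (show c ⁻¹ᵁ V ≤ c ⁻¹ᵁ V' from fun y hy => hVV' hy)] at h1
      have h2 : IsPullback (Scheme.homOfLE _ (show c ⁻¹ᵁ V ≤ c ⁻¹ᵁ V' from fun y hy => hVV' hy))
          (c ∣_ V) (c ∣_ V') (Scheme.homOfLE _ hVV') := by
        refine IsPullback.of_right h1 ?_ (isPullback_morphismRestrict c V').flip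
        rw [← cancel_mono V'.ι]
        simp only [Category.assoc]
        rw [morphismRestrict_ι, ← Category.assoc, Scheme.homOfLE_ι]
        refine (morphismRestrict_ι c V).symm.trans ?_
        congr 1
        exact (Scheme.homOfLE_ι _ hVV').symm
      exact MorphismProperty.of_isPullback (P := MorphismProperty.isomorphisms _) h2
        (inferInstanceAs (IsIso (c ∣_ V')))
    let W := c ⁻¹ᵁ V
    have hWπ : W = π ⁻¹ᵁ U := by
      show c ⁻¹ᵁ (pullback.snd f ν ⁻¹ᵁ U) = _
      rw [← Scheme.Hom.comp_preimage, hc2]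
    have hC' : C = pullback.fst h κ ⁻¹ᵁ W := by
      rw [hWπ]
      ext z
      constructor
      · intro hz
        show π.base _ ∈ U
        rw [show π.base _ = s' from (hC z).1 hz]
        exact hsU
      · intro hz
        refine (hC z).2 (huniq _ hz ?_)
        rw [← Scheme.Hom.comp_apply, hw, hs', ← Scheme.Hom.comp_apply]
        show ((pullback.fst h κ) ≫ h).base z = s
        rw [pullback.condition, Scheme.Hom.comp_apply, Scheme.fromSpecResidueField_apply]
    have hVsq : IsPullback (V.ι ≫ pullback.fst f ν) (pullback.snd f ν ∣_ U) f (U.ι ≫ ν) :=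
      (isPullback_morphismRestrict (pullback.snd f ν) U).flip.paste_horiz
        (IsPullback.of_hasPullback f ν)
    haveI : Etale (V.ι ≫ pullback.fst f ν) := MorphismProperty.of_isPullback hVsq.flip inferInstance
    have hWsq : IsPullback (W.ι ≫ g) ((c ∣_ V) ≫ (pullback.snd f ν ∣_ U)) f (U.ι ≫ ν) :=
      hVsq.of_iso (asIso (c ∣_ V)).symm (Iso.refl _) (Iso.refl _) (Iso.refl _)
        (by simp only [W]; simp; exact congrArg (_ ≫ ·) hc1) (by simp) (by simp) (by simp)
    haveI : Etale (W.ι ≫ g) := by
      have e : W.ι ≫ g = (c ∣_ V) ≫ V.ι ≫ pullback.fst f ν := by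
        rw [morphismRestrict_ι_assoc, hc1]
      rw [e]
      infer_instance
    refine ⟨fun x => (Groth.SteinComp.mem_etaleLocus_iff g _).2 ⟨W, ?_, inferInstance⟩, ?_⟩
    · exact SetLike.ext_iff.1 hC' x.1 |>.1 x.2
    subst hC'
    let F := pullback (U.ι ≫ ν) κ
    let φ : F ⟶ Spec (S.residueField s) := pullback.snd (U.ι ≫ ν) κ
    haveI : IsFinite φ := by
      let j : F ⟶ pullback ν κ := pullback.map (U.ι ≫ ν) κ ν κ U.ι (𝟙 _) (𝟙 S) (by simp) (by simp)
      haveI : Subsingleton ↥(Spec (S.residueField s)) :=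
        inferInstanceAs (Subsingleton (PrimeSpectrum (S.residueField s)))
      haveI : IsFinite (pullback.snd ν κ) := inferInstance
      haveI : IsClosedImmersion j := by
        refine .of_isPreimmersion _ ?_
        haveI := isDiscrete_iff_discreteTopology.1
          ((pullback.snd ν κ).isDiscrete_preimage_singleton (default : Spec (S.residueField s)))
        haveI : DiscreteTopology ↥(pullback ν κ) := by
          rw [show (pullback.snd ν κ) ⁻¹' {default} = Set.univ from
            Set.eq_univ_of_forall fun _ => Subsingleton.elim _ _] at this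
          exact (Homeomorph.Set.univ _).discreteTopology
        exact isClosed_discrete _
      have e : φ = j ≫ pullback.snd ν κ := by simp [φ, j]
      rw [e]
      infer_instance
    let ρ := (pullback.fst h κ) ∣_ W
    let πU := (c ∣_ V) ≫ (pullback.snd f ν ∣_ U)
    have hCbig : IsPullback ρ (cC ≫ fX) ((W.ι ≫ g) ≫ f) κ := by
      rw [show ((W.ι ≫ g) ≫ f) = W.ι ≫ h from Category.assoc _ _ _, hcC']
      exact (isPullback_morphismRestrict (pullback.fst h κ) W).paste_vert
        (IsPullback.of_hasPullback h κ)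
    have hCX : IsPullback ρ cC (W.ι ≫ g) (pullback.fst f κ) := by
      refine IsPullback.of_bot hCbig ?_ (IsPullback.of_hasPullback f κ)
      rw [hcC, morphismRestrict_ι_assoc]
      simp
    have hbig : IsPullback (ρ ≫ πU) cC (U.ι ≫ ν) (fX ≫ κ) := by
      have h3 := hCX.paste_horiz hWsq.flip
      rwa [show pullback.fst f κ ≫ f = fX ≫ κ from pullback.condition] at h3
    let qC : (pullback.fst h κ ⁻¹ᵁ W).toScheme ⟶ F :=
      pullback.lift (ρ ≫ πU) (cC ≫ fX) (hbig.w.trans (Category.assoc _ _ _).symm)
    have hp : IsPullback cC qC fX φ := by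
      refine (IsPullback.of_right (h₁₂ := pullback.fst (U.ι ≫ ν) κ) ?_ (pullback.lift_snd _ _ _)
        (IsPullback.of_hasPullback (U.ι ≫ ν) κ)).flip
      rw [pullback.lift_fst]
      exact hbig
    haveI : IsFinite cC := MorphismProperty.of_isPullback hp.flip inferInstance
    haveI : Etale cC := MorphismProperty.of_isPullback hp.flip inferInstance
    exact ⟨inferInstance, inferInstance, isSplit_of_base_change fX _ cC _ φ hp⟩
  · rintro ⟨hL, hF, hE, ι, hι, e, he⟩
    let Ω := AlgebraicClosure (S.residueField s)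
    let γ : Spec (CommRingCat.of Ω) ⟶ Spec (S.residueField s) :=
      Spec.map (CommRingCat.ofHom (algebraMap (S.residueField s) Ω))
    let ψ := pullback.fst fX γ
    have hlift : ∀ x' : X', π.base x' = s' → ∃ z : C, (pullback.fst h κ).base z.1 = x' := by
      intro x' hx'
      have hxs : h.base x' = κ.base (IsLocalRing.closedPoint (S.residueField s)) := by
        rw [Scheme.fromSpecResidueField_apply, ← hs', ← hx', ← Scheme.Hom.comp_apply, hw]
      obtain ⟨z, hz, -⟩ := Scheme.Pullback.exists_preimage_pullback (f := h) (g := κ) x' _ hxs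
      exact ⟨⟨z, (hC z).2 (by rw [hz]; exact hx')⟩, hz⟩
    refine Groth.SteinComp.exists_nhd_of_split f
      (fun U _ => (ConcreteCategory.isIso_iff_bijective _).2 (hO U)) g π ν hw
      (fun V _ => Groth.HensPair.isIso_toNormalization_app h V) c hc1 hc2 s'
      (fun x' hx' => by
        obtain ⟨z, hz⟩ := hlift x' hx'
        rw [← hz]
        exact hL z) ?_
    intro L _ _ ζ hζ
    obtain ⟨i⟩ : Nonempty ι := by
      obtain ⟨x', hx'⟩ := π.surjective s'
      obtain ⟨z, -⟩ := hlift x' hx'
      haveI : Surjective γ := ⟨fun y => ⟨IsLocalRing.closedPoint Ω, by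
        apply PrimeSpectrum.ext
        exact ((Ideal.eq_bot_or_top _).resolve_right (PrimeSpectrum.isPrime _).ne_top).trans
          ((Ideal.eq_bot_or_top _).resolve_right y.isPrime.ne_top).symm⟩⟩
      haveI : Surjective ψ := inferInstance
      obtain ⟨p, hp⟩ := ψ.surjective (cC.base z)
      obtain ⟨r, -, -⟩ := Scheme.Pullback.exists_preimage_pullback (f := cC) (g := ψ) z p hp.symm
      obtain ⟨i, -, -⟩ := (sigmaOpenCover fun _ : ι => pullback fX γ).exists_eq (e.hom.base r)
      exact ⟨i⟩
    obtain ⟨j, hj⟩ := exists_residueField_hom ζ s (by rw [hζ, hs'])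
    letI : Algebra (S.residueField s) L := j.hom.toAlgebra
    let jΩ : Ω →ₐ[S.residueField s] L := IsAlgClosed.lift
    let m : pullback f ζ ⟶ pullback fX γ :=
      pullback.lift
        (pullback.lift (pullback.fst f ζ) (pullback.snd f ζ ≫ Spec.map j)
          (by rw [Category.assoc, hj, pullback.condition]))
        (pullback.snd f ζ ≫ Spec.map (CommRingCat.ofHom jΩ.toRingHom)) (by
          rw [pullback.lift_snd, Category.assoc, ← Spec.map_comp]
          congr 2
          ext x
          exact (jΩ.commutes x).symm)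
    let τ : pullback fX γ ⟶ pullback cC ψ := Sigma.ι (fun _ : ι => pullback fX γ) i ≫ e.inv
    have hτ : τ ≫ pullback.snd cC ψ = 𝟙 _ := (Category.assoc _ _ _).trans (he i)
    let σC : pullback f ζ ⟶ C := m ≫ τ ≫ pullback.fst cC ψ
    have hσC : σC ≫ cC = m ≫ ψ := by
      simp only [σC, Category.assoc, pullback.condition, reassoc_of% hτ]
    refine ⟨σC ≫ C.ι ≫ pullback.fst h κ, ?_, fun p => (hC (σC.base p).1).1 (σC.base p).2⟩
    rw [Category.assoc, ← hcC, ← Category.assoc, hσC, Category.assoc, pullback.lift_fst_assoc,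
      pullback.lift_fst]

end Groth.Agent.S5131
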