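import Groth.Statements.S5133
import Groth.Agent.DescentBase.ClosureRange
import Mathlib.AlgebraicGeometry.Morphisms.UniversallyOpen

set_option autoImplicit false
open CategoryTheory CategoryTheory.Limits AlgebraicGeometry
universe u
open SGA1

namespace Groth.Agent.S5133

/-- For a quasi-compact morphism f : X ⟶ Y and a flat surjective base change g : Y' ⟶ Y, with no
quasi-compactness asked of g, if the base change of f along g is a homeomorphism onto its image then
f is a homeomorphism onto its image. -/
theorem result {X Y Y' : Scheme.{u}} (f : X ⟶ Y)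
    (g : Y' ⟶ Y) [QuasiCompact f] [Flat g] [Surjective g]
    (h : Topology.IsEmbedding (pullback.snd f g).base) : Topology.IsEmbedding f.base := by
  have hinj : Function.Injective f.base := by
    intro x₁ x₂ hx
    obtain ⟨y', hy'⟩ := g.surjective (f.base x₁)
    obtain ⟨z₁, h11, h12⟩ := Scheme.Pullback.exists_preimage_pullback (f := f) (g := g) x₁ y' hy'.symm
    obtain ⟨z₂, h21, h22⟩ :=
      Scheme.Pullback.exists_preimage_pullback (f := f) (g := g) x₂ y' (hx.symm.trans hy'.symm)
    rw [← h11, ← h21, h.injective (h12.trans h22.symm)]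
  refine ⟨(Topology.isInducing_iff _).2 (TopologicalSpace.ext_iff_isClosed.2 fun Z => ?_), hinj⟩
  refine ⟨fun hZ => isClosed_induced_iff.2 ⟨closure (f.base '' Z), isClosed_closure, ?_⟩, fun hZ => ?_⟩
  swap
  · obtain ⟨t, ht, rfl⟩ := isClosed_induced_iff.1 hZ
    exact ht.preimage f.continuous
  refine Set.Subset.antisymm (fun x hx => ?_) (fun x hx => subset_closure ⟨x, hx, rfl⟩)
  let i := (Scheme.IdealSheafData.vanishingIdeal ⟨Z, hZ⟩).subschemeι
  have hi : Set.range i.base = Z := by
    rw [Scheme.IdealSheafData.range_subschemeι, Scheme.IdealSheafData.coe_support_vanishingIdeal]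
    rfl
  have hr : Set.range (i ≫ f).base = f.base '' Z := by
    exact Eq.trans (Set.range_comp f.base i.base) (congrArg (f.base '' ·) hi)
  obtain ⟨z, hz⟩ := Groth.DescentBase.exists_specializes_of_mem_closure_range (i ≫ f) (hr ▸ hx)
  obtain ⟨y', hy'⟩ := g.surjective (f.base x)
  rw [← hy'] at hz
  obtain ⟨y'', hspec, hy''⟩ := Flat.generalizingMap g hz
  obtain ⟨a, ha1, ha2⟩ :=
    Scheme.Pullback.exists_preimage_pullback (f := f) (g := g) (i.base z) y'' hy''.symm
  obtain ⟨b, hb1, hb2⟩ := Scheme.Pullback.exists_preimage_pullback (f := f) (g := g) x y' hy'.symm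
  have hab : a ⤳ b := h.isInducing.specializes_iff.1 (by rw [ha2, hb2]; exact hspec)
  have := hab.map (pullback.fst f g).continuous
  rw [ha1, hb1] at this
  exact this.mem_closed hZ (hi.subset ⟨z, rfl⟩)

end Groth.Agent.S5133
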