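import Groth.Statements.S5135
import Mathlib.RingTheory.Flat.Basic
import Mathlib.LinearAlgebra.TensorProduct.RightExactness

set_option autoImplicit false
universe u
open scoped TensorProduct
open SGA1

namespace Groth.Agent.S5135

/-- The affine case, in submodule form (descent of submodules, equivalently of quotient modules): for A
⟶ A' faithfully flat, M an A-module and N' an A'-submodule of A' ⊗ M whose two extensions to (A' ⊗
A') ⊗ M, along a ↦ a ⊗ 1 and a ↦ 1 ⊗ a, generate the same submodule, N' is the base change of the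
submodule of M formed by the elements m with 1 ⊗ m in N'. -/
theorem result (A A' : Type u) [CommRing A] [CommRing A'] [Algebra A A']
    [Module.FaithfullyFlat A A'] (M : Type u) [AddCommGroup M] [Module A M] (N' : Submodule A' (A' ⊗[A] M))
    (h : Submodule.span (A' ⊗[A] A')
          ((N'.restrictScalars A).map
            ((Algebra.TensorProduct.includeLeft : A' →ₐ[A] A' ⊗[A] A').toLinearMap.rTensor M) : Set ((A' ⊗[A] A') ⊗[A] M)) =
        Submodule.span (A' ⊗[A] A')
          ((N'.restrictScalars A).map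
            ((Algebra.TensorProduct.includeRight : A' →ₐ[A] A' ⊗[A] A').toLinearMap.rTensor M) : Set ((A' ⊗[A] A') ⊗[A] M))) :
    ((N'.restrictScalars A).comap (TensorProduct.mk A A' M 1)).baseChange A' = N' := by
  set N := (N'.restrictScalars A).comap (TensorProduct.mk A A' M 1) with hN
  refine le_antisymm ?_ fun n hn => ?_
  · rw [Submodule.baseChange_eq_span, Submodule.span_le]
    rintro _ ⟨m, hm, rfl⟩
    exact hm
  let π : (A' ⊗[A] M) →ₗ[A'] (A' ⊗[A] M) ⧸ N' := N'.mkQ
  let Φ : (A' ⊗[A] A') ⊗[A] M →ₗ[A] A' ⊗[A] ((A' ⊗[A] M) ⧸ N') :=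
    (π.restrictScalars A).lTensor A' ∘ₗ (TensorProduct.assoc A A' A' M).toLinearMap
  have hΦ : ∀ a b a' b' m, Φ ((a ⊗ₜ b : A' ⊗[A] A') • ((a' ⊗ₜ b') ⊗ₜ m)) =
      (a * a') ⊗ₜ π ((b * b') ⊗ₜ m) := by
    intro a b a' b' m
    simp [Φ, TensorProduct.smul_tmul', Algebra.TensorProduct.tmul_mul_tmul]
  have hsmul : ∀ (r : A' ⊗[A] A') x, Φ x = 0 → Φ (r • x) = 0 := by
    intro r
    induction r using TensorProduct.induction_on with
    | zero => intro x _; simp
    | tmul a b =>
      have key : Φ ∘ₗ ((DistribSMul.toLinearMap A ((A' ⊗[A] A') ⊗[A] M) (a ⊗ₜ b : A' ⊗[A] A'))) =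
          (TensorProduct.map (LinearMap.mulLeft A a)
            (DistribSMul.toLinearMap A ((A' ⊗[A] M) ⧸ N') b)) ∘ₗ Φ := by
        refine TensorProduct.ext_threefold fun a' b' m => ?_
        refine (hΦ a b a' b' m).trans ?_
        simp [Φ, ← LinearMap.map_smul, TensorProduct.smul_tmul']
      intro x hx
      have := LinearMap.congr_fun key x
      simp only [LinearMap.comp_apply, hx, map_zero] at this
      exact this
    | add r s hr hs => intro x hx; rw [add_smul, map_add, hr x hx, hs x hx, add_zero]
  have hgen : ∀ n' ∈ N', Φ ((Algebra.TensorProduct.includeRight : A' →ₐ[A] A' ⊗[A] A').toLinearMap.rTensor M n') = 0 := by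
    intro n' hn'
    have e : ∀ z : A' ⊗[A] M,
        Φ ((Algebra.TensorProduct.includeRight : A' →ₐ[A] A' ⊗[A] A').toLinearMap.rTensor M z) =
          (1 : A') ⊗ₜ π z := by
      intro z
      induction z using TensorProduct.induction_on with
      | zero => simp
      | tmul a m => simp [Φ]
      | add x y hx hy => simp only [map_add, hx, hy, TensorProduct.tmul_add]
    rw [e, show π n' = 0 from (Submodule.Quotient.mk_eq_zero N').2 hn', TensorProduct.tmul_zero]
  have hle : ∀ x ∈ Submodule.span (A' ⊗[A] A')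
      ((N'.restrictScalars A).map
        ((Algebra.TensorProduct.includeRight : A' →ₐ[A] A' ⊗[A] A').toLinearMap.rTensor M) : Set ((A' ⊗[A] A') ⊗[A] M)),
      Φ x = 0 := by
    intro x hx
    induction hx using Submodule.span_induction with
    | mem x hx => obtain ⟨n', hn', rfl⟩ := hx; exact hgen n' hn'
    | zero => simp
    | add x y _ _ hx hy => rw [map_add, hx, hy, add_zero]
    | smul r x _ hx => exact hsmul r x hx
  have h0 : (Algebra.TensorProduct.includeLeft : A' →ₐ[A] A' ⊗[A] A').toLinearMap.rTensor M n ∈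
      Submodule.span (A' ⊗[A] A') ((N'.restrictScalars A).map
        ((Algebra.TensorProduct.includeLeft : A' →ₐ[A] A' ⊗[A] A').toLinearMap.rTensor M) : Set ((A' ⊗[A] A') ⊗[A] M)) :=
    Submodule.subset_span ⟨n, hn, rfl⟩
  rw [h] at h0
  have h1 := hle _ h0
  have e2 : ∀ z : A' ⊗[A] M,
      Φ ((Algebra.TensorProduct.includeLeft : A' →ₐ[A] A' ⊗[A] A').toLinearMap.rTensor M z) =
        ((π.restrictScalars A) ∘ₗ TensorProduct.mk A A' M 1).lTensor A' z := by
    intro z
    induction z using TensorProduct.induction_on with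
    | zero => simp
    | tmul a m => simp [Φ]
    | add x y hx hy => simp only [map_add, hx, hy]
  rw [e2] at h1
  have hex : Function.Exact N.subtype ((π.restrictScalars A) ∘ₗ TensorProduct.mk A A' M 1) := by
    intro m
    simp [π, hN, Submodule.Quotient.mk_eq_zero]
  obtain ⟨w, rfl⟩ := (Module.Flat.lTensor_exact A' hex n).1 h1
  clear h1 hn h0
  induction w using TensorProduct.induction_on with
  | zero => simp
  | tmul a m =>
    rw [Submodule.baseChange_eq_span, show N.subtype.lTensor A' (a ⊗ₜ[A] m) = a • ((1 : A') ⊗ₜ[A] (m : M)) by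
      simp [TensorProduct.smul_tmul']]
    exact Submodule.smul_mem _ _ (Submodule.subset_span ⟨m, m.2, rfl⟩)
  | add x y hx hy => rw [map_add]; exact add_mem hx hy

end Groth.Agent.S5135
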