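import Groth.Statements.S5136
import Groth.Agent.MiscGeom97.ClosedDescent

set_option backward.isDefEq.respectTransparency false

set_option autoImplicit false
open CategoryTheory CategoryTheory.Limits AlgebraicGeometry
universe u
open SGA1

namespace Groth.Agent.S5136

/-- The existence half of the exactness of H(S) ⟶ H(S') ⇉ H(S'') for closed subschemes: for g : S' ⟶ S
flat, surjective and quasi-compact, a quasi-coherent ideal sheaf on S' whose pullbacks along the two
projections of S' ×_S S' agree is the pullback of a quasi-coherent ideal sheaf on S. (Injectivity of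
the pullback of ideal sheaves along g is the other half.) -/
theorem result {S S' : Scheme.{u}} (g : S' ⟶ S) [Flat g] [Surjective g]
    [QuasiCompact g] (J' : S'.IdealSheafData)
    (h : J'.comap (pullback.fst g g) = J'.comap (pullback.snd g g)) :
    ∃ J : S.IdealSheafData, J.comap g = J' := by
  obtain ⟨Z, j, q, hj, sq⟩ := Groth.Pi1Desc.exists_closed_descent g J'.subschemeι
    (fun T v x e => by
      let w : T ⟶ pullback g g := pullback.lift (v ≫ J'.subschemeι) x (by simpa using e)
      let l : T ⟶ (J'.comap (pullback.fst g g)).subscheme :=
        pullback.lift w v (pullback.lift_fst _ _ _) ≫ (J'.comapIso (pullback.fst g g)).inv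
      have hl : l ≫ (J'.comap (pullback.fst g g)).subschemeι = w := by
        simp only [l, Category.assoc, Scheme.IdealSheafData.comapIso_inv_subschemeι, pullback.lift_fst]
      refine ⟨l ≫ Scheme.IdealSheafData.inclusion h.ge ≫ (J'.comapIso (pullback.snd g g)).hom ≫
        pullback.snd _ _, ?_⟩
      simp only [Category.assoc, ← pullback.condition, Scheme.IdealSheafData.comapIso_hom_fst_assoc,
        Scheme.IdealSheafData.inclusion_subschemeι_assoc, reassoc_of% hl]
      exact pullback.lift_snd _ _ _)
  refine ⟨j.ker, ?_⟩
  rw [← Scheme.IdealSheafData.ker_fst_of_isClosedImmersion, ← sq.flip.isoPullback_inv_fst,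
    Scheme.Hom.ker_comp_of_isIso, Scheme.IdealSheafData.ker_subschemeι]

end Groth.Agent.S5136
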