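import Groth.Statements.S5138
import Groth.Agent.Purity.FlatUnramEss
import Groth.Agent.Variety2.EtaleLocus
import Groth.Agent.EtaleAlgebra.WeaklyEtale
-- import your own Groth.Agent.* helpers here

set_option autoImplicit false
open CategoryTheory AlgebraicGeometry
universe u
open SGA1
set_option backward.isDefEq.respectTransparency false

namespace Groth.Agent.S5138
open CategoryTheory AlgebraicGeometry

theorem stalk_props {X Y : Scheme.{u}} (f : X ⟶ Y) (x : X) (hx : x ∈ Pi1X.etaleLocus f) :
    (f.stalkMap x).hom.FormallyEtale ∧ (f.stalkMap x).hom.Flat := by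
  obtain ⟨U, hU, hxU⟩ := TopologicalSpace.Opens.mem_sSup.mp hx
  change X.Opens at U
  haveI : Etale (U.ι ≫ f) := hU
  let z : U.toScheme := ⟨x, hxU⟩
  haveI : IsIso (U.ι.stalkMap z) :=
    (IsOpenImmersion.iff_isIso_stalkMap.mp (inferInstance : IsOpenImmersion U.ι)).2 _
  have h2 : ((U.ι ≫ f).stalkMap z).hom.FormallyEtale := by
    let := ((U.ι ≫ f).stalkMap z).hom.toAlgebra
    have hsm : ((U.ι ≫ f).stalkMap z).hom.FormallySmooth := by
      rw [← Scheme.Hom.mem_smoothLocus, Scheme.Hom.smoothLocus_eq_top]; trivial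
    have hun := FormallyUnramified.stalkMap (U.ι ≫ f) z
    exact Algebra.FormallyEtale.iff_formallyUnramified_and_formallySmooth.2 ⟨hun, hsm⟩
  have h3 := Flat.stalkMap (U.ι ≫ f) z
  rw [Scheme.Hom.stalkMap_comp] at h2 h3
  exact ⟨(Groth.Variety2.formallyEtale_respectsIso.cancel_right_isIso (f.stalkMap x) (U.ι.stalkMap z)).1 h2,
    (RingHom.Flat.respectsIso.cancel_right_isIso (f.stalkMap x) (U.ι.stalkMap z)).1 h3⟩

theorem descend {A B C : Type u} [CommRing A] [CommRing B] [CommRing C] [IsLocalRing B] [IsLocalRing C]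
    (p : A →+* B) (q : B →+* C) [IsLocalHom q] (hp : p.EssFiniteType) (hqe : q.FormallyEtale) (hqf : q.Flat)
    (hc : (q.comp p).FormallyEtale) (hcf : (q.comp p).Flat) : p.FormallyEtale := by
  algebraize [p, q, q.comp p]
  haveI : Algebra.FormallyEtale B C := hqe
  haveI : Algebra.FormallyEtale A C := hc
  haveI : Algebra.EssFiniteType A B := hp
  haveI : IsLocalHom (algebraMap B C) := ‹IsLocalHom q›
  haveI : Module.FaithfullyFlat B C := Module.FaithfullyFlat.of_flat_of_isLocalHom
  haveI : Module.Flat A B := Groth.EtaleAlgebra.flat_of_faithfullyFlat_target A B C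
  haveI : Algebra.FormallyUnramified A B := by
    haveI : Subsingleton (Ω[C⁄A]) := (Algebra.formallyUnramified_iff A C).mp inferInstance
    haveI : Subsingleton (TensorProduct B C (Ω[B⁄A])) := (KaehlerDifferential.tensorKaehlerEquivOfFormallyEtale A B C).toEquiv.subsingleton
    exact ⟨Module.FaithfullyFlat.lTensor_reflects_triviality B C _⟩
  exact Groth.Purity.formallyEtale_of_flat_of_formallyUnramified_ess


/-- For X ⟶ X' ⟶ Y locally of finite type over a locally Noetherian Y and a point x of X, if X ⟶ X' and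
the composite X ⟶ Y are both etale near x then X' ⟶ Y is etale near the image of x; 'etale near a
point' is membership in the etale locus, the union of the opens on which the morphism is etale. (The
published statement takes the morphisms of finite type; quasi-compactness plays no role in this
assertion about single points, so only local finiteness is assumed.) -/
theorem result {X X' Y : Scheme.{u}} (f : X ⟶ X') (g : X' ⟶ Y)
    [IsLocallyNoetherian Y] [LocallyOfFiniteType f] [LocallyOfFiniteType g] (x : X)
    (hf : x ∈ Pi1X.etaleLocus f) (hfg : x ∈ Pi1X.etaleLocus (f ≫ g)) : f.base x ∈ Pi1X.etaleLocus g := by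
  haveI := Groth.Variety2.locallyOfFinitePresentation_of_noetherian g
  obtain ⟨hf1, hf2⟩ := stalk_props f x hf
  obtain ⟨hc1, hc2⟩ := stalk_props (f ≫ g) x hfg
  rw [Scheme.Hom.stalkMap_comp] at hc1 hc2
  haveI : IsLocalHom (f.stalkMap x).hom := f.toLRSHom.prop x
  have h : (g.stalkMap (f x)).hom.FormallyEtale :=
    descend _ (f.stalkMap x).hom (LocallyOfFiniteType.stalkMap g _) hf1 hf2 hc1 hc2
  obtain ⟨U, hxU, hU⟩ := Groth.Purity.exists_etale_nhd_of_stalk g (f x) h
  exact TopologicalSpace.Opens.mem_sSup.mpr ⟨U, hU, hxU⟩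

end Groth.Agent.S5138
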