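import Groth.Statements.S5143
import Groth.Agent.CategoryFibred.Fp

set_option autoImplicit false
open CategoryTheory
universe u v u₂ v₂
open FibCat

namespace Groth.Agent.S5143
set_option backward.isDefEq.respectTransparency false
set_option backward.isDefEq.respectTransparency.types false


/-- The fibre product over C of two fibred (resp. prefibred) categories over C is fibred (resp.
prefibred); fibred and prefibred are Mathlib's notions for the structure functors, and the fibre
product is the 2-fibre product over C of the two structure functors. -/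
theorem result {C : Type u} [Category.{v} C] {𝒳 𝒴 : BasedCategory.{v₂, u₂} C} :
    (𝒳.p.IsFibered → 𝒴.p.IsFibered → (FibCat.fp (FibCat.toSelf 𝒳) (FibCat.toSelf 𝒴)).p.IsFibered) ∧
      (𝒳.p.IsPreFibered → 𝒴.p.IsPreFibered → (FibCat.fp (FibCat.toSelf 𝒳) (FibCat.toSelf 𝒴)).p.IsPreFibered) := by
  constructor
  · intro _ _
    exact Groth.CatFib.isFibered_fp
      (fun f _ _ φ h => Groth.CatFib.self_cartesian f _)
      (fun f _ _ φ h => Groth.CatFib.self_cartesian f _)
  · intro _ _
    refine ⟨fun {y} {R} f => ?_⟩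
    obtain ⟨a, α, hα⟩ := IsPreFibered.exists_isCartesian 𝒳.p (rfl : 𝒳.p.obj y.obj.fst = _) f
    obtain ⟨b, β, hβ⟩ := IsPreFibered.exists_isCartesian 𝒴.p (Groth.CatFib.fp_obj_snd y) f
    have := Groth.CatFib.self_cartesian f ((FibCat.toSelf 𝒳).toFunctor.map α)
    have := Groth.CatFib.self_cartesian f ((FibCat.toSelf 𝒴).toFunctor.map β)
    obtain ⟨x, φ, rfl, rfl, e1, e2⟩ := Groth.CatFib.exists_fp_lift f y α β
    simp only [eqToHom_refl, Category.id_comp] at e1 e2
    have : 𝒳.p.IsCartesian f φ.hom.fst := by rw [e1]; exact hα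
    have : 𝒴.p.IsCartesian f φ.hom.snd := by rw [e2]; exact hβ
    have := (Groth.CatFib.fp_isHomLift_iff f φ).2 inferInstance
    exact ⟨x, φ, (Groth.CatFib.isCartesian_fp_self_iff f φ).2 ⟨inferInstance, inferInstance⟩⟩

end Groth.Agent.S5143
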