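import Groth.Statements.S5144


set_option autoImplicit false
open CategoryTheory
universe u v u₂ v₂
open FibCat

namespace Groth.Agent.S5144
lemma liftOp {C : Type u} [Category.{v} C] {𝒳 : Type u₂} [Category.{v₂} 𝒳] (p : 𝒳 ⥤ C) {R S : C}
    {a b : 𝒳} (f : R ⟶ S) (φ : a ⟶ b) (h : p.IsHomLift f φ) : p.op.IsHomLift f.op φ.op := by
  subst_hom_lift p f φ
  exact IsHomLift.map p.op φ.op

lemma liftUnop {C : Type u} [Category.{v} C] {𝒳 : Type u₂} [Category.{v₂} 𝒳] (p : 𝒳 ⥤ C) {R S : Cᵒᵖ}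
    {a b : 𝒳ᵒᵖ} (f : R ⟶ S) (φ : a ⟶ b) (h : p.op.IsHomLift f φ) : p.IsHomLift f.unop φ.unop := by
  subst_hom_lift p.op f φ
  exact IsHomLift.map p φ.unop

open Opposite in
lemma op_fibred {C : Type u} [Category.{v} C] {𝒳 : Type u₂} [Category.{v₂} 𝒳] (p : 𝒳 ⥤ C)
    [p.IsFibered] [p.op.IsPreFibered] : p.op.IsFibered := by
  refine { comp := fun {R S T} f g {a b c} φ ψ hφ hψ => ?_ }
  refine { toIsHomLift := inferInstance, universal_property := fun {a'} τ hτ => ?_ }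
  have hτ' : p.IsHomLift (g.unop ≫ f.unop) τ.unop := liftUnop p _ τ hτ
  obtain ⟨d, γ, hγ⟩ := IsPreFibered.exists_isCartesian p (IsHomLift.codomain_eq p (g.unop ≫ f.unop) τ.unop) f.unop
  obtain ⟨τ', ⟨hτ'l, hτ'c⟩, hτ'u⟩ := Functor.IsStronglyCartesian.universal_property p f.unop γ g.unop
    (g.unop ≫ f.unop) rfl τ.unop
  have : p.op.IsHomLift g τ'.op := liftOp p g.unop τ' hτ'l
  obtain ⟨σ, ⟨hσl, hσc⟩, hσu⟩ := hψ.universal_property τ'.op
  have hσ' : p.IsHomLift (𝟙 S.unop) σ.unop := liftUnop p (𝟙 S) σ hσl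
  have : p.IsHomLift f.unop (σ.unop ≫ γ) := inferInstance
  have : p.op.IsHomLift f (σ.unop ≫ γ).op := liftOp p f.unop _ this
  obtain ⟨ρ, ⟨hρl, hρc⟩, hρu⟩ := hφ.universal_property (σ.unop ≫ γ).op
  refine ⟨ρ, ⟨hρl, ?_⟩, ?_⟩
  · rw [← Category.assoc, hρc, op_comp, Category.assoc, Quiver.Hom.op_unop, hσc]
    exact (congrArg Quiver.Hom.op hτ'c : _)
  · rintro ρ' ⟨hρ'l, hρ'c⟩
    refine hρu ρ' ⟨hρ'l, ?_⟩
    have h1 : p.op.IsHomLift f (ρ' ≫ φ) := inferInstance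
    have h1' : p.IsHomLift f.unop (ρ' ≫ φ).unop := liftUnop p f _ h1
    obtain ⟨θ, ⟨hθl, hθc⟩, -⟩ := hγ.universal_property (ρ' ≫ φ).unop
    have hθ : p.op.IsHomLift (𝟙 S) θ.op := liftOp p (𝟙 S.unop) θ hθl
    have : p.IsHomLift g.unop ψ.unop := liftUnop p g ψ inferInstance
    have e : ψ.unop ≫ θ = τ' := hτ'u _ ⟨inferInstance, by
      rw [Category.assoc, hθc, ← unop_comp, Category.assoc, hρ'c]⟩
    have e' : θ.op = σ := hσu θ.op ⟨hθ, by rw [← e]; rfl⟩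
    apply Quiver.Hom.unop_inj
    change (ρ' ≫ φ).unop = σ.unop ≫ γ
    rw [← hθc, ← e']
    rfl

open Opposite in
lemma fibred_of_op {C : Type u} [Category.{v} C] {𝒳 : Type u₂} [Category.{v₂} 𝒳] (p : 𝒳 ⥤ C)
    [p.IsPreFibered] [p.op.IsFibered] : p.IsFibered := by
  refine { comp := fun {R S T} f g {a b c} φ ψ hφ hψ => ?_ }
  refine { toIsHomLift := inferInstance, universal_property := fun {d} τ hτ => ?_ }
  have hτ' : p.op.IsHomLift (g.op ≫ f.op) τ.op := liftOp p _ τ hτ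
  obtain ⟨D, γ, hγ⟩ := IsPreFibered.exists_isCartesian p.op (IsHomLift.codomain_eq p.op (g.op ≫ f.op) τ.op) f.op
  obtain ⟨τ', ⟨hτ'l, hτ'c⟩, hτ'u⟩ := Functor.IsStronglyCartesian.universal_property p.op f.op γ g.op
    (g.op ≫ f.op) rfl τ.op
  have : p.IsHomLift g τ'.unop := liftUnop p g.op τ' hτ'l
  obtain ⟨σ, ⟨hσl, hσc⟩, hσu⟩ := hψ.universal_property τ'.unop
  have hσ' : p.op.IsHomLift (𝟙 (op S)) σ.op := liftOp p (𝟙 S) σ hσl
  have : p.op.IsHomLift f.op (σ.op ≫ γ) := inferInstance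
  have : p.IsHomLift f (σ.op ≫ γ).unop := liftUnop p f.op _ this
  obtain ⟨ρ, ⟨hρl, hρc⟩, hρu⟩ := hφ.universal_property (σ.op ≫ γ).unop
  refine ⟨ρ, ⟨hρl, ?_⟩, ?_⟩
  · rw [← Category.assoc, hρc, unop_comp, Category.assoc, Quiver.Hom.unop_op, hσc]
    exact (congrArg Quiver.Hom.unop hτ'c : _)
  · rintro ρ' ⟨hρ'l, hρ'c⟩
    refine hρu ρ' ⟨hρ'l, ?_⟩
    have h1 : p.IsHomLift f (ρ' ≫ φ) := inferInstance
    have h1' : p.op.IsHomLift f.op (ρ' ≫ φ).op := liftOp p f _ h1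
    obtain ⟨θ, ⟨hθl, hθc⟩, -⟩ := hγ.universal_property (ρ' ≫ φ).op
    have hθ : p.IsHomLift (𝟙 S) θ.unop := liftUnop p (𝟙 (op S)) θ hθl
    have : p.op.IsHomLift g.op ψ.op := liftOp p g ψ inferInstance
    have e : ψ.op ≫ θ = τ' := hτ'u _ ⟨inferInstance, by
      rw [Category.assoc, hθc, ← op_comp, Category.assoc, hρ'c]⟩
    have e' : θ.unop = σ := hσu θ.unop ⟨hθ, by rw [← e]; rfl⟩
    apply Quiver.Hom.op_inj
    change (ρ' ≫ φ).op = σ.op ≫ γ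
    rw [← hθc, ← e']
    rfl


/-- If p : 𝒳 ⥤ C is both prefibred and co-prefibred (its opposite functor is prefibred), then p is
fibred if and only if it is co-fibred (its opposite functor is fibred). Prefibred and fibred are
Mathlib's notions, which are the source's. -/
theorem result {C : Type u} [Category.{v} C] {𝒳 : Type u₂} [Category.{v₂} 𝒳]
    (p : 𝒳 ⥤ C) [p.IsPreFibered] [p.op.IsPreFibered] : p.IsFibered ↔ p.op.IsFibered := by
  exact ⟨fun _ => op_fibred p, fun _ => fibred_of_op p⟩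

end Groth.Agent.S5144
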