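import Groth.Statements.S5148
import Groth.Agent.Pi1Galois.Sequence

set_option autoImplicit false
universe u v w
open CategoryTheory PreGaloisCategory
open Pi1

namespace Groth.Agent.S5148

open CategoryTheory.Limits in
/-- For an exact functor H : C ⥤ C' of Galois categories with compatible fibre functors, the induced
homomorphism u of fundamental groups and a connected object X' of C' with a point a' of its fibre
and stabilizer U': the kernel of u lies in U' if and only if some connected subobject of some H(X)
maps to X'. -/
theorem result {C C' : Type u} [Category.{v} C] [Category.{v} C']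
    [GaloisCategory C] [GaloisCategory C'] (H : C ⥤ C') [PreservesFiniteLimits H] [PreservesFiniteColimits H]
    (F' : C' ⥤ FintypeCat.{w}) [FiberFunctor F'] [FiberFunctor (H ⋙ F')] (X' : C') [IsConnected X']
    (a' : F'.obj X') :
    (Pi1X.autWhisker H F').ker ≤ MulAction.stabilizer (Aut F') a' ↔
      ∃ (X : C) (Y' : C') (i : Y' ⟶ H.obj X) (q : Y' ⟶ X'), Mono i ∧ IsConnected Y' := by
  exact Groth.Pi1Galois.ker_le_stabilizer_iff H F' X' a'

end Groth.Agent.S5148
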