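import Groth.Statements.S5151
import Groth.Agent.LocCohBase.Depth

set_option autoImplicit false
universe u
open LocCoh

namespace Groth.Agent.S5151

/-- Let A be a Noetherian ring, I an ideal and M a finite A-module with IM ≠ M. Every weakly M-regular
sequence of elements of I can be extended to a maximal one (one after which no element of I is
M-regular on the quotient), and any maximal weakly M-regular sequence of elements of I has length
equal to the I-depth of M. (The published statement does not assume IM ≠ M; without it the first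
assertion fails: over ℤ with I = (2) and M = ℤ/3 the element 2 is M-regular with M/2M = 0, after
which every element of I is regular on the zero module, so no weakly M-regular sequence of elements
of I is maximal, while the I-depth is infinite. With IM ≠ M every weakly M-regular sequence in I is
M-regular and the I-depth is finite.) -/
theorem result (A : Type u) [CommRing A] [IsNoetherianRing A] (I : Ideal A) (M : Type u) [AddCommGroup M] [Module A M] [Module.Finite A M] (hIM : I • (⊤ : Submodule A M) ≠ ⊤) : (∀ rs : List A, RingTheory.Sequence.IsWeaklyRegular M rs → (∀ r ∈ rs, r ∈ I) → ∃ rs' : List A, rs <+: rs' ∧ RingTheory.Sequence.IsWeaklyRegular M rs' ∧ (∀ r ∈ rs', r ∈ I) ∧ ∀ r ∈ I, ¬ RingTheory.Sequence.IsWeaklyRegular M (rs' ++ [r])) ∧ (∀ rs : List A, RingTheory.Sequence.IsWeaklyRegular M rs → (∀ r ∈ rs, r ∈ I) → (∀ r ∈ I, ¬ RingTheory.Sequence.IsWeaklyRegular M (rs ++ [r])) → (rs.length : ℕ∞) = LocCoh.idealDepth I M) := by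
  have hmax : ∀ rs : List A, RingTheory.Sequence.IsWeaklyRegular M rs → (∀ r ∈ rs, r ∈ I) →
      (∀ r ∈ I, ¬ RingTheory.Sequence.IsWeaklyRegular M (rs ++ [r])) →
      (rs.length : ℕ∞) = LocCoh.idealDepth I M := by
    intro rs
    induction rs generalizing M with
    | nil =>
      intro _ _ hmax
      refine le_antisymm (by simp) (le_of_not_gt fun hlt => ?_)
      have h1 : ((1 : ℕ) : ℕ∞) ≤ LocCoh.idealDepth I M := by
        simpa using Order.add_one_le_of_lt hlt
      obtain ⟨rs, hlen, hrs, hmem⟩ := (Groth.LocCohBase.le_idealDepth_iff_exists I hIM 1).1 h1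
      obtain ⟨x, rfl⟩ := List.length_eq_one_iff.1 hlen
      exact hmax x (hmem x (by simp)) (by simpa using hrs)
    | cons a rs ih =>
      intro hw hmem hmax
      rw [RingTheory.Sequence.isWeaklyRegular_cons_iff] at hw
      simp only [List.mem_cons, forall_eq_or_imp] at hmem
      have hIM' : I • (⊤ : Submodule A (QuotSMulTop a M)) ≠ ⊤ :=
        Groth.LocCohBase.smul_top_quotSMulTop_ne_top hmem.1 hIM
      rw [← Groth.LocCohBase.idealDepth_quotSMulTop_add_one I M hIM hmem.1 hw.1,
        ← ih (QuotSMulTop a M) hIM' hw.2 hmem.2 fun r hr hr' =>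
          hmax r hr ((RingTheory.Sequence.isWeaklyRegular_cons_iff M a _).2 ⟨hw.1, hr'⟩)]
      simp
  refine ⟨fun rs hw hmem => ?_, hmax⟩
  by_contra hno
  push Not at hno
  obtain ⟨d, hd⟩ := ENat.ne_top_iff_exists.1 (Groth.LocCohBase.idealDepth_ne_top hIM)
  have key : ∀ k : ℕ, ∃ rs' : List A, rs <+: rs' ∧ RingTheory.Sequence.IsWeaklyRegular M rs' ∧
      (∀ r ∈ rs', r ∈ I) ∧ rs'.length = rs.length + k := by
    intro k
    induction k with
    | zero => exact ⟨rs, List.prefix_refl rs, hw, hmem, rfl⟩
    | succ k ih =>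
      obtain ⟨rs', h1, h2, h3, h4⟩ := ih
      obtain ⟨r, hr, hr'⟩ := hno rs' h1 h2 h3
      refine ⟨rs' ++ [r], h1.trans (List.prefix_append _ _), hr', ?_, by simp; omega⟩
      simpa [or_imp, forall_and, hr] using h3
  obtain ⟨rs', -, h2, h3, h4⟩ := key (d + 1)
  have := (Groth.LocCohBase.le_idealDepth_iff_exists I hIM rs'.length).2 ⟨rs', rfl, h2, h3⟩
  rw [← hd, Nat.cast_le] at this
  omega

end Groth.Agent.S5151
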