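import Groth.Statements.S5153
import Groth.Agent.LocCohBase.ConnectedAt
import Groth.Agent.LocCohBase.CM
import Groth.Agent.LocCohZBase.AffineDepth
import Groth.Agent.PropsBasic2.LocNoeth

set_option autoImplicit false
universe u
open AlgebraicGeometry
open LocCoh

namespace Groth.Agent.S5153


theorem depth_at {X : Scheme.{u}} {V : X.Opens} (hV : IsAffineOpen V) (y : PrimeSpectrum Γ(X, V)) :
    LocCoh.depth (Localization.AtPrime y.asIdeal) (Localization.AtPrime y.asIdeal) =
      LocCoh.depth (X.presheaf.stalk (hV.fromSpec y)) (X.presheaf.stalk (hV.fromSpec y)) := by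
  have hy : hV.fromSpec y ∈ V := by
    have h1 : hV.fromSpec y ∈ Set.range hV.fromSpec := ⟨y, rfl⟩
    rwa [hV.range_fromSpec] at h1
  let _ := TopCat.Presheaf.algebra_section_stalk X.presheaf ⟨hV.fromSpec y, hy⟩
  have : IsLocalization.AtPrime (X.presheaf.stalk (hV.fromSpec y)) y.asIdeal :=
    hV.isLocalization_stalk' y hy
  let e := (IsLocalization.algEquiv y.asIdeal.primeCompl (Localization.AtPrime y.asIdeal)
    (X.presheaf.stalk (hV.fromSpec y))).toRingEquiv
  exact Groth.LocCohZBase.depth_eq_of_semilinear e e.toAddEquiv (fun r x => map_mul e r x)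

theorem exists_generalization {X : Scheme.{u}} [IsLocallyNoetherian X] (U : X.Opens)
    (h : ∀ x : X, x ∉ (U : Set X) → (2 : ℕ∞) ≤ LocCoh.depth (X.presheaf.stalk x) (X.presheaf.stalk x))
    (x : X) : ∃ y : X, y ⤳ x ∧ y ∈ U := by
  obtain ⟨_, ⟨V, hV, rfl⟩, hxV, -⟩ :=
    X.isBasis_affineOpens.exists_subset_of_mem_open (Set.mem_univ x) isOpen_univ
  replace hV : IsAffineOpen V := hV
  have : IsNoetherianRing Γ(X, V) := IsLocallyNoetherian.component_noetherian ⟨V, hV⟩
  obtain ⟨y0, rfl⟩ : x ∈ Set.range hV.fromSpec := by rw [hV.range_fromSpec]; exact hxV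
  obtain ⟨q, hq, hqy⟩ := Ideal.exists_minimalPrimes_le (I := (⊥ : Ideal Γ(X, V))) (J := y0.asIdeal) bot_le
  have := hq.1.1
  let yq : PrimeSpectrum Γ(X, V) := ⟨q, hq.1.1⟩
  refine ⟨hV.fromSpec yq, ((PrimeSpectrum.le_iff_specializes yq y0).1 hqy).map
    hV.fromSpec.continuous, ?_⟩
  by_contra hU
  have h2 := h _ hU
  rw [← depth_at hV yq] at h2
  have h3 := Groth.LocCohBase.depth_le_supportDim (R := Localization.AtPrime q) (Localization.AtPrime q)
  have h4 : ringKrullDim (Localization.AtPrime q) = 0 := by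
    rw [IsLocalization.AtPrime.ringKrullDim_eq_height q (Localization.AtPrime q),
      Ideal.height_eq_zero_iff.2 hq]
    rfl
  rw [Module.supportDim_self_eq_ringKrullDim, h4] at h3
  have h5 : LocCoh.depth (Localization.AtPrime q) (Localization.AtPrime q) ≤ 0 := by exact_mod_cast h3
  exact absurd (h2.trans h5) (by norm_num)

/-- Two closed sets, each the closure of its trace on `U`, cannot meet only outside `U`. -/
theorem disjoint_of_closure {X : Scheme.{u}} [IsLocallyNoetherian X] (U : X.Opens)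
    (h : ∀ x : X, x ∉ (U : Set X) → (2 : ℕ∞) ≤ LocCoh.depth (X.presheaf.stalk x) (X.presheaf.stalk x))
    {Z₁ Z₂ : Set X} (hc₁ : IsClosed Z₁) (hc₂ : IsClosed Z₂) (hcov : Z₁ ∪ Z₂ = Set.univ)
    (hU : ∀ z ∈ U, z ∈ Z₁ → z ∈ Z₂ → False) (h₁ : Z₁ ⊆ closure (Z₁ ∩ (U : Set X)))
    (h₂ : Z₂ ⊆ closure (Z₂ ∩ (U : Set X))) : Disjoint Z₁ Z₂ := by
  rw [Set.disjoint_left]
  intro x hx₁ hx₂
  obtain ⟨_, ⟨V, hV, rfl⟩, hxV, -⟩ :=
    X.isBasis_affineOpens.exists_subset_of_mem_open (Set.mem_univ x) isOpen_univ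
  replace hV : IsAffineOpen V := hV
  have : IsNoetherianRing Γ(X, V) := IsLocallyNoetherian.component_noetherian ⟨V, hV⟩
  obtain ⟨y0, rfl⟩ : x ∈ Set.range hV.fromSpec := by rw [hV.range_fromSpec]; exact hxV
  let idl : Set X → Ideal Γ(X, V) := fun Z => PrimeSpectrum.vanishingIdeal (hV.fromSpec ⁻¹' Z)
  have hmem : ∀ {Z : Set X}, IsClosed Z → ∀ p : PrimeSpectrum Γ(X, V),
      idl Z ≤ p.asIdeal ↔ hV.fromSpec p ∈ Z := by
    intro Z hZ p
    have h1 : PrimeSpectrum.zeroLocus (idl Z : Set Γ(X, V)) = hV.fromSpec ⁻¹' Z := by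
      exact (PrimeSpectrum.zeroLocus_vanishingIdeal_eq_closure _).trans
        (hZ.preimage hV.fromSpec.continuous).closure_eq
    exact (Set.ext_iff.1 h1 p)
  obtain ⟨P, hP, hPy⟩ := Ideal.exists_minimalPrimes_le (I := idl Z₁ ⊔ idl Z₂) (J := y0.asIdeal)
    (sup_le ((hmem hc₁ y0).2 hx₁) ((hmem hc₂ y0).2 hx₂))
  have := hP.1.1
  let yP : PrimeSpectrum Γ(X, V) := ⟨P, hP.1.1⟩
  have hP₁ : idl Z₁ ≤ P := le_sup_left.trans hP.1.2
  have hP₂ : idl Z₂ ≤ P := le_sup_right.trans hP.1.2
  have hnU : hV.fromSpec yP ∉ (U : Set X) := fun hu =>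
    hU _ hu ((hmem hc₁ yP).1 hP₁) ((hmem hc₂ yP).1 hP₂)
  have below : ∀ Z : Set X, IsClosed Z → Z ⊆ closure (Z ∩ (U : Set X)) → idl Z ≤ P →
      ∃ p : Ideal Γ(X, V), p.IsPrime ∧ idl Z ≤ p ∧ p < P := by
    intro Z hZ hZU hZP
    obtain ⟨p, hp, hpP⟩ := Ideal.exists_minimalPrimes_le hZP
    refine ⟨p, hp.1.1, hp.1.2, lt_of_le_of_ne hpP fun he => ?_⟩
    subst he
    have hfin : ((idl Z).minimalPrimes \ {p}).Finite :=
      (Ideal.finite_minimalPrimes_of_isNoetherianRing _ _).sdiff
    let W : Set (PrimeSpectrum Γ(X, V)) :=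
      (⋃ q ∈ (idl Z).minimalPrimes \ {p}, PrimeSpectrum.zeroLocus (q : Set Γ(X, V)))ᶜ
    have hWo : IsOpen W := (hfin.isClosed_biUnion fun q _ => PrimeSpectrum.isClosed_zeroLocus _).isOpen_compl
    have hyW : yP ∈ W := by
      simp only [W, Set.mem_compl_iff, Set.mem_iUnion, not_exists]
      rintro q ⟨hq, hne⟩ hle
      exact hne (le_antisymm hle (hp.2 hq.1 hle))
    have hcl := hZU ((hmem hZ yP).1 hZP)
    obtain ⟨_, ⟨w, hwW, rfl⟩, hwZ, hwU⟩ := mem_closure_iff.1 hcl _
      (hV.fromSpec.isOpenEmbedding.isOpenMap W hWo) ⟨yP, hyW, rfl⟩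
    obtain ⟨q, hq, hqw⟩ := Ideal.exists_minimalPrimes_le ((hmem hZ w).2 hwZ)
    by_cases hqp : q = p
    · refine hnU ((((PrimeSpectrum.le_iff_specializes yP w).1 ?_).map
        hV.fromSpec.continuous).mem_open U.2 hwU)
      show p ≤ w.asIdeal
      rw [← hqp]; exact hqw
    · exact hwW (Set.mem_biUnion (show q ∈ (idl Z).minimalPrimes \ {p} from ⟨hq, hqp⟩) hqw)
  obtain ⟨p₁, hp₁, ha₁, hlt₁⟩ := below Z₁ hc₁ h₁ hP₁
  obtain ⟨p₂, hp₂, ha₂, hlt₂⟩ := below Z₂ hc₂ h₂ hP₂
  refine Groth.LocCohBase.false_of_split_at (P := P) ?_ ?_ hP hp₁ hp₂ ha₁ ha₂ hlt₁ hlt₂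
  · exact (h _ hnU).trans_eq (depth_at hV yP).symm
  · intro q hq
    have hmul : idl Z₁ * idl Z₂ ≤ q := by
      rcases (hcov.ge (Set.mem_univ (hV.fromSpec ⟨q, hq⟩))) with hh | hh
      · exact le_trans Ideal.mul_le_left ((hmem hc₁ ⟨q, hq⟩).2 hh)
      · exact le_trans Ideal.mul_le_right ((hmem hc₂ ⟨q, hq⟩).2 hh)
    exact hmul

/-- Let X be a locally Noetherian scheme and Y = X − U a closed subset such that depth O_{X,x} ≥ 2 for
every x ∈ Y. Then the inclusion U → X induces a bijection on sets of connected components. -/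
theorem result (X : Scheme.{u}) [IsLocallyNoetherian X] (U : X.Opens) (h : ∀ x : X, x ∉ (U : Set X) → (2 : ℕ∞) ≤ LocCoh.depth (X.presheaf.stalk x) (X.presheaf.stalk x)) : Function.Bijective (Continuous.connectedComponentsMap (continuous_subtype_val : Continuous (fun x : U => (x : X)))) := by
  have hsame : ∀ {y x : X}, y ⤳ x → connectedComponent x = connectedComponent y := by
    intro y x hyx
    exact (connectedComponent_eq (hyx.mem_closed isClosed_connectedComponent
      mem_connectedComponent)).symm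
  have hUn : ∀ a : (U : Set X), ∃ N ∈ nhds a, TopologicalSpace.NoetherianSpace N := by
    intro a
    obtain ⟨_, ⟨V, hV, rfl⟩, haV, -⟩ :=
      X.isBasis_affineOpens.exists_subset_of_mem_open (Set.mem_univ (a : X)) isOpen_univ
    have hn : TopologicalSpace.NoetherianSpace ↥((V : Set X) ∩ (U : Set X)) := by
      haveI : IsNoetherianRing Γ(X, V) := IsLocallyNoetherian.component_noetherian ⟨V, hV⟩
      haveI : TopologicalSpace.NoetherianSpace (V : Set X) :=
        (AlgebraicGeometry.noetherianSpace_of_isAffineOpen V hV :)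
      exact TopologicalSpace.NoetherianSpace.of_subset Set.inter_subset_left
    refine ⟨Subtype.val ⁻¹' ((V : Set X)), (V.2.preimage continuous_subtype_val).mem_nhds haV, ?_⟩
    let g : (Subtype.val ⁻¹' (V : Set X) : Set (U : Set X)) → ↥((V : Set X) ∩ (U : Set X)) :=
      fun z => ⟨z.1.1, z.2, z.1.2⟩
    have hg : Topology.IsInducing g := by
      refine Topology.IsInducing.of_comp (by fun_prop) continuous_subtype_val ?_
      show Topology.IsInducing ((Subtype.val : ↥(U : Set X) → X) ∘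
        (Subtype.val : (Subtype.val ⁻¹' (V : Set X) : Set (U : Set X)) → ↥(U : Set X)))
      exact Topology.IsInducing.subtypeVal.comp Topology.IsInducing.subtypeVal
    exact hg.noetherianSpace
  haveI : LocallyConnectedSpace U := Groth.PropsBasic2.locallyConnectedSpace hUn
  constructor
  · intro c₁ c₂
    obtain ⟨a, rfl⟩ := ConnectedComponents.surjective_coe c₁
    obtain ⟨b, rfl⟩ := ConnectedComponents.surjective_coe c₂
    simp only [Continuous.connectedComponentsMap_mk, ConnectedComponents.coe_eq_coe]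
    intro hab
    by_contra hne
    let W : Set U := connectedComponent a
    have hW : IsClopen W := ⟨isClosed_connectedComponent, isOpen_connectedComponent⟩
    have hb : b ∉ W := fun hb => hne (connectedComponent_eq hb)
    let Z₁ : Set X := closure (Subtype.val '' W)
    let Z₂ : Set X := closure (Subtype.val '' Wᶜ)
    have htr : ∀ (S : Set U), IsClosed S → ∀ z : U, (z : X) ∈ closure (Subtype.val '' S) → z ∈ S := by
      intro S hS z hz
      exact hS.closure_subset (closure_subtype.2 hz)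
    have hcl : ∀ S : Set U,
        closure (Subtype.val '' S) ⊆ closure (closure (Subtype.val '' S) ∩ (U : Set X)) := by
      intro S
      refine closure_mono ?_
      rintro _ ⟨z, hz, rfl⟩
      exact ⟨subset_closure ⟨z, hz, rfl⟩, z.2⟩
    have hcov : Z₁ ∪ Z₂ = Set.univ := by
      refine Set.eq_univ_of_forall fun x => ?_
      obtain ⟨y, hyx, hy⟩ := exists_generalization U h x
      show x ∈ closure (Subtype.val '' W) ∪ closure (Subtype.val '' Wᶜ)
      rw [← closure_union]
      refine hyx.mem_closed isClosed_closure (subset_closure ?_)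
      by_cases hh : (⟨y, hy⟩ : U) ∈ W
      · exact Or.inl ⟨_, hh, rfl⟩
      · exact Or.inr ⟨_, hh, rfl⟩
    have hdis : Disjoint Z₁ Z₂ := disjoint_of_closure U h isClosed_closure isClosed_closure hcov
      (fun z hz h1 h2 => htr _ hW.compl.1 ⟨z, hz⟩ h2 (htr _ hW.1 ⟨z, hz⟩ h1)) (hcl _) (hcl _)
    have hZ : IsClopen Z₁ := by
      refine ⟨isClosed_closure, ?_⟩
      have : Z₁ = Z₂ᶜ := (isCompl_iff.2 ⟨hdis, codisjoint_iff.2 hcov⟩).eq_compl
      rw [this]
      exact isClosed_closure.isOpen_compl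
    have hb' : (b : X) ∈ connectedComponent (a : X) := hab ▸ mem_connectedComponent
    exact hb (htr _ hW.1 b (hZ.connectedComponent_subset
      (subset_closure ⟨a, mem_connectedComponent, rfl⟩) hb'))
  · intro c
    obtain ⟨x, rfl⟩ := ConnectedComponents.surjective_coe c
    obtain ⟨y, hyx, hy⟩ := exists_generalization U h x
    refine ⟨ConnectedComponents.mk (⟨y, hy⟩ : U), ?_⟩
    simp only [Continuous.connectedComponentsMap_mk, ConnectedComponents.coe_eq_coe]
    exact (hsame hyx).symm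

end Groth.Agent.S5153
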