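import Groth.Statements.S5156
import Groth.Agent.Matlis.Coextend

set_option autoImplicit false
universe u
open Matlis

namespace Groth.Agent.S5156

/-- Let A and B be Noetherian local rings with B a finite A-algebra, and E an injective hull of the
residue field of A (a dualizing module for A). Then Hom_A(B, E), as a B-module through the action on
the source, is an injective hull of the residue field of B (a dualizing module for B). -/
theorem result (A B : Type u) [CommRing A] [IsLocalRing A] [IsNoetherianRing A] [CommRing B] [IsLocalRing B] [IsNoetherianRing B] [Algebra A B] [Module.Finite A B] (E : Type u) [AddCommGroup E] [Module A E] (f : IsLocalRing.ResidueField A →ₗ[A] E) (hf : InjHull.IsInjectiveHull f) : ∃ g : IsLocalRing.ResidueField B →ₗ[B] (ModuleCat.coextendScalars (algebraMap A B)).obj (ModuleCat.of A E), InjHull.IsInjectiveHull g := by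
  obtain ⟨g, hg⟩ := GrothMatlis.exists_hull_ptor hf (IsLocalRing.maximalIdeal B)
    (GrothMatlis.isFiniteLength_quotient_maximal (A := A) (IsLocalRing.maximalIdeal B))
  have htop : GrothMatlis.ptor (IsLocalRing.maximalIdeal B) (GrothMatlis.Coext A B E) = ⊤ := by
    refine top_unique ((GrothMatlis.ptor_decomposition (B := B) hf).2.symm.trans_le (iSup_le fun n => ?_))
    rw [IsLocalRing.eq_maximalIdeal n.isMaximal]
  exact ⟨_, GrothMatlis.hull_transport hg (LinearEquiv.ofTop _ htop)⟩

end Groth.Agent.S5156
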