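import Groth.Statements.S5157
import Groth.Agent.Matlis.Hull

set_option autoImplicit false
universe u
open Matlis

namespace Groth.Agent.S5157

/-- Let A be a Noetherian local ring, a an ideal with A/a local (i.e. a ≠ A) and E an injective hull of
the residue field of A. Then the annihilator of a in E, E[a] = {e | a e = 0}, is an injective hull
of the residue field of A/a over A/a. -/
theorem result (A : Type u) [CommRing A] [IsLocalRing A] [IsNoetherianRing A] (a : Ideal A) [IsLocalRing (A ⧸ a)] (E : Type u) [AddCommGroup E] [Module A E] (f : IsLocalRing.ResidueField A →ₗ[A] E) (hf : InjHull.IsInjectiveHull f) : ∃ g : IsLocalRing.ResidueField (A ⧸ a) →ₗ[A ⧸ a] (LocCoh.torsionBy a E), InjHull.IsInjectiveHull g := by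
  have hloc : IsLocalHom (Ideal.Quotient.mk a) := IsLocalHom.of_surjective _ Ideal.Quotient.mk_surjective
  let σ := IsLocalRing.ResidueField.map (Ideal.Quotient.mk a)
  have hσ : Function.Bijective σ := by
    refine ⟨σ.injective, fun y => ?_⟩
    obtain ⟨q, rfl⟩ := IsLocalRing.residue_surjective y
    obtain ⟨r, rfl⟩ := Ideal.Quotient.mk_surjective q
    exact ⟨IsLocalRing.residue A r, rfl⟩
  let e : IsLocalRing.ResidueField A →ₗ[A] IsLocalRing.ResidueField (A ⧸ a) :=
    { toFun := σ
      map_add' := map_add σ
      map_smul' := fun r x => by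
        rw [RingHom.id_apply, Algebra.smul_def, Algebra.smul_def, map_mul]
        congr 1 }
  obtain ⟨g, hg, -⟩ := GrothMatlis.hull_torsionBy a
    (GrothMatlis.hull_precomp hf (LinearEquiv.ofBijective e hσ).symm)
  exact ⟨g, hg⟩

end Groth.Agent.S5157
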