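import Groth.Statements.S5159
import Groth.Agent.DualCore.ExtDuality
import Groth.Agent.LocCohBase.ExtBridge

set_option autoImplicit false
universe u
open CategoryTheory Opposite
open Dual

namespace Groth.Agent.S5159

/-- Let A be a regular local ring of dimension n and M an A-module of finite length. Then Ext^i_A(M, A)
= 0 for i ≠ n and length Ext^n_A(M, A) = length M (the functor Ext^n_A(−, A) is dualizing). -/
theorem result (A : Type u) [CommRing A] [IsRegularLocalRing A] (n : ℕ) (hn : ringKrullDim A = n) (M : Type u) [AddCommGroup M] [Module A M] (hM : IsFiniteLength A M) : (∀ i : ℕ, i ≠ n → Subsingleton (((Ext A (ModuleCat.{u} A) i).obj (op (ModuleCat.of A M))).obj (ModuleCat.of A A))) ∧ Module.length A (((Ext A (ModuleCat.{u} A) n).obj (op (ModuleCat.of A M))).obj (ModuleCat.of A A)) = Module.length A M := by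
  obtain ⟨k, hk⟩ := GrothGoren.exists_injLT_of_regular _ A le_rfl
  letI := HasDerivedCategory.standard (ModuleCat.{u} A)
  have hres := Groth.DualCore.hasResidue_inD_shift hk n hn
  have key : ∀ i : ℕ, (((Ext A (ModuleCat.{u} A) i).obj (op (ModuleCat.of A M))).obj (ModuleCat.of A A)) ≃ₗ[A]
      (Dual.inD A M ⟶ (shiftFunctor (Dual.D A) ((i : ℤ) - n)).obj ((shiftFunctor (Dual.D A) (n : ℤ)).obj (Dual.inD A A))) := fun i =>
    ((((Groth.LocCohBase.extIso (R := A) i).app (op (ModuleCat.of A M))).app (ModuleCat.of A A)).toLinearEquiv).trans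
      ((Groth.DualCore.extDEquiv M A i).trans
        (Groth.DualCore.homShiftEquiv (Dual.inD A M) (Dual.inD A A) (n : ℤ) i ((i : ℤ) - n) (by lia)).symm)
  refine ⟨fun i hi => ?_, ?_⟩
  · haveI := Groth.DualCore.subsingleton_hom_finiteLength hres hM ((i : ℤ) - n) (by lia)
    exact (key i).toEquiv.subsingleton
  · rw [(key n).length_eq, sub_self]
    exact Groth.DualCore.length_hom_finiteLength hres hM

end Groth.Agent.S5159
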