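import Groth.Statements.S5162
import Groth.Agent.LocCohBase.ExtVanish

set_option autoImplicit false
universe u
open CategoryTheory
open LocCoh

namespace Groth.Agent.S5162

/-- The affine case. Let A be a Noetherian ring, J an ideal, G any A-module and n ≥ 0. Then: H^i_J(G) =
0 for all i < n iff Ext^i_A(F, G) = 0 for all i < n and all finite A-modules F with Supp F ⊆ V(J),
iff Ext^i_A(F, G) = 0 for all i < n for one finite F with Supp F = V(J). (G is not assumed finitely
generated.) -/
theorem result (A : Type u) [CommRing A] [IsNoetherianRing A] (J : Ideal A) (G : Type u) [AddCommGroup G] [Module A G] (n : ℕ) : ((∀ i : ℕ, i < n → Subsingleton (LocCoh.H J i G)) ↔ ∀ (F : Type u) [AddCommGroup F] [Module A F], Module.Finite A F → Module.support A F ⊆ PrimeSpectrum.zeroLocus (J : Set A) → ∀ i : ℕ, i < n → Subsingleton (Abelian.Ext (ModuleCat.of A F) (ModuleCat.of A G) i)) ∧ ((∀ i : ℕ, i < n → Subsingleton (LocCoh.H J i G)) ↔ ∃ (F : Type u) (_ : AddCommGroup F) (_ : Module A F), Module.Finite A F ∧ Module.support A F =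 PrimeSpectrum.zeroLocus (J : Set A) ∧ ∀ i : ℕ, i < n → Subsingleton (Abelian.Ext (ModuleCat.of A F) (ModuleCat.of A G) i)) := by
  refine ⟨⟨fun h F _ _ hf hs => Groth.LocCohBase.ext_subsingleton_of_H J n G h F hf hs,
    fun h => Groth.LocCohBase.H_subsingleton_of_ext J (A ⧸ J) (Groth.LocCohBase.support_quotient_eq J)
      n G (h (A ⧸ J) inferInstance (Groth.LocCohBase.support_quotient_eq J).subset)⟩,
    ⟨fun h => ⟨A ⧸ J, inferInstance, inferInstance, inferInstance,
      Groth.LocCohBase.support_quotient_eq J,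
      Groth.LocCohBase.ext_subsingleton_of_H J n G h (A ⧸ J) inferInstance
        (Groth.LocCohBase.support_quotient_eq J).subset⟩, ?_⟩⟩
  rintro ⟨F, _, _, hf, hs, h⟩
  exact Groth.LocCohBase.H_subsingleton_of_ext J F hs n G h

end Groth.Agent.S5162
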