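import Groth.Statements.S5163
import Groth.Agent.LocCohBase.ExtVanish

set_option autoImplicit false
universe u
open LocCoh

namespace Groth.Agent.S5163

/-- For modules over a Noetherian ring. Let P be a finite A-module and H any A-module with Supp H ⊆ Supp
P. If Hom_A(P, H) = 0 then H = 0. (The published lemma is stated over an arbitrary prescheme; its
proof uses that a nonzero module has an associated prime, so the ring is taken Noetherian here.) -/
theorem result (A : Type u) [CommRing A] [IsNoetherianRing A] (P H : Type u) [AddCommGroup P] [Module A P] [Module.Finite A P] [AddCommGroup H] [Module A H] (hsupp : Module.support A H ⊆ Module.support A P) (hhom : Subsingleton (P →ₗ[A] H)) : Subsingleton H := by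
  exact Groth.LocCohBase.subsingleton_of_hom_subsingleton P H hsupp hhom

end Groth.Agent.S5163
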