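import Groth.Statements.S5165
import Groth.Agent.Ega4Algebra1.GlobalDim
import Groth.Agent.Ega4Algebra1.PdOpen

set_option autoImplicit false
universe u
open CategoryTheory
open LocCoh

namespace Groth.Agent.S5165

/-- Suppose A is a regular Noetherian ring and consider a finitely generated A-module M. Then some
natural number d bounds the projective dimension of M (equivalently, p ↦ proj.dim M_p stays bounded
as p ranges over Spec A, and this holds even if the Krull dimension of A is infinite). -/
theorem result (A : Type u) [CommRing A] [IsRegularRing A] (M : Type u) [AddCommGroup M] [Module A M] [Module.Finite A M] : ∃ d : ℕ, HasProjectiveDimensionLE (ModuleCat.of A M) d := by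
  obtain ⟨n, hn⟩ := Groth.Ega4Algebra1.exists_pdLT_of_forall (A := A) M fun p =>
    ⟨_, Groth.Ega4Algebra1.pdLT_of_isRegularLocalRing (Localization.AtPrime p.asIdeal) _ rfl (TensorProduct A (Localization.AtPrime p.asIdeal) M)⟩
  exact ⟨n, hn⟩

end Groth.Agent.S5165
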