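import Groth.Statements.S5166
import Mathlib.RingTheory.KrullDimension.NonZeroDivisors
import Mathlib.RingTheory.Ideal.KrullsHeightTheorem

set_option autoImplicit false
universe u
open LocCoh

namespace Groth.Agent.S5166

/-- In its local form at a point y ∈ Y (A = O_{X,y}). Let A be a Noetherian local ring and I ≠ A an
ideal contained in no minimal prime of A. Then some prime p ⊉ I has dim A/p = 1. -/
theorem result (A : Type u) [CommRing A] [IsLocalRing A] [IsNoetherianRing A] (I : Ideal A) (hI : I ≠ ⊤) (hdense : ∀ q ∈ minimalPrimes A, ¬ I ≤ q) : ∃ p : PrimeSpectrum A, ¬ I ≤ p.asIdeal ∧ ringKrullDim (A ⧸ p.asIdeal) = 1 := by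
  classical
  obtain ⟨q₀, hq₀⟩ := Ideal.nonempty_minimalPrimes (I := (⊥ : Ideal A)) bot_ne_top
  obtain ⟨p, ⟨hp, hIp⟩, hmax⟩ := set_has_maximal_iff_noetherian.2 (inferInstance : IsNoetherian A A)
    {J : Ideal A | J.IsPrime ∧ ¬ I ≤ J} ⟨q₀, hq₀.1.1, hdense q₀ hq₀⟩
  refine ⟨⟨p, hp⟩, hIp, ?_⟩
  obtain ⟨f, hfI, hfp⟩ := SetLike.not_le_iff_exists.1 hIp
  have hpm : p < IsLocalRing.maximalIdeal A :=
    lt_of_le_of_ne (IsLocalRing.le_maximalIdeal hp.ne_top) fun h =>
      hIp (h ▸ IsLocalRing.le_maximalIdeal hI)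
  have hcontains : ∀ q : Ideal A, q.IsPrime → p < q → f ∈ q := fun q hq hlt => by
    by_contra hfq
    exact hmax q ⟨hq, fun h => hfq (h hfI)⟩ hlt
  have key : ∀ q : Ideal A, q.IsPrime → p < q → q = IsLocalRing.maximalIdeal A := by
    intro q hq hlt
    by_contra hne
    set J : Ideal A := p ⊔ Ideal.span {f} with hJ
    have hmJ : IsLocalRing.maximalIdeal A ∉ J.minimalPrimes := fun h =>
      hne (le_antisymm (IsLocalRing.le_maximalIdeal hq.ne_top) (h.2 ⟨hq,
        sup_le hlt.le ((Ideal.span_singleton_le_iff_mem q).2 (hcontains q hq hlt))⟩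
        (IsLocalRing.le_maximalIdeal hq.ne_top)))
    have hJle : J ≤ IsLocalRing.maximalIdeal A :=
      sup_le hpm.le ((Ideal.span_singleton_le_iff_mem _).2 (IsLocalRing.le_maximalIdeal hI hfI))
    obtain ⟨q₁, hq₁⟩ := Ideal.nonempty_minimalPrimes (I := J)
      (fun h => (IsLocalRing.maximalIdeal.isMaximal A).ne_top (top_le_iff.1 (h ▸ hJle)))
    have hnot : ¬ ((IsLocalRing.maximalIdeal A : Set A) ⊆
        ⋃ r ∈ (↑J.finite_minimalPrimes_of_isNoetherianRing.toFinset : Set (Ideal A)), (r : Set A)) := by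
      rw [Ideal.subset_union_prime ⊥ ⊥ (fun r hr _ _ =>
        ((Set.Finite.mem_toFinset _).1 hr).isPrime)]
      rintro ⟨r, hr, hmr⟩
      have hr' := (Set.Finite.mem_toFinset _).1 hr
      exact hmJ (((IsLocalRing.maximalIdeal.isMaximal A).eq_of_le hr'.isPrime.ne_top hmr).symm ▸ hr')
    obtain ⟨g, hgm, hg⟩ := Set.not_subset.1 hnot
    simp only [Set.mem_iUnion, Finset.mem_coe, Set.Finite.mem_toFinset, SetLike.mem_coe,
      exists_prop, not_exists, not_and] at hg
    have hgle : p ⊔ Ideal.span {g} ≤ IsLocalRing.maximalIdeal A :=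
      sup_le hpm.le ((Ideal.span_singleton_le_iff_mem _).2 hgm)
    obtain ⟨r, hr⟩ := Ideal.nonempty_minimalPrimes (I := p ⊔ Ideal.span {g})
      (fun h => (IsLocalRing.maximalIdeal.isMaximal A).ne_top (top_le_iff.1 (h ▸ hgle)))
    have hgr : g ∈ r := hr.le (Ideal.mem_sup_right (Ideal.mem_span_singleton_self g))
    have hpr : p < r := lt_of_le_of_ne (le_sup_left.trans hr.le) fun h =>
      hg q₁ hq₁ (hq₁.le (Ideal.mem_sup_left (h ▸ hgr)))
    have := hr.isPrime
    obtain ⟨s, hs, hsr⟩ := Ideal.exists_minimalPrimes_le (I := J) (J := r)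
      (sup_le hpr.le ((Ideal.span_singleton_le_iff_mem r).2 (hcontains r hr.isPrime hpr)))
    have hsr' : s < r := lt_of_le_of_ne hsr fun h => hg s hs (h ▸ hgr)
    have := hs.isPrime
    have hps : p ≤ s := le_sup_left.trans hs.le
    have hfs : f ∈ s := hs.le (Ideal.mem_sup_right (Ideal.mem_span_singleton_self f))
    let φ := Ideal.Quotient.mk p
    have hk : RingHom.ker φ = p := Ideal.mk_ker
    have hcs : (s.map φ).comap φ = s := by
      rw [Ideal.comap_map_of_surjective' _ Ideal.Quotient.mk_surjective, hk, sup_eq_left.2 hps]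
    have hcr : (r.map φ).comap φ = r := by
      rw [Ideal.comap_map_of_surjective' _ Ideal.Quotient.mk_surjective, hk, sup_eq_left.2 hpr.le]
    have : (r.map φ).IsPrime :=
      Ideal.map_isPrime_of_surjective Ideal.Quotient.mk_surjective (hk.le.trans hpr.le)
    have : (s.map φ).IsPrime :=
      Ideal.map_isPrime_of_surjective Ideal.Quotient.mk_surjective (hk.le.trans hps)
    have hlt' : s.map φ < r.map φ :=
      lt_of_le_of_ne (Ideal.map_mono hsr'.le) fun h => hsr'.ne (by rw [← hcs, ← hcr, h])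
    have hbd : (r.map φ).height ≤ ((1 : ℕ) : ℕ∞) := by
      exact_mod_cast Ideal.map_height_le_one_of_mem_minimalPrimes hr
    have h0 := Ideal.height_le_iff.1 hbd (s.map φ) inferInstance hlt'
    rw [Nat.cast_one, Order.lt_one_iff, Ideal.height_eq_zero_iff_eq_bot] at h0
    exact hfp (hk.le (Ideal.map_eq_bot_iff_le_ker φ |>.1 h0 hfs))
  rw [ringKrullDim_quotient]
  refine le_antisymm ?_ ?_
  · rw [Order.krullDim_le_one_iff]
    intro a
    rcases eq_or_lt_of_le (show p ≤ a.1.asIdeal from a.2) with h | h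
    · left
      intro b _
      show a.1.asIdeal ≤ b.1.asIdeal
      rw [← h]
      exact b.2
    · right
      intro b hab
      show b.1.asIdeal ≤ a.1.asIdeal
      rw [key a.1.asIdeal a.1.2 h]
      exact IsLocalRing.le_maximalIdeal b.1.2.ne_top
  · rw [Order.one_le_krullDim_iff]
    exact ⟨⟨⟨p, hp⟩, (le_refl p : p ≤ p)⟩, ⟨IsLocalRing.closedPoint A, hpm.le⟩, hpm⟩

end Groth.Agent.S5166
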