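import Groth.Statements.S5168
import Groth.Agent.Matlis.Hull

set_option autoImplicit false
universe u
open InjHull

namespace Groth.Agent.S5168

/-- Let A be a Noetherian ring, J an ideal and H a J-power torsion A-module. Then H is injective if and
only if Hom_A(−, H) is exact on finite A-modules killed by a power of J, i.e. every linear map to H
from a submodule of such a module M extends to M. -/
theorem result (A : Type u) [CommRing A] [IsNoetherianRing A] (J : Ideal A) (H : Type u) [AddCommGroup H] [Module A H] (hH : LocCoh.IsPowerTorsion J H) : Module.Injective A H ↔ ∀ (M : Type u) [AddCommGroup M] [Module A M], Module.Finite A M → (∃ k : ℕ, (J ^ k) • (⊤ : Submodule A M) = ⊥) → ∀ (N : Submodule A M) (g : N →ₗ[A] H), ∃ g' : M →ₗ[A] H, g'.comp N.subtype = g := by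
  refine ⟨fun hinj M _ _ _ _ N g => ?_, fun h => Module.Baer.injective fun a g => ?_⟩
  · obtain ⟨k, hk⟩ := hinj.out N.subtype N.injective_subtype g
    exact ⟨k, LinearMap.ext hk⟩
  obtain ⟨s, hs⟩ := Module.Finite.fg_top (R := A) (M := a)
  choose e he using fun y : a => hH (g y)
  have hn : ∀ y : a, ∀ r ∈ J ^ (s.sup e), r • g y = 0 := by
    intro y r hr
    have : y ∈ Submodule.span A (s : Set a) := hs ▸ Submodule.mem_top
    induction this using Submodule.span_induction with
    | mem z hz => exact he z r (Ideal.pow_le_pow_right (Finset.le_sup hz) hr)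
    | zero => simp
    | add z w _ _ hz hw => simp [hz, hw]
    | smul c z _ hz => simp [smul_comm r c, hz]
  obtain ⟨k, hk⟩ := J.exists_pow_inf_eq_pow_smul (M := A) a
  let q := (J ^ (s.sup e + k) : Ideal A).mkQ
  have hker : LinearMap.ker (q.submoduleMap a) ≤ LinearMap.ker g := by
    intro y hy
    have hy1 : (y : A) ∈ J ^ (s.sup e + k) :=
      (Submodule.Quotient.mk_eq_zero _).1 (congrArg Subtype.val (LinearMap.mem_ker.1 hy))
    have h1 : (y : A) ∈ J ^ (s.sup e) • (J ^ k • (⊤ : Submodule A A) ⊓ a) := by
      have h2 := hk (s.sup e + k) (by omega)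
      simp only [Nat.add_sub_cancel] at h2
      rw [← h2]
      exact ⟨by simpa using hy1, y.2⟩
    have h3 : (y : A) ∈ Submodule.map a.subtype (J ^ (s.sup e) • (⊤ : Submodule A a)) := by
      rw [Submodule.map_smul'', Submodule.map_top, Submodule.range_subtype]
      exact Submodule.smul_mono le_rfl inf_le_right h1
    obtain ⟨z, hz, hzy⟩ := h3
    obtain rfl : z = y := Subtype.ext hzy
    exact Submodule.smul_le.2 (fun r hr w _ => by simp [hn w r hr]) hz
  obtain ⟨g', hg'⟩ := h (A ⧸ J ^ (s.sup e + k)) inferInstance ⟨s.sup e + k, by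
      rw [eq_bot_iff, Submodule.smul_le]
      intro r hr z _
      obtain ⟨b, rfl⟩ := Submodule.mkQ_surjective _ z
      rw [Submodule.mem_bot, ← map_smul]
      exact (Submodule.Quotient.mk_eq_zero _).2 (Ideal.mul_mem_right b _ hr)⟩
    (Submodule.map q a) ((LinearMap.ker (q.submoduleMap a)).liftQ g hker ∘ₗ
      ((q.submoduleMap a).quotKerEquivOfSurjective (q.submoduleMap_surjective a)).symm.toLinearMap)
  refine ⟨g' ∘ₗ q, fun x hx => ?_⟩
  have h2 : g' (q x) = _ := LinearMap.congr_fun hg' (q.submoduleMap a ⟨x, hx⟩)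
  rw [LinearMap.comp_apply, h2, LinearMap.comp_apply, LinearEquiv.coe_coe]
  have h3 : ((q.submoduleMap a).quotKerEquivOfSurjective (q.submoduleMap_surjective a)).symm
      (q.submoduleMap a ⟨x, hx⟩) = Submodule.Quotient.mk ⟨x, hx⟩ := by
    rw [LinearEquiv.symm_apply_eq]
    rfl
  rw [h3, Submodule.liftQ_apply]

end Groth.Agent.S5168
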