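import Groth.Statements.S5171
import Groth.Agent.LocCohBase.CM
import Groth.Agent.LocCohBase.Torsion

set_option autoImplicit false
universe u
open LocCoh

namespace Groth.Agent.S5171

/-- Let A be a Noetherian ring, J an ideal, n ≥ 0 and G a finite Cohen–Macaulay A-module (each
localization G_p is zero or Cohen–Macaulay). Then H^i_J(G) = 0 for i < n if and only if codim(V(J) ∩
Supp G, Supp G) ≥ n, i.e. dim Supp(G_p) ≥ n for every p ∈ V(J) ∩ Supp G. -/
theorem result (A : Type u) [CommRing A] [IsNoetherianRing A] (J : Ideal A) (G : Type u) [AddCommGroup G] [Module A G] [Module.Finite A G] (hCM : ∀ p : PrimeSpectrum A, Subsingleton (LocalizedModule p.asIdeal.primeCompl G) ∨ LocCoh.IsCohenMacaulayModule (Localization.AtPrime p.asIdeal) (LocalizedModule p.asIdeal.primeCompl G)) (n : ℕ) : (∀ i : ℕ, i < n → Subsingleton (LocCoh.H J i G)) ↔ ∀ p : PrimeSpectrum A, J ≤ p.asIdeal → p ∈ Module.support A G → (n : WithBot ℕ∞) ≤ Module.supportDim (Localization.AtPrime p.asIdeal) (LocalizedModule p.asIdeal.primeCompl G) := by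
  rw [← Groth.LocCohBase.le_idealDepth_iff_localCohomology J n G,
    Groth.LocCohBase.idealDepth_eq_iInf_depth]
  simp only [le_iInf_iff]
  constructor
  · intro h p hJ hp
    have : Nontrivial (LocalizedModule p.asIdeal.primeCompl G) := Module.mem_support_iff.1 hp
    rw [show Module.supportDim _ _ = _ from (hCM p).resolve_left (not_subsingleton _)]
    exact WithBot.coe_le_coe.2 (h p hJ)
  · intro h p hJ
    rcases hCM p with hs | hcm
    · rw [LocCoh.depth, Groth.LocCohBase.idealDepth_eq_top_of_smul_top_eq_top (Subsingleton.elim _ _)]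
      exact le_top
    · have : Nontrivial (LocalizedModule p.asIdeal.primeCompl G) :=
        Groth.LocCohBase.nontrivial_of_CM hcm
      have h1 := h p hJ (Module.mem_support_iff.2 this)
      rw [show Module.supportDim _ _ = _ from hcm] at h1
      exact WithBot.coe_le_coe.1 h1

end Groth.Agent.S5171
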