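import Groth.Statements.S5178
import Groth.Agent.CI.Criterion
-- import your own Groth.Agent.* helpers here

set_option autoImplicit false
set_option maxHeartbeats 1000000
universe u
open CInt

namespace Groth.Agent.S5178

/-- Let A be a Noetherian local ring of dimension d, and let the completion of A be presented as B/I
with B a regular local ring of dimension e and I an ideal whose minimal number of generators is q,
so that e − q is the geometric depth of A (this number does not depend on the presentation). Then e
− q ≤ d, and equality holds if and only if A is a complete intersection, i.e. its completion is a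
regular local ring modulo an ideal generated by a regular sequence. -/
theorem result (A : Type u) [CommRing A] [IsLocalRing A] [IsNoetherianRing A] (B : Type u) [CommRing B] [IsRegularLocalRing B] (I : Ideal B) (hpres : Nonempty (AdicCompletion (IsLocalRing.maximalIdeal A) A ≃+* B ⧸ I)) (d e : ℕ) (hd : ringKrullDim A = (d : WithBot ℕ∞)) (he : ringKrullDim B = (e : WithBot ℕ∞)) : (e : ℤ) - (I.spanFinrank : ℤ) ≤ (d : ℤ) ∧ ((e : ℤ) - (I.spanFinrank : ℤ) = (d : ℤ) ↔ Pi1.IsCompleteIntersection A) := by
  obtain ⟨e'⟩ := hpres
  have : IsNoetherianRing (AdicCompletion (IsLocalRing.maximalIdeal A) A) :=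
    Groth.Calg1.isNoetherianRing_adicCompletion _ (IsNoetherian.noetherian (IsLocalRing.maximalIdeal A))
  let π : B →+* AdicCompletion (IsLocalRing.maximalIdeal A) A := e'.symm.toRingHom.comp (Ideal.Quotient.mk I)
  have hπ : Function.Surjective π := e'.symm.surjective.comp Ideal.Quotient.mk_surjective
  have hk : RingHom.ker π = I := by
    rw [show π = e'.symm.toRingHom.comp (Ideal.Quotient.mk I) from rfl,
      RingHom.ker_comp_of_injective _ e'.symm.injective, Ideal.mk_ker]
  have hI : I ≠ ⊤ := hk ▸ RingHom.ker_ne_top π
  have hdI : ringKrullDim (B ⧸ I) = (d : WithBot ℕ∞) := by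
    rw [ringKrullDim_eq_of_ringEquiv e'.symm, Groth.Calg1.ringKrullDim_adicCompletion, hd]
  have hle : ((e : ℕ) : WithBot ℕ∞) ≤ (d : WithBot ℕ∞) + (I.spanFinrank : WithBot ℕ∞) := by
    rw [← he, ← hdI]
    exact ringKrullDim_le_ringKrullDim_quotient_add_spanFinrank I ((IsLocalRing.le_maximalIdeal hI).trans (IsLocalRing.ringJacobson_eq_maximalIdeal B).ge)
  norm_cast at hle
  refine ⟨by omega, ?_⟩
  constructor
  · intro h
    obtain ⟨rs, hrs, hreg⟩ := (Groth.CI.exists_regular_iff I hI).mpr (by
      rw [hdI, he]; norm_cast; omega)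
    refine ⟨B, inferInstance, inferInstance, rs, fun r hr => IsLocalRing.le_maximalIdeal hI
      (hrs ▸ Ideal.subset_span hr), hreg, ⟨e'.trans (Ideal.quotEquivOfEq hrs.symm)⟩⟩
  · rintro ⟨B', _, _, rs, hmem, hrs, ⟨e''⟩⟩
    let π' : B' →+* AdicCompletion (IsLocalRing.maximalIdeal A) A := e''.symm.toRingHom.comp (Ideal.Quotient.mk _)
    have hπ' : Function.Surjective π' := e''.symm.surjective.comp Ideal.Quotient.mk_surjective
    have hk' : Ideal.ofList rs = RingHom.ker π' := by
      rw [show π' = e''.symm.toRingHom.comp (Ideal.Quotient.mk _) from rfl,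
        RingHom.ker_comp_of_injective _ e''.symm.injective, Ideal.mk_ker]
    have h := Groth.CI.exists_regular_ker_congr π' hπ' π hπ ⟨rs, hk', hrs⟩
    rw [hk, Groth.CI.exists_regular_iff I hI, hdI, he] at h
    norm_cast at h
    omega

end Groth.Agent.S5178
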