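import Groth.Statements.S5179
import Groth.Agent.GeomDepth.H1BaseChange
import Mathlib

set_option autoImplicit false
universe u
open CInt

namespace Groth.Agent.S5179

open IsLocalRing in
/-- The presentation invariant in terms of any generators of the maximal ideal. -/
theorem length_H1_add {C B : Type u} [CommRing C] [IsLocalRing C] [CommRing B] [IsRegularLocalRing B]
    (π : B →+* C) (hπ : Function.Surjective π) (e : ℕ) (he : ringKrullDim B = (e : WithBot ℕ∞))
    {n : ℕ} (y : Fin n → C) (hy : Ideal.span (Set.range y) = maximalIdeal C) :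
    Module.length C (Groth.CI.H1 y) + e = ((RingHom.ker π).spanFinrank : ℕ∞) + n := by
  classical
  rw [← IsRegularLocalRing.spanFinrank_maximalIdeal] at he
  have hee : (maximalIdeal B).spanFinrank = e := by exact_mod_cast he
  obtain ⟨l, hl, hlen⟩ := Groth.CI.exists_list_generators (maximalIdeal B)
  let z : Fin e → B := fun i => l[i.1]'(by rw [hlen, hee]; exact i.2)
  have hz : Ideal.span (Set.range z) = maximalIdeal B := by
    rw [← hl]
    refine congrArg Ideal.span (Set.ext fun w => ⟨?_, fun hw => ?_⟩)
    · rintro ⟨i, rfl⟩; exact List.getElem_mem _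
    · obtain ⟨i, hi, rfl⟩ := List.getElem_of_mem hw
      exact ⟨⟨i, by rw [← hee, ← hlen]; exact hi⟩, rfl⟩
  have hπz : Ideal.span (Set.range (π ∘ z)) = maximalIdeal C := by
    rw [Set.range_comp, ← Ideal.map_span, hz]
    exact IsLocalRing.map_maximalIdeal_of_surjective π hπ
  have h1 := Groth.CI.length_H1_sum y hy (π ∘ z) fun k => hπz ▸ Ideal.subset_span ⟨k, rfl⟩
  have h2 := Groth.CI.length_H1_sum (π ∘ z) hπz y fun k => hy ▸ Ideal.subset_span ⟨k, rfl⟩
  rw [← Groth.CI.length_H1_comp (Sum.elim y (π ∘ z)) (Equiv.sumComm _ _)] at h1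
  rw [show Sum.elim y (π ∘ z) ∘ Equiv.sumComm _ _ = Sum.elim (π ∘ z) y from
    funext fun s => by cases s <;> rfl] at h1
  rw [h1, Groth.CI.length_H1_eq_spanFinrank π hπ hee z hz, Fintype.card_fin, Fintype.card_fin] at h2
  exact h2

/-- Let A → A' be a flat local homomorphism of Noetherian local rings such that m_A A' is the maximal
ideal of A' and the residue field of A' is a separable extension of the residue field k of A
(separable in the sense that it is formally smooth over k; so A' ⊗_A k is a field separable over k).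
Present the completions as Â ≅ B/I and Â' ≅ B'/I' with B, B' regular local rings of dimensions e,
e'. Then e − μ(I) = e' − μ(I'), μ denoting the minimal number of generators: A and A' have the same
geometric depth. -/
theorem result (A A' : Type u) [CommRing A] [IsLocalRing A] [IsNoetherianRing A] [CommRing A'] [IsLocalRing A'] [IsNoetherianRing A'] [Algebra A A'] [IsLocalHom (algebraMap A A')] [Module.Flat A A'] (hmax : Ideal.map (algebraMap A A') (IsLocalRing.maximalIdeal A) = IsLocalRing.maximalIdeal A') (hsep : Algebra.FormallySmooth (IsLocalRing.ResidueField A) (IsLocalRing.ResidueField A')) (B B' : Type u) [CommRing B] [IsRegularLocalRing B] [CommRing B'] [IsRegularLocalRing B'] (I : Ideal B) (I' : Ideal B') (hpres : Nonempty (AdicCompletion (IsLocalRing.maximalIdeal A) A ≃+* B ⧸ I)) (hpres' : Nonempty (AdicCompletion (IsLocalRing.maximalIdeal A') A' ≃+* B' ⧸ I')) (e e' : ℕ) (he : ringKrullDim B = (e : WithBot ℕ∞)) (he' : ringKrullDim B' = (e' : WithBot ℕ∞)) : (e : ℤ) - (I.spanFinrank : ℤ) = (e' : ℤ) - (I'.spanFinrank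 : ℤ) := by
  classical
  obtain ⟨p⟩ := hpres
  obtain ⟨p'⟩ := hpres'
  let C := AdicCompletion (IsLocalRing.maximalIdeal A) A
  let C' := AdicCompletion (IsLocalRing.maximalIdeal A') A'
  haveI : IsNoetherianRing C :=
    Groth.Calg1.isNoetherianRing_adicCompletion _ (IsNoetherian.noetherian (IsLocalRing.maximalIdeal A))
  haveI : IsNoetherianRing C' :=
    Groth.Calg1.isNoetherianRing_adicCompletion _ (IsNoetherian.noetherian (IsLocalRing.maximalIdeal A'))
  let π : B →+* C := p.symm.toRingHom.comp (Ideal.Quotient.mk I)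
  let π' : B' →+* C' := p'.symm.toRingHom.comp (Ideal.Quotient.mk I')
  have hπ : Function.Surjective π := p.symm.surjective.comp Ideal.Quotient.mk_surjective
  have hπ' : Function.Surjective π' := p'.symm.surjective.comp Ideal.Quotient.mk_surjective
  have hk : RingHom.ker π = I := (RingHom.ker_equiv_comp _ _).trans Ideal.mk_ker
  have hk' : RingHom.ker π' = I' := (RingHom.ker_equiv_comp _ _).trans Ideal.mk_ker
  obtain ⟨l, hl, -⟩ := Groth.CI.exists_list_generators (IsLocalRing.maximalIdeal A)
  let x : Fin l.length → A := fun i => l[i.1]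
  have hx : Ideal.span (Set.range x) = IsLocalRing.maximalIdeal A := by
    rw [← hl]
    refine congrArg Ideal.span (Set.ext fun w => ⟨?_, fun hw => ?_⟩)
    · rintro ⟨i, rfl⟩; exact List.getElem_mem _
    · obtain ⟨i, hi, rfl⟩ := List.getElem_of_mem hw
      exact ⟨⟨i, hi⟩, rfl⟩
  have hgen : ∀ {R S : Type u} [CommRing R] [CommRing S] (φ : R →+* S) {n : ℕ} (z : Fin n → R)
      (J : Ideal R) (K : Ideal S), Ideal.span (Set.range z) = J → J.map φ = K →
      Ideal.span (Set.range (φ ∘ z)) = K := fun φ _ z J K hz hJ => by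
    rw [Set.range_comp, ← Ideal.map_span, hz, hJ]
  have hmC : (IsLocalRing.maximalIdeal A).map (algebraMap A C) = IsLocalRing.maximalIdeal C :=
    AdicCompletion.maximalIdeal_eq_map.symm
  have hmC' : (IsLocalRing.maximalIdeal A').map (algebraMap A' C') = IsLocalRing.maximalIdeal C' :=
    AdicCompletion.maximalIdeal_eq_map.symm
  have hx' := hgen (algebraMap A A') x _ _ hx hmax
  have h1 := length_H1_add π hπ e he (algebraMap A C ∘ x) (hgen _ x _ _ hx hmC)
  have h2 := length_H1_add π' hπ' e' he' (algebraMap A' C' ∘ (algebraMap A A' ∘ x))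
    (hgen _ _ _ _ hx' hmC')
  rw [Groth.GeomDepth.length_H1_algebraMap hmC x hx, hk] at h1
  rw [Groth.GeomDepth.length_H1_algebraMap hmC' _ hx', Groth.GeomDepth.length_H1_algebraMap hmax x hx, hk'] at h2
  have hne : Module.length A (Groth.CI.H1 x) ≠ ⊤ := fun htop => by
    rw [htop, top_add] at h1
    exact ENat.natCast_ne_top (I.spanFinrank + l.length) (by push_cast; exact h1.symm)
  obtain ⟨L, hL⟩ := ENat.ne_top_iff_exists.1 hne
  rw [← hL] at h1 h2
  norm_cast at h1 h2
  omega

end Groth.Agent.S5179
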