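import Groth.Statements.S5181
import Groth.Agent.EtDepthLib.ConstFEt

set_option autoImplicit false
set_option backward.isDefEq.respectTransparency.types false
universe u
open CategoryTheory CategoryTheory.Limits AlgebraicGeometry Opposite
open EtDepth

namespace Groth.Agent.S5181

/-- Last assertion, in the cases of depth ≥ 1 and depth ≥ 2. Let X be a scheme and j : U → X an open
immersion with closed complement Y; for X' étale over X write U' = X' ×_X U. Then (a) the Y-étale
depth of X is ≥ 1, i.e. the local cohomology sheaf H^0_Y(Z/ℓ) vanishes for every prime ℓ, if and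
only if for every scheme X' étale over X the restriction functor from finite étale covers of X' to
finite étale covers of U' is faithful; and (b) the Y-étale depth of X is ≥ 2, i.e. H^0_Y(Z/ℓ) and
H^1_Y(Z/ℓ) vanish for every prime ℓ, if and only if for every scheme X' étale over X that
restriction functor is full and faithful. (The case of depth ≥ 3 versus equivalences is the
prelude's definition of homotopic depth ≥ 3.) -/
theorem result {X U : Scheme.{u}} (j : U ⟶ X) [IsOpenImmersion j] [EtCoh.BCCont j] : ((∀ ℓ : ℕ, ℓ.Prime → EtDepth.DepthGE j (EtCoh.const X (ZMod ℓ)) 1) ↔ ∀ (X' : Scheme.{u}) (g : X' ⟶ X) [Etale g], (FEt.restrict (pullback.snd j g)).Faithful) ∧ ((∀ ℓ : ℕ, ℓ.Prime → EtDepth.DepthGE j (EtCoh.const X (ZMod ℓ)) 2) ↔ ∀ (X' : Scheme.{u}) (g : X' ⟶ X) [Etale g], (FEt.restrict (pullback.snd j g)).Full ∧ (FEt.restrict (pullback.snd j g)).Faithful) := Groth.EtDepthLib.depthGE_const_iff j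

end Groth.Agent.S5181
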