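import Groth.Statements.S5182
import Groth.Agent.Ega4Algebra2.GradedRegularSeq
-- import your own Groth.Agent.* helpers here

set_option autoImplicit false
universe u
open CInt

namespace Groth.Agent.S5182

/-- In the local algebraic form to which its proof reduces. Let A be a Noetherian local ring, J a proper
ideal such that A is normally flat along J, i.e. every J^k/J^{k+1} is a flat (equivalently free)
A/J-module, and f_1, …, f_r elements of A whose images form a weakly regular sequence on A/J (each
f_i a non-zero-divisor on A/J modulo the preceding ones). Then for every k ≥ 0 the f_i form a weakly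
regular sequence on the A-module J^k and on the A-module J^k/J^{k+1}; in particular (k = 0) on A
itself, so that they are regular on the Rees algebra ⊕ J^k and on the associated graded ring ⊕
J^k/J^{k+1}. -/
theorem result (A : Type u) [CommRing A] [IsLocalRing A] [IsNoetherianRing A] (J : Ideal A) (hJ : J ≠ ⊤) (hflat : ∀ k : ℕ, Module.Flat (A ⧸ J) (↥(J ^ k) ⧸ (J • (⊤ : Submodule A ↥(J ^ k))))) (fs : List A) (hreg : RingTheory.Sequence.IsWeaklyRegular (A ⧸ J) fs) (k : ℕ) : RingTheory.Sequence.IsWeaklyRegular (↥(J ^ k)) fs ∧ RingTheory.Sequence.IsWeaklyRegular (↥(J ^ k) ⧸ (J • (⊤ : Submodule A ↥(J ^ k)))) fs := by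
  exact Groth.Ega4b.GrReg.isWeaklyRegular_pow_of_flat J hJ hflat fs hreg k

end Groth.Agent.S5182
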