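import Groth.Statements.S5185
import Groth.Agent.S5184
import Groth.Agent.S2947
import Groth.Agent.S0247
import Groth.Agent.LefAlg.Extend
import Groth.Agent.ParaLift82.PurityCI

set_option autoImplicit false
universe u
open CategoryTheory CategoryTheory.Limits AlgebraicGeometry
open LefX

namespace Groth.Agent.S5185

set_option backward.isDefEq.respectTransparency false

theorem purityHolds_of_ringEquiv {A B : Type u} [CommRing A] [IsLocalRing A] [CommRing B] [IsLocalRing B]
    [IsNoetherianRing B] (e : A ≃+* B)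
    (h : (IsRegularLocalRing A ∧ (2 : WithBot ℕ∞) ≤ ringKrullDim A) ∨
      (SGA2.IsAbsCompleteIntersection A ∧ (3 : WithBot ℕ∞) ≤ ringKrullDim A)) : FEt.PurityHolds B := by
  rw [ringKrullDim_eq_of_ringEquiv e] at h
  rcases h with ⟨hreg, hd⟩ | ⟨⟨C, _, _, rs, -, hrs, ⟨f⟩⟩, hd⟩
  · have := IsRegularLocalRing.of_ringEquiv e
    exact Groth.Agent.S0247.result B hd
  · let π : C →+* B := (e.toRingHom.comp f.symm.toRingHom).comp (Ideal.Quotient.mk _)
    exact Groth.ParaLift82.purityHolds_of_ciPres rs.length B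
      ⟨C, inferInstance, inferInstance, π, rs,
        (e.surjective.comp f.symm.surjective).comp Ideal.Quotient.mk_surjective, rfl, hrs, by
          rw [RingHom.ker_comp_of_injective _ (e.injective.comp f.symm.injective), Ideal.mk_ker]⟩ hd

/-- Let X be a locally Noetherian scheme and 𝓘 a quasi-coherent ideal sheaf with Y = V(𝓘), such that the
effective Lefschetz condition Leff(X, Y) holds, and such that for every open neighbourhood U of Y
and every point x of X outside U the local ring O_{X,x} is either regular of dimension ≥ 2 or an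
(absolute) complete intersection of dimension ≥ 3, i.e. a regular local ring modulo a regular
sequence. Then restriction of finite étale covers from X to Y is an equivalence of categories;
equivalently π_0(Y) → π_0(X) is bijective and, for X connected, π_1(Y) → π_1(X) is an isomorphism. -/
theorem result (X : Scheme.{u}) [IsLocallyNoetherian X] (𝓘 : X.IdealSheafData) (h : LefX.LeffCond X 𝓘) (hpur : ∀ U : X.Opens, (𝓘.support : Set X) ⊆ (U : Set X) → ∀ x : X, x ∉ U → (IsRegularLocalRing (X.presheaf.stalk x) ∧ (2 : WithBot ℕ∞) ≤ ringKrullDim (X.presheaf.stalk x)) ∨ (SGA2.IsAbsCompleteIntersection (X.presheaf.stalk x) ∧ (3 : WithBot ℕ∞) ≤ ringKrullDim (X.presheaf.stalk x))) : (FEt.restrict 𝓘.subschemeι).IsEquivalence := by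
  have hff : ∀ K : X.Opens, (𝓘.support : Set X) ⊆ K →
      (FEt.restrict (𝓘.comap K.ι).subschemeι).Full ∧ (FEt.restrict (𝓘.comap K.ι).subschemeι).Faithful :=
    fun K hK => Groth.Agent.S2947.result X 𝓘 h.1 K hK
  have hFF0 : (FEt.restrict 𝓘.subschemeι).Full ∧ (FEt.restrict 𝓘.subschemeι).Faithful := by
    obtain ⟨_, _⟩ := hff ⊤ (by simp)
    obtain ⟨d, hd, hdf⟩ := Groth.LefVanish.exists_iso_of_support_le (⊤ : X.Opens) (K := 𝓘)
      (K' := 𝓘.comap (⊤ : X.Opens).ι) (by simp) rfl
    have := Groth.Pi1Inv.isEquivalence_of_thickening d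
    have : IsIso (⊤ : X.Opens).ι := X.topIso.isIso_hom
    have := Groth.Pi1Inv.isEquivalence_of_thickening (⊤ : X.Opens).ι
    let e1 : FEt.restrict 𝓘.subschemeι ≅ FEt.restrict ((𝓘.comap (⊤ : X.Opens).ι).subschemeι ≫ (⊤ : X.Opens).ι) ⋙
        FEt.restrict d := MorphismProperty.Over.pullbackComp d _ _ hdf.symm
    let e2 : FEt.restrict ((𝓘.comap (⊤ : X.Opens).ι).subschemeι ≫ (⊤ : X.Opens).ι) ≅
        FEt.restrict (⊤ : X.Opens).ι ⋙ FEt.restrict (𝓘.comap (⊤ : X.Opens).ι).subschemeι :=
      MorphismProperty.Over.pullbackComp _ _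
    let e := e1 ≪≫ Functor.isoWhiskerRight e2 (FEt.restrict d)
    exact ⟨Functor.Full.of_iso e.symm, Functor.Faithful.of_iso e.symm⟩
  obtain ⟨_, _⟩ := hFF0
  have : (FEt.restrict 𝓘.subschemeι).EssSurj := by
    refine ⟨fun R => ?_⟩
    obtain ⟨U, R', hU, hR'⟩ := Groth.Agent.S5184.result X 𝓘 h R
    have hFF : ∀ {K : X.Opens} (hUK : U ≤ K),
        (FEt.restrict (X.homOfLE hUK)).Full ∧ (FEt.restrict (X.homOfLE hUK)).Faithful := fun hUK =>
      Groth.LefAlg.restrict_homOfLE_fullyFaithful 𝓘 hff hU hUK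
    obtain ⟨A, γ, hγ⟩ := Groth.LefAlg.exists_glue_sup (R := R') hFF fun V =>
      Groth.LefAlg.nonempty_extTo_sup V fun x hx =>
        purityHolds_of_ringEquiv (V.1.stalkIso x).commRingCatIsoToRingEquiv.symm (hpur U hU x.1 hx)
    let i : 𝓘.subscheme ⟶ (U : Scheme.{u}) := IsOpenImmersion.lift U.ι 𝓘.subschemeι (by
      rw [Scheme.Opens.range_ι, Scheme.IdealSheafData.range_subschemeι]; exact hU)
    have hi : i ≫ U.ι = 𝓘.subschemeι := IsOpenImmersion.lift_fac _ _ _
    obtain ⟨e⟩ := hR' i hi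
    let eA : (FEt.restrict U.ι).obj A ≅ R' :=
      MorphismProperty.Over.isoMk hγ.isoPullback.symm hγ.isoPullback_inv_snd
    exact ⟨A, ⟨(MorphismProperty.Over.pullbackComp i U.ι _ hi.symm).app A ≪≫
      (FEt.restrict i).mapIso eA ≪≫ e⟩⟩
  exact { }

end Groth.Agent.S5185
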