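import Groth.Statements.S5186
import Groth.Agent.CohTwo.QCohExt
import Groth.Agent.CohTwo.ComposeCoh
import Groth.Agent.LocCohZBase.DerivedComp
import Groth.Agent.S0036

set_option autoImplicit false
universe u
open CategoryTheory AlgebraicGeometry
open Coherent

namespace Groth.Agent.S5186

open CategoryTheory AlgebraicGeometry in
theorem closed_isCoh (S : Scheme.{u}) [IsLocallyNoetherian S] :
    Groth.CohTwo.ComposeCoh.Closed (fun M : S.Modules => Coh.IsCoh M) where
  iso e h := Groth.QCohMod.isCoh_of_iso e h
  ker φ hM hN := haveI := hN.1; Groth.QCohMod.isCoh_kernel φ hM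
  coker φ hM hN := haveI := hM.1; Groth.QCohMod.isCoh_cokernel φ hN
  ext {T} hT h₁ h₃ := by
    haveI := h₁.1
    haveI := h₃.1
    haveI := Groth.CohTwo.QCohExt.isQCoh_of_shortExact hT
    exact Groth.QCohMod.isCoh_of_shortExact hT h₁ h₃

/-- Let f : X → S be a proper morphism of schemes with S locally Noetherian, U an open subset of X with
inclusion g : U → X, h = f ∘ g : U → S, F an O_U-module and n ≥ 0. If the higher direct images R^i
g_*(F) are coherent O_X-modules for all i ≤ n, then the higher direct images R^i h_*(F) are coherent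
O_S-modules for all i ≤ n. (The existence of injective resolutions in the module categories is
carried as instance arguments.) -/
theorem result {X S : Scheme.{u}} (f : X ⟶ S) [IsProper f] [IsLocallyNoetherian S] (U : X.Opens) [HasInjectiveResolutions (U : Scheme.{u}).Modules] [HasInjectiveResolutions X.Modules] (F : (U : Scheme.{u}).Modules) (n : ℕ) (hg : ∀ i : ℕ, i ≤ n → Coh.IsCoh ((Coh.Rpush U.ι i).obj F)) (i : ℕ) (hi : i ≤ n) : Coh.IsCoh ((Coh.Rpush (U.ι ≫ f) i).obj F) := by
  let g : (U : Scheme.{u}).Modules ⥤ X.Modules := Scheme.Modules.pushforward U.ι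
  let f' : X.Modules ⥤ S.Modules := Scheme.Modules.pushforward f
  haveI : Limits.PreservesFiniteLimits g :=
    haveI := (Scheme.Modules.restrictAdjunction U.ι).isRightAdjoint; inferInstance
  haveI : Limits.PreservesFiniteLimits (Scheme.Modules.restrictFunctor U.ι) :=
    Groth.CohBase.preservesFiniteLimits_restrictFunctor U.ι
  haveI : g.PreservesInjectiveObjects :=
    Functor.preservesInjectiveObjects_of_adjunction_of_preservesMonomorphisms
      (Scheme.Modules.restrictAdjunction U.ι)
  haveI : Limits.PreservesFiniteLimits f' :=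
    haveI := (Scheme.Modules.pullbackPushforwardAdjunction f).isRightAdjoint; inferInstance
  obtain ⟨L⟩ := Groth.RDerLib.exists_derivedLES f'
  let R := injectiveResolution F
  let K := (g.mapHomologicalComplex (ComplexShape.up ℕ)).obj R.cocomplex
  have hH : ∀ j, j ≤ n → ∀ p, Coh.IsCoh ((f'.rightDerived p).obj (K.homology j)) := fun j hj p =>
    Groth.QCohMod.isCoh_of_iso ((f'.rightDerived p).mapIso (R.isoRightDerivedObj g j))
      (Groth.Agent.S0036.result f _ (hg j hj) p)
  refine Groth.QCohMod.isCoh_of_iso ?_ (Groth.CohTwo.ComposeCoh.mem_homology_map f' (closed_isCoh S) L K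
    (fun k => g.injective_obj (R.cocomplex.X k)) n hH i hi)
  exact (HomologicalComplex.homologyFunctor S.Modules _ i).mapIso
      (Groth.LocCohZBase.DerivedComp.cxIso g f' R.cocomplex).symm ≪≫
    (R.isoRightDerivedObj (g ⋙ f') i).symm ≪≫
    (RDer.rightDerivedIso (Scheme.Modules.pushforwardComp U.ι f) i).app F

end Groth.Agent.S5186
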