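import Groth.Statements.S5191
import Groth.Agent.CohDev.AlgzPrincipal.DepthTwo

set_option autoImplicit false
universe u
open CategoryTheory CategoryTheory.Limits AlgebraicGeometry
open FSch

namespace Groth.Agent.S5191

/-- Existence: for a general closed subset T. Let A be a Noetherian ring which is a quotient of a
regular ring, t an element such that A is separated and complete for the t-adic topology, I an ideal
with T = V(I) and X = Spec A − T (the union of the D(f), f ∈ I). Let 𝔉 be a coherent module on the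
formal completion of X along V(t) ∩ X, given as a system (F_N) of coherent modules on the closed
subschemes X_N = V(t^(N+1)) ∩ X with F_{N+1}|_{X_N} ≅ F_N. Assume (1) t is 𝔉-regular, expressed on
the system by: for every N ≥ 1 the kernel of multiplication by t^N on F_N equals the image of
multiplication by t; and (2) for every point y of X_0 whose closure in Spec A meets T in codimension
exactly one, the stalk of F_0 at y has depth ≥ 2 over O_{X_0,y}. Then there is a coherent O_X-module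
F whose completion along V(t) ∩ X is isomorphic to 𝔉. -/
theorem result (R : Type u) [CommRing R] [IsRegularRing R] (A : Type u) [CommRing A] [IsNoetherianRing A] (π : R →+* A) (hπ : Function.Surjective π) (t : A) [IsAdicComplete (Ideal.span {t}) A] (I : Ideal A) (𝔐 : FSch.ModSys (FSch.completionAlong (↑(⨆ f : ↥I, (Spec (CommRingCat.of A)).basicOpen ((Scheme.ΓSpecIso (CommRingCat.of A)).inv f.1)) : Scheme.{u}) ((Spec.map (CommRingCat.ofHom (Ideal.Quotient.mk (Ideal.span {t})))).ker.comap (⨆ f : ↥I, (Spec (CommRingCat.of A)).basicOpen ((Scheme.ΓSpecIso (CommRingCat.of A)).inv f.1)).ι))) (hcoh : 𝔐.IsCoh) (hreg : ∀ N : ℕ, 1 ≤ N → kernelSubobject (Formal.smulModΓ (𝔐.F N) ((((FSch.completionToX (↑(⨆ f : ↥I, (Spec (CommRingCat.of A)).basicOpen ((Scheme.ΓSpecIso (CommRingCat.of A)).inv f.1)) : Scheme.{u}) ((Spec.map (CommRingCat.ofHom (Ideal.Quotient.mk (Ideal.span {t})))).ker.comap (⨆ f : ↥I, (Spec (CommRingCat.of A)).basicOpen ((Scheme.ΓSpecIso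 (CommRingCat.of A)).inv f.1)).ι) N) ≫ (⨆ f : ↥I, (Spec (CommRingCat.of A)).basicOpen ((Scheme.ΓSpecIso (CommRingCat.of A)).inv f.1)).ι).appTop.hom ((Scheme.ΓSpecIso (CommRingCat.of A)).inv t)) ^ N)) = imageSubobject (Formal.smulModΓ (𝔐.F N) (((FSch.completionToX (↑(⨆ f : ↥I, (Spec (CommRingCat.of A)).basicOpen ((Scheme.ΓSpecIso (CommRingCat.of A)).inv f.1)) : Scheme.{u}) ((Spec.map (CommRingCat.ofHom (Ideal.Quotient.mk (Ideal.span {t})))).ker.comap (⨆ f : ↥I, (Spec (CommRingCat.of A)).basicOpen ((Scheme.ΓSpecIso (CommRingCat.of A)).inv f.1)).ι) N) ≫ (⨆ f : ↥I, (Spec (CommRingCat.of A)).basicOpen ((Scheme.ΓSpecIso (CommRingCat.of A)).inv f.1)).ι).appTop.hom ((Scheme.ΓSpecIso (CommRingCat.of A)).inv t)))) (hdepth : ∀ y : ↥((FSch.completionAlong (↑(⨆ f : ↥I, (Spec (CommRingCat.of A)).basicOpen ((Scheme.ΓSpecIso (CommRingCat.of A)).inv f.1)) : Scheme.{u}) ((Spec.map (CommRingCat.ofHom (Ideal.Quotient.mk (Ideal.span {t})))).ker.comap (⨆ f : ↥I,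 (Spec (CommRingCat.of A)).basicOpen ((Scheme.ΓSpecIso (CommRingCat.of A)).inv f.1)).ι)).X 0), SGA2.relCodim I ((FSch.completionToX (↑(⨆ f : ↥I, (Spec (CommRingCat.of A)).basicOpen ((Scheme.ΓSpecIso (CommRingCat.of A)).inv f.1)) : Scheme.{u}) ((Spec.map (CommRingCat.ofHom (Ideal.Quotient.mk (Ideal.span {t})))).ker.comap (⨆ f : ↥I, (Spec (CommRingCat.of A)).basicOpen ((Scheme.ΓSpecIso (CommRingCat.of A)).inv f.1)).ι) 0 ≫ (⨆ f : ↥I, (Spec (CommRingCat.of A)).basicOpen ((Scheme.ΓSpecIso (CommRingCat.of A)).inv f.1)).ι).base y) = 1 → (2 : ℕ∞) ≤ LocCoh.depth (((FSch.completionAlong (↑(⨆ f : ↥I, (Spec (CommRingCat.of A)).basicOpen ((Scheme.ΓSpecIso (CommRingCat.of A)).inv f.1)) : Scheme.{u}) ((Spec.map (CommRingCat.ofHom (Ideal.Quotient.mk (Ideal.span {t})))).ker.comap (⨆ f : ↥I, (Spec (CommRingCat.of A)).basicOpen ((Scheme.ΓSpecIso (CommRingCat.of A)).inv f.1)).ι)).X 0).presheaf.stalk y) ((𝔐.F 0).presheaf.stalk y)) : ∃ F : (↑(⨆ f : ↥I, (Spec (CommRingCat.of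 A)).basicOpen ((Scheme.ΓSpecIso (CommRingCat.of A)).inv f.1)) : Scheme.{u}).Modules, Coh.IsCoh F ∧ Nonempty (FSch.completionMod ((Spec.map (CommRingCat.ofHom (Ideal.Quotient.mk (Ideal.span {t})))).ker.comap (⨆ f : ↥I, (Spec (CommRingCat.of A)).basicOpen ((Scheme.ΓSpecIso (CommRingCat.of A)).inv f.1)).ι) F ≅ 𝔐) := by
  refine Groth.CohDev.AlgzPrincipal.exists_algebraization_completionMod π hπ t I _ ?_ 𝔐 hcoh hreg hdepth
  ext x
  refine TopologicalSpace.Opens.mem_iSup.trans ⟨fun ⟨f, hf⟩ hx => ?_, fun hx => ?_⟩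
  · rw [basicOpen_eq_of_affine'] at hf
    exact hf (by simpa using hx f.2)
  · obtain ⟨f, hfI, hf⟩ := Set.not_subset.1 hx
    refine ⟨⟨f, hfI⟩, ?_⟩
    rw [basicOpen_eq_of_affine']
    simp only [Iso.inv_hom_id_apply, Scheme.ΓSpecIso]; exact hf

end Groth.Agent.S5191
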