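import Groth.Statements.S5193
import Groth.Agent.LefAlg.RelVan.Leff
import Groth.Agent.LefAlg.RelVan.FibreDepth
import Groth.Agent.LefAlg.QuotSys
import Groth.Agent.LefPic.Global

set_option autoImplicit false
universe u
open CategoryTheory CategoryTheory.Limits AlgebraicGeometry
open LefX

namespace Groth.Agent.S5193

/-- Over an affine base. Let A be a Noetherian ring, X a proper flat A-scheme, 𝓘 a quasi-coherent ideal
whose ideal module is invertible with ample inverse L, such that X_0 = V(𝓘) is also flat over A (so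
X is projective over A and 𝓘 is cut out by a section t of L regular on every fibre); write X_m =
V(𝓘^(m+1)) for the m-th thickening of X_0. Assume that every fibre X_s has depth ≥ 3 at each of its
closed points, and that at every point x outside X_0 which is closed in its fibre the local ring of
the fibre at x is parafactorial. Let m ≥ 0 be such that H^i(X, 𝓘^n/𝓘^(n+1)) = H^i(X_0, O_{X_0}(−n))
vanishes for i = 1, 2 and every n > m (over an affine base this is the vanishing of the higher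
direct images R^i f_{0*}). Then pull-back of invertible modules Pic(X) → Pic(X_m) is bijective:
trivial kernel and surjective on isomorphism classes. -/
theorem result (A : Type u) [CommRing A] [IsNoetherianRing A] (X : Scheme.{u}) [X.Over (Spec (CommRingCat.of A))] [IsProper (X ↘ Spec (CommRingCat.of A))] [Flat (X ↘ Spec (CommRingCat.of A))] (𝓘 : X.IdealSheafData) (L : X.Modules) (hL : ClSub.IsInverseOf L (ClSub.idealMod 𝓘)) (hamp : CohB1.IsAmple L) [Flat (𝓘.subschemeι ≫ (X ↘ Spec (CommRingCat.of A)))] (hdepth : ∀ x : X, IsClosed ({((X ↘ Spec (CommRingCat.of A))).asFiber x} : Set ↥(((X ↘ Spec (CommRingCat.of A))).fiber (((X ↘ Spec (CommRingCat.of A))).base x))) → (3 : ℕ∞) ≤ LocCoh.depth ↑(CInt.fiberStalk (X ↘ Spec (CommRingCat.of A)) x) ↑(CInt.fiberStalk (X ↘ Spec (CommRingCat.of A)) x)) (hpf : ∀ x : X, IsClosed ({((X ↘ Spec (CommRingCat.of A))).asFiber x} : Set ↥(((X ↘ Spec (CommRingCat.of A))).fiber (((X ↘ Spec (CommRingCat.of A))).base x))) → x ∉ (𝓘.support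 : Set X) → ParaF.IsParafactorialLocalRing ↑(CInt.fiberStalk (X ↘ Spec (CommRingCat.of A)) x)) (m : ℕ) (hH : ∀ n : ℕ, m < n → ∀ i : ℕ, (i = 1 ∨ i = 2) → Subsingleton (Coh.HH X ((DCoh.tensorBi.obj (CohB1.tensorPow (ClSub.idealMod 𝓘) n)).obj (ClSub.quotMod 𝓘)) i)) : Formal2.PicPullbackInjective (𝓘 ^ (m + 1)).subschemeι ∧ Formal2.PicPullbackSurjective (𝓘 ^ (m + 1)).subschemeι := by
  classical
  let f := X ↘ Spec (CommRingCat.of A)
  have : IsLocallyNoetherian X := LocallyOfFiniteType.isLocallyNoetherian f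
  have hC : BlowUp.IsEffCartierIdeal 𝓘 :=
    Groth.PicAux.isEffCartierIdeal_of_isInvertible (Groth.PicAux.isInvertible_of_isInverseOf hamp.1 hL)
  have hker : ∀ i, (i = 1 ∨ i = 2) → ∀ n : ℕ, m ≤ n →
      Subsingleton (Coh.HH X (kernel (Lef.quotMap (Lef.pow_succ_le 𝓘 n))) i) := fun i hi n hn =>
    (Groth.EulerDeg.hEquiv A (Groth.LefAlg.nonempty_kernel_quotMap hC n).some i).toEquiv.subsingleton_congr.2
      (hH (n + 1) (by omega) i hi)
  have hd0 : ∀ y : ↥(𝓘.subscheme), IsClosed ({(𝓘.subschemeι ≫ f).asFiber y} :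
      Set ↥((𝓘.subschemeι ≫ f).fiber ((𝓘.subschemeι ≫ f).base y))) →
      (2 : ℕ∞) ≤ LocCoh.depth ↑(CInt.fiberStalk (𝓘.subschemeι ≫ f) y)
        ↑(CInt.fiberStalk (𝓘.subschemeι ≫ f) y) := fun y hy => by
    have h1 := hdepth _ (Groth.RelVan.isClosed_asFiber_comp f 𝓘.subschemeι y hy)
    have h2 : (2 : ℕ∞) + 1 ≤ LocCoh.depth ↑(CInt.fiberStalk (𝓘.subschemeι ≫ f) y)
        ↑(CInt.fiberStalk (𝓘.subschemeι ≫ f) y) + 1 :=
      h1.trans (Groth.RelVan.depth_fiberStalk_divisor f 𝓘 hC y).ge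
    exact (ENat.add_le_add_iff_right ENat.one_ne_top).1 h2
  have hd : ∀ x : X, IsClosed ({f.asFiber x} : Set ↥(f.fiber (f.base x))) →
      (2 : ℕ∞) ≤ LocCoh.depth ↑(CInt.fiberStalk f x) ↑(CInt.fiberStalk f x) :=
    fun x hx => (by norm_num : (2 : ℕ∞) ≤ 3).trans (hdepth x hx)
  have hLeff := Groth.RelVan.leffCond_rel (A := A) 𝓘 L hL hamp hd0 hd
  have hpara : ∀ U : X.Opens, (𝓘.support : Set X) ⊆ (U : Set X) → ∀ x : X, x ∉ U →
      ParaF.IsParafactorialLocalRing (X.presheaf.stalk x) := fun U hU x hx => by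
    have hxc := Groth.RelVan.isClosed_asFiber_of_notMem (A := A) 𝓘 L hL hamp U hU x hx
    exact Groth.RelVan.isParafactorial_stalk f x (hdepth x hxc) (hpf x hxc fun h => hx (hU h))
  exact ⟨Groth.LefPic.injective_pic_thickening 𝓘 m hLeff.1 (hker 1 (Or.inl rfl)),
    Groth.LefPic.surjective_pic_thickening 𝓘 m hLeff (hker 2 (Or.inr rfl)) hpara⟩
end Groth.Agent.S5193
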