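import Groth.Statements.S5195
import Groth.Agent.PropsBasic.AmpleUnivClosed
import Groth.Agent.PicAux.EffCartierSection
import Groth.Agent.PicAux.EffCartierLine
import Groth.Agent.GitQuot.Slice.Local
import Groth.Agent.Ega4Algebra2.SchemeFibre

set_option autoImplicit false
universe u
open CategoryTheory CategoryTheory.Limits AlgebraicGeometry
open Lef

namespace Groth.Agent.S5195

/-- For the structure sheaf, with the key step of its proof made explicit. Let A be a Noetherian ring, X
a proper A-scheme and 𝓘 a quasi-coherent ideal whose ideal module is invertible with ample inverse L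
(Y = V(𝓘) is an ample effective Cartier divisor), and let Z be a closed subset of X not meeting Y.
Then (1) every point of Z is closed in its fibre over Spec A (indeed Z is finite over A, being
proper and contained in the affine X − Y); and (2) if moreover X is flat over A and for every s the
fibre X_s has depth ≥ n at each of its closed points, then the local ring O_{X,z} has depth ≥ n at
every point z of Z. (The published statement allows any coherent module flat over the base whose
fibres have depth ≥ n at closed points; this row takes the structure sheaf.) -/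
theorem result (A : Type u) [CommRing A] [IsNoetherianRing A] (X : Scheme.{u}) [X.Over (Spec (CommRingCat.of A))] [IsProper (X ↘ Spec (CommRingCat.of A))] (𝓘 : X.IdealSheafData) (L : X.Modules) (hL : ClSub.IsInverseOf L (ClSub.idealMod 𝓘)) (hamp : CohB1.IsAmple L) (Z : Set X) (hZ : IsClosed Z) (hZY : Disjoint Z (𝓘.support : Set X)) (n : ℕ) : (∀ z : X, z ∈ Z → IsClosed ({((X ↘ Spec (CommRingCat.of A))).asFiber z} : Set ↥(((X ↘ Spec (CommRingCat.of A))).fiber (((X ↘ Spec (CommRingCat.of A))).base z)))) ∧ (Flat (X ↘ Spec (CommRingCat.of A)) → (∀ x : X, IsClosed ({((X ↘ Spec (CommRingCat.of A))).asFiber x} : Set ↥(((X ↘ Spec (CommRingCat.of A))).fiber (((X ↘ Spec (CommRingCat.of A))).base x))) → (n : ℕ∞) ≤ LocCoh.depth ↑(CInt.fiberStalk (X ↘ Spec (CommRingCat.of A)) x) ↑(CInt.fiberStalk (X ↘ Spec (CommRingCat.of A)) x)) → ∀ z : X, z ∈ Z → (n : ℕ∞) ≤ LocCoh.depth (X.presheaf.stalk z) (X.presheaf.stalk z)) := by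
  let f := X ↘ Spec (CommRingCat.of A)
  have : IsLocallyNoetherian X := LocallyOfFiniteType.isLocallyNoetherian f
  have hC := Groth.PicAux.isEffCartierIdeal_of_isInvertible
    (Groth.PicAux.isInvertible_of_isInverseOf hamp.1 hL)
  obtain ⟨s, hs, -⟩ := Groth.PicAux.exists_section_zeroScheme_eq hC hL
  have haff : IsAffineOpen (CohB1.genLocus L s) := by
    rw [Groth.PropsBasic.Ample.genLocus_eq_gloc]
    exact Groth.PropsBasic.Ample.isAffineOpen_gloc_of_universallyClosed f hamp _
  let I := Scheme.IdealSheafData.vanishingIdeal (⟨Z, hZ⟩ : TopologicalSpace.Closeds X)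
  have hI : Set.range I.subschemeι = Z := by
    rw [Scheme.IdealSheafData.range_subschemeι, Scheme.IdealSheafData.coe_support_vanishingIdeal]
    rfl
  have hr : Set.range I.subschemeι ⊆ Set.range (CohB1.genLocus L s).ι := by
    rw [hI, Scheme.Opens.range_ι]
    intro x hx
    rw [SetLike.mem_coe, Groth.PicAux.mem_genLocus_iff_not_mem_support hamp.1, hs]
    exact Set.disjoint_left.1 hZY hx
  let ℓ := IsOpenImmersion.lift (CohB1.genLocus L s).ι I.subschemeι hr
  have : IsClosedImmersion (ℓ ≫ (CohB1.genLocus L s).ι) := by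
    rw [IsOpenImmersion.lift_fac]; infer_instance
  have : IsClosedImmersion ℓ := IsClosedImmersion.of_comp ℓ (CohB1.genLocus L s).ι
  have : IsAffine (CohB1.genLocus L s).toScheme := haff
  have : IsAffine I.subscheme := isAffine_of_isAffineHom ℓ
  let q := I.subschemeι ≫ f
  have : IsFinite q := (IsFinite.iff_isProper_and_isAffineHom (f := q)).2 ⟨inferInstance, inferInstance⟩
  have h1 : ∀ z : X, z ∈ Z → IsClosed ({f.asFiber z} : Set (f.fiber (f z))) := by
    intro z hz
    rw [Groth.GrpdSlice.isClosed_asFiber_iff]
    intro z' hz' hsp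
    have hzZ : z ∈ Set.range I.subschemeι := by rw [hI]; exact hz
    have hz'Z : z' ∈ Set.range I.subschemeι := by rw [hI]; exact hsp.mem_closed hZ hz
    obtain ⟨w, rfl⟩ := hzZ
    obtain ⟨w', rfl⟩ := hz'Z
    have := (q.isDiscrete_preimage_singleton (q w)).to_subtype
    let a : q ⁻¹' {q w} := ⟨w, rfl⟩
    let b : q ⁻¹' {q w} := ⟨w', hz'⟩
    have hab : a ⤳ b := (subtype_specializes_iff a b).2
      (I.subschemeι.isEmbedding.toIsInducing.specializes_iff.1 hsp)
    exact congrArg (fun t : q ⁻¹' {q w} => I.subschemeι t.1) (Specializes.eq hab).symm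
  refine ⟨h1, fun hflat hd z hz => ?_⟩
  rw [Groth.Ega4b.depth_stalk_eq_add f z]
  exact (hd z (h1 z hz)).trans le_add_self
end Groth.Agent.S5195
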