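import Groth.Statements.S5194
import Groth.Agent.S5184
import Groth.Agent.S2947
import Groth.Agent.S3361
import Groth.Agent.S5195
import Groth.Agent.LefAlg.Extend
import Groth.Agent.ParaLift82.FlatPurity
import Groth.Agent.ParaLift82.PurePairLift
import Groth.Agent.RefRank.RelDiv
import Groth.Agent.GitQuot.Slice.Local
import Groth.Agent.Ega4Algebra2.SchemeFibre

set_option autoImplicit false
universe u
open CategoryTheory CategoryTheory.Limits AlgebraicGeometry
open LefX

namespace Groth.Agent.S5194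

set_option backward.isDefEq.respectTransparency false

open IsLocalRing

/-- Restriction to `Y` is an equivalence under Leff and purity at the points away from `Y`. -/
theorem restrict_isEquivalence_of_pure {X : Scheme.{u}} [IsLocallyNoetherian X] {𝓘 : X.IdealSheafData}
    (h : LefX.LeffCond X 𝓘)
    (hpur : ∀ U : X.Opens, (𝓘.support : Set X) ⊆ (U : Set X) → ∀ x : X, x ∉ U →
      FEt.PurityHolds (X.presheaf.stalk x)) : (FEt.restrict 𝓘.subschemeι).IsEquivalence := by
  have hff : ∀ K : X.Opens, (𝓘.support : Set X) ⊆ K →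
      (FEt.restrict (𝓘.comap K.ι).subschemeι).Full ∧ (FEt.restrict (𝓘.comap K.ι).subschemeι).Faithful :=
    fun K hK => Groth.Agent.S2947.result X 𝓘 h.1 K hK
  have hFF0 : (FEt.restrict 𝓘.subschemeι).Full ∧ (FEt.restrict 𝓘.subschemeι).Faithful := by
    obtain ⟨_, _⟩ := hff ⊤ (by simp)
    obtain ⟨d, hd, hdf⟩ := Groth.LefVanish.exists_iso_of_support_le (⊤ : X.Opens) (K := 𝓘)
      (K' := 𝓘.comap (⊤ : X.Opens).ι) (by simp) rfl
    have := Groth.Pi1Inv.isEquivalence_of_thickening d
    have : IsIso (⊤ : X.Opens).ι := X.topIso.isIso_hom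
    have := Groth.Pi1Inv.isEquivalence_of_thickening (⊤ : X.Opens).ι
    let e1 : FEt.restrict 𝓘.subschemeι ≅ FEt.restrict ((𝓘.comap (⊤ : X.Opens).ι).subschemeι ≫ (⊤ : X.Opens).ι) ⋙
        FEt.restrict d := MorphismProperty.Over.pullbackComp d _ _ hdf.symm
    let e2 : FEt.restrict ((𝓘.comap (⊤ : X.Opens).ι).subschemeι ≫ (⊤ : X.Opens).ι) ≅
        FEt.restrict (⊤ : X.Opens).ι ⋙ FEt.restrict (𝓘.comap (⊤ : X.Opens).ι).subschemeι :=
      MorphismProperty.Over.pullbackComp _ _
    let e := e1 ≪≫ Functor.isoWhiskerRight e2 (FEt.restrict d)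
    exact ⟨Functor.Full.of_iso e.symm, Functor.Faithful.of_iso e.symm⟩
  obtain ⟨_, _⟩ := hFF0
  have : (FEt.restrict 𝓘.subschemeι).EssSurj := by
    refine ⟨fun R => ?_⟩
    obtain ⟨U, R', hU, hR'⟩ := Groth.Agent.S5184.result X 𝓘 h R
    have hFF : ∀ {K : X.Opens} (hUK : U ≤ K),
        (FEt.restrict (X.homOfLE hUK)).Full ∧ (FEt.restrict (X.homOfLE hUK)).Faithful := fun hUK =>
      Groth.LefAlg.restrict_homOfLE_fullyFaithful 𝓘 hff hU hUK
    obtain ⟨A, γ, hγ⟩ := Groth.LefAlg.exists_glue_sup (R := R') hFF fun V =>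
      Groth.LefAlg.nonempty_extTo_sup V fun x hx =>
        Groth.Pi1Formal.purityHolds_of_ringEquiv (V.1.stalkIso x).commRingCatIsoToRingEquiv.symm (hpur U hU x.1 hx)
    let i : 𝓘.subscheme ⟶ (U : Scheme.{u}) := IsOpenImmersion.lift U.ι 𝓘.subschemeι (by
      rw [Scheme.Opens.range_ι, Scheme.IdealSheafData.range_subschemeι]; exact hU)
    have hi : i ≫ U.ι = 𝓘.subschemeι := IsOpenImmersion.lift_fac _ _ _
    obtain ⟨e⟩ := hR' i hi
    let eA : (FEt.restrict U.ι).obj A ≅ R' :=
      MorphismProperty.Over.isoMk hγ.isoPullback.symm hγ.isoPullback_inv_snd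
    exact ⟨A, ⟨(MorphismProperty.Over.pullbackComp i U.ι _ hi.symm).app A ≪≫
      (FEt.restrict i).mapIso eA ≪≫ e⟩⟩
  exact { }

variable {X S : Scheme.{u}} (f : X ⟶ S) [IsLocallyNoetherian X] [IsLocallyNoetherian S]

/-- Purity of the fibre gives purity of the local ring. -/
theorem purityHolds_stalk [Flat f] (x : X)
    (hd : (3 : ℕ∞) ≤ LocCoh.depth (CInt.fiberStalk f x) (CInt.fiberStalk f x))
    (h0 : FEt.PurityHolds (CInt.fiberStalk f x)) : FEt.PurityHolds (X.presheaf.stalk x) := by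
  letI := (f.stalkMap x).hom.toAlgebra
  haveI : IsLocalHom (algebraMap (S.presheaf.stalk (f x)) (X.presheaf.stalk x)) :=
    inferInstanceAs (IsLocalHom (f.stalkMap x).hom)
  haveI : Module.Flat (S.presheaf.stalk (f x)) (X.presheaf.stalk x) := Flat.stalkMap f x
  obtain ⟨e⟩ := Groth.Ega4b.nonempty_fiberStalk_equiv f x
  haveI : IsLocalRing (X.presheaf.stalk x ⧸
      (maximalIdeal (S.presheaf.stalk (f x))).map (algebraMap (S.presheaf.stalk (f x)) (X.presheaf.stalk x))) :=
    e.symm.isLocalRing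
  have : IsNoetherianRing (CInt.fiberStalk f x) := isNoetherianRing_of_ringEquiv _ e
  exact Groth.ParaLift82.purityHolds_of_flat_fibre
    (hd.trans (Groth.ParaFormal.FsReduce.depth_le_of_ringEquiv e.symm))
    (Groth.Pi1Formal.purityHolds_of_ringEquiv e.symm h0)

/-- Fibre depth of a relatively flat divisor. -/
theorem depth_fiberStalk_divisor {𝓘 : X.IdealSheafData} (h𝓘 : BlowUp.IsEffCartierIdeal 𝓘)
    [Flat (𝓘.subschemeι ≫ f)] (y : ↥𝓘.subscheme) :
    LocCoh.depth (CInt.fiberStalk f (𝓘.subschemeι y)) (CInt.fiberStalk f (𝓘.subschemeι y)) =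
      LocCoh.depth (CInt.fiberStalk (𝓘.subschemeι ≫ f) y) (CInt.fiberStalk (𝓘.subschemeι ≫ f) y) + 1 := by
  obtain ⟨V, hV, hxV, -⟩ := exists_isAffineOpen_mem_and_subset (U := (⊤ : X.Opens))
    (x := 𝓘.subschemeι y) trivial
  obtain ⟨t, ht, hspan⟩ := Groth.RefRank.RelDiv.exists_stalk_gen h𝓘 (V := ⟨V, hV⟩) hxV
  have hσ : Function.Surjective (𝓘.subschemeι.stalkMap y).hom := 𝓘.subschemeι.stalkMap_surjective y
  have hker : RingHom.ker (𝓘.subschemeι.stalkMap y).hom = Ideal.span {t} := by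
    rw [Groth.Ega4b.ker_stalkMap_eq_map 𝓘.subschemeι hV y hxV, Scheme.IdealSheafData.ker_subschemeι]
    exact hspan
  have htm : t ∈ maximalIdeal (X.presheaf.stalk (𝓘.subschemeι y)) :=
    (IsLocalRing.le_maximalIdeal (RingHom.ker_ne_top _)) (hker.ge (Ideal.mem_span_singleton_self t))
  obtain ⟨e1⟩ := Groth.Ega4b.nonempty_fiberStalk_equiv f (𝓘.subschemeι y)
  obtain ⟨e2⟩ := Groth.Ega4b.nonempty_fiberStalk_equiv (𝓘.subschemeι ≫ f) y
  have hcomp : ((𝓘.subschemeι ≫ f).stalkMap y).hom =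
      (𝓘.subschemeι.stalkMap y).hom.comp (f.stalkMap (𝓘.subschemeι y)).hom := by
    rw [Scheme.Hom.stalkMap_comp]
    rfl
  have hflat : ((𝓘.subschemeι.stalkMap y).hom.comp (f.stalkMap (𝓘.subschemeι y)).hom).Flat :=
    hcomp ▸ Flat.stalkMap (𝓘.subschemeι ≫ f) y
  let e2' := (Ideal.quotEquivOfEq (congrArg
    (fun φ => (maximalIdeal (S.presheaf.stalk (f (𝓘.subschemeι y)))).map φ) hcomp).symm).trans e2
  have := e1.symm.isLocalRing
  have := e2'.symm.isLocalRing
  rw [← Groth.Ega4b.depth_eq_of_ringEquiv e1, ← Groth.Ega4b.depth_eq_of_ringEquiv e2']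
  exact Groth.ParaLift82.depth_fibre_divisor _ _ hσ hker htm ht hflat

/-- Over an affine base. Let A be a Noetherian ring, X a proper flat A-scheme, 𝓘 a quasi-coherent ideal
whose ideal module is invertible with ample inverse L, such that X_0 = V(𝓘) is also flat over A (X
projective over A, 𝓘 cut out by a section of L regular on every fibre). Assume that every fibre X_s
has depth ≥ 3 at each of its closed points, and that at every point x outside X_0 which is closed in
its fibre the local ring of the fibre X_s at x is pure: for every open V of its spectrum,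
restriction of finite étale covers from V to V minus the closed point is an equivalence (for
instance a complete intersection, of dimension ≥ 3 here). Then restriction of finite étale covers
from X to X_0 is an equivalence of categories; in particular π_1(X_0) → π_1(X) is an isomorphism for
a geometric base point on X_0. -/
theorem result (A : Type u) [CommRing A] [IsNoetherianRing A] (X : Scheme.{u}) [X.Over (Spec (CommRingCat.of A))] [IsProper (X ↘ Spec (CommRingCat.of A))] [Flat (X ↘ Spec (CommRingCat.of A))] (𝓘 : X.IdealSheafData) (L : X.Modules) (hL : ClSub.IsInverseOf L (ClSub.idealMod 𝓘)) (hamp : CohB1.IsAmple L) [Flat (𝓘.subschemeι ≫ (X ↘ Spec (CommRingCat.of A)))] (hdepth : ∀ x : X, IsClosed ({((X ↘ Spec (CommRingCat.of A))).asFiber x} : Set ↥(((X ↘ Spec (CommRingCat.of A))).fiber (((X ↘ Spec (CommRingCat.of A))).base x))) → (3 : ℕ∞) ≤ LocCoh.depth ↑(CInt.fiberStalk (X ↘ Spec (CommRingCat.of A)) x) ↑(CInt.fiberStalk (X ↘ Spec (CommRingCat.of A)) x)) (hpure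 : ∀ x : X, IsClosed ({((X ↘ Spec (CommRingCat.of A))).asFiber x} : Set ↥(((X ↘ Spec (CommRingCat.of A))).fiber (((X ↘ Spec (CommRingCat.of A))).base x))) → x ∉ (𝓘.support : Set X) → SGA2.IsPurePair (Spec (CommRingCat.of ↑(CInt.fiberStalk (X ↘ Spec (CommRingCat.of A)) x))) (FEt.puncturedSpec ↑(CInt.fiberStalk (X ↘ Spec (CommRingCat.of A)) x))) : (FEt.restrict 𝓘.subschemeι).IsEquivalence := by
  let f := X ↘ Spec (CommRingCat.of A)
  have : IsLocallyNoetherian X := LocallyOfFiniteType.isLocallyNoetherian f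
  have hC := Groth.PicAux.isEffCartierIdeal_of_isInvertible
    (Groth.PicAux.isInvertible_of_isInverseOf hamp.1 hL)
  have hclosed : ∀ y : ↥𝓘.subscheme, IsClosed ({(𝓘.subschemeι ≫ f).asFiber y} :
      Set ↥((𝓘.subschemeι ≫ f).fiber ((𝓘.subschemeι ≫ f).base y))) →
      IsClosed ({f.asFiber (𝓘.subschemeι y)} : Set ↥(f.fiber (f.base (𝓘.subschemeι y)))) := by
    intro y hy
    rw [Groth.GrpdSlice.isClosed_asFiber_iff] at hy ⊢
    intro x' hx' hsp
    obtain ⟨y', rfl⟩ : x' ∈ Set.range 𝓘.subschemeι :=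
      hsp.mem_closed 𝓘.subschemeι.isClosedEmbedding.isClosed_range ⟨y, rfl⟩
    exact congrArg _ (hy y' hx' (𝓘.subschemeι.isEmbedding.toIsInducing.specializes_iff.1 hsp))
  have hleff : LefX.LeffCond X 𝓘 := Groth.Agent.S3361.result A X 𝓘 L hL hamp
    (fun y hy => by
      have h3 := hdepth _ (hclosed y hy)
      rw [depth_fiberStalk_divisor f hC y] at h3
      exact (ENat.add_le_add_iff_right ENat.one_ne_top).1
        (le_trans (by norm_num) h3 : (2 : ℕ∞) + 1 ≤ _))
    (fun x hx => le_trans (by norm_num) (hdepth x hx))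
  refine restrict_isEquivalence_of_pure hleff fun U hU x hx => ?_
  have hdis : Disjoint ((U : Set X)ᶜ) (𝓘.support : Set X) :=
    Set.disjoint_left.2 fun z hz hz' => hz (hU hz')
  have hcl := (Groth.Agent.S5195.result A X 𝓘 L hL hamp _ U.isOpen.isClosed_compl hdis 0).1 x hx
  have hnot : x ∉ (𝓘.support : Set X) := fun h' => hx (hU h')
  have hp := (Groth.ParaLift82.isPurePair_punctured_iff _).1 (hpure x hcl hnot)
  exact purityHolds_stalk f x (hdepth x hcl) (by unfold FEt.PurityHolds; infer_instance)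

end Groth.Agent.S5194
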