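import Groth.Statements.S5201
import Groth.Agent.EtDepthLib.LocConstDepth

set_option autoImplicit false
set_option backward.isDefEq.respectTransparency.types false
universe u
open CategoryTheory CategoryTheory.Limits AlgebraicGeometry Opposite
open EtDepth

namespace Groth.Agent.S5201

/-- For a finite locally constant sheaf and a single prime ℓ. Let X be a scheme, j : U → X a
quasi-compact open immersion (U retrocompact in X) with closed complement Y, ℓ a prime and n ≥ 0,
and suppose the Y-étale depth of X for ℓ is ≥ n, i.e. the local cohomology sheaves H^p_Y(Z/ℓ) vanish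
for p < n. Then for every finite locally constant abelian sheaf F on the small étale site of X which
is ℓ-torsion (every section étale-locally killed by a power of ℓ), the Y-étale depth of F is ≥ n. -/
theorem result {X U : Scheme.{u}} (j : U ⟶ X) [IsOpenImmersion j] [QuasiCompact j] [EtCoh.BCCont j] (ℓ : ℕ) (hℓ : ℓ.Prime) (n : ℕ) (hX : EtDepth.DepthGE j (EtCoh.const X (ZMod ℓ)) n) (F : EtCoh.Ab X) (hFlc : EtCoh.IsFiniteLocallyConstant F) (hFt : EtDepth.IsLTorsion ℓ F) : EtDepth.DepthGE j F n := Groth.EtDepthLib.depthGE_of_const j ℓ hℓ n hX F hFlc hFt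

end Groth.Agent.S5201
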