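import Groth.Statements.S5210
import Groth.Agent.CategoryFibred.EffEpi

set_option autoImplicit false
open CategoryTheory CategoryTheory.Limits
universe w v₁ u₁
open DescCat

namespace Groth.Agent.S5210

/-- In a category with pullbacks, let `f : S' ⟶ S` be a universal effective epimorphism (all of its base
changes are effective epimorphisms) and `Y ⟶ S` a monomorphism. Then an object `X` over `S` admits a
morphism to `Y` over `S` if and only if it does so after base change along `f`. -/
theorem result {C : Type u₁} [Category.{v₁} C] [HasPullbacks C]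
    {S' S : C} (f : S' ⟶ S) (hf : (MorphismProperty.universally (fun (A B : C) (p : A ⟶ B) => EffectiveEpi p)) f) (X Y : Over S) [Mono Y.hom] :
    Nonempty (X ⟶ Y) ↔ Nonempty ((Over.pullback f).obj X ⟶ (Over.pullback f).obj Y) := by
  refine ⟨fun ⟨k⟩ => ⟨(Over.pullback f).map k⟩, fun ⟨k⟩ => ?_⟩
  let q := pullback.fst X.hom f
  have hq : Groth.CatFib.UEE C q := Groth.CatFib.UEE.of_isPullback hf (IsPullback.of_hasPullback X.hom f)
  have := hq.effectiveEpi
  let e : pullback X.hom f ⟶ Y.left := k.left ≫ pullback.fst Y.hom f
  have hk : k.left ≫ pullback.snd Y.hom f = pullback.snd X.hom f := Over.w k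
  have he : e ≫ Y.hom = q ≫ X.hom := by
    simp only [e, q, Category.assoc, pullback.condition, reassoc_of% hk]
  let d := EffectiveEpi.desc q e fun g₁ g₂ h => by
    rw [← cancel_mono Y.hom, Category.assoc g₁, Category.assoc g₂, he, reassoc_of% h]
  exact ⟨Over.homMk d (by rw [← cancel_epi q, EffectiveEpi.fac_assoc, he])⟩

end Groth.Agent.S5210
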