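import Groth.Statements.S5211
import Groth.Agent.CategoryFibred.EffEpi

set_option autoImplicit false
open CategoryTheory CategoryTheory.Limits
universe w v₁ u₁
open DescCat

namespace Groth.Agent.S5211

/-- In a category with pullbacks: if `f : S' ⟶ S` is a universal effective epimorphism and the canonical
map `S' ×_S S' ⟶ S' ×_T S'` induced by `g : S ⟶ T` is an isomorphism, then `g` is a monomorphism. -/
theorem result {C : Type u₁} [Category.{v₁} C] [HasPullbacks C]
    {S' S T : C} (f : S' ⟶ S) (hf : (MorphismProperty.universally (fun (A B : C) (p : A ⟶ B) => EffectiveEpi p)) f) (g : S ⟶ T)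
    [IsIso (pullback.mapDesc f f g)] : Mono g := by
  refine ⟨fun {Z} a b hab => ?_⟩
  obtain ⟨Z', q, c, d, hq, hc, hd⟩ :=
    Groth.CatFib.exists_double_cover (Groth.CatFib.UEE.universally_epi hf) a b
  let w : Z' ⟶ pullback (f ≫ g) (f ≫ g) :=
    pullback.lift c d (by rw [reassoc_of% hc, reassoc_of% hd, hab])
  let t := w ≫ inv (pullback.mapDesc f f g)
  have ht : t ≫ pullback.mapDesc f f g = w := by simp [t]
  have h₁ : t ≫ pullback.fst f f = c := by
    have := congrArg (fun k => k ≫ pullback.fst _ _) ht
    simpa [w, pullback.mapDesc, pullback.map, pullback.lift_fst, pullback.lift_snd] using this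
  have h₂ : t ≫ pullback.snd f f = d := by
    have := congrArg (fun k => k ≫ pullback.snd _ _) ht
    simpa [w, pullback.mapDesc, pullback.map, pullback.lift_fst, pullback.lift_snd] using this
  rw [← cancel_epi q, ← hc, ← hd, ← h₁, ← h₂, Category.assoc, Category.assoc, pullback.condition]
  simp [t]

end Groth.Agent.S5211
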