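import Groth.Statements.S5212
import Mathlib.RingTheory.LocalRing.ResidueField.Fiber
import Mathlib.LinearAlgebra.Charpoly.BaseChange
import Mathlib.LinearAlgebra.Determinant
open scoped TensorProduct
-- import your own Groth.Agent.* helpers here

set_option autoImplicit false
universe u
open GrpQ

namespace Groth.Agent.S5212

/-- For `A'` finite and free as an `A`-module, a prime `p` of `A` and `a ∈ A'`, the element `a` belongs
to some prime of `A'` lying over `p` if and only if its norm belongs to `p`. (The published
statement allows `A'` projective of constant rank over `A`; this row takes `A'` free, where the norm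
is the determinant of multiplication.) -/
theorem result {A A' : Type u} [CommRing A] [CommRing A'] [Algebra A A']
    [Module.Free A A'] [Module.Finite A A'] (p : Ideal A) [p.IsPrime] (a : A') :
    (∃ q : Ideal A', q.IsPrime ∧ q.LiesOver p ∧ a ∈ q) ↔ Algebra.norm A a ∈ p := by
  have hdet : algebraMap A p.ResidueField (Algebra.norm A a) = 0 ↔
      ¬ IsUnit ((1 : p.ResidueField) ⊗ₜ[A] a : p.Fiber A') := by
    rw [Algebra.norm_apply, ← LinearMap.det_baseChange,
      Algebra.baseChange_lmul]
    constructor
    · intro h hu
      have := (hu.map (Algebra.lmul p.ResidueField (p.Fiber A')))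
      rw [LinearMap.isUnit_iff_isUnit_det, h] at this
      exact not_isUnit_zero this
    · intro h
      by_contra hne
      apply h
      have := (LinearMap.isUnit_iff_isUnit_det _).mpr (Ne.isUnit hne)
      obtain ⟨y, hy⟩ := ((Module.End.isUnit_iff _).mp this).surjective 1
      exact IsUnit.of_mul_eq_one y hy
  rw [Ideal.algebraMap_residueField_eq_zero] at hdet
  rw [hdet]
  constructor
  · rintro ⟨q, hq, hqp, ha⟩ hu
    let e := PrimeSpectrum.primesOverOrderIsoFiber A A' p
    have hQ := congrArg Subtype.val (e.symm_apply_apply ⟨q, hq, hqp⟩)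
    have hmem : ((1 : p.ResidueField) ⊗ₜ[A] a) ∈ (e ⟨q, hq, hqp⟩).asIdeal := by
      have h' : a ∈ (e.symm (e ⟨q, hq, hqp⟩)).1 := by rw [hQ]; exact ha
      exact h'
    exact (e ⟨q, hq, hqp⟩).isPrime.ne_top (Ideal.eq_top_of_isUnit_mem _ hmem hu)
  · intro hnu
    obtain ⟨m, hm, ham⟩ := exists_max_ideal_of_mem_nonunits hnu
    let P := (PrimeSpectrum.primesOverOrderIsoFiber A A' p).symm ⟨m, hm.isPrime⟩
    exact ⟨P.1, P.2.1, P.2.2, ham⟩

end Groth.Agent.S5212
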