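import Groth.Statements.S5213
import Mathlib
import Groth.Agent.GitQuot.AffGpd.Semilocal
-- import your own Groth.Agent.* helpers here

set_option autoImplicit false
universe u
open GrpQ

namespace Groth.Agent.S5213

/-- Let `B` be a local ring with infinite residue field, `A` a semi-local ring, `B → A` a ring map
carrying the maximal ideal of `B` into the Jacobson radical of `A`, `M` a finite free `A`-module and
`N` a `B`-submodule of `M` generating `M` as an `A`-module. Then `N` contains a basis of `M` over
`A`. -/
theorem result {B A M : Type u} [CommRing B] [CommRing A]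
    [IsLocalRing B] [Infinite (IsLocalRing.ResidueField B)] [Algebra B A]
    [Finite (MaximalSpectrum A)]
    (hBA : (IsLocalRing.maximalIdeal B).map (algebraMap B A) ≤ (⊥ : Ideal A).jacobson)
    [AddCommGroup M] [Module A M] [Module B M] [IsScalarTower B A M]
    [Module.Free A M] [Module.Finite A M]
    (N : Submodule B M) (hN : Submodule.span A (N : Set M) = ⊤) :
    ∃ b : Module.Basis (Fin (Module.finrank A M)) A M, ∀ i, b i ∈ N := by
  classical
  by_cases hA : Subsingleton A
  · have : Subsingleton M := Module.subsingleton A M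
    exact ⟨.ofRepr (LinearEquiv.ofSubsingleton _ _), fun i => by convert N.zero_mem⟩
  have := not_subsingleton_iff_nontrivial.1 hA
  let b := Module.finBasis A M
  let e : M ≃ₗ[A] (Fin (Module.finrank A M) → A) := b.equivFun
  have hmax : {I : Ideal A | I.IsMaximal}.Finite := by
    rw [← MaximalSpectrum.range_asIdeal]; exact Set.finite_range _
  obtain ⟨x, hx, hdet⟩ := Groth.GitQuot.Semilocal.exists_isUnit_det hmax
    (N.map (e.toLinearMap.restrictScalars B)) (by
      rw [Submodule.map_coe]
      change Submodule.span A (e '' (N : Set M)) = ⊤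
      rw [← LinearEquiv.coe_coe, ← Submodule.map_span, hN, Submodule.map_top, LinearEquiv.range])
  have hu : IsUnit (Matrix.of x) := (Matrix.isUnit_iff_isUnit_det _).2 hdet
  have hli : LinearIndependent A x := Matrix.linearIndependent_rows_of_isUnit hu
  have hsp : ⊤ ≤ Submodule.span A (Set.range x) := by
    intro v _
    obtain ⟨u, hu⟩ := hu
    rw [Submodule.mem_span_range_iff_exists_fun]
    refine ⟨Matrix.vecMul v (↑u⁻¹ : Matrix _ _ A), ?_⟩
    have : Matrix.vecMul (Matrix.vecMul v (↑u⁻¹ : Matrix _ _ A)) (Matrix.of x) = v := by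
      rw [Matrix.vecMul_vecMul, ← hu, u.inv_mul, Matrix.vecMul_one]
    rwa [Matrix.vecMul_eq_sum] at this
  refine ⟨(Module.Basis.mk hli hsp).map e.symm, fun i => ?_⟩
  rw [Module.Basis.map_apply, Module.Basis.mk_apply]
  obtain ⟨y, hy, hyx⟩ := hx i
  rw [← hyx]
  change e.symm (e y) ∈ N
  rw [e.symm_apply_apply]
  exact hy

end Groth.Agent.S5213
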