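import Groth.Statements.S5214
import Groth.Agent.CategoryFibred.EffEpi

set_option autoImplicit false
open CategoryTheory CategoryTheory.Limits
universe w v₁ u₁
open DescCat

namespace Groth.Agent.S5214

/-- In a category with pullbacks and binary products: the product `u × u'` of two universal effective
epimorphisms (morphisms all of whose base changes are effective epimorphisms) is a universal
effective epimorphism. -/
theorem result {C : Type u₁} [Category.{v₁} C] [HasPullbacks C] [HasBinaryProducts C]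
    {X Y X' Y' : C} (u : X ⟶ Y) (u' : X' ⟶ Y')
    (hu : (MorphismProperty.universally (fun (A B : C) (p : A ⟶ B) => EffectiveEpi p)) u) (hu' : (MorphismProperty.universally (fun (A B : C) (p : A ⟶ B) => EffectiveEpi p)) u') :
    (MorphismProperty.universally (fun (A B : C) (p : A ⟶ B) => EffectiveEpi p)) (prod.map u u') := by
  have e : prod.map u u' = prod.map u (𝟙 X') ≫ prod.map (𝟙 Y) u' := by simp
  rw [e]
  have h1 : IsPullback (prod.map u (𝟙 X')) (prod.fst : X ⨯ X' ⟶ X) (prod.fst : Y ⨯ X' ⟶ Y) u := by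
    refine ⟨⟨by simp⟩, ⟨PullbackCone.IsLimit.mk _ (fun s => prod.lift s.snd (s.fst ≫ prod.snd)) ?_ ?_ ?_⟩⟩
    · intro s; ext <;> simp [prod.lift_fst, prod.lift_snd, prod.lift_fst_assoc, prod.lift_snd_assoc, s.condition]
    · intro s; simp [prod.lift_fst, prod.lift_snd, prod.lift_fst_assoc, prod.lift_snd_assoc]
    · intro s m hm hm'; ext <;> simp [prod.lift_fst, prod.lift_snd, ← hm, ← hm']
  have h2 : IsPullback (prod.map (𝟙 Y) u') (prod.snd : Y ⨯ X' ⟶ X') (prod.snd : Y ⨯ Y' ⟶ Y') u' := by
    refine ⟨⟨by simp⟩, ⟨PullbackCone.IsLimit.mk _ (fun s => prod.lift (s.fst ≫ prod.fst) s.snd) ?_ ?_ ?_⟩⟩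
    · intro s; ext <;> simp [prod.lift_fst, prod.lift_snd, prod.lift_fst_assoc, prod.lift_snd_assoc, s.condition]
    · intro s; simp [prod.lift_fst, prod.lift_snd, prod.lift_fst_assoc, prod.lift_snd_assoc]
    · intro s m hm hm'; ext <;> simp [prod.lift_fst, prod.lift_snd, ← hm, ← hm']
  exact Groth.CatFib.UEE.comp (Groth.CatFib.UEE.of_isPullback hu' h2) (Groth.CatFib.UEE.of_isPullback hu h1)

end Groth.Agent.S5214
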