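import Groth.Statements.S5216
import Groth.Agent.ShfCat.Exact

set_option autoImplicit false
open CategoryTheory CategoryTheory.Limits
universe w v₁ u₁
open ShfCat

namespace Groth.Agent.S5216

/-- The case of the chaotic topology, i.e. for presheaves of sets on an arbitrary category: every
equivalence relation is universally effective (its quotient exists, the relation is the kernel pair
of the quotient map, and that map is a universal effective epimorphism). -/
theorem result (C : Type u₁) [Category.{v₁} C]
    {R X : Cᵒᵖ ⥤ Type w} (p₁ p₂ : R ⟶ X) [IsEquivalenceRelation p₁ p₂] :
    IsUniversallyEffectiveEquivalenceRelation p₁ p₂ := by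
  exact Groth.ShfCat.isUniversallyEffective_presheaf

end Groth.Agent.S5216
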