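import Groth.Statements.S5217
import Groth.Agent.ShfCat.Exact

set_option autoImplicit false
open CategoryTheory CategoryTheory.Limits
universe w v₁ u₁
open ShfCat

namespace Groth.Agent.S5217

/-- In the category of sheaves of sets on a site, every equivalence relation is universally effective
(its quotient sheaf exists, the relation is the kernel pair of the quotient map, and that map is a
universal effective epimorphism). Stated for sheaves valued in `Type w` whenever sheafification
exists. -/
theorem result {C : Type u₁} [Category.{v₁} C]
    (J : GrothendieckTopology C) [HasSheafify J (Type w)]
    {R X : Sheaf J (Type w)} (p₁ p₂ : R ⟶ X) [IsEquivalenceRelation p₁ p₂] :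
    IsUniversallyEffectiveEquivalenceRelation p₁ p₂ := by
  exact Groth.ShfCat.isUniversallyEffective_sheaf

end Groth.Agent.S5217
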