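import Groth.Statements.S5220
-- import your own Groth.Agent.* helpers here

set_option autoImplicit false
open CategoryTheory CategoryTheory.Limits
universe w v₁ u₁
open GrpQ

namespace Groth.Agent.S5220

/-- In a category with pullbacks: let `d₀ d₁ : X₁ ⇉ X₀` admit a common section and let `f₀ : Y₀ ⟶ X₀` be
an effective epimorphism which is also a universal epimorphism. For the inverse-image pair `Y₁ :=
(Y₀ ×_{X₀,d₁} X₁) ×_{d₀,X₀} Y₀ ⇉ Y₀`, every morphism out of `Y₀` equalized by the two projections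
descends uniquely to a morphism out of `X₀` equalized by `d₀, d₁`. (Only the common section of the
groupoid structure is used.) -/
theorem result {C : Type u₁} [Category.{v₁} C] [HasPullbacks C]
    {X₁ X₀ Y₀ : C} (d₀ d₁ : X₁ ⟶ X₀) (s : X₀ ⟶ X₁) (hs₀ : s ≫ d₀ = 𝟙 X₀) (hs₁ : s ≫ d₁ = 𝟙 X₀)
    (f₀ : Y₀ ⟶ X₀) [EffectiveEpi f₀]
    (hf : MorphismProperty.universally (MorphismProperty.epimorphisms C) f₀)
    {T : C} (g : Y₀ ⟶ T)
    (hg : (pullback.fst (pullback.snd f₀ d₁ ≫ d₀) f₀ ≫ pullback.fst f₀ d₁) ≫ g =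
      pullback.snd (pullback.snd f₀ d₁ ≫ d₀) f₀ ≫ g) :
    ∃! h : X₀ ⟶ T, d₁ ≫ h = d₀ ≫ h ∧ f₀ ≫ h = g := by
  let d := pullback.snd f₀ d₁ ≫ d₀
  let p₁ := pullback.fst d f₀ ≫ pullback.fst f₀ d₁
  let p₂ := pullback.snd d f₀
  have key : ∀ {Z : C} (a b : Z ⟶ Y₀), a ≫ f₀ = b ≫ f₀ → a ≫ g = b ≫ g := by
    intro Z a b hab
    let q : Z ⟶ pullback f₀ d₁ := pullback.lift a (a ≫ f₀ ≫ s) (by rw [Category.assoc, Category.assoc, hs₁, Category.comp_id])
    have hq : q ≫ d = b ≫ f₀ := by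
      simp only [d, q]
      rw [pullback.lift_snd_assoc, Category.assoc, Category.assoc, hs₀, Category.comp_id, hab]
    have h' := pullback.lift q b hq ≫= hg
    rw [Category.assoc] at h'
    have e1 : pullback.lift q b hq ≫ pullback.fst d f₀ = q := pullback.lift_fst _ _ _
    have e2 : q ≫ pullback.fst f₀ d₁ = a := pullback.lift_fst _ _ _
    have e3 : pullback.lift q b hq ≫ pullback.snd d f₀ = b := pullback.lift_snd _ _ _
    calc a ≫ g = (q ≫ pullback.fst f₀ d₁) ≫ g := by rw [e2]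
      _ = (pullback.lift q b hq ≫ pullback.fst d f₀) ≫ pullback.fst f₀ d₁ ≫ g := by rw [e1, Category.assoc]
      _ = pullback.lift q b hq ≫ pullback.fst d f₀ ≫ pullback.fst f₀ d₁ ≫ g := Category.assoc _ _ _
      _ = pullback.lift q b hq ≫ pullback.snd d f₀ ≫ g := h'
      _ = b ≫ g := by rw [← Category.assoc, e3]
  let h := EffectiveEpi.desc f₀ g key
  have hh : f₀ ≫ h = g := EffectiveEpi.fac f₀ g key
  have hepi : Epi (pullback.fst d f₀ ≫ pullback.snd f₀ d₁) := by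
    have h1 : Epi (pullback.fst d f₀) := hf _ _ _ (IsPullback.of_hasPullback d f₀)
    have h2 : Epi (pullback.snd f₀ d₁) := hf _ _ _ (IsPullback.of_hasPullback f₀ d₁).flip
    exact epi_comp _ _
  refine ⟨h, ⟨?_, hh⟩, fun h' hh' => EffectiveEpi.uniq f₀ g key h' hh'.2⟩
  rw [← cancel_epi (pullback.fst d f₀ ≫ pullback.snd f₀ d₁)]
  have e1 : (pullback.fst d f₀ ≫ pullback.snd f₀ d₁) ≫ d₁ ≫ h = p₁ ≫ g := by
    simp only [p₁, Category.assoc]
    rw [← hh, ← Category.assoc (pullback.snd f₀ d₁), ← pullback.condition, Category.assoc]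
  have e2 : (pullback.fst d f₀ ≫ pullback.snd f₀ d₁) ≫ d₀ ≫ h = p₂ ≫ g := by
    rw [Category.assoc, ← Category.assoc (pullback.snd f₀ d₁), ← Category.assoc, pullback.condition,
      Category.assoc, hh]
  rw [e1, e2]
  exact hg

end Groth.Agent.S5220
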