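import Groth.Statements.S5221
import Groth.Agent.S5220
-- import your own Groth.Agent.* helpers here

set_option autoImplicit false
open CategoryTheory CategoryTheory.Limits
universe w v₁ u₁
open GrpQ

namespace Groth.Agent.S5221

/-- Existence part: in a category with pullbacks: with `d₀ d₁ : X₁ ⇉ X₀` admitting a common section and
`f₀ : Y₀ ⟶ X₀` an effective and universal epimorphism, the pair `(d₀, d₁)` has a coequalizer if and
only if its inverse-image pair on `Y₀` has one. -/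
theorem result {C : Type u₁} [Category.{v₁} C] [HasPullbacks C]
    {X₁ X₀ Y₀ : C} (d₀ d₁ : X₁ ⟶ X₀) (s : X₀ ⟶ X₁) (hs₀ : s ≫ d₀ = 𝟙 X₀) (hs₁ : s ≫ d₁ = 𝟙 X₀)
    (f₀ : Y₀ ⟶ X₀) [EffectiveEpi f₀]
    (hf : MorphismProperty.universally (MorphismProperty.epimorphisms C) f₀) :
    HasCoequalizer d₁ d₀ ↔
      HasCoequalizer (pullback.fst (pullback.snd f₀ d₁ ≫ d₀) f₀ ≫ pullback.fst f₀ d₁)
        (pullback.snd (pullback.snd f₀ d₁ ≫ d₀) f₀) := by
  let d := pullback.snd f₀ d₁ ≫ d₀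
  let p₁ := pullback.fst d f₀ ≫ pullback.fst f₀ d₁
  let p₂ := pullback.snd d f₀
  have hfwd : ∀ {T : C} (h : X₀ ⟶ T), d₁ ≫ h = d₀ ≫ h → p₁ ≫ f₀ ≫ h = p₂ ≫ f₀ ≫ h := by
    intro T h hh
    simp only [p₁, p₂, Category.assoc]
    rw [← Category.assoc (pullback.fst f₀ d₁), pullback.condition, Category.assoc, hh,
      ← Category.assoc (pullback.snd f₀ d₁), ← Category.assoc, pullback.condition, Category.assoc]
  constructor
  · intro hc
    refine ⟨⟨⟨Cofork.ofπ (f₀ ≫ coequalizer.π d₁ d₀) (hfwd _ (coequalizer.condition d₁ d₀)), ?_⟩⟩⟩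
    refine Cofork.IsColimit.mk _ (fun c => coequalizer.desc
      (Groth.Agent.S5220.result d₀ d₁ s hs₀ hs₁ f₀ hf c.π c.condition).exists.choose
      (Groth.Agent.S5220.result d₀ d₁ s hs₀ hs₁ f₀ hf c.π c.condition).exists.choose_spec.1) ?_ ?_
    · intro c
      rw [Cofork.π_ofπ, Category.assoc, coequalizer.π_desc]
      exact (Groth.Agent.S5220.result d₀ d₁ s hs₀ hs₁ f₀ hf c.π c.condition).exists.choose_spec.2
    · intro c m hm
      rw [Cofork.π_ofπ, Category.assoc] at hm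
      refine coequalizer.hom_ext (f := d₁) (g := d₀) ?_
      refine Eq.trans ?_ (coequalizer.π_desc _ _).symm
      exact (Groth.Agent.S5220.result d₀ d₁ s hs₀ hs₁ f₀ hf c.π c.condition).unique
        ⟨by rw [← Category.assoc, coequalizer.condition, Category.assoc], hm⟩
        (Groth.Agent.S5220.result d₀ d₁ s hs₀ hs₁ f₀ hf c.π c.condition).exists.choose_spec
  · intro hc
    obtain ⟨π, ⟨hπ, hfπ⟩, -⟩ := Groth.Agent.S5220.result d₀ d₁ s hs₀ hs₁ f₀ hf
      (coequalizer.π p₁ p₂) (coequalizer.condition p₁ p₂)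
    refine ⟨⟨⟨Cofork.ofπ π hπ, ?_⟩⟩⟩
    refine Cofork.IsColimit.mk _ (fun c => coequalizer.desc (f₀ ≫ c.π) (hfwd _ c.condition)) ?_ ?_
    · intro c
      rw [Cofork.π_ofπ, ← cancel_epi f₀, ← Category.assoc, hfπ, coequalizer.π_desc]
    · intro c m hm
      rw [Cofork.π_ofπ] at hm
      refine coequalizer.hom_ext (f := p₁) (g := p₂) ?_
      refine Eq.trans ?_ (coequalizer.π_desc _ _).symm
      rw [← hm, ← Category.assoc, hfπ]

end Groth.Agent.S5221
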