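import Groth.Statements.S5222
import Mathlib.CategoryTheory.Monoidal.Cartesian.Grp

set_option autoImplicit false
open CategoryTheory CategoryTheory.Limits MonoidalCategory
universe v₁ u₁
open DescCat

namespace Groth.Agent.S5222

open MonObj CartesianMonoidalCategory SemiCartesianMonoidalCategory in
/-- In a cartesian monoidal category with pullbacks: for a homomorphism `f : G ⟶ G'` of group objects
with kernel `K = G ×_{G'} e`, the pair `G × K ⇉ G` given by the projection and by multiplication is
the kernel pair of `f`. -/
theorem result {C : Type u₁} [Category.{v₁} C]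
    [CartesianMonoidalCategory C] [HasPullbacks C]
    {G G' : C} [GrpObj G] [GrpObj G'] (f : G ⟶ G') [IsMonHom f] :
    IsKernelPair f (fst G (pullback f η[G']))
      ((G ◁ pullback.fst f η[G']) ≫ μ[G]) := by
  have hm : ((G ◁ pullback.fst f η[G']) ≫ μ[G]) =
      (fst G (pullback f η[G'])) * (snd G (pullback f η[G']) ≫ pullback.fst f η[G']) := by
    rw [Hom.mul_def]
    congr 1
    ext <;> simp
  have hk : ∀ {W : C} (k : W ⟶ pullback f η[G']), (k ≫ pullback.fst f η[G']) ≫ f = 1 := fun {W} k => by
    rw [Category.assoc, pullback.condition, Hom.one_def, ← Category.assoc,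
      Subsingleton.elim (k ≫ pullback.snd f η[G']) (toUnit W)]
  refine ⟨⟨?_⟩, ⟨PullbackCone.IsLimit.mk _ (fun s => CartesianMonoidalCategory.lift s.fst
      (pullback.lift (s.fst⁻¹ * s.snd) (toUnit _) ?_)) ?_ ?_ ?_⟩⟩
  · rw [hm, MonObj.mul_comp, hk, _root_.mul_one]
  · rw [MonObj.mul_comp, GrpObj.inv_comp, s.condition, _root_.inv_mul_cancel, Hom.one_def]
  · intro s; simp
  · intro s
    rw [hm, MonObj.comp_mul, lift_fst, lift_snd_assoc, pullback.lift_fst, mul_inv_cancel_left]
  · intro s m h h'
    rw [hm, MonObj.comp_mul, h] at h'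
    apply CartesianMonoidalCategory.hom_ext
    · simpa using h
    · rw [lift_snd]
      apply pullback.hom_ext
      · rw [pullback.lift_fst, Category.assoc, ← h', inv_mul_cancel_left]
      · exact Subsingleton.elim _ _

end Groth.Agent.S5222
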