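import Groth.Statements.S5224
import Groth.Agent.Calg4.QuotRep

set_option autoImplicit false
open CategoryTheory CategoryTheory.Limits AlgebraicGeometry
universe u
open GrpQ

namespace Groth.Agent.S5224

/-- For the fppf topology: let `s, t : R ⇉ U` be an equivalence relation of schemes over `S` with `s`
faithfully flat and locally of finite presentation. A morphism `q : U ⟶ Y` over `S` is a faithfully
flat, locally finitely presented quotient with kernel pair `R` if and only if `q` identifies `h_Y`
with the fppf quotient sheaf `U/R`. -/
theorem result {S : Scheme.{u}} {R U Y : Over S} (s t : R ⟶ U)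
    [IsEquivalenceRelation s t]
    [Flat s.left] [Surjective s.left] [LocallyOfFinitePresentation s.left]
    (q : U ⟶ Y) :
    (IsKernelPair q s t ∧ Flat q.left ∧ Surjective q.left ∧ LocallyOfFinitePresentation q.left) ↔
      QuotSh.IsQuotient Scheme.fppfPrecoverage s t q := by
  have he := Groth.Calg4.QuotRep.isEqvRel_of_isEquivalenceRelation s t
  constructor
  · rintro ⟨hk, h₁, h₂, h₃⟩
    exact Groth.Calg4.QuotRep.isQuotient hk (Groth.QuotSheaf.epi_repMap q)
  · intro hq
    have hk := Groth.Calg4.QuotRep.isKernelPair he hq
    obtain ⟨Sv, hS, hlift⟩ := Groth.Calg4.QuotRep.exists_sieve_lift hq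
    obtain ⟨T, c, l, hc₁, hc₂, hc₃, hl⟩ := Groth.Calg4.QuotRep.exists_fppf_map hS hlift
    have : Flat t.left := Groth.Calg4.QuotRep.property_other @Flat he inferInstance
    have : Surjective t.left := Groth.Calg4.QuotRep.property_other @Surjective he inferInstance
    obtain ⟨h₃, h₁, h₂⟩ := Groth.Calg4.QuotRep.property_of_kernelPair @LocallyOfFinitePresentation hk
      (Groth.Calg4.QuotRep.property_other @LocallyOfFinitePresentation he inferInstance) hl
    exact ⟨hk, h₁, h₂, h₃⟩

end Groth.Agent.S5224
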