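import Groth.Statements.S5225
import Groth.Agent.Calg4.QuotRep

set_option autoImplicit false
open CategoryTheory CategoryTheory.Limits AlgebraicGeometry
universe u
open GrpQ

namespace Groth.Agent.S5225

/-- For the étale topology: let `s, t : R ⇉ U` be an equivalence relation of schemes over `S` with `s`
étale and surjective. A morphism `q : U ⟶ Y` over `S` is an étale surjective quotient with kernel
pair `R` if and only if `q` identifies `h_Y` with the étale quotient sheaf `U/R`. -/
theorem result {S : Scheme.{u}} {R U Y : Over S} (s t : R ⟶ U)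
    [IsEquivalenceRelation s t] [Etale s.left] [Surjective s.left]
    (q : U ⟶ Y) :
    (IsKernelPair q s t ∧ Etale q.left ∧ Surjective q.left) ↔
      QuotSh.IsQuotient Scheme.etalePrecoverage s t q := by
  have he := Groth.Calg4.QuotRep.isEqvRel_of_isEquivalenceRelation s t
  constructor
  · rintro ⟨hk, h₁, h₂⟩
    exact Groth.Calg4.QuotRep.isQuotient hk (Groth.Calg4.QuotRep.epi_repMap_etale q)
  · intro hq
    have hk := Groth.Calg4.QuotRep.isKernelPair he hq
    obtain ⟨Sv, hS, hlift⟩ := Groth.Calg4.QuotRep.exists_sieve_lift hq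
    have hS' : Sv ∈ QuotSh.J Scheme.fppfPrecoverage S Y := by
      rw [GrothendieckTopology.mem_over_iff] at hS ⊢
      exact Groth.Calg4.QuotRep.etaleTopology_le_fppfTopology _ hS
    obtain ⟨T, c, l, hc₁, hc₂, hc₃, hl⟩ := Groth.Calg4.QuotRep.exists_fppf_map hS' hlift
    have : Etale t.left := Groth.Calg4.QuotRep.property_other @Etale he inferInstance
    have : Surjective t.left := Groth.Calg4.QuotRep.property_other @Surjective he inferInstance
    obtain ⟨h₃, -, h₂⟩ := Groth.Calg4.QuotRep.property_of_kernelPair @Etale hk inferInstance hl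
    exact ⟨hk, h₃, h₂⟩

end Groth.Agent.S5225
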