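import Groth.Statements.S5226
import Groth.Agent.ShfCat.Epi

set_option autoImplicit false
open CategoryTheory CategoryTheory.Limits
universe w v₁ u₁
open ShfCat

namespace Groth.Agent.S5226

/-- For sheaves of sets on a site with sheafification: if `R ⇉ X` is an equivalence relation with
(universally effective) quotient `X/R` and `Y ⊆ X` is a subsheaf with induced relation `R_Y`, then
the canonical map `Y/R_Y ⟶ X/R` is a monomorphism. Here `R_Y` is built as the iterated pullback of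
`R` along `Y ⟶ X` on both sides. -/
theorem result {C : Type u₁} [Category.{v₁} C]
    (J : GrothendieckTopology C) [HasSheafify J (Type w)]
    {R X Y : Sheaf J (Type w)} {p₁ p₂ : R ⟶ X} (e : UniversallyEffectiveEquivalenceRelation p₁ p₂)
    (ι : Y ⟶ X) [Mono ι]
    [HasCoequalizer (pullback.fst (pullback.fst p₁ ι ≫ p₂) ι ≫ pullback.snd p₁ ι)
      (pullback.snd (pullback.fst p₁ ι ≫ p₂) ι)]
    (g : coequalizer (pullback.fst (pullback.fst p₁ ι ≫ p₂) ι ≫ pullback.snd p₁ ι)
      (pullback.snd (pullback.fst p₁ ι ≫ p₂) ι) ⟶ e.B)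
    (hg : coequalizer.π _ _ ≫ g = ι ≫ e.π) :
    Mono g := by
  refine ⟨fun a b hab ↦ ?_⟩
  let q := coequalizer.π (pullback.fst (pullback.fst p₁ ι ≫ p₂) ι ≫ pullback.snd p₁ ι)
    (pullback.snd (pullback.fst p₁ ι ≫ p₂) ι)
  obtain ⟨W', c, y₁, y₂, hc, h₁, h₂⟩ := Groth.ShfCat.exists_lift₂ q q a b
  rw [← cancel_epi c, ← h₁, ← h₂]
  have hy : (y₁ ≫ ι) ≫ e.π = (y₂ ≫ ι) ≫ e.π := by
    rw [Category.assoc, Category.assoc, ← hg, reassoc_of% h₁, reassoc_of% h₂, hab]
  obtain ⟨r, hr₁, hr₂⟩ := e.isKernelPair.lift' _ _ hy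
  let z := pullback.lift (f := pullback.fst p₁ ι ≫ p₂) (g := ι)
    (pullback.lift r y₁ hr₁) y₂ (by rw [← Category.assoc, pullback.lift_fst, hr₂])
  have h := z ≫= coequalizer.condition (pullback.fst (pullback.fst p₁ ι ≫ p₂) ι ≫ pullback.snd p₁ ι)
    (pullback.snd (pullback.fst p₁ ι ≫ p₂) ι)
  rwa [← Category.assoc, ← Category.assoc, ← Category.assoc,
    pullback.lift_fst, pullback.lift_snd, pullback.lift_snd] at h

end Groth.Agent.S5226
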