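import Groth.Statements.S5227
import Groth.Agent.ShfCat.Epi

set_option autoImplicit false
open CategoryTheory CategoryTheory.Limits
universe w v₁ u₁
open ShfCat

namespace Groth.Agent.S5227

/-- For sheaves of sets on a site with sheafification: for an equivalence relation `R ⇉ X` with
(universally effective) quotient `π : X ⟶ X/R`, inverse image along `π` is a bijection from the
subsheaves of `X/R` onto the subsheaves of `X` stable under `R` (those whose two inverse images in
`R` agree). -/
theorem result {C : Type u₁} [Category.{v₁} C]
    (J : GrothendieckTopology C) [HasSheafify J (Type w)]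
    {R X : Sheaf J (Type w)} {p₁ p₂ : R ⟶ X} (e : UniversallyEffectiveEquivalenceRelation p₁ p₂) :
    Function.Injective (Subobject.pullback e.π).obj ∧
      Set.range (Subobject.pullback e.π).obj =
        {Y : Subobject X | (Subobject.pullback p₁).obj Y = (Subobject.pullback p₂).obj Y} := by
  have : Epi e.π := epi_of_isColimit_cofork e.isPushout.isLimitFork
  refine ⟨Groth.ShfCat.pullback_injective e.π, Set.ext fun Y ↦ ⟨?_, fun hY ↦ ?_⟩⟩
  · rintro ⟨K, rfl⟩
    show _ = _
    simp only [← Subobject.pullback_comp, e.isKernelPair.w]
  · obtain ⟨K, hK, -⟩ := Groth.ShfCat.exists_subobject_pullback_eq e.π Y fun W a b hab ha ↦ by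
      obtain ⟨r, h₁, h₂⟩ := e.isKernelPair.lift' a b hab
      rw [← h₁, ← Groth.ShfCat.factors_pullback_iff, (hY : (Subobject.pullback p₁).obj Y = _),
        Groth.ShfCat.factors_pullback_iff, h₂] at ha
      exact ha
    exact ⟨K, hK⟩

end Groth.Agent.S5227
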