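import Groth.Statements.S5228
import Groth.Agent.Hopf.Integral
import Groth.Prelude.Def_ComodSub

set_option autoImplicit false
universe w u
open HopfRep

namespace Groth.Agent.S5228

open Groth

/-- Over an affine base, in comodule form: for a representation `V` of a diagonalizable group `D(M)`
over a commutative ring `k` (a `k[M]`-comodule), every sub-representation which is a direct summand
as a `k`-module is a direct summand as a representation. (The published statement: a short exact
sequence of quasi-coherent `D(M)`-modules that splits as a sequence of modules splits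
equivariantly.) -/
theorem result {k : Type u} [CommRing k] {M : Type u} [CommGroup M]
    (V : Type w) [AddCommGroup V] [Module k V] [HopfRep.Comod k (MonoidAlgebra k M) V]
    (W : Submodule k V) (hW : HopfRep.IsSubcomod (k := k) (A := MonoidAlgebra k M) W)
    (hsplit : ∃ W' : Submodule k V, IsCompl W W') :
    ∃ W'' : Submodule k V, HopfRep.IsSubcomod (k := k) (A := MonoidAlgebra k M) W'' ∧ IsCompl W W'' := by
  classical
  let c : HopfRep.Comod k (MonoidAlgebra k M) V := inferInstance
  let := ComodSub.Comod.restr c W hW
  let α₀ : MonoidAlgebra k M →ₗ[k] k := Finsupp.lapply 1 ∘ₗ (MonoidAlgebra.coeffLinearEquiv k).toLinearMap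
  have hα : @Hoch.IsComodHom k _ (MonoidAlgebra k M) _ _ _ (MonoidAlgebra k M) _ _ _ k _ _
      (HopfRep.Comod.trivial k (MonoidAlgebra k M) k) α₀ := by
    refine MonoidAlgebra.lhom_ext' fun m => ?_
    ext
    by_cases h : m = 1 <;> simp [α₀, h, MonoidAlgebra.one_def, HopfRep.Comod.coact]
  obtain ⟨W', hc⟩ := hsplit
  let π : V →ₗ[k] W := W.projectionOnto W' hc
  obtain ⟨P, hP, hid⟩ := ComodLib.exists_average (V := V) (W := W) α₀ hα π
  have hfix : ∀ w : W, P w = w := hid W.subtype (ComodSub.isComodHom_subtype c W hW)
    (LinearMap.ext fun w => Submodule.projectionOnto_apply_left hc w) (by simp [α₀, MonoidAlgebra.one_def])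
  exact ⟨LinearMap.ker P, ComodLib.isSubcomod_ker hP, LinearMap.isCompl_of_proj hfix⟩

end Groth.Agent.S5228
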