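import Groth.Statements.S5231

set_option autoImplicit false
open CategoryTheory
universe w v₁ u₁
open ShfCat

namespace Groth.Agent.S5231

/-- (iii) ⇒ (i): a morphism `f` of sheaves of sets on a site is a monomorphism (resp. an epimorphism) as
soon as, for every object `S`, the morphisms `T ⟶ S` over which the restriction of `f` to the
induced site `C/T` is a monomorphism (resp. an epimorphism) form a covering sieve. No sheafification
is assumed. (The published statement also treats isomorphisms in the same way; that case is left out
here.) -/
theorem result {C : Type u₁} [Category.{v₁} C]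
    (J : GrothendieckTopology C) {F G : Sheaf J (Type w)} (f : F ⟶ G) :
    ((∀ S : C, ∃ R : Sieve S, R ∈ J S ∧ ∀ ⦃T : C⦄ (g : T ⟶ S), R g →
        Mono ((J.overPullback (Type w) T).map f)) → Mono f) ∧
    ((∀ S : C, ∃ R : Sieve S, R ∈ J S ∧ ∀ ⦃T : C⦄ (g : T ⟶ S), R g →
        Epi ((J.overPullback (Type w) T).map f)) → Epi f) := by
  refine ⟨fun h ↦ ?_, fun h ↦ ⟨fun {K} g g' hgg ↦ ?_⟩⟩
  · have hinj : ∀ (U : C) (a b : F.obj.obj (Opposite.op U)),
        f.hom.app (Opposite.op U) a = f.hom.app (Opposite.op U) b → a = b := by
      intro U a b hab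
      obtain ⟨R, hR, hmono⟩ := h U
      refine (((isSheaf_iff_isSheaf_of_type J F.obj).mp F.property).isSeparated R hR).ext ?_
      intro T g hg
      have := hmono g hg
      have : Mono ((sheafToPresheaf (J.over T) (Type w)).map ((J.overPullback (Type w) T).map f)) :=
        inferInstance
      have := (mono_iff_injective _).mp
        ((NatTrans.mono_iff_mono_app _).mp this (Opposite.op (Over.mk (𝟙 T))))
      apply this
      show f.hom.app (Opposite.op T) (F.obj.map g.op a) = f.hom.app (Opposite.op T) (F.obj.map g.op b)
      rw [NatTrans.naturality_apply, NatTrans.naturality_apply, hab]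
    exact ⟨fun {Z} a b hab ↦ by
      ext U z
      exact hinj U.unop _ _ congr(ConcreteCategory.hom (($hab).hom.app U) z)⟩
  · ext U s
    obtain ⟨R, hR, hepi⟩ := h U.unop
    refine (((isSheaf_iff_isSheaf_of_type J K.obj).mp K.property).isSeparated R hR).ext ?_
    intro T p hp
    have := hepi p hp
    have e : (J.overPullback (Type w) T).map g = (J.overPullback (Type w) T).map g' :=
      (cancel_epi ((J.overPullback (Type w) T).map f)).mp (by
        rw [← Functor.map_comp, ← Functor.map_comp, hgg])
    have := congr(ConcreteCategory.hom (($e).hom.app (Opposite.op (Over.mk (𝟙 T)))) (G.obj.map p.op s))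
    show K.obj.map p.op (g.hom.app U s) = K.obj.map p.op (g'.hom.app U s)
    rw [← NatTrans.naturality_apply, ← NatTrans.naturality_apply]
    exact this

end Groth.Agent.S5231
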