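import Groth.Statements.S5232
import Groth.Agent.QuotStk.AffineRepresentable
import Groth.Agent.AlgSpBasic.Topology
-- import your own Groth.Agent.* helpers here

set_option autoImplicit false
open CategoryTheory CategoryTheory.Limits AlgebraicGeometry
universe u
open GrpQ

namespace Groth.Agent.S5232

/-- On the big fppf site of a scheme `S`, in the case where the local representing objects are affine
over the cover (so that the canonical descent datum is effective): if `Z` is an fppf sheaf over `S`
and, for an fppf cover `S' ⟶ S`, the sheaf `Z ×_S S'` is represented over `S'` by a scheme affine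
over `S'`, then `Z` is represented by a scheme affine over `S`. -/
theorem result {S S' : Scheme.{u}} (f : S' ⟶ S)
    [Flat f] [Surjective f] [LocallyOfFinitePresentation f]
    (Z : QuotSh.Sh Scheme.fppfPrecoverage S)
    (T' : Over S) (a : T' ⟶ Over.mk f) [IsAffineHom a.left]
    (φ : QuotSh.rep Scheme.fppfPrecoverage T' ≅ Z ⨯ QuotSh.rep Scheme.fppfPrecoverage (Over.mk f))
    (hφ : φ.hom ≫ prod.snd = QuotSh.repMap Scheme.fppfPrecoverage a) :
    ∃ T : Over S, IsAffineHom T.hom ∧ Nonempty (QuotSh.rep Scheme.fppfPrecoverage T ≅ Z) := by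
  classical
  have hc : ∀ V : Over S, QuotSh.rep Scheme.fppfPrecoverage V ≅ (AlgSp.yon S).obj V := fun V =>
    QuotSh.repIsoUliftYoneda Scheme.fppfPrecoverage V
  let U : Over S := Over.mk (𝟙 S)
  let U' : Over S := Over.mk f
  let p : U' ⟶ U := Over.homMk f (Category.comp_id f)
  have hterm : IsTerminal ((AlgSp.yon S).obj U) := Over.mkIdTerminal.isTerminalObj (AlgSp.yon S) U
  let π : Z ⟶ (AlgSp.yon S).obj U := hterm.from Z
  have : Surjective p.left := ‹Surjective f›
  have : Flat p.left := ‹Flat f›
  have : LocallyOfFinitePresentation p.left := ‹LocallyOfFinitePresentation f›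
  let u := QuotSh.repIsoUliftYoneda Scheme.fppfPrecoverage U'
  let v := QuotSh.repIsoUliftYoneda Scheme.fppfPrecoverage T'
  have hrep : φ.hom ≫ prod.snd ≫ u.hom = v.hom ≫ (AlgSp.yon S).map a := by
    rw [← Category.assoc, hφ]
    have := (sheafificationNatIso (QuotSh.J Scheme.fppfPrecoverage S) (Type (u + 1))).inv.naturality
      ((AlgSp.yon S).map a)
    exact this
  have sq₀ : IsPullback (v.inv ≫ φ.hom ≫ prod.fst) ((AlgSp.yon S).map a) π ((AlgSp.yon S).map p) := by
    have h := IsPullback.of_is_product' (prodIsProd Z (QuotSh.rep Scheme.fppfPrecoverage U')) hterm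
    refine h.of_iso (φ.symm ≪≫ v) (Iso.refl _) u (Iso.refl _) ?_ ?_ ?_ ?_
    · simp; rfl
    · show prod.snd ≫ u.hom = (φ.inv ≫ v.hom) ≫ (AlgSp.yon S).map a
      rw [Category.assoc, ← hrep, Iso.inv_hom_id_assoc]
    · exact hterm.hom_ext _ _
    · exact hterm.hom_ext _ _
  obtain ⟨W, i, e, hi, -⟩ := Groth.QuotStk.exists_affineHom_of_locally π
    (Groth.AlgSpBasic.generate_singleton_mem p) fun V k hk => by
      obtain ⟨Y, l, g, ⟨⟩, rfl⟩ := hk
      have sql : IsPullback (pullback.snd a.left l.left) (pullback.fst a.left l.left) l.left a.left :=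
        (IsPullback.of_hasPullback _ _).flip
      let W₀ : Over S := Over.mk (pullback.snd a.left l.left ≫ V.hom)
      let j : W₀ ⟶ V := Over.homMk (pullback.snd a.left l.left) rfl
      let b : W₀ ⟶ T' := Over.homMk (pullback.fst a.left l.left) (by
        show pullback.fst _ _ ≫ T'.hom = pullback.snd _ _ ≫ V.hom
        rw [← Over.w a, ← Over.w l, ← Category.assoc, pullback.condition, Category.assoc])
      have sqW : IsPullback b j a l :=
        IsPullback.of_map (Over.forget S) (Over.OverMorphism.ext pullback.condition)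
          (IsPullback.of_hasPullback _ _)
      refine ⟨W₀, j, (AlgSp.yon S).map b ≫ (v.inv ≫ φ.hom ≫ prod.fst), ?_, (MorphismProperty.of_isPullback (P := @IsAffineHom.{u}) (IsPullback.of_hasPullback a.left l.left) ‹IsAffineHom a.left› :)⟩
      rw [Functor.map_comp]
      exact (sqW.map (AlgSp.yon S)).paste_horiz sq₀
  refine ⟨W, ?_, ⟨QuotSh.repIsoUliftYoneda Scheme.fppfPrecoverage W ≪≫ e⟩⟩
  have := Over.w i
  rw [show W.hom = i.left from this.symm.trans (Category.comp_id _)]
  exact hi

end Groth.Agent.S5232
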