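import Groth.Statements.S5233
import Groth.Agent.SubDescent.Closed

set_option autoImplicit false
open CategoryTheory CategoryTheory.Limits AlgebraicGeometry
universe u
open GrpQ

namespace Groth.Agent.S5233

section Helpers

open CategoryTheory CategoryTheory.Limits AlgebraicGeometry

variable {X X' : Scheme.{u}}

lemma isClosedImmersion_pullback (f : X ⟶ X') (y : Subobject X') (hy : IsClosedImmersion y.arrow) :
    IsClosedImmersion ((Subobject.pullback f).obj y).arrow :=
  MorphismProperty.of_isPullback (Subobject.isPullback f y) hy

lemma ker_pullback (f : X ⟶ X') (y : Subobject X') (hy : IsClosedImmersion y.arrow) :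
    ((Subobject.pullback f).obj y).arrow.ker = y.arrow.ker.comap f := by
  have := hy
  have h := (Subobject.isPullback f y).flip
  rw [← Scheme.IdealSheafData.ker_fst_of_isClosedImmersion y.arrow f, ← h.isoPullback_hom_fst,
    Scheme.Hom.ker_comp_of_isIso]

lemma eq_of_ker_eq {A B : Subobject X} (hA : IsClosedImmersion A.arrow) (hB : IsClosedImmersion B.arrow)
    (h : A.arrow.ker = B.arrow.ker) : A = B := by
  have := hA
  have := hB
  let f := IsClosedImmersion.lift B.arrow A.arrow h.ge
  have hf : f ≫ B.arrow = A.arrow := IsClosedImmersion.lift_fac _ _ _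
  have : IsIso f := IsClosedImmersion.isIso_of_ker_eq A.arrow B.arrow f hf h
  exact Subobject.eq_of_comm (asIso f) hf

lemma ker_mk_subschemeι (J : X.IdealSheafData) :
    (Subobject.mk J.subschemeι).arrow.ker = J := by
  rw [← Subobject.underlyingIso_hom_comp_eq_mk, Scheme.Hom.ker_comp_of_isIso, J.ker_subschemeι]

end Helpers


/-- For schemes, with (M) the faithfully flat quasi-compact morphisms and (N) the closed immersions: if
`π : X ⟶ X'` is flat, surjective and quasi-compact (so `X' = X/R` for its kernel pair `R ⇉ X`), then
`Y' ↦ π⁻¹(Y')` is a bijection from closed subschemes of `X'` onto the closed subschemes of `X`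
stable under `R`. -/
theorem result {X X' : Scheme.{u}} (π : X ⟶ X')
    [Flat π] [Surjective π] [QuasiCompact π] :
    Set.BijOn (Subobject.pullback π).obj
      {Y' : Subobject X' | IsClosedImmersion Y'.arrow}
      {Y : Subobject X | IsClosedImmersion Y.arrow ∧
        (Subobject.pullback (pullback.fst π π)).obj Y = (Subobject.pullback (pullback.snd π π)).obj Y} := by
  refine ⟨fun y hy => ⟨isClosedImmersion_pullback π y hy, ?_⟩, fun a ha b hb h => ?_, ?_⟩
  · rw [← Subobject.pullback_comp, ← Subobject.pullback_comp, pullback.condition]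
  · refine eq_of_ker_eq ha hb (Groth.EtaleAlgebra.IdealSheafDescent.comap_injective π ?_)
    show a.arrow.ker.comap π = b.arrow.ker.comap π
    rw [← ker_pullback π a ha, ← ker_pullback π b hb, h]
  · rintro Y ⟨hY, hst⟩
    have := hY
    have hI : Y.arrow.ker.comap (pullback.fst π π) = Y.arrow.ker.comap (pullback.snd π π) := by
      rw [← ker_pullback _ Y hY, ← ker_pullback _ Y hY, hst]
    let J := Y.arrow.ker.map π
    have hJ : IsClosedImmersion (Subobject.mk J.subschemeι).arrow := by
      rw [← Subobject.underlyingIso_hom_comp_eq_mk]; infer_instance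
    refine ⟨Subobject.mk J.subschemeι, hJ, eq_of_ker_eq (isClosedImmersion_pullback π _ hJ) hY ?_⟩
    rw [ker_pullback π _ hJ, ker_mk_subschemeι]
    exact Groth.SubDescent.comap_map_eq_of_stable π _ hI

end Groth.Agent.S5233
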