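import Groth.Statements.S5234
import Groth.Agent.DescentBase.SourceLocal
import Mathlib.AlgebraicGeometry.Morphisms.LocalFlatDescent

set_option autoImplicit false
open CategoryTheory CategoryTheory.Limits AlgebraicGeometry MonoidalCategory
universe u
open RedSub

namespace Groth.Agent.S5234

open CartesianMonoidalCategory SemiCartesianMonoidalCategory in
/-- (ii) ⇔ (iii), for schemes with the fppf topology: let `G` be an `S`-group scheme which is faithfully
flat and locally of finite presentation over `S`, acting on `X` so that `X` is formally principal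
homogeneous. Then `X` is a torsor (its structure map is faithfully flat and locally of finite
presentation) if and only if `X` has a point over some faithfully flat, locally finitely presented
`S' ⟶ S`. -/
theorem result {S : Scheme.{u}} {G X : Over S} [GrpObj G]
    (a : AlgGrp.Action G X)
    [Flat G.hom] [Surjective G.hom] [LocallyOfFinitePresentation G.hom]
    (hX : IsIso (lift a.act (snd G X))) :
    RedSub.IsTorsor a ↔
      ∃ S' : Over S, Surjective S'.hom ∧ Flat S'.hom ∧ LocallyOfFinitePresentation S'.hom ∧
        Nonempty (S' ⟶ X) := by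
  refine ⟨fun ⟨h1, h2, h3, _⟩ => ⟨X, h1, h2, h3, ⟨𝟙 X⟩⟩, ?_⟩
  rintro ⟨S', hs, hf, hl, ⟨x⟩⟩
  set σ := lift a.act (snd G X) with hσ
  have key : ∀ (T : Over S) (g : T ⟶ G) (z : T ⟶ X), lift g z ≫ σ = lift (lift g z ≫ a.act) z := by
    intro T g z
    rw [hσ, comp_lift, lift_snd]
  let q : G ⊗ S' ⟶ X ⊗ S' := lift (lift (fst G S') (snd G S' ≫ x) ≫ a.act) (snd G S')
  let r : X ⊗ S' ⟶ G ⊗ S' := lift (lift (fst X S') (snd X S' ≫ x) ≫ inv σ ≫ fst G X) (snd X S')
  have hr2 : lift (fst X S') (snd X S' ≫ x) ≫ inv σ ≫ snd G X = snd X S' ≫ x := by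
    have : inv σ ≫ snd G X = snd X X := by
      rw [IsIso.inv_comp_eq, hσ, lift_snd]
    rw [this, lift_snd]
  have hqr : q ≫ r = 𝟙 _ := by
    apply CartesianMonoidalCategory.hom_ext
    · simp only [q, r, Category.assoc, lift_fst, Category.id_comp]
      rw [comp_lift_assoc, lift_fst, ← Category.assoc _ (snd X S') x, lift_snd, ← key, Category.assoc,
        IsIso.hom_inv_id_assoc, lift_fst]
    · simp [q, r]
  have hrq : r ≫ q = 𝟙 _ := by
    apply CartesianMonoidalCategory.hom_ext
    · simp only [q, r, Category.assoc, lift_fst, Category.id_comp]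
      rw [comp_lift_assoc, lift_fst, ← Category.assoc _ (snd G S') x, lift_snd]
      have e : lift (lift (fst X S') (snd X S' ≫ x) ≫ inv σ ≫ fst G X) (snd X S' ≫ x) =
          lift (fst X S') (snd X S' ≫ x) ≫ inv σ := by
        apply CartesianMonoidalCategory.hom_ext
        · simp
        · rw [lift_snd, Category.assoc, hr2]
      rw [e, Category.assoc, show inv σ ≫ a.act = fst X X by rw [IsIso.inv_comp_eq, hσ, lift_fst], lift_fst]
    · simp [q, r]
  have hiso : IsIso r := ⟨q, hrq, hqr⟩
  have : IsIso r.left := inferInstanceAs (IsIso ((Over.forget S).map r))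
  have hsnd : r.left ≫ pullback.snd G.hom S'.hom = pullback.snd X.hom S'.hom :=
    congrArg Over.Hom.left (lift_snd _ _ : r ≫ snd G S' = snd X S')
  have hsq : IsPullback (pullback.snd X.hom S'.hom) (pullback.fst X.hom S'.hom) S'.hom X.hom :=
    (IsPullback.of_hasPullback X.hom S'.hom).flip
  have hQ : (@Surjective ⊓ @Flat ⊓ @LocallyOfFinitePresentation : MorphismProperty Scheme.{u}) S'.hom :=
    ⟨⟨hs, hf⟩, hl⟩
  have P1 : Surjective (pullback.snd X.hom S'.hom) := hsnd ▸ inferInstance
  have P2 : Flat (pullback.snd X.hom S'.hom) := hsnd ▸ inferInstance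
  have P3 : LocallyOfFinitePresentation (pullback.snd X.hom S'.hom) := hsnd ▸ inferInstance
  refine ⟨?_, ?_, ?_, hX⟩
  · have : Surjective (pullback.fst X.hom S'.hom ≫ X.hom) := by
      rw [pullback.condition]; infer_instance
    exact Surjective.of_comp (pullback.fst X.hom S'.hom) X.hom
  · have : Flat (pullback.fst X.hom S'.hom ≫ X.hom) := by
      rw [pullback.condition]; infer_instance
    exact Groth.DescentBase.flat_of_flat_surjective (pullback.fst X.hom S'.hom) X.hom
  · have : MorphismProperty.DescendsAlong @LocallyOfFinitePresentation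
        (@Surjective ⊓ @Flat ⊓ @QuasiCompact : MorphismProperty Scheme.{u}) := inferInstance
    exact MorphismProperty.of_isPullback_of_descendsAlong (P := @LocallyOfFinitePresentation) hsq hQ P3

end Groth.Agent.S5234
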