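import Groth.Statements.S5235
import Mathlib.AlgebraicGeometry.Morphisms.Flat
import Mathlib.CategoryTheory.Subobject.Basic

set_option autoImplicit false
open CategoryTheory CategoryTheory.Limits AlgebraicGeometry
universe u
open GrpQ

namespace Groth.Agent.S5235

section Helpers

open CategoryTheory CategoryTheory.Limits AlgebraicGeometry

variable {X X' : Scheme.{u}}

lemma range_pullback (f : X ⟶ X') (y : Subobject X') :
    Set.range ((Subobject.pullback f).obj y).arrow.base = f.base ⁻¹' Set.range y.arrow.base := by
  ext x
  constructor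
  · rintro ⟨z, rfl⟩
    refine ⟨Subobject.pullbackπ f y z, ?_⟩
    rw [← Scheme.Hom.comp_apply, ← Scheme.Hom.comp_apply, (Subobject.isPullback f y).w]
  · rintro ⟨z, hz⟩
    obtain ⟨w, -, hw⟩ := Scheme.exists_preimage_of_isPullback (Subobject.isPullback f y) z x hz
    exact ⟨w, hw⟩

lemma eq_of_range_eq {A B : Subobject X} (hA : IsOpenImmersion A.arrow) (hB : IsOpenImmersion B.arrow)
    (h : Set.range A.arrow.base = Set.range B.arrow.base) : A = B := by
  have := hA
  have := hB
  exact Subobject.eq_of_comm (IsOpenImmersion.isoOfRangeEq A.arrow B.arrow h)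
    (IsOpenImmersion.isoOfRangeEq_hom_fac _ _ _)

end Helpers


/-- For schemes, with (M) the faithfully flat quasi-compact morphisms and (N) the open immersions: if `π
: X ⟶ X'` is flat, surjective and quasi-compact, then `Y' ↦ π⁻¹(Y')` is a bijection from open
subschemes of `X'` onto the open subschemes of `X` stable under the kernel pair of `π`. -/
theorem result {X X' : Scheme.{u}} (π : X ⟶ X')
    [Flat π] [Surjective π] [QuasiCompact π] :
    Set.BijOn (Subobject.pullback π).obj
      {Y' : Subobject X' | IsOpenImmersion Y'.arrow}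
      {Y : Subobject X | IsOpenImmersion Y.arrow ∧
        (Subobject.pullback (pullback.fst π π)).obj Y = (Subobject.pullback (pullback.snd π π)).obj Y} := by
  refine ⟨fun y hy => ⟨MorphismProperty.of_isPullback (Subobject.isPullback π y) hy, ?_⟩,
    fun a ha b hb h => ?_, ?_⟩
  · rw [← Subobject.pullback_comp, ← Subobject.pullback_comp, pullback.condition]
  · refine eq_of_range_eq ha hb (π.surjective.preimage_injective ?_)
    rw [← range_pullback, ← range_pullback, h]
  · rintro Y ⟨hY, hst⟩
    have hsat : π.base ⁻¹' (π.base '' Set.range Y.arrow.base) = Set.range Y.arrow.base := by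
      refine Set.Subset.antisymm ?_ (Set.subset_preimage_image _ _)
      rintro x ⟨x', hx', hxx⟩
      obtain ⟨z, h₁, h₂⟩ := Scheme.Pullback.exists_preimage_pullback x' x hxx
      have hz : z ∈ (pullback.fst π π).base ⁻¹' Set.range Y.arrow.base := by
        show pullback.fst π π z ∈ Set.range Y.arrow.base; rw [h₁]; exact hx'
      rw [← range_pullback, hst, range_pullback] at hz
      rw [← h₂]; exact hz
    let U : X'.Opens := ⟨π.base '' Set.range Y.arrow.base,
      ((Flat.isQuotientMap_of_surjective π).isOpen_preimage).mp (by
        rw [hsat]; exact Y.arrow.isOpenEmbedding.isOpen_range)⟩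
    have hU : IsOpenImmersion (Subobject.mk U.ι).arrow := by
      rw [← Subobject.underlyingIso_hom_comp_eq_mk]; infer_instance
    refine ⟨Subobject.mk U.ι, hU,
      eq_of_range_eq (MorphismProperty.of_isPullback (Subobject.isPullback π _) hU) hY ?_⟩
    have hr : Set.range (Subobject.mk U.ι).arrow.base = U := by
      rw [← Subobject.underlyingIso_hom_comp_eq_mk]
      ext x
      refine ⟨?_, fun hx => ⟨(Subobject.underlyingIso U.ι).inv ⟨x, hx⟩, ?_⟩⟩
      · rintro ⟨z, rfl⟩
        exact ((Subobject.underlyingIso U.ι).hom z).2
      · rw [← Scheme.Hom.comp_apply, Iso.inv_hom_id_assoc]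
        rfl
    rw [range_pullback, hr]
    exact hsat

end Groth.Agent.S5235
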