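import Groth.Statements.S5237
import Groth.Agent.AlgGrp1.Basic

set_option autoImplicit false
open CategoryTheory CategoryTheory.Limits AlgebraicGeometry MonoidalCategory
universe u
open RedSub

namespace Groth.Agent.S5237

open MonObj GrpObj CartesianMonoidalCategory in
/-- For group schemes and the fppf topology: if `q : G ⟶ Q = G/H` is the fppf quotient of `G` by a
normal subgroup `H`, with its group structure, then a homomorphism `G ⟶ K` that kills `H` factors
uniquely through `q`, and the factorisation is a homomorphism. -/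
theorem result {S : Scheme.{u}} {H G Q K : Over S}
    [GrpObj H] [GrpObj G] [GrpObj Q] [GrpObj K]
    (i : H ⟶ G) [IsMonHom i] [Mono i] (hn : AlgGrp.IsNormalHom i)
    (q : G ⟶ Q) [IsMonHom q] (hq : RedSub.IsQuotient i q)
    (f : G ⟶ K) [IsMonHom f] (hf : i ≫ f = 1) :
    ∃! g : Q ⟶ K, q ≫ g = f ∧ IsMonHom g := by
  obtain ⟨hs, hfl, hlfp, hpb⟩ := hq
  have hc : Groth.AlgGrp1.IsCover q := ⟨hfl, hs, hlfp⟩
  obtain ⟨g, hg⟩ := hc.exists_desc f (fun T a b hab => by
    obtain ⟨c, h1, h2⟩ : ∃ c : T ⟶ G ⊗ H, c ≫ fst G H = a ∧ c ≫ (G ◁ i) ≫ μ[G] = b :=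
      ⟨hpb.lift a b hab, hpb.lift_fst _ _ _, hpb.lift_snd _ _ _⟩
    rw [← h1, ← h2]
    have e : (G ◁ i) ≫ μ[G] = fst G H * (snd G H ≫ i) := by
      rw [Hom.mul_def]
      congr 1
    rw [e]
    simp only [Category.assoc, MonObj.mul_comp, hf, MonObj.comp_one, _root_.mul_one])
  have hgm : IsMonHom g := Groth.AlgGrp1.isMonHom_of_points g (fun T a b => by
    obtain ⟨T', c, x, y, hcc, hx, hy⟩ := hc.exists_lift₂ a b
    apply hcc.cancel
    calc c ≫ (a * b) ≫ g = (x * y) ≫ q ≫ g := by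
          rw [← Category.assoc, ← Category.assoc (x * y), MonObj.comp_mul, MonObj.mul_comp x y q, hx, hy]
      _ = (x ≫ q ≫ g) * (y ≫ q ≫ g) := by rw [hg, MonObj.mul_comp]
      _ = c ≫ ((a ≫ g) * (b ≫ g)) := by
          rw [MonObj.comp_mul, ← Category.assoc x, ← Category.assoc y, hx, hy, Category.assoc, Category.assoc])
  exact ⟨g, ⟨hg, hgm⟩, fun g' hg' => hc.cancel (hg'.1.trans hg.symm)⟩

end Groth.Agent.S5237
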