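import Groth.Statements.S5238
import Mathlib
import Groth.Agent.S9432
-- import your own Groth.Agent.* helpers here

set_option autoImplicit false
open CategoryTheory AlgebraicGeometry
universe w u
open GrpQ

namespace Groth.Agent.S5238


/-- A presheaf of sets on schemes is a sheaf for the fppf topology (the topology generated by jointly
surjective families of flat morphisms locally of finite presentation) if and only if it is a Zariski
sheaf and satisfies the sheaf condition for every single morphism of affine schemes `T ⟶ S` which is
flat, surjective, locally of finite presentation and locally quasi-finite. (Between affine schemes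
such a morphism is faithfully flat, of finite presentation and quasi-finite; that these quasi-finite
covers suffice rests on the existence of quasi-finite flat quasi-sections of flat surjective
morphisms locally of finite presentation.) -/
theorem result (F : Scheme.{u}ᵒᵖ ⥤ Type w) :
    Presheaf.IsSheaf Scheme.fppfTopology F ↔
      Presheaf.IsSheaf Scheme.zariskiTopology F ∧
        ∀ (T S : Scheme.{u}) [IsAffine T] [IsAffine S] (f : T ⟶ S)
          [Flat f] [Surjective f] [LocallyOfFinitePresentation f] [LocallyQuasiFinite f],
          Presieve.IsSheafFor F (Presieve.singleton f) := by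
  set P : MorphismProperty Scheme.{u} := @Flat ⊓ @LocallyOfFinitePresentation
  have : P.IsMultiplicative :=
    { id_mem := fun X => ⟨inferInstance, inferInstance⟩
      comp_mem := fun f g hf hg => ⟨MorphismProperty.comp_mem _ f g hf.1 hg.1, MorphismProperty.comp_mem _ f g hf.2 hg.2⟩ }
  have : IsZariskiLocalAtSource P := inferInstance
  have htop : Scheme.fppfTopology = Scheme.propQCTopology P := by
    have : (Scheme.fppfPrecoverage : Precoverage Scheme.{u}) = Scheme.propQCPrecoverage P := by
      refine le_antisymm (le_inf ?_ le_rfl) inf_le_right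
      exact Scheme.precoverage_le_qcPrecoverage_of_isOpenMap fun X Y f ⟨_, _⟩ => f.isOpenMap
    show Scheme.fppfPrecoverage.toGrothendieck = _
    rw [this]
  rw [isSheaf_iff_isSheaf_of_type, htop, isSheaf_type_propQCTopology_iff,
    isSheaf_iff_isSheaf_of_type]
  refine and_congr_right fun hzar => ⟨fun h T S _ _ f _ _ _ _ => ?_, fun h {R A} φ hφ hs => ?_⟩
  · obtain ⟨φ, hφ⟩ := Spec.map_surjective (T.isoSpec.inv ≫ f ≫ S.isoSpec.hom)
    have hP : P (Spec.map φ) := by rw [hφ]; exact ⟨inferInstance, inferInstance⟩
    have hS : Surjective (Spec.map φ) := by rw [hφ]; infer_instance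
    have h1 := h φ hP hS
    rw [Presieve.isSheafFor_singleton] at h1 ⊢
    intro x hx
    obtain ⟨y, hy, huniq⟩ := h1 (F.map T.isoSpec.inv.op x) (fun {Z} p₁ p₂ hp => by
      rw [← FunctorToTypes.map_comp_apply, ← FunctorToTypes.map_comp_apply, ← op_comp, ← op_comp]
      refine hx _ _ ?_
      have := congrArg (fun m => m ≫ S.isoSpec.inv) hp
      simpa [hφ] using this)
    refine ⟨F.map S.isoSpec.hom.op y, ?_, fun z hz => ?_⟩
    · have := congrArg (F.map T.isoSpec.hom.op) hy
      rw [← FunctorToTypes.map_comp_apply, ← FunctorToTypes.map_comp_apply, ← op_comp, ← op_comp] at this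
      show F.map f.op (F.map S.isoSpec.hom.op y) = x
      rw [← FunctorToTypes.map_comp_apply, ← op_comp]
      simpa [hφ] using this
    · have : F.map S.isoSpec.inv.op z = y := huniq _ (by
        show F.map (Spec.map φ).op (F.map S.isoSpec.inv.op z) = F.map T.isoSpec.inv.op x
        rw [← hz, ← FunctorToTypes.map_comp_apply, ← FunctorToTypes.map_comp_apply, ← op_comp, ← op_comp]
        simp [hφ])
      rw [← this, ← FunctorToTypes.map_comp_apply, ← op_comp]
      simp
  · have : Flat (Spec.map φ) := hφ.1
    have : LocallyOfFinitePresentation (Spec.map φ) := hφ.2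
    let := φ.hom.toAlgebra
    have : Algebra.FinitePresentation R A :=
      (LocallyOfFinitePresentation.SpecMap_iff φ).mp inferInstance
    have : Module.Flat R A := Flat.SpecMap_iff.mp inferInstance
    have : Module.FaithfullyFlat R A := Module.FaithfullyFlat.of_comap_surjective hs.surj
    obtain ⟨A', _, _, hqf, hft, hff, hfp, ⟨χ⟩⟩ := Groth.Agent.S9432.result R A
    let a : Spec (CommRingCat.of A') ⟶ Spec A := Spec.map (CommRingCat.ofHom (χ : A →+* A'))
    let e : Spec (CommRingCat.of A') ⟶ Spec R := Spec.map (CommRingCat.ofHom (algebraMap R A'))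
    have hae : a ≫ Spec.map φ = e := by
      rw [← Spec.map_comp]
      congr 1
      ext r; exact χ.commutes r
    have : Flat e := Flat.SpecMap_iff.mpr (RingHom.flat_algebraMap_iff.mpr inferInstance)
    have : LocallyOfFinitePresentation e :=
      (LocallyOfFinitePresentation.SpecMap_iff _).mpr (RingHom.finitePresentation_algebraMap.mpr hfp)
    have : LocallyQuasiFinite e :=
      (HasRingHomProperty.Spec_iff (P := @LocallyQuasiFinite)).mpr (RingHom.quasiFinite_algebraMap.mpr hqf)
    have : Surjective e := ⟨PrimeSpectrum.comap_surjective_of_faithfullyFlat⟩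
    have he := h _ _ e
    have he' := h _ _ (Limits.pullback.snd e (Spec.map φ))
    rw [Presieve.isSheafFor_singleton] at he ⊢
    intro x hx
    obtain ⟨y, hy, huniq⟩ := he (F.map a.op x) (fun {Z} p₁ p₂ hp => by
      rw [← FunctorToTypes.map_comp_apply, ← FunctorToTypes.map_comp_apply, ← op_comp, ← op_comp]
      refine hx _ _ ?_
      simpa [hae] using hp)
    refine ⟨y, ?_, fun z hz => huniq z ?_⟩
    · refine (Presieve.isSeparatedFor_singleton.mp he'.isSeparatedFor) ?_
      calc F.map (Limits.pullback.snd e (Spec.map φ)).op (F.map (Spec.map φ).op y)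
          = F.map (Limits.pullback.fst e (Spec.map φ)).op (F.map e.op y) := by
            rw [← FunctorToTypes.map_comp_apply, ← FunctorToTypes.map_comp_apply, ← op_comp, ← op_comp,
              Limits.pullback.condition]
        _ = F.map (Limits.pullback.fst e (Spec.map φ) ≫ a).op x := by
            rw [hy, ← FunctorToTypes.map_comp_apply, ← op_comp]
        _ = F.map (Limits.pullback.snd e (Spec.map φ)).op x := hx _ _ (by
            rw [Category.assoc, hae, Limits.pullback.condition])
    · show F.map e.op z = F.map a.op x
      rw [← hz, ← FunctorToTypes.map_comp_apply, ← op_comp, hae]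

end Groth.Agent.S5238
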