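import Groth.Statements.S5240
import Groth.Agent.Sga3.MultTypeRigid

set_option autoImplicit false
universe u
open TensorProduct SGA3b
open SGA3b

namespace Groth.Agent.S5240

/-- Case of an affine target group: Let R be a ring, I a nilpotent ideal of R, H = Spec A an R-group of
multiplicative type, G = Spec C an affine R-group and u : H ⟶ G a homomorphism, given by the
bialgebra map φ : C → A. If the reduction of u modulo I is the unit homomorphism (φ c and ε(c)·1
have the same image in (R/I) ⊗ A for every c), then u is the unit homomorphism: φ c = ε(c)·1 for
every c. (The published statement allows any S-group G; this row takes G affine.) (Affine group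
schemes over an affine base are taken in Hopf-algebra form; base change is the tensor product; a
homomorphism of groups Spec A ⟶ Spec C is a bialgebra map C → A.) -/
theorem result (R : Type u) [CommRing R] (I : Ideal R) (hI : IsNilpotent I)
    (A : Type u) [CommRing A] [HopfAlgebra R A] (hH : IsMultType R A)
    (C : Type u) [CommRing C] [HopfAlgebra R C] (φ : C →ₐc[R] A)
    (h0 : ∀ c : C, (1 : R ⧸ I) ⊗ₜ[R] (φ c) = (1 : R ⧸ I) ⊗ₜ[R] (algebraMap R A (Coalgebra.counit c))) :
    ∀ c : C, φ c = algebraMap R A (Coalgebra.counit c) := by
  have key : φ = Groth.Sga3.MultType.unit R C A :=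
    Groth.Sga3.MultType.bialgHom_eq_of_sub_mem hI hH φ _
      (fun c => Groth.Sga3.MultType.sub_mem_smul_of_tmul_eq I (h0 c))
      (fun S _ _ M _ e m => by
        rw [Groth.Sga3.MultType.coeffs, Groth.Sga3.MultType.coeffs,
          Groth.Sga3.MultType.comp_mapBC_unit]
        exact Groth.Sga3.GroupAlg.commute_comp_unitHom _ m)
  exact fun c => by rw [key]; rfl

end Groth.Agent.S5240
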