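import Groth.Statements.S5242
import Groth.Agent.Sga3.TorsionIdeal
import Groth.Agent.Sga3.MultTypeModule

set_option autoImplicit false
universe u
open TensorProduct SGA3b
open SGA3b

namespace Groth.Agent.S5242

/-- Let G = Spec A be an R-group of multiplicative type and of finite type and n > 0 an integer. Then
the kernel ₙG = Spec (A/J) of the n-th power map of G, J being the ideal generated by the image of
the augmentation ideal under the n-th power endomorphism (a Hopf ideal; the instance hypothesis
holds automatically for this J), is an R-group of multiplicative type which is finite over R.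
(Affine group schemes over an affine base are taken in Hopf-algebra form; base change is the tensor
product; a homomorphism of groups Spec A ⟶ Spec C is a bialgebra map C → A.) -/
theorem result (R : Type u) [CommRing R] (A : Type u) [CommRing A] [HopfAlgebra R A]
    (hft : Algebra.FiniteType R A) (h : IsMultType R A) (n : ℕ) (hn : 0 < n)
    (J : Ideal A) [J.IsHopfIdeal R] (hJ : J = torsionIdeal R A n) :
    IsMultType R (A ⧸ J) ∧ Module.Finite R (A ⧸ J) := by
  open Groth.Sga3.MultType in
  open TensorProduct in
  have key : ∀ (S : Type u) [CommRing S] [Algebra R S], IsDiag S (S ⊗[R] A) →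
      IsDiag S (S ⊗[R] (A ⧸ J)) ∧ Module.Finite S (S ⊗[R] (A ⧸ J)) := by
    intro S _ _ hS
    obtain ⟨M, _, ⟨e⟩⟩ := hS
    let ψ : S ⊗[R] A →ₐc[S] S ⊗[R] (A ⧸ J) := mapBC S (Bialgebra.Quotient.mkBialgHom (R := R) J)
    have hψ : Function.Surjective ψ := by
      intro y
      induction y using TensorProduct.induction_on with
      | zero => exact ⟨0, map_zero _⟩
      | tmul c b =>
        obtain ⟨b, rfl⟩ := Ideal.Quotient.mk_surjective b
        exact ⟨c ⊗ₜ[R] b, rfl⟩
      | add p q hp hq =>
        obtain ⟨p', rfl⟩ := hp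
        obtain ⟨q', rfl⟩ := hq
        exact ⟨p' + q', map_add _ _ _⟩
    have hker : RingHom.ker ψ = torsionIdeal S (S ⊗[R] A) n := by
      rw [torsionIdeal_baseChange, ← hJ]
      have h1 := Algebra.TensorProduct.lTensor_ker (A := S) (Ideal.Quotient.mkₐ R J)
        (Ideal.Quotient.mkₐ_surjective R J)
      rw [show RingHom.ker (Ideal.Quotient.mkₐ R J) = J from Ideal.Quotient.mkₐ_ker R J] at h1
      rw [← h1]
      ext z
      rw [RingHom.mem_ker, RingHom.mem_ker]
      have h2 : ∀ z, ψ z = Algebra.TensorProduct.map (AlgHom.id R S) (Ideal.Quotient.mkₐ R J) z := by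
        intro z
        induction z using TensorProduct.induction_on with
        | zero => simp
        | tmul s a => rfl
        | add p q hp hq => simp only [map_add, hp, hq]
      rw [h2]
    obtain ⟨e₂⟩ := isDiag_of_ker_eq_torsionIdeal e n ψ hψ hker
    refine ⟨⟨_, _, ⟨e₂⟩⟩, ?_⟩
    rcases subsingleton_or_nontrivial S with hsub | hnt
    · have : Subsingleton (S ⊗[R] (A ⧸ J)) := Module.subsingleton S _
      infer_instance
    haveI : Group.FG M := group_fg_of_finiteType (inferInstance : Algebra.FiniteType S (S ⊗[R] A)) e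
    haveI : Finite (M ⧸ (powMonoidHom (α := M) n).range) :=
      CommGroup.finite_of_fg_isMulTorsion _ fun q => by
        obtain ⟨m, rfl⟩ := QuotientGroup.mk'_surjective _ q
        refine isOfFinOrder_iff_pow_eq_one.2 ⟨n, hn, ?_⟩
        rw [← map_pow]
        exact (QuotientGroup.eq_one_iff _).2 ⟨m, rfl⟩
    haveI : Module.Finite S (MonoidAlgebra S (M ⧸ (powMonoidHom (α := M) n).range)) :=
      Module.Finite.of_basis (Module.Basis.ofRepr (MonoidAlgebra.coeffLinearEquiv S))
    exact Module.Finite.equiv (e₂ : S ⊗[R] (A ⧸ J) ≃ₐ[S] MonoidAlgebra S (M ⧸ (powMonoidHom (α := M) n).range)).toLinearEquiv.symm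
  open Groth.Sga3.MultType in
  open TensorProduct in
  refine ⟨?_, finite_of_forall h fun S _ _ hS => (key S hS).2⟩
  obtain ⟨s, hs, hloc⟩ := h
  refine ⟨s, hs, fun f hf => ?_⟩
  obtain ⟨R', _, _, hff, hd⟩ := hloc f hf
  letI : Algebra R R' :=
    ((algebraMap (Localization.Away f) R').comp (algebraMap R (Localization.Away f))).toAlgebra
  haveI : IsScalarTower R (Localization.Away f) R' := IsScalarTower.of_algebraMap_eq' rfl
  exact ⟨R', _, _, hff, Groth.Sga3.MultType.isDiag_of_equiv
    (Groth.Sga3.MultType.cancelBC R (Localization.Away f) R' (A ⧸ J)).symm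
    (key R' (Groth.Sga3.MultType.isDiag_trans (Localization.Away f) R' A hd)).1⟩

end Groth.Agent.S5242
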