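import Groth.Statements.S5243
import Groth.Agent.Sga3.GroupAlgMono
import Groth.Agent.Sga3.MultType

set_option autoImplicit false
universe u
open TensorProduct SGA3b
open SGA3b

namespace Groth.Agent.S5243

/-- Let G = Spec A be an R-group of multiplicative type, H = Spec C an affine R-group and u : G ⟶ H a
homomorphism of R-groups, given by the bialgebra map φ : C → A, which is a monomorphism: for every
R-algebra T the induced map on T-valued points G(T) → H(T) is injective. Then u is a closed
immersion, i.e. φ is surjective. (The published statement also asserts that the quotient of H by G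
exists and is affine over the base, and that H is a torsor over it; this row states only that u is a
closed immersion.) (Affine group schemes over an affine base are taken in Hopf-algebra form; base
change is the tensor product; a homomorphism of groups Spec A ⟶ Spec C is a bialgebra map C → A.) -/
theorem result (R : Type u) [CommRing R] (A : Type u) [CommRing A] [HopfAlgebra R A]
    (h : IsMultType R A) (C : Type u) [CommRing C] [HopfAlgebra R C] (φ : C →ₐc[R] A)
    (hmono : ∀ (T : Type u) [CommRing T] [Algebra R T],
      Function.Injective (fun x : A →ₐ[R] T => x.comp (φ : C →ₐ[R] A))) :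
    Function.Surjective φ := by
  intro a
  let L : Submodule R A := LinearMap.range (φ : C →ₐ[R] A).toLinearMap
  suffices h0 : L.mkQ a = 0 by
    obtain ⟨c, hc⟩ := (Submodule.Quotient.mk_eq_zero L).1 h0
    exact ⟨c, hc⟩
  refine Groth.Sga3.MultType.eq_zero_of_forall h fun S _ _ hS => ?_
  obtain ⟨M, _, ⟨e⟩⟩ := hS
  let φS : S ⊗[R] C →ₐc[S] MonoidAlgebra S M :=
    (e : S ⊗[R] A →ₐc[S] MonoidAlgebra S M).comp (Groth.Sga3.MultType.mapBC S φ)
  have hsurj : Function.Surjective φS := by
    refine Groth.Sga3.GroupAlg.surjective_of_mono φS fun T _ _ x y hxy => ?_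
    letI : Algebra R T := ((algebraMap S T).comp (algebraMap R S)).toAlgebra
    haveI : IsScalarTower R S T := IsScalarTower.of_algebraMap_eq' rfl
    let ι := fun x : MonoidAlgebra S M →ₐ[S] T =>
      ((x.comp (e : S ⊗[R] A ≃ₐ[S] MonoidAlgebra S M).toAlgHom).restrictScalars R).comp
        Algebra.TensorProduct.includeRight
    have h1 : ι x = ι y := hmono T <| AlgHom.ext fun c =>
      DFunLike.congr_fun hxy ((1 : S) ⊗ₜ[R] c)
    have h2 : x.comp (e : S ⊗[R] A ≃ₐ[S] MonoidAlgebra S M).toAlgHom =
        y.comp (e : S ⊗[R] A ≃ₐ[S] MonoidAlgebra S M).toAlgHom :=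
      Algebra.TensorProduct.ext' fun s a => by
        have h3 : (1 : S) ⊗ₜ[R] a * (s ⊗ₜ[R] (1 : A)) = s ⊗ₜ[R] a := by simp
        rw [← h3, map_mul, map_mul]
        refine congrArg₂ (· * ·) (DFunLike.congr_fun h1 a) ?_
        exact (AlgHomClass.commutes _ s).trans (AlgHomClass.commutes _ s).symm
    exact AlgHom.ext fun z => by
      obtain ⟨w, rfl⟩ := e.surjective z
      exact DFunLike.congr_fun h2 w
  obtain ⟨z, hz⟩ := hsurj (e ((1 : S) ⊗ₜ[R] a))
  have hz' : Groth.Sga3.MultType.mapBC S φ z = (1 : S) ⊗ₜ[R] a := e.injective hz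
  have h4 : ∀ z : S ⊗[R] C, L.mkQ.lTensor S (Groth.Sga3.MultType.mapBC S φ z) = 0 := by
    intro z
    induction z using TensorProduct.induction_on with
    | zero => simp
    | tmul s c =>
      rw [Groth.Sga3.MultType.mapBC_tmul, LinearMap.lTensor_tmul, Submodule.mkQ_apply,
        (Submodule.Quotient.mk_eq_zero L).2 (⟨c, rfl⟩ : φ c ∈ L), TensorProduct.tmul_zero]
    | add p q hp hq => simp only [map_add, hp, hq, add_zero]
  have h5 := h4 z
  rwa [hz'] at h5

end Groth.Agent.S5243
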