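import Groth.Statements.S5244
import Groth.Agent.Sga3.MultTypeField

set_option autoImplicit false
universe u
open TensorProduct SGA3b
open SGA3b

namespace Groth.Agent.S5244

/-- Case of a group of multiplicative type, assertion on the subgroup; G is taken of finite type, the
case the printed proof treats in full before a limit argument: Let k be a field, G = Spec A a
k-group of multiplicative type and of finite type, and H = Spec (A/J) a closed subgroup scheme of G
(J a Hopf ideal). Then H is of multiplicative type. (Affine group schemes over an affine base are
taken in Hopf-algebra form; base change is the tensor product; a homomorphism of groups Spec A ⟶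
Spec C is a bialgebra map C → A.) -/
theorem result (k : Type u) [Field k] (A : Type u) [CommRing A] [HopfAlgebra k A]
    (hft : Algebra.FiniteType k A) (h : IsMultType k A) (J : Ideal A) [J.IsHopfIdeal k] :
    IsMultType k (A ⧸ J) := by
  obtain ⟨K, _, _, hd⟩ := Groth.Sga3.MultType.exists_field_isDiag h
  refine Groth.Sga3.MultType.isMultType_of_field_isDiag K ?_
  refine Groth.Sga3.MultType.isDiag_of_surjective
    (Groth.Sga3.MultType.mapBC K (Bialgebra.Quotient.mkBialgHom (R := k) J)) (fun y => ?_) hd
  induction y using TensorProduct.induction_on with
  | zero => exact ⟨0, map_zero _⟩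
  | tmul c b =>
    obtain ⟨b, rfl⟩ := Ideal.Quotient.mk_surjective b
    exact ⟨c ⊗ₜ[k] b, rfl⟩
  | add p q hp hq =>
    obtain ⟨p', rfl⟩ := hp
    obtain ⟨q', rfl⟩ := hq
    exact ⟨p' + q', map_add _ _ _⟩

end Groth.Agent.S5244
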