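import Groth.Statements.S5245
import Groth.Agent.Sga3.MultTypeModule
import Groth.Agent.Sga3.MultTypeRigid

set_option autoImplicit false
universe u
open TensorProduct SGA3b
open SGA3b

namespace Groth.Agent.S5245

open TensorProduct Groth.Sga3 Groth.Sga3.GroupAlg Groth.Sga3.MultType in
/-- the content ideal of the difference of a homomorphism and the unit is idempotent -/
theorem le_sq {R : Type u} [CommRing R] {A : Type u} [CommRing A] [HopfAlgebra R A]
    [Module.Projective R A] (hA : IsMultTypeConst R A) {C : Type u} [CommRing C] [HopfAlgebra R C]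
    (φ : C →ₐc[R] A) (K : Ideal R)
    (hle : ∀ (c : C) (f : A →ₗ[R] R), f (φ c - algebraMap R A (Coalgebra.counit c)) ∈ K)
    (hge : ∀ J : Ideal R, (∀ (c : C) (f : A →ₗ[R] R),
      f (φ c - algebraMap R A (Coalgebra.counit c)) ∈ J) → K ≤ J) :
    K ≤ K * K := by
  classical
  obtain ⟨S, _, _, hff, M, _, ⟨e⟩⟩ := hA
  let eh : S ⊗[R] A →ₐc[S] MonoidAlgebra S M := e
  have hy : ∀ c, φ c - unit R C A c ∈ K • (⊤ : Submodule R A) := by
    intro c
    obtain ⟨i, hi⟩ := Module.projective_def'.mp ‹Module.Projective R A›
    rw [show φ c - unit R C A c =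
        Finsupp.linearCombination R id (i (φ c - unit R C A c)) from
      (LinearMap.congr_fun hi _).symm, Finsupp.linearCombination_apply]
    exact Submodule.sum_mem _ fun a _ =>
      Submodule.smul_mem_smul (hle c (Finsupp.lapply a ∘ₗ i)) Submodule.mem_top
  let d := fun m => coeffs S eh φ m - coeffs S eh (unit R C A) m
  have hd : ∀ m x, (d m).ofConv x ∈ K.map (algebraMap R S) := fun m x =>
    cf_sub_mem S φ (unit R C A) eh hy m x
  have hd2 : ∀ m x, (d m).ofConv x ∈ K.map (algebraMap R S) * K.map (algebraMap R S) := by
    intro m x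
    have hu : coeffs S eh (unit R C A) m = if m = 1 then 1 else 0 := by
      rw [coeffs, comp_mapBC_unit]; exact comp_unitHom m
    have hi : IsIdempotentElem (coeffs S eh φ m) := isIdempotentElem_comp _ m
    have h2 := conv_mul_mem (f := d m) (g := d m) (hd m) (hd m) x
    rcases eq_or_ne m 1 with hm | hm
    · rw [if_pos hm] at hu
      have hdd : d m * d m = -d m := by
        simp only [d, hu, sub_mul, mul_sub, one_mul, mul_one, hi.eq]; abel
      rw [hdd] at h2
      simpa using neg_mem h2
    · rw [if_neg hm] at hu
      have hdd : d m * d m = d m := by simp only [d, hu, sub_zero, hi.eq]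
      rw [hdd] at h2
      exact h2
  have hfin : ∀ (c : C) (f : A →ₗ[R] R), algebraMap R S (f (φ c - unit R C A c)) ∈
      (K * K).map (algebraMap R S) := by
    intro c f
    rw [Ideal.map_mul]
    let fS : MonoidAlgebra S M →ₗ[S] S := (Algebra.TensorProduct.rid R S S).toLinearMap ∘ₗ
      f.baseChange S ∘ₗ (e.symm : MonoidAlgebra S M ≃ₐ[S] S ⊗[R] A).toLinearMap
    have h1 : algebraMap R S (f (φ c - unit R C A c)) =
        fS (e ((1 : S) ⊗ₜ[R] (φ c - unit R C A c))) := by
      simp [fS, Algebra.algebraMap_eq_smul_one, sub_smul]
    rw [h1, ← MonoidAlgebra.sum_coeff_single (e _), Finsupp.sum, map_sum]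
    refine sum_mem fun m _ => ?_
    rw [show MonoidAlgebra.single m ((e ((1 : S) ⊗ₜ[R] (φ c - unit R C A c))).coeff m) =
      (e ((1 : S) ⊗ₜ[R] (φ c - unit R C A c))).coeff m • MonoidAlgebra.single m (1 : S) by simp,
      map_smul, smul_eq_mul]
    refine Ideal.mul_mem_right _ _ ?_
    have h3 := hd2 m ((1 : S) ⊗ₜ[R] c)
    rw [TensorProduct.tmul_sub, map_sub]
    exact h3
  refine hge _ fun c f => ?_
  rw [← Ideal.comap_map_eq_self_of_faithfullyFlat (B := S) (K * K)]
  exact hfin c f

/-- Over a local base, where an open neighbourhood of the closed point is the whole base; affine target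
group: Let R be a local ring with maximal ideal 𝔪, H = Spec A an R-group of multiplicative type and
of finite type, G = Spec C an affine R-group, with R Noetherian or C of finite presentation over R,
and u : H ⟶ G a homomorphism given by the bialgebra map φ : C → A. If the restriction of u to the
closed fibre is the unit homomorphism (φ c − ε(c)·1 ∈ 𝔪A for every c), then u is the unit
homomorphism. (Affine group schemes over an affine base are taken in Hopf-algebra form; base change
is the tensor product; a homomorphism of groups Spec A ⟶ Spec C is a bialgebra map C → A.) -/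
theorem result (R : Type u) [CommRing R] [IsLocalRing R]
    (A : Type u) [CommRing A] [HopfAlgebra R A] (hft : Algebra.FiniteType R A) (hH : IsMultType R A)
    (C : Type u) [CommRing C] [HopfAlgebra R C] (hC : IsNoetherianRing R ∨ Algebra.FinitePresentation R C)
    (φ : C →ₐc[R] A)
    (hs : ∀ c : C, φ c - algebraMap R A (Coalgebra.counit c) ∈ Ideal.map (algebraMap R A) (IsLocalRing.maximalIdeal R)) :
    ∀ c : C, φ c = algebraMap R A (Coalgebra.counit c) := by
  have hconst := Groth.Sga3.MultType.exists_isMultTypeConst_of_isLocalRing hH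
  have := Groth.Sga3.MultType.projective_of_isMultTypeConst hconst
  let K : Ideal R := Ideal.span (Set.range fun x : C × (A →ₗ[R] R) =>
    x.2 (φ x.1 - algebraMap R A (Coalgebra.counit x.1)))
  have hle : ∀ (c : C) (f : A →ₗ[R] R), f (φ c - algebraMap R A (Coalgebra.counit c)) ∈ K :=
    fun c f => Ideal.subset_span ⟨(c, f), rfl⟩
  have hKm : K ≤ IsLocalRing.maximalIdeal R := by
    rw [Ideal.span_le]
    rintro _ ⟨⟨c, f⟩, rfl⟩
    have h1 := hs c
    rw [← Submodule.restrictScalars_mem R, ← Ideal.smul_top_eq_map] at h1
    have h2 := Groth.Sga3.MultType.apply_mem_map f h1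
    rwa [Algebra.algebraMap_self, Ideal.map_id] at h2
  have hfg : K.FG := by
    rcases hC with hN | hfp
    · exact IsNoetherian.noetherian K
    · classical
      obtain ⟨s, hs'⟩ := (inferInstance : Algebra.FiniteType R C).out
      obtain ⟨i, hi⟩ := Module.projective_def'.mp ‹Module.Projective R A›
      let T : Finset R := s.biUnion fun c =>
        (i (φ c - algebraMap R A (Coalgebra.counit c))).support.image
          fun a => i (φ c - algebraMap R A (Coalgebra.counit c)) a
      have hT : ∀ c : C, φ c - algebraMap R A (Coalgebra.counit c) ∈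
          (Ideal.span (T : Set R)).map (algebraMap R A) := by
        intro c
        have hc : c ∈ Algebra.adjoin R (s : Set C) := hs' ▸ Algebra.mem_top
        induction hc using Algebra.adjoin_induction with
        | mem x hx =>
          rw [← Submodule.restrictScalars_mem R, ← Ideal.smul_top_eq_map,
            show φ x - algebraMap R A (Coalgebra.counit x) = Finsupp.linearCombination R id
              (i (φ x - algebraMap R A (Coalgebra.counit x))) from (LinearMap.congr_fun hi _).symm,
            Finsupp.linearCombination_apply]
          refine Submodule.sum_mem _ fun a ha => ?_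
          exact Submodule.smul_mem_smul (Ideal.subset_span (Finset.mem_coe.2 (Finset.mem_biUnion.2
            ⟨x, hx, Finset.mem_image_of_mem _ ha⟩))) Submodule.mem_top
        | algebraMap r =>
          rw [AlgHomClass.commutes, Bialgebra.counit_algebraMap, sub_self]
          exact zero_mem _
        | add x y _ _ hx hy =>
          rw [map_add, map_add, map_add, add_sub_add_comm]
          exact add_mem hx hy
        | mul x y _ _ hx hy =>
          rw [map_mul, Bialgebra.counit_mul, map_mul,
            show φ x * φ y - algebraMap R A (Coalgebra.counit x) * algebraMap R A (Coalgebra.counit y)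
              = (φ x - algebraMap R A (Coalgebra.counit x)) * φ y + algebraMap R A (Coalgebra.counit x) *
                (φ y - algebraMap R A (Coalgebra.counit y)) by ring]
          exact add_mem (Ideal.mul_mem_right _ _ hx) (Ideal.mul_mem_left _ _ hy)
      have hKT : K = Ideal.span (T : Set R) := by
        refine le_antisymm ?_ (Ideal.span_le.2 ?_)
        · rw [Ideal.span_le]
          rintro _ ⟨⟨c, f⟩, rfl⟩
          have h1 := hT c
          rw [← Submodule.restrictScalars_mem R, ← Ideal.smul_top_eq_map] at h1
          have h2 := Groth.Sga3.MultType.apply_mem_map f h1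
          rwa [Algebra.algebraMap_self, Ideal.map_id] at h2
        · intro r hr
          obtain ⟨c, -, hr⟩ := Finset.mem_biUnion.1 (Finset.mem_coe.1 hr)
          obtain ⟨a, -, rfl⟩ := Finset.mem_image.1 hr
          exact hle c (Finsupp.lapply a ∘ₗ i)
      exact hKT ▸ Submodule.fg_span T.finite_toSet
  have hK0 : K = ⊥ := by
    refine Submodule.eq_bot_of_le_smul_of_le_jacobson_bot K K hfg ?_
      (hKm.trans (IsLocalRing.maximalIdeal_le_jacobson _))
    rw [smul_eq_mul]
    exact le_sq hconst φ K hle fun J hJ => Ideal.span_le.2 <| by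
      rintro _ ⟨⟨c, f⟩, rfl⟩; exact hJ c f
  intro c
  refine sub_eq_zero.1 (Groth.Sga3.MultType.eq_zero_of_forall_dual (R := R) fun f => ?_)
  simpa [hK0] using hle c f

end Groth.Agent.S5245
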