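import Groth.Statements.S5248
import Groth.Agent.Reductive.MTSubTransporter
-- import your own Groth.Agent.* helpers here

set_option autoImplicit false
open CategoryTheory MonoidalCategory CartesianMonoidalCategory MonObj GrpObj AlgebraicGeometry
universe u
open SGA3x

namespace Groth.Agent.S5248

/-- Let G be an S-group smooth and affine over S and i : H ⟶ G a subgroup scheme of G of multiplicative
type (H of multiplicative type and of finite type, which is automatic here since G is affine and of
finite type over S). Then the normalizer of H in G (the subfunctor of points g of G with g H g⁻¹ ⊆ H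
and g⁻¹ H g ⊆ H after every base change) is representable by a closed subgroup scheme of G which is
smooth over S. -/
theorem result {S : Scheme.{u}} (H G : Over S) [GrpObj H] [GrpObj G]
    (hH : SGA3x.IsMultTypeFT H) (hG : Smooth G.hom) (hGa : IsAffineHom G.hom) (i : H ⟶ G) [IsMonHom i] [Mono i] :
    ∃ (N : Over S) (_ : GrpObj N) (j : N ⟶ G), Red.IsNormalizerOf i j ∧ IsClosedImmersion j.left ∧ Smooth N.hom := by
  exact Groth.Reductive.MTInt.exists_normalizer hH hG hGa i

end Groth.Agent.S5248
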