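import Groth.Statements.S5249
import Groth.Agent.Reductive.MultTypeComm
import Groth.Agent.AlgGrp1.Basic
import Groth.Agent.Reductive.BaseChangeMT
-- import your own Groth.Agent.* helpers here

set_option autoImplicit false
open CategoryTheory MonoidalCategory CartesianMonoidalCategory MonObj GrpObj AlgebraicGeometry
universe u
open SGA3x

namespace Groth.Agent.S5249

open Groth.Reductive.FreeDiag

/-- Let G be an S-group smooth and affine over S, i : H ⟶ G a subgroup scheme of multiplicative type (H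
of multiplicative type and of finite type), j : Z ⟶ G the centralizer and k : N ⟶ G the normalizer
of H in G. Then Z ⟶ G factors through N by a morphism which is an open and closed immersion: the
centralizer is an open and closed subgroup scheme of the normalizer. -/
theorem result {S : Scheme.{u}} (H G Z N : Over S) [GrpObj H] [GrpObj G] [GrpObj Z] [GrpObj N]
    (hH : SGA3x.IsMultTypeFT H) (hG : Smooth G.hom) (hGa : IsAffineHom G.hom) (i : H ⟶ G) [IsMonHom i] [Mono i]
    (j : Z ⟶ G) (k : N ⟶ G) (hj : Red.IsCentralizerOf i j) (hk : Red.IsNormalizerOf i k) :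
    ∃ f : Z ⟶ N, f ≫ k = j ∧ IsOpenImmersion f.left ∧ IsClosedImmersion f.left := by
  obtain ⟨hjm, hjmono, hjiff⟩ := hj
  obtain ⟨hkm, hkmono, hkiff⟩ := hk
  -- the centralizer lies in the normalizer
  have hjk : ∀ (X' : Over S) (x : X' ⟶ Z) (h : X' ⟶ H),
      (x ≫ j) * (h ≫ i) = (h ≫ i) * (x ≫ j) := (hjiff Z j).mp ⟨𝟙 Z, Category.id_comp j⟩
  obtain ⟨f, hf⟩ := (hkiff Z j).mpr fun X' x h ↦ by
    have hcm : Commute (x ≫ j) (h ≫ i) := hjk X' x h
    refine ⟨⟨h, ?_⟩, ⟨h, ?_⟩⟩
    · rw [hcm.eq, mul_inv_cancel_right]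
    · rw [_root_.mul_assoc, ← hcm.eq, inv_mul_cancel_left]
  refine ⟨f, hf, ?_⟩
  have hkk := (hkiff N k).mp ⟨𝟙 N, Category.id_comp k⟩
  -- conjugation, on points
  have hσ : ∀ (X : Over S) (n : X ⟶ N) (h : X ⟶ H), ∃ h' : X ⟶ H,
      h' ≫ i = (n ≫ k) * (h ≫ i) * (n ≫ k)⁻¹ := fun X n h ↦
    ((hkk X n h).1).imp fun _ e ↦ e.symm
  choose σ hσ using hσ
  have hσ_comp : ∀ (X X' : Over S) (a : X' ⟶ X) (n : X ⟶ N) (h : X ⟶ H),
      a ≫ σ X n h = σ X' (a ≫ n) (a ≫ h) := fun X X' a n h ↦ by
    rw [← cancel_mono i, Category.assoc, hσ, hσ, MonObj.comp_mul, MonObj.comp_mul, GrpObj.comp_inv]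
    simp only [Category.assoc]
  have hσ_mul : ∀ (X : Over S) (n : X ⟶ N) (h h' : X ⟶ H),
      σ X n (h * h') = σ X n h * σ X n h' := fun X n h h' ↦ by
    rw [← cancel_mono i, MonObj.mul_comp, hσ, hσ, hσ, MonObj.mul_comp]
    group
  -- the homomorphism over the normalizer
  let r := N.hom
  let pn : ∀ Y : Over N.left, (Over.map r).obj Y ⟶ N := fun Y ↦ Over.homMk Y.hom rfl
  let v : Red.bc r H ⟶ Red.bc r H := (Over.mapPullbackAdj r).homEquiv (Red.bc r H) H
    (σ _ (pn _) (qPt r (𝟙 _)) * (qPt r (𝟙 _))⁻¹)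
  have hv : ∀ (Y : Over N.left) (y : Y ⟶ Red.bc r H),
      qPt r (y ≫ v) = σ _ (pn Y) (qPt r y) * (qPt r y)⁻¹ := fun Y y ↦ by
    have e1 : qPt r (y ≫ v) = (Over.map r).map y ≫ qPt r v :=
      (Over.mapPullbackAdj r).homEquiv_naturality_left_symm y v
    have e2 : (Over.map r).map y ≫ qPt r (𝟙 (Red.bc r H)) = qPt r y :=
      ((Over.mapPullbackAdj r).homEquiv_naturality_left_symm y (𝟙 _)).symm.trans
        (congrArg _ (Category.comp_id _))
    have e3 : (Over.map r).map y ≫ pn (Red.bc r H) = pn Y := Over.OverMorphism.ext (Over.w y)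
    have e4 : qPt r v = σ _ (pn _) (qPt r (𝟙 _)) * (qPt r (𝟙 _))⁻¹ := Equiv.symm_apply_apply _ _
    rw [e1, e4, MonObj.comp_mul, GrpObj.comp_inv, hσ_comp, e2, e3]
  haveI : IsMonHom v := Groth.AlgGrp1.isMonHom_of_points v fun Y y y' ↦ by
    apply qPt_injective r
    show qPt r ((y * y') ≫ v) = Groth.Reductive.bcPointEquiv r H Y (y ≫ v * (y' ≫ v))
    rw [map_mul, hv,
      show Groth.Reductive.bcPointEquiv r H Y (y ≫ v) = qPt r (y ≫ v) from rfl,
      show Groth.Reductive.bcPointEquiv r H Y (y' ≫ v) = qPt r (y' ≫ v) from rfl, hv, hv,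
      show qPt r (y * y') = qPt r y * qPt r y' from map_mul (Groth.Reductive.bcPointEquiv r H Y) y y',
      hσ_mul, _root_.mul_inv_rev, _root_.mul_assoc, _root_.mul_assoc]
    congr 1
    rw [← _root_.mul_assoc]
    exact comm_of_multTypeFT hH _ _ _
  have hHlfp := (Groth.Reductive.flat_lfp_of_multTypeFT H hH Groth.AlgSp2.flat_descendsAlong inferInstance).2
  haveI : IsSeparated H.hom := by
    haveI : Mono i.left := inferInstance
    haveI := hGa
    rw [← Over.w i]
    infer_instance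
  haveI : IsSeparated (Red.bc r H).hom := MorphismProperty.pullback_snd _ _ ‹_›
  haveI : LocallyOfFinitePresentation (Red.bc r H).hom := MorphismProperty.pullback_snd _ _ hHlfp
  obtain ⟨U, hUc, hUiff, hUtriv⟩ :=
    exists_clopen_trivLocus' v (isMultTypeFT_bc hH r) (Or.inr inferInstance)
  -- over the locus one centralizes
  let W : Over S := Over.mk (U.ι ≫ N.hom)
  let n : W ⟶ N := Over.homMk U.ι rfl
  obtain ⟨z, hz⟩ := (hjiff W (n ≫ k)).mpr fun X' x h ↦ by
    let n' := x ≫ n
    let Y : Over N.left := Over.mk n'.left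
    let c : X' ⟶ (Over.map r).obj Y := Over.homMk (𝟙 _) ((Category.id_comp _).trans (Over.w n'))
    let ci : (Over.map r).obj Y ⟶ X' :=
      Over.homMk (𝟙 _) ((Category.id_comp _).trans (Over.w n').symm)
    have hcci : c ≫ ci = 𝟙 X' := Over.OverMorphism.ext (Category.id_comp _)
    have hcn : c ≫ pn Y = n' := Over.OverMorphism.ext (Category.id_comp _)
    let y := (Over.mapPullbackAdj r).homEquiv Y H (ci ≫ h)
    have h1 := congrArg (qPt r) (hUtriv Y (Over.homMk x.left rfl) y)
    rw [hv, show qPt r y = ci ≫ h from Equiv.symm_apply_apply _ _,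
      show qPt r (1 : Y ⟶ Red.bc r H) = 1 from map_one (Groth.Reductive.bcPointEquiv r H _),
      mul_inv_eq_one] at h1
    have h2 := c ≫= h1
    rw [hσ_comp, hcn, ← Category.assoc, hcci, Category.id_comp] at h2
    have h3 := congrArg (· ≫ i) h2
    simp only [hσ] at h3
    rw [← Category.assoc]
    exact mul_inv_eq_iff_eq_mul.mp h3
  -- centralizing points lie in the locus
  have hrange : Set.range f.left ⊆ Set.range U.ι := by
    rw [Scheme.Opens.range_ι]
    rintro _ ⟨q, rfl⟩
    let p := Z.left.fromSpecResidueField q ≫ f.left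
    have hp : p.base (IsLocalRing.closedPoint _) = f.left q := by
      rw [Scheme.Hom.comp_apply, Scheme.fromSpecResidueField_apply]
    show f.left q ∈ U
    rw [← hp, hUiff, pullback_map_eq_one_iff]
    refine (trivOn_fieldPoint_iff v _ p).mp fun Y w y ↦ ?_
    apply qPt_injective r
    rw [hv, show qPt r (1 : Y ⟶ Red.bc r H) = 1 from map_one (Groth.Reductive.bcPointEquiv r H _),
      mul_inv_eq_one, ← cancel_mono i, hσ]
    have hw : w.left ≫ Z.left.fromSpecResidueField q ≫ f.left = Y.hom := Over.w w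
    let a : (Over.map r).obj Y ⟶ Z := Over.homMk (w.left ≫ Z.left.fromSpecResidueField q) (by
      show _ ≫ Z.hom = Y.hom ≫ N.hom
      rw [← hw, ← Over.w f]
      simp only [Category.assoc])
    have ha : a ≫ f = pn Y := Over.OverMorphism.ext ((Category.assoc _ _ _).trans hw)
    rw [← ha, Category.assoc, hf]
    exact mul_inv_eq_iff_eq_mul.mpr (hjk _ a (qPt r y))
  let l : Z ⟶ W := Over.homMk (IsOpenImmersion.lift U.ι f.left hrange) (by
    show _ ≫ U.ι ≫ N.hom = _
    rw [IsOpenImmersion.lift_fac_assoc]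
    exact Over.w f)
  have hln : l ≫ n = f := Over.OverMorphism.ext (IsOpenImmersion.lift_fac _ _ _)
  have hlz : l ≫ z = 𝟙 Z := by
    rw [← cancel_mono j, Category.assoc, hz, ← Category.assoc, hln, hf, Category.id_comp]
  have hzl : z ≫ l = 𝟙 W := by
    haveI : Mono n := (Over.forget S).mono_of_mono_map (inferInstanceAs (Mono U.ι))
    have e : z ≫ f = n := by rw [← cancel_mono k, Category.assoc, hf, hz]
    rw [← cancel_mono n, Category.assoc, hln, e, Category.id_comp]
  haveI : IsIso l.left := ⟨z.left, by rw [← Over.comp_left, hlz]; rfl,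
    by rw [← Over.comp_left, hzl]; rfl⟩
  haveI : IsClosedImmersion U.ι :=
    IsClosedImmersion.of_isPreimmersion U.ι (by rw [Scheme.Opens.range_ι]; exact hUc)
  rw [← hln, Over.comp_left]
  exact ⟨inferInstanceAs (IsOpenImmersion (l.left ≫ U.ι)),
    inferInstanceAs (IsClosedImmersion (l.left ≫ U.ι))⟩

end Groth.Agent.S5249
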