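import Groth.Statements.S5254
import Groth.Agent.Sga3.TrivialSubgroup
import Mathlib

set_option autoImplicit false
universe u
open TensorProduct SGA3b
open SGA3b

namespace Groth.Agent.S5254

open TensorProduct Groth.Sga3.MultType in
/-- the torsion of the subgroup is trivial -/
theorem ker_counit_le_sup_torsion {R : Type u} [CommRing R] [IsLocalRing R] {A : Type u}
    [CommRing A] [HopfAlgebra R A] (hft : Algebra.FiniteType R A) (hH : IsMultType R A)
    (J : Ideal A) (hJ : J ≤ RingHom.ker (Bialgebra.counitAlgHom R A))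
    (hs : RingHom.ker (Bialgebra.counitAlgHom R A) ≤
      J ⊔ Ideal.map (algebraMap R A) (IsLocalRing.maximalIdeal R))
    {n : ℕ} (hn : 0 < n) :
    RingHom.ker (Bialgebra.counitAlgHom R A) ≤ J ⊔ torsionIdeal R A n := by
  let I := J ⊔ torsionIdeal R A n
  have hfinT := finite_quotient_torsionIdeal hft hH hn
  have hfin : Module.Finite R (A ⧸ I) :=
    Module.Finite.of_surjective (Ideal.Quotient.factorₐ R (le_sup_right : torsionIdeal R A n ≤ I)).toLinearMap
      (Ideal.Quotient.factor_surjective (le_sup_right : torsionIdeal R A n ≤ I))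
  let p : A →ₗ[R] A ⧸ I := (Ideal.Quotient.mkₐ R I).toLinearMap ∘ₗ
    (LinearMap.id - (Algebra.linearMap R A) ∘ₗ Coalgebra.counit)
  let P : Submodule R (A ⧸ I) := LinearMap.range p
  have hpk : ∀ a : A, a - algebraMap R A (Coalgebra.counit a) ∈
      RingHom.ker (Bialgebra.counitAlgHom R A) := fun a => by simp [RingHom.mem_ker]
  have hPfg : P.FG := by
    have hT : ∀ t ∈ I, Coalgebra.counit (R := R) t = 0 := by
      have hI : I ≤ RingHom.ker (Bialgebra.counitAlgHom R A) := by
        refine sup_le hJ (Ideal.map_le_iff_le_comap.2 fun a ha => ?_)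
        simp only [Ideal.mem_comap, RingHom.mem_ker, Bialgebra.counitAlgHom_apply] at ha ⊢
        clear hn hfinT hfin p P hpk
        suffices h2 : ∀ (n : ℕ) (a : A), Coalgebra.counit (R := R) (powConv R A n a) = Coalgebra.counit a by
          rw [h2, ha]
        intro n
        induction n with
        | zero => intro a; rw [powConv_zero, Bialgebra.counit_algebraMap]
        | succ n ih =>
          intro a
          rw [powConv_succ]
          have h3 := congrArg (Coalgebra.counit (R := R)) (Coalgebra.sum_counit_smul (Coalgebra.Repr.arbitrary R a))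
          rw [Bialgebra.comulAlgHom_apply, ← (Coalgebra.Repr.arbitrary R a).eq]
          simp only [map_sum, Algebra.TensorProduct.map_tmul, Algebra.TensorProduct.lmul'_apply_tmul,
            Bialgebra.counit_mul, map_smul, smul_eq_mul, ih, AlgHom.id_apply] at h3 ⊢
          exact h3
      exact fun t ht => hI ht
    let εI : (A ⧸ I) →ₐ[R] R := Ideal.Quotient.liftₐ I (Bialgebra.counitAlgHom R A) hT
    have : P = LinearMap.range ((LinearMap.id : (A ⧸ I) →ₗ[R] A ⧸ I) - (Algebra.linearMap R (A ⧸ I)) ∘ₗ
        εI.toLinearMap) := by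
      refine le_antisymm ?_ ?_
      · rintro _ ⟨a, rfl⟩
        exact ⟨Ideal.Quotient.mk I a, rfl⟩
      · rintro _ ⟨b, rfl⟩
        obtain ⟨a, rfl⟩ := Ideal.Quotient.mk_surjective b
        exact ⟨a, rfl⟩
    rw [this, LinearMap.range_eq_map]
    exact Module.Finite.fg_top.map _
  have hPm : P ≤ IsLocalRing.maximalIdeal R • P := by
    rintro _ ⟨a, rfl⟩
    obtain ⟨j, hj, y, hy, hjy⟩ := Submodule.mem_sup.1 (hs (hpk a))
    have hε : Coalgebra.counit (R := R) y = 0 := by
      have h1 : Coalgebra.counit (R := R) (j + y) = 0 := by rw [hjy]; simp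
      rwa [map_add, show Coalgebra.counit (R := R) j = 0 from hJ hj, zero_add] at h1
    rw [← Submodule.restrictScalars_mem R, ← Ideal.smul_top_eq_map] at hy
    have h1 : p a = p y := by
      change Ideal.Quotient.mk I _ = Ideal.Quotient.mk I (y - algebraMap R A (Coalgebra.counit y))
      rw [hε, map_zero, sub_zero, Ideal.Quotient.eq]
      change a - algebraMap R A (Coalgebra.counit a) - y ∈ I
      rw [← hjy, add_sub_cancel_right]
      exact Ideal.mem_sup_left hj
    rw [h1]
    have h2 := Submodule.mem_map_of_mem (f := p) hy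
    rwa [Submodule.map_smul'', Submodule.map_top] at h2
  have hP0 : P = ⊥ := Submodule.eq_bot_of_le_smul_of_le_jacobson_bot _ P hPfg hPm
    (IsLocalRing.maximalIdeal_le_jacobson _)
  intro a ha
  have h1 : p a = 0 := (Submodule.mem_bot R).1 (hP0 ▸ ⟨a, rfl⟩)
  rw [show p a = Ideal.Quotient.mk I (a - algebraMap R A (Coalgebra.counit a)) from rfl,
    Ideal.Quotient.eq_zero_iff_mem, show Coalgebra.counit (R := R) a = 0 from ha, map_zero, sub_zero] at h1
  exact h1

open TensorProduct Groth.Sga3.MultType in
/-- on every fibre the subgroup is trivial -/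
theorem exists_notMem_mul_mem {R : Type u} [CommRing R] [IsLocalRing R] {A : Type u}
    [CommRing A] [HopfAlgebra R A] (hft : Algebra.FiniteType R A) (hH : IsMultType R A)
    (J : Ideal A) [J.IsHopfIdeal R]
    (hT : ∀ n : ℕ, 0 < n → RingHom.ker (Bialgebra.counitAlgHom R A) ≤ J ⊔ torsionIdeal R A n)
    (q : Ideal (A ⧸ J)) [q.IsPrime] {a : A} (ha : a ∈ RingHom.ker (Bialgebra.counitAlgHom R A)) :
    ∃ s ∉ q, s * Ideal.Quotient.mk J a ∈ (q.comap (algebraMap R (A ⧸ J))).map (algebraMap R (A ⧸ J)) := by
  let p := q.comap (algebraMap R (A ⧸ J))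
  let k₀ := p.ResidueField
  obtain ⟨S, _, _, hff, hd⟩ := exists_isMultTypeConst_of_isLocalRing hH
  obtain ⟨P, hP⟩ := PrimeSpectrum.comap_surjective_of_faithfullyFlat (A := R) (B := S) ⟨p, inferInstance⟩
  haveI : P.asIdeal.LiesOver p := ⟨(congrArg PrimeSpectrum.asIdeal hP).symm⟩
  let K := P.asIdeal.ResidueField
  obtain ⟨M, _, ⟨e⟩⟩ : IsDiag K (K ⊗[R] A) :=
    isDiag_trans S K A (isDiag_baseChange K (S ⊗[R] A) hd)
  haveI : Group.FG M := group_fg_of_finiteType (inferInstance : Algebra.FiniteType K (K ⊗[R] A)) e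
  let ψ : MonoidAlgebra K M →ₐc[K] K ⊗[R] (A ⧸ J) :=
    (mapBC K (Bialgebra.Quotient.mkBialgHom (R := R) J)).comp
      (e.symm : MonoidAlgebra K M →ₐc[K] K ⊗[R] A)
  have hψ : ∀ x : A, ψ (e ((1 : K) ⊗ₜ[R] x)) = (1 : K) ⊗ₜ[R] Ideal.Quotient.mk J x := by
    intro x
    change mapBC K (Bialgebra.Quotient.mkBialgHom (R := R) J) (e.symm (e ((1 : K) ⊗ₜ[R] x))) = _
    rw [e.symm_apply_apply]
    rfl
  have hmap : ∀ n : ℕ, 0 < n → RingHom.ker (Bialgebra.counitAlgHom K (MonoidAlgebra K M)) ≤
      RingHom.ker ψ ⊔ torsionIdeal K (MonoidAlgebra K M) n := by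
    intro n hn x hx
    obtain ⟨z, rfl⟩ := e.surjective x
    have hz : z ∈ RingHom.ker (Bialgebra.counitAlgHom K (K ⊗[R] A)) := by
      rw [RingHom.mem_ker, Bialgebra.counitAlgHom_apply] at hx ⊢
      exact (CoalgHomClass.counit_comp_apply e z).symm.trans hx
    rw [ker_counit_baseChange] at hz
    have h1 := Ideal.mem_map_of_mem (e : K ⊗[R] A →ₐc[K] MonoidAlgebra K M) hz
    refine (?_ : _ ≤ RingHom.ker ψ ⊔ torsionIdeal K (MonoidAlgebra K M) n) h1
    rw [Ideal.map_le_iff_le_comap, Ideal.map_le_iff_le_comap]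
    refine (hT n hn).trans (sup_le ?_ ?_)
    · intro j hj
      simp only [Ideal.mem_comap]
      refine Ideal.mem_sup_left ?_
      rw [RingHom.mem_ker]
      refine (hψ j).trans ?_
      rw [Ideal.Quotient.eq_zero_iff_mem.2 hj, TensorProduct.tmul_zero]
    · intro t ht
      simp only [Ideal.mem_comap]
      refine Ideal.mem_sup_right ?_
      rw [← map_torsionIdeal e]
      refine Ideal.mem_map_of_mem (e : K ⊗[R] A →ₐc[K] MonoidAlgebra K M) ?_
      rw [torsionIdeal_baseChange]
      exact Ideal.mem_map_of_mem (Algebra.TensorProduct.includeRight : A →ₐ[R] K ⊗[R] A) ht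
  have hK : (1 : K) ⊗ₜ[R] Ideal.Quotient.mk J a = 0 := by
    rw [← hψ a]
    refine ker_counit_le_of_forall_torsion ψ hmap ?_
    rw [RingHom.mem_ker, Bialgebra.counitAlgHom_apply]
    refine (CoalgHomClass.counit_comp_apply e _).trans ?_
    rw [TensorProduct.counit_tmul, show Coalgebra.counit (R := R) a = 0 from ha, zero_smul]
  letI : Algebra k₀ K := (Ideal.ResidueField.map p P.asIdeal (algebraMap R S) Ideal.LiesOver.over).toAlgebra
  haveI : IsScalarTower R k₀ K := IsScalarTower.of_algebraMap_eq fun r => by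
    rw [RingHom.algebraMap_toAlgebra, Ideal.ResidueField.map_algebraMap,
      ← IsScalarTower.algebraMap_apply]
  have hk : (1 : k₀) ⊗ₜ[R] Ideal.Quotient.mk J a = 0 := by
    refine one_tmul_injective_of_faithfullyFlat (R := k₀) K (k₀ ⊗[R] (A ⧸ J)) ?_
    refine (TensorProduct.AlgebraTensorModule.cancelBaseChange R k₀ K K (A ⧸ J)).injective ?_
    simp only [TensorProduct.tmul_zero, map_zero,
      TensorProduct.AlgebraTensorModule.cancelBaseChange_tmul, one_smul]
    exact hK
  -- map to the local ring modulo `p`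
  let L := Localization.AtPrime q
  let C := L ⧸ p.map (algebraMap R L)
  let f : k₀ →ₐ[R] C := Ideal.ResidueField.liftₐ (R := R) (A := R) (B := C) p (Algebra.ofId R C)
    (fun r hr => by
      rw [RingHom.mem_ker]
      change Ideal.Quotient.mk (p.map (algebraMap R L)) (algebraMap R L r) = 0
      exact Ideal.Quotient.eq_zero_iff_mem.2 (Ideal.mem_map_of_mem _ hr))
    (fun r hr => by
      change IsUnit (Ideal.Quotient.mk (p.map (algebraMap R L)) (algebraMap R L r))
      refine IsUnit.map _ ?_
      rw [IsScalarTower.algebraMap_apply R (A ⧸ J) L]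
      exact IsLocalization.map_units L (⟨algebraMap R (A ⧸ J) r, hr⟩ : q.primeCompl))
  let F : k₀ ⊗[R] (A ⧸ J) →ₐ[R] C := Algebra.TensorProduct.lift f
    (IsScalarTower.toAlgHom R (A ⧸ J) C) fun x y => mul_comm (f x) _
  have hF := congrArg F hk
  simp only [F, Algebra.TensorProduct.lift_tmul, map_one, one_mul, map_zero] at hF
  rw [IsScalarTower.coe_toAlgHom', IsScalarTower.algebraMap_apply (A ⧸ J) L C,
    Ideal.Quotient.algebraMap_eq, Ideal.Quotient.eq_zero_iff_mem,
    IsScalarTower.algebraMap_eq R (A ⧸ J) L, ← Ideal.map_map] at hF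
  obtain ⟨m, hm, hmem⟩ :=
    (IsLocalization.algebraMap_mem_map_algebraMap_iff q.primeCompl L _ _).1 hF
  exact ⟨m, hm, hmem⟩

/-- Over a local base, where an open neighbourhood of the closed point is the whole base: Let R be a
local ring with maximal ideal 𝔪, H = Spec A an R-group of multiplicative type and of finite type,
and K = Spec (A/J) a closed subgroup scheme of H (J a Hopf ideal) with A/J of finite presentation
over R. If the closed fibre of K is the unit group, i.e. J + 𝔪A = Ker ε + 𝔪A with ε the counit, then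
K is the unit group: J = Ker ε. (Affine group schemes over an affine base are taken in Hopf-algebra
form; base change is the tensor product; a homomorphism of groups Spec A ⟶ Spec C is a bialgebra map
C → A.) -/
theorem result (R : Type u) [CommRing R] [IsLocalRing R]
    (A : Type u) [CommRing A] [HopfAlgebra R A] (hft : Algebra.FiniteType R A) (hH : IsMultType R A)
    (J : Ideal A) [J.IsHopfIdeal R] (hK : Algebra.FinitePresentation R (A ⧸ J))
    (hs : J ⊔ Ideal.map (algebraMap R A) (IsLocalRing.maximalIdeal R) =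
      RingHom.ker (Bialgebra.counitAlgHom R A) ⊔ Ideal.map (algebraMap R A) (IsLocalRing.maximalIdeal R)) :
    J = RingHom.ker (Bialgebra.counitAlgHom R A) := by
  open Groth.Sga3.MultType in
  have hJ : J ≤ RingHom.ker (Bialgebra.counitAlgHom R A) :=
    fun x hx => Submodule.IsCoideal.counit_eq_zero (I := J.restrictScalars R) hx
  have hT : ∀ n : ℕ, 0 < n → RingHom.ker (Bialgebra.counitAlgHom R A) ≤ J ⊔ torsionIdeal R A n :=
    fun n hn => ker_counit_le_sup_torsion hft hH J hJ (le_sup_left.trans hs.ge) hn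
  refine le_antisymm hJ fun a ha => ?_
  let B := A ⧸ J
  let εJ : B →ₐ[R] R := Ideal.Quotient.liftₐ J (Bialgebra.counitAlgHom R A) fun x hx => hJ hx
  let Q : Ideal B := (RingHom.ker (Bialgebra.counitAlgHom R A)).map (Ideal.Quotient.mk J)
  have hQfg : Q.FG := by
    obtain ⟨s, hs'⟩ := hft.out
    refine Ideal.FG.map ?_ _
    classical
    refine ⟨s.image fun x => x - algebraMap R A (Coalgebra.counit x), ?_⟩
    refine le_antisymm (Ideal.span_le.2 ?_) fun x hx => ?_
    · intro y hy
      obtain ⟨x, -, rfl⟩ := Finset.mem_image.1 (Finset.mem_coe.1 hy)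
      simp [RingHom.mem_ker]
    · set T := Ideal.span ((s.image fun x => x - algebraMap R A (Coalgebra.counit x) : Finset A) : Set A)
      have key : ∀ z : A, z - algebraMap R A (Coalgebra.counit z) ∈ T := by
        intro z
        have hz : z ∈ Algebra.adjoin R (s : Set A) := hs' ▸ Algebra.mem_top
        induction hz using Algebra.adjoin_induction with
        | mem x hx => exact Ideal.subset_span (Finset.mem_coe.2 (Finset.mem_image_of_mem _ hx))
        | algebraMap r => rw [Bialgebra.counit_algebraMap, sub_self]; exact zero_mem _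
        | add x y _ _ hx hy => rw [map_add, map_add, add_sub_add_comm]; exact add_mem hx hy
        | mul x y _ _ hx hy =>
          rw [Bialgebra.counit_mul, map_mul,
            show x * y - algebraMap R A (Coalgebra.counit x) * algebraMap R A (Coalgebra.counit y) =
              (x - algebraMap R A (Coalgebra.counit x)) * y + algebraMap R A (Coalgebra.counit x) *
                (y - algebraMap R A (Coalgebra.counit y)) by ring]
          exact add_mem (Ideal.mul_mem_right _ _ hx) (Ideal.mul_mem_left _ _ hy)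
      simpa [show Coalgebra.counit (R := R) x = 0 from hx] using key x
  have hQε : ∀ z ∈ Q, εJ z = 0 := by
    intro z hz
    obtain ⟨x, hx, rfl⟩ := (Ideal.mem_map_iff_of_surjective _ Ideal.Quotient.mk_surjective).1 hz
    exact hx
  have hloc : ∀ (q : Ideal B) (_ : q.IsMaximal), Q.map (algebraMap B (Localization.AtPrime q)) = ⊥ := by
    intro q hq
    let L := Localization.AtPrime q
    let p := q.comap (algebraMap R B)
    refine Submodule.eq_bot_of_le_smul_of_le_jacobson_bot (IsLocalRing.maximalIdeal L)
      (Q.map (algebraMap B L)) (Ideal.FG.map hQfg _) ?_ (IsLocalRing.maximalIdeal_le_jacobson _)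
    rw [Ideal.map_le_iff_le_comap]
    intro z hz
    obtain ⟨x, hx, rfl⟩ := (Ideal.mem_map_iff_of_surjective _ Ideal.Quotient.mk_surjective).1 hz
    obtain ⟨s, hsq, hmem⟩ := exists_notMem_mul_mem hft hH J hT q hx
    rw [← Submodule.restrictScalars_mem R, ← Ideal.smul_top_eq_map] at hmem
    let π : B →ₗ[R] B := LinearMap.id - Algebra.linearMap R B ∘ₗ εJ.toLinearMap
    have hπ : LinearMap.range π ≤ Q.restrictScalars R := by
      rintro _ ⟨b, rfl⟩
      obtain ⟨y, rfl⟩ := Ideal.Quotient.mk_surjective b
      exact Ideal.mem_map_of_mem (Ideal.Quotient.mk J)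
        (show y - algebraMap R A (Coalgebra.counit y) ∈ RingHom.ker (Bialgebra.counitAlgHom R A) by
          simp [RingHom.mem_ker])
    have h2 := Submodule.mem_map_of_mem (f := π) hmem
    rw [Submodule.map_smul'', Submodule.map_top] at h2
    have h3 : π (s * Ideal.Quotient.mk J x) = s * Ideal.Quotient.mk J x := by
      simp [π, map_mul, show εJ (Ideal.Quotient.mk J x) = 0 from hx]
    rw [h3] at h2
    have h4 : algebraMap B L (s * Ideal.Quotient.mk J x) ∈ IsLocalRing.maximalIdeal L • Q.map (algebraMap B L) := by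
      have h5 := Submodule.smul_mono le_rfl hπ h2
      refine Submodule.smul_induction_on h5 (fun r hr y hy => ?_) fun y y' hy hy' => ?_
      · rw [Algebra.smul_def, map_mul]
        refine Submodule.smul_mem_smul ?_ (Ideal.mem_map_of_mem _ hy)
        exact (IsLocalization.AtPrime.to_map_mem_maximal_iff L q (algebraMap R B r)).2 hr
      · rw [map_add]; exact add_mem hy hy'
    rw [map_mul] at h4
    obtain ⟨u, hu⟩ := IsLocalization.map_units L (⟨s, hsq⟩ : q.primeCompl)
    rw [Ideal.mem_comap]
    have h6 := Ideal.mul_mem_left _ (↑u⁻¹ : L) (show (algebraMap B L s * algebraMap B L (Ideal.Quotient.mk J x)) ∈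
      (IsLocalRing.maximalIdeal L • Q.map (algebraMap B L) : Ideal L) from h4)
    rwa [← mul_assoc, ← hu, Units.inv_mul, one_mul] at h6
  have h0 : Ideal.Quotient.mk J a = 0 := by
    refine Module.eq_zero_of_localization_maximal (R := B) (M := B)
      (fun q _ => Localization.AtPrime q) (fun q _ => Algebra.linearMap B (Localization.AtPrime q)) _
      fun q hq => ?_
    have := Ideal.mem_map_of_mem (algebraMap B (Localization.AtPrime q))
      (Ideal.mem_map_of_mem (Ideal.Quotient.mk J) ha)
    rw [hloc q hq, Ideal.mem_bot] at this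
    exact this
  exact Ideal.Quotient.eq_zero_iff_mem.1 h0

end Groth.Agent.S5254
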