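import Groth.Statements.S5256
import Groth.Agent.Reductive.TrivialActionFibres

set_option autoImplicit false
open CategoryTheory MonoidalCategory CartesianMonoidalCategory MonObj GrpObj AlgebraicGeometry
universe u
open SGA3x

namespace Groth.Agent.S5256

/-- Let u : H ⟶ G be a homomorphism of S-groups, with H of multiplicative type and of finite type and G
of finite presentation over S (locally of finite presentation, quasi-compact and quasi-separated).
If for every s ∈ S the homomorphism u_s : H_s ⟶ G_s induced on the fibres at s is central (every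
point of G_s commutes with the image of every point of H_s), then u is central. -/
theorem result {S : Scheme.{u}} (H G : Over S) [GrpObj H] [GrpObj G]
    (hH : SGA3x.IsMultTypeFT H) [LocallyOfFinitePresentation G.hom] [QuasiCompact G.hom] [QuasiSeparated G.hom]
    (u : H ⟶ G) [IsMonHom u]
    (hfib : ∀ (s : S) (X : Over (Spec (S.residueField s))) (g : X ⟶ Red.bc (S.fromSpecResidueField s) G)
      (h : X ⟶ Red.bc (S.fromSpecResidueField s) H),
      g * (h ≫ (Over.pullback (S.fromSpecResidueField s)).map u) = (h ≫ (Over.pullback (S.fromSpecResidueField s)).map u) * g) :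
    ∀ (X : Over S) (g : X ⟶ G) (h : X ⟶ H), g * (h ≫ u) = (h ≫ u) * g := by
  -- `H` acts on `G` by conjugation
  let act : H ⊗ G ⟶ G := (fst H G ≫ u) * snd H G * (fst H G ≫ u)⁻¹
  have hact : ∀ (Z : Over S) (g : Z ⟶ H) (h : Z ⟶ G),
      lift g h ≫ act = (g ≫ u) * h * (g ≫ u)⁻¹ := fun Z g h ↦ by
    simp only [act, MonObj.comp_mul, GrpObj.comp_inv, lift_fst_assoc, lift_snd]
  let a : AlgGrp.Action H G :=
    { act := act
      one_act := by
        have e : η[H] ▷ G = lift (1 : 𝟙_ (Over S) ⊗ G ⟶ H) (snd _ _) := by
          apply CartesianMonoidalCategory.hom_ext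
          · simp [Hom.one_def, CartesianMonoidalCategory.toUnit_unique (fst (𝟙_ (Over S)) G) (toUnit _)]
          · simp
        rw [e, hact, MonObj.one_comp]
        simp [CartesianMonoidalCategory.leftUnitor_hom]
      mul_act := by
        have e1 : μ[H] ▷ G = lift ((fst (H ⊗ H) G ≫ fst H H) * (fst (H ⊗ H) G ≫ snd H H))
            (snd (H ⊗ H) G) := by
          apply CartesianMonoidalCategory.hom_ext
          · rw [lift_fst, ← MonObj.comp_mul, Hom.mul_def, lift_fst_snd, Category.id_comp]
            simp
          · simp
        have e2 : (α_ H H G).hom ≫ (H ◁ act) =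
            lift (fst (H ⊗ H) G ≫ fst H H) (lift (fst (H ⊗ H) G ≫ snd H H) (snd (H ⊗ H) G) ≫ act) := by
          apply CartesianMonoidalCategory.hom_ext
          · simp
          · rw [lift_snd, Category.assoc, whiskerLeft_snd, ← Category.assoc]
            congr 1
            apply CartesianMonoidalCategory.hom_ext <;> simp
        rw [e1, ← Category.assoc (α_ H H G).hom, e2, hact, hact, hact, MonObj.mul_comp]
        group }
  intro X g h
  obtain ⟨S', f, hf, hs', hqc, hloc⟩ := hH
  have hH' : TwC.Locally S TwC.Topology.fpqc (fun S' f => ∃ (M : Type) (_ : AddCommGroup M),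
      Nonempty (Grp.mk (Red.bc f H) ≅ Grp.mk (Red.DS S' M))) :=
    ⟨S', f, hf, hs', hqc, fun x => by
      obtain ⟨U, hU, M, hM, -, e⟩ := hloc x
      exact ⟨U, hU, M, hM, e⟩⟩
  have key : a.act = snd H G := Groth.Reductive.FreeDiag.action_eq_snd_of_fibres hH' a inferInstance
    fun K _ p Z l hl x y => by
      show lift x y ≫ act = y
      rw [hact]
      let s := p.base (IsLocalRing.closedPoint K)
      let r : Z.left ⟶ Spec (S.residueField s) :=
        l ≫ Spec.map (S.descResidueField (Scheme.stalkClosedPointTo p))
      have hr : r ≫ S.fromSpecResidueField s = Z.hom := by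
        rw [Category.assoc, Scheme.descResidueField_stalkClosedPointTo_fromSpecResidueField, hl]
      let q : Over (Spec (S.residueField s)) := Over.mk r
      let js := S.fromSpecResidueField s
      let ci : (Over.map js).obj q ⟶ Z := Over.homMk (𝟙 _) ((Category.id_comp _).trans hr.symm)
      let c : Z ⟶ (Over.map js).obj q := Over.homMk (𝟙 _) ((Category.id_comp _).trans hr)
      have hcci : c ≫ ci = 𝟙 Z := Over.OverMorphism.ext (Category.id_comp _)
      let xh : q ⟶ Red.bc js H := (Over.mapPullbackAdj js).homEquiv q H (ci ≫ x)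
      let yg : q ⟶ Red.bc js G := (Over.mapPullbackAdj js).homEquiv q G (ci ≫ y)
      have h1 := congrArg (Groth.Reductive.bcPointEquiv js G q) (hfib s q yg xh)
      rw [map_mul, map_mul] at h1
      have e1 : Groth.Reductive.bcPointEquiv js G q yg = ci ≫ y := Equiv.symm_apply_apply _ _
      have e2 : Groth.Reductive.bcPointEquiv js G q (xh ≫ (Over.pullback js).map u) = (ci ≫ x) ≫ u := by
        show Groth.Reductive.FreeDiag.qPt js (xh ≫ (Over.pullback js).map u) = _
        rw [Groth.Reductive.FreeDiag.qPt_map]
        exact congrArg (· ≫ u) (Equiv.symm_apply_apply _ _)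
      rw [e1, e2] at h1
      have h2 := c ≫= h1
      simp only [MonObj.comp_mul, ← Category.assoc, hcci, Category.id_comp] at h2
      rw [← h2, mul_inv_cancel_right]
  have e : (h ≫ u) * g * (h ≫ u)⁻¹ = g := by
    rw [← hact]
    show lift h g ≫ a.act = g
    rw [key, lift_snd]
  exact (mul_inv_eq_iff_eq_mul.mp e).symm

end Groth.Agent.S5256
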