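import Groth.Statements.S5259
import Groth.Agent.SmoothWeil.Transporter

set_option autoImplicit false
open CategoryTheory MonoidalCategory CartesianMonoidalCategory MonObj GrpObj AlgebraicGeometry
universe u
open SGA3x

namespace Groth.Agent.S5259

/-- Centralizer: Let G be an S-group locally of finite type and quasi-separated over S, H an S-group
which is smooth and of finite presentation over S with connected fibres, and i : H ⟶ G a
homomorphism which is a monomorphism. Then the centralizer of H in G is representable by a closed
subgroup scheme of G whose immersion into G is of finite presentation. -/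
theorem result {S : Scheme.{u}} (G H : Over S) [GrpObj G] [GrpObj H]
    [LocallyOfFiniteType G.hom] [QuasiSeparated G.hom] [Smooth H.hom] [QuasiCompact H.hom] [QuasiSeparated H.hom]
    (hconn : ∀ s : S, ConnectedSpace ↥(Limits.pullback H.hom (S.fromSpecResidueField s)))
    (i : H ⟶ G) [IsMonHom i] [Mono i] :
    ∃ (Z : Over S) (_ : GrpObj Z) (j : Z ⟶ G), Red.IsCentralizerOf i j ∧ IsClosedImmersion j.left ∧
      LocallyOfFinitePresentation j.left := by
  haveI := Groth.SmoothWeil.geometricallyIrreducible_of_connected_fibres H hconn
  exact Groth.SmoothWeil.exists_centralizer i

end Groth.Agent.S5259
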