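import Groth.Statements.S5261
import Groth.Agent.Reductive.UnramFibre
import Groth.Agent.Reductive.FpqcLocal
import Groth.Agent.EtaleBase.Sections
import Groth.Agent.AlgSp2.SmoothDescent

set_option autoImplicit false
open CategoryTheory MonoidalCategory CartesianMonoidalCategory MonObj GrpObj AlgebraicGeometry
universe u
open SGA3x

namespace Groth.Agent.S5261

/-- Let u : H ⟶ G be a homomorphism of S-groups, with H of multiplicative type and of finite type, and
suppose S locally Noetherian or G locally of finite presentation over S. If for every s ∈ S the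
homomorphism u_s : H_s ⟶ G_s induced on the fibres at s is a monomorphism, then u is a monomorphism. -/
theorem result {S : Scheme.{u}} (H G : Over S) [GrpObj H] [GrpObj G]
    (hH : SGA3x.IsMultTypeFT H) (hG : IsLocallyNoetherian S ∨ LocallyOfFinitePresentation G.hom)
    (u : H ⟶ G) [IsMonHom u]
    (hfib : ∀ s : S, Mono ((Over.pullback (S.fromSpecResidueField s)).map u).left) :
    Mono u.left := by
  obtain ⟨-, hlfp⟩ := Groth.Reductive.flat_lfp_of_multTypeFT H hH
    Groth.AlgSp2.flat_descendsAlong inferInstance
  haveI : LocallyOfFiniteType (u.left ≫ G.hom) := by rw [Over.w u]; infer_instance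
  haveI : LocallyOfFiniteType u.left := locallyOfFiniteType_of_comp u.left G.hom
  -- the kernel
  let eG : S ⟶ G.left := η[G].left
  let eH : S ⟶ H.left := η[H].left
  have heG : eG ≫ G.hom = 𝟙 S := Over.w η[G]
  have heH : eH ≫ H.hom = 𝟙 S := Over.w η[H]
  have hu1 : η[H] ≫ u = η[G] := IsMonHom.one_hom u
  have hu : eH ≫ u.left = eG := congrArg (fun z => z.left) hu1
  let p := Limits.pullback.fst u.left eG
  let k : Limits.pullback u.left eG ⟶ S := Limits.pullback.snd u.left eG
  have hpk : p ≫ u.left = k ≫ eG := Limits.pullback.condition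
  have hpH : p ≫ H.hom = k := by
    rw [← Over.w u, ← Category.assoc, hpk, Category.assoc, heG, Category.comp_id]
  let σ : S ⟶ Limits.pullback u.left eG :=
    Limits.pullback.lift eH (𝟙 S) (by rw [hu, Category.id_comp])
  have hσ : σ ≫ k = 𝟙 S := Limits.pullback.lift_snd _ _ _
  -- the fibres of the kernel are trivial
  have hiso : ∀ s : S, IsIso (k.fiberToSpecResidueField s) := fun s => by
    let f := S.fromSpecResidueField s
    have : IsSplitEpi (Limits.pullback.snd k f) :=
      ⟨⟨⟨Limits.pullback.lift (f ≫ σ) (𝟙 _) (by simp [hσ]), Limits.pullback.lift_snd _ _ _⟩⟩⟩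
    have : Mono (Limits.pullback.snd k f) := by
      refine ⟨fun {W} a b hab => ?_⟩
      let q := Limits.pullback.fst k f
      have hc : ∀ z : W ⟶ Limits.pullback k f,
          (z ≫ q ≫ p) ≫ H.hom = (z ≫ Limits.pullback.snd k f) ≫ f := fun z => by
        simp only [Category.assoc, hpH, q, Limits.pullback.condition]
      let a' : W ⟶ Limits.pullback H.hom f := Limits.pullback.lift (a ≫ q ≫ p) _ (hc a)
      let b' : W ⟶ Limits.pullback H.hom f := Limits.pullback.lift (b ≫ q ≫ p) _ (hc b)
      haveI := hfib s
      have hab' : a' = b' := by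
        rw [← cancel_mono ((Over.pullback f).map u).left]
        have h1 : ((Over.pullback f).map u).left ≫ Limits.pullback.fst G.hom f =
            Limits.pullback.fst H.hom f ≫ u.left := Limits.pullback.lift_fst _ _ _
        have h2 : ((Over.pullback f).map u).left ≫ Limits.pullback.snd G.hom f =
            Limits.pullback.snd H.hom f := Over.w ((Over.pullback f).map u)
        refine Limits.pullback.hom_ext ?_ ?_
        · refine ((Category.assoc _ _ _).trans ((congrArg (a' ≫ ·) h1).trans ?_)).trans
            ((Category.assoc _ _ _).trans (congrArg (b' ≫ ·) h1)).symm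
          simp only [a', b', Limits.pullback.lift_fst_assoc, Category.assoc, hpk]
          rw [Limits.pullback.condition_assoc, ← Category.assoc a, hab, Category.assoc]
        · refine ((Category.assoc _ _ _).trans ((congrArg (a' ≫ ·) h2).trans ?_)).trans
            ((Category.assoc _ _ _).trans (congrArg (b' ≫ ·) h2)).symm
          exact (Limits.pullback.lift_snd _ _ _).trans (hab.trans (Limits.pullback.lift_snd _ _ _).symm)
      refine Limits.pullback.hom_ext (Limits.pullback.hom_ext ?_ ?_) hab
      · have h := congrArg (· ≫ Limits.pullback.fst H.hom f) hab'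
        simp only [a', b', Limits.pullback.lift_fst] at h
        simpa [q, p] using h
      · show (a ≫ q) ≫ k = (b ≫ q) ≫ k
        simp only [q, Category.assoc, Limits.pullback.condition]
        rw [← Category.assoc, hab, Category.assoc]
    exact isIso_of_mono_of_isSplitEpi (Limits.pullback.snd k f)
  haveI : FormallyUnramified k := Groth.Reductive.formallyUnramified_of_fibres k fun s => by
    haveI := hiso s
    infer_instance
  haveI := (Groth.EtaleBase.section_isImmersion k σ hσ).1
  haveI : Surjective σ := ⟨fun x => ⟨k.base x, by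
    let s := k.base x
    haveI := hiso s
    obtain ⟨z, hz⟩ : x ∈ Set.range (k.fiberι s) := by rw [Scheme.Hom.range_fiberι]; rfl
    let z' : ↥(k.fiber s) :=
      (Limits.pullback.lift (S.fromSpecResidueField s ≫ σ) (𝟙 _) (by simp [hσ]) :
        Spec (S.residueField s) ⟶ k.fiber s).base default
    have : Subsingleton ↥(k.fiber s) :=
      (k.fiberToSpecResidueField s).homeomorph.injective.subsingleton
    show σ.base s = x
    rw [← hz, Subsingleton.elim z z']
    show σ.base s = ((Limits.pullback.lift (S.fromSpecResidueField s ≫ σ) (𝟙 _) _) ≫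
      Limits.pullback.fst k (S.fromSpecResidueField s)).base default
    rw [Limits.pullback.lift_fst, Scheme.Hom.comp_apply, Scheme.fromSpecResidueField_apply]⟩⟩
  haveI : IsIso σ := (isIso_iff_isOpenImmersion_and_surjective _).mpr ⟨inferInstance, inferInstance⟩
  haveI : IsIso k := by
    rw [show k = inv σ by rw [← cancel_epi σ, hσ, IsIso.hom_inv_id]]
    infer_instance
  -- conclude on points
  have ker : ∀ {Z : Over S} (x : Z ⟶ H), x ≫ u = 1 → x = 1 := fun {Z} x hx => by
    have hx' : x.left ≫ u.left = Z.hom ≫ eG := congrArg (fun z => z.left) hx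
    let l : Z.left ⟶ Limits.pullback u.left eG := Limits.pullback.lift x.left Z.hom hx'
    have hl : l = Z.hom ≫ σ := by
      rw [← cancel_mono k, Category.assoc, hσ, Category.comp_id]
      exact Limits.pullback.lift_snd _ _ _
    refine Over.OverMorphism.ext ?_
    show x.left = Z.hom ≫ eH
    rw [← Limits.pullback.lift_fst x.left Z.hom hx', show Limits.pullback.lift x.left Z.hom hx' = _
      from hl, Category.assoc, Limits.pullback.lift_fst]
  haveI : Mono u := ⟨fun a b hab => by
    have := ker (a * b⁻¹) (by
      rw [MonObj.mul_comp, GrpObj.inv_comp, hab, mul_inv_cancel])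
    exact mul_inv_eq_one.mp this⟩
  infer_instance

end Groth.Agent.S5261
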