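import Groth.Statements.S5267
import Groth.Agent.Reductive2.TwConstFinite

set_option autoImplicit false
open CategoryTheory MonoidalCategory CartesianMonoidalCategory MonObj GrpObj AlgebraicGeometry
universe u
open SGA3x

namespace Groth.Agent.S5267

/-- Let S be a locally Noetherian connected scheme, P a quasi-isotrivial twisted constant S-scheme
(etale-locally on S isomorphic to a constant scheme) and Z an open and closed subscheme of P such
that for some s ∈ S the fibre Z_s is finite. Then Z is finite over S. -/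
theorem result {S : Scheme.{u}} [IsLocallyNoetherian S] [ConnectedSpace S]
    (P : Over S) (hP : TwC.IsTwConst TwC.Topology.etale P)
    {Z : Scheme.{u}} (z : Z ⟶ P.left) [IsOpenImmersion z] [IsClosedImmersion z]
    (hs : ∃ s : S, Set.Finite ((z ≫ P.hom).base ⁻¹' {s})) :
    IsFinite (z ≫ P.hom) := by
  let Z' := z.opensRange
  have hZ' : IsClosed (Z' : Set P.left) := z.isClosedEmbedding.isClosed_range
  have hz : z.isoOpensRange.hom ≫ Z'.ι = z := z.isoOpensRange_hom_ι
  have hW := Groth.Reductive2.TwConstFinite.isClopen_finite_fibre P hP Z' hZ'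
  have hfib : ∀ s : S, (z ≫ P.hom) ⁻¹' {s} = z.isoOpensRange.hom ⁻¹' ((Z'.ι ≫ P.hom) ⁻¹' {s}) := fun s => by
    conv_lhs => rw [← hz, Category.assoc]
    rfl
  obtain ⟨s, hs⟩ := hs
  have hne : s ∈ {s : S | ((Z'.ι ≫ P.hom) ⁻¹' {s}).Finite} := by
    rw [hfib] at hs
    exact hs.of_preimage z.isoOpensRange.hom.homeomorph.surjective
  have := Groth.Reductive2.TwConstFinite.isFinite_of_finite_fibres P hP Z' hZ'
    (Set.eq_univ_iff_forall.mp (hW.eq_univ ⟨s, hne⟩))
  rw [← hz, Category.assoc]
  exact MorphismProperty.comp_mem _ _ _ inferInstance this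

end Groth.Agent.S5267
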