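import Groth.Statements.S5268
import Groth.Agent.Reductive2.TwConstFinite

set_option autoImplicit false
open CategoryTheory MonoidalCategory CartesianMonoidalCategory MonObj GrpObj AlgebraicGeometry
universe u
open SGA3x

namespace Groth.Agent.S5268

/-- Let S be a locally Noetherian scheme all of whose local rings are geometrically unibranch, and P a
quasi-isotrivial twisted constant S-scheme (etale-locally on S isomorphic to a constant scheme).
Then every connected component of P is open, and as an open subscheme of P it is finite over S. -/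
theorem result {S : Scheme.{u}} [IsLocallyNoetherian S]
    (hS : ∀ s : S, CAlg2.IsGeomUnibranch (S.presheaf.stalk s))
    (P : Over S) (hP : TwC.IsTwConst TwC.Topology.etale P) (x : P.left) :
    ∃ U : P.left.Opens, (U : Set P.left) = connectedComponent x ∧ IsFinite (U.ι ≫ P.hom) := by
  have := Groth.Reductive2.TwConstFinite.etale_hom P hP
  let s₀ := P.hom x
  have hC := irreducibleComponent_mem_irreducibleComponents s₀
  let S₀ : S.Opens := ⟨irreducibleComponent s₀, Groth.Reductive2.TwConstFinite.isOpen_component hS hC⟩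
  have hS₀cl : IsClosed (S₀ : Set S) := isClosed_irreducibleComponent
  have : IrreducibleSpace (S₀ : Scheme.{u}) :=
    { toPreirreducibleSpace := Subtype.preirreducibleSpace hC.1.isPreirreducible
      toNonempty := ⟨⟨s₀, mem_irreducibleComponent⟩⟩ }
  let f₀ := P.hom ∣_ S₀
  have hS₀ : ∀ y : (S₀ : Scheme.{u}), CAlg2.IsGeomUnibranch ((S₀ : Scheme.{u}).presheaf.stalk y) :=
    fun y => Groth.EtaleBaseTwo.isGeomUnibranch_stalk_of_etale S₀.ι y (hS _)
  obtain ⟨huniq, hopen⟩ := Groth.EtaleBaseTwo.components_of_etale_over_geomUnibranch f₀ hS₀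
  let x₀ : (P.hom ⁻¹ᵁ S₀ : P.left.Opens) := ⟨x, show P.hom x ∈ S₀ from mem_irreducibleComponent⟩
  have hZ₀ := irreducibleComponent_mem_irreducibleComponents x₀
  obtain ⟨hZ₀o, ζ, ⟨hζ, hζgp⟩, hζu⟩ := hopen _ hZ₀
  let Z : P.left.Opens := (P.hom ⁻¹ᵁ S₀).ι ''ᵁ ⟨irreducibleComponent x₀, hZ₀o⟩
  have hZcl : IsClosed (Z : Set P.left) :=
    (IsClosed.isClosedEmbedding_subtypeVal (hS₀cl.preimage P.hom.continuous)).isClosedMap _
      isClosed_irreducibleComponent
  have hZx : x ∈ Z := ⟨x₀, mem_irreducibleComponent, rfl⟩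
  have hZeq : (Z : Set P.left) = connectedComponent x := by
    refine Set.Subset.antisymm ?_ (IsClopen.connectedComponent_subset ⟨hZcl, Z.isOpen⟩ hZx)
    exact (isIrreducible_irreducibleComponent.image _ (Scheme.Opens.ι _).continuous.continuousOn).isConnected.2.subset_connectedComponent hZx
  refine ⟨Z, hZeq, ?_⟩
  let gp : S := (genericPoint (S₀ : Scheme.{u})).1
  have hW := Groth.Reductive2.TwConstFinite.isClopen_finite_fibre P hP Z hZcl
  have hgpW : gp ∈ {s : S | ((Z.ι ≫ P.hom) ⁻¹' {s}).Finite} := by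
    refine Set.Finite.of_finite_image (f := Z.ι) ((Set.finite_singleton ζ.1).subset ?_)
      Z.ι.isOpenEmbedding.injective.injOn
    rintro _ ⟨⟨p, w, hw, hwp⟩, hp, rfl⟩
    have hwgp : f₀ w = genericPoint (S₀ : Scheme.{u}) := by
      refine Subtype.ext ?_
      rw [morphismRestrict_base]
      show P.hom w.1 = gp
      rw [show (w.1 : P.left) = p from hwp]
      exact hp
    exact Set.mem_singleton_iff.mpr (hwp.symm.trans (congrArg Subtype.val (hζu w ⟨hw, hwgp⟩)))
  refine Groth.Reductive2.TwConstFinite.isFinite_of_finite_fibres P hP Z hZcl fun s => ?_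
  by_cases hs : s ∈ S₀
  · exact (hC.1.isConnected.2.subset_isClopen hW ⟨gp, (genericPoint (S₀ : Scheme.{u})).2, hgpW⟩) hs
  · refine Set.finite_empty.subset ?_
    rintro ⟨p, w, hw, hwp⟩ hp
    apply hs
    have hp' : P.hom p = s := hp
    rw [← hp', ← show (w.1 : P.left) = p from hwp]
    exact w.2

end Groth.Agent.S5268
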