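import Groth.Statements.S5269
import Groth.Agent.Reductive2.TwConstEtale
import Groth.Agent.LocImm.FppfDominate
import Groth.Agent.Flatmor4.QuasiFiniteSplit
import Groth.Agent.Flatmor4.UnramifiedSplit

set_option autoImplicit false
open CategoryTheory CategoryTheory.Limits MonoidalCategory CartesianMonoidalCategory MonObj GrpObj AlgebraicGeometry
universe u
open SGA3x

namespace Groth.Agent.S5269

/-- Let S be a locally Noetherian scheme and X an S-scheme which is a twisted constant scheme locally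
trivial for the fppf topology (every point of S is in the image of a flat, locally finitely
presented S' ⟶ S over which X becomes a constant scheme). Then X is quasi-isotrivial: it becomes
constant etale-locally on S. -/
theorem result {S : Scheme.{u}} [IsLocallyNoetherian S] (X : Over S)
    (hX : TwC.IsTwConst TwC.Topology.fppf X) : TwC.IsTwConst TwC.Topology.etale X := by
  intro s
  obtain ⟨S', f, hflat, hlfp, ⟨x, hx⟩, I, ⟨e⟩⟩ := hX s
  let O : S.Opens := ⟨Set.range f, f.isOpenMap.isOpen_range⟩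
  have : Surjective (f ∣_ O) := ⟨fun y => by
    obtain ⟨z, hz⟩ := y.2
    refine ⟨⟨z, ⟨z, rfl⟩⟩, Subtype.ext ?_⟩
    rw [morphismRestrict_base]; exact hz⟩
  obtain ⟨T, e₀, a, τ, ha, _, _, _, _, hτ⟩ :=
    Groth.LocImmersion.FppfDominate.exists_slice (f ∣_ O) ⟨s, ⟨x, hx⟩⟩
  let e' := e₀ ≫ O.ι
  let a' := a ≫ (f ⁻¹ᵁ O).ι
  have ha' : a' ≫ f = e' := by
    show (a ≫ (f ⁻¹ᵁ O).ι) ≫ f = e₀ ≫ O.ι
    rw [Category.assoc, ← morphismRestrict_ι, ← Category.assoc, ha]
  have : LocallyQuasiFinite e' := inferInstanceAs (LocallyQuasiFinite (e₀ ≫ O.ι))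
  obtain ⟨U, g, u, hg, hgu, J, _, V, v, hV, -, hex⟩ :=
    Groth.Flatmor4.exists_split_purelyInseparable e' s (fun _ : PUnit.{1} => τ)
      (fun a b _ => Subsingleton.elim a b) (fun _ => by
        show O.ι (e₀ τ) = s
        rw [hτ]; rfl) (fun _ => e'.quasiFiniteAt τ)
  obtain ⟨z, hz₁, hz₂⟩ := Scheme.Pullback.exists_preimage_pullback (f := e') (g := g) τ u (by
    show O.ι (e₀ τ) = g u
    rw [hτ, hgu]; rfl)
  obtain ⟨j, -⟩ := hex z PUnit.unit hz₂ hz₁
  obtain ⟨hv, hfin, hvu, huniq, ⟨-, hpi⟩, -⟩ := hV PUnit.unit j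
  let V₀ := V PUnit.unit j
  let v₀ := v PUnit.unit j
  let π := V₀.ι ≫ pullback.snd e' g
  have : IsFinite π := hfin
  have : Flat e' := inferInstanceAs (Flat (e₀ ≫ O.ι))
  have : LocallyOfFinitePresentation e' := inferInstanceAs (LocallyOfFinitePresentation (e₀ ≫ O.ι))
  have : Flat π := inferInstanceAs (Flat (V₀.ι ≫ pullback.snd e' g))
  have : LocallyOfFinitePresentation π :=
    inferInstanceAs (LocallyOfFinitePresentation (V₀.ι ≫ pullback.snd e' g))
  have : IsLocallyNoetherian U := LocallyOfFiniteType.isLocallyNoetherian g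
  have hpi' : (π.residueFieldMap ⟨v₀, hv⟩).hom.IsPurelyInseparable := by
    let := ((pullback.snd e' g).residueFieldMap v₀).hom.toAlgebra
    let := (π.residueFieldMap ⟨v₀, hv⟩).hom.toAlgebra
    let b : ↑((pullback e' g).residueField v₀) ≃+* ↑((V₀ : Scheme.{u}).residueField ⟨v₀, hv⟩) :=
      RingEquiv.ofBijective (V₀.ι.residueFieldMap ⟨v₀, hv⟩).hom
        (ConcreteCategory.bijective_of_isIso _)
    have := hpi
    exact Groth.Flatmor4.isPurelyInseparable_of_equiv
      (RingEquiv.refl ↑(U.residueField (pullback.snd e' g v₀))) b.symm (fun r => b.symm_apply_eq.mpr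
        (ConcreteCategory.congr_hom (Scheme.residueFieldMap_comp V₀.ι (pullback.snd e' g) ⟨v₀, hv⟩) r))
  obtain ⟨σ, hσ⟩ := Groth.Reductive2.TwConstEtale.exists_sections X f e
  have h1 := Groth.Reductive2.TwConstEtale.isPullback_comp hσ (V₀.ι ≫ pullback.fst e' g ≫ a')
  have hfg : (V₀.ι ≫ pullback.fst e' g ≫ a') ≫ f = π ≫ g := by
    simp only [π, Category.assoc, ha', pullback.condition]
  rw [hfg] at h1
  have hσX : ∀ i, ((V₀.ι ≫ pullback.fst e' g ≫ a') ≫ σ i) ≫ X.hom = π ≫ g := fun i => by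
    have := congr(Sigma.ι (fun _ : I => (V₀ : Scheme.{u})) i ≫ $(h1.w))
    simpa using this
  let σ' := fun i => pullback.lift ((V₀.ι ≫ pullback.fst e' g ≫ a') ≫ σ i) π (hσX i)
  have e1 : (Sigma.desc fun i => (V₀.ι ≫ pullback.fst e' g ≫ a') ≫ σ i) =
      Sigma.desc σ' ≫ pullback.fst X.hom g := Sigma.hom_ext _ _ fun i => by
    rw [Sigma.ι_desc, Sigma.ι_desc_assoc]; exact (pullback.lift_fst _ _ _).symm
  rw [e1] at h1
  have hσ' : IsPullback (Sigma.desc σ') (Sigma.desc fun _ : I => 𝟙 (V₀ : Scheme.{u}))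
      (pullback.snd X.hom g) π :=
    h1.of_right (Sigma.hom_ext _ _ fun i => by
      rw [Sigma.ι_desc_assoc, Sigma.ι_desc_assoc, Category.id_comp]; exact pullback.lift_snd _ _ _)
      (IsPullback.of_hasPullback X.hom g)
  obtain ⟨U₂, hu₂, t, ht⟩ := Groth.Reductive2.TwConstEtale.exists_open_const (pullback.snd X.hom g) π u
    ⟨⟨v₀, hv⟩, hvu⟩ (Groth.Reductive2.TwConstEtale.mem_range_diagonal π (v := ⟨v₀, hv⟩)
      (fun w hw => Subtype.ext (huniq w.1 w.2 hw)) hpi') σ' hσ'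
  refine ⟨U₂, U₂.ι ≫ g, inferInstance, ⟨⟨u, hu₂⟩, by rw [Scheme.Hom.comp_apply]; exact hgu⟩, I, ?_⟩
  refine Groth.Reductive2.TwConstEtale.nonempty_iso (σ := fun i => t i ≫ pullback.fst X.hom g) ?_
  have h2 := ht.paste_horiz (IsPullback.of_hasPullback X.hom g)
  have e2 : Sigma.desc t ≫ pullback.fst X.hom g = Sigma.desc fun i => t i ≫ pullback.fst X.hom g :=
    Sigma.hom_ext _ _ fun i => by simp
  rwa [e2] at h2

end Groth.Agent.S5269
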