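import Groth.Statements.S5270
import Groth.Agent.Sga3.MultTypeModule
import Groth.Agent.Sga3.MultTypeRigid

set_option autoImplicit false
universe u
open TensorProduct SGA3b
open SGA3b

namespace Groth.Agent.S5270

/-- Injectivity of the map to formal homomorphisms. Let A be a Noetherian ring, separated and complete
for the I-adic topology, H = Spec B an isotrivial A-group of multiplicative type and G = Spec C an
affine A-group. If two homomorphisms H ⟶ G, given by bialgebra maps φ, ψ : C → B, have the same
reduction modulo I^(n+1) for every n ≥ 0, then φ = ψ. (Affine group schemes over an affine base are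
taken in Hopf-algebra form; base change is the tensor product; a homomorphism of groups Spec A ⟶
Spec C is a bialgebra map C → A.) -/
theorem result (A : Type u) [CommRing A] [IsNoetherianRing A] (I : Ideal A) [IsAdicComplete I A]
    (B : Type u) [CommRing B] [HopfAlgebra A B] (hH : IsIsotrivial A B)
    (C : Type u) [CommRing C] [HopfAlgebra A C] (φ ψ : C →ₐc[A] B)
    (h : ∀ (n : ℕ) (c : C), (1 : A ⧸ I ^ (n + 1)) ⊗ₜ[A] (φ c) = (1 : A ⧸ I ^ (n + 1)) ⊗ₜ[A] (ψ c)) :
    φ = ψ := by
  have := Groth.Sga3.MultType.projective_of_isMultTypeConst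
    (Groth.Sga3.MultType.isMultTypeConst_of_isIsotrivial hH)
  ext c
  refine sub_eq_zero.1 (Groth.Sga3.MultType.eq_zero_of_forall_dual (R := A) fun f => ?_)
  refine IsHausdorff.haus (I := I) inferInstance (f (φ c - ψ c)) fun n => ?_
  rw [SModEq.zero, smul_eq_mul, Ideal.mul_top]
  refine Ideal.pow_le_pow_right (Nat.le_succ n) ?_
  have h1 := Groth.Sga3.MultType.apply_mem_map f
    (Groth.Sga3.MultType.sub_mem_smul_of_tmul_eq _ (h n c))
  simpa using h1

end Groth.Agent.S5270
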