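import Groth.Statements.S5275
import Groth.Agent.Reductive.MultTypeHom
-- import your own Groth.Agent.* helpers here

set_option autoImplicit false
open CategoryTheory MonoidalCategory CartesianMonoidalCategory MonObj GrpObj AlgebraicGeometry
universe u
open SGA3x

namespace Groth.Agent.S5275

open Groth.Reductive.FreeDiag

/-- Let u : G ⟶ H be a homomorphism of S-groups of multiplicative type and of finite type. Then the set
U of points s ∈ S such that u_s : G_s ⟶ H_s is an isomorphism is open and closed in S, and the
homomorphism G|_U ⟶ H|_U induced above U is an isomorphism. -/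
theorem result {S : Scheme.{u}} (G H : Over S) [GrpObj G] [GrpObj H]
    (hG : SGA3x.IsMultTypeFT G) (hH : SGA3x.IsMultTypeFT H) (u : G ⟶ H) [IsMonHom u] :
    ∃ U : S.Opens, IsClosed (U : Set S) ∧
      (∀ s : S, s ∈ U ↔ IsIso ((Over.pullback (S.fromSpecResidueField s)).map u).left) ∧
      IsIso ((Over.pullback U.ι).map u).left := by
  exact exists_clopen_prop (MorphismProperty.isomorphisms Scheme.{u})
    (fun f ↦ Function.Bijective f) (fun f hf ↦ isIso_dsHom f hf)
    (fun {K} _ {M N} _ _ f (hf : IsIso _) ↦
      ⟨injective_of_epi_dsHom (K := K) f, surjective_of_mono_dsHom (K := K) f⟩) hG hH u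

end Groth.Agent.S5275
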