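import Groth.Statements.S5276
import Groth.Agent.Reductive.MultTypeHom
-- import your own Groth.Agent.* helpers here

set_option autoImplicit false
open CategoryTheory MonoidalCategory CartesianMonoidalCategory MonObj GrpObj AlgebraicGeometry
universe u
open SGA3x

namespace Groth.Agent.S5276

open Groth.Reductive.FreeDiag

/-- Case 'faithfully flat (flat and surjective)': Let u : G ⟶ H be a homomorphism of S-groups of
multiplicative type and of finite type. Then the set U of points s ∈ S such that u_s : G_s ⟶ H_s is
faithfully flat (flat and surjective) is open and closed in S, and the homomorphism G|_U ⟶ H|_U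
induced above U is faithfully flat (flat and surjective). -/
theorem result {S : Scheme.{u}} (G H : Over S) [GrpObj G] [GrpObj H]
    (hG : SGA3x.IsMultTypeFT G) (hH : SGA3x.IsMultTypeFT H) (u : G ⟶ H) [IsMonHom u] :
    ∃ U : S.Opens, IsClosed (U : Set S) ∧
      (∀ s : S, s ∈ U ↔ (Flat ((Over.pullback (S.fromSpecResidueField s)).map u).left ∧ Surjective ((Over.pullback (S.fromSpecResidueField s)).map u).left)) ∧
      (Flat ((Over.pullback U.ι).map u).left ∧ Surjective ((Over.pullback U.ι).map u).left) := by
  haveI : IsZariskiLocalAtTarget (@Flat ⊓ @Surjective : MorphismProperty Scheme.{u}) :=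
    inferInstance
  haveI : (@Flat ⊓ @Surjective : MorphismProperty Scheme.{u}).DescendsAlong
      Groth.DescentBase.SFQ :=
    ⟨fun sq hf h ↦
      ⟨Groth.AlgSp2.flat_descendsAlong.of_isPullback sq hf h.1,
        MorphismProperty.of_isPullback_of_descendsAlong (P := @Surjective) sq hf h.2⟩⟩
  exact exists_clopen_prop (@Flat ⊓ @Surjective) (fun f ↦ Function.Injective f)
    (fun f hf ↦ flat_surjective_dsHom f hf)
    (fun {K} _ {M N} _ _ f hf ↦ by
      haveI := hf.1
      haveI := hf.2
      haveI := Flat.epi_of_flat_of_surjective (dsHom (T := Spec (CommRingCat.of K)) f).left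
      exact injective_of_epi_dsHom (K := K) f) hG hH u

end Groth.Agent.S5276
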