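import Groth.Statements.S5278
import Mathlib.AlgebraicGeometry.Morphisms.QuasiFinite
import Mathlib.AlgebraicGeometry.Morphisms.UniversallyOpen
-- no helpers

set_option autoImplicit false
open CategoryTheory AlgebraicGeometry
universe u
open SGA3x

namespace Groth.Agent.S5278


/-- Let X be a connected scheme, f : X' ⟶ X a finite etale morphism and x a point of X. Then every
connected component of X' meets the fibre of f over x; equivalently the map from the connected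
components of the fibre (or of the geometric fibre) to those of X' is surjective. -/
theorem result {X X' : Scheme.{u}} [ConnectedSpace X] (f : X' ⟶ X)
    [IsFinite f] [Etale f] (x : X) (c : X') :
    ∃ x' : X', f.base x' = x ∧ x' ∈ connectedComponent c := by
  let F : Set X' := f.base ⁻¹' {x}
  have hF : F.Finite := IsFinite.finite_preimage_singleton f x
  have hmeet : ∀ Z : Set X', IsClopen Z → Z.Nonempty → (Z ∩ F).Nonempty := by
    intro Z hZ hne
    have h : IsClopen (f.base '' Z) := ⟨f.isClosedMap _ hZ.1, f.isOpenMap _ hZ.2⟩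
    have h' : f.base '' Z = Set.univ := h.eq_univ (hne.image _)
    obtain ⟨z, hz, hzx⟩ : x ∈ f.base '' Z := h' ▸ Set.mem_univ x
    exact ⟨z, hz, hzx⟩
  let 𝒦 : Set (Set X') := (fun Z ↦ Z ∩ F) '' {Z : Set X' | IsClopen Z ∧ c ∈ Z}
  have h𝒦 : 𝒦.Finite := hF.finite_subsets.subset (by rintro _ ⟨Z, -, rfl⟩; exact Set.inter_subset_right)
  have h𝒦ne : 𝒦.Nonempty := ⟨_, Set.univ, ⟨isClopen_univ, trivial⟩, rfl⟩
  obtain ⟨_, ⟨Z, ⟨hZ, hcZ⟩, rfl⟩, hmin⟩ := h𝒦.exists_minimal h𝒦ne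
  have key : ∀ W : Set X', IsClopen W → c ∈ W → Z ⊆ W := by
    intro W hW hcW
    by_contra hne
    obtain ⟨z, hz⟩ := Set.not_subset.mp hne
    obtain ⟨y, hy, hyF⟩ := hmeet (Z \ W) (hZ.diff hW) ⟨z, hz⟩
    have := hmin ⟨Z ∩ W, ⟨hZ.inter hW, hcZ, hcW⟩, rfl⟩ (fun a ha ↦ ⟨ha.1.1, ha.2⟩) (a := y) ⟨hy.1, hyF⟩
    exact hy.2 this.1.2
  have hpre : _root_.IsPreconnected Z := by
    rw [isPreconnected_iff_subset_of_disjoint]
    intro u v hu hv hcov hdis
    have hZu : IsClopen (Z ∩ u) := by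
      refine ⟨?_, hZ.2.inter hu⟩
      have : Z ∩ u = Z ∩ vᶜ := by
        ext a; constructor
        · exact fun ⟨a1, a2⟩ ↦ ⟨a1, fun h ↦ Set.eq_empty_iff_forall_notMem.mp hdis a ⟨a1, a2, h⟩⟩
        · exact fun ⟨a1, a2⟩ ↦ ⟨a1, (hcov a1).resolve_right a2⟩
      exact this ▸ hZ.1.inter hv.isClosed_compl
    have hZv : IsClopen (Z ∩ v) := by
      refine ⟨?_, hZ.2.inter hv⟩
      have : Z ∩ v = Z ∩ uᶜ := by
        ext a; constructor
        · exact fun ⟨a1, a2⟩ ↦ ⟨a1, fun h ↦ Set.eq_empty_iff_forall_notMem.mp hdis a ⟨a1, h, a2⟩⟩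
        · exact fun ⟨a1, a2⟩ ↦ ⟨a1, (hcov a1).resolve_left a2⟩
      exact this ▸ hZ.1.inter hu.isClosed_compl
    rcases hcov hcZ with h | h
    · exact Or.inl ((key _ hZu ⟨hcZ, h⟩).trans Set.inter_subset_right)
    · exact Or.inr ((key _ hZv ⟨hcZ, h⟩).trans Set.inter_subset_right)
  obtain ⟨x', hx', hx'F⟩ := hmeet Z hZ ⟨c, hcZ⟩
  exact ⟨x', hx'F, hpre.subset_connectedComponent hcZ hx'⟩

end Groth.Agent.S5278
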