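import Groth.Statements.S5280
import Groth.Agent.Reductive.TrivialActionDescent

set_option autoImplicit false
open CategoryTheory MonoidalCategory CartesianMonoidalCategory MonObj GrpObj AlgebraicGeometry
universe u
open SGA3x

namespace Groth.Agent.S5280

/-- Let i₀ : S₀ ⟶ S be a closed immersion whose ideal is locally nilpotent (nilpotent on each member of
an affine open cover of S; in particular S₀ and S have the same underlying space), u : G ⟶ H a
homomorphism of S-groups with G of multiplicative type (fpqc-locally on S isomorphic, as a group, to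
diagonalisable groups D(M), M allowed to vary and taken in Type 0) and H locally of finite
presentation over S. If the restriction u₀ of u to S₀ is central (u(g) commutes with h for all
points g of G and h of H defined over an S₀-scheme), then u is central. -/
theorem result {S S₀ : Scheme.{u}} (i₀ : S₀ ⟶ S) [IsClosedImmersion i₀]
    (hnil : ∀ x : S, ∃ U : S.affineOpens, x ∈ (U : S.Opens) ∧ IsNilpotent (i₀.ker.ideal U))
    (G H : Over S) [GrpObj G] [GrpObj H] (hG : TwC.Locally S TwC.Topology.fpqc (fun S' f => ∃ (M : Type) (_ : AddCommGroup M), Nonempty (Grp.mk (Red.bc f G) ≅ Grp.mk (Red.DS S' M))))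
    [LocallyOfFinitePresentation H.hom] (u : G ⟶ H) [IsMonHom u]
    (h0 : ∀ (Y : Over S) (p : Y ⟶ Over.mk i₀) (g : Y ⟶ G) (h : Y ⟶ H), (g ≫ u) * h = h * (g ≫ u)) :
    ∀ (Y : Over S) (g : Y ⟶ G) (h : Y ⟶ H), (g ≫ u) * h = h * (g ≫ u) := by
  -- `G` acts on `H` by conjugation through `u`
  let act : G ⊗ H ⟶ H := (fst G H ≫ u) * snd G H * (fst G H ≫ u)⁻¹
  have hact : ∀ (Z : Over S) (g : Z ⟶ G) (h : Z ⟶ H),
      lift g h ≫ act = (g ≫ u) * h * (g ≫ u)⁻¹ := fun Z g h ↦ by
    simp only [act, MonObj.comp_mul, GrpObj.comp_inv, lift_fst_assoc, lift_snd]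
  let a : AlgGrp.Action G H :=
    { act := act
      one_act := by
        have e : η[G] ▷ H = lift (1 : 𝟙_ (Over S) ⊗ H ⟶ G) (snd _ _) := by
          apply CartesianMonoidalCategory.hom_ext
          · simp [Hom.one_def, CartesianMonoidalCategory.toUnit_unique (fst (𝟙_ (Over S)) H) (toUnit _)]
          · simp
        rw [e, hact, MonObj.one_comp]
        simp [CartesianMonoidalCategory.leftUnitor_hom]
      mul_act := by
        have e1 : μ[G] ▷ H = lift ((fst (G ⊗ G) H ≫ fst G G) * (fst (G ⊗ G) H ≫ snd G G))
            (snd (G ⊗ G) H) := by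
          apply CartesianMonoidalCategory.hom_ext
          · rw [lift_fst, ← MonObj.comp_mul, Hom.mul_def, lift_fst_snd, Category.id_comp]
            simp
          · simp
        have e2 : (α_ G G H).hom ≫ (G ◁ act) =
            lift (fst (G ⊗ G) H ≫ fst G G) (lift (fst (G ⊗ G) H ≫ snd G G) (snd (G ⊗ G) H) ≫ act) := by
          apply CartesianMonoidalCategory.hom_ext
          · simp
          · rw [lift_snd, Category.assoc, whiskerLeft_snd, ← Category.assoc]
            congr 1
            apply CartesianMonoidalCategory.hom_ext <;> simp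
        rw [e1, ← Category.assoc (α_ G G H).hom, e2, hact, hact, hact, MonObj.mul_comp]
        group }
  intro Y g h
  have key : a.act = snd G H := Groth.Reductive.FreeDiag.action_eq_snd i₀ hnil hG a
    fun Z p g' h' ↦ by
      show lift g' h' ≫ act = h'
      rw [hact, h0 Z p g' h', mul_inv_cancel_right]
  have e : (g ≫ u) * h * (g ≫ u)⁻¹ = h := by
    rw [← hact]
    show lift g h ≫ a.act = h
    rw [key, lift_snd]
  exact mul_inv_eq_iff_eq_mul.mp e

end Groth.Agent.S5280
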