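import Groth.Agent.Reductive.FreeDiagDescent
import Groth.Statements.S5284

set_option autoImplicit false
open CategoryTheory MonoidalCategory CartesianMonoidalCategory MonObj GrpObj AlgebraicGeometry
universe u
open SGA3x

namespace Groth.Agent.S5284

open Groth.Reductive.FreeDiag in
/-- The graph is a closed immersion. -/
lemma graph {S : Scheme.{u}} (G X : Over S) [GrpObj G]
    (hG : TwC.Locally S TwC.Topology.fpqc (fun S' f => ∃ (M : Type) (_ : AddCommGroup M),
      Nonempty (Grp.mk (Red.bc f G) ≅ Grp.mk (Red.DS S' M)))) (hX : IsAffineHom X.hom)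
    (a : AlgGrp.Action G X)
    (hfree : ∀ (Y : Over S) (g : Y ⟶ G) (x : Y ⟶ X), lift g x ≫ a.act = x → g = 1) :
    IsClosedImmersion (lift a.act (snd G X)).left := by
  obtain ⟨S', f, hflat, hsurj, hqc, hloc⟩ := hG
  set γo := lift a.act (snd G X)
  -- the square defining the pullback of the graph
  have hbase : ∀ (T : Scheme.{u}) (g : T ⟶ S), IsClosedImmersion ((Over.pullback g).map γo).left →
      ∀ (Z : Scheme.{u}) (b : Z ⟶ (X ⊗ X).left) (c : Z ⟶ T), IsPullback b c (X ⊗ X).hom g →
        IsClosedImmersion (Limits.pullback.snd γo.left b) := by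
    intro T g hci Z b c hZ
    have hbot : IsPullback (Limits.pullback.fst (X ⊗ X).hom g) (Limits.pullback.snd (X ⊗ X).hom g)
        (X ⊗ X).hom g := IsPullback.of_hasPullback _ _
    have htop : IsPullback (Limits.pullback.fst (G ⊗ X).hom g) ((Over.pullback g).map γo).left γo.left
        (Limits.pullback.fst (X ⊗ X).hom g) := by
      refine IsPullback.of_bot ?_ ?_ hbot
      · rw [show ((Over.pullback g).map γo).left ≫ Limits.pullback.snd (X ⊗ X).hom g =
            Limits.pullback.snd (G ⊗ X).hom g from Over.w ((Over.pullback g).map γo),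
          show γo.left ≫ (X ⊗ X).hom = (G ⊗ X).hom from Over.w γo]
        exact IsPullback.of_hasPullback _ _
      · exact (Limits.pullback.lift_fst _ _ _).symm
    let i := hZ.isoPullback
    have hb : i.hom ≫ Limits.pullback.fst (X ⊗ X).hom g = b := hZ.isoPullback_hom_fst
    have h1 : IsPullback (Limits.pullback.fst γo.left b) (Limits.pullback.snd γo.left b ≫ i.hom)
        γo.left (Limits.pullback.fst (X ⊗ X).hom g) :=
      (IsPullback.of_hasPullback γo.left b).of_iso (Iso.refl _) (Iso.refl _) i (Iso.refl _)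
        (by simp) (by simp) (by simp) (by simpa using hb.symm)
    have h2 : IsClosedImmersion (Limits.pullback.snd γo.left b ≫ i.hom) := by
      rw [← h1.isoIsPullback_hom_snd _ _ htop]
      haveI := hci
      infer_instance
    exact (MorphismProperty.cancel_right_of_respectsIso @IsClosedImmersion _ i.hom).mp h2
  -- locally on the base
  rw [IsZariskiLocalAtTarget.iff_of_openCover (P := @IsClosedImmersion)
    (S.affineCover.pullback₁ (X ⊗ X).hom)]
  intro j
  have hπ : IsPullback (Limits.pullback.fst (X ⊗ X).hom (S.affineCover.f j))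
      (Limits.pullback.snd (X ⊗ X).hom (S.affineCover.f j)) (X ⊗ X).hom (S.affineCover.f j) :=
    IsPullback.of_hasPullback _ _
  obtain ⟨W, hWc, hW⟩ := hqc (S.affineCover.f j).opensRange (isAffineOpen_opensRange _)
  have hle : Set.range (W.ι ≫ f) ⊆ Set.range (S.affineCover.f j) := by
    rintro _ ⟨w, rfl⟩
    exact hW.subset ⟨w.1, w.2, rfl⟩
  let g := IsOpenImmersion.lift (S.affineCover.f j) (W.ι ≫ f) hle
  have hg : g ≫ S.affineCover.f j = W.ι ≫ f := IsOpenImmersion.lift_fac _ _ _
  have : Surjective g := by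
    refine ⟨fun v ↦ ?_⟩
    obtain ⟨w, hw, e⟩ := hW.superset ⟨v, rfl⟩
    refine ⟨⟨w, hw⟩, (S.affineCover.f j).isOpenEmbedding.injective ?_⟩
    rw [← Scheme.Hom.comp_apply, hg]
    exact e
  have : Flat g := by
    haveI := hflat
    haveI : Flat (g ≫ S.affineCover.f j) := by rw [hg]; infer_instance
    exact MorphismProperty.of_postcomp (W := @Flat) (W' := @IsOpenImmersion) g
      (S.affineCover.f j) inferInstance inferInstance
  have : CompactSpace (W : Scheme.{u}) := isCompact_iff_compactSpace.mp hWc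
  have : IsAffine (S.affineCover.X j) := inferInstanceAs (IsAffine (Spec _))
  have : QuasiCompact g := quasiCompact_iff_compactSpace g |>.mpr inferInstance
  let k := Limits.pullback.fst (Limits.pullback.snd (X ⊗ X).hom (S.affineCover.f j)) g
  refine MorphismProperty.of_isPullback_of_descendsAlong (Q := Groth.DescentBase.SFQ)
    (IsPullback.of_hasPullback _ k).flip (Groth.DescentBase.sfq k) ?_
  change IsClosedImmersion (Limits.pullback.snd (Limits.pullback.snd γo.left
    (Limits.pullback.fst (X ⊗ X).hom (S.affineCover.f j))) k)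
  rw [← MorphismProperty.cancel_left_of_respectsIso @IsClosedImmersion
      (Limits.pullbackLeftPullbackSndIso γo.left _ _).inv,
    Limits.pullbackLeftPullbackSndIso_inv_snd_snd]
  set b := k ≫ Limits.pullback.fst (X ⊗ X).hom (S.affineCover.f j)
  have hY : IsPullback b (Limits.pullback.snd (Limits.pullback.snd (X ⊗ X).hom (S.affineCover.f j)) g)
      (X ⊗ X).hom (W.ι ≫ f) := by
    rw [← hg]
    exact (IsPullback.of_hasPullback _ g).paste_horiz hπ
  -- locally on the cover
  have hA : ∀ w : (W : Scheme.{u}), ∃ (T : Scheme.{u}) (t : T ⟶ W), IsOpenImmersion t ∧ IsAffine T ∧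
      w ∈ Set.range t ∧ ∃ (M : Type) (_ : AddCommGroup M)
        (i : Red.DS T M ≅ Red.bc (t ≫ W.ι ≫ f) G), IsMonHom i.hom := by
    intro w
    obtain ⟨U, hwU, M, _, ⟨e⟩⟩ := hloc w.1
    obtain ⟨V, hV, hwV, hVU⟩ := exists_isAffineOpen_mem_and_subset (x := (w.1 : S')) (U := W ⊓ U)
      ⟨w.2, hwU⟩
    refine ⟨V, S'.homOfLE (hVU.trans inf_le_left), inferInstance, hV, ⟨⟨w.1, hwV⟩, ?_⟩, M, ‹_›, ?_⟩
    · exact Subtype.ext (by simp)
    · let e' : Red.DS (U : Scheme.{u}) M ≅ Red.bc (U.ι ≫ f) G :=
        ⟨e.inv.hom.hom, e.hom.hom.hom, congrArg (fun z ↦ z.hom.hom) e.inv_hom_id,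
          congrArg (fun z ↦ z.hom.hom) e.hom_inv_id⟩
      haveI : IsMonHom e'.hom := inferInstanceAs (IsMonHom e.inv.hom.hom)
      obtain ⟨i, hi⟩ := exists_trivialisation_comp G (S'.homOfLE (hVU.trans inf_le_right)) (U.ι ≫ f)
        e'
      revert i hi
      rw [Scheme.homOfLE_ι_assoc, Scheme.homOfLE_ι_assoc]
      intro i hi
      exact ⟨i, hi⟩
  choose T t ht hTaff hwt M hM i hi using hA
  let 𝒲 : (W : Scheme.{u}).OpenCover := Scheme.Cover.mkOfCovers (W : Scheme.{u}) T t
    (fun w ↦ ⟨w, hwt w⟩) ht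
  rw [IsZariskiLocalAtTarget.iff_of_openCover (P := @IsClosedImmersion)
    (𝒲.pullback₁ (Limits.pullback.snd (Limits.pullback.snd (X ⊗ X).hom (S.affineCover.f j)) g))]
  intro w
  change IsClosedImmersion (Limits.pullback.snd (Limits.pullback.snd γo.left b)
    (Limits.pullback.fst (Limits.pullback.snd _ g) (t w)))
  rw [← MorphismProperty.cancel_left_of_respectsIso @IsClosedImmersion
      (Limits.pullbackLeftPullbackSndIso γo.left _ _).inv,
    Limits.pullbackLeftPullbackSndIso_inv_snd_snd]
  haveI := hTaff w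
  haveI := hi w
  refine hbase _ (t w ≫ W.ι ≫ f) (isClosedImmersion_pullback_graph _ hX a hfree (i w)) _ _
    (Limits.pullback.snd _ (t w)) ?_
  exact (IsPullback.of_hasPullback _ (t w)).paste_horiz hY

/-- Let G be an S-group of multiplicative type (fpqc-locally on S isomorphic, as a group, to
diagonalisable groups D(M), M allowed to vary and taken in Type 0) acting on an S-scheme X which is
affine over S, the action being free (a point g of G fixing a point x of X is the unit). Then the
graph morphism G ×_S X ⟶ X ×_S X, (g, x) ↦ (g·x, x), is a closed immersion; and for every section σ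
of X over S the orbit morphism G ⟶ X, g ↦ g·σ, is a closed immersion. -/
theorem result {S : Scheme.{u}} (G X : Over S) [GrpObj G]
    (hG : TwC.Locally S TwC.Topology.fpqc (fun S' f => ∃ (M : Type) (_ : AddCommGroup M), Nonempty (Grp.mk (Red.bc f G) ≅ Grp.mk (Red.DS S' M)))) (hX : IsAffineHom X.hom) (a : AlgGrp.Action G X)
    (hfree : ∀ (Y : Over S) (g : Y ⟶ G) (x : Y ⟶ X), lift g x ≫ a.act = x → g = 1) :
    IsClosedImmersion (lift a.act (snd G X)).left ∧
      ∀ σ : 𝟙_ (Over S) ⟶ X, IsClosedImmersion (a.orbitMap σ).left := by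
  have hgr := graph G X hG hX a hfree
  refine ⟨hgr, fun σ ↦ ?_⟩
  haveI := hX
  have hlift : ∀ {Z : Over S} (x : Z ⟶ X) (o : Z ⟶ X), IsSeparated X.hom →
      IsClosedImmersion ((lift (𝟙 Z) o).left) := fun {Z} _ o _ ↦ by
    have h1 : IsSeparated (fst Z X).left := by
      show IsSeparated (Limits.pullback.fst Z.hom X.hom)
      infer_instance
    haveI : IsClosedImmersion ((lift (𝟙 Z) o).left ≫ (fst Z X).left) := by
      rw [← Over.comp_left, lift_fst, Over.id_left]
      infer_instance
    exact IsClosedImmersion.of_comp _ (fst Z X).left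
  have hsep : IsSeparated X.hom := inferInstance
  have hG1 := hlift (toUnit G ≫ σ) (toUnit G ≫ σ) hsep
  have hX1 := hlift (toUnit X ≫ σ) (toUnit X ≫ σ) hsep
  haveI := hgr
  haveI : IsClosedImmersion ((a.orbitMap σ).left ≫ (lift (𝟙 X) (toUnit X ≫ σ)).left) := by
    have e : a.orbitMap σ ≫ lift (𝟙 X) (toUnit X ≫ σ) =
        lift (𝟙 G) (toUnit G ≫ σ) ≫ lift a.act (snd G X) := by
      apply CartesianMonoidalCategory.hom_ext <;> simp [AlgGrp.Action.orbitMap]
    rw [← Over.comp_left, e, Over.comp_left]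
    infer_instance
  exact IsClosedImmersion.of_comp _ (lift (𝟙 X) (toUnit X ≫ σ)).left

end Groth.Agent.S5284
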