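import Groth.Statements.S5288
import Groth.Agent.Sga3.HensHom
import Groth.Agent.Sga3.CoeffDescent
import Mathlib.RingTheory.AdicCompletion.LocalRing

set_option autoImplicit false
universe u
open TensorProduct SGA3b
open SGA3b

namespace Groth.Agent.S5288

open Groth.Sga3 Groth.Sga3.MultType Groth.Sga3.GroupAlg IsLocalRing
open Groth.Sga3.Descend (mp cf_mp)

theorem cancelBC_one_tmul' {R : Type u} [CommRing R] (S T : Type u) [CommRing S] [Algebra R S]
    [CommRing T] [Algebra R T] [Algebra S T] [IsScalarTower R S T] {B : Type u} [CommRing B]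
    [Bialgebra R B] (y : S ⊗[R] B) :
    cancelBC R S T B ((1 : T) ⊗ₜ[S] y) = (IsScalarTower.toAlgHom R S T).toLinearMap.rTensor B y := by
  induction y using TensorProduct.induction_on with
  | zero => simp
  | add p q hp hq => simp only [TensorProduct.tmul_add, map_add, hp, hq]
  | tmul s b =>
    change Algebra.TensorProduct.cancelBaseChange R S T T B ((1 : T) ⊗ₜ[S] (s ⊗ₜ[R] b)) = _
    rw [Algebra.TensorProduct.cancelBaseChange_tmul, Algebra.smul_def, mul_one]
    rfl

/-- A finite faithfully flat algebra over a local ring has a linear retraction. -/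
theorem exists_retraction {A : Type u} [CommRing A] [IsLocalRing A] (S : Type u) [CommRing S]
    [Algebra A S] [Module.Finite A S] [Module.FaithfullyFlat A S] :
    ∃ r : S →ₗ[A] A, r 1 = 1 := by
  haveI : Module.Free A S := Module.free_of_flat_of_isLocalRing
  let b := Module.Free.chooseBasis A S
  obtain ⟨i, hi⟩ : ∃ i, IsUnit (b.coord i (1 : S)) := by
    by_contra hne
    push Not at hne
    have h1 : (1 : S) ∈ maximalIdeal A • (⊤ : Submodule A S) := by
      rw [← b.linearCombination_repr (1 : S), Finsupp.linearCombination_apply]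
      exact Submodule.sum_mem _ fun i _ =>
        Submodule.smul_mem_smul ((mem_maximalIdeal _).2 (hne i)) Submodule.mem_top
    refine (maximalIdeal.isMaximal A).ne_top ?_
    rw [← Ideal.comap_map_eq_self_of_faithfullyFlat (B := S) (maximalIdeal A)]
    rw [Ideal.smul_top_eq_map] at h1
    rw [(Ideal.eq_top_iff_one _).2 h1, Ideal.comap_top]
  obtain ⟨u, hu⟩ := hi
  exact ⟨(↑u⁻¹ : A) • b.coord i, by rw [LinearMap.smul_apply, ← hu, smul_eq_mul, Units.inv_mul]⟩

/-- Elements of two base changes agreeing in the tensor product come from the base. -/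
theorem exists_eq_tmul {A : Type u} [CommRing A] (S A' : Type u) [CommRing S] [Algebra A S]
    [CommRing A'] [Algebra A A'] (r : S →ₗ[A] A) (hr : r 1 = 1) {B : Type u} [AddCommGroup B]
    [Module A B] (y : S ⊗[A] B) (z : A' ⊗[A] B)
    (h : (Algebra.TensorProduct.includeLeft : S →ₐ[A] S ⊗[A] A').toLinearMap.rTensor B y =
      (Algebra.TensorProduct.includeRight : A' →ₐ[A] S ⊗[A] A').toLinearMap.rTensor B z) :
    ∃ b : B, (1 : A') ⊗ₜ[A] b = z := by
  let ρ : S ⊗[A] A' →ₗ[A] A' := (TensorProduct.lid A A').toLinearMap ∘ₗ r.rTensor A'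
  have h1 : ∀ w : A' ⊗[A] B,
      ρ.rTensor B ((Algebra.TensorProduct.includeRight : A' →ₐ[A] S ⊗[A] A').toLinearMap.rTensor B w) = w := by
    intro w
    induction w using TensorProduct.induction_on with
    | zero => simp
    | add p q hp hq => simp only [map_add, hp, hq]
    | tmul a b => simp [ρ, hr]
  have h2 : ∀ w : S ⊗[A] B,
      ρ.rTensor B ((Algebra.TensorProduct.includeLeft : S →ₐ[A] S ⊗[A] A').toLinearMap.rTensor B w) =
        (1 : A') ⊗ₜ[A] TensorProduct.lid A B (r.rTensor B w) := by
    intro w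
    induction w using TensorProduct.induction_on with
    | zero => simp
    | add p q hp hq => simp only [map_add, TensorProduct.tmul_add, hp, hq]
    | tmul a b => simp [ρ, TensorProduct.smul_tmul]
  exact ⟨_, (h2 y).symm.trans ((congrArg (ρ.rTensor B) h).trans (h1 z))⟩

set_option maxRecDepth 8000 in
theorem exists_preimage {A : Type u} [CommRing A] [IsNoetherianRing A] [HenselianLocalRing A]
    {B : Type u} [CommRing B] [HopfAlgebra A B] (hGft : Algebra.FiniteType A B) (hG : IsMultType A B)
    {C : Type u} [CommRing C] [HopfAlgebra A C] (hHft : Algebra.FiniteType A C)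
    (hs : IsMultType (ResidueField A) (ResidueField A ⊗[A] C))
    (A' : Type u) [CommRing A'] [Algebra A A'] [IsLocalRing A'] [Module.FaithfullyFlat A A']
    (hmax : maximalIdeal A' = (maximalIdeal A).map (algebraMap A A'))
    (hres : ∀ a : A', ∃ a₀ : A, a - algebraMap A A' a₀ ∈ maximalIdeal A')
    (φ' : A' ⊗[A] C →ₐc[A'] A' ⊗[A] B) (c : C) :
    ∃ b : B, (1 : A') ⊗ₜ[A] b = φ' ((1 : A') ⊗ₜ[A] c) := by
  classical
  obtain ⟨S, _, _, hh, hfin, het, hff, M, _, ⟨γ⟩⟩ := HensHom.exists_local_split hGft hG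
  haveI : IsNoetherianRing S := IsNoetherianRing.of_finite A S
  obtain ⟨r, hr⟩ := exists_retraction (A := A) S
  let T := S ⊗[A] A'
  letI : Algebra A' T := Algebra.TensorProduct.rightAlgebra
  haveI : IsScalarTower A A' T := IsScalarTower.of_algebraMap_eq fun a => by
    change algebraMap A S a ⊗ₜ[A] (1 : A') = (1 : S) ⊗ₜ[A] algebraMap A A' a
    rw [Algebra.algebraMap_eq_smul_one, Algebra.algebraMap_eq_smul_one, TensorProduct.smul_tmul]
  haveI : Algebra.IsIntegral A S := Algebra.IsIntegral.of_finite A S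
  haveI : IsLocalHom (algebraMap A S) := ⟨fun a ha => by
    by_contra hna
    refine (maximalIdeal.isMaximal S).ne_top (Ideal.eq_top_of_isUnit_mem _ ?_ ha)
    exact (HensHom.map_le_jacobson (R := A) S).trans (jacobson_eq_maximalIdeal ⊥ bot_ne_top).le
      (Ideal.mem_map_of_mem _ ((mem_maximalIdeal a).mpr hna))⟩
  let J : Ideal T := (maximalIdeal S).map (algebraMap S T)
  have hmJ : ∀ a' ∈ maximalIdeal A', ∀ s : S, s ⊗ₜ[A] a' ∈ J := by
    intro a' ha' s
    rw [hmax] at ha'
    have h1 : (maximalIdeal A).map (algebraMap A A') ≤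
        J.comap (Algebra.TensorProduct.includeRight : A' →ₐ[A] T) := by
      rw [Ideal.map_le_iff_le_comap]
      intro a ha
      change (Algebra.TensorProduct.includeRight : A' →ₐ[A] T) (algebraMap A A' a) ∈ J
      rw [AlgHom.commutes, IsScalarTower.algebraMap_apply A S T]
      exact Ideal.mem_map_of_mem _ ((mem_maximalIdeal _).2 fun hu =>
        (mem_maximalIdeal _).1 ha (isUnit_of_map_unit _ a hu))
    rw [show s ⊗ₜ[A] a' = (s ⊗ₜ[A] (1 : A')) * ((1 : S) ⊗ₜ[A] a') by simp]
    exact Ideal.mul_mem_left _ _ (h1 ha')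
  have hresT : ∀ t : T, ∃ s : S, t - algebraMap S T s ∈ J := by
    intro t
    induction t using TensorProduct.induction_on with
    | zero => exact ⟨0, by simp⟩
    | add p q hp hq =>
      obtain ⟨s₁, h₁⟩ := hp; obtain ⟨s₂, h₂⟩ := hq
      exact ⟨s₁ + s₂, by rw [map_add, add_sub_add_comm]; exact add_mem h₁ h₂⟩
    | tmul s a' =>
      obtain ⟨a₀, ha₀⟩ := hres a'
      refine ⟨a₀ • s, ?_⟩
      have h1 := hmJ _ ha₀ s
      rw [TensorProduct.tmul_sub, Algebra.algebraMap_eq_smul_one a₀, ← TensorProduct.smul_tmul] at h1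
      exact h1
  have hJne : J ≠ ⊤ := fun hJ => (maximalIdeal.isMaximal S).ne_top (by
    rw [← Ideal.comap_map_eq_self_of_faithfullyFlat (B := T) (maximalIdeal S)]
    change J.comap (algebraMap S T) = ⊤
    rw [hJ, Ideal.comap_top])
  have hJle : ∀ Q : Ideal T, Q.IsMaximal → J ≤ Q := by
    intro Q hQ
    haveI := hQ
    rw [Ideal.map_le_iff_le_comap]
    haveI : Module.Finite A' T :=
      Module.Finite.equiv (Algebra.TensorProduct.commRight A A' S).toLinearEquiv
    haveI : Algebra.IsIntegral A' T := Algebra.IsIntegral.of_finite A' T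
    have h1 : (Q.comap (algebraMap A' T)) = maximalIdeal A' :=
      eq_maximalIdeal (Ideal.isMaximal_comap_of_isIntegral_of_isMaximal Q)
    have h2 : ((Q.comap (algebraMap S T)).comap (algebraMap A S)) = maximalIdeal A := by
      refine le_antisymm (le_maximalIdeal (Ideal.IsPrime.ne_top inferInstance)) fun a ha => ?_
      change algebraMap S T (algebraMap A S a) ∈ Q
      rw [← IsScalarTower.algebraMap_apply, IsScalarTower.algebraMap_apply A A' T]
      exact h1.ge (hmax.ge (Ideal.mem_map_of_mem _ ha))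
    haveI : (Q.comap (algebraMap S T)).IsMaximal :=
      Ideal.isMaximal_of_isIntegral_of_isMaximal_comap (R := A) _ (h2 ▸ maximalIdeal.isMaximal A)
    exact (eq_maximalIdeal ‹_›).ge
  have hJmax : J.IsMaximal := by
    obtain ⟨Q, hQ, hle⟩ := Ideal.exists_le_maximal J hJne
    suffices J = Q by rwa [this]
    refine le_antisymm hle fun t ht => ?_
    obtain ⟨s, hs'⟩ := hresT t
    have h1 : algebraMap S T s ∈ Q := by
      have := sub_mem ht (hle hs')
      rwa [sub_sub_cancel] at this
    have h2 : s ∈ maximalIdeal S := (mem_maximalIdeal _).2 fun hu =>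
      hQ.ne_top (Ideal.eq_top_of_isUnit_mem _ h1 (hu.map _))
    have := add_mem hs' (Ideal.mem_map_of_mem (algebraMap S T) h2)
    rwa [sub_add_cancel] at this
  haveI : IsLocalRing T := IsLocalRing.of_unique_max_ideal
    ⟨J, hJmax, fun Q hQ => (hJmax.eq_of_le hQ.ne_top (hJle Q hQ)).symm⟩
  have hJeq : J = maximalIdeal T := eq_maximalIdeal hJmax
  haveI : IsLocalHom (algebraMap S T) := ⟨fun s hs' => by
    by_contra hns
    exact hJmax.ne_top (Ideal.eq_top_of_isUnit_mem _
      (Ideal.mem_map_of_mem _ ((mem_maximalIdeal s).2 hns)) hs')⟩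
  -- the homomorphism over `T`
  let E : T ⊗[A] B ≃ₐc[T] MonoidAlgebra T M :=
    (cancelBC A S T B).symm.trans ((congrBC T γ).trans (monAlgBC S T M))
  have hE : ∀ y : S ⊗[A] B, E ((IsScalarTower.toAlgHom A S T).toLinearMap.rTensor B y) =
      mp (algebraMap S T) (γ y) := by
    intro y
    rw [← cancelBC_one_tmul']
    change monAlgBC S T M (congrBC T γ ((cancelBC A S T B).symm (cancelBC A S T B ((1 : T) ⊗ₜ[S] y)))) = _
    rw [BialgEquiv.symm_apply_apply]
    change MonoidAlgebra.scalarTensorEquiv S T ((1 : T) ⊗ₜ[S] γ y) = _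
    rw [MonoidAlgebra.scalarTensorEquiv_tmul, one_smul]
    rfl
  let Φ : T ⊗[S] (S ⊗[A] C) →ₐc[T] MonoidAlgebra T M :=
    ((E : T ⊗[A] B →ₐc[T] MonoidAlgebra T M).comp (HomLift.push A' T φ')).comp
      (cancelBC A S T C : T ⊗[S] (S ⊗[A] C) →ₐc[T] T ⊗[A] C)
  have hΦ : Φ ((1 : T) ⊗ₜ[S] ((1 : S) ⊗ₜ[A] c)) =
      E ((IsScalarTower.toAlgHom A A' T).toLinearMap.rTensor B (φ' ((1 : A') ⊗ₜ c))) := by
    change E (HomLift.push A' T φ' (cancelBC A S T C ((1 : T) ⊗ₜ[S] ((1 : S) ⊗ₜ[A] c)))) = _
    rw [HomLift.cancelBC_one_tmul, HomLift.push_one_tmul, cancelBC_one_tmul']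
  have hsS : IsMultType (ResidueField S) (ResidueField S ⊗[S] (S ⊗[A] C)) :=
    CoeffDescent.isMultType_equiv (cancelBC A S (ResidueField S) C).symm
      (CoeffDescent.isMultType_equiv (cancelBC A (ResidueField A) (ResidueField S) C)
        (isMultType_baseChange (ResidueField S) hs))
  choose a ha using fun m => CoeffDescent.cf_mem_range (L := S) inferInstance hsS T
    (fun t => by obtain ⟨s, h⟩ := hresT t; exact ⟨s, hJeq ▸ h⟩) Φ ((1 : S) ⊗ₜ[A] c) m
  let w := Φ ((1 : T) ⊗ₜ[S] ((1 : S) ⊗ₜ[A] c))
  let y := γ.symm (∑ m ∈ w.coeff.support, MonoidAlgebra.single m (a m))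
  have hy : mp (algebraMap S T) (γ y) = w := by
    refine ext_cf fun m => ?_
    rw [cf_mp, show γ y = _ from γ.apply_symm_apply _, map_sum]
    simp only [cf_single, Finset.sum_ite_eq']
    split_ifs with hm
    · exact ha m
    · rw [map_zero]; exact (Finsupp.notMem_support_iff.1 hm).symm
  refine exists_eq_tmul S A' r hr y _ ?_
  refine EquivLike.injective E ?_
  exact (hE y).trans (hy.trans hΦ)


/-- Let A be a henselian Noetherian local ring with maximal ideal 𝔪, residue field k and completion A';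
let G = Spec B be an A-group of multiplicative type and of finite type, and H = Spec C an affine
A-group with C of finite type over A, flat over A at the points of the closed fibre (C localised at
any prime containing 𝔪C is flat over A), whose closed fibre Spec (k ⊗ C) is a k-group of
multiplicative type. Then base change to A' is a bijection from homomorphisms of A-groups G ⟶ H
(bialgebra maps C → B) to homomorphisms of A'-groups G' ⟶ H': two bialgebra maps C → B with the same
base change are equal, and every bialgebra map A' ⊗ C → A' ⊗ B over A' is a base change. (The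
published statement allows H locally of finite type and separated over A, not necessarily affine;
this row takes H affine.) (Affine group schemes over an affine base are taken in Hopf-algebra form;
base change is the tensor product; a homomorphism of groups Spec A ⟶ Spec C is a bialgebra map C →
A.) -/
theorem result (A : Type u) [CommRing A] [IsNoetherianRing A] [HenselianLocalRing A]
    (B : Type u) [CommRing B] [HopfAlgebra A B] (hGft : Algebra.FiniteType A B) (hG : IsMultType A B)
    (C : Type u) [CommRing C] [HopfAlgebra A C] (hHft : Algebra.FiniteType A C)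
    (hfl : ∀ (q : Ideal C) [q.IsPrime], Ideal.map (algebraMap A C) (IsLocalRing.maximalIdeal A) ≤ q → Module.Flat A (Localization.AtPrime q))
    (hs : IsMultType (IsLocalRing.ResidueField A) (IsLocalRing.ResidueField A ⊗[A] C)) :
    (∀ φ ψ : C →ₐc[A] B, (∀ c : C, (1 : AdicCompletion (IsLocalRing.maximalIdeal A) A) ⊗ₜ[A] (φ c) = (1 : AdicCompletion (IsLocalRing.maximalIdeal A) A) ⊗ₜ[A] (ψ c)) → φ = ψ) ∧
    (∀ φ' : (AdicCompletion (IsLocalRing.maximalIdeal A) A ⊗[A] C) →ₐc[AdicCompletion (IsLocalRing.maximalIdeal A) A] (AdicCompletion (IsLocalRing.maximalIdeal A) A ⊗[A] B),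
      ∃ φ : C →ₐc[A] B, ∀ c : C, φ' ((1 : AdicCompletion (IsLocalRing.maximalIdeal A) A) ⊗ₜ[A] c) = (1 : AdicCompletion (IsLocalRing.maximalIdeal A) A) ⊗ₜ[A] (φ c)) := by
  haveI : Module.Flat A (AdicCompletion (IsLocalRing.maximalIdeal A) A) :=
    AdicCompletion.flat_of_isNoetherian (IsLocalRing.maximalIdeal A)
  have hmax := AdicCompletion.maximalIdeal_eq_map_of_fg
    (IsNoetherian.noetherian (IsLocalRing.maximalIdeal A))
  haveI : IsLocalHom (algebraMap A (AdicCompletion (IsLocalRing.maximalIdeal A) A)) :=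
    ((IsLocalRing.local_hom_TFAE _).out 0 2 rfl rfl).mpr hmax.ge
  haveI : Module.FaithfullyFlat A (AdicCompletion (IsLocalRing.maximalIdeal A) A) :=
    Module.FaithfullyFlat.of_flat_of_isLocalHom
  refine ⟨fun φ ψ h => BialgHom.ext fun c =>
    one_tmul_injective_of_faithfullyFlat (R := A) _ B (h c), fun φ' => ?_⟩
  have hres : ∀ t : AdicCompletion (IsLocalRing.maximalIdeal A) A,
      ∃ a : A, t - algebraMap A _ a ∈ IsLocalRing.maximalIdeal (AdicCompletion (IsLocalRing.maximalIdeal A) A) := by
    intro t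
    obtain ⟨a, ha⟩ := Ideal.Quotient.mk_surjective (AdicCompletion.evalOneₐ (IsLocalRing.maximalIdeal A) t)
    refine ⟨a, ?_⟩
    rw [hmax, ← AdicCompletion.ker_evalOneₐ_eq_map _ (IsNoetherian.noetherian (IsLocalRing.maximalIdeal A)),
      RingHom.mem_ker, map_sub, AlgHom.toRingHom_eq_coe, RingHom.coe_coe, AlgHom.commutes, sub_eq_zero]
    exact ha.symm
  choose f hf using exists_preimage hGft hG hHft hs _ hmax hres φ'
  haveI : Module.FaithfullyFlat A (PUnit.{u + 1} → AdicCompletion (IsLocalRing.maximalIdeal A) A) :=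
    Module.FaithfullyFlat.of_linearEquiv A _ (LinearEquiv.funUnique PUnit.{u + 1} A _)
  obtain ⟨φ, hφ⟩ := HomLift.exists_bialgHom_of_local
    (fun _ : PUnit.{u + 1} => AdicCompletion (IsLocalRing.maximalIdeal A) A) (fun _ => φ') f
    (fun _ c => hf c)
  exact ⟨φ, fun c => by rw [hφ]; exact (hf c).symm⟩

end Groth.Agent.S5288
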