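import Groth.Statements.S5289
import Groth.Agent.Reductive.MTRigidSub
-- import your own Groth.Agent.* helpers here

set_option autoImplicit false
open CategoryTheory MonoidalCategory CartesianMonoidalCategory MonObj GrpObj AlgebraicGeometry
universe u
open SGA3x

namespace Groth.Agent.S5289

/-- Let S = Spec R be affine, J an ideal of R with J² = 0 and S₀ = Spec (R/J); let G be an arbitrary
S-group and i : H ⟶ G, i' : H' ⟶ G two sub-group-schemes (homomorphisms which are immersions) of
multiplicative type (fpqc-locally on S isomorphic, as groups, to diagonalisable groups D(M), M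
allowed to vary and taken in Type 0), such that H ×_S S₀ and H' ×_S S₀ coincide as subgroups of G
×_S S₀. Then there is an S-point g of G whose restriction to S₀ is the unit and which conjugates H
onto H': int(g) ∘ i factors through i' by an isomorphism H ≅ H'. -/
theorem result {R : Type u} [CommRing R] (J : Ideal R) (hJ : J ^ 2 = ⊥)
    (G H H' : Over (Spec (CommRingCat.of R))) [GrpObj G] [GrpObj H] [GrpObj H']
    (hH : TwC.Locally (Spec (CommRingCat.of R)) TwC.Topology.fpqc (fun S' f => ∃ (M : Type) (_ : AddCommGroup M), Nonempty (Grp.mk (Red.bc f H) ≅ Grp.mk (Red.DS S' M))))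
    (hH' : TwC.Locally (Spec (CommRingCat.of R)) TwC.Topology.fpqc (fun S' f => ∃ (M : Type) (_ : AddCommGroup M), Nonempty (Grp.mk (Red.bc f H') ≅ Grp.mk (Red.DS S' M))))
    (i : H ⟶ G) [IsMonHom i] [IsImmersion i.left] (i' : H' ⟶ G) [IsMonHom i'] [IsImmersion i'.left]
    (h0 : ∃ ψ : Red.bc (Spec.map (CommRingCat.ofHom (Ideal.Quotient.mk J))) H ≅ Red.bc (Spec.map (CommRingCat.ofHom (Ideal.Quotient.mk J))) H',
      ψ.hom ≫ (Over.pullback (Spec.map (CommRingCat.ofHom (Ideal.Quotient.mk J)))).map i' = (Over.pullback (Spec.map (CommRingCat.ofHom (Ideal.Quotient.mk J)))).map i) :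
    ∃ g : 𝟙_ (Over (Spec (CommRingCat.of R))) ⟶ G, toUnit (Over.mk (Spec.map (CommRingCat.ofHom (Ideal.Quotient.mk J))) : Over (Spec (CommRingCat.of R))) ≫ g = 1 ∧ SGA3x.ConjBy i i' g := by
  obtain ⟨ψ, hψ⟩ := h0
  exact Groth.Reductive.MTInt.exists_conjBy_of_iso_mod J hJ (Groth.Reductive.MTInt.locTriv_of_locally hH)
    (Groth.Reductive.MTInt.locTriv_of_locally hH') i i' ψ hψ

end Groth.Agent.S5289
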