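import Groth.Statements.S5290
import Groth.Agent.Reductive.CentralLift

set_option autoImplicit false
open CategoryTheory MonoidalCategory CartesianMonoidalCategory MonObj GrpObj AlgebraicGeometry
universe u
open SGA3x

namespace Groth.Agent.S5290

/-- Let S = Spec R be affine, J a nilpotent ideal of R and S₀ = Spec (R/J); let G be an arbitrary
S-group and i : H ⟶ G, i' : H' ⟶ G two sub-group-schemes (homomorphisms which are immersions) of
multiplicative type (fpqc-locally on S isomorphic, as groups, to diagonalisable groups D(M), M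
allowed to vary and taken in Type 0), with H central in G (every point of G commutes with every
point of H). If H ×_S S₀ and H' ×_S S₀ coincide as subgroups of G ×_S S₀, then H = H' as subgroups
of G: there is an isomorphism H ≅ H' compatible with i and i'. -/
theorem result {R : Type u} [CommRing R] (J : Ideal R) (hJ : IsNilpotent J)
    (G H H' : Over (Spec (CommRingCat.of R))) [GrpObj G] [GrpObj H] [GrpObj H']
    (hH : TwC.Locally (Spec (CommRingCat.of R)) TwC.Topology.fpqc (fun S' f => ∃ (M : Type) (_ : AddCommGroup M), Nonempty (Grp.mk (Red.bc f H) ≅ Grp.mk (Red.DS S' M))))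
    (hH' : TwC.Locally (Spec (CommRingCat.of R)) TwC.Topology.fpqc (fun S' f => ∃ (M : Type) (_ : AddCommGroup M), Nonempty (Grp.mk (Red.bc f H') ≅ Grp.mk (Red.DS S' M))))
    (i : H ⟶ G) [IsMonHom i] [IsImmersion i.left] (i' : H' ⟶ G) [IsMonHom i'] [IsImmersion i'.left]
    (hc : ∀ (X : Over (Spec (CommRingCat.of R))) (g : X ⟶ G) (h : X ⟶ H), g * (h ≫ i) = (h ≫ i) * g)
    (h0 : ∃ ψ : Red.bc (Spec.map (CommRingCat.ofHom (Ideal.Quotient.mk J))) H ≅ Red.bc (Spec.map (CommRingCat.ofHom (Ideal.Quotient.mk J))) H',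
      ψ.hom ≫ (Over.pullback (Spec.map (CommRingCat.ofHom (Ideal.Quotient.mk J)))).map i' = (Over.pullback (Spec.map (CommRingCat.ofHom (Ideal.Quotient.mk J)))).map i) :
    ∃ φ : H ≅ H', φ.hom ≫ i' = i := by
  set j := Spec.map (CommRingCat.ofHom (Ideal.Quotient.mk J))
  obtain ⟨ψ, hψ⟩ := h0
  haveI : Mono i := (Over.forget _).mono_of_mono_map (inferInstanceAs (Mono i.left))
  haveI : Mono i' := (Over.forget _).mono_of_mono_map (inferInstanceAs (Mono i'.left))
  -- the two subgroups have the same points over the reduction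
  have hψ' : ψ.inv ≫ (Over.pullback j).map i = (Over.pullback j).map i' := by
    rw [← hψ, Iso.inv_hom_id_assoc]
  have tr : ∀ {A B : Over (Spec (CommRingCat.of R))} (a : A ⟶ G) (b : B ⟶ G)
      (θ : Red.bc j A ⟶ Red.bc j B), θ ≫ (Over.pullback j).map b = (Over.pullback j).map a →
      ∀ (Z : Over (Spec (CommRingCat.of R))) (_ : Z ⟶ Over.mk j) (x : Z ⟶ A),
        ∃ x' : Z ⟶ B, x' ≫ b = x ≫ a := by
    intro A B a b θ hθ Z p x
    let q : Over (Spec (CommRingCat.of (R ⧸ J))) := Over.mk p.left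
    have hp : p.left ≫ j = Z.hom := Over.w p
    let c : Z ⟶ (Over.map j).obj q := Over.homMk (𝟙 _) ((Category.id_comp _).trans hp)
    let ci : (Over.map j).obj q ⟶ Z := Over.homMk (𝟙 _) ((Category.id_comp _).trans hp.symm)
    have hcci : c ≫ ci = 𝟙 Z := Over.OverMorphism.ext (Category.id_comp _)
    let y : q ⟶ Red.bc j A := (Over.mapPullbackAdj j).homEquiv q A (ci ≫ x)
    refine ⟨c ≫ Groth.Reductive.FreeDiag.qPt j (y ≫ θ), ?_⟩
    rw [Category.assoc, ← Groth.Reductive.FreeDiag.qPt_map, Category.assoc, hθ,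
      Groth.Reductive.FreeDiag.qPt_map,
      show Groth.Reductive.FreeDiag.qPt j y = ci ≫ x from Equiv.symm_apply_apply _ _,
      Category.assoc, reassoc_of% hcci]
  have hnil : ∀ x : ↥(Spec (CommRingCat.of R)), ∃ U : (Spec (CommRingCat.of R)).affineOpens,
      x ∈ (U : (Spec (CommRingCat.of R)).Opens) ∧ IsNilpotent (j.ker.ideal U) := by
    intro x
    refine ⟨⟨⊤, isAffineOpen_top _⟩, trivial, ?_⟩
    obtain ⟨n, hn⟩ := hJ
    refine ⟨n, ?_⟩
    let σ := Scheme.ΓSpecIso (CommRingCat.of R)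
    have hle : j.ker.ideal ⟨⊤, isAffineOpen_top _⟩ ≤ J.map σ.inv.hom := fun r hr => by
      rw [Scheme.Hom.ker_apply, RingHom.mem_ker] at hr
      have e := ConcreteCategory.congr_hom
        (Scheme.ΓSpecIso_naturality (CommRingCat.ofHom (Ideal.Quotient.mk J))) r
      have h1 : σ.hom r ∈ J := by
        rw [← Ideal.Quotient.eq_zero_iff_mem]
        refine Eq.trans e.symm ?_
        show (Scheme.ΓSpecIso (CommRingCat.of (R ⧸ J))).hom (Scheme.Hom.appTop j r) = 0
        rw [show Scheme.Hom.appTop j r = 0 from hr, map_zero]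
      have e2 : σ.inv.hom (σ.hom r) = r := ConcreteCategory.congr_hom σ.hom_inv_id r
      rw [← e2]
      exact Ideal.mem_map_of_mem _ h1
    refine le_bot_iff.mp ((Ideal.pow_right_mono hle n).trans ?_)
    rw [← Ideal.map_pow, hn, Ideal.zero_eq_bot, Ideal.map_bot]
  -- `H'` is central as well
  have hc' : ∀ (X : Over (Spec (CommRingCat.of R))) (g : X ⟶ G) (h : X ⟶ H'),
      g * (h ≫ i') = (h ≫ i') * g := by
    intro X g h
    refine (Groth.Reductive.FreeDiag.central_of_central_mod j hnil H' G hH' i'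
      (fun Y p a b => ?_) X h g).symm
    obtain ⟨x, hx⟩ := tr i' i ψ.inv hψ' Y p a
    rw [← hx]
    exact (hc Y b x).symm
  obtain ⟨φ, hφ⟩ := Groth.Reductive.FreeDiag.exists_factor J hJ hH hH' i i' hc (tr i i' ψ.hom hψ)
  obtain ⟨φ', hφ'⟩ := Groth.Reductive.FreeDiag.exists_factor J hJ hH' hH i' i hc'
    (tr i' i ψ.inv hψ')
  exact ⟨⟨φ, φ', by rw [← cancel_mono i, Category.assoc, hφ', hφ, Category.id_comp],
    by rw [← cancel_mono i', Category.assoc, hφ, hφ', Category.id_comp]⟩, hφ⟩

end Groth.Agent.S5290
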