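import Groth.Statements.S5292
import Groth.Agent.Reductive2.HomComm
import Groth.Agent.Reductive2.HomCharts

set_option autoImplicit false
open CategoryTheory MonoidalCategory CartesianMonoidalCategory MonObj GrpObj AlgebraicGeometry
universe u
open SGA3x

namespace Groth.Agent.S5292

theorem mul_comm_of_const {S T : Scheme.{u}} {f : T ⟶ S} (t : T) {R : Over S} [GrpObj R]
    (hcomm : ∀ (X : Over S) (a b : X ⟶ R), a * b = b * a) {M : Type} [Group M] (e : Red.bc f R ≅ TwC.const T M)
    (he : TwC.IsConstGrp M (Red.bc f R) e) (m n : M) : m * n = n * m := by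
  have h : TwC.pt T M (m * n) = TwC.pt T M (n * m) := by
    rw [← cancel_mono e.inv, ← he, ← he]
    apply (Groth.Reductive.bcPointEquiv f R _).injective
    rw [map_mul, map_mul, hcomm]
  have h' := congr(CommaMorphism.left $h t)
  simp only [TwC.pt, Over.homMk_left] at h'
  exact congrArg ULift.down (Groth.Reductive2.HomDesc.eq_of_range_ι
    (T := fun _ : ULift.{u} M => T) (i := ⟨m * n⟩) (j := ⟨n * m⟩) (x := t) (y := t) (by
    have e2 := congrArg (Groth.Reductive2.HomComm.constCongr (T := T) (Equiv.ulift.{u}.symm : M ≃ _)).hom.left h'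
    simp only [Groth.Reductive2.HomComm.constCongr, TwC.constMap, Over.homMk_left,
      ← Scheme.Hom.comp_apply, Limits.Sigma.ι_desc] at e2
    exact e2))

/-- Let R be a commutative twisted constant S-group (fpqc-locally on S isomorphic, as a group, to
constant groups M_{S'}, the groups M allowed to vary and taken in Type 0, like the character groups
of the conclusion). Then the functor D_S(R) = Hom_{S-gr}(R, G_m) is representable: there is an
S-group D with a universal family of characters R ×_S D ⟶ G_{m,S}, multiplicative in the D-variable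
as well (the group law of D is the pointwise product of characters), and D is of multiplicative type
(fpqc-locally on S isomorphic, as a group, to diagonalisable groups D(M), M allowed to vary and
taken in Type 0). -/
theorem result {S : Scheme.{u}} (R : Over S) [GrpObj R]
    (hR : TwC.Locally S TwC.Topology.fpqc (fun S' f => ∃ (M : Type) (_ : Group M) (e : Red.bc f R ≅ TwC.const S' M),
      TwC.IsConstGrp M (Red.bc f R) e))
    (hcomm : ∀ (X : Over S) (a b : X ⟶ R), a * b = b * a) :
    ∃ (D : Over S) (_ : GrpObj D) (υ : R ⊗ D ⟶ Red.Gm S), AutFam.RepresentsHom R (Red.Gm S) D υ ∧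
      (∀ (X : Over S) (r : X ⟶ R) (a b : X ⟶ D), lift r (a * b) ≫ υ = (lift r a ≫ υ) * (lift r b ≫ υ)) ∧
      TwC.Locally S TwC.Topology.fpqc (fun S' f => ∃ (M : Type) (_ : AddCommGroup M), Nonempty (Grp.mk (Red.bc f D) ≅ Grp.mk (Red.DS S' M))) := by
  classical
  obtain ⟨S', f, hflat, hsurj, hqc, hloc⟩ := hR
  choose U hU M hMg e he using hloc
  haveI := hflat
  haveI := hsurj
  letI gM : ∀ s, CommGroup (M s) := fun s =>
    letI := hMg s
    { hMg s with mul_comm := mul_comm_of_const (⟨s, hU s⟩ : U s) hcomm (e s) (he s) }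
  have hrep := fun s => Groth.Reductive2.HomComm.exists_representsOn (f := (U s).ι ≫ f) (M := M s) (e s) (he s)
  choose υ hυ hυmul using hrep
  obtain ⟨B, ω₀, hB, hpieces⟩ := Groth.Reductive2.HomDesc.exists_representsOn_sigma
    (fun s => (U s).ι ≫ f) (fun s => Red.DS (U s : Scheme.{u}) (Additive (M s))) υ hυ
  haveI := Groth.Reductive2.HomCharts.isCover_of_pieces f hqc U fun s => ⟨s, hU s⟩
  haveI : IsAffineHom B.hom := Groth.Reductive2.HomTwConst.prop_of_pieces @IsAffineHom
    (A := fun s => Red.DS (U s : Scheme.{u}) (Additive (M s))) (fun s => by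
      obtain ⟨j, _, hj⟩ := hpieces s
      exact ⟨j.left, hj⟩) fun s => by
      have : IsAffineHom (Red.diag (ULift.{u} ℤ) (Additive (M s))).hom :=
        inferInstanceAs (IsAffineHom (Spec.map _))
      exact MorphismProperty.pullback_snd _ _ inferInstance
  obtain ⟨D, ω, c, hD, hc, hsq⟩ := Groth.Reductive2.HomDesc.exists_representsHom_of_cover
    (Limits.Sigma.desc fun s => (U s).ι ≫ f) hB fun α => Groth.Reductive2.HomCharts.eff_of_isAffineHom α
  obtain ⟨gD, hmul⟩ := Groth.Reductive2.HomDual.exists_grpObj (G := R) (H := Red.Gm S)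
    (fun X a b => Groth.Reductive2.HomDual.ds_mul_comm X a b) hD
  refine ⟨D, gD, ω, hD, fun X r a b => ?_, S', f, hflat, hsurj, hqc, fun s => ⟨U s, hU s, Additive (M s), inferInstance, ?_⟩⟩
  · have e : ∀ x : X ⟶ D, lift r x ≫ ω = lift r (𝟙 X) ≫ (R ◁ x) ≫ ω := fun x => by
      rw [lift_whiskerLeft_assoc, Category.id_comp]
    rw [e, e, e, hmul, MonObj.comp_mul]
  · obtain ⟨j, hj, hjsq⟩ := hpieces s
    let cs : (Over.map ((U s).ι ≫ f)).obj (Red.DS (U s : Scheme.{u}) (Additive (M s))) ⟶ D :=
      Over.homMk (j.left ≫ c.left) (by rw [Category.assoc, Over.w c]; exact Over.w j)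
    refine Groth.Reductive2.HomComm.exists_grpIso hD hmul (hυmul s) cs ?_ ?_
    · have e : cs = j ≫ c := Over.OverMorphism.ext rfl
      rw [e, whiskerLeft_comp_assoc, hc, hj]
    · have := hjsq.paste_horiz hsq
      rw [Limits.Sigma.ι_desc] at this
      exact this

end Groth.Agent.S5292
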