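import Groth.Statements.S5293
import Groth.Agent.Reductive2.HomDual

set_option autoImplicit false
open CategoryTheory MonoidalCategory CartesianMonoidalCategory MonObj GrpObj AlgebraicGeometry
universe u
open SGA3x

namespace Groth.Agent.S5293

/-- Let H be a quasi-isotrivial S-group of multiplicative type (etale-locally on S isomorphic, as a
group, to diagonalisable groups D(M), M allowed to vary and taken in Type 0). Then the functor
D_S(H) = Hom_{S-gr}(H, G_m) is representable: there is an S-group D with a universal family of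
characters H ×_S D ⟶ G_{m,S}, multiplicative in the D-variable as well (the group law of D is the
pointwise product of characters), and D is a quasi-isotrivial twisted constant S-group
(etale-locally on S a constant group). -/
theorem result {S : Scheme.{u}} (H : Over S) [GrpObj H]
    (hH : TwC.Locally S TwC.Topology.etale (fun S' f => ∃ (M : Type) (_ : AddCommGroup M), Nonempty (Grp.mk (Red.bc f H) ≅ Grp.mk (Red.DS S' M)))) :
    ∃ (D : Over S) (_ : GrpObj D) (υ : H ⊗ D ⟶ Red.Gm S), AutFam.RepresentsHom H (Red.Gm S) D υ ∧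
      (∀ (X : Over S) (h : X ⟶ H) (a b : X ⟶ D), lift h (a * b) ≫ υ = (lift h a ≫ υ) * (lift h b ≫ υ)) ∧
      TwC.IsTwConstGrp TwC.Topology.etale D := by
  classical
  change ∀ s : S, ∃ (S' : Scheme.{u}) (f : S' ⟶ S), Etale f ∧ s ∈ Set.range f.base ∧ ∃ (M : Type) (_ : AddCommGroup M),
    Nonempty (Grp.mk (Red.bc f H) ≅ Grp.mk (Red.DS S' M)) at hH
  choose T₁ f₁ he₁ hs₁ M hMg hMe using hH
  letI := hMg
  have key : ∀ s, ∃ (T : Scheme.{u}) (f : T ⟶ S), IsAffine T ∧ Etale f ∧ s ∈ Set.range f.base ∧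
      ∃ i : Red.DS T (M s) ≅ Red.bc f H, IsMonHom i.hom := fun s => by
    haveI := he₁ s
    obtain ⟨i, hi⟩ := Groth.Reductive2.HomTwConst.exists_iso_of_grp (hMe s)
    obtain ⟨x, hx⟩ := hs₁ s
    obtain ⟨_, ⟨V, hV, rfl⟩, hxV, -⟩ :=
      (T₁ s).isBasis_affineOpens.exists_subset_of_mem_open (Set.mem_univ x) isOpen_univ
    change (T₁ s).Opens at V
    exact ⟨V, V.ι ≫ f₁ s, hV, inferInstance, ⟨⟨x, hxV⟩, hx⟩,
      Groth.Reductive.FreeDiag.exists_trivialisation_comp H V.ι (f₁ s) i⟩
  choose T f haff het hmem iH hiH using key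
  choose iG hiG using fun s => Groth.Reductive2.HomDual.exists_bc_ds (f s) ℤ
  have hrep := fun s => by
    haveI := haff s; haveI := hiH s; haveI := hiG s
    exact Groth.Reductive2.HomSplit.exists_representsOn (G := H) (H := Red.Gm S) (iH s) (iG s)
  choose υ hυ hpt using hrep
  obtain ⟨D, ω, hD, hchart⟩ := Groth.Reductive2.HomTwConst.exists_of_charts (κ := S) f (fun s => ⟨s, hmem s⟩)
    (fun s => Groth.Reductive2.HomSplit.Idx.{u} (M s) ℤ) υ hυ
  obtain ⟨gD, hmul⟩ := Groth.Reductive2.HomDual.exists_grpObj (G := H) (H := Red.Gm S)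
    (fun X a b => Groth.Reductive2.HomDual.ds_mul_comm X a b) hD
  refine ⟨D, gD, ω, hD, fun X h a b => ?_, fun s => ?_⟩
  · have e : ∀ x : X ⟶ D, lift h x ≫ ω = lift h (𝟙 X) ≫ (H ◁ x) ≫ ω := fun x => by
      rw [lift_whiskerLeft_assoc, Category.id_comp]
    rw [e, e, e, hmul, MonObj.comp_mul]
  · haveI := haff s; haveI := hiH s; haveI := hiG s
    obtain ⟨c, hc, hcsq⟩ := hchart s
    obtain ⟨e, he⟩ := Groth.Reductive2.HomTwConst.exists_iso_const c hcsq
    refine ⟨T s, f s, het s, hmem s, Groth.Reductive2.HomSplit.Idx.{u} (M s) ℤ, inferInstance, e,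
      fun i j => ?_⟩
    apply (Groth.Reductive.bcPointEquiv (f s) D _).injective
    rw [map_mul]
    change ((Over.mapPullbackAdj (f s)).homEquiv _ D).symm _ * ((Over.mapPullbackAdj (f s)).homEquiv _ D).symm _ =
      ((Over.mapPullbackAdj (f s)).homEquiv _ D).symm _
    rw [he, he, he]
    refine (hD.2 _ _ (Groth.Reductive2.HomDesc.isHomFamily_comp hD.1 _)).unique ?_ rfl
    beta_reduce
    rw [hmul, whiskerLeft_comp_assoc, whiskerLeft_comp_assoc, whiskerLeft_comp_assoc, hc,
      ← Groth.Reductive2.HomSplit.toS_toT (iH s) (iG s) ((H ◁ (Over.map (f s)).map (TwC.pt (T s) _ (i * j))) ≫ υ s),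
      hpt, ← Groth.Reductive2.HomSplit.toS_toT (iH s) (iG s) (_ * _), Groth.Reductive2.HomDual.toT_mul,
      hpt, hpt, ← Groth.Reductive2.HomDual.constFam_mul]
    rfl

end Groth.Agent.S5293
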