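import Groth.Statements.S5294
import Groth.Agent.Reductive.MTRigidSub
-- import your own Groth.Agent.* helpers here

set_option autoImplicit false
open CategoryTheory MonoidalCategory CartesianMonoidalCategory MonObj GrpObj AlgebraicGeometry
universe u
open SGA3x

namespace Groth.Agent.S5294

/-- Let S = Spec R be affine, J a nilpotent ideal of R and S₀ = Spec (R/J); let G be an S-group smooth
over S, i : H ⟶ G and i' : H' ⟶ G two sub-group-schemes (homomorphisms which are immersions) of
multiplicative type (fpqc-locally on S isomorphic, as groups, to diagonalisable groups D(M), M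
allowed to vary and taken in Type 0), and g₀ an S₀-valued point of G with int(g₀)(H₀) = H'₀: for
points over S₀-schemes, conjugation by g₀ carries the points of H onto the points of H'. Then g₀
lifts to an S-point g of G with int(g)(H) = H' (int(g) ∘ i factors through i' by an isomorphism). -/
theorem result {R : Type u} [CommRing R] (J : Ideal R) (hJ : IsNilpotent J)
    (G H H' : Over (Spec (CommRingCat.of R))) [GrpObj G] [GrpObj H] [GrpObj H'] (hG : Smooth G.hom)
    (hH : TwC.Locally (Spec (CommRingCat.of R)) TwC.Topology.fpqc (fun S' f => ∃ (M : Type) (_ : AddCommGroup M), Nonempty (Grp.mk (Red.bc f H) ≅ Grp.mk (Red.DS S' M))))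
    (hH' : TwC.Locally (Spec (CommRingCat.of R)) TwC.Topology.fpqc (fun S' f => ∃ (M : Type) (_ : AddCommGroup M), Nonempty (Grp.mk (Red.bc f H') ≅ Grp.mk (Red.DS S' M))))
    (i : H ⟶ G) [IsMonHom i] [IsImmersion i.left] (i' : H' ⟶ G) [IsMonHom i'] [IsImmersion i'.left]
    (g₀ : (Over.mk (Spec.map (CommRingCat.ofHom (Ideal.Quotient.mk J))) : Over (Spec (CommRingCat.of R))) ⟶ G)
    (h0 : ∀ (X : Over (Spec (CommRingCat.of R))) (p : X ⟶ (Over.mk (Spec.map (CommRingCat.ofHom (Ideal.Quotient.mk J))) : Over (Spec (CommRingCat.of R)))),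
      (∀ h : X ⟶ H, ∃ h' : X ⟶ H', (p ≫ g₀) * (h ≫ i) * (p ≫ g₀)⁻¹ = h' ≫ i') ∧
      (∀ h' : X ⟶ H', ∃ h : X ⟶ H, (p ≫ g₀)⁻¹ * (h' ≫ i') * (p ≫ g₀) = h ≫ i)) :
    ∃ g : 𝟙_ (Over (Spec (CommRingCat.of R))) ⟶ G, toUnit (Over.mk (Spec.map (CommRingCat.ofHom (Ideal.Quotient.mk J))) : Over (Spec (CommRingCat.of R))) ≫ g = g₀ ∧ SGA3x.ConjBy i i' g := by
  obtain ⟨g, hg, hP⟩ := Groth.Reductive.MTInt.exists_lift_nilpotent
    (fun g ↦ Groth.Reductive.MTInt.Factors i' (Groth.Reductive.MTInt.conjFam i) g ∧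
      Groth.Reductive.MTInt.Factors i (Groth.Reductive.MTInt.conjFamInv i') g)
    (fun _ _ _ _ i₀ hs g₀ h ↦ by
      obtain ⟨g₁, rfl⟩ := Groth.Reductive.MTInt.exists_lift_smooth hG hs g₀
      haveI := Groth.Reductive.MTInt.mono_of_isImmersion i
      haveI := Groth.Reductive.MTInt.mono_of_isImmersion i'
      exact Groth.Reductive.MTInt.exists_lift_subTransporterG
        (Groth.Reductive.MTInt.locTriv_of_locally hH) (Groth.Reductive.MTInt.locTriv_of_locally hH')
        i i' hs g₁ h.1 h.2) J hJ g₀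
    (by
      constructor
      · obtain ⟨x, hx⟩ := (h0 _ (snd H _)).1 (fst H _)
        refine ⟨x, ?_⟩
        rw [Groth.Reductive.MTInt.whisker_conjFam, ← hx]
      · obtain ⟨x, hx⟩ := (h0 _ (snd H' _)).2 (fst H' _)
        refine ⟨x, ?_⟩
        rw [Groth.Reductive.MTInt.whisker_conjFamInv, ← hx])
  haveI := Groth.Reductive.MTInt.mono_of_isImmersion i
  haveI := Groth.Reductive.MTInt.mono_of_isImmersion i'
  exact ⟨g, hg, Groth.Reductive.MTInt.conjBy_of_factors i i' g hP.1 hP.2⟩

end Groth.Agent.S5294
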