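import Groth.Statements.S5295
import Groth.Agent.Reductive.CentralNhd.Global
-- import your own Groth.Agent.* helpers here

set_option autoImplicit false
open CategoryTheory MonoidalCategory CartesianMonoidalCategory MonObj GrpObj AlgebraicGeometry
universe u
open SGA3x

namespace Groth.Agent.S5295

/-- Let u : H ⟶ G be a homomorphism of S-groups, with H of multiplicative type and of finite type and G
of finite presentation over S (locally of finite presentation, quasi-compact, quasi-separated) with
connected fibres, and let s ∈ S be a point such that u_s : H_s ⟶ G_s is central. Then there is an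
open neighbourhood U of s such that the homomorphism H|_U ⟶ G|_U induced by u is central: for every
S-scheme X lying over U, every X-point of G commutes with the image of every X-point of H. -/
theorem result {S : Scheme.{u}} (H G : Over S) [GrpObj H] [GrpObj G]
    (hH : SGA3x.IsMultTypeFT H) [LocallyOfFinitePresentation G.hom] [QuasiCompact G.hom] [QuasiSeparated G.hom]
    (hconn : ∀ t : S, ConnectedSpace ↥(Limits.pullback G.hom (S.fromSpecResidueField t)))
    (u : H ⟶ G) [IsMonHom u] (s : S)
    (hs : ∀ (X : Over (Spec (S.residueField s))) (g : X ⟶ Red.bc (S.fromSpecResidueField s) G)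
      (h : X ⟶ Red.bc (S.fromSpecResidueField s) H),
      g * (h ≫ (Over.pullback (S.fromSpecResidueField s)).map u) = (h ≫ (Over.pullback (S.fromSpecResidueField s)).map u) * g) :
    ∃ U : S.Opens, s ∈ U ∧ ∀ (X : Over S) (q : X ⟶ Over.mk U.ι) (g : X ⟶ G) (h : X ⟶ H),
      g * (h ≫ u) = (h ≫ u) * g := by
  obtain ⟨U, hU, htriv⟩ := Groth.Reductive.CentralNhd.exists_open_central u hH hconn
  refine ⟨U, (hU s).2 ?_, fun X q g h ↦
    (Groth.Reductive.CentralNhd.trivOn_commMap_iff u).1 htriv X q g h⟩
  have h0 := (Groth.Reductive.CentralNhd.trivOn_bc u (S.fromSpecResidueField s) (Iso.refl _)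
    (Over.mk (𝟙 _))).1 (by
      rw [Iso.refl_hom, Category.id_comp, Groth.Reductive.CentralNhd.trivOn_commMap_iff]
      exact fun W _ g h ↦ hs W g h)
  exact h0.of_hom (Over.homMk (𝟙 _) (by simp))

end Groth.Agent.S5295
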