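import Groth.Statements.S5303
import Groth.Agent.Misc15.MTSub.Convert

set_option autoImplicit false
open CategoryTheory MonoidalCategory CartesianMonoidalCategory MonObj GrpObj AlgebraicGeometry
universe u
open CategoryTheory.Limits
open SGA3x

namespace Groth.Agent.S5303

/-- Let G be an S-group which is smooth and affine over S. Then the functor which to an S-scheme T
assigns the set of subgroup schemes of multiplicative type of G ×_S T (homomorphisms which are
immersions from a T-group of multiplicative type and of finite type — finite type being automatic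
here) is representable by an S-scheme M which is smooth and separated over S: M carries a universal
such subgroup K ⟶ G ×_S M, and for every S-morphism f : T ⟶ S and every such subgroup K' of G ×_S T
there is exactly one S-morphism v : T ⟶ M under which the pull-back of K equals K' as a subscheme of
G ×_S T (compared through their maps to G and to T). -/
theorem result {S : Scheme.{u}} (G : Over S) [GrpObj G]
    (hG : Smooth G.hom) (hGa : IsAffineHom G.hom) :
    ∃ (M : Over S) (K : Over M.left) (_ : GrpObj K) (j : K ⟶ Red.bc M.hom G),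
      Smooth M.hom ∧ IsSeparated M.hom ∧ IsMonHom j ∧ IsImmersion j.left ∧ SGA3x.IsMultTypeFT K ∧
      ∀ (T : Scheme.{u}) (f : T ⟶ S) (K' : Over T) [GrpObj K'] (j' : K' ⟶ Red.bc f G),
        IsMonHom j' → IsImmersion j'.left → SGA3x.IsMultTypeFT K' →
        ∃! v : T ⟶ M.left, v ≫ M.hom = f ∧
          ∃ φ : K'.left ≅ (Red.bc v K).left,
            φ.hom ≫ (Red.bc v K).hom = K'.hom ∧
            φ.hom ≫ ((Over.pullback v).map j).left ≫ pullback.fst (Red.bc M.hom G).hom v ≫ pullback.fst G.hom M.hom =
              j'.left ≫ pullback.fst G.hom f := by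
  obtain ⟨D, hOk, hsm⟩ := Groth.Misc15.MTSub.exists_pieces G hG hGa
  obtain ⟨X⟩ := Groth.Misc15.MTSub.exists_model D hG hGa
  obtain ⟨i, hj⟩ := X.exists_grpObj_Kun
  letI := i
  haveI := hj
  haveI := X.isClosedImmersion_jun
  refine ⟨X.M, X.Kun, i, X.jun, Groth.Misc15.MTSub.Model.smooth_M D X hsm, X.isSeparated_M hGa, hj,
    inferInstance, X.isMultTypeFT_Kun, fun T f K' iK j' hj' himm hMT => ?_⟩
  haveI := hj'
  haveI := himm
  haveI : Mono j'.left := inferInstance
  obtain ⟨v, hv, hvu⟩ := X.existsUnique_point f j' hMT fun _ _ _ _ i _ => hOk i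
  refine ⟨v.left, ⟨Over.w v, (X.same_pts_iff_exists_iso f j' v).1 hv⟩, ?_⟩
  rintro w ⟨hw, hφ⟩
  let wO : Over.mk f ⟶ X.M := Over.homMk w hw
  exact congrArg CommaMorphism.left (hvu wO ((X.same_pts_iff_exists_iso f j' wO).2 hφ))

end Groth.Agent.S5303
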