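import Groth.Statements.S5304
import Groth.Agent.Reductive.SubgroupEq
-- import your own Groth.Agent.* helpers here

set_option autoImplicit false
open CategoryTheory MonoidalCategory CartesianMonoidalCategory MonObj GrpObj AlgebraicGeometry
universe u
open SGA3x

namespace Groth.Agent.S5304

/-- Let G be an S-group separated over S, suppose S locally Noetherian or G of finite presentation over
S, and let i₁ : H₁ ⟶ G, i₂ : H₂ ⟶ G be two sub-group-schemes (homomorphisms which are immersions) of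
multiplicative type and of finite type, with H₁ central in G. Then the set U of points s ∈ S such
that (H₁)_s = (H₂)_s as subgroups of G_s (an isomorphism of the fibres compatible with the
inclusions) is open and closed, and H₁|_U = H₂|_U as subgroups of G|_U. (The published statement
asks only that the fibres of H₁ be central; this row assumes H₁ central in G.) -/
theorem result {S : Scheme.{u}} (G H₁ H₂ : Over S) [GrpObj G] [GrpObj H₁] [GrpObj H₂]
    [IsSeparated G.hom] (hG : IsLocallyNoetherian S ∨ (LocallyOfFinitePresentation G.hom ∧ QuasiCompact G.hom ∧ QuasiSeparated G.hom))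
    (h₁ : SGA3x.IsMultTypeFT H₁) (h₂ : SGA3x.IsMultTypeFT H₂)
    (i₁ : H₁ ⟶ G) [IsMonHom i₁] [IsImmersion i₁.left] (i₂ : H₂ ⟶ G) [IsMonHom i₂] [IsImmersion i₂.left]
    (hc : ∀ (X : Over S) (g : X ⟶ G) (h : X ⟶ H₁), g * (h ≫ i₁) = (h ≫ i₁) * g) :
    ∃ U : S.Opens, IsClosed (U : Set S) ∧
      (∀ s : S, s ∈ U ↔ ∃ ψ : Red.bc (S.fromSpecResidueField s) H₁ ≅ Red.bc (S.fromSpecResidueField s) H₂,
        ψ.hom ≫ (Over.pullback (S.fromSpecResidueField s)).map i₂ = (Over.pullback (S.fromSpecResidueField s)).map i₁) ∧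
      ∃ ψ : Red.bc U.ι H₁ ≅ Red.bc U.ι H₂, ψ.hom ≫ (Over.pullback U.ι).map i₂ = (Over.pullback U.ι).map i₁ := by
  haveI : Mono i₁ := (Over.forget S).mono_of_mono_map (inferInstanceAs (Mono i₁.left))
  haveI : Mono i₂ := (Over.forget S).mono_of_mono_map (inferInstanceAs (Mono i₂.left))
  have hG' := hG.imp_right And.left
  haveI := Groth.Reductive.FreeDiag.lfp_pullback_fst_eta h₁ h₂ hG'
    ((fst H₁ H₂ ≫ i₁) * (snd H₁ H₂ ≫ i₂)⁻¹)
  haveI := Groth.Reductive.FreeDiag.lfp_pullback_fst_eta h₂ h₁ hG'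
    ((fst H₂ H₁ ≫ i₂) * (snd H₂ H₁ ≫ i₁)⁻¹)
  obtain ⟨U, hUc, hU, hUiff⟩ := Groth.Reductive.FreeDiag.exists_clopen_facOn i₁ i₂
    (fun X x y ↦ (hc X (y ≫ i₂) x).symm) h₁ h₂
  obtain ⟨U', hU'c, hU', hU'iff⟩ := Groth.Reductive.FreeDiag.exists_clopen_facOn i₂ i₁
    (fun X y x ↦ hc X (y ≫ i₂) x) h₂ h₁
  have hl : Groth.Reductive.FreeDiag.FacOn i₁ i₂ (Over.mk (U ⊓ U').ι) :=
    hU.of_hom (Over.homMk (S.homOfLE inf_le_left) (S.homOfLE_ι _))
  have hr : Groth.Reductive.FreeDiag.FacOn i₂ i₁ (Over.mk (U ⊓ U').ι) :=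
    hU'.of_hom (Over.homMk (S.homOfLE inf_le_right) (S.homOfLE_ι _))
  refine ⟨U ⊓ U', hUc.inter hU'c, fun s ↦ ⟨fun hs ↦ ?_, fun ⟨ψ, hψ⟩ ↦ ?_⟩,
    Groth.Reductive.FreeDiag.exists_iso_of_facOn _ hl hr⟩
  · exact Groth.Reductive.FreeDiag.exists_iso_of_facOn _ ((hUiff s).mp hs.1) ((hU'iff s).mp hs.2)
  · refine ⟨(hUiff s).mpr (Groth.Reductive.FreeDiag.facOn_of_iso _ ψ hψ),
      (hU'iff s).mpr (Groth.Reductive.FreeDiag.facOn_of_iso _ ψ.symm ?_)⟩
    rw [Iso.symm_hom, ← hψ, Iso.inv_hom_id_assoc]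

end Groth.Agent.S5304
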