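import Groth.Statements.S5306
import Groth.Agent.Reductive.MTConjLocal
-- import your own Groth.Agent.* helpers here

set_option autoImplicit false
open CategoryTheory MonoidalCategory CartesianMonoidalCategory MonObj GrpObj AlgebraicGeometry
universe u
open SGA3x

namespace Groth.Agent.S5306

/-- (ii) ⇒ (i): Let G be an S-group smooth and affine over S and i₁ : H₁ ⟶ G, i₂ : H₂ ⟶ G two subgroup
schemes of multiplicative type (and of finite type). Suppose that for every s ∈ S, writing s̄ for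
the spectrum of an algebraic closure of κ(s), there is a point g of G with values in s̄ such that
int(g)(H₁) = H₂ on points over s̄. Then H₁ and H₂ are conjugate locally for the etale topology:
every point of S is in the image of an etale S' ⟶ S over which some S'-point of G ×_S S' conjugates
H₁ ×_S S' onto H₂ ×_S S'. -/
theorem result {S : Scheme.{u}} (H₁ H₂ G : Over S) [GrpObj H₁] [GrpObj H₂] [GrpObj G]
    (h₁ : SGA3x.IsMultTypeFT H₁) (h₂ : SGA3x.IsMultTypeFT H₂) (hG : Smooth G.hom) (hGa : IsAffineHom G.hom)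
    (i₁ : H₁ ⟶ G) [IsMonHom i₁] [Mono i₁] (i₂ : H₂ ⟶ G) [IsMonHom i₂] [Mono i₂]
    (hgeom : ∀ s : S, ∃ g : Over.mk (Red.geomPt s) ⟶ G, ∀ (X : Over S) (p : X ⟶ Over.mk (Red.geomPt s)),
      (∀ a : X ⟶ H₁, ∃ b : X ⟶ H₂, (p ≫ g) * (a ≫ i₁) * (p ≫ g)⁻¹ = b ≫ i₂) ∧
      (∀ b : X ⟶ H₂, ∃ a : X ⟶ H₁, (p ≫ g)⁻¹ * (b ≫ i₂) * (p ≫ g) = a ≫ i₁)) :
    TwC.Locally S TwC.Topology.etale (fun S' f => ∃ g : 𝟙_ (Over S') ⟶ Red.bc f G,
      SGA3x.ConjBy ((Over.pullback f).map i₁) ((Over.pullback f).map i₂) g) := by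
  exact fun s ↦ Groth.Reductive.MTInt.exists_conjBy_nbhd h₁ h₂ hG hGa i₁ i₂ s (hgeom s)

end Groth.Agent.S5306
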