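import Groth.Statements.S5307
import Groth.Agent.Reductive.CentralSubgroupDescent
import Groth.Agent.Hopf.Cochar.Basic
import Groth.Agent.Abvar.BaseChange
-- import your own Groth.Agent.* helpers here

set_option autoImplicit false
open CategoryTheory MonoidalCategory CartesianMonoidalCategory MonObj GrpObj AlgebraicGeometry
universe u
open SGA3x

namespace Groth.Agent.S5307

open Groth.Reductive Groth.Reductive.FreeDiag Groth.Pi1Desc

variable {S S' : Scheme.{u}}

/-- A group which is of multiplicative type over a covering is of multiplicative type. -/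
theorem isMultTypeFT_of_bc_cover (π : S' ⟶ S) [Flat π] [Surjective π]
    (hcov : ∀ V : S.Opens, IsAffineOpen V → ∃ W : S'.Opens, IsCompact (W : Set S') ∧
      π.base '' (W : Set S') = (V : Set S))
    (H : Over S) [GrpObj H] (H' : Over S') [GrpObj H'] (φ : Red.bc π H ≅ H') [IsMonHom φ.hom]
    (h : SGA3x.IsMultTypeFT H') : SGA3x.IsMultTypeFT H := by
  obtain ⟨S₁, f, hflat, hsurj, hqc, hloc⟩ := h
  haveI := hflat
  haveI := hsurj
  refine ⟨S₁, f ≫ π, inferInstance, inferInstance, qcCover_comp f π hqc hcov, fun x ↦ ?_⟩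
  obtain ⟨V, hV, M, hM, hMfg, ⟨e⟩⟩ := hloc x
  refine ⟨V, hV, M, hM, hMfg, ?_⟩
  let ψ : Red.bc ((V.ι ≫ f) ≫ π) H ≅ Red.bc (V.ι ≫ f) H' :=
    (Over.pullbackComp (V.ι ≫ f) π).app H ≪≫ (Over.pullback (V.ι ≫ f)).mapIso φ
  haveI h1 : IsMonHom ψ.hom := Groth.Abvar.isMonHom_comp
    (Groth.Abvar.isMonHom_pullbackComp (V.ι ≫ f) π H).2 (Groth.Abvar.isMonHom_map φ.hom)
  rw [← Category.assoc V.ι f π]
  exact ⟨Grp.mkIso' ψ ≪≫ e⟩


/-- The case of an fpqc covering. Let G be an S-group separated and of finite presentation over S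
(locally of finite presentation, quasi-compact, quasi-separated), π : S' ⟶ S a flat surjective
morphism which is an fpqc covering (every affine open of S is the image of a quasi-compact open of
S') with geometrically connected fibres, and j' : H' ⟶ G ×_S S' a central sub-group-scheme (a
homomorphism which is an immersion, every point of G ×_S S' commuting with every point of H') of
multiplicative type and of finite type. Then there is a sub-group-scheme j : H ⟶ G of multiplicative
type and of finite type with H ×_S S' = H' as subgroups of G ×_S S' (an isomorphism compatible with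
the inclusions), and any two such subgroups of G coincide (are isomorphic compatibly with their
inclusions). -/
theorem result {S S' : Scheme.{u}} (G : Over S) [GrpObj G]
    [IsSeparated G.hom] [LocallyOfFinitePresentation G.hom] [QuasiCompact G.hom] [QuasiSeparated G.hom]
    (π : S' ⟶ S) [Flat π] [Surjective π]
    (hcov : ∀ V : S.Opens, IsAffineOpen V → ∃ W : S'.Opens, IsCompact (W : Set S') ∧ π.base '' (W : Set S') = (V : Set S))
    (hconn : ∀ s : S, ConnectedSpace ↥(Limits.pullback π (Red.geomPt s)))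
    (H' : Over S') [GrpObj H'] (hH' : SGA3x.IsMultTypeFT H') (j' : H' ⟶ Red.bc π G) [IsMonHom j'] [IsImmersion j'.left]
    (hc : ∀ (X : Over S') (g : X ⟶ Red.bc π G) (h : X ⟶ H'), g * (h ≫ j') = (h ≫ j') * g) :
    (∃ (H : Over S) (_ : GrpObj H) (j : H ⟶ G), IsMonHom j ∧ IsImmersion j.left ∧ SGA3x.IsMultTypeFT H ∧
      ∃ φ : Red.bc π H ≅ H', φ.hom ≫ j' = (Over.pullback π).map j) ∧
    (∀ (H₁ H₂ : Over S) [GrpObj H₁] [GrpObj H₂] (j₁ : H₁ ⟶ G) (j₂ : H₂ ⟶ G) [IsMonHom j₁] [IsMonHom j₂]
      [IsImmersion j₁.left] [IsImmersion j₂.left],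
      (∃ φ₁ : Red.bc π H₁ ≅ H', φ₁.hom ≫ j' = (Over.pullback π).map j₁) →
      (∃ φ₂ : Red.bc π H₂ ≅ H', φ₂.hom ≫ j' = (Over.pullback π).map j₂) →
      ∃ ψ : H₁ ≅ H₂, ψ.hom ≫ j₂ = j₁) := by
  haveI : GeometricallyConnected π := geometricallyConnected_of_geomPt π hconn
  haveI : Mono j' := Over.mono_of_mono_left j'
  let q := Limits.pullback.fst G.hom π
  haveI : Flat q := MorphismProperty.pullback_fst _ _ ‹_›
  haveI : Surjective q := MorphismProperty.pullback_fst _ _ ‹_›
  have hqcov := qcCover_pullback_fst π hcov G.hom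
  haveI : IsCover q := isCover_of_qcCover q hqcov
  haveI : IsSeparated (Red.bc π G).hom := MorphismProperty.pullback_snd _ _ ‹_›
  haveI : IsAffineHom H'.hom := (Groth.Cochar.props hH').1
  haveI : IsAffineHom j'.left := by
    haveI : IsAffineHom (j'.left ≫ (Red.bc π G).hom) := by rw [Over.w j']; infer_instance
    exact MorphismProperty.of_postcomp (W := @IsAffineHom) (W' := @IsSeparated) j'.left (Red.bc π G).hom
      inferInstance inferInstance
  have hstab := fun {W : Scheme.{u}} (v : W ⟶ H'.left) x e ↦ exists_lift_stable j' hH' hc v x e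
  let A : Act j'.left q :=
    { act := fun v x e => (hstab v x e).choose
      act_hom := fun v x e => (hstab v x e).choose_spec
      act_self := fun v x e hx => by
        rw [← cancel_mono j'.left, (hstab v x e).choose_spec, hx]
      act_act := fun v x y e e' e'' => by
        refine (cancel_mono j'.left).1 ?_
        exact ((hstab _ y e'').choose_spec).trans ((hstab v y e').choose_spec).symm
      act_comp := fun g v x e e' => by
        rw [← cancel_mono j'.left, (hstab _ _ e').choose_spec, Category.assoc, (hstab v x e).choose_spec] }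
  obtain ⟨Z, jz, qz, sq, -⟩ := A.eff_of_isAffineHom_of_isCover
  haveI : IsImmersion jz := isImmersion_of_isPullback_cover sq
  let H : Over S := Over.mk (jz ≫ G.hom)
  let j : H ⟶ G := Over.homMk jz rfl
  haveI : IsImmersion j.left := ‹IsImmersion jz›
  haveI : Mono j := Over.mono_of_mono_left j
  let P : ∀ ⦃T : Over S⦄, (T ⟶ G) → Prop := fun T g => ∀ (W : Over S') (t : (Over.map π).obj W ⟶ T),
    ∃ y : W ⟶ H', y ≫ j' = (bcPointEquiv π G W).symm (t ≫ g)
  have hn : ∀ (T : Over S) (g : T ⟶ G), (∃ z : T ⟶ H, z ≫ j = g) ↔ P g := by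
    refine fun T g ↦ ⟨?_, fun hP ↦ ?_⟩
    · rintro ⟨z, rfl⟩ W t
      let x := (bcPointEquiv π G W).symm (t ≫ z ≫ j)
      have hx : x.left ≫ q = (t ≫ z ≫ j).left :=
        (qPt_left π x).symm.trans (congrArg (fun a => a.left) ((bcPointEquiv π G W).apply_symm_apply _))
      have hc' : (t.left ≫ z.left) ≫ jz = x.left ≫ q := by
        rw [hx]
        exact Category.assoc _ _ _
      refine ⟨Over.homMk (sq.lift (t.left ≫ z.left) x.left hc') ?_, Over.OverMorphism.ext (sq.lift_snd _ _ _)⟩
      rw [← Over.w j', ← Category.assoc, sq.lift_snd]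
      exact Over.w x
    · let W : Over S' := Over.mk (Limits.pullback.snd T.hom π)
      let t : (Over.map π).obj W ⟶ T := Over.homMk (Limits.pullback.fst T.hom π) Limits.pullback.condition
      obtain ⟨y, hy⟩ := hP W t
      haveI : IsCover π := isCover_of_qcCover π hcov
      haveI : IsCover (Limits.pullback.fst T.hom π) :=
        IsCover.of_isPullback (p := π) (IsPullback.of_hasPullback T.hom π).flip
      have e := congrArg (fun a : W ⟶ Red.bc π G => (qPt π a).left) hy
      rw [show qPt π ((bcPointEquiv π G W).symm (t ≫ g)) = t ≫ g from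
        (bcPointEquiv π G W).apply_symm_apply _, qPt_left, Over.comp_left, Category.assoc,
        ← sq.w] at e
      obtain ⟨w, hw⟩ := exists_lift_of_isCover (Limits.pullback.fst T.hom π) jz g.left
        (y.left ≫ qz) ((Category.assoc _ _ _).trans e)
      exact ⟨Over.homMk w (by show w ≫ jz ≫ G.hom = T.hom; rw [reassoc_of% hw, Over.w g]),
        Over.OverMorphism.ext hw⟩
  obtain ⟨grpH, hjm⟩ := Groth.Agf.exists_grpObj_of_subgroup j P hn
    (fun T W t => ⟨1, by rw [MonObj.one_comp, MonObj.comp_one, map_one]⟩)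
    (fun T a b ha hb W t => by
      obtain ⟨y₁, h₁⟩ := ha W t
      obtain ⟨y₂, h₂⟩ := hb W t
      exact ⟨y₁ * y₂, by rw [MonObj.mul_comp, h₁, h₂, MonObj.comp_mul, map_mul]⟩)
    (fun T a ha W t => by
      obtain ⟨y₁, h₁⟩ := ha W t
      exact ⟨y₁⁻¹, by rw [GrpObj.inv_comp, h₁, GrpObj.comp_inv, map_inv]⟩)
  haveI := hjm
  let a : Red.bc π H ⟶ Red.bc π G := (Over.pullback π).map j
  haveI : IsMonHom a := inferInstance
  have ha₁ : a.left ≫ q = Limits.pullback.fst H.hom π ≫ jz := Limits.pullback.lift_fst _ _ _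
  let φh : Red.bc π H ⟶ H' := Over.homMk (sq.lift (Limits.pullback.fst H.hom π) a.left ha₁.symm) (by
    rw [← Over.w j', ← Category.assoc, sq.lift_snd]
    exact Over.w a)
  have hφh : φh ≫ j' = a := Over.OverMorphism.ext (sq.lift_snd _ _ _)
  let φi : H' ⟶ Red.bc π H := Over.homMk (Limits.pullback.lift qz H'.hom (by
      show qz ≫ jz ≫ G.hom = H'.hom ≫ π
      rw [reassoc_of% sq.w, Limits.pullback.condition, ← Category.assoc,
        show j'.left ≫ Limits.pullback.snd G.hom π = H'.hom from Over.w j']))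
    (Limits.pullback.lift_snd _ _ _)
  have hφi : φi ≫ a = j' := by
    refine Over.OverMorphism.ext (Limits.pullback.hom_ext ?_ ((Over.w (φi ≫ a)).trans (Over.w j').symm))
    show (φi.left ≫ a.left) ≫ q = j'.left ≫ q
    rw [Category.assoc, ha₁, ← Category.assoc, show φi.left ≫ Limits.pullback.fst H.hom π = qz from
      Limits.pullback.lift_fst _ _ _, sq.w]
  haveI : Mono a := inferInstance
  let φ : Red.bc π H ≅ H' := ⟨φh, φi, by rw [← cancel_mono a, Category.assoc, hφi, hφh, Category.id_comp],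
    by rw [← cancel_mono j', Category.assoc, hφh, hφi, Category.id_comp]⟩
  haveI : IsMonHom φ.hom := Groth.AlgGrp1.isMonHom_of_points _ fun W x y => by
    have e : φ.hom ≫ j' = a := hφh
    rw [← cancel_mono j', Category.assoc, e]
    refine Eq.trans (MonObj.mul_comp x y a) ?_
    rw [MonObj.mul_comp, Category.assoc, Category.assoc, e]
  refine ⟨⟨H, grpH, j, hjm, ‹_›, isMultTypeFT_of_bc_cover π hcov H H' φ hH', φ, hφh⟩, ?_⟩
  intro H₁ H₂ _ _ j₁ j₂ _ _ _ _ ⟨φ₁, h₁⟩ ⟨φ₂, h₂⟩
  haveI : Mono j₁ := Over.mono_of_mono_left j₁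
  haveI : Mono j₂ := Over.mono_of_mono_left j₂
  have key : ∀ (K₁ K₂ : Over S) (k₁ : K₁ ⟶ G) (k₂ : K₂ ⟶ G) [Mono k₂.left]
      (c : Red.bc π K₁ ⟶ Red.bc π K₂), c ≫ (Over.pullback π).map k₂ = (Over.pullback π).map k₁ →
      ∃ y : K₁ ⟶ K₂, y ≫ k₂ = k₁ := fun K₁ K₂ k₁ k₂ _ c hck ↦ by
    have h : FacOn k₁ k₂ (Over.mk π) := fun W w x ↦ by
      let x' : W.left ⟶ (Red.bc π K₁).left := Limits.pullback.lift x.left w.left
        ((Over.w x).trans (Over.w w).symm)
      have hc₁ : (x' ≫ c.left) ≫ Limits.pullback.snd K₂.hom π = w.left :=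
        (Category.assoc _ _ _).trans ((congrArg (x' ≫ ·) (Over.w c)).trans (Limits.pullback.lift_snd _ _ _))
      refine ⟨Over.homMk ((x' ≫ c.left) ≫ Limits.pullback.fst K₂.hom π) ?_, Over.OverMorphism.ext ?_⟩
      · rw [Category.assoc, Limits.pullback.condition, ← Category.assoc, hc₁]
        exact Over.w w
      · have e := congrArg (fun t : Red.bc π K₁ ⟶ Red.bc π G ↦ x' ≫ t.left ≫ q) hck
        have e₂ : ((Over.pullback π).map k₂).left ≫ q = Limits.pullback.fst K₂.hom π ≫ k₂.left :=
          Limits.pullback.lift_fst _ _ _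
        have e₁ : ((Over.pullback π).map k₁).left ≫ q = Limits.pullback.fst K₁.hom π ≫ k₁.left :=
          Limits.pullback.lift_fst _ _ _
        simp only [Over.comp_left, Category.assoc, e₁, e₂] at e
        show ((x' ≫ c.left) ≫ Limits.pullback.fst K₂.hom π) ≫ k₂.left = x.left ≫ k₁.left
        rw [Category.assoc, Category.assoc, e, Limits.pullback.lift_fst_assoc]
    let p : Over.mk π ⟶ Over.mk (𝟙 S) := Over.homMk π (Category.comp_id _)
    haveI : Flat p.left := ‹Flat π›
    haveI : Surjective p.left := ‹Surjective π›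
    obtain ⟨y, hy⟩ := (FacOn.descend p hcov h) K₁ (Over.homMk K₁.hom (Category.comp_id _)) (𝟙 _)
    exact ⟨y, hy.trans (Category.id_comp _)⟩
  obtain ⟨y, hy⟩ := key H₁ H₂ j₁ j₂ (φ₁.hom ≫ φ₂.inv) (by
    rw [← h₁, ← h₂, Category.assoc, Iso.inv_hom_id_assoc])
  obtain ⟨y', hy'⟩ := key H₂ H₁ j₂ j₁ (φ₂.hom ≫ φ₁.inv) (by
    rw [← h₁, ← h₂, Category.assoc, Iso.inv_hom_id_assoc])
  exact ⟨⟨y, y', by rw [← cancel_mono j₁, Category.assoc, hy', hy, Category.id_comp],
    by rw [← cancel_mono j₂, Category.assoc, hy, hy', Category.id_comp]⟩, hy⟩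

end Groth.Agent.S5307
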