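import Groth.Statements.S5308
import Groth.Agent.S19144
import Groth.Agent.Pi1Quot.SigmaFinite
-- import your own Groth.Agent.* helpers here

set_option autoImplicit false
open CategoryTheory MonoidalCategory CartesianMonoidalCategory MonObj GrpObj AlgebraicGeometry
universe u
open SGA3x

namespace Groth.Agent.S5308

/-- (i) ⇒ (ii). Let R be a commutative twisted constant S-group which is isotrivial (it becomes a
constant group over the open and closed pieces of one finite etale surjective S' ⟶ S). Then R is a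
union of open and closed subschemes which are quasi-compact, indeed finite, over S: every point of R
has an open and closed neighbourhood U in R with U ⟶ S finite. -/
theorem result {S : Scheme.{u}} (R : Over S) [GrpObj R]
    (hcomm : ∀ (X : Over S) (a b : X ⟶ R), a * b = b * a) (hR : TwC.IsTwConstGrp TwC.Topology.finiteEtale R) (x : R.left) :
    ∃ U : R.left.Opens, x ∈ U ∧ IsClosed (U : Set R.left) ∧ IsFinite (U.ι ≫ R.hom) := by
  obtain ⟨S', f, hff, hfe, hfs, hloc⟩ := hR
  haveI := hff; haveI := hfe; haveI := hfs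
  have hTw : TwC.IsTwConst TwC.Topology.etale R := fun s => by
    obtain ⟨s', hs'⟩ := f.surjective s
    obtain ⟨U, hU, -, M, _, e, -⟩ := hloc s'
    exact ⟨(U : Scheme.{u}), U.ι ≫ f, inferInstance, ⟨⟨s', hU⟩, hs'⟩, M, ⟨e⟩⟩
  haveI : Etale R.hom := Groth.Reductive2.TwConstFinite.etale_hom R hTw
  haveI : IsSeparated R.hom := Groth.Agent.S19144.isSeparated_hom R hTw
  let p := Limits.pullback.fst R.hom f
  let q := Limits.pullback.snd R.hom f
  haveI : IsFinite p := inferInstance
  haveI : Etale p := inferInstance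
  haveI : Surjective p := inferInstance
  haveI : Finite ↥(p ⁻¹' {x}) := (p.finite_preimage_singleton x).to_subtype
  let F := ↥(p ⁻¹' {x})
  have key : ∀ w : F, ∃ (U : S'.Opens) (j : (U : Scheme.{u}) ⟶ Limits.pullback R.hom f),
      IsClosed (U : Set S') ∧ IsOpenImmersion j ∧ IsClosedImmersion j ∧ j ≫ q = U.ι ∧ w.1 ∈ Set.range j := by
    rintro ⟨w, -⟩
    obtain ⟨U, hU, hUc, M, _, e, -⟩ := hloc (q w)
    obtain ⟨σ, hσ⟩ := Groth.Reductive2.TwConstEtale.exists_sections R (U.ι ≫ f) e
    let k := Limits.pullback.lift (f := R.hom) (g := f) (Limits.Sigma.desc σ)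
      ((Limits.Sigma.desc fun _ : M => 𝟙 (U : Scheme.{u})) ≫ U.ι) (by rw [Category.assoc]; exact hσ.w)
    have hk : IsPullback k (Limits.Sigma.desc fun _ : M => 𝟙 (U : Scheme.{u})) q U.ι := by
      refine IsPullback.of_right ?_ (Limits.pullback.lift_snd _ _ _) (IsPullback.of_hasPullback R.hom f)
      rw [Limits.pullback.lift_fst]
      exact hσ
    haveI : IsClosedImmersion U.ι := IsClosedImmersion.of_isPreimmersion _ (by rwa [Scheme.Opens.range_ι])
    haveI : IsOpenImmersion k := MorphismProperty.of_isPullback hk.flip (inferInstanceAs (IsOpenImmersion U.ι))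
    haveI : IsClosedImmersion k := MorphismProperty.of_isPullback hk.flip (inferInstanceAs (IsClosedImmersion U.ι))
    obtain ⟨z, hz⟩ : w ∈ Set.range k := by
      obtain ⟨v, hv, -⟩ := Scheme.Pullback.exists_preimage_pullback (f := q) (g := U.ι) w ⟨q w, hU⟩ rfl
      refine ⟨hk.isoPullback.inv v, ?_⟩
      rw [← Scheme.Hom.comp_apply, hk.isoPullback_inv_fst]
      exact hv
    obtain ⟨y, hy⟩ := Groth.Reductive2.TwConstEtale.exists_ι z
    let ι' := Limits.Sigma.ι (fun _ : M => (U : Scheme.{u})) (Groth.Reductive2.TwConstEtale.sigmaIdx z)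
    haveI : IsClosedImmersion ι' := IsClosedImmersion.of_isPreimmersion _ (by
      let b : Over.mk (Limits.Sigma.desc fun _ : M => 𝟙 (U : Scheme.{u})) ⟶ TwC.const (U : Scheme.{u}) M := 𝟙 _
      have : Set.range ι' = {v | Groth.Reductive2.TwConstEtale.sigmaIdx v = Groth.Reductive2.TwConstEtale.sigmaIdx z} := by
        ext v
        refine ⟨?_, fun hv => ?_⟩
        · rintro ⟨a, rfl⟩; exact Groth.Reductive2.TwConstEtale.sigmaIdx_ι _ a
        · obtain ⟨a, ha⟩ := Groth.Reductive2.TwConstEtale.exists_ι v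
          rw [Set.mem_ofPred_eq] at hv
          rw [hv] at ha
          exact ⟨a, ha⟩
      rw [this]
      exact ((Groth.SGA7.ConstPoints.isLocallyConstant_idx b).isClosed_fiber _ : _))
    refine ⟨U, ι' ≫ k, hUc, inferInstance, inferInstance, ?_, y, ?_⟩
    · rw [Category.assoc, hk.w, Limits.Sigma.ι_desc_assoc, Category.id_comp]
    · rw [Scheme.Hom.comp_apply]
      exact (congrArg k hy).trans hz
  choose U j hUc hjo hjc hjq hjw using key
  let A := ∐ fun w : F => (U w : Scheme.{u})
  let Φ : A ⟶ R.left := Limits.Sigma.desc fun w => j w ≫ p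
  haveI := hjo; haveI := hjc
  let T : R.left.Opens := ⟨⋃ w, Set.range (j w ≫ p), isOpen_iUnion fun w => (j w ≫ p).isOpenMap.isOpen_range⟩
  have hTc : IsClosed (T : Set R.left) := isClosed_iUnion_of_finite fun w => (j w ≫ p).isClosedMap.isClosed_range
  haveI : IsClosedImmersion T.ι := IsClosedImmersion.of_isPreimmersion _ (by rwa [Scheme.Opens.range_ι])
  haveI : Nonempty ↥(p ⁻¹' {x}) := by
    obtain ⟨w, hw⟩ := p.surjective x
    exact ⟨⟨w, hw⟩⟩
  refine ⟨T, ?_, hTc, ?_⟩
  · obtain ⟨w⟩ := (inferInstance : Nonempty F)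
    obtain ⟨y, hy⟩ := hjw w
    refine Set.mem_iUnion.mpr ⟨w, y, ?_⟩
    rw [Scheme.Hom.comp_apply, hy]
    exact w.2
  · have hΦT : Set.range Φ = (T : Set R.left) := by
      ext v
      refine ⟨?_, fun hv => ?_⟩
      · rintro ⟨a, rfl⟩
        obtain ⟨⟨w, b⟩, rfl⟩ := (sigmaMk fun w : F => (U w : Scheme.{u})).surjective a
        refine Set.mem_iUnion.mpr ⟨w, b, ?_⟩
        rw [sigmaMk_mk, ← Scheme.Hom.comp_apply, Limits.Sigma.ι_desc]
      · obtain ⟨w, b, rfl⟩ := Set.mem_iUnion.mp hv
        exact ⟨Limits.Sigma.ι (fun w : F => (U w : Scheme.{u})) w b, by rw [← Scheme.Hom.comp_apply, Limits.Sigma.ι_desc]⟩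
    let ψ := IsOpenImmersion.lift T.ι Φ (by rw [Scheme.Opens.range_ι, hΦT])
    have hψ : ψ ≫ T.ι = Φ := IsOpenImmersion.lift_fac _ _ _
    haveI : Surjective ψ := ⟨fun t => by
      obtain ⟨a, ha⟩ := hΦT.ge t.2
      refine ⟨a, T.ι.isOpenEmbedding.injective ?_⟩
      rw [← Scheme.Hom.comp_apply, hψ]; exact ha⟩
    haveI hfinA : IsFinite (ψ ≫ T.ι ≫ R.hom) := by
      rw [← Category.assoc, hψ]
      have : Φ ≫ R.hom = Limits.Sigma.desc fun w : F => (U w).ι ≫ f := Limits.Sigma.hom_ext _ _ fun w => by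
        rw [Limits.Sigma.ι_desc_assoc, Limits.Sigma.ι_desc, ← hjq, Category.assoc, Category.assoc,
          Limits.pullback.condition]
      rw [this]
      haveI : ∀ w, IsClosedImmersion (U w).ι := fun w =>
        IsClosedImmersion.of_isPreimmersion _ (by rw [Scheme.Opens.range_ι]; exact hUc w)
      exact Groth.Pi1Quot.isFinite_sigmaDesc _
    haveI : UniversallyClosed (T.ι ≫ R.hom) := UniversallyClosed.of_comp_surjective ψ (T.ι ≫ R.hom)
    haveI : IsProper (T.ι ≫ R.hom) := ⟨⟩
    haveI : LocallyQuasiFinite (T.ι ≫ R.hom) := inferInstance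
    exact (IsFinite.iff_isProper_and_locallyQuasiFinite _).mpr ⟨inferInstance, inferInstance⟩

end Groth.Agent.S5308
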