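import Groth.Statements.S5310
import Groth.Agent.GrpschLoci.SubgroupLocus

set_option autoImplicit false
universe u
open CategoryTheory CategoryTheory.Limits MonoidalCategory CartesianMonoidalCategory MonObj GrpObj AlgebraicGeometry
open SGA3

namespace Groth.Agent.S5310

/-- Let u : G → H be a homomorphism of S-group schemes, with G or H flat over S and G or H locally of
finite presentation over S. Let P be one of the properties 'flat and locally of finite
presentation', 'smooth', 'etale', and let V be the largest open subscheme of G on which the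
restriction of u has P. Then the image U of V in S is open and V is an open subgroup scheme of G
over U: V contains the unit point of every fibre of G that it meets, V is stable under the inversion
of G, and the product of a point of G ×_S G whose two projections lie in V lies in V. -/
theorem result (S : Scheme.{u}) (G H : Over S) [GrpObj G] [GrpObj H]
    (u : G ⟶ H) [IsMonHom u]
    (hfl : Flat G.hom ∨ Flat H.hom) (hfp : LocallyOfFinitePresentation G.hom ∨ LocallyOfFinitePresentation H.hom)
    (P : MorphismProperty Scheme.{u})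
    (hP : (∀ (X Y : Scheme.{u}) (f : X ⟶ Y), P f ↔ (Flat f ∧ LocallyOfFinitePresentation f)) ∨
      (∀ (X Y : Scheme.{u}) (f : X ⟶ Y), P f ↔ Smooth f) ∨ (∀ (X Y : Scheme.{u}) (f : X ⟶ Y), P f ↔ Etale f))
    (V : G.left.Opens) (hV : P (V.ι ≫ u.left)) (hmax : ∀ W : G.left.Opens, P (W.ι ≫ u.left) → W ≤ V) :
    IsOpen (G.hom.base '' (V : Set G.left)) ∧
    (∀ g ∈ V, ∀ p : ↥(𝟙_ (Over S)).left, (𝟙_ (Over S)).hom.base p = G.hom.base g → η[G].left.base p ∈ V) ∧
    (∀ g ∈ V, ι[G].left.base g ∈ V) ∧
    (∀ z : ↥(G ⊗ G).left, (fst G G).left.base z ∈ V → (snd G G).left.base z ∈ V → μ[G].left.base z ∈ V) := by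
  obtain ⟨Q, hQ, hle, hdesc⟩ : ∃ (Q : MorphismProperty Scheme.{u}) (_ : Q.IsStableUnderBaseChange),
      (P = Q ∧ Q ≤ (@Flat ⊓ @LocallyOfFinitePresentation : MorphismProperty Scheme.{u})) ∧
      ∀ {X Y X' Y' : Scheme.{u}} {f : X ⟶ Y} {g' : X' ⟶ X} {f' : X' ⟶ Y'} {g : Y' ⟶ Y}
        (_ : IsPullback g' f' f g) [Flat g] [LocallyOfFinitePresentation g] {x' : X'},
        Groth.GrpschLoci.Near Q f' x' → Groth.GrpschLoci.Near Q f (g' x') := by
    rcases hP with h | h | h
    · exact ⟨(@Flat ⊓ @LocallyOfFinitePresentation : MorphismProperty Scheme.{u}), inferInstance,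
        ⟨MorphismProperty.ext _ _ fun X Y f => h X Y f, le_rfl⟩,
        fun sq _ _ _ hx => Groth.GrpschLoci.Near.flat_lfp_descend sq hx⟩
    · refine ⟨@Smooth, inferInstance, ⟨MorphismProperty.ext _ _ fun X Y f => h X Y f, fun X Y f hf => ?_⟩,
        fun sq _ _ _ hx => Groth.GrpschLoci.Near.smooth_descend_fppf sq hx⟩
      haveI := hf
      exact ⟨inferInstance, inferInstance⟩
    · refine ⟨@Etale, inferInstance, ⟨MorphismProperty.ext _ _ fun X Y f => h X Y f, fun X Y f hf => ?_⟩,
        fun sq _ _ _ hx => Groth.GrpschLoci.Near.etale_descend_fppf sq hx⟩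
      haveI := hf
      exact ⟨inferInstance, inferInstance⟩
  obtain ⟨rfl, hle⟩ := hle
  obtain ⟨hVf, hVp⟩ := hle _ hV
  haveI hfS : Flat (V.ι ≫ G.hom) := by
    rcases hfl with h | h
    · infer_instance
    · rw [← Over.w u, ← Category.assoc]
      infer_instance
  haveI hpS : LocallyOfFinitePresentation (V.ι ≫ G.hom) := by
    rcases hfp with h | h
    · infer_instance
    · rw [← Over.w u, ← Category.assoc]
      infer_instance
  refine Groth.GrpschLoci.subgroup_locus u (fun _ _ f x ↦ Groth.GrpschLoci.Near P f x)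
    (fun _ _ _ _ _ _ _ _ sq x' h ↦ h.bc sq) V
    (fun x ↦ ⟨fun hx => ⟨V, hx, hV⟩, fun ⟨W, hx, hW⟩ => hmax W hW hx⟩) fun w hw ↦ ?_
  haveI : Flat (fst H (Over.mk (V.ι ≫ G.hom))).left :=
    MorphismProperty.of_isPullback (P := @Flat)
      (Groth.AlgGrp2.isPullback_fst_snd H (Over.mk (V.ι ≫ G.hom))).flip hfS
  haveI : LocallyOfFinitePresentation (fst H (Over.mk (V.ι ≫ G.hom))).left :=
    MorphismProperty.of_isPullback (P := @LocallyOfFinitePresentation)
      (Groth.AlgGrp2.isPullback_fst_snd H (Over.mk (V.ι ≫ G.hom))).flip hpS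
  exact hdesc (Groth.AlgGrp2.isPullback_whiskerRight_fst (Over.mk (V.ι ≫ G.hom)) u).flip hw

end Groth.Agent.S5310
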