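import Groth.Statements.S5317
import Groth.Agent.GrpschLoci.Kernel
import Groth.Agent.GrpschAbsch.Basic

set_option autoImplicit false
universe u
open CategoryTheory CategoryTheory.Limits MonoidalCategory CartesianMonoidalCategory MonObj GrpObj AlgebraicGeometry
open SGA3

namespace Groth.Agent.S5317

/-- Let u : G → H be a homomorphism of S-group schemes which is universally injective (for instance a
monomorphism), with G flat and locally of finite presentation over S and H locally of finite type
over S. Then the set U of points s of S such that u_s : G_s → H_s is an open immersion is open in S,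
and the restriction of u over every open of S contained in U is an open immersion. -/
theorem result (S : Scheme.{u}) (G H : Over S) [GrpObj G] [GrpObj H]
    (u : G ⟶ H) [IsMonHom u] [UniversallyInjective u.left]
    [Flat G.hom] [LocallyOfFinitePresentation G.hom] [LocallyOfFiniteType H.hom] :
    IsOpen {s : S | IsOpenImmersion ((Over.pullback (S.fromSpecResidueField s)).map u).left} ∧
    ∀ W : S.Opens, (W : Set S) ⊆ {s : S | IsOpenImmersion ((Over.pullback (S.fromSpecResidueField s)).map u).left} → IsOpenImmersion ((G.hom ⁻¹ᵁ W).ι ≫ u.left) := by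
  haveI : LocallyOfFinitePresentation (u.left ≫ H.hom) := by rw [Over.w]; infer_instance
  haveI : LocallyOfFinitePresentation u.left := Groth.PropsBasic2.lfp_of_comp u.left H.hom
  obtain ⟨ho, hset⟩ := Groth.GrpschLoci.etale_locus_eq u
  have key : ∀ {X Y : Scheme.{u}} (f : X ⟶ Y) [Etale f] [UniversallyInjective f], IsOpenImmersion f := by
    intro X Y f _ _
    haveI : Surjective (pullback.diagonal f) := (UniversallyInjective.iff_diagonal f).mp ‹_›
    haveI : IsIso (pullback.diagonal f) :=
      (isIso_iff_isOpenImmersion_and_surjective _).mpr ⟨inferInstance, inferInstance⟩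
    haveI : Mono f := (pullback.isIso_diagonal_iff f).mp inferInstance
    exact IsOpenImmersion.of_flat_of_mono f
  have e : ∀ s : S, IsOpenImmersion ((Over.pullback (S.fromSpecResidueField s)).map u).left ↔
      Etale ((Over.pullback (S.fromSpecResidueField s)).map u).left := fun s ↦ by
    haveI : UniversallyInjective ((Over.pullback (S.fromSpecResidueField s)).map u).left :=
      MorphismProperty.of_isPullback
        (Groth.GrpschAbsch.FibreFlat.isPullback_map (S.fromSpecResidueField s) u) inferInstance
    exact ⟨fun h ↦ inferInstance, fun h ↦ key _⟩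
  simp only [e]
  refine ⟨ho, fun W hW ↦ ?_⟩
  let V := G.hom ⁻¹ᵁ W
  haveI : Etale (V.ι ≫ u.left) := Groth.GrpschLoci.all_iff.mpr fun x ↦ by
    obtain ⟨U, hU, hE⟩ : Groth.GrpschLoci.Near @Etale u.left (V.ι x) := hset.ge (hW x.2)
    refine ⟨V.ι ⁻¹ᵁ U, hU, ?_⟩
    rw [← Category.assoc, ← morphismRestrict_ι, Category.assoc]
    exact MorphismProperty.comp_mem @Etale _ _ inferInstance hE
  haveI : UniversallyInjective (V.ι ≫ u.left) :=
    MorphismProperty.comp_mem @UniversallyInjective _ _ inferInstance inferInstance
  exact key _

end Groth.Agent.S5317
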