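import Groth.Statements.S5320
import Groth.Agent.GrpschLoci.Kernel
import Groth.Agent.GrpschAbsch.Basic

set_option autoImplicit false
universe u
open CategoryTheory CategoryTheory.Limits MonoidalCategory CartesianMonoidalCategory MonObj GrpObj AlgebraicGeometry
open SGA3

namespace Groth.Agent.S5320

/-- Let u : G → H be a homomorphism of S-group schemes which is locally of finite presentation, with
every fibre G_s locally of finite type over κ(s), and let i : K → G be the kernel of u (the square
i, u, unit of H is cartesian, K with the group structure making i a homomorphism). The following are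
equivalent: u is unramified (formally unramified); every fibre u_s : G_s → H_s is unramified; K is
unramified over S; the unit section of K is an open immersion. -/
theorem result (S : Scheme.{u}) (G H : Over S) [GrpObj G] [GrpObj H] (u : G ⟶ H) [IsMonHom u]
    [LocallyOfFinitePresentation u.left] (hG : ∀ s : S, LocallyOfFiniteType (G.hom.fiberToSpecResidueField s)) (K : Over S) [GrpObj K] (i : K ⟶ G) [IsMonHom i] (hK : AlgGrp.IsKernel i u) :
    (FormallyUnramified u.left ↔ ∀ s : S, FormallyUnramified ((Over.pullback (S.fromSpecResidueField s)).map u).left) ∧
    (FormallyUnramified u.left ↔ FormallyUnramified K.hom) ∧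
    (FormallyUnramified u.left ↔ IsOpenImmersion η[K].left) := by
  have h := (Groth.GrpschLoci.unramified_locus_eq u).2
  have hp := Groth.GrpschLoci.isPullback_kernel u i hK
  haveI : LocallyOfFiniteType K.hom := MorphismProperty.of_isPullback hp inferInstance
  have h2 := Groth.GrpschLoci.iff_kernel u @FormallyUnramified i hK
    (fun k hk ↦ Groth.GrpschLoci.Near.unramified_descend hp hk) h
  refine ⟨Groth.GrpschLoci.iff_fibres_of_locus_eq u @FormallyUnramified h, h2, h2.trans ?_⟩
  rw [Groth.GrpschAbsch.unit_left_mem_iff @IsOpenImmersion K]
  exact ⟨fun h => inferInstance, fun h => inferInstance⟩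

end Groth.Agent.S5320
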