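import Groth.Statements.S5321
import Groth.Agent.FlatMor2.FibCrit.Fibrewise

set_option autoImplicit false
universe u
open CategoryTheory CategoryTheory.Limits MonoidalCategory CartesianMonoidalCategory MonObj GrpObj AlgebraicGeometry
open SGA3

namespace Groth.Agent.S5321

/-- Consider a morphism π : X → S admitting a section ε, and assume the map of underlying spaces of π is
closed. Fix a point s of S, and suppose that on some open neighbourhood of ε(s) the morphism π is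
locally of finite presentation, and that the fibre X_s → Spec κ(s) is an isomorphism. Under these
assumptions one can find an open subset U of S containing s such that π restricts to an isomorphism
π⁻¹(U) → U (consequently ε restricted to U is an isomorphism onto π⁻¹(U)). -/
theorem result (X S : Scheme.{u}) (π : X ⟶ S) (ε : S ⟶ X) (hε : ε ≫ π = 𝟙 S)
    (hcl : IsClosedMap π.base) (s : S)
    (hfp : ∃ W : X.Opens, ε.base s ∈ W ∧ LocallyOfFinitePresentation (W.ι ≫ π))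
    (hs : IsIso (π.fiberToSpecResidueField s)) :
    ∃ U : S.Opens, s ∈ U ∧ IsIso (π ∣_ U) := by
  obtain ⟨W, hxW, hW⟩ := hfp
  set x := ε.base s with hxdef
  have hπx : π.base x = s := by
    rw [hxdef, ← Scheme.Hom.comp_apply, hε]; rfl
  -- the fibre of π over s is the point x
  have hsub : ∀ y, π.base y = s → y = x := by
    intro y hy
    obtain ⟨a, ha⟩ := (Scheme.Hom.range_fiberι π s).ge hy
    obtain ⟨b, hb⟩ := (Scheme.Hom.range_fiberι π s).ge hπx
    have : Subsingleton (π.fiber s) :=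
      (π.fiberToSpecResidueField s).homeomorph.injective.subsingleton
    rw [← ha, ← hb, Subsingleton.elim a b]
  -- π is unramified near x
  let f : (W : Scheme.{u}) ⟶ S := W.ι ≫ π
  haveI : LocallyOfFinitePresentation f := hW
  haveI : LocallyOfFinitePresentation (f ≫ 𝟙 S) := by rw [Category.comp_id]; exact hW
  let x' : W := ⟨x, hxW⟩
  have hfx : (f ≫ 𝟙 S) x' = s := hπx
  obtain ⟨U₀, hxU₀, hU₀⟩ := (Groth.FlatMor2.FibCrit.exists_formallyUnramified_iff_fiberMap f (𝟙 S) x'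
    ((f ≫ 𝟙 S).asFiber x') ((f ≫ 𝟙 S).fiberι_asFiber x')).2 ⟨⊤, trivial, by
    rw [hfx]
    let j : (f ≫ 𝟙 S).fiber s ⟶ π.fiber s :=
      Limits.pullback.map _ _ _ _ W.ι (𝟙 _) (𝟙 _) (by simp [f]) (by simp)
    have hj : j ≫ π.fiberToSpecResidueField s = (f ≫ 𝟙 S).fiberToSpecResidueField s := by
      simp only [j, Scheme.Hom.fiberToSpecResidueField]
      exact (Limits.pullback.lift_snd _ _ _).trans (Category.comp_id _)
    haveI : IsOpenImmersion j :=
      MorphismProperty.pullbackMap (P := @IsOpenImmersion) (i₁ := W.ι) (i₂ := 𝟙 _) inferInstance inferInstance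
        (by simp [f]) (by simp)
    have hm : MoreMor.fiberMap f (𝟙 S) s ≫ (𝟙 S : S ⟶ S).fiberToSpecResidueField s =
        (f ≫ 𝟙 S).fiberToSpecResidueField s := by
      simp only [MoreMor.fiberMap, Scheme.Hom.fiberToSpecResidueField]
      exact Limits.pullback.lift_snd _ _ _
    haveI : IsOpenImmersion (π.fiberToSpecResidueField s) := inferInstance
    haveI : FormallyUnramified (MoreMor.fiberMap f (𝟙 S) s ≫ (𝟙 S : S ⟶ S).fiberToSpecResidueField s) := by
      rw [hm, ← hj]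
      exact MorphismProperty.comp_mem @FormallyUnramified _ _ inferInstance inferInstance
    haveI : FormallyUnramified (MoreMor.fiberMap f (𝟙 S) s) :=
      FormallyUnramified.of_comp _ ((𝟙 S : S ⟶ S).fiberToSpecResidueField s)
    exact MorphismProperty.comp_mem @FormallyUnramified _ _ inferInstance ‹FormallyUnramified (MoreMor.fiberMap f (𝟙 S) s)›⟩
  let W₀ : X.Opens := W.ι ''ᵁ U₀
  have hxW₀ : x ∈ W₀ := ⟨x', hxU₀, rfl⟩
  have hW₀W : W₀ ≤ W := W.ι_image_le U₀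
  haveI : LocallyOfFinitePresentation (W₀.ι ≫ π) := by
    rw [← X.homOfLE_ι hW₀W, Category.assoc]; infer_instance
  haveI hunr : FormallyUnramified (W₀.ι ≫ π) := by
    have : W₀.ι ≫ π = (W.ι.isoImage U₀).inv ≫ U₀.ι ≫ W.ι ≫ π := by
      rw [← Category.assoc U₀.ι, ← Scheme.Hom.isoImage_hom_ι W.ι U₀, Category.assoc, Iso.inv_hom_id_assoc]
    rw [this]
    exact MorphismProperty.comp_mem @FormallyUnramified _ _ inferInstance hU₀
  -- a neighbourhood of s above which X lies in W₀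
  let U₁ : S.Opens := ⟨(π.base '' (W₀ : Set X)ᶜ)ᶜ, (hcl _ W₀.2.isClosed_compl).isOpen_compl⟩
  have hsU₁ : s ∈ U₁ := by
    rintro ⟨y, hy, hys⟩
    exact hy (hsub y hys ▸ hxW₀)
  have hU₁W : π ⁻¹ᵁ U₁ ≤ W₀ := fun y hy => by_contra fun h => hy ⟨y, h, rfl⟩
  have hεU₁ : U₁ ≤ ε ⁻¹ᵁ (π ⁻¹ᵁ U₁) := fun t ht => by
    change (ε ≫ π).base t ∈ U₁
    rw [hε]; exact ht
  let σ : (U₁ : Scheme.{u}) ⟶ (π ⁻¹ᵁ U₁ : Scheme.{u}) := ε.resLE (π ⁻¹ᵁ U₁) U₁ hεU₁
  have hσ : σ ≫ (π ∣_ U₁) = 𝟙 _ := by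
    rw [← cancel_mono U₁.ι]
    simp [σ, hε]
  haveI : LocallyOfFinitePresentation ((π ⁻¹ᵁ U₁).ι ≫ π) := by
    rw [← X.homOfLE_ι hU₁W, Category.assoc]; infer_instance
  haveI : FormallyUnramified ((π ⁻¹ᵁ U₁).ι ≫ π) := by
    rw [← X.homOfLE_ι hU₁W, Category.assoc]
    exact MorphismProperty.comp_mem @FormallyUnramified _ _ inferInstance hunr
  haveI : LocallyOfFiniteType ((π ∣_ U₁) ≫ U₁.ι) := by rw [morphismRestrict_ι]; infer_instance
  haveI : FormallyUnramified ((π ∣_ U₁) ≫ U₁.ι) := by rw [morphismRestrict_ι]; infer_instance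
  haveI : LocallyOfFiniteType (π ∣_ U₁) := locallyOfFiniteType_of_comp _ U₁.ι
  haveI : FormallyUnramified (π ∣_ U₁) := FormallyUnramified.of_comp _ U₁.ι
  haveI : IsOpenImmersion σ := by
    have : MorphismProperty.HasOfPostcompProperty @IsOpenImmersion
        (@FormallyUnramified ⊓ @LocallyOfFiniteType : MorphismProperty Scheme.{u}) :=
      MorphismProperty.hasOfPostcompProperty_iff_le_diagonal.2 fun _ _ g ⟨_, _⟩ =>
        (inferInstanceAs (IsOpenImmersion (Limits.pullback.diagonal g)) : _)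
    exact MorphismProperty.of_postcomp (W := @IsOpenImmersion)
      (W' := (@FormallyUnramified ⊓ @LocallyOfFiniteType : MorphismProperty Scheme.{u})) σ (π ∣_ U₁)
      ⟨inferInstance, inferInstance⟩ (by rw [hσ]; exact inferInstanceAs (IsOpenImmersion (𝟙 _)))
  -- shrink once more
  let V : X.Opens := (π ⁻¹ᵁ U₁).ι ''ᵁ σ.opensRange
  have hxV : x ∈ V := by
    refine ⟨σ.base ⟨s, hsU₁⟩, ⟨⟨s, hsU₁⟩, rfl⟩, ?_⟩
    change (σ ≫ (π ⁻¹ᵁ U₁).ι).base ⟨s, hsU₁⟩ = x
    rw [Scheme.Hom.resLE_comp_ι]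
    rfl
  let U : S.Opens := U₁ ⊓ ⟨(π.base '' (V : Set X)ᶜ)ᶜ, (hcl _ V.2.isClosed_compl).isOpen_compl⟩
  have hsU : s ∈ U := ⟨hsU₁, by
    rintro ⟨y, hy, hys⟩
    exact hy (hsub y hys ▸ hxV)⟩
  refine ⟨U, hsU, ?_⟩
  have hεU : U ≤ ε ⁻¹ᵁ (π ⁻¹ᵁ U) := fun t ht => by
    change (ε ≫ π).base t ∈ U
    rw [hε]; exact ht
  let τ : (U : Scheme.{u}) ⟶ (π ⁻¹ᵁ U : Scheme.{u}) := ε.resLE (π ⁻¹ᵁ U) U hεU
  have hτ : τ ≫ (π ∣_ U) = 𝟙 _ := by
    rw [← cancel_mono U.ι]
    simp [τ, hε]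
  have hle : π ⁻¹ᵁ U ≤ π ⁻¹ᵁ U₁ := fun y hy => hy.1
  have hτι : τ ≫ X.homOfLE hle = S.homOfLE inf_le_left ≫ σ := by
    rw [← cancel_mono (π ⁻¹ᵁ U₁).ι]
    simp [τ, σ]
    rfl
  haveI : IsOpenImmersion (τ ≫ X.homOfLE hle) := by rw [hτι]; infer_instance
  haveI : IsOpenImmersion τ := IsOpenImmersion.of_comp τ (X.homOfLE hle)
  haveI : Surjective τ := by
    refine ⟨fun y => ?_⟩
    have hyV : y.1 ∈ V := by_contra fun h => y.2.2 ⟨y.1, h, rfl⟩
    obtain ⟨_, ⟨t, rfl⟩, ht⟩ := hyV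
    have ht' : ε.base t.1 = y.1 := by
      rw [← ht]
      change _ = (σ ≫ (π ⁻¹ᵁ U₁).ι).base t
      rw [Scheme.Hom.resLE_comp_ι]
      rfl
    have htU : t.1 ∈ U := by
      have : (ε ≫ π).base t.1 = π.base y.1 := congrArg π.base ht'
      rw [hε] at this
      change t.1 = π.base y.1 at this
      rw [this]
      exact y.2
    refine ⟨⟨t.1, htU⟩, (π ⁻¹ᵁ U).ι.injective ?_⟩
    change (τ ≫ (π ⁻¹ᵁ U).ι).base ⟨t.1, htU⟩ = y.1
    rw [Scheme.Hom.resLE_comp_ι]
    exact ht'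
  haveI : IsIso τ := (isIso_iff_isOpenImmersion_and_epi_base τ).2
    ⟨inferInstance, (TopCat.epi_iff_surjective _).2 (Surjective.surj)⟩
  have : π ∣_ U = inv τ := (IsIso.eq_inv_of_hom_inv_id hτ)
  rw [this]; infer_instance

end Groth.Agent.S5321
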