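import Groth.Statements.S5323
import Groth.Agent.Sga3.NeutralGen.Basic
-- import your own Groth.Agent.* helpers here

set_option autoImplicit false
universe u
open CategoryTheory CategoryTheory.Limits MonoidalCategory CartesianMonoidalCategory MonObj GrpObj AlgebraicGeometry
open SGA3

namespace Groth.Agent.S5323

/-- Let S be a quasi-compact quasi-separated scheme and G an S-group scheme whose fibres G_s are locally
of finite type over κ(s). Then there is a quasi-compact open subset of G containing the union of the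
neutral components of the fibres G_s. -/
theorem result (S : Scheme.{u}) [CompactSpace S] [QuasiSeparatedSpace S]
    (G : Over S) [GrpObj G] (hG : ∀ s : S, LocallyOfFiniteType (G.hom.fiberToSpecResidueField s)) :
    ∃ U : G.left.Opens, IsCompact (U : Set G.left) ∧ SGA3x.neutralSet G ⊆ U := by
  classical
  haveI : CompactSpace ↥(𝟙_ (Over S)).left := inferInstanceAs (CompactSpace S)
  choose V hV hxV _ using fun y : G.left =>
    exists_isAffineOpen_mem_and_subset (U := (⊤ : G.left.Opens)) (Set.mem_univ y)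
  have cover : ∀ K : Set G.left, IsCompact K →
      ∃ W : G.left.Opens, IsCompact (W : Set G.left) ∧ K ⊆ W := fun K hK => by
    obtain ⟨F, hF⟩ := hK.elim_finite_subcover (fun y => (V y : Set G.left)) (fun y => (V y).2)
      (fun y _ => Set.mem_iUnion.2 ⟨y, hxV y⟩)
    exact ⟨⟨⋃ y ∈ F, (V y : Set G.left), isOpen_biUnion fun y _ => (V y).2⟩,
      F.finite_toSet.isCompact_biUnion fun y _ => (hV y).isCompact, hF⟩
  obtain ⟨W, hWc, hWη⟩ := cover _ (isCompact_range η[G].left.continuous)
  let U : Over S := Over.mk (W.ι ≫ G.hom)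
  let i : U ⟶ G := Over.homMk W.ι rfl
  haveI : CompactSpace ↥U.left := isCompact_iff_compactSpace.1 hWc
  haveI : QuasiCompact (U.hom ≫ terminal.from S) := (quasiCompact_iff_compactSpace _).2 inferInstance
  haveI : QuasiCompact U.hom := QuasiCompact.of_comp U.hom (terminal.from S)
  haveI : CompactSpace ↥(U ⊗ U).left :=
    QuasiCompact.compactSpace_of_compactSpace (pullback.fst U.hom U.hom)
  obtain ⟨U', hU'c, hU'⟩ := cover _ (isCompact_range ((i ⊗ₘ i) ≫ μ[G]).left.continuous)
  refine ⟨U', hU'c, fun x hx => hU' ?_⟩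
  let κ := G.left.residueField x
  let t : Spec κ ⟶ S := G.left.fromSpecResidueField x ≫ G.hom
  let T : Over S := Over.mk t
  let xT : T ⟶ G := Over.homMk (G.left.fromSpecResidueField x) rfl
  let o : ↥T.left := IsLocalRing.closedPoint κ
  have ho : ∀ p : ↥T.left, xT.left.base p = x := fun p => Scheme.fromSpecResidueField_apply x p
  obtain ⟨z, hz⟩ := Groth.Sga3.NeutralGen.exists_isNGen (Red.bc t G) o
  let z' : ↥(G ⊗ T).left := z
  have hmem : ∀ s : T ⟶ G, s.left.base o ∈ SGA3x.neutralSet G →
      z' ⤳ (lift s (𝟙 T)).left.base o := fun s hs => by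
    refine hz.2.2 _ ?_ ?_
    · rw [Groth.GrpschAbsch.NeutralSet.neutralSet_bc]
      show (fst G T).left.base ((lift s (𝟙 T)).left.base o) ∈ SGA3x.neutralSet G
      rw [← Scheme.Hom.comp_apply, ← Over.comp_left, lift_fst]
      exact hs
    · show (snd G T).left.base ((lift s (𝟙 T)).left.base o) = _
      rw [← Scheme.Hom.comp_apply, ← Over.comp_left, lift_snd]
      rfl
  have h1 : (1 : T ⟶ G).left.base o ∈ Set.range η[G].left.base := by
    rw [Hom.one_def]
    exact ⟨_, (Scheme.Hom.comp_apply _ _ _).symm⟩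
  let a : G ⊗ T ⟶ G := fst G T
  let b : G ⊗ T ⟶ G := a⁻¹ * (snd G T ≫ xT)
  have ha : a.left.base z' ∈ W := by
    have hh := hmem 1 (by
      obtain ⟨p, hp⟩ := h1
      rw [← hp]
      exact Set.mem_iUnion.2 ⟨p, mem_connectedComponentIn (by
        show G.hom.base (η[G].left.base p) = _
        rw [← Scheme.Hom.comp_apply, Over.w η[G]])⟩)
    refine (hh.map a.left.continuous).mem_open W.2 ?_
    rw [← Scheme.Hom.comp_apply, ← Over.comp_left, lift_fst]
    exact hWη h1
  have hb : b.left.base z' ∈ W := by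
    refine ((hmem xT (by rw [ho]; exact hx)).map b.left.continuous).mem_open W.2 ?_
    rw [← Scheme.Hom.comp_apply, ← Over.comp_left]
    have : lift xT (𝟙 T) ≫ b = 1 := by
      simp only [b, a, MonObj.comp_mul, GrpObj.comp_inv, lift_fst, lift_snd_assoc, Category.id_comp, inv_mul_cancel]
    rw [this]
    exact hWη h1
  let q := (lift a b).left.base z'
  have hq₁ : (fst G G).left.base q ∈ Set.range i.left.base := by
    rw [← Scheme.Hom.comp_apply, ← Over.comp_left, lift_fst]
    exact ⟨⟨_, ha⟩, rfl⟩
  have hq₂ : (snd G G).left.base q ∈ Set.range i.left.base := by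
    rw [← Scheme.Hom.comp_apply, ← Over.comp_left, lift_snd]
    exact ⟨⟨_, hb⟩, rfl⟩
  obtain ⟨r, hr⟩ : q ∈ Set.range (i ⊗ₘ i).left.base := by
    rw [Over.tensorHom_left, Scheme.Pullback.range_map]
    exact ⟨hq₁, hq₂⟩
  refine ⟨r, ?_⟩
  rw [Over.comp_left, Scheme.Hom.comp_apply, hr, ← Scheme.Hom.comp_apply, ← Over.comp_left]
  have : lift a b ≫ μ[G] = snd G T ≫ xT := by
    rw [← Hom.mul_def]; exact mul_inv_cancel_left a _
  rw [this, Over.comp_left, Scheme.Hom.comp_apply]
  exact ho _

end Groth.Agent.S5323
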