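import Groth.Statements.S5328
import Groth.Agent.GrpschAbsch.NeutralSet

set_option autoImplicit false
universe u
open CategoryTheory CategoryTheory.Limits MonoidalCategory CartesianMonoidalCategory MonObj GrpObj AlgebraicGeometry
open SGA3

namespace Groth.Agent.S5328

/-- Let u : G → H be a homomorphism between S-group schemes locally of finite presentation over S, and
let G⁰, H⁰ be the unions of the neutral components of the fibres. If u is flat then u(G⁰) = H⁰.
Conversely, if G is flat over S, the fibres H_s are reduced and u(G⁰) = H⁰, then u is flat. -/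
theorem result (S : Scheme.{u}) (G H : Over S) [GrpObj G] [GrpObj H]
    [LocallyOfFinitePresentation G.hom] [LocallyOfFinitePresentation H.hom] (u : G ⟶ H) [IsMonHom u] :
    (Flat u.left → u.left.base '' SGA3x.neutralSet G = SGA3x.neutralSet H) ∧
    (Flat G.hom → (∀ s : S, IsReduced (H.hom.fiber s)) → u.left.base '' SGA3x.neutralSet G = SGA3x.neutralSet H →
      Flat u.left) := by
  have : LocallyOfFinitePresentation (u.left ≫ H.hom) := by rw [Over.w]; infer_instance
  refine ⟨fun hu => Groth.GrpschAbsch.NeutralSet.image_neutralSet_eq G u fun s => ?_, fun hG hred heq => ?_⟩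
  · let t : Spec (CommRingCat.of (S.residueField s)) ⟶ S := S.fromSpecResidueField s
    letI : GrpObj ((Over.pullback t).obj G) := Functor.grpObjObj
    letI : GrpObj ((Over.pullback t).obj H) := Functor.grpObjObj
    have : LocallyOfFiniteType ((Over.pullback t).obj G).hom :=
      inferInstanceAs (LocallyOfFiniteType (pullback.snd G.hom t))
    have : LocallyOfFiniteType ((Over.pullback t).obj H).hom :=
      inferInstanceAs (LocallyOfFiniteType (pullback.snd H.hom t))
    have : Flat ((Over.pullback t).map u).left :=
      MorphismProperty.of_isPullback (Groth.GrpschAbsch.FibreFlat.isPullback_map t u) hu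
    have h := Groth.GrpschAbsch.NeutralSet.image_component_of_flat (k := S.residueField s)
      ((Over.pullback t).obj G) ((Over.pullback t).map u)
    rw [Groth.GrpschAbsch.NeutralSet.one_pullback_eq G s, Groth.GrpschAbsch.NeutralSet.one_pullback_eq H s] at h
    exact h
  · have : Flat (u.left ≫ H.hom) := by rw [Over.w]; infer_instance
    refine (Groth.FlatMor2.FibCrit.flat_of_flat_fibres u.left H.hom fun s => ?_).1
    let t : Spec (CommRingCat.of (S.residueField s)) ⟶ S := S.fromSpecResidueField s
    rw [Groth.FlatMor2.FibCrit.of_fiberMap_iff u.left H.hom @Flat s]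
    letI : GrpObj ((Over.pullback t).obj G) := Functor.grpObjObj
    letI : GrpObj ((Over.pullback t).obj H) := Functor.grpObjObj
    have : LocallyOfFiniteType ((Over.pullback t).obj H).hom :=
      inferInstanceAs (LocallyOfFiniteType (pullback.snd H.hom t))
    have : IsReduced ((Over.pullback t).obj H).left := hred s
    refine (Groth.GrpschAbsch.FibreFlat.of_map_iff @Flat u s).1
      (Groth.GrpschAbsch.NeutralSet.flat_of_component_le_image (k := S.residueField s)
        ((Over.pullback t).obj G) ((Over.pullback t).map u) ?_)
    rw [Groth.GrpschAbsch.NeutralSet.one_pullback_eq H s]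
    intro w hw
    obtain ⟨x, -, hx⟩ := heq.ge ((Groth.GrpschAbsch.NeutralSet.fiberι_mem_iff H s w).2 hw)
    have hsq := Groth.GrpschAbsch.FibreFlat.isPullback_map t u
    obtain ⟨z, -, hz⟩ := Scheme.exists_preimage_of_isPullback hsq x w hx
    exact ⟨z, hz⟩

end Groth.Agent.S5328
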