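import Groth.Statements.S5330
import Groth.Agent.Sga3.NeutralGen.DimNhd

set_option autoImplicit false
universe u
open CategoryTheory CategoryTheory.Limits MonoidalCategory CartesianMonoidalCategory MonObj GrpObj AlgebraicGeometry
open SGA3

namespace Groth.Agent.S5330

/-- Let G be an S-group scheme locally of finite presentation over S, s a point of S and G_s⁰ the
connected component of the unit in the fibre G_s. The following are equivalent: (i) G → S is
universally open at every point of G_s⁰; (i bis) G → S is universally open at every point of W ∩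
G_s⁰ for some open W of G containing the unit point of G_s; (ii) t ↦ dim G_t is constant on some
neighbourhood of s. (The published statement is for an S-scheme locally of finite presentation with
a section, equidimensional fibres and geometrically irreducible neutral components; this row takes
the case of a group scheme, where these hold. The published statement has a fourth equivalent
condition, not stated here.) -/
theorem result (S : Scheme.{u}) (G : Over S) [GrpObj G]
    [LocallyOfFinitePresentation G.hom] (s : S) :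
    ((∀ x ∈ (SGA3x.neutralSet G ∩ G.hom.base ⁻¹' {s}), EGA43.IsUnivOpenAt G.hom x) ↔
      ∃ W : G.left.Opens, (∀ p : ↥(𝟙_ (Over S)).left, (𝟙_ (Over S)).hom.base p = s → η[G].left.base p ∈ W) ∧
        ∀ x ∈ (SGA3x.neutralSet G ∩ G.hom.base ⁻¹' {s}), x ∈ W → EGA43.IsUnivOpenAt G.hom x) ∧
    ((∀ x ∈ (SGA3x.neutralSet G ∩ G.hom.base ⁻¹' {s}), EGA43.IsUnivOpenAt G.hom x) ↔
      ∃ U : Set S, U ∈ nhds s ∧ ∀ t ∈ U, topologicalKrullDim ↥(G.hom.base ⁻¹' {t}) = topologicalKrullDim ↥(G.hom.base ⁻¹' {s})) := by
  obtain ⟨z, hz⟩ := Groth.Sga3.NeutralGen.exists_isNGen G s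
  refine ⟨⟨fun h => ⟨⊤, fun _ _ => trivial, fun x hx _ => h x hx⟩, ?_⟩,
    fun h => Groth.Sga3.NeutralGen.exists_dim_nhd hz (h z ⟨hz.1, hz.2.1⟩), ?_⟩
  · rintro ⟨W, hW, hWo⟩ x ⟨hxN, hxs⟩
    have hzW : z ∈ W := hz.specializes_unit.mem_open W.2 (hW s rfl)
    exact Groth.EGA43Topo.isUnivOpenAt_of_fibre_generization (hz.2.2 x hxN hxs) (hz.2.1.trans hxs.symm)
      (hWo z ⟨hz.1, hz.2.1⟩ hzW)
  · rintro ⟨U, hU, hd⟩ x ⟨hxN, hxs⟩
    exact Groth.Sga3.NeutralGen.isUnivOpenAt_of_dim_nhd hU hd hxN hxs

end Groth.Agent.S5330
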