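import Groth.Statements.S5331
import Mathlib.AlgebraicGeometry.Morphisms.Separated
import Mathlib.CategoryTheory.Monoidal.Cartesian.Grp_

set_option autoImplicit false
universe u
open CategoryTheory CategoryTheory.Limits MonoidalCategory CartesianMonoidalCategory MonObj GrpObj AlgebraicGeometry
open SGA3

namespace Groth.Agent.S5331

/-- Let S be a scheme whose underlying topological space is discrete. Then every S-group scheme is
separated over S. -/
theorem result (S : Scheme.{u}) [DiscreteTopology S] (G : Over S) [GrpObj G] :
    IsSeparated G.hom := by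
  have hη : IsClosedImmersion η[G].left := by
    refine (IsZariskiLocalAtTarget.iff_of_openCover (P := @IsClosedImmersion) G.left.affineCover).2 fun j => ?_
    let c := pullback.snd η[G].left (G.left.affineCover.f j)
    show IsClosedImmersion c
    let U := G.left.affineCover.X j
    have : IsSeparated (G.left.affineCover.f j ≫ G.hom) := by
      haveI : IsAffine U := inferInstanceAs (IsAffine (G.left.affineCover.X j))
      infer_instance
    have e : c ≫ G.left.affineCover.f j ≫ G.hom = pullback.fst η[G].left (G.left.affineCover.f j) := by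
      rw [← pullback.condition_assoc, show η[G].left ≫ G.hom = 𝟙 S from Over.w η[G]]
      exact Category.comp_id _
    have : IsClosedImmersion (c ≫ G.left.affineCover.f j ≫ G.hom) := by
      rw [e]
      exact IsClosedImmersion.of_isPreimmersion (pullback.fst η[G].left (G.left.affineCover.f j))
        (isClosed_discrete (α := ↥S) _)
    exact IsClosedImmersion.of_comp c (G.left.affineCover.f j ≫ G.hom)
  let D : G ⊗ G ⟶ G := (snd G G)⁻¹ * fst G G
  have hD : ∀ {T : Over S} (a b : T ⟶ G), lift a b ≫ D = b⁻¹ * a := by
    intro T a b
    simp [D, MonObj.comp_mul, GrpObj.comp_inv]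
  have w : (lift (𝟙 G) (𝟙 G)) ≫ D = toUnit G ≫ η[G] := by
    rw [hD, inv_mul_cancel]; rfl
  have hp : IsPullback (lift (𝟙 G) (𝟙 G)) (toUnit G) D η[G] := by
    refine ⟨⟨w⟩, ⟨PullbackCone.IsLimit.mk _ (fun s => s.fst ≫ fst G G) ?_ ?_ ?_⟩⟩
    · intro s
      have hs := s.condition
      rw [← lift_comp_fst_snd s.fst, hD, toUnit_unique s.snd (toUnit _)] at hs
      have : s.fst ≫ fst G G = s.fst ≫ snd G G := eq_of_inv_mul_eq_one hs.symm.symm |>.symm
      apply CartesianMonoidalCategory.hom_ext <;> simp [this]
    · intro s; exact toUnit_unique _ _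
    · intro s m hm _
      simp [← hm]
  have hl := hp.map (Over.forget _)
  have : IsClosedImmersion ((Over.forget S).map η[G]) := hη
  have : IsClosedImmersion (lift (𝟙 G) (𝟙 G)).left := MorphismProperty.of_isPullback hl.flip this
  exact ⟨this⟩

end Groth.Agent.S5331
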