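import Groth.Statements.S5332
import Groth.Agent.GrpschSep.Transitive

set_option autoImplicit false
universe u
open CategoryTheory CategoryTheory.Limits MonoidalCategory CartesianMonoidalCategory MonObj GrpObj AlgebraicGeometry
open SGA3

namespace Groth.Agent.S5332

/-- Let G be an S-group scheme locally of finite presentation over S and universally open over S on some
open containing the unit section, acting on an S-scheme X so that the morphism G ×_S X → X ×_S X,
(g, x) ↦ (gx, x), is surjective. Suppose that for every point s of S the fibre X_s is locally of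
finite type over κ(s) and there is an open subscheme U of X, separated over S, whose fibre U_s is
dense in X_s. Then X is separated over S. -/
theorem result (S : Scheme.{u}) (G X : Over S) [GrpObj G] [LocallyOfFinitePresentation G.hom]
    (hGo : ∃ W : G.left.Opens, (∀ p : ↥(𝟙_ (Over S)).left, η[G].left.base p ∈ W) ∧ UniversallyOpen (W.ι ≫ G.hom))
    (a : AlgGrp.Action G X) (hΦ : Surjective (lift a.act (snd G X)).left)
    (hft : ∀ s : S, LocallyOfFiniteType (X.hom.fiberToSpecResidueField s))
    (hU : ∀ s : S, ∃ U : X.left.Opens, IsSeparated (U.ι ≫ X.hom) ∧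
      X.hom.base ⁻¹' {s} ⊆ closure ((U : Set X.left) ∩ X.hom.base ⁻¹' {s})) :
    IsSeparated X.hom := by
  obtain ⟨W, hW, hWo⟩ := hGo
  exact Groth.GrpschSep.isSeparated_of_transitive a hΦ W hW hWo hft hU

end Groth.Agent.S5332
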