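import Groth.Statements.S5333
import Mathlib.AlgebraicGeometry.Morphisms.Separated
import Mathlib.AlgebraicGeometry.Morphisms.Immersion
-- import your own Groth.Agent.* helpers here

set_option autoImplicit false
universe u
open CategoryTheory CategoryTheory.Limits MonoidalCategory CartesianMonoidalCategory MonObj GrpObj AlgebraicGeometry
open SGA3

namespace Groth.Agent.S5333

section Helpers

theorem isReduced_vanishingIdeal' {X : Scheme.{u}} (C : TopologicalSpace.Closeds X) :
    IsReduced (Scheme.IdealSheafData.vanishingIdeal C).subscheme := by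
  let I := Scheme.IdealSheafData.vanishingIdeal C
  have : ∀ i, IsReduced (I.subschemeCover.openCover.X i) := fun (U : X.affineOpens) => by
    have hr : (I.ideal U).IsRadical := by
      rw [show I.ideal U = PrimeSpectrum.vanishingIdeal (U.2.fromSpec ⁻¹' C) from rfl]
      exact PrimeSpectrum.isRadical_vanishingIdeal _
    have : _root_.IsReduced (Γ(X, U) ⧸ I.ideal U) := (Ideal.isRadical_iff_quotient_reduced _).1 hr
    show IsReduced (Spec (.of (Γ(X, U) ⧸ I.ideal U)))
    infer_instance
  exact IsReduced.of_openCover _ I.subschemeCover.openCover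

set_option backward.isDefEq.respectTransparency false in
theorem isSeparated_of_dense {X S : Scheme.{u}} (f : X ⟶ S)
    (h : ∀ (T : Scheme.{u}) [IsReduced T] (g₁ g₂ : T ⟶ X) (U : T.Opens), g₁ ≫ f = g₂ ≫ f →
      Dense (U : Set T) → U.ι ≫ g₁ = U.ι ≫ g₂ → g₁ = g₂) : IsSeparated f := by
  refine ⟨IsClosedImmersion.of_isPreimmersion _ ?_⟩
  let Δ := pullback.diagonal f
  let K := Scheme.IdealSheafData.vanishingIdeal
    (⟨closure (Set.range Δ), isClosed_closure⟩ : TopologicalSpace.Closeds ↥(pullback f f))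
  let ιT := K.subschemeι
  have : IsReduced K.subscheme := isReduced_vanishingIdeal' _
  have hι : Set.range ιT = closure (Set.range Δ) := by
    rw [Scheme.IdealSheafData.range_subschemeι, Scheme.IdealSheafData.coe_support_vanishingIdeal]
    rfl
  let W := Δ.coborderRange
  have hW : (W : Set ↥(pullback f f)) = coborder (Set.range Δ) := rfl
  let U : K.subscheme.Opens := ιT ⁻¹ᵁ W
  let j := Δ.liftCoborder
  let p := pullback.snd j (ιT ∣_ W)
  have hU : ∀ u : U, ιT u.1 ∈ Set.range Δ := fun u => by
    have h1 : ιT u.1 ∈ coborder (Set.range Δ) := hW ▸ u.2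
    have h2 : ιT u.1 ∈ closure (Set.range Δ) := hι ▸ Set.mem_range_self u.1
    exact coborder_inter_closure.le ⟨h1, h2⟩
  have : Surjective p := ⟨fun u => by
    obtain ⟨x, hx⟩ := hU u
    obtain ⟨z, -, hz⟩ := Scheme.Pullback.exists_preimage_pullback (f := j) (g := ιT ∣_ W) x u (by
      apply W.ι.isOpenEmbedding.injective
      rw [← Scheme.Hom.comp_apply, Δ.liftCoborder_ι, hx, ← Scheme.Hom.comp_apply, morphismRestrict_ι]
      rfl)
    exact ⟨z, hz⟩⟩
  have : IsReduced (U : Scheme.{u}) := inferInstance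
  have : IsIso p := isIso_of_isClosedImmersion_of_surjective p
  let σ : (U : Scheme.{u}) ⟶ X := inv p ≫ pullback.fst j (ιT ∣_ W)
  have hσ : σ ≫ Δ = U.ι ≫ ιT := by
    rw [← Δ.liftCoborder_ι, Category.assoc, pullback.condition_assoc, IsIso.inv_hom_id_assoc,
      morphismRestrict_ι]
  have hdense : Dense (U : Set K.subscheme) := by
    have hs : ιT ⁻¹' Set.range Δ ⊆ (U : Set K.subscheme) := fun t ht => subset_coborder ht
    refine Dense.mono hs (fun t => ?_)
    rw [ιT.isClosedEmbedding.isInducing.closure_eq_preimage_closure_image,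
      Set.image_preimage_eq_inter_range, hι,
      Set.inter_eq_left.mpr subset_closure]
    exact hι.le (Set.mem_range_self t)
  have heq : ιT ≫ pullback.fst f f = ιT ≫ pullback.snd f f :=
    h K.subscheme (ιT ≫ pullback.fst f f) (ιT ≫ pullback.snd f f) U
      (by simp [pullback.condition]) hdense (by
        simp only [← Category.assoc, ← hσ]
        simp only [Category.assoc, pullback.diagonal_fst, pullback.diagonal_snd, Δ])
  refine isClosed_of_closure_subset fun z hz => ?_
  obtain ⟨t, rfl⟩ := hι.ge hz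
  refine ⟨(ιT ≫ pullback.fst f f) t, ?_⟩
  have : (ιT ≫ pullback.fst f f) ≫ Δ = ιT := by
    apply pullback.hom_ext
    · simp [Δ]
    · simp [Δ, heq]
  rw [← Scheme.Hom.comp_apply, this]

set_option backward.isDefEq.respectTransparency false in
theorem isSeparated_of_pairs {X S : Scheme.{u}} (f : X ⟶ S)
    (h : ∀ x₁ x₂ : X, f.base x₁ = f.base x₂ →
      ∃ V : X.Opens, x₁ ∈ V ∧ x₂ ∈ V ∧ IsSeparated (V.ι ≫ f)) : IsSeparated f := by
  refine ⟨IsClosedImmersion.of_isPreimmersion _ ?_⟩
  refine isClosed_of_closure_subset fun z hz => ?_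
  obtain ⟨V, h1, h2, hsep⟩ := h (pullback.fst f f z) (pullback.snd f f z) (by
    rw [← Scheme.Hom.comp_apply, ← Scheme.Hom.comp_apply, pullback.condition])
  let O : (pullback f f).Opens := pullback.fst f f ⁻¹ᵁ V ⊓ pullback.snd f f ⁻¹ᵁ V
  let m : pullback (V.ι ≫ f) (V.ι ≫ f) ⟶ pullback f f :=
    pullback.map _ _ _ _ V.ι V.ι (𝟙 _) (Category.comp_id _) (Category.comp_id _)
  have hsq : pullback.diagonal (V.ι ≫ f) ≫ m = V.ι ≫ pullback.diagonal f := by
    apply pullback.hom_ext <;> simp [m, pullback.map]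
  have : IsOpenImmersion m := MorphismProperty.pullbackMap (P := @IsOpenImmersion)
    (inferInstance : IsOpenImmersion V.ι) (inferInstance : IsOpenImmersion V.ι) rfl rfl
  have hrange : (O : Set ↥(pullback f f)) = Set.range m := by
    rw [Scheme.Pullback.range_map]
    simp only [Scheme.Opens.range_ι]
    rfl
  have hd : O.1 ∩ Set.range (pullback.diagonal f) = m '' Set.range (pullback.diagonal (V.ι ≫ f)) := by
    ext w
    constructor
    · rintro ⟨hwO, x, rfl⟩
      have hx : x ∈ V := by
        have := hwO.1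
        change pullback.fst f f (pullback.diagonal f x) ∈ V at this
        rwa [← Scheme.Hom.comp_apply, pullback.diagonal_fst] at this
      refine ⟨pullback.diagonal (V.ι ≫ f) ⟨x, hx⟩, ⟨_, rfl⟩, ?_⟩
      rw [← Scheme.Hom.comp_apply, hsq]
      rfl
    · rintro ⟨_, ⟨v, rfl⟩, rfl⟩
      refine ⟨hrange.ge ⟨_, rfl⟩, V.ι v, ?_⟩
      rw [← Scheme.Hom.comp_apply, ← Scheme.Hom.comp_apply, hsq]
  have hzO : z ∈ O := ⟨h1, h2⟩
  have hz' : z ∈ closure (O.1 ∩ Set.range (pullback.diagonal f)) :=
    O.isOpen.inter_closure ⟨hzO, hz⟩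
  obtain ⟨w, rfl⟩ := hrange.le hzO
  rw [hd] at hz'
  have hw : w ∈ closure (Set.range (pullback.diagonal (V.ι ≫ f))) := by
    rw [m.isOpenEmbedding.isInducing.closure_eq_preimage_closure_image]
    exact hz'
  rw [(pullback.diagonal (V.ι ≫ f)).isClosedEmbedding.isClosed_range.closure_eq] at hw
  have := hd.ge ⟨w, hw, rfl⟩
  exact this.2

end Helpers

/-- (i) ⟺ (iii) ⟺ (iv'): let f : X → S be a morphism of schemes. Then X is separated over S if and only
if for every reduced scheme T and every two morphisms T → X with the same composite to S which agree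
on a dense open subscheme of T are equal; and X is separated over S if and only if every two points
of X in the same fibre over S lie in a common open subscheme of X which is separated over S. -/
theorem result (X S : Scheme.{u}) (f : X ⟶ S) :
    (IsSeparated f ↔ ∀ (T : Scheme.{u}) [IsReduced T] (g₁ g₂ : T ⟶ X) (U : T.Opens), g₁ ≫ f = g₂ ≫ f →
      Dense (U : Set T) → U.ι ≫ g₁ = U.ι ≫ g₂ → g₁ = g₂) ∧
    (IsSeparated f ↔ ∀ x₁ x₂ : X, f.base x₁ = f.base x₂ →
      ∃ V : X.Opens, x₁ ∈ V ∧ x₂ ∈ V ∧ IsSeparated (V.ι ≫ f)) := by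

  refine ⟨⟨fun hs T _ g₁ g₂ U hg hU he => ?_, isSeparated_of_dense f⟩,
    ⟨fun hs x₁ x₂ _ => ⟨⊤, trivial, trivial, inferInstance⟩, isSeparated_of_pairs f⟩⟩
  have : IsDominant U.ι := ⟨by
    rw [DenseRange, Scheme.Opens.range_ι]
    exact hU⟩
  exact ext_of_isDominant_of_isSeparated f hg U.ι he

end Groth.Agent.S5333
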