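import Groth.Statements.S5335
import Groth.Agent.DescentBase.UnivOpenField

set_option autoImplicit false
universe u
open CategoryTheory CategoryTheory.Limits MonoidalCategory CartesianMonoidalCategory MonObj GrpObj AlgebraicGeometry
open SGA3

namespace Groth.Agent.S5335

open Limits in
theorem denseRange_of_isPullback {P X Y Z : Scheme.{u}} {fst : P ⟶ X} {snd : P ⟶ Y} {f : X ⟶ Z} {g : Y ⟶ Z}
    (h : IsPullback fst snd f g) (hg : IsOpenMap g.base) (hf : DenseRange f.base) : DenseRange snd.base := by
  have e : Set.range snd.base = g.base ⁻¹' Set.range f.base := by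
    have := Scheme.image_preimage_eq_of_isPullback h Set.univ
    simpa [Set.image_univ] using this
  rw [DenseRange, dense_iff_closure_eq, e,
    ← hg.preimage_closure_eq_closure_preimage g.continuous, hf.closure_range, Set.preimage_univ]


/-- Let A be a local artinian ring and f : X' → X, g : Y' → Y two quasi-compact dominant morphisms of
schemes over A. Then the product morphism f ×_A g : X' ×_A Y' → X ×_A Y is dominant (and
quasi-compact). -/
theorem result (A : Type u) [CommRing A] [IsArtinianRing A] [IsLocalRing A] (X X' Y Y' : Over (Spec (CommRingCat.of A)))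
    (f : X' ⟶ X) (g : Y' ⟶ Y) [QuasiCompact f.left] [QuasiCompact g.left]
    (hf : DenseRange f.left.base) (hg : DenseRange g.left.base) :
    DenseRange (f ⊗ₘ g).left.base ∧ QuasiCompact (f ⊗ₘ g).left := by
  haveI : DiscreteTopology ↥(Spec (CommRingCat.of A)) :=
    inferInstanceAs (DiscreteTopology (PrimeSpectrum A))
  haveI := Groth.DescentBase.universallyOpen_of_discrete X.hom
  haveI := Groth.DescentBase.universallyOpen_of_discrete Y'.hom
  let h₁ := Limits.pullback.map X'.hom Y'.hom X.hom Y'.hom f.left (𝟙 _) (𝟙 _) (by simp) (by simp)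
  let h₂ := Limits.pullback.map X.hom Y'.hom X.hom Y.hom (𝟙 _) g.left (𝟙 _) (by simp) (by simp)
  have a₁ : h₁ ≫ Limits.pullback.fst X.hom Y'.hom = Limits.pullback.fst X'.hom Y'.hom ≫ f.left :=
    Limits.pullback.lift_fst _ _ _
  have a₂ : h₁ ≫ Limits.pullback.snd X.hom Y'.hom = Limits.pullback.snd X'.hom Y'.hom :=
    (Limits.pullback.lift_snd _ _ _).trans (Category.comp_id _)
  have b₁ : h₂ ≫ Limits.pullback.fst X.hom Y.hom = Limits.pullback.fst X.hom Y'.hom :=
    (Limits.pullback.lift_fst _ _ _).trans (Category.comp_id _)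
  have b₂ : h₂ ≫ Limits.pullback.snd X.hom Y.hom = Limits.pullback.snd X.hom Y'.hom ≫ g.left :=
    Limits.pullback.lift_snd _ _ _
  have e : (f ⊗ₘ g).left = h₁ ≫ h₂ := by
    rw [Over.tensorHom_left]
    apply Limits.pullback.hom_ext
    · rw [Category.assoc, b₁, a₁]
      exact Limits.pullback.lift_fst _ _ _
    · rw [Category.assoc, b₂, ← Category.assoc, a₂]
      exact Limits.pullback.lift_snd _ _ _
  have s₁ : IsPullback (Limits.pullback.fst X'.hom Y'.hom) h₁ f.left (Limits.pullback.fst X.hom Y'.hom) := by
    refine (IsPullback.of_right ?_ a₁ (IsPullback.of_hasPullback X.hom Y'.hom).flip).flip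
    rw [a₂, Over.w f]
    exact (IsPullback.of_hasPullback X'.hom Y'.hom).flip
  have s₂ : IsPullback (Limits.pullback.snd X.hom Y'.hom) h₂ g.left (Limits.pullback.snd X.hom Y.hom) := by
    refine (IsPullback.of_right ?_ b₂ (IsPullback.of_hasPullback X.hom Y.hom)).flip
    rw [b₁, Over.w g]
    exact IsPullback.of_hasPullback X.hom Y'.hom
  refine ⟨?_, ?_⟩
  · rw [e]
    have d₁ := denseRange_of_isPullback s₁ (Limits.pullback.fst X.hom Y'.hom).isOpenMap hf
    have d₂ := denseRange_of_isPullback s₂ (Limits.pullback.snd X.hom Y.hom).isOpenMap hg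
    have d := d₂.comp d₁ h₂.continuous
    simpa using d
  · rw [e]
    haveI : QuasiCompact h₁ := MorphismProperty.of_isPullback (P := @QuasiCompact) s₁ inferInstance
    haveI : QuasiCompact h₂ := MorphismProperty.of_isPullback (P := @QuasiCompact) s₂ inferInstance
    infer_instance

end Groth.Agent.S5335
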