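import Groth.Statements.S5336
import Groth.Agent.GrpschAbsch.FlatPoint
import Groth.Agent.GrpschAbsch.FibreFlat

set_option autoImplicit false
universe u
open CategoryTheory CategoryTheory.Limits MonoidalCategory CartesianMonoidalCategory MonObj GrpObj AlgebraicGeometry
open SGA3

namespace Groth.Agent.S5336

/-- Let A be a local artinian ring, G an A-group scheme which is flat and locally of finite type over A,
and u : G → H a homomorphism of A-group schemes. If u is flat at some point x of G (the local ring
of G at x is flat over the local ring of H at u(x)), then u is flat. -/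
theorem result (A : Type u) [CommRing A] [IsArtinianRing A] [IsLocalRing A] (G H : Over (Spec (CommRingCat.of A))) [GrpObj G] [GrpObj H]
    [Flat G.hom] [LocallyOfFiniteType G.hom] (u : G ⟶ H) [IsMonHom u]
    (h : ∃ x : G.left, (u.left.stalkMap x).hom.Flat) : Flat u.left := by
  obtain ⟨x₀, hx₀⟩ := h
  have : Flat (u.left ≫ H.hom) := by rw [Over.w]; infer_instance
  let S := Spec (CommRingCat.of A)
  have hsub : Subsingleton ↥S := by
    show Subsingleton (PrimeSpectrum A)
    exact ⟨fun a b => PrimeSpectrum.ext ((IsLocalRing.eq_maximalIdeal inferInstance).trans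
      (IsLocalRing.eq_maximalIdeal inferInstance).symm)⟩
  have hfib : ∀ s : S, Flat (MoreMor.fiberMap u.left H.hom s) := fun s => by
    let t : Spec (CommRingCat.of (S.residueField s)) ⟶ S := S.fromSpecResidueField s
    rw [Groth.FlatMor2.FibCrit.of_fiberMap_iff u.left H.hom @Flat s]
    letI : GrpObj ((Over.pullback t).obj G) := Functor.grpObjObj
    letI : GrpObj ((Over.pullback t).obj H) := Functor.grpObjObj
    have sq := Groth.GrpschAbsch.FibreFlat.isPullback_map t u
    have hx : G.hom x₀ = t (IsLocalRing.closedPoint _) := Subsingleton.elim _ _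
    obtain ⟨p, hp, -⟩ := Scheme.Pullback.exists_preimage_pullback (f := G.hom) (g := t) x₀
      (IsLocalRing.closedPoint _) hx
    have h1 : (((Over.pullback t).map u).left.stalkMap p).hom.Flat :=
      Groth.Misc13.FlatBC.flat_stalkMap_baseChange sq.flip p (by
        change (u.left.stalkMap (pullback.fst G.hom t p)).hom.Flat
        rw [hp]
        exact hx₀)
    exact (Groth.GrpschAbsch.FibreFlat.of_map_iff @Flat u s).1
      (Groth.GrpschAbsch.FlatPoint.flat_of_flatAt (k := S.residueField s) ((Over.pullback t).map u) p h1)
  refine Flat.of_stalkMap _ fun x => Groth.GrpschAbsch.FlatPoint.flatAt_of_fibre_artinian u.left H.hom x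
    (Flat.stalkMap _ x) ?_
  have := hfib (H.hom (u.left x))
  exact Flat.stalkMap _ _

end Groth.Agent.S5336
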