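import Groth.Statements.S5338
import Groth.Agent.Calg4.NilpotentIdeal

set_option autoImplicit false
universe u
open CategoryTheory CategoryTheory.Limits MonoidalCategory CartesianMonoidalCategory MonObj GrpObj AlgebraicGeometry
open SGA3

namespace Groth.Agent.S5338

open TensorProduct in
theorem mem_smul_of_flat {A P C : Type u} [CommRing A] [AddCommGroup P] [Module A P] [AddCommGroup C] [Module A C]
    [Module.Flat A C] (n : Ideal A) (g : P →ₗ[A] C) (hg : Function.Surjective g) (J : Submodule A P)
    (hJ : J = LinearMap.ker g) (x : J) (hx : (x : P) ∈ n • (⊤ : Submodule A P)) : x ∈ n • (⊤ : Submodule A J) := by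
  have hinj := LinearMap.lTensor_injective_of_exact_of_flat g hg J.subtype
    J.subtype_injective (hJ ▸ LinearMap.exact_subtype_ker_map g) (A ⧸ n)
  have h0 : ((1 : A ⧸ n) ⊗ₜ[A] x) = 0 := by
    apply hinj
    rw [map_zero, LinearMap.lTensor_tmul]
    apply (TensorProduct.quotTensorEquivQuotSMul P n).injective
    rw [map_zero, TensorProduct.quotTensorEquivQuotSMul_mk_one_tmul, Submodule.Quotient.mk_eq_zero]
    exact hx
  have h1 := congrArg (TensorProduct.quotTensorEquivQuotSMul J n) h0
  rwa [map_zero, TensorProduct.quotTensorEquivQuotSMul_mk_one_tmul, Submodule.Quotient.mk_eq_zero] at h1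


/-- Let A → B → C be homomorphisms of commutative rings and n a nilpotent ideal of A; write nB and nC
for the extended ideals. (i) If C/nC is a (B/nB)-algebra of finite type, then C is a B-algebra of
finite type. (ii) If moreover C is flat over A and C/nC is a (B/nB)-algebra of finite presentation,
then C is a B-algebra of finite presentation. -/
theorem result (A B C : Type u) [CommRing A] [CommRing B] [CommRing C]
    [Algebra A B] [Algebra B C] [Algebra A C] [IsScalarTower A B C] (n : Ideal A) (hn : IsNilpotent n) :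
    (Algebra.FiniteType (B ⧸ n.map (algebraMap A B)) (C ⧸ (n.map (algebraMap A B)).map (algebraMap B C)) →
      Algebra.FiniteType B C) ∧
    (Module.Flat A C →
      Algebra.FinitePresentation (B ⧸ n.map (algebraMap A B)) (C ⧸ (n.map (algebraMap A B)).map (algebraMap B C)) →
      Algebra.FinitePresentation B C) := by
  classical
  set m := n.map (algebraMap A B) with hm
  set mC := m.map (algebraMap B C) with hmC
  have hnilB : IsNilpotent m := by
    obtain ⟨k, hk⟩ := hn
    exact ⟨k, by rw [hm, ← Ideal.map_pow, hk]; exact Ideal.map_bot⟩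
  have lift : ∀ (l : ℕ) (q : MvPolynomial (Fin l) (B ⧸ m) →ₐ[B ⧸ m] C ⧸ mC), Function.Surjective q →
      ∃ f : MvPolynomial (Fin l) B →ₐ[B] C, Function.Surjective f ∧
        ∀ p, Ideal.Quotient.mk mC (f p) = q (MvPolynomial.map (Ideal.Quotient.mk m) p) := by
    intro l q hq
    choose c hc using fun i => Ideal.Quotient.mk_surjective (I := mC) (q (MvPolynomial.X i))
    refine ⟨MvPolynomial.aeval c, ?_, ?_⟩
    · have hcomm : ∀ p, Ideal.Quotient.mk mC (MvPolynomial.aeval c p) = q (MvPolynomial.map (Ideal.Quotient.mk m) p) := by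
        intro p
        induction p using MvPolynomial.induction_on with
        | C b =>
          rw [MvPolynomial.aeval_C, MvPolynomial.map_C, ← MvPolynomial.algebraMap_eq, q.commutes]
          rfl
        | add p p' hp hp' => simp only [map_add, hp, hp']
        | mul_X p i hp => simp only [map_mul, hp, MvPolynomial.aeval_X, MvPolynomial.map_X, hc]
      refine LinearMap.range_eq_top.1 (Groth.Calg4.eq_top_of_sup_smul_of_isNilpotent m hnilB
        (MvPolynomial.aeval c).toLinearMap.range ?_)
      rw [Ideal.smul_top_eq_map, eq_top_iff]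
      intro y _
      obtain ⟨z, hz⟩ := hq (Ideal.Quotient.mk mC y)
      obtain ⟨z, rfl⟩ := MvPolynomial.map_surjective (Ideal.Quotient.mk m) Ideal.Quotient.mk_surjective z
      rw [← hcomm z] at hz
      exact Submodule.mem_sup.2 ⟨_, ⟨z, rfl⟩, y - MvPolynomial.aeval c z, (Ideal.Quotient.eq).1 hz.symm, add_sub_cancel _ _⟩
    · intro p
      induction p using MvPolynomial.induction_on with
      | C b =>
        rw [MvPolynomial.aeval_C, MvPolynomial.map_C, ← MvPolynomial.algebraMap_eq, q.commutes]
        rfl
      | add p p' hp hp' => simp only [map_add, hp, hp']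
      | mul_X p i hp => simp only [map_mul, hp, MvPolynomial.aeval_X, MvPolynomial.map_X, hc]
  constructor
  · intro h
    obtain ⟨l, q, hq⟩ := Algebra.FiniteType.iff_quotient_mvPolynomial''.1 h
    obtain ⟨f, hf, -⟩ := lift l q hq
    exact Algebra.FiniteType.iff_quotient_mvPolynomial''.2 ⟨l, f, hf⟩
  · intro hflat h
    obtain ⟨l, q, hq, hker⟩ := h.out
    obtain ⟨f, hf, hcomm⟩ := lift l q hq
    refine ⟨l, f, hf, ?_⟩
    let P := MvPolynomial (Fin l) B
    set J : Ideal P := RingHom.ker f.toRingHom with hJ
    obtain ⟨G, hG⟩ := hker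
    have hmemP : ∀ z : P, MvPolynomial.map (Ideal.Quotient.mk m) z = 0 ↔ z ∈ n • (⊤ : Submodule A P) := fun z => by
      rw [Ideal.smul_top_eq_map, Submodule.restrictScalars_mem, ← RingHom.mem_ker, MvPolynomial.ker_map, Ideal.mk_ker, hm,
        Ideal.map_map, ← MvPolynomial.algebraMap_eq, ← IsScalarTower.algebraMap_eq]
    have hlift : ∀ g : {g // g ∈ G}, ∃ z : P, z ∈ J ∧ MvPolynomial.map (Ideal.Quotient.mk m) z = g.1 := by
      intro g
      obtain ⟨z, hz⟩ := MvPolynomial.map_surjective (Ideal.Quotient.mk m) Ideal.Quotient.mk_surjective g.1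
      have hmap : mC = (m.map (algebraMap B P)).map f.toRingHom := by
        exact (hmC.trans (congrArg (fun r : B →+* C => Ideal.map r m) (f.comp_algebraMap).symm)).trans (Ideal.map_map _ _).symm
      have hzC' : f z ∈ (m.map (algebraMap B P)).map f.toRingHom := by
        rw [← hmap, ← Ideal.Quotient.eq_zero_iff_mem, hcomm, hz]
        exact RingHom.mem_ker.1 (hG ▸ Ideal.subset_span g.2 : g.1 ∈ RingHom.ker q.toRingHom)
      obtain ⟨e, he, hfe⟩ := (Ideal.mem_map_iff_of_surjective f.toRingHom hf).1 hzC'
      refine ⟨z - e, RingHom.mem_ker.2 (by rw [map_sub]; exact sub_eq_zero.2 hfe.symm), ?_⟩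
      rw [map_sub, hz]
      have : e ∈ RingHom.ker (MvPolynomial.map (σ := Fin l) (Ideal.Quotient.mk m)) := by
        rw [MvPolynomial.ker_map, Ideal.mk_ker, ← MvPolynomial.algebraMap_eq]
        exact he
      rw [RingHom.mem_ker.1 this, sub_zero]
    choose z hzJ hz using hlift
    refine ⟨Finset.univ.image z, le_antisymm (Ideal.span_le.2 (by
      intro w hw
      obtain ⟨g, -, rfl⟩ := Finset.mem_image.1 hw
      exact hzJ g)) ?_⟩
    let JA : Submodule A P := J.restrictScalars A
    let N : Submodule A JA := ((Ideal.span ((Finset.univ.image z : Finset P) : Set P)).restrictScalars A).comap JA.subtype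
    have hN : N = ⊤ := Groth.Calg4.eq_top_of_sup_smul_of_isNilpotent n hn N (eq_top_iff.2 fun x _ => by
      have hx : MvPolynomial.map (Ideal.Quotient.mk m) (x : P) ∈ RingHom.ker q.toRingHom := by
        rw [RingHom.mem_ker]
        show q _ = 0
        rw [← hcomm, show f (x : P) = 0 from RingHom.mem_ker.1 x.2, map_zero]
      rw [← hG] at hx
      have hx' : MvPolynomial.map (Ideal.Quotient.mk m) (x : P) ∈
          (Ideal.span ((Finset.univ.image z : Finset P) : Set P)).map (MvPolynomial.map (Ideal.Quotient.mk m)) := by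
        rw [Ideal.map_span]
        refine Ideal.span_mono ?_ hx
        intro g hg
        exact ⟨z ⟨g, hg⟩, by simp, hz ⟨g, hg⟩⟩
      obtain ⟨j, hj, hjx⟩ := (Ideal.mem_map_iff_of_surjective _
        (MvPolynomial.map_surjective (Ideal.Quotient.mk m) Ideal.Quotient.mk_surjective)).1 hx'
      have hjJ : j ∈ J := Ideal.span_le.2 (by
        intro w hw
        obtain ⟨g, -, rfl⟩ := Finset.mem_image.1 hw
        exact hzJ g) hj
      have hd : ((x : P) - j) ∈ n • (⊤ : Submodule A P) := (hmemP _).1 (by rw [map_sub, hjx, sub_self])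
      exact Submodule.mem_sup.2 ⟨⟨j, hjJ⟩, hj, ⟨(x : P) - j, J.sub_mem x.2 hjJ⟩,
        mem_smul_of_flat n (f.restrictScalars A).toLinearMap hf JA rfl _ hd, Subtype.ext (add_sub_cancel _ _)⟩)
    intro x hx
    exact (hN.ge (Submodule.mem_top (x := (⟨x, hx⟩ : JA))) :)

end Groth.Agent.S5338
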