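import Groth.Statements.S5339
import Groth.Agent.GrpschLoci.LftField
import Groth.Agent.S5346
import Groth.Agent.S5337

set_option autoImplicit false
universe u
open CategoryTheory CategoryTheory.Limits MonoidalCategory CartesianMonoidalCategory MonObj GrpObj AlgebraicGeometry
open SGA3

namespace Groth.Agent.S5339

/-- Let A be a local artinian ring and G a flat A-group scheme (not assumed locally of finite type). If
G is locally quasi-finite and locally of finite type (resp. unramified, resp. smooth, resp. etale)
over A on some nonempty open subscheme, then G is locally quasi-finite and locally of finite type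
(resp. unramified, resp. smooth, resp. etale) over A. -/
theorem result (A : Type u) [CommRing A] [IsArtinianRing A] [IsLocalRing A] (G : Over (Spec (CommRingCat.of A))) [GrpObj G] [Flat G.hom]
    (W : G.left.Opens) (hW : (W : Set G.left).Nonempty) :
    (LocallyQuasiFinite (W.ι ≫ G.hom) → LocallyOfFiniteType (W.ι ≫ G.hom) → LocallyQuasiFinite G.hom ∧ LocallyOfFiniteType G.hom) ∧
    (FormallyUnramified (W.ι ≫ G.hom) → LocallyOfFinitePresentation (W.ι ≫ G.hom) →
      FormallyUnramified G.hom ∧ LocallyOfFinitePresentation G.hom) ∧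
    (Smooth (W.ι ≫ G.hom) → Smooth G.hom) ∧ (Etale (W.ι ≫ G.hom) → Etale G.hom) := by
  have lft : LocallyOfFiniteType (W.ι ≫ G.hom) → LocallyOfFiniteType G.hom := by
    intro h
    let i : Spec (CommRingCat.of (IsLocalRing.ResidueField A)) ⟶ Spec (CommRingCat.of A) :=
      Spec.map (CommRingCat.ofHom (IsLocalRing.residue A))
    refine (Groth.Agent.S5346.result A G G (𝟙 G)).1 ?_
    obtain ⟨g, hg⟩ := hW
    haveI : Subsingleton ↥(Spec (CommRingCat.of A)) := inferInstanceAs (Subsingleton (PrimeSpectrum A))
    haveI : Surjective i := ⟨fun p => ⟨IsLocalRing.closedPoint _, Subsingleton.elim _ _⟩⟩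
    obtain ⟨g₀, hg₀⟩ := (pullback.fst G.hom i).surjective g
    exact Groth.GrpschLoci.lft_of_near (Red.bc i G) (g := g₀)
      (Groth.GrpschLoci.Near.bc (IsPullback.of_hasPullback G.hom i) (hg₀.symm ▸ ⟨W, hg, h⟩))
  haveI : IsMonHom (toUnit G) := inferInstance
  have key : LocallyOfFiniteType G.hom → _ := fun h =>
    @Groth.Agent.S5337.result A _ _ _ G (𝟙_ _) _ _ _ h (toUnit G) _ W hW
  have e : (toUnit G).left = G.hom := rfl
  refine ⟨fun h h' => ?_, fun h h' => ?_, fun h => ?_, fun h => ?_⟩
  · have hl := lft h'
    exact ⟨(e ▸ (key hl).1 (e ▸ h) :), hl⟩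
  · haveI := h'
    have hl := lft inferInstance
    exact (e ▸ (key hl).2.1 (e ▸ h) (e ▸ h') :)
  · haveI := h
    have hl := lft inferInstance
    exact (e ▸ (key hl).2.2.1 (e ▸ h) :)
  · haveI := h
    have hl := lft inferInstance
    exact (e ▸ (key hl).2.2.2 (e ▸ h) :)

end Groth.Agent.S5339
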