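import Groth.Statements.S5340
import Groth.Agent.GrpschLoci.LftField
import Groth.Agent.S5346

set_option autoImplicit false
universe u
open CategoryTheory CategoryTheory.Limits MonoidalCategory CartesianMonoidalCategory MonObj GrpObj AlgebraicGeometry
open SGA3

namespace Groth.Agent.S5340

/-- Let A be a local artinian ring and G an A-group scheme. If some nonempty open subscheme of G is of
finite type over A, then G is locally of finite type over A. -/
theorem result (A : Type u) [CommRing A] [IsArtinianRing A] [IsLocalRing A] (G : Over (Spec (CommRingCat.of A))) [GrpObj G]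
    (W : G.left.Opens) (hW : (W : Set G.left).Nonempty) [LocallyOfFiniteType (W.ι ≫ G.hom)] [QuasiCompact (W.ι ≫ G.hom)] :
    LocallyOfFiniteType G.hom := by
  let i : Spec (CommRingCat.of (IsLocalRing.ResidueField A)) ⟶ Spec (CommRingCat.of A) :=
    Spec.map (CommRingCat.ofHom (IsLocalRing.residue A))
  refine (Groth.Agent.S5346.result A G G (𝟙 G)).1 ?_
  obtain ⟨g, hg⟩ := hW
  haveI : Subsingleton ↥(Spec (CommRingCat.of A)) := inferInstanceAs (Subsingleton (PrimeSpectrum A))
  haveI : Surjective i := ⟨fun p => ⟨IsLocalRing.closedPoint _, Subsingleton.elim _ _⟩⟩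
  have sq : IsPullback (pullback.fst G.hom i) (pullback.snd G.hom i) G.hom i := .of_hasPullback _ _
  obtain ⟨g₀, hg₀⟩ := (pullback.fst G.hom i).surjective g
  exact Groth.GrpschLoci.lft_of_near (Red.bc i G) (g := g₀)
    (Groth.GrpschLoci.Near.bc sq (hg₀.symm ▸ ⟨W, hg, inferInstance⟩))

end Groth.Agent.S5340
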