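import Groth.Statements.S5342
import Groth.Agent.VarietyBC.Components

set_option autoImplicit false
universe u
open CategoryTheory CategoryTheory.Limits MonoidalCategory CartesianMonoidalCategory MonObj GrpObj AlgebraicGeometry
open SGA3

namespace Groth.Agent.S5342



/-- A connected scheme over a field with a rational point is geometrically connected. -/
theorem geometricallyConnected_of_section (k : Type u) [Field k] (X : Scheme.{u})
    (f : X ⟶ Spec (CommRingCat.of k)) [ConnectedSpace X]
    (x : Spec (CommRingCat.of k) ⟶ X) (hx : x ≫ f = 𝟙 _) : GeometricallyConnected f := by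
  letI : X.Over (Spec (CommRingCat.of k)) := ⟨f⟩
  refine (Groth.VarietyBC.geometricallyConnected_iff_forall (k := k) (X := X)).mpr fun K _ _ => ?_
  let φ := Spec.map (CommRingCat.ofHom (algebraMap k K))
  let s : Spec (CommRingCat.of K) ⟶ Curv2.bc k X K := pullback.lift (φ ≫ x) (𝟙 _)
    (by rw [Category.assoc]; exact (congrArg (φ ≫ ·) hx).trans ((Category.comp_id φ).trans (Category.id_comp φ).symm))
  let x₀ : X := x default
  let z₀ : Curv2.bc k X K := s default
  have hpt : ∀ y : Curv2.bc k X K, Curv2.bcFst k X K y = x₀ → y = z₀ := by
    intro y hy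
    have hmem : y ∈ Set.range (pullback.fst (Curv2.bcFst k X K) x) := by
      rw [Scheme.Pullback.range_fst]
      exact ⟨default, hy.symm⟩
    obtain ⟨w, rfl⟩ := hmem
    have he : pullback.fst (Curv2.bcFst k X K) x =
        (pullback.fst (Curv2.bcFst k X K) x ≫ Curv2.bcSnd k X K) ≫ s := by
      apply pullback.hom_ext
      · have h2 : (pullback.fst (Curv2.bcFst k X K) x ≫ Curv2.bcSnd k X K) ≫ φ =
            pullback.snd (Curv2.bcFst k X K) x := by
          rw [Category.assoc, ← pullback.condition, ← Category.assoc, pullback.condition,
            Category.assoc]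
          exact (congrArg _ hx).trans (Category.comp_id _)
        simp only [s, Category.assoc, pullback.lift_fst]
        rw [pullback.condition, ← h2]
        simp only [Category.assoc]
      · simp only [s, Category.assoc, pullback.lift_snd, Category.comp_id]
    rw [he, Scheme.Hom.comp_apply]
    exact congrArg s (Subsingleton.elim _ _)
  have hcomp : ∀ y : Curv2.bc k X K, z₀ ∈ connectedComponent y := fun y => by
    have h := Groth.VarietyBC.image_connectedComponent_bcFst (k := k) (X := X) K y
    obtain ⟨z, hz, hz'⟩ : x₀ ∈ Curv2.bcFst k X K '' connectedComponent y := by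
      rw [h, PreconnectedSpace.connectedComponent_eq_univ]; trivial
    exact hpt z hz' ▸ hz
  exact connectedSpace_iff_connectedComponent.2 ⟨z₀, Set.eq_univ_of_forall fun y => by
    rw [← connectedComponent_eq (hcomp y)]
    exact mem_connectedComponent⟩

/-- Let X and Y be connected schemes over a field k such that X has a k-rational point (a section of X →
Spec k). Then X ×_k Y is connected. -/
theorem result (k : Type u) [Field k] (X Y : Scheme.{u})
    (f : X ⟶ Spec (CommRingCat.of k)) (g : Y ⟶ Spec (CommRingCat.of k)) [ConnectedSpace X] [ConnectedSpace Y]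
    (x : Spec (CommRingCat.of k) ⟶ X) (hx : x ≫ f = 𝟙 _) : ConnectedSpace ↥(pullback f g) := by
  haveI : UniversallyOpen f := inferInstance
  haveI : GeometricallyConnected f := geometricallyConnected_of_section k X f x hx
  infer_instance

end Groth.Agent.S5342
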