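import Groth.Statements.S5343


set_option autoImplicit false
universe u
open CategoryTheory CategoryTheory.Limits MonoidalCategory CartesianMonoidalCategory MonObj GrpObj AlgebraicGeometry
open SGA3

namespace Groth.Agent.S5343

/-- Let R be a commutative ring and B a commutative R-algebra which is projective as an R-module. Then
the image of Spec B → Spec R is an open and closed subset of Spec R. (The published statement
concerns a quasi-coherent algebra on any scheme which is a direct summand of a free module; this row
is the affine case.) -/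
theorem result (R B : Type u) [CommRing R] [CommRing B] [Algebra R B] [Module.Projective R B] :
    IsClopen (Set.range (PrimeSpectrum.comap (algebraMap R B))) := by
  classical
  obtain ⟨i, hi⟩ := (Module.projective_def'.mp ‹Module.Projective R B›)
  set r : (B →₀ R) →ₗ[R] B := Finsupp.linearCombination R id with hr
  have hri : ∀ b, r (i b) = b := fun b => LinearMap.congr_fun hi b
  let c : Ideal R := Ideal.span (Set.range fun b : B => i 1 b)
  have hc_fg : c.FG := by
    refine ⟨(i 1).support.image fun b => i 1 b, ?_⟩
    apply le_antisymm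
    · exact Ideal.span_mono (by intro x hx; simp only [Finset.coe_image, Set.mem_image] at hx; obtain ⟨b, _, rfl⟩ := hx; exact ⟨b, rfl⟩)
    · rw [Submodule.span_le]
      rintro _ ⟨b, rfl⟩
      by_cases hb : i 1 b = 0
      · simp [hb]
      · exact Submodule.subset_span (by simpa using ⟨b, hb, rfl⟩)
  have hone : (1 : B) = (i 1).sum fun b a => a • b := by
    conv_lhs => rw [← hri 1]
    rw [hr, Finsupp.linearCombination_apply]
    rfl
  have hfun : ∀ (x : B) (φ : B →ₗ[R] R), φ x ∈ c := by
    intro x φ
    have h1 : x = (i 1).sum fun b a => a • (x * b) := by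
      conv_lhs => rw [← mul_one x, hone, Finsupp.sum, Finset.mul_sum]
      simp [Finsupp.sum]
    rw [h1, map_finsuppSum]
    refine Submodule.sum_mem _ fun b _ => ?_
    simp only [map_smul, smul_eq_mul]
    exact c.mul_mem_right _ (Ideal.subset_span ⟨b, rfl⟩)
  have hidem : IsIdempotentElem c := by
    refine le_antisymm Ideal.mul_le_left ?_
    rw [Ideal.span_le]
    rintro _ ⟨b, rfl⟩
    change (Finsupp.lapply b : (B →₀ R) →ₗ[R] R) (i 1) ∈ c * c
    rw [hone, map_finsuppSum, map_finsuppSum]
    refine Submodule.sum_mem _ fun d _ => ?_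
    simp only [map_smul, smul_eq_mul]
    exact Ideal.mul_mem_mul (Ideal.subset_span ⟨d, rfl⟩)
      (hfun d ((Finsupp.lapply b).comp i))
  obtain ⟨e, he, hce⟩ := (Ideal.isIdempotentElem_iff_of_fg c hc_fg).mp hidem
  have hrange : Set.range (PrimeSpectrum.comap (algebraMap R B)) =
      (PrimeSpectrum.basicOpen e : Set (PrimeSpectrum R)) := by
    ext p
    rw [PrimeSpectrum.mem_range_comap_iff, SetLike.mem_coe, PrimeSpectrum.mem_basicOpen]
    have hiff : e ∈ p.asIdeal ↔ c ≤ p.asIdeal := by
      rw [hce]
      exact (Submodule.span_singleton_le_iff_mem _ _).symm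
    rw [hiff]
    constructor
    · intro h hcp
      refine p.2.ne_top ?_
      rw [← h, Ideal.eq_top_iff_one, Ideal.mem_comap, map_one, hone]
      refine Submodule.sum_mem _ fun b _ => ?_
      simp only [Algebra.smul_def]
      exact Ideal.mul_mem_right _ _ (Ideal.mem_map_of_mem _ (hcp (Ideal.subset_span ⟨b, rfl⟩)))
    · intro h
      refine le_antisymm ?_ Ideal.le_comap_map
      intro x hx
      obtain ⟨_, ⟨b, rfl⟩, hb⟩ : ∃ y ∈ Set.range (fun b : B => i 1 b), y ∉ p.asIdeal := by
        by_contra hcon
        push Not at hcon
        exact h (Ideal.span_le.mpr hcon)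
      rw [Ideal.mem_comap] at hx
      have h1 : ((Finsupp.lapply b).comp i) (algebraMap R B x) ∈ p.asIdeal := by
        have hx' : algebraMap R B x ∈ (p.asIdeal.map (algebraMap R B)).restrictScalars R := hx
        rw [← Ideal.smul_top_eq_map] at hx'
        refine Submodule.smul_induction_on hx' (fun a ha m _ => ?_) (fun y z hy hz => ?_)
        · rw [map_smul, smul_eq_mul]
          exact Ideal.mul_mem_right _ _ ha
        · rw [map_add]
          exact add_mem hy hz
      rw [Algebra.algebraMap_eq_smul_one, map_smul, smul_eq_mul] at h1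
      exact (p.2.mem_or_mem h1).resolve_right hb
  rw [hrange]
  exact PrimeSpectrum.isClopen_iff.mpr ⟨e, he, rfl⟩

end Groth.Agent.S5343
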