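import Groth.Statements.S5348
import Groth.Agent.GrpschSep.AnyTypeField
import Groth.Agent.GrpschAbsch.FibreFlat
import Groth.Prelude.Def_ActBC

set_option autoImplicit false
universe u
open CategoryTheory CategoryTheory.Limits MonoidalCategory CartesianMonoidalCategory MonObj GrpObj AlgebraicGeometry
open SGA3

namespace Groth.Agent.S5348

/-- The base change of a transitive action to a field has one maximal generalisation at each point. -/
theorem uniqueMax_bc {k : Type u} [Field k] {G X : Over (Spec (CommRingCat.of k))} [GrpObj G]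
    (a : AlgGrp.Action G X) (hΦ : Surjective (lift a.act (snd G X)).left) (K : Type u) [Field K]
    (t : Spec (CommRingCat.of K) ⟶ Spec (CommRingCat.of k)) :
    Groth.GrpschSep.UniqueMax ↥(pullback X.hom t) := by
  haveI : Surjective ((Over.pullback t).map (lift a.act (snd G X))).left :=
    MorphismProperty.of_isPullback (P := @Surjective)
      (Groth.GrpschAbsch.FibreFlat.isPullback_map t (lift a.act (snd G X))) hΦ
  refine Groth.GrpschSep.uniqueMax_action (a.bc t) ?_
  have e : lift (a.bc t).act (snd (Red.bc t G) (Red.bc t X)) ≫ Functor.LaxMonoidal.μ (Over.pullback t) X X =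
      Functor.LaxMonoidal.μ (Over.pullback t) G X ≫ (Over.pullback t).map (lift a.act (snd G X)) := by
    have h : snd (Red.bc t G) (Red.bc t X) =
        Functor.LaxMonoidal.μ (Over.pullback t) G X ≫ (Over.pullback t).map (snd G X) :=
      (Functor.Monoidal.μ_snd (Over.pullback t) G X).symm
    rw [h, AlgGrp.Action.bc_act, ← comp_lift_assoc, Functor.Monoidal.lift_μ]
  have e' := congrArg (fun φ => φ ≫ inv (Functor.LaxMonoidal.μ (Over.pullback t) X X)) e
  simp only [Category.assoc, IsIso.hom_inv_id, Category.comp_id] at e'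
  rw [e', Over.comp_left, Over.comp_left]
  infer_instance

/-- Let G be a group scheme over a field k (not assumed of finite type) acting on a k-scheme X so that
the morphism G ×_k X → X ×_k X, (g, x) ↦ (gx, x), is surjective. (i) For every field extension K of
k, every point of X ⊗_k K lies in exactly one irreducible component of X ⊗_k K. (iv) If x is a
k-rational point of X and C the irreducible component of X containing x, then for every field
extension K of k the inverse image of C in X ⊗_k K is irreducible. -/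
theorem result (k : Type u) [Field k] (G X : Over (Spec (CommRingCat.of k))) [GrpObj G] (a : AlgGrp.Action G X) (hΦ : Surjective (lift a.act (snd G X)).left) :
    (∀ (K : Type u) [Field K] [Algebra k K] (z : ↥(pullback X.hom (Spec.map (CommRingCat.ofHom (algebraMap k K))))),
      ∃! C, C ∈ irreducibleComponents ↥(pullback X.hom (Spec.map (CommRingCat.ofHom (algebraMap k K)))) ∧ z ∈ C) ∧
    (∀ (x : 𝟙_ (Over (Spec (CommRingCat.of k))) ⟶ X) (pt : ↥(𝟙_ (Over (Spec (CommRingCat.of k)))).left) (C : Set X.left),
      C ∈ irreducibleComponents ↥X.left → x.left.base pt ∈ C →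
      ∀ (K : Type u) [Field K] [Algebra k K],
        IsIrreducible ((pullback.fst X.hom (Spec.map (CommRingCat.ofHom (algebraMap k K)))).base ⁻¹' C)) := by
  refine ⟨fun K _ _ z => ?_, fun x pt C hC hxC K _ _ => ?_⟩
  · have hU := uniqueMax_bc a hΦ K (Spec.map (CommRingCat.ofHom (algebraMap k K)))
    obtain ⟨m, hmz, hm⟩ := Groth.GrpschSep.exists_isMaxPt z
    refine ⟨closure {m}, ⟨hm.closure_mem_irreducibleComponents, specializes_iff_mem_closure.mp hmz⟩, ?_⟩
    rintro C ⟨hC, hzC⟩
    obtain ⟨m', hm', rfl⟩ := Groth.GrpschSep.exists_maxPt_of_irreducibleComponent hC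
    rw [hU z m' m hm' hm (specializes_iff_mem_closure.mpr hzC) hmz]
  obtain ⟨ξ, hξ, rfl⟩ := Groth.GrpschSep.exists_maxPt_of_irreducibleComponent hC
  have hξx : ξ ⤳ x.left pt := specializes_iff_mem_closure.mpr hxC
  let L := AlgebraicClosure K
  let s : Spec (CommRingCat.of K) ⟶ Spec (CommRingCat.of k) :=
    Spec.map (CommRingCat.ofHom (algebraMap k K))
  let e : Spec (CommRingCat.of L) ⟶ Spec (CommRingCat.of K) :=
    Spec.map (CommRingCat.ofHom (algebraMap K L))
  let T0 : Over (Spec (CommRingCat.of k)) := Over.mk (Groth.GrpschSep.closureBase k)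
  let T : Over (Spec (CommRingCat.of k)) := Over.mk (e ≫ s)
  obtain ⟨σ⟩ := Groth.GrpschSep.nonempty_closure_hom (e ≫ s)
  let q : (X ⊗ T).left ⟶ pullback X.hom s := pullback.lift (fst X T).left ((snd X T).left ≫ e)
    (by rw [Category.assoc]; exact (Groth.AlgGrp2.isPullback_fst_snd X T).w)
  have hq1 : q ≫ pullback.fst X.hom s = (fst X T).left := pullback.lift_fst _ _ _
  have hqp : IsPullback q (snd X T).left (pullback.snd X.hom s) e :=
    IsPullback.of_right (hq1 ▸ Groth.AlgGrp2.isPullback_fst_snd X T) (pullback.lift_snd _ _ _)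
      (IsPullback.of_hasPullback X.hom s)
  haveI : Surjective q := MorphismProperty.of_isPullback (P := @Surjective) hqp.flip
    ⟨fun p => ⟨IsLocalRing.closedPoint L, Subsingleton.elim _ _⟩⟩
  haveI : Flat q := MorphismProperty.of_isPullback (P := @Flat) hqp.flip inferInstance
  haveI : IsIntegralHom (fst X T0).left := by
    refine MorphismProperty.of_isPullback (P := (@IsIntegralHom : MorphismProperty Scheme.{u}))
      (Groth.AlgGrp2.isPullback_fst_snd X T0).flip ?_
    show IsIntegralHom (Spec.map _)
    rw [IsIntegralHom.SpecMap_iff]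
    exact fun x => (Algebra.IsAlgebraic.isAlgebraic x).isIntegral
  have hU0 : Groth.GrpschSep.UniqueMax (X ⊗ T0).left :=
    uniqueMax_bc a hΦ (AlgebraicClosure k) (Groth.GrpschSep.closureBase k)
  let x0 : T0 ⟶ X := toUnit T0 ≫ x
  let z0 := (lift x0 (𝟙 T0)).left (IsLocalRing.closedPoint (AlgebraicClosure k))
  have hz0 : ∀ z, (fst X T0).left z = x.left pt → z = z0 := by
    intro z hz
    have hmem : z ∈ Set.range (pullback.fst (fst X T0).left x.left) := by
      rw [Scheme.Pullback.range_fst]
      exact ⟨pt, hz.symm⟩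
    obtain ⟨w, rfl⟩ := hmem
    let R : Over (Spec (CommRingCat.of k)) :=
      Over.mk (pullback.fst (fst X T0).left x.left ≫ (X ⊗ T0).hom)
    let j : R ⟶ X ⊗ T0 := Over.homMk (pullback.fst (fst X T0).left x.left) rfl
    let r : R ⟶ 𝟙_ (Over (Spec (CommRingCat.of k))) :=
      Over.homMk (pullback.snd (fst X T0).left x.left) (by
        show _ ≫ (𝟙_ (Over (Spec (CommRingCat.of k)))).hom = _ ≫ (X ⊗ T0).hom
        rw [← Over.w x, ← Category.assoc, ← pullback.condition, Category.assoc, Over.w (fst X T0)])
    have hj : j ≫ fst X T0 = r ≫ x := Over.OverMorphism.ext pullback.condition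
    have he : j = (j ≫ snd X T0) ≫ lift x0 (𝟙 _) := by
      apply CartesianMonoidalCategory.hom_ext
      · simp only [Category.assoc, lift_fst, hj, x0]
        simp only [← Category.assoc]
        exact congrArg (· ≫ x) (toUnit_unique _ _)
      · simp
    show j.left w = _
    rw [he, Over.comp_left, Scheme.Hom.comp_apply]
    exact congrArg (lift x0 (𝟙 T0)).left
      (Subsingleton.elim (α := ↥(Spec (CommRingCat.of (AlgebraicClosure k)))) _ _)
  have lvl : ∀ n : (X ⊗ T).left, Groth.GrpschSep.IsMaxPt n → (fst X T).left n = ξ →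
      (X ◁ σ).left n ⤳ z0 := by
    intro n _ hn
    have hb : (fst X T0).left ((X ◁ σ).left n) = ξ := by
      rw [← Scheme.Hom.comp_apply, ← Over.comp_left, whiskerLeft_fst, hn]
    obtain ⟨z, hzb, hz⟩ := closure_minimal (s := {ξ}) (t := (fst X T0).left '' closure {(X ◁ σ).left n})
      (Set.singleton_subset_iff.mpr ⟨_, subset_closure rfl, hb⟩)
      ((fst X T0).left.isClosedMap _ isClosed_closure) (specializes_iff_mem_closure.mp hξx)
    exact hz0 z hz ▸ specializes_iff_mem_closure.mpr hzb
  have uniq : ∀ n n' : (X ⊗ T).left, Groth.GrpschSep.IsMaxPt n → Groth.GrpschSep.IsMaxPt n' →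
      (fst X T).left n = ξ → (fst X T).left n' = ξ → n = n' := fun n n' hn hn' h h' =>
    Groth.GrpschSep.eq_of_map_closure X σ hn hn'
      (hU0 z0 _ _ (hn.map_flat _) (hn'.map_flat _) (lvl n hn h) (lvl n' hn' h'))
  -- every point over the component generalises to a maximal point over its generic point
  have gen : ∀ p ∈ (pullback.fst X.hom s).base ⁻¹' closure {ξ},
      ∃ n : (X ⊗ T).left, Groth.GrpschSep.IsMaxPt n ∧ (fst X T).left n = ξ ∧ q n ⤳ p := by
    intro p hp
    obtain ⟨n₀, rfl⟩ := q.surjective p
    obtain ⟨n, hn0, hn⟩ := Groth.GrpschSep.exists_isMaxPt n₀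
    refine ⟨n, hn, ?_, hn0.map q.continuous⟩
    refine Groth.GrpschSep.uniqueMax_action a hΦ ((fst X T).left n₀) _ _ (hn.map_flat _) hξ
      (hn0.map (fst X T).left.continuous) ?_
    rw [← hq1, Scheme.Hom.comp_apply]
    exact specializes_iff_mem_closure.mpr hp
  obtain ⟨p₀, hp₀⟩ : ((pullback.fst X.hom s).base ⁻¹' closure {ξ}).Nonempty := by
    haveI : Surjective (pullback.fst X.hom s) :=
      MorphismProperty.of_isPullback (P := @Surjective) (IsPullback.of_hasPullback X.hom s).flip
        ⟨fun p => ⟨IsLocalRing.closedPoint K, Subsingleton.elim _ _⟩⟩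
    obtain ⟨p, hp⟩ := (pullback.fst X.hom s).surjective ξ
    exact ⟨p, hp.symm ▸ subset_closure rfl⟩
  obtain ⟨n, hn, hnξ, -⟩ := gen p₀ hp₀
  have key : (pullback.fst X.hom s).base ⁻¹' closure {ξ} = closure {q n} := by
    refine Set.Subset.antisymm (fun p hp => ?_) ?_
    · obtain ⟨n', hn', hn'ξ, hp'⟩ := gen p hp
      exact specializes_iff_mem_closure.mp (uniq n' n hn' hn hn'ξ hnξ ▸ hp')
    · refine closure_minimal (Set.singleton_subset_iff.mpr ?_)
        (isClosed_closure.preimage (pullback.fst X.hom s).continuous)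
      show (q ≫ pullback.fst X.hom s) n ∈ closure {ξ}
      rw [hq1, hnξ]
      exact subset_closure rfl
  rw [key]
  exact isIrreducible_singleton.closure

end Groth.Agent.S5348
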