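import Groth.Statements.S5352
import Groth.Agent.AlgGrpAb.Category
import Groth.Agent.AlgGrp1.AffineQuot

set_option autoImplicit false
universe u
open CategoryTheory CategoryTheory.Limits MonoidalCategory CartesianMonoidalCategory MonObj GrpObj AlgebraicGeometry
open SGA3

namespace Groth.Agent.S5352

/-- Let k be a field. The category of commutative affine algebraic k-groups (commutative group objects
in k-schemes whose underlying scheme is affine and of finite type over k, as a full subcategory of
commutative group objects over Spec k) is an abelian category. -/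
theorem result (k : Type u) [Field k] :
    Nonempty (Abelian (ObjectProperty.FullSubcategory
      (fun G : CommGrp (Over (Spec (CommRingCat.of k))) => LocallyOfFiniteType G.X.hom ∧ QuasiCompact G.X.hom ∧ IsAffine G.X.left))) :=
  Groth.AlgGrpAb.nonempty_abelian
    { lft := fun _ h => ⟨h.1, h.2.1⟩
      trivial := ⟨inferInstanceAs (LocallyOfFiniteType (𝟙 _)), inferInstanceAs (QuasiCompact (𝟙 _)),
        inferInstanceAs (IsAffine (Spec _))⟩
      prod := fun G H ⟨a, b, e⟩ ⟨c, d, f⟩ => ⟨inferInstanceAs (LocallyOfFiniteType (pullback.fst G.X.hom H.X.hom ≫ G.X.hom)),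
        inferInstanceAs (QuasiCompact (pullback.fst G.X.hom H.X.hom ≫ G.X.hom)),
        inferInstanceAs (IsAffine (pullback G.X.hom H.X.hom))⟩
      closed := fun K G i hi ⟨a, b, e⟩ => ⟨by rw [← Over.w i]; infer_instance, by rw [← Over.w i]; infer_instance,
        isAffine_of_isAffineHom i.left⟩
      quot := fun G Q q hq hc h1 h2 ⟨a, b, e⟩ =>
        haveI := hc.flat
        haveI := hc.surj
        ⟨h1, h2, Groth.AlgGrp1.isAffine_of_quotient q⟩ }

end Groth.Agent.S5352
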