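import Groth.Statements.S5354
import Groth.Agent.GrpschSep.AnyTypeField

set_option autoImplicit false
universe u
open CategoryTheory CategoryTheory.Limits MonoidalCategory CartesianMonoidalCategory MonObj GrpObj AlgebraicGeometry
open SGA3

namespace Groth.Agent.S5354

/-- Let G be a group scheme over a field k (not assumed of finite type). For every point x of G there is
a point z of G ×_k G with product x whose two projections are maximal points of G (generic points of
irreducible components). -/
theorem result (k : Type u) [Field k] (G : Over (Spec (CommRingCat.of k))) [GrpObj G] (x : G.left) :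
    ∃ z : ↥(G ⊗ G).left, μ[G].left.base z = x ∧
      closure {(fst G G).left.base z} ∈ irreducibleComponents ↥G.left ∧
      closure {(snd G G).left.base z} ∈ irreducibleComponents ↥G.left := by
  obtain ⟨K, _, _, t, gT, hg⟩ := Groth.GrpschSep.exists_geomPoint G x
  let e1 := Groth.GrpschSep.unitPt G t
  obtain ⟨m, -, hm⟩ := Groth.GrpschSep.exists_isMaxPt e1
  let b : G ⊗ Over.mk t ⟶ G := (fst _ _)⁻¹ * (snd _ _ ≫ gT)
  let y : G ⊗ Over.mk t ⟶ G ⊗ G := lift (fst _ _) b
  let L : G ⊗ Over.mk t ≅ G ⊗ Over.mk t :=
    { hom := lift b (snd _ _)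
      inv := lift ((snd _ _ ≫ gT) * (fst _ _)⁻¹) (snd _ _)
      hom_inv_id := by
        apply CartesianMonoidalCategory.hom_ext <;> simp [b, MonObj.comp_mul, GrpObj.comp_inv]
      inv_hom_id := by
        apply CartesianMonoidalCategory.hom_ext <;> simp [b, MonObj.comp_mul, GrpObj.comp_inv] }
  haveI : IsIso L.hom.left := ((Over.forget _).mapIso L).isIso_hom
  refine ⟨y.left m, ?_, ?_, ?_⟩
  · have h : y ≫ μ[G] = snd _ _ ≫ gT := by
      rw [show y ≫ μ[G] = fst _ _ * b from rfl]; simp [b]
    rw [← Scheme.Hom.comp_apply, ← Over.comp_left, h, ← hg, Over.comp_left, Scheme.Hom.comp_apply]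
    exact congrArg gT.left (Subsingleton.elim (α := ↥(Spec (CommRingCat.of K))) _ _)
  · refine (?_ : Groth.GrpschSep.IsMaxPt _).closure_mem_irreducibleComponents
    rw [← Scheme.Hom.comp_apply, ← Over.comp_left, show y ≫ fst _ _ = fst _ _ from lift_fst _ _]
    exact hm.map_flat _
  · refine (?_ : Groth.GrpschSep.IsMaxPt _).closure_mem_irreducibleComponents
    rw [← Scheme.Hom.comp_apply, ← Over.comp_left, show y ≫ snd _ _ = b from lift_snd _ _,
      show b = L.hom ≫ fst _ _ from (lift_fst _ _).symm, Over.comp_left, Scheme.Hom.comp_apply]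
    exact (hm.map_flat L.hom.left).map_flat _

end Groth.Agent.S5354
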