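import Groth.Statements.S5355
import Groth.Agent.GrpschLoci.OrbitFlatAt
import Groth.Agent.GrpschAbsch.FibreFlat
import Groth.Agent.GrpschSep.AnyTypeField
import Groth.Agent.PropsBasic2.SchTop
import Groth.Agent.S5354

set_option autoImplicit false
universe u
open CategoryTheory CategoryTheory.Limits MonoidalCategory CartesianMonoidalCategory MonObj GrpObj AlgebraicGeometry
open SGA3

namespace Groth.Agent.S5355

/-- Let f : G → H be a homomorphism of group schemes over a field k (not assumed of finite type) which
is quasi-compact and dominant. Then (i) f is surjective; (ii) if H is reduced, f is flat (hence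
faithfully flat). -/
theorem result (k : Type u) [Field k] (G H : Over (Spec (CommRingCat.of k))) [GrpObj G] [GrpObj H]
    (f : G ⟶ H) [IsMonHom f] [QuasiCompact f.left] (hf : DenseRange f.left.base) :
    Surjective f.left ∧ (IsReduced H.left → Flat f.left) := by
  have hmax : ∀ m : H.left, closure {m} ∈ irreducibleComponents ↥H.left → m ∈ Set.range f.left := by
    intro m hm
    obtain ⟨g, hg⟩ := Groth.PropsBasic2.exists_specializes_of_mem_closure_range f.left (hf m)
    exact ⟨g, (Groth.PropsBasic2.closure_mem_irreducibleComponents_iff m).1 hm _ hg⟩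
  have hsurj : Surjective f.left := ⟨fun h => by
    obtain ⟨z, hz, h1, h2⟩ := Groth.Agent.S5354.result k H h
    have hmem : z ∈ Set.range (pullback.map G.hom G.hom H.hom H.hom f.left f.left
        (𝟙 (Spec (CommRingCat.of k))) (by simp) (by simp)) := by
      rw [Scheme.Pullback.range_map]
      exact ⟨hmax _ h1, hmax _ h2⟩
    obtain ⟨w, hw⟩ := hmem
    refine ⟨μ[G].left w, ?_⟩
    have e : μ[G] ≫ f = (f ⊗ₘ f) ≫ μ[H] := IsMonHom.mul_hom _
    have e' : (f ⊗ₘ f).left = pullback.map G.hom G.hom H.hom H.hom f.left f.left
        (𝟙 (Spec (CommRingCat.of k))) (by simp) (by simp) := by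
      apply (Groth.AlgGrp2.isPullback_fst_snd H H).hom_ext
      · rw [← Over.comp_left, tensorHom_fst]
        exact (pullback.lift_fst _ _ _).symm
      · rw [← Over.comp_left, tensorHom_snd]
        exact (pullback.lift_snd _ _ _).symm
    rw [← Scheme.Hom.comp_apply, ← Over.comp_left, e, Over.comp_left, Scheme.Hom.comp_apply, ← hz]
    exact congrArg μ[H].left ((congr(($e').base w)).trans hw)⟩
  refine ⟨hsurj, fun hred => ?_⟩
  rcases isEmpty_or_nonempty G.left with hG | ⟨⟨g₀⟩⟩
  · exact Flat.of_stalkMap _ fun x => isEmptyElim x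
  obtain ⟨m, -, hm⟩ := Groth.GrpschSep.exists_isMaxPt (f.left g₀)
  obtain ⟨g, hg⟩ := f.left.surjective m
  have hfld : IsField (H.left.presheaf.stalk m) :=
    isField_stalk_of_closure_mem_irreducibleComponents H.left m hm.closure_mem_irreducibleComponents
  let a : AlgGrp.Action G H :=
    { act := (f ▷ H) ≫ μ[H]
      one_act := by
        rw [← Category.assoc, ← MonoidalCategory.comp_whiskerRight, IsMonHom.one_hom]
        exact MonObj.one_mul H
      mul_act := by
        have hact : (f ▷ H) ≫ μ[H] = (fst G H ≫ f) * snd G H := by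
          rw [Hom.mul_def]
          congr 1
        have hμ : μ[G] = fst G G * snd G G := by simp [Hom.mul_def]
        rw [hact]
        simp only [MonObj.comp_mul, whiskerRight_fst_assoc, whiskerRight_snd, whiskerLeft_fst_assoc,
          whiskerLeft_snd_assoc, whiskerLeft_snd]
        rw [hμ]
        simp [MonObj.mul_comp, MonObj.comp_mul, _root_.mul_assoc] }
  have he : a.orbitMap η[H] = f := by
    show lift (𝟙 G) (toUnit G ≫ η[H]) ≫ (f ▷ H) ≫ μ[H] = f
    rw [← Category.assoc, lift_whiskerRight, Category.id_comp, ← Hom.mul_def, ← Hom.one_def, _root_.mul_one]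
  have hfl : ((a.orbitMap η[H]).left.stalkMap g).hom.Flat := by
    rw [he]; exact Groth.GrpschAbsch.FibreFlat.flat_at_of_isField f.left g (hg.symm ▸ hfld)
  haveI : Subsingleton ↥(Spec (CommRingCat.of k)) := inferInstance
  rw [← he]
  exact Flat.of_stalkMap _ fun x =>
    Groth.GrpschLoci.flat_orbitMap_at a η[H] (Subsingleton.elim _ _) hfl

end Groth.Agent.S5355
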