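import Groth.Statements.S5358
import Groth.Agent.Agf.ClosedCondition
import Groth.Agent.Agf.ClosedSubgroup
import Groth.Agent.Agf.SubobjGrp

set_option autoImplicit false
universe u
open CategoryTheory CategoryTheory.Limits MonoidalCategory CartesianMonoidalCategory MonObj GrpObj AlgebraicGeometry
open SGA3

namespace Groth.Agent.S5358

variable {k : Type u} [Field k] {G : Over (Spec (CommRingCat.of k))} [GrpObj G]

theorem transporter {Y Y' : Over (Spec (CommRingCat.of k))} (y : Y ⟶ G) [IsClosedImmersion y.left] (y' : Y' ⟶ G) :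
    ∃ (T : Over (Spec (CommRingCat.of k))) (t : T ⟶ G), IsClosedImmersion t.left ∧
      ∀ (S' : Over (Spec (CommRingCat.of k))) (g : S' ⟶ G), (∃ z : S' ⟶ T, z ≫ t = g) ↔
        ∀ (S'' : Over (Spec (CommRingCat.of k))) (s : S'' ⟶ S') (x : S'' ⟶ Y'),
          ∃ x' : S'' ⟶ Y, (s ≫ g) * (x ≫ y') * (s ≫ g)⁻¹ = x' ≫ y := by
  obtain ⟨E, c, hc, hE⟩ := Groth.Agf.exists_preimage (fst G Y' * (snd G Y' ≫ y') * (fst G Y')⁻¹) y
  obtain ⟨Z, z, hz, hZ⟩ := Groth.Agf.exists_factorsTimes c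
  refine ⟨Z, z, hz, fun S' g => ⟨fun hg S'' s x => ?_, fun hg => (hZ S' g).2 fun W t x => ?_⟩⟩
  · have := (hE _ _).1 ((hZ S' g).1 hg S'' s x)
    simpa [MonObj.comp_mul, GrpObj.comp_inv] using this
  · exact (hE _ _).2 (by simpa [MonObj.comp_mul, GrpObj.comp_inv] using hg W t x)

theorem transporter_inv {Y Y' : Over (Spec (CommRingCat.of k))} (y : Y ⟶ G) (y' : Y' ⟶ G) [IsClosedImmersion y'.left] :
    ∃ (T : Over (Spec (CommRingCat.of k))) (t : T ⟶ G), IsClosedImmersion t.left ∧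
      ∀ (S' : Over (Spec (CommRingCat.of k))) (g : S' ⟶ G), (∃ z : S' ⟶ T, z ≫ t = g) ↔
        ∀ (S'' : Over (Spec (CommRingCat.of k))) (s : S'' ⟶ S') (x' : S'' ⟶ Y),
          ∃ x : S'' ⟶ Y', (s ≫ g)⁻¹ * (x' ≫ y) * (s ≫ g) = x ≫ y' := by
  obtain ⟨E, c, hc, hE⟩ := Groth.Agf.exists_preimage ((fst G Y)⁻¹ * (snd G Y ≫ y) * fst G Y) y'
  obtain ⟨Z, z, hz, hZ⟩ := Groth.Agf.exists_factorsTimes c
  refine ⟨Z, z, hz, fun S' g => ⟨fun hg S'' s x => ?_, fun hg => (hZ S' g).2 fun W t x => ?_⟩⟩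
  · have := (hE _ _).1 ((hZ S' g).1 hg S'' s x)
    simpa [MonObj.comp_mul, GrpObj.comp_inv] using this
  · exact (hE _ _).2 (by simpa [MonObj.comp_mul, GrpObj.comp_inv] using hg W t x)

theorem strict {Y Y' : Over (Spec (CommRingCat.of k))} (y : Y ⟶ G) [IsClosedImmersion y.left] (y' : Y' ⟶ G)
    [IsClosedImmersion y'.left] :
      ∃ (T : Over (Spec (CommRingCat.of k))) (t : T ⟶ G), IsClosedImmersion t.left ∧
      ∀ (S' : Over (Spec (CommRingCat.of k))) (g : S' ⟶ G), (∃ z : S' ⟶ T, z ≫ t = g) ↔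
        ((∀ (S'' : Over (Spec (CommRingCat.of k))) (s : S'' ⟶ S') (x : S'' ⟶ Y'),
          ∃ x' : S'' ⟶ Y, (s ≫ g) * (x ≫ y') * (s ≫ g)⁻¹ = x' ≫ y) ∧
        (∀ (S'' : Over (Spec (CommRingCat.of k))) (s : S'' ⟶ S') (x' : S'' ⟶ Y),
          ∃ x : S'' ⟶ Y', (s ≫ g)⁻¹ * (x' ≫ y) * (s ≫ g) = x ≫ y')) := by
  obtain ⟨Z₁, z₁, hz₁, hZ₁⟩ := transporter y y'
  obtain ⟨Z₂, z₂, hz₂, hZ₂⟩ := transporter_inv y y'
  obtain ⟨E, c, hc, hE⟩ := Groth.Agf.exists_preimage z₁ z₂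
  refine ⟨E, c ≫ z₁, ?_, fun S' g => ⟨?_, fun ⟨h1, h2⟩ => ?_⟩⟩
  · show IsClosedImmersion (c.left ≫ z₁.left)
    infer_instance
  · rintro ⟨e, rfl⟩
    obtain ⟨x', hx'⟩ := (hE _ (e ≫ c)).1 ⟨e, rfl⟩
    exact ⟨(hZ₁ _ _).1 ⟨e ≫ c, Category.assoc ..⟩, (hZ₂ _ _).1 ⟨x', by rw [← hx', Category.assoc]⟩⟩
  · obtain ⟨a, rfl⟩ := (hZ₁ _ _).2 h1
    obtain ⟨b, hb⟩ := (hZ₂ _ _).2 h2
    obtain ⟨e, rfl⟩ := (hE _ a).2 ⟨b, hb.symm⟩
    exact ⟨e, (Category.assoc ..).symm⟩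

/-- Let G be a group scheme over a field k, y' : Y' → G an immersion and y : Y → G a closed immersion.
(ii) The transporter of Y' into Y, whose points with values in S' are the g such that conjugation by
g carries every point of Y' (after any base change S'' → S') into Y, is represented by a closed
subscheme of G; if y' is also a closed immersion, so is the strict transporter (g Y' g⁻¹ = Y
functorially). (iii) For every subgroup scheme h : H → G (a homomorphism which is an immersion), the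
normalizer of H in G is represented by a closed subscheme of G. -/
theorem result (k : Type u) [Field k] (G Y Y' : Over (Spec (CommRingCat.of k))) [GrpObj G]
    (y : Y ⟶ G) [IsClosedImmersion y.left] (y' : Y' ⟶ G) [IsImmersion y'.left] :
    (∃ (T : Over (Spec (CommRingCat.of k))) (t : T ⟶ G), IsClosedImmersion t.left ∧
      ∀ (S' : Over (Spec (CommRingCat.of k))) (g : S' ⟶ G), (∃ z : S' ⟶ T, z ≫ t = g) ↔
        ∀ (S'' : Over (Spec (CommRingCat.of k))) (s : S'' ⟶ S') (x : S'' ⟶ Y'),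
          ∃ x' : S'' ⟶ Y, (s ≫ g) * (x ≫ y') * (s ≫ g)⁻¹ = x' ≫ y) ∧
    (IsClosedImmersion y'.left →
      ∃ (T : Over (Spec (CommRingCat.of k))) (t : T ⟶ G), IsClosedImmersion t.left ∧
      ∀ (S' : Over (Spec (CommRingCat.of k))) (g : S' ⟶ G), (∃ z : S' ⟶ T, z ≫ t = g) ↔
        ((∀ (S'' : Over (Spec (CommRingCat.of k))) (s : S'' ⟶ S') (x : S'' ⟶ Y'),
          ∃ x' : S'' ⟶ Y, (s ≫ g) * (x ≫ y') * (s ≫ g)⁻¹ = x' ≫ y) ∧
        (∀ (S'' : Over (Spec (CommRingCat.of k))) (s : S'' ⟶ S') (x' : S'' ⟶ Y),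
          ∃ x : S'' ⟶ Y', (s ≫ g)⁻¹ * (x' ≫ y) * (s ≫ g) = x ≫ y'))) ∧
    (∀ (H : Over (Spec (CommRingCat.of k))) [GrpObj H] (h : H ⟶ G) [IsMonHom h] [IsImmersion h.left],
      ∃ (N : Over (Spec (CommRingCat.of k))) (_ : GrpObj N) (n : N ⟶ G), IsClosedImmersion n.left ∧
        Red.IsNormalizerOf h n) := by
  refine ⟨transporter y y', fun hy' => strict y y', ?_⟩
  intro H _ h _ _
  have hcl := Groth.Agf.isClosedImmersion_of_subgroup h
  obtain ⟨N, n, hn, hN⟩ := strict h h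
  have : Mono n.left := inferInstance
  have : Mono n := Over.mono_of_mono_left n
  let P : ∀ ⦃X : Over (Spec (CommRingCat.of k))⦄, (X ⟶ G) → Prop := fun X g =>
    ∀ (X' : Over (Spec (CommRingCat.of k))) (x : X' ⟶ X) (a : X' ⟶ H),
      (∃ b : X' ⟶ H, (x ≫ g) * (a ≫ h) * (x ≫ g)⁻¹ = b ≫ h) ∧
      (∃ b : X' ⟶ H, (x ≫ g)⁻¹ * (a ≫ h) * (x ≫ g) = b ≫ h)
  have hP : ∀ (X : Over (Spec (CommRingCat.of k))) (g : X ⟶ G), (∃ z : X ⟶ N, z ≫ n = g) ↔ P g := fun X g =>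
    (hN X g).trans ⟨fun hg X' x a => ⟨hg.1 X' x a, hg.2 X' x a⟩, fun hg => ⟨fun X' x a => (hg X' x a).1, fun X' x a => (hg X' x a).2⟩⟩
  obtain ⟨inst, hmon⟩ := Groth.Agf.exists_grpObj_of_subgroup n P hP
    (fun X X' x a => ⟨⟨a, by simp [MonObj.comp_one]⟩, ⟨a, by simp [MonObj.comp_one]⟩⟩)
    (fun X a b ha hb X' x c => by
      constructor
      · obtain ⟨d, hd⟩ := (hb X' x c).1
        obtain ⟨e, he⟩ := (ha X' x d).1
        refine ⟨e, ?_⟩
        rw [← he, ← hd, MonObj.comp_mul, _root_.mul_inv_rev]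
        simp only [_root_.mul_assoc]
      · obtain ⟨d, hd⟩ := (ha X' x c).2
        obtain ⟨e, he⟩ := (hb X' x d).2
        refine ⟨e, ?_⟩
        rw [← he, ← hd, MonObj.comp_mul, _root_.mul_inv_rev]
        simp only [_root_.mul_assoc])
    (fun X a ha X' x c => by
      rw [GrpObj.comp_inv, _root_.inv_inv]
      exact ⟨(ha X' x c).2, (ha X' x c).1⟩)
  exact ⟨N, inst, n, hn, hmon, inferInstance, hP⟩

end Groth.Agent.S5358
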