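import Groth.Statements.S5359
import Groth.Agent.MonoEndo.Over

set_option autoImplicit false
universe u
open CategoryTheory CategoryTheory.Limits MonoidalCategory CartesianMonoidalCategory MonObj GrpObj AlgebraicGeometry
open SGA3

namespace Groth.Agent.S5359

/-- Let G be an S-group scheme and u : X → G a monomorphism of S-schemes with X of finite presentation
over S. If a point g : T → G is such that, for every T' → T and every point x of X with values in
T', the conjugate g x g⁻¹ is again a point of X, then the same holds for g⁻¹: the transporter of X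
into X coincides with the strict transporter (the normalizer of X). -/
theorem result (S : Scheme.{u}) (G X : Over S) [GrpObj G] (u : X ⟶ G) [Mono u]
    [LocallyOfFinitePresentation X.hom] [QuasiCompact X.hom] [QuasiSeparated X.hom]
    (T : Over S) (g : T ⟶ G)
    (hg : ∀ (T' : Over S) (t : T' ⟶ T) (x : T' ⟶ X), ∃ x' : T' ⟶ X, (t ≫ g) * (x ≫ u) * (t ≫ g)⁻¹ = x' ≫ u) :
    ∀ (T' : Over S) (t : T' ⟶ T) (x : T' ⟶ X), ∃ x' : T' ⟶ X, (t ≫ g)⁻¹ * (x ≫ u) * (t ≫ g) = x' ≫ u := by
  have hF : ∃ F : T ⊗ X ⟶ X, (fst T X ≫ g) * (snd T X ≫ u) * (fst T X ≫ g)⁻¹ = F ≫ u :=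
    hg (T ⊗ X) (fst T X) (snd T X)
  obtain ⟨F, hF⟩ := hF
  have key : ∀ (T' : Over S) (t : T' ⟶ T) (x : T' ⟶ X),
      (lift t x ≫ F) ≫ u = (t ≫ g) * (x ≫ u) * (t ≫ g)⁻¹ := fun T' t x => by
    rw [Category.assoc, ← hF, MonObj.comp_mul, MonObj.comp_mul, GrpObj.comp_inv, lift_fst_assoc,
      lift_snd_assoc]
  intro T' t x
  obtain ⟨y, hy⟩ := Groth.MonoEndo.exists_preimage F (fun T'' t' a b hab => by
    rw [← cancel_mono u]
    have h := congrArg (· ≫ u) hab
    simp only [key] at h
    exact mul_left_cancel (mul_right_cancel h)) T' t x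
  refine ⟨y, ?_⟩
  have h := key T' t y
  rw [hy] at h
  rw [h]
  group

end Groth.Agent.S5359
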