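import Groth.Statements.S5360
import Groth.Agent.MonoEndo.Over

set_option autoImplicit false
universe u
open CategoryTheory CategoryTheory.Limits MonoidalCategory CartesianMonoidalCategory MonObj GrpObj AlgebraicGeometry
open SGA3

namespace Groth.Agent.S5360

/-- Let G be an S-scheme of finite presentation over S with an associative composition law m : G ×_S G →
G such that for every S-scheme S' and every point g of G with values in S' the left and right
translations by g are injective on G(S'), and such that G has an S-point. Then G is an S-group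
scheme: there is a group object structure on G over S whose multiplication is m. -/
theorem result (S : Scheme.{u}) (G : Over S)
    [LocallyOfFinitePresentation G.hom] [QuasiCompact G.hom] [QuasiSeparated G.hom]
    (m : G ⊗ G ⟶ G) (hassoc : (m ▷ G) ≫ m = (α_ G G G).hom ≫ (G ◁ m) ≫ m)
    (hl : ∀ (T : Over S) (g : T ⟶ G), Function.Injective (fun x : T ⟶ G => lift g x ≫ m))
    (hr : ∀ (T : Over S) (g : T ⟶ G), Function.Injective (fun x : T ⟶ G => lift x g ≫ m))
    (e : 𝟙_ (Over S) ⟶ G) :
    ∃ inst : GrpObj G, inst.mul = m := by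
  let mul : ∀ {T : Over S}, (T ⟶ G) → (T ⟶ G) → (T ⟶ G) := fun a b => lift a b ≫ m
  have hmul_nat : ∀ {T T' : Over S} (t : T' ⟶ T) (a b : T ⟶ G), t ≫ mul a b = mul (t ≫ a) (t ≫ b) :=
    fun t a b => by simp [mul, comp_lift_assoc]
  have hm_assoc : ∀ {T : Over S} (a b c : T ⟶ G), mul (mul a b) c = mul a (mul b c) := fun a b c => by
    have h := lift (lift a b) c ≫= hassoc
    simpa [mul] using h
  -- translations are surjective
  have hls : ∀ {T : Over S} (g y : T ⟶ G), ∃ x, mul g x = y := fun {T} g y => by
    obtain ⟨x, hx⟩ := Groth.MonoEndo.exists_preimage (T := T) (lift (fst T G ≫ g) (snd T G) ≫ m)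
      (fun T' t a b hab => hl T' (t ≫ g) (by simpa [comp_lift_assoc] using hab)) T (𝟙 T) y
    exact ⟨x, by simpa [mul, comp_lift_assoc] using hx⟩
  have hrs : ∀ {T : Over S} (g y : T ⟶ G), ∃ x, mul x g = y := fun {T} g y => by
    obtain ⟨x, hx⟩ := Groth.MonoEndo.exists_preimage (T := T) (lift (snd T G) (fst T G ≫ g) ≫ m)
      (fun T' t a b hab => hr T' (t ≫ g) (by simpa [comp_lift_assoc] using hab)) T (𝟙 T) y
    exact ⟨x, by simpa [mul, comp_lift_assoc] using hx⟩
  obtain ⟨u, hu⟩ := hls e e
  let one : ∀ T : Over S, T ⟶ G := fun T => toUnit T ≫ u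
  have hone : ∀ {T : Over S} (x : T ⟶ G), mul (one T) x = x ∧ mul x (one T) = x := fun {T} x => by
    have h1 : mul (toUnit T ≫ e) (one T) = toUnit T ≫ e := by rw [← hmul_nat, hu]
    have h2 : mul (one T) x = x := hl T (toUnit T ≫ e)
      (show mul (toUnit T ≫ e) (mul (one T) x) = mul (toUnit T ≫ e) x by rw [← hm_assoc, h1])
    have h3 : mul (one T) (one T) = one T := hl T (toUnit T ≫ e)
      (((hm_assoc _ _ _).symm.trans (congrArg (mul · (one T)) h1)) : mul (toUnit T ≫ e) (mul (one T) (one T)) = mul (toUnit T ≫ e) (one T))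
    exact ⟨h2, hr T (one T) (show mul (mul x (one T)) (one T) = mul x (one T) by rw [hm_assoc, h3])⟩
  obtain ⟨iv, hiv⟩ := hrs (𝟙 G) (one G)
  have hiv' : mul (𝟙 G) iv = one G :=
    hl G iv (show mul iv (mul (𝟙 G) iv) = mul iv (one G) by
      rw [← hm_assoc, hiv, (hone iv).1, (hone iv).2])
  letI mon : MonObj G :=
    { one := u
      mul := m
      one_mul := by
        have h := (hone (snd (𝟙_ (Over S)) G)).1
        rw [show (λ_ G).hom = snd (𝟙_ (Over S)) G from by first | rfl | exact leftUnitor_hom _ | exact rightUnitor_hom _]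
        refine Eq.trans ?_ h
        simp only [mul, one]
        congr 1
      mul_one := by
        have h := (hone (fst G (𝟙_ (Over S)))).2
        rw [show (ρ_ G).hom = fst G (𝟙_ (Over S)) from by first | rfl | exact leftUnitor_hom _ | exact rightUnitor_hom _]
        refine Eq.trans ?_ h
        simp only [mul, one]
        congr 1
        apply CartesianMonoidalCategory.hom_ext
        · simp
        · rw [whiskerLeft_snd, lift_snd]
          exact congrArg (· ≫ u) (toUnit_unique _ _)
      mul_assoc := hassoc }
  exact ⟨{ mon with inv := iv, left_inv := hiv, right_inv := hiv' }, rfl⟩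

end Groth.Agent.S5360
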