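import Groth.Statements.S5362
import Groth.Agent.GenSub.Image
import Groth.Agent.AlgGrp1.Points

set_option autoImplicit false
universe u
open CategoryTheory CategoryTheory.Limits MonoidalCategory CartesianMonoidalCategory MonObj GrpObj AlgebraicGeometry
open SGA3

namespace Groth.Agent.S5362

/-- Let G be a group scheme locally of finite type over a field k, and a : A → G, b : B → G two closed
subgroup schemes which are smooth and of finite type over k, such that B normalizes A (conjugating a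
point of A by a point of B gives a point of A). Let i : Γ → G be the smallest closed subgroup scheme
of G through which both a and b factor. Then Γ is reduced and its underlying set is A·B, the image
of A ×_k B under (x, y) ↦ a(x) b(y). -/
theorem result (k : Type u) [Field k] (G A B : Over (Spec (CommRingCat.of k))) [GrpObj G] [GrpObj A] [GrpObj B]
    [LocallyOfFiniteType G.hom] (a : A ⟶ G) [IsMonHom a] [IsClosedImmersion a.left] (b : B ⟶ G) [IsMonHom b]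
    [IsClosedImmersion b.left] [Smooth A.hom] [QuasiCompact A.hom] [Smooth B.hom] [QuasiCompact B.hom]
    (hN : ∀ (T : Over (Spec (CommRingCat.of k))) (y : T ⟶ B) (x : T ⟶ A), ∃ x' : T ⟶ A, (y ≫ b) * (x ≫ a) * (y ≫ b)⁻¹ = x' ≫ a)
    (Γ : Over (Spec (CommRingCat.of k))) [GrpObj Γ] (i : Γ ⟶ G) [IsMonHom i] [IsClosedImmersion i.left]
    (ha : ∃ a' : A ⟶ Γ, a' ≫ i = a) (hb : ∃ b' : B ⟶ Γ, b' ≫ i = b)
    (hmin : ∀ (Γ' : Over (Spec (CommRingCat.of k))) (_ : GrpObj Γ') (i' : Γ' ⟶ G), IsMonHom i' → IsClosedImmersion i'.left →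
        (∃ a'' : A ⟶ Γ', a'' ≫ i' = a) → (∃ b'' : B ⟶ Γ', b'' ≫ i' = b) → ∃ j : Γ ⟶ Γ', j ≫ i' = i) :
    IsReduced Γ.left ∧ Set.range i.left.base = Set.range ((a ⊗ₘ b) ≫ μ[G]).left.base := by
  haveI := Groth.AlgGrp1.geometricallyReduced_of_smooth_hom A
  haveI := Groth.AlgGrp1.geometricallyReduced_of_smooth_hom B
  haveI := Groth.GenSub.geometricallyReduced_tensor A B
  set φ : A ⊗ B ⟶ G := (a ⊗ₘ b) ≫ μ[G] with hφdef
  have hφ : φ = (fst A B ≫ a) * (snd A B ≫ b) := by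
    rw [hφdef, Hom.mul_def]; congr 1
  have hone : lift (1 : 𝟙_ _ ⟶ A) (1 : 𝟙_ _ ⟶ B) ≫ φ = 1 := by
    simp [hφ, MonObj.comp_mul, MonObj.one_comp]
  obtain ⟨x₂', hx₂⟩ := hN ((A ⊗ B) ⊗ (A ⊗ B)) (fst _ _ ≫ snd A B) (snd _ _ ≫ fst A B)
  obtain ⟨z, hz⟩ := hN (A ⊗ B) (snd A B)⁻¹ (fst A B)⁻¹
  have hst : Groth.GenSub.Stable G (fun _ : PUnit.{1} => A ⊗ B) (fun _ => φ) := by
    refine ⟨⟨⟨⟩, _, hone⟩, fun _ _ => ⟨⟨⟩, lift ((fst _ _ ≫ fst A B) * x₂')
      ((fst _ _ ≫ snd A B) * (snd _ _ ≫ snd A B)), ?_⟩, fun _ => ⟨⟨⟩, lift z (snd A B)⁻¹, ?_⟩⟩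
    · simp only [hφ, MonObj.comp_mul, lift_fst_assoc, lift_snd_assoc, MonObj.mul_comp, Category.assoc, ← hx₂]
      group
    · simp only [hφ, MonObj.comp_mul, lift_fst_assoc, lift_snd_assoc, ← hz, GrpObj.inv_comp]
      group
  obtain ⟨Γ₀, _, i₀, d, _, hc, hgeo, hd, hdense, hmin₀⟩ :=
    Groth.GenSub.exists_closure G (fun _ : PUnit.{1} => A ⊗ B) (fun _ => φ)
      (fun _ => inferInstance) hst
  haveI : Mono i := Over.mono_of_mono_left i
  haveI : Mono i₀ := Over.mono_of_mono_left i₀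
  obtain ⟨j, hj⟩ := hmin Γ₀ inferInstance i₀ inferInstance hc
    ⟨lift (𝟙 A) (1 : A ⟶ B) ≫ d ⟨⟩, by simp [hd, hφ, MonObj.comp_mul, MonObj.one_comp]⟩
    ⟨lift (1 : B ⟶ A) (𝟙 B) ≫ d ⟨⟩, by simp [hd, hφ, MonObj.comp_mul, MonObj.one_comp]⟩
  obtain ⟨a', ha'⟩ := ha
  obtain ⟨b', hb'⟩ := hb
  obtain ⟨j', hj'⟩ := hmin₀ Γ i inferInstance fun _ =>
    ⟨(fst A B ≫ a') * (snd A B ≫ b'), by simp [MonObj.mul_comp, ha', hb', hφ]⟩
  have hjj : j ≫ j' = 𝟙 Γ := by rw [← cancel_mono i, Category.assoc, hj', hj, Category.id_comp]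
  have hjj' : j' ≫ j = 𝟙 Γ₀ := by rw [← cancel_mono i₀, Category.assoc, hj, hj', Category.id_comp]
  haveI : IsIso j := ⟨j', hjj, hjj'⟩
  haveI : IsIso j.left := inferInstanceAs (IsIso ((Over.forget _).map j))
  haveI : IsReduced Γ₀.left := GeometricallyReduced.geometrically_isReduced (f := Γ₀.hom) (𝟙 _) (𝟙 _) Γ₀.hom
    (IsPullback.of_horiz_isIso ⟨by simp⟩)
  refine ⟨isReduced_of_isOpenImmersion j.left, ?_⟩
  haveI : LocallyOfFiniteType Γ₀.hom := by rw [← Over.w i₀]; infer_instance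
  haveI : LocallyOfFiniteType (A ⊗ B).hom := by
    show LocallyOfFiniteType (pullback.fst A.hom B.hom ≫ A.hom)
    infer_instance
  haveI : QuasiCompact (A ⊗ B).hom := by
    show QuasiCompact (pullback.fst A.hom B.hom ≫ A.hom)
    infer_instance
  haveI := Groth.AlgGrp1.isSeparated_grpObj Γ₀
  haveI : QuasiCompact ((d ⟨⟩).left ≫ Γ₀.hom) := by rw [Over.w (d ⟨⟩)]; infer_instance
  haveI : QuasiCompact (d ⟨⟩).left := QuasiCompact.of_comp _ Γ₀.hom
  obtain ⟨_, m, hm⟩ := hst.mul ⟨⟩ ⟨⟩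
  have hsurj := Groth.GenSub.surjective_of_dense_stable Γ₀ (A ⊗ B) (d ⟨⟩) (by
      rwa [show (⋃ j, Set.range (d j).left) = Set.range (d ⟨⟩).left from
        Set.iUnion_eq_const fun _ => rfl] at hdense) m (by
      rw [← cancel_mono i₀, Category.assoc, hd, hm, ← hd ⟨⟩, Category.assoc, IsMonHom.mul_hom,
        MonoidalCategory.tensorHom_comp_tensorHom_assoc, Hom.mul_def]
      congr 1)
  rw [show i = j ≫ i₀ from hj.symm, Over.comp_left, Scheme.Hom.comp_base, TopCat.coe_comp,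
    j.left.surjective.range_comp, ← hsurj.range_comp i₀.left]
  exact congrArg Set.range (funext fun x => congr(($(hd ⟨⟩)).left x))

end Groth.Agent.S5362
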