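import Groth.Statements.S5363
import Groth.Agent.GenSub.Word

set_option autoImplicit false
universe u
open CategoryTheory CategoryTheory.Limits MonoidalCategory CartesianMonoidalCategory MonObj GrpObj AlgebraicGeometry
open SGA3

namespace Groth.Agent.S5363

/-- Let G be a group scheme over a field k and g a k-rational point of G. Then the smallest closed
subgroup scheme Γ of G through which g factors (the closed subgroup generated by g) is commutative. -/
theorem result (k : Type u) [Field k] (G : Over (Spec (CommRingCat.of k))) [GrpObj G]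
    (g : 𝟙_ (Over (Spec (CommRingCat.of k))) ⟶ G) (Γ : Over (Spec (CommRingCat.of k))) [GrpObj Γ] (i : Γ ⟶ G) [IsMonHom i] [IsClosedImmersion i.left]
    (hf : ∃ f' : 𝟙_ (Over (Spec (CommRingCat.of k))) ⟶ Γ, f' ≫ i = g)
    (hmin : ∀ (Γ' : Over (Spec (CommRingCat.of k))) (_ : GrpObj Γ') (i' : Γ' ⟶ G), IsMonHom i' → IsClosedImmersion i'.left →
        (∃ f'' : 𝟙_ (Over (Spec (CommRingCat.of k))) ⟶ Γ', f'' ≫ i' = g) → ∃ j : Γ ⟶ Γ', j ≫ i' = i) :
    IsCommMonObj Γ := by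
  have hgr : GeometricallyReduced (𝟙_ (Over (Spec (CommRingCat.of k)))).hom :=
    ⟨fun K _ χ Z p q h => by
      haveI : IsIso (𝟙_ (Over (Spec (CommRingCat.of k)))).hom := inferInstanceAs (IsIso (𝟙 _))
      haveI : IsIso q := h.isIso_snd_of_isIso
      exact isReduced_of_isOpenImmersion q⟩
  obtain ⟨Γ₀, _, i₀, d, _, hc, _, hd, hdense, hf₀, hmin₀⟩ := Groth.GenSub.exists_generated g
  obtain ⟨j, hj⟩ := hmin Γ₀ inferInstance i₀ inferInstance hc hf₀
  haveI : Mono i := Over.mono_of_mono_left i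
  haveI := Groth.AlgGrp1.isSeparated_grpObj G
  have hc1 : ∀ {T : Over (Spec (CommRingCat.of k))} (l : List Bool)
      (t : T ⟶ Groth.GenSub.word (𝟙_ (Over (Spec (CommRingCat.of k)))) l) (z : T ⟶ G),
      Commute (toUnit T ≫ g) z → Commute (t ≫ Groth.GenSub.wordMap g l) z := by
    intro T l
    induction l with
    | nil => intro t z _; simp [Groth.GenSub.wordMap]
    | cons b l ih =>
      intro t z hz
      have hh : ∀ t' : T ⟶ 𝟙_ _ ⊗ Groth.GenSub.word (𝟙_ (Over (Spec (CommRingCat.of k)))) l,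
          Commute (t' ≫ ((fst _ (Groth.GenSub.word _ l) ≫ if b then g else g⁻¹) *
            (snd _ _ ≫ Groth.GenSub.wordMap g l))) z := ?_
      · exact hh t
      intro t'
      rw [MonObj.comp_mul, ← Category.assoc, ← Category.assoc,
        toUnit_unique (t' ≫ fst _ (Groth.GenSub.word _ l)) (toUnit T)]
      refine Commute.mul_left ?_ (ih _ z hz)
      cases b
      · simpa [GrpObj.comp_inv] using hz.inv_left
      · simpa using hz
  have key : (fst Γ₀ Γ₀ ≫ i₀) * (snd Γ₀ Γ₀ ≫ i₀) = (snd Γ₀ Γ₀ ≫ i₀) * (fst Γ₀ Γ₀ ≫ i₀) := by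
    haveI : GeometricallyReduced Γ₀.hom := ‹_›
    haveI : IsReduced Γ₀.left := GeometricallyReduced.geometrically_isReduced (f := Γ₀.hom) (𝟙 _) (𝟙 _) Γ₀.hom
      (IsPullback.of_horiz_isIso ⟨by simp⟩)
    haveI := Groth.GenSub.isReduced_tensor Γ₀ Γ₀
    refine Groth.GenSub.ext_of_dense _ (Groth.GenSub.dense_tensor d d hdense hdense) fun p => ?_
    simp only [MonObj.comp_mul, tensorHom_fst_assoc, tensorHom_snd_assoc, hd]
    refine Commute.eq (hc1 _ _ _ (Commute.symm ?_))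
    exact hc1 _ _ _ (Commute.refl _)
  refine ⟨?_⟩
  rw [← cancel_mono i]
  have e1 : lift (fst Γ Γ ≫ j) (snd Γ Γ ≫ j) ≫ ((fst Γ₀ Γ₀ ≫ i₀) * (snd Γ₀ Γ₀ ≫ i₀)) =
      lift (fst Γ Γ ≫ j) (snd Γ Γ ≫ j) ≫ ((snd Γ₀ Γ₀ ≫ i₀) * (fst Γ₀ Γ₀ ≫ i₀)) := by rw [key]
  simp only [MonObj.comp_mul, lift_fst_assoc, lift_snd_assoc, Category.assoc, hj] at e1
  have hμ : ∀ {T : Over (Spec (CommRingCat.of k))} (p q : T ⟶ Γ),
      lift p q ≫ μ[Γ] ≫ i = (p ≫ i) * (q ≫ i) := fun p q => by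
    rw [← MonObj.mul_comp, Hom.mul_def, Category.assoc]
  have e3 : μ[Γ] ≫ i = (fst Γ Γ ≫ i) * (snd Γ Γ ≫ i) := by
    rw [← hμ, lift_fst_snd, Category.id_comp]
  rw [Category.assoc, e3, MonObj.comp_mul, ← Category.assoc, ← Category.assoc, braiding_hom_fst,
    braiding_hom_snd]
  exact e1.symm

end Groth.Agent.S5363
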