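import Groth.Statements.S5364
import Groth.Agent.GenSub.Dense

set_option autoImplicit false
universe u
open CategoryTheory CategoryTheory.Limits MonoidalCategory CartesianMonoidalCategory MonObj GrpObj AlgebraicGeometry
open SGA3

namespace Groth.Agent.S5364

/-- Let G be a group scheme over a field k and a : A → G, b : B → G two closed subgroup schemes which
are geometrically reduced over k and normal in G. Let i : Γ → G be the commutator subgroup scheme
(A, B): the smallest closed subgroup scheme of G through which the morphism A ×_k B → G, (x, y) ↦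
a(x) b(y) a(x)⁻¹ b(y)⁻¹, factors. Then Γ is normal in G. (The published statement also covers
characteristic subgroups; this row states the case of normal subgroups only.) -/
theorem result (k : Type u) [Field k] (G A B : Over (Spec (CommRingCat.of k))) [GrpObj G] [GrpObj A] [GrpObj B]
    (a : A ⟶ G) [IsMonHom a] [IsClosedImmersion a.left] (b : B ⟶ G) [IsMonHom b] [IsClosedImmersion b.left]
    [GeometricallyReduced A.hom] [GeometricallyReduced B.hom] (hA : AlgGrp.IsNormalHom a) (hB : AlgGrp.IsNormalHom b)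
    (Γ : Over (Spec (CommRingCat.of k))) [GrpObj Γ] (i : Γ ⟶ G) [IsMonHom i] [IsClosedImmersion i.left]
    (hf : ∃ f' : A ⊗ B ⟶ Γ, f' ≫ i = (((fst A B) ≫ a) * ((snd A B) ≫ b) * ((fst A B) ≫ a)⁻¹ * ((snd A B) ≫ b)⁻¹))
    (hmin : ∀ (Γ' : Over (Spec (CommRingCat.of k))) (_ : GrpObj Γ') (i' : Γ' ⟶ G), IsMonHom i' → IsClosedImmersion i'.left →
        (∃ f'' : A ⊗ B ⟶ Γ', f'' ≫ i' = (((fst A B) ≫ a) * ((snd A B) ≫ b) * ((fst A B) ≫ a)⁻¹ * ((snd A B) ≫ b)⁻¹)) → ∃ j : Γ ⟶ Γ', j ≫ i' = i) :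
    AlgGrp.IsNormalHom i := by
  haveI := Groth.GenSub.geometricallyReduced_tensor A B
  set f : A ⊗ B ⟶ G := ((fst A B) ≫ a) * ((snd A B) ≫ b) * ((fst A B) ≫ a)⁻¹ * ((snd A B) ≫ b)⁻¹ with hfdef
  obtain ⟨Γ₀, _, i₀, d, hmon, hc, hgeo, hd, hdense, hf₀, hmin₀⟩ := Groth.GenSub.exists_generated f
  obtain ⟨j, hj⟩ := hmin Γ₀ inferInstance i₀ inferInstance hc hf₀
  obtain ⟨j', hj'⟩ := hmin₀ Γ inferInstance i inferInstance inferInstance hf
  obtain ⟨f₀, hf₀⟩ := hf₀
  -- conjugates of commutators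
  have hconj : ∀ (T : Over (Spec (CommRingCat.of k))) (g : T ⟶ G) (x : T ⟶ A ⊗ B) (β : Bool),
      ∃ s : T ⟶ Γ₀, s ≫ i₀ = g * (x ≫ (if β then f else f⁻¹)) * g⁻¹ := by
    intro T g x β
    obtain ⟨x', hx'⟩ := hA T g (x ≫ fst A B)
    obtain ⟨y', hy'⟩ := hB T g (x ≫ snd A B)
    have e : (lift x' y' ≫ f₀) ≫ i₀ = g * (x ≫ f) * g⁻¹ := by
      rw [Category.assoc, hf₀, hfdef]
      simp only [MonObj.comp_mul, GrpObj.comp_inv, lift_fst_assoc, lift_snd_assoc, ← hx', ← hy', Category.assoc]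
      group
    cases β
    · refine ⟨(lift x' y' ≫ f₀)⁻¹, ?_⟩
      rw [GrpObj.inv_comp, e]
      simp only [Bool.false_eq_true, if_false, GrpObj.comp_inv]
      group
    · exact ⟨lift x' y' ≫ f₀, by simpa using e⟩
  have hword : ∀ (l : List Bool) (T : Over (Spec (CommRingCat.of k))) (g : T ⟶ G)
      (x : T ⟶ Groth.GenSub.word (A ⊗ B) l), ∃ s : T ⟶ Γ₀, s ≫ i₀ = g * (x ≫ Groth.GenSub.wordMap f l) * g⁻¹ := by
    intro l
    induction l with
    | nil => intro T g x; exact ⟨1, by simp [Groth.GenSub.wordMap]⟩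
    | cons β l ih =>
      intro T g
      have hh : ∀ x : T ⟶ (A ⊗ B) ⊗ Groth.GenSub.word (A ⊗ B) l, ∃ s : T ⟶ Γ₀, s ≫ i₀ =
          g * (x ≫ ((fst _ (Groth.GenSub.word (A ⊗ B) l) ≫ if β then f else f⁻¹) *
            (snd _ _ ≫ Groth.GenSub.wordMap f l))) * g⁻¹ := by
        intro x
        obtain ⟨s₁, h₁⟩ := hconj T g (x ≫ fst _ _) β
        obtain ⟨s₂, h₂⟩ := ih T g (x ≫ snd _ _)
        refine ⟨s₁ * s₂, ?_⟩
        rw [MonObj.mul_comp, h₁, h₂, MonObj.comp_mul, Category.assoc, Category.assoc]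
        group
      exact hh
  haveI : IsReduced Γ₀.left := GeometricallyReduced.geometrically_isReduced (f := Γ₀.hom) (𝟙 _) (𝟙 _) Γ₀.hom
    (IsPullback.of_horiz_isIso ⟨by simp⟩)
  obtain ⟨t, ht⟩ := Groth.GenSub.exists_factor_dense (T := G) d hdense i₀
    ((fst G Γ₀) * (snd G Γ₀ ≫ i₀) * (fst G Γ₀)⁻¹) fun l => by
      obtain ⟨s, hs⟩ := hword l (G ⊗ Groth.GenSub.word (A ⊗ B) l) (fst _ _) (snd _ _)
      exact ⟨s, by rw [hs]; simp [MonObj.comp_mul, GrpObj.comp_inv, hd]⟩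
  intro T g n
  refine ⟨lift g (n ≫ j) ≫ t ≫ j', ?_⟩
  rw [Category.assoc, Category.assoc, hj', ht]
  simp [MonObj.comp_mul, GrpObj.comp_inv, hj]

end Groth.Agent.S5364
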