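import Groth.Statements.S5365
import Groth.Agent.GrpschAbsch.NeutralSubgroup
import Groth.Agent.AlgGrp1.Geom

set_option autoImplicit false
universe u
open CategoryTheory CategoryTheory.Limits MonoidalCategory CartesianMonoidalCategory MonObj GrpObj AlgebraicGeometry
open SGA3

namespace Groth.Agent.S5365

open Groth.GrpschAbsch in
/-- A morphism out of `A ⊗ B` trivial on `1 × B`, `A` connected, lands in the neutral component. -/
theorem range_subset_component {k : Type u} [Field k] {A B H : Over (Spec (CommRingCat.of k))} [GrpObj A]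
    [GrpObj H] [LocallyOfFiniteType A.hom] [ConnectedSpace A.left] (f : A ⊗ B ⟶ H)
    (hf : lift (1 : B ⟶ A) (𝟙 B) ≫ f = 1) :
    Set.range f.left ⊆ connectedComponent (unitPt H) := by
  have := Groth.AlgGrp1.geometricallyConnected_of_point A.hom η[A].left (Over.w η[A])
  rintro _ ⟨z, rfl⟩
  let b := (snd A B).left z
  let s : B ⟶ A ⊗ B := lift 1 (𝟙 B)
  have : GeometricallyConnected (snd A B).left :=
    inferInstanceAs (GeometricallyConnected (pullback.snd A.hom B.hom))
  have hsb : (snd A B).left (s.left b) = b := by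
    rw [← Scheme.Hom.comp_apply, ← Over.comp_left, lift_snd]
    rfl
  have hunit : f.left (s.left b) = unitPt H := by
    rw [← Scheme.Hom.comp_apply, ← Over.comp_left, hf]
    exact one_comp_left_apply H _
  rw [← hunit]
  exact ((((snd A B).left.isConnected_preimage_singleton b).isPreconnected.image _
    f.left.continuous.continuousOn).subset_connectedComponent ⟨s.left b, hsb, rfl⟩) ⟨z, rfl, rfl⟩

/-- Let G be a group scheme locally of finite type over a field k, a : A → G and b : B → G two closed
subgroup schemes which are geometrically reduced over k, and i : Γ → G the commutator subgroup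
scheme (A, B), the smallest closed subgroup scheme through which (x, y) ↦ a(x) b(y) a(x)⁻¹ b(y)⁻¹
factors. Suppose either (a) A and B are normal in G and of finite type over k, or (b) A is connected
and B is of finite type over k. Then Γ is of finite type over k, and in case (b) Γ is connected.
(The published statement also asserts that this subgroup represents the fppf sheaf generated by
commutators and describes its neutral component; this row states only the finiteness and
connectedness assertions.) -/
theorem result (k : Type u) [Field k] (G A B : Over (Spec (CommRingCat.of k))) [GrpObj G] [GrpObj A] [GrpObj B]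
    [LocallyOfFiniteType G.hom]
    (a : A ⟶ G) [IsMonHom a] [IsClosedImmersion a.left] (b : B ⟶ G) [IsMonHom b] [IsClosedImmersion b.left]
    [GeometricallyReduced A.hom] [GeometricallyReduced B.hom] [QuasiCompact B.hom]
    (hcase : (AlgGrp.IsNormalHom a ∧ AlgGrp.IsNormalHom b ∧ QuasiCompact A.hom) ∨ ConnectedSpace A.left)
    (Γ : Over (Spec (CommRingCat.of k))) [GrpObj Γ] (i : Γ ⟶ G) [IsMonHom i] [IsClosedImmersion i.left]
    (hf : ∃ f' : A ⊗ B ⟶ Γ, f' ≫ i = (((fst A B) ≫ a) * ((snd A B) ≫ b) * ((fst A B) ≫ a)⁻¹ * ((snd A B) ≫ b)⁻¹))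
    (hmin : ∀ (Γ' : Over (Spec (CommRingCat.of k))) (_ : GrpObj Γ') (i' : Γ' ⟶ G), IsMonHom i' → IsClosedImmersion i'.left →
        (∃ f'' : A ⊗ B ⟶ Γ', f'' ≫ i' = (((fst A B) ≫ a) * ((snd A B) ≫ b) * ((fst A B) ≫ a)⁻¹ * ((snd A B) ≫ b)⁻¹)) → ∃ j : Γ ⟶ Γ', j ≫ i' = i) :
    QuasiCompact Γ.hom ∧ (ConnectedSpace A.left → ConnectedSpace Γ.left) := by
  obtain ⟨f', hf'⟩ := hf
  have : Mono i := Over.mono_of_mono_left i
  have hlft : LocallyOfFiniteType Γ.hom := by rw [← Over.w i]; infer_instance
  have hconn : ConnectedSpace A.left → ConnectedSpace Γ.left := by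
    intro hA
    have : LocallyOfFiniteType A.hom := by rw [← Over.w a]; infer_instance
    have h1 : lift (1 : B ⟶ A) (𝟙 B) ≫ f' = 1 := by
      rw [← cancel_mono i, Category.assoc, hf', MonObj.comp_mul, MonObj.comp_mul, MonObj.comp_mul, GrpObj.comp_inv,
        GrpObj.comp_inv, lift_fst_assoc, lift_snd_assoc, MonObj.one_comp, MonObj.one_comp, Category.id_comp]
      simp
    obtain ⟨g, hg⟩ := Groth.GrpschAbsch.exists_lift_neutralIncl Γ f' (range_subset_component f' h1)
    obtain ⟨_, _⟩ := Groth.GrpschAbsch.exists_grpObj_neutralObj Γ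
    have : IsClosedImmersion (Groth.GrpschAbsch.neutralIncl Γ ≫ i).left := by
      rw [Over.comp_left]; infer_instance
    obtain ⟨j, hj⟩ := hmin _ inferInstance (Groth.GrpschAbsch.neutralIncl Γ ≫ i) inferInstance inferInstance
      ⟨g, by rw [reassoc_of% hg, hf']⟩
    have hj' : j ≫ Groth.GrpschAbsch.neutralIncl Γ = 𝟙 Γ := by
      rw [← cancel_mono i, Category.assoc, hj, Category.id_comp]
    have hall : connectedComponent (Groth.GrpschAbsch.unitPt Γ) = Set.univ := by
      refine Set.eq_univ_of_forall fun x => ?_
      rw [← Groth.GrpschAbsch.range_neutralIncl]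
      exact ⟨j.left x, congrArg (fun φ => φ.left x) hj'⟩
    exact connectedSpace_iff_univ.2 (hall ▸ isConnected_connectedComponent)
  refine ⟨?_, hconn⟩
  rcases hcase with ⟨hna, -, hqc⟩ | hA
  · obtain ⟨n, hn⟩ := hna (A ⊗ B) (snd A B ≫ b) (fst A B)⁻¹
    obtain ⟨j, hj⟩ := hmin A inferInstance a inferInstance inferInstance ⟨fst A B * n, by
      rw [MonObj.mul_comp, ← hn, GrpObj.inv_comp, ← _root_.mul_assoc, ← _root_.mul_assoc]⟩
    have : IsClosedImmersion j.left := by
      have : IsClosedImmersion (j.left ≫ a.left) := by rw [← Over.comp_left, hj]; infer_instance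
      exact IsClosedImmersion.of_comp j.left a.left
    rw [← Over.w j]
    infer_instance
  · have := hconn hA
    have : CompactSpace Γ.left := ⟨by
      rw [← PreconnectedSpace.connectedComponent_eq_univ (Groth.GrpschAbsch.unitPt Γ)]
      exact Groth.GrpschAbsch.isCompact_connectedComponent_one Γ⟩
    exact (quasiCompact_iff_compactSpace Γ.hom).2 this

end Groth.Agent.S5365
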