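import Groth.Statements.S5373
import Groth.Agent.DescentBase.FpqcCover
-- import your own Groth.Agent.* helpers here

set_option autoImplicit false
universe u
open CategoryTheory CategoryTheory.Limits MonoidalCategory CartesianMonoidalCategory MonObj GrpObj AlgebraicGeometry
open SGA3

namespace Groth.Agent.S5373

set_option backward.isDefEq.respectTransparency false

theorem isPullback_graph {X Y S : Scheme.{u}} (a : X ⟶ Y) (f : Y ⟶ S) (h : X ⟶ S) (w : a ≫ f = h) :
    IsPullback (pullback.fst a a ≫ a)
      (pullback.map a a h h (𝟙 _) (𝟙 _) f (by simp [w]) (by simp [w]))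
      (pullback.diagonal f)
      (pullback.map h h f f a a (𝟙 _) (by simp [w]) (by simp [w])) := by
  subst w
  exact pullback_map_diagonal_isPullback a a f

theorem closedImm_of_fpqc {X Y S Z : Scheme.{u}} (a : X ⟶ Y) (f : Y ⟶ S) (h : X ⟶ S) (w : a ≫ f = h)
    (q : Z ⟶ Y) (r : Z ⟶ X) (hr : r ≫ a = q) [Surjective q] [Flat q]
    (hq : ∀ V : Y.Opens, IsAffineOpen V → ∃ W : Z.Opens, IsCompact (W : Set Z) ∧ q.base '' (W : Set Z) = (V : Set Y))
    (hv : IsClosedImmersion (pullback.map a a h h (𝟙 _) (𝟙 _) f (by simp [w]) (by simp [w]))) :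
    IsSeparated f := by
  let E : Scheme.Cover.{u} (Scheme.precoverage @Flat) Y := Scheme.Hom.cover.{u} (P := @Flat) q inferInstance
  have hqc : QuasiCompactCover E.toPreZeroHypercover := ⟨fun {U} hU => by
    obtain ⟨W, hW, e⟩ := hq U hU
    refine IsCompactOpenCovered.of_finite (κ := PUnit.{u+1}) (fun _ => PUnit.unit) (fun _ => W) (fun _ => hW) ?_
    exact (Set.iUnion_const _).trans e⟩
  let 𝒰 : Y.Cover Scheme.fpqcPrecoverage :=
    ⟨E.toPreZeroHypercover, ⟨Scheme.presieve₀_mem_qcPrecoverage_iff.2 hqc, E.mem₀⟩⟩
  refine ⟨?_⟩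
  refine Groth.DescentBase.of_fpqcCover @IsClosedImmersion inferInstance _ (𝒰.pullback₁ (pullback.fst f f)) fun i => ?_
  refine Groth.DescentBase.of_fpqcCover @IsClosedImmersion inferInstance _
    (𝒰.pullback₁ ((𝒰.pullback₁ (pullback.fst f f)).f i ≫ pullback.snd f f)) fun j => ?_
  change IsClosedImmersion (pullback.snd (pullback.snd (pullback.diagonal f) (pullback.fst (pullback.fst f f) q))
    (pullback.fst (pullback.fst (pullback.fst f f) q ≫ pullback.snd f f) q))
  rw [← MorphismProperty.cancel_left_of_respectsIso @IsClosedImmersion (pullbackLeftPullbackSndIso _ _ _).inv,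
    pullbackLeftPullbackSndIso_inv_snd_snd]
  let g1 := pullback.fst (pullback.fst f f) q
  let g2 := pullback.fst (g1 ≫ pullback.snd f f) q
  let e : pullback (g1 ≫ pullback.snd f f) q ⟶ pullback h h :=
    pullback.lift (g2 ≫ pullback.snd _ _ ≫ r) (pullback.snd _ _ ≫ r) (by
      subst w hr
      have c1 := pullback.condition (f := pullback.fst f f) (g := r ≫ a) =≫ f
      have c2 := pullback.condition (f := g1 ≫ pullback.snd f f) (g := r ≫ a) =≫ f
      simp only [Category.assoc] at c1 c2 ⊢
      rw [← c1, ← c2, pullback.condition])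
  have he : g2 ≫ g1 = e ≫ pullback.map h h f f a a (𝟙 _) (by simp [w]) (by simp [w]) := by
    subst hr
    apply pullback.hom_ext
    · simp [e, g1, g2, pullback.condition]
    · simpa [e, g1, g2] using pullback.condition (f := g1 ≫ pullback.snd f f) (g := r ≫ a)
  refine Groth.DescentBase.of_eq @IsClosedImmersion _ he.symm ?_
  have hsnd : IsClosedImmersion (pullback.snd (pullback.diagonal f) (pullback.map h h f f a a (𝟙 _) (by simp [w]) (by simp [w]))) := by
    rw [← (isPullback_graph a f h w).isoPullback_inv_snd]
    exact MorphismProperty.comp_mem _ _ _ inferInstance hv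
  rw [← pullbackLeftPullbackSndIso_inv_snd_snd (pullback.diagonal f) _ e,
    MorphismProperty.cancel_left_of_respectsIso @IsClosedImmersion]
  exact MorphismProperty.pullback_snd _ _ hsnd

/-- Let p : X → Y be a morphism of S-schemes and v : X ×_Y X → X ×_S X the canonical monomorphism (the
graph of the effective equivalence relation defined by p). Then (i) v is an immersion, and a closed
immersion if Y is separated over S; (ii) if p is covering for the fpqc topology (some Z → Y which is
flat, surjective, with every affine open of Y the image of a quasi-compact open of Z, factors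
through p), so that Y represents the quotient sheaf of X by this equivalence relation, and v is a
closed immersion, then Y is separated over S. -/
theorem result (S : Scheme.{u}) (X Y : Over S) (p : X ⟶ Y) :
    letI v : (pullback p p) ⟶ X ⊗ X := lift (pullback.fst p p) (pullback.snd p p)
    IsImmersion v.left ∧ (IsSeparated Y.hom → IsClosedImmersion v.left) ∧
    ((∃ (Z : Scheme.{u}) (q : Z ⟶ Y.left) (r : Z ⟶ X.left), r ≫ p.left = q ∧ Surjective q ∧ Flat q ∧
        ∀ V : Y.left.Opens, IsAffineOpen V → ∃ W : Z.Opens, IsCompact (W : Set Z) ∧ q.base '' (W : Set Z) = (V : Set Y.left)) →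
      IsClosedImmersion v.left → IsSeparated Y.hom) := by
  have w : p.left ≫ Y.hom = X.hom := Over.w p
  have hsq := (IsPullback.of_hasPullback p p).map (Over.forget S)
  let φ := hsq.isoPullback
  let m := pullback.map p.left p.left X.hom X.hom (𝟙 _) (𝟙 _) Y.hom (by simp) (by simp)
  have hv : (lift (pullback.fst p p) (pullback.snd p p) : pullback p p ⟶ X ⊗ X).left = φ.hom ≫ m := by
    apply pullback.hom_ext
    · simp [φ, m]
    · simp [φ, m]
  have hsq' := isPullback_graph p.left Y.hom X.hom w
  refine ⟨?_, ?_, ?_⟩
  · rw [hv]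
    have : IsImmersion m := MorphismProperty.of_isPullback hsq' (inferInstance : IsImmersion (pullback.diagonal Y.hom))
    exact inferInstance
  · intro hY
    rw [hv]
    have : IsClosedImmersion m := MorphismProperty.of_isPullback hsq' (inferInstance : IsClosedImmersion (pullback.diagonal Y.hom))
    exact inferInstance
  · rintro ⟨Z, q, r, hr, _, _, hq⟩ hc
    rw [hv] at hc
    exact closedImm_of_fpqc p.left Y.hom X.hom w q r hr hq
      ((MorphismProperty.cancel_left_of_respectsIso @IsClosedImmersion φ.hom m).1 hc)

end Groth.Agent.S5373
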