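import Groth.Statements.S5369
import Groth.Agent.QuotFpqc.Group
import Groth.Agent.S5373

set_option autoImplicit false
universe u
open CategoryTheory CategoryTheory.Limits MonoidalCategory CartesianMonoidalCategory MonObj GrpObj AlgebraicGeometry
open SGA3

namespace Groth.Agent.S5369

/-- Let u : G' → G be a monomorphism of S-group schemes and p : G → G'' a morphism of S-schemes which is
covering for the fpqc topology (some Z → G'' which is flat, surjective, with every affine open of
G'' the image of a quasi-compact open of Z, factors through p) and such that the square (g, h) ↦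
g·u(h), first projection G ×_S G' → G, p, p is cartesian, so that G'' represents the fpqc quotient
sheaf G/G'. Let ε'' be the composite of the unit section of G with p. Then the square formed by u,
the structure morphism G' → S, p and ε'' is cartesian; u is an immersion; and G'' is separated over
S if and only if u is a closed immersion, if and only if ε'' is a closed immersion. -/
theorem result (S : Scheme.{u}) (G G' G'' : Over S) [GrpObj G] [GrpObj G']
    (u : G' ⟶ G) [IsMonHom u] [Mono u] (p : G ⟶ G'')
    (hcov : (∃ (Z : Scheme.{u}) (q : Z ⟶ G''.left) (r : Z ⟶ G.left), r ≫ p.left = q ∧ Surjective q ∧ Flat q ∧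
        ∀ V : G''.left.Opens, IsAffineOpen V → ∃ W : Z.Opens, IsCompact (W : Set Z) ∧ q.base '' (W : Set Z) = (V : Set G''.left)))
    (hsq : IsPullback ((G ◁ u) ≫ μ[G]) (fst G G') p p) :
    IsPullback u (toUnit G') p (η[G] ≫ p) ∧ IsImmersion u.left ∧
    (IsSeparated G''.hom ↔ IsClosedImmersion u.left) ∧ (IsClosedImmersion u.left ↔ IsClosedImmersion (η[G] ≫ p).left) := by
  have hp : Groth.QuotFpqc.Covering p.left := Groth.QuotFpqc.covering_of_qc hcov
  have sq := Groth.QuotFpqc.unit_isPullback hsq
  have sq' := sq.map (Over.forget S)
  simp only [Over.forget_obj, Over.forget_map] at sq'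
  have he : (η[G] ≫ p).left ≫ G''.hom = 𝟙 S := Over.w (η[G] ≫ p)
  have himm : IsImmersion (η[G] ≫ p).left := by
    have : IsImmersion ((η[G] ≫ p).left ≫ G''.hom) := by rw [he]; exact inferInstanceAs (IsImmersion (𝟙 S))
    exact IsImmersion.of_comp _ G''.hom
  have hu : IsImmersion u.left := MorphismProperty.of_isPullback sq'.flip himm
  have hue : IsClosedImmersion u.left ↔ IsClosedImmersion (η[G] ≫ p).left := by
    refine ⟨fun h => hp.descends @IsClosedImmersion inferInstance ?_, fun h =>
      MorphismProperty.of_isPullback sq'.flip h⟩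
    rw [← sq'.flip.isoPullback_inv_snd]
    exact MorphismProperty.comp_mem _ _ _ inferInstance h
  refine ⟨sq, hu, ⟨fun h => hue.2 ?_, fun h => ?_⟩, hue⟩
  · have : IsClosedImmersion ((η[G] ≫ p).left ≫ G''.hom) := by
      rw [he]; exact inferInstanceAs (IsClosedImmersion (𝟙 S))
    exact IsClosedImmersion.of_comp _ G''.hom
  · refine (Groth.Agent.S5373.result S G G'' p).2.2 hcov ?_
    have hv : IsClosedImmersion (lift ((G ◁ u) ≫ μ[G]) (fst G G')).left :=
      MorphismProperty.of_isPullback
        ((Groth.QuotFpqc.graph_isPullback (u := u)).map (Over.forget S)).flip h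
    have e : (lift (pullback.fst p p) (pullback.snd p p) : pullback p p ⟶ G ⊗ G) =
        hsq.isoPullback.inv ≫ lift ((G ◁ u) ≫ μ[G]) (fst G G') := by
      rw [comp_lift, hsq.isoPullback_inv_fst, hsq.isoPullback_inv_snd]
    rw [e, Over.comp_left]
    exact MorphismProperty.comp_mem _ _ _ inferInstance hv

end Groth.Agent.S5369
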