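import Groth.Statements.S5370
import Groth.Agent.QuotFpqc.Group
import Groth.Agent.FlatMor2.FlatComp
import Groth.Agent.PropsBasic2.Reduced

set_option autoImplicit false
universe u
open CategoryTheory CategoryTheory.Limits MonoidalCategory CartesianMonoidalCategory MonObj GrpObj AlgebraicGeometry
open SGA3

namespace Groth.Agent.S5370

/-- Let u : G' → G be a monomorphism of S-group schemes and p : G → G'' a morphism of S-schemes which is
covering for the fpqc topology (some Z → G'' which is flat, surjective, with every affine open of
G'' the image of a quasi-compact open of Z, factors through p) and such that the square (g, h) ↦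
g·u(h), first projection G ×_S G' → G, p, p is cartesian, so that G'' represents the fpqc quotient
sheaf G/G'. Then: (ix) if G is reduced, G'' is reduced; (xi) G' is flat over S if and only if p is
flat, and in that case G'' is flat over S if and only if G is flat over S. -/
theorem result (S : Scheme.{u}) (G G' G'' : Over S) [GrpObj G] [GrpObj G']
    (u : G' ⟶ G) [IsMonHom u] [Mono u] (p : G ⟶ G'')
    (hcov : (∃ (Z : Scheme.{u}) (q : Z ⟶ G''.left) (r : Z ⟶ G.left), r ≫ p.left = q ∧ Surjective q ∧ Flat q ∧
        ∀ V : G''.left.Opens, IsAffineOpen V → ∃ W : Z.Opens, IsCompact (W : Set Z) ∧ q.base '' (W : Set Z) = (V : Set G''.left)))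
    (hsq : IsPullback ((G ◁ u) ≫ μ[G]) (fst G G') p p) :
    (IsReduced G.left → IsReduced G''.left) ∧
    (Flat G'.hom ↔ Flat p.left) ∧ (Flat p.left → (Flat G''.hom ↔ Flat G.hom)) := by
  have hp : Groth.QuotFpqc.Covering p.left := Groth.QuotFpqc.covering_of_qc hcov
  have := hp.surjective
  have sq := (Groth.QuotFpqc.unit_isPullback hsq).map (Over.forget S)
  have ksq := hsq.map (Over.forget S)
  simp only [Over.forget_obj, Over.forget_map] at sq ksq
  refine ⟨fun hG => ?_, ⟨fun h => ?_, fun h => ?_⟩, fun hf => ⟨fun h => ?_, fun h => ?_⟩⟩
  · let r := G''.left.nilradical.subschemeι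
    have : IsReduced G''.left.nilradical.subscheme :=
      (Groth.PropsBasic2.isReduced_subscheme_iff_eq_nilradical _ G''.left.support_nilradical).2 rfl
    have : Surjective r := ⟨by
      rw [← Set.range_eq_univ, Scheme.IdealSheafData.range_subschemeι, Scheme.support_nilradical]
      rfl⟩
    have : IsIso (pullback.fst p.left r) := isIso_of_isClosedImmersion_of_surjective _
    have hr : IsIso r := by
      refine hp.descends (MorphismProperty.isomorphisms Scheme.{u}) inferInstance ?_
      show IsIso (pullback.snd r p.left)
      rw [← pullbackSymmetry_hom_comp_fst]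
      infer_instance
    exact isReduced_of_isOpenImmersion (inv r)
  · refine hp.descends @Flat inferInstance ?_
    have hfst : Flat (fst G G').left := by
      rw [Over.fst_left]; infer_instance
    rw [← ksq.isoPullback_inv_snd]
    exact MorphismProperty.comp_mem _ _ _ inferInstance hfst
  · exact MorphismProperty.of_isPullback sq h
  · have : Flat (p.left ≫ G''.hom) := inferInstance
    rwa [Over.w p] at this
  · have : Flat (p.left ≫ G''.hom) := by rwa [Over.w p]
    exact Groth.FlatMor2.flat_of_comp_surjective p.left G''.hom

end Groth.Agent.S5370
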