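import Groth.Statements.S9336
import Groth.Agent.SchemeMorphisms.Points
-- import your own Groth.Agent.* helpers here

set_option autoImplicit false
universe u
open QFin

namespace Groth.Agent.S9336

open CategoryTheory Limits AlgebraicGeometry TopologicalSpace Groth.SchemeMorphisms
set_option backward.isDefEq.respectTransparency false

open AlgebraicGeometry CategoryTheory in
/-- Let f : X → Y be surjective and g : Y → S locally of finite type. If g ∘ f is locally quasi-finite
(and locally of finite type), then g is locally quasi-finite. -/
theorem result {X Y S : Scheme.{u}} (f : X ⟶ Y) (g : Y ⟶ S) [Surjective f]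
    [LocallyQuasiFinite (f ≫ g)] [LocallyOfFiniteType (f ≫ g)] [LocallyOfFiniteType g] :
    LocallyQuasiFinite g := by
  have : LocallyOfFiniteType f := locallyOfFiniteType_of_comp f g
  rw [locallyQuasiFinite_iff_isDiscrete_preimage_singleton]
  intro s
  have hclosed : ∀ y : g.fiber s, IsClosed ({y} : Set (g.fiber s)) := by
    intro y
    obtain ⟨x, hx⟩ := f.surjective (g.fiberι s y)
    obtain ⟨y', rfl, rfl⟩ : ∃ (y' : Y) (h : g y' = s), (g.fiberHomeo s).symm ⟨y', h⟩ = y :=
      ⟨g.fiberι s y, (g.fiberHomeo s y).2, (g.fiberHomeo s).symm_apply_apply y⟩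
    change IsClosed ({g.asFiber y'} : Set (g.fiber (g y')))
    rw [isClosed_asFiber_iff_finite]
    replace hx : f x = y' := hx.trans (g.fiberι_fiberHomeo_symm _ _)
    have hq := (isClosed_asFiber_iff_finite (f ≫ g) x).mp
      ((f ≫ g).quasiFiniteAt x).isClopen_singleton_asFiber.isClosed
    rw [Scheme.residueFieldMap_comp, CommRingCat.hom_comp] at hq
    subst hx
    letI := (g.residueFieldMap (f x)).hom.toAlgebra
    letI := (f.residueFieldMap x).hom.toAlgebra
    letI := ((f.residueFieldMap x).hom.comp (g.residueFieldMap (f x)).hom).toAlgebra
    have : IsScalarTower (S.residueField (g (f x))) (Y.residueField (f x)) (X.residueField x) :=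
      .of_algebraMap_eq fun _ => rfl
    have : Module.Finite (S.residueField (g (f x))) (X.residueField x) := hq
    exact Module.Finite.of_injective
      (IsScalarTower.toAlgHom (S.residueField (g (f x))) (Y.residueField (f x))
        (X.residueField x)).toLinearMap
      (algebraMap (Y.residueField (f x)) (X.residueField x)).injective
  have := isLocallyNoetherian_fiber g s
  have : DiscreteTopology (g.fiber s) := discreteTopology_iff_isOpen_singleton.mpr fun y =>
    isOpen_singleton_of_isClosed_of_forall_specializes _ y (hclosed y) fun z hz => by
      simpa [(hclosed z).closure_eq, eq_comm] using hz.mem_closure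
  rw [← g.range_fiberι]
  rw [← Set.image_univ]
  exact (isDiscrete_univ_iff.mpr this).image (g.fiberι s).isEmbedding.toIsInducing

end Groth.Agent.S9336
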