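import Groth.Statements.S5371
import Groth.Agent.QuotFpqc.Group
import Groth.Agent.GitQuot.FppfSourceScheme
import Groth.Agent.FppfSmooth.Basic
import Groth.Agent.EtaleBase.FpqcDescent
import Groth.Agent.AlgSpBasic.SourceDescent
import Groth.Agent.FlatMor2.Thickening
import Groth.Agent.S9336
import Groth.Agent.S4596
import Mathlib.AlgebraicGeometry.Morphisms.LocalFlatDescent

set_option autoImplicit false
universe u
open CategoryTheory CategoryTheory.Limits MonoidalCategory CartesianMonoidalCategory MonObj GrpObj AlgebraicGeometry
open SGA3

namespace Groth.Agent.S5371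

/-- Let u : G' → G be a monomorphism of S-group schemes and p : G → G'' a morphism of S-schemes which is
covering for the fpqc topology (some Z → G'' which is flat, surjective, with every affine open of
G'' the image of a quasi-compact open of Z, factors through p) and such that the square (g, h) ↦
g·u(h), first projection G ×_S G' → G, p, p is cartesian, so that G'' represents the fpqc quotient
sheaf G/G'. (xii) G' is flat and locally of finite presentation over S if and only if p is
surjective, flat and locally of finite presentation; in that case, if G is locally of finite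
presentation (resp. locally of finite type, of finite type, smooth, etale, unramified, locally
quasi-finite) over S, so is G''. (xiii) If G' is flat and of finite presentation over S then p is of
finite presentation, and G is of finite presentation over S if and only if G'' is. -/
theorem result (S : Scheme.{u}) (G G' G'' : Over S) [GrpObj G] [GrpObj G']
    (u : G' ⟶ G) [IsMonHom u] [Mono u] (p : G ⟶ G'')
    (hcov : (∃ (Z : Scheme.{u}) (q : Z ⟶ G''.left) (r : Z ⟶ G.left), r ≫ p.left = q ∧ Surjective q ∧ Flat q ∧
        ∀ V : G''.left.Opens, IsAffineOpen V → ∃ W : Z.Opens, IsCompact (W : Set Z) ∧ q.base '' (W : Set Z) = (V : Set G''.left)))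
    (hsq : IsPullback ((G ◁ u) ≫ μ[G]) (fst G G') p p) :
    ((Flat G'.hom ∧ LocallyOfFinitePresentation G'.hom) ↔
      (Surjective p.left ∧ Flat p.left ∧ LocallyOfFinitePresentation p.left)) ∧
    (Flat p.left → LocallyOfFinitePresentation p.left →
      (LocallyOfFinitePresentation G.hom → LocallyOfFinitePresentation G''.hom) ∧
      (LocallyOfFiniteType G.hom → LocallyOfFiniteType G''.hom) ∧
      (LocallyOfFiniteType G.hom → QuasiCompact G.hom → QuasiCompact G''.hom) ∧
      (Smooth G.hom → Smooth G''.hom) ∧ (Etale G.hom → Etale G''.hom) ∧
      (FormallyUnramified G.hom → LocallyOfFinitePresentation G.hom → FormallyUnramified G''.hom) ∧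
      (LocallyQuasiFinite G.hom → LocallyOfFiniteType G.hom → LocallyQuasiFinite G''.hom)) ∧
    (Flat G'.hom → LocallyOfFinitePresentation G'.hom → QuasiCompact G'.hom → QuasiSeparated G'.hom →
      QuasiCompact p.left ∧ QuasiSeparated p.left ∧ LocallyOfFinitePresentation p.left ∧
      ((LocallyOfFinitePresentation G.hom ∧ QuasiCompact G.hom ∧ QuasiSeparated G.hom) ↔
        (LocallyOfFinitePresentation G''.hom ∧ QuasiCompact G''.hom ∧ QuasiSeparated G''.hom))) := by
  have hp : Groth.QuotFpqc.Covering p.left := Groth.QuotFpqc.covering_of_qc hcov
  have hps := hp.surjective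
  have sq := (Groth.QuotFpqc.unit_isPullback hsq).map (Over.forget S)
  have ksq := hsq.map (Over.forget S)
  simp only [Over.forget_obj, Over.forget_map] at sq ksq
  have hwp : p.left ≫ G''.hom = G.hom := Over.w p
  have desc : ∀ (P : MorphismProperty Scheme.{u}) [IsZariskiLocalAtTarget P] [P.IsStableUnderBaseChange],
      P.DescendsAlong Groth.DescentBase.SFQ → P G'.hom → P p.left := by
    intro P _ _ hP h
    refine hp.descends P hP ?_
    rw [← ksq.isoPullback_inv_snd]
    refine (P.cancel_left_of_respectsIso ksq.isoPullback.inv _).2 ?_
    rw [Over.fst_left]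
    exact MorphismProperty.pullback_fst _ _ h
  have bc : ∀ (P : MorphismProperty Scheme.{u}) [P.IsStableUnderBaseChange], P p.left → P G'.hom :=
    fun P _ h => MorphismProperty.of_isPullback sq h
  refine ⟨⟨fun h => ?_, fun h => ?_⟩, fun h1 h2 => ⟨?_, ?_, ?_, ?_, ?_, ?_, ?_⟩, fun h1 h2 h3 h4 => ?_⟩
  · exact ⟨hps, desc @Flat inferInstance h.1, desc @LocallyOfFinitePresentation inferInstance h.2⟩
  · exact ⟨bc @Flat h.2.1, bc @LocallyOfFinitePresentation h.2.2⟩
  · intro h
    rw [← hwp] at h
    exact Groth.GitQuot.FppfSource.locallyOfFinitePresentation_of_fppf p.left G''.hom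
  · intro h
    rw [← hwp] at h
    exact Groth.GitQuot.FppfSource.locallyOfFiniteType_of_fppf p.left G''.hom
  · intro _ h
    rw [← hwp] at h
    exact Groth.Agent.S4596.result p.left G''.hom
  · intro h
    rw [← hwp] at h
    exact Groth.FppfSmooth.smooth_of_fppf p.left G''.hom
  · intro h
    rw [← hwp] at h
    have : FormallyUnramified p.left := FormallyUnramified.of_comp p.left G''.hom
    have : Etale p.left := Etale.of_formallyUnramified_of_flat p.left
    exact Groth.AlgSpBasic.SourceDescent.etale_of_comp_surjective p.left G''.hom
  · intro h _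
    rw [← hwp] at h
    have : FormallyUnramified p.left := FormallyUnramified.of_comp p.left G''.hom
    have : Etale p.left := Etale.of_formallyUnramified_of_flat p.left
    exact Groth.AlgSpBasic.SourceDescent.formallyUnramified_of_comp_surjective p.left G''.hom
  · intro h h'
    rw [← hwp] at h h'
    have := Groth.GitQuot.FppfSource.locallyOfFiniteType_of_fppf p.left G''.hom
    exact Groth.Agent.S9336.result p.left G''.hom
  · have hqc : QuasiCompact p.left := desc @QuasiCompact inferInstance h3
    have hqs : QuasiSeparated p.left := desc @QuasiSeparated inferInstance h4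
    have hfl : Flat p.left := desc @Flat inferInstance h1
    have hfp : LocallyOfFinitePresentation p.left := desc @LocallyOfFinitePresentation inferInstance h2
    refine ⟨hqc, hqs, hfp, fun ⟨a, b, c⟩ => ?_, fun ⟨a, b, c⟩ => ?_⟩
    · rw [← hwp] at a b c
      exact ⟨Groth.GitQuot.FppfSource.locallyOfFinitePresentation_of_fppf p.left G''.hom,
        Groth.Agent.S4596.result p.left G''.hom,
        Groth.FlatMor2.quasiSeparated_of_comp_surjective p.left G''.hom⟩
    · rw [← hwp]
      exact ⟨inferInstance, inferInstance, inferInstance⟩

end Groth.Agent.S5371
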