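import Groth.Statements.S5376
import Groth.Agent.Hopf.Comod

set_option autoImplicit false
universe u
open CategoryTheory CategoryTheory.Limits MonoidalCategory CartesianMonoidalCategory MonObj GrpObj AlgebraicGeometry
open SGA3

namespace Groth.Agent.S5376

open TensorProduct Groth.ComodLib

theorem slice_apply_dual {k : Type u} [CommRing k] {A : Type u} [AddCommGroup A] [Module k A]
    {V : Type u} [AddCommGroup V] [Module k V] (φ : A →ₗ[k] k) (l : V →ₗ[k] k) (x : V ⊗[k] A) :
    φ (TensorProduct.lid k A (l.rTensor A x)) = l (slice φ x) := by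
  induction x using TensorProduct.induction_on with
  | zero => simp
  | tmul a b => simp [mul_comm]
  | add x y hx hy => simp [map_add, hx, hy]

theorem eq_zero_of_points {k : Type u} [Field k] [IsAlgClosed k] {A : Type u} [CommRing A]
    [Algebra k A] [Algebra.FiniteType k A] [IsReduced A] {a : A} (h : ∀ g : A →ₐ[k] k, g a = 0) :
    a = 0 := by
  have : IsJacobsonRing A := isJacobsonRing_of_finiteType (A := k)
  have h1 : a ∈ Ideal.jacobson (⊥ : Ideal A) := by
    rw [Ideal.jacobson, Submodule.mem_sInf]
    intro (m : Ideal A) hm
    have hmax : m.IsMaximal := hm.2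
    letI := Ideal.Quotient.field m
    have : Module.Finite k (A ⧸ m) := finite_of_finite_type_of_isJacobsonRing k (A ⧸ m)
    let e := AlgEquiv.ofBijective (Algebra.ofId k (A ⧸ m))
      (IsAlgClosed.algebraMap_bijective_of_isIntegral (k := k) (K := A ⧸ m))
    exact Ideal.Quotient.eq_zero_iff_mem.1 <| e.symm.injective (by
      simpa using h (e.symm.toAlgHom.comp (Ideal.Quotient.mkₐ k m)))
  rw [this.out (Ideal.isRadical_bot)] at h1
  exact h1

/-- Let k be an algebraically closed field, A a finitely generated commutative Hopf algebra over k which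
is reduced (a reduced affine algebraic k-group G), V a finite-dimensional A-comodule and v a vector
of V. Let E be the k-subspace of V spanned by the vectors g·v for g running over the k-points of G
(algebra maps A → k). Then E is a subcomodule of V containing v, and it is the smallest one. -/
theorem result (k : Type u) [Field k] [IsAlgClosed k] (A : Type u) [CommRing A] [HopfAlgebra k A]
    [Algebra.FiniteType k A] [IsReduced A] (V : Type u) [AddCommGroup V] [Module k V] [HopfRep.Comod k A V]
    [Module.Finite k V] (v : V) :
    letI E : Submodule k V := Submodule.span k (Set.range fun g : A →ₐ[k] k => HopfRep.Comod.act k A V g v)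
    HopfRep.IsSubcomod (k := k) (A := A) E ∧ v ∈ E ∧
      ∀ W : Submodule k V, HopfRep.IsSubcomod (k := k) (A := A) W → v ∈ W → E ≤ W := by
  set E : Submodule k V := Submodule.span k (Set.range fun g : A →ₐ[k] k => HopfRep.Comod.act k A V g v) with hEdef
  have hle : gen (k := k) A v ≤ E := by
    rintro _ ⟨φ, rfl⟩
    by_contra hne
    obtain ⟨l, hl, hlE⟩ := Submodule.exists_dual_map_eq_bot_of_notMem hne inferInstance
    have h0 : TensorProduct.lid k A (l.rTensor A (HopfRep.Comod.coact (k := k) (A := A) v)) = 0 := by
      refine eq_zero_of_points (k := k) fun g => ?_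
      have := slice_apply_dual g.toLinearMap l (HopfRep.Comod.coact (k := k) (A := A) v)
      rw [AlgHom.toLinearMap_apply] at this
      rw [this]
      have hm : HopfRep.Comod.act k A V g v ∈ E := Submodule.subset_span ⟨g, rfl⟩
      have := Submodule.mem_map_of_mem (f := l) hm
      rwa [hlE, Submodule.mem_bot] at this
    apply hl
    rw [sliceL_apply, ← slice_apply_dual, h0, map_zero]
  have hle' : E ≤ gen (k := k) A v := by
    rw [Submodule.span_le]
    rintro _ ⟨g, rfl⟩
    exact ⟨g.toLinearMap, rfl⟩
  have he : E = gen (k := k) A v := le_antisymm hle' hle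
  refine ⟨?_, ?_, fun W hW hv => he ▸ gen_le hW hv⟩
  · rw [he]; exact isSubcomod_gen v
  · rw [he]; exact mem_gen_self v

end Groth.Agent.S5376
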