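import Groth.Statements.S5377
import Mathlib.RingTheory.Flat.EquationalCriterion
import Mathlib.RingTheory.RingHom.FaithfullyFlat
import Mathlib.Algebra.Category.Ring.FilteredColimits
import Mathlib.CategoryTheory.Limits.ConcreteCategory.Basic

set_option autoImplicit false
universe u
open CategoryTheory AlgebraicGeometry Limits

namespace Groth.Agent.S5377

variable {J : Type u} [SmallCategory J] [IsFiltered J]

theorem exists_reps (F : J ⥤ CommRingCat.{u}) {κ : Type*} [Finite κ] (x : κ → (colimit F : CommRingCat.{u})) :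
    ∃ (j : J) (y : κ → F.obj j), ∀ k, colimit.ι F j (y k) = x k := by
  classical
  cases nonempty_fintype κ
  choose j y hy using fun k => Concrete.colimit_exists_rep F (x k)
  obtain ⟨j₀, hj₀⟩ := IsFiltered.sup_objs_exists (Finset.univ.image j)
  refine ⟨j₀, fun k => F.map (hj₀ (Finset.mem_image_of_mem j (Finset.mem_univ k))).some (y k), fun k => ?_⟩
  rw [← hy k, ← CategoryTheory.comp_apply, colimit.w]

/-- Let (C_i → A_i)_i be a filtered direct system of homomorphisms of commutative rings, each of which
is faithfully flat. Then the induced homomorphism colim C_i → colim A_i is faithfully flat. -/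
theorem result (J : Type u) [SmallCategory J] [IsFiltered J]
    (C A : J ⥤ CommRingCat.{u}) (φ : C ⟶ A) (h : ∀ j : J, (φ.app j).hom.FaithfullyFlat) :
    (colimMap φ).hom.FaithfullyFlat := by
  classical
  have hnat : ∀ (j : J) (c : C.obj j),
      (colimMap φ).hom (colimit.ι C j c) = colimit.ι A j (φ.app j c) := fun j c => by
    rw [← CategoryTheory.comp_apply]
    change (colimit.ι C j ≫ colimMap φ) c = _
    rw [ι_colimMap]
    rfl
  have hC : ∀ {i j : J} (g : i ⟶ j) (c : C.obj i), colimit.ι C j (C.map g c) = colimit.ι C i c :=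
    fun g c => by rw [← CategoryTheory.comp_apply, colimit.w]
  have hA : ∀ {i j : J} (g : i ⟶ j) (c : A.obj i), colimit.ι A j (A.map g c) = colimit.ι A i c :=
    fun g c => by rw [← CategoryTheory.comp_apply, colimit.w]
  have hpair : ∀ {κ : Type} [Finite κ] (f : κ → (colimit C : CommRingCat.{u}))
      (x : κ → (colimit A : CommRingCat.{u})), ∃ (j : J) (a : κ → C.obj j) (b : κ → A.obj j),
      (∀ k, colimit.ι C j (a k) = f k) ∧ ∀ k, colimit.ι A j (b k) = x k := by
    intro κ _ f x
    obtain ⟨i, a, ha⟩ := exists_reps C f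
    obtain ⟨i', b, hb⟩ := exists_reps A x
    exact ⟨IsFiltered.max i i', fun k => C.map (IsFiltered.leftToMax i i') (a k),
      fun k => A.map (IsFiltered.rightToMax i i') (b k), fun k => by rw [hC, ha], fun k => by rw [hA, hb]⟩
  have hzero : ∀ {j : J} (z : A.obj j), colimit.ι A j z = 0 → ∃ (k : J) (g : j ⟶ k), A.map g z = 0 := by
    intro j z hz
    obtain ⟨k, g, g', hk⟩ := Concrete.colimit_exists_of_rep_eq A (i := j) (j := j) z 0
      (hz.trans (map_zero _).symm)
    exact ⟨k, g, hk.trans (map_zero _)⟩
  have hmove : ∀ {i j : J} (g : i ⟶ j) (c : C.obj i), φ.app j (C.map g c) = A.map g (φ.app i c) :=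
    fun g c => by rw [← CategoryTheory.comp_apply, φ.naturality, CategoryTheory.comp_apply]
  rw [RingHom.FaithfullyFlat.iff_flat_and_comap_surjective]
  have hflat : (colimMap φ).hom.Flat := by
    algebraize [(colimMap φ).hom]
    refine Module.Flat.of_forall_isTrivialRelation fun {l f x} hfx => ?_
    obtain ⟨j, a, b, ha, hb⟩ := hpair f x
    have h0 : colimit.ι A j (∑ i, φ.app j (a i) * b i) = 0 := by
      rw [map_sum, ← hfx]
      refine Finset.sum_congr rfl fun i _ => ?_
      rw [map_mul, ← hnat, ha, hb, Algebra.smul_def]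
      rfl
    obtain ⟨k, g, hg⟩ := hzero _ h0
    letI : Algebra (C.obj k) (A.obj k) := (φ.app k).hom.toAlgebra
    haveI : Module.Flat (C.obj k) (A.obj k) := (h k).flat
    have h1 : ∑ i, C.map g (a i) • A.map g (b i) = 0 := by
      rw [← hg, map_sum]
      refine Finset.sum_congr rfl fun i _ => ?_
      rw [map_mul, ← hmove, Algebra.smul_def]
      rfl
    obtain ⟨m, c, y, hy, hc⟩ := Module.Flat.isTrivialRelation_of_sum_smul_eq_zero h1
    refine ⟨m, fun i q => colimit.ι C k (c i q), fun q => colimit.ι A k (y q), fun i => ?_, fun q => ?_⟩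
    · rw [← hb i, ← hA g]
      have h3 := hy i
      dsimp only at h3 ⊢
      rw [h3, map_sum]
      refine Finset.sum_congr rfl fun q _ => ?_
      rw [Algebra.smul_def, Algebra.smul_def, map_mul]
      exact congrArg (· * _) (hnat k (c i q)).symm
    · have h2 := congrArg (colimit.ι C k) (hc q)
      rw [map_sum, map_zero] at h2
      rw [← h2]
      exact Finset.sum_congr rfl fun i _ => by rw [map_mul, hC, ha]
  refine ⟨hflat, ?_⟩
  algebraize [(colimMap φ).hom]
  haveI : Module.Flat (colimit C : CommRingCat.{u}) (colimit A : CommRingCat.{u}) := hflat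
  suffices hff : Module.FaithfullyFlat (colimit C : CommRingCat.{u}) (colimit A : CommRingCat.{u}) from
    PrimeSpectrum.comap_surjective_of_faithfullyFlat
  refine ⟨fun {m} hm htop => hm.ne_top ((Ideal.eq_top_iff_one m).2 ?_)⟩
  have h1 : (1 : (colimit A : CommRingCat.{u})) ∈
      Ideal.span ((colimMap φ).hom '' (m : Set (colimit C : CommRingCat.{u}))) := by
    have : (1 : (colimit A : CommRingCat.{u})) ∈ Ideal.map (algebraMap _ _) m := by
      rw [← Submodule.restrictScalars_mem (colimit C : CommRingCat.{u}), ← Ideal.smul_top_eq_map, htop]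
      trivial
    exact this
  obtain ⟨n, cf, gs, hsum⟩ := (Submodule.mem_span_set' (R := (colimit A : CommRingCat.{u}))).1 h1
  choose p hp hpg using fun q => (gs q).2
  obtain ⟨j, a, b, ha, hb⟩ := hpair p cf
  have h0 : colimit.ι A j ((∑ q, b q * φ.app j (a q)) - 1) = 0 := by
    rw [map_sub, map_one, map_sum, sub_eq_zero, ← hsum]
    refine Finset.sum_congr rfl fun q _ => ?_
    rw [map_mul, ← hnat, ha, hb, hpg, smul_eq_mul]
  obtain ⟨k, g, hg⟩ := hzero _ h0
  let P : Ideal (C.obj k) := m.comap (colimit.ι C k).hom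
  have hP1 : (1 : C.obj k) ∈ P := by
    letI : Algebra (C.obj k) (A.obj k) := (φ.app k).hom.toAlgebra
    haveI : Module.FaithfullyFlat (C.obj k) (A.obj k) := h k
    have h2 : (1 : A.obj k) ∈ P.map (algebraMap (C.obj k) (A.obj k)) := by
      rw [map_sub, map_one, sub_eq_zero] at hg
      rw [← hg, map_sum]
      refine Submodule.sum_mem _ fun q _ => ?_
      rw [map_mul, ← hmove]
      refine Ideal.mul_mem_left _ _ (Ideal.mem_map_of_mem _ ?_)
      change colimit.ι C k (C.map g (a q)) ∈ m
      rw [hC, ha]
      exact hp q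
    rw [← Ideal.comap_map_eq_self_of_faithfullyFlat (B := A.obj k) P]
    rw [Ideal.mem_comap, map_one]
    exact h2
  change colimit.ι C k (1 : C.obj k) ∈ m at hP1
  rwa [map_one] at hP1

end Groth.Agent.S5377
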