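import Groth.Statements.S5378
import Groth.Agent.AlgGrp1.AffineHull
import Groth.Agent.Sga3.AffineHomFactor

set_option autoImplicit false
universe u
open CategoryTheory CategoryTheory.Limits MonoidalCategory CartesianMonoidalCategory MonObj GrpObj AlgebraicGeometry
open SGA3

namespace Groth.Agent.S5378

/-- Let k be a field, G a k-group scheme of finite type, G' an affine k-group scheme (not necessarily of
finite type) and u : G → G' a homomorphism. Then u factors as a homomorphism p : G → C which is
surjective and flat (C is the quotient of G by the kernel of u) followed by a homomorphism i : C →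
G' which is a closed immersion; in particular C is affine. If moreover u induces an injective map on
global sections, then i is an isomorphism (so G' is of finite type and u is faithfully flat). -/
theorem result (k : Type u) [Field k] (G G' : Over (Spec (CommRingCat.of k))) [GrpObj G] [GrpObj G']
    [LocallyOfFiniteType G.hom] [QuasiCompact G.hom] [IsAffine G'.left] (u : G ⟶ G') [IsMonHom u] :
    ∃ (C : Over (Spec (CommRingCat.of k))) (_ : GrpObj C) (p : G ⟶ C) (i : C ⟶ G'), IsMonHom p ∧ IsMonHom i ∧
      p ≫ i = u ∧ Surjective p.left ∧ Flat p.left ∧ IsClosedImmersion i.left ∧ IsAffine C.left ∧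
      (Function.Injective u.left.appTop.hom → IsIso i) := by
  obtain ⟨hΓ, g, hρ⟩ := Groth.AlgGrp1.AffineHull.exists_grpObj_hull G
  letI := g
  let ρ := Groth.AlgGrp1.AffineHull.toHull G
  haveI : IsMonHom ρ := hρ
  haveI : IsAffine (Groth.AlgGrp1.AffineHull.hull G).left := inferInstanceAs (IsAffine (Spec _))
  haveI : Groth.AlgGrp1.AffineHull.GammaIso ρ := hΓ
  haveI : QuasiSeparated G.hom := by
    have := Groth.AlgGrp1.isSeparated_grpObj G
    infer_instance
  obtain ⟨v, hv⟩ := Groth.AlgGrp1.AffineHull.exists_desc ρ u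
  haveI : QuasiCompact (G ⊗ G).hom :=
    inferInstanceAs (QuasiCompact (Limits.pullback.fst G.hom G.hom ≫ G.hom))
  haveI : QuasiSeparated (G ⊗ G).hom :=
    inferInstanceAs (QuasiSeparated (Limits.pullback.fst G.hom G.hom ≫ G.hom))
  haveI : IsMonHom v :=
    { one_hom := by
        rw [← IsMonHom.one_hom ρ, Category.assoc, hv, IsMonHom.one_hom u]
      mul_hom := by
        have := Groth.AlgGrp1.AffineHull.gammaIso_tensor ρ ρ
        refine Groth.AlgGrp1.AffineHull.hom_ext (ρ ⊗ₘ ρ) ?_
        rw [← Category.assoc, ← IsMonHom.mul_hom ρ, Category.assoc, hv, IsMonHom.mul_hom u,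
          tensorHom_comp_tensorHom_assoc, hv] }
  obtain ⟨-, h1, h2⟩ := Groth.AlgGrp1.AffineHull.flat_surjective_finiteType G
    (Groth.AlgGrp1.AffineHull.hull G) ρ
  obtain ⟨C, gC, p, i, hp, hi, hpi, hps, hpf, hic, hC, hiso⟩ := Groth.Sga3.AffineHomFactor.exists_factor
    (Groth.AlgGrp1.AffineHull.hull G) G' v
  letI := gC
  haveI := hp
  refine ⟨C, gC, ρ ≫ p, i, inferInstance, hi, by rw [Category.assoc, hpi, hv], ?_, ?_, hic, hC, fun hinj => hiso ?_⟩
  · haveI := h2; haveI := hps
    rw [Over.comp_left]; infer_instance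
  · haveI := h1; haveI := hpf
    rw [Over.comp_left]; infer_instance
  · rw [← hv, Over.comp_left, Scheme.Hom.comp_appTop, CommRingCat.hom_comp, RingHom.coe_comp] at hinj
    exact hinj.of_comp

end Groth.Agent.S5378
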