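import Groth.Statements.S5380
import Mathlib

set_option autoImplicit false
universe u
open CategoryTheory CategoryTheory.Limits MonoidalCategory CartesianMonoidalCategory MonObj GrpObj AlgebraicGeometry
open SGA3

namespace Groth.Agent.S5380

open scoped TensorProduct

variable {A : Type u} [CommRing A] (a : A) {M : Type u} [AddCommGroup M] [Module A M]

/-- flatness of the reduction, for modules killed by the ideal -/
theorem base_inj {Ab : Type u} [CommRing Ab] [Algebra A Ab] (hflat : Module.Flat Ab (Ab ⊗[A] M))
    {X Y : Type u} [AddCommGroup X] [Module Ab X] [Module A X] [IsScalarTower A Ab X]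
    [AddCommGroup Y] [Module Ab Y] [Module A Y] [IsScalarTower A Ab Y] (j : X →ₗ[Ab] Y)
    (hj : Function.Injective j) : Function.Injective ((j.restrictScalars A).lTensor M) := by
  let eX : M ⊗[A] X ≃+ X ⊗[Ab] (Ab ⊗[A] M) := (TensorProduct.comm A M X).toAddEquiv.trans
    (TensorProduct.AlgebraTensorModule.cancelBaseChange A Ab Ab X M).symm.toAddEquiv
  let eY : M ⊗[A] Y ≃+ Y ⊗[Ab] (Ab ⊗[A] M) := (TensorProduct.comm A M Y).toAddEquiv.trans
    (TensorProduct.AlgebraTensorModule.cancelBaseChange A Ab Ab Y M).symm.toAddEquiv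
  have hnat : ∀ z, eY ((j.restrictScalars A).lTensor M z) = j.rTensor (Ab ⊗[A] M) (eX z) := by
    intro z
    induction z using TensorProduct.induction_on with
    | zero => simp
    | tmul m x => simp [eX, eY]
    | add u v hu hv => simp only [map_add, hu, hv]
  have hinj : Function.Injective (j.rTensor (Ab ⊗[A] M)) :=
    Module.Flat.rTensor_preserves_injective_linearMap j hj
  intro z w h
  refine eX.injective (hinj ?_)
  rw [← hnat, ← hnat, h]

/-- LA, abstract -/
theorem inj_aux (hM : IsSMulRegular M a) {Ab : Type u} [CommRing Ab] [Algebra A Ab]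
    (hsurj : Function.Surjective (algebraMap A Ab)) (hflat : Module.Flat Ab (Ab ⊗[A] M))
    {F Fb : Type u} [AddCommGroup F] [Module A F] [Module.Flat A F]
    [AddCommGroup Fb] [Module Ab Fb] [Module A Fb] [IsScalarTower A Ab Fb]
    (q : F →ₗ[A] Fb) (hker : ∀ f, q f = 0 ↔ ∃ g, a • g = f) (K : Submodule A F)
    (hK : ∀ f : F, a • f ∈ K) : Function.Injective (K.subtype.lTensor M) := by
  refine (injective_iff_map_eq_zero _).mpr fun x hx => ?_
  let Kb : Submodule Ab Fb :=
    { carrier := Set.range (q ∘ₗ K.subtype)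
      zero_mem' := ⟨0, map_zero _⟩
      add_mem' := by rintro _ _ ⟨k, rfl⟩ ⟨l, rfl⟩; exact ⟨k + l, map_add _ _ _⟩
      smul_mem' := by
        rintro r _ ⟨k, rfl⟩
        obtain ⟨r, rfl⟩ := hsurj r
        exact ⟨r • k, by rw [map_smul, algebraMap_smul]⟩ }
  let qK : K →ₗ[A] Kb :=
    { toFun := fun k => ⟨q (k : F), k, rfl⟩
      map_add' := fun k l => Subtype.ext (by simp)
      map_smul' := fun r k => Subtype.ext (by simp) }
  let mu : F →ₗ[A] K := (LinearMap.lsmul A F a).codRestrict K hK
  have hexact : Function.Exact mu qK := by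
    intro k
    constructor
    · intro hk
      obtain ⟨g, hg⟩ := (hker _).mp (congrArg Subtype.val hk)
      exact ⟨g, Subtype.ext hg⟩
    · rintro ⟨f, rfl⟩
      exact Subtype.ext ((hker _).mpr ⟨f, rfl⟩)
  have h0 : qK.lTensor M x = 0 := by
    refine base_inj (A := A) hflat Kb.subtype Subtype.val_injective ?_
    have hcomp : (Kb.subtype.restrictScalars A).comp qK = q.comp K.subtype := LinearMap.ext fun k => rfl
    rw [← LinearMap.lTensor_comp_apply, hcomp, LinearMap.lTensor_comp_apply, hx, map_zero, map_zero]
  obtain ⟨z, rfl⟩ := (lTensor_exact M hexact (fun y => by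
    obtain ⟨k, hk⟩ := y.2
    exact ⟨k, Subtype.ext hk⟩) x).mp h0
  have hz : a • z = 0 := by
    rw [← LinearMap.lTensor_comp_apply] at hx
    have : (K.subtype ∘ₗ mu).lTensor M z = a • z := by
      clear hx h0
      induction z using TensorProduct.induction_on with
      | zero => simp
      | tmul m f => simp [mu]
      | add u v hu hv => simp only [map_add, hu, hv, smul_add]
    rwa [this] at hx
  have hreg : Function.Injective ((LinearMap.lsmul A M a).rTensor F) :=
    Module.Flat.rTensor_preserves_injective_linearMap _ hM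
  have hz0 : z = 0 := hreg (by
    rw [map_zero, ← hz]
    clear hx h0 hz
    induction z using TensorProduct.induction_on with
    | zero => simp
    | tmul m f => simp [TensorProduct.smul_tmul']
    | add u v hu hv => simp only [map_add, hu, hv, smul_add])
  rw [hz0, map_zero]

/-- LA -/
theorem inj_of_killed (hM : IsSMulRegular M a)
    (hflat : Module.Flat (A ⧸ Ideal.span {a}) ((A ⧸ Ideal.span {a}) ⊗[A] M))
    {F : Type u} [AddCommGroup F] [Module A F] [Module.Flat A F] (K : Submodule A F)
    (hK : ∀ f : F, a • f ∈ K) : Function.Injective (K.subtype.lTensor M) := by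
  refine inj_aux a hM Ideal.Quotient.mk_surjective hflat (TensorProduct.mk A (A ⧸ Ideal.span {a}) F 1)
    (fun f => ?_) K hK
  rw [← (TensorProduct.quotTensorEquivQuotSMul F (Ideal.span {a})).map_eq_zero_iff, TensorProduct.mk_apply,
    show (1 : A ⧸ Ideal.span {a}) ⊗ₜ[A] f = (Ideal.Quotient.mk (Ideal.span {a}) 1) ⊗ₜ[A] f from rfl,
    TensorProduct.quotTensorEquivQuotSMul_mk_tmul, one_smul, Submodule.Quotient.mk_eq_zero,
    Submodule.ideal_span_singleton_smul]
  exact ⟨fun ⟨g, _, hg⟩ => ⟨g, hg⟩, fun ⟨g, hg⟩ => ⟨g, trivial, hg⟩⟩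

/-- LB, abstract -/
theorem regular_aux (hM : IsSMulRegular M a)
    (hflat : Module.Flat (A ⧸ Ideal.span {a}) ((A ⧸ Ideal.span {a}) ⊗[A] M))
    {K : Type u} [AddCommGroup K] [Module A K] (hK : IsSMulRegular K a)
    {F : Type u} [AddCommGroup F] [Module A F] [Module.Flat A F] (π : F →ₗ[A] K) (hπ : Function.Surjective π) :
    IsSMulRegular (M ⊗[A] K) a := by
  refine (isSMulRegular_iff_right_eq_zero_of_smul).mpr fun y hy => ?_
  let L := LinearMap.ker π
  let K₂ : Submodule A F := (LinearMap.range (LinearMap.lsmul A K a)).comap π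
  have hL : L ≤ K₂ := fun l hl => ⟨0, by simp [LinearMap.mem_ker.mp hl]⟩
  have hK₂ : ∀ f : F, a • f ∈ K₂ := fun f => ⟨π f, by simp⟩
  let mu : F →ₗ[A] K₂ := (LinearMap.lsmul A F a).codRestrict K₂ hK₂
  let ψ : L × F →ₗ[A] K₂ := (Submodule.inclusion hL).coprod mu
  let θ : L →ₗ[A] L × F := LinearMap.prod (LinearMap.lsmul A L (-a)) L.subtype
  have hψ : Function.Surjective ψ := by
    rintro ⟨f, k, hk⟩
    obtain ⟨g, rfl⟩ := hπ k
    refine ⟨(⟨f - a • g, ?_⟩, g), Subtype.ext ?_⟩
    · rw [LinearMap.mem_ker, map_sub, map_smul, ← hk, LinearMap.lsmul_apply, sub_self]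
    · simp [ψ, mu]
  have hexact : Function.Exact θ ψ := by
    rintro ⟨l, f⟩
    constructor
    · intro h
      have h' : (l : F) + a • f = 0 := congrArg Subtype.val h
      have hf : π f = 0 := by
        refine hK.right_eq_zero_of_smul ?_
        have := congrArg π h'
        rwa [map_add, map_smul, LinearMap.mem_ker.mp l.2, zero_add, map_zero] at this
      refine ⟨⟨f, hf⟩, Prod.ext (Subtype.ext ?_) rfl⟩
      show (-a) • f = (l : F)
      rw [neg_smul]
      exact (eq_neg_of_add_eq_zero_left h').symm
    · rintro ⟨v, hv⟩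
      rw [← hv]
      apply Subtype.ext
      show (-a) • (v : F) + a • (v : F) = 0
      rw [neg_smul]
      exact neg_add_cancel _
  obtain ⟨z, rfl⟩ := LinearMap.lTensor_surjective M hπ y
  rw [← map_smul] at hy
  obtain ⟨w, hw⟩ := (lTensor_exact M (LinearMap.exact_subtype_ker_map π) hπ _).mp hy
  let E : M ⊗[A] (L × F) := (LinearMap.inl A L F).lTensor M w - (LinearMap.inr A L F).lTensor M z
  have hmu : ∀ v : M ⊗[A] F, (K₂.subtype ∘ₗ mu).lTensor M v = a • v := by
    intro v
    induction v using TensorProduct.induction_on with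
    | zero => simp
    | tmul m f => simp [mu]
    | add u v hu hv => simp only [map_add, hu, hv, smul_add]
  have hE : ψ.lTensor M E = 0 := by
    refine inj_of_killed a hM hflat K₂ hK₂ ?_
    rw [map_zero]
    simp only [E, map_sub, ← LinearMap.lTensor_comp_apply]
    rw [show K₂.subtype ∘ₗ ψ ∘ₗ LinearMap.inl A L F = L.subtype by ext l; simp [ψ],
      show K₂.subtype ∘ₗ ψ ∘ₗ LinearMap.inr A L F = K₂.subtype ∘ₗ mu by ext f; simp [ψ],
      hmu, hw, sub_self]
  obtain ⟨v, hv⟩ := (lTensor_exact M hexact hψ E).mp hE
  have h2 := congrArg ((LinearMap.snd A L F).lTensor M) hv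
  simp only [E, map_sub, ← LinearMap.lTensor_comp_apply, LinearMap.snd_comp_inl, LinearMap.snd_comp_inr,
    LinearMap.lTensor_zero, LinearMap.zero_apply, LinearMap.lTensor_id, LinearMap.id_apply, zero_sub] at h2
  rw [show LinearMap.snd A L F ∘ₗ θ = L.subtype from rfl] at h2
  have : z = - L.subtype.lTensor M v := by rw [h2, neg_neg]
  rw [this, map_neg, ← LinearMap.lTensor_comp_apply, LinearMap.comp_ker_subtype, LinearMap.lTensor_zero, LinearMap.zero_apply, neg_zero]

/-- LB -/
theorem regular_tensor (hM : IsSMulRegular M a)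
    (hflat : Module.Flat (A ⧸ Ideal.span {a}) ((A ⧸ Ideal.span {a}) ⊗[A] M))
    {K : Type u} [AddCommGroup K] [Module A K] (hK : IsSMulRegular K a) :
    IsSMulRegular (M ⊗[A] K) a :=
  regular_aux a hM hflat hK (Finsupp.linearCombination A (id : K → K)) (Finsupp.linearCombination_id_surjective A K)

/-- Let R be a discrete valuation ring with uniformizer π, A a flat commutative R-algebra and M an
A-module which is flat over R. Suppose that M/πM is a flat module over A/πA and that M ⊗_R K is a
flat module over A ⊗_R K, K the fraction field of R (equivalently, M[1/π] is flat over A[1/π], the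
form used here). Then M is a flat A-module. -/
theorem result (R : Type u) [CommRing R] [IsDomain R] [IsDiscreteValuationRing R]
    (π : R) (hπ : Irreducible π) (A : Type u) [CommRing A] [Algebra R A] [Module.Flat R A]
    (M : Type u) [AddCommGroup M] [Module A M] [Module R M] [IsScalarTower R A M] [Module.Flat R M]
    (h1 : Module.Flat (A ⧸ Ideal.span {algebraMap R A π}) (M ⧸ (Ideal.span {algebraMap R A π} • (⊤ : Submodule A M))))
    (h2 : Module.Flat (Localization.Away (algebraMap R A π)) (LocalizedModule (Submonoid.powers (algebraMap R A π)) M)) :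
    Module.Flat A M := by
  set a := algebraMap R A π with ha
  have hreg : ∀ (X : Type u) [AddCommGroup X] [Module A X] [Module R X] [IsScalarTower R A X] [Module.Flat R X],
      IsSMulRegular X a := fun X _ _ _ _ _ => by
    intro x y h
    have hr : IsSMulRegular X π := Module.Flat.isSMulRegular_of_isRegular (IsRegular.of_ne_zero hπ.ne_zero)
    refine hr ?_
    simp only [← algebraMap_smul A π]
    exact h
  have hM : IsSMulRegular M a := hreg M
  have hA : IsSMulRegular A a := hreg A
  have hflat : Module.Flat (A ⧸ Ideal.span {a}) ((A ⧸ Ideal.span {a}) ⊗[A] M) := by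
    have := h1
    let e : ((A ⧸ Ideal.span {a}) ⊗[A] M) ≃ₗ[A ⧸ Ideal.span {a}] M ⧸ (Ideal.span {a} • ⊤ : Submodule A M) :=
      { TensorProduct.quotTensorEquivQuotSMul M (Ideal.span {a}) with
        map_smul' := fun r x => by
          obtain ⟨r, rfl⟩ := Ideal.Quotient.mk_surjective r
          simp only [AddHom.toFun_eq_coe, LinearMap.coe_toAddHom, LinearEquiv.coe_coe, RingHom.id_apply]
          rw [← Ideal.Quotient.algebraMap_eq, algebraMap_smul, map_smul, algebraMap_smul] }
    exact Module.Flat.of_linearEquiv e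
  have hMa : Module.Flat A (LocalizedModule (Submonoid.powers a) M) := by
    have := h2
    have := IsLocalization.flat (Localization.Away a) (Submonoid.powers a)
    exact Module.Flat.trans A (Localization.Away a) (LocalizedModule (Submonoid.powers a) M)
  rw [Module.Flat.iff_lTensor_injective']
  intro I
  refine (injective_iff_map_eq_zero _).mpr fun x hx => ?_
  let gM := LocalizedModule.mkLinearMap (Submonoid.powers a) M
  let g := TensorProduct.AlgebraTensorModule.rTensor A I gM
  have : IsLocalizedModule (Submonoid.powers a) g := inferInstance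
  have hkey : ∀ z : M ⊗[A] I, (I.subtype.lTensor (LocalizedModule (Submonoid.powers a) M)) (g z)
      = TensorProduct.AlgebraTensorModule.rTensor A A gM (I.subtype.lTensor M z) := by
    intro z
    induction z using TensorProduct.induction_on with
    | zero => simp
    | tmul m i => simp [g]
    | add u v hu hv => simp only [map_add, hu, hv]
  have hg : g x = 0 := by
    refine Module.Flat.lTensor_preserves_injective_linearMap (M := LocalizedModule (Submonoid.powers a) M) I.subtype Subtype.val_injective ?_
    rw [hkey, hx, map_zero, map_zero]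
  obtain ⟨⟨_, n, rfl⟩, hn⟩ := (IsLocalizedModule.eq_zero_iff (Submonoid.powers a) g).mp hg
  have hI : IsSMulRegular I a := fun u v h => Subtype.ext (hA (congrArg Subtype.val h))
  exact ((regular_tensor a hM hflat hI).pow n).right_eq_zero_of_smul hn
end Groth.Agent.S5380
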