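import Groth.Statements.S5381


set_option autoImplicit false
universe u
open CategoryTheory CategoryTheory.Limits MonoidalCategory CartesianMonoidalCategory MonObj GrpObj AlgebraicGeometry
open SGA3

namespace Groth.Agent.S5381

/-- For S the spectrum of a Dedekind domain R: let X be a scheme which is flat, quasi-compact and
quasi-separated over R. Then the ring of global sections Γ(X, O_X) is a flat R-module. (The
published remark takes S locally noetherian and regular of dimension 1 and also observes, when S is
local with closed point s and uniformizer π, that Γ(X, O_X)/πΓ(X, O_X) → Γ(X_s, O_{X_s}) is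
injective; this row takes S the spectrum of a Dedekind domain and omits the injectivity.) -/
theorem result (R : Type u) [CommRing R] [IsDedekindDomain R]
    (X : Scheme.{u}) (f : X ⟶ Spec (CommRingCat.of R)) [Flat f] [QuasiCompact f] [QuasiSeparated f] :
    letI := ((Scheme.ΓSpecIso (CommRingCat.of R)).inv ≫ f.appTop).hom.toAlgebra
    Module.Flat R Γ(X, ⊤) := by
  let φ := ((Scheme.ΓSpecIso (CommRingCat.of R)).inv ≫ f.appTop).hom
  let := φ.toAlgebra
  change Module.Flat R Γ(X, ⊤)
  rw [IsDedekindDomain.flat_iff_torsion_eq_bot, eq_bot_iff]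
  rintro x ⟨⟨r, hr⟩, hrx⟩
  have hr0 : r ≠ 0 := nonZeroDivisors.ne_zero hr
  change φ r * x = 0 at hrx
  change x = 0
  refine X.sheaf.eq_of_locally_eq' (fun V : X.affineOpens => V.1) ⊤ (fun V => homOfLE le_top)
    (iSup_affineOpens_eq_top X).ge x 0 fun V => ?_
  rw [map_zero]
  let ψ := ((Scheme.ΓSpecIso (CommRingCat.of R)).inv ≫ f.appLE ⊤ V.1 le_top).hom
  have hψ : ψ.Flat := by
    refine RingHom.Flat.comp (RingHom.Flat.of_bijective ?_)
      (f.flat_appLE (isAffineOpen_top _) V.2 le_top)
    exact ConcreteCategory.bijective_of_isIso (Scheme.ΓSpecIso (CommRingCat.of R)).inv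
  let := ψ.toAlgebra
  have : Module.Flat R Γ(X, V.1) := hψ
  let res := (X.presheaf.map (homOfLE (le_top : V.1 ≤ ⊤)).op).hom
  have hres : ψ r * res x = 0 := by
    have : ψ r = res (φ r) := by
      simp only [ψ, φ, res, Scheme.Hom.appLE, CommRingCat.hom_comp, RingHom.comp_apply]
      rfl
    rw [this, ← map_mul, hrx, map_zero]
  have htor : res x ∈ Submodule.torsion R Γ(X, V.1) := ⟨⟨r, hr⟩, hres⟩
  rw [Module.Flat.torsion_eq_bot] at htor
  exact htor

end Groth.Agent.S5381
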