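import Groth.Statements.S5383
import Groth.Agent.EGA43Topo.UnibranchOpen
import Mathlib.AlgebraicGeometry.Morphisms.FiniteType

set_option autoImplicit false
set_option linter.style.haveILetI false
universe u
open CategoryTheory CategoryTheory.Limits MonoidalCategory CartesianMonoidalCategory MonObj GrpObj AlgebraicGeometry
open SGA3

namespace Groth.Agent.S5383

/-- (i) let A ⊆ B be domains with B integral over A, and q a prime of B such that the local ring of A at
p = q ∩ A is unibranch; then Spec B → Spec A is open at q (it maps neighbourhoods of q to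
neighbourhoods of p). (ii) Let f : X → Y be a dominant morphism of irreducible schemes which is
locally of finite type, x a point of X isolated in its fibre (f quasi-finite at x) such that the
local ring of Y at f(x) is unibranch; then f is open at x. -/
theorem result :
    (∀ (A B : Type u) [CommRing A] [IsDomain A] [CommRing B] [IsDomain B] [Algebra A B],
      Function.Injective (algebraMap A B) → Algebra.IsIntegral A B →
      ∀ q : PrimeSpectrum B, CAlg2.IsUnibranch (Localization.AtPrime (q.asIdeal.comap (algebraMap A B))) →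
        EGA43.IsOpenAt (PrimeSpectrum.comap (algebraMap A B)) q) ∧
    (∀ (X Y : Scheme.{u}) (f : X ⟶ Y) [IrreducibleSpace X] [IrreducibleSpace Y] [LocallyOfFiniteType f],
      DenseRange f.base → ∀ x : X, (nhdsWithin x (f.base ⁻¹' {f.base x})) = pure x →
        CAlg2.IsUnibranch (Y.presheaf.stalk (f.base x)) → EGA43.IsOpenAt f.base x) := by
  refine ⟨fun A B _ _ _ _ _ hinj hint q h => ?_, fun X Y f _ _ _ hdense x hiso h => ?_⟩
  · haveI := hint
    exact Groth.EGA43Topo.isOpenAt_comap_of_isIntegral A B hinj q h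
  obtain ⟨_, ⟨V, hV, rfl⟩, hxV, -⟩ := Y.isBasis_affineOpens.exists_subset_of_mem_open
    (Set.mem_univ (f.base x)) isOpen_univ
  obtain ⟨_, ⟨U, hU, rfl⟩, hxU, hUV⟩ := X.isBasis_affineOpens.exists_subset_of_mem_open
    (show x ∈ (f ⁻¹ᵁ V : Set X) from hxV) (f ⁻¹ᵁ V).isOpen
  have e : U ≤ f ⁻¹ᵁ V := hUV
  haveI : Nonempty (PrimeSpectrum Γ(Y, V)) := ⟨hV.primeIdealOf ⟨_, e hxU⟩⟩
  let φ := (f.appLE V U e).hom
  let sU : PrimeSpectrum Γ(X, U) → X := fun z => hU.fromSpec.base z
  let sV : PrimeSpectrum Γ(Y, V) → Y := fun z => hV.fromSpec.base z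
  have hUe : Topology.IsOpenEmbedding sU := hU.fromSpec.isOpenEmbedding
  have hVe : Topology.IsOpenEmbedding sV := hV.fromSpec.isOpenEmbedding
  have hcomm : ∀ z, sV (PrimeSpectrum.comap φ z) = f.base (sU z) := fun z => by
    have := congrArg (fun g : Spec Γ(X, U) ⟶ Y => g.base z) (hV.SpecMap_appLE_fromSpec f hU e)
    exact this
  have hUr : Set.range sU = U := hU.range_fromSpec
  have hVr : Set.range sV = V := hV.range_fromSpec
  let q₀ := hU.primeIdealOf ⟨x, hxU⟩
  have hq₀ : sU q₀ = x := hU.fromSpec_primeIdealOf _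
  have hp₀ : PrimeSpectrum.comap φ q₀ = hV.primeIdealOf ⟨f x, e hxU⟩ :=
    IsAffineOpen.comap_primeIdealOf_appLE V hV U hU e hxU
  -- both spectra are irreducible
  have hnilU : (nilradical Γ(X, U)).IsPrime := by
    rw [← PrimeSpectrum.irreducibleSpace_iff_isPrime_nilradical]
    haveI : IrreducibleSpace (U : Set X) := Subtype.irreducibleSpace ⟨⟨x, hxU⟩,
      (IrreducibleSpace.isIrreducible_univ X).2.open_subset U.isOpen (Set.subset_univ _)⟩
    exact (hUe.isEmbedding.toHomeomorph.trans (Homeomorph.setCongr hUr)).irreducibleSpace_iff.2 inferInstance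
  have hnilV : (nilradical Γ(Y, V)).IsPrime := by
    rw [← PrimeSpectrum.irreducibleSpace_iff_isPrime_nilradical]
    haveI : IrreducibleSpace (V : Set Y) := Subtype.irreducibleSpace ⟨⟨f x, e hxU⟩,
      (IrreducibleSpace.isIrreducible_univ Y).2.open_subset V.isOpen (Set.subset_univ _)⟩
    exact (hVe.isEmbedding.toHomeomorph.trans (Homeomorph.setCongr hVr)).irreducibleSpace_iff.2 inferInstance
  -- the map is dominant
  have hker : RingHom.ker φ ≤ nilradical Γ(Y, V) := by
    rw [← PrimeSpectrum.denseRange_comap_iff_ker_le_nilRadical]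
    intro z
    have hUd : Dense (U : Set X) := U.isOpen.dense ⟨x, hxU⟩
    have hd : Dense (f.base '' (U : Set X)) := hdense.dense_image f.continuous hUd
    have hz : sV z ∈ closure (sV '' Set.range (PrimeSpectrum.comap φ)) := by
      refine closure_mono ?_ (hd (sV z))
      rintro _ ⟨w, hw, rfl⟩
      obtain ⟨w, rfl⟩ : w ∈ Set.range sU := hUr.ge hw
      exact ⟨_, ⟨w, rfl⟩, hcomm w⟩
    exact hVe.isEmbedding.closure_eq_preimage_closure_image _ ▸ hz
  let πA : Γ(Y, V) →+* Γ(Y, V) ⧸ nilradical Γ(Y, V) := Ideal.Quotient.mk _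
  let πB : Γ(X, U) →+* Γ(X, U) ⧸ nilradical Γ(X, U) := Ideal.Quotient.mk _
  have hle : nilradical Γ(Y, V) ≤ (nilradical Γ(X, U)).comap φ :=
    fun a ha => mem_nilradical.2 ((mem_nilradical.1 ha).map φ)
  let φ₀ := Ideal.quotientMap (nilradical Γ(X, U)) φ hle
  have hφ₀ : φ₀.comp πA = πB.comp φ := RingHom.ext fun a => rfl
  letI : Algebra (Γ(Y, V) ⧸ nilradical Γ(Y, V)) (Γ(X, U) ⧸ nilradical Γ(X, U)) := φ₀.toAlgebra
  haveI := hnilU
  haveI := hnilV
  have hinj : Function.Injective φ₀ := by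
    refine Ideal.quotientMap_injective' (J := nilradical Γ(Y, V)) (I := nilradical Γ(X, U)) (H := hle) fun a ha => ?_
    obtain ⟨n, hn⟩ := mem_nilradical.1 (Ideal.mem_comap.1 ha)
    exact hnilV.mem_of_pow_mem n (hker (RingHom.mem_ker.2 (by rw [map_pow]; exact hn)))
  haveI : Algebra.FiniteType (Γ(Y, V) ⧸ nilradical Γ(Y, V)) (Γ(X, U) ⧸ nilradical Γ(X, U)) :=
    RingHom.FiniteType.of_comp_finiteType (g := φ₀) (f := πA) (by
      rw [hφ₀]
      exact (RingHom.FiniteType.of_surjective _ Ideal.Quotient.mk_surjective).comp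
        (f.finiteType_appLE hV hU e))
  have hπs : Function.Surjective (PrimeSpectrum.comap πB) := fun z => by
    refine ⟨⟨z.asIdeal.map πB, Ideal.map_isPrime_of_surjective Ideal.Quotient.mk_surjective
      (by rw [Ideal.mk_ker]; exact nilradical_le_prime _)⟩, PrimeSpectrum.ext ?_⟩
    exact Ideal.comap_map_mk (nilradical_le_prime _)
  have hπA : Function.Injective (PrimeSpectrum.comap πA) :=
    PrimeSpectrum.comap_injective_of_surjective _ Ideal.Quotient.mk_surjective
  obtain ⟨q, hq⟩ := hπs q₀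
  -- the two comaps agree
  have hcc : ∀ z, PrimeSpectrum.comap πA (PrimeSpectrum.comap φ₀ z) =
      PrimeSpectrum.comap φ (PrimeSpectrum.comap πB z) := fun z => by
    rw [← PrimeSpectrum.comap_comp_apply, hφ₀, PrimeSpectrum.comap_comp_apply]
  let j := fun z => sU (PrimeSpectrum.comap πB z)
  have hje : Topology.IsEmbedding j := hUe.isEmbedding.comp
    (PrimeSpectrum.isClosedEmbedding_comap_of_surjective _ _ Ideal.Quotient.mk_surjective).isEmbedding
  have hjq : j q = x := (congrArg sU hq).trans hq₀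
  -- quasi-finite at the point
  haveI : Algebra.QuasiFiniteAt (Γ(Y, V) ⧸ nilradical Γ(Y, V)) q.asIdeal := by
    refine Algebra.QuasiFiniteAt.of_isOpen_singleton_fiber q ?_
    have hm : ({x} : Set X) ∈ nhdsWithin x (f.base ⁻¹' {f.base x}) := by rw [hiso]; exact rfl
    obtain ⟨W, hWo, hxW, hW⟩ := mem_nhdsWithin.1 hm
    refine isOpen_induced_iff.2 ⟨j ⁻¹' W, hWo.preimage hje.continuous, ?_⟩
    ext ⟨z, hz⟩
    simp only [Set.mem_preimage, Set.mem_singleton_iff, Subtype.mk.injEq]
    refine ⟨fun hzW => hje.injective ((hW ⟨hzW, ?_⟩).trans hjq.symm), fun h => h ▸ hjq.symm ▸ hxW⟩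
    rw [Set.mem_preimage, Set.mem_singleton_iff, ← hjq, ← hcomm, ← hcomm, ← hcc, ← hcc]
    exact congrArg (fun w => sV (PrimeSpectrum.comap πA w)) hz
  have hub : CAlg2.IsUnibranch (Localization.AtPrime (q.asIdeal.comap φ₀)) := by
    letI := Y.presheaf.algebra_section_stalk ⟨f x, e hxU⟩
    haveI hloc := hV.isLocalization_stalk ⟨f x, e hxU⟩
    have hp : (q.asIdeal.comap φ₀).comap πA = (hV.primeIdealOf ⟨f x, e hxU⟩).asIdeal := by
      rw [← hp₀, ← hq]
      exact congrArg PrimeSpectrum.asIdeal (hcc q)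
    haveI : IsLocalization.AtPrime (Y.presheaf.stalk (f x))
        ((q.asIdeal.comap φ₀).comap (Ideal.Quotient.mk (nilradical Γ(Y, V)))) := by
      convert hloc using 2
    exact Groth.EGA43Topo.isUnibranch_quotient_nilradical _ (Y.presheaf.stalk (f x)) _ h
  have hopen := Groth.EGA43Topo.isOpenAt_comap_of_quasiFiniteAt
    (Γ(Y, V) ⧸ nilradical Γ(Y, V)) (Γ(X, U) ⧸ nilradical Γ(X, U)) hinj q hub
  intro W hW
  have h1 := hopen (j ⁻¹' W) (hje.continuous.continuousAt.preimage_mem_nhds (hjq.symm ▸ hW))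
  have hπAe : Topology.IsClosedEmbedding (PrimeSpectrum.comap πA) :=
    PrimeSpectrum.isClosedEmbedding_comap_of_surjective _ _ Ideal.Quotient.mk_surjective
  have hπAs : Function.Surjective (PrimeSpectrum.comap πA) := fun z => by
    refine ⟨⟨z.asIdeal.map πA, Ideal.map_isPrime_of_surjective Ideal.Quotient.mk_surjective
      (by rw [Ideal.mk_ker]; exact nilradical_le_prime _)⟩, PrimeSpectrum.ext ?_⟩
    exact Ideal.comap_map_mk (nilradical_le_prime _)
  have hπAh : IsHomeomorph (PrimeSpectrum.comap πA) :=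
    isHomeomorph_iff_isEmbedding_surjective.2 ⟨hπAe.isEmbedding, hπAs⟩
  have h2 := (hVe.isOpenMap.comp hπAh.isOpenMap).image_mem_nhds h1
  have hpt : sV (PrimeSpectrum.comap πA (PrimeSpectrum.comap φ₀ q)) = f.base x := by
    rw [hcc, hcomm]; exact congrArg f.base hjq
  simp only [Function.comp_apply] at h2
  rw [RingHom.algebraMap_toAlgebra, hpt] at h2
  refine Filter.mem_of_superset h2 ?_
  rintro _ ⟨_, ⟨z, hz, rfl⟩, rfl⟩
  exact ⟨_, hz, by simp only [j]; rw [hcc, hcomm]⟩

end Groth.Agent.S5383
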