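import Groth.Statements.S5384
import Groth.Prelude.Def_Red
import Groth.Agent.Agf.ClosedSubgroup

set_option autoImplicit false
universe u
open CategoryTheory CategoryTheory.Limits MonoidalCategory CartesianMonoidalCategory MonObj GrpObj AlgebraicGeometry
open SGA3

namespace Groth.Agent.S5384

/-- Let A be a local artinian ring, G an A-group scheme and u : H → G a homomorphism of A-group schemes
which is an immersion (a subgroup scheme; no finiteness is assumed). Then u is a closed immersion. -/
theorem result (A : Type u) [CommRing A] [IsArtinianRing A] [IsLocalRing A] (G H : Over (Spec (CommRingCat.of A))) [GrpObj G] [GrpObj H]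
    (u : H ⟶ G) [IsMonHom u] [IsImmersion u.left] : IsClosedImmersion u.left := by
  let k := IsLocalRing.ResidueField A
  let i : Spec (CommRingCat.of k) ⟶ Spec (CommRingCat.of A) := Spec.map (CommRingCat.ofHom (IsLocalRing.residue A))
  have : IsClosedImmersion i := IsClosedImmersion.spec_of_surjective _ IsLocalRing.residue_surjective
  let G' := (Over.pullback i).obj G
  let H' := (Over.pullback i).obj H
  let : GrpObj G' := Functor.grpObjObj
  let : GrpObj H' := Functor.grpObjObj
  let v : H' ⟶ G' := (Over.pullback i).map u
  have hw : v.left ≫ pullback.fst G.hom i = pullback.fst H.hom i ≫ u.left := pullback.lift_fst _ _ _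
  have hw' : v.left ≫ pullback.snd G.hom i = pullback.snd H.hom i := pullback.lift_snd _ _ _
  have sq : IsPullback v.left (pullback.fst H.hom i) (pullback.fst G.hom i) u.left := by
    refine (IsPullback.of_bot ?_ hw.symm (IsPullback.of_hasPullback G.hom i)).flip
    rw [hw', Over.w u]
    exact IsPullback.of_hasPullback H.hom i
  have : IsImmersion v.left := MorphismProperty.of_isPullback sq.flip ‹_›
  have : IsClosedImmersion v.left := Groth.Agf.isClosedImmersion_of_subgroup v
  have hi : Surjective i := ⟨fun p => ⟨default, PrimeSpectrum.ext ((IsLocalRing.eq_maximalIdeal (Ideal.IsPrime.isMaximal' (i default).2)).trans (IsLocalRing.eq_maximalIdeal (Ideal.IsPrime.isMaximal' p.2)).symm)⟩⟩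
  refine IsClosedImmersion.of_isPreimmersion _ ?_
  have hr : Set.range u.left = (pullback.fst G.hom i) '' Set.range v.left := by
    rw [← Set.range_comp]
    have : Surjective (pullback.fst H.hom i) := inferInstance
    calc Set.range u.left = Set.range (pullback.fst H.hom i ≫ u.left) := by
          rw [Scheme.Hom.comp_base, TopCat.coe_comp, Set.range_comp, this.surj.range_eq, Set.image_univ]
      _ = _ := by rw [← sq.w]; rfl
  rw [hr]
  exact (pullback.fst G.hom i).isClosedEmbedding.isClosedMap _ v.left.isClosedEmbedding.isClosed_range

end Groth.Agent.S5384
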