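import Groth.Statements.S5385
import Groth.Agent.S0376
import Groth.Agent.S0377
import Groth.Agent.S0372
import Groth.Agent.PropsBasic.CMLocalize
import Groth.Agent.Calg7.IdemLift

set_option autoImplicit false
universe u
open CategoryTheory CategoryTheory.Limits MonoidalCategory CartesianMonoidalCategory MonObj GrpObj AlgebraicGeometry
open SGA3

namespace Groth.Agent.S5385

/-- Let A be an artinian ring and X a nonempty scheme locally of finite type over A. Then X has a closed
point whose local ring is Cohen–Macaulay. -/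
theorem result (A : Type u) [CommRing A] [IsArtinianRing A] (X : Scheme.{u})
    (f : X ⟶ Spec (CommRingCat.of A)) [LocallyOfFiniteType f] [Nonempty X] :
    ∃ x : X, IsClosed ({x} : Set X) ∧ LocCoh.IsCohenMacaulayLocalRing (X.presheaf.stalk x) := by
  obtain ⟨x₀⟩ := ‹Nonempty X›
  haveI : DiscreteTopology ↥(Spec (CommRingCat.of A)) :=
    inferInstanceAs (DiscreteTopology (PrimeSpectrum A))
  let q : PrimeSpectrum A := f.base x₀
  obtain ⟨U, hU, hxU, hUq⟩ := exists_isAffineOpen_mem_and_subset (x := x₀)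
    (U := f ⁻¹ᵁ ⟨{f.base x₀}, isOpen_discrete _⟩) rfl
  let B := Γ(X, U)
  obtain ⟨φ, hφ⟩ := Spec.map_surjective (hU.fromSpec ≫ f)
  letI : Algebra A B := φ.hom.toAlgebra
  haveI : Algebra.FiniteType A B := by
    have h1 : LocallyOfFiniteType (Spec.map φ) := by rw [hφ]; infer_instance
    exact (HasRingHomProperty.Spec_iff (P := @LocallyOfFiniteType)).1 h1
  let A' := Localization.AtPrime q.asIdeal
  have hunit : ∀ a : q.asIdeal.primeCompl, IsUnit (algebraMap A B a) := by
    intro a
    by_contra hu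
    obtain ⟨P, hP, haP⟩ := exists_max_ideal_of_mem_nonunits hu
    have hPU : hU.fromSpec.base ⟨P, hP.isPrime⟩ ∈ (U : Set X) := by
      rw [← hU.range_fromSpec]; exact ⟨_, rfl⟩
    have h1 : (Spec.map φ).base ⟨P, hP.isPrime⟩ = f.base x₀ := by
      rw [hφ]
      exact hUq hPU
    have h2 : P.comap φ.hom = q.asIdeal := congrArg PrimeSpectrum.asIdeal h1
    have h3 : (a : A) ∈ P.comap φ.hom := haP
    rw [h2] at h3
    exact a.2 h3
  letI : Algebra A' B := (IsLocalization.lift (S := A') hunit).toAlgebra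
  haveI : IsScalarTower A A' B := IsScalarTower.of_algebraMap_eq fun a => (IsLocalization.lift_eq hunit a).symm
  haveI : Algebra.FiniteType A' B := Algebra.FiniteType.of_restrictScalars_finiteType A A' B
  haveI : IsNoetherianRing B := Algebra.FiniteType.isNoetherianRing A' B
  haveI : IsAdicComplete (IsLocalRing.maximalIdeal A') A' := by
    obtain ⟨n, hn⟩ := IsArtinianRing.isNilpotent_jacobson_bot (R := A')
    rw [IsLocalRing.jacobson_eq_maximalIdeal ⊥ bot_ne_top] at hn
    exact Groth.Calg7.IdemLift.isAdicComplete_of_pow_eq_bot _ _ (N := n) hn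
  obtain ⟨ω, hω⟩ := Groth.Agent.S0376.result A'
  obtain ⟨ω', hω'⟩ := Groth.Agent.S0377.result A' ω hω B
  obtain ⟨hopen, hdense⟩ := Groth.Agent.S0372.result B ω' hω'
  haveI : Nonempty (PrimeSpectrum B) := ⟨hU.primeIdealOf ⟨x₀, hxU⟩⟩
  haveI := LocallyOfFiniteType.jacobsonSpace f
  obtain ⟨x, ⟨P, hP, rfl⟩, hxc⟩ := nonempty_inter_closedPoints (hdense.nonempty.image hU.fromSpec.base)
    (hU.fromSpec.isOpenEmbedding.isOpenMap _ hopen).isLocallyClosed
  refine ⟨_, hxc, ?_⟩
  let e : X.presheaf.stalk (hU.fromSpec.base P) ≃+* Localization.AtPrime P.asIdeal :=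
    ((asIso (hU.fromSpec.stalkMap P)) ≪≫ Spec.stalkIso B P).commRingCatIsoToRingEquiv
  exact Groth.Ega4b.isCohenMacaulayLocalRing_of_ringEquiv e.symm hP

end Groth.Agent.S5385
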