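import Groth.Statements.S5386
import Groth.Agent.Sga3.StrictlyRational
-- import your own Groth.Agent.* helpers here

set_option autoImplicit false
universe u
open CategoryTheory CategoryTheory.Limits MonoidalCategory CartesianMonoidalCategory MonObj GrpObj AlgebraicGeometry
open SGA3

namespace Groth.Agent.S5386

/-- Let A be a local artinian ring, G an A-group scheme which is flat and locally of finite type over A,
and x a closed point of G. Then there is a local A-algebra A', finite and free as an A-module, such
that every point of G ⊗_A A' lying over x is strictly rational over A': it is the image of the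
closed point under some section Spec A' → G ⊗_A A' of the projection. -/
theorem result (A : Type u) [CommRing A] [IsArtinianRing A] [IsLocalRing A] (G : Over (Spec (CommRingCat.of A))) [GrpObj G] [Flat G.hom]
    [LocallyOfFiniteType G.hom] (x : G.left) (hx : IsClosed ({x} : Set G.left)) :
    ∃ (A' : Type u) (_ : CommRing A') (_ : IsLocalRing A') (_ : Algebra A A') (_ : Module.Finite A A') (_ : Module.Free A A'),
      ∀ x' : ↥(pullback G.hom (Spec.map (CommRingCat.ofHom (algebraMap A A')))),
        (pullback.fst G.hom (Spec.map (CommRingCat.ofHom (algebraMap A A')))).base x' = x →
        ∃ s : Spec (CommRingCat.of A') ⟶ pullback G.hom (Spec.map (CommRingCat.ofHom (algebraMap A A'))),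
          s ≫ pullback.snd G.hom (Spec.map (CommRingCat.ofHom (algebraMap A A'))) = 𝟙 _ ∧ x' ∈ Set.range s.base := by
  exact Groth.Sga3.StrictlyRational.exists_base G x hx

end Groth.Agent.S5386
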