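import Groth.Statements.S5387
import Groth.Agent.AlgGrp1.Translate

set_option autoImplicit false
universe u
open CategoryTheory CategoryTheory.Limits MonoidalCategory CartesianMonoidalCategory MonObj GrpObj AlgebraicGeometry
open SGA3

namespace Groth.Agent.S5387

/-- Let k be an algebraically closed field, G a group scheme locally of finite type over k and x a
closed point of G. Then the local ring of G at x is isomorphic to the local ring of G at the unit
point (an isomorphism is induced by a translation; this row asserts the existence of an isomorphism
of rings). -/
theorem result (k : Type u) [Field k] [IsAlgClosed k] (G : Over (Spec (CommRingCat.of k))) [GrpObj G]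
    [LocallyOfFiniteType G.hom] (pt : ↥(𝟙_ (Over (Spec (CommRingCat.of k)))).left) (x : G.left) (hx : IsClosed ({x} : Set G.left)) :
    Nonempty (G.left.presheaf.stalk (η[G].left.base pt) ≅ G.left.presheaf.stalk x) := by
  have := LocallyOfFiniteType.jacobsonSpace G.hom
  have := Groth.AlgGrp1.isSeparated_grpObj G
  have hc : IsClosedImmersion η[G].left := by
    have : IsClosedImmersion (η[G].left ≫ G.hom) := by rw [Over.w η[G]]; exact inferInstanceAs (IsClosedImmersion (𝟙 _))
    exact IsClosedImmersion.of_comp η[G].left G.hom
  have he : IsClosed ({η[G].left.base pt} : Set G.left) := by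
    have := η[G].left.isClosedEmbedding.isClosedMap _ (isClosed_discrete ({pt} : Set ↥(Spec (CommRingCat.of k))))
    rwa [Set.image_singleton] at this
  obtain ⟨φ, hφ⟩ := Groth.AlgGrp1.exists_translation G x _ hx he
  have : IsIso φ.hom.left := inferInstanceAs (IsIso ((Over.forget _).map φ.hom))
  rw [← hφ]
  exact ⟨asIso (φ.hom.left.stalkMap x)⟩

end Groth.Agent.S5387
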