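import Groth.Statements.S5388
import Groth.Agent.Sga3.GeomRedNbhd
import Groth.Agent.S5339
import Groth.Agent.PropsBasic.LociBaseChange.Scheme

set_option autoImplicit false
universe u
open CategoryTheory CategoryTheory.Limits MonoidalCategory CartesianMonoidalCategory MonObj GrpObj AlgebraicGeometry
open SGA3

namespace Groth.Agent.S5388

/-- Let G be a group scheme locally of finite type over a field k, e its unit point and K a perfect
extension field of k. If K ⊗_k O_{G,e} is a reduced ring, then G is smooth over k. (The published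
statement is for a group flat and locally of finite type over a local artinian ring, with K the
perfect closure of the residue field; this row is the case of a base field, with K any perfect
extension.) -/
theorem result (k : Type u) [Field k] (G : Over (Spec (CommRingCat.of k))) [GrpObj G]
    [LocallyOfFiniteType G.hom] (pt : ↥(𝟙_ (Over (Spec (CommRingCat.of k)))).left) (K : Type u) [Field K] [Algebra k K] [PerfectField K] :
    letI := ((Scheme.ΓSpecIso (CommRingCat.of k)).inv ≫ G.hom.appTop ≫ G.left.presheaf.germ ⊤ (η[G].left.base pt) trivial).hom.toAlgebra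
    IsReduced (TensorProduct k K (G.left.presheaf.stalk (η[G].left.base pt))) → Smooth G.hom := by
  intro hred
  let e := η[G].left.base pt
  obtain ⟨U, hU, heU, -⟩ := exists_isAffineOpen_mem_and_subset (x := e) (U := ⊤) trivial
  let B := Γ(G.left, U)
  let φ : CommRingCat.of k ⟶ B := (Scheme.ΓSpecIso (CommRingCat.of k)).inv ≫ G.hom.appLE ⊤ U le_top
  have hφ : Spec.map φ = hU.fromSpec ≫ G.hom := by
    rw [← IsAffineOpen.SpecMap_appLE_fromSpec G.hom (isAffineOpen_top _) hU le_top, Spec.map_comp,
      IsAffineOpen.fromSpec_top, Scheme.isoSpec_Spec]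
    simp
  letI : Algebra k B := φ.hom.toAlgebra
  haveI hft : Algebra.FiniteType k B := by
    have h1 : LocallyOfFiniteType (Spec.map φ) := by rw [hφ]; infer_instance
    exact (HasRingHomProperty.Spec_iff (P := @LocallyOfFiniteType)).1 h1
  letI algS : Algebra k (G.left.presheaf.stalk e) :=
    ((Scheme.ΓSpecIso (CommRingCat.of k)).inv ≫ G.hom.appTop ≫ G.left.presheaf.germ ⊤ e trivial).hom.toAlgebra
  letI algBS : Algebra B (G.left.presheaf.stalk e) := (G.left.presheaf.germ U e heU).hom.toAlgebra
  haveI : IsScalarTower k B (G.left.presheaf.stalk e) := IsScalarTower.of_algebraMap_eq' (by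
    refine congrArg CommRingCat.Hom.hom (?_ : _ = φ ≫ G.left.presheaf.germ U e heU)
    simp only [φ, Scheme.Hom.appLE, Category.assoc, TopCat.Presheaf.germ_res]
    rfl)
  let q := (hU.primeIdealOf ⟨e, heU⟩).asIdeal
  haveI : IsLocalization.AtPrime (G.left.presheaf.stalk e) q := hU.isLocalization_stalk ⟨e, heU⟩
  obtain ⟨f, hf, hf'⟩ := Groth.Sga3.GeomRedNbhd.exists_reduced_away (K := K) (S := G.left.presheaf.stalk e) q hred
  let B' := Localization.Away f
  let w : Spec (CommRingCat.of B') ⟶ G.left := Spec.map (CommRingCat.ofHom (algebraMap B B')) ≫ hU.fromSpec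
  haveI : IsOpenImmersion (Spec.map (CommRingCat.ofHom (algebraMap B B'))) :=
    IsOpenImmersion.of_isLocalization f
  have hw : w ≫ G.hom = Spec.map (CommRingCat.ofHom (algebraMap k B')) := by
    rw [Category.assoc, ← hφ, ← Spec.map_comp]
    rfl
  let g := Spec.map (CommRingCat.ofHom (algebraMap k K))
  let f₀ := Spec.map (CommRingCat.ofHom (algebraMap k B'))
  haveI : LocallyOfFinitePresentation f₀ := by
    change LocallyOfFinitePresentation (Spec.map (CommRingCat.ofHom (algebraMap k B')))
    rw [← hw]; infer_instance
  have hne : ¬ Subsingleton B' := by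
    intro h
    refine hf ?_
    obtain ⟨⟨_, n, rfl⟩, hn⟩ := (IsLocalization.map_eq_zero_iff (Submonoid.powers f) B' (1 : B)).1
      (Subsingleton.elim _ _)
    rw [_root_.mul_one] at hn
    exact Ideal.IsPrime.mem_of_pow_mem inferInstance n (by
      rw [show f ^ n = 0 from hn]; exact q.zero_mem)
  haveI : Nontrivial B' := not_subsingleton_iff_nontrivial.1 hne
  haveI : IsReduced (Spec (CommRingCat.of (TensorProduct k B' K))) :=
    haveI : _root_.IsReduced (TensorProduct k B' K) := isReduced_of_injective (Algebra.TensorProduct.comm k B' K)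
      (Algebra.TensorProduct.comm k B' K).injective
    inferInstance
  haveI : IsReduced (pullback f₀ g) := isReduced_of_isOpenImmersion (pullbackSpecIso k B' K).hom
  obtain ⟨x', hx'⟩ : ∃ x, x ∈ (pullback.snd f₀ g).smoothLocus := by
    haveI : Nonempty ↥(pullback f₀ g) := by
      haveI : Nontrivial (TensorProduct k B' K) := inferInstance
      exact ⟨(pullbackSpecIso k B' K).inv.base (Nonempty.some (inferInstance : Nonempty (PrimeSpectrum (TensorProduct k B' K))))⟩
    exact ((pullback.snd f₀ g).dense_smoothLocus_of_perfectField).nonempty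
  have hx := Groth.PropsBasic.Loci.mem_smoothLocus_of_flat (IsPullback.of_hasPullback f₀ g) hx'
  haveI : LocallyOfFinitePresentation G.hom := inferInstance
  have hxG : w.base ((pullback.fst f₀ g).base x') ∈ G.hom.smoothLocus := by
    have : (pullback.fst f₀ g).base x' ∈ w ⁻¹ᵁ G.hom.smoothLocus := by
      rw [Scheme.Hom.preimage_smoothLocus_eq]
      simpa only [hw] using hx
    exact this
  refine (Groth.Agent.S5339.result k G G.hom.smoothLocus ⟨_, hxG⟩).2.2.1 ?_
  rw [← Scheme.Hom.smoothLocus_eq_top_iff, ← Scheme.Hom.preimage_smoothLocus_eq]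
  exact G.hom.smoothLocus.ι_preimage_self

end Groth.Agent.S5388
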