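import Groth.Statements.S5392
import Groth.Agent.SmoothWeil.Group

set_option autoImplicit false
universe u
open CategoryTheory CategoryTheory.Limits MonoidalCategory CartesianMonoidalCategory MonObj GrpObj AlgebraicGeometry
open SGA3

namespace Groth.Agent.S5392

/-- Let X be an S-group scheme which is smooth and of finite presentation over S with connected fibres,
Y an S-group scheme of finite presentation over S and i : Y → X a homomorphism which is a
monomorphism. Then there is a closed immersion t : T → S, locally of finite presentation, such that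
a morphism g : S' → S factors through t exactly when the base change of i along g is an isomorphism. -/
theorem result (S : Scheme.{u}) (X Y : Over S) [GrpObj X] [GrpObj Y]
    [Smooth X.hom] [QuasiCompact X.hom] [QuasiSeparated X.hom]
    (hconn : ∀ s : S, _root_.IsConnected (X.hom.base ⁻¹' {s}))
    [LocallyOfFinitePresentation Y.hom] [QuasiCompact Y.hom] [QuasiSeparated Y.hom]
    (i : Y ⟶ X) [IsMonHom i] [Mono i] :
    ∃ (T : Scheme.{u}) (t : T ⟶ S), IsClosedImmersion t ∧ LocallyOfFinitePresentation t ∧
      ∀ (S' : Scheme.{u}) (g : S' ⟶ S),
        (∃ g' : S' ⟶ T, g' ≫ t = g) ↔ IsIso ((Over.pullback g).map i) := by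
  have hconn' : ∀ s : S, ConnectedSpace ↥(X.hom.fiber s) := fun s ↦
    (X.hom.fiberHomeo s).connectedSpace_iff.mpr (isConnected_iff_connectedSpace.mp (hconn s))
  haveI := Groth.SmoothWeil.geometricallyIrreducible_of_connected_fibres X hconn'
  obtain ⟨T, t, ht, hfp, hT⟩ := Groth.SmoothWeil.exists_groupLocus i
  refine ⟨T, t, ht, hfp, fun S' g ↦ (hT S' g).trans ⟨fun ⟨l, hl⟩ ↦ ?_, fun h ↦ ?_⟩⟩
  · haveI : Mono ((Over.pullback g).map i) := inferInstance
    let r : (Over.pullback g).obj X ⟶ (Over.pullback g).obj Y :=
      Over.homMk (Limits.pullback.lift l (Limits.pullback.snd X.hom g) (by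
        rw [← Over.w i, ← Category.assoc, hl, Limits.pullback.condition]))
        (Limits.pullback.lift_snd _ _ _)
    have hr : r ≫ (Over.pullback g).map i = 𝟙 _ := by
      apply Over.OverMorphism.ext
      apply Limits.pullback.hom_ext
      · simp only [r, Over.comp_left, Over.homMk_left, Over.pullback_map_left, Category.assoc]
        erw [Limits.pullback.lift_fst, Limits.pullback.lift_fst_assoc, hl]
        exact (Category.id_comp _).symm
      · simp only [r, Over.comp_left, Over.homMk_left, Over.pullback_map_left, Category.assoc]
        erw [Limits.pullback.lift_snd, Limits.pullback.lift_snd]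
        exact (Category.id_comp _).symm
    refine ⟨⟨r, ?_, hr⟩⟩
    rw [← cancel_mono ((Over.pullback g).map i), Category.assoc, hr, Category.comp_id, Category.id_comp]
  · refine ⟨(inv ((Over.pullback g).map i)).left ≫ Limits.pullback.fst Y.hom g, ?_⟩
    have e : ((Over.pullback g).map i).left ≫ Limits.pullback.fst X.hom g =
        Limits.pullback.fst Y.hom g ≫ i.left := Limits.pullback.lift_fst _ _ _
    rw [Category.assoc, ← e, ← Category.assoc, ← Over.comp_left, IsIso.inv_hom_id]
    exact Category.id_comp _

end Groth.Agent.S5392
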