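import Groth.Statements.S5395
import Mathlib.Topology.JacobsonSpace
import Mathlib.Topology.Constructible
-- import your own Groth.Agent.* helpers here

set_option autoImplicit false
universe u
open CategoryTheory CategoryTheory.Limits MonoidalCategory CartesianMonoidalCategory MonObj GrpObj AlgebraicGeometry
open SGA3

namespace Groth.Agent.S5395

theorem exists_lc_of_constructible {X : Type u} [TopologicalSpace X] {E : Set X} (hE : Topology.IsConstructible E) :
    (∀ x ∈ E, ∃ L ⊆ E, IsLocallyClosed L ∧ x ∈ L) ∧ (∀ x ∉ E, ∃ L ⊆ Eᶜ, IsLocallyClosed L ∧ x ∈ L) := by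
  induction hE using Topology.IsConstructible.empty_union_induction with
  | open_retrocompact U hU hUr =>
    exact ⟨fun x hx => ⟨U, subset_rfl, hU.isLocallyClosed, hx⟩,
      fun x hx => ⟨Uᶜ, subset_rfl, hU.isClosed_compl.isLocallyClosed, hx⟩⟩
  | union s _ t _ hs ht =>
    refine ⟨?_, fun x hx => ?_⟩
    · rintro x (hx | hx)
      · obtain ⟨L, h1, h2⟩ := hs.1 x hx
        exact ⟨L, h1.trans Set.subset_union_left, h2⟩
      · obtain ⟨L, h1, h2⟩ := ht.1 x hx
        exact ⟨L, h1.trans Set.subset_union_right, h2⟩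
    · rw [Set.mem_union, not_or] at hx
      obtain ⟨L, h1, h2, h3⟩ := hs.2 x hx.1
      obtain ⟨M, g1, g2, g3⟩ := ht.2 x hx.2
      exact ⟨L ∩ M, by rw [Set.compl_union]; exact Set.inter_subset_inter h1 g1, h2.inter g2, h3, g3⟩
  | compl s _ hs => exact ⟨hs.2, fun x hx => by simpa using hs.1 x (by simpa using hx)⟩

theorem exists_lc_of_ind {X : Type u} [TopologicalSpace X] {E : Set X} (hE : ProCons.IsIndConstructible E)
    {x : X} (hx : x ∈ E) : ∃ L ⊆ E, IsLocallyClosed L ∧ x ∈ L := by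
  obtain ⟨U, hU, hxU, S, hS, hES⟩ := hE x
  have hxS : (⟨x, hxU⟩ : U) ∈ ⋃₀ S := hES ▸ hx
  obtain ⟨T, hT, hxT⟩ := hxS
  obtain ⟨V, hV, hVo, hVc⟩ := hS T hT ⟨x, hxU⟩
  obtain ⟨L, hL, hLlc, hxL⟩ := (exists_lc_of_constructible hVc).1 ⟨⟨x, hxU⟩, mem_of_mem_nhds hV⟩ hxT
  refine ⟨Subtype.val '' (Subtype.val '' L), ?_, ?_, ⟨⟨x, hxU⟩, ⟨⟨⟨x, hxU⟩, mem_of_mem_nhds hV⟩, hxL, rfl⟩, rfl⟩⟩
  · rintro _ ⟨_, ⟨v, hv, rfl⟩, rfl⟩
    have : (v : U) ∈ ⋃₀ S := ⟨T, hT, hL hv⟩
    rw [← hES] at this
    exact this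
  · refine (hLlc.image Topology.IsInducing.subtypeVal ?_).image Topology.IsInducing.subtypeVal ?_
    · rw [Subtype.range_coe]; exact hVo.isLocallyClosed
    · rw [Subtype.range_coe]; exact hU.isLocallyClosed

/-- Let k be an algebraically closed field, G a group scheme locally of finite type over k, and A, B two
ind-constructible subsets of G. Let A·B be the image under the multiplication of the set of points
of G ×_k G whose two projections lie in A and B. Then every closed point z of G lying in A·B is the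
product of a closed point of G ×_k G whose two projections lie in A and B (and are then closed
points): the rational points of A·B are the products of rational points of A and of B. -/
theorem result (k : Type u) [Field k] [IsAlgClosed k] (G : Over (Spec (CommRingCat.of k))) [GrpObj G]
    [LocallyOfFiniteType G.hom] (A B : Set G.left) (hA : ProCons.IsIndConstructible A) (hB : ProCons.IsIndConstructible B)
    (z : G.left) (hz : IsClosed ({z} : Set G.left))
    (hzAB : z ∈ μ[G].left.base '' {w : ↥(G ⊗ G).left | (fst G G).left.base w ∈ A ∧ (snd G G).left.base w ∈ B}) :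
    ∃ w : ↥(G ⊗ G).left, IsClosed ({w} : Set ↥(G ⊗ G).left) ∧ (fst G G).left.base w ∈ A ∧ (snd G G).left.base w ∈ B ∧
      μ[G].left.base w = z := by
  obtain ⟨w₀, ⟨hwA, hwB⟩, hw₀⟩ := hzAB
  obtain ⟨LA, hLA, hLA', hxA⟩ := exists_lc_of_ind hA hwA
  obtain ⟨LB, hLB, hLB', hxB⟩ := exists_lc_of_ind hB hwB
  have : LocallyOfFiniteType (G ⊗ G).hom := by
    change LocallyOfFiniteType (pullback.fst G.hom G.hom ≫ G.hom)
    infer_instance
  have : JacobsonSpace ↥(G ⊗ G).left := LocallyOfFiniteType.jacobsonSpace (G ⊗ G).hom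
  obtain ⟨w, ⟨⟨hw1, hw2⟩, hw3⟩, hwc⟩ := nonempty_inter_closedPoints
    (Z := ((fst G G).left ⁻¹' LA ∩ (snd G G).left ⁻¹' LB) ∩ μ[G].left ⁻¹' {z})
    ⟨w₀, ⟨hxA, hxB⟩, hw₀⟩
    (((hLA'.preimage (fst G G).left.continuous).inter (hLB'.preimage (snd G G).left.continuous)).inter
      (hz.preimage μ[G].left.continuous).isLocallyClosed)
  exact ⟨w, hwc, hLA hw1, hLB hw2, hw3⟩

end Groth.Agent.S5395
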