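import Groth.Statements.S5396
import Groth.Agent.Sga3.ComodProj
import Groth.Agent.Calg1.ProjDescent

set_option autoImplicit false
universe u
open CategoryTheory CategoryTheory.Limits MonoidalCategory CartesianMonoidalCategory MonObj GrpObj AlgebraicGeometry
open SGA3

namespace Groth.Agent.S5396

/-- Let A be a commutative ring, C an A-coalgebra, V a C-comodule, M an A-submodule of V, and A' a
faithfully flat commutative A-algebra such that A' ⊗_A C is a projective A'-module. Then there is a
smallest subcomodule of V containing M, and it is finitely generated over A when M is. (The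
published statement also asserts that the formation of this subcomodule commutes with base change;
this row omits it.) -/
theorem result (A : Type u) [CommRing A] (C : Type u) [AddCommGroup C] [Module A C]
    [Coalgebra A C] (V : Type u) [AddCommGroup V] [Module A V] [HopfRep.Comod A C V] (M : Submodule A V)
    (A' : Type u) [CommRing A'] [Algebra A A'] [Module.FaithfullyFlat A A'] [Module.Projective A' (TensorProduct A A' C)] :
    ∃ W : Submodule A V, HopfRep.IsSubcomod (k := A) (A := C) W ∧ M ≤ W ∧
      (∀ W' : Submodule A V, HopfRep.IsSubcomod (k := A) (A := C) W' → M ≤ W' → W ≤ W') ∧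
      (M.FG → W.FG) := by
  have hC : Module.Projective A C := by
    apply Groth.Calg1.projective_descent (S := A')
  let W : Submodule A V := ⨆ m : M,
    LinearMap.range (Groth.ComodLib.sliceL C (HopfRep.Comod.coact (k := A) (A := C) (m : V)))
  refine ⟨W, Groth.Sga3.ComodProj.isSubcomod_iSup _ fun m => Groth.Sga3.ComodProj.isSubcomod_gen _,
    fun m hm => Submodule.mem_iSup_of_mem (⟨m, hm⟩ : M) ⟨_, Groth.ComodLib.op_counit m⟩,
    fun W' hW' hM => iSup_le fun m => ?_, fun hfg => ?_⟩
  · rintro _ ⟨φ, rfl⟩
    exact (Groth.Sga3.ComodProj.isSubcomod_iff _).1 hW' φ _ (hM m.2)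
  · obtain ⟨s, hs⟩ := hfg
    let W₀ : Submodule A V := ⨆ m : (s : Set V),
      LinearMap.range (Groth.ComodLib.sliceL C (HopfRep.Comod.coact (k := A) (A := C) (m : V)))
    have hle : W = W₀ := by
      refine le_antisymm (iSup_le fun m => ?_) (iSup_le fun m => ?_)
      · rintro _ ⟨φ, rfl⟩
        have h : M ≤ W₀ := by
          rw [← hs, Submodule.span_le]
          exact fun x hx => Submodule.mem_iSup_of_mem (⟨x, hx⟩ : (s : Set V)) ⟨_, Groth.ComodLib.op_counit x⟩
        exact (Groth.Sga3.ComodProj.isSubcomod_iff _).1
          (Groth.Sga3.ComodProj.isSubcomod_iSup _ fun m => Groth.Sga3.ComodProj.isSubcomod_gen _) φ _ (h m.2)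
      · exact le_iSup (fun m : M => LinearMap.range
          (Groth.ComodLib.sliceL C (HopfRep.Comod.coact (k := A) (A := C) (m : V))))
          ⟨m, hs ▸ Submodule.subset_span m.2⟩
    rw [hle]
    exact Submodule.fg_iSup _ fun m => Groth.Sga3.ComodProj.fg_range_sliceL _

end Groth.Agent.S5396
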