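import Groth.Statements.S5402
import Groth.Agent.Sga3.Translate.Orbit
import Groth.Agent.Sga3.QuasiSection.Main
import Groth.Agent.NGeomPts.Lsc

set_option autoImplicit false
universe u
open CategoryTheory CategoryTheory.Limits MonoidalCategory CartesianMonoidalCategory MonObj GrpObj AlgebraicGeometry
open SGA3

namespace Groth.Agent.S5402

/-- Let G be an S-group scheme locally of finite presentation over S and universally open over S on some
open containing the unit section, acting on an S-scheme X so that G ×_S X → X ×_S X, (g, x) ↦ (gx,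
x), is surjective. Let U be an open subset of X, s a point of S such that the fibre X_s is locally
of finite type over κ(s) and U ∩ X_s is dense in X_s, and A a finite set of points of X_s. Then
there are morphisms S'' → S' → S, the first finite and surjective and the second etale, with exactly
one point of S'' lying over s, and an S-morphism h : S'' → G, such that for every point z of X ×_S
S'' whose image in X lies in A, the image in X of the translate h·z lies in U. -/
theorem result (S : Scheme.{u}) (G X : Over S) [GrpObj G]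
    [LocallyOfFinitePresentation G.hom]
    (hGo : ∃ W : G.left.Opens, (∀ p : ↥(𝟙_ (Over S)).left, η[G].left.base p ∈ W) ∧ UniversallyOpen (W.ι ≫ G.hom))
    (a : AlgGrp.Action G X) (hΦ : Surjective (lift a.act (snd G X)).left)
    (U : X.left.Opens) (s : S) (hft : LocallyOfFiniteType (X.hom.fiberToSpecResidueField s))
    (hdense : X.hom.base ⁻¹' {s} ⊆ closure ((U : Set X.left) ∩ X.hom.base ⁻¹' {s}))
    (A : Set X.left) (hA : A.Finite) (hAs : A ⊆ X.hom.base ⁻¹' {s}) :
    ∃ (S' S'' : Scheme.{u}) (w : S' ⟶ S) (π : S'' ⟶ S') (h : Over.mk (π ≫ w) ⟶ G),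
      Etale w ∧ IsFinite π ∧ Surjective π ∧ (∃ s₀ : S'', (π ≫ w).base ⁻¹' {s} = {s₀}) ∧
      ∀ z : ↥(X ⊗ Over.mk (π ≫ w)).left, (fst X (Over.mk (π ≫ w))).left.base z ∈ A →
        (lift (snd X (Over.mk (π ≫ w)) ≫ h) (fst X (Over.mk (π ≫ w))) ≫ a.act).left.base z ∈ U := by
  classical
  obtain ⟨W, hW, hWo⟩ := hGo
  haveI : LocallyOfFiniteType (G.hom.fiberToSpecResidueField s) :=
    inferInstanceAs (LocallyOfFiniteType (pullback.snd G.hom (S.fromSpecResidueField s)))
  haveI := hft
  let e0 : G.left := η[G].left.base s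
  have he0 : G.hom.base e0 = s := by
    show (η[G].left ≫ G.hom).base s = s
    rw [Over.w]
    rfl
  obtain ⟨z, hfz, hze0, hcoh, -⟩ := Groth.FibreDim.exists_maximal_fibre_point G.hom e0
  have hzmax := (Groth.FibreDim.isMax_asFiber_iff G.hom z).1 (Order.coheight_eq_zero.1 hcoh)
  have hzs : G.hom.base z = s := hfz.trans he0
  have hzW : z ∈ W := hze0.mem_open W.2 (hW s)
  have hopen : EGA43.IsUnivOpenAt G.hom z :=
    Groth.EGA43Topo.isUnivOpenAt_right_of_comp
      (Groth.NGeomPts.isUnivOpenAt_of_universallyOpen (W.ι ≫ G.hom) ⟨z, hzW⟩)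
  obtain ⟨D, hD⟩ := Groth.FibreDim.fibreDimAt_ne_top G.hom z
  let iG := G.hom.fiberι s
  let iX := X.hom.fiberι s
  obtain ⟨zF, hzF⟩ : z ∈ Set.range iG.base := (G.hom.range_fiberι s).ge hzs
  have hzFmax : Groth.Sga3.Translate.IsMaxPt zF := fun c hc => iG.isEmbedding.injective <| by
    rw [hzF]
    exact hzmax _ ((Scheme.Hom.range_fiberι G.hom s).le ⟨c, rfl⟩ |>.trans hzs.symm) (hzF ▸ hc.map iG.continuous)
  haveI : JacobsonSpace ↥(X.hom.fiber s) :=
    haveI : JacobsonSpace ↥(Spec (S.residueField s)) := inferInstanceAs (JacobsonSpace (PrimeSpectrum _))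
    LocallyOfFiniteType.jacobsonSpace (X.hom.fiberToSpecResidueField s)
  haveI : JacobsonSpace ↥(G.hom.fiber s) :=
    haveI : JacobsonSpace ↥(Spec (S.residueField s)) := inferInstanceAs (JacobsonSpace (PrimeSpectrum _))
    LocallyOfFiniteType.jacobsonSpace (G.hom.fiberToSpecResidueField s)
  haveI : IsLocallyNoetherian (X.hom.fiber s) :=
    LocallyOfFiniteType.isLocallyNoetherian (X.hom.fiberToSpecResidueField s)
  have hdense' : ∀ m : ↥(X.hom.fiber s), m ∈ closure (iX.base ⁻¹' (U : Set X.left)) := fun m => by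
    rw [iX.isEmbedding.isInducing.closure_eq_preimage_closure_image, Set.mem_preimage,
      Set.image_preimage_eq_inter_range, X.hom.range_fiberι]
    exact hdense ((X.hom.range_fiberι s).le ⟨m, rfl⟩)
  -- a closed point below each point of `A`
  have hcl : ∀ a' ∈ A, ∃ aF c : ↥(X.hom.fiber s), iX.base aF = a' ∧ aF ⤳ c ∧ IsClosed ({c} : Set _) := by
    intro a' ha'
    obtain ⟨aF, haF⟩ : a' ∈ Set.range iX.base := (X.hom.range_fiberι s).ge (hAs ha')
    obtain ⟨c, hc, hcc⟩ := nonempty_inter_closedPoints (Z := closure {aF}) ⟨aF, subset_closure rfl⟩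
      isClosed_closure.isLocallyClosed
    exact ⟨aF, c, haF, specializes_iff_mem_closure.2 hc, hcc⟩
  choose aF c haF hac hcc using hcl
  choose x hx using fun a' ha' => Groth.Sga3.Translate.exists_geomPoint s X (hcc a' ha')
  let B : A → Set ↥(G.hom.fiber s) := fun a' =>
    (Groth.Sga3.Translate.toFibre s G).base '' ((Groth.Sga3.Translate.orbit a (x a'.1 a'.2)).left ≫
      (fst X (Groth.Sga3.Translate.gT s)).left).base ⁻¹' (U : Set X.left)ᶜ
  have hB : ∀ a', IsClosed (B a') := fun a' =>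
    (Groth.Sga3.Translate.toFibre s G).isClosedMap _ (U.2.isClosed_compl.preimage (Scheme.Hom.continuous _))
  have hzB : ∀ a', zF ∉ B a' := by
    rintro a' ⟨y, hy, hyz⟩
    have h1 := Groth.Sga3.Translate.isMaxPt_toFibre s X (Groth.Sga3.Translate.isMaxPt_orbit a s hΦ (x a'.1 a'.2)
      (Groth.Sga3.Translate.isMaxPt_of_toFibre s G (hyz.symm ▸ hzFmax)))
    have h2 := h1.mem_of_mem_closure (U.2.preimage iX.continuous) (hdense' _)
    exact hy (by
      rw [Scheme.Hom.comp_apply, ← Groth.Sga3.Translate.fiberι_toFibre]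
      exact h2)
  let O : G.left.Opens := W ⊓ ⟨{p | FlatMor.fibreDimAt G.hom p ≤ (D : WithBot ℕ∞)},
    Groth.FibreDim.isOpen_fibreDimAt_le G.hom D⟩
  haveI : Finite A := hA.to_subtype
  obtain ⟨gF, ⟨⟨hgz, hgO⟩, hgB⟩, hgc⟩ := nonempty_inter_closedPoints
    (Z := (closure {zF} ∩ iG.base ⁻¹' (O : Set G.left)) ∩ (⋃ a', B a')ᶜ)
    ⟨zF, ⟨subset_closure rfl, show iG.base zF ∈ O from hzF.symm ▸ ⟨hzW, hD.le⟩⟩,
      fun h => (Set.mem_iUnion.1 h).elim hzB⟩
    ((isClosed_closure.isLocallyClosed.inter (O.2.preimage iG.continuous).isLocallyClosed).inter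
      (isClosed_iUnion_of_finite hB).isOpen_compl.isLocallyClosed)
  let g := iG.base gF
  have hgs : G.hom.base g = s := (G.hom.range_fiberι s).le ⟨gF, rfl⟩
  have hclosed : ∀ x', G.hom.base x' = G.hom.base g → g ⤳ x' → x' = g := fun x' hx' hsp => by
    obtain ⟨c', rfl⟩ : x' ∈ Set.range iG.base := (G.hom.range_fiberι s).ge (hx'.trans hgs)
    rw [show c' = gF from (iG.isEmbedding.isInducing.specializes_iff.1 hsp).mem_closed hgc rfl]
  have hzg : z ⤳ g := hzF ▸ (specializes_iff_mem_closure.2 hgz).map iG.continuous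
  obtain ⟨S', S'', -, w, π, h₀, hw, hπ, hπs, hπp, hh₀, s'', hs'', hs''g, -⟩ :=
    Groth.Sga3.QuasiSection.exists_quasiSection_through G.hom hclosed hzg (hzs.trans hgs.symm) hzmax
      (hgO.2.trans hD.ge) hopen
  rw [hgs] at hs''
  let h : Over.mk (π ≫ w) ⟶ G := Over.homMk h₀ hh₀
  refine ⟨S', S'', w, π, h, hw, hπ, hπs, ⟨s'', hs''⟩, fun z' hz' => ?_⟩
  haveI : LocallyOfFiniteType ((Over.mk (π ≫ w)).hom.fiberToSpecResidueField s) :=
    haveI : LocallyOfFiniteType (Over.mk (π ≫ w)).hom := inferInstanceAs (LocallyOfFiniteType (π ≫ w))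
    inferInstanceAs (LocallyOfFiniteType (pullback.snd (Over.mk (π ≫ w)).hom (S.fromSpecResidueField s)))
  obtain ⟨tF, htF⟩ : s'' ∈ Set.range ((Over.mk (π ≫ w)).hom.fiberι s).base :=
    (Scheme.Hom.range_fiberι _ s).ge (hs''.ge rfl)
  have htc : IsClosed ({tF} : Set ↥((Over.mk (π ≫ w)).hom.fiber s)) := by
    convert isClosed_univ
    refine Set.eq_univ_of_forall fun q => (Scheme.Hom.fiberι _ s).isEmbedding.injective ?_
    rw [htF]
    exact hs''.le ((Scheme.Hom.range_fiberι _ s).le ⟨q, rfl⟩)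
  obtain ⟨τ, hτ⟩ := Groth.Sga3.Translate.exists_geomPoint s (Over.mk (π ≫ w)) htc
  rw [htF] at hτ
  let T := Groth.Sga3.Translate.gT s
  have hz's : (snd X (Over.mk (π ≫ w))).left.base z' = s'' := by
    refine hs''.le ?_
    show ((snd X (Over.mk (π ≫ w))).left ≫ (Over.mk (π ≫ w)).hom).base z' = s
    rw [Over.w, ← Over.w (fst X (Over.mk (π ≫ w))), Scheme.Hom.comp_apply]
    exact hAs hz'
  obtain ⟨p, hp, -⟩ := Scheme.exists_preimage_of_isPullback
    ((Groth.Agf.isPullback_whiskerLeft_snd X τ).map (Over.forget S)) z' (Groth.Sga3.Translate.gpt s)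
    (hz's.trans hτ.symm)
  replace hp : (X ◁ τ).left.base p = z' := hp
  have hpA : (fst X T).left.base p = (fst X (Over.mk (π ≫ w))).left.base z' := by
    rw [← hp, ← Scheme.Hom.comp_apply, ← Over.comp_left, whiskerLeft_fst]
  have hqp : (Groth.Sga3.Translate.toFibre s X).base p = aF _ hz' := iX.isEmbedding.injective <| by
    rw [Groth.Sga3.Translate.fiberι_toFibre, hpA, haF]
  obtain ⟨p', hpp', hp'⟩ := (Groth.Sga3.Translate.toFibre s X).isClosedMap.specializingMap
    (show (Groth.Sga3.Translate.toFibre s X).base p ⤳ c _ hz' from hqp ▸ hac _ hz')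
  let N : X ⊗ T ⟶ X := lift (snd X T ≫ τ ≫ h) (fst X T) ≫ a.act
  have hN : (X ◁ τ) ≫ lift (snd X (Over.mk (π ≫ w)) ≫ h) (fst X (Over.mk (π ≫ w))) ≫ a.act = N := by
    simp [N, comp_lift_assoc, T]
  rw [← hp, ← Scheme.Hom.comp_apply, ← Over.comp_left, hN]
  refine (hpp'.map N.left.continuous).mem_open U.2 ?_
  let y := (lift (snd X T ≫ τ ≫ h) (fst X T)).left.base p'
  have hy₁ : (fst G X).left.base y = g := by
    rw [← Scheme.Hom.comp_apply, ← Over.comp_left, lift_fst, Over.comp_left, Over.comp_left,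
      Scheme.Hom.comp_apply, Scheme.Hom.comp_apply,
      show (snd X T).left.base p' = Groth.Sga3.Translate.gpt s from
        Subsingleton.elim (α := PrimeSpectrum (Groth.Sga3.Translate.Kbar s)) _ _, hτ]
    exact hs''g
  have hy₂ : (snd G X).left.base y = (x _ hz').left.base (Groth.Sga3.Translate.gpt s) := by
    rw [hx, ← hp', Groth.Sga3.Translate.fiberι_toFibre, ← Scheme.Hom.comp_apply, ← Over.comp_left, lift_snd]
  obtain ⟨q, hq, -⟩ := Scheme.exists_preimage_of_isPullback
    ((Groth.Agf.isPullback_whiskerLeft_snd G (x _ hz')).map (Over.forget S)) y (Groth.Sga3.Translate.gpt s) hy₂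
  replace hq : (G ◁ x _ hz').left.base q = y := hq
  have hqg : (Groth.Sga3.Translate.toFibre s G).base q = gF := iG.isEmbedding.injective <| by
    rw [Groth.Sga3.Translate.fiberι_toFibre]
    refine Eq.trans ?_ hy₁
    rw [← hq, ← Scheme.Hom.comp_apply, ← Over.comp_left, whiskerLeft_fst]
  by_contra hc'
  refine hgB (Set.mem_iUnion.2 ⟨⟨_, hz'⟩, q, ?_, hqg⟩)
  show ((Groth.Sga3.Translate.orbit a (x _ hz')).left ≫ (fst X T).left).base q ∉ U
  rw [← Over.comp_left, Groth.Sga3.Translate.orbit_fst, Over.comp_left, Scheme.Hom.comp_apply, hq]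
  exact hc'

end Groth.Agent.S5402
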