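import Groth.Statements.S5403
import Groth.Agent.Sga3.OrbitComp.Basic
import Groth.Agent.S3039
import Groth.Agent.S5348
-- import your own Groth.Agent.* helpers here

set_option autoImplicit false
universe u
open CategoryTheory CategoryTheory.Limits MonoidalCategory CartesianMonoidalCategory MonObj GrpObj AlgebraicGeometry
open SGA3

namespace Groth.Agent.S5403

/-- Let G be a group scheme over a field k (not assumed of finite type) acting on a quasi-separated
k-scheme X so that G ×_k X → X ×_k X, (g, x) ↦ (gx, x), is surjective, and let x be a k-rational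
point of X and C the connected component of X containing x. Then the orbit morphism g ↦ g·x maps the
irreducible component of G containing the unit point (the underlying set of the neutral component
G⁰) onto C, and for every field extension K of k the inverse image of C in X ⊗_k K is irreducible. -/
theorem result (k : Type u) [Field k] (G X : Over (Spec (CommRingCat.of k)))
    [GrpObj G] [QuasiSeparatedSpace X.left] (a : AlgGrp.Action G X) (hΦ : Surjective (lift a.act (snd G X)).left)
    (x : 𝟙_ (Over (Spec (CommRingCat.of k))) ⟶ X) (pt : ↥(𝟙_ (Over (Spec (CommRingCat.of k)))).left)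
    (C0 : Set G.left) (hC0 : C0 ∈ irreducibleComponents ↥G.left) (he : η[G].left.base pt ∈ C0) :
    (a.orbitMap x).left.base '' C0 = connectedComponent (x.left.base pt) ∧
    ∀ (K : Type u) [Field K] [Algebra k K],
      IsIrreducible ((pullback.fst X.hom (Spec.map (CommRingCat.ofHom (algebraMap k K)))).base ⁻¹' connectedComponent (x.left.base pt)) := by
  have hpt : pt = IsLocalRing.closedPoint k := Subsingleton.elim (α := PrimeSpectrum k) _ _
  subst hpt
  let x₀ : X.left := x.left.base (IsLocalRing.closedPoint k)
  have hC : IsIrreducible (connectedComponent x₀) :=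
    ⟨⟨x₀, mem_connectedComponent⟩, Groth.Agent.S3039.result k G X a hΦ x₀⟩
  have hCmem : connectedComponent x₀ ∈ irreducibleComponents ↥X.left :=
    ⟨hC, fun Z hZ hsub => hZ.isConnected.isPreconnected.subset_connectedComponent (hsub mem_connectedComponent)⟩
  have hKirr := (Groth.Agent.S5348.result k G X a hΦ).2 x _ _ hCmem mem_connectedComponent
  refine ⟨?_, hKirr⟩
  obtain ⟨η₀, hη₀, hC0'⟩ := Groth.GrpschSep.exists_maxPt_of_irreducibleComponent hC0
  obtain ⟨θ, hθ, hCθ⟩ := Groth.GrpschSep.exists_maxPt_of_irreducibleComponent hCmem
  refine Set.Subset.antisymm ?_ fun y hy => ?_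
  · have hx₀ : (a.orbitMap x).left.base (η[G].left.base (IsLocalRing.closedPoint k)) = x₀ := by
      have h : η[G] ≫ a.orbitMap x = x := by
        have e : η[G] = (1 : 𝟙_ _ ⟶ G) := MonObj.one_eq_one _
        rw [Groth.Sga3.OrbitComp.comp_orbitMap, e, Groth.AlgGrp2.lift_one_act,
          CategoryTheory.CartesianMonoidalCategory.toUnit_unit, Category.id_comp]
      exact congr(($h).left.base (IsLocalRing.closedPoint k))
    exact (hC0.1.image _ (a.orbitMap x).left.continuous.continuousOn).isConnected.isPreconnected.subset_connectedComponent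
      ⟨_, he, hx₀⟩
  · obtain ⟨c, hc, hcy⟩ := Groth.Sga3.OrbitComp.exists_orbit_eq a hΦ x θ hθ
      (specializes_iff_mem_closure.2 (hCθ.symm ▸ mem_connectedComponent : x₀ ∈ closure {θ}))
      (fun L _ t => by
        obtain ⟨φ, rfl⟩ := Spec.map_surjective t
        algebraize [φ.hom]
        rw [hCθ]
        exact hKirr L)
      hη₀ (specializes_iff_mem_closure.2 (hC0'.symm ▸ he)) (specializes_iff_mem_closure.2 (hCθ.symm ▸ hy))
    exact ⟨c, hC0' ▸ specializes_iff_mem_closure.1 hc, hcy⟩

end Groth.Agent.S5403
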