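import Groth.Statements.S5411
import Groth.Agent.Reductive.MonoTorus.QfNhd

set_option autoImplicit false
universe u
open CategoryTheory MonoidalCategory CartesianMonoidalCategory MonObj GrpObj AlgebraicGeometry CategoryTheory.Limits
open SGA3x

namespace Groth.Agent.S5411

/-- Let G be an S-group scheme, smooth and of finite presentation over S, with affine connected fibres,
whose centre j : Z → G is of multiplicative type; let k : K → G be a closed normal subgroup scheme
of G, of finite presentation over S, and s a point of S. If K_s is finite over κ(s), there is an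
open neighbourhood U of s over which K is finite; if K_s is the trivial group, there is an open
neighbourhood U of s over which K is the trivial group. -/
theorem result (S : Scheme.{u}) (G : Over S) [GrpObj G] [Smooth G.hom] [QuasiCompact G.hom] [QuasiSeparated G.hom]
    (haff : ∀ s : S, IsAffine (pullback G.hom (S.fromSpecResidueField s)))
    (hconn : ∀ s : S, _root_.IsConnected (G.hom.base ⁻¹' {s}))
    (Z : Over S) [GrpObj Z] (j : Z ⟶ G) (hZ : Red.IsCentre j) (hZm : SGA3x.IsMultTypeFT Z)
    (K : Over S) [GrpObj K] (k : K ⟶ G) [IsMonHom k] [IsClosedImmersion k.left] (hKn : AlgGrp.IsNormalHom k)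
    [LocallyOfFinitePresentation K.hom] [QuasiCompact K.hom] [QuasiSeparated K.hom] (s : S) :
    (IsFinite (Red.bc (S.fromSpecResidueField s) K).hom →
      ∃ U : S.Opens, s ∈ U ∧ IsFinite (Red.bc U.ι K).hom) ∧
    (Red.IsTrivialGrp (Red.bc (S.fromSpecResidueField s) K) →
      ∃ U : S.Opens, s ∈ U ∧ Red.IsTrivialGrp (Red.bc U.ι K)) := by
  haveI : IsSeparated G.hom := (Groth.Agent.S3025.result S G hconn).1
  exact ⟨Groth.Reductive.MonoTorus.exists_nhd_isFinite k hconn hZ hZm hKn s,
    Groth.Reductive.MonoTorus.exists_nhd_isTrivialGrp k hconn hZ hZm hKn s⟩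

end Groth.Agent.S5411
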