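import Groth.Statements.S5414
import Groth.Agent.S0385
import Mathlib

set_option autoImplicit false
universe u
open CategoryTheory MonoidalCategory CartesianMonoidalCategory MonObj GrpObj AlgebraicGeometry CategoryTheory.Limits
open SGA3x

namespace Groth.Agent.S5414

/-- A dense open contains the generic points of the components. -/
theorem mem_range_of_component {X Z : Scheme.{u}} [IsNoetherian Z] (j : X ⟶ Z) [IsOpenImmersion j]
    [IsDominant j] {K : Set Z} (hK : K ∈ irreducibleComponents (Z : Type u)) {g : Z}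
    (hg : IsGenericPoint g K) : g ∈ Set.range j.base := by
  by_contra hgj
  have hKj : Disjoint K (Set.range j.base) := Set.disjoint_left.2 fun a haK haj =>
    hgj ((hg.specializes haK).mem_open j.isOpenEmbedding.isOpen_range haj)
  let O := irreducibleComponents (Z : Type u) \ {K}
  have hfin : O.Finite := TopologicalSpace.NoetherianSpace.finite_irreducibleComponents.subset
    Set.sdiff_subset
  have hcl : IsClosed (⋃₀ O) := by
    rw [Set.sUnion_eq_biUnion]
    exact hfin.isClosed_biUnion fun W hW => isClosed_of_mem_irreducibleComponents W hW.1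
  have hsub : Set.range j.base ⊆ ⋃₀ O := fun a ha => ⟨irreducibleComponent a,
    ⟨irreducibleComponent_mem_irreducibleComponents a, fun h => Set.disjoint_left.1 hKj
      ((Set.mem_singleton_iff.1 h).le mem_irreducibleComponent) ha⟩, mem_irreducibleComponent⟩
  have hall : K ⊆ ⋃₀ O := fun a _ => closure_minimal hsub hcl (j.denseRange a)
  exact (mem_of_subset_sUnion_irreducibleComponents K hK O hfin Set.sdiff_subset hall).2 rfl

open CategoryTheory.Limits in
/-- A dense open immersion which is closed in every fibre over a Noetherian affine base of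
dimension at most one is affine. -/
theorem isAffineHom_of_closed_in_fibres {X Z : Scheme.{u}} {R : CommRingCat.{u}} [IsNoetherianRing R]
    [Ring.KrullDimLE 1 R] (r : Z ⟶ Spec R) [IsNoetherian Z] (j : X ⟶ Z) [IsOpenImmersion j]
    [IsDominant j]
    (H : ∀ s, ∃ C : Set Z, IsClosed C ∧ ∀ a, r.base a = s → (a ∈ C ↔ a ∈ Set.range j.base)) :
    IsAffineHom j := by
  refine isAffineHom_of_forall_exists_isAffineOpen j fun z => ?_
  by_cases hz : z ∈ Set.range j.base
  · obtain ⟨W, hW, hzW, hWj⟩ := exists_isAffineOpen_mem_and_subset (U := j.opensRange) (x := z) hz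
    exact ⟨W, hzW, hW, hW.preimage_of_isOpenImmersion j hWj⟩
  obtain ⟨C, hC, hCj⟩ := H (r.base z)
  let s : PrimeSpectrum R := r.base z
  obtain ⟨K, hK, hzK⟩ := (⟨irreducibleComponent z, irreducibleComponent_mem_irreducibleComponents z,
    mem_irreducibleComponent⟩ : ∃ K ∈ irreducibleComponents (Z : Type u), z ∈ K)
  obtain ⟨g, hg⟩ := QuasiSober.sober hK.1 (isClosed_of_mem_irreducibleComponents K hK)
  have hgj : g ∈ Set.range j.base := mem_range_of_component j hK hg
  have hgz : g ⤳ z := hg.specializes hzK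
  have hne : (r.base g : PrimeSpectrum R) ≠ s := fun h =>
    hz ((hCj z rfl).1 (hgz.mem_closed hC ((hCj g h).2 hgj)))
  have hle : (r.base g : PrimeSpectrum R).asIdeal ≤ s.asIdeal :=
    (PrimeSpectrum.le_iff_specializes _ _).2 (hgz.map r.continuous)
  have hnmin : s.asIdeal ∉ minimalPrimes R := fun hm =>
    hne (PrimeSpectrum.ext (le_antisymm hle (hm.2 ⟨(r.base g : PrimeSpectrum R).isPrime, bot_le⟩ hle)))
  have hmax : ∀ p : PrimeSpectrum R, p.asIdeal ∉ minimalPrimes R → p.asIdeal.IsMaximal := fun p hp =>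
    ((Ring.krullDimLE_one_iff.1 ‹_›) p.asIdeal p.isPrime).resolve_left hp
  obtain ⟨t, hts, htmin⟩ : ∃ t ∈ s.asIdeal, ∀ q ∈ minimalPrimes R, t ∉ q := by
    by_contra! hall
    have hfin : (minimalPrimes R).Finite := minimalPrimes.finite_of_isNoetherianRing R
    have hsub : (s.asIdeal : Set R) ⊆ ⋃ q ∈ (hfin.toFinset : Set (Ideal R)), (q : Set R) := by
      intro a ha
      obtain ⟨q, hq, haq⟩ := hall a ha
      exact Set.mem_biUnion (hfin.mem_toFinset.2 hq) haq
    obtain ⟨q, hq, hsq⟩ := (Ideal.subset_union_prime ⊥ ⊥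
      (fun q hq _ _ => (hfin.mem_toFinset.1 hq).1.1)).1 hsub
    exact hnmin ((le_antisymm hsq ((hfin.mem_toFinset.1 hq).2 ⟨s.isPrime, bot_le⟩ hsq)) ▸
      hfin.mem_toFinset.1 hq)
  -- the other zeros of `t`
  let V : Set (PrimeSpectrum R) := {p | t ∈ p.asIdeal ∧ p ≠ s}
  have hVmax : ∀ p : PrimeSpectrum R, t ∈ p.asIdeal → p.asIdeal.IsMaximal := fun p hp =>
    hmax p fun hm => htmin _ hm hp
  have hVfin : V.Finite := by
    refine ((Ideal.finite_minimalPrimes_of_isNoetherianRing R (Ideal.span {t})).preimage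
      (fun a _ b _ h => PrimeSpectrum.ext h)).subset fun p hp => ?_
    refine ⟨⟨p.isPrime, (Ideal.span_singleton_le_iff_mem _).2 hp.1⟩, fun q hq hqp => ?_⟩
    exact ((hVmax ⟨q, hq.1⟩ ((Ideal.span_singleton_le_iff_mem _).1 hq.2)).eq_of_le
      p.isPrime.ne_top hqp).ge
  have hVcl : IsClosed V := by
    rw [← Set.biUnion_of_singleton V]
    exact hVfin.isClosed_biUnion fun p hp =>
      (PrimeSpectrum.isClosed_singleton_iff_isMaximal p).2 (hVmax p hp.1)
  have hscl : IsClosed (r.base ⁻¹' {r.base z}) :=
    ((PrimeSpectrum.isClosed_singleton_iff_isMaximal s).2 (hmax s hnmin)).preimage r.continuous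
  -- the complement away from the fibre through `z`
  let D : Set Z := (Set.range j.base)ᶜ
  have hD : IsClosed D := j.isOpenEmbedding.isOpen_range.isClosed_compl
  let B : Set Z := ⋃₀ ((fun L : Set D => closure (Subtype.val '' L)) ''
    {L | L ∈ irreducibleComponents D ∧ ∀ a ∈ L, r.base a.1 ≠ r.base z})
  have hB : IsClosed B := by
    simp only [B]
    rw [Set.sUnion_eq_biUnion]
    exact ((TopologicalSpace.NoetherianSpace.finite_irreducibleComponents.subset
      fun L hL => hL.1).image _).isClosed_biUnion fun L ⟨_, _, hL⟩ => hL ▸ isClosed_closure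
  have hzB : z ∉ B := by
    rintro ⟨_, ⟨L, ⟨hL, hLs⟩, rfl⟩, hzL⟩
    simp only at hzL
    rw [((isClosed_of_mem_irreducibleComponents L hL).trans hD).closure_eq] at hzL
    obtain ⟨a, ha, rfl⟩ := hzL
    exact hLs a ha rfl
  have hbad : ∀ a ∈ D, r.base a ≠ r.base z → a ∈ B := by
    intro a ha has
    refine ⟨_, ⟨irreducibleComponent (⟨a, ha⟩ : D),
      ⟨irreducibleComponent_mem_irreducibleComponents _, ?_⟩, rfl⟩,
      subset_closure ⟨_, mem_irreducibleComponent, rfl⟩⟩
    intro b hb hbs
    obtain ⟨d, hd⟩ := QuasiSober.sober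
      (isIrreducible_irreducibleComponent.image Subtype.val continuous_subtype_val.continuousOn :
        IsIrreducible (Subtype.val '' irreducibleComponent (⟨a, ha⟩ : D)))
      (isClosed_irreducibleComponent.trans hD)
    have hdD : d ∈ D := by
      obtain ⟨c, _, hc⟩ := hd.mem
      exact hc ▸ c.2
    -- the generic point of the component lies over a non minimal, hence closed, point
    obtain ⟨K', hK', hdK'⟩ := (⟨irreducibleComponent d, irreducibleComponent_mem_irreducibleComponents d,
      mem_irreducibleComponent⟩ : ∃ K ∈ irreducibleComponents (Z : Type u), d ∈ K)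
    have hdmax : (r.base d : PrimeSpectrum R).asIdeal.IsMaximal := hmax _ fun hm => by
      obtain ⟨g', hg'⟩ := QuasiSober.sober hK'.1 (isClosed_of_mem_irreducibleComponents K' hK')
      obtain ⟨C', hC', hC'j⟩ := H (r.base d)
      have h1 := hg'.specializes hdK'
      have h2 : r.base g' = r.base d := PrimeSpectrum.ext (le_antisymm
        ((PrimeSpectrum.le_iff_specializes _ _).2 (h1.map r.continuous))
        (hm.2 ⟨(r.base g' : PrimeSpectrum R).isPrime, bot_le⟩
          ((PrimeSpectrum.le_iff_specializes _ _).2 (h1.map r.continuous))))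
      refine hdD ((hC'j d rfl).1 (h1.mem_closed hC' ((hC'j g' h2).2 ?_)))
      exact mem_range_of_component j hK' hg'
    have hcl := (PrimeSpectrum.isClosed_singleton_iff_isMaximal _).2 hdmax
    have e : ∀ c ∈ irreducibleComponent (⟨a, ha⟩ : D), r.base c.1 = r.base d := fun c hc =>
      ((hd.specializes ⟨c, hc, rfl⟩).map r.continuous).mem_closed hcl rfl
    exact has ((e _ mem_irreducibleComponent).trans ((e b hb).symm.trans hbs))
  let N : Z.Opens := ⟨(r.base ⁻¹' V)ᶜ ∩ Bᶜ ∩ (C ∩ r.base ⁻¹' {r.base z})ᶜ,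
    ((hVcl.preimage r.continuous).isOpen_compl.inter hB.isOpen_compl).inter
      (hC.inter hscl).isOpen_compl⟩
  obtain ⟨W, hW, hzW, hWN⟩ := exists_isAffineOpen_mem_and_subset (U := N) (x := z)
    ⟨⟨fun h => h.2 rfl, hzB⟩, fun h => hz ((hCj z rfl).1 h.1)⟩
  refine ⟨W, hzW, hW, ?_⟩
  let tW : Γ(Z, W) := r.appLE ⊤ W (fun _ _ => trivial) ((Scheme.ΓSpecIso R).inv t)
  have hmem : ∀ a, a ∈ Z.basicOpen tW ↔ a ∈ W ∧ t ∉ (r.base a : PrimeSpectrum R).asIdeal := by
    intro a
    rw [Scheme.basicOpen_appLE, basicOpen_eq_of_affine']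
    simp only [Iso.inv_hom_id_apply]
    rfl
  have heq : j ⁻¹ᵁ W = j ⁻¹ᵁ Z.basicOpen tW := by
    ext x
    refine ⟨fun hx => (hmem _).2 ⟨hx, fun ht => ?_⟩, fun hx => ((hmem _).1 hx).1⟩
    have hx' := hWN hx
    by_cases hxs : r.base (j.base x) = r.base z
    · exact hx'.2 ⟨(hCj _ hxs).2 ⟨x, rfl⟩, hxs⟩
    · exact hx'.1.1 ⟨ht, hxs⟩
  rw [heq]
  refine (hW.basicOpen tW).preimage_of_isOpenImmersion j fun a ha => ?_
  obtain ⟨haW, hat⟩ := (hmem a).1 ha
  by_contra haj
  have hns : r.base a ≠ r.base z := fun h => hat (by rw [h]; exact hts)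
  exact (hWN haW).1.2 (hbad a haj hns)

open CategoryTheory.Limits in
/-- The affine local statement. -/
theorem isAffineHom_aux {X Y : Scheme.{u}} {R : CommRingCat.{u}} [IsNoetherianRing R]
    [Ring.KrullDimLE 1 R] [IsAffine Y] [IsNoetherian Y] (u : X ⟶ Y) (q : Y ⟶ Spec R)
    [LocallyQuasiFinite u] [LocallyOfFiniteType u] [QuasiCompact u] [IsSeparated u]
    (H : ∀ s, IsFinite (pullback.snd u (q.fiberι s))) : IsAffineHom u := by
  obtain ⟨T, j₀, p, hj₀, hqc, hp, hjp⟩ := Groth.Agent.S0385.result u
  let j := j₀.toImage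
  let p' := j₀.imageι ≫ p
  have : IsOpenImmersion j :=
    MorphismProperty.of_isPullback (P := @IsOpenImmersion)
      (IsPullback.of_vert_isIso_mono (fst := j) (snd := 𝟙 X) (f := j₀.imageι) (g := j₀)
        ⟨by simp [j]⟩).flip ‹_›
  have hjp' : j ≫ p' = u := by simp [j, p', hjp]
  have : IsFinite p' := inferInstanceAs (IsFinite (_ ≫ _))
  have : IsLocallyNoetherian j₀.image := LocallyOfFiniteType.isLocallyNoetherian p'
  have : CompactSpace j₀.image := QuasiCompact.compactSpace_of_compactSpace p'
  have : IsNoetherian j₀.image := {}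
  have : IsAffineHom j := by
    refine isAffineHom_of_closed_in_fibres (p' ≫ q) j fun s => ?_
    let e := (Spec R).fromSpecResidueField s
    let ιs : pullback (p' ≫ q) e ⟶ _ := pullback.fst (p' ≫ q) e
    let k : pullback (p' ≫ q) e ⟶ pullback q e := pullback.lift (ιs ≫ p') (pullback.snd _ _)
      ((Category.assoc _ _ _).trans pullback.condition)
    have h1 : IsPullback ιs k p' (pullback.fst q e) :=
      IsPullback.of_bot (v₂₁ := pullback.snd q e)
        (by rw [pullback.lift_snd]; exact IsPullback.of_hasPullback _ _)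
        (pullback.lift_fst _ _ _).symm (IsPullback.of_hasPullback _ _)
    have h2 : IsPullback (pullback.fst j ιs) (pullback.snd j ιs ≫ k) u (pullback.fst q e) :=
      hjp' ▸ (IsPullback.of_hasPullback j ιs).paste_vert h1
    have : IsFinite (pullback.snd j ιs ≫ k) := by
      rw [← h2.isoPullback_hom_snd]
      exact (MorphismProperty.cancel_left_of_respectsIso @IsFinite _ _).2 (H s)
    have : IsAffineHom k := MorphismProperty.of_isPullback h1 inferInstance
    have : IsProper (pullback.snd j ιs) := IsProper.of_comp _ k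
    obtain ⟨C, hC, hC'⟩ := ιs.isEmbedding.toIsInducing.isClosed_iff.1
      (pullback.snd j ιs).isClosedMap.isClosed_range
    refine ⟨C, hC, fun a ha => ?_⟩
    obtain ⟨w, rfl⟩ := ((p' ≫ q).range_fiberι s).ge ha
    exact (Set.ext_iff.1 (hC'.trans (Scheme.Pullback.range_snd j ιs)) w)
  rw [← hjp']
  infer_instance

set_option maxHeartbeats 400000 in
open CategoryTheory.Limits in
/-- Let S be a locally Noetherian scheme of dimension at most 1, X and Y two S-schemes locally of finite
type over S and u : X → Y an S-morphism which is quasi-finite (quasi-compact, locally quasi-finite)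
and separated. Suppose that for every point s of S the morphism u_s : X_s → Y_s induced on the
fibres over s is finite. Then u is affine. (The published statement takes S of dimension 1; this row
allows dimension at most 1, which its proof covers.) -/
theorem result (S : Scheme.{u}) [IsLocallyNoetherian S] (hdim : topologicalKrullDim ↥S ≤ 1)
    (X Y : Over S) [LocallyOfFiniteType X.hom] [LocallyOfFiniteType Y.hom] (u : X ⟶ Y)
    [QuasiCompact u.left] [LocallyQuasiFinite u.left] [IsSeparated u.left]
    (hfin : ∀ s : S, IsFinite ((Over.pullback (S.fromSpecResidueField s)).map u).left) :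
    IsAffineHom u.left := by
  refine isAffineHom_of_forall_exists_isAffineOpen u.left fun y => ?_
  obtain ⟨S₀, hS₀, hyS, -⟩ := exists_isAffineOpen_mem_and_subset (U := (⊤ : S.Opens))
    (x := Y.hom.base y) trivial
  obtain ⟨V, hV, hyV, hVS⟩ := exists_isAffineOpen_mem_and_subset (U := Y.hom ⁻¹ᵁ S₀) (x := y) hyS
  have : IsNoetherianRing Γ(S, S₀) := IsLocallyNoetherian.component_noetherian ⟨S₀, hS₀⟩
  have hi : IsOpenImmersion hS₀.fromSpec := inferInstance
  have : Ring.KrullDimLE 1 Γ(S, S₀) := Ring.krullDimLE_iff.2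
    ((PrimeSpectrum.topologicalKrullDim_eq_ringKrullDim _).symm.le.trans
      ((hS₀.fromSpec.isOpenEmbedding.isInducing.topologicalKrullDim_le).trans (by exact_mod_cast hdim)))
  have : IsAffine (V : Scheme.{u}) := hV
  obtain ⟨q, hq⟩ : ∃ q : (V : Scheme.{u}) ⟶ Spec Γ(S, S₀), q ≫ hS₀.fromSpec = V.ι ≫ Y.hom := by
    refine ⟨IsOpenImmersion.lift hS₀.fromSpec (V.ι ≫ Y.hom) ?_, IsOpenImmersion.lift_fac _ _ _⟩
    rintro _ ⟨v, rfl⟩
    rw [hS₀.range_fromSpec]
    exact hVS v.2
  have : LocallyOfFiniteType (u.left ≫ Y.hom) := by rw [Over.w]; infer_instance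
  have : LocallyOfFiniteType u.left := locallyOfFiniteType_of_comp u.left Y.hom
  have : IsLocallyNoetherian Y.left := LocallyOfFiniteType.isLocallyNoetherian Y.hom
  have : IsNoetherian (V : Scheme.{u}) :=
    { __ := (inferInstance : IsLocallyNoetherian (V : Scheme.{u})),
      __ := (inferInstance : CompactSpace (V : Scheme.{u})) }
  let u' := u.left ∣_ V
  have : LocallyQuasiFinite u' := IsZariskiLocalAtTarget.restrict ‹LocallyQuasiFinite u.left› _
  have : LocallyOfFiniteType u' := IsZariskiLocalAtTarget.restrict ‹LocallyOfFiniteType u.left› _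
  have : QuasiCompact u' := IsZariskiLocalAtTarget.restrict ‹QuasiCompact u.left› _
  have : IsSeparated u' := IsZariskiLocalAtTarget.restrict ‹IsSeparated u.left› _
  refine ⟨V, hyV, hV, ?_⟩
  suffices IsAffineHom u' from isAffine_of_isAffineHom u'
  refine isAffineHom_aux u' q fun s => ?_
  let c := S.fromSpecResidueField (hS₀.fromSpec.base s)
  let m := ((Over.pullback c).map u).left
  have hm : IsPullback (pullback.fst X.hom c) m u.left (pullback.fst Y.hom c) := by
    refine IsPullback.of_bot (v₁₁ := m) (v₁₂ := u.left) ?_ ?_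
      (IsPullback.of_hasPullback Y.hom c)
    · simp only [m, Over.pullback_map_left, pullback.lift_snd, Over.w]
      exact IsPullback.of_hasPullback X.hom c
    · simp only [m, Over.pullback_map_left]
      exact (pullback.lift_fst _ _ _).symm
  let k : q.fiber s ⟶ pullback Y.hom c := pullback.lift (q.fiberι s ≫ V.ι)
    (pullback.snd _ _ ≫ Spec.map (hS₀.fromSpec.residueFieldMap s)) (by
      simp only [c, Category.assoc, Scheme.Hom.SpecMap_residueFieldMap_fromSpecResidueField]
      rw [← hq, ← Category.assoc, ← Category.assoc]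
      exact congrArg (· ≫ hS₀.fromSpec) pullback.condition)
  have h1 : IsPullback (pullback.fst u' (q.fiberι s) ≫ (u.left ⁻¹ᵁ V).ι)
      (pullback.snd u' (q.fiberι s)) u.left (k ≫ pullback.fst Y.hom c) := by
    rw [pullback.lift_fst]
    exact (IsPullback.of_hasPullback u' (q.fiberι s)).paste_horiz
      (isPullback_morphismRestrict u.left V).flip
  exact MorphismProperty.of_isPullback
    (IsPullback.of_right (h₁₁ := hm.lift (pullback.fst u' (q.fiberι s) ≫ (u.left ⁻¹ᵁ V).ι)
        (pullback.snd u' (q.fiberι s) ≫ k) (by rw [h1.w, Category.assoc]))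
      (by rw [IsPullback.lift_fst]; exact h1) (IsPullback.lift_snd _ _ _ _) hm) (hfin _)

end Groth.Agent.S5414
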