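import Groth.Statements.S5421
import Groth.Agent.Reductive2.TorusLift

set_option autoImplicit false
universe u
open CategoryTheory MonoidalCategory CartesianMonoidalCategory MonObj GrpObj AlgebraicGeometry CategoryTheory.Limits
open Red

namespace Groth.Agent.S5421

/-- Let T be an S-torus and α : T → G_{m,S} a character. The following are equivalent: (i) for every
point s of S the character induced on the geometric fibre at s is not the trivial character; (ii)
for every morphism S' → S with S' non-empty the base change of α is not the trivial character; (iii)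
α is faithfully flat (flat and surjective). -/
theorem result (S : Scheme.{u}) (T : Over S) [GrpObj T] (hT : Red.IsTorus T) (α : T ⟶ Red.Gm S) [IsMonHom α] :
    ((∀ s : S, (Over.pullback (Red.geomPt s)).map α ≠ 1) ↔
      (∀ (S' : Scheme.{u}) (g : S' ⟶ S), Nonempty ↥S' → (Over.pullback g).map α ≠ 1)) ∧
    ((∀ s : S, (Over.pullback (Red.geomPt s)).map α ≠ 1) ↔ (Flat α.left ∧ Surjective α.left)) := by
  refine ⟨⟨fun h S' g hS' hg ↦ ?_, fun h s ↦ h _ _ inferInstance⟩, ⟨fun h ↦ ?_, fun h s ↦ ?_⟩⟩
  · obtain ⟨x⟩ := hS'
    have htriv := (Groth.Reductive.FreeDiag.pullback_map_eq_one_iff (u := α) g).mp hg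
    exact Groth.Reductive2.not_trivOn_fieldPoint α h (S'.residueField x) (S'.fromSpecResidueField x ≫ g)
      (htriv.of_hom (Over.homMk (S'.fromSpecResidueField x) rfl))
  · exact Groth.Reductive2.flat_surjective_char α hT h
  · obtain ⟨hf, hs⟩ := h
    exact Groth.Reductive2.pullback_map_ne_one α s

end Groth.Agent.S5421
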