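import Groth.Statements.S5422
import Groth.Agent.Sga3.UnipotentExt
import Groth.Agent.Misc1.Unip.Primitive
import Groth.Agent.Hopf.Unipotent

set_option autoImplicit false
universe u
open TensorProduct
open SGA3t2b

namespace Groth.Agent.S5422

open Groth.ComodLib Groth.Misc1.Unip

section Extension

variable {k : Type u} [Field k] {A C : Type u} [CommRing A] [HopfAlgebra k A] [CommRing C] [HopfAlgebra k C]

/-- a quotient group of a unipotent group is unipotent -/
theorem isUnipotent_of_injective (ψ : C →ₐc[k] A) (hψ : Function.Injective ψ)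
    (hU : HopfRep.IsUnipotent k A) : HopfRep.IsUnipotent k C := by
  intro V _ _ c hfin hnt hbot
  letI cA : HopfRep.Comod k A V := pushComod (ψ : C →ₗc[k] A) c
  obtain ⟨v, hv, hv0⟩ := Submodule.exists_mem_ne_zero_of_ne_bot (hU V hfin hnt)
  apply hv0
  rw [← Submodule.mem_bot k, ← hbot]
  refine Module.Flat.lTensor_preserves_injective_linearMap (M := V) (ψ : C →ₗ[k] A) hψ ?_
  refine (hv : HopfRep.Comod.coact (k := k) (A := A) v = v ⊗ₜ[k] (1 : A)).trans ?_
  simp

variable (ψ : C →ₐc[k] A) {J : Ideal A} [J.IsHopfIdeal k]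
  (hJ : J = Ideal.map (ψ : C →+* A) (RingHom.ker (Bialgebra.counitAlgHom k C)))
  {V : Type u} [AddCommGroup V] [Module k V] [HopfRep.Comod k A V]

/-- the vectors fixed by the kernel -/
def IsKerFixed (J : Ideal A) (v : V) : Prop :=
  ∀ φ : (A ⧸ J) →ₗ[k] k, op (φ ∘ₗ (Ideal.Quotient.mkₐ k J).toLinearMap) v = φ 1 • v

include hJ in
/-- the coefficients of a vector fixed by the kernel come from the quotient -/
theorem cf_mem_range {v : V} (hv : IsKerFixed (k := k) J v) (f : V →ₗ[k] k) : ∃ c, ψ c = cf (A := A) f v := by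
  refine Groth.Sga3.UnipotentExt.mem_range_of_tmul ψ fun T _ _ i₁ i₂ h =>
    Groth.Sga3.UnipotentExt.eq_of_coinv_right hJ i₁ i₂ h ?_
  change (Ideal.Quotient.mkₐ k J).toLinearMap.lTensor A (Coalgebra.comul (R := k) (cf (A := A) f v)) = _
  refine ext_slice fun φ => ?_
  rw [slice_lTensor, slice_tmul]
  exact (isComodHom_op (isComodHom_cf f) _ v).symm.trans (by rw [hv φ, map_smul])

include hJ in
/-- the vectors fixed by the kernel are stable -/
theorem isKerFixed_op {v : V} (hv : IsKerFixed (k := k) J v) (Φ : A →ₗ[k] k) : IsKerFixed (k := k) J (op Φ v) := by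
  intro φ
  refine sub_eq_zero.1 ((Module.forall_dual_apply_eq_zero_iff k _).1 fun f => ?_)
  rw [map_sub, sub_eq_zero, map_smul, smul_eq_mul, ← apply_cf, ← apply_cf]
  obtain ⟨c, hc⟩ := cf_mem_range ψ hJ hv f
  rw [isComodHom_op (isComodHom_cf f), ← hc]
  change φ (Ideal.Quotient.mkₐ k J (slice Φ (Coalgebra.comul (R := k) (ψ c)))) = _
  have e : ∀ z : A ⊗[k] A, Ideal.Quotient.mkₐ k J (slice Φ z) =
      slice Φ (Algebra.TensorProduct.map (Ideal.Quotient.mkₐ k J) (AlgHom.id k A) z) := by
    intro z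
    induction z using TensorProduct.induction_on with
    | zero => simp
    | tmul p q => simp
    | add p q hp hq => simp only [map_add, hp, hq]
  rw [e, Groth.Sga3.UnipotentExt.left_ψ hJ, slice_tmul, map_smul, smul_eq_mul, mul_comm]

include hJ in
/-- an extension of a unipotent group by a unipotent group is unipotent -/
theorem isUnipotent_extension (hC : HopfRep.IsUnipotent k C) (hN : HopfRep.IsUnipotent k (A ⧸ J)) :
    HopfRep.IsUnipotent k A := by
  classical
  intro V _ _ cA hfin hnt hbot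
  let q := Bialgebra.Quotient.mkBialgHom (R := k) J
  obtain ⟨v₀, hv₀, hv₀0⟩ : ∃ v : V, IsKerFixed (k := k) J v ∧ v ≠ 0 := by
    letI cN : HopfRep.Comod k (A ⧸ J) V := pushComod (q : A →ₗc[k] A ⧸ J) cA
    obtain ⟨v, hv, hv0⟩ := Submodule.exists_mem_ne_zero_of_ne_bot (hN V hfin hnt)
    refine ⟨v, fun φ => ?_, hv0⟩
    have h := congrArg (slice φ)
      (hv : HopfRep.Comod.coact (k := k) (A := A ⧸ J) v = v ⊗ₜ[k] (1 : A ⧸ J))
    rw [slice_tmul] at h
    exact (op_push (q : A →ₗc[k] A ⧸ J) cA φ v).symm.trans h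
  let S : ℕ → Submodule k A := fun m => (fixSeries k C C m).map (ψ : C →ₗ[k] A)
  have hex : ∃ m, ∃ v : V, v ≠ 0 ∧ IsKerFixed (k := k) J v ∧ ∀ f : V →ₗ[k] k, cf (A := A) f v ∈ S m := by
    obtain ⟨y, hy⟩ : HopfRep.Comod.coact (k := k) (A := A) v₀ ∈ LinearMap.range ((ψ : C →ₗ[k] A).lTensor V) := by
      have h := (mem_range_lTensor_iff (LinearMap.range (ψ : C →ₗ[k] A))
        (HopfRep.Comod.coact (k := k) (A := A) v₀)).2 fun f => by
          obtain ⟨c, hc⟩ := cf_mem_range ψ hJ hv₀ f
          exact ⟨c, hc⟩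
      obtain ⟨z, hz⟩ := h
      obtain ⟨y, rfl⟩ := LinearMap.lTensor_surjective V (LinearMap.surjective_rangeRestrict (ψ : C →ₗ[k] A)) z
      exact ⟨y, by rw [← hz, ← LinearMap.lTensor_comp_apply]; rfl⟩
    obtain ⟨T, hT⟩ := TensorProduct.exists_finset y
    choose g hg using fun c : C => exists_mem_fixSeries hC c
    refine ⟨T.sup fun p => g p.2, v₀, hv₀0, hv₀, fun f => ?_⟩
    rw [cf_apply, ← hy, hT, map_sum, map_sum]
    refine Submodule.sum_mem _ fun p hp => ?_
    rw [LinearMap.lTensor_tmul, lslice_tmul]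
    exact Submodule.smul_mem _ _ ⟨p.2, fixSeries_mono (Finset.le_sup (f := fun p : V × C => g p.2) hp) (hg p.2), rfl⟩
  obtain ⟨v, hv0, hvJ, hvS⟩ := Nat.find_spec hex
  obtain ⟨n, hn⟩ : ∃ n, Nat.find hex = n + 1 := by
    refine Nat.exists_eq_succ_of_ne_zero fun h0 => hv0 ?_
    refine (Module.forall_dual_apply_eq_zero_iff k v).1 fun f => ?_
    have h := hvS f
    rw [h0] at h
    obtain ⟨c, hc, hcv⟩ := h
    rw [(Submodule.mem_bot k).1 hc, map_zero] at hcv
    rw [← op_counit (k := k) (A := A) v, ← apply_cf, ← hcv, map_zero]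
  rw [hn] at hvS
  have hop : ∀ φ : A →ₗ[k] k, φ 1 = 0 → op φ v = 0 := by
    intro φ hφ
    by_contra hne
    refine Nat.find_min hex (m := n) (by omega) ⟨op φ v, hne, isKerFixed_op ψ hJ hvJ φ, fun f => ?_⟩
    obtain ⟨c, hc, hcv⟩ := hvS f
    rw [isComodHom_op (isComodHom_cf f), ← hcv]
    refine ⟨op (V := C) (φ ∘ₗ (ψ : C →ₗ[k] A)) c, ?_, ?_⟩
    · have h := mem_fixSeries_succ.1 hc (φ ∘ₗ (ψ : C →ₗ[k] A))
      rwa [augL_of_one (by simp [hφ])] at h
    · change ψ (slice (φ ∘ₗ (ψ : C →ₗ[k] A)) (Coalgebra.comul (R := k) c)) =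
        slice φ (Coalgebra.comul (R := k) (ψ c))
      rw [← CoalgHomClass.map_comp_comul_apply ψ c]
      induction Coalgebra.comul (R := k) c using TensorProduct.induction_on with
      | zero => simp
      | tmul a b => simp
      | add a b ha hb => simp only [map_add, ha, hb]
  apply hv0
  rw [← Submodule.mem_bot k, ← hbot]
  refine ext_slice fun φ => ?_
  rw [slice_tmul, ← op_apply]
  have h := hop (augL φ) (augL_one φ)
  rwa [op_augL, sub_eq_zero] at h

end Extension

/-- Parts (ii), (iii) and (iv) (Hopf-algebra form; 'unipotent' in the fixed-vector form: every non-zero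
finite-dimensional representation has a non-zero fixed vector, which is equivalent to the published
definition for affine algebraic groups): let k be a field and A the coordinate Hopf algebra of an
affine algebraic k-group E. (ii) If E is unipotent, so is every closed subgroup Spec B (B a Hopf
quotient of A, φ : A → B a surjective bialgebra map). (iii) If E is unipotent, so is every quotient
group Spec C (ψ : C → A an injective bialgebra map). (iv) If ψ : C → A is an injective bialgebra map
(quotient U = Spec C), J the Hopf ideal of A generated by the image of the augmentation ideal of C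
(kernel N = Spec (A/J)), and both U and N are unipotent, then E is unipotent. -/
theorem result (k : Type u) [Field k] (A : Type u) [CommRing A] [HopfAlgebra k A] [Algebra.FiniteType k A] :
    (∀ (B : Type u) [CommRing B] [HopfAlgebra k B] [Algebra.FiniteType k B] (φ : A →ₐc[k] B),
      Function.Surjective φ → HopfRep.IsUnipotent k A → HopfRep.IsUnipotent k B) ∧
    (∀ (C : Type u) [CommRing C] [HopfAlgebra k C] [Algebra.FiniteType k C] (ψ : C →ₐc[k] A),
      Function.Injective ψ → HopfRep.IsUnipotent k A → HopfRep.IsUnipotent k C) ∧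
    (∀ (C : Type u) [CommRing C] [HopfAlgebra k C] [Algebra.FiniteType k C] (ψ : C →ₐc[k] A)
      (J : Ideal A) [J.IsHopfIdeal k],
      Function.Injective ψ → J = Ideal.map (ψ : C →+* A) (RingHom.ker (Bialgebra.counitAlgHom k C)) →
      HopfRep.IsUnipotent k C → HopfRep.IsUnipotent k (A ⧸ J) → HopfRep.IsUnipotent k A) := by
  exact ⟨fun B _ _ _ φ hφ hU => isUnipotent_of_surjective φ hφ hU,
    fun C _ _ _ ψ hψ hU => isUnipotent_of_injective ψ hψ hU,
    fun C _ _ _ ψ J _ _ hJ hC hN => isUnipotent_extension ψ hJ hC hN⟩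

end Groth.Agent.S5422
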