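import Groth.Statements.S5425
import Groth.Agent.Misc1.Unip.MuCrit
open Groth.Misc1.Unip WithConv

set_option autoImplicit false
universe u
open TensorProduct
open SGA3t2b

namespace Groth.Agent.S5425

/-- (i) ⟺ (iv) ⟺ (v): let k be a field of characteristic p > 0 with algebraic closure k̄, and A a
finitely generated commutative Hopf algebra over k with no idempotents other than 0 and 1 (a
connected affine algebraic group G). Then the following are equivalent: (i) G is unipotent
(fixed-vector form); (iv) G_{k̄} contains no closed subgroup isomorphic to μ_p; (v) the Lie algebra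
of G is a unipotent p-Lie algebra: for every ε-derivation D : A → k some p^n-fold convolution power
of D (n > 0) vanishes. -/
theorem result (k : Type u) [Field k] (p : ℕ) [Fact p.Prime] [CharP k p] (A : Type u) [CommRing A] [HopfAlgebra k A]
    [Algebra.FiniteType k A] (hconn : ∀ e : A, IsIdempotentElem e → e = 0 ∨ e = 1) :
    (HopfRep.IsUnipotent k A ↔
      ¬ ∃ φ : (AlgebraicClosure k ⊗[k] A) →ₐc[AlgebraicClosure k]
        MonoidAlgebra (AlgebraicClosure k) (Multiplicative (ZMod p)), Function.Surjective φ) ∧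
    (HopfRep.IsUnipotent k A ↔
      ∀ D : LieHopf.Lie k A, ∃ n : ℕ, 0 < n ∧
        LieHopf.convPow (D.toLinearMap.restrictScalars k ∘ₗ LinearMap.id) (p ^ n) = 0) := by
  let K := AlgebraicClosure k
  haveI : CharP K p := charP_of_injective_algebraMap (algebraMap k K).injective p
  have hlie : HopfRep.IsUnipotent k A → ∀ D : LieHopf.Lie k A, ∃ n : ℕ, 0 < n ∧
      LieHopf.convPow (D.toLinearMap.restrictScalars k ∘ₗ LinearMap.id) (p ^ n) = 0 := fun hU D =>
    Groth.Agent.S2968.result p hU D
  have hK : HopfRep.IsUnipotent k A → HopfRep.IsUnipotent K (K ⊗[k] A) := fun hU =>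
    isUnipotent_of_exhaustive (exhaustive_baseChange K fun a => Groth.ComodLib.exists_mem_fixSeries hU a)
  have hback : (¬ ∃ φ : (K ⊗[k] A) →ₐc[K] MonoidAlgebra K (Multiplicative (ZMod p)), Function.Surjective φ) →
      HopfRep.IsUnipotent k A := fun h =>
    isUnipotent_descent K (isUnipotent_of_connected_no_mu p (idem_baseChange K hconn) h)
  have hmu : HopfRep.IsUnipotent k A →
      ¬ ∃ φ : (K ⊗[k] A) →ₐc[K] MonoidAlgebra K (Multiplicative (ZMod p)), Function.Surjective φ := fun hU =>
    no_mu_of_isUnipotent (hK hU) (Fact.out : p.Prime).one_lt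
  refine ⟨⟨hmu, hback⟩, ⟨hlie, fun h => ?_⟩⟩
  have hnil : ∀ f ∈ derS k A, ∃ n : ℕ, f ^ p ^ n = 0 := fun f hf => by
    obtain ⟨D, rfl⟩ := exists_lie_of_mem hf
    obtain ⟨n, -, hn⟩ := h D
    refine ⟨n, WithConv.ofConv_injective ?_⟩
    rw [← Groth.Agent.S2968.convPow_eq]
    exact hn
  refine isUnipotent_descent K (isUnipotent_of_red p (nilpotent_baseChange K p hnil) ?_)
  intro _
  haveI : IsReduced ((K ⊗[k] A) ⧸ nilradical (K ⊗[k] A)) :=
    (Ideal.isRadical_iff_quotient_reduced _).1 (Ideal.radical_isRadical (⊥ : Ideal (K ⊗[k] A)))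
  haveI : IsDomain ((K ⊗[k] A) ⧸ nilradical (K ⊗[k] A)) :=
    Groth.HopfDim.isDomain_of_connected K _ (eq_zero_or_one_of_idem_quot (idem_baseChange K hconn))
  refine isUnipotent_of_hasNoSubtorus (hasNoSubtorus_of_no_mu p ?_)
  refine no_mu_quot _ ?_
  rintro ⟨φ, hφ⟩
  let D : WithConv ((K ⊗[k] A) →ₗ[K] K) :=
    toConv (mom K p 1 ∘ₗ (φ : (K ⊗[k] A) →ₗ[K] MonoidAlgebra K (Multiplicative (ZMod p))))
  obtain ⟨hDder, hDp, hD0⟩ := mom_one_props φ hφ
  obtain ⟨n, hn⟩ := nilpotent_baseChange K p hnil D hDder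
  refine hD0 ?_
  have : ∀ m : ℕ, D ^ p ^ m = D := fun m => by
    induction m with
    | zero => rw [pow_zero, pow_one]
    | succ m ih => rw [pow_succ, pow_mul, ih]; exact hDp
  exact (this n).symm.trans hn

end Groth.Agent.S5425
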