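import Groth.Statements.S5427
import Mathlib.Data.ZMod.QuotientRing
import Mathlib.AlgebraicGeometry.Morphisms.ClosedImmersion
import Mathlib.RingTheory.PrincipalIdealDomain
import Mathlib.RingTheory.Int.Basic
-- no helpers

set_option autoImplicit false
universe u
open CategoryTheory MonoidalCategory CartesianMonoidalCategory MonObj GrpObj AlgebraicGeometry CategoryTheory.Limits
open Red

namespace Groth.Agent.S5427

/-- A nontrivial finitely generated abelian group maps onto some `ℤ/r` with `r` prime. -/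
theorem exists_surjective_zmod (M : Type) [AddCommGroup M] [AddGroup.FG M] [Nontrivial M] :
    ∃ (r : ℕ) (_ : r.Prime) (φ : M →+ ZMod r), Function.Surjective φ := by
  haveI : Module.Finite ℤ M := Module.Finite.iff_addGroup_fg.mpr inferInstance
  obtain ⟨N, hN⟩ : ∃ N : Submodule ℤ M, IsCoatom N := by
    rcases eq_top_or_exists_le_coatom (⊥ : Submodule ℤ M) with h | ⟨N, hN, -⟩
    · exact absurd h bot_ne_top
    · exact ⟨N, hN⟩
  haveI : IsSimpleModule ℤ (M ⧸ N) := isSimpleModule_iff_isCoatom.mpr hN
  obtain ⟨I, hI, ⟨e⟩⟩ := isSimpleModule_iff_quot_maximal.mp ‹IsSimpleModule ℤ (M ⧸ N)›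
  obtain ⟨n, rfl⟩ : ∃ n : ℤ, I = Ideal.span {n} := ⟨_, (Ideal.span_singleton_generator I).symm⟩
  have hn : n ≠ 0 := by
    rintro rfl
    exact Ring.ne_bot_of_isMaximal_of_not_isField hI Int.not_isField (by simp)
  refine ⟨n.natAbs, Int.prime_iff_natAbs_prime.mp
    ((Ideal.span_singleton_prime hn).mp hI.isPrime), ?_⟩
  exact ⟨((Int.quotientSpanEquivZMod n).toAddEquiv.toAddMonoidHom).comp
    (e.toAddMonoidHom.comp N.mkQ.toAddMonoidHom),
    ((Int.quotientSpanEquivZMod n).surjective.comp (e.surjective.comp N.mkQ_surjective))⟩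

instance isMonHom_diagMap (R : Type u) [CommRing R] {M N : Type} [AddCommGroup M] [AddCommGroup N]
    (φ : M →+ N) : IsMonHom (Red.diagMap R φ) :=
  ((bialgSpec (CommRingCat.of R)).map <| .op <| CommBialgCat.ofHom <|
    MonoidAlgebra.mapDomainBialgHom R (AddMonoidHom.toMultiplicative φ)).isMonHom_hom

instance isMonHom_DSmap (S : Scheme.{u}) {M N : Type} [AddCommGroup M] [AddCommGroup N]
    (φ : M →+ N) : IsMonHom (Red.DSmap S φ) := by
  unfold Red.DSmap; infer_instance

/-- Let S be a scheme and G = D_S(M) a diagonalizable S-group of finite type, M a non-trivial finitely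
generated commutative group. Then there are a prime number r and a closed subgroup of G isomorphic
to (μ_r)_S: a homomorphism of S-groups D_S(ℤ/r) → D_S(M) which is a closed immersion. -/
theorem result (S : Scheme.{u}) (M : Type) [AddCommGroup M] [AddGroup.FG M] [Nontrivial M] :
    ∃ (r : ℕ) (_ : r.Prime) (j : Red.DS S (ZMod r) ⟶ Red.DS S M), IsMonHom j ∧ IsClosedImmersion j.left := by
  obtain ⟨r, hr, φ, hφ⟩ := exists_surjective_zmod M
  refine ⟨r, hr, Red.DSmap S φ, inferInstance, ?_⟩
  haveI : IsClosedImmersion (Red.diagMap (ULift.{u} ℤ) φ).left :=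
    IsClosedImmersion.spec_of_surjective _ (fun x ↦ by
      obtain ⟨y, hy⟩ := Finsupp.mapDomain_surjective (M := ULift.{u} ℤ) (f := AddMonoidHom.toMultiplicative φ) hφ x.coeff
      exact ⟨.ofCoeff y, by apply MonoidAlgebra.ext; simpa using hy⟩)
  exact MorphismProperty.overPullbackMap (P := @IsClosedImmersion) _ (Red.diagMap (ULift.{u} ℤ) φ) this

end Groth.Agent.S5427
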