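import Groth.Statements.S5429
import Groth.Agent.Sga3.SectionConj

set_option autoImplicit false
universe u
open TensorProduct
open SGA3

namespace Groth.Agent.S5429

/-- Hopf form: let k be an algebraically closed field, A a finitely generated commutative Hopf algebra
(an algebraic group E), ψ : B → A an injective bialgebra map from a diagonalizable finitely
generated Hopf algebra B (the quotient H of multiplicative type), J the Hopf ideal generated by the
image of the augmentation ideal of B (the kernel U), with U = Spec (A/J) unipotent in the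
fixed-vector sense. Suppose H is smooth (B reduced) or U is smooth (A/J reduced). If r′, r″ : A → B
are two bialgebra retractions of ψ (two liftings H′, H″ of H in E), then there is a k-point u of E
lying in U (an algebra map u : A → k killing J) such that r″ = u · r′ · u⁻¹ as points of E with
values in B (triple convolution of u, r′ and u composed with the antipode). -/
theorem result (k : Type u) [Field k] [IsAlgClosed k] (A B : Type u) [CommRing A] [HopfAlgebra k A] [Algebra.FiniteType k A] [CommRing B] [HopfAlgebra k B]
    [Algebra.FiniteType k B] (hB : SGA3b.IsDiag k B) (ψ : B →ₐc[k] A) (hψ : Function.Injective ψ)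
    (J : Ideal A) [J.IsHopfIdeal k] (hJ : J = Ideal.map (ψ : B →+* A) (RingHom.ker (Bialgebra.counitAlgHom k B)))
    (hU : HopfRep.IsUnipotent k (A ⧸ J))
    (hsm : IsReduced B ∨ IsReduced (A ⧸ J)) (r' r'' : A →ₐc[k] B)
    (hr' : r'.comp ψ = BialgHom.id k B) (hr'' : r''.comp ψ = BialgHom.id k B) :
    ∃ u : A →ₐ[k] k, (∀ a ∈ J, u a = 0) ∧
      (r'' : A →ₐ[k] B) = Dyn.conv3 k A ((Algebra.ofId k B).comp u) (r' : A →ₐ[k] B)
        (((Algebra.ofId k B).comp u).comp (HopfAlgebra.antipodeAlgHom k A)) := by
  have h : Groth.Sga3.SectionConj.Smoothish k B J := hsm.elim (fun h => Or.inr (Or.inl h))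
    fun h => Or.inr (Or.inr ((Ideal.isRadical_iff_quotient_reduced J).2 h))
  obtain ⟨u, hu, he⟩ :=
    Groth.Sga3.SectionConj.exists_conjugating A B hB ψ hψ J hJ hU h r' r'' hr' hr''
  refine ⟨u, hu, ?_⟩
  rw [Groth.Sga3.ConvPoints.conv3_eq]
  exact congrArg WithConv.ofConv he

end Groth.Agent.S5429
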