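import Groth.Statements.S5432
import Groth.Agent.Sga3.UnipotentConnected

set_option autoImplicit false
universe u
open TensorProduct
open SGA3t2b

namespace Groth.Agent.S5432

/-- Let k be a field, C a finitely generated commutative Hopf algebra which is formally smooth with no
idempotents other than 0 and 1 and unipotent in the fixed-vector sense (a smooth connected unipotent
algebraic group U), and B a commutative Hopf algebra of multiplicative type (isomorphic to a group
algebra after a faithfully flat extension of k; the group H, not assumed of finite type). Then every
morphism of k-schemes U → H is constant: every k-algebra map f : B → C satisfies f(b) = ε_C(f(b)) ·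
1. -/
theorem result (k : Type u) [Field k] (C B : Type u) [CommRing C] [HopfAlgebra k C] [Algebra.FiniteType k C]
    [Algebra.FormallySmooth k C] (hconn : ∀ e : C, IsIdempotentElem e → e = 0 ∨ e = 1)
    (hU : HopfRep.IsUnipotent k C) [CommRing B] [HopfAlgebra k B]
    (hB : SGA3b.IsMultTypeConst k B) (f : B →ₐ[k] C) :
    ∀ b : B, f b = algebraMap k C (Bialgebra.counitAlgHom k C (f b)) := by
  exact fun b => Groth.Sga3.UnipotentConnected.algHom_const hconn hU B hB f b

end Groth.Agent.S5432
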