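import Groth.Statements.S5433
import Groth.Agent.S4130
import Groth.Agent.Sga3.UnipMultDecomp
import Groth.Agent.Misc1.Unip.Primitive

set_option autoImplicit false
universe u
open TensorProduct
open SGA3

namespace Groth.Agent.S5433

open Groth.Sga3 Groth.Sga3.UnipotentPart Groth.Sga3.UnipMultDecomp Groth.ComodLib Groth.Misc1.Unip

section Aux

variable {k : Type u} [Field k] {A : Type u} [CommRing A] [HopfAlgebra k A]

theorem mk_of_mem {B : Subalgebra k A} {b : A} (hb : b ∈ B) :
    Ideal.Quotient.mk (SGA3.augIdealSpan k A B) b =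
      algebraMap k (A ⧸ SGA3.augIdealSpan k A B) (Coalgebra.counit (R := k) b) := by
  rw [← Ideal.Quotient.mk_algebraMap, Ideal.Quotient.eq]
  exact Ideal.subset_span ⟨sub_mem hb (B.algebraMap_mem _), by simp⟩

/-- the product of two subgroups on an element of the first Hopf subalgebra -/
theorem comul_left {B : Subalgebra k A} (hB : SGA3.IsHopfSubalgebra k A B) (I : Ideal A) (b : B) :
    Algebra.TensorProduct.map (Ideal.Quotient.mkₐ k (SGA3.augIdealSpan k A B)) (Ideal.Quotient.mkₐ k I)
      (Coalgebra.comul (R := k) (b : A)) =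
      (1 : A ⧸ SGA3.augIdealSpan k A B) ⊗ₜ[k] Ideal.Quotient.mk I (b : A) := by
  have h : ∀ z : B ⊗[k] B,
      Algebra.TensorProduct.map (Ideal.Quotient.mkₐ k (SGA3.augIdealSpan k A B)) (Ideal.Quotient.mkₐ k I)
        (SubHopfStruct.jj B z) = (1 : A ⧸ SGA3.augIdealSpan k A B) ⊗ₜ[k] Ideal.Quotient.mkₐ k I
          (TensorProduct.lid k A ((Coalgebra.counit (R := k) (A := A)).rTensor A (SubHopfStruct.jj B z))) := by
    intro z
    induction z using TensorProduct.induction_on with
    | zero => simp
    | add p q hp hq => simp only [map_add, TensorProduct.tmul_add, hp, hq]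
    | tmul p q => simp [mk_of_mem p.2, Algebra.algebraMap_eq_smul_one, TensorProduct.smul_tmul]
  rw [← SubHopfStruct.jj_comulB hB, h, SubHopfStruct.jj_comulB hB, Coalgebra.rTensor_counit_comul]
  simp

/-- the product of two subgroups on an element of the second Hopf subalgebra -/
theorem comul_right {C : Subalgebra k A} (hC : SGA3.IsHopfSubalgebra k A C) (J : Ideal A) (c : C) :
    Algebra.TensorProduct.map (Ideal.Quotient.mkₐ k J) (Ideal.Quotient.mkₐ k (SGA3.augIdealSpan k A C))
      (Coalgebra.comul (R := k) (c : A)) =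
      Ideal.Quotient.mk J (c : A) ⊗ₜ[k] (1 : A ⧸ SGA3.augIdealSpan k A C) := by
  have h : ∀ z : C ⊗[k] C,
      Algebra.TensorProduct.map (Ideal.Quotient.mkₐ k J) (Ideal.Quotient.mkₐ k (SGA3.augIdealSpan k A C))
        (SubHopfStruct.jj C z) = Ideal.Quotient.mkₐ k J
          (TensorProduct.rid k A ((Coalgebra.counit (R := k) (A := A)).lTensor A (SubHopfStruct.jj C z))) ⊗ₜ[k]
            (1 : A ⧸ SGA3.augIdealSpan k A C) := by
    intro z
    induction z using TensorProduct.induction_on with
    | zero => simp
    | add p q hp hq => simp only [map_add, TensorProduct.add_tmul, hp, hq]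
    | tmul p q => simp [mk_of_mem q.2, Algebra.algebraMap_eq_smul_one, TensorProduct.smul_tmul]
  rw [← SubHopfStruct.jj_comulB hC, h, SubHopfStruct.jj_comulB hC, Coalgebra.lTensor_counit_comul]
  simp

end Aux

/-- Let k be a perfect field and A a finitely generated commutative and cocommutative Hopf algebra over
k (a commutative affine algebraic group G). Let J be the Hopf ideal of the largest subgroup of
multiplicative type M (A/J is of multiplicative type and J lies in every Hopf ideal whose quotient
is of multiplicative type). Then there is exactly one Hopf ideal I of A (a unipotent subgroup U)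
such that A/I is unipotent in the fixed-vector sense and the map A → (A/J) ⊗ (A/I), a ↦ Σ ā₁ ⊗ ā₂
(the comorphism of the multiplication M × U → G), is bijective. -/
theorem result (k : Type u) [Field k] [PerfectField k] (A : Type u) [CommRing A] [HopfAlgebra k A] [Algebra.FiniteType k A]
    [Coalgebra.IsCocomm k A] (J : Ideal A) [J.IsHopfIdeal k] (hJ : SGA3b.IsMultTypeConst k (A ⧸ J))
    (hJmax : ∀ (I : Ideal A) [I.IsHopfIdeal k], SGA3b.IsMultTypeConst k (A ⧸ I) → J ≤ I) :
    ∃! I : Ideal A, ∃ (_ : I.IsHopfIdeal k), HopfRep.IsUnipotent k (A ⧸ I) ∧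
      Function.Bijective ((Algebra.TensorProduct.map (Ideal.Quotient.mkₐ k J) (Ideal.Quotient.mkₐ k I)).comp
        (Bialgebra.comulAlgHom k A)) := by
  classical
  let K := AlgebraicClosure k
  let B := unip k A
  let C := charPart k K A
  have hB : SGA3.IsHopfSubalgebra k A B := isHopfSubalgebra_unip k A
  have hC : SGA3.IsHopfSubalgebra k A C := isHopfSubalgebra_charPart k K A
  haveI hJ₀ := SubHopfStruct.isHopfIdeal_augIdealSpan hB
  haveI hI₀ := SubHopfStruct.isHopfIdeal_augIdealSpan hC
  obtain rfl : J = SGA3.augIdealSpan k A B := le_antisymm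
    (hJmax _ ⟨K, inferInstance, inferInstance, inferInstance, Groth.Agent.S4130.isDiag_quotient (K := K) _ le_rfl⟩)
    (Groth.Agent.S4130.augIdealSpan_le J hJ)
  set J := SGA3.augIdealSpan k A B with hJdef
  set I := SGA3.augIdealSpan k A C with hIdef
  letI := SubHopfStruct.hopfAlgebra hB
  let m := mulMap k A K
  let mE := AlgEquiv.ofBijective m ⟨mulMap_injective, mulMap_surjective⟩
  -- the two projections are bijective
  let πB : B →ₐ[k] A ⧸ I := (Ideal.Quotient.mkₐ k I).comp B.val
  let πC : C →ₐ[k] A ⧸ J := (Ideal.Quotient.mkₐ k J).comp C.val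
  have hBs : Function.Surjective πB := fun x => by
    obtain ⟨a, rfl⟩ := Ideal.Quotient.mk_surjective x
    obtain ⟨z, rfl⟩ := mE.surjective a
    change Ideal.Quotient.mkₐ k I (m z) ∈ πB.range
    induction z using TensorProduct.induction_on with
    | zero => simp
    | add p q hp hq => rw [map_add, map_add]; exact add_mem hp hq
    | tmul b c =>
      refine ⟨Coalgebra.counit (R := k) (c : A) • b, ?_⟩
      simp [m, mulMap_tmul, πB, Algebra.smul_def]
      rw [show Ideal.Quotient.mk I (c : A) = algebraMap k (A ⧸ I) (Coalgebra.counit (R := k) (c : A)) from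
        mk_of_mem (B := C) c.2, mul_comm]
  have hCs : Function.Surjective πC := fun x => by
    obtain ⟨a, rfl⟩ := Ideal.Quotient.mk_surjective x
    obtain ⟨z, rfl⟩ := mE.surjective a
    change Ideal.Quotient.mkₐ k J (m z) ∈ πC.range
    induction z using TensorProduct.induction_on with
    | zero => simp
    | add p q hp hq => rw [map_add, map_add]; exact add_mem hp hq
    | tmul b c =>
      refine ⟨Coalgebra.counit (R := k) (b : A) • c, ?_⟩
      simp [m, mulMap_tmul, πC, Algebra.smul_def]
      rw [show Ideal.Quotient.mk J (b : A) = algebraMap k (A ⧸ J) (Coalgebra.counit (R := k) (b : A)) from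
        mk_of_mem (B := B) b.2]
  have hBi : Function.Injective πB := by
    let r : A →ₐ[k] B := (Algebra.TensorProduct.productMap (AlgHom.id k B)
      ((Algebra.ofId k B).comp ((Bialgebra.counitAlgHom k A).comp C.val))).comp mE.symm.toAlgHom
    have hr : ∀ (b : B) (c : C), r ((b : A) * (c : A)) = b * algebraMap k B (Coalgebra.counit (R := k) (c : A)) := by
      intro b c
      have : mE.symm ((b : A) * (c : A)) = b ⊗ₜ c := mE.injective (by
        rw [mE.apply_symm_apply]; exact (mulMap_tmul b c).symm)
      simp [r, this, Algebra.ofId_apply]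
    have hle : I ≤ RingHom.ker r := Ideal.span_le.2 fun a ⟨ha, hε⟩ => by
      have h1 := hr 1 ⟨a, ha⟩
      rw [OneMemClass.coe_one, one_mul, hε, map_zero, mul_zero] at h1
      exact h1
    rw [injective_iff_map_eq_zero]
    intro b hb
    have h1 := hr b 1
    rw [OneMemClass.coe_one, mul_one, Bialgebra.counit_one, map_one, mul_one] at h1
    rw [← h1]
    exact hle (Ideal.Quotient.eq_zero_iff_mem.1 hb)
  have hCi : Function.Injective πC := by
    let r : A →ₐ[k] C := (Algebra.TensorProduct.productMap
      ((Algebra.ofId k C).comp ((Bialgebra.counitAlgHom k A).comp B.val)) (AlgHom.id k C)).comp mE.symm.toAlgHom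
    have hr : ∀ (b : B) (c : C), r ((b : A) * (c : A)) = algebraMap k C (Coalgebra.counit (R := k) (b : A)) * c := by
      intro b c
      have : mE.symm ((b : A) * (c : A)) = b ⊗ₜ c := mE.injective (by
        rw [mE.apply_symm_apply]; exact (mulMap_tmul b c).symm)
      simp [r, this, Algebra.ofId_apply]
    have hle : J ≤ RingHom.ker r := Ideal.span_le.2 fun a ⟨ha, hε⟩ => by
      have h1 := hr ⟨a, ha⟩ 1
      rw [OneMemClass.coe_one, mul_one, hε, map_zero, zero_mul] at h1
      exact h1
    rw [injective_iff_map_eq_zero]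
    intro c hc
    have h1 := hr 1 c
    rw [OneMemClass.coe_one, one_mul, Bialgebra.counit_one, map_one, one_mul] at h1
    rw [← h1]
    exact hle (Ideal.Quotient.eq_zero_iff_mem.1 hc)
  -- the comorphism of the product map is bijective
  let ψ := (Algebra.TensorProduct.map (Ideal.Quotient.mkₐ k J) (Ideal.Quotient.mkₐ k I)).comp
    (Bialgebra.comulAlgHom k A)
  have hψm : ∀ z, ψ (m z) = TensorProduct.comm k (A ⧸ I) (A ⧸ J)
      (TensorProduct.map πB.toLinearMap πC.toLinearMap z) := by
    intro z
    induction z using TensorProduct.induction_on with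
    | zero => simp
    | add p q hp hq => simp only [map_add, hp, hq]
    | tmul b c =>
      change ψ (mulMap k A K (b ⊗ₜ c)) = _
      rw [mulMap_tmul, map_mul]
      simp only [ψ, AlgHom.comp_apply, Bialgebra.comulAlgHom_apply, hJdef, hIdef]
      rw [comul_left hB _ b, comul_right hC _ c]
      simp [πB, πC, hJdef, hIdef]
  have hmap : Function.Bijective (TensorProduct.map πB.toLinearMap πC.toLinearMap) :=
    (TensorProduct.congr (LinearEquiv.ofBijective πB.toLinearMap ⟨hBi, hBs⟩)
      (LinearEquiv.ofBijective πC.toLinearMap ⟨hCi, hCs⟩)).bijective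
  have hψ : Function.Bijective ψ := by
    have h : Function.Bijective (ψ ∘ m) := by
      rw [show ψ ∘ m = TensorProduct.comm k (A ⧸ I) (A ⧸ J) ∘ TensorProduct.map πB.toLinearMap πC.toLinearMap
        from funext hψm]
      exact (TensorProduct.comm k _ _).bijective.comp hmap
    exact (Function.Bijective.of_comp_iff ψ mE.bijective).1 h
  have hU : HopfRep.IsUnipotent k (A ⧸ I) :=
    isUnipotent_of_surjective ((Bialgebra.Quotient.mkBialgHom (R := k) I).comp (SubHopfStruct.incl hB))
      hBs Groth.Agent.S4130.isUnipotent_unip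
  refine ⟨I, ⟨hI₀, hU, hψ⟩, ?_⟩
  rintro I' ⟨hI', hU', hψ'⟩
  haveI := hI'
  have hle : I ≤ I' := Ideal.span_le.2 fun a ⟨ha, hε⟩ => by
    have h := map_charPart (Bialgebra.Quotient.mkBialgHom (R := k) I') (exists_mem_fixSeries hU') ha
    rw [show Coalgebra.counit (R := k) a = 0 from hε, map_zero] at h
    exact Ideal.Quotient.eq_zero_iff_mem.1 h
  refine le_antisymm (fun x hx => ?_) hle
  haveI : Nontrivial (A ⧸ J) := RingHom.domain_nontrivial (Bialgebra.counitAlgHom k (A ⧸ J)).toRingHom
  obtain ⟨a, ha⟩ := hψ.2 ((1 : A ⧸ J) ⊗ₜ[k] Ideal.Quotient.mk I x)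
  let q : A ⧸ I →ₐ[k] A ⧸ I' := Ideal.Quotient.factorₐ k hle
  have hfac : ∀ t : A ⊗[k] A, Algebra.TensorProduct.map (Ideal.Quotient.mkₐ k J) (Ideal.Quotient.mkₐ k I') t =
      Algebra.TensorProduct.map (AlgHom.id k (A ⧸ J)) q
        (Algebra.TensorProduct.map (Ideal.Quotient.mkₐ k J) (Ideal.Quotient.mkₐ k I) t) := by
    intro t
    induction t using TensorProduct.induction_on with
    | zero => simp
    | add p r hp hr => simp only [map_add, hp, hr]
    | tmul p r => rfl
  have h0 : a = 0 := by
    refine (injective_iff_map_eq_zero _).1 hψ'.1 a ?_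
    rw [AlgHom.comp_apply, hfac]
    refine (congrArg (Algebra.TensorProduct.map (AlgHom.id k (A ⧸ J)) q) ha).trans ?_
    rw [Algebra.TensorProduct.map_tmul,
      show q (Ideal.Quotient.mk I x) = 0 from Ideal.Quotient.eq_zero_iff_mem.2 hx, TensorProduct.tmul_zero]
  rw [h0, map_zero] at ha
  exact Ideal.Quotient.eq_zero_iff_mem.1 ((Module.FaithfullyFlat.one_tmul_eq_zero_iff k (A ⧸ I) _).1 ha.symm)

end Groth.Agent.S5433
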