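import Groth.Statements.S5436
import Groth.Agent.Reductive2.BiratHom

set_option autoImplicit false
universe u
open CategoryTheory MonoidalCategory CartesianMonoidalCategory MonObj GrpObj AlgebraicGeometry CategoryTheory.Limits
open SGA3x

namespace Groth.Agent.S5436

/-- Let G be an S-group scheme, flat and locally of finite presentation over S, U an open subscheme of G
schematically dense in G relative to S, H an S-group scheme and f̄ : U → H an S-morphism. Let V be
an open of G ×_S G contained in (U ×_S U) ∩ m⁻¹(U) and schematically dense in G ×_S G relative to S,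
such that for every S-scheme X and all X-points a, b of U with (a, b) in V, the product ab (a point
of U) satisfies f̄(ab) = f̄(a) f̄(b). Then there is a unique homomorphism of S-groups f : G → H
whose restriction to U is f̄. (The published statement also covers certain sheaves of groups H for
the fppf topology that are not schemes; this row takes H a group scheme.) -/
theorem result (S : Scheme.{u}) (G H : Over S) [GrpObj G] [GrpObj H] [Flat G.hom] [LocallyOfFinitePresentation G.hom]
    (U : G.left.Opens) (hU : (∀ (S' : Scheme.{u}) (g : S' ⟶ S), CInt.IsSchematicallyDense ((pullback.fst G.hom g) ⁻¹ᵁ U)))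
    (jU : Over.mk (U.ι ≫ G.hom) ⟶ G) (hjU : jU.left = U.ι) (fbar : Over.mk (U.ι ≫ G.hom) ⟶ H)
    (V : (G ⊗ G).left.Opens) (hV : (∀ (S' : Scheme.{u}) (g : S' ⟶ S), CInt.IsSchematicallyDense ((pullback.fst (G ⊗ G).hom g) ⁻¹ᵁ V)))
    (hV1 : V ≤ (fst G G).left ⁻¹ᵁ U) (hV2 : V ≤ (snd G G).left ⁻¹ᵁ U) (hVm : V ≤ μ[G].left ⁻¹ᵁ U)
    (hmul : ∀ (X : Over S) (a b : X ⟶ Over.mk (U.ι ≫ G.hom)),
      Set.range (lift (a ≫ jU) (b ≫ jU)).left.base ⊆ (V : Set ↥(G ⊗ G).left) →
      ∃ c : X ⟶ Over.mk (U.ι ≫ G.hom), c ≫ jU = (a ≫ jU) * (b ≫ jU) ∧ c ≫ fbar = (a ≫ fbar) * (b ≫ fbar)) :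
    ∃! f : G ⟶ H, IsMonHom f ∧ jU ≫ f = fbar := by
  have : IsOpenImmersion jU.left := by rw [hjU]; infer_instance
  have hr : U = jU.left.opensRange :=
    ((congrArg (fun φ : (Over.mk (U.ι ≫ G.hom)).left ⟶ G.left => Set.range φ.base) hjU).trans
      U.range_ι).symm |> TopologicalSpace.Opens.ext
  exact Groth.Reductive2.Birat.existsUnique_hom U hU jU hr fbar
    (Groth.Reductive2.Birat.law_of_dense U hU jU hr fbar V hV hmul)

end Groth.Agent.S5436
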