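import Groth.Statements.S5441
import Groth.Agent.Sga3.RadicielLift
-- import your own Groth.Agent.* helpers here

set_option autoImplicit false
universe u
open TensorProduct
open SGA3

namespace Groth.Agent.S5441

/-- Let k be a perfect field, A a finitely generated commutative Hopf algebra (an algebraic group H), ψ
: C → A an injective bialgebra map with C an étale k-algebra (the étale quotient H″), J the Hopf
ideal of A generated by the image of the augmentation ideal of C (the kernel H′ = Spec (A/J)), with
A/J a local ring (H′ radiciel). Then H″ lifts uniquely into H and the lifting is the reduced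
subgroup: there is exactly one bialgebra map r : A → C with r ∘ ψ = id, and every such r has kernel
the nilradical of A. -/
theorem result (k : Type u) [Field k] [PerfectField k] (A C : Type u) [CommRing A] [HopfAlgebra k A] [Algebra.FiniteType k A]
    [CommRing C] [HopfAlgebra k C] [Algebra.Etale k C] (ψ : C →ₐc[k] A) (hψ : Function.Injective ψ)
    (J : Ideal A) [J.IsHopfIdeal k] (hJ : J = Ideal.map (ψ : C →+* A) (RingHom.ker (Bialgebra.counitAlgHom k C)))
    [IsLocalRing (A ⧸ J)] :
    (∃! r : A →ₐc[k] C, r.comp ψ = BialgHom.id k C) ∧
    ∀ r : A →ₐc[k] C, r.comp ψ = BialgHom.id k C → RingHom.ker (r : A →+* C) = nilradical A := by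
  exact Groth.Sga3.RadicielLift.existsUnique_retraction ψ hψ hJ

end Groth.Agent.S5441
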