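import Groth.Statements.S5442
import Groth.Agent.Reductive.MTClosedLocus
-- import your own Groth.Agent.* helpers here

set_option autoImplicit false
universe u
open CategoryTheory MonoidalCategory CartesianMonoidalCategory MonObj GrpObj AlgebraicGeometry CategoryTheory.Limits
open SGA3x

namespace Groth.Agent.S5442

/-- Let S be a scheme, G an S-group scheme separated and smooth over S, and H an S-group of
multiplicative type and of finite type acting on G by group automorphisms (on points, h · (g g′) =
(h · g)(h · g′)). Then the functor Z = G^H of invariants (points of G fixed by all points of H after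
any base change) is representable by a closed subgroup scheme of G which is smooth over S: there are
an S-group Z and a homomorphism Z → G which is a closed immersion, with Z smooth over S, whose
points are exactly the invariant points. (The published statement allows any S-group of
multiplicative type; this row assumes it moreover of finite type.) -/
theorem result (S : Scheme.{u}) (H G : Over S) [GrpObj H] [GrpObj G] (hH : SGA3x.IsMultTypeFT H)
    [IsSeparated G.hom] [Smooth G.hom] (a : AlgGrp.Action H G)
    (hmul : ∀ (X : Over S) (h : X ⟶ H) (g g' : X ⟶ G),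
      lift h (g * g') ≫ a.act = (lift h g ≫ a.act) * (lift h g' ≫ a.act)) :
    ∃ (Z : Over S) (_ : GrpObj Z) (z : Z ⟶ G) (_ : IsMonHom z), IsClosedImmersion z.left ∧ Smooth Z.hom ∧
      ∀ (X : Over S) (g : X ⟶ G), (∃ x : X ⟶ Z, x ≫ z = g) ↔
        ∀ (X' : Over S) (f : X' ⟶ X) (h : X' ⟶ H), lift h (f ≫ g) ≫ a.act = f ≫ g := by
  obtain ⟨Z, j, hj, hZ, hiff⟩ := Groth.Reductive.MTInt.exists_fixedLocus
    (Groth.Reductive.MTInt.locTriv_of_multTypeFT hH) ‹_› a
  haveI := hj
  haveI : Mono j := (Over.forget S).mono_of_mono_map (inferInstanceAs (Mono j.left))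
  have hone : ∀ (X' : Over S) (h : X' ⟶ H), lift h (1 : X' ⟶ G) ≫ a.act = 1 := fun X' h ↦ by
    have e := hmul X' h 1 1
    rw [_root_.one_mul] at e
    exact left_eq_mul.mp e
  have hmem := fun (X : Over S) (z : X ⟶ Z) ↦ (hiff X (z ≫ j)).mp ⟨z, rfl⟩
  obtain ⟨inst, hmon⟩ := Groth.Reductive.exists_grpObj_of_mono j
    ((hiff _ 1).mpr fun X' x h ↦ by rw [MonObj.comp_one]; exact hone X' h)
    ((hiff _ _).mpr fun X' x h ↦ by
      rw [MonObj.comp_mul, hmul, hmem _ (fst Z Z) X' x h, hmem _ (snd Z Z) X' x h])
    ((hiff _ _).mpr fun X' x h ↦ by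
      have e := hmem _ (𝟙 Z) X' x h
      rw [Category.id_comp] at e
      rw [GrpObj.comp_inv]
      refine eq_inv_of_mul_eq_one_left ?_
      conv_lhs => arg 2; rw [← e]
      rw [← hmul, inv_mul_cancel, hone])
  exact ⟨Z, inst, j, hmon, hj, hZ, hiff⟩

end Groth.Agent.S5442
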