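import Groth.Statements.S5443
import Groth.Agent.Misc1.UnipOrbit.Coideal
import Groth.Agent.AlgGrp1.AffineHull

set_option autoImplicit false
universe u
open TensorProduct CategoryTheory MonoidalCategory CartesianMonoidalCategory MonObj GrpObj AlgebraicGeometry
open SGA3x

namespace Groth.Agent.S5443

section

variable {k : Type u} [Field k]

local notation "𝕊" => Spec (CommRingCat.of k)

noncomputable abbrev sp (T : Type u) [CommRing T] [Algebra k T] : Over 𝕊 := (Spec (CommRingCat.of T)).asOver 𝕊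

/-- the morphism of an algebra map -/
noncomputable def hom {T R : Type u} [CommRing T] [Algebra k T] [CommRing R] [Algebra k R] (φ : R →ₐ[k] T) :
    sp (k := k) T ⟶ sp R :=
  (Spec.map (CommRingCat.ofHom φ.toRingHom)).asOver _

theorem hom_comp {T R U : Type u} [CommRing T] [Algebra k T] [CommRing R] [Algebra k R] [CommRing U] [Algebra k U]
    (φ : R →ₐ[k] T) (ψ : U →ₐ[k] R) : hom φ ≫ hom ψ = hom (φ.comp ψ) :=
  Over.OverMorphism.ext (Spec.map_comp _ _).symm

theorem exists_algHom {T R : Type u} [CommRing T] [Algebra k T] [CommRing R] [Algebra k R]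
    (f : sp (k := k) T ⟶ sp R) : ∃ φ : R →ₐ[k] T, f = hom φ := by
  refine ⟨⟨(Spec.preimage f.left).hom, ?_⟩, Over.OverMorphism.ext ?_⟩
  · suffices CommRingCat.ofHom (algebraMap k R) ≫ Spec.preimage f.left =
      CommRingCat.ofHom (algebraMap k T) from fun r ↦ congr($this r)
    apply Spec.map_injective
    simpa [specOverSpec_over] using! f.w
  · exact (Spec.map_preimage f.left).symm

theorem hom_injective {T R : Type u} [CommRing T] [Algebra k T] [CommRing R] [Algebra k R]
    {φ ψ : R →ₐ[k] T} (h : hom φ = hom ψ) : φ = ψ := by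
  have h1 := congrArg CommRingCat.Hom.hom (Spec.map_injective (congrArg (fun m => m.left) h))
  exact AlgHom.coe_ringHom_injective h1

end

/-- the orbit map of a product -/
theorem orbit_mul {S : Scheme.{u}} {G X T : Over S} [GrpObj G] (a : AlgGrp.Action G X) (x : 𝟙_ (Over S) ⟶ X)
    (g h : T ⟶ G) : (g * h) ≫ a.orbitMap x = lift g (h ≫ a.orbitMap x) ≫ a.act := by
  simp only [AlgGrp.Action.orbitMap, Hom.mul_def, comp_lift_assoc, Category.comp_id]
  have e : lift (lift g h ≫ μ[G]) ((lift g h ≫ μ[G]) ≫ toUnit G ≫ x) =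
      lift (lift g h) (toUnit T ≫ x) ≫ μ[G] ▷ X := by
    rw [lift_whiskerRight]
    congr 1
    rw [← Category.assoc, toUnit_unique ((lift g h ≫ μ[G]) ≫ toUnit G) (toUnit T)]
  rw [e, Category.assoc, a.mul_act, lift_lift_associator_hom_assoc, lift_whiskerLeft_assoc, ← Category.assoc h,
    toUnit_unique (h ≫ toUnit G) (toUnit T)]

/-- Let k be a field, A a finitely generated commutative Hopf algebra over k which is unipotent in the
fixed-vector sense (a unipotent algebraic group U = Spec A), X a k-scheme of finite type which is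
quasi-affine, with an action of U, and x a k-rational point of X. Then the orbit of x — the
set-theoretic image of U under the orbit map g ↦ g · x — is closed in X. (The published statement
does not ask X to be of finite type over k; this row does.) -/
theorem result (k : Type u) [Field k] (A : Type u) [CommRing A] [HopfAlgebra k A] [Algebra.FiniteType k A]
    (hU : HopfRep.IsUnipotent k A) (X : Over (Spec (CommRingCat.of k))) [LocallyOfFiniteType X.hom]
    (hX : Mor2.IsQuasiAffine X.hom)
    (a : AlgGrp.Action ((Spec (CommRingCat.of A)).asOver (Spec (CommRingCat.of k))) X)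
    (x : 𝟙_ (Over (Spec (CommRingCat.of k))) ⟶ X) :
    IsClosed (Set.range (a.orbitMap x).left.base) := by
  let 𝕊 := Spec (CommRingCat.of k)
  have : QuasiCompact X.hom := hX.1
  have : CompactSpace X.left := QuasiCompact.compactSpace_of_compactSpace X.hom
  have hqa : X.left.IsQuasiAffine := by
    have hT : Scheme.IsQuasiAffine ((X.hom ⁻¹ᵁ ⊤) : Scheme.{u}) := hX.2 ⊤ (isAffineOpen_top _)
    exact Scheme.IsQuasiAffine.of_isImmersion (X.left.topIso.inv ≫ (X.left.isoOfEq (Scheme.Hom.preimage_top X.hom).symm).hom)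
  have : QuasiSeparated X.hom := inferInstance
  letI : Algebra k Γ(X.left, ⊤) := ((Scheme.ΓSpecIso (CommRingCat.of k)).inv ≫ X.hom.appTop).hom.toAlgebra
  let H := sp (k := k) Γ(X.left, ⊤)
  let ρ : X ⟶ H := Over.homMk X.left.toSpecΓ (by
    change X.left.toSpecΓ ≫ Spec.map ((Scheme.ΓSpecIso (CommRingCat.of k)).inv ≫ X.hom.appTop) = X.hom
    rw [Spec.map_comp, ← Category.assoc, ← Scheme.toSpecΓ_naturality, Category.assoc,
      toSpecΓ_SpecMap_ΓSpecIso_inv, Category.comp_id])
  have : IsAffine H.left := inferInstanceAs (IsAffine (Spec _))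
  have : Groth.AlgGrp1.AffineHull.GammaIso ρ := by
    show IsIso X.left.toSpecΓ.appTop
    rw [Scheme.toSpecΓ_appTop]
    infer_instance
  let G := sp (k := k) A
  have : IsAffine G.left := inferInstanceAs (IsAffine (Spec _))
  have : Groth.AlgGrp1.AffineHull.GammaIso (𝟙 G) := by
    show IsIso (Scheme.Hom.appTop (𝟙 G.left))
    rw [Scheme.Hom.id_appTop]; infer_instance
  have := Groth.AlgGrp1.AffineHull.gammaIso_tensor (𝟙 G) ρ
  obtain ⟨act', hact'⟩ := Groth.AlgGrp1.AffineHull.exists_desc (𝟙 G ⊗ₘ ρ) (a.act ≫ ρ)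
  obtain ⟨o, ho⟩ := exists_algHom (k := k) (T := A) (R := Γ(X.left, ⊤)) (a.orbitMap x ≫ ρ)
  let inL : A →ₐ[k] A ⊗[k] A := Algebra.TensorProduct.includeLeft
  let inR : A →ₐ[k] A ⊗[k] A := Algebra.TensorProduct.includeRight
  have hmul : hom inL * hom inR = hom (Bialgebra.comulAlgHom k A) := by
    refine ((AlgebraicGeometry.Spec.mapMulEquiv (R := k) (S := A) (T := A ⊗[k] A)).map_mul
      (WithConv.toConv inL) (WithConv.toConv inR)).symm.trans (congrArg hom ?_)
    rw [AlgHom.convMul_def]
    have e : (Algebra.TensorProduct.lmul' k).comp (Algebra.TensorProduct.map inL inR) = AlgHom.id k _ := by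
      ext <;> simp [inL, inR]
    rw [← AlgHom.comp_assoc, e, AlgHom.id_comp]
  let Θ : A ⊗[k] Γ(X.left, ⊤) →ₐ[k] A ⊗[k] A := Algebra.TensorProduct.map (AlgHom.id k A) o
  obtain ⟨ψ, hψ⟩ := exists_algHom (k := k) (T := A ⊗[k] Γ(X.left, ⊤)) (R := Γ(X.left, ⊤))
    (lift (hom (Algebra.TensorProduct.includeLeft : A →ₐ[k] A ⊗[k] Γ(X.left, ⊤)))
      (hom (Algebra.TensorProduct.includeRight : Γ(X.left, ⊤) →ₐ[k] A ⊗[k] Γ(X.left, ⊤))) ≫ act')
  have key : (Bialgebra.comulAlgHom k A).comp o = Θ.comp ψ := by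
    refine hom_injective ?_
    rw [← hom_comp, ← hom_comp, ← ho, ← hψ, ← hmul]
    have e1 : hom Θ ≫ lift (hom (Algebra.TensorProduct.includeLeft : A →ₐ[k] A ⊗[k] Γ(X.left, ⊤)))
        (hom (Algebra.TensorProduct.includeRight : Γ(X.left, ⊤) →ₐ[k] A ⊗[k] Γ(X.left, ⊤))) =
        lift (hom inL) (hom inR ≫ a.orbitMap x) ≫ (𝟙 G ⊗ₘ ρ) := by
      rw [comp_lift, lift_map, Category.comp_id, Category.assoc, ho, hom_comp, hom_comp, hom_comp]
      congr 2 <;> ext <;> simp [Θ, inL, inR]
    rw [← Category.assoc, orbit_mul, ← Category.assoc, e1, Category.assoc, Category.assoc, hact']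
  have hcl := Groth.Misc1.UnipOrbit.isClosed_range_comap_of_leftCoideal hU o fun f => ⟨ψ f, by
    refine Eq.trans ?_ (DFunLike.congr_fun key f).symm
    rfl⟩
  have hrange : Set.range (a.orbitMap x).left.base =
      ρ.left.base ⁻¹' Set.range (PrimeSpectrum.comap o.toRingHom) := by
    have hinj : Function.Injective ρ.left.base := (Scheme.Hom.isOpenEmbedding X.left.toSpecΓ).injective
    have h1 : ∀ q, ρ.left.base ((a.orbitMap x).left.base q) = PrimeSpectrum.comap o.toRingHom q := fun q => by
      have := congrArg (fun m => m.left.base q) ho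
      exact this
    refine Set.Subset.antisymm ?_ ?_
    · rintro _ ⟨q, rfl⟩
      exact ⟨q, (h1 q).symm⟩
    · rintro p ⟨q, hq⟩
      exact ⟨q, hinj ((h1 q).trans hq)⟩
  rw [hrange]
  exact hcl.preimage ρ.left.continuous

end Groth.Agent.S5443
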