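import Groth.Statements.S5447
import Groth.Agent.RootData.IntDatum

set_option autoImplicit false
open RootD

namespace Groth.Agent.S5447

/-- If every root can be written in exactly one way as an integer combination of the roots indexed by Δ
with coefficients all of the same sign, then these roots are linearly independent (so Δ is a system
of simple roots) and indivisible. -/
theorem result {ι M N : Type*} [AddCommGroup M] [AddCommGroup N]
    (P : RootPairing ι ℤ M N) [Finite ι] (Δ : Set ι)
    (h : ∀ k : ι, ∃! c : ι →₀ ℤ, (↑c.support ⊆ Δ ∧ ((∀ j, 0 ≤ c j) ∨ (∀ j, c j ≤ 0)) ∧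
      Finsupp.linearCombination ℤ P.root c = P.root k)) :
    RootD.IsSimpleSys P Δ ∧ ∀ i ∈ Δ, RootD.IsIndiv P i := by
  open Groth.RootData in
  have hex : ∀ k, P.root k ∈ natSpan P Δ ∨ -P.root k ∈ natSpan P Δ := fun k ↦ by
    obtain ⟨c, ⟨hc, hs, hck⟩, -⟩ := h k
    rcases hs with h0 | h0
    · exact .inl (hck ▸ linearCombination_mem_natSpan hc h0)
    · refine .inr ?_
      rw [← hck, ← map_neg]
      exact linearCombination_mem_natSpan (by simpa using hc) fun j ↦ by simpa using h0 j
  have hd : ∀ i j, i ∈ Δ → P.root j + P.root j ≠ P.root i := fun i j hi he ↦ by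
    classical
    obtain ⟨c, ⟨hc, hs, hcj⟩, -⟩ := h j
    obtain ⟨e, -, huniq⟩ := h i
    have h1 : Finsupp.single i (1 : ℤ) = e := huniq _ ⟨fun a ha ↦
        Finset.mem_singleton.mp (Finsupp.support_single_subset ha) ▸ hi,
      .inl fun a ↦ by rw [Finsupp.single_apply]; split_ifs <;> simp, by simp⟩
    have h2 : c + c = e := huniq _ ⟨fun a ha ↦
        (Finset.mem_union.mp (Finsupp.support_add ha)).elim (fun h ↦ hc h) (fun h ↦ hc h),
      hs.imp (fun h0 j ↦ by have := h0 j; simp; omega) (fun h0 j ↦ by have := h0 j; simp; omega),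
      by simp [hcj, he]⟩
    have := DFunLike.congr_fun (h2.trans h1.symm) i
    simp at this
    omega
  have hindiv : ∀ i ∈ Δ, IsIndiv P i := fun i hi ↦
    Groth.RootData.isIndiv_iff.mpr fun j he ↦ hd i j hi he.symm
  refine ⟨⟨?_, hex⟩, hindiv⟩
  classical
  let T : Set ι := {k | P.root k ∈ natSpan P Δ}
  have huniq : ∀ k (c : ι →₀ ℤ) (d : ι →₀ ℤ), ↑c.support ⊆ Δ → ↑d.support ⊆ Δ →
      ((∀ j, 0 ≤ c j) ∨ ∀ j, c j ≤ 0) → ((∀ j, 0 ≤ d j) ∨ ∀ j, d j ≤ 0) →
      Finsupp.linearCombination ℤ P.root c = P.root k →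
      Finsupp.linearCombination ℤ P.root d = P.root k → c = d :=
    fun k c d hc hd hsc hsd hck hdk ↦ (h k).unique ⟨hc, hsc, hck⟩ ⟨hd, hsd, hdk⟩
  have hT : IsPosSys P T := by
    refine Groth.RootData.isPosSys_iff_closed.mpr ⟨fun i hi hni ↦ ?_, fun i ↦ ?_, fun i j k hi hj hk ↦ ?_⟩
    · obtain ⟨c, hc, hc0, hci⟩ := Groth.RootData.mem_natSpan_exists_int (hi : P.root i ∈ _)
      obtain ⟨d, hd, hd0, hdi⟩ := Groth.RootData.mem_natSpan_exists_int (hni : P.root _ ∈ _)
      rw [Groth.RootData.root_neg] at hdi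
      have := huniq i c (-d) hc (by simpa using hd) (.inl hc0) (.inr fun j ↦ by simpa using hd0 j)
        hci (by simp [hdi])
      refine P.ne_zero i ?_
      rw [← hci, show c = 0 from Finsupp.ext fun a ↦ by
        have e := DFunLike.congr_fun this a
        simp at e ⊢
        have := hc0 a
        have := hd0 a
        omega]
      simp
    · rcases hex i with h' | h'
      · exact .inl h'
      · exact .inr (by simpa [T] using h')
    · show P.root k ∈ natSpan P Δ
      rw [hk]; exact add_mem hi hj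
  have hsub : Δ ⊆ Groth.RootData.simpleOf P T := fun k hk ↦ by
    refine ⟨Groth.RootData.root_mem_natSpan hk, fun i hi j hj he ↦ ?_⟩
    obtain ⟨c, hc, hc0, hci⟩ := Groth.RootData.mem_natSpan_exists_int (hi : P.root i ∈ _)
    obtain ⟨d, hd, hd0, hdj⟩ := Groth.RootData.mem_natSpan_exists_int (hj : P.root j ∈ _)
    have hk1 := huniq k (c + d) (Finsupp.single k 1)
      (fun a ha ↦ (Finset.mem_union.mp (Finsupp.support_add ha)).elim (fun h ↦ hc h) (fun h ↦ hd h))
      (fun a ha ↦ Finset.mem_singleton.mp (Finsupp.support_single_subset ha) ▸ hk)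
      (.inl fun a ↦ add_nonneg (hc0 a) (hd0 a))
      (.inl fun a ↦ by rw [Finsupp.single_apply]; split_ifs <;> simp) (by simp [hci, hdj, he]) (by simp)
    by_cases hck : c k = 0
    · refine P.ne_zero i ?_
      rw [← hci, show c = 0 from Finsupp.ext fun a ↦ by
        have e := DFunLike.congr_fun hk1 a
        have := hc0 a
        have := hd0 a
        rcases eq_or_ne a k with rfl | hak
        · simpa using hck
        · simp [Ne.symm hak] at e ⊢; omega]
      simp
    · refine P.ne_zero j ?_
      rw [← hdj, show d = 0 from Finsupp.ext fun a ↦ by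
        have e := DFunLike.congr_fun hk1 a
        have := hc0 a
        have := hd0 a
        rcases eq_or_ne a k with rfl | hak
        · simp at e ⊢; omega
        · simp [Ne.symm hak] at e ⊢; omega]
      simp
  exact (Groth.RootData.isSimpleSys_simpleOf hT).linInd.mono hsub

end Groth.Agent.S5447
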