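import Groth.Statements.S5451
import Groth.Agent.RootData.Partition

set_option autoImplicit false
open RootD

namespace Groth.Agent.S5451

/-- If a root is a positive integer combination of roots α_i, then it can be reached from 0 by
successively adding roots taken among the α_i in such a way that every partial sum is a root. -/
theorem result {ι M N : Type*} [AddCommGroup M] [AddCommGroup N]
    (P : RootPairing ι ℤ M N) [Finite ι] {n : ℕ} (a : Fin n → ι) (m : Fin n → ℕ)
    (hm : ∀ i, 0 < m i) (k : ι) (hk : P.root k = ∑ i, m i • P.root (a i)) :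
    ∃ (l : ℕ) (b : Fin l → Fin n), 0 < l ∧
      (∀ p : Fin l, ∃ j : ι, P.root j = ∑ q ∈ Finset.univ.filter (fun q : Fin l => q.val ≤ p.val), P.root (a (b q))) ∧
      P.root k = ∑ q, P.root (a (b q)) := by
  classical
  suffices key : ∀ (t : ℕ) (s : Multiset (Fin n)), Multiset.card s = t → ∀ k, P.root k = (s.map fun x ↦ P.root (a x)).sum →
      ∃ (l : List (Fin n)), l ≠ [] ∧ (∀ p, 0 < p → p ≤ l.length → ∃ j, P.root j = ((l.take p).map fun x ↦ P.root (a x)).sum) ∧
        P.root k = (l.map fun x ↦ P.root (a x)).sum by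
    have hs : P.root k = ((∑ i, Multiset.replicate (m i) i).map fun x ↦ P.root (a x)).sum := by
      rw [hk]
      change _ = ((Multiset.mapAddMonoidHom fun x ↦ P.root (a x)) (∑ i, Multiset.replicate (m i) i)).sum
      rw [map_sum, ← Multiset.coe_sumAddMonoidHom, map_sum]
      simp
    obtain ⟨l, hl0, hpre, htot⟩ := key _ _ rfl k hs
    refine ⟨l.length, l.get, List.length_pos_of_ne_nil hl0, fun p ↦ ?_, ?_⟩
    · obtain ⟨j, hj⟩ := hpre (p.val + 1) (Nat.succ_pos _) p.isLt
      refine ⟨j, hj.trans ?_⟩
      rw [List.map_take]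
      rw [show List.map (fun x ↦ P.root (a x)) l = List.ofFn fun q : Fin l.length ↦ P.root (a (l.get q)) from by
        conv_lhs => rw [← List.ofFn_get l, List.map_ofFn]
        rfl, List.sum_take_ofFn]
      exact Finset.sum_congr (Finset.filter_congr fun q _ ↦ Nat.lt_succ_iff) fun q _ ↦ rfl
    · rw [htot, show List.map (fun x ↦ P.root (a x)) l = List.ofFn fun q : Fin l.length ↦ P.root (a (l.get q)) from by
        conv_lhs => rw [← List.ofFn_get l, List.map_ofFn]
        rfl, List.sum_ofFn]
  intro t
  induction t using Nat.strong_induction_on with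
  | _ t ih =>
    intro s hst k hk
    have hk' : ((s.map a).map P.root).sum = (1 : ℤ) • P.root k := by
      rw [Multiset.map_map, one_zsmul, hk]; rfl
    obtain ⟨y, hy, hpos⟩ := Groth.RootData.exists_mem_pairing_pos one_pos hk'
    obtain ⟨x, hx, rfl⟩ := Multiset.mem_map.mp hy
    obtain ⟨u, rfl⟩ := Multiset.exists_cons_of_mem hx
    rw [Multiset.map_cons, Multiset.sum_cons] at hk
    by_cases hkx : k = a x
    · refine ⟨[x], by simp, fun p hp hp' ↦ ⟨k, ?_⟩, by simp [hkx]⟩
      simp only [List.length_singleton] at hp'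
      rw [show p = 1 by omega]
      simp [hkx]
    obtain ⟨j, hj⟩ := Groth.RootData.root_sub_mem (Groth.RootData.pI_pos_symm hpos) hkx
    obtain ⟨l, hl0, hpre, htot⟩ := ih (Multiset.card u) (by simp [← hst]) u rfl j (by rw [hj, hk]; abel)
    have hfull : P.root k = ((l ++ [x]).map fun x ↦ P.root (a x)).sum := by
      rw [List.map_append, List.sum_append, ← htot, hj]; simp
    refine ⟨l ++ [x], by simp, fun p hp hp' ↦ ?_, hfull⟩
    by_cases hpl : p ≤ l.length
    · obtain ⟨i, hi⟩ := hpre p hp hpl
      exact ⟨i, by rw [hi, List.take_append_of_le_length hpl]⟩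
    · refine ⟨k, ?_⟩
      rw [List.take_of_length_le (by simp at hp' ⊢; omega)]
      exact hfull

end Groth.Agent.S5451
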