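import Groth.Statements.S5452
import Groth.Agent.RootData.IntDatum

set_option autoImplicit false
open RootPairing
open scoped Pointwise
open RootD

namespace Groth.Agent.S5452

/-- The Weyl group of a root datum acts faithfully on the set of roots. -/
theorem result {ι M N : Type*} [AddCommGroup M] [AddCommGroup N]
    (P : RootPairing ι ℤ M N) [Finite ι] :
    Function.Injective P.weylGroupToPerm := by
  intro g h hgh
  refine Subtype.ext (inv_mul_eq_one.mp
    (Groth.RootData.eq_one_of_fix_roots (mul_mem (inv_mem g.2) h.2) fun i ↦ ?_))
  have := congrArg (fun e : ι ≃ ι ↦ e i) hgh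
  rw [mul_smul, inv_smul_eq_iff]
  exact this.symm

end Groth.Agent.S5452
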