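import Groth.Statements.S5456
import Groth.Agent.RootData.IntDatum

set_option autoImplicit false
open RootD

namespace Groth.Agent.S5456

/-- A set of roots is a system of positive roots if and only if it satisfies (P 1), (P 2) and is closed. -/
theorem result {ι M N : Type*} [AddCommGroup M] [AddCommGroup N]
    (P : RootPairing ι ℤ M N) [Finite ι] (S : Set ι) :
    RootD.IsPosSys P S ↔ ((∀ i ∈ S, P.reflectionPerm i i ∉ S) ∧ (∀ i : ι, i ∈ S ∨ P.reflectionPerm i i ∈ S) ∧
      RootD.IsClosedSub P S) := by
  exact Groth.RootData.isPosSys_iff_closed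

end Groth.Agent.S5456
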