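import Groth.Statements.S5457
import Groth.Agent.RootData.IntDatum

set_option autoImplicit false
open RootD

namespace Groth.Agent.S5457

/-- Given a translation-invariant partial order (pulled back along an additive map to an ordered abelian
group) for which every root is > 0 or < 0, the roots > 0 form a system of positive roots. -/
theorem result {ι M N : Type*} [AddCommGroup M] [AddCommGroup N]
    (P : RootPairing ι ℤ M N) [Finite ι] {G : Type*} [AddCommGroup G] [PartialOrder G]
    [IsOrderedAddMonoid G] (φ : M →+ G) (hφ : ∀ i : ι, 0 < φ (P.root i) ∨ φ (P.root i) < 0) :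
    RootD.IsPosSys P {i : ι | 0 < φ (P.root i)} := by
  refine Groth.RootData.isPosSys_iff_closed.mpr ⟨fun i hi hni ↦ ?_, fun i ↦ ?_, ?_⟩
  · simp only [Set.mem_setOf_eq, Groth.RootData.root_neg, map_neg, neg_pos] at hi hni
    exact lt_asymm hi hni
  · simp only [Set.mem_setOf_eq, Groth.RootData.root_neg, map_neg, neg_pos]
    exact hφ i
  · intro i j k hi hj hk
    simp only [Set.mem_setOf_eq] at hi hj ⊢
    rw [hk, map_add]
    exact add_pos hi hj

end Groth.Agent.S5457
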