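import Groth.Statements.S5461
import Groth.Agent.RootData.Saturated

set_option autoImplicit false
open RootD

namespace Groth.Agent.S5461

/-- If R' is the trace of a vector subspace on the roots, every system of simple roots Δ' of the root
datum with roots R' is contained in a system of simple roots Δ of the whole datum, and R' is the set
of roots in the span of Δ'. -/
theorem result {ι M N : Type*} [AddCommGroup M] [AddCommGroup N]
    (P : RootPairing ι ℤ M N) [Finite ι] (R' : Set ι)
    (hsat : ∀ k : ι, (∃ n : ℕ, 0 < n ∧ n • P.root k ∈ Submodule.span ℤ (P.root '' R')) → k ∈ R')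
    (Δ' : Set ι) (hΔ'R : Δ' ⊆ R') (hli : LinearIndepOn ℤ P.root Δ')
    (hgen : ∀ k ∈ R', P.root k ∈ RootD.natSpan P Δ' ∨ -P.root k ∈ RootD.natSpan P Δ') :
    ∃ Δ : Set ι, RootD.IsSimpleSys P Δ ∧ Δ' ⊆ Δ ∧ R' = RootD.inSpan P Δ' := by
  classical
  let S' : Set ι := {k | k ∈ R' ∧ P.root k ∈ RootD.natSpan P Δ'}
  have hd : ∀ i ∈ S', Groth.RootData.neg P i ∉ S' := fun i hi hn ↦ by
    refine P.ne_zero i (Groth.RootData.natSpan_pointed hli hi.2 ?_)
    have := hn.2
    rwa [Groth.RootData.root_neg] at this
  have hc : ∀ i ∈ R', i ∈ S' ∨ Groth.RootData.neg P i ∈ S' := fun i hi ↦ by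
    rcases hgen i hi with e | e
    · exact .inl ⟨hi, e⟩
    · refine .inr ⟨Groth.RootData.IsSat.mem hsat ?_, by rwa [Groth.RootData.root_neg]⟩
      rw [Groth.RootData.root_neg]
      exact neg_mem (Submodule.subset_span (Set.mem_image_of_mem _ hi))
  have hcl : RootD.IsClosedSub P S' := fun i j k hi hj hk ↦ by
    refine ⟨Groth.RootData.IsSat.mem hsat ?_, by rw [hk]; exact add_mem hi.2 hj.2⟩
    rw [hk]
    exact add_mem (Submodule.subset_span (Set.mem_image_of_mem _ hi.1))
      (Submodule.subset_span (Set.mem_image_of_mem _ hj.1))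
  obtain ⟨S, hS, -, hsimple, -⟩ := Groth.RootData.exists_extension hsat (fun _ h ↦ h.1) hd hc hcl
  refine ⟨_, Groth.RootData.isSimpleSys_simpleOf hS, fun i hi ↦ ?_, ?_⟩
  · refine hsimple i ⟨hΔ'R hi, Groth.RootData.root_mem_natSpan hi⟩ fun a ha b hb he ↦ ?_
    obtain ⟨c, hc, hc0, hca⟩ := Groth.RootData.mem_natSpan_exists_int ha.2
    obtain ⟨d, hd, hd0, hdb⟩ := Groth.RootData.mem_natSpan_exists_int hb.2
    have heq := Groth.RootData.eq_of_linearCombination_eq hli (c := c + d) (d := Finsupp.single i 1)
      (fun x hx ↦ (Finset.mem_union.mp (Finsupp.support_add hx)).elim (fun h ↦ hc h) (fun h ↦ hd h))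
      (fun x hx ↦ Finset.mem_singleton.mp (Finsupp.support_single_subset hx) ▸ hi)
      (by simp [hca, hdb, he])
    have hz : ∀ x, c x = 0 ∨ d x = 0 := fun x ↦ by
      have e := DFunLike.congr_fun heq x
      rw [Finsupp.add_apply, Finsupp.single_apply] at e
      have := hc0 x
      have := hd0 x
      split_ifs at e <;> omega
    by_cases hci : c i = 0
    · refine P.ne_zero a ?_
      rw [← hca, show c = 0 from Finsupp.ext fun x ↦ by
        have e := DFunLike.congr_fun heq x
        rw [Finsupp.add_apply, Finsupp.single_apply] at e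
        have := hc0 x
        have := hd0 x
        rw [Finsupp.coe_zero, Pi.zero_apply]
        split_ifs at e with hx
        · subst hx; exact hci
        · omega]
      simp
    · refine P.ne_zero b ?_
      rw [← hdb, show d = 0 from Finsupp.ext fun x ↦ by
        have e := DFunLike.congr_fun heq x
        rw [Finsupp.add_apply, Finsupp.single_apply] at e
        have := hc0 x
        have := hd0 x
        rw [Finsupp.coe_zero, Pi.zero_apply]
        split_ifs at e with hx
        · subst hx; omega
        · omega]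
      simp
  · refine Groth.RootData.inSpan_eq_of_subset hsat hΔ'R fun k hk ↦ ?_
    rcases hgen k hk with e | e
    · exact Groth.RootData.natSpan_le_span_int _ e
    · exact neg_mem_iff.mp (Groth.RootData.natSpan_le_span_int _ e)

end Groth.Agent.S5461
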