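import Groth.Statements.S5462
import Groth.Agent.RootData.IntDatum

set_option autoImplicit false
open RootPairing
open scoped Pointwise
open RootD

namespace Groth.Agent.S5462

/-- For Δ' contained in a system of simple roots Δ, the subgroup of the Weyl group generated by the
reflections in Δ' preserves the set of positive roots not lying in the span of Δ'. -/
theorem result {ι M N : Type*} [AddCommGroup M] [AddCommGroup N]
    (P : RootPairing ι ℤ M N) [Finite ι] (Δ Δ' : Set ι) (hΔ : RootD.IsSimpleSys P Δ) (hsub : Δ' ⊆ Δ)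
    (g : P.Aut) (hg : g ∈ Subgroup.closure ((fun i : ι => Equiv.reflection P i) '' Δ'))
    (k : ι) (hk : k ∈ RootD.posOf P Δ) (hk' : k ∉ RootD.inSpan P Δ') :
    g • k ∈ RootD.posOf P Δ ∧ g • k ∉ RootD.inSpan P Δ' := by
  induction hg using Subgroup.closure_induction'' generalizing k with
  | one => simpa using ⟨hk, hk'⟩
  | mem x hx =>
    obtain ⟨a, ha, rfl⟩ := hx
    refine ⟨Groth.RootData.refl_mem_posOf hΔ (hsub ha) hk (fun e ↦ hk' ?_) (fun e ↦ hk' ?_), fun h ↦ hk' ?_⟩
    · exact e ▸ Groth.RootData.subset_inSpan Δ' ha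
    · have := Groth.RootData.subset_inSpan (P := P) Δ' ha
      simp only [RootD.inSpan, Set.mem_setOf_eq] at this ⊢
      exact e ▸ add_mem this this
    · have := Groth.RootData.refl_mem_inSpan (Groth.RootData.subset_inSpan (P := P) Δ' ha) h
      rwa [show P.reflectionPerm a (Equiv.reflection P a • k) = k from P.reflectionPerm_self a k] at this
  | inv_mem x hx =>
    obtain ⟨a, ha, rfl⟩ := hx
    rw [RootPairing.Equiv.reflection_inv]
    refine ⟨Groth.RootData.refl_mem_posOf hΔ (hsub ha) hk (fun e ↦ hk' ?_) (fun e ↦ hk' ?_), fun h ↦ hk' ?_⟩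
    · exact e ▸ Groth.RootData.subset_inSpan Δ' ha
    · have := Groth.RootData.subset_inSpan (P := P) Δ' ha
      simp only [RootD.inSpan, Set.mem_setOf_eq] at this ⊢
      exact e ▸ add_mem this this
    · have := Groth.RootData.refl_mem_inSpan (Groth.RootData.subset_inSpan (P := P) Δ' ha) h
      rwa [show P.reflectionPerm a (Equiv.reflection P a • k) = k from P.reflectionPerm_self a k] at this
  | mul x y _ _ hx hy =>
    rw [mul_smul]
    obtain ⟨h1, h2⟩ := hy k hk hk'
    exact hx _ h1 h2

end Groth.Agent.S5462
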