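import Groth.Statements.S5463
import Groth.Agent.RootData.Saturated

set_option autoImplicit false
open RootPairing
open scoped Pointwise
open RootD

namespace Groth.Agent.S5463

/-- An element w of the Weyl group belongs to the subgroup generated by the reflections in Δ' ⊆ Δ (Δ a
system of simple roots) if and only if w(α) - α lies in the rational span of Δ' for every root α. -/
theorem result {ι M N : Type*} [AddCommGroup M] [AddCommGroup N]
    (P : RootPairing ι ℤ M N) [Finite ι] (Δ Δ' : Set ι) (hΔ : RootD.IsSimpleSys P Δ)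
    (hsub : Δ' ⊆ Δ) (g : P.Aut) (hg : g ∈ P.weylGroup) :
    g ∈ Subgroup.closure ((fun i : ι => Equiv.reflection P i) '' Δ') ↔
      ∀ k : ι, ∃ n : ℕ, 0 < n ∧ n • (P.root (g • k) - P.root k) ∈ Submodule.span ℤ (P.root '' Δ') := by
  classical
  constructor
  · intro h
    induction h using Subgroup.closure_induction'' with
    | one => exact fun k ↦ ⟨1, one_pos, by simp⟩
    | mem x hx =>
      obtain ⟨a, ha, rfl⟩ := hx
      intro k
      refine ⟨1, one_pos, ?_⟩
      rw [one_nsmul, Groth.RootData.root_smul, Groth.RootData.refl_smul_weight]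
      simp only [sub_sub_cancel_left]
      exact neg_mem (Submodule.smul_mem _ _ (Submodule.subset_span (Set.mem_image_of_mem _ ha)))
    | inv_mem x hx =>
      obtain ⟨a, ha, rfl⟩ := hx
      intro k
      refine ⟨1, one_pos, ?_⟩
      rw [RootPairing.Equiv.reflection_inv, one_nsmul, Groth.RootData.root_smul, Groth.RootData.refl_smul_weight]
      simp only [sub_sub_cancel_left]
      exact neg_mem (Submodule.smul_mem _ _ (Submodule.subset_span (Set.mem_image_of_mem _ ha)))
    | mul x y hx' hy' hx hy =>
      intro k
      have mem_W : ∀ {z}, z ∈ Subgroup.closure ((fun i : ι => Equiv.reflection P i) '' Δ') → z ∈ P.weylGroup :=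
        fun h ↦ Groth.RootData.closure_refl_le Δ' h
      obtain ⟨n, hn, h1⟩ := hy (mem_W hy') k
      obtain ⟨n', hn', h2⟩ := hx (mem_W hx') (y • k)
      refine ⟨n * n', Nat.mul_pos hn hn', ?_⟩
      rw [mul_smul x y, show P.root (x • y • k) - P.root k = (P.root (x • y • k) - P.root (y • k)) + (P.root (y • k) - P.root k) by abel,
        smul_add]
      refine add_mem ?_ ?_
      · rw [mul_smul]; exact nsmul_mem h2 n
      · rw [mul_comm, mul_smul]; exact nsmul_mem h1 n'
  · refine Groth.RootData.weyl_induction hΔ (p := fun g ↦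
      (∀ k : ι, ∃ n : ℕ, 0 < n ∧ n • (P.root (g • k) - P.root k) ∈ Submodule.span ℤ (P.root '' Δ')) →
        g ∈ Subgroup.closure ((fun i : ι => Equiv.reflection P i) '' Δ'))
      (fun _ ↦ one_mem _) (fun g hg a ha hga ih h ↦ ?_) hg
    have haΔ' : a ∈ Δ' := by
      by_contra haΔ'
      obtain ⟨n, hn, hspan⟩ := h a
      obtain ⟨c, hc, hc0, hca⟩ := Groth.RootData.mem_natSpan_exists_int (hga : P.root (g • a) ∈ _)
      obtain ⟨d, hd, hdx⟩ := (Finsupp.mem_span_image_iff_linearCombination ℤ).mp hspan
      rw [mul_smul, Groth.RootData.refl_smul_self, Groth.RootData.smul_neg_index, Groth.RootData.root_neg] at hdx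
      have heq := Groth.RootData.eq_of_linearCombination_eq (Groth.RootData.linIndepOn_int hΔ.linInd)
        (c := (n : ℤ) • c + Finsupp.single a (n : ℤ)) (d := -d)
        (fun x hx ↦ (Finset.mem_union.mp (Finsupp.support_add hx)).elim
          (fun h ↦ hc (Finsupp.support_smul h))
          (fun h ↦ Finset.mem_singleton.mp (Finsupp.support_single_subset h) ▸ ha))
        (by rw [Finsupp.support_neg]; exact fun x hx ↦ hsub ((Finsupp.mem_supported _ _).mp hd hx))
        (by simp only [map_add, map_neg, map_smul, hca, hdx, Finsupp.linearCombination_single]; module)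
      have e := DFunLike.congr_fun heq a
      have hda : d a = 0 := by
        by_contra hda
        exact haΔ' ((Finsupp.mem_supported _ _).mp hd (Finsupp.mem_support_iff.mpr hda))
      simp [hda] at e
      have := mul_nonneg (Int.natCast_nonneg n) (hc0 a)
      omega
    refine mul_mem (ih fun k ↦ ?_) (Subgroup.subset_closure (Set.mem_image_of_mem _ haΔ'))
    obtain ⟨n, hn, hspan⟩ := h (Groth.RootData.refl P a • k)
    rw [← mul_smul, mul_assoc, Groth.RootData.refl_mul_self, mul_one] at hspan
    refine ⟨n, hn, ?_⟩
    rw [show P.root (g • k) - P.root k = (P.root (g • k) - P.root (Groth.RootData.refl P a • k)) + (P.root (Groth.RootData.refl P a • k) - P.root k) by abel,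
      smul_add]
    refine add_mem hspan (nsmul_mem ?_ n)
    rw [Groth.RootData.root_smul, Groth.RootData.refl_smul_weight, sub_sub_cancel_left]
    exact neg_mem (Submodule.smul_mem _ _ (Submodule.subset_span (Set.mem_image_of_mem _ haΔ')))

end Groth.Agent.S5463
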