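import Groth.Statements.S5464
import Groth.Agent.RootData.Saturated

set_option autoImplicit false
open RootD

namespace Groth.Agent.S5464

/-- Given an indivisible root α and a root γ not proportional to it, there is a system of simple roots
containing α and a simple root β of it with γ = aα + bβ, a, b ∈ ℕ. -/
theorem result {ι M N : Type*} [AddCommGroup M] [AddCommGroup N]
    (P : RootPairing ι ℤ M N) [Finite ι] (i k : ι) (hα : RootD.IsIndiv P i)
    (hli : LinearIndependent ℤ ![P.root i, P.root k]) :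
    ∃ Δ : Set ι, RootD.IsSimpleSys P Δ ∧ i ∈ Δ ∧
      ∃ j ∈ Δ, ∃ a b : ℕ, P.root k = a • P.root i + b • P.root j := by
  classical
  let hF : Fintype ι := Fintype.ofFinite ι
  obtain ⟨T, hT, hiT, hkT⟩ := Groth.RootData.exists_pos_containing_pair hα hli
  let R' : Set ι := {m | ∃ n : ℕ, 0 < n ∧ n • P.root m ∈ Submodule.span ℤ {P.root i, P.root k}}
  have hmem : ∀ m, P.root m ∈ Submodule.span ℤ {P.root i, P.root k} → m ∈ R' :=
    fun m h ↦ ⟨1, one_pos, by rwa [one_nsmul]⟩
  have hsat : Groth.RootData.IsSat P R' := by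
    rintro m ⟨n, hn, hm⟩
    have : ∀ x ∈ Submodule.span ℤ (P.root '' R'), ∃ e : ℕ, 0 < e ∧ e • x ∈ Submodule.span ℤ {P.root i, P.root k} := by
      intro x hx
      induction hx using Submodule.span_induction with
      | mem x hx => obtain ⟨m', hm', rfl⟩ := hx; exact hm'
      | zero => exact ⟨1, one_pos, by simp⟩
      | add x y _ _ hx hy =>
        obtain ⟨e, he, hx⟩ := hx
        obtain ⟨e', he', hy⟩ := hy
        refine ⟨e * e', Nat.mul_pos he he', ?_⟩
        rw [smul_add]
        refine add_mem ?_ ?_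
        · rw [mul_comm, mul_smul]; exact nsmul_mem hx e'
        · rw [mul_smul]; exact nsmul_mem hy e
      | smul c x _ hx =>
        obtain ⟨e, he, hx⟩ := hx
        exact ⟨e, he, by rw [smul_comm]; exact Submodule.smul_mem _ c hx⟩
    obtain ⟨e, he, h⟩ := this _ hm
    exact ⟨e * n, Nat.mul_pos he hn, by rwa [mul_smul]⟩
  have hiR : i ∈ R' := hmem i (Submodule.subset_span (Set.mem_insert _ _))
  have hkR : k ∈ R' := hmem k (Submodule.subset_span (Set.mem_insert_of_mem _ rfl))
  obtain ⟨hd, hc, hcl⟩ := Groth.RootData.sat_inter_pos hsat hT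
  obtain ⟨S, hS, -, hsimple, hgen⟩ := Groth.RootData.exists_extension hsat Set.inter_subset_right hd hc hcl
  have hiS := hsimple i ⟨hiT.1, hiR⟩ fun a ha b hb ↦ hiT.2 a ha.1 b hb.1
  have hΔ := Groth.RootData.isSimpleSys_simpleOf hS
  have hliΔ := Groth.RootData.linIndepOn_int hΔ.linInd
  obtain ⟨c, hc, hc0, hck⟩ := Groth.RootData.mem_natSpan_exists_int ((hgen k hkR).2 ⟨hkT, hkR⟩)
  obtain ⟨j, hj, hji⟩ : ∃ j, c j ≠ 0 ∧ j ≠ i := by
    by_contra! h
    rw [show c = Finsupp.single i (c i) from Finsupp.ext fun x ↦ by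
      rcases eq_or_ne x i with rfl | hx
      · simp
      · simp [Ne.symm hx]
        by_contra h0
        exact hx (h x h0), Finsupp.linearCombination_single] at hck
    have := LinearIndependent.pair_iff.mp hli (c i) (-1) (by rw [hck]; module)
    simp at this
  have honly : ∀ x, x ≠ i → x ≠ j → c x = 0 := by
    intro x hxi hxj
    by_contra hx
    obtain ⟨n, hn, hxspan⟩ := (hc (Finsupp.mem_support_iff.mpr hx)).2
    obtain ⟨u, v, huv⟩ := Submodule.mem_span_pair.mp hxspan
    have h1 := Groth.RootData.eq_of_linearCombination_eq hliΔ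
      (c := Finsupp.single i u + v • c) (d := Finsupp.single x (n : ℤ))
      (fun y hy ↦ (Finset.mem_union.mp (Finsupp.support_add hy)).elim
        (fun h ↦ Finset.mem_singleton.mp (Finsupp.support_single_subset h) ▸ hiS)
        (fun h ↦ (hc (Finsupp.support_smul h)).1))
      (fun y hy ↦ Finset.mem_singleton.mp (Finsupp.support_single_subset hy) ▸
        (hc (Finsupp.mem_support_iff.mpr hx)).1)
      (by simp [hck, huv])
    have hj' := DFunLike.congr_fun h1 j
    have hx' := DFunLike.congr_fun h1 x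
    simp [Ne.symm hji, hxj, Ne.symm hxi, hj] at hj' hx'
    rw [hj', zero_mul] at hx'
    omega
  refine ⟨_, hΔ, hiS, j, (hc (Finsupp.mem_support_iff.mpr hj)).1, (c i).toNat, (c j).toNat, ?_⟩
  rw [← hck, Finsupp.linearCombination_apply, Finsupp.sum,
    Finset.sum_subset (Finset.subset_univ c.support) (fun x _ hx ↦ by
      rw [Finsupp.notMem_support_iff.mp hx, zero_smul]),
    Finset.sum_eq_add_of_mem i j (Finset.mem_univ i) (Finset.mem_univ j) hji.symm (fun x _ hx ↦ by
      rw [honly x hx.1 hx.2, zero_smul]),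
    ← natCast_zsmul, ← natCast_zsmul (P.root j), Int.toNat_of_nonneg (hc0 i), Int.toNat_of_nonneg (hc0 j)]

end Groth.Agent.S5464
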