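import Groth.Statements.S5465
import Groth.Agent.RootData.Partition

set_option autoImplicit false
open RootD

namespace Groth.Agent.S5465

/-- A map from the roots to an abelian group that is odd and additive on pairs of roots whose sum is a
root extends uniquely to a homomorphism on the lattice generated by the roots. -/
theorem result {ι M N : Type*} [AddCommGroup M] [AddCommGroup N]
    (P : RootPairing ι ℤ M N) [Finite ι] {G : Type*} [AddCommGroup G] (f : ι → G)
    (hneg : ∀ i : ι, f (P.reflectionPerm i i) = -f i)
    (hadd : ∀ i j k : ι, P.root k = P.root i + P.root j → f k = f i + f j) :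
    ∃! φ : Submodule.span ℤ (Set.range P.root) →+ G,
      ∀ i : ι, φ ⟨P.root i, Submodule.subset_span (Set.mem_range_self i)⟩ = f i := by
  classical
  obtain ⟨S, hS⟩ := Groth.RootData.exists_isPosSys P
  set Δ := Groth.RootData.simpleOf P S
  have hΔ := Groth.RootData.isSimpleSys_simpleOf hS
  set L := Submodule.span ℤ (Set.range P.root)
  let v : Δ → L := fun a ↦ ⟨P.root a, Submodule.subset_span (Set.mem_range_self _)⟩
  have hv : LinearIndependent ℤ v :=
    LinearIndependent.of_comp L.subtype (Groth.RootData.linIndepOn_int hΔ.linInd)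
  have hsp : ⊤ ≤ Submodule.span ℤ (Set.range v) := by
    rintro ⟨x, hx⟩ -
    rw [← Submodule.comap_map_eq_of_injective (f := L.subtype) L.injective_subtype (Submodule.span ℤ (Set.range v)),
      Submodule.mem_comap, Submodule.map_span, ← Set.range_comp]
    change x ∈ _
    refine (Submodule.span_le (p := Submodule.span ℤ (Set.range (L.subtype ∘ v)))).mpr ?_ hx
    rintro _ ⟨k, rfl⟩
    rw [show L.subtype ∘ v = fun a : Δ ↦ P.root a from rfl, ← Set.image_eq_range]
    rcases hΔ.mem_or_neg_mem k with e | e
    · exact Groth.RootData.natSpan_le_span_int _ e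
    · exact neg_mem_iff.mp (Groth.RootData.natSpan_le_span_int _ e)
  let B := Module.Basis.mk hv hsp
  let φ : L →ₗ[ℤ] G := B.constr ℤ fun a ↦ f a
  let r : ι → L := fun k ↦ ⟨P.root k, Submodule.subset_span (Set.mem_range_self k)⟩
  have hφ : ∀ k, φ (r k) = f k := by
    have hpos : ∀ k ∈ S, φ (r k) = f k := fun k hk ↦ by
      refine Groth.RootData.pos_induction hS (p := fun k ↦ φ (r k) = f k) (fun k hk ↦ ?_)
        (fun i _ j _ m _ he hi hj ↦ ?_) hk
      · rw [show r k = B ⟨k, hk⟩ from by rw [Module.Basis.mk_apply], Module.Basis.constr_basis]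
      · rw [show r m = r i + r j from Subtype.ext he, map_add, hi, hj, hadd i j m he]
    intro k
    rcases hS.cover k with e | e
    · exact hpos k e
    · have := hpos _ e
      rw [show r (P.reflectionPerm k k) = -r k from Subtype.ext (Groth.RootData.root_neg k), map_neg, hneg] at this
      exact neg_inj.mp this
  refine ⟨φ.toAddMonoidHom, hφ, fun ψ hψ ↦ ?_⟩
  suffices ψ.toIntLinearMap = φ from by rw [← this]; rfl
  refine B.ext fun a ↦ ?_
  rw [show B a = r a from Module.Basis.mk_apply hv hsp a, hφ]
  exact hψ a

end Groth.Agent.S5465
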