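import Groth.Statements.S5468
import Groth.Agent.RootData.Partition

set_option autoImplicit false
open RootD

namespace Groth.Agent.S5468

/-- Two roots whose reflections are distinct and commute are orthogonal. -/
theorem result {ι M N : Type*} [AddCommGroup M] [AddCommGroup N]
    (P : RootPairing ι ℤ M N) [Finite ι] (i j : ι)
    (hne : P.reflection i ≠ P.reflection j) (hc : Commute (P.reflection i) (P.reflection j)) :
    P.IsOrthogonal i j := by
  have hr : Groth.RootData.refl P (P.reflectionPerm i j) = Groth.RootData.refl P j := by
    rw [show P.reflectionPerm i j = Groth.RootData.refl P i • j from rfl, ← Groth.RootData.refl_conj,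
      mul_inv_eq_iff_eq_mul]
    refine Groth.RootData.aut_ext fun x ↦ ?_
    rw [mul_smul, mul_smul]
    exact LinearEquiv.congr_fun hc.eq x
  have h2 := congrArg (fun g : P.Aut ↦ g • P.root (P.reflectionPerm i j)) hr
  simp only [Groth.RootData.refl_smul_weight] at h2
  rw [P.root_coroot'_eq_pairing, P.root_coroot'_eq_pairing, P.pairing_same, sub_right_inj] at h2
  set q := P.pairing (P.reflectionPerm i j) j with hq
  rw [P.root_reflectionPerm, P.reflection_apply_root] at h2
  by_contra h
  have hne0 : P.pairing j i ≠ 0 := fun e ↦ h ⟨by
    rwa [P.pairing_eq_zero_iff'] at e, e⟩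
  have h3 : (2 * P.pairing j i) • P.root i = (2 - q) • P.root j := by
    linear_combination (norm := module) -h2
  have hp : (2 * P.pairing j i : ℤ) ≠ 0 := mul_ne_zero two_ne_zero hne0
  refine absurd (LinearEquiv.ext fun x ↦ ?_) hne
  have key : Groth.RootData.refl P i = Groth.RootData.refl P j := by
    rcases Groth.RootData.prop_cases hp h3 with e | e | e | e | e | e
    · rw [e]
    · rw [e, Groth.RootData.refl_neg]
    · exact Groth.RootData.refl_eq_of_double e
    · rw [← Groth.RootData.refl_neg i]
      exact Groth.RootData.refl_eq_of_double (i := j) (j := Groth.RootData.neg P i)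
        (by rw [Groth.RootData.root_neg, e, _root_.neg_neg])
    · exact (Groth.RootData.refl_eq_of_double e).symm
    · rw [← Groth.RootData.refl_neg j]
      exact (Groth.RootData.refl_eq_of_double (i := i) (j := Groth.RootData.neg P j)
        (by rw [Groth.RootData.root_neg, e, _root_.neg_neg])).symm
  exact congrArg (fun g : P.Aut ↦ g • x) key

end Groth.Agent.S5468
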