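import Groth.Statements.S5470
import Groth.Agent.RootData.Irred

set_option autoImplicit false
open RootPairing
open scoped Pointwise
open RootD

namespace Groth.Agent.S5470

/-- In an irreducible root datum the Weyl group acts transitively on the roots of any given length. -/
theorem result {ι M N : Type*} [AddCommGroup M] [AddCommGroup N]
    (P : RootPairing ι ℤ M N) [Finite ι] [Fintype ι] [Nonempty ι]
    (hirr : ∀ R' : Set ι, RootD.IsClosedSub P R' → RootD.IsSymmSub P R' → RootD.IsClosedSub P R'ᶜ →
      RootD.IsSymmSub P R'ᶜ → R' = ∅ ∨ R' = Set.univ)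
    (i j : ι) (hl : P.RootForm (P.root i) (P.root i) = P.RootForm (P.root j) (P.root j)) :
    ∃ g : P.Aut, g ∈ P.weylGroup ∧ g • i = j := by
  simp only [Groth.RootData.formInt_eq_rootForm] at hl
  obtain ⟨g, hg, hne⟩ := Groth.RootData.exists_weyl_not_orth hirr i j
  obtain ⟨h, hh, hhj⟩ := Groth.RootData.weyl_conj_of_length_eq hne ((Groth.RootData.formInt_smul g i i).trans hl)
  exact ⟨h * g, mul_mem hh hg, by rw [mul_smul]; exact hhj⟩

end Groth.Agent.S5470
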