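import Groth.Statements.S5471
import Groth.Agent.RootData.Irred

set_option autoImplicit false
open RootPairing
open scoped Pointwise
open RootD

namespace Groth.Agent.S5471

/-- In a reduced irreducible root datum the ratios of squared root lengths to the minimal one form one
of the sets {1}, {1, 2}, {1, 3}. -/
theorem result {ι M N : Type*} [AddCommGroup M] [AddCommGroup N]
    (P : RootPairing ι ℤ M N) [Finite ι] [Fintype ι] [Nonempty ι] [P.IsReduced]
    (hirr : ∀ R' : Set ι, RootD.IsClosedSub P R' → RootD.IsSymmSub P R' → RootD.IsClosedSub P R'ᶜ →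
      RootD.IsSymmSub P R'ᶜ → R' = ∅ ∨ R' = Set.univ)
    (i₀ : ι) (hmin : ∀ i : ι, P.RootForm (P.root i₀) (P.root i₀) ≤ P.RootForm (P.root i) (P.root i)) :
    (∀ i : ι, P.RootForm (P.root i) (P.root i) = P.RootForm (P.root i₀) (P.root i₀) ∨
        P.RootForm (P.root i) (P.root i) = 2 * P.RootForm (P.root i₀) (P.root i₀) ∨
        P.RootForm (P.root i) (P.root i) = 3 * P.RootForm (P.root i₀) (P.root i₀)) ∧
      ¬ ((∃ i : ι, P.RootForm (P.root i) (P.root i) = 2 * P.RootForm (P.root i₀) (P.root i₀)) ∧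
          ∃ j : ι, P.RootForm (P.root j) (P.root j) = 3 * P.RootForm (P.root i₀) (P.root i₀)) := by
  simp only [Groth.RootData.formInt_eq_rootForm] at hmin ⊢
  have hpos := Groth.RootData.formInt_self_pos (P := P) i₀
  refine ⟨fun i ↦ ?_, fun ⟨⟨i, hi⟩, j, hj⟩ ↦ ?_⟩
  · have := Groth.RootData.ratio_cases hirr i i₀
    have := hmin i
    omega
  · have := Groth.RootData.ratio_cases hirr i j
    omega

end Groth.Agent.S5471
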