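import Groth.Statements.S5472
import Groth.Agent.RootData.RankTwo

set_option autoImplicit false
open RootPairing
open scoped Pointwise
open RootD

namespace Groth.Agent.S5472

/-- Let Δ be a system of simple roots (root-only sense), γ a positive root and α, β simple roots with
(γ, α^v) > 0 and (γ, β^v) ≥ 0 (equivalently: the order of s_α(γ) along Δ is smaller than that of γ,
and the order of s_β(γ) is at most that of γ). Then for every w in the group generated by s_α and
s_β the order of w(γ) along Δ is at most that of γ, and strictly smaller unless w ∈ {1, s_β}. The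
order is the sum of the coefficients along Δ; the conclusion is stated for the coefficient vector c
of γ - w(γ) along Δ: its coefficient sum is ≥ 0, and > 0 unless w = 1 or w = s_β. -/
theorem result {ι M N : Type*} [AddCommGroup M] [AddCommGroup N]
    (P : RootPairing ι ℤ M N) [Finite ι] (Δ : Set ι) (hΔ : RootD.IsSimpleSys P Δ)
    (k i j : ι) (hk : k ∈ RootD.posOf P Δ) (hi : i ∈ Δ) (hj : j ∈ Δ)
    (hα : 0 < P.pairing k i) (hβ : 0 ≤ P.pairing k j)
    (g : P.Aut) (hg : g ∈ Subgroup.closure {Equiv.reflection P i, Equiv.reflection P j})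
    (c : ι →₀ ℤ) (hc : ↑c.support ⊆ Δ)
    (hck : Finsupp.linearCombination ℤ P.root c = P.root k - P.root (g • k)) :
    0 ≤ c.sum (fun _ a => a) ∧ (g ≠ 1 → g ≠ Equiv.reflection P j → 0 < c.sum (fun _ a => a)) := by
  classical
  rw [← Set.image_pair] at hg
  have hli := Groth.RootData.linIndepOn_int hΔ.linInd
  have hTΔ : ({i, j} : Set ι) ⊆ Δ := Set.insert_subset hi (Set.singleton_subset_iff.mpr hj)
  have key : ∃ d : ι →₀ ℤ, ↑d.support ⊆ Δ ∧ Finsupp.linearCombination ℤ P.root d = P.root k - g • P.root k ∧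
      0 ≤ d.sum (fun _ a => a) ∧ (g = 1 ∨ g = Equiv.reflection P j ∨ 0 < d.sum (fun _ a => a)) := by
    refine Groth.RootData.weyl_induction_sub hΔ hTΔ
      (p := fun g ↦ ∃ d : ι →₀ ℤ, ↑d.support ⊆ Δ ∧ Finsupp.linearCombination ℤ P.root d = P.root k - g • P.root k ∧
        0 ≤ d.sum (fun _ a => a) ∧ (g = 1 ∨ g = Equiv.reflection P j ∨ 0 < d.sum (fun _ a => a)))
      ⟨0, by simp, by simp, by simp, .inl rfl⟩ (fun g' hg' a ha hpos ⟨d, hd, hdk, hd0, hdor⟩ ↦ ?_) hg
    obtain ⟨t, ht, ht0, hta⟩ := Groth.RootData.mem_natSpan_exists_int (hpos : P.root (g' • a) ∈ _)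
    have hp : 0 ≤ P.pairing k a := by
      rcases ha with rfl | rfl
      · exact hα.le
      · exact hβ
    have htsum : 0 < t.sum (fun _ x => x) := by
      rw [Finsupp.sum]
      refine Finset.sum_pos (fun x hx ↦ lt_of_le_of_ne (ht0 x) (Ne.symm (Finsupp.mem_support_iff.mp hx))) ?_
      refine Finsupp.support_nonempty_iff.mpr fun e ↦ P.ne_zero (g' • a) ?_
      rw [← hta, e, map_zero]
    refine ⟨d + P.pairing k a • t, fun x hx ↦ (Finset.mem_union.mp (Finsupp.support_add hx)).elim
      (fun h ↦ hd h) (fun h ↦ ht (Finsupp.support_smul h)), ?_, ?_, ?_⟩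
    · rw [map_add, map_smul, hdk, hta, mul_smul, Groth.RootData.refl_smul_weight, smul_sub, smul_comm g',
        P.root_coroot'_eq_pairing, Groth.RootData.root_smul]
      abel
    all_goals rw [Finsupp.sum_add_index' (fun _ ↦ rfl) (fun _ _ _ ↦ rfl), Finsupp.sum_smul_index (fun _ ↦ rfl), ← Finsupp.mul_sum]
    · exact add_nonneg hd0 (mul_nonneg hp htsum.le)
    · rcases ha with rfl | rfl
      · exact .inr (.inr (add_pos_of_nonneg_of_pos hd0 (mul_pos hα htsum)))
      · rcases hdor with rfl | rfl | h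
        · exact .inr (.inl (one_mul _))
        · exact .inl (Groth.RootData.refl_mul_self a)
        · exact .inr (.inr (add_pos_of_pos_of_nonneg h (mul_nonneg hp htsum.le)))
  obtain ⟨d, hd, hdk, h0, hor⟩ := key
  rw [← Groth.RootData.root_smul, ← hck] at hdk
  obtain rfl := Groth.RootData.eq_of_linearCombination_eq hli hd hc hdk
  exact ⟨h0, fun h1 h2 ↦ (hor.resolve_left h1).resolve_left h2⟩

end Groth.Agent.S5472
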