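import Groth.Statements.S5473
import Groth.Agent.RootData.Rank

set_option autoImplicit false
open RootD

namespace Groth.Agent.S5473

/-- If a linear map f and its transpose g induce bijections from the roots of R' onto the roots of R and
from the coroots of R onto the coroots of R' respectively (a morphism of root data in the
two-bijection sense), then the two bijections correspond: the coroot of α' is g applied to the
coroot of f(α'). -/
theorem result {ι M N ι' M' N' : Type*} [AddCommGroup M] [AddCommGroup N] [AddCommGroup M'] [AddCommGroup N']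
    (P : RootPairing ι ℤ M N) (P' : RootPairing ι' ℤ M' N') [Finite ι] [Finite ι']
    (f : M' →ₗ[ℤ] M) (g : N →ₗ[ℤ] N') (hfg : ∀ (m' : M') (n : N), P.toLinearMap (f m') n = P'.toLinearMap m' (g n))
    (e : ι' ≃ ι) (he : ∀ i' : ι', f (P'.root i') = P.root (e i'))
    (e' : ι ≃ ι') (he' : ∀ i : ι, g (P.coroot i) = P'.coroot (e' i)) :
    ∀ i' : ι', g (P.coroot (e i')) = P'.coroot i' := by
  intro i'
  have hN := Groth.RootData.isAddTorsionFree_coweight P'
  have hpair : ∀ (m' : ι') (k : ι), P.pairing (e m') k = P'.pairing m' (e' k) := fun m' k ↦ by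
    have := hfg (P'.root m') (P.coroot k)
    rwa [he, he'] at this
  have hx : P'.root' i' (g (P.coroot (e i'))) = 2 := by
    rw [he']
    exact (hpair i' (e i')).symm.trans (P.pairing_same _)
  refine Module.eq_of_mapsTo_reflection_of_mem (f := P'.root' i') (g := P'.root' i')
    (Set.finite_range P'.coroot) hx (P'.root_coroot_two i') hx (P'.root_coroot_two i') ?_
    (P'.mapsTo_coreflection_coroot i') (Set.mem_range_self i')
  rintro _ ⟨l, rfl⟩
  obtain ⟨k, rfl⟩ := e'.surjective l
  refine ⟨e' (P.reflectionPerm (e i') k), ?_⟩
  rw [Module.preReflection_apply, ← he', ← P.reflectionPerm_coroot, map_sub, map_smul, he', he']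
  congr 2
  exact hpair i' k

end Groth.Agent.S5473
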