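import Groth.Statements.S5474
import Groth.Agent.RootData.Rank

set_option autoImplicit false
open RootD

namespace Groth.Agent.S5474

/-- Every morphism between semisimple root data is an isogeny (injective on weight lattices with finite
cokernel). -/
theorem result {ι M N ι' M' N' : Type*} [AddCommGroup M] [AddCommGroup N] [AddCommGroup M'] [AddCommGroup N']
    (P : RootPairing ι ℤ M N) (P' : RootPairing ι' ℤ M' N') [Finite ι] [Finite ι']
    [Module.Finite ℤ M] [Module.Finite ℤ N] [Module.Finite ℤ M'] [Module.Finite ℤ N']
    (hss : Module.finrank ℤ (Submodule.span ℤ (Set.range P.root)) = Module.finrank ℤ M)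
    (hss' : Module.finrank ℤ (Submodule.span ℤ (Set.range P'.root)) = Module.finrank ℤ M')
    (f : RootPairing.Hom P' P) :
    Function.Injective f.weightMap ∧ Finite (M ⧸ LinearMap.range f.weightMap) := by
  have hroot : ∀ i', f.weightMap (P'.root i') = P.root (f.indexEquiv i') :=
    fun i' ↦ RootPairing.Hom.root_weightMap_apply P' P i' f
  refine ⟨?_, ?_⟩
  · rw [injective_iff_map_eq_zero]
    intro x hx
    have hbot := Groth.RootData.semisimple_iff_coradical.mp hss'
    rw [← Submodule.mem_bot ℤ, ← hbot, Submodule.mem_iInf]
    intro i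
    have h := LinearMap.congr_fun
      (RootPairing.Hom.weight_coweight_transpose_apply P' P (P.coroot (f.indexEquiv i)) f) x
    rw [RootPairing.Hom.coroot_coweightMap_apply, Equiv.symm_apply_apply] at h
    simp only [LinearMap.dualMap_apply, Groth.RootData.toPerfPair_flip_apply] at h
    rw [hx, map_zero, LinearMap.zero_apply] at h
    exact h.symm
  · refine Groth.RootData.finite_quotient_of_span_le hss (Submodule.span_le.mpr ?_)
    rintro _ ⟨i, rfl⟩
    exact ⟨P'.root (f.indexEquiv.symm i), by rw [hroot, Equiv.apply_symm_apply]⟩

end Groth.Agent.S5474
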