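import Groth.Statements.S5475
import Groth.Agent.RootData.Saturated

set_option autoImplicit false
open RootD

namespace Groth.Agent.S5475

/-- In an adjoint root datum every indivisible root is an indivisible element of the weight lattice. -/
theorem result {ι M N : Type*} [AddCommGroup M] [AddCommGroup N]
    (P : RootPairing ι ℤ M N) [Finite ι] (had : Submodule.span ℤ (Set.range P.root) = ⊤)
    (i : ι) (hind : RootD.IsIndiv P i) (m : M) (n : ℤ) (h : n • m = P.root i) : n = 1 ∨ n = -1 := by
  classical
  obtain ⟨T, hT, hiT⟩ := Groth.RootData.exists_pos_containing hind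
  have hΔ := Groth.RootData.isSimpleSys_simpleOf hT
  have hm : m ∈ Submodule.span ℤ (P.root '' Groth.RootData.simpleOf P T) := by
    have : Submodule.span ℤ (Set.range P.root) ≤ Submodule.span ℤ (P.root '' Groth.RootData.simpleOf P T) := by
      refine Submodule.span_le.mpr ?_
      rintro _ ⟨k, rfl⟩
      rcases hΔ.mem_or_neg_mem k with e | e
      · exact Groth.RootData.natSpan_le_span_int _ e
      · exact neg_mem_iff.mp (Groth.RootData.natSpan_le_span_int _ e)
    exact this (had ▸ Submodule.mem_top)
  obtain ⟨c, hc, hcm⟩ := (Finsupp.mem_span_image_iff_linearCombination ℤ).mp hm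
  have heq := Groth.RootData.eq_of_linearCombination_eq (Groth.RootData.linIndepOn_int hΔ.linInd)
    (c := n • c) (d := Finsupp.single i 1)
    (fun x hx ↦ (Finsupp.mem_supported _ _).mp hc (Finsupp.support_smul hx))
    (fun x hx ↦ Finset.mem_singleton.mp (Finsupp.support_single_subset hx) ▸ hiT)
    (by simp [map_zsmul, hcm, h])
  have e := DFunLike.congr_fun heq i
  simp only [Finsupp.smul_apply, smul_eq_mul, Finsupp.single_eq_same] at e
  exact Int.eq_one_or_neg_one_of_mul_eq_one e

end Groth.Agent.S5475
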