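import Groth.Statements.S5478
import Groth.Agent.RootData.Partition

set_option autoImplicit false
open RootPairing
open scoped Pointwise
open RootD

namespace Groth.Agent.S5478

/-- The group of automorphisms of a root datum that act trivially on the radical is finite. -/
theorem result {ι M N : Type*} [AddCommGroup M] [AddCommGroup N]
    (P : RootPairing ι ℤ M N) [Finite ι] :
    Set.Finite {u : P.Aut | ∀ m : M, ∃ n : ℕ, 0 < n ∧ n • (u • m - m) ∈ Submodule.span ℤ (Set.range P.root)} := by
  refine Set.Finite.of_finite_image (f := fun (u : P.Aut) (i : ι) ↦ u • i) (Set.toFinite _) ?_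
  intro u hu v hv huv
  refine Groth.RootData.aut_ext fun m ↦ ?_
  obtain ⟨n, hn, h⟩ := hu m
  obtain ⟨n', hn', h'⟩ := hv m
  have key : ∀ i : ι, P.coroot' i (u • m - v • m) = 0 := fun i ↦ by
    obtain ⟨j, rfl⟩ : ∃ j, u • j = i := ⟨u⁻¹ • i, smul_inv_smul u i⟩
    rw [map_sub, sub_eq_zero, Groth.RootData.coroot'_smul, show u • j = v • j from congrFun huv j,
      Groth.RootData.coroot'_smul]
  have hmem : (n' * n) • (u • m - v • m) ∈ Submodule.span ℤ (Set.range P.root) := by
    rw [show u • m - v • m = (u • m - m) - (v • m - m) by abel, smul_sub]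
    refine sub_mem ?_ ?_
    · rw [mul_smul]; exact nsmul_mem h n'
    · rw [mul_comm, mul_smul]; exact nsmul_mem h' n
  have h0 := Groth.RootData.eq_zero_of_forall_coroot' hmem fun i ↦ by rw [map_nsmul, key, smul_zero]
  have := Groth.RootData.isAddTorsionFree_weight P
  exact sub_eq_zero.mp ((smul_eq_zero_iff_right (Nat.mul_ne_zero hn'.ne' hn.ne')).mp h0)

end Groth.Agent.S5478
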