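import Groth.Statements.S5479
import Groth.Agent.RootData.IntDatum

set_option autoImplicit false
open RootPairing
open scoped Pointwise
open RootD

namespace Groth.Agent.S5479

/-- Aut(R) is the semidirect product of the Weyl group by the stabiliser E_Δ of a system of simple
roots: every automorphism is uniquely w · e with w ∈ W and e(Δ) = Δ. -/
theorem result {ι M N : Type*} [AddCommGroup M] [AddCommGroup N]
    (P : RootPairing ι ℤ M N) [Finite ι] (Δ : Set ι) (hΔ : RootD.IsSimpleSys P Δ) (u : P.Aut) :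
    ∃! w : P.weylGroup, (fun i : ι => ((w : P.Aut)⁻¹ * u) • i) '' Δ = Δ := by
  have hΔu := Groth.RootData.IsSimpleSys.image u hΔ
  obtain ⟨w, hw, huniq⟩ := Groth.RootData.existsUnique_weyl_simple hΔ hΔu
  have key : ∀ v : P.weylGroup, (fun i : ι => ((v : P.Aut)⁻¹ * u) • i) '' Δ = Δ ↔
      (fun i : ι => (v : P.Aut) • i) '' Δ = (fun i : ι => u • i) '' Δ := by
    intro v
    have hc : (fun i : ι => ((v : P.Aut)⁻¹ * u) • i) =
        (fun i : ι => (v : P.Aut)⁻¹ • i) ∘ fun i : ι => u • i := funext fun i ↦ mul_smul _ _ i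
    rw [hc, Set.image_comp]
    constructor <;> intro h
    · conv_lhs => rw [← h]
      rw [← Set.image_comp, show (fun i : ι => (v : P.Aut) • i) ∘ (fun i : ι => (v : P.Aut)⁻¹ • i) = id from
        funext fun i ↦ smul_inv_smul (v : P.Aut) i, Set.image_id]
    · rw [← h, ← Set.image_comp, show (fun i : ι => (v : P.Aut)⁻¹ • i) ∘ (fun i : ι => (v : P.Aut) • i) = id from
        funext fun i ↦ inv_smul_smul (v : P.Aut) i, Set.image_id]
  exact ⟨w, (key w).mpr hw, fun v hv ↦ huniq v ((key v).mp hv)⟩

end Groth.Agent.S5479
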