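import Groth.Statements.S5480
import Groth.Agent.RootData.Height
import Mathlib.Algebra.Group.End

set_option autoImplicit false
open RootD

namespace Groth.Agent.S5480

/-- For a p-morphism of reduced root data with root bijection u and radicial exponents q: (a) for all
roots α, β one has q(s_α(β)) = q(β) and u(s_α(β)) = s_{u(α)}(u(β)); (b) the exponents are invariant
under the Weyl group, q(w(α)) = q(α); (c) there is an isomorphism ū from the Weyl group of the first
datum to that of the second with ū(s_α) = s_{u(α)} and u(w(α)) = ū(w)(u(α)) for every Weyl group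
element w and every root α. -/
theorem result {ι M N ι' M' N' : Type*} [AddCommGroup M] [AddCommGroup N] [AddCommGroup M'] [AddCommGroup N']
    (P : RootPairing ι ℤ M N) (P' : RootPairing ι' ℤ M' N') [Finite ι] [Finite ι'] [P.IsReduced] [P'.IsReduced]
    (p : ℕ) (hp : 0 < p) (f : M' →ₗ[ℤ] M) (g : N →ₗ[ℤ] N')
    (hfg : ∀ (m' : M') (n : N), P.toLinearMap (f m') n = P'.toLinearMap m' (g n))
    (u : ι ≃ ι') (q : ι → ℕ) (hq : ∀ i, ∃ e : ℕ, q i = p ^ e)
    (hroot : ∀ i : ι, f (P'.root (u i)) = (q i : ℤ) • P.root i)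
    (hcoroot : ∀ i : ι, g (P.coroot i) = (q i : ℤ) • P'.coroot (u i)) :
    (∀ i j : ι, q (P.reflectionPerm i j) = q j ∧ u (P.reflectionPerm i j) = P'.reflectionPerm (u i) (u j)) ∧
      (∀ w ∈ P.weylGroup, ∀ i : ι, q (w • i) = q i) ∧
      ∃ ubar : P.weylGroup ≃* P'.weylGroup,
        (∀ i : ι, ubar (RootPairing.weylGroup.ofIdx P i) = RootPairing.weylGroup.ofIdx P' (u i)) ∧
        ∀ (w : P.weylGroup) (i : ι), u ((w : P.Aut) • i) = ((ubar w : P'.weylGroup) : P'.Aut) • u i := by
  have hq0 : ∀ a, 0 < (q a : ℤ) := fun a ↦ by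
    obtain ⟨e, he⟩ := hq a
    rw [he]
    exact_mod_cast pow_pos hp e
  have hM := Groth.RootData.isAddTorsionFree_weight P
  have hpair : ∀ a b, (q a : ℤ) * P.pairing a b = (q b : ℤ) * P'.pairing (u a) (u b) := fun a b ↦ by
    have := hfg (P'.root (u a)) (P.coroot b)
    rw [hroot, hcoroot, map_smul, LinearMap.smul_apply, map_smul, P.root_coroot_eq_pairing,
      P'.root_coroot_eq_pairing, smul_eq_mul, smul_eq_mul] at this
    exact this
  have key : ∀ i j, q (P.reflectionPerm i j) = q j ∧ u (P.reflectionPerm i j) = P'.reflectionPerm (u i) (u j) := by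
    intro i j
    obtain ⟨m, hm⟩ := u.surjective (P'.reflectionPerm (u i) (u j))
    have h1 : (q m : ℤ) • P.root m = (q j : ℤ) • P.root (P.reflectionPerm i j) := by
      rw [← hroot m, hm, Groth.RootData.root_reflectionPerm_eq, Groth.RootData.root_reflectionPerm_eq,
        map_sub, map_smul, hroot, hroot, smul_smul, smul_sub, smul_smul, Groth.RootData.pI_eq_pairing,
        Groth.RootData.pI_eq_pairing, hpair j i, mul_comm]
    rcases Groth.RootData.eq_or_neg_of_indiv (hq0 m).ne' h1 (Groth.RootData.isIndiv_of_isReduced m)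
      (Groth.RootData.isIndiv_of_isReduced _) with e | e
    · rw [← e]
      refine ⟨?_, hm⟩
      rw [← e] at h1
      exact_mod_cast (smul_left_injective ℤ (P.ne_zero m) h1)
    · rw [e, Groth.RootData.root_neg, smul_neg, ← neg_smul] at h1
      have := smul_left_injective ℤ (P.ne_zero _) h1
      have := hq0 m
      have := hq0 j
      omega
  refine ⟨key, fun w hw ↦ ?_, ?_⟩
  · induction hw using RootPairing.weylGroup.induction with
    | mem a => exact fun i ↦ (key a i).1
    | one => exact fun i ↦ by rw [one_smul]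
    | mul x y _ _ hx hy => exact fun i ↦ by rw [mul_smul, hx, hy]
  · let e := u.permCongrHom
    have hconj : ∀ i, e (P.reflectionPerm i) = P'.reflectionPerm (u i) := fun i ↦ by
      ext x
      obtain ⟨j, rfl⟩ := u.surjective x
      simp [e, Equiv.permCongr_apply, (key i j).2]
    have hrange : P.weylGroupToPerm.range.map e.toMonoidHom = P'.weylGroupToPerm.range := by
      rw [P.range_weylGroupToPerm, P'.range_weylGroupToPerm, MonoidHom.map_closure, ← Set.range_comp]
      congr 1
      rw [← u.surjective.range_comp]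
      congr 1
      funext i
      exact hconj i
    have hinjP : Function.Injective P.weylGroupToPerm := fun g h hgh ↦ Subtype.ext (inv_mul_eq_one.mp
      (Groth.RootData.eq_one_of_fix_roots (mul_mem (inv_mem g.2) h.2) fun i ↦ by
        rw [mul_smul, inv_smul_eq_iff]; exact (congrArg (fun t ↦ t i) hgh).symm))
    have hinjP' : Function.Injective P'.weylGroupToPerm := fun g h hgh ↦ Subtype.ext (inv_mul_eq_one.mp
      (Groth.RootData.eq_one_of_fix_roots (mul_mem (inv_mem g.2) h.2) fun i ↦ by
        rw [mul_smul, inv_smul_eq_iff]; exact (congrArg (fun t ↦ t i) hgh).symm))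
    let ubar : P.weylGroup ≃* P'.weylGroup :=
      (MonoidHom.ofInjective hinjP).trans <| (e.subgroupMap _).trans <|
        (MulEquiv.subgroupCongr hrange).trans (MonoidHom.ofInjective hinjP').symm
    have hspec : ∀ w, P'.weylGroupToPerm (ubar w) = e (P.weylGroupToPerm w) := fun w ↦ by
      exact (congrArg Subtype.val (MulEquiv.apply_symm_apply (MonoidHom.ofInjective hinjP') _)).trans rfl
    refine ⟨ubar, fun i ↦ hinjP' ?_, fun w i ↦ ?_⟩
    · rw [hspec]
      exact hconj i
    · change _ = P'.weylGroupToPerm (ubar w) (u i)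
      rw [hspec]
      simp [e, Equiv.permCongr_apply]
      rfl

end Groth.Agent.S5480
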