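import Groth.Statements.S5481
import Groth.Agent.RootData.RatCone

set_option autoImplicit false
open RootD

namespace Groth.Agent.S5481

/-- The root bijection u of a p-morphism of reduced root data carries systems of simple roots onto
systems of simple roots and systems of positive roots onto systems of positive roots, bijectively. -/
theorem result {ι M N ι' M' N' : Type*} [AddCommGroup M] [AddCommGroup N] [AddCommGroup M'] [AddCommGroup N']
    (P : RootPairing ι ℤ M N) (P' : RootPairing ι' ℤ M' N') [Finite ι] [Finite ι'] [P.IsReduced] [P'.IsReduced]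
    (p : ℕ) (hp : 0 < p) (f : M' →ₗ[ℤ] M) (g : N →ₗ[ℤ] N')
    (hfg : ∀ (m' : M') (n : N), P.toLinearMap (f m') n = P'.toLinearMap m' (g n))
    (u : ι ≃ ι') (q : ι → ℕ) (hq : ∀ i, ∃ e : ℕ, q i = p ^ e)
    (hroot : ∀ i : ι, f (P'.root (u i)) = (q i : ℤ) • P.root i)
    (hcoroot : ∀ i : ι, g (P.coroot i) = (q i : ℤ) • P'.coroot (u i)) (Δ : Set ι) :
    (RootD.IsSimpleSys P Δ ↔ RootD.IsSimpleSys P' (u '' Δ)) ∧
      (RootD.IsPosSys P Δ ↔ RootD.IsPosSys P' (u '' Δ)) := by
  have hq0 : ∀ a, 0 < (q a : ℤ) := fun a ↦ by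
    obtain ⟨e, he⟩ := hq a
    rw [he]
    exact_mod_cast pow_pos hp e
  have hM := Groth.RootData.isAddTorsionFree_weight P
  have hpair : ∀ a b, (q a : ℤ) * P.pairing a b = (q b : ℤ) * P'.pairing (u a) (u b) := fun a b ↦ by
    have := hfg (P'.root (u a)) (P.coroot b)
    rw [hroot, hcoroot, map_smul, LinearMap.smul_apply, map_smul, P.root_coroot_eq_pairing,
      P'.root_coroot_eq_pairing, smul_eq_mul, smul_eq_mul] at this
    exact this
  classical
  have : Fintype ι := Fintype.ofFinite ι
  have hM' := Groth.RootData.isAddTorsionFree_weight P'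
  let Q : ℕ := ∏ a, q a
  have hqn : ∀ a, 0 < q a := fun a ↦ by have := hq0 a; omega
  have hQ : 0 < Q := Finset.prod_pos fun a _ ↦ hqn a
  have hdvd : ∀ a, q a ∣ Q := fun a ↦ Finset.dvd_prod_of_mem q (Finset.mem_univ a)
  have hf0 : ∀ x : M', x ∈ Submodule.span ℤ (Set.range P'.root) → f x = 0 → x = 0 := fun x hx h ↦ by
    refine Groth.RootData.eq_zero_of_forall_coroot' hx fun m ↦ ?_
    obtain ⟨b, rfl⟩ := u.surjective m
    have := hfg x (P.coroot b)
    rw [h, hcoroot, map_zero, LinearMap.zero_apply, map_smul] at this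
    exact (smul_eq_zero_iff_right (hq0 b).ne').mp this.symm
  -- transfer of cone membership, in both directions
  have hback : ∀ (D : Set ι) (x : M'), x ∈ RootD.natSpan P' (u '' D) → f x ∈ RootD.natSpan P D := by
    intro D x hx
    induction hx using AddSubmonoid.closure_induction with
    | mem y hy =>
      obtain ⟨_, ⟨a, ha, rfl⟩, rfl⟩ := hy
      rw [hroot, natCast_zsmul]
      exact nsmul_mem (Groth.RootData.root_mem_natSpan ha) _
    | zero => rw [map_zero]; exact zero_mem _
    | add a b _ _ ha hb => rw [map_add]; exact add_mem ha hb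
  have hforth : ∀ (D : Set ι) (x : M), x ∈ RootD.natSpan P D →
      ∃ y ∈ RootD.natSpan P' (u '' D), f y = (Q : ℤ) • x := by
    intro D x hx
    induction hx using AddSubmonoid.closure_induction with
    | mem z hz =>
      obtain ⟨a, ha, rfl⟩ := hz
      obtain ⟨t, ht⟩ := hdvd a
      refine ⟨(t : ℤ) • P'.root (u a), ?_, ?_⟩
      · rw [natCast_zsmul]
        exact nsmul_mem (Groth.RootData.root_mem_natSpan (Set.mem_image_of_mem u ha)) _
      · rw [map_smul, hroot, smul_smul, ht, Nat.cast_mul, mul_comm]
    | zero => exact ⟨0, zero_mem _, by simp⟩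
    | add a b _ _ ha hb =>
      obtain ⟨y, hy, hya⟩ := ha
      obtain ⟨z, hz, hzb⟩ := hb
      exact ⟨y + z, add_mem hy hz, by rw [map_add, hya, hzb, smul_add]⟩
  have hforth' : ∀ (D : Set ι) (c : ℤ) (k : ι), c • P.root k ∈ RootD.natSpan P D →
      (Q : ℤ) • c • P'.root (u k) ∈ RootD.natSpan P' (u '' D) := by
    intro D c k hk
    obtain ⟨y, hy, hyk⟩ := hforth D _ hk
    have hz : (q k : ℤ) • y - (Q : ℤ) • c • P'.root (u k) = 0 := by
      refine hf0 _ (sub_mem (Submodule.smul_mem _ _ ?_) ?_) ?_
      · exact Submodule.span_mono (Set.image_subset_range _ _) (Groth.RootData.natSpan_le_span_int _ hy)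
      · exact Submodule.smul_mem _ _ (Submodule.smul_mem _ _ (Submodule.subset_span ⟨_, rfl⟩))
      · simp only [map_sub, map_smul, hyk, hroot]
        module
    rw [← sub_eq_zero.mp hz, natCast_zsmul]
    exact nsmul_mem hy _
  have hmem : ∀ {D : Set ι}, RootD.IsSimpleSys P D → RootD.IsSimpleSys P' (u '' D) →
      RootD.posOf P' (u '' D) = u '' RootD.posOf P D := by
    intro D hD hD'
    ext k'
    obtain ⟨k, rfl⟩ := u.surjective k'
    refine Iff.trans ⟨fun h ↦ ?_, fun h ↦ ?_⟩ u.injective.mem_set_image.symm
    · rcases hD.mem_or_neg_mem k with e | e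
      · exact e
      refine absurd (Groth.RootData.natSpan_pointed (Groth.RootData.linIndepOn_int hD.linInd)
        (x := (q k : ℤ) • P.root k) (by rw [← hroot]; exact hback D _ h) ?_) ?_
      · rw [← smul_neg, natCast_zsmul]; exact nsmul_mem e _
      · exact smul_ne_zero (hq0 k).ne' (P.ne_zero k)
    · rcases hD'.mem_or_neg_mem (u k) with e | e
      · exact e
      have h1 := hforth' D 1 k (by rw [one_smul]; exact h)
      rw [one_smul] at h1
      refine absurd (Groth.RootData.natSpan_pointed (Groth.RootData.linIndepOn_int hD'.linInd) h1 ?_) ?_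
      · rw [← smul_neg, natCast_zsmul]; exact nsmul_mem e _
      · exact smul_ne_zero (by omega) (P'.ne_zero _)
  have hss : ∀ D : Set ι, RootD.IsSimpleSys P D ↔ RootD.IsSimpleSys P' (u '' D) := by
    intro D
    constructor
    · intro hD
      refine Groth.RootData.isSimpleSys_of_ratCone (fun i _ ↦ Groth.RootData.isIndiv_of_isReduced i) ?_
        fun k' ↦ ?_
      · refine linearIndepOn_iff'.mpr fun s c hs hc b hb ↦ ?_
        obtain ⟨a, ha, rfl⟩ := hs hb
        have hs' : (s.image u.symm).image u = s := by rw [Finset.image_image]; simp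
        rw [← hs', Finset.sum_image u.injective.injOn] at hc
        have h0 := congrArg f hc
        simp only [map_sum, map_zero, map_smul, hroot, smul_smul] at h0
        have h1 := linearIndepOn_iff'.mp (Groth.RootData.linIndepOn_int hD.linInd) (s.image u.symm)
            (fun a ↦ c (u a) * q a) ?_ h0 a
            (Finset.mem_image.mpr ⟨u a, hb, u.symm_apply_apply a⟩)
        · exact (mul_eq_zero.mp h1).resolve_right (hq0 a).ne'
        · intro x hx
          obtain ⟨y, hy, rfl⟩ := Finset.mem_image.mp hx
          obtain ⟨z, hz, rfl⟩ := hs hy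
          rwa [u.symm_apply_apply]
      · obtain ⟨k, rfl⟩ := u.surjective k'
        refine ⟨Q, hQ, ?_⟩
        rcases hD.mem_or_neg_mem k with e | e
        · left
          have h1 := hforth' D 1 k (by rw [one_smul]; exact e)
          rwa [one_smul, natCast_zsmul] at h1
        · right
          have h1 := hforth' D (-1) k (by rw [neg_one_smul]; exact e)
          rwa [neg_one_smul, natCast_zsmul] at h1
    · intro hD
      refine Groth.RootData.isSimpleSys_of_ratCone (fun i _ ↦ Groth.RootData.isIndiv_of_isReduced i) ?_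
        fun k ↦ ?_
      · refine linearIndepOn_iff'.mpr fun s c hs hc a ha ↦ ?_
        have h1 : ∀ b, ((Q / q b : ℕ) : ℤ) * q b = Q := fun b ↦ by
          rw [← Nat.cast_mul, Nat.div_mul_cancel (hdvd b)]
        have h0 : f (∑ b ∈ s, (c b * (Q / q b : ℕ)) • P'.root (u b)) = 0 := by
          simp only [map_sum, map_smul, hroot, smul_smul, mul_assoc, h1]
          simp only [mul_comm (c _) (Q : ℤ), mul_smul, ← Finset.smul_sum, hc, smul_zero]
        have h2 := hf0 _ (sum_mem fun b _ ↦ Submodule.smul_mem _ _ (Submodule.subset_span ⟨_, rfl⟩)) h0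
        have h3 := linearIndepOn_iff'.mp (Groth.RootData.linIndepOn_int hD.linInd) (s.image u)
          (fun x ↦ c (u.symm x) * (Q / q (u.symm x) : ℕ)) (by
            intro x hx; obtain ⟨y, hy, rfl⟩ := Finset.mem_image.mp hx; exact Set.mem_image_of_mem u (hs hy))
          (by rw [Finset.sum_image u.injective.injOn]; simpa using h2) (u a) (Finset.mem_image_of_mem u ha)
        simp only [u.symm_apply_apply, mul_eq_zero] at h3
        refine h3.resolve_right fun e ↦ ?_
        have := Nat.div_pos (Nat.le_of_dvd hQ (hdvd a)) (hqn a)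
        omega
      · refine ⟨q k, hqn k, ?_⟩
        rcases hD.mem_or_neg_mem (u k) with e | e
        · left
          have h1 := hback D _ e
          rwa [hroot, natCast_zsmul] at h1
        · right
          have h1 := hback D _ e
          rwa [map_neg, hroot, ← smul_neg, natCast_zsmul] at h1
  refine ⟨hss Δ, fun h ↦ ?_, fun h ↦ ?_⟩
  · have hD := Groth.RootData.isSimpleSys_simpleOf h
    have := Groth.RootData.IsSimpleSys.isPosSys ((hss _).mp hD)
    rwa [hmem hD ((hss _).mp hD), Groth.RootData.posOf_simpleOf h] at this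
  · have hD' := Groth.RootData.isSimpleSys_simpleOf h
    rw [← u.image_preimage (Groth.RootData.simpleOf P' (u '' Δ))] at hD'
    have hD := (hss _).mpr hD'
    have := Groth.RootData.IsSimpleSys.isPosSys hD
    have e := hmem hD hD'
    rw [u.image_preimage, Groth.RootData.posOf_simpleOf h] at e
    rwa [← u.injective.image_injective e] at this

end Groth.Agent.S5481
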