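import Groth.Statements.S5482
import Groth.Agent.RootData.Partition

set_option autoImplicit false
open RootD

namespace Groth.Agent.S5482

/-- If the roots are partitioned into two closed symmetric subsets R', R'', then with Δ' = Δ ∩ R', Δ'' =
Δ ∩ R'' for a system of simple roots Δ one has R' = R_{Δ'}, R'' = R_{Δ''}, and Δ' is orthogonal to
Δ''. -/
theorem result {ι M N : Type*} [AddCommGroup M] [AddCommGroup N]
    (P : RootPairing ι ℤ M N) [Finite ι] (Δ : Set ι) (hΔ : RootD.IsSimpleSys P Δ) (R' : Set ι)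
    (hc : RootD.IsClosedSub P R') (hs : RootD.IsSymmSub P R') (hc' : RootD.IsClosedSub P R'ᶜ)
    (hs' : RootD.IsSymmSub P R'ᶜ) :
    R' = RootD.inSpan P (Δ ∩ R') ∧ R'ᶜ = RootD.inSpan P (Δ \ R') ∧
      ∀ i ∈ Δ ∩ R', ∀ j ∈ Δ \ R', P.IsOrthogonal i j := by
  have horth : ∀ i ∈ Δ ∩ R', ∀ j ∈ Δ \ R', P.IsOrthogonal i j := fun i hi j hj ↦ by
    by_contra h
    exact hj.2 (Groth.RootData.part_not_orth hc hs hc' hs' hi.2 h)
  have hpos := Groth.RootData.IsSimpleSys.isPosSys hΔ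
  have key : ∀ k, (k ∈ R' → k ∈ RootD.inSpan P (Δ ∩ R')) ∧ (k ∉ R' → k ∈ RootD.inSpan P (Δ \ R')) := by
    suffices ∀ k ∈ RootD.posOf P Δ, (k ∈ R' → k ∈ RootD.inSpan P (Δ ∩ R')) ∧ (k ∉ R' → k ∈ RootD.inSpan P (Δ \ R')) by
      intro k
      rcases hpos.cover k with h | h
      · exact this k h
      · obtain ⟨h1, h2⟩ := this _ h
        refine ⟨fun hk ↦ ?_, fun hk ↦ ?_⟩
        · have := Groth.RootData.inSpan_symm _ (h1 (hs hk))
          rwa [Groth.RootData.neg_neg] at this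
        · have := Groth.RootData.inSpan_symm _ (h2 (hs' (Set.mem_compl hk)))
          rwa [Groth.RootData.neg_neg] at this
    intro k hk
    refine Groth.RootData.pos_induction hpos
      (p := fun k ↦ (k ∈ R' → k ∈ RootD.inSpan P (Δ ∩ R')) ∧ (k ∉ R' → k ∈ RootD.inSpan P (Δ \ R')))
      (fun k hk ↦ ?_) (fun i _ j _ k _ he hi hj ↦ ?_) hk
    · rw [Groth.RootData.IsSimpleSys.simpleOf_posOf hΔ] at hk
      exact ⟨fun h ↦ Groth.RootData.subset_inSpan _ ⟨hk, h⟩, fun h ↦ Groth.RootData.subset_inSpan _ ⟨hk, h⟩⟩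
    · obtain ⟨h1, h2⟩ := Groth.RootData.part_sum hc hs hc' hs' he
      simp only [RootD.inSpan, Set.mem_setOf_eq] at hi hj ⊢
      rw [he]
      exact ⟨fun h ↦ add_mem (hi.1 (h1.mpr h)) (hj.1 (h2.mpr h)),
        fun h ↦ add_mem (hi.2 (mt h1.mp h)) (hj.2 (mt h2.mp h))⟩
  have excl : ∀ k, k ∈ RootD.inSpan P (Δ ∩ R') → k ∈ RootD.inSpan P (Δ \ R') → False := fun k h1 h2 ↦
    P.ne_zero k (Groth.RootData.span_disjoint (Groth.RootData.linIndepOn_int hΔ.linInd)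
      Set.inter_subset_left Set.sdiff_subset
      (Set.disjoint_left.mpr fun _ a b ↦ b.2 a.2) h1 h2)
  refine ⟨Set.ext fun k ↦ ⟨(key k).1, fun h ↦ ?_⟩, Set.ext fun k ↦ ⟨(key k).2, fun h hk ↦ ?_⟩, horth⟩
  · by_contra hk
    exact excl k h ((key k).2 hk)
  · exact excl k ((key k).1 hk) h

end Groth.Agent.S5482
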