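import Groth.Statements.S5483
import Groth.Agent.RootData.Partition

set_option autoImplicit false
open RootD

namespace Groth.Agent.S5483

/-- If a system of simple roots Δ is the disjoint union of two mutually orthogonal subsets Δ', Δ'', then
R_{Δ'} and R_{Δ''} partition the set of roots. -/
theorem result {ι M N : Type*} [AddCommGroup M] [AddCommGroup N]
    (P : RootPairing ι ℤ M N) [Finite ι] (Δ Δ' : Set ι) (hΔ : RootD.IsSimpleSys P Δ)
    (hsub : Δ' ⊆ Δ) (horth : ∀ i ∈ Δ', ∀ j ∈ Δ \ Δ', P.IsOrthogonal i j) (k : ι) :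
    (k ∈ RootD.inSpan P Δ' ∨ k ∈ RootD.inSpan P (Δ \ Δ')) ∧
      ¬ (k ∈ RootD.inSpan P Δ' ∧ k ∈ RootD.inSpan P (Δ \ Δ')) := by
  have hfix : ∀ A B : Set ι, (∀ a ∈ A, ∀ b ∈ B, P.pairing b a = 0) → ∀ a ∈ A, ∀ m ∈ RootD.inSpan P B,
      P.reflectionPerm a m = m := fun A B h a ha m hm ↦ by
    apply P.root.injective
    have : P.pairing m a = 0 := by
      rw [← P.root_coroot'_eq_pairing a m]
      refine Submodule.span_induction (p := fun x _ ↦ P.coroot' a x = 0) ?_ (map_zero _)
        (fun x y _ _ hx hy ↦ by rw [map_add, hx, hy, add_zero])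
        (fun t x _ hx ↦ by rw [map_smul, hx, smul_zero]) (hm : P.root m ∈ _)
      rintro _ ⟨b, hb, rfl⟩
      rw [P.root_coroot'_eq_pairing]
      exact h a ha b hb
    rw [P.root_reflectionPerm, P.reflection_apply_root, this, zero_smul, sub_zero]
  let U : Set ι := RootD.inSpan P Δ' ∪ RootD.inSpan P (Δ \ Δ')
  have hU : ∀ a ∈ Δ, ∀ m ∈ U, Groth.RootData.refl P a • m ∈ U := by
    intro a ha m hm
    change P.reflectionPerm a m ∈ U
    by_cases haΔ : a ∈ Δ'
    · rcases hm with hm | hm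
      · exact .inl (Groth.RootData.refl_mem_inSpan (Groth.RootData.subset_inSpan Δ' haΔ) hm)
      · rw [hfix Δ' (Δ \ Δ') (fun x hx y hy ↦ (horth x hx y hy).2) a haΔ m hm]
        exact .inr hm
    · rcases hm with hm | hm
      · rw [hfix (Δ \ Δ') Δ' (fun x hx y hy ↦ (horth y hy x hx).1) a ⟨ha, haΔ⟩ m hm]
        exact .inl hm
      · exact .inr (Groth.RootData.refl_mem_inSpan
          (Groth.RootData.subset_inSpan (Δ \ Δ') (show a ∈ Δ \ Δ' from ⟨ha, haΔ⟩)) hm)
  have hW : ∀ g ∈ Subgroup.closure (Groth.RootData.refl P '' Δ), ∀ m ∈ U, g • m ∈ U := by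
    intro g hg
    induction hg using Subgroup.closure_induction'' with
    | one => intro m hm; rw [one_smul]; exact hm
    | mem x hx => obtain ⟨a, ha, rfl⟩ := hx; exact hU a ha
    | inv_mem x hx => obtain ⟨a, ha, rfl⟩ := hx; rw [Groth.RootData.refl_inv]; exact hU a ha
    | mul x y _ _ hx hy => intro m hm; rw [mul_smul]; exact hx _ (hy m hm)
  have hind : ∀ m, RootD.IsIndiv P m → m ∈ U := fun m hm ↦ by
    obtain ⟨g, hg, i, hi, rfl⟩ := Groth.RootData.exists_weyl_smul_simple hΔ hm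
    refine hW g hg i ?_
    by_cases h : i ∈ Δ'
    · exact .inl (Groth.RootData.subset_inSpan Δ' h)
    · exact .inr (Groth.RootData.subset_inSpan (Δ \ Δ') (show i ∈ Δ \ Δ' from ⟨hi, h⟩))
  refine ⟨?_, fun h ↦ P.ne_zero k (Groth.RootData.span_disjoint (Groth.RootData.linIndepOn_int hΔ.linInd)
    hsub Set.sdiff_subset Set.disjoint_sdiff_right h.1 h.2)⟩
  rcases Groth.RootData.indiv_or_double (P := P) k with h | ⟨i, hi, h⟩
  · exact hind k h
  · rcases hind i hi with e | e
    · refine .inl ?_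
      simp only [RootD.inSpan, Set.mem_setOf_eq] at e ⊢
      exact h ▸ add_mem e e
    · refine .inr ?_
      simp only [RootD.inSpan, Set.mem_setOf_eq] at e ⊢
      exact h ▸ add_mem e e

end Groth.Agent.S5483
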