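import Groth.Statements.S5484
import Groth.Agent.RootData.Gram

set_option autoImplicit false
open RootD

namespace Groth.Agent.S5484

open Classical in
/-- Every principal minor of the Cartan matrix (a_{α,β} = (α^v, β), α, β simple) is strictly positive. -/
theorem result {ι M N : Type*} [AddCommGroup M] [AddCommGroup N]
    (P : RootPairing ι ℤ M N) [Finite ι] (Δ : Finset ι) (hΔ : RootD.IsSimpleSys P (↑Δ : Set ι))
    (Δ' : Finset ι) (hsub : Δ' ⊆ Δ) :
    0 < Matrix.det (Matrix.of fun (a b : ↥Δ') => P.pairing (b : ι) (a : ι)) := by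
  classical
  let hF : Fintype ι := Fintype.ofFinite ι
  have hli : LinearIndepOn ℤ P.root (Δ' : Set ι) :=
    (Groth.RootData.linIndepOn_int hΔ.linInd).mono (Finset.coe_subset.mpr hsub)
  have hG := Groth.RootData.det_gram_pos (P := P) hli
  set C := Matrix.of fun (a b : ↥Δ') => P.pairing (b : ι) (a : ι) with hC
  have key : Matrix.diagonal (fun a : ↥Δ' ↦ Groth.RootData.formInt P (a : ι) (a : ι)) * C =
      (2 : ℤ) • (Matrix.of fun a b : ↥Δ' ↦ Groth.RootData.formInt P (a : ι) (b : ι)) := by
    ext a b
    simp only [Matrix.diagonal_mul, hC, Matrix.of_apply, Matrix.smul_apply, smul_eq_mul]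
    rw [← Groth.RootData.pI_eq_pairing, Groth.RootData.formInt_comm (a : ι) (b : ι),
      Groth.RootData.two_mul_formInt, mul_comm]
  have h := congrArg Matrix.det key
  rw [Matrix.det_mul, Matrix.det_diagonal, Matrix.det_smul] at h
  have hpos : 0 < ∏ a : ↥Δ', Groth.RootData.formInt P (a : ι) (a : ι) :=
    Finset.prod_pos fun a _ ↦ Groth.RootData.formInt_self_pos _
  refine pos_of_mul_pos_right ?_ hpos.le
  rw [h]
  exact mul_pos (pow_pos (by norm_num) _) hG

end Groth.Agent.S5484
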