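import Groth.Statements.S5489
import Groth.Agent.RootData.IntDatum

set_option autoImplicit false
open RootD

namespace Groth.Agent.S5489

/-- If a root α, distinct from roots α_1, ..., α_n, is a non-negative rational combination of them, then
some α_l with non-zero coefficient has (α^v, α_l) > 0 and α - α_l a root. -/
theorem result {ι M N : Type*} [AddCommGroup M] [AddCommGroup N]
    (P : RootPairing ι ℤ M N) [Finite ι] {n : ℕ} (a : Fin n → ι) (m : Fin n → ℕ)
    (k : ι) (hne : ∀ l, a l ≠ k) (c : ℕ) (hc : 0 < c) (hk : c • P.root k = ∑ l, m l • P.root (a l)) :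
    ∃ l : Fin n, m l ≠ 0 ∧ 0 < P.pairing (a l) k ∧ P.root k - P.root (a l) ∈ Set.range P.root := by
  classical
  let s : Multiset ι := ∑ l, Multiset.replicate (m l) (a l)
  have hs : (s.map P.root).sum = (c : ℤ) • P.root k := by
    rw [natCast_zsmul, hk]
    change ((Multiset.mapAddMonoidHom P.root) s).sum = _
    rw [map_sum, ← Multiset.coe_sumAddMonoidHom, map_sum]
    simp
  obtain ⟨b, hb, hpos⟩ := Groth.RootData.exists_mem_pairing_pos (by exact_mod_cast hc) hs
  obtain ⟨l, -, hl⟩ := Multiset.mem_sum.mp hb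
  obtain ⟨hl0, rfl⟩ := Multiset.mem_replicate.mp hl
  obtain ⟨x, hx⟩ := Groth.RootData.root_sub_mem (Groth.RootData.pI_pos_symm hpos) (hne l).symm
  exact ⟨l, hl0, Groth.RootData.pI_eq_pairing (P := P) (a l) k ▸ hpos, x, hx⟩

end Groth.Agent.S5489
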