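import Groth.Statements.S5491
import Groth.Agent.RootData.Domain

set_option autoImplicit false
open RootD

namespace Groth.Agent.S5491

open Classical in
/-- With ρ^v the half-sum of the positive coroots, the order (height) of any root α relative to the
simple system equals (ρ^v, α); equivalently 2·height(α) = Σ_{β > 0} (β^v, α). -/
theorem result {ι M N : Type*} [AddCommGroup M] [AddCommGroup N]
    (P : RootPairing ι ℤ M N) [Finite ι] [Fintype ι] [P.IsReduced] (b : P.Base) (i : ι) :
    2 * b.height i = ∑ j, if b.IsPos j then P.pairing i j else 0 := by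
  set S := Finset.univ.filter fun i ↦ b.IsPos i with hSdef
  have hb := Groth.RootData.Base.isSimpleSys b
  have hcoe : (S : Set ι) = RootD.posOf P (b.support : Set ι) := by
    ext i; simp [hSdef, Groth.RootData.Base.mem_posOf_iff]
  have hS : RootD.IsPosSys P (S : Set ι) := hcoe.symm ▸ Groth.RootData.IsSimpleSys.isPosSys hb
  rw [← Finset.sum_filter, ← hSdef]
  suffices key : ∀ k ∈ S, 2 * b.height k = ∑ j ∈ S, P.pairing k j by
    rcases (Groth.RootData.IsSimpleSys.isPosSys hb).cover i with h | h
    · exact key i (by simpa [← hcoe] using h)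
    · have := key _ (by simpa [← hcoe] using h)
      rw [show b.height (P.reflectionPerm i i) = -b.height i from b.height_reflectionPerm_self i] at this
      simp only [P.pairing_reflectionPerm_self_left, Finset.sum_neg_distrib] at this
      omega
  intro k hk
  refine Groth.RootData.pos_induction hS (p := fun k ↦ 2 * b.height k = ∑ j ∈ S, P.pairing k j)
    (fun k hk ↦ ?_) (fun x _ y _ z _ he hx hy ↦ ?_) hk
  · have h2 := (Groth.RootData.sum_pI_eq hS hk).2.2 (fun l ↦ Groth.RootData.isReduced_no_double k l)
    rw [hcoe, Groth.RootData.IsSimpleSys.simpleOf_posOf hb] at hk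
    rw [RootPairing.Base.height_one_of_mem_support (Finset.mem_coe.mp hk), mul_one, ← h2]
    exact Finset.sum_congr rfl fun l _ ↦ Groth.RootData.pI_eq_pairing k l
  · rw [b.height_add he, mul_add, hx, hy, ← Finset.sum_add_distrib]
    exact Finset.sum_congr rfl fun l _ ↦ (P.pairing_eq_add_of_root_eq_add he).symm

end Groth.Agent.S5491
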