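import Groth.Statements.S5493
import Groth.Agent.RootData.Iso

set_option autoImplicit false
open RootD

namespace Groth.Agent.S5493

/-- Adjoint case; the simply connected case is dual: two reduced adjoint root data with systems of
simple roots Δ, Δ' and a bijection u : Δ → Δ' respecting the Cartan matrices are isomorphic through
a unique isomorphism inducing u on Δ. -/
theorem result {ι M N ι' M' N' : Type*} [AddCommGroup M] [AddCommGroup N] [AddCommGroup M'] [AddCommGroup N']
    (P : RootPairing ι ℤ M N) (P' : RootPairing ι' ℤ M' N') [Finite ι] [Finite ι'] [P.IsReduced] [P'.IsReduced]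
    (had : Submodule.span ℤ (Set.range P.root) = ⊤) (had' : Submodule.span ℤ (Set.range P'.root) = ⊤)
    (b : P.Base) (b' : P'.Base) (u : ↥b.support ≃ ↥b'.support)
    (hu : ∀ i j : ↥b.support, P.pairing (i : ι) (j : ι) = P'.pairing (u i : ι') (u j : ι')) :
    ∃! e : RootPairing.Equiv P P', ∀ i : ↥b.support, e.indexEquiv (i : ι) = (u i : ι') := by
  classical
  let B := Groth.RootData.basisOfBase b had
  let B' := Groth.RootData.basisOfBase b' had'
  let f : M ≃ₗ[ℤ] M' := B.equiv B' u
  have hf : ∀ i : b.support, f (P.root i) = P'.root (u i) := fun i ↦ by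
    rw [← Groth.RootData.basisOfBase_apply b had, Module.Basis.equiv_apply, Groth.RootData.basisOfBase_apply]
  have hc : ∀ (i : b.support) (x : M), P'.coroot' (u i) (f x) = P.coroot' i x := fun i ↦ by
    refine DFunLike.congr_fun (f := (P'.coroot' (u i)).comp f.toLinearMap) (B.ext fun j ↦ ?_)
    rw [Groth.RootData.basisOfBase_apply, LinearMap.comp_apply, LinearEquiv.coe_coe, hf,
      P.root_coroot'_eq_pairing, P'.root_coroot'_eq_pairing]
    exact (hu j i).symm
  choose F hF1 hF2 using Groth.RootData.exists_index b f (fun i ↦ (u i : ι')) hf hc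
  have hinj : Function.Injective F := fun a c h ↦ P.root.injective (f.injective (by rw [hF1, hF1, h]))
  have hsurj : Function.Surjective F := fun a ↦ by
    obtain ⟨k, hk, -⟩ := Groth.RootData.exists_index b' f.symm (fun i ↦ (u.symm i : ι))
      (fun i ↦ by rw [LinearEquiv.symm_apply_eq, hf, u.apply_symm_apply])
      (fun i x ↦ by rw [← hc, u.apply_symm_apply, f.apply_symm_apply]) a
    exact ⟨k, P'.root.injective (by rw [← hF1, ← hk, f.apply_symm_apply])⟩
  let e := Equiv.ofBijective F ⟨hinj, hsurj⟩
  refine ⟨Groth.RootData.equivOfIndex f e hF1 hF2, fun i ↦ ?_, fun e' he' ↦ ?_⟩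
  · exact P'.root.injective (((hF1 i).symm).trans (hf i))
  · refine Groth.RootData.equiv_ext fun x ↦ ?_
    change e'.weightMap x = f.toLinearMap x
    refine DFunLike.congr_fun (B.ext fun j ↦ ?_) x
    rw [Groth.RootData.basisOfBase_apply, LinearEquiv.coe_coe, hf,
      RootPairing.Hom.root_weightMap_apply, he' j]

end Groth.Agent.S5493
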