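import Groth.Statements.S5494
import Groth.Agent.RootData.Partition

set_option autoImplicit false
open RootD

namespace Groth.Agent.S5494

/-- If a system of simple roots has no partition into two non-empty orthogonal subsets, then any two
roots are linked by a chain of roots with consecutive members non-orthogonal. -/
theorem result {ι M N : Type*} [AddCommGroup M] [AddCommGroup N]
    (P : RootPairing ι ℤ M N) [Finite ι] (Δ : Set ι) (hΔ : RootD.IsSimpleSys P Δ)
    (hconn : ∀ Δ' : Set ι, Δ' ⊆ Δ → (∀ i ∈ Δ', ∀ j ∈ Δ \ Δ', P.IsOrthogonal i j) → Δ' = ∅ ∨ Δ' = Δ)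
    (i j : ι) : Relation.ReflTransGen (fun a b : ι => ¬ P.IsOrthogonal a b) i j := by
  classical
  let C := {k : ι | Relation.ReflTransGen (fun a b : ι => ¬ P.IsOrthogonal a b) i k}
  obtain ⟨a, ha, hai⟩ := Groth.RootData.exists_simple_not_orth hΔ i
  obtain ⟨b, hb, hbj⟩ := Groth.RootData.exists_simple_not_orth hΔ j
  have haC : a ∈ C := Relation.ReflTransGen.single fun e ↦ hai e.symm
  have hC : C ∩ Δ = Δ := by
    refine (hconn (C ∩ Δ) Set.inter_subset_right fun x hx y hy ↦ ?_).resolve_left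
      (Set.nonempty_iff_ne_empty.mp ⟨a, haC, ha⟩)
    by_contra h
    exact hy.2 ⟨hx.1.tail h, hy.1⟩
  have hbC : b ∈ C := (hC.symm ▸ hb : b ∈ C ∩ Δ).1
  exact hbC.tail hbj

end Groth.Agent.S5494
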