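import Groth.Statements.S5495
import Groth.Agent.RootData.IntDatum

set_option autoImplicit false
open RootD

namespace Groth.Agent.S5495

/-- If α is an indivisible root and kα is a root for a rational k, then k is an integer. -/
theorem result {ι M N : Type*} [AddCommGroup M] [AddCommGroup N]
    (P : RootPairing ι ℤ M N) [Finite ι] (i j : ι) (hind : RootD.IsIndiv P i) (a b : ℤ) (hb : b ≠ 0)
    (h : b • P.root j = a • P.root i) : b ∣ a := by
  have ha : a ≠ 0 := by
    rintro rfl
    rw [zero_smul] at h
    exact P.ne_zero j (Groth.RootData.zsmul_right_cancel P hb (h.trans (smul_zero b).symm))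
  have cancel : ∀ x y : ℤ, x • P.root i = y • P.root i → x = y := fun x y e ↦ by
    have := Groth.RootData.isAddTorsionFree_weight P
    exact smul_left_injective ℤ (P.ne_zero i) e
  have hind' := Groth.RootData.isIndiv_iff.mp hind
  rcases Groth.RootData.prop_cases ha h.symm with e | e | e | e | e | e
  · exact ⟨1, by rw [mul_one]; exact cancel _ _ (by rw [← h, e])⟩
  · exact ⟨-1, cancel _ _ (by rw [← h, e, Groth.RootData.root_neg]; module)⟩
  · exact absurd e (hind' j)
  · exact absurd (by rw [Groth.RootData.root_neg, e, neg_add]) (hind' (Groth.RootData.neg P j))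
  · exact ⟨2, cancel _ _ (by rw [← h, e]; module)⟩
  · exact ⟨-2, cancel _ _ (by rw [← h, e]; module)⟩

end Groth.Agent.S5495
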