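import Groth.Statements.S5496
import Groth.Agent.RootData.RankTwo
import Groth.Agent.RootData.IntDatum
import Mathlib.GroupTheory.OrderOfElement

set_option autoImplicit false
open RootPairing
open scoped Pointwise
open RootD

namespace Groth.Agent.S5496

/-- For non-proportional roots α, β let n be the least integer n > 0 with (s_α s_β)^n(α) = α and (s_α
s_β)^n(β) = β. Then the subgroup W_{α,β} generated by s_α and s_β is presented by s_α² = s_β² = (s_α
s_β)^n = 1; equivalently it has exactly 2n elements. -/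
theorem result {ι M N : Type*} [AddCommGroup M] [AddCommGroup N]
    (P : RootPairing ι ℤ M N) [Finite ι] (i j : ι) (hli : LinearIndependent ℤ ![P.root i, P.root j])
    (n : ℕ) (hn : IsLeast {m : ℕ | 0 < m ∧ ((Equiv.reflection P i * Equiv.reflection P j) ^ m) • i = i ∧
      ((Equiv.reflection P i * Equiv.reflection P j) ^ m) • j = j} n) :
    Nat.card (Subgroup.closure ({Equiv.reflection P i, Equiv.reflection P j} : Set P.Aut)) = 2 * n := by
  classical
  have hM := Groth.RootData.isAddTorsionFree_weight P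
  have hne : Groth.RootData.pI P i j * Groth.RootData.pI P j i ≠ 4 :=
    (P.linearIndependent_iff_coxeterWeightIn_ne_four ℤ).mp hli
  set s := Equiv.reflection P i with hs
  set t := Equiv.reflection P j with ht
  set r := s * t with hr
  have hsT : Subgroup.closure ({s, t} : Set P.Aut) = Subgroup.closure (Groth.RootData.refl P '' {i, j}) := by
    rw [Set.image_pair]
  have hs2 : s * s = 1 := Groth.RootData.refl_mul_self i
  have ht2 : t * t = 1 := Groth.RootData.refl_mul_self j
  have hsi : s⁻¹ = s := inv_eq_of_mul_eq_one_right hs2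
  have hti : t⁻¹ = t := inv_eq_of_mul_eq_one_right ht2
  have hsm : s ∈ Subgroup.closure ({s, t} : Set P.Aut) := Subgroup.subset_closure (.inl rfl)
  have htm : t ∈ Subgroup.closure ({s, t} : Set P.Aut) := Subgroup.subset_closure (.inr rfl)
  have hfix : ∀ m : ℕ, (r ^ m) • i = i → (r ^ m) • j = j → r ^ m = 1 := fun m h1 h2 ↦ by
    refine Groth.RootData.pair_eq_one_of_fix hne ?_ h1 h2
    rw [← hsT]
    exact pow_mem (mul_mem hsm htm) m
  have hord : orderOf r = n := by
    rw [orderOf_eq_iff hn.1.1]
    exact ⟨hfix n hn.1.2.1 hn.1.2.2, fun m hm h0 e ↦ absurd (hn.2 ⟨h0, by rw [e, one_smul], by rw [e, one_smul]⟩) (not_le.mpr hm)⟩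
  have hfin : IsOfFinOrder r := orderOf_pos_iff.mp (hord ▸ hn.1.1)
  have hsrs : ∀ z ∈ Subgroup.zpowers r, s * z * s = z⁻¹ := fun z hz ↦ by
    obtain ⟨k, rfl⟩ := Subgroup.mem_zpowers_iff.mp hz
    have h1 : s * r * s⁻¹ = r⁻¹ := by rw [hr, mul_inv_rev, hsi, hti, ← mul_assoc s s t, hs2, one_mul]
    rw [show s * r ^ k * s = s * r ^ k * s⁻¹ by rw [hsi], ← conj_zpow, h1, inv_zpow]
  have hsnot : s ∉ Subgroup.zpowers r := fun h ↦ by
    obtain ⟨k, hk⟩ := Subgroup.mem_zpowers_iff.mp h
    have h1 := hsrs s h
    rw [hs2, one_mul, hsi] at h1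
    have h2 := hsrs r (Subgroup.mem_zpowers r)
    have hc : Commute r s := by rw [← hk]; exact (Commute.refl r).zpow_right k
    rw [← hc.eq, mul_assoc, hs2, mul_one] at h2
    have h3 : r ^ (2 : ℤ) = 1 := by rw [zpow_two]; exact mul_eq_one_iff_eq_inv.mpr h2
    rw [← Int.emod_add_mul_ediv k 2, zpow_add, zpow_mul, h3, one_zpow, mul_one] at hk
    rcases Int.emod_two_eq_zero_or_one k with e | e <;> rw [e] at hk
    · exact Groth.RootData.refl_ne_one (P := P) i (by rw [zpow_zero] at hk; exact hk.symm)
    · rw [zpow_one, hr, mul_eq_left] at hk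
      exact Groth.RootData.refl_ne_one (P := P) j hk
  let K : Subgroup P.Aut :=
    { carrier := {x | x ∈ Subgroup.zpowers r ∨ x * s ∈ Subgroup.zpowers r}
      one_mem' := .inl (one_mem _)
      mul_mem' := by
        rintro x y (hx | hx) (hy | hy)
        · exact .inl (mul_mem hx hy)
        · exact .inr (by rw [mul_assoc]; exact mul_mem hx hy)
        · refine .inr ?_
          rw [show x * y * s = x * s * (s * y * s) by simp only [← mul_assoc, mul_assoc x s s, hs2, mul_one]]
          exact mul_mem hx (hsrs y hy ▸ inv_mem hy)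
        · refine .inl ?_
          rw [show x * y = x * s * (s * (y * s) * s) by
            simp only [← mul_assoc, mul_assoc x s s, hs2, mul_one, mul_assoc (x * y) s s]]
          exact mul_mem hx (hsrs _ hy ▸ inv_mem hy)
      inv_mem' := by
        rintro x (hx | hx)
        · exact .inl (inv_mem hx)
        · refine .inr ?_
          have := hsrs _ (inv_mem hx)
          rw [mul_inv_rev, hsi, ← mul_assoc s s, hs2, one_mul, mul_inv_rev, inv_inv, hsi] at this
          rw [this]
          exact hx }
  have hK : Subgroup.closure ({s, t} : Set P.Aut) = K := by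
    refine le_antisymm ((Subgroup.closure_le _).mpr ?_) ?_
    · rintro x (rfl | rfl)
      · exact .inr (hs2 ▸ one_mem _)
      · refine .inr ?_
        have := inv_mem (Subgroup.mem_zpowers r)
        rwa [hr, mul_inv_rev, hti, hsi] at this
    · have hz : Subgroup.zpowers r ≤ Subgroup.closure ({s, t} : Set P.Aut) :=
        Subgroup.zpowers_le.mpr (mul_mem hsm htm)
      rintro x (hx | hx)
      · exact hz hx
      · have := mul_mem (hz hx) hsm
        rwa [mul_assoc, hs2, mul_one] at this
  rw [hK, ← hord, ← Nat.card_zpowers]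
  let φ : Subgroup.zpowers r ⊕ Subgroup.zpowers r → K := Sum.elim (fun z ↦ ⟨z, .inl z.2⟩)
    (fun z ↦ ⟨z * s, .inr (by rw [mul_assoc, hs2, mul_one]; exact z.2)⟩)
  have hφ : Function.Bijective φ := by
    have hex : ∀ a b : Subgroup.zpowers r, (a : P.Aut) ≠ b * s := fun a b h ↦ hsnot (by
      rw [show s = (b : P.Aut)⁻¹ * a by rw [h, inv_mul_cancel_left]]
      exact mul_mem (inv_mem b.2) a.2)
    refine ⟨?_, fun ⟨x, hx⟩ ↦ ?_⟩
    · rintro (a | a) (b | b) h <;> have h' := congrArg Subtype.val h <;> simp only [φ, Sum.elim_inl, Sum.elim_inr] at h'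
      · exact congrArg Sum.inl (Subtype.ext h')
      · exact absurd h' (hex a b)
      · exact absurd h'.symm (hex b a)
      · exact congrArg Sum.inr (Subtype.ext (mul_right_cancel h'))
    · rcases hx with hx | hx
      · exact ⟨.inl ⟨x, hx⟩, rfl⟩
      · exact ⟨.inr ⟨_, hx⟩, Subtype.ext (show x * s * s = x by rw [mul_assoc, hs2, mul_one])⟩
  have : Finite (Subgroup.zpowers r) := hfin.finite_zpowers.to_subtype
  rw [← Nat.card_eq_of_bijective φ hφ, Nat.card_sum, two_mul]

end Groth.Agent.S5496
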