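import Groth.Statements.S5497
import Groth.Agent.RootData.IntDatum

set_option autoImplicit false
open RootD

namespace Groth.Agent.S5497

/-- For a partition of the roots into two closed symmetric subsets, whenever α, β, α + β are roots they
lie in the same part. -/
theorem result {ι M N : Type*} [AddCommGroup M] [AddCommGroup N]
    (P : RootPairing ι ℤ M N) [Finite ι] (R' : Set ι) (hc : RootD.IsClosedSub P R')
    (hs : RootD.IsSymmSub P R') (hc' : RootD.IsClosedSub P R'ᶜ) (hs' : RootD.IsSymmSub P R'ᶜ)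
    (i j k : ι) (h : P.root k = P.root i + P.root j) :
    (i ∈ R' ∧ j ∈ R' ∧ k ∈ R') ∨ (i ∉ R' ∧ j ∉ R' ∧ k ∉ R') := by
  have h1 : P.root j = P.root k + P.root (P.reflectionPerm i i) := by simp [h]
  have h2 : P.root i = P.root k + P.root (P.reflectionPerm j j) := by simp [h]
  by_cases hi : i ∈ R' <;> by_cases hj : j ∈ R'
  · exact .inl ⟨hi, hj, hc hi hj h⟩
  · by_cases hk : k ∈ R'
    · exact absurd (hc hk (hs hi) h1) hj
    · exact absurd hi (hc' hk (hs' (Set.mem_compl hj)) h2)
  · by_cases hk : k ∈ R'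
    · exact absurd (hc hk (hs hj) h2) hi
    · exact absurd hj (hc' hk (hs' (Set.mem_compl hi)) h1)
  · exact .inr ⟨hi, hj, hc' (Set.mem_compl hi) (Set.mem_compl hj) h⟩

end Groth.Agent.S5497
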