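import Groth.Statements.S5498
import Groth.Agent.RootData.Irred

set_option autoImplicit false
open RootD

namespace Groth.Agent.S5498

/-- If R is irreducible then so is the dual datum R^v, and long(α)·long(α^v) (equivalently ℓ(α) ℓ(α^v))
is constant on the roots. -/
theorem result {ι M N : Type*} [AddCommGroup M] [AddCommGroup N]
    (P : RootPairing ι ℤ M N) [Finite ι] [Fintype ι] [Nonempty ι]
    (hirr : ∀ R' : Set ι, RootD.IsClosedSub P R' → RootD.IsSymmSub P R' → RootD.IsClosedSub P R'ᶜ →
      RootD.IsSymmSub P R'ᶜ → R' = ∅ ∨ R' = Set.univ) :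
    (∀ R' : Set ι, RootD.IsClosedSub P.flip R' → RootD.IsSymmSub P.flip R' → RootD.IsClosedSub P.flip R'ᶜ →
      RootD.IsSymmSub P.flip R'ᶜ → R' = ∅ ∨ R' = Set.univ) ∧
    ∀ i j : ι, P.RootForm (P.root i) (P.root i) * P.CorootForm (P.coroot i) (P.coroot i) =
      P.RootForm (P.root j) (P.root j) * P.CorootForm (P.coroot j) (P.coroot j) := by
  refine ⟨fun R' h1 h2 h3 h4 ↦ Groth.RootData.flip_irreducible hirr R' h1 h2 h3 h4, fun i j ↦ ?_⟩
  simp only [Groth.RootData.formInt_eq_rootForm, Groth.RootData.formInt_flip_eq]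
  induction Groth.RootData.connected hirr i j with
  | refl => rfl
  | tail _ h ih => exact ih.trans (Groth.RootData.formInt_mul_eq (Groth.RootData.not_isOrthogonal_iff.mp h))

end Groth.Agent.S5498
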