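import Groth.Statements.S5499
import Groth.Agent.RootData.Irred
import Groth.Agent.S5465

set_option autoImplicit false
open RootD

namespace Groth.Agent.S5499

/-- For an irreducible datum, where long(α) = ℓ(α)/ℓ(α₀) with ℓ(α₀) minimal: there is a unique
homomorphism u : Γ_0(R) → M^v with u(α) = long(α) α^v for every root α. -/
theorem result {ι M N : Type*} [AddCommGroup M] [AddCommGroup N]
    (P : RootPairing ι ℤ M N) [Finite ι] [Fintype ι]
    (hirr : ∀ R' : Set ι, RootD.IsClosedSub P R' → RootD.IsSymmSub P R' → RootD.IsClosedSub P R'ᶜ →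
      RootD.IsSymmSub P R'ᶜ → R' = ∅ ∨ R' = Set.univ)
    (i₀ : ι) (hmin : ∀ i : ι, P.RootForm (P.root i₀) (P.root i₀) ≤ P.RootForm (P.root i) (P.root i)) :
    ∃! u : Submodule.span ℤ (Set.range P.root) →+ N, ∀ i : ι,
      u ⟨P.root i, Submodule.subset_span (Set.mem_range_self i)⟩ =
        (P.RootForm (P.root i) (P.root i) / P.RootForm (P.root i₀) (P.root i₀)) • P.coroot i := by
  classical
  simp only [Groth.RootData.formInt_eq_rootForm] at hmin ⊢
  have hN := Groth.RootData.isAddTorsionFree_coweight P
  set A := Groth.RootData.formInt P i₀ i₀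
  have hA : A ≠ 0 := (Groth.RootData.formInt_self_pos i₀).ne'
  have hmul : ∀ i, A • ((Groth.RootData.formInt P i i / A) • P.coroot i) = (2 : ℕ) • P.Polarization (P.root i) := fun i ↦ by
    rw [smul_smul, Int.mul_ediv_cancel' (Groth.RootData.dvd_min hirr i₀ hmin i), Groth.RootData.formInt_root_smul]
  refine Groth.Agent.S5465.result P (fun i ↦ (Groth.RootData.formInt P i i / A) • P.coroot i) (fun i ↦ ?_) (fun i j k h ↦ ?_)
  · refine smul_right_injective N hA ?_
    simp only
    rw [smul_neg, hmul, hmul, ← smul_neg, ← map_neg, Groth.RootData.root_neg]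
  · refine smul_right_injective N hA ?_
    simp only
    rw [smul_add, hmul, hmul, hmul, h, map_add, smul_add]

end Groth.Agent.S5499
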