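import Groth.Statements.S5500
import Groth.Agent.RootData.Irred

set_option autoImplicit false
open RootD

namespace Groth.Agent.S5500

/-- For a p-morphism between irreducible reduced root data there is a rational constant k with k ·
long(u(α)) = q(α)² · long(α) for every root α; stated as the proportionality q(α)² ℓ(α) ℓ'(u β) =
q(β)² ℓ(β) ℓ'(u α) of the canonical quadratic forms. -/
theorem result {ι M N ι' M' N' : Type*} [AddCommGroup M] [AddCommGroup N] [AddCommGroup M'] [AddCommGroup N']
    (P : RootPairing ι ℤ M N) (P' : RootPairing ι' ℤ M' N') [Finite ι] [Finite ι'] [Fintype ι] [Fintype ι'] [P.IsReduced] [P'.IsReduced]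
    (hirr : ∀ R₁ : Set ι, RootD.IsClosedSub P R₁ → RootD.IsSymmSub P R₁ → RootD.IsClosedSub P R₁ᶜ →
      RootD.IsSymmSub P R₁ᶜ → R₁ = ∅ ∨ R₁ = Set.univ)
    (hirr' : ∀ R₁ : Set ι', RootD.IsClosedSub P' R₁ → RootD.IsSymmSub P' R₁ → RootD.IsClosedSub P' R₁ᶜ →
      RootD.IsSymmSub P' R₁ᶜ → R₁ = ∅ ∨ R₁ = Set.univ)
    (p : ℕ) (hp : 0 < p) (f : M' →ₗ[ℤ] M) (g : N →ₗ[ℤ] N')
    (hfg : ∀ (m' : M') (n : N), P.toLinearMap (f m') n = P'.toLinearMap m' (g n))
    (u : ι ≃ ι') (q : ι → ℕ) (hq : ∀ i, ∃ e : ℕ, q i = p ^ e)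
    (hroot : ∀ i : ι, f (P'.root (u i)) = (q i : ℤ) • P.root i)
    (hcoroot : ∀ i : ι, g (P.coroot i) = (q i : ℤ) • P'.coroot (u i)) (i j : ι) :
    ((q i : ℤ) ^ 2 * P.RootForm (P.root i) (P.root i)) * P'.RootForm (P'.root (u j)) (P'.root (u j)) =
      ((q j : ℤ) ^ 2 * P.RootForm (P.root j) (P.root j)) * P'.RootForm (P'.root (u i)) (P'.root (u i)) := by
  simp only [Groth.RootData.formInt_eq_rootForm]
  have hq0 : ∀ a, (q a : ℤ) ≠ 0 := fun a ↦ by
    obtain ⟨e, he⟩ := hq a
    rw [he]
    exact_mod_cast (pow_pos hp e).ne'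
  have hpair : ∀ a b, (q a : ℤ) * P.pairing a b = (q b : ℤ) * P'.pairing (u a) (u b) := fun a b ↦ by
    have := hfg (P'.root (u a)) (P.coroot b)
    rw [hroot, hcoroot, map_smul, LinearMap.smul_apply, map_smul, P.root_coroot_eq_pairing,
      P'.root_coroot_eq_pairing, smul_eq_mul, smul_eq_mul] at this
    exact this
  induction Groth.RootData.connected hirr i j with
  | refl => rfl
  | @tail a b _ h ih =>
    have hne := Groth.RootData.not_isOrthogonal_iff.mp h
    rw [Groth.RootData.pI_eq_pairing] at hne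
    have h1 := Groth.RootData.pI_swap (P := P) a b
    have h2 := Groth.RootData.pI_swap (P := P') (u a) (u b)
    simp only [Groth.RootData.pI_eq_pairing] at h1 h2
    have hab := hpair a b
    have hba := hpair b a
    have hA' := (Groth.RootData.formInt_self_pos (P := P') (u a)).ne'
    have hBpos := (Groth.RootData.formInt_self_pos (P := P) a).ne'
    generalize Groth.RootData.formInt P i i = Ai at *
    generalize Groth.RootData.formInt P' (u i) (u i) = Ai' at *
    generalize Groth.RootData.formInt P a a = Aa at *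
    generalize Groth.RootData.formInt P' (u a) (u a) = Aa' at *
    generalize Groth.RootData.formInt P b b = Ab at *
    generalize Groth.RootData.formInt P' (u b) (u b) = Ab' at *
    generalize P.pairing a b = x at *
    generalize P.pairing b a = y at *
    generalize P'.pairing (u a) (u b) = x' at *
    generalize P'.pairing (u b) (u a) = y' at *
    generalize (q i : ℤ) = qi at *
    have hqa := hq0 a
    have hqb := hq0 b
    generalize (q a : ℤ) = qa at *
    generalize (q b : ℤ) = qb at *
    have hx' : x' ≠ 0 := by rintro rfl; simp [hqa] at hab; exact hne hab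
    have key : qa ^ 2 * Aa * Ab' = qb ^ 2 * Ab * Aa' := by
      refine mul_left_cancel₀ hx' ?_
      linear_combination (qa ^ 2 * Aa) * h2 + (qb * Ab * Aa') * hab - (qa * qb * Aa') * h1 - (qa * Aa * Aa') * hba
    refine mul_left_cancel₀ (mul_ne_zero (mul_ne_zero (pow_ne_zero 2 hqa) hBpos) hA') ?_
    linear_combination (qa ^ 2 * Aa * Ab') * ih + (qa ^ 2 * Aa * Ai') * key

end Groth.Agent.S5500
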