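import Groth.Statements.S5501
import Groth.Agent.RootData.Rank

set_option autoImplicit false
universe u v w
open RootD

namespace Groth.Agent.S5501

/-- Adjoint case; the simply connected case is dual: a semisimple root datum R is adjoint if and only if
every isogeny R' → R is an isomorphism. -/
theorem result {ι : Type u} {M : Type v} {N : Type w} [AddCommGroup M] [AddCommGroup N]
    (P : RootPairing ι ℤ M N) [Finite ι] [Module.Finite ℤ M] [Module.Finite ℤ N]
    (hss : Module.finrank ℤ (Submodule.span ℤ (Set.range P.root)) = Module.finrank ℤ M) :
    Submodule.span ℤ (Set.range P.root) = ⊤ ↔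
      ∀ (ι' : Type u) (M' N' : Type v) [AddCommGroup M'] [AddCommGroup N'] [Finite ι']
        [Module.Finite ℤ M'] [Module.Finite ℤ N'] (P' : RootPairing ι' ℤ M' N') (f : RootPairing.Hom P' P),
        Function.Injective f.weightMap → Finite (M ⧸ LinearMap.range f.weightMap) →
          Function.Bijective f.weightMap := by
  constructor
  · intro had ι' M' N' _ _ _ _ _ P' f hinj _
    refine ⟨hinj, fun x ↦ ?_⟩
    have : Submodule.span ℤ (Set.range P.root) ≤ LinearMap.range f.weightMap := by
      refine Submodule.span_le.mpr ?_
      rintro _ ⟨i, rfl⟩
      exact ⟨P'.root (f.indexEquiv.symm i), by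
        rw [RootPairing.Hom.root_weightMap_apply, Equiv.apply_symm_apply]⟩
    exact this (had ▸ Submodule.mem_top)
  · intro h
    set L := Submodule.span ℤ (Set.range P.root) with hL
    have : Module.IsReflexive ℤ M := .of_isPerfPair P.toLinearMap
    have : Module.Finite ℤ L := Module.Finite.span_of_finite ℤ (Set.finite_range P.root)
    have : Module.IsTorsionFree ℤ L := inferInstance
    have : Module.Free ℤ L := Module.free_of_finite_type_torsion_free'
    let r : ι → L := fun k ↦ ⟨P.root k, Submodule.subset_span (Set.mem_range_self k)⟩
    let c : ι → Module.Dual ℤ L := fun k ↦ (P.coroot' k).comp L.subtype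
    have hc : Function.Injective c := fun i j e ↦ by
      refine P.coroot.injective (sub_eq_zero.mp (Groth.RootData.eq_zero_of_forall_coroot' (P := P.flip)
        (sub_mem (Submodule.subset_span (Set.mem_range_self i)) (Submodule.subset_span (Set.mem_range_self j)))
        fun k ↦ ?_))
      rw [map_sub, sub_eq_zero]
      exact LinearMap.congr_fun e (r k)
    let P' : RootPairing ι ℤ L (Module.Dual ℤ L) :=
      { toLinearMap := Module.Dual.eval ℤ L
        root := ⟨r, fun i j e ↦ P.root.injective (congrArg Subtype.val e)⟩
        coroot := ⟨c, hc⟩
        root_coroot_two := fun i ↦ P.root_coroot_two i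
        reflectionPerm := P.reflectionPerm
        reflectionPerm_root := fun i j ↦ Subtype.ext (P.reflectionPerm_root i j)
        reflectionPerm_coroot := fun i j ↦ LinearMap.ext fun x ↦ by
          have := congrArg (P.toLinearMap (x : M)) (P.reflectionPerm_coroot i j)
          rw [map_sub, map_smul] at this
          exact this }
    have hres : ∀ (n : N) (x : L), ((P.toLinearMap.flip n).comp L.subtype) x = P.toLinearMap x n :=
      fun n x ↦ rfl
    let f : RootPairing.Hom P' P :=
      { weightMap := L.subtype
        coweightMap := LinearMap.lcomp ℤ ℤ L.subtype ∘ₗ P.toLinearMap.flip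
        indexEquiv := Equiv.refl ι
        weight_coweight_transpose := by ext n x; rfl
        root_weightMap := rfl
        coroot_coweightMap := rfl }
    have hb := h ι L (Module.Dual ℤ L) P' f L.injective_subtype
      (Groth.RootData.finite_quotient_of_span_le hss (by change _ ≤ LinearMap.range L.subtype; rw [Submodule.range_subtype]))
    refine eq_top_iff.mpr fun x _ ↦ ?_
    obtain ⟨y, rfl⟩ := hb.2 x
    exact y.2

end Groth.Agent.S5501
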