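import Groth.Statements.S5502
import Groth.Agent.RootData.Irred

set_option autoImplicit false
open RootD

namespace Groth.Agent.S5502

/-- If β = Σ_{α ∈ Δ} a_α α along a system of simple roots Δ, then ℓ(β) divides 2 a_α ℓ(α), and 2ℓ(β)
divides it when α^v is indivisible (ℓ the canonical quadratic form). -/
theorem result {ι M N : Type*} [AddCommGroup M] [AddCommGroup N]
    (P : RootPairing ι ℤ M N) [Finite ι] [Fintype ι] (Δ : Set ι) (hΔ : RootD.IsSimpleSys P Δ)
    (k : ι) (c : ι →₀ ℤ) (hc : ↑c.support ⊆ Δ) (hck : Finsupp.linearCombination ℤ P.root c = P.root k)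
    (i : ι) (hi : i ∈ Δ) :
    P.RootForm (P.root k) (P.root k) ∣ 2 * c i * P.RootForm (P.root i) (P.root i) ∧
      (RootD.IsIndiv P.flip i → 2 * P.RootForm (P.root k) (P.root k) ∣ 2 * c i * P.RootForm (P.root i) (P.root i)) := by
  classical
  simp only [Groth.RootData.formInt_eq_rootForm]
  have hN := Groth.RootData.isAddTorsionFree_coweight P
  have hD := Groth.RootData.isSimpleSys_indCoroots hΔ
  set D := {j : ι | ∃ i ∈ Δ, (j = i ∧ RootD.IsIndiv P.flip i) ∨ (2 : ℤ) • P.coroot j = P.coroot i}
  choose jD hjind hj using fun a : ι ↦ Groth.RootData.exists_indiv_coroot (P := P) a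
  have he : ∀ a, ∃ e : ℤ, (e = 1 ∨ e = 2) ∧ P.coroot a = e • P.coroot (jD a) ∧
      (RootD.IsIndiv P.flip a → e = 1) := fun a ↦ by
    rcases hj a with ⟨e, -⟩ | e
    · exact ⟨1, .inl rfl, by rw [one_smul, e], fun _ ↦ rfl⟩
    · refine ⟨2, .inr rfl, e.symm, fun h ↦ ?_⟩
      exact absurd (by rw [two_smul] at e; exact e.symm) (Groth.RootData.isIndiv_iff.mp h (jD a))
  choose e he12 hec heind using he
  have hinj : ∀ a ∈ Δ, ∀ b ∈ Δ, jD a = jD b → a = b := fun a ha b hb h ↦ by
    have h1 : e b • (e a • P.coroot (jD a)) = e a • (e b • P.coroot (jD b)) := by rw [h, smul_comm]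
    rw [← hec, ← hec] at h1
    have hA := Groth.RootData.formInt_root_smul (P := P) a
    have hB := Groth.RootData.formInt_root_smul (P := P) b
    -- proportional coroots give proportional roots
    have h2 := congrArg (fun x ↦ (2 : ℕ) • P.CoPolarization x) h1
    simp only [map_zsmul] at h2
    rw [smul_comm (2 : ℕ) (e b), smul_comm (2 : ℕ) (e a), ← Groth.RootData.formInt_coroot_smul,
      ← Groth.RootData.formInt_coroot_smul, smul_smul, smul_smul] at h2
    rcases Groth.RootData.eq_or_neg_of_indiv (mul_ne_zero (by rcases he12 b with x | x <;> omega)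
      (Groth.RootData.formInt_self_pos (P := P.flip) a).ne') h2
      (Groth.RootData.IsSimpleSys.isIndiv hΔ ha) (Groth.RootData.IsSimpleSys.isIndiv hΔ hb) with x | x
    · exact x
    · exact absurd (Groth.RootData.subset_posOf (P := P) Δ ha)
        (x ▸ (Groth.RootData.IsSimpleSys.isPosSys hΔ).disjoint (Groth.RootData.subset_posOf (P := P) Δ hb))
  obtain ⟨d, hd, hdk⟩ : ∃ d : ι →₀ ℤ, ↑d.support ⊆ D ∧ Finsupp.linearCombination ℤ P.coroot d = P.coroot k := by
    rcases hD.mem_or_neg_mem k with h | h
    · obtain ⟨d, hd, -, hdk⟩ := Groth.RootData.mem_natSpan_exists_int h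
      exact ⟨d, hd, hdk⟩
    · obtain ⟨d, hd, -, hdk⟩ := Groth.RootData.mem_natSpan_exists_int h
      exact ⟨-d, by simpa using hd, by rw [map_neg]; exact neg_eq_iff_eq_neg.mpr hdk⟩
  have hrhs : Finsupp.linearCombination ℤ P.coroot
      (c.sum fun a x ↦ Finsupp.single (jD a) (x * Groth.RootData.formInt P a a * e a)) =
      Groth.RootData.formInt P k k • P.coroot k := by
    rw [Groth.RootData.formInt_root_smul, ← hck, Finsupp.linearCombination_apply ℤ c,
      map_finsuppSum, map_finsuppSum, Finsupp.smul_sum]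
    refine Finsupp.sum_congr fun a _ ↦ ?_
    rw [Finsupp.linearCombination_single, map_zsmul, smul_comm, ← Groth.RootData.formInt_root_smul,
      mul_smul, ← hec, mul_smul]
  have heq := Groth.RootData.eq_of_linearCombination_eq (P := P.flip)
    (Groth.RootData.linIndepOn_int hD.linInd) (c := Groth.RootData.formInt P k k • d)
    (d := c.sum fun a x ↦ Finsupp.single (jD a) (x * Groth.RootData.formInt P a a * e a))
    (fun x hx ↦ hd (Finsupp.support_smul hx))
    (fun x hx ↦ by
      obtain ⟨a, ha, hxa⟩ := Finset.mem_biUnion.mp (Finsupp.support_sum hx)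
      rw [Finset.mem_singleton.mp (Finsupp.support_single_subset hxa)]
      exact ⟨a, hc ha, hj a⟩)
    (by rw [map_smul]; exact (congrArg _ hdk).trans hrhs.symm)
  have hcoef := DFunLike.congr_fun heq (jD i)
  have hsum : (c.sum fun a x ↦ Finsupp.single (jD a) (x * Groth.RootData.formInt P a a * e a)) (jD i) =
      c i * Groth.RootData.formInt P i i * e i := by
    rw [Finsupp.sum_apply, Finsupp.sum_eq_single i]
    · exact Finsupp.single_eq_same
    · intro a ha hai
      exact Finsupp.single_eq_of_ne fun h ↦ hai (hinj a (hc (Finsupp.mem_support_iff.mpr ha)) i hi h.symm)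
    · intro; simp
  rw [hsum, Finsupp.smul_apply, smul_eq_mul] at hcoef
  refine ⟨?_, fun hind ↦ ?_⟩
  · rcases he12 i with h | h <;> rw [h] at hcoef
    · exact ⟨2 * d (jD i), by linear_combination -2 * hcoef⟩
    · exact ⟨d (jD i), by linear_combination -hcoef⟩
  · rw [heind i hind] at hcoef
    exact ⟨d (jD i), by linear_combination -2 * hcoef⟩

end Groth.Agent.S5502
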