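import Groth.Statements.S5506
import Groth.Agent.RootData.Partition

set_option autoImplicit false
open RootD

namespace Groth.Agent.S5506

/-- The class of a root under 'joined by a chain of pairwise non-orthogonal roots' is closed and
symmetric, and so is its complement; these classes are the irreducible components. -/
theorem result {ι M N : Type*} [AddCommGroup M] [AddCommGroup N]
    (P : RootPairing ι ℤ M N) [Finite ι] (i : ι) :
    RootD.IsClosedSub P {j : ι | Relation.ReflTransGen (fun a b : ι => ¬ P.IsOrthogonal a b) i j} ∧
      RootD.IsSymmSub P {j : ι | Relation.ReflTransGen (fun a b : ι => ¬ P.IsOrthogonal a b) i j} ∧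
      RootD.IsClosedSub P {j : ι | Relation.ReflTransGen (fun a b : ι => ¬ P.IsOrthogonal a b) i j}ᶜ ∧
      RootD.IsSymmSub P {j : ι | Relation.ReflTransGen (fun a b : ι => ¬ P.IsOrthogonal a b) i j}ᶜ := by
  exact Groth.RootData.component_closed i

end Groth.Agent.S5506
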