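import Groth.Statements.S5507
import Groth.Agent.RootData.Gram

set_option autoImplicit false
open RootD

namespace Groth.Agent.S5507

/-- For a system of simple roots Δ there are positive integers m_α (the lengths) such that the matrix
(m_α a_{α,β}) with a_{α,β} = (α^v, β) is symmetric and positive definite. -/
theorem result {ι M N : Type*} [AddCommGroup M] [AddCommGroup N]
    (P : RootPairing ι ℤ M N) [Finite ι] (Δ : Finset ι) (hΔ : RootD.IsSimpleSys P (↑Δ : Set ι)) :
    ∃ m : ↥Δ → ℤ, (∀ a, 0 < m a) ∧
      (Matrix.of fun (a b : ↥Δ) => m a * P.pairing (b : ι) (a : ι)).IsSymm ∧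
      (Matrix.of fun (a b : ↥Δ) => m a * P.pairing (b : ι) (a : ι)).PosDef := by
  classical
  let hF : Fintype ι := Fintype.ofFinite ι
  have key : ∀ a b : ι, Groth.RootData.formInt P a a * P.pairing b a = 2 * Groth.RootData.formInt P a b := by
    intro a b
    rw [← Groth.RootData.pI_eq_pairing, Groth.RootData.formInt_comm a b,
      Groth.RootData.two_mul_formInt, mul_comm]
  refine ⟨fun a ↦ Groth.RootData.formInt P (a : ι) (a : ι),
    fun a ↦ Groth.RootData.formInt_self_pos _, ?_, ?_⟩
  · ext a b
    simp only [Matrix.transpose_apply, Matrix.of_apply, key]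
    rw [Groth.RootData.formInt_comm]
  · refine ⟨?_, fun x hx ↦ ?_⟩
    · ext a b
      simp only [Matrix.conjTranspose_apply, Matrix.of_apply, key, star_trivial]
      rw [Groth.RootData.formInt_comm]
    · rw [x.sum_fintype _ (fun i ↦ by simp)]
      simp only [x.sum_fintype _ (fun i ↦ mul_zero _), star_trivial, Matrix.of_apply, key]
      have := Groth.RootData.formInt_quad_pos (P := P) (Groth.RootData.linIndepOn_int hΔ.linInd)
        (x := ⇑x) (fun h ↦ hx (DFunLike.coe_injective h))
      have e : ∀ a b : ↥Δ, x a * (2 * Groth.RootData.formInt P (a : ι) (b : ι)) * x b =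
          2 * (x a * x b * Groth.RootData.formInt P (a : ι) (b : ι)) := fun a b ↦ by ring
      simp only [e, ← Finset.mul_sum]
      omega

end Groth.Agent.S5507
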