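import Groth.Statements.S5582
import Groth.Agent.SitesTopoi.Topos.Presentation

set_option autoImplicit false
open CategoryTheory CategoryTheory.Limits Opposite
universe u
open ToposFin

namespace Groth.Agent.S5582

/-- Equivalence of (i), (ii bis) and (iii), for the topos of sheaves of sets on a small site admitting a
generating family of coherent objects: the coequalizer of every pair of arrows between coherent
objects is coherent if and only if every object X for which Hom(X, -) commutes with small filtered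
colimits is coherent; and every object is a small filtered colimit of coherent objects if and only
if that same condition holds. -/
theorem result {C : Type u} [SmallCategory C]
    {J : GrothendieckTopology C} (hE : ToposFin.HasCoherentGenerators J) :
    ((∀ (X₀ X₁ : ToposFin.Sh J) (a b : X₁ ⟶ X₀), ToposFin.IsCoherent X₀ → ToposFin.IsCoherent X₁ →
        ToposFin.IsCoherent (coequalizer a b)) ↔
      (∀ X : ToposFin.Sh J, ToposFin.IsFP X → ToposFin.IsCoherent X)) ∧
    ((∀ X : ToposFin.Sh J, ∃ (I : Type u) (_ : SmallCategory I) (_ : IsFiltered I) (D : I ⥤ ToposFin.Sh J),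
        (∀ i, ToposFin.IsCoherent (D.obj i)) ∧ Nonempty (X ≅ colimit D)) ↔
      (∀ X : ToposFin.Sh J, ToposFin.IsFP X → ToposFin.IsCoherent X)) := by
  have hgen := Groth.SitesTopoi.Topos.genBy_of_hasCoherentGenerators hE
  refine ⟨⟨fun h X hX => ?_, fun h X₀ X₁ a b h₀ h₁ => ?_⟩, ⟨fun h X hX => ?_, fun h X => ?_⟩⟩
  · obtain ⟨X₀, X₁, a, b, i, p, h₀, h₁, e⟩ := (Groth.SitesTopoi.Topos.isFP_iff_retract hgen X).1 hX
    exact Groth.SitesTopoi.Topos.isCoherent_of_retract e (h X₀ X₁ a b h₀ h₁)
  · exact h _ ((Groth.SitesTopoi.Topos.isFP_iff_retract hgen _).2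
      ⟨X₀, X₁, a, b, 𝟙 _, 𝟙 _, h₀, h₁, Category.comp_id _⟩)
  · obtain ⟨I, _, _, D, hD, ⟨e⟩⟩ := h X
    obtain ⟨k, x, hx⟩ := ((Groth.SitesTopoi.Topos.bijective_post_iff D X).1 (hX I D)).2 e.hom
    exact Groth.SitesTopoi.Topos.isCoherent_of_retract (i := x) (p := colimit.ι D k ≫ e.inv)
      (by rw [← Category.assoc, hx, Iso.hom_inv_id]) (hD k)
  · obtain ⟨I, i₁, i₂, D, c, hc, rfl, hD⟩ := Groth.SitesTopoi.Topos.exists_filtered_presentation hgen X
    refine ⟨I, i₁, i₂, D, fun i => ?_, ⟨hc.coconePointUniqueUpToIso (colimit.isColimit D)⟩⟩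
    obtain ⟨X₀, X₁, a, b, h₀, h₁, ⟨f⟩⟩ := hD i
    exact h _ ((Groth.SitesTopoi.Topos.isFP_iff_retract hgen _).2
      ⟨X₀, X₁, a, b, f.hom, f.inv, h₀, h₁, f.hom_inv_id⟩)

end Groth.Agent.S5582
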