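import Groth.Statements.S5586
import Groth.Agent.SitesTopoi.Topos.InverseImage

set_option autoImplicit false
open CategoryTheory CategoryTheory.Limits Opposite
universe u
open ToposFin

namespace Groth.Agent.S5586

/-- Quasi-separated and coherent cases: for an algebraic topos of sheaves of sets on a small site: let f
: X -> Y be a morphism and (Y_i -> Y) a jointly epimorphic family. If the Y_i are quasi-separated
(resp. coherent), then f is quasi-separated (resp. coherent) if and only if every X x_Y Y_i is a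
quasi-separated (resp. coherent) object. -/
theorem result {C : Type u} [SmallCategory C]
    {J : GrothendieckTopology C} (hE : ToposFin.IsAlgebraic J) {X Y : ToposFin.Sh J} (f : X ⟶ Y)
    {ι : Type u} (Yi : ι → ToposFin.Sh J) (g : ∀ i, Yi i ⟶ Y)
    (hg : ∀ (Z : ToposFin.Sh J) (a b : Y ⟶ Z), (∀ i, g i ≫ a = g i ≫ b) → a = b) :
    ((∀ i, ToposFin.IsQS (Yi i)) → (ToposFin.IsQSHom f ↔ ∀ i, ToposFin.IsQS (pullback f (g i)))) ∧
    ((∀ i, ToposFin.IsCoherent (Yi i)) →
      (ToposFin.IsCohHom f ↔ ∀ i, ToposFin.IsCoherent (pullback f (g i)))) := by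
  have hgen := Groth.SitesTopoi.Topos.genBy_qc_of_algebraic hE
  have hc := Groth.SitesTopoi.Topos.covers_of_ext hg
  refine ⟨fun hY => ⟨fun h i => ?_, fun h => ?_⟩, fun hY => ⟨fun h i => ?_, fun h => ?_⟩⟩
  · exact (Groth.SitesTopoi.Topos.isQS_iff_isQSHom_of_algebraic hE _ (hY i)).2
      (Groth.SitesTopoi.Topos.isQSHom_of_isPullback (IsPullback.of_hasPullback f (g i)) h)
  · exact Groth.SitesTopoi.Topos.isQSHom_of_locally_on_target hgen (fun _ h => h) hc fun i =>
      (Groth.SitesTopoi.Topos.isQS_iff_isQSHom_of_algebraic hE _ (hY i)).1 (h i)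
  · exact (Groth.SitesTopoi.Topos.isCoherent_iff_isCohHom_of_algebraic hE _ (hY i)).2
      ⟨Groth.SitesTopoi.Topos.isQCHom_of_isPullback (IsPullback.of_hasPullback f (g i)) h.1,
        Groth.SitesTopoi.Topos.isQSHom_of_isPullback (IsPullback.of_hasPullback f (g i)) h.2⟩
  · have h' := fun i => (Groth.SitesTopoi.Topos.isCoherent_iff_isCohHom_of_algebraic hE (pullback.snd f (g i)) (hY i)).1 (h i)
    exact ⟨Groth.SitesTopoi.Topos.isQCHom_of_locally_on_target hgen (fun _ h => h) hc fun i => (h' i).1,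
      Groth.SitesTopoi.Topos.isQSHom_of_locally_on_target hgen (fun _ h => h) hc fun i => (h' i).2⟩

end Groth.Agent.S5586
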