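import Groth.Statements.S5588
import Groth.Agent.SitesTopoi.Topos.Presentation

set_option autoImplicit false
open CategoryTheory CategoryTheory.Limits Opposite
universe u
open ToposFin

namespace Groth.Agent.S5588

/-- (ii) implies (i), for the topos of sheaves of sets on a small site: let S be an isomorphism-closed
generating set of quasi-compact objects, stable under finite colimits and under fibre products. Then
S is the set of all coherent objects (so the topos is locally coherent), and every object X for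
which Hom(X, -) commutes with small filtered colimits is coherent. -/
theorem result {C : Type u} [SmallCategory C]
    {J : GrothendieckTopology C} (S : Set (ToposFin.Sh J)) (hqc : ∀ K ∈ S, ToposFin.IsQC K)
    (hiso : ∀ ⦃K L : ToposFin.Sh J⦄, K ∈ S → Nonempty (K ≅ L) → L ∈ S)
    (hgen : ToposFin.IsGenerating S) (hpb : ToposFin.ClosedUnderPullbacks S)
    (hcolim : ∀ (K : Type) [SmallCategory K] [FinCategory K] (D : K ⥤ ToposFin.Sh J),
      (∀ k, D.obj k ∈ S) → colimit D ∈ S) :
    (∀ X : ToposFin.Sh J, X ∈ S ↔ ToposFin.IsCoherent X) ∧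
    (∀ X : ToposFin.Sh J, ToposFin.IsFP X → ToposFin.IsCoherent X) := by
  have hgen' := Groth.SitesTopoi.Topos.genBy_of_isGenerating hgen
  have hcoh : ∀ X, X ∈ S → ToposFin.IsCoherent X := fun X hX =>
    ⟨hqc X hX, Groth.SitesTopoi.Topos.isQS_of_mem hqc hgen' hpb hX⟩
  have hsum : ∀ {ι : Type u} [Finite ι] (K : ι → ToposFin.Sh J), (∀ i, K i ∈ S) → (∐ K) ∈ S := by
    intro ι _ K hK
    let e := Finite.equivFin ι
    refine hiso (hcolim (Discrete (Fin (Nat.card ι))) (Discrete.functor fun k => K (e.symm k))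
      fun k => hK _) ⟨Sigma.whiskerEquiv e.symm fun k => Iso.refl _⟩
  have hcoeq : ∀ (X₀ X₁ : ToposFin.Sh J) (a b : X₁ ⟶ X₀), X₀ ∈ S → X₁ ∈ S → coequalizer a b ∈ S := by
    intro X₀ X₁ a b h₀ h₁
    refine hcolim WalkingParallelPair (parallelPair a b) fun k => ?_
    cases k <;> assumption
  have hiff : ∀ X, X ∈ S ↔ ToposFin.IsCoherent X := by
    refine fun X => ⟨hcoh X, fun hX => ?_⟩
    obtain ⟨ι, ρ, _, _, K, R, a, b, hK, hR, ⟨e⟩⟩ :=
      Groth.SitesTopoi.Topos.exists_finite_presentation hgen' hqc hX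
    exact hiso (hcoeq _ _ a b (hsum K hK) (hsum R hR)) ⟨e.symm⟩
  refine ⟨hiff, fun X hX => ?_⟩
  obtain ⟨X₀, X₁, a, b, i, p, h₀, h₁, e⟩ :=
    (Groth.SitesTopoi.Topos.isFP_iff_retract (hgen'.mono hcoh) X).1 hX
  exact Groth.SitesTopoi.Topos.isCoherent_of_retract e (hcoh _ (hcoeq _ _ a b ((hiff _).2 h₀) ((hiff _).2 h₁)))

end Groth.Agent.S5588
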