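import Groth.Statements.S5592
import Groth.Agent.DescentBase.SepClosedSite

set_option autoImplicit false
open CategoryTheory CategoryTheory.Limits AlgebraicGeometry Opposite
universe u
open EtDesc

namespace Groth.Agent.S5592

/-- Let k' be a separably closed extension field of a separably closed field k and u : Spec k' -> Spec k
the canonical morphism. Then the inverse image functor u^* from etale sheaves of sets on Spec k to
etale sheaves of sets on Spec k' is an equivalence of categories. -/
theorem result (k k' : Type u) [Field k] [IsSepClosed k]
    [Field k'] [IsSepClosed k'] [Algebra k k'] :
    (EtDesc.pullSh (Spec.map (CommRingCat.ofHom (algebraMap k k')))).IsEquivalence := by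
  exact Groth.DescentBase.pullSh_isEquivalence _

end Groth.Agent.S5592
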