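import Groth.Statements.S5599
import Groth.Agent.PCohPunctual.Derived

set_option autoImplicit false
universe w v u
open CategoryTheory CategoryTheory.Limits
open PCoh

namespace Groth.Agent.S5599

open CategoryTheory.Pretriangulated in
/-- Punctual site: let C be an abelian category and C₀ a strictly full additive subcategory,
quasi-stable under kernels of epimorphisms and quasi-liftable; n-pseudo-coherent means isomorphic in
D(C) to a strictly n-pseudo-coherent complex. For a distinguished triangle E ⟶ F ⟶ G ⟶ E⟦1⟧ of D(C):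
if E is (n+1)- and F is n-pseudo-coherent then G is n-pseudo-coherent; if E and G are
n-pseudo-coherent so is F; if F is (n+1)- and G is n-pseudo-coherent then E is
(n+1)-pseudo-coherent. -/
theorem result {C : Type u} [Category.{v} C] [Abelian C] [HasDerivedCategory.{w} C]
    (P : ObjectProperty C) [P.IsClosedUnderIsomorphisms] [P.ContainsZero] (hsum : ∀ X Y : C, P X → P Y → P (X ⨯ Y))
    (hqs : PCoh.IsQuasiStableUnderKernels P) (hql : PCoh.IsQuasiLiftable P)
    (n : ℤ) (T : Triangle (DerivedCategory C)) (hT : T ∈ distinguishedTriangles) :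
    ((∃ E : CochainComplex C ℤ, PCoh.IsStrictPC P (n + 1) E ∧ Nonempty (DerivedCategory.Q.obj E ≅ T.obj₁)) → (∃ E : CochainComplex C ℤ, PCoh.IsStrictPC P n E ∧ Nonempty (DerivedCategory.Q.obj E ≅ T.obj₂)) →
        (∃ E : CochainComplex C ℤ, PCoh.IsStrictPC P n E ∧ Nonempty (DerivedCategory.Q.obj E ≅ T.obj₃))) ∧
      ((∃ E : CochainComplex C ℤ, PCoh.IsStrictPC P n E ∧ Nonempty (DerivedCategory.Q.obj E ≅ T.obj₁)) → (∃ E : CochainComplex C ℤ, PCoh.IsStrictPC P n E ∧ Nonempty (DerivedCategory.Q.obj E ≅ T.obj₃)) →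
        (∃ E : CochainComplex C ℤ, PCoh.IsStrictPC P n E ∧ Nonempty (DerivedCategory.Q.obj E ≅ T.obj₂))) ∧
      ((∃ E : CochainComplex C ℤ, PCoh.IsStrictPC P (n + 1) E ∧ Nonempty (DerivedCategory.Q.obj E ≅ T.obj₂)) → (∃ E : CochainComplex C ℤ, PCoh.IsStrictPC P n E ∧ Nonempty (DerivedCategory.Q.obj E ≅ T.obj₃)) →
        (∃ E : CochainComplex C ℤ, PCoh.IsStrictPC P (n + 1) E ∧ Nonempty (DerivedCategory.Q.obj E ≅ T.obj₁))) := by
  exact ⟨Groth.PCohPunctual.PCn.cone (Groth.PCohPunctual.IsAdditiveSub.mk' hsum) hqs hql hT, Groth.PCohPunctual.PCn.ext (Groth.PCohPunctual.IsAdditiveSub.mk' hsum) hqs hql hT, Groth.PCohPunctual.PCn.fiber (Groth.PCohPunctual.IsAdditiveSub.mk' hsum) hqs hql hT⟩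

end Groth.Agent.S5599
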