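import Groth.Statements.S5600
import Groth.Agent.PCohPunctual.Modify

set_option autoImplicit false
universe w v u
open CategoryTheory CategoryTheory.Limits
open PCoh

namespace Groth.Agent.S5600

/-- Let C be an abelian category, n an integer, and u : E ⟶ F a morphism of cochain complexes of C which
is an n-quasi-isomorphism (an isomorphism on H^i for i > n and an epimorphism on H^n). Then u = v ≫
u' with u' : E' ⟶ F a quasi-isomorphism and v : E ⟶ E' a monomorphism in each degree which is an
isomorphism in every degree ≥ n. (The source obtains v equal to the identity in degrees ≥ n; stated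
here up to isomorphism in those degrees.) -/
theorem result {C : Type u} [Category.{v} C] [Abelian C]
    (n : ℤ) (E F : CochainComplex C ℤ) (u : E ⟶ F)
    (hiso : ∀ i : ℤ, n < i → IsIso (HomologicalComplex.homologyMap u i))
    (hepi : Epi (HomologicalComplex.homologyMap u n)) :
    ∃ (E' : CochainComplex C ℤ) (v : E ⟶ E') (u' : E' ⟶ F), v ≫ u' = u ∧ QuasiIso u' ∧
      (∀ i : ℤ, Mono (v.f i)) ∧ (∀ i : ℤ, n ≤ i → IsIso (v.f i)) := by
  exact Groth.PCohPunctual.exists_qis_factor ⟨hiso, hepi⟩

end Groth.Agent.S5600
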