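import Groth.Statements.S5612
import Groth.Agent.DAlg.TorDim


set_option autoImplicit false
universe u
open CategoryTheory CategoryTheory.Limits
attribute [local instance] HasDerivedCategory.standard
open DRing

namespace Groth.Agent.S5612

/-- Let A be a commutative ring all of whose modules have finite tor dimension (for instance A of finite
global dimension) and K ∈ D(A). (i) K has finite tor dimension if and only if K has bounded
cohomology. (ii) K is perfect if and only if K has bounded cohomology and is pseudo-coherent. -/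
theorem result {A : Type u} [CommRing A]
    (hA : ∀ (M : Type u) [AddCommGroup M] [Module A M], DRing.HasFiniteTorDim A M) (K : Dual.D A) :
    (DRing.HasFiniteTorDimCx A K ↔ ∃ a b : ℤ, ∀ i : ℤ, i < a ∨ b < i → Subsingleton (Dual.HD A K i)) ∧
      (DRing.IsPerfect A K ↔
        (∃ a b : ℤ, ∀ i : ℤ, i < a ∨ b < i → Subsingleton (Dual.HD A K i)) ∧ DRing.IsPseudoCoherent' A K) := by
  have h1 : DRing.HasFiniteTorDimCx A K ↔ ∃ a b : ℤ, ∀ i : ℤ, i < a ∨ b < i → Subsingleton (Dual.HD A K i) := by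
    refine ⟨fun ⟨a, b, h⟩ => ⟨a, b, fun i hi => DAlg.TorAmp.subsingleton_HD h hi⟩, fun ⟨a, b, hK⟩ => ?_⟩
    refine DAlg.bounded_homology_induction (DRing.HasFiniteTorDimCx A)
      (fun X Y e ⟨a, b, h⟩ => ⟨a, b, DAlg.TorAmp.of_iso h e⟩)
      (fun T hT ⟨a, b, h⟩ ⟨a', b', h'⟩ => ⟨min a a', max b b', DAlg.TorAmp.ext hT
        (DAlg.TorAmp.mono h (min_le_left _ _) (le_max_left _ _))
        (DAlg.TorAmp.mono h' (min_le_right _ _) (le_max_right _ _))⟩)
      (fun X hX => ⟨0, 0, DAlg.TorAmp.of_isZero hX 0 0⟩) K a b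
      (fun i hi => ModuleCat.isZero_iff_subsingleton.2 (hK i hi)) fun i => ?_
    obtain ⟨n, hn⟩ := hA (Dual.HD A K i)
    exact ⟨_, _, DAlg.TorAmp.of_iso (DAlg.TorAmp.shift ((DAlg.hasTorDimLE_iff _ n).1 hn) (-i)) (DAlg.singleShift _ i)⟩
  refine ⟨h1, DAlg.isPerfect_iff.trans ?_⟩
  rw [h1, and_comm]

end Groth.Agent.S5612
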