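import Groth.Statements.S5613
import Groth.Agent.KTheory.Basic
import Mathlib.Tactic

set_option autoImplicit false
universe v u
open CategoryTheory CategoryTheory.Limits CategoryTheory.Pretriangulated
open KZero

namespace Groth.Agent.S5613

/-- Let C be a pretriangulated category, L an object of C and n an integer such that the coproduct ∐_{i
≥ 0} L⟦2ni⟧ exists in C. Then cl(L) = 0 in K₀(C). -/
theorem result {C : Type u} [Category.{v} C] [Preadditive C] [HasZeroObject C]
    [HasShift C ℤ] [∀ n : ℤ, (shiftFunctor C n).Additive] [Pretriangulated C]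
    (L : C) (n : ℤ) [HasCoproduct (fun i : ℕ => (shiftFunctor C (2 * n * (i : ℤ))).obj L)] :
    KZero.clTri L = 0 := by
  let f : ℕ → C := fun i => (shiftFunctor C (2 * n * (i : ℤ))).obj L
  let G : C ⥤ C := shiftFunctor C (2 * n)
  let e0 : f 0 ≅ L := (shiftFunctorZero' C (2 * n * ((0 : ℕ) : ℤ)) (by simp)).app L
  let es : ∀ i : ℕ, f (i + 1) ≅ G.obj (f i) := fun i =>
    (shiftFunctorAdd' C (2 * n * (i : ℤ)) (2 * n) (2 * n * ((i + 1 : ℕ) : ℤ))
      (by push_cast; ring)).app L
  let inj : ∀ i : ℕ, f i ⟶ L ⊞ G.obj (∐ f) := fun i => match i with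
    | 0 => e0.hom ≫ biprod.inl
    | i + 1 => (es i).hom ≫ G.map (Sigma.ι f i) ≫ biprod.inr
  have hG : IsColimit (G.mapCocone (Cofan.mk (∐ f) (Sigma.ι f))) :=
    isColimitOfPreserves G (coproductIsCoproduct f)
  have hc : IsColimit (Cofan.mk (L ⊞ G.obj (∐ f)) inj) := by
    refine mkCofanColimit _ (fun s => biprod.desc (e0.inv ≫ s.inj 0)
      (hG.desc ⟨s.pt, Discrete.natTrans fun i => (es i.as).inv ≫ s.inj (i.as + 1)⟩)) ?_ ?_
    · intro s i
      cases i with
      | zero => simp [inj]
      | succ i =>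
        have h := hG.fac ⟨s.pt, Discrete.natTrans fun i => (es i.as).inv ≫ s.inj (i.as + 1)⟩ ⟨i⟩
        simp only [Functor.mapCocone_ι_app, Cofan.mk_ι_app, Discrete.natTrans_app] at h
        simp [inj, h]
    · intro s m hm
      apply biprod.hom_ext'
      · rw [biprod.inl_desc, ← hm 0]; simp [inj]
      · rw [biprod.inr_desc]
        refine hG.uniq ⟨s.pt, Discrete.natTrans fun i => (es i.as).inv ≫ s.inj (i.as + 1)⟩
          (biprod.inr ≫ m) ?_
        rintro ⟨i⟩
        rw [Functor.mapCocone_ι_app, Cofan.mk_ι_app, Discrete.natTrans_app, ← hm (i + 1)]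
        simp [inj]
  have hshift : ∀ (m : ℤ) (X : C), KZero.clTri ((shiftFunctor C (2 * m)).obj X) = KZero.clTri X := by
    have h1 : ∀ (a : ℤ) (X : C), KZero.clTri ((shiftFunctor C (a + 1)).obj X) =
        - KZero.clTri ((shiftFunctor C a).obj X) := fun a X => by
      rw [Groth.KTheory.clTri_iso ((shiftFunctorAdd C a 1).app X)]
      exact Groth.KTheory.clTri_shift _
    have h2 : ∀ (a : ℤ) (X : C), KZero.clTri ((shiftFunctor C (a + 2)).obj X) =
        KZero.clTri ((shiftFunctor C a).obj X) := fun a X => by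
      rw [show a + 2 = a + 1 + 1 by ring, h1, h1, neg_neg]
    intro m X
    induction m using Int.induction_on with
    | zero => exact Groth.KTheory.clTri_iso ((shiftFunctorZero' C (2 * 0 : ℤ) (by simp)).app X)
    | succ i hi => rw [show 2 * ((i : ℤ) + 1) = 2 * i + 2 by ring, h2, hi]
    | pred i hi =>
      rw [← hi, show 2 * (-(i : ℤ)) = 2 * (-(i : ℤ) - 1) + 2 by ring, h2]
  have key := Groth.KTheory.clTri_rel _
    (Pretriangulated.binaryBiproductTriangle_distinguished L (G.obj (∐ f)))
  have he : KZero.clTri (L ⊞ G.obj (∐ f)) = KZero.clTri (∐ f) :=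
    Groth.KTheory.clTri_iso (hc.coconePointUniqueUpToIso (coproductIsCoproduct f))
  change KZero.clTri (L ⊞ G.obj (∐ f)) = KZero.clTri L + KZero.clTri (G.obj (∐ f)) at key
  rw [he, hshift n] at key
  simpa using key

end Groth.Agent.S5613
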