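import Groth.Statements.S5614
import Groth.Agent.KTheory.Basic

set_option autoImplicit false
universe v u
open CategoryTheory CategoryTheory.Limits CategoryTheory.Pretriangulated
open KZero

namespace Groth.Agent.S5614

/-- Let C be a pretriangulated category and S a dense set of objects, meaning that every set of objects
which contains S and which contains the third vertex of a distinguished triangle as soon as it
contains the other two is all of C. Then K₀(C) is generated by the classes of the objects of S. -/
theorem result {C : Type u} [Category.{v} C] [Preadditive C] [HasZeroObject C]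
    [HasShift C ℤ] [∀ n : ℤ, (shiftFunctor C n).Additive] [Pretriangulated C]
    (S : Set C)
    (hdense : ∀ T : Set C, S ⊆ T →
      (∀ tr : Triangle C, tr ∈ distinguishedTriangles →
        (tr.obj₁ ∈ T → tr.obj₂ ∈ T → tr.obj₃ ∈ T) ∧ (tr.obj₁ ∈ T → tr.obj₃ ∈ T → tr.obj₂ ∈ T) ∧
          (tr.obj₂ ∈ T → tr.obj₃ ∈ T → tr.obj₁ ∈ T)) → T = Set.univ) :
    AddSubgroup.closure (KZero.clTri '' S) = (⊤ : AddSubgroup (KZero.K0tri C)) := by
  rw [eq_top_iff]
  intro x hx
  clear hx
  have hT : ∀ X : C, KZero.clTri X ∈ AddSubgroup.closure (KZero.clTri '' S) := by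
    let T : Set C := {X | KZero.clTri X ∈ AddSubgroup.closure (KZero.clTri '' S)}
    suffices hT : T = Set.univ by
      intro X; exact (show X ∈ T by rw [hT]; trivial)
    apply hdense T (fun X hX => AddSubgroup.subset_closure ⟨X, hX, rfl⟩)
    intro tr htr
    have rel := Groth.KTheory.clTri_rel tr htr
    simp only [T, Set.mem_ofPred_eq]
    refine ⟨fun h₁ h₂ => ?_, fun h₁ h₃ => ?_, fun h₂ h₃ => ?_⟩
    · rw [eq_sub_of_add_eq' rel.symm]; exact sub_mem h₂ h₁
    · rw [rel]; exact add_mem h₁ h₃
    · rw [eq_sub_of_add_eq rel.symm]; exact sub_mem h₂ h₃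
  induction x using Groth.KTheory.k0tr_induction with
  | h0 => exact zero_mem _
  | hcl X h => rw [← Groth.KTheory.clTri_eq_clTr]; exact hT X
  | hadd a b ha hb => exact add_mem ha hb
  | hneg a ha => exact neg_mem ha

end Groth.Agent.S5614
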