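import Groth.Statements.S5615
import Groth.Agent.KTheory.Basic

set_option autoImplicit false
universe v u
open CategoryTheory CategoryTheory.Limits
open KZero

namespace Groth.Agent.S5615

/-- Let A be an abelian category and S a dense set of objects, meaning that every set of objects which
contains S and which contains the third term of a short exact sequence as soon as it contains the
other two is all of A. Then K₀(A) is generated by the classes of the objects of S. -/
theorem result {A : Type u} [Category.{v} A] [Abelian A] (S : Set A)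
    (hdense : ∀ T : Set A, S ⊆ T →
      (∀ X : ShortComplex A, X.ShortExact →
        (X.X₁ ∈ T → X.X₂ ∈ T → X.X₃ ∈ T) ∧ (X.X₁ ∈ T → X.X₃ ∈ T → X.X₂ ∈ T) ∧
          (X.X₂ ∈ T → X.X₃ ∈ T → X.X₁ ∈ T)) → T = Set.univ) :
    AddSubgroup.closure (KZero.cl '' S) = (⊤ : AddSubgroup (KZero.K0 A)) := by
  rw [eq_top_iff]
  intro x hx
  clear hx
  have hT : ∀ X : A, KZero.cl X ∈ AddSubgroup.closure (KZero.cl '' S) := by
    let T : Set A := {X | KZero.cl X ∈ AddSubgroup.closure (KZero.cl '' S)}
    suffices hT : T = Set.univ by
      intro X; exact (show X ∈ T by rw [hT]; trivial)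
    apply hdense T (fun X hX => AddSubgroup.subset_closure ⟨X, hX, rfl⟩)
    intro X hX
    have rel := Groth.KTheory.cl_rel X hX
    simp only [T, Set.mem_ofPred_eq]
    refine ⟨fun h₁ h₂ => ?_, fun h₁ h₃ => ?_, fun h₂ h₃ => ?_⟩
    · rw [eq_sub_of_add_eq' rel.symm]; exact sub_mem h₂ h₁
    · rw [rel]; exact add_mem h₁ h₃
    · rw [eq_sub_of_add_eq rel.symm]; exact sub_mem h₂ h₃
  induction x using Groth.KTheory.k0_induction with
  | h0 => exact zero_mem _
  | hcl X  => exact hT X
  | hadd a b ha hb => exact add_mem ha hb
  | hneg a ha => exact neg_mem ha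

end Groth.Agent.S5615
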