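import Groth.Statements.S5616
import Groth.Agent.AbSub.Effaceable

set_option autoImplicit false
universe w w' v v' u u'
open CategoryTheory CategoryTheory.Limits
open CohDer

namespace Groth.Agent.S5616

/-- Let φ : A ⥤ B be an exact functor of abelian categories and M an object of A. The following are
equivalent: (i) for every L in A and every n, the map Ext^n_A(L, M) → Ext^n_B(φ L, φ M) induced by φ
is bijective; (ii) for every L the map Hom_A(L, M) → Hom_B(φ L, φ M) is bijective, and for every L,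
every n ≥ 1 and every x ∈ Ext^n_B(φ L, φ M) there is an epimorphism L' ⟶ L of A such that x
precomposed with its image under φ vanishes. -/
theorem result
    {A : Type u} [Category.{v} A] [Abelian A] [HasExt.{w} A]
    {B : Type u'} [Category.{v'} B] [Abelian B] [HasExt.{w'} B]
    (φ : A ⥤ B) [φ.Additive] [PreservesFiniteLimits φ] [PreservesFiniteColimits φ] (M : A) :
    (∀ (L : A) (n : ℕ), Function.Bijective (fun f : Abelian.Ext.{w} L M n => Abelian.Ext.mapExactFunctor φ f)) ↔
      ((∀ L : A, Function.Bijective (fun f : L ⟶ M => φ.map f)) ∧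
        ∀ (L : A) (n : ℕ), 1 ≤ n → ∀ x : Abelian.Ext.{w'} (φ.obj L) (φ.obj M) n,
          ∃ (L' : A) (p : L' ⟶ L), Epi p ∧ (Abelian.Ext.mk₀ (φ.map p)).comp x (zero_add n) = 0) := by
  constructor
  · intro h
    refine ⟨fun L => ⟨fun f g hfg => ?_, fun g => ?_⟩, fun L n hn x => ?_⟩
    · have : (Abelian.Ext.mk₀ f).mapExactFunctor φ = (Abelian.Ext.mk₀ g).mapExactFunctor φ := by
        rw [Abelian.Ext.mapExactFunctor_mk₀, Abelian.Ext.mapExactFunctor_mk₀]
        exact congrArg _ hfg
      exact (Abelian.Ext.mk₀_bijective L M).1 ((h L 0).1 this)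
    · obtain ⟨y, hy⟩ := (h L 0).2 (Abelian.Ext.mk₀ g)
      obtain ⟨f, rfl⟩ := (Abelian.Ext.mk₀_bijective L M).2 y
      exact ⟨f, (Abelian.Ext.mk₀_bijective _ _).1
        ((Abelian.Ext.mapExactFunctor_mk₀ φ f).symm.trans hy)⟩
    · obtain ⟨y, rfl⟩ := (h L n).2 x
      obtain ⟨L', p, hp, h0⟩ := Groth.Effaceable.exists_epi hn y
      refine ⟨L', p, hp, ?_⟩
      dsimp only
      rw [← Abelian.Ext.mapExactFunctor_mk₀, ← Abelian.Ext.mapExactFunctor_comp, h0,
        Abelian.Ext.mapExactFunctor_zero]
  · rintro ⟨hhom, heff⟩ L n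
    induction n generalizing L with
    | zero =>
      refine ⟨fun a b hab => ?_, fun b => ?_⟩
      · obtain ⟨f, rfl⟩ := (Abelian.Ext.mk₀_bijective L M).2 a
        obtain ⟨g, rfl⟩ := (Abelian.Ext.mk₀_bijective L M).2 b
        simp only [Abelian.Ext.mapExactFunctor_mk₀] at hab
        rw [(hhom L).1 ((Abelian.Ext.mk₀_bijective _ _).1 hab)]
      · obtain ⟨g, rfl⟩ := (Abelian.Ext.mk₀_bijective (φ.obj L) (φ.obj M)).2 b
        obtain ⟨f, rfl⟩ := (hhom L).2 g
        exact ⟨Abelian.Ext.mk₀ f, Abelian.Ext.mapExactFunctor_mk₀ φ f⟩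
    | succ n ih =>
      have ses : ∀ {L' : A} (p : L' ⟶ L), Epi p →
          (ShortComplex.mk (kernel.ι p) p (kernel.condition p)).ShortExact := fun p hp =>
        { exact := ShortComplex.exact_of_f_is_kernel _ (kernelIsKernel p), epi_g := hp }
      refine ⟨?_, fun x => ?_⟩
      · suffices H : ∀ y : Abelian.Ext L M (n + 1), y.mapExactFunctor φ = 0 → y = 0 by
          exact (injective_iff_map_eq_zero (φ.mapExtAddHom L M (n + 1))).2 H
        intro y hy
        obtain ⟨L', p, hp, h0⟩ := Groth.Effaceable.exists_epi (Nat.le_add_left 1 n) y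
        have hS := ses p hp
        obtain ⟨z, rfl⟩ := Abelian.Ext.contravariant_sequence_exact₃ hS M y h0 (add_comm 1 n)
        rw [Abelian.Ext.mapExactFunctor_comp, Abelian.Ext.mapExactFunctor_extClass] at hy
        obtain ⟨w, hw⟩ := Abelian.Ext.contravariant_sequence_exact₁ (hS.map_of_exact φ) (φ.obj M)
          (z.mapExactFunctor φ) (add_comm 1 n) hy
        obtain ⟨w', rfl⟩ := (ih L').2 w
        have hz : (Abelian.Ext.mk₀ (kernel.ι p)).comp w' (zero_add n) = z := by
          apply (ih (kernel p)).1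
          dsimp only
          rw [Abelian.Ext.mapExactFunctor_comp, Abelian.Ext.mapExactFunctor_mk₀]
          exact hw
        rw [← hz]
        exact hS.extClass_comp_assoc w'
      · obtain ⟨L', p, hp, h0⟩ := heff L (n + 1) (Nat.le_add_left 1 n) x
        have hS := ses p hp
        obtain ⟨z, rfl⟩ := Abelian.Ext.contravariant_sequence_exact₃ (hS.map_of_exact φ) (φ.obj M) x h0
          (add_comm 1 n)
        obtain ⟨z', hz'⟩ := (ih (kernel p)).2 z
        refine ⟨hS.extClass.comp z' (add_comm 1 n), ?_⟩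
        dsimp only at hz' ⊢
        rw [Abelian.Ext.mapExactFunctor_comp, Abelian.Ext.mapExactFunctor_extClass, hz']
        rfl

end Groth.Agent.S5616
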