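import Groth.Statements.S5618
import Groth.Agent.PCohPunctual.Infinite

set_option autoImplicit false
universe w v u
open CategoryTheory CategoryTheory.Limits
open PCoh

namespace Groth.Agent.S5618

/-- Second assertion (punctual site): let C be an abelian category and C₀ a strictly full additive
subcategory, quasi-stable under kernels of epimorphisms and quasi-liftable. If F ∈ D(C) is
pseudo-coherent and acyclic in degrees ≥ m, then F is isomorphic in D(C) to a strictly
pseudo-coherent complex E (all terms in C₀) with E^i = 0 for i ≥ m. -/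
theorem result {C : Type u} [Category.{v} C] [Abelian C] [HasDerivedCategory.{w} C]
    (P : ObjectProperty C) [P.IsClosedUnderIsomorphisms] [P.ContainsZero] (hsum : ∀ X Y : C, P X → P Y → P (X ⨯ Y))
    (hqs : PCoh.IsQuasiStableUnderKernels P) (hql : PCoh.IsQuasiLiftable P)
    (m : ℤ) (F : DerivedCategory C) (hF : PCoh.IsPC P F)
    (hac : ∀ i : ℤ, m ≤ i → IsZero ((DerivedCategory.homologyFunctor C i).obj F)) :
    ∃ E : CochainComplex C ℤ, (∀ i : ℤ, P (E.X i)) ∧ (∀ i : ℤ, m ≤ i → IsZero (E.X i)) ∧
      Nonempty (DerivedCategory.Q.obj E ≅ F) := by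
  exact Groth.PCohPunctual.exists_all_vanishing_above (Groth.PCohPunctual.IsAdditiveSub.mk' hsum) hqs hql m hF hac

end Groth.Agent.S5618
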