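import Groth.Statements.S5620
import Groth.Agent.PCohPunctual.Devissage

set_option autoImplicit false
universe w v u w' v' u'
open CategoryTheory CategoryTheory.Limits
open PCoh

namespace Groth.Agent.S5620

/-- Let (C, C₀) and (C', C₀') be abelian categories with strictly full additive subcategories, each
quasi-stable under kernels of epimorphisms and quasi-liftable, and let u : D(C) ⥤ D(C') be a
triangulated functor. Suppose there are integers a, b such that (i) for every E in C₀ the object
u(E[0]) is a-pseudo-coherent relative to C₀', and (ii) u sends objects acyclic in degrees > 0 to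
objects acyclic in degrees > b. Then if F ∈ D(C) is m-pseudo-coherent and acyclic in degrees > n,
u(F) is max(m + b, n + a)-pseudo-coherent relative to C₀' and acyclic in degrees > n + b. (The
source lets u be defined on D^+, D^- or D^b; here u is defined on all of D(C).) -/
theorem result {C : Type u} [Category.{v} C] [Abelian C] [HasDerivedCategory.{w} C]
    (P : ObjectProperty C) [P.IsClosedUnderIsomorphisms] [P.ContainsZero] (hsum : ∀ X Y : C, P X → P Y → P (X ⨯ Y))
    (hqs : PCoh.IsQuasiStableUnderKernels P) (hql : PCoh.IsQuasiLiftable P)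
    {C' : Type u'} [Category.{v'} C'] [Abelian C'] [HasDerivedCategory.{w'} C']
    (P' : ObjectProperty C') [P'.IsClosedUnderIsomorphisms] [P'.ContainsZero] (hsum' : ∀ X Y : C', P' X → P' Y → P' (X ⨯ Y))
    (hqs' : PCoh.IsQuasiStableUnderKernels P') (hql' : PCoh.IsQuasiLiftable P')
    (u : DerivedCategory C ⥤ DerivedCategory C') [u.CommShift ℤ] [u.IsTriangulated] (a b : ℤ)
    (hi : ∀ E : C, P E → ∃ E' : CochainComplex C' ℤ, PCoh.IsStrictPC P' a E' ∧
      Nonempty (DerivedCategory.Q.obj E' ≅ u.obj ((DerivedCategory.singleFunctor C 0).obj E)))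
    (hii : ∀ F : DerivedCategory C, (∀ i : ℤ, 0 < i → IsZero ((DerivedCategory.homologyFunctor C i).obj F)) →
      ∀ i : ℤ, b < i → IsZero ((DerivedCategory.homologyFunctor C' i).obj (u.obj F)))
    (m n : ℤ) (F : DerivedCategory C) (hF : (∃ E : CochainComplex C ℤ, PCoh.IsStrictPC P m E ∧ Nonempty (DerivedCategory.Q.obj E ≅ F)))
    (hac : ∀ i : ℤ, n < i → IsZero ((DerivedCategory.homologyFunctor C i).obj F)) :
    (∃ E' : CochainComplex C' ℤ, PCoh.IsStrictPC P' (max (m + b) (n + a)) E' ∧ Nonempty (DerivedCategory.Q.obj E' ≅ u.obj F)) ∧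
      ∀ i : ℤ, n + b < i → IsZero ((DerivedCategory.homologyFunctor C' i).obj (u.obj F)) := by
  exact Groth.PCohPunctual.pcn_map (Groth.PCohPunctual.IsAdditiveSub.mk' hsum) hqs hql (Groth.PCohPunctual.IsAdditiveSub.mk' hsum') hqs' hql' u a b hi hii m n F hF hac

end Groth.Agent.S5620
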