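import Groth.Statements.S5621
import Groth.Agent.PCohPunctual.Perfect

set_option autoImplicit false
universe w v u
open CategoryTheory CategoryTheory.Limits
open PCoh

namespace Groth.Agent.S5621

/-- Let C be an abelian category and C₀ a strictly full additive subcategory, liftable and stable under
kernels of epimorphisms. Let a ≤ b and let F be a complex with F^i = 0 for i outside [a, b], of
perfect amplitude in [a, b] (isomorphic in D(C) to a strictly perfect complex vanishing outside [a,
b]), and with F^i in C₀ for i > a. Then F^a lies in C₀. -/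
theorem result {C : Type u} [Category.{v} C] [Abelian C] [HasDerivedCategory.{w} C]
    (P : ObjectProperty C) [P.IsClosedUnderIsomorphisms] [P.ContainsZero] (hsum : ∀ X Y : C, P X → P Y → P (X ⨯ Y))
    (hlift : ∀ (E F : C) (u : E ⟶ F), Epi u → P F → IsSplitEpi u)
    (hst : ∀ (E F : C) (u : E ⟶ F), Epi u → P E → P F → P (kernel u))
    (a b : ℤ) (hab : a ≤ b) (F : CochainComplex C ℤ)
    (hvan : ∀ i : ℤ, i < a ∨ b < i → IsZero (F.X i)) (hP : ∀ i : ℤ, a < i → P (F.X i))
    (hamp : (∃ E : CochainComplex C ℤ, (∀ i : ℤ, P (E.X i)) ∧ (∀ i : ℤ, i < a ∨ b < i → IsZero (E.X i)) ∧ Nonempty (DerivedCategory.Q.obj E ≅ DerivedCategory.Q.obj F))) :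
    P (F.X a) := by
  exact Groth.PCohPunctual.prop_first_term (Groth.PCohPunctual.IsAdditiveSub.mk' hsum) hlift hst a b hab F hvan hP hamp

end Groth.Agent.S5621
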