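import Groth.Statements.S5624
import Groth.Agent.PCohPunctual.Basic

set_option autoImplicit false
universe v u
open CategoryTheory CategoryTheory.Limits
open PCoh

namespace Groth.Agent.S5624

/-- Punctual site: let C be an abelian category and C₀ a strictly full additive subcategory,
quasi-liftable in C, and let 0 → F → G → H → 0 be a short exact sequence. If F and H are precoherent
relative to C₀ then G is precoherent; if F and H are of C₀-finite type then G is of C₀-finite type. -/
theorem result {C : Type u} [Category.{v} C] [Abelian C]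
    (P : ObjectProperty C) [P.IsClosedUnderIsomorphisms] [P.ContainsZero] (hsum : ∀ X Y : C, P X → P Y → P (X ⨯ Y))
    (hql : PCoh.IsQuasiLiftable P)
    (S : ShortComplex C) (hS : S.ShortExact) :
    ((∀ (E : C) (u : E ⟶ S.X₁), P E → PCoh.IsOfFiniteType P (kernel u)) → (∀ (E : C) (u : E ⟶ S.X₃), P E → PCoh.IsOfFiniteType P (kernel u)) →
        (∀ (E : C) (u : E ⟶ S.X₂), P E → PCoh.IsOfFiniteType P (kernel u))) ∧
      (PCoh.IsOfFiniteType P S.X₁ → PCoh.IsOfFiniteType P S.X₃ → PCoh.IsOfFiniteType P S.X₂) := by
  haveI := hS.epi_g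
  exact ⟨Groth.PCohPunctual.precoherent_of_shortExact hS,
    Groth.PCohPunctual.ft_of_exact (Groth.PCohPunctual.IsAdditiveSub.mk' hsum) hql hS.exact⟩

end Groth.Agent.S5624
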