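import Groth.Statements.S5626
import Groth.Agent.LocFree.Affine
import Groth.Agent.QCohMod.Category
import Groth.Agent.LocFree.Basic

set_option autoImplicit false
universe u
open CategoryTheory CategoryTheory.Limits AlgebraicGeometry
open FlatMod

namespace Groth.Agent.S5626

/-- For the Zariski topos of a scheme (a special case of both hypotheses (i) and (ii) there): on a
scheme X, a direct summand of a finite free O_X-module is finite locally free. Here M is a direct
summand of O_X^n in the sense that M ⊞ N ≅ O_X^n for some module N. -/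
theorem result {X : Scheme.{u}} (M N : X.Modules) [HasBinaryBiproduct M N] (n : ℕ)
    (e : M ⊞ N ≅ FlatMod.freeMod X n) :
    FlatMod.IsFinLocFree M := by
  let i : M ⟶ FlatMod.freeMod X n := biprod.inl ≫ e.hom
  let q : FlatMod.freeMod X n ⟶ M := e.inv ≫ biprod.fst
  have hiq : i ≫ q = 𝟙 M := by simp [i, q]
  have hF := Groth.LocFree.isFinLocFree_freeMod X n
  haveI : (FlatMod.freeMod X n).IsQuasicoherent := (Groth.LocFree.isFinLocFree_iff_affine.mp hF).1
  have hc : (𝟙 (FlatMod.freeMod X n) - q ≫ i) ≫ q = 0 := by
    rw [Preadditive.sub_comp, Category.assoc, hiq, Category.id_comp, Category.comp_id, sub_self]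
  let hlim : IsColimit (CokernelCofork.ofπ q hc) :=
    Cofork.IsColimit.mk _ (fun s => i ≫ s.π)
      (fun s => by
        have h := s.condition
        rw [zero_comp, Preadditive.sub_comp, Category.id_comp, sub_eq_zero] at h
        simpa using h.symm)
      (fun s m hm => by
        rw [← hm, Cofork.π_ofπ]
        simp [reassoc_of% hiq])
  haveI : M.IsQuasicoherent := (Groth.QCohMod.isQCoh_iff_of_iso
    (IsColimit.coconePointUniqueUpToIso (colimit.isColimit _) hlim)).mp
    (Groth.QCohMod.isQCoh_cokernel (𝟙 (FlatMod.freeMod X n) - q ≫ i))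
  rw [Groth.LocFree.isFinLocFree_iff_affine]
  refine ⟨inferInstance, fun U hU => ?_⟩
  obtain ⟨h1, h2⟩ := (Groth.LocFree.isFinLocFree_iff_affine.mp hF).2 U hU
  let il : Γ(M, U) →ₗ[Γ(X, U)] Γ(FlatMod.freeMod X n, U) :=
    { toFun := i.app U, map_add' := map_add _,
      map_smul' := fun r x => Scheme.Modules.Hom.app_smul i r x }
  let ql : Γ(FlatMod.freeMod X n, U) →ₗ[Γ(X, U)] Γ(M, U) :=
    { toFun := q.app U, map_add' := map_add _,
      map_smul' := fun r x => Scheme.Modules.Hom.app_smul q r x }
  have hql : ql.comp il = LinearMap.id := LinearMap.ext fun x => by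
    change q.app U (i.app U x) = x
    rw [← ConcreteCategory.comp_apply, ← Scheme.Modules.Hom.comp_app, hiq]
    rfl
  exact ⟨Module.Finite.of_surjective ql fun x => ⟨il x, LinearMap.congr_fun hql x⟩,
    Module.Projective.of_split il ql hql⟩

end Groth.Agent.S5626
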