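import Groth.Statements.S5628
import Groth.Agent.PCohPunctual.Modify

set_option autoImplicit false
universe v u
open CategoryTheory CategoryTheory.Limits
open PCoh

namespace Groth.Agent.S5628

/-- Let C be an abelian category and C₀ a strictly full additive subcategory which is quasi-liftable in
C. Let u : E ⟶ F be an (n+1)-quasi-isomorphism of cochain complexes (isomorphism on H^i for i > n+1,
epimorphism on H^{n+1}) such that H^n of the mapping cone of u is of C₀-finite type. Then, modifying
E in degree n only by adding an object of C₀, u becomes an n-quasi-isomorphism: u = v ≫ u' with v :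
E ⟶ E' a monomorphism in each degree, an isomorphism in every degree ≠ n, with cokernel in degree n
an object of C₀, and u' : E' ⟶ F an isomorphism on H^i for i > n and an epimorphism on H^n. -/
theorem result {C : Type u} [Category.{v} C] [Abelian C]
    (P : ObjectProperty C) [P.IsClosedUnderIsomorphisms] [P.ContainsZero] (hsum : ∀ X Y : C, P X → P Y → P (X ⨯ Y))
    (hql : PCoh.IsQuasiLiftable P)
    (n : ℤ) (E F : CochainComplex C ℤ) (u : E ⟶ F)
    (hiso : ∀ i : ℤ, n + 1 < i → IsIso (HomologicalComplex.homologyMap u i))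
    (hepi : Epi (HomologicalComplex.homologyMap u (n + 1)))
    (hcone : PCoh.IsOfFiniteType P ((CochainComplex.mappingCone u).homology n)) :
    ∃ (E' : CochainComplex C ℤ) (v : E ⟶ E') (u' : E' ⟶ F), v ≫ u' = u ∧ (∀ i : ℤ, Mono (v.f i)) ∧
      (∀ i : ℤ, i ≠ n → IsIso (v.f i)) ∧ P (cokernel (v.f n)) ∧
      (∀ i : ℤ, n < i → IsIso (HomologicalComplex.homologyMap u' i)) ∧
      Epi (HomologicalComplex.homologyMap u' n) := by
  obtain ⟨E', v, u', h₁, h₂, h₃, h₄, -, h₅⟩ :=
    Groth.PCohPunctual.exists_step (Groth.PCohPunctual.IsAdditiveSub.mk' hsum) hql ⟨hiso, hepi⟩ hcone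
  exact ⟨E', v, u', h₁, h₂, h₃, h₄, h₅.1, h₅.2⟩

end Groth.Agent.S5628
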