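import Groth.Statements.S5629
import Groth.Agent.DerivedCoh.RelPerfectFibre
import Groth.Agent.DerivedCoh.PerfPush.OpenSupp
import Groth.Agent.DAlg.FreeLocusAmp
import Groth.Agent.S1105
import Groth.Agent.S1055
import Groth.Agent.DerivedCoh.PCohDescent.Main

set_option autoImplicit false
set_option linter.style.haveILetI false
universe u
open CategoryTheory CategoryTheory.Limits AlgebraicGeometry Opposite
attribute [local instance] HasDerivedCategory.standard
open KSix

namespace Groth.Agent.S5629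

open scoped TensorProduct
open HomologicalComplex Groth.DAlg Groth.FlatCxBase in
theorem torAmp_atPrime_of_residue {B : Type u} [CommRing B] (F : DRing.Cx B) {N : ℤ}
    (hB : DRing.VanishesAbove F N) (hF : DRing.TermwiseFiniteProjective F) (y : PrimeSpectrum B) (a : ℤ)
    (h : ∀ i < a, IsZero ((extCx (algebraMap B y.asIdeal.ResidueField) F).homology i)) :
    DRing.HasTorAmplitudeIn (Localization.AtPrime y.asIdeal) a N
      (DRing.toD (extCx (algebraMap B (Localization.AtPrime y.asIdeal)) F)) := by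
  let T := Localization.AtPrime y.asIdeal
  let G := extCx (algebraMap B T) F
  haveI : ∀ i, Module.Finite B (F.X i) := fun i => (hF i).1
  haveI : ∀ i, Module.Projective B (F.X i) := fun i => (hF i).2
  have hGF : DRing.TermwiseFiniteProjective G := fun i => ⟨inferInstance, inferInstance⟩
  have hGb : DRing.VanishesAbove G N := fun i hi => (ModuleCat.extendScalars _).map_isZero (hB i hi)
  refine torAmp_of_forall_tensor G hGb (termwiseFlat_of_finProj G hGF) (Iso.refl _) fun M i hi => ?_
  rcases hi with hi | hi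
  · refine isZero_tensor_of_forall_maximal G hGF i (fun m hm => ?_) M
    haveI : Module.Projective T (G.X (i + 1)) := (hGF (i + 1)).2
    obtain ⟨r, hr⟩ := exists_retraction_mod (S := IsLocalRing.ResidueField T) G (i := i - 1)
      IsLocalRing.residue_surjective (by omega) (rfl : i + 1 = i + 1)
      ((isZero_extCx_residue_iff (P := B) (T := T) (κ := y.asIdeal.ResidueField) F i).2 (h i hi))
    refine ⟨r, fun x => Submodule.smul_mono_left ?_ (hr x)⟩
    rw [show algebraMap T (IsLocalRing.ResidueField T) = IsLocalRing.residue T from rfl,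
      IsLocalRing.ker_residue, IsLocalRing.eq_maximalIdeal hm]
  · exact isZero_homology_of_isZero_X (isZero_tensorCx_X (hGb i hi) M)


/-- Last assertion (criterion of perfection by fibres): let f : X ⟶ S be flat and locally of finite
presentation and E ∈ D⁻(O_X). Then E is perfect if and only if E is perfect relative to f and, for
every s ∈ S, the derived pullback E_{X_s} = Li_s^* E to the fibre is perfect. Since f is flat and
locally of finite presentation, "perfect relative to f" is written as: pseudo-coherent and locally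
of finite tor dimension relative to S (locally represented by bounded complexes of S-flat modules).
The derived pullbacks to the fibres are taken under their existence binders. -/
theorem result {X S : Scheme.{u}} (f : X ⟶ S) [Flat f] [LocallyOfFinitePresentation f]
    [∀ s : S, DCoh.HasLpull (f.fiberι s)]
    (E : DCoh.D X) (b : ℤ) [E.IsLE b] :
    DCoh.IsPerfect E ↔
      ((∀ m : ℤ, DCoh.IsPseudoCoherentD m E) ∧ DCoh.LocHasFiniteRelTorDim f E ∧
        ∀ s : S, DCoh.IsPerfect ((DCoh.Lpull (f.fiberι s)).obj E)) := by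
  open Groth.DerivedCoh Groth.DerivedCoh.PCoh Groth.DAlg in
  constructor
  · intro h
    obtain ⟨hpc, htd⟩ := (isPerfect_iff_pseudoCoherent E).1 h
    refine ⟨hpc, fun x => ?_, fun s => isPerfect_Lpull _ h⟩
    obtain ⟨V, a, b, hx, hV⟩ := htd x
    refine ⟨V, a, b, hx, fun F hF => ?_⟩
    obtain ⟨C, h0, hfl, e⟩ := hV F hF
    exact ⟨C, h0, fun i => RelAmp.isFlatOver_of_isFlat (hfl i), e⟩
  rintro ⟨hpc, htd, hfib⟩
  haveI : ∀ B : CommRingCat.{u}, PreservesFiniteLimits (tilde.functor B) := fun B =>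
    Groth.PropsBasic2.preservesFiniteLimits_tilde B
  have hbd := fun x => RelPerfectFibre.exists_isGE_of_locAmp ((RelAmp.locHasFiniteRelTorDim_iff _).1 htd) x
  refine Groth.DerivedCoh.PerfPush.isPerfect_of_local E fun x => ?_
  obtain ⟨V, hV, hxV, -⟩ := exists_isAffineOpen_mem_and_subset (U := (⊤ : S.Opens)) (x := f x) trivial
  obtain ⟨O, hO, hxO, hOV⟩ := exists_isAffineOpen_mem_and_subset (U := f ⁻¹ᵁ V) (x := x) hxV
  refine ⟨O, hxO, ?_⟩
  obtain ⟨cO⟩ := Groth.KTheory.Perf.nonempty_rdComp (k := hO.isoSpec.hom) (j := hO.fromSpec) (l := O.ι)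
    (by rw [hO.isoSpec_hom, ← hO.toSpecΓ_fromSpec]) E
  refine Groth.KTheory.Perf.isPerfect_of_iso cO.symm (PCohDescent.isPerfect_rd _ ?_)
  letI := (f.appLE V O hOV).hom.toAlgebra
  obtain ⟨M, ⟨eM⟩⟩ := ((Groth.Agent.S0997.result Γ(X, O)).2.2 _).1
    (Groth.Misc4.QCohDPerf.isQCohD_restrict hO.fromSpec (RelPerfectBC.isQCohD_of_pc hpc))
  have hpcM : DRing.IsPseudoCoherent' Γ(X, O) M := isPseudoCoherent'_iff_forall.2 fun m =>
    (TildeD.isPseudoCoherentD_tildeD_iff (A := Γ(X, O)) M m).1
      (isPseudoCoherentD_of_iso eM.symm (RelPerfectAffine.isPseudoCoherentD_rd _ (hpc m)))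
  refine Groth.KTheory.Perf.isPerfect_of_iso eM ((Groth.Agent.S1105.result Γ(X, O) M).2 ?_)
  obtain ⟨F, N, hN, hFF, ⟨e⟩⟩ := id hpcM
  have hF : DRing.TermwiseFiniteProjective F := fun i => ⟨(hFF i).1, haveI := (hFF i).2; inferInstance⟩
  obtain ⟨a₀, ha₀⟩ := RelPerfectFibre.exists_bound hO.fromSpec fun z => hbd (hO.fromSpec z)
  have hz : ∀ i < a₀, IsZero (F.homology i) := fun i hi => isZero_homology_of_subsingleton (by
    haveI : Subsingleton (Dual.HD Γ(X, O) M i) := ModuleCat.subsingleton_of_isZero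
      ((TildeD.isZero_HD_iff (A := Γ(X, O)) M i).1
        ((ha₀ i hi).of_iso ((DerivedCategory.homologyFunctor _ i).mapIso eM)))
    exact (HDCongr e i).toEquiv.subsingleton)
  obtain ⟨a, ha⟩ := exists_torAmp_of_forall_prime F hN hF a₀ hz fun y => by
    let p : PrimeSpectrum Γ(S, V) := PrimeSpectrum.comap (algebraMap Γ(S, V) Γ(X, O)) y
    let R' : Type u := p.asIdeal.ResidueField
    let q₀ : Spec Γ(S, V) := p
    let s := hV.fromSpec q₀
    let i' : Spec (CommRingCat.of R') ⟶ Spec (S.residueField s) :=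
      Spec.map (Scheme.Spec.residueFieldIso Γ(S, V) p).hom ≫ Spec.map (hV.fromSpec.residueFieldMap q₀)
    haveI : IsOpenImmersion i' := inferInstanceAs (IsOpenImmersion (_ ≫ _))
    have eψ : Spec.map (CommRingCat.ofHom (algebraMap Γ(S, V) R')) ≫ hV.fromSpec =
        i' ≫ S.fromSpecResidueField s := by
      simp only [i', Category.assoc]
      rw [Scheme.Hom.SpecMap_residueFieldMap_fromSpecResidueField,
        ← Scheme.Spec.map_residueFieldIso_inv_eq_fromSpecResidueField, ← Category.assoc,
        ← Category.assoc, ← Spec.map_comp]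
      simp
      rfl
    haveI : DCoh.HasLpull (pullback.fst f (S.fromSpecResidueField s)) :=
      (inferInstance : DCoh.HasLpull (f.fiberι s))
    obtain ⟨h, _, -, h₁⟩ := RelPerfectFibre.exists_bc_chart f (S.fromSpecResidueField s) hV hO hOV R' i' eψ
    let incR : Γ(X, O) →+* R' ⊗[Γ(S, V)] Γ(X, O) := (Algebra.TensorProduct.includeRight :
      Γ(X, O) →ₐ[Γ(S, V)] R' ⊗[Γ(S, V)] Γ(X, O)).toRingHom
    haveI : DCoh.HasLpull (Spec.map (CommRingCat.ofHom incR)) := KFlat.hasLpull _
    haveI := hasLBaseChange incR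
    obtain ⟨eB⟩ := Groth.Agent.S1055.result incR
    obtain ⟨eSq⟩ := RelPerfectBC.nonempty_rd_Lpull_square (pullback.fst f (S.fromSpecResidueField s)) h
      hO.fromSpec (Spec.map (CommRingCat.ofHom incR)) h₁ E
    have hperf : DRing.IsPerfect (R' ⊗[Γ(S, V)] Γ(X, O)) ((DRing.LBaseChange incR).obj M) :=
      (Groth.Agent.S1105.result (R' ⊗[Γ(S, V)] Γ(X, O)) _).1 (Groth.KTheory.Perf.isPerfect_of_iso
        (eSq ≪≫ ((eB.app M) ≪≫ (DCoh.Lpull _).mapIso eM).symm) (PCohDescent.isPerfect_rd h (hfib s)))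
    obtain ⟨-, c, d, hamp⟩ := Groth.DAlg.isPerfect_iff.1 hperf
    letI : Algebra R' y.asIdeal.ResidueField :=
      (Ideal.ResidueField.map p.asIdeal y.asIdeal (algebraMap Γ(S, V) Γ(X, O)) rfl).toAlgebra
    haveI : IsScalarTower Γ(S, V) R' y.asIdeal.ResidueField := IsScalarTower.of_algebraMap_eq fun r => by
      rw [RingHom.algebraMap_toAlgebra]
      simp [R', IsScalarTower.algebraMap_apply Γ(S, V) Γ(X, O) y.asIdeal.ResidueField]
    let ν : R' ⊗[Γ(S, V)] Γ(X, O) →ₐ[Γ(S, V)] y.asIdeal.ResidueField :=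
      Algebra.TensorProduct.lift (IsScalarTower.toAlgHom Γ(S, V) R' y.asIdeal.ResidueField)
        (IsScalarTower.toAlgHom Γ(S, V) Γ(X, O) y.asIdeal.ResidueField) fun _ _ => .all _ _
    have hν : ν.toRingHom.comp incR = algebraMap Γ(X, O) y.asIdeal.ResidueField :=
      RingHom.ext fun z => by simp [ν, incR]
    haveI := hasLBaseChange ν.toRingHom
    haveI := hasLBaseChange (algebraMap Γ(X, O) y.asIdeal.ResidueField)
    obtain ⟨e₁⟩ := nonempty_lBaseChangeFlatIso incR F hN (termwiseFlat_of_finProj F hF)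
    obtain ⟨e₂⟩ := nonempty_lBaseChangeFlatIso ν.toRingHom (extCx incR F) (b := N)
      (fun j hj => (ModuleCat.extendScalars _).map_isZero (hN j hj))
      (termwiseFlat_extCx _ (termwiseFlat_of_finProj F hF))
    let e₃ : extCx ν.toRingHom (extCx incR F) ≅ extCx (algebraMap Γ(X, O) y.asIdeal.ResidueField) F :=
      (Functor.mapHomologicalComplexCompIso ((ModuleCat.extendScalarsComp incR ν.toRingHom).symm ≪≫
        eqToIso (congrArg ModuleCat.extendScalars.{u, u, u} hν)) (ComplexShape.up ℤ)).app F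
    have hampk := TorAmp.of_iso (TorAmp.baseChange ν.toRingHom
      (TorAmp.of_iso hamp ((DRing.LBaseChange incR).mapIso e.symm ≪≫ e₁)))
      (e₂ ≪≫ DerivedCategory.Q.mapIso e₃)
    exact ⟨c, torAmp_atPrime_of_residue F hN hF y c fun i hi =>
      isZero_homology_of_subsingleton (TorAmp.subsingleton_HD hampk (Or.inl hi))⟩
  exact Groth.DAlg.isPerfect_iff.2 ⟨hpcM, a, N, TorAmp.of_iso ha e⟩

end Groth.Agent.S5629
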