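import Groth.Statements.S5630
import Groth.Agent.DerivedCoh.RelAmp.PushAmp

set_option autoImplicit false
set_option linter.style.haveILetI false
universe u
open CategoryTheory CategoryTheory.Limits AlgebraicGeometry
attribute [local instance] HasDerivedCategory.standard
open KSix

namespace Groth.Agent.S5630

/-- Over the base S = Y and for f flat: let f : X ⟶ Y be flat, quasi-compact and quasi-separated with Y
quasi-compact, and let N be an integer such that R^i f_* F = 0 for all i > N and all quasi-coherent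
O_X-modules F. If E ∈ D^b(O_X) has quasi-coherent cohomology and flat amplitude in [a, b] relative
to Y (represented by a complex of Y-flat modules placed in [a, b]), then Rf_* E has tor amplitude in
[a, b + N] on Y. (The source allows any S-morphism f and tor amplitude relative to S; the relative
notion used here is the flat-representative one, adequate for flat f.) -/
theorem result {X Y : Scheme.{u}} (f : X ⟶ Y) [Flat f] [QuasiCompact f] [QuasiSeparated f]
    [CompactSpace Y] [DCoh.HasRpush f] (N : ℕ)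
    (hN : ∀ (F : X.Modules), QCohCat.isQCoh X F →
      ∀ i : ℤ, (N : ℤ) < i → IsZero (DCoh.HD ((DCoh.Rpush f).obj (DCoh.inD X F)) i))
    (E : DCoh.D X) (hqc : DCoh.IsQCohD E) (c d : ℤ) [E.IsGE c] [E.IsLE d]
    (a b : ℤ) (hE : DCoh.HasRelFlatAmplitudeIn f a b E) :
    DCoh.HasTorAmplitudeIn a (b + N) ((DCoh.Rpush f).obj E) := by
  obtain ⟨F, ⟨eF⟩⟩ := Groth.KTheory.Perf.exists_rep E
  have hA := fun x => Groth.DerivedCoh.RelAmp.ampAt_of_relFlatAmp hE x
  haveI : E.IsLE b := (DerivedCategory.isLE_iff _ _).2 fun i hi =>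
    Groth.DerivedCoh.KFlat.isZero_hd_of_iso eF.symm ((Groth.DerivedCoh.KFlat.isZero_hd_toD_iff F i).2
      (Groth.DerivedCoh.RelAmp.exactAt_of_ampAt F (.inr hi) fun x => (hA x).of_iso eF.symm))
  haveI := Groth.DerivedCoh.RelAmp.isLE_Rpush_of_vanish f N hN E hqc b
  obtain ⟨G, ⟨eG⟩⟩ := Groth.KTheory.Perf.exists_rep ((DCoh.Rpush f).obj E)
  refine Groth.DerivedCoh.KFlat.torAmp_of_flatAmp (Groth.DerivedCoh.StalkAmp.flatAmp_of_stalkAmp
    (Groth.DerivedCoh.StalkAmp.HasStalkAmp.of_iso eG
      ((Groth.DerivedCoh.StalkAmp.hasTorAmplitude_id_iff G a (b + N)).1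
        ((Groth.DerivedCoh.RelAmp.hasTorAmplitude_iff G a (b + N)).2 fun y => ?_))))
  exact (Groth.DerivedCoh.RelAmp.ampAt_Rpush f (𝟙 Y) f (Category.comp_id f) E hqc hA (b + N) y).of_iso eG.symm

end Groth.Agent.S5630
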