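import Groth.Statements.S5631
import Groth.Agent.DerivedCoh.RelAmp
import Groth.Agent.DerivedCoh.RelAmp.TorIndep
import Groth.Agent.DerivedCoh.RelAmp.Tensor

set_option autoImplicit false
universe u
open CategoryTheory CategoryTheory.Limits AlgebraicGeometry
attribute [local instance] HasDerivedCategory.standard
open KSix

namespace Groth.Agent.S5631

/-- For f flat (so that X and Y' are tor-independent over Y): let f : X ⟶ Y be flat, h : Y' ⟶ Y
arbitrary, X' = X ×_Y Y' with projections g : X' ⟶ X and f' : X' ⟶ Y', and E ∈ D⁻(O_X). If E has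
flat amplitude in [a, b] relative to f (represented by a complex of Y-flat modules placed in [a, b])
then Lg^* E has flat amplitude in [a, b] relative to f'. (The source assumes only tor-independence
of X and Y' over Y; the relative notion used here is the flat-representative one, adequate for flat
f and f'.) -/
theorem result {X Y Y' : Scheme.{u}} (f : X ⟶ Y) [Flat f] (h : Y' ⟶ Y)
    [DCoh.HasLpull (pullback.fst f h)] (E : DCoh.D X) (d : ℤ) [E.IsLE d] (a b : ℤ)
    (hE : DCoh.HasRelFlatAmplitudeIn f a b E) :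
    DCoh.HasRelFlatAmplitudeIn (pullback.snd f h) a b ((DCoh.Lpull (pullback.fst f h)).obj E) := by
  have : Flat (pullback.snd f h) := inferInstance
  have : Flat (f ≫ 𝟙 Y) := by rw [Category.comp_id]; infer_instance
  obtain ⟨F, ⟨i⟩⟩ := Groth.KTheory.Perf.exists_rep E
  have hF : DerSch.HasTorAmplitude f a b F := (Groth.DerivedCoh.RelAmp.hasTorAmplitude_iff F a b).2
    fun x => ((Groth.DerivedCoh.RelAmp.relFlatAmp_iff E a b).1 hE x).of_iso i.symm
  rw [Groth.DerivedCoh.RelAmp.relFlatAmp_iff]
  intro x'
  refine ((Groth.DerivedCoh.RelAmp.hasTorAmplitude_iff _ a b).1 ?_ x').of_iso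
    (Groth.DerivedCoh.RelAmp.lpullResIso (pullback.fst f h) F).symm |>.of_iso ((DCoh.Lpull _).mapIso i)
  exact Groth.DerivedCoh.RelAmp.hasTorAmplitude_pullCx_torIndep (IsPullback.of_hasPullback f h) (𝟙 Y) h (𝟙 Y')
    (IsPullback.of_vert_isIso ⟨by simp⟩) _ (Groth.DerivedCoh.KFlat.flatResolution_isKFlat F)
    (Groth.DerivedCoh.RelAmp.hasTorAmplitude_res f hF)

end Groth.Agent.S5631
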