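import Groth.Statements.S5632
import Groth.Agent.Inter.NakaiCor
import Groth.Agent.Inter.Growth2
import Groth.Agent.Inter.SectionDivisor
import Groth.Agent.CohTwo.TwistOnHilbert
import Groth.Agent.Variety2.Reg.Pn
import Groth.Agent.Variety2.ProjBasics

set_option autoImplicit false
set_option linter.style.haveILetI false
universe u
open CategoryTheory CategoryTheory.Limits AlgebraicGeometry
open Pic13

namespace Groth.Agent.S5632

open Groth Groth.PicAux

/-- Let k be an algebraically closed field, X ⊆ P^n_k an integral closed subscheme of dimension r = s +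
1 ≥ 1, with O_X(1) and O_X(-1) the restrictions of O(1) and O(-1). Let L be an invertible O_X-module
with inverse L' (L ⊗ L' ≅ O_X) whose degree (c₁(L)·c₁(O_X(1))^{r-1}) is ≤ 0 and with H^0(X, L) ≠ 0.
Then L ≅ O_X (so that its degree is 0 and h^0(L) = 1). Intersection numbers are those of FGA.intNum,
which takes the inverse modules L', O_X(-1) as arguments. -/
theorem result (k : Type u) [Field k] [IsAlgClosed k] (n : ℕ) (X : Scheme.{u}) [X.Over (Spec (CommRingCat.of k))]
    (i : X ⟶ CohB1.ProjSpace n k) [IsClosedImmersion i] (hi : i ≫ CohB1.ProjSpace.toSpec n k = X ↘ Spec (CommRingCat.of k))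
    [IsIntegral X] (s : ℕ) (hdim : topologicalKrullDim X = (s + 1 : ℕ))
    (L L' : X.Modules) (hL : PicF.IsInvertible L) (hLL' : Nonempty (CohB1.tensorMod L L' ≅ Coh.structureModule X))
    (hdeg : FGA.intNum k X (s + 1)
      (Matrix.vecCons L' (fun _ : Fin s => (Scheme.Modules.pullback i).obj (Twist.twistProjSpace n k (-1))))
      (Coh.structureModule X) ≤ 0)
    (hsec : Nontrivial (Coh.HH X L 0)) :
    Nonempty (L ≅ Coh.structureModule X) := by
  haveI : IsProper (X ↘ Spec (CommRingCat.of k)) := by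
    rw [← hi]
    haveI := Groth.Variety2.isProper_projSpace_toSpec n k
    infer_instance
  have hN : IsNoetherian X := Inter.isNoetherian k
  have hdimle : topologicalKrullDim X ≤ ((s + 1 : ℕ) : WithBot ℕ∞) := hdim.le
  let O := Coh.structureModule X
  let A := (Scheme.Modules.pullback i).obj (Twist.twistProjSpace n k 1)
  let B := (Scheme.Modules.pullback i).obj (Twist.twistProjSpace n k (-1))
  have hA : CohB1.IsAmple A := CohTwo.TwistOnHilb.isAmple_L1 i
  have hAB : Nonempty (CohB1.tensorMod A B ≅ O) := by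
    obtain ⟨e⟩ := Ega2Proj.nonempty_tensor_iso (Variety2.Reg.gen_one n k) (1 : ℤ) (-1)
    rw [show (1 : ℤ) + -1 = 0 by norm_num] at e
    exact ⟨(PicAux.exists_pullback_tensorMod i _ _).choose.symm ≪≫
      (Scheme.Modules.pullback i).mapIso (e ≪≫ Variety2.Reg.nonempty_twist_zero.some) ≪≫
      (PicAux.pullback_structure_iso i).some⟩
  have hB : PicF.IsInvertible B :=
    PicAux.isInvertible_pullback i (Variety2.Reg.isInvertible_tw (-1))
  have hLI : ClSub.IsInverseOf L L' := hLL'
  have hL' : PicF.IsInvertible L' := PicAux.isInvertible_of_isInverseOf hL hLI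
  have hl : ∀ M ∈ List.replicate s B, PicF.IsInvertible M :=
    fun M hM => (List.eq_of_mem_replicate hM).symm ▸ hB
  rw [Inter.intNum_eq k hdimle,
    show List.ofFn (Matrix.vecCons L' (fun _ : Fin s => B)) = L' :: List.replicate s B by
      simp [List.ofFn_succ, List.ofFn_const]] at hdeg
  -- the section
  letI := Groth.EulerDeg.secModule k L (⊤ : X.Opens)
  obtain ⟨t, ht⟩ := @exists_ne _ (Groth.EulerDeg.h0Equiv k L).symm.toEquiv.nontrivial (0 : Γ(L, (⊤ : X.Opens)))
  let φ : O ⟶ L := homOfSection t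
  have hφ : φ ≠ 0 := fun h => ht (by
    rw [← homOfSection_one t, show homOfSection t = 0 from h]; rfl)
  have hO : PicF.IsInvertible O := EulerDeg.isInvertible_structureModule X
  have hOc : Coh.IsCoh O := Inter.isCoh_of_isInvertible hO
  have hLc : Coh.IsCoh L := Inter.isCoh_of_isInvertible hL
  haveI : Mono φ := EulerDeg.mono_of_ne_zero hO hL hφ
  have := hOc.1
  have := hLc.1
  let Q := cokernel φ
  have hQ : Coh.IsCoh Q := QCohMod.isCoh_cokernel φ hLc
  by_cases hQ0 : CohB1.support Q = ∅
  · have hz : IsZero Q := (QCohMod.isZero_iff_support_eq_empty Q).2 hQ0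
    haveI : Epi φ := Preadditive.epi_of_isZero_cokernel _ hz
    haveI : IsIso φ := isIso_of_mono_of_epi φ
    exact ⟨(asIso φ).symm⟩
  exfalso
  obtain ⟨x, hx⟩ := Set.nonempty_iff_ne_empty.2 hQ0
  obtain ⟨y, hy, hyh⟩ := Inter.exists_height_of_cokernel k hO hL hφ hx
  -- the cokernel does not contain the generic point
  have hgen : genericPoint X ∉ CohB1.support Q := by
    intro h
    have hg := Inter.genericPoint_mem_gloc hL ht
    refine CohTwo.notMem_support_cokernel φ _ (fun u => ?_) h
    obtain ⟨U, hxU, m, rfl⟩ := TopCat.Presheaf.exists_germ_eq L.presheaf u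
    let W : X.Opens := U ⊓ Groth.PropsBasic.Ample.gloc t
    obtain ⟨r, hr⟩ := (Groth.PropsBasic.Ample.gen_gloc t (V := W) inf_le_right).exists_coeff le_rfl
      (res L (inf_le_left : W ≤ U) m)
    rw [res_self] at hr
    refine ⟨O.presheaf.germ W _ ⟨hxU, hg⟩ (r • res O le_top (oneSec X ⊤)), ?_⟩
    change (TopCat.Presheaf.stalkFunctor Ab.{u} _).map φ.mapPresheaf _ = _
    erw [TopCat.Presheaf.stalkFunctor_map_germ_apply]
    refine Eq.trans (congrArg _ ?_)
      (TopCat.Presheaf.germ_res_apply L.presheaf (homOfLE (inf_le_left : W ≤ U)) _ _ m)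
    change φ.app W (r • res O le_top (oneSec X ⊤)) = res L (inf_le_left : W ≤ U) m
    rw [Scheme.Modules.Hom.app_smul, app_res, homOfSection_one, hr]
  have hQd : topologicalKrullDim (CohB1.support Q) ≤ (s : ℕ) := by
    refine Inter.lt_natCast_succ_iff.1 (lt_of_lt_of_eq (LocCohTransform.topologicalKrullDim_lt_of_ssubset
      (Set.subset_univ _) (fun h => hgen (h trivial)) (CohTwo.isClosed_support _ hQ) isClosed_univ
      (IrreducibleSpace.isIrreducible_univ X) ?_) ?_)
    · rw [IsHomeomorph.topologicalKrullDim_eq _ (Homeomorph.Set.univ X).isHomeomorph, hdim]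
      exact WithBot.coe_lt_coe.2 (ENat.natCast_lt_top _)
    · rw [IsHomeomorph.topologicalKrullDim_eq _ (Homeomorph.Set.univ X).isHomeomorph, hdim]
  have hQeq : topologicalKrullDim (CohB1.support Q) = (s : ℕ) := by
    refine le_antisymm hQd ?_
    have h1 : topologicalKrullDim (closure ({y} : Set X)) ≤ topologicalKrullDim (CohB1.support Q) :=
      LocCohTransform.topologicalKrullDim_mono ((CohTwo.isClosed_support _ hQ).closure_subset_iff.2
        (Set.singleton_subset_iff.2 hy))
    rw [Variety2.Dim.dim_closure_singleton] at h1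
    refine le_trans ?_ h1
    rw [hdim] at hyh
    obtain ⟨a, ha⟩ := Variety2.Dim.exists_height_eq (X ↘ Spec (CommRingCat.of k)) y
    rw [ha] at hyh ⊢
    norm_cast at hyh ⊢
    omega
  obtain ⟨S', hS', ⟨e₁⟩, ⟨e₂⟩, ⟨e₃⟩⟩ := Inter.exists_shortExact_twist hL' (CohTwo.cokerSeq_shortExact φ)
  have hadd := Inter.delta_add k hl hS'
    (QCohMod.isCoh_of_iso e₁.symm (Inter.isCoh_twist hL' hOc))
    (QCohMod.isCoh_of_iso e₃.symm (Inter.isCoh_twist hL' hQ))
  rw [Inter.delta_congr k _ ⟨e₁⟩, Inter.delta_congr k _ ⟨e₂⟩, Inter.delta_congr k _ ⟨e₃⟩] at hadd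
  change Inter.delta k _ (CohB1.tensorMod L' L) =
    Inter.delta k _ (CohB1.tensorMod L' O) + Inter.delta k _ (CohB1.tensorMod L' Q) at hadd
  rw [Inter.delta_congr k (List.replicate s B)
    (⟨(Inter.tensor_comm L' L).some ≪≫ hLI.some⟩ : Nonempty (CohB1.tensorMod L' L ≅ O))] at hadd
  rw [Inter.delta_cons, hadd, add_sub_cancel_left] at hdeg
  refine absurd hdeg (not_le.2 (Inter.delta_pos k _ (fun M hM => (List.eq_of_mem_replicate hM).symm ▸
    (⟨A, hA, hAB⟩ : Inter.IsAmpleInv B)) _ (Inter.isCoh_twist hL' hQ) ?_))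
  rw [Inter.support_twist_eq hL', hQeq, List.length_replicate]

end Groth.Agent.S5632
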