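import Groth.Statements.S5634
import Groth.Agent.Calg2.Uniform.Radical

set_option autoImplicit false
universe u
open CAlg

namespace Groth.Agent.S5634

open MvPolynomial Groth.Calg2.Uniform

theorem bound (N c m : ℕ) : ∃ D : ℕ, ∀ (k₀ : Type u) [Field k₀] (F : Fin c → MvPolynomial (Fin N) k₀),
    (∀ j, (F j).totalDegree ≤ m) →
      Ideal.span {z : MvPolynomial (Fin N) k₀ |
          z ∈ (Ideal.span (Set.range F)).radical ∧ z.totalDegree ≤ D} = (Ideal.span (Set.range F)).radical := by
  classical
  let A₀ := MvPolynomial (Fin c × (Fin N → Fin (m + 1))) ℤ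
  let U : Fin c → MvPolynomial (Fin N) A₀ := fun j => upoly fun s => X (j, s)
  let Good : ∀ (k : Type u) [Field k], (A₀ →+* k) → ℕ → Prop := fun k _ φ D =>
    (Ideal.span (Set.range fun j => MvPolynomial.map φ (U j))).radical ≤
      Ideal.span {z : MvPolynomial (Fin N) k |
        z ∈ (Ideal.span (Set.range fun j => MvPolynomial.map φ (U j))).radical ∧ z.totalDegree ≤ D}
  obtain ⟨D, hD⟩ : ∃ D : ℕ, ∀ (k : Type u) [Field k] (φ : A₀ →+* k), Good k φ D := by
    refine exists_bound_of_generic Good (fun k _ φ D D' hDD h => h.trans ?_) fun P hP => ?_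
    · refine Ideal.span_mono ?_
      exact fun z hz => ⟨hz.1, hz.2.trans hDD⟩
    obtain ⟨f, hf, D, hD⟩ := generic_radical.{u} fun j => MvPolynomial.map (Ideal.Quotient.mk P) (U j)
    refine ⟨f, hf, D, fun k _ ψ hψ => ?_⟩
    have := hD k ψ hψ
    simp only [MvPolynomial.map_map] at this
    exact this.ge
  refine ⟨D, fun k₀ _ F hF => ?_⟩
  let φ : A₀ →+* k₀ := eval₂Hom (Int.castRingHom k₀) fun p => (F p.1).coeff (expo p.2)
  have hU : (fun j => MvPolynomial.map φ (U j)) = F := funext fun j => by
    rw [map_upoly]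
    conv_rhs => rw [← eq_upoly (hF j)]
    congr 1
    funext s
    exact eval₂Hom_X' _ _ _
  have := hD k₀ φ
  simp only [Good, hU] at this
  exact le_antisymm (Ideal.span_le.2 fun z hz => hz.1) this

theorem exists_generators {N m : ℕ} {k : Type u} [Field k] (S : Set (MvPolynomial (Fin N) k))
    (hS : ∀ p ∈ S, p.totalDegree ≤ m) :
    ∃ F : Fin (Fintype.card (Fin N → Fin (m + 1))) → MvPolynomial (Fin N) k,
      (∀ j, (F j).totalDegree ≤ m) ∧ Ideal.span (Set.range F) = Ideal.span S := by
  classical
  let c := Fintype.card (Fin N → Fin (m + 1))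
  let W := Submodule.span k S
  let T := Submodule.span k (Set.range fun s : Fin N → Fin (m + 1) =>
    (monomial (expo s) (1 : k) : MvPolynomial (Fin N) k))
  have hWT : W ≤ T := Submodule.span_le.2 fun p hp => by
    rw [← eq_upoly (hS p hp)]
    refine Submodule.sum_mem _ fun s _ => ?_
    rw [show monomial (expo s) (p.coeff (expo s)) =
      p.coeff (expo s) • monomial (expo s) (1 : k) by rw [smul_monomial, smul_eq_mul, mul_one]]
    exact Submodule.smul_mem _ _ (Submodule.subset_span ⟨s, rfl⟩)
  have : FiniteDimensional k T := FiniteDimensional.span_of_finite k (Set.finite_range _)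
  have : FiniteDimensional k W := Submodule.finiteDimensional_of_le hWT
  have hr : Module.finrank k W ≤ c :=
    (Submodule.finrank_mono hWT).trans (finrank_range_le_card _)
  have hdeg : W ≤ restrictTotalDegree (Fin N) k m := Submodule.span_le.2 fun p hp =>
    (mem_restrictTotalDegree _ _ _).2 (hS p hp)
  have hI : W ≤ (Ideal.span S).restrictScalars k := Submodule.span_le.2 fun p hp => Ideal.subset_span hp
  let F : Fin c → MvPolynomial (Fin N) k := fun j =>
    if h : j.1 < Module.finrank k W then (Module.finBasis k W ⟨j.1, h⟩ : MvPolynomial (Fin N) k) else 0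
  have hF : ∀ j, F j ∈ W := fun j => by
    simp only [F]
    split
    · exact Subtype.prop _
    · exact zero_mem _
  refine ⟨F, fun j => (mem_restrictTotalDegree _ _ _).1 (hdeg (hF j)),
    le_antisymm (Ideal.span_le.2 ?_) (Ideal.span_le.2 fun p hp => ?_)⟩
  · rintro _ ⟨j, rfl⟩; exact hI (hF j)
  · have h1 : (⟨p, Submodule.subset_span hp⟩ : W) ∈ Submodule.span k (Set.range (Module.finBasis k W)) :=
      (Module.finBasis k W).span_eq ▸ Submodule.mem_top
    have h2 := Submodule.mem_map_of_mem (f := W.subtype) h1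
    rw [Submodule.map_span, ← Set.range_comp] at h2
    refine (Submodule.span_le (p := (Ideal.span (Set.range F)).restrictScalars k)).2 ?_ h2
    rintro _ ⟨i, rfl⟩
    refine Ideal.subset_span ⟨⟨i.1, lt_of_lt_of_le i.2 hr⟩, ?_⟩
    simp [F]

/-- For every N there is a function R_N such that, for every field k₀, every m and every ideal I of
k₀[T_1, …, T_N] generated by polynomials of total degree ≤ m, the radical of I is generated by
polynomials of total degree ≤ R_N(m). (The published statement gives R_N as a polynomial in m; this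
row asserts only a bound depending on N and m, uniform in the field and the ideal.) -/
theorem result (N : ℕ) :
    ∃ R : ℕ → ℕ, ∀ (k₀ : Type u) [Field k₀] (m : ℕ) (S : Set (MvPolynomial (Fin N) k₀)),
      (∀ p ∈ S, p.totalDegree ≤ m) →
        ∃ S' : Set (MvPolynomial (Fin N) k₀), (∀ q ∈ S', q.totalDegree ≤ R m) ∧ Ideal.span S' = (Ideal.span S).radical := by
  classical
  have key : ∀ m : ℕ, ∃ D : ℕ, ∀ (k₀ : Type u) [Field k₀]
      (F : Fin (Fintype.card (Fin N → Fin (m + 1))) → MvPolynomial (Fin N) k₀),
      (∀ j, (F j).totalDegree ≤ m) →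
        Ideal.span {z : MvPolynomial (Fin N) k₀ |
            z ∈ (Ideal.span (Set.range F)).radical ∧ z.totalDegree ≤ D} = (Ideal.span (Set.range F)).radical :=
    fun m => bound N (Fintype.card (Fin N → Fin (m + 1))) m
  choose R hR using key
  refine ⟨R, fun k₀ _ m S hS => ?_⟩
  obtain ⟨F, hF, hFS⟩ := exists_generators S hS
  refine ⟨{z | z ∈ (Ideal.span (Set.range F)).radical ∧ z.totalDegree ≤ R m}, fun q hq => ?_,
    by rw [← hFS]; exact hR m k₀ F hF⟩
  exact hq.2

end Groth.Agent.S5634
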