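import Groth.Statements.S5639
import Groth.Agent.Pic13Aux.PnDrop

set_option autoImplicit false
universe u
open CategoryTheory CategoryTheory.Limits AlgebraicGeometry
open Pic13

namespace Groth.Agent.S5639

/-- Let k be an algebraically closed field, P = P^N_k and F a coherent O_P-module none of whose
associated points is a closed point of P. Then H^0(P, F(-n)) = 0 for every integer n ≥ h^0(F), where
F(d) = F ⊗ O(d) and h^0(F) is the dimension of H^0(P, F) over k. -/
theorem result (k : Type u) [Field k] [IsAlgClosed k] (N : ℕ) (F : (CohB1.ProjSpace N k).Modules) (hF : Coh.IsCoh F)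
    (hass : ∀ x : ↥(CohB1.ProjSpace N k), Curv2.IsAssPoint F x → ¬ IsClosed ({x} : Set ↥(CohB1.ProjSpace N k)))
    (n : ℕ) (hn : Module.finrank k (Coh.HH (CohB1.ProjSpace N k) F 0) ≤ n) :
    Subsingleton (Coh.HH (CohB1.ProjSpace N k) (CohB1.tensorMod F (Twist.twistProjSpace N k (-(n : ℤ)))) 0) := by
  induction n generalizing F with
  | zero =>
    have : Module.Finite k (Coh.HH (CohB1.ProjSpace N k) F 0) := by
      have : IsProper ((CohB1.ProjSpace N k) ↘ Spec (CommRingCat.of k)) :=
        Groth.Variety2.isProper_projSpace_toSpec N k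
      exact Groth.EulerDeg.finite_HH k _ hF 0
    have h0 : Subsingleton (Coh.HH (CohB1.ProjSpace N k) F 0) :=
      Module.finrank_zero_iff.1 (Nat.le_zero.1 hn)
    exact Groth.Variety2.Reg.subsingleton_of_iso k
      (Groth.Variety2.Reg.nonempty_fT_zero F).some.symm h0
  | succ n ih =>
    have hle := Groth.Pic13Aux.finrank_twist_le hF hass
    have h := ih (CohB1.tensorMod F (Twist.twistProjSpace N k (-1)))
      (Groth.Variety2.Reg.isCoh_fT F hF (-1))
      (fun x hx => hass x ((Groth.Pic13Aux.isAssPoint_twist_iff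
        (Groth.Variety2.Reg.isInvertible_tw (-1)) F x).1 hx)) (by omega)
    exact Groth.Variety2.Reg.subsingleton_of_iso k
      (Groth.Variety2.Reg.nonempty_twist_twist F (-1) (-(n : ℤ)) (-((n + 1 : ℕ) : ℤ))
        (by push_cast; ring)).some h

end Groth.Agent.S5639
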