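import Groth.Statements.S5642
import Groth.Agent.KTheory.ClosureSheaf

set_option autoImplicit false
universe u
open CategoryTheory CategoryTheory.Limits AlgebraicGeometry
open Classical
open SGA6

namespace Groth.Agent.S5642

open Groth.KTheory Groth.KTheory.Devissage

/-- A closed set strictly containing an irreducible closed set of dimension `n`, itself irreducible,
has dimension at least `n + 1`. -/
theorem succ_le_dim {T : Type u} [TopologicalSpace T] {A B : Set T} (hB : IsClosed B)
    (hBirr : IsIrreducible B) (hA : IsClosed A) (hAB : A ⊂ B) {n : ℕ}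
    (hn : (n : WithBot ℕ∞) ≤ topologicalKrullDim A) : ((n + 1 : ℕ) : WithBot ℕ∞) ≤ topologicalKrullDim B := by
  obtain ⟨l, hl⟩ := Order.le_krullDim_iff.mp hn
  have hind : Topology.IsInducing (Set.inclusion hAB.subset) := (Topology.IsEmbedding.inclusion _).isInducing
  let φ := TopologicalSpace.IrreducibleCloseds.map (Set.inclusion hAB.subset) hind.continuous
  let top : TopologicalSpace.IrreducibleCloseds B :=
    { carrier := Set.univ
      isIrreducible' := @IrreducibleSpace.isIrreducible_univ _ _ (Subtype.irreducibleSpace hBirr)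
      isClosed' := isClosed_univ }
  have hlt : (l.map φ (TopologicalSpace.IrreducibleCloseds.map_strictMono_of_isInducing hind)).last < top := by
    rw [LTSeries.last_map]
    refine lt_of_le_not_ge (show φ l.last ≤ top from fun b _ => trivial) fun h => hAB.not_subset fun b hb => ?_
    have hsub : ((φ l.last : TopologicalSpace.IrreducibleCloseds B) : Set B) ⊆ Subtype.val ⁻¹' A := by
      refine closure_minimal ?_ (hA.preimage continuous_subtype_val)
      rintro _ ⟨a, -, rfl⟩
      exact a.2
    exact @hsub ⟨b, hb⟩ (h (x := ⟨b, hb⟩) trivial)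
  refine Order.le_krullDim_iff.mpr ⟨(l.map φ _).snoc top hlt, ?_⟩
  simp [RelSeries.snoc, RelSeries.append_length, RelSeries.singleton_length, LTSeries.map, LTSeries.mk, hl]

/-- Let X be a Noetherian scheme, K the Grothendieck group of coherent O_X-modules and Filt_m ⊆ K the
subgroup generated by the classes of coherent modules whose support has dimension ≤ m. Let F be
coherent with dim Supp(F) ≤ n. Then for the points x of X whose closure Z(x) has dimension n the
stalk F_x has finite length, nonzero for only finitely many such x, and [F] ≡ Σ_x length(F_x)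
[O_{Z(x)}] modulo Filt_{n-1}, where O_{Z(x)} is the structure sheaf of the reduced closed subscheme
Z(x) viewed as an O_X-module. -/
theorem result (X : Scheme.{u}) [IsNoetherian X] (n : ℕ) (F : X.Modules) (hF : Coh.IsCoh F)
    (hsupp : topologicalKrullDim ↥(CohB1.support F) ≤ n) :
    KZero.clSub (fun M : X.Modules => Coh.IsCoh M) F -
        (finsum fun x : ↥X => if topologicalKrullDim ↥(closure ({x} : Set ↥X)) = n then
          (Module.length (X.presheaf.stalk x) (F.presheaf.stalk x)).toNat • KZero.clSub (fun M : X.Modules => Coh.IsCoh M) (Cyc.closureStructureSheaf x) else 0) ∈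
      AddSubgroup.closure {c : KZero.K0sub (fun M : X.Modules => Coh.IsCoh M) |
        ∃ G : X.Modules, Coh.IsCoh G ∧ topologicalKrullDim ↥(CohB1.support G) < n ∧ c = KZero.clSub (fun M : X.Modules => Coh.IsCoh M) G} := by
  classical
  set Y' := CohB1.support F
  have hY' : IsClosed Y' := Groth.CohTwo.isClosed_support F hF
  set O : X → KZero.K0sub (fun M : X.Modules => Coh.IsCoh M) :=
    fun x => KZero.clSub (fun M : X.Modules => Coh.IsCoh M) (Cyc.closureStructureSheaf x) with hO
  set Filt := AddSubgroup.closure {c : KZero.K0sub (fun M : X.Modules => Coh.IsCoh M) |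
        ∃ G : X.Modules, Coh.IsCoh G ∧ topologicalKrullDim ↥(CohB1.support G) < n ∧ c = KZero.clSub (fun M : X.Modules => Coh.IsCoh M) G}
  have hdim : ∀ {A B : Set X}, A ⊆ B → topologicalKrullDim A ≤ topologicalKrullDim B := fun {A B} h =>
    (Topology.IsEmbedding.inclusion h).isInducing.topologicalKrullDim_le
  let S₀ : Set X := {x | x ∈ Y' ∧ topologicalKrullDim ↥(closure ({x} : Set ↥X)) = n}
  -- points of maximal dimension in the support have no generalizations there
  have hmax : ∀ x ∈ S₀, ∀ z ∈ Y', z ⤳ x → z = x := by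
    intro x hx z hz hzx
    by_contra hne
    have hsub : closure ({x} : Set X) ⊆ closure {z} :=
      closure_minimal (Set.singleton_subset_iff.2 hzx.mem_closure) isClosed_closure
    have hss : closure ({x} : Set X) ⊂ closure {z} := by
      refine hsub.ssubset_of_ne fun e => hne ?_
      exact (isGenericPoint_closure (x := z)).eq e
    have h1 := succ_le_dim isClosed_closure isIrreducible_singleton.closure isClosed_closure hss hx.2.ge
    have h2 := h1.trans ((hdim (closure_minimal (Set.singleton_subset_iff.2 hz) hY')).trans hsupp)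
    have h3 : n + 1 ≤ n := by exact_mod_cast h2
    omega
  have hfin : S₀.Finite := by
    let f : S₀ → irreducibleComponents Y' := fun x =>
      ⟨irreducibleComponent (⟨x.1, x.2.1⟩ : Y'), irreducibleComponent_mem_irreducibleComponents _⟩
    have : Finite (irreducibleComponents Y') :=
      (TopologicalSpace.NoetherianSpace.finite_irreducibleComponents (α := Y')).to_subtype
    have hf : Function.Injective f := by
      have := hY'.isClosedEmbedding_subtypeVal.quasiSober
      have hgp : ∀ x : S₀, IsGenericPoint (⟨x.1, x.2.1⟩ : Y') (irreducibleComponent (⟨x.1, x.2.1⟩ : Y')) := by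
        intro x
        obtain ⟨g, hg⟩ := QuasiSober.sober (isIrreducible_irreducibleComponent (x := (⟨x.1, x.2.1⟩ : Y'))) isClosed_irreducibleComponent
        have h : g ⤳ (⟨x.1, x.2.1⟩ : Y') := hg.specializes mem_irreducibleComponent
        have e : g = (⟨x.1, x.2.1⟩ : Y') := Subtype.ext (hmax x.1 x.2 g.1 g.2 ((subtype_specializes_iff _ _).mp h))
        exact e ▸ hg
      intro a b hab
      have h : irreducibleComponent (⟨a.1, a.2.1⟩ : Y') = irreducibleComponent (⟨b.1, b.2.1⟩ : Y') :=
        congrArg (fun C : irreducibleComponents Y' => C.1) hab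
      have hab' := (hgp a).eq (h ▸ hgp b)
      exact Subtype.ext (congrArg (fun q : Y' => q.1) hab')
    exact Set.finite_coe_iff.mp (Finite.of_injective f hf)
  set T := hfin.toFinset
  let s : X.Modules → KZero.K0sub (fun M : X.Modules => Coh.IsCoh M) := fun G =>
    ∑ x ∈ T, (Module.length (X.presheaf.stalk x) (G.presheaf.stalk x)).toNat • O x
  have hlen : ∀ G, cohSupp Y' G → ∀ x ∈ T,
      Module.length (X.presheaf.stalk x) (G.presheaf.stalk x) ≠ ⊤ := fun G hG x hx =>
    length_stalk_ne_top hG.1 x fun z hz => hmax x (hfin.mem_toFinset.1 hx) z (hG.2 hz)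
  let ι : KZero.K0sub (cohSupp Y') →+ KZero.K0sub (fun M : X.Modules => Coh.IsCoh M) :=
    liftSub _ (KZero.clSub (fun M : X.Modules => Coh.IsCoh M))
      fun S hS h₁ h₂ h₃ => clSub_rel S hS h₁.1 h₂.1 h₃.1
  let σ : KZero.K0sub (cohSupp Y') →+ KZero.K0sub (fun M : X.Modules => Coh.IsCoh M) :=
    liftSub _ s fun S hS h₁ h₂ h₃ => by
      simp only [s, ← Finset.sum_add_distrib, ← add_smul]
      refine Finset.sum_congr rfl fun x hx => ?_
      obtain ⟨hi, he, hs⟩ := LocFree.stalk_exact hS x
      rw [Module.length_eq_add_of_exact (LocFree.stalkₗ S.f x) (LocFree.stalkₗ S.g x) hi hs he,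
        ENat.toNat_add (hlen _ h₁ x hx) (hlen _ h₃ x hx)]
  let D := (QuotientAddGroup.mk' Filt).comp (ι - σ)
  have hDG : ∀ G, cohSupp Y' G → D (KZero.clSub (cohSupp Y') G) =
      QuotientAddGroup.mk' Filt (KZero.clSub (fun M : X.Modules => Coh.IsCoh M) G - s G) := by
    intro G hG
    simp only [D, ι, σ, AddMonoidHom.comp_apply, AddMonoidHom.sub_apply]
    rw [liftSub_clSub _ _ hG, liftSub_clSub _ _ hG]
  have hker : D.ker = ⊤ := by
    refine closure_eq_top Y' hY' _ fun y hy => ?_
    have hc := isCoh_closureStructureSheaf y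
    have hs := support_closureStructureSheaf_subset y
    have hcs : cohSupp Y' (Cyc.closureStructureSheaf y) := ⟨hc, hs.trans hy⟩
    refine ⟨_, hc, hs, length_closureStructureSheaf y, ?_⟩
    rw [AddMonoidHom.mem_ker, hDG _ hcs, QuotientAddGroup.mk'_apply, QuotientAddGroup.eq_zero_iff]
    have hzero : ∀ x ∈ T, x ≠ y →
        Module.length (X.presheaf.stalk x) ((Cyc.closureStructureSheaf y).presheaf.stalk x) = 0 := by
      intro x hx hne
      refine Module.length_eq_zero_iff.mpr (not_not.mp fun h => hne ?_)
      have hxy : y ⤳ x := specializes_iff_mem_closure.mpr (hs h)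
      exact (hmax x (hfin.mem_toFinset.1 hx) y (hy (subset_closure rfl)) hxy).symm
    by_cases hyn : topologicalKrullDim ↥(closure ({y} : Set ↥X)) = n
    · have hyT : y ∈ T := hfin.mem_toFinset.2 ⟨hy (subset_closure rfl), hyn⟩
      simp only [s]
      rw [Finset.sum_eq_single y (fun x hx hne => by rw [hzero x hx hne]; simp) (fun h => absurd hyT h),
        length_closureStructureSheaf]
      simp only [ENat.toNat_one, one_smul, hO, sub_self]
      exact zero_mem _
    · have hs0 : s (Cyc.closureStructureSheaf y) = 0 := Finset.sum_eq_zero fun x hx => by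
        rw [hzero x hx fun e => hyn (e ▸ (hfin.mem_toFinset.1 hx).2)]; simp
      rw [hs0, sub_zero]
      refine AddSubgroup.subset_closure ⟨_, hc, lt_of_le_of_lt (hdim hs) ?_, rfl⟩
      exact lt_of_le_of_ne ((hdim hy).trans hsupp) hyn
  have key : D (KZero.clSub (cohSupp Y') F) = 0 := by
    rw [← AddMonoidHom.mem_ker, hker]; trivial
  rw [hDG F ⟨hF, subset_rfl⟩, QuotientAddGroup.mk'_apply, QuotientAddGroup.eq_zero_iff] at key
  have hsum : (finsum fun x : ↥X => if topologicalKrullDim ↥(closure ({x} : Set ↥X)) = n then
      (Module.length (X.presheaf.stalk x) (F.presheaf.stalk x)).toNat • O x else 0) = s F := by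
    rw [finsum_eq_sum_of_support_subset _ (s := T) fun x hx => ?_]
    · exact Finset.sum_congr rfl fun x hx => if_pos (hfin.mem_toFinset.1 hx).2
    · rw [Function.mem_support] at hx
      rw [Finset.mem_coe, Set.Finite.mem_toFinset]
      by_cases hxn : topologicalKrullDim ↥(closure ({x} : Set ↥X)) = n
      · refine ⟨fun hsub => hx ?_, hxn⟩
        rw [if_pos hxn, Module.length_eq_zero_iff.mpr hsub]
        simp
      · rw [if_neg hxn] at hx; exact absurd rfl hx
  rw [hsum]
  exact key

end Groth.Agent.S5642
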