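import Groth.Statements.S5643
import Groth.Agent.KTheory.ClosureSheaf

set_option autoImplicit false
universe u
open CategoryTheory CategoryTheory.Limits AlgebraicGeometry
open Classical
open SGA6

namespace Groth.Agent.S5643

/-- Let X be a Noetherian scheme and K the Grothendieck group of coherent O_X-modules. For every n, the
subgroup of K generated by the classes of coherent modules whose support has dimension ≤ n coincides
with the subgroup generated by the classes [O_Z] of the structure sheaves (as O_X-modules) of the
integral closed subschemes Z ⊆ X of dimension ≤ n, Z running over the reduced closures of points of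
X. -/
theorem result (X : Scheme.{u}) [IsNoetherian X] (n : ℕ) :
    AddSubgroup.closure {c : KZero.K0sub (fun M : X.Modules => Coh.IsCoh M) |
        ∃ G : X.Modules, Coh.IsCoh G ∧ topologicalKrullDim ↥(CohB1.support G) ≤ n ∧ c = KZero.clSub (fun M : X.Modules => Coh.IsCoh M) G} =
      AddSubgroup.closure {c : KZero.K0sub (fun M : X.Modules => Coh.IsCoh M) |
        ∃ x : ↥X, topologicalKrullDim ↥(closure ({x} : Set ↥X)) ≤ n ∧ c = KZero.clSub (fun M : X.Modules => Coh.IsCoh M) (Cyc.closureStructureSheaf x)} := by
  have hdim : ∀ {A B : Set X}, A ⊆ B → topologicalKrullDim A ≤ topologicalKrullDim B := fun {A B} h =>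
    (Topology.IsEmbedding.inclusion h).isInducing.topologicalKrullDim_le
  refine le_antisymm ((AddSubgroup.closure_le _).2 ?_) ((AddSubgroup.closure_le _).2 ?_)
  · rintro _ ⟨G, hG, hn, rfl⟩
    set H := AddSubgroup.closure {c : KZero.K0sub (fun M : X.Modules => Coh.IsCoh M) |
      ∃ x : ↥X, topologicalKrullDim ↥(closure ({x} : Set ↥X)) ≤ n ∧
        c = KZero.clSub (fun M : X.Modules => Coh.IsCoh M) (Cyc.closureStructureSheaf x)}
    let Y' := CohB1.support G
    let ι : KZero.K0sub (Groth.KTheory.Devissage.cohSupp Y') →+
        KZero.K0sub (fun M : X.Modules => Coh.IsCoh M) :=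
      Groth.KTheory.liftSub _ (KZero.clSub (fun M : X.Modules => Coh.IsCoh M))
        fun S hS h₁ h₂ h₃ => Groth.KTheory.clSub_rel S hS h₁.1 h₂.1 h₃.1
    have hι : ∀ M, Groth.KTheory.Devissage.cohSupp Y' M →
        ι (KZero.clSub (Groth.KTheory.Devissage.cohSupp Y') M) = KZero.clSub _ M :=
      fun M hM => Groth.KTheory.liftSub_clSub _ _ hM
    have key := Groth.KTheory.Devissage.clSub_mem Y' (H.comap ι) (fun y hy => ?_)
      ⟨Y', Groth.CohTwo.isClosed_support G hG⟩ subset_rfl G hG subset_rfl
    · rw [AddSubgroup.mem_comap, hι G ⟨hG, subset_rfl⟩] at key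
      exact key
    · have hc := Groth.KTheory.Devissage.isCoh_closureStructureSheaf y
      have hs := Groth.KTheory.Devissage.support_closureStructureSheaf_subset y
      refine ⟨_, hc, hs, Groth.KTheory.Devissage.length_closureStructureSheaf y, ?_⟩
      rw [AddSubgroup.mem_comap, hι _ ⟨hc, hs.trans hy⟩]
      exact AddSubgroup.subset_closure ⟨y, (hdim hy).trans hn, rfl⟩
  · rintro _ ⟨x, hn, rfl⟩
    exact AddSubgroup.subset_closure ⟨_, Groth.KTheory.Devissage.isCoh_closureStructureSheaf x,
      (hdim (Groth.KTheory.Devissage.support_closureStructureSheaf_subset x)).trans hn, rfl⟩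

end Groth.Agent.S5643
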