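import Groth.Statements.S5644
import Groth.Agent.Inter.PushProper
import Groth.Agent.Variety2.Reg.Pn

set_option autoImplicit false
universe u
open CategoryTheory CategoryTheory.Limits AlgebraicGeometry
open Pic13

namespace Groth.Agent.S5644

/-- Coefficients of the differences of a binomial sum. -/
noncomputable def g (j i m : ℕ) : ℤ := if j ≤ i then ((m + i).choose (i - j) : ℤ) else 0

lemma g_succ (j i m : ℕ) : g j i (m + 1) - g j i m = g (j + 1) i m := by
  unfold g
  rcases lt_trichotomy i j with h | rfl | h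
  · simp [Nat.not_le.2 h, Nat.not_le.2 (Nat.lt_succ_of_lt h)]
  · simp
  · rw [if_pos h.le, if_pos h.le, if_pos (Nat.succ_le_of_lt h)]
    obtain ⟨t, rfl⟩ : ∃ t, i = j + t + 1 := ⟨i - j - 1, by omega⟩
    rw [show j + t + 1 - j = t + 1 by omega, show j + t + 1 - (j + 1) = t by omega,
      show m + 1 + (j + t + 1) = m + (j + t + 1) + 1 by omega, Nat.choose_succ_succ']
    push_cast
    ring

variable (k : Type u) [Field k] {n : ℕ} {X : Scheme.{u}} [X.Over (Spec (CommRingCat.of k))]
  (i : X ⟶ CohB1.ProjSpace n k)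

/-- `O_X(a)`. -/
noncomputable abbrev tw (a : ℤ) : X.Modules :=
  (Scheme.Modules.pullback i).obj (Twist.twistProjSpace n k a)

omit [X.Over (Spec (CommRingCat.of k))] in
theorem twist_step (G : X.Modules) (a : ℤ) :
    Nonempty (CohB1.tensorMod (tw k i (-1)) (Pic13.twistOn k i G (a + 1)) ≅ Pic13.twistOn k i G a) := by
  obtain ⟨e⟩ := Ega2Proj.nonempty_tensor_iso (Variety2.Reg.gen_one n k) (a + 1) (-1)
  rw [show a + 1 + -1 = a by ring] at e
  exact ⟨(Inter.tensor_comm _ _).some ≪≫ (Inter.tensor_assoc _ _ _).some ≪≫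
    (Inter.tensor_congr ⟨Iso.refl G⟩ ⟨(PicAux.exists_pullback_tensorMod i _ _).choose.symm ≪≫
      (Scheme.Modules.pullback i).mapIso e⟩).some⟩

/-- Iterated differences of a Hilbert function. -/
theorem delta_twistOn [IsProper (X ↘ Spec (CommRingCat.of k))] {d : ℕ}
    (hd : topologicalKrullDim X ≤ d) (G : X.Modules) (a : Fin (d + 1) → ℤ)
    (ha : ∀ m : ℕ, FGA.eulerCharLE k X (Pic13.twistOn k i G m) d =
      ∑ j : Fin (d + 1), a j * ((m + j).choose j : ℤ)) :
    ∀ j m : ℕ, Inter.delta k (List.replicate j (tw k i (-1))) (Pic13.twistOn k i G ((m + j : ℕ) : ℤ)) =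
      ∑ t : Fin (d + 1), a t * g j t m := by
  intro j
  induction j with
  | zero =>
    intro m
    rw [List.replicate_zero, Inter.delta_nil, ← Inter.eulerCharLE_eq k hd]
    simp only [Nat.add_zero]
    rw [ha m]
    simp [g]
  | succ j ih =>
    intro m
    rw [List.replicate_succ, Inter.delta_cons, show ((m + (j + 1) : ℕ) : ℤ) = ((m + j : ℕ) : ℤ) + 1 by push_cast; ring,
      Inter.delta_congr k _ (twist_step k i G ((m + j : ℕ) : ℤ)),
      show ((m + j : ℕ) : ℤ) + 1 = ((m + 1 + j : ℕ) : ℤ) by push_cast; ring, ih, ih, ← Finset.sum_sub_distrib]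
    refine Finset.sum_congr rfl fun t _ => ?_
    rw [← mul_sub, g_succ]


/-- Let k be an algebraically closed field, X ⊆ P^n_k an integral closed subscheme of dimension r = s +
1, O_X(1) and O_X(-1) the restrictions of O(1) and O(-1), and L an invertible O_X-module with
inverse L'. Write the Hilbert polynomials in the binomial basis, χ(L(m)) = Σ_{j ≤ r} a_j C(m+j, j)
and χ(O_X(m)) = Σ_{j ≤ r} e_j C(m+j, j) for m ≥ 0 (Euler characteristics in degrees ≤ r). Then (i)
a_r = e_r = (c₁(O_X(1))^r), the degree of X, and (ii) a_{r-1} - e_{r-1} = (c₁(L)·c₁(O_X(1))^{r-1}),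
the degree of L. Intersection numbers are those of FGA.intNum, which takes the inverse modules L',
O_X(-1) as arguments. -/
theorem result (k : Type u) [Field k] [IsAlgClosed k] (n : ℕ) (X : Scheme.{u}) [X.Over (Spec (CommRingCat.of k))]
    (i : X ⟶ CohB1.ProjSpace n k) [IsClosedImmersion i] (hi : i ≫ CohB1.ProjSpace.toSpec n k = X ↘ Spec (CommRingCat.of k))
    [IsIntegral X] (s : ℕ) (hdim : topologicalKrullDim X = (s + 1 : ℕ))
    (L L' : X.Modules) (hL : PicF.IsInvertible L) (hLL' : Nonempty (CohB1.tensorMod L L' ≅ Coh.structureModule X))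
    (a e : Fin (s + 2) → ℤ)
    (ha : ∀ m : ℕ, FGA.eulerCharLE k X (Pic13.twistOn k i L m) (s + 1) = ∑ j : Fin (s + 2), a j * ((m + j).choose j : ℤ))
    (he : ∀ m : ℕ, FGA.eulerCharLE k X (Pic13.twistOn k i (Coh.structureModule X) m) (s + 1) =
      ∑ j : Fin (s + 2), e j * ((m + j).choose j : ℤ)) :
    a (Fin.last (s + 1)) = e (Fin.last (s + 1)) ∧
      a (Fin.last (s + 1)) = FGA.intNum k X (s + 1)
        (fun _ : Fin (s + 1) => (Scheme.Modules.pullback i).obj (Twist.twistProjSpace n k (-1))) (Coh.structureModule X) ∧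
      a (Fin.castSucc (Fin.last s)) - e (Fin.castSucc (Fin.last s)) = FGA.intNum k X (s + 1)
        (Matrix.vecCons L' (fun _ : Fin s => (Scheme.Modules.pullback i).obj (Twist.twistProjSpace n k (-1))))
        (Coh.structureModule X) := by
  have : IsProper (X ↘ Spec (CommRingCat.of k)) := by
    rw [← hi]
    have : IsProper (CohB1.ProjSpace.toSpec n k) := inferInstance
    infer_instance
  have hN : IsNoetherian X := Inter.isNoetherian k
  let B := tw k i (-1)
  have hB : PicF.IsInvertible B := PicAux.isInvertible_pullback i (Variety2.Reg.isInvertible_tw (-1))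
  have hBl : ∀ q, ∀ M ∈ List.replicate q B, PicF.IsInvertible M :=
    fun q M hM => (List.eq_of_mem_replicate hM).symm ▸ hB
  let O := Coh.structureModule X
  have hO : Coh.IsCoh O := Inter.isCoh_of_isInvertible (EulerDeg.isInvertible_structureModule X)
  have hsupp : ∀ F : X.Modules, topologicalKrullDim (CohB1.support F) ≤ ((s + 1 : ℕ) : WithBot ℕ∞) :=
    fun F => (topologicalKrullDim_subspace_le X _).trans hdim.le
  have hP : ∀ q : ℤ, PicF.IsInvertible (tw k i q) := fun q =>
    PicAux.isInvertible_pullback i (Variety2.Reg.isInvertible_tw q)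
  have fa := delta_twistOn k i hdim.le L a ha
  have fe := delta_twistOn k i hdim.le O e he
  have top : ∀ c : Fin (s + 2) → ℤ, ∑ t : Fin (s + 2), c t * g (s + 1) t 0 = c (Fin.last (s + 1)) := by
    intro c
    rw [Fin.sum_univ_castSucc]
    simp [g, Fin.val_last, Nat.not_le.2 (Fin.isLt _)]
  have sub : ∀ c : Fin (s + 2) → ℤ, ∑ t : Fin (s + 2), c t * g s t 0 =
      c (Fin.castSucc (Fin.last s)) + (s + 1) * c (Fin.last (s + 1)) := by
    intro c
    rw [Fin.sum_univ_castSucc, Fin.sum_univ_castSucc]
    simp [g, Fin.val_last, Nat.not_le.2 (Fin.isLt _), Nat.choose_one_right, mul_comm]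
  have htop : ∀ G : X.Modules, PicF.IsInvertible G →
      Inter.delta k (List.replicate (s + 1) B) (Pic13.twistOn k i G ((0 + (s + 1) : ℕ) : ℤ)) =
        Inter.delta k (List.replicate (s + 1) B) O := fun G hG => by
    unfold Pic13.twistOn
    rw [Inter.delta_congr k _ (Inter.tensor_comm G (tw k i ((0 + (s + 1) : ℕ) : ℤ))),
      Inter.delta_twist_critical k (hP _) (hBl _) (Inter.isCoh_of_isInvertible hG)
        (by rw [List.length_replicate]; exact hsupp _),
      ← Inter.delta_congr k _ (Inter.tensor_one G),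
      Inter.delta_congr k _ (Inter.tensor_comm (Coh.structureModule X) G),
      Inter.delta_twist_critical k hG (hBl _) hO (by rw [List.length_replicate]; exact hsupp _)]
  have h1 : a (Fin.last (s + 1)) = Inter.delta k (List.replicate (s + 1) B) O := by
    rw [← top a, ← fa (s + 1) 0, htop L hL]
  have h2 : e (Fin.last (s + 1)) = Inter.delta k (List.replicate (s + 1) B) O := by
    rw [← top e, ← fe (s + 1) 0, htop O (EulerDeg.isInvertible_structureModule X)]
  refine ⟨h1.trans h2.symm, ?_, ?_⟩
  · rw [h1, Inter.intNum_eq k hdim.le, List.ofFn_const]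
  · rw [Inter.intNum_eq k hdim.le]
    simp only [List.ofFn_succ, Matrix.cons_val_zero, Matrix.cons_val_succ, List.ofFn_const]
    let P := tw k i ((0 + s : ℕ) : ℤ)
    have h3 := fa s 0
    have h4 := fe s 0
    rw [sub a] at h3
    change Inter.delta k (List.replicate s B) (CohB1.tensorMod O P) = _ at h4
    rw [sub e, Inter.delta_congr k _ (G := P) ⟨(Inter.tensor_one P).some⟩] at h4
    change Inter.delta k (List.replicate s B) (CohB1.tensorMod L P) = _ at h3
    have hll : ∀ M ∈ L :: List.replicate s B, PicF.IsInvertible M := by simpa [hL] using hBl s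
    have h5 := Inter.delta_twist_critical k (hP ((0 + s : ℕ) : ℤ)) hll hO
      (by rw [List.length_cons, List.length_replicate]; exact hsupp _)
    rw [Inter.delta_congr k (L :: List.replicate s B) (G := P)
      ⟨(Inter.tensor_comm P O).some ≪≫ (Inter.tensor_one P).some⟩] at h5
    have h6 := Inter.delta_inverse_cons k hL hLL' (l := List.replicate s B) (hBl s) hO
      (by rw [List.length_replicate]; exact hsupp _)
    have h7 : Inter.delta k (L :: List.replicate s B) P =
        Inter.delta k (List.replicate s B) P - Inter.delta k (List.replicate s B) (CohB1.tensorMod L P) :=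
      Inter.delta_cons k L _ P
    rw [h1] at h3
    rw [h2] at h4
    linarith

end Groth.Agent.S5644
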