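import Groth.Statements.S5645
import Groth.Agent.Misc13.NumTriv.Bounded
import Groth.Agent.Misc13.PicClFunctorial
import Groth.Agent.PicLim.Lfp
import Groth.Agent.Inter.Twist
import Mathlib.AlgebraicGeometry.AlgClosed.Basic

set_option autoImplicit false
set_option linter.style.haveILetI false
universe u
open CategoryTheory CategoryTheory.Limits AlgebraicGeometry
open Pic13

namespace Groth.Agent.S5645

open Groth.Misc13.PicCl Groth.Misc13.NumTriv TopologicalSpace

variable {k : Type u} [Field k]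

/-- A nonempty scheme locally of finite type over an algebraically closed field has a rational point. -/
theorem exists_point_aux [IsAlgClosed k] {W : Scheme.{u}} (q : W ⟶ Spec (CommRingCat.of k))
    [LocallyOfFiniteType q] [Nonempty W] : ∃ t : Spec (CommRingCat.of k) ⟶ W, t ≫ q = 𝟙 _ := by
  have : JacobsonSpace W := LocallyOfFiniteType.jacobsonSpace q
  obtain ⟨x, -, hx⟩ := nonempty_inter_closedPoints (Set.univ_nonempty (α := W)) isClosed_univ.isLocallyClosed
  exact ⟨pointOfClosedPoint q x hx, pointOfClosedPoint_comp q x hx⟩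

/-- A compact set lies in a quasi-compact open. -/
theorem exists_qc_open_aux {P : Scheme.{u}} {K : Set P} (hK : IsCompact K) :
    ∃ U : P.Opens, IsCompact (U : Set P) ∧ K ⊆ (U : Set P) := by
  obtain ⟨s, hs⟩ := hK.elim_finite_subcover (fun V : P.affineOpens => (V.1 : Set P)) (fun V => V.1.isOpen)
    (fun x _ => by
      obtain ⟨V, hV, hxV, -⟩ := exists_isAffineOpen_mem_and_subset (x := x) (U := (⊤ : P.Opens)) trivial
      exact Set.mem_iUnion.2 ⟨⟨V, hV⟩, hxV⟩)
  refine ⟨⨆ V ∈ s, V.1, ?_, by simpa using hs⟩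
  simpa using s.isCompact_biUnion fun V _ => V.2.isCompact

variable {X : Scheme.{u}} [X.Over (Spec (CommRingCat.of k))]

local notation "f₀" => X ↘ Spec (CommRingCat.of k)
local notation "T₀" => Over.mk (𝟙 (Spec (CommRingCat.of k)))

/-- The class of a fibre is the pullback of the class of the family. -/
theorem pull_point_aux {W : Scheme.{u}} (q : W ⟶ Spec (CommRingCat.of k))
    (t : Spec (CommRingCat.of k) ⟶ W) (ht : t ≫ q = 𝟙 _) (M : (Pic13.prodK k X q).Modules) :
    PicF.pullCl (PicF.XTmap f₀ (Over.homMk t ht : T₀ ⟶ Over.mk q)) (PicF.cl M) =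
      PicF.pullCl (pullback.fst f₀ (𝟙 _)) (PicF.cl (Pic13.fibreMod k X q t ht M)) := by
  have h : PicF.XTmap f₀ (Over.homMk t ht : T₀ ⟶ Over.mk q) =
      pullback.fst f₀ (𝟙 _) ≫ Pic13.sliceAt k X q t ht := by
    apply pullback.hom_ext
    · rw [XTmap_fst, Category.assoc]
      exact ((congrArg (fun m => _ ≫ m) (pullback.lift_fst _ _ _)).trans (Category.comp_id _)).symm
    · rw [XTmap_snd, Category.assoc]
      refine Eq.trans ?_ (congrArg (fun m => _ ≫ m) (pullback.lift_snd _ _ _)).symm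
      rw [pullback.condition_assoc, Category.id_comp]
      rfl
  refine (pullCl_congr h _).trans ?_
  exact (pullCl_comp _ _ _).symm

theorem cl_eq_of_pull_fst {L L' : X.Modules}
    (h : PicF.pullCl (pullback.fst f₀ (𝟙 _)) (PicF.cl L) = PicF.pullCl (pullback.fst f₀ (𝟙 _)) (PicF.cl L')) :
    Nonempty (L ≅ L') := by
  have h' := congrArg (PicF.pullCl (inv (pullback.fst f₀ (𝟙 _)))) h
  rw [pullCl_comp, pullCl_comp, pullCl_congr (IsIso.inv_hom_id _), pullCl_congr (IsIso.inv_hom_id _),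
    pullCl_id, pullCl_id] at h'
  exact (Equivalence.eqvGen_iff ⟨fun _ => ⟨Iso.refl _⟩, fun ⟨e⟩ => ⟨e.symm⟩,
    fun ⟨e⟩ ⟨e'⟩ => ⟨e.trans e'⟩⟩).1 (Quot.eqvGen_exact h')

/-- Over `Spec k`, `φ` is injective on invertible classes. -/
theorem injective_point_aux [IsAlgClosed k] {P : Over (Spec (CommRingCat.of k))}
    {φ : ∀ T : Over (Spec (CommRingCat.of k)), PicF.Cl (PicF.XT f₀ T) → (T ⟶ P)}
    (hP : PicRel.IsRelPic f₀ P φ) {c c' : PicF.Cl (PicF.XT f₀ T₀)} (hc : PicF.IsInvertibleCl c)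
    (hc' : PicF.IsInvertibleCl c') (h : φ T₀ c = φ T₀ c') : c = c' := by
  obtain ⟨ι, U, hU, hUi⟩ := hP.locallyInjective _ c c' hc hc' h
  obtain ⟨i, y, -⟩ := hU (IsLocalRing.closedPoint k)
  have : Etale (U i).hom := (U i).prop
  have : Nonempty (U i).left := ⟨y⟩
  have : LocallyOfFiniteType (U i).hom := inferInstance
  obtain ⟨s, hs⟩ := @exists_point_aux k _ _ (U i).left (U i).hom ‹_› ⟨y⟩
  let g : T₀ ⟶ PicRel.ovr T₀ (U i) := Over.homMk s (by simp [hs])
  have hg : g ≫ PicRel.ovrHom T₀ (U i) = 𝟙 _ := Over.OverMorphism.ext hs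
  have hid : PicF.XTmap f₀ (𝟙 T₀) = 𝟙 _ := by
    apply pullback.hom_ext
    · rw [XTmap_fst, Category.id_comp]
    · rw [XTmap_snd, Category.id_comp]; exact Category.comp_id _
  have key := congrArg (PicF.pullCl (PicF.XTmap f₀ g)) (hUi i)
  rw [pullCl_comp, pullCl_comp, ← XTmap_comp, hg, hid, pullCl_id, pullCl_id] at key
  exact key

/-- Images of bounded families in the Picard scheme lie in a quasi-compact open. -/
theorem mp_aux [IsProper f₀] {P : Over (Spec (CommRingCat.of k))}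
    {φ : ∀ T : Over (Spec (CommRingCat.of k)), PicF.Cl (PicF.XT f₀ T) → (T ⟶ P)}
    (hP : PicRel.IsRelPic f₀ P φ) {Q : X.Modules → Prop} (hQ : ∀ L, Q L → PicF.IsInvertible L)
    (hb : Pic13.IsBounded k X Q) : ∃ U : P.left.Opens, IsCompact (U : Set ↥P.left) ∧
      ∀ L, Q L → Set.range (φ T₀
        (PicF.pullCl (pullback.fst f₀ (𝟙 _)) (PicF.cl L))).left.base ⊆ (U : Set ↥P.left) := by
  obtain ⟨s, hs, hmem⟩ := exists_pieces_of_bounded k hb
  have hK : IsCompact (⋃ R ∈ s, Set.range (φ (Over.mk R.q) (PicF.cl R.M)).left.base) := by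
    refine hs.isCompact_biUnion fun R _ => ?_
    have := R.qc
    have : CompactSpace R.W := QuasiCompact.compactSpace_of_compactSpace R.q
    exact isCompact_range (X := ↥R.W) (φ (Over.mk R.q) (PicF.cl R.M)).left.continuous
  obtain ⟨U, hU, hKU⟩ := exists_qc_open_aux hK
  refine ⟨U, hU, fun L hL => ?_⟩
  obtain ⟨R, hR, t, ht, ⟨e⟩⟩ := hmem L hL (hQ L hL)
  have h1 := hP.natural (Over.mk R.q) T₀ (Over.homMk t ht) (PicF.cl R.M) ⟨R.M, rfl, R.inv⟩
  rw [pull_point_aux, show PicF.cl (Pic13.fibreMod k X R.q t ht R.M) = PicF.cl L from Quot.sound ⟨e⟩] at h1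
  rw [h1]
  refine subset_trans ?_ hKU
  rintro _ ⟨z, rfl⟩
  exact Set.mem_biUnion hR ⟨t.base z, rfl⟩

/-- Families of points of a quasi-compact open of the Picard scheme are bounded. -/
theorem mpr_aux [IsAlgClosed k] [IsProper f₀] {P : Over (Spec (CommRingCat.of k))}
    {φ : ∀ T : Over (Spec (CommRingCat.of k)), PicF.Cl (PicF.XT f₀ T) → (T ⟶ P)}
    (hP : PicRel.IsRelPic f₀ P φ) {Q : X.Modules → Prop} (hQ : ∀ L, Q L → PicF.IsInvertible L)
    (U : P.left.Opens) (hU : IsCompact (U : Set ↥P.left))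
    (hUQ : ∀ L, Q L → Set.range (φ T₀
        (PicF.pullCl (pullback.fst f₀ (𝟙 _)) (PicF.cl L))).left.base ⊆ (U : Set ↥P.left)) :
    Pic13.IsBounded k X Q := by
  have := Groth.PicLim.locallyOfFinitePresentation_of_isRelPic hP
  let T : Over (Spec (CommRingCat.of k)) := Over.mk (U.ι ≫ P.hom)
  let g : T ⟶ P := Over.homMk U.ι rfl
  have : LocallyOfFiniteType T.hom := inferInstanceAs (LocallyOfFiniteType (U.ι ≫ P.hom))
  obtain ⟨ι, Us, hcov, hcl⟩ := hP.locallySurjective T g
  choose c hc hφ using hcl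
  choose M hMc hMi using hc
  -- finitely many affine charts
  have hV : ∀ x : T.left, ∃ (i : ι) (V : (Us i).left.Opens), IsAffineOpen V ∧
      x ∈ (Us i).hom.base '' (V : Set (Us i).left) := fun x => by
    obtain ⟨i, y, hy⟩ := hcov x
    obtain ⟨V, hV, hyV, -⟩ := exists_isAffineOpen_mem_and_subset (x := y)
      (U := (⊤ : (Us i).left.Opens)) trivial
    exact ⟨i, V, hV, y, hyV, hy⟩
  choose i V hVa hxV using hV
  have : CompactSpace T.left := @isCompact_iff_compactSpace _ _ (U : Set ↥P.left) |>.mp hU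
  obtain ⟨F, hF⟩ := (CompactSpace.isCompact_univ (X := T.left)).elim_finite_subcover
    (fun x : T.left => (Us (i x)).hom.base '' (V x : Set (Us (i x)).left))
    (fun x => by
      have : Etale (Us (i x)).hom := (Us (i x)).prop
      exact (Us (i x)).hom.isOpenMap _ (V x).isOpen)
    (fun x _ => Set.mem_iUnion.2 ⟨x, hxV x⟩)
  let q : ∀ x, (V x).toScheme ⟶ Spec (CommRingCat.of k) := fun x =>
    (V x).ι ≫ (Us (i x)).hom ≫ T.hom
  let j : ∀ x, Over.mk (q x) ⟶ PicRel.ovr T (Us (i x)) := fun x => Over.homMk (V x).ι rfl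
  let G : ∀ x, (Pic13.prodK k X (q x)).Modules := fun x =>
    (Scheme.Modules.pullback (PicF.XTmap f₀ (j x))).obj (M (i x))
  have hGi : ∀ x, PicF.IsInvertible (G x) := fun x => Groth.PicAux.isInvertible_pullback _ (hMi (i x))
  have hpc : ∀ x, ∃ s : Set (Piece k X), s.Finite ∧ ∀ (t : Spec (CommRingCat.of k) ⟶ (V x).toScheme)
      (ht : t ≫ q x = 𝟙 _), ∃ R ∈ s, R.Has (Pic13.fibreMod k X (q x) t ht (G x)) := fun x => by
    have : Etale (Us (i x)).hom := (Us (i x)).prop
    have : LocallyOfFiniteType (q x) := inferInstanceAs (LocallyOfFiniteType ((V x).ι ≫ _ ≫ T.hom))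
    have : IsAffine (V x).toScheme := hVa x
    have : QuasiCompact (q x) := inferInstance
    obtain ⟨s, hs, hmem⟩ := exists_pieces_of_bounded k (X := X)
      (P := fun L => ∃ t ht, Nonempty (Pic13.fibreMod k X (q x) t ht (G x) ≅ L))
      ⟨_, q x, ‹_›, ‹_›, G x, Groth.Inter.isCoh_of_isInvertible (hGi x), fun L h => h⟩
    exact ⟨s, hs, fun t ht => hmem _ ⟨t, ht, ⟨Iso.refl _⟩⟩ (Groth.PicAux.isInvertible_pullback _ (hGi x))⟩
  choose s hs hmem using hpc
  refine isBounded_of_pieces k (⋃ x ∈ F, s x) (F.finite_toSet.biUnion fun x _ => hs x) Q fun L hL => ?_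
  -- the point of `L`
  generalize hp : φ T₀ (PicF.pullCl (pullback.fst f₀ (𝟙 _)) (PicF.cl L)) = p
  have hrange : Set.range p.left ⊆ Set.range U.ι := by
    rw [Scheme.Opens.range_ι, ← hp]
    exact hUQ L hL
  let p' : Spec (CommRingCat.of k) ⟶ T.left := IsOpenImmersion.lift U.ι p.left hrange
  have hp' : p' ≫ U.ι = p.left := IsOpenImmersion.lift_fac _ _ _
  obtain ⟨x, hxF, v, hv, hvx⟩ := Set.mem_iUnion₂.1 (hF (Set.mem_univ (p'.base (IsLocalRing.closedPoint k))))
  have : Etale (Us (i x)).hom := (Us (i x)).prop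
  let e' : (V x).toScheme ⟶ T.left := (V x).ι ≫ (Us (i x)).hom
  have : LocallyOfFiniteType e' := inferInstanceAs (LocallyOfFiniteType ((V x).ι ≫ _))
  obtain ⟨w, -, -⟩ := Scheme.Pullback.exists_preimage_pullback (f := e') (g := p')
    ⟨v, hv⟩ (IsLocalRing.closedPoint k) hvx
  have : Nonempty (pullback e' p' : Scheme.{u}) := ⟨w⟩
  obtain ⟨σ, hσ⟩ := exists_point_aux (k := k) (pullback.snd e' p')
  let t : Spec (CommRingCat.of k) ⟶ (V x).toScheme := σ ≫ pullback.fst _ _
  have hte : t ≫ (V x).ι ≫ (Us (i x)).hom = p' := by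
    rw [Category.assoc, show pullback.fst e' p' ≫ (V x).ι ≫ (Us (i x)).hom = _ from pullback.condition,
      reassoc_of% hσ]
  have hp'q : p' ≫ T.hom = 𝟙 _ := by
    rw [show T.hom = U.ι ≫ P.hom from rfl, reassoc_of% hp']
    exact Over.w p
  have ht : t ≫ q x = 𝟙 _ := by rw [reassoc_of% hte, hp'q]
  obtain ⟨R, hR, t', ht', ⟨e⟩⟩ := hmem x t ht
  refine ⟨R, Set.mem_biUnion hxF hR, t', ht', ⟨e ≪≫ (cl_eq_of_pull_fst (k := k) ?_).some⟩⟩
  refine injective_point_aux hP (isInvertibleCl_pull _ ⟨_, rfl, Groth.PicAux.isInvertible_pullback _ (hGi x)⟩)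
    (isInvertibleCl_pull _ ⟨_, rfl, hQ L hL⟩) ?_
  rw [hp, ← pull_point_aux, hP.natural (Over.mk (q x)) T₀ (Over.homMk t ht) _ ⟨_, rfl, hGi x⟩]
  rw [show PicF.cl (G x) = PicF.pullCl (PicF.XTmap f₀ (j x)) (PicF.cl (M (i x))) from rfl,
    hP.natural _ _ (j x) _ ⟨_, rfl, hMi (i x)⟩, hMc, hφ]
  refine Over.OverMorphism.ext ?_
  exact (by rw [reassoc_of% hte, hp'] : t ≫ (V x).ι ≫ (Us (i x)).hom ≫ U.ι = p.left)

/-- Over an algebraically closed field k: let X be a proper k-scheme and let the k-scheme P, with the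
maps φ_T from isomorphism classes of modules on X ×_k T to k-morphisms T ⟶ P, represent the
étale-sheafified relative Picard functor of X over k. For an invertible O_X-module L let p(L) ∈ P be
the k-point φ_{Spec k}([L]). Then a family of invertible O_X-modules is bounded (all members occur
among the fibres at k-points of one coherent module on some X ×_k T, T of finite type) if and only
if the points p(L) of its members lie in a common quasi-compact open subset of P. (The published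
statement is over a Noetherian base, for subsets of the Picard scheme and families of classes on the
fibres; this row is the case of an algebraically closed base field.) -/
theorem result (k : Type u) [Field k] [IsAlgClosed k] (X : Scheme.{u}) [X.Over (Spec (CommRingCat.of k))]
    [IsProper (X ↘ (Spec (CommRingCat.of k)))] (P : Over (Spec (CommRingCat.of k)))
    (φ : ∀ T : Over (Spec (CommRingCat.of k)), PicF.Cl (PicF.XT (X ↘ (Spec (CommRingCat.of k))) T) → (T ⟶ P))
    (hP : PicRel.IsRelPic (X ↘ (Spec (CommRingCat.of k))) P φ)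
    (Q : X.Modules → Prop) (hQ : ∀ L, Q L → PicF.IsInvertible L) :
    Pic13.IsBounded k X Q ↔ ∃ U : P.left.Opens, IsCompact (U : Set ↥P.left) ∧
      ∀ L, Q L → Set.range (φ (Over.mk (𝟙 (Spec (CommRingCat.of k))))
        (PicF.pullCl (pullback.fst (X ↘ (Spec (CommRingCat.of k))) (𝟙 (Spec (CommRingCat.of k)))) (PicF.cl L))).left.base ⊆ (U : Set ↥P.left) :=
  ⟨fun hb => mp_aux hP hQ hb, fun ⟨U, hU, h⟩ => mpr_aux hP hQ U hU h⟩

end Groth.Agent.S5645
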