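import Groth.Statements.S5651
import Groth.Agent.RaynaudGruson.FlatMonoProper

set_option autoImplicit false
universe u
open CategoryTheory CategoryTheory.Limits AlgebraicGeometry
open FlatMor

namespace Groth.Agent.S5651

/-- Let f : X ⟶ S be proper and of finite presentation and F a finitely presented O_X-module. Then the
subfunctor of S 'making F flat over S' is represented by a surjective monomorphism of finite
presentation: there are a scheme S' and a monomorphism ι : S' ⟶ S, locally of finite presentation,
quasi-compact and surjective, such that for every scheme T and t : T ⟶ S the pullback of F to X ×_S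
T is flat over T if and only if t factors through ι. -/
theorem result {X S : Scheme.{u}} (f : X ⟶ S) [IsProper f] [LocallyOfFinitePresentation f]
    (F : X.Modules) (hF : CohB1.IsFP F) :
    ∃ (S' : Scheme.{u}) (ι : S' ⟶ S), Mono ι ∧ LocallyOfFinitePresentation ι ∧ QuasiCompact ι ∧ Surjective ι ∧
      ∀ (T : Scheme.{u}) (t : T ⟶ S),
        FlatMod.IsFlatOver (pullback.snd f t) ((Scheme.Modules.pullback (pullback.fst f t)).obj F) ↔
          ∃ t' : T ⟶ S', t' ≫ ι = t := by
  haveI := Groth.RaynaudGruson.FlatDimScheme.isQuasicoherent_of_isFP hF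
  obtain ⟨W, w, h1, h2, h3, hW⟩ := Groth.RaynaudGruson.FlatMonoProper.exists_monoRep_flat f F hF
  have key : ∀ (T : Scheme.{u}) (t : T ⟶ S),
      FlatMod.IsFlatOver (pullback.snd f t) ((Scheme.Modules.pullback (pullback.fst f t)).obj F) ↔
        ∃ t' : T ⟶ W.left, t' ≫ w.left = t := by
    intro T t
    let h : Over.mk t ⟶ Over.mk (𝟙 S) := Over.homMk t (Category.comp_id _)
    refine (Groth.RaynaudGruson.FlatDimScheme.P_zero_iff f F (Over.mk t)).symm.trans ((hW h).trans ?_)
    constructor
    · rintro ⟨k, hk⟩
      exact ⟨k.left, congrArg CommaMorphism.left hk⟩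
    · rintro ⟨k, hk⟩
      exact ⟨Over.homMk k (by
        show k ≫ W.hom = t
        rw [← hk, show W.hom = w.left from (Over.w w).symm.trans (Category.comp_id _)]),
        Over.OverMorphism.ext hk⟩
  refine ⟨W.left, w.left, h1, h2, h3, ⟨fun s => ?_⟩, key⟩
  obtain ⟨k, hk⟩ := (key _ (S.fromSpecResidueField s)).1
    (Groth.RaynaudGruson.FlatMonoProper.isFlatOver_field (K := S.residueField s) _ _)
  refine ⟨k default, ?_⟩
  rw [← Scheme.Hom.comp_apply, hk]
  exact S.fromSpecResidueField_apply s default

end Groth.Agent.S5651
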