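import Groth.Statements.S5654
import Groth.Agent.AlgGrp1.AffineKernelBC
import Groth.Agent.Agf.SubobjGrp
-- import your own Groth.Agent.* helpers here

set_option autoImplicit false
universe u
open CategoryTheory MonoidalCategory CartesianMonoidalCategory MonObj GrpObj AlgebraicGeometry
open GrpSch

namespace Groth.Agent.S5654

/-- Let k be a field, P and Q group schemes locally of finite type over k and f : P ⟶ Q a homomorphism
of k-group schemes whose underlying morphism of schemes is quasi-affine. Then f is affine. -/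
theorem result (k : Type u) [Field k] (P Q : Over (Spec (CommRingCat.of k))) [GrpObj P] [GrpObj Q]
    [LocallyOfFiniteType P.hom] [LocallyOfFiniteType Q.hom] (f : P ⟶ Q) [IsMonHom f] (hf : Mor2.IsQuasiAffine f.left) :
    IsAffineHom f.left := by
  obtain ⟨hqc, haff⟩ := hf
  obtain ⟨N, n, _, hN⟩ := Groth.Agf.exists_preimage f η[Q]
  have : Mono n := Over.mono_of_mono_left n
  have hk : AlgGrp.IsKernel n f := Groth.AlgGrp1.IsKernel.mk' ‹_› fun T g => by
    rw [hN]
    constructor
    · rintro ⟨x, hx⟩
      rw [hx, toUnit_unique x (toUnit T)]; rfl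
    · intro hg
      exact ⟨toUnit T, hg⟩
  obtain ⟨_, hn⟩ := Groth.Agf.exists_grpObj_of_subgroup n (fun T g => g ≫ f = 1)
    (fun T g => Groth.AlgGrp1.IsKernel.exists_iff hk g) (fun T => MonObj.one_comp f)
    (fun T a b ha hb => by rw [MonObj.mul_comp, ha, hb, _root_.mul_one])
    (fun T a ha => by rw [GrpObj.inv_comp, ha, inv_one])
  have : LocallyOfFiniteType N.hom := by rw [← Over.w n]; infer_instance
  obtain ⟨V, hV, hV1, -⟩ := exists_isAffineOpen_mem_and_subset
    (x := η[Q].left (IsLocalRing.closedPoint k)) (U := (⊤ : Q.left.Opens)) trivial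
  let W : P.left.Opens := f.left ⁻¹ᵁ V
  have : Scheme.IsQuasiAffine W.toScheme := haff V hV
  have hr : Set.range n.left ⊆ Set.range W.ι := by
    rw [Scheme.Opens.range_ι]
    rintro _ ⟨a, rfl⟩
    show f.left (n.left a) ∈ V
    have e := congr(($(Groth.AlgGrp1.IsKernel.comp_eq_one hk)).left a)
    rw [show f.left (n.left a) = (n ≫ f).left a from rfl, e]
    show η[Q].left ((toUnit N).left a) ∈ V
    rw [Subsingleton.elim (α := ↥(Spec (CommRingCat.of k))) ((toUnit N).left a) (IsLocalRing.closedPoint k)]
    exact hV1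
  let n' : N.left ⟶ W.toScheme := IsOpenImmersion.lift W.ι n.left hr
  have hn' : n' ≫ W.ι = n.left := IsOpenImmersion.lift_fac _ _ _
  have : IsClosedImmersion (n' ≫ W.ι) := hn'.symm ▸ inferInstance
  have : IsClosedImmersion n' := IsClosedImmersion.of_comp n' W.ι
  have : CompactSpace N.left := n'.isClosedEmbedding.compactSpace
  have : QuasiCompact N.hom := (quasiCompact_iff_compactSpace N.hom).2 ‹_›
  have : IsAffine N.left := by
    refine Groth.AlgGrp1.isAffine_of_separated_points (AlgebraicClosure k) N fun g hg => ?_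
    have h := Groth.AlgGrp1.appTop_eq_of_evalPt hg
    have key : ∀ g : VecGrp.pt k (AlgebraicClosure k) ⟶ N, (g.left ≫ n') ≫ W.toScheme.toSpecΓ =
        (VecGrp.pt k (AlgebraicClosure k)).left.toSpecΓ ≫ Spec.map (n'.appTop ≫ g.left.appTop) := fun g => by
      rw [Scheme.toSpecΓ_naturality, Scheme.Hom.comp_appTop]
    have h2 : g.left ≫ n' = (1 : VecGrp.pt k (AlgebraicClosure k) ⟶ N).left ≫ n' := by
      rw [← cancel_mono W.toScheme.toSpecΓ, key, key, h]
    exact Over.OverMorphism.ext ((cancel_mono n').1 h2)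
  exact Groth.AlgGrp1.isAffineHom_of_affine_kernel f n hk

end Groth.Agent.S5654
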