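import Groth.Statements.S5656
import Mathlib.Algebra.Group.ForwardDiff
import Mathlib.RingTheory.Polynomial.Pochhammer
import Mathlib.Algebra.Polynomial.Roots
import Mathlib.Algebra.Polynomial.Degree.Lemmas
import Mathlib.RingTheory.Binomial

set_option autoImplicit false
universe u
open W4sga6xxiii

namespace Groth.Agent.S5656

open Polynomial in
theorem exists_binomPoly (k : ℕ) :
    ∃ B : ℚ[X], ∀ t : ℤ, B.eval (t : ℚ) = ((Ring.choose t k : ℤ) : ℚ) := by
  refine ⟨C ((k.factorial : ℚ)⁻¹) * (descPochhammer ℤ k).map (Int.castRingHom ℚ), fun t => ?_⟩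
  rw [← eq_intCast (Int.castRingHom ℚ) (Ring.choose t k), Ring.map_choose, eq_intCast,
    Ring.choose_eq_smul, eval_mul, eval_C, smul_eq_mul]
  congr 1
  rw [eval_map, ← Polynomial.aeval_eq_smeval, Polynomial.aeval_def]
  rfl

open Polynomial in
theorem exists_poly {G : Type u} [AddCommGroup G] {f : G → ℚ} (hf : W4sga6xxiii.IsPolyMap f)
    (a g : G) : ∃ P : ℚ[X], ∀ t : ℤ, P.eval (t : ℚ) = f (a + t • g) := by
  obtain ⟨m, y, -, hy⟩ := hf 2 ![a, g]
  choose B hB using exists_binomPoly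
  refine ⟨∑ k : Fin 2 → Fin (m + 1), C (((Ring.choose (1 : ℤ) (k 0 : ℕ) : ℤ) : ℚ) * y k) * B (k 1 : ℕ),
    fun t => ?_⟩
  have h := hy ![1, t]
  simp only [Fin.sum_univ_two, Fin.prod_univ_two, Matrix.cons_val_zero, Matrix.cons_val_one,
    one_smul] at h
  rw [h, eval_finsetSum]
  refine Finset.sum_congr rfl fun k _ => ?_
  rw [eval_mul, eval_C, hB, zsmul_eq_mul]
  push_cast
  ring

open Polynomial fwdDiff in
theorem eq_of_divisible {G : Type u} [AddCommGroup G] {f : G → ℚ} (hf : W4sga6xxiii.IsPolyMap f)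
    (hint : ∀ x, ∃ z : ℤ, f x = z) {p : ℕ} (hp : p.Prime) (a g : G)
    (hdiv : ∀ j : ℕ, ∃ gj : G, (p ^ j) • gj = g) : f (a + g) = f a := by
  obtain ⟨P, hP⟩ := exists_poly hf a g
  suffices P.natDegree = 0 by
    obtain ⟨c, hc⟩ := natDegree_eq_zero.1 this
    have h0 := hP 0
    have h1 := hP 1
    rw [← hc, eval_C] at h0 h1
    simp only [zero_smul, add_zero, one_smul] at h0 h1
    exact h1.symm.trans h0
  by_contra hne
  have hd : 0 < P.natDegree := Nat.pos_of_ne_zero hne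
  have hdiv' : ∀ j : ℕ, ∃ z : ℤ,
      P.leadingCoeff * (P.natDegree.factorial : ℚ) = ((p : ℚ) ^ (j * P.natDegree)) * z := by
    intro j
    obtain ⟨gj, hgj⟩ := hdiv j
    obtain ⟨Q, hQ⟩ := exists_poly hf a gj
    have hPQ : Q.comp (C ((p : ℚ) ^ j) * X) = P := by
      apply Polynomial.eq_of_infinite_eval_eq
      refine Set.Infinite.mono ?_ (Set.infinite_range_of_injective (Int.cast_injective (α := ℚ)))
      rintro _ ⟨t, rfl⟩
      simp only [Set.mem_setOf_eq, eval_comp, eval_mul, eval_C, eval_X]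
      rw [hP t, show (p : ℚ) ^ j * (t : ℚ) = (((p : ℤ) ^ j * t : ℤ) : ℚ) by push_cast; rfl, hQ,
        mul_comm, ← smul_smul, ← hgj]
      norm_cast
    have hc : ((p : ℚ) ^ j) ≠ 0 := pow_ne_zero _ (by exact_mod_cast hp.ne_zero)
    have hdeg : P.natDegree = Q.natDegree := by
      rw [← hPQ, natDegree_comp, natDegree_C_mul_X _ hc, mul_one]
    have hlead : P.leadingCoeff = Q.leadingCoeff * ((p : ℚ) ^ j) ^ Q.natDegree := by
      rw [← hPQ, leadingCoeff_comp (by rw [natDegree_C_mul_X _ hc]; exact one_ne_zero),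
        leadingCoeff_C_mul_X]
    have hΔ : Q.leadingCoeff * (Q.natDegree.factorial : ℚ) =
        (Δ_[1]^[Q.natDegree] Q.eval) 0 := by
      rw [Q.fwdDiff_iter_degree_eq_factorial]
      simp
    rw [fwdDiff_iter_eq_sum_shift] at hΔ
    choose zf hzf using hint
    refine ⟨∑ k ∈ Finset.range (Q.natDegree + 1),
      ((-1 : ℤ) ^ (Q.natDegree - k) * (Q.natDegree.choose k : ℤ)) * zf (a + (k : ℤ) • gj), ?_⟩
    rw [hlead, hdeg, mul_right_comm, hΔ, pow_mul, mul_comm _ (((p : ℚ) ^ j) ^ Q.natDegree)]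
    congr 1
    push_cast
    refine Finset.sum_congr rfl fun k _ => ?_
    rw [← hzf, ← hQ, zsmul_eq_mul]
    simp
  obtain ⟨z₀, hz₀⟩ := hdiv' 0
  simp only [zero_mul, pow_zero, one_mul] at hz₀
  have hz0 : z₀ ≠ 0 := by
    rintro rfl
    simp only [Int.cast_zero, mul_eq_zero, Nat.cast_eq_zero, P.natDegree.factorial_ne_zero,
      or_false, leadingCoeff_eq_zero] at hz₀
    rw [hz₀, natDegree_zero] at hd
    exact lt_irrefl _ hd
  obtain ⟨z, hz⟩ := hdiv' z₀.natAbs
  rw [hz₀] at hz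
  have hdvd : ((p : ℤ) ^ (z₀.natAbs * P.natDegree)) ∣ z₀ := ⟨z, by exact_mod_cast hz⟩
  have hle := Nat.le_of_dvd (Int.natAbs_pos.2 hz0)
    (by simpa [Int.natAbs_pow] using Int.natAbs_dvd_natAbs.2 hdvd)
  have h2 : z₀.natAbs < p ^ z₀.natAbs := Nat.lt_pow_self hp.one_lt
  have h3 : p ^ z₀.natAbs ≤ p ^ (z₀.natAbs * P.natDegree) :=
    Nat.pow_le_pow_right hp.pos (Nat.le_mul_of_pos_right _ hd)
  omega


/-- Let G be an abelian group and G' ⊆ G a subgroup which is divisible by some prime number p (every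
element of G' is p times an element of G') and such that G/G' is a torsion group. Then every
polynomial map f : G → ℚ (admitting binomial expansions f(Σ n_i x_i) = Σ_k Π_i C(n_i, k_i) y_k along
every finite sequence x) which takes only integer values is constant. -/
theorem result {G : Type u} [AddCommGroup G] (G' : AddSubgroup G)
    (p : ℕ) (hp : p.Prime) (hdiv : ∀ x ∈ G', ∃ y ∈ G', p • y = x) (htor : ∀ x : G, ∃ n : ℤ, n ≠ 0 ∧ n • x ∈ G')
    (f : G → ℚ) (hf : W4sga6xxiii.IsPolyMap f) (hint : ∀ x, ∃ z : ℤ, f x = z) (x : G) : f x = f 0 := by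
  obtain ⟨P, hP⟩ := exists_poly hf 0 x
  obtain ⟨n, hn, hnG⟩ := htor x
  have hdiv' : ∀ g ∈ G', ∀ j : ℕ, ∃ gj ∈ G', (p ^ j) • gj = g := by
    intro g hg j
    induction j with
    | zero => exact ⟨g, hg, by simp⟩
    | succ j ih =>
      obtain ⟨gj, hgj, rfl⟩ := ih
      obtain ⟨h, hh, rfl⟩ := hdiv gj hgj
      exact ⟨h, hh, by rw [pow_succ, mul_smul]⟩
  have hconst : P = Polynomial.C (f 0) := by
    apply Polynomial.eq_of_infinite_eval_eq
    refine Set.Infinite.mono ?_ (Set.infinite_range_of_injective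
      (f := fun t : ℤ => ((n * t : ℤ) : ℚ))
      (Int.cast_injective.comp (mul_right_injective₀ hn)))
    rintro _ ⟨t, rfl⟩
    simp only [Set.mem_setOf_eq, Polynomial.eval_C, hP, zero_add]
    rw [mul_comm, mul_smul]
    have h := eq_of_divisible hf hint hp 0 (t • n • x)
      (fun j => (hdiv' _ (zsmul_mem hnG t) j).imp fun gj h => h.2)
    simpa using h
  have h1 := hP 1
  rw [hconst, Polynomial.eval_C, one_smul, zero_add] at h1
  exact h1.symm

end Groth.Agent.S5656
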