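import Groth.Statements.S5657
import Mathlib.RingTheory.Binomial
import Mathlib.Algebra.BigOperators.Ring.Finset

set_option autoImplicit false
universe u
open TensorProduct
open W4sga6xxiii

namespace Groth.Agent.S5657

theorem unit_zpow_eq_sum {A : Type u} [CommRing A] (v : Aˣ) (y : A) (hv : (v : A) = 1 + y) (m : ℕ)
    (hy : y ^ (m + 1) = 0) (n : ℤ) :
    ((v ^ n : Aˣ) : A) = ∑ k : Fin (m + 1), Ring.choose n (k : ℕ) • y ^ (k : ℕ) := by
  have step : ∀ n : ℤ, ∑ k ∈ Finset.range (m + 1), Ring.choose (n + 1) k • y ^ k =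
      (∑ k ∈ Finset.range (m + 1), Ring.choose n k • y ^ k) * (1 + y) := by
    intro n
    rw [mul_add, mul_one, Finset.sum_mul, Finset.sum_range_succ' (fun k => Ring.choose (n + 1) k • y ^ k),
      Finset.sum_range_succ' (fun k => Ring.choose n k • y ^ k),
      Finset.sum_range_succ (fun k => Ring.choose n k • y ^ k * y)]
    simp only [Ring.choose_succ_succ, add_smul, Finset.sum_add_distrib, Ring.choose_zero_right,
      smul_mul_assoc, ← pow_succ, hy, smul_zero, add_zero]
    abel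
  rw [Fin.sum_univ_eq_sum_range (fun k => Ring.choose n k • y ^ k)]
  induction n using Int.induction_on with
  | zero =>
    rw [Finset.sum_range_succ']
    simp [Ring.choose_zero_succ]
  | succ i ih => rw [step, zpow_add_one, Units.val_mul, ih, hv]
  | pred i ih =>
    apply v.isUnit.mul_right_cancel
    rw [← Units.val_mul, ← zpow_add_one, sub_add_cancel, ih, hv, ← step, sub_add_cancel]


/-- Let A be a commutative ring, I an ideal of A with I^{m+1} = 0, and P ⊆ Aˣ the subgroup of units of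
the form 1 + y with y ∈ I. Then the map P → A ⊗_ℤ ℚ, x ↦ x ⊗ 1, is a polynomial map of degree ≤ m on
the abelian group P (written additively): along every finite sequence x_1, …, x_r in P one has
x_1^{n_1}⋯x_r^{n_r} ⊗ 1 = Σ_k Π_i C(n_i, k_i) y_k with y_k = 0 whenever k_1 + ⋯ + k_r > m. -/
theorem result (A : Type u) [CommRing A] (I : Ideal A) (m : ℕ) (hI : I ^ (m + 1) = ⊥)
    (P : Subgroup Aˣ) (hP : ∀ u : Aˣ, u ∈ P ↔ (u : A) - 1 ∈ I) :
    W4sga6xxiii.IsPolyMapLE (fun u : Additive P => (((Additive.toMul u : P) : Aˣ) : A) ⊗ₜ[ℤ] (1 : ℚ)) m := by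
  intro r x
  classical
  have hy : ∀ i, ((Additive.toMul (x i) : P) : Aˣ).val - 1 ∈ I := fun i =>
    (hP _).1 (Additive.toMul (x i) : P).2
  set y : Fin r → A := fun i => ((Additive.toMul (x i) : P) : Aˣ).val - 1 with hydef
  have hynil : ∀ i, y i ^ (m + 1) = 0 := fun i => by
    have := Ideal.pow_mem_pow (hy i) (m + 1)
    rwa [hI, Ideal.mem_bot] at this
  refine ⟨fun k => (∏ i, y i ^ (k i : ℕ)) ⊗ₜ[ℤ] (1 : ℚ), fun k hk => ?_, fun n => ?_⟩
  · have h1 : ∏ i, y i ^ (k i : ℕ) ∈ I ^ (∑ i, (k i : ℕ)) := by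
      rw [← Finset.prod_pow_eq_pow_sum]
      exact Ideal.prod_mem_prod fun i _ => Ideal.pow_mem_pow (hy i) _
    have h2 := Ideal.pow_le_pow_right (by omega : m + 1 ≤ ∑ i, (k i : ℕ)) h1
    rw [hI, Ideal.mem_bot] at h2
    simp only [h2, TensorProduct.zero_tmul]
  · have h1 : (((Additive.toMul (∑ i, n i • x i) : P) : Aˣ) : A) =
        ∏ i, ∑ k : Fin (m + 1), Ring.choose (n i) (k : ℕ) • y i ^ (k : ℕ) := by
      rw [toMul_sum, Subgroup.val_finsetProd, Units.coe_prod]
      refine Finset.prod_congr rfl fun i _ => ?_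
      rw [toMul_zsmul, Subgroup.coe_zpow]
      exact unit_zpow_eq_sum _ _ (by simp [hydef]) m (hynil i) (n i)
    simp only [h1, Fintype.prod_sum, TensorProduct.sum_tmul]
    refine Finset.sum_congr rfl fun k _ => ?_
    rw [TensorProduct.smul_tmul']
    congr 1
    simp only [zsmul_eq_mul, Finset.prod_mul_distrib, Int.cast_prod]

end Groth.Agent.S5657
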