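import Groth.Statements.S5658
import Groth.Agent.Calg2.GLCommutator
import Groth.Agent.Calg2.SpreadAlg
import Mathlib.RingTheory.Etale.StandardEtale
import Mathlib.RingTheory.LocalRing.ResidueField.Ideal
import Mathlib.FieldTheory.IsAlgClosed.AlgebraicClosure

set_option autoImplicit false
universe u
open CAlg

namespace Groth.Agent.S5658

open Matrix Groth.Calg2.GLComm Groth.Calg2.SpreadAlg Polynomial
open scoped commutatorElement

theorem exists_etale_unit (A : Type u) [CommRing A] (p : PrimeSpectrum A) :
    ∃ (B : Type u) (_ : CommRing B) (_ : Algebra A B) (_ : Algebra.Etale A B) (q : PrimeSpectrum B)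
      (_ : q.asIdeal.comap (algebraMap A B) = p.asIdeal) (u : Bˣ), IsUnit ((u : B) - 1) := by
  by_cases h2 : (2 : A) ∈ p.asIdeal
  · have h3 : (3 : A) ∉ p.asIdeal := fun h => p.2.ne_top ((Ideal.eq_top_iff_one _).2
      (by have := p.asIdeal.sub_mem h h2; norm_num at this; exact this))
    let P : StandardEtalePair A :=
      { f := X ^ 2 + X + 1
        monic_f := by monicity!
        g := C 3
        cond := ⟨-(2 * X + 1), 4, 1, by
          rw [derivative_add, derivative_add, derivative_X_pow, derivative_X, derivative_one,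
            map_ofNat]
          simp only [Nat.cast_ofNat, map_ofNat]
          ring⟩ }
    let K := AlgebraicClosure p.asIdeal.ResidueField
    obtain ⟨x, hx⟩ := IsAlgClosed.exists_root (X ^ 2 + X + 1 : K[X])
      (by rw [show (X ^ 2 + X + 1 : K[X]).degree = 2 by compute_degree!]; norm_num)
    have h3K : (algebraMap A K 3) ≠ 0 := by
      rw [IsScalarTower.algebraMap_apply A p.asIdeal.ResidueField K, map_ne_zero_iff _
        (algebraMap p.asIdeal.ResidueField K).injective]
      exact fun h => h3 (Ideal.algebraMap_residueField_eq_zero.1 h)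
    have hm : P.HasMap x := by
      refine ⟨?_, ?_⟩
      · simpa [P, IsRoot] using hx
      · change IsUnit (aeval x (C (3 : A)))
        rw [aeval_C]
        exact (Ne.isUnit h3K)
    let χ : P.Ring →ₐ[A] K := P.lift x hm
    have hX : P.X ^ 2 + P.X + 1 = 0 := by
      have := (StandardEtalePair.hasMap_X (P := P)).1
      simpa [P] using this
    have h3B : IsUnit (3 : P.Ring) := by
      have := (StandardEtalePair.hasMap_X (P := P)).2
      simpa [P, map_ofNat] using this
    let u : P.Ringˣ := ⟨P.X, -1 - P.X, by linear_combination -hX, by linear_combination -hX⟩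
    refine ⟨P.Ring, inferInstance, inferInstance, inferInstance,
      ⟨RingHom.ker χ.toRingHom, RingHom.ker_isPrime _⟩, ?_, u, ?_⟩
    · ext a
      rw [Ideal.mem_comap, RingHom.mem_ker]
      change χ (algebraMap A P.Ring a) = 0 ↔ _
      rw [χ.commutes, IsScalarTower.algebraMap_apply A p.asIdeal.ResidueField K, map_eq_zero_iff _
        (algebraMap p.asIdeal.ResidueField K).injective, Ideal.algebraMap_residueField_eq_zero]
    · refine isUnit_of_mul_isUnit_left (y := P.X + 2) ?_
      rw [show ((u : P.Ring) - 1) * (P.X + 2) = -3 by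
        change (P.X - 1) * (P.X + 2) = -3
        linear_combination hX]
      exact h3B.neg
  · let B := Localization.Away (2 : A)
    have hd : Disjoint (Submonoid.powers (2 : A) : Set A) (p.asIdeal : Set A) := by
      rw [Set.disjoint_left]
      rintro _ ⟨k, rfl⟩ hk
      exact h2 (p.2.mem_of_pow_mem k hk)
    refine ⟨B, inferInstance, inferInstance, Algebra.Etale.of_isLocalizationAway (2 : A),
      ⟨p.asIdeal.map (algebraMap A B),
        IsLocalization.isPrime_of_isPrime_disjoint (Submonoid.powers (2 : A)) _ p.asIdeal p.2 hd⟩,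
      IsLocalization.under_map_of_isPrime_disjoint (Submonoid.powers (2 : A)) _ p.2 hd, -1, ?_⟩
    have hu : IsUnit (algebraMap A B 2) := IsLocalization.Away.algebraMap_isUnit 2
    rw [map_ofNat] at hu
    rw [Units.val_neg, Units.val_one, show (-1 : B) - 1 = -2 by norm_num]
    exact hu.neg

theorem spread {B : Type u} [CommRing B] {n : ℕ} (q : Ideal B) [q.IsPrime] (s : GL (Fin n) B)
    (hs : GeneralLinearGroup.map (algebraMap B (Localization.AtPrime q)) s ∈
      commutator (GL (Fin n) (Localization.AtPrime q))) :
    ∃ g : B, g ∉ q ∧ GeneralLinearGroup.map (algebraMap B (Localization.Away g)) s ∈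
      commutator (GL (Fin n) (Localization.Away g)) := by
  classical
  let rs {g k : B} (h : g ∣ k) : GL (Fin n) (Localization.Away g) →* GL (Fin n) (Localization.Away k) :=
    GeneralLinearGroup.map (res (T := B) h).toRingHom
  let st {g : B} (h : g ∉ q) : GL (Fin n) (Localization.Away g) →* GL (Fin n) (Localization.AtPrime q) :=
    GeneralLinearGroup.map (toStalk (T := B) h).toRingHom
  have hst : ∀ {g k : B} (h : g ∣ k) (hk : k ∉ q) (hg : g ∉ q) (x), st hk (rs h x) = st hg x :=
    fun h hk hg x => Units.ext (Matrix.ext fun i j => toStalk_res h hk hg _)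
  -- every element comes from some `B_g`
  have hlift : ∀ x : GL (Fin n) (Localization.AtPrime q),
      ∃ (g : B) (hg : g ∉ q) (y : GL (Fin n) (Localization.Away g)), st hg y = x := by
    intro x
    obtain ⟨b, hb⟩ := IsLocalization.exist_integer_multiples q.primeCompl Finset.univ
      fun ij : Fin n × Fin n => x.1 ij.1 ij.2
    choose a ha using fun ij => hb ij (Finset.mem_univ ij)
    let M : Matrix (Fin n) (Fin n) (Localization.Away (b : B)) := fun i j =>
      algebraMap B _ (a (i, j)) * ↑(IsLocalization.Away.algebraMap_isUnit (S := Localization.Away (b : B)) (b : B)).unit⁻¹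
    have hM : M.map (toStalk b.2) = x.1 := by
      ext i j
      have h1 : M i j * algebraMap B _ (b : B) = algebraMap B _ (a (i, j)) := by
        simp only [M]
        rw [mul_assoc, IsUnit.val_inv_mul, mul_one]
      have h2 := congrArg (toStalk b.2) h1
      rw [map_mul, AlgHom.commutes, AlgHom.commutes, ha (i, j), Algebra.smul_def, mul_comm] at h2
      exact (IsLocalization.map_units _ b).mul_left_cancel h2
    obtain ⟨c, m, hc, hnum⟩ := exists_num b.2 M.det (by
      rw [AlgHom.map_det, AlgHom.mapMatrix_apply, hM]
      exact (Matrix.isUnit_iff_isUnit_det _).1 x.isUnit)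
    have hd : (b : B) ∣ (b : B) * c := dvd_mul_right _ _
    have hu : IsUnit (M.map (res hd)).det := by
      rw [← AlgHom.mapMatrix_apply, ← AlgHom.map_det]
      exact isUnit_res_of_num hnum hd (dvd_mul_left _ _)
    refine ⟨(b : B) * c, q.primeCompl.mul_mem b.2 hc,
      ((Matrix.isUnit_iff_isUnit_det _).2 hu).unit, Units.ext ?_⟩
    change ((M.map (res hd)).map _) = x.1
    rw [← hM]
    ext i j
    exact toStalk_res hd (q.primeCompl.mul_mem b.2 hc) b.2 _
  let K : Subgroup (GL (Fin n) (Localization.AtPrime q)) :=
    { carrier := {x | ∃ (g : B) (hg : g ∉ q) (y : GL (Fin n) (Localization.Away g)),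
        y ∈ commutator _ ∧ st hg y = x}
      one_mem' := ⟨1, fun h => ‹q.IsPrime›.ne_top ((Ideal.eq_top_iff_one q).2 h), 1, one_mem _,
        map_one _⟩
      mul_mem' := by
        rintro _ _ ⟨g, hg, y, hy, rfl⟩ ⟨g', hg', y', hy', rfl⟩
        have hgg : g * g' ∉ q := q.primeCompl.mul_mem hg hg'
        exact ⟨g * g', hgg, rs (dvd_mul_right g g') y * rs (dvd_mul_left g' g) y',
          mul_mem (commutator_mem_map _ hy) (commutator_mem_map _ hy'),
          by rw [map_mul, hst _ hgg hg, hst _ hgg hg']⟩
      inv_mem' := by
        rintro _ ⟨g, hg, y, hy, rfl⟩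
        exact ⟨g, hg, y⁻¹, inv_mem hy, map_inv _ _⟩ }
  have hK : commutator (GL (Fin n) (Localization.AtPrime q)) ≤ K := by
    rw [commutator_def, Subgroup.commutator_le]
    intro x _ x' _
    obtain ⟨g, hg, y, rfl⟩ := hlift x
    obtain ⟨g', hg', y', rfl⟩ := hlift x'
    have hgg : g * g' ∉ q := q.primeCompl.mul_mem hg hg'
    refine ⟨g * g', hgg, ⁅rs (dvd_mul_right g g') y, rs (dvd_mul_left g' g) y'⁆,
      Subgroup.commutator_mem_commutator (Subgroup.mem_top _) (Subgroup.mem_top _), ?_⟩
    rw [map_commutatorElement, hst _ hgg hg, hst _ hgg hg']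
  obtain ⟨g, hg, y, hy, hys⟩ := hK hs
  let z : GL (Fin n) (Localization.Away g) := GeneralLinearGroup.map (algebraMap B _) s
  have hz : ∀ ij : Fin n × Fin n, toStalk hg (z.1 ij.1 ij.2) = toStalk hg (y.1 ij.1 ij.2) := by
    intro ij
    have h1 : (st hg y).1 ij.1 ij.2 =
        (GeneralLinearGroup.map (algebraMap B (Localization.AtPrime q)) s).1 ij.1 ij.2 := by rw [hys]
    exact ((toStalk hg).commutes _).trans h1.symm
  choose c hc hceq using fun ij : Fin n × Fin n => exists_res_eq hg _ _ (hz ij)
  refine ⟨g * ∏ ij, c ij, q.primeCompl.mul_mem hg (Submonoid.prod_mem _ fun ij _ => hc ij), ?_⟩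
  have : rs (dvd_mul_right g (∏ ij, c ij)) y = GeneralLinearGroup.map (algebraMap B _) s := by
    refine Units.ext (Matrix.ext fun i j => ?_)
    refine ((hceq (i, j) _ (dvd_mul_right g _)
      ((Finset.dvd_prod_of_mem c (Finset.mem_univ (i, j))).trans (dvd_mul_left _ _))).symm).trans ?_
    exact (res (T := B) _).commutes _
  rw [← this]
  exact commutator_mem_map _ hy
where
  commutator_mem_map {G H : Type u} [Group G] [Group H] (f : G →* H) {x : G} (hx : x ∈ commutator G) :
      f x ∈ commutator H := by
    have := Subgroup.mem_map_of_mem f hx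
    rw [commutator_def, Subgroup.map_commutator] at this
    exact Subgroup.commutator_mono le_top le_top this

/-- On the big étale site of a scheme the sheaf of commutator subgroups of Gl(n) is Sl(n) = Ker(det).
Concretely: let A be a commutative ring, n ≥ 0, s ∈ SL_n(A) and p a prime ideal of A. Then there are
an étale A-algebra A' with a prime ideal lying over p such that the image of s in GL_n(A') lies in
the commutator subgroup of GL_n(A'). (The inclusion of commutators in SL_n being clear, this is the
content of the statement.) -/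
theorem result (A : Type u) [CommRing A] (n : ℕ)
    (s : Matrix.SpecialLinearGroup (Fin n) A) (p : PrimeSpectrum A) :
    ∃ (A' : Type u) (_ : CommRing A') (_ : Algebra A A'), Algebra.Etale A A' ∧
      (∃ q : PrimeSpectrum A', q.asIdeal.comap (algebraMap A A') = p.asIdeal) ∧
      (Matrix.GeneralLinearGroup.map (algebraMap A A')) (Matrix.SpecialLinearGroup.toGL s) ∈
        commutator (Matrix.GeneralLinearGroup (Fin n) A') := by
  obtain ⟨B, _, _, _, q, hq, u, hu⟩ := exists_etale_unit A p
  let L := Localization.AtPrime q.asIdeal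
  let s' : GL (Fin n) B := GeneralLinearGroup.map (algebraMap A B) (SpecialLinearGroup.toGL s)
  have hdet : s'.1.det = 1 := by
    change ((s.1).map (algebraMap A B)).det = 1
    rw [← RingHom.mapMatrix_apply, ← RingHom.map_det, s.2, map_one]
  have hL : GeneralLinearGroup.map (algebraMap B L) s' ∈ commutator (GL (Fin n) L) := by
    refine mem_commutator_of_det_eq_one (Units.map (algebraMap B L).toMonoidHom u) ?_ _ ?_
    · have := hu.map (algebraMap B L)
      rwa [map_sub, map_one] at this
    · change (s'.1.map (algebraMap B L)).det = 1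
      rw [← RingHom.mapMatrix_apply, ← RingHom.map_det, hdet, map_one]
  obtain ⟨g, hg, hmem⟩ := spread q.asIdeal s' hL
  have : Algebra.Etale B (Localization.Away g) := Algebra.Etale.of_isLocalizationAway g
  refine ⟨Localization.Away g, inferInstance, inferInstance, Algebra.Etale.comp A B _, ?_, ?_⟩
  · have hd : Disjoint (Submonoid.powers g : Set B) (q.asIdeal : Set B) := by
      rw [Set.disjoint_left]
      rintro _ ⟨k, rfl⟩ hk
      exact hg (q.2.mem_of_pow_mem k hk)
    refine ⟨⟨q.asIdeal.map (algebraMap B _),
      IsLocalization.isPrime_of_isPrime_disjoint (Submonoid.powers g) _ q.asIdeal q.2 hd⟩, ?_⟩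
    have hu' : (q.asIdeal.map (algebraMap B (Localization.Away g))).comap (algebraMap B _) = q.asIdeal :=
      IsLocalization.under_map_of_isPrime_disjoint (Submonoid.powers g) _ q.2 hd
    rw [IsScalarTower.algebraMap_eq A B (Localization.Away g), ← Ideal.comap_comap]
    exact (congrArg _ hu').trans hq
  · rw [IsScalarTower.algebraMap_eq A B (Localization.Away g)]
    exact hmem

end Groth.Agent.S5658
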