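import Groth.Statements.S5659
import Mathlib
import Groth.Agent.Calg2.GLCommutator

set_option autoImplicit false
universe u
open CAlg

namespace Groth.Agent.S5659

section
open Matrix

/-- In a connected spectrum every idempotent is trivial. -/
theorem idem_trivial {R : Type*} [CommRing R] [ConnectedSpace (PrimeSpectrum R)] (e : R)
    (he : IsIdempotentElem e) : e = 0 ∨ e = 1 := by
  have h : IsClopen (PrimeSpectrum.basicOpen e : Set (PrimeSpectrum R)) := by
    refine ⟨?_, (PrimeSpectrum.basicOpen e).2⟩
    rw [← isOpen_compl_iff]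
    have h2 : (PrimeSpectrum.basicOpen e : Set (PrimeSpectrum R))ᶜ = PrimeSpectrum.basicOpen (1 - e) := by
      ext q
      simp only [Set.mem_compl_iff, SetLike.mem_coe, PrimeSpectrum.mem_basicOpen, not_not]
      constructor
      · intro hq hq'
        exact q.2.ne_top ((Ideal.eq_top_iff_one _).mpr (by simpa using add_mem hq hq'))
      · intro hq
        exact (q.2.mem_or_mem (show e * (1 - e) ∈ q.asIdeal by
          rw [mul_sub, mul_one, he.eq, sub_self]; exact zero_mem _)).resolve_right hq
    rw [h2]
    exact (PrimeSpectrum.basicOpen (1 - e)).2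
  rcases isClopen_iff.mp h with h0 | h1
  · refine Or.inl (PrimeSpectrum.basicOpen_injOn_isIdempotentElem he IsIdempotentElem.zero ?_)
    exact SetLike.ext' (h0.trans (by simp))
  · refine Or.inr (PrimeSpectrum.basicOpen_injOn_isIdempotentElem he IsIdempotentElem.one ?_)
    exact SetLike.ext' (h1.trans (by simp))

variable {R : Type u} [CommRing R]

/-- A character of `GL_m` natural in the algebra kills the matrices of determinant one. -/
theorem det_one_killed {m : ℕ}
    (β : ∀ (B : Type u) [CommRing B] [Algebra R B], GL (Fin m) B →* Bˣ)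
    (hβ : ∀ (B C : Type u) [CommRing B] [Algebra R B] [CommRing C] [Algebra R C] (φ : B →ₐ[R] C)
      (s : GL (Fin m) B), β C (GeneralLinearGroup.map φ.toRingHom s) = Units.map (φ.toRingHom : B →* C) (β B s))
    (B : Type u) [CommRing B] [Algebra R B] (s : GL (Fin m) B) (hs : (s : Matrix (Fin m) (Fin m) B).det = 1) :
    β B s = 1 := by
  -- local case
  have hloc : ∀ (B : Type u) [CommRing B] [Algebra R B] [IsLocalRing B] (s : GL (Fin m) B),
      (s : Matrix (Fin m) (Fin m) B).det = 1 → β B s = 1 := by
    intro B _ _ _ s hs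
    let P : Ideal (Polynomial B) := RingHom.ker (Polynomial.mapRingHom (IsLocalRing.residue B))
    haveI : P.IsPrime := RingHom.ker_isPrime _
    let C := Localization.AtPrime P
    let φ : B →ₐ[R] C := IsScalarTower.toAlgHom R B C
    have hinj : Function.Injective φ := by
      rw [injective_iff_map_eq_zero]
      intro b hb
      have hb' : algebraMap (Polynomial B) C (Polynomial.C b) = 0 := by
        rw [← Polynomial.algebraMap_eq, ← IsScalarTower.algebraMap_apply]
        exact hb
      obtain ⟨⟨q, hq⟩, hqb⟩ := (IsLocalization.map_eq_zero_iff P.primeCompl C _).mp hb'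
      obtain ⟨j, hj⟩ : ∃ j, IsUnit (q.coeff j) := by
        by_contra hc
        refine hq (RingHom.mem_ker.mpr (Polynomial.ext fun j => ?_))
        push Not at hc
        rw [Polynomial.coe_mapRingHom, Polynomial.coeff_map, Polynomial.coeff_zero,
          IsLocalRing.residue_eq_zero_iff]
        exact hc j
      have h0 := congrArg (fun r => Polynomial.coeff r j) hqb
      simp only [Polynomial.coeff_mul_C, Polynomial.coeff_zero] at h0
      exact hj.mul_right_eq_zero.mp h0
    have hX : IsUnit (algebraMap (Polynomial B) C Polynomial.X) := by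
      refine IsLocalization.map_units C (⟨Polynomial.X, fun h => ?_⟩ : P.primeCompl)
      simpa using (RingHom.mem_ker.mp h : Polynomial.map (IsLocalRing.residue B) Polynomial.X = 0)
    have hX1 : IsUnit ((hX.unit : C) - 1) := by
      rw [IsUnit.unit_spec, ← map_one (algebraMap (Polynomial B) C), ← map_sub]
      refine IsLocalization.map_units C (⟨Polynomial.X - 1, fun h => ?_⟩ : P.primeCompl)
      have h' : Polynomial.map (IsLocalRing.residue B) (Polynomial.X - 1) = 0 := RingHom.mem_ker.mp h
      rw [Polynomial.map_sub, Polynomial.map_X, Polynomial.map_one] at h'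
      exact Polynomial.X_sub_C_ne_zero (1 : IsLocalRing.ResidueField B) (by simpa using h')
    have h1 := hβ B C φ s
    rw [Groth.Calg2.GLComm.hom_eq_one_of_det_eq_one (β C) hX.unit hX1 (GeneralLinearGroup.map φ.toRingHom s)
      (by
        show ((s : Matrix (Fin m) (Fin m) B).map φ.toRingHom).det = 1
        rw [← RingHom.mapMatrix_apply, ← RingHom.map_det, hs, map_one])] at h1
    refine Units.ext (hinj ?_)
    have h2 := congrArg Units.val h1
    rw [Units.coe_map, Units.val_one] at h2
    rw [Units.val_one, map_one]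
    exact h2.symm
  refine Units.ext (MaximalSpectrum.toPiLocalization_injective B (funext fun 𝔪 => ?_))
  let φ : B →ₐ[R] Localization.AtPrime 𝔪.asIdeal := IsScalarTower.toAlgHom R B _
  have h1 := hβ B (Localization.AtPrime 𝔪.asIdeal) φ s
  rw [hloc _ _ (by
    show ((s : Matrix (Fin m) (Fin m) B).map φ.toRingHom).det = 1
    rw [← RingHom.mapMatrix_apply, ← RingHom.map_det, hs, map_one])] at h1
  have h2 := congrArg Units.val h1
  rw [Units.coe_map, Units.val_one] at h2
  rw [Units.val_one, map_one]
  exact h2.symm

variable (R) in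
/-- The tautological unit `T`. -/
noncomputable def Tunit : (LaurentPolynomial R)ˣ where
  val := LaurentPolynomial.T 1
  inv := LaurentPolynomial.T (-1)
  val_inv := by rw [← LaurentPolynomial.T_add]; simp
  inv_val := by rw [← LaurentPolynomial.T_add]; simp

theorem Tunit_zpow (k : ℤ) : ((Tunit R ^ k : (LaurentPolynomial R)ˣ) : LaurentPolynomial R) = LaurentPolynomial.T k := by
  induction k using Int.induction_on with
  | zero => simp
  | succ n ih => rw [_root_.zpow_add_one, Units.val_mul, ih, LaurentPolynomial.T_add]; rfl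
  | pred n ih => rw [_root_.zpow_sub_one, Units.val_mul, ih, sub_eq_add_neg, LaurentPolynomial.T_add]; rfl

/-- Evaluation at a unit. -/
noncomputable def evalUnit {B : Type*} [CommRing B] [Algebra R B] (t : Bˣ) : LaurentPolynomial R →ₐ[R] B :=
  AddMonoidAlgebra.lift R B ℤ ((Units.coeHom B).comp (zpowersHom Bˣ t))

theorem evalUnit_single {B : Type*} [CommRing B] [Algebra R B] (t : Bˣ) (k : ℤ) (a : R) :
    evalUnit t (AddMonoidAlgebra.single k a) = a • ((t ^ k : Bˣ) : B) := by
  rw [evalUnit, AddMonoidAlgebra.lift_single]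
  rfl

theorem evalUnit_Tunit {B : Type*} [CommRing B] [Algebra R B] (t : Bˣ) :
    Units.map ((evalUnit t : LaurentPolynomial R →ₐ[R] B).toRingHom : LaurentPolynomial R →* B) (Tunit R) = t := by
  ext
  show evalUnit t (LaurentPolynomial.T 1 : LaurentPolynomial R) = _
  rw [LaurentPolynomial.T, evalUnit_single, one_smul, zpow_one]

/-- Natural characters of the multiplicative group over a connected base. -/
theorem natural_unit_char [ConnectedSpace (PrimeSpectrum R)]
    (χ : ∀ (B : Type u) [CommRing B] [Algebra R B], Bˣ →* Bˣ)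
    (hχ : ∀ (B C : Type u) [CommRing B] [Algebra R B] [CommRing C] [Algebra R C] (φ : B →ₐ[R] C)
      (t : Bˣ), χ C (Units.map (φ.toRingHom : B →* C) t) = Units.map (φ.toRingHom : B →* C) (χ B t)) :
    ∃ k : ℤ, ∀ (B : Type u) [CommRing B] [Algebra R B] (t : Bˣ), χ B t = t ^ k := by
  classical
  haveI : Nontrivial R := by
    by_contra h
    rw [not_nontrivial_iff_subsingleton] at h
    exact IsEmpty.false (Classical.arbitrary (PrimeSpectrum R))
  let f : LaurentPolynomial R := ((χ (LaurentPolynomial R) (Tunit R) : (LaurentPolynomial R)ˣ) : LaurentPolynomial R)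
  have hall : ∀ (B : Type u) [CommRing B] [Algebra R B] (t : Bˣ), (χ B t : B) = evalUnit t f := by
    intro B _ _ t
    conv_lhs => rw [← evalUnit_Tunit (R := R) t, hχ]
    rfl
  let T' : (LaurentPolynomial (LaurentPolynomial R))ˣ := Units.map (algebraMap (LaurentPolynomial R) (LaurentPolynomial (LaurentPolynomial R)) : LaurentPolynomial R →* (LaurentPolynomial (LaurentPolynomial R))) (Tunit R)
  let U' : (LaurentPolynomial (LaurentPolynomial R))ˣ := Tunit (LaurentPolynomial R)
  have hT' : ∀ i : ℤ, ((T' ^ i : (LaurentPolynomial (LaurentPolynomial R))ˣ) : (LaurentPolynomial (LaurentPolynomial R))) = AddMonoidAlgebra.single 0 (AddMonoidAlgebra.single i (1 : R)) := by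
    intro i
    rw [← map_zpow, Units.coe_map, Tunit_zpow]
    rfl
  have hU' : ∀ j : ℤ, ((U' ^ j : (LaurentPolynomial (LaurentPolynomial R))ˣ) : (LaurentPolynomial (LaurentPolynomial R))) = AddMonoidAlgebra.single j (1 : LaurentPolynomial R) :=
    fun j => Tunit_zpow j
  have hmul : ∀ (a b : ℤ) (g h : LaurentPolynomial R),
      ((evalUnit T' g * evalUnit U' h : (LaurentPolynomial (LaurentPolynomial R))).coeff b).coeff a = g.coeff a * h.coeff b := by
    intro a b g h
    induction g using AddMonoidAlgebra.induction_linear with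
    | zero => simp
    | add g g' hg hg' =>
      simp only [map_add, add_mul, AddMonoidAlgebra.coeff_add, Finsupp.add_apply, hg, hg']
    | single i r =>
      induction h using AddMonoidAlgebra.induction_linear with
      | zero => simp
      | add g g' hg hg' =>
        simp only [map_add, mul_add, AddMonoidAlgebra.coeff_add, Finsupp.add_apply, hg, hg']
      | single j r' =>
        rw [evalUnit_single, evalUnit_single, hT', hU', smul_mul_smul_comm,
          AddMonoidAlgebra.single_mul_single, zero_add, mul_one]
        simp only [AddMonoidAlgebra.coeff_smul, AddMonoidAlgebra.coeff_single, Finsupp.smul_apply,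
          Finsupp.single_apply]
        by_cases h1 : j = b <;> by_cases h2 : i = a <;>
          simp [h1, h2, Finsupp.single_apply, -LaurentPolynomial.single_eq_C_mul_T]
  have hdiag : ∀ (a b : ℤ) (g : LaurentPolynomial R),
      ((evalUnit (T' * U') g : (LaurentPolynomial (LaurentPolynomial R))).coeff b).coeff a = if a = b then g.coeff a else 0 := by
    intro a b g
    induction g using AddMonoidAlgebra.induction_linear with
    | zero => simp
    | add g g' hg hg' =>
      simp only [map_add, AddMonoidAlgebra.coeff_add, Finsupp.add_apply, hg, hg']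
      split_ifs <;> simp
    | single i r =>
      rw [evalUnit_single, show (T' * U') ^ i = T' ^ i * U' ^ i from mul_zpow T' U' i, Units.val_mul, hT', hU', AddMonoidAlgebra.single_mul_single,
        zero_add, mul_one]
      simp only [AddMonoidAlgebra.coeff_smul, AddMonoidAlgebra.coeff_single, Finsupp.smul_apply,
        Finsupp.single_apply]
      by_cases h1 : i = b <;> by_cases h2 : i = a <;> by_cases h3 : a = b <;>
        simp_all [Finsupp.single_apply, -LaurentPolynomial.single_eq_C_mul_T]
  have hcoef : ∀ a b : ℤ, f.coeff a * f.coeff b = if a = b then f.coeff a else 0 := by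
    intro a b
    rw [← hmul, ← hdiag a b f, ← hall (LaurentPolynomial (LaurentPolynomial R)) T', ← hall (LaurentPolynomial (LaurentPolynomial R)) U', ← hall (LaurentPolynomial (LaurentPolynomial R)) (T' * U'), map_mul, Units.val_mul]
  obtain ⟨k, hk⟩ : ∃ k, f.coeff k ≠ 0 := by
    by_contra h
    push Not at h
    exact (χ (LaurentPolynomial R) (Tunit R)).ne_zero (LaurentPolynomial.ext fun a => by simpa using h a)
  have hk1 : f.coeff k = 1 :=
    (idem_trivial _ (by simpa [IsIdempotentElem] using hcoef k k)).resolve_left hk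
  have hf : f = AddMonoidAlgebra.single k 1 := by
    refine LaurentPolynomial.ext fun a => ?_
    rw [AddMonoidAlgebra.coeff_single, Finsupp.single_apply]
    split_ifs with hka
    · rw [← hka, hk1]
    · have := hcoef k a
      rwa [hk1, one_mul, if_neg hka] at this
  refine ⟨k, fun B _ _ t => Units.ext ?_⟩
  rw [hall B t, hf, evalUnit_single, one_smul]

/-- Natural characters of `GL_m`, `m > 0`. -/
theorem natural_gl_char [ConnectedSpace (PrimeSpectrum R)] {m : ℕ} (hm : 0 < m)
    (β : ∀ (B : Type u) [CommRing B] [Algebra R B], GL (Fin m) B →* Bˣ)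
    (hβ : ∀ (B C : Type u) [CommRing B] [Algebra R B] [CommRing C] [Algebra R C] (φ : B →ₐ[R] C)
      (s : GL (Fin m) B), β C (GeneralLinearGroup.map φ.toRingHom s) = Units.map (φ.toRingHom : B →* C) (β B s)) :
    ∃ k : ℤ, ∀ (B : Type u) [CommRing B] [Algebra R B] (s : GL (Fin m) B),
      β B s = GeneralLinearGroup.det s ^ k := by
  let i₀ : Fin m := ⟨0, hm⟩
  let χ : ∀ (B : Type u) [CommRing B] [Algebra R B], Bˣ →* Bˣ := fun B _ _ =>
    (β B).comp (Groth.Calg2.GLComm.diag.comp (MonoidHom.mulSingle (fun _ : Fin m => Bˣ) i₀))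
  obtain ⟨k, hk⟩ := natural_unit_char χ (fun B C _ _ _ _ φ t => by
    show β C _ = Units.map (φ.toRingHom : B →* C) (β B _)
    rw [← hβ B C φ]
    congr 1
    ext a b
    show Matrix.diagonal (fun i => ((Pi.mulSingle i₀ (Units.map (φ.toRingHom : B →* C) t) : Fin m → Cˣ) i : C)) a b =
      φ.toRingHom (Matrix.diagonal (fun i => ((Pi.mulSingle i₀ t : Fin m → Bˣ) i : B)) a b)
    by_cases hab : a = b
    · subst hab
      rw [Matrix.diagonal_apply_eq, Matrix.diagonal_apply_eq]
      by_cases ha : a = i₀
      · subst ha
        simp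
      · simp [Pi.mulSingle_eq_of_ne ha]
    · rw [Matrix.diagonal_apply_ne _ hab, Matrix.diagonal_apply_ne _ hab, map_zero])
  refine ⟨k, fun B _ _ s => ?_⟩
  let d : GL (Fin m) B := Groth.Calg2.GLComm.diag (Pi.mulSingle i₀ (GeneralLinearGroup.det s))
  have hd : GeneralLinearGroup.det d = GeneralLinearGroup.det s := by
    ext
    show (Matrix.diagonal (fun i => ((Pi.mulSingle i₀ (GeneralLinearGroup.det s) : Fin m → Bˣ) i : B))).det = _
    rw [Matrix.det_diagonal, Finset.prod_eq_single i₀ (fun b _ hb => by simp [Pi.mulSingle_eq_of_ne hb])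
      (fun h => absurd (Finset.mem_univ _) h)]
    simp
  have h1 : β B (d⁻¹ * s) = 1 := by
    refine det_one_killed β hβ B _ ?_
    have := congrArg Units.val (map_mul GeneralLinearGroup.det d⁻¹ s)
    rw [map_inv, hd, inv_mul_cancel] at this
    simpa using this
  rw [map_mul, map_inv, inv_mul_eq_one] at h1
  rw [← h1]
  exact hk B (GeneralLinearGroup.det s)

/-- A homomorphism to a commutative group from a finite product is the product of its restrictions. -/
theorem hom_pi_eq_prod {ι : Type*} [Fintype ι] [DecidableEq ι] {G : ι → Type*} [∀ i, Group (G i)]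
    {A : Type*} [CommGroup A] (F : (∀ i, G i) →* A) (s : ∀ i, G i) :
    F s = ∏ i, F (Pi.mulSingle i (s i)) := by
  have key : ∀ S : Finset ι, F (fun i => if i ∈ S then s i else 1) = ∏ i ∈ S, F (Pi.mulSingle i (s i)) := by
    intro S
    induction S using Finset.induction with
    | empty =>
      simp only [Finset.notMem_empty, if_false, Finset.prod_empty]
      exact map_one F
    | insert a S ha ih =>
      rw [Finset.prod_insert ha, ← ih, ← map_mul]
      congr 1
      funext i
      rcases eq_or_ne i a with rfl | hia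
      · simp [ha]
      · simp [hia]
  simpa using key Finset.univ

end

/-- Every homomorphism of group sheaves Gl(n_1) × ⋯ × Gl(n_r) → G_m is (s_1, …, s_r) ↦ det(s_1)^{m_1} ⋯
det(s_r)^{m_r} with locally constant integers m_i uniquely determined by it. Concretely, over a
commutative ring R whose prime spectrum is connected and for ranks n_i ≥ 1: every family of group
homomorphisms α_B : GL_{n_1}(B) × ⋯ × GL_{n_r}(B) → Bˣ, one for each commutative R-algebra B and
natural in B, is given by α_B(s) = Π_i det(s_i)^{m_i} for a unique m ∈ ℤ^r. (The published statement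
allows ranks n_i ≥ 0; uniqueness of m_i needs n_i ≥ 1, since Gl(0) is trivial.) -/
theorem result (R : Type u) [CommRing R] [ConnectedSpace (PrimeSpectrum R)]
    (r : ℕ) (n : Fin r → ℕ) (hn : ∀ i, 0 < n i)
    (α : ∀ (B : Type u) [CommRing B] [Algebra R B], (∀ i, Matrix.GeneralLinearGroup (Fin (n i)) B) →* Bˣ)
    (hα : ∀ (B C : Type u) [CommRing B] [Algebra R B] [CommRing C] [Algebra R C] (φ : B →ₐ[R] C)
      (s : ∀ i, Matrix.GeneralLinearGroup (Fin (n i)) B),
      α C (fun i => Matrix.GeneralLinearGroup.map φ.toRingHom (s i)) = Units.map (φ.toRingHom : B →* C) (α B s)) :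
    ∃! m : Fin r → ℤ, ∀ (B : Type u) [CommRing B] [Algebra R B] (s : ∀ i, Matrix.GeneralLinearGroup (Fin (n i)) B),
      α B s = ∏ i, Matrix.GeneralLinearGroup.det (s i) ^ (m i) := by
  classical
  let β : ∀ i, ∀ (B : Type u) [CommRing B] [Algebra R B], Matrix.GeneralLinearGroup (Fin (n i)) B →* Bˣ :=
    fun i B _ _ => (α B).comp (MonoidHom.mulSingle (fun i => Matrix.GeneralLinearGroup (Fin (n i)) B) i)
  have hβ : ∀ i, ∃ k : ℤ, ∀ (B : Type u) [CommRing B] [Algebra R B] (s : Matrix.GeneralLinearGroup (Fin (n i)) B),
      β i B s = Matrix.GeneralLinearGroup.det s ^ k := by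
    intro i
    refine natural_gl_char (hn i) (β i) fun B C _ _ _ _ φ s => ?_
    show α C (Pi.mulSingle i _) = Units.map _ (α B (Pi.mulSingle i s))
    rw [← hα B C φ]
    congr 1
    funext j
    rcases eq_or_ne j i with rfl | hj
    · simp
    · simp [Pi.mulSingle_eq_of_ne hj]
  choose m hm using hβ
  refine ⟨m, fun B _ _ s => ?_, fun m' hm' => funext fun i => ?_⟩
  · rw [hom_pi_eq_prod (α B) s]
    exact Finset.prod_congr rfl fun i _ => hm i B (s i)
  · let B := LaurentPolynomial R
    let d : Matrix.GeneralLinearGroup (Fin (n i)) B :=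
      Groth.Calg2.GLComm.diag (Pi.mulSingle ⟨0, hn i⟩ (Tunit R))
    have hd : Matrix.GeneralLinearGroup.det d = Tunit R := by
      refine Units.ext ?_
      show (Matrix.diagonal (fun j => ((Pi.mulSingle (⟨0, hn i⟩ : Fin (n i)) (Tunit R) : Fin (n i) → Bˣ) j : B))).det = _
      rw [Matrix.det_diagonal, Finset.prod_eq_single ⟨0, hn i⟩
        (fun b _ hb => by simp [Pi.mulSingle_eq_of_ne hb]) (fun h => absurd (Finset.mem_univ _) h)]
      simp
    have h1 := (hm' B (Pi.mulSingle i d)).symm.trans (hm i B d)
    rw [Finset.prod_eq_single i (fun b _ hb => by simp [Pi.mulSingle_eq_of_ne hb])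
      (fun h => absurd (Finset.mem_univ _) h), Pi.mulSingle_eq_same, hd] at h1
    haveI : Nontrivial R := by
      by_contra h
      rw [not_nontrivial_iff_subsingleton] at h
      exact IsEmpty.false (Classical.arbitrary (PrimeSpectrum R))
    have h2 := congrArg (fun x : Bˣ => ((x : B)).coeff (m' i)) h1
    simp only [B, Tunit_zpow, LaurentPolynomial.T_apply, if_true] at h2
    by_contra hne
    rw [if_neg (Ne.symm hne)] at h2
    exact one_ne_zero h2
end Groth.Agent.S5659
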