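import Groth.Statements.S5662
import Groth.Agent.PicAux.FreeBasis


set_option autoImplicit false
universe u
open CategoryTheory CategoryTheory.Limits AlgebraicGeometry
open FlatMor

namespace Groth.Agent.S5662

namespace HomDesc

open Opposite TopologicalSpace
open Groth.PicAux

variable {X Y : Scheme.{u}}

theorem congr_app_pullSec {g g' : X ⟶ Y} (h : g = g') (M : Y.Modules) {U : Y.Opens} {V : X.Opens}
    (e : V ≤ g ⁻¹ᵁ U) (e' : V ≤ g' ⁻¹ᵁ U) (m : Γ(M, U)) :
    ((Scheme.Modules.pullbackCongr h).hom.app M).app V (res _ e (pullSec g M m)) =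
      res _ e' (pullSec g' M m) := by
  subst h
  rfl

theorem congr_inv_app_pullSec {g g' : X ⟶ Y} (h : g = g') (M : Y.Modules) {U : Y.Opens} {V : X.Opens}
    (e : V ≤ g ⁻¹ᵁ U) (e' : V ≤ g' ⁻¹ᵁ U) (m : Γ(M, U)) :
    ((Scheme.Modules.pullbackCongr h).inv.app M).app V (res _ e' (pullSec g' M m)) =
      res _ e (pullSec g M m) := by
  subst h
  rfl

theorem comp_inv_pullSec {Z : Scheme.{u}} (p : Z ⟶ X) (f : X ⟶ Y) (M : Y.Modules) {U : Y.Opens}
    (m : Γ(M, U)) :
    ((Scheme.Modules.pullbackComp p f).inv.app M).app (p ⁻¹ᵁ (f ⁻¹ᵁ U)) (pullSec (p ≫ f) M m) =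
      pullSec p _ (pullSec f M m) := by
  rw [← pullSec_comp]
  exact congr(($(Iso.hom_inv_id_app (Scheme.Modules.pullbackComp p f) M)).app _
    (pullSec p _ (pullSec f M m)))

variable (f : X ⟶ Y)

theorem pullSec_injective (hinj : ∀ U : Y.Opens, Function.Injective (f.app U)) {M : Y.Modules}
    (hM : FlatMod.IsFinLocFree M) (V : Y.Opens) : Function.Injective (pullSec f M (U := V)) := by
  intro a b hab
  choose U n t hxU ht using fun x : (V : Type u) => exists_basis_of_isFinLocFree hM x.1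
  refine res_ext (fun x => V ⊓ U x) (fun _ => inf_le_left)
    (fun x hx => Opens.mem_iSup.2 ⟨⟨x, hx⟩, ⟨hx, hxU _⟩⟩) fun x => ?_
  let t' := fun j => res M (inf_le_right : V ⊓ U x ≤ U x) (t x j)
  have ht' : Basis' M (V ⊓ U x) t' := (ht x).res' inf_le_right
  obtain ⟨r, hr⟩ := (ht' _ le_rfl).2 (res M inf_le_left a)
  obtain ⟨r', hr'⟩ := (ht' _ le_rfl).2 (res M inf_le_left b)
  have h2 := congrArg (res _ (f.preimage_mono (inf_le_left : V ⊓ U x ≤ V))) hab
  rw [res_pullSec f M (inf_le_left : V ⊓ U x ≤ V), res_pullSec f M (inf_le_left : V ⊓ U x ≤ V)] at h2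
  rw [← hr, ← hr'] at h2 ⊢
  simp only [res_self] at h2 ⊢
  have hsum : ∀ r : Fin (n x) → Γ(Y, V ⊓ U x), pullSec f M (∑ j, r j • t' j) =
      ∑ j, f.app _ (r j) • pullSec f M (t' j) := by
    intro r
    refine (map_sum (((Scheme.Modules.pullbackPushforwardAdjunction f).unit.app M).app
      (V ⊓ U x)).hom _ _).trans (Finset.sum_congr rfl fun j _ => ?_)
    exact pullSec_smul f M (r j) (t' j)
  rw [hsum, hsum] at h2
  have h3 := ((ht'.pull f) _ le_rfl).1 (a₁ := fun j => f.app _ (r j)) (a₂ := fun j => f.app _ (r' j))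
    (by simpa only [res_self] using h2)
  exact congrArg (fun r : Fin (n x) → Γ(Y, V ⊓ U x) => ∑ j, r j • t' j)
    (funext fun j => hinj _ (congrFun h3 j))

end HomDesc


/-- Let f : X ⟶ Y be a morphism of schemes, p₁, p₂ : X ×_Y X ⟶ X the projections and g = p₁ ≫ f. Assume
that the sequence O_Y → f_*O_X ⇉ g_*O_{X ×_Y X} is exact, i.e. on every open U ⊆ Y the sections of
O_Y are exactly the sections of O_X over f⁻¹U whose two pullbacks to g⁻¹U agree (hypotheses hinj,
hex; hU is the bookkeeping identity of the two preimage opens). Then f is a morphism of descent for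
finite locally free modules: for finite locally free O_Y-modules L and M, every morphism φ : f^*L ⟶
f^*M whose pullbacks along p₁ and p₂ agree (compared through the canonical isomorphisms p_i^* f^* ≅
(p_i ≫ f)^* and p₁ ≫ f = p₂ ≫ f) is f^*ψ for a unique ψ : L ⟶ M. (The published statement is made
under further standing hypotheses (a surjective morphism between schemes proper and of finite
presentation over an integral Noetherian base, with flatness conditions), of which its proof uses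
only the exactness above; this row assumes only that exactness.) -/
theorem result {X Y : Scheme.{u}} (f : X ⟶ Y)
    (hU : ∀ U : Y.Opens, (pullback.fst f f) ⁻¹ᵁ (f ⁻¹ᵁ U) = (pullback.snd f f) ⁻¹ᵁ (f ⁻¹ᵁ U))
    (hinj : ∀ U : Y.Opens, Function.Injective (f.app U))
    (hex : ∀ (U : Y.Opens) (a : Γ(X, f ⁻¹ᵁ U)),
      (pullback.fst f f).app (f ⁻¹ᵁ U) a =
        ((pullback f f).presheaf.map (eqToHom (hU U)).op) ((pullback.snd f f).app (f ⁻¹ᵁ U) a) →
      a ∈ Set.range (f.app U))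
    (L M : Y.Modules) (hL : FlatMod.IsFinLocFree L) (hM : FlatMod.IsFinLocFree M)
    (φ : (Scheme.Modules.pullback f).obj L ⟶ (Scheme.Modules.pullback f).obj M)
    (hφ : ((Scheme.Modules.pullbackComp (pullback.fst f f) f).app L).inv ≫
        (Scheme.Modules.pullback (pullback.fst f f)).map φ ≫ ((Scheme.Modules.pullbackComp (pullback.fst f f) f).app M).hom =
      ((Scheme.Modules.pullbackCongr (pullback.condition (f := f) (g := f))).app L).hom ≫
        ((Scheme.Modules.pullbackComp (pullback.snd f f) f).app L).inv ≫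
        (Scheme.Modules.pullback (pullback.snd f f)).map φ ≫ ((Scheme.Modules.pullbackComp (pullback.snd f f) f).app M).hom ≫
        ((Scheme.Modules.pullbackCongr (pullback.condition (f := f) (g := f))).app M).inv) :
    ∃! ψ : L ⟶ M, (Scheme.Modules.pullback f).map ψ = φ := by
  have hPinj := fun V => HomDesc.pullSec_injective f hinj hM V
  let p₁ := pullback.fst f f
  let p₂ := pullback.snd f f
  have hc : p₁ ≫ f = p₂ ≫ f := pullback.condition
  -- existence on sections
  have key : ∀ (V : Y.Opens) (x : Γ(L, V)), ∃ y : Γ(M, V),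
      Groth.PicAux.pullSec f M y = φ.app (f ⁻¹ᵁ V) (Groth.PicAux.pullSec f L x) := by
    intro V x
    choose U n t hyU ht using fun y : (V : Type u) => Groth.PicAux.exists_basis_of_isFinLocFree hM y.1
    have hloc : ∀ i, ∃ y : Γ(M, V ⊓ U i), Groth.PicAux.pullSec f M y =
        φ.app (f ⁻¹ᵁ (V ⊓ U i)) (Groth.PicAux.pullSec f L (Groth.PicAux.res L inf_le_left x)) := by
      intro i
      let W := V ⊓ U i
      let z := Groth.PicAux.res L (inf_le_left : W ≤ V) x
      let t' := fun j => Groth.PicAux.res M (inf_le_right : W ≤ U i) (t i j)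
      have ht' : Groth.PicAux.Basis' M W t' := (ht i).res' inf_le_right
      obtain ⟨a, ha⟩ := ((ht'.pull f) (f ⁻¹ᵁ W) le_rfl).2 (φ.app _ (Groth.PicAux.pullSec f L z))
      simp only [Groth.PicAux.res_self] at ha
      have e₂ : (p₁ ≫ f) ⁻¹ᵁ W ≤ (p₂ ≫ f) ⁻¹ᵁ W := (hU W).le
      let c₁ : Fin (n i) → Γ(pullback f f, (p₁ ≫ f) ⁻¹ᵁ W) := fun j => p₁.app _ (a j)
      let c₂ : Fin (n i) → Γ(pullback f f, (p₂ ≫ f) ⁻¹ᵁ W) := fun j => p₂.app _ (a j)
      have hev := congr(($hφ).app ((p₁ ≫ f) ⁻¹ᵁ W) (Groth.PicAux.pullSec (p₁ ≫ f) L z))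
      have hL1 : ((Scheme.Modules.pullbackComp p₁ f).hom.app M).app ((p₁ ≫ f) ⁻¹ᵁ W)
          (((Scheme.Modules.pullback p₁).map φ).app ((p₁ ≫ f) ⁻¹ᵁ W)
            (((Scheme.Modules.pullbackComp p₁ f).inv.app L).app ((p₁ ≫ f) ⁻¹ᵁ W)
              (Groth.PicAux.pullSec (p₁ ≫ f) L z))) =
          ∑ j, c₁ j • Groth.PicAux.pullSec (p₁ ≫ f) M (t' j) := by
        show ((Scheme.Modules.pullbackComp p₁ f).hom.app M).app (p₁ ⁻¹ᵁ (f ⁻¹ᵁ W))
          (((Scheme.Modules.pullback p₁).map φ).app (p₁ ⁻¹ᵁ (f ⁻¹ᵁ W))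
            (((Scheme.Modules.pullbackComp p₁ f).inv.app L).app (p₁ ⁻¹ᵁ (f ⁻¹ᵁ W))
              (Groth.PicAux.pullSec (p₁ ≫ f) L z))) = _
        rw [HomDesc.comp_inv_pullSec, Groth.PicAux.pullSec_map, ← ha]
        refine (congrArg _ (map_sum (((Scheme.Modules.pullbackPushforwardAdjunction p₁).unit.app _).app
          (f ⁻¹ᵁ W)).hom _ _)).trans ((map_sum _ _ _).trans (Finset.sum_congr rfl fun j _ => ?_))
        refine (congrArg _ (Groth.PicAux.pullSec_smul p₁ _ _ _)).trans ?_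
        refine (Scheme.Modules.Hom.app_smul _ _ _).trans ?_
        exact congrArg _ (Groth.PicAux.pullSec_comp p₁ f M (t' j))
      have hR1 : ((Scheme.Modules.pullbackComp p₂ f).hom.app M).app ((p₂ ≫ f) ⁻¹ᵁ W)
          (((Scheme.Modules.pullback p₂).map φ).app ((p₂ ≫ f) ⁻¹ᵁ W)
            (((Scheme.Modules.pullbackComp p₂ f).inv.app L).app ((p₂ ≫ f) ⁻¹ᵁ W)
              (Groth.PicAux.pullSec (p₂ ≫ f) L z))) =
          ∑ j, c₂ j • Groth.PicAux.pullSec (p₂ ≫ f) M (t' j) := by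
        show ((Scheme.Modules.pullbackComp p₂ f).hom.app M).app (p₂ ⁻¹ᵁ (f ⁻¹ᵁ W))
          (((Scheme.Modules.pullback p₂).map φ).app (p₂ ⁻¹ᵁ (f ⁻¹ᵁ W))
            (((Scheme.Modules.pullbackComp p₂ f).inv.app L).app (p₂ ⁻¹ᵁ (f ⁻¹ᵁ W))
              (Groth.PicAux.pullSec (p₂ ≫ f) L z))) = _
        rw [HomDesc.comp_inv_pullSec, Groth.PicAux.pullSec_map, ← ha]
        refine (congrArg _ (map_sum (((Scheme.Modules.pullbackPushforwardAdjunction p₂).unit.app _).app
          (f ⁻¹ᵁ W)).hom _ _)).trans ((map_sum _ _ _).trans (Finset.sum_congr rfl fun j _ => ?_))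
        refine (congrArg _ (Groth.PicAux.pullSec_smul p₂ _ _ _)).trans ?_
        refine (Scheme.Modules.Hom.app_smul _ _ _).trans ?_
        exact congrArg _ (Groth.PicAux.pullSec_comp p₂ f M (t' j))
      have hR : ((Scheme.Modules.pullbackCongr hc).inv.app M).app ((p₁ ≫ f) ⁻¹ᵁ W)
          (((Scheme.Modules.pullbackComp p₂ f).hom.app M).app ((p₁ ≫ f) ⁻¹ᵁ W)
          (((Scheme.Modules.pullback p₂).map φ).app ((p₁ ≫ f) ⁻¹ᵁ W)
            (((Scheme.Modules.pullbackComp p₂ f).inv.app L).app ((p₁ ≫ f) ⁻¹ᵁ W)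
              (((Scheme.Modules.pullbackCongr hc).hom.app L).app ((p₁ ≫ f) ⁻¹ᵁ W)
                (Groth.PicAux.pullSec (p₁ ≫ f) L z))))) =
          ∑ j, (Groth.PicAux.resX _ e₂ (c₂ j)) • Groth.PicAux.pullSec (p₁ ≫ f) M (t' j) := by
        have h0 := HomDesc.congr_app_pullSec hc L (le_refl ((p₁ ≫ f) ⁻¹ᵁ W)) e₂ z
        rw [Groth.PicAux.res_self] at h0
        have h5 : ((Scheme.Modules.pullbackComp p₂ f).hom.app M).app ((p₁ ≫ f) ⁻¹ᵁ W)
          (((Scheme.Modules.pullback p₂).map φ).app ((p₁ ≫ f) ⁻¹ᵁ W)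
            (((Scheme.Modules.pullbackComp p₂ f).inv.app L).app ((p₁ ≫ f) ⁻¹ᵁ W)
              (((Scheme.Modules.pullbackCongr hc).hom.app L).app ((p₁ ≫ f) ⁻¹ᵁ W)
                (Groth.PicAux.pullSec (p₁ ≫ f) L z)))) =
          ∑ j, Groth.PicAux.res ((Scheme.Modules.pullback (p₂ ≫ f)).obj M) e₂
            (c₂ j • Groth.PicAux.pullSec (p₂ ≫ f) M (t' j)) := by
          rw [h0]
          refine (congrArg _ (congrArg _ (Groth.PicAux.app_res ((Scheme.Modules.pullbackComp p₂ f).inv.app L) e₂ _))).trans ?_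
          refine (congrArg _ (Groth.PicAux.app_res ((Scheme.Modules.pullback p₂).map φ) e₂ _)).trans ?_
          refine (Groth.PicAux.app_res ((Scheme.Modules.pullbackComp p₂ f).hom.app M) e₂ _).trans ?_
          exact (congrArg _ hR1).trans (Groth.PicAux.res_sum e₂ Finset.univ _)
        refine (congrArg _ h5).trans ?_
        rw [map_sum]
        refine Finset.sum_congr rfl fun j _ => ?_
        refine (congrArg _ (Groth.PicAux.res_smul _ _ _)).trans ?_
        refine (Scheme.Modules.Hom.app_smul _ _ _).trans ?_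
        refine congrArg _ ?_
        have h1 := HomDesc.congr_inv_app_pullSec hc M (le_refl ((p₁ ≫ f) ⁻¹ᵁ W)) e₂ (t' j)
        rwa [Groth.PicAux.res_self] at h1
      have heq : c₁ = fun j => Groth.PicAux.resX _ e₂ (c₂ j) := by
        refine ((ht'.pull (p₁ ≫ f)) _ le_rfl).1 ?_
        simp only [Groth.PicAux.res_self]
        exact hL1.symm.trans (hev.trans hR)
      choose b hb using fun j => hex W (a j) (congrFun heq j)
      refine ⟨∑ j, b j • t' j, ?_⟩
      rw [← ha]
      refine (map_sum (((Scheme.Modules.pullbackPushforwardAdjunction f).unit.app M).app W).hom _ _).trans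
        (Finset.sum_congr rfl fun j _ => ?_)
      rw [← hb j]
      exact Groth.PicAux.pullSec_smul f M (b j) (t' j)
    choose y hy using hloc
    obtain ⟨Y₀, hY₀, -⟩ := Groth.PicAux.res_glue (fun i => V ⊓ U i) (fun _ => inf_le_left)
      (fun z hz => TopologicalSpace.Opens.mem_iSup.2 ⟨⟨z, hz⟩, ⟨hz, hyU _⟩⟩) y (fun i j => by
        refine hPinj _ ?_
        rw [← Groth.PicAux.res_pullSec f M (inf_le_left : (V ⊓ U i) ⊓ (V ⊓ U j) ≤ V ⊓ U i), ← Groth.PicAux.res_pullSec f M (inf_le_right : (V ⊓ U i) ⊓ (V ⊓ U j) ≤ V ⊓ U j), hy, hy, ← Groth.PicAux.app_res,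
          ← Groth.PicAux.app_res, Groth.PicAux.res_pullSec f L (inf_le_left : (V ⊓ U i) ⊓ (V ⊓ U j) ≤ V ⊓ U i),
          Groth.PicAux.res_pullSec f L (inf_le_right : (V ⊓ U i) ⊓ (V ⊓ U j) ≤ V ⊓ U j),
          Groth.PicAux.res_res, Groth.PicAux.res_res])
    refine ⟨Y₀, Groth.PicAux.res_ext (fun i => f ⁻¹ᵁ (V ⊓ U i)) (fun i => f.preimage_mono inf_le_left)
      (fun z hz => TopologicalSpace.Opens.mem_iSup.2 ⟨⟨f z, hz⟩, ⟨hz, hyU _⟩⟩) fun i => ?_⟩
    rw [Groth.PicAux.res_pullSec f M (inf_le_left : V ⊓ U i ≤ V), ← Groth.PicAux.app_res,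
      Groth.PicAux.res_pullSec f L (inf_le_left : V ⊓ U i ≤ V), hY₀, hy]
  choose g hg using key
  have hadd : ∀ V x y, g V (x + y) = g V x + g V y := by
    intro V x y
    refine hPinj V ?_
    refine (hg V (x + y)).trans ?_
    refine ((congrArg _ (map_add (((Scheme.Modules.pullbackPushforwardAdjunction f).unit.app L).app V).hom x y)).trans
      (map_add _ _ _)).trans ?_
    refine Eq.trans ?_ (map_add (((Scheme.Modules.pullbackPushforwardAdjunction f).unit.app M).app V).hom _ _).symm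
    exact congrArg₂ (· + ·) (hg V x).symm (hg V y).symm
  have hsmul : ∀ V (r : Γ(Y, V)) x, g V (r • x) = r • g V x := by
    intro V r x
    refine hPinj V ?_
    rw [hg, Groth.PicAux.pullSec_smul, Groth.PicAux.pullSec_smul, hg]
    exact Scheme.Modules.Hom.app_smul _ _ _
  have hres : ∀ V W (h : W ≤ V) x, Groth.PicAux.res M h (g V x) = g W (Groth.PicAux.res L h x) := by
    intro V W h x
    refine hPinj W ?_
    rw [hg, ← Groth.PicAux.res_pullSec, hg, ← Groth.PicAux.app_res, Groth.PicAux.res_pullSec]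
  obtain ⟨ψ, hψ⟩ := Groth.PicAux.exists_hom_of_cover (U := fun _ : PUnit.{u + 1} => (⊤ : Y.Opens)) (L := L)
    (M := M) (by simp) (fun _ V _ x => g V x) (fun _ V _ => hadd V) (fun _ V _ => hsmul V)
    (fun _ V W _ h x => hres V W h x) (fun _ _ _ _ _ _ => rfl)
  refine ⟨ψ, ?_, fun ψ' hψ' => ?_⟩
  · apply ((Scheme.Modules.pullbackPushforwardAdjunction f).homEquiv _ _).injective
    ext V x
    show ((Scheme.Modules.pullback f).map ψ).app (f ⁻¹ᵁ V) (Groth.PicAux.pullSec f L x) =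
      φ.app (f ⁻¹ᵁ V) (Groth.PicAux.pullSec f L x)
    rw [Groth.PicAux.pullSec_map, hψ ⟨⟩ V le_top x, hg]
  · ext V x
    refine hPinj V ?_
    rw [hψ ⟨⟩ V le_top x, hg, ← Groth.PicAux.pullSec_map]
    exact congr(($hψ').app (f ⁻¹ᵁ V) (Groth.PicAux.pullSec f L x))


end Groth.Agent.S5662
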