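import Groth.Statements.S5663
import Mathlib
import Groth.Agent.S16234

set_option autoImplicit false
universe u
open TensorProduct
open CAlg

namespace Groth.Agent.S5663

open scoped TensorProduct

/-- stabilisation of a descending chain at a minimal prime of its annihilator -/
theorem exists_stage {A : Type u} [CommRing A] [IsNoetherianRing A] {L : Type u} [AddCommGroup L] [Module A L]
    [Module.Finite A L] (p : Ideal A) [p.IsPrime] (hp : p ∈ (Module.annihilator A L).minimalPrimes)
    (S : ℕ → Submodule A L) (hS : Antitone S) :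
    ∃ n, ∀ x ∈ S n, ∃ s ∉ p, s • x ∈ S (n + 1) := by
  let Ap := Localization p.primeCompl
  have : IsLocalization.AtPrime Ap p := inferInstanceAs (IsLocalization p.primeCompl Ap)
  have : IsLocalRing Ap := IsLocalization.AtPrime.isLocalRing Ap p
  have : IsNoetherianRing Ap := IsLocalization.isNoetherianRing p.primeCompl Ap ‹_›
  have : Module.Finite Ap (LocalizedModule p.primeCompl L) :=
    Module.Finite.of_isLocalizedModule p.primeCompl (LocalizedModule.mkLinearMap p.primeCompl L)
  have hfl : IsFiniteLength Ap (LocalizedModule p.primeCompl L) := by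
    refine (Groth.Agent.S16234.result Ap (LocalizedModule p.primeCompl L)).mp fun P hP => ?_
    have hann : Module.annihilator A L ≤ P.asIdeal.comap (algebraMap A Ap) := by
      intro r hr
      refine Module.annihilator_le_of_mem_support hP ?_
      rw [Module.mem_annihilator]
      intro z
      induction z using LocalizedModule.induction_on with
      | h m s => rw [algebraMap_smul, LocalizedModule.smul'_mk, Module.mem_annihilator.mp hr m, LocalizedModule.zero_mk]
    have hle : P.asIdeal.comap (algebraMap A Ap) ≤ p := by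
      intro r hr
      by_contra h
      exact P.isPrime.ne_top (Ideal.eq_top_of_isUnit_mem _ hr (IsLocalization.map_units Ap (⟨r, h⟩ : p.primeCompl)))
    have heq : P.asIdeal.comap (algebraMap A Ap) = p :=
      le_antisymm hle (hp.2 ⟨Ideal.IsPrime.comap _, hann⟩ hle)
    have : P.asIdeal = IsLocalRing.maximalIdeal Ap := by
      rw [← IsLocalization.map_under p.primeCompl Ap P.asIdeal, show P.asIdeal.under A = p from heq]
      exact IsLocalization.AtPrime.map_eq_maximalIdeal p Ap
    rw [this]
    exact IsLocalRing.maximalIdeal.isMaximal _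
  have : IsArtinian Ap (LocalizedModule p.primeCompl L) := (isFiniteLength_iff_isNoetherian_isArtinian.mp hfl).2
  obtain ⟨n, hn⟩ := IsArtinian.monotone_stabilizes
    (⟨fun i => OrderDual.toDual ((S i).localized' Ap p.primeCompl (LocalizedModule.mkLinearMap p.primeCompl L)),
      fun i j hij => fun z hz => by
        obtain ⟨m, hm, s, rfl⟩ := hz
        exact ⟨m, hS hij hm, s, rfl⟩⟩ : ℕ →o (Submodule Ap (LocalizedModule p.primeCompl L))ᵒᵈ)
  refine ⟨n, fun x hx => ?_⟩
  have h := (Submodule.ext_iff.mp (OrderDual.toDual.injective (hn (n + 1) (Nat.le_succ n))) (LocalizedModule.mk x 1)).mp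
    ⟨x, hx, 1, by rw [IsLocalizedModule.mk_eq_mk']⟩
  obtain ⟨m, hm, s, hms⟩ := h
  rw [← IsLocalizedModule.mk_eq_mk', LocalizedModule.mk_eq] at hms
  obtain ⟨u, hu⟩ := hms
  rw [one_smul] at hu
  refine ⟨u * s, fun h => (‹p.IsPrime›.mem_or_mem h).elim u.2 s.2, ?_⟩
  have : ((u : A) * s) • x = (u : A) • m := by rw [mul_smul]; exact hu.symm
  rw [this]
  exact Submodule.smul_mem _ _ hm

/-- an algebra which is nowhere changed by the equalizer has trivial residue tensor modulo the unit line -/
theorem residue_tensor_mem_span {A C : Type u} [CommRing A] [CommRing C] [Algebra A C] [Module.Finite A C]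
    (hinj : Function.Injective (algebraMap A C)) (p : Ideal A) [p.IsPrime]
    (h : ∀ c : C, ∃ t ∉ p, (t • c) ⊗ₜ[A] (1 : C) = (1 : C) ⊗ₜ[A] (t • c)) (c : C) :
    (1 : p.ResidueField) ⊗ₜ[A] c ∈ Submodule.span p.ResidueField {((1 : p.ResidueField) ⊗ₜ[A] (1 : C))} := by
  set k := p.ResidueField
  by_contra hc
  obtain ⟨f, hf, hfs⟩ := Submodule.exists_dual_map_eq_bot_of_notMem hc inferInstance
  have hnt : Nontrivial (k ⊗[A] C) := by
    refine (Module.mem_support_iff_nontrivial_residueField_tensorProduct (R := A) (M := C) ⟨p, inferInstance⟩).mp ?_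
    rw [Module.support_eq_zeroLocus]
    have hz : Module.annihilator A C = ⊥ := (eq_bot_iff).mpr fun r hr => by
      rw [Submodule.mem_bot]
      refine hinj ?_
      rw [map_zero, Algebra.algebraMap_eq_smul_one]
      exact Module.mem_annihilator.mp hr 1
    rw [hz]
    simp
  have he : (1 : k) ⊗ₜ[A] (1 : C) ∉ (⊥ : Submodule k (k ⊗[A] C)) := by
    rw [Submodule.mem_bot]
    exact one_ne_zero
  obtain ⟨g, hg, -⟩ := Submodule.exists_dual_map_eq_bot_of_notMem he inferInstance
  have hfe : f ((1 : k) ⊗ₜ[A] (1 : C)) = 0 := by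
    have := Submodule.mem_map_of_mem (f := f) (Submodule.mem_span_singleton_self ((1 : k) ⊗ₜ[A] (1 : C)))
    rwa [hfs, Submodule.mem_bot] at this
  let ι : C →ₗ[A] k ⊗[A] C := TensorProduct.mk A k C 1
  let Φ : C ⊗[A] C →ₗ[A] k := TensorProduct.lift
    ((LinearMap.mul A k).compl₁₂ ((f.restrictScalars A).comp ι) ((g.restrictScalars A).comp ι))
  obtain ⟨t, ht, hteq⟩ := h c
  have hΦ : ∀ x y : C, Φ (x ⊗ₜ[A] y) = f ((1 : k) ⊗ₜ[A] x) * g ((1 : k) ⊗ₜ[A] y) := fun x y => rfl
  have := congrArg Φ hteq
  rw [hΦ, hΦ, TensorProduct.tmul_smul, LinearMap.map_smul_of_tower, hfe, zero_mul, smul_mul_assoc,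
    Algebra.smul_def, mul_eq_zero, or_iff_left (mul_ne_zero hf hg)] at this
  exact ht (Ideal.algebraMap_residueField_eq_zero.mp this)


/-- Let A be a Noetherian ring and B a finite A-algebra with A → B injective (a finite schematically
dominant morphism Spec B → Spec A). Define subalgebras B_0 = B and B_{i+1} = the equalizer of the
two maps B_i ⇉ B_i ⊗_A B_i, b ↦ b ⊗ 1, 1 ⊗ b. Then B_m = A (the image of A) for some m; equivalently
Spec B → Spec A factors as a finite chain of finite morphisms Spec B_i → Spec B_{i+1} each of which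
is an effective epimorphism (B_{i+1} is the equalizer of B_i ⇉ B_i ⊗_{B_{i+1}} B_i). The sequence is
given here as any family C of subalgebras satisfying the recursion. (The published statement is for
a finite morphism X → Y of schemes with Y Noetherian and O_Y → f_*O_X injective; this row is the
affine case.) -/
theorem result (A B : Type u) [CommRing A] [CommRing B] [Algebra A B]
    [IsNoetherianRing A] [Module.Finite A B] (hinj : Function.Injective (algebraMap A B))
    (C : ℕ → Subalgebra A B) (h0 : C 0 = ⊤)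
    (hstep : ∀ (i : ℕ) (b : B), b ∈ C (i + 1) ↔ ∃ hb : b ∈ C i,
      ((⟨b, hb⟩ : C i) ⊗ₜ[A] (1 : C i) : C i ⊗[A] C i) = (1 : C i) ⊗ₜ[A] (⟨b, hb⟩ : C i)) :
    ∃ m : ℕ, C m = ⊥ := by
  let π : B →ₗ[A] B ⧸ Submodule.span A {(1 : B)} := Submodule.mkQ _
  let N : ℕ → Submodule A (B ⧸ Submodule.span A {(1 : B)}) := fun i => (Subalgebra.toSubmodule (C i)).map π
  have hCdec : ∀ i, C (i + 1) ≤ C i := fun i b hb => ((hstep i b).mp hb).1
  have hCanti : Antitone C := antitone_nat_of_succ_le hCdec
  have hN : Antitone N := fun i j hij => Submodule.map_mono (fun x hx => hCanti hij hx)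
  obtain ⟨i₀, hi₀⟩ := monotone_stabilizes_iff_noetherian.mpr (inferInstance : IsNoetherian A A)
    (⟨fun i => (N i).annihilator, fun i j hij => Submodule.annihilator_mono (hN hij)⟩ : ℕ →o Ideal A)
  by_cases htop : (N i₀).annihilator = ⊤
  · refine ⟨i₀, eq_bot_iff.mpr fun b hb => ?_⟩
    rw [Submodule.annihilator_eq_top_iff] at htop
    have : π b ∈ N i₀ := Submodule.mem_map_of_mem hb
    rw [htop, Submodule.mem_bot, Submodule.mkQ_apply, Submodule.Quotient.mk_eq_zero, Submodule.mem_span_singleton] at this
    obtain ⟨r, rfl⟩ := this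
    exact Algebra.mem_bot.mpr ⟨r, Algebra.algebraMap_eq_smul_one r⟩
  exfalso
  obtain ⟨p, hp⟩ := Ideal.nonempty_minimalPrimes htop
  have := hp.1.1
  obtain ⟨n, hn⟩ := exists_stage p (L := ↥(N i₀)) hp (fun i => (N (i₀ + i)).comap (N i₀).subtype)
    (fun i j hij => Submodule.comap_mono (hN (by omega)))
  set i := i₀ + n with hi
  have hC : ∀ c : C i, ∃ t ∉ p, (t • c) ⊗ₜ[A] (1 : C i) = (1 : C i) ⊗ₜ[A] (t • c) := by
    intro c
    obtain ⟨t, ht, htc⟩ := hn ⟨π c, hN (Nat.le_add_right _ _) (Submodule.mem_map_of_mem c.2)⟩ (Submodule.mem_map_of_mem c.2)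
    obtain ⟨c', hc', hc''⟩ := Submodule.mem_map.mp (Submodule.mem_comap.mp htc)
    have hd : t • (c : B) - c' ∈ Submodule.span A {(1 : B)} := by
      rw [← Submodule.Quotient.mk_eq_zero, Submodule.Quotient.mk_sub, sub_eq_zero, Submodule.Quotient.mk_smul]
      exact hc''.symm
    obtain ⟨r, hr⟩ := Submodule.mem_span_singleton.mp hd
    have hmem : t • (c : B) ∈ C (i + 1) := by
      rw [sub_eq_iff_eq_add.mp hr.symm]
      exact (C (i + 1)).add_mem ((C (i + 1)).smul_mem (one_mem _) r) hc'
    obtain ⟨hb, heq⟩ := (hstep i _).mp hmem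
    exact ⟨t, ht, heq⟩
  have : Module.Finite A (C i) := Module.Finite.of_injective (C i).val.toLinearMap Subtype.val_injective
  have hinj' : Function.Injective (algebraMap A (C i)) := fun a b h => hinj (congrArg Subtype.val h)
  let ρ : C i →ₗ[A] N i := (π.comp (C i).val.toLinearMap).codRestrict (N i) fun c => Submodule.mem_map_of_mem c.2
  have hρ : Function.Surjective ρ := by
    rintro ⟨x, hx⟩
    obtain ⟨b, hb, rfl⟩ := Submodule.mem_map.mp hx
    exact ⟨⟨b, hb⟩, rfl⟩
  have hsub : Subsingleton (p.ResidueField ⊗[A] N i) := by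
    refine subsingleton_of_forall_eq 0 fun z => ?_
    induction z using TensorProduct.induction_on with
    | zero => rfl
    | add a b ha hb => rw [ha, hb, add_zero]
    | tmul x y =>
      obtain ⟨c, rfl⟩ := hρ y
      obtain ⟨s, hs⟩ := Submodule.mem_span_singleton.mp (residue_tensor_mem_span hinj' p hC c)
      have h0 : ρ 1 = 0 := by
        apply Subtype.ext
        show π 1 = 0
        rw [Submodule.mkQ_apply, Submodule.Quotient.mk_eq_zero]
        exact Submodule.mem_span_singleton_self _
      have h1 : (1 : p.ResidueField) ⊗ₜ[A] ρ c = 0 := by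
        have := congrArg (ρ.lTensor p.ResidueField) hs
        rw [TensorProduct.smul_tmul', LinearMap.lTensor_tmul, LinearMap.lTensor_tmul, h0, TensorProduct.tmul_zero] at this
        exact this.symm
      have : x ⊗ₜ[A] ρ c = x • ((1 : p.ResidueField) ⊗ₜ[A] ρ c) := by rw [TensorProduct.smul_tmul', smul_eq_mul, mul_one]
      rw [this, h1, smul_zero]
  have hle : (N i).annihilator ≤ p := by
    have : (N i₀).annihilator = (N i).annihilator := hi₀ i (Nat.le_add_right _ _)
    rw [← this]; exact hp.1.2
  have hmem : (⟨p, inferInstance⟩ : PrimeSpectrum A) ∈ Module.support A (N i) := by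
    rw [Module.support_eq_zeroLocus]; exact hle
  rw [Module.mem_support_iff_nontrivial_residueField_tensorProduct] at hmem
  exact not_nontrivial_iff_subsingleton.mpr hsub hmem
end Groth.Agent.S5663
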