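import Groth.Statements.S5665
import Groth.Agent.Misc7.RegSeq.Top

set_option autoImplicit false
universe u
open CategoryTheory
open Dual

namespace Groth.Agent.S5665

/-- Let `A` be a commutative ring, `xs = (x_1, …, x_p)` a sequence in `A` such that each `x_i` is a
non-zero-divisor on `A/(x_1, …, x_{i-1})`, `J` the ideal generated by the `x_i` and `M` any
`A`-module. Then `Ext^p_A(A/J, M)` is isomorphic, as an `A`-module, to `M/JM`. (Existence of an
`A`-linear isomorphism only; the published isomorphism is the one induced by the Koszul complex of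
`xs`.) -/
theorem result (A : Type u) [CommRing A] (xs : List A) (hreg : RingTheory.Sequence.IsWeaklyRegular A xs) (M : Type u) [AddCommGroup M] [Module A M] : Nonempty (Abelian.Ext (ModuleCat.of A (A ⧸ Ideal.ofList xs)) (ModuleCat.of A M) xs.length ≃ₗ[A] (M ⧸ (Ideal.ofList xs • (⊤ : Submodule A M)))) := by
  obtain ⟨φ, hφ, hk⟩ := Groth.Misc7.RegSeq.exists_extTop xs hreg (ModuleCat.of A M)
  exact ⟨((Submodule.quotEquivOfEq _ _ hk.symm) ≪≫ₗ LinearMap.quotKerEquivOfSurjective φ hφ).symm⟩

end Groth.Agent.S5665
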