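import Groth.Statements.S5667
import Groth.Agent.Duality.SmoothDual
import Groth.Agent.Duality.SheafHomExt
import Groth.Agent.Duality.SheafHomTwist
import Groth.Agent.PicAux.PicLaw
import Groth.Agent.EulerDeg.LineBundle

set_option autoImplicit false
universe u
open CategoryTheory CategoryTheory.Limits AlgebraicGeometry
open ProjDual

namespace Groth.Agent.S5667

/-- Let `k` be an algebraically closed field and `X` a connected nonsingular projective variety of
dimension `n` over `k` — here: a connected `k`-scheme, smooth of relative dimension `n` over `k`,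
with a closed immersion into some projective space `P^r_k` over `k` — and let `L` be an `n`-th
exterior power of the sheaf of differentials of `X` over `k` (the sheaf of `n`-forms). Then `H^n(X,
L)` is a `k`-vector space of dimension `1`. (The source says more: the fundamental class of a point
is a basis; only the dimension is stated here.) -/
theorem result (k : Type u) [Field k] [IsAlgClosed k] (n r : ℕ) (X : Scheme.{u}) [X.Over (Spec (CommRingCat.of k))] [SmoothOfRelativeDimension n (X ↘ Spec (CommRingCat.of k))] [ConnectedSpace X] (ι : X ⟶ CohB1.ProjSpace r k) [IsClosedImmersion ι] (hι : ι ≫ CohB1.ProjSpace.toSpec r k = X ↘ Spec (CommRingCat.of k)) (L : X.Modules) (hL : ExtPow.IsExtPow n (Omega.sheaf (X ↘ Spec (CommRingCat.of k))) L) : Module.finrank k (Coh.HH X L n) = 1 := by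
  haveI := Groth.PnCoh.isLocallyNoetherian_projSpace r k
  haveI : QuasiSeparated (X ↘ Spec (CommRingCat.of k)) := by rw [← hι]; infer_instance
  haveI : IsProper (X ↘ Spec (CommRingCat.of k)) := by
    haveI := Groth.Variety2.isProper_projSpace_toSpec r k
    rw [← hι]; infer_instance
  haveI : Smooth (X ↘ Spec (CommRingCat.of k)) := SmoothOfRelativeDimension.smooth n _
  haveI : HasExt.{u} X.Modules := hasExt_of_enoughInjectives _
  haveI := Groth.Duality.Closed.isNoetherian ι
  haveI := Groth.Duality.SheafHom.hasSheafHom (Coh.structureModule X)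
  obtain ⟨t, ht, hcov⟩ := Groth.Duality.SmoothDual.exists_dualData ι hι L hL
  have hO := Groth.LocFree.isFinLocFree_unit X
  obtain ⟨a⟩ := Groth.Duality.SheafHom.nonempty_ext_linearEquiv k (Coh.structureModule X) hO n L
  obtain ⟨b⟩ := Groth.Duality.DualPair.nonempty_linearEquiv t ht hcov (le_refl n) le_rfl
    (Groth.KTheory.LocFree.isCoh hO)
  rw [Nat.sub_self] at b
  have hLinv : PicF.IsInvertible L := Groth.LocFree.isInvertible_det
    (Groth.OmegaSheaf.isFinLocFreeOfRank_sheaf (X ↘ Spec (CommRingCat.of k)) n) hL
  obtain ⟨u⟩ := Groth.PicAux.tensorMod_one hLinv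
  obtain ⟨c⟩ := Groth.Duality.FundLocal.nonempty_sheafHom_tensor_iso (M := L)
    (Groth.EulerDeg.isInvertible_structureModule X)
  rw [← (Groth.EulerDeg.hEquiv k ((DCoh.sheafHom (Coh.structureModule X)).mapIso u.symm ≪≫ c) n).finrank_eq,
    ← (b.symm ≪≫ₗ a).finrank_eq]
  haveI := Groth.EulerDeg.finite_HH k X (Groth.KTheory.LocFree.isCoh hO) 0
  rw [Subspace.dual_finrank_eq, Groth.Duality.SmoothDual.finrank_h0_structure]

end Groth.Agent.S5667
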