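import Groth.Statements.S5670
import Groth.Agent.Pi1FEt.PushBij

set_option backward.isDefEq.respectTransparency false
set_option linter.style.haveILetI false

set_option autoImplicit false
universe u
open Pi1

namespace Groth.Agent.S5670

open CategoryTheory CategoryTheory.Limits AlgebraicGeometry in
/-- Let `f : X → Y` be a proper morphism of Noetherian schemes such that `O_Y → f_* O_X` is an
isomorphism (bijective on sections over every open of `Y`). Then for every connected finite étale
`Y'` over `Y`, the base change `X ×_Y Y'` is connected; equivalently, `f` induces a surjection on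
étale fundamental groups. -/
theorem result {X Y Y' : Scheme.{u}} (f : X ⟶ Y) [IsProper f] [IsNoetherian X] [IsNoetherian Y] (hf : ∀ U : Y.Opens, Function.Bijective (f.app U)) (g : Y' ⟶ Y) [IsFinite g] [Etale g] [ConnectedSpace Y'] : ConnectedSpace ↥(pullback f g) := by
  let f' := pullback.snd f g
  have hsf : Surjective f := by
    refine ⟨fun y => by_contra fun hy => ?_⟩
    let W : Y.Opens := ⟨(Set.range f.base)ᶜ, f.isClosedMap.isClosed_range.isOpen_compl⟩
    have hW : f ⁻¹ᵁ W = ⊥ := by
      ext x
      simp [W]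
    have h1 : (1 : Γ(Y, W)) = 0 := by
      refine (hf W).1 ?_
      haveI : Subsingleton Γ(X, f ⁻¹ᵁ W) := by rw [hW]; infer_instance
      exact Subsingleton.elim _ _
    have hyW : y ∈ W := hy
    have := congrArg (Y.presheaf.germ W y hyW).hom h1
    rw [map_one, map_zero] at this
    exact one_ne_zero this
  haveI := hsf
  haveI : Surjective f' := MorphismProperty.pullback_snd f g inferInstance
  obtain ⟨z₀, hz₀⟩ := f'.surjective (Classical.arbitrary Y')
  haveI : Nonempty ↥(pullback f g) := ⟨z₀⟩
  refine { toPreconnectedSpace := ?_, toNonempty := inferInstance }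
  rw [preconnectedSpace_iff_clopen]
  intro C hC
  have hsep : ∀ a b : ↥(pullback f g), f'.base a = f'.base b → a ∈ C → b ∈ C := by
    intro a b hab ha
    obtain ⟨V, hV, hzV, -⟩ := AlgebraicGeometry.exists_isAffineOpen_mem_and_subset
      (X := Y) (x := g.base (f'.base a)) (U := ⊤) trivial
    have hbij : Function.Bijective (f'.app (g ⁻¹ᵁ V)) :=
      Groth.Pi1FEt.bijective_app_baseChange (IsPullback.of_hasPullback f g).flip hV hf
    obtain ⟨e₀, he₀, hD⟩ := Groth.Pi1FEt.exists_idem_of_clopen (f' ⁻¹ᵁ (g ⁻¹ᵁ V)) C hC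
    obtain ⟨e, rfl⟩ := hbij.2 e₀
    rw [← Scheme.preimage_basicOpen] at hD
    have h1 : a ∈ (f' ⁻¹ᵁ Y'.basicOpen e) := hD.ge ⟨ha, hzV⟩
    have h2 : b ∈ (f' ⁻¹ᵁ Y'.basicOpen e) := by
      show f'.base b ∈ Y'.basicOpen e
      rw [← hab]
      exact h1
    exact (hD.le h2).1
  haveI : IsProper f' := MorphismProperty.pullback_snd f g inferInstance
  have hcl : IsClopen (f'.base '' C) := by
    refine ⟨f'.isClosedMap _ hC.1, ?_⟩
    have : f'.base '' C = (f'.base '' Cᶜ)ᶜ := by
      ext z
      constructor
      · rintro ⟨a, ha, rfl⟩ ⟨b, hb, hab⟩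
        exact hb (hsep a b hab.symm ha)
      · intro hz
        obtain ⟨a, rfl⟩ := f'.surjective z
        exact ⟨a, by_contra fun ha => hz ⟨a, ha, rfl⟩, rfl⟩
    rw [this]
    exact (f'.isClosedMap _ hC.compl.1).isOpen_compl
  rcases isClopen_iff.mp hcl with h | h
  · left; simpa using h
  · right
    refine Set.eq_univ_iff_forall.mpr fun b => ?_
    obtain ⟨a, ha, hab⟩ := (h ▸ Set.mem_univ (f'.base b) : f'.base b ∈ f'.base '' C)
    exact hsep a b hab ha

end Groth.Agent.S5670
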