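import Groth.Statements.S5672
import Groth.Agent.DualCore.ExtDuality

set_option autoImplicit false
universe u
open CategoryTheory
open Dual

namespace Groth.Agent.S5672

/-- Let `A` be a regular local ring of dimension `n`, `J` an ideal with `dim(A/J) ≤ n - p`, and `M` a
finite `A`-module with `JM = 0`. For `ξ ∈ Ext^p_A(M, A)` and an `A`-linear `u : A/J → M` write `u^*ξ
∈ Ext^p_A(A/J, A)` for the pullback. Then `ξ ↦ (u ↦ u^*ξ)` is injective, and every `A`-linear map
`Hom_A(A/J, M) → Ext^p_A(A/J, A)` is of the form `u ↦ u^*ξ` for some `ξ`. Since `Hom_A(A/J, M) = M`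
here, this says that the canonical map `Ext^p_A(M, A) → Hom_A(M, Ext^p_A(A/J, A))` is bijective. -/
theorem result (A : Type u) [CommRing A] [IsRegularLocalRing A] (p : ℕ) (J : Ideal A) (hJ : ringKrullDim (A ⧸ J) + p ≤ ringKrullDim A) (M : Type u) [AddCommGroup M] [Module A M] [Module.Finite A M] (hJM : J • (⊤ : Submodule A M) = ⊥) : Function.Injective (fun ξ : Abelian.Ext (ModuleCat.of A M) (ModuleCat.of A A) p => fun u : (A ⧸ J) →ₗ[A] M => (Abelian.Ext.mk₀ (ModuleCat.ofHom u)).comp ξ (zero_add p)) ∧ ∀ g : ((A ⧸ J) →ₗ[A] M) →ₗ[A] Abelian.Ext (ModuleCat.of A (A ⧸ J)) (ModuleCat.of A A) p, ∃ ξ : Abelian.Ext (ModuleCat.of A M) (ModuleCat.of A A) p, ∀ u : (A ⧸ J) →ₗ[A] M, g u = (Abelian.Ext.mk₀ (ModuleCat.ofHom u)).comp ξ (zero_add p) := by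
  letI := HasDerivedCategory.standard (ModuleCat.{u} A)
  obtain ⟨k, hk⟩ := GrothGoren.exists_injLT_of_regular _ A le_rfl
  obtain ⟨d, hd⟩ := Groth.DualCore.exists_supportDim_eq A A
  rw [Module.supportDim_self_eq_ringKrullDim] at hd
  have hJM' : ∀ a ∈ J, ∀ x : M, a • x = 0 := fun a ha x =>
    (Submodule.mem_bot A).1 (hJM ▸ Submodule.smul_mem_smul ha (Submodule.mem_top (x := x)))
  have hvan : ∀ (N : Type u) [AddCommGroup N] [Module A N], Module.Finite A N →
      (∀ a ∈ J, ∀ x : N, a • x = 0) →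
        Subsingleton (Dual.inD A N ⟶ (shiftFunctor (Dual.D A) ((p : ℤ) - 1)).obj (Dual.inD A A)) := by
    intro N _ _ _ hN
    rcases subsingleton_or_nontrivial N with h | h
    · exact Groth.DualCore.subsingleton_hom_of_subsingleton (Dual.inD A A) N _
    obtain ⟨e, he⟩ := Groth.DualCore.exists_supportDim_eq A N
    have h1 : Module.supportDim A N ≤ ringKrullDim (A ⧸ J) := by
      rw [← Module.supportDim_quotient_eq_ringKrullDim]
      refine Order.krullDim_le_of_strictMono (fun r => ⟨r.1, ?_⟩) (fun _ _ hrs => hrs)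
      obtain ⟨r, hr⟩ := r
      rw [Module.support_eq_zeroLocus, Ideal.annihilator_quotient, PrimeSpectrum.mem_zeroLocus]
      rw [Module.support_eq_zeroLocus, PrimeSpectrum.mem_zeroLocus] at hr
      exact fun a ha => hr (Module.mem_annihilator.2 (hN a ha))
    have h2 : Module.supportDim A N + (p : WithBot ℕ∞) ≤ ringKrullDim A :=
      le_trans (add_le_add h1 le_rfl) hJ
    rw [he, hd] at h2
    have : e + p ≤ d := by exact_mod_cast h2
    exact Groth.DualCore.subsingleton_hom_inD_self hk d hd N e he.le _ (Or.inl (by lia))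
  refine ⟨fun ξ η hξη => sub_eq_zero.1 ((Groth.DualCore.extDEquiv M A p).injective ?_), fun g => ?_⟩
  · rw [map_zero]
    refine Groth.DualCore.eq_zero_of_forall J _ _ hvan M hJM' _ fun u => ?_
    have h := congrFun hξη u
    rw [Groth.DualCore.map1_apply, map_sub, Preadditive.comp_sub,
      ← Groth.DualCore.extDEquiv_precomp, ← Groth.DualCore.extDEquiv_precomp, ← map_sub]
    simp only at h
    rw [h, sub_self, map_zero]
  · obtain ⟨ξ, hξ⟩ := Groth.DualCore.exists_of_linear J _ _ hvan M hJM'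
      ((Groth.DualCore.extDEquiv (A ⧸ J) A p).toLinearMap ∘ₗ g)
    refine ⟨(Groth.DualCore.extDEquiv M A p).symm ξ, fun u => (Groth.DualCore.extDEquiv (A ⧸ J) A p).injective ?_⟩
    rw [Groth.DualCore.extDEquiv_precomp, LinearEquiv.apply_symm_apply]
    exact hξ u

end Groth.Agent.S5672
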