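import Groth.Statements.S5674
import Groth.Agent.Duality.ExtTwist
import Groth.Agent.Duality.DepthVanish
import Groth.Agent.Duality.SmoothDual

set_option autoImplicit false
set_option backward.isDefEq.respectTransparency false
set_option linter.style.haveILetI false
set_option synthInstance.maxHeartbeats 400000
universe u
open CategoryTheory CategoryTheory.Limits AlgebraicGeometry
open ProjDual

namespace Groth.Agent.S5674

/-- Let `k` be an algebraically closed field, `X` a nonsingular algebraic set of dimension `n` over `k`
— here: a quasi-compact `k`-scheme smooth of relative dimension `n` over `k` — `F` a coherent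
`O_X`-module whose support has dimension at most `n - p`, and `L` a finite locally free
`O_X`-module. Then the (global) groups `Ext^i_{O_X}(F, L)` vanish for `i < p`. (All components of
`X` have dimension `n`; for a nonsingular algebraic set with a component of smaller dimension the
conclusion fails. The Ext instance on the category of `O_X`-modules is taken as a hypothesis; it
holds since that category is Grothendieck abelian.) -/
theorem result (k : Type u) [Field k] [IsAlgClosed k] (n : ℕ) (X : Scheme.{u}) [X.Over (Spec (CommRingCat.of k))] [SmoothOfRelativeDimension n (X ↘ Spec (CommRingCat.of k))] [CompactSpace X] [HasExt.{u} X.Modules] (F : X.Modules) (hF : Coh.IsCoh F) (L : X.Modules) (hL : FlatMod.IsFinLocFree L) (p : ℕ) (hsupp : topologicalKrullDim ↥(CohB1.support F) + p ≤ n) (i : ℕ) (hi : i < p) : Subsingleton (Abelian.Ext F L i) := by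
  haveI : Smooth (X ↘ Spec (CommRingCat.of k)) :=
    SmoothOfRelativeDimension.smooth n (X ↘ Spec (CommRingCat.of k))
  haveI : IsLocallyNoetherian X := LocallyOfFiniteType.isLocallyNoetherian (X ↘ Spec (CommRingCat.of k))
  haveI := Groth.CohTwo.LocFreeExt.hasSheafHom F
  haveI : (DCoh.sheafHom F).Additive := (DCoh.sheafHomAdj F).right_adjoint_additive
  haveI := Groth.SitesTopoi.ModH.hasSheafHom (O := X.sheaf) F
  haveI : HasInjectiveResolutions (ModSite.Mod X.sheaf) := inferInstance
  haveI : HasInjectiveResolutions X.Modules := ‹HasInjectiveResolutions (ModSite.Mod X.sheaf)›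
  haveI : (ModSite.sheafHom (O := X.sheaf) F : X.Modules ⥤ X.Modules).Additive :=
    ModSite.sheafHom_additive (O := X.sheaf) F
  have hreg : ∀ x : X, IsRegularLocalRing (X.presheaf.stalk x) := fun x => by
    let _ : Field ((Spec (CommRingCat.of k)).presheaf.stalk ((X ↘ Spec (CommRingCat.of k)) x)) :=
      (Groth.Variety2.isField_stalk (Subsingleton.elim (α := PrimeSpectrum k) _ _)).toField
    have : IsRegularLocalRing
        ((Spec (CommRingCat.of k)).presheaf.stalk ((X ↘ Spec (CommRingCat.of k)) x)) := inferInstance
    exact Groth.Agf.RegularPoints.isRegularLocalRing_stalk_of_smooth (X ↘ Spec (CommRingCat.of k)) x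
  have hP : ∀ Z : Set ↥X, Z ∈ irreducibleComponents ↥X → topologicalKrullDim ↥Z = (n : WithBot ℕ∞) :=
    (Groth.FibreDim.forall_component_dim_eq_iff (X ↘ Spec (CommRingCat.of k)) n).2 fun z => by
      rw [← Groth.Curves1.CurveMor.localDim_eq_fibreDimAt (X ↘ Spec (CommRingCat.of k)) z]
      exact Groth.FibreDim.fibreDimAt_eq_of_smoothOfRelativeDimension n (X ↘ Spec (CommRingCat.of k)) z
  have hzero : ∀ l : ℕ, l < p →
      IsZero (((DCoh.sheafHom F).rightDerived l).obj L) := fun l hl => by
    let h := Groth.CohTwo.LocFreeExt.msIso (X := X) F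
    have e : (ModSite.extSh (O := X.sheaf) F l).obj L ≅ ((DCoh.sheafHom F).rightDerived l).obj L :=
      ({ hom := NatTrans.rightDerived h.hom l
         inv := NatTrans.rightDerived h.inv l
         hom_inv_id := by rw [← NatTrans.rightDerived_comp, Iso.hom_inv_id, NatTrans.rightDerived_id]
         inv_hom_id := by rw [← NatTrans.rightDerived_comp, Iso.inv_hom_id, NatTrans.rightDerived_id] } :
        _ ≅ _).app L
    refine IsZero.of_iso ?_ e.symm
    refine Groth.CohTwo.ExtShDepth.isZero_extSh_of_depth F L hF (Groth.KTheory.LocFree.isCoh hL) p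
      (fun x hx => ?_) l hl
    have hxd : ((Order.height x : ℕ∞) : WithBot ℕ∞) ≤ topologicalKrullDim ↥(CohB1.support F) := by
      rw [Groth.Variety2.Dim.dim_closed (Groth.CohTwo.isClosed_support F hF)]
      exact le_iSup₂_of_le x hx le_rfl
    have hxp : ((Order.height x : ℕ∞) : WithBot ℕ∞) + p ≤ n := le_trans (by gcongr) hsupp
    obtain ⟨h, hh⟩ : ∃ h : ℕ, Order.height x = h := by
      refine (ENat.ne_top_iff_exists.1 fun e => ?_).imp fun _ => Eq.symm
      rw [e] at hxp
      have : ((⊤ : ℕ∞) + p : ℕ∞) ≤ (n : ℕ∞) := WithBot.coe_le_coe.1 hxp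
      simp at this
    rw [hh] at hxp
    haveI := hreg x
    exact Groth.Duality.DepthVanish.le_depth_stalk hL x (Groth.Duality.DepthVanish.le_ringKrullDim_stalk
      (X ↘ Spec (CommRingCat.of k)) hP x hh (by exact_mod_cast hxp))
  obtain ⟨e⟩ := Groth.Duality.ExtTwist.nonempty_ext_linearEquiv k F L i fun l hl q =>
    Groth.Duality.ExtTwist.subsingleton_HH_of_isZero (hzero l (hl.trans hi)) (q + 1)
  haveI := Groth.Duality.ExtTwist.subsingleton_HH_of_isZero (hzero i hi) 0
  exact e.injective.subsingleton

end Groth.Agent.S5674
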