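import Groth.Statements.S5677
import Groth.Agent.FgaTau.Loci
import Groth.Agent.FgaTau.ExpChar

set_option autoImplicit false
universe u
open CategoryTheory CategoryTheory.Limits MonoidalCategory CartesianMonoidalCategory MonObj GrpObj AlgebraicGeometry
open FGA

namespace Groth.Agent.S5677

/-- Let S be a locally Noetherian scheme and G a commutative group scheme locally of finite type over S
(not assumed separated or quasi-compact over S). Then the subset of G consisting of the points x
such that, for some integer n ≥ 1, the n-th power morphism sends x into the connected component of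
the identity of its fibre, is open in G. -/
theorem result (S : Scheme.{u}) [IsLocallyNoetherian S] (G : Over S) [GrpObj G] [IsCommMonObj G]
    [LocallyOfFiniteType G.hom] :
    IsOpen {x : ↥G.left | ∃ n : ℕ, 0 < n ∧ ((𝟙 G : G ⟶ G) ^ n).left.base x ∈ SGA3x.neutralSet G} := by
  haveI : LocallyOfFinitePresentation G.hom := Groth.AlgSp2.lfp_of_isLocallyNoetherian G.hom
  haveI : IsLocallyNoetherian G.left := LocallyOfFiniteType.isLocallyNoetherian G.hom
  exact Groth.FgaTau.isOpen_tau (G := G)

end Groth.Agent.S5677
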