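import Groth.Statements.S5678
import Groth.Agent.FgaTau.Loci
import Groth.Agent.FgaTau.ExpChar

set_option autoImplicit false
universe u
open CategoryTheory CategoryTheory.Limits MonoidalCategory CartesianMonoidalCategory MonObj GrpObj AlgebraicGeometry
open FGA

namespace Groth.Agent.S5678

/-- Let S be a locally Noetherian scheme and G a commutative group scheme locally of finite type over S.
If the union of the connected components of the identity in the fibres of G is closed in G, then so
is the set of points x of G such that some power x^n, n ≥ 1, lies in that union. -/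
theorem result (S : Scheme.{u}) [IsLocallyNoetherian S] (G : Over S) [GrpObj G]
    [IsCommMonObj G] [LocallyOfFiniteType G.hom] (h0 : IsClosed (SGA3x.neutralSet G)) :
    IsClosed {x : ↥G.left | ∃ n : ℕ, 0 < n ∧ ((𝟙 G : G ⟶ G) ^ n).left.base x ∈ SGA3x.neutralSet G} := by
  haveI : LocallyOfFinitePresentation G.hom := Groth.AlgSp2.lfp_of_isLocallyNoetherian G.hom
  haveI : IsLocallyNoetherian G.left := LocallyOfFiniteType.isLocallyNoetherian G.hom
  refine Groth.FgaTau.isClosed_of_stable ?_ fun ξ hξ => ⟨Set.univ, isOpen_univ, trivial, fun z _ h hz => ?_⟩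
  · rintro a b hab ⟨n, hn, ha⟩
    exact ⟨n, hn, (hab.map (Groth.FgaTau.continuous_pw n)).mem_closed h0 ha⟩
  · obtain ⟨n, hn, hz'⟩ := hz
    exact Groth.FgaTau.not_tau_of_specializes h (fun m hm hm' => hξ ⟨m, hm, hm'⟩) n hn hz'

end Groth.Agent.S5678
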