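import Groth.Statements.S5679
import Groth.Agent.FgaTau.GenericSubgroup

set_option autoImplicit false
universe u
open CategoryTheory CategoryTheory.Limits MonoidalCategory CartesianMonoidalCategory MonObj GrpObj AlgebraicGeometry
open FGA

namespace Groth.Agent.S5679

/-- Let S be a nonempty locally Noetherian scheme and G a group scheme locally of finite type over S.
Then there are a nonempty open subset U of S, a group scheme H of finite type over U with connected
fibres, and a homomorphism from H to the base change of G to U which is an open immersion and whose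
image in G is the set of points lying over U in the union of the connected components of the
identity of the fibres of G. -/
theorem result (S : Scheme.{u}) [IsLocallyNoetherian S] [Nonempty ↥S]
    (G : Over S) [GrpObj G] [LocallyOfFiniteType G.hom] :
    ∃ U : S.Opens, (U : Set ↥S).Nonempty ∧
      ∃ (H : Over (U : Scheme.{u})) (_ : GrpObj H) (i : H ⟶ Red.bc U.ι G), IsMonHom i ∧ IsOpenImmersion i.left ∧
        QuasiCompact H.hom ∧ LocallyOfFiniteType H.hom ∧
        (∀ u : ↥(U : Scheme.{u}), _root_.IsConnected (H.hom.base ⁻¹' {u})) ∧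
        Set.range (i.left ≫ pullback.fst G.hom U.ι).base = SGA3x.neutralSet G ∩ G.hom.base ⁻¹' (U : Set ↥S) := by
  obtain ⟨U, O, hU, hUne, hO, hOc⟩ := Groth.FgaTau.exists_open_neutralSet G
  have hN : SGA3x.neutralSet (Red.bc U.ι G) = (pullback.fst G.hom U.ι).base ⁻¹' SGA3x.neutralSet G :=
    Groth.GrpschAbsch.NeutralSet.neutralSet_bc (G := G) U.ι
  have hN' : SGA3x.neutralSet (Red.bc U.ι G) = (pullback.fst G.hom U.ι).base ⁻¹' (O : Set ↥G.left) := by
    rw [hN, hO, Set.preimage_inter]
    refine (Set.inter_eq_left.2 fun x _ => ?_).symm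
    show G.hom.base ((pullback.fst G.hom U.ι).base x) ∈ U
    rw [← Scheme.Hom.comp_apply, pullback.condition, Scheme.Hom.comp_apply]
    exact ((pullback.snd G.hom U.ι).base x).2
  obtain ⟨H, hH, i, hi, hio, hir⟩ := Groth.FgaTau.exists_openSubgroup (Red.bc U.ι G)
    (hN' ▸ O.isOpen.preimage (pullback.fst G.hom U.ι).continuous)
  haveI := hio
  haveI : LocallyOfFiniteType (Red.bc U.ι G).hom := inferInstanceAs (LocallyOfFiniteType (pullback.snd G.hom U.ι))
  have hfst : Set.range (pullback.fst G.hom U.ι).base = G.hom.base ⁻¹' (U : Set ↥S) := by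
    rw [Scheme.Pullback.range_fst, Scheme.Opens.range_ι]
  have hrange : Set.range (i.left ≫ pullback.fst G.hom U.ι).base = SGA3x.neutralSet G ∩ G.hom.base ⁻¹' (U : Set ↥S) := by
    rw [Scheme.Hom.comp_base, TopCat.coe_comp, Set.range_comp, hir, hN, Set.image_preimage_eq_inter_range, hfst]
  refine ⟨U, hUne, H, hH, i, hi, hio, ?_, ?_, fun u => ?_, hrange⟩
  · haveI : IsAffine (U : Scheme.{u}) := hU
    haveI : CompactSpace H.left := by
      refine ⟨?_⟩
      haveI : IsOpenImmersion (pullback.fst G.hom U.ι) := inferInstance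
      rw [(i.left ≫ pullback.fst G.hom U.ι).isOpenEmbedding.isInducing.isCompact_iff, Set.image_univ, hrange, ← hO]
      exact hOc
    exact Groth.GeomComp.quasiCompact_of_compact_to_affine H.hom
  · rw [← Over.w i]; infer_instance
  · have hb : i.left.base '' (H.hom.base ⁻¹' {u}) =
        SGA3x.neutralSet (Red.bc U.ι G) ∩ (Red.bc U.ι G).hom.base ⁻¹' {u} := by
      rw [← hir]
      ext x
      constructor
      · rintro ⟨a, ha, rfl⟩
        refine ⟨⟨a, rfl⟩, ?_⟩
        show (Red.bc U.ι G).hom.base (i.left.base a) ∈ ({u} : Set _)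
        rw [← Scheme.Hom.comp_apply, Over.w]; exact ha
      · rintro ⟨⟨a, rfl⟩, ha⟩
        refine ⟨a, ?_, rfl⟩
        show H.hom.base a ∈ ({u} : Set _)
        rw [← Over.w i, Scheme.Hom.comp_apply]; exact ha
    have hc : SGA3x.neutralSet (Red.bc U.ι G) ∩ (Red.bc U.ι G).hom.base ⁻¹' {u} =
        ((Red.bc U.ι G).hom.fiberι u).base '' connectedComponent (Groth.GrpschAbsch.NeutralSet.oneFib (Red.bc U.ι G) u) := by
      rw [← (Red.bc U.ι G).hom.range_fiberι u]
      ext x
      constructor
      · rintro ⟨hx, c, rfl⟩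
        exact ⟨c, (Groth.GrpschAbsch.NeutralSet.fiberι_mem_iff _ u c).1 hx, rfl⟩
      · rintro ⟨c, hc, rfl⟩
        exact ⟨(Groth.GrpschAbsch.NeutralSet.fiberι_mem_iff _ u c).2 hc, c, rfl⟩
    have h := isConnected_connectedComponent.image _
      (((Red.bc U.ι G).hom.fiberι u).continuous.continuousOn (s := connectedComponent (Groth.GrpschAbsch.NeutralSet.oneFib (Red.bc U.ι G) u)))
    rw [← hc, ← hb] at h
    exact ⟨(Set.image_nonempty.1 h.1), (i.left.isEmbedding.isInducing.isPreconnected_image).1 h.2⟩

end Groth.Agent.S5679
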