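import Groth.Statements.S5680
import Groth.Agent.FgaTau.RootLift

set_option autoImplicit false
universe u
open CategoryTheory CategoryTheory.Limits AlgebraicGeometry
open FGA

namespace Groth.Agent.S5680

/-- Let A be an artinian local ring with maximal ideal m and ν ≥ 1 an integer with m^(ν+1) = 0; let X be
a scheme proper and flat over Spec A, n a natural number whose image in the residue field of A is
nonzero, L an invertible module on X and L' an invertible module on the closed subscheme X ×_A
Spec(A/m^ν) whose n-th tensor power is isomorphic to the pullback of L. Then there is an invertible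
module M on X whose n-th tensor power is isomorphic to L (existence of an isomorphism). -/
theorem result (A : Type u) [CommRing A] [IsArtinianRing A] [IsLocalRing A]
    (ν : ℕ) (hν : 1 ≤ ν) (hm : IsLocalRing.maximalIdeal A ^ (ν + 1) = ⊥)
    (X : Scheme.{u}) (f : X ⟶ Spec (CommRingCat.of A)) [IsProper f] [Flat f]
    (n : ℕ) (hn : (n : IsLocalRing.ResidueField A) ≠ 0)
    (L : X.Modules) (hL : PicF.IsInvertible L)
    (L' : (pullback f (Spec.map (CommRingCat.ofHom (Ideal.Quotient.mk (IsLocalRing.maximalIdeal A ^ ν))))).Modules)
    (hL' : PicF.IsInvertible L')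
    (hroot : Nonempty (CohB1.tensorPow L' n ≅
      (Scheme.Modules.pullback (pullback.fst f (Spec.map (CommRingCat.ofHom (Ideal.Quotient.mk (IsLocalRing.maximalIdeal A ^ ν)))))).obj L)) :
    ∃ M : X.Modules, PicF.IsInvertible M ∧ Nonempty (CohB1.tensorPow M n ≅ L) := by
  let q : A →+* A ⧸ IsLocalRing.maximalIdeal A ^ ν := Ideal.Quotient.mk _
  have : IsClosedImmersion (Spec.map (CommRingCat.ofHom q)) :=
    IsClosedImmersion.spec_of_surjective _ Ideal.Quotient.mk_surjective
  have : Surjective (Spec.map (CommRingCat.ofHom q)) := by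
    refine ⟨fun y => ?_⟩
    have hy : y ∈ Set.range (PrimeSpectrum.comap q) := by
      rw [range_comap_of_surjective _ q Ideal.Quotient.mk_surjective, Ideal.mk_ker]
      intro a ha
      have hnil : a ^ 2 = 0 := by
        have h1 : a * a ∈ IsLocalRing.maximalIdeal A ^ (ν + ν) := by
          rw [pow_add]
          exact Ideal.mul_mem_mul ha ha
        have h2 : a * a ∈ IsLocalRing.maximalIdeal A ^ (ν + 1) :=
          Ideal.pow_le_pow_right (by omega) h1
        rw [hm, Ideal.mem_bot] at h2
        rw [pow_two, h2]
      exact y.asIdeal.zero_mem |> fun h0 => y.isPrime.mem_of_pow_mem 2 (hnil ▸ h0)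
    exact hy
  have hu : IsUnit (n : A) := by
    by_contra h
    refine hn ?_
    rw [← map_natCast (IsLocalRing.residue A), IsLocalRing.residue_eq_zero_iff]
    exact (IsLocalRing.mem_maximalIdeal _).2 h
  have hn0 : 0 < n := Nat.pos_of_ne_zero fun h => hn (by simp [h])
  refine Groth.FgaTau.exists_root_lift
    (pullback.fst f (Spec.map (CommRingCat.ofHom q))) hn0 ?_ L hL L' hL' hroot
  simpa using (hu.map (Scheme.ΓSpecIso (CommRingCat.of A)).inv.hom).map
    (pullback.fst f (Spec.map (CommRingCat.ofHom q)) ≫ f).appTop.hom

end Groth.Agent.S5680
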