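import Groth.Statements.S5686
import Groth.Agent.PicEtale.Exist
import Groth.Agent.S2794
import Groth.Agent.ArtfunDeform.HilbPoint

set_option autoImplicit false
universe u
open CategoryTheory CategoryTheory.Limits AlgebraicGeometry
open FGA

namespace Groth.Agent.S5686

/-- Let S be a locally Noetherian scheme, f : X ⟶ S proper and flat, and suppose the relative Picard
functor of X over S (sheafified for the etale topology) is represented by an S-scheme P, locally of
finite type over S, through the family of maps φ. Let n be a natural number and m : P ⟶ P an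
S-morphism such that for every S-scheme T and every invertible module L on X ×_S T, φ applied to the
class of the n-th tensor power of L equals φ applied to the class of L followed by m (so m is the
n-th power map of the Picard scheme). Then m is etale at all points of P whose residue
characteristic is prime to n: the restriction of m to the open subset of P where n is invertible is
etale. (Local finite type of P over S is recorded as a hypothesis.) -/
theorem result {X S : Scheme.{u}} [IsLocallyNoetherian S] (f : X ⟶ S) [IsProper f] [Flat f]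
    (P : Over S) [LocallyOfFiniteType P.hom] (φ : ∀ T : Over S, PicF.Cl (PicF.XT f T) → (T ⟶ P))
    (hP : PicRel.IsRelPic f P φ) (n : ℕ) (m : P ⟶ P)
    (hm : ∀ (T : Over S) (L : (PicF.XT f T).Modules), PicF.IsInvertible L →
      φ T (PicF.cl (CohB1.tensorPow L n)) = φ T (PicF.cl L) ≫ m) :
    Etale ((P.left.basicOpen (n : Γ(P.left, ⊤))).ι ≫ m.left) := by
  have : IsLocallyNoetherian P.left := LocallyOfFiniteType.isLocallyNoetherian P.hom
  have : LocallyOfFiniteType (m.left ≫ P.hom) := by rw [Over.w m]; infer_instance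
  have : LocallyOfFiniteType m.left := locallyOfFiniteType_of_comp m.left P.hom
  let O : P.left.Opens := P.left.basicOpen (n : Γ(P.left, ⊤))
  let g : (O : Scheme.{u}) ⟶ P.left := O.ι ≫ m.left
  have H : ∀ x, ∃ U : (O : Scheme.{u}).Opens, x ∈ U ∧ Etale (U.ι ≫ g) := by
    intro x
    refine (Groth.Agent.S2794.result g x).2 ?_
    intro A _ _ _ h _ I hI hIm a₀ ha₀ hloc _
    have hx : IsUnit (P.left.presheaf.germ ⊤ (O.ι x) trivial (n : Γ(P.left, ⊤))) :=
      (Scheme.mem_basicOpen P.left (n : Γ(P.left, ⊤)) (O.ι x) (show O.ι x ∈ (⊤ : P.left.Opens) from trivial)).1 x.2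
    rw [map_natCast] at hx
    have hn0 : 0 < n := Nat.pos_of_ne_zero fun h0 => not_isUnit_zero
      (show IsUnit (0 : P.left.presheaf.stalk (O.ι x)) by rw [h0, Nat.cast_zero] at hx; exact hx)
    have hIle : I ≤ IsLocalRing.maximalIdeal A := IsLocalRing.le_maximalIdeal hI
    have hI2 : I ^ 2 = ⊥ := eq_bot_iff.2 <| by rw [pow_two, ← hIm]; exact Ideal.mul_mono_right hIle
    have : Nontrivial (A ⧸ I) := Ideal.Quotient.nontrivial_iff.2 hI
    have : IsLocalRing (A ⧸ I) := IsLocalRing.of_surjective' _ Ideal.Quotient.mk_surjective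
    have hn : IsUnit (n : A) := by
      have hq : IsUnit (n : A ⧸ I) := by
        have := hx.map (a₀.comp (O.ι.stalkMap x).hom)
        rwa [map_natCast] at this
      obtain ⟨z, hz⟩ := Ideal.Quotient.mk_surjective (↑hq.unit⁻¹ : A ⧸ I)
      have hmem : (n : A) * z - 1 ∈ I := Ideal.Quotient.eq_zero_iff_mem.1 (by simp [hz])
      have hnil : IsNilpotent ((n : A) * z - 1) := ⟨2, by simpa [hI2] using Ideal.pow_mem_pow hmem 2⟩
      have h1 := hnil.isUnit_add_one
      rw [sub_add_cancel] at h1
      exact isUnit_of_mul_isUnit_left h1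
    have : IsLocalHom (Ideal.Quotient.mk I) := IsLocalHom.of_surjective _ Ideal.Quotient.mk_surjective
    have : IsLocalHom a₀ := ⟨fun c hc => by
      by_contra hcu
      refine (IsLocalRing.mem_maximalIdeal _).1 ?_ hc
      exact (Ideal.map_le_iff_le_comap.2 fun z hz => by
        show Ideal.Quotient.mk I z ∈ IsLocalRing.maximalIdeal (A ⧸ I)
        exact map_nonunit (Ideal.Quotient.mk I) z hz) (hloc c hcu)⟩
    let a : Spec (CommRingCat.of (A ⧸ I)) ⟶ (O : Scheme.{u}) :=
      Spec.map (CommRingCat.ofHom a₀) ≫ (O : Scheme.{u}).fromSpecStalk x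
    let b : Spec (CommRingCat.of A) ⟶ P.left :=
      Spec.map (CommRingCat.ofHom h) ≫ P.left.fromSpecStalk (g x)
    have hab : Groth.PicEtale.iq I ≫ b = (a ≫ O.ι) ≫ m.left := by
      show _ = (a ≫ O.ι) ≫ m.left
      rw [Category.assoc]
      show Groth.PicEtale.iq I ≫ b = (Spec.map (CommRingCat.ofHom a₀) ≫ (O : Scheme.{u}).fromSpecStalk x) ≫ g
      rw [Category.assoc, ← Scheme.SpecMap_stalkMap_fromSpecStalk g (x := x)]
      simp only [b, Groth.PicEtale.iq, ← Category.assoc, ← Spec.map_comp]
      congr 2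
      exact CommRingCat.hom_ext ha₀.symm
    obtain ⟨l, ⟨hla, hlb⟩, huniq⟩ :=
      Groth.PicEtale.existsUnique_of_local hP hm hn hn0 hI2 (a ≫ O.ι) b hab
    have hcl : a (IsLocalRing.closedPoint (A ⧸ I)) = x := by
      show ((O : Scheme.{u}).fromSpecStalk x) (PrimeSpectrum.comap a₀ _) = x
      rw [IsLocalRing.comap_closedPoint, Scheme.fromSpecStalk_closedPoint]
    have hlx : l (IsLocalRing.closedPoint A) = O.ι x := by
      rw [← hcl, ← Scheme.Hom.comp_apply, ← hla]
      show _ = l (PrimeSpectrum.comap (Ideal.Quotient.mk I) _)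
      rw [IsLocalRing.comap_closedPoint]
    obtain ⟨ψ, hψ⟩ := Groth.ArtfunDeform.HilbPoint.exists_fromSpecStalk (B := CommRingCat.of A) l hlx
    let gs : (O : Scheme.{u}).presheaf.stalk x →+* A := (inv (O.ι.stalkMap x) ≫ ψ).hom
    have hgs : Spec.map (CommRingCat.ofHom gs) ≫ (O : Scheme.{u}).fromSpecStalk x ≫ O.ι = l := by
      rw [← Scheme.SpecMap_stalkMap_fromSpecStalk O.ι (x := x), ← Spec.map_comp_assoc]
      refine Eq.trans ?_ hψ
      congr 2
      simp [gs]
    have hinj : ∀ (R : Type u) [CommRing R] (u v : (O : Scheme.{u}).presheaf.stalk x →+* R),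
        Spec.map (CommRingCat.ofHom u) ≫ (O : Scheme.{u}).fromSpecStalk x ≫ O.ι =
          Spec.map (CommRingCat.ofHom v) ≫ (O : Scheme.{u}).fromSpecStalk x ≫ O.ι → u = v := by
      intro R _ u v e
      rw [cancel_mono] at e
      exact congrArg CommRingCat.Hom.hom (Spec.map_injective e)
    have hinjY : ∀ (u v : P.left.presheaf.stalk (g x) →+* A),
        Spec.map (CommRingCat.ofHom u) ≫ P.left.fromSpecStalk (g x) =
          Spec.map (CommRingCat.ofHom v) ≫ P.left.fromSpecStalk (g x) → u = v := fun u v e =>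
      congrArg CommRingCat.Hom.hom (Spec.map_injective ((cancel_mono _).1 e))
    have hconv : ∀ u : (O : Scheme.{u}).presheaf.stalk x →+* A,
        Spec.map (CommRingCat.ofHom (u.comp (g.stalkMap x).hom)) ≫ P.left.fromSpecStalk (g x) =
          (Spec.map (CommRingCat.ofHom u) ≫ (O : Scheme.{u}).fromSpecStalk x ≫ O.ι) ≫ m.left := fun u => by
      have e : (O : Scheme.{u}).fromSpecStalk x ≫ g =
          Spec.map (g.stalkMap x) ≫ P.left.fromSpecStalk (g x) :=
        (Scheme.SpecMap_stalkMap_fromSpecStalk g).symm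
      calc _ = Spec.map (CommRingCat.ofHom u) ≫ Spec.map (g.stalkMap x) ≫ P.left.fromSpecStalk (g x) := by
            rw [← Spec.map_comp_assoc]; rfl
        _ = _ := by rw [← e]; simp [g, Category.assoc]
    have hconvI : ∀ u : (O : Scheme.{u}).presheaf.stalk x →+* A,
        Spec.map (CommRingCat.ofHom ((Ideal.Quotient.mk I).comp u)) ≫ (O : Scheme.{u}).fromSpecStalk x ≫ O.ι =
          Groth.PicEtale.iq I ≫ Spec.map (CommRingCat.ofHom u) ≫ (O : Scheme.{u}).fromSpecStalk x ≫ O.ι := fun u => by
      rw [← Spec.map_comp_assoc]; rfl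
    refine ⟨gs, ⟨hinjY _ _ ?_, hinj _ _ _ ?_⟩, fun u hu => hinj _ _ _ ?_⟩
    · rw [hconv, hgs, hlb]
    · rw [hconvI, hgs, hla]
      exact Category.assoc _ _ _
    · rw [hgs]
      refine huniq _ ⟨?_, ?_⟩
      · rw [← hconvI, hu.2]; exact (Category.assoc _ _ _).symm
      · rw [← hconv, hu.1]
  choose U hxU hU using H
  exact IsZariskiLocalAtSource.of_iSup_eq_top (P := @Etale) U
    (eq_top_iff.2 fun x _ => TopologicalSpace.Opens.mem_iSup.2 ⟨x, hxU x⟩) hU

end Groth.Agent.S5686
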