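import Groth.Statements.S5687
import Groth.Agent.PicEtale.SmoothMain

set_option autoImplicit false
universe u
open CategoryTheory CategoryTheory.Limits AlgebraicGeometry
open FGA

namespace Groth.Agent.S5687

/-- Let S be a locally Noetherian scheme, f : X ⟶ S proper and flat, and P an S-scheme locally of finite
type over S representing the relative Picard functor of X over S sheafified for the etale topology.
Let s be a point of S such that the second cohomology group of the structure sheaf of the fibre X_s
vanishes. Then there is an open neighbourhood U of s such that the inverse image of U in P is smooth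
over S. (Local finite type of P over S is recorded as a hypothesis.) -/
theorem result {X S : Scheme.{u}} [IsLocallyNoetherian S] (f : X ⟶ S)
    [IsProper f] [Flat f] (P : Over S) [LocallyOfFiniteType P.hom] (hP : PicRel.RepresentedBy f P) (s : S)
    (h2 : Subsingleton (Coh.HH (pullback f (S.fromSpecResidueField s)) (Coh.structureModule _) 2)) :
    ∃ U : S.Opens, s ∈ U ∧ Smooth ((P.hom ⁻¹ᵁ U).ι ≫ P.hom) := by
  obtain ⟨φ, hφ⟩ := hP
  obtain ⟨U, hs, hU⟩ := Groth.PicEtale.exists_fibreH2Zero f s h2
  exact ⟨U, hs, Groth.PicEtale.smooth_preimage hφ hU⟩

end Groth.Agent.S5687
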