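import Groth.Statements.S5691
import Mathlib

set_option autoImplicit false
universe u
open CategoryTheory CategoryTheory.Limits
open FGA

namespace Groth.Agent.S5691

variable {C : Type u} [SmallCategory C] (F : C ⥤ Type u)

/-- no proper subobject carries the element -/
def minimalProp : ObjectProperty F.Elements :=
  fun a => ∀ ⦃Y : C⦄ (i : Y ⟶ a.1) [Mono i], (∃ y, F.map i y = a.2) → IsIso i

variable {F} [HasFiniteLimits C] [PreservesFiniteLimits F]

lemma exists_equalizer_lift {X Y : C} (u v : X ⟶ Y) (x : F.obj X) (h : F.map u x = F.map v x) :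
    ∃ e, F.map (equalizer.ι u v) e = x := by
  have hl := isLimitForkMapOfIsLimit F (equalizer.condition u v) (equalizerIsEqualizer u v)
  obtain ⟨e, he, -⟩ := (Types.type_equalizer_iff_unique (F.map (equalizer.ι u v))
    (g := F.map u) (h := F.map v)
    (by rw [← F.map_comp, ← F.map_comp, equalizer.condition])).mp ⟨hl⟩ x h
  exact ⟨e, he⟩

lemma eq_of_map_eq {a : F.Elements} (ha : minimalProp F a) {Y : C} (u v : a.1 ⟶ Y)
    (h : F.map u a.2 = F.map v a.2) : u = v := by
  have : IsIso (equalizer.ι u v) := ha (equalizer.ι u v) (exists_equalizer_lift u v a.2 h)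
  exact (cancel_epi (equalizer.ι u v)).1 (equalizer.condition u v)

lemma exists_minimal (hart : ∀ X : C, IsArtinianObject X) {X : C} (x : F.obj X) :
    ∃ (a : F.Elements) (_ : minimalProp F a) (m : a.1 ⟶ X), F.map m a.2 = x := by
  haveI := hart X
  obtain ⟨P, ⟨p, hp⟩, hmin⟩ := WellFounded.has_min (IsWellFounded.wf (r := (· < ·)))
    {P : Subobject X | ∃ p, F.map P.arrow p = x}
    ⟨Subobject.mk (𝟙 X), (F.map (Subobject.underlyingIso (𝟙 X)).inv x), by
      rw [← types_comp_apply (F.map _) (F.map _), ← F.map_comp, Subobject.underlyingIso_arrow,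
        F.map_id]
      rfl⟩
  refine ⟨⟨(P : C), p⟩, ?_, P.arrow, hp⟩
  intro Y i _ ⟨y, hy⟩
  have hle : Subobject.mk (i ≫ P.arrow) ≤ P := Subobject.mk_le_of_comm i rfl
  have heq : Subobject.mk (i ≫ P.arrow) = P := by
    refine eq_of_le_of_not_lt hle fun hlt => hmin _ ⟨F.map (Subobject.underlyingIso (i ≫ P.arrow)).inv y, ?_⟩ hlt
    rw [← types_comp_apply (F.map _) (F.map _), ← F.map_comp, Subobject.underlyingIso_arrow,
      F.map_comp]
    exact (congrArg (F.map P.arrow) hy).trans hp
  refine ⟨Subobject.ofLEMk P (i ≫ P.arrow) heq.ge, ?_, ?_⟩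
  · rw [← cancel_mono (i ≫ P.arrow), Category.assoc, Subobject.ofLEMk_comp, Category.id_comp]
  · rw [← cancel_mono P.arrow, Category.assoc, Subobject.ofLEMk_comp, Category.id_comp]

lemma exists_inf (hart : ∀ X : C, IsArtinianObject X) (a b : F.Elements) :
    ∃ (c : F.Elements) (_ : minimalProp F c), Nonempty (c ⟶ a) ∧ Nonempty (c ⟶ b) := by
  let e := Types.binaryProductLimit (F.obj a.1) (F.obj b.1)
  obtain ⟨z, h1, h2⟩ : ∃ z : F.obj (prod a.1 b.1), F.map prod.fst z = a.2 ∧ F.map prod.snd z = b.2 := by
    refine ⟨(PreservesLimitPair.iso F a.1 b.1).inv ((Types.binaryProductIso _ _).inv (a.2, b.2)), ?_, ?_⟩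
    · rw [← types_comp_apply _ (F.map prod.fst), PreservesLimitPair.iso_inv_fst,
        ← types_comp_apply _ (prod.fst (X := F.obj a.1) (Y := F.obj b.1))]
      simp
    · rw [← types_comp_apply _ (F.map prod.snd), PreservesLimitPair.iso_inv_snd,
        ← types_comp_apply _ (prod.snd (X := F.obj a.1) (Y := F.obj b.1))]
      simp
  obtain ⟨c, hc, m, hm⟩ := exists_minimal hart z
  refine ⟨c, hc, ⟨⟨m ≫ prod.fst, ?_⟩⟩, ⟨⟨m ≫ prod.snd, ?_⟩⟩⟩
  · rw [F.map_comp, types_comp_apply, hm, h1]
  · rw [F.map_comp, types_comp_apply, hm, h2]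

/-- the diagram of minimal elements -/
abbrev diag : (minimalProp F).FullSubcategory ⥤ C := (minimalProp F).ι ⋙ CategoryOfElements.π F


/-- Let C be a small category with finite limits all of whose objects are artinian (the subobjects of
each object satisfy the descending chain condition), and let F be a set-valued functor on C
preserving finite limits. Then F is strictly pro-representable: there are a small cofiltered
category J and a diagram D : J ⥤ C all of whose transition morphisms are epimorphisms such that F is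
isomorphic to the colimit of the corepresentable functors Hom(D j, -). -/
theorem result {C : Type u} [SmallCategory C]
    [HasFiniteLimits C] (hart : ∀ X : C, IsArtinianObject X) (F : C ⥤ Type u) [PreservesFiniteLimits F] :
    ∃ (J : Type u) (_ : SmallCategory J) (_ : IsCofiltered J) (D : J ⥤ C),
      (∀ ⦃j j' : J⦄ (a : j ⟶ j'), Epi (D.map a)) ∧ Nonempty (F ≅ colimit (D.op ⋙ coyoneda)) := by
  have hne : Nonempty (minimalProp F).FullSubcategory := by
    obtain ⟨a, ha, -⟩ := exists_minimal hart
      ((PreservesTerminal.iso F).inv (Types.terminalIso.inv PUnit.unit))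
    exact ⟨⟨a, ha⟩⟩
  have hthin : ∀ {a b : (minimalProp F).FullSubcategory} (f g : a ⟶ b), f = g := by
    intro a b f g
    apply ObjectProperty.hom_ext
    apply CategoryOfElements.ext
    exact eq_of_map_eq a.2 _ _ (f.hom.2.trans g.hom.2.symm)
  haveI : IsCofilteredOrEmpty (minimalProp F).FullSubcategory :=
    { cone_objs := fun a b => by
        obtain ⟨c, hc, ⟨f⟩, ⟨g⟩⟩ := exists_inf hart a.obj b.obj
        exact ⟨⟨c, hc⟩, ObjectProperty.homMk f, ObjectProperty.homMk g, trivial⟩
      cone_maps := fun a b f g => ⟨a, 𝟙 a, by rw [hthin f g]⟩ }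
  haveI : IsCofiltered (minimalProp F).FullSubcategory := { nonempty := hne }
  refine ⟨(minimalProp F).FullSubcategory, inferInstance, inferInstance, diag, fun a b f => ?_, ?_⟩
  · refine ⟨fun u v huv => eq_of_map_eq b.2 u v ?_⟩
    have hf : F.map ((diag (F := F)).map f) a.obj.2 = b.obj.2 := f.hom.2
    have h2 := congrArg (fun m => F.map m a.obj.2) huv
    have e1 : F.map ((diag (F := F)).map f ≫ u) a.obj.2 = F.map u b.obj.2 :=
      (ConcreteCategory.congr_hom (F.map_comp _ _) _).trans (congrArg (F.map u) hf)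
    have e2 : F.map ((diag (F := F)).map f ≫ v) a.obj.2 = F.map v b.obj.2 :=
      (ConcreteCategory.congr_hom (F.map_comp _ _) _).trans (congrArg (F.map v) hf)
    exact e1.symm.trans (h2.trans e2)
  · let c : Cocone ((diag (F := F)).op ⋙ coyoneda) :=
      { pt := F
        ι :=
          { app := fun j => coyonedaEquiv.symm j.unop.obj.2
            naturality := fun j k f => by
              ext A (g : j.unop.obj.1 ⟶ A)
              show F.map ((diag (F := F)).map f.unop ≫ g) k.unop.obj.2 = F.map g j.unop.obj.2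
              rw [F.map_comp, types_comp_apply]
              exact congrArg (F.map g) f.unop.hom.2 } }
    have hc : IsColimit c := by
      refine evaluationJointlyReflectsColimits c fun A => ?_
      refine Types.FilteredColimit.isColimitOf' _ _ (fun z => ?_) (fun j g g' h => ?_)
      · obtain ⟨a, ha, m, hm⟩ := exists_minimal hart (z : F.obj A)
        exact ⟨Opposite.op ⟨a, ha⟩, m, hm.symm⟩
      · refine ⟨j, 𝟙 j, ?_⟩
        have : (g : j.unop.obj.1 ⟶ A) = g' := eq_of_map_eq j.unop.2 g g' h
        rw [this]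
    exact ⟨hc.coconePointUniqueUpToIso (colimit.isColimit _)⟩

end Groth.Agent.S5691
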