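import Groth.Statements.S5693
import Groth.Agent.FgaTau.Loci
import Groth.Agent.FgaTau.ExpChar

set_option autoImplicit false
universe u
open CategoryTheory CategoryTheory.Limits MonoidalCategory CartesianMonoidalCategory MonObj GrpObj AlgebraicGeometry
open FGA

namespace Groth.Agent.S5693

/-- Let S be a locally Noetherian scheme, G a commutative group scheme locally of finite type over S and
n ≥ 1 an integer. The set of points x of G for which n is the least positive integer such that the
n-th power morphism sends x into the union of the connected components of the identity of the fibres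
is locally constructible in G (the order function on the torsion-component set is locally
constructible). -/
theorem result (S : Scheme.{u}) [IsLocallyNoetherian S] (G : Over S) [GrpObj G]
    [IsCommMonObj G] [LocallyOfFiniteType G.hom] (n : ℕ) (hn : 0 < n) :
    Topology.IsLocallyConstructible {x : ↥G.left | ((𝟙 G : G ⟶ G) ^ n).left.base x ∈ SGA3x.neutralSet G ∧
      ∀ d : ℕ, 0 < d → d < n → ((𝟙 G : G ⟶ G) ^ d).left.base x ∉ SGA3x.neutralSet G} := by
  haveI : LocallyOfFinitePresentation G.hom := Groth.AlgSp2.lfp_of_isLocallyNoetherian G.hom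
  haveI : IsLocallyNoetherian G.left := LocallyOfFiniteType.isLocallyNoetherian G.hom
  haveI : QuasiSeparatedSpace G.left := inferInstance
  haveI : QuasiSeparated G.hom := QuasiSeparated.of_quasiSeparatedSpace G.hom
  have key := fun m => Groth.FgaTau.isLocallyConstructible_exact_order (G := G) m
  have hcompl : ∀ A : Set ↥G.left, Topology.IsLocallyConstructible A → Topology.IsLocallyConstructible Aᶜ := by
    intro A hA x
    obtain ⟨U, hxU, hU, h⟩ := hA x
    exact ⟨U, hxU, hU, h.compl⟩
  have : {x : ↥G.left | ((𝟙 G : G ⟶ G) ^ n).left.base x ∈ SGA3x.neutralSet G ∧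
      ∀ d : ℕ, 0 < d → d < n → ((𝟙 G : G ⟶ G) ^ d).left.base x ∉ SGA3x.neutralSet G} =
      (Groth.FgaTau.pw G n ⁻¹' SGA3x.neutralSet G) ∩
        (⋃ d ∈ (Finset.Ioo 0 n : Finset ℕ), Groth.FgaTau.pw G d ⁻¹' SGA3x.neutralSet G)ᶜ := by
    ext x
    simp [Groth.FgaTau.pw]
  rw [this]
  exact (key n).inter (hcompl _ (Topology.IsLocallyConstructible.biUnion (Finset.finite_toSet _) fun d _ => key d))

end Groth.Agent.S5693
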