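import Groth.Statements.S5694
import Groth.Agent.FgaTau.Loci
import Groth.Agent.FgaTau.ExpChar

set_option autoImplicit false
universe u
open CategoryTheory CategoryTheory.Limits MonoidalCategory CartesianMonoidalCategory MonObj GrpObj AlgebraicGeometry
open FGA

namespace Groth.Agent.S5694

/-- Let S be a locally Noetherian scheme and G a commutative group scheme locally of finite type over S
such that the union of the connected components of the identity in the fibres of G is closed. Let
p(s) denote the characteristic exponent of the residue field of S at s. Then the set of points x of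
G such that some p(s)^h-th power morphism (h ≥ 0, s the image of x in S) sends x into that union, is
closed in G. -/
theorem result (S : Scheme.{u}) [IsLocallyNoetherian S] (G : Over S) [GrpObj G]
    [IsCommMonObj G] [LocallyOfFiniteType G.hom] (h0 : IsClosed (SGA3x.neutralSet G))
    (p : ↥S → ℕ) (hp : ∀ s : ↥S, ringExpChar (S.residueField s) = p s) :
    IsClosed {x : ↥G.left | ∃ h m : ℕ, m = p (G.hom.base x) ^ h ∧
      ((𝟙 G : G ⟶ G) ^ m).left.base x ∈ SGA3x.neutralSet G} := by
  haveI : LocallyOfFinitePresentation G.hom := Groth.AlgSp2.lfp_of_isLocallyNoetherian G.hom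
  haveI : IsLocallyNoetherian G.left := LocallyOfFiniteType.isLocallyNoetherian G.hom
  subst_vars
  have hp' : ∀ s {l : ℕ}, l.Prime → ((l : S.residueField s) = 0 ↔ p s = l) := fun s l hl => by
    rw [← hp s]; exact Groth.FgaTau.natCast_eq_zero_iff_ringExpChar hl
  have hpos : ∀ s, 0 < p s := fun s => by rw [← hp s, ringExpChar]; exact lt_of_lt_of_le Nat.one_pos (le_max_right _ _)
  refine Groth.FgaTau.isClosed_of_stable ?_ fun ξ hξ => ?_
  · rintro a b hab ⟨h, m, rfl, ha⟩
    obtain ⟨k, hk⟩ := Groth.FgaTau.exists_eq_pow (p := p (G.hom.base b))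
      (pow_ne_zero h (hpos (G.hom.base a)).ne') fun l hl hld => (hp' _ hl).1
        (Groth.FgaTau.natCast_eq_zero_of_specializes (hab.map G.hom.continuous) ((hp' _ hl).2 (by
          have := hl.dvd_of_dvd_pow hld
          rcases le_or_gt (p (G.hom.base a)) 1 with h1 | h1
          · exact absurd (Nat.le_of_dvd (hpos _) this) (by have := hl.two_le; omega)
          · have hc : (ringChar (S.residueField (G.hom.base a))).Prime := by
              rcases CharP.char_is_prime_or_zero (S.residueField (G.hom.base a)) (ringChar _) with hc | hc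
              · exact hc
              · rw [← hp, ringExpChar, hc] at h1; simp at h1
            have he : p (G.hom.base a) = ringChar (S.residueField (G.hom.base a)) := by
              rw [← hp, ringExpChar, max_eq_left hc.one_le]
            rw [he] at this ⊢
            exact ((Nat.prime_dvd_prime_iff_eq hl hc).1 this).symm)))
    exact ⟨k, _, hk, (hab.map (Groth.FgaTau.continuous_pw _)).mem_closed h0 ha⟩
  · by_cases hτ : ∃ m, 0 < m ∧ Groth.FgaTau.pw G m ξ ∈ SGA3x.neutralSet G
    · obtain ⟨d, hd⟩ := Groth.FgaTau.exists_order ξ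
      obtain ⟨m, hm, hm'⟩ := hτ
      have hd0 : 0 < d := Nat.pos_of_dvd_of_pos ((hd m).1 hm') hm
      obtain ⟨l, hl, hld, hne⟩ : ∃ l : ℕ, l.Prime ∧ l ∣ d ∧ p (G.hom.base ξ) ≠ l := by
        by_contra! hall
        obtain ⟨k, hk⟩ := Groth.FgaTau.exists_eq_pow hd0.ne' hall
        exact hξ ⟨k, _, hk, (hd d).2 dvd_rfl⟩
      obtain ⟨O, hO, hξO, hOd⟩ := Groth.FgaTau.exists_open_order h0 hd0 hd
      refine ⟨O ∩ G.hom.base ⁻¹' {s | (l : S.residueField s) ≠ 0},
        hO.inter ((Groth.FgaTau.isOpen_natCast_ne_zero l).preimage G.hom.continuous),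
        ⟨hξO, fun h => hne ((hp' _ hl).1 h)⟩, ?_⟩
      rintro z ⟨hzO, hzl⟩ hξz ⟨h, m, rfl, hz⟩
      have hdvd : l ∣ p (G.hom.base z) := hl.dvd_of_dvd_pow (hld.trans ((hOd z hzO hξz _).1 hz))
      refine hzl ((hp' _ hl).2 ?_)
      rcases CharP.char_is_prime_or_zero (S.residueField (G.hom.base z)) (ringChar _) with hc | hc
      · have he : p (G.hom.base z) = ringChar (S.residueField (G.hom.base z)) := by
          rw [← hp, ringExpChar, max_eq_left hc.one_le]
        rw [he] at hdvd ⊢
        exact ((Nat.prime_dvd_prime_iff_eq hl hc).1 hdvd).symm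
      · rw [← hp, ringExpChar, hc] at hdvd
        exact absurd hdvd (by simpa using hl.ne_one)
    · refine ⟨Set.univ, isOpen_univ, trivial, ?_⟩
      rintro z - hξz ⟨h, m, rfl, hz⟩
      exact Groth.FgaTau.not_tau_of_specializes hξz (fun m hm hm' => hτ ⟨m, hm, hm'⟩) _ (pow_pos (hpos _) h) hz

end Groth.Agent.S5694
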