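import Groth.Statements.S5695
import Groth.Agent.FgaTau.Loci
import Groth.Agent.FgaTau.ExpChar

set_option autoImplicit false
universe u
open CategoryTheory CategoryTheory.Limits MonoidalCategory CartesianMonoidalCategory MonObj GrpObj AlgebraicGeometry
open FGA

namespace Groth.Agent.S5695

/-- Let S be a locally Noetherian scheme all of whose residue fields have the same characteristic p (so
the characteristic exponent is max(p, 1)), and G a commutative group scheme locally of finite type
over S such that the union of the connected components of the identity in the fibres of G is closed.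
Then the set of points x of G such that for some integer n ≥ 1 prime to max(p, 1) the n-th power
morphism sends x into that union, is closed in G. -/
theorem result (S : Scheme.{u}) [IsLocallyNoetherian S]
    (p : ℕ) (hS : ∀ s : ↥S, ringChar (S.residueField s) = p)
    (G : Over S) [GrpObj G] [IsCommMonObj G] [LocallyOfFiniteType G.hom] (h0 : IsClosed (SGA3x.neutralSet G)) :
    IsClosed {x : ↥G.left | ∃ n : ℕ, 0 < n ∧ Nat.Coprime n (max p 1) ∧
      ((𝟙 G : G ⟶ G) ^ n).left.base x ∈ SGA3x.neutralSet G} := by
  haveI : LocallyOfFinitePresentation G.hom := Groth.AlgSp2.lfp_of_isLocallyNoetherian G.hom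
  haveI : IsLocallyNoetherian G.left := LocallyOfFiniteType.isLocallyNoetherian G.hom
  refine Groth.FgaTau.isClosed_of_stable ?_ fun ξ hξ => ?_
  · rintro a b hab ⟨n, hn, hnc, ha⟩
    exact ⟨n, hn, hnc, (hab.map (Groth.FgaTau.continuous_pw n)).mem_closed h0 ha⟩
  · by_cases hτ : ∃ m, 0 < m ∧ Groth.FgaTau.pw G m ξ ∈ SGA3x.neutralSet G
    · obtain ⟨d, hd⟩ := Groth.FgaTau.exists_order ξ
      obtain ⟨m, hm, hm'⟩ := hτ
      have hd0 : 0 < d := Nat.pos_of_dvd_of_pos ((hd m).1 hm') hm
      obtain ⟨O, hO, hξO, hOd⟩ := Groth.FgaTau.exists_open_order h0 hd0 hd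
      refine ⟨O, hO, hξO, ?_⟩
      rintro z hzO hξz ⟨n, hn, hnc, hz⟩
      exact hξ ⟨d, hd0, hnc.coprime_dvd_left ((hOd z hzO hξz n).1 hz), (hd d).2 dvd_rfl⟩
    · refine ⟨Set.univ, isOpen_univ, trivial, ?_⟩
      rintro z - hξz ⟨n, hn, -, hz⟩
      exact Groth.FgaTau.not_tau_of_specializes hξz (fun m hm hm' => hτ ⟨m, hm, hm'⟩) n hn hz

end Groth.Agent.S5695
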