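import Groth.Statements.S5697
import Groth.Agent.FgaTau.Loci
import Groth.Agent.Sga3.NeutralGen.DimNhd

set_option autoImplicit false
universe u
open CategoryTheory CategoryTheory.Limits MonoidalCategory CartesianMonoidalCategory MonObj GrpObj AlgebraicGeometry
open FGA

namespace Groth.Agent.S5697

/-- Let S be a locally Noetherian scheme and G a commutative group scheme locally of finite type over S.
Assume that the union of the connected components of the identity of the fibres of G is closed in G,
and that G ⟶ S is universally open at the points of that union: for every base change S' ⟶ S, the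
structure map of G' = G ×_S S' is open at every point of the identity-component set of G' (the image
of every open neighbourhood is a neighbourhood). Then the prime-to-p torsion component set (points x
some n-th power of which, n ≥ 1 prime to the residue characteristic exponent, lies in the
identity-component set) is universally open over S at the points of the identity-component set, in
the same sense: for every base change S' ⟶ S, every point x' of the identity-component set of G' and
every open neighbourhood U of x', the image in S' of the intersection of U with the prime-to-p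
torsion component set of G' is a neighbourhood of the image of x'. (The published statement
concludes this at every point of the prime-to-p torsion component set; it fails for the closed
subgroup scheme of the constant group ℤ/2 over a discrete valuation ring of residue characteristic
different from 2 that keeps the non-identity element only over the closed point: there the
identity-component set is a copy of the base, all hypotheses hold, and the isolated non-identity
point over the closed point is 2-torsion with image the closed point alone. The published proof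
treats neighbourhoods of points of the identity-component set, so the conclusion is stated at those
points here.) -/
theorem result (S : Scheme.{u}) [IsLocallyNoetherian S]
    (G : Over S) [GrpObj G] [IsCommMonObj G] [LocallyOfFiniteType G.hom] (h0 : IsClosed (SGA3x.neutralSet G))
    (hopen : ∀ (S' : Scheme.{u}) (g : S' ⟶ S) (x' : ↥(Red.bc g G).left), x' ∈ SGA3x.neutralSet (Red.bc g G) →
      ∀ U : Set ↥(Red.bc g G).left, IsOpen U → x' ∈ U →
        (Red.bc g G).hom.base '' U ∈ nhds ((Red.bc g G).hom.base x'))
    (S' : Scheme.{u}) (g : S' ⟶ S) (x' : ↥(Red.bc g G).left)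
    (hx' : x' ∈ SGA3x.neutralSet (Red.bc g G))
    (U : Set ↥(Red.bc g G).left) (hU : IsOpen U) (hxU : x' ∈ U) :
    (Red.bc g G).hom.base '' (U ∩ {x : ↥(Red.bc g G).left | ∃ n : ℕ, 0 < n ∧ Nat.Coprime n (ringExpChar (S'.residueField ((Red.bc g G).hom.base x))) ∧
        ((𝟙 (Red.bc g G) : (Red.bc g G) ⟶ (Red.bc g G)) ^ n).left.base x ∈ SGA3x.neutralSet (Red.bc g G)}) ∈
      nhds ((Red.bc g G).hom.base x') := by
  haveI : LocallyOfFinitePresentation G.hom := Groth.AlgSp2.lfp_of_isLocallyNoetherian G.hom
  haveI : LocallyOfFiniteType (Red.bc g G).hom := inferInstanceAs (LocallyOfFiniteType (pullback.snd G.hom g))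
  haveI : LocallyOfFinitePresentation (Red.bc g G).hom :=
    inferInstanceAs (LocallyOfFinitePresentation (pullback.snd G.hom g))
  -- the fibre dimension does not jump
  have hd : Groth.Sga3.NeutralGen.ConstDim G := fun t s hts => by
    obtain ⟨z, hz⟩ := Groth.Sga3.NeutralGen.exists_isNGen G s
    have hu : EGA43.IsUnivOpenAt G.hom z := fun T f q hq A hA => by
      obtain ⟨A₀, hA₀A, hA₀, hqA₀⟩ := mem_nhds_iff.1 hA
      refine Filter.mem_of_superset (hopen T f q ?_ A₀ hA₀ hqA₀) (Set.image_mono hA₀A)
      rw [Groth.GrpschAbsch.NeutralSet.neutralSet_bc, Set.mem_preimage]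
      exact hq.symm ▸ hz.1
    obtain ⟨V, hV, hdim⟩ := Groth.Sga3.NeutralGen.exists_dim_nhd hz hu
    obtain ⟨V₀, hV₀, hV₀o, hsV₀⟩ := mem_nhds_iff.1 hV
    exact hdim t (hV₀ (hts.mem_open hV₀o hsV₀))
  have hd' := Groth.Sga3.NeutralGen.constDim_bc hd g
  -- the neutral part of `U`
  have hind : ProCons.IsIndConstructible (U ∩ SGA3x.neutralSet (Red.bc g G)) := by
    refine Groth.Calg2.ProCons.isIndConstructible_of fun V hV y hy => ?_
    haveI : IsAffine (V : Scheme.{u}) := hV
    obtain ⟨W, hW, hWU, w, hw, T, hT, hwT, hTE⟩ := Groth.Calg2.ProCons.exists_constructible_of_ind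
      (Groth.Agent.S15543.result V.ι _ (Groth.Sga3.NeutralGen.isIndConstructible_neutralSet (G := Red.bc g G)))
      (x := y) (show V.ι.base y ∈ SGA3x.neutralSet (Red.bc g G) from hy.2)
      ⟨V.ι.base ⁻¹' U, hU.preimage V.ι.continuous⟩ hy.1
    haveI : IsAffine (W : Scheme.{u}) := hW
    refine ⟨W.ι.base '' T, ?_, ⟨w, hwT, hw⟩, ?_⟩
    · refine hT.image_of_isOpenEmbedding W.ι.isOpenEmbedding ?_
      rw [Scheme.Opens.range_ι]
      exact fun A hA hAo => QuasiSeparatedSpace.inter_isCompact _ _ W.isOpen hW.isCompact hAo hA
    · rintro _ ⟨z, hz, rfl⟩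
      exact ⟨hWU z.2, hTE hz⟩
  refine Filter.mem_of_superset (mem_interior_iff_mem_nhds.1 (Groth.Calg2.ProCons.mem_interior_of_generizations
    (Groth.Calg2.ProCons.isIndConstructible_image (Red.bc g G).hom hind) fun t ht => ?_)) ?_
  · obtain ⟨z, hz⟩ := Groth.Sga3.NeutralGen.exists_isNGen (Red.bc g G) t
    obtain ⟨z₀, hz₀⟩ := Groth.Sga3.NeutralGen.exists_isNGen (Red.bc g G) ((Red.bc g G).hom.base x')
    have h := (hz.specializes hd' ht hz₀).trans (hz₀.2.2 x' hx' rfl)
    exact ⟨z, ⟨h.mem_open hU hxU, hz.1⟩, hz.2.1⟩
  · refine Set.image_mono fun z hz => ⟨hz.1, 1, Nat.one_pos, Nat.coprime_one_left _, ?_⟩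
    rw [pow_one]
    exact hz.2

end Groth.Agent.S5697
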