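import Groth.Statements.S5699
import Groth.Agent.Quot.RegularQuot

set_option autoImplicit false
universe u
open CategoryTheory CategoryTheory.Limits AlgebraicGeometry
open FGA

namespace Groth.Agent.S5699

/-- Let k be an algebraically closed field, P projective n-space over k, E a coherent module on P and Φ
a finite set of functions from ℤ to ℤ. Then the coherent quotient modules F of E whose Hilbert
function r ↦ χ(P, F(r)) (alternating sum of the dimensions of the cohomology groups in degrees at
most n) lies in Φ form a bounded family: there are a k-scheme T of finite type and a coherent module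
on P ×_k T such that every such F is isomorphic to its fibre at some k-point of T. Stated over an
algebraically closed field; the published statement is the relative version over a Noetherian base
for classes of sheaves on the fibres, which this special case does not cover. -/
theorem result (k : Type u) [Field k] [IsAlgClosed k] (n : ℕ)
    (E : (CohB1.ProjSpace n k).Modules) (hE : Coh.IsCoh E) (Φ : Set (ℤ → ℤ)) (hΦ : Φ.Finite) :
    Pic13.IsBounded k (CohB1.ProjSpace n k) (fun F =>
      Coh.IsCoh F ∧ (∃ p : E ⟶ F, Epi p) ∧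
        (fun r : ℤ => FGA.eulerCharLE k (CohB1.ProjSpace n k)
          (CohB1.tensorMod F (Twist.twistProjSpace n k r)) n) ∈ Φ) := by
  have := Groth.PnCoh.isLocallyNoetherian_projSpace n k
  obtain ⟨m₀, hm₀⟩ := Groth.Quot.exists_mReg hE
  obtain ⟨π₀, hπ₀⟩ := Groth.Quot.exists_epi_of_mReg hE hm₀ (Int.self_le_toNat _)
  let N := (Groth.Quot.chiT E m₀).toNat
  let m := hΦ.toFinset.sup fun f => (Groth.Quot.quotBound n N (-m₀) f).toNat
  obtain ⟨T, q, h₁, h₂, G, hG, hfam⟩ := Groth.Quot.isBounded_mRegular (n := n) (k := k) (m : ℤ) Φ hΦ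
  refine ⟨T, q, h₁, h₂, G, hG, fun F ⟨hF, ⟨p, hp⟩, hmem⟩ => hfam F ?_⟩
  have := hF.1
  have e : Groth.Quot.chiT F ∈ Φ := by
    rw [show Groth.Quot.chiT F = fun r : ℤ => FGA.eulerCharLE k (CohB1.ProjSpace n k)
      (CohB1.tensorMod F (Twist.twistProjSpace n k r)) n from funext (Groth.Quot.chiT_eq_eulerCharLE hF.1)]
    exact hmem
  have := epi_comp π₀ p
  exact ⟨hF, Groth.Variety2.Reg.mReg_of_le F (Groth.Quot.mReg_quot N (-m₀) hF (π₀ ≫ p)).1
    ((Int.self_le_toNat _).trans (Int.ofNat_le.2 (Finset.le_sup
      (f := fun f => (Groth.Quot.quotBound n N (-m₀) f).toNat) (hΦ.mem_toFinset.2 e)))), e⟩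

end Groth.Agent.S5699
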