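import Groth.Statements.S5700
import Groth.Agent.PicAux.RigClasses
import Groth.Agent.PicAux.H0Universal
import Groth.Agent.AlgGrp1.PushIso

set_option autoImplicit false
universe u
open CategoryTheory CategoryTheory.Limits AlgebraicGeometry
open FGA
open scoped Groth.Abvar.PicCalc

namespace Groth.Agent.S5700

/-- Let f : X ⟶ S be quasi-compact and separated, with the induced maps from sections of the structure
sheaf of S to sections of the structure sheaf of X bijective over every open of S, and admitting a
section σ; let g : S' ⟶ S be flat, surjective and quasi-compact, X' = X ×_S S', S'' = S' ×_S S' and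
X'' = X ×_S S'' with its two projections to X'. If L' is an invertible module on X' whose pullbacks
along the two projections X'' ⟶ X' become isomorphic after tensoring the second with the pullback of
some invertible module on S'', then there are an invertible module L on X and an invertible module
N' on S' with L' isomorphic to the tensor product of the pullback of L and the pullback of N'.
(Exactness of Pic(X)/Pic(S) → Pic(X')/Pic(S') ⇉ Pic(X'')/Pic(S'').) (The published statement asks
for sections of f only locally on S and is phrased with relative Picard classes, the global sections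
of the Zariski sheaf on S associated with U ↦ Pic(X_U); this row assumes a global section, in which
case those classes are classes of invertible modules on X modulo those pulled back from S, and the
local-section form follows from it by restricting to the opens of S over which a section exists.) -/
theorem result {X S S' : Scheme.{u}} (f : X ⟶ S)
    [QuasiCompact f] [IsSeparated f] (hf : ∀ U : S.Opens, Function.Bijective (f.app U))
    (σ : S ⟶ X) (hσ : σ ≫ f = 𝟙 S)
    (g : S' ⟶ S) [Flat g] [Surjective g] [QuasiCompact g]
    (L' : (pullback f g).Modules) (hL' : PicF.IsInvertible L')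
    (hcomp : ∃ N'' : (pullback g g).Modules, PicF.IsInvertible N'' ∧
      Nonempty ((Scheme.Modules.pullback (pullback.map f (pullback.fst g g ≫ g) f g (𝟙 X) (pullback.fst g g) (𝟙 S)
          ((Category.comp_id f).trans (Category.id_comp f).symm) (Category.comp_id _))).obj L' ≅
        CohB1.tensorMod ((Scheme.Modules.pullback (pullback.map f (pullback.fst g g ≫ g) f g (𝟙 X) (pullback.snd g g) (𝟙 S)
          ((Category.comp_id f).trans (Category.id_comp f).symm) ((Category.comp_id _).trans pullback.condition))).obj L')
          ((Scheme.Modules.pullback (pullback.snd f (pullback.fst g g ≫ g))).obj N''))) :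
    ∃ (L : X.Modules) (N' : S'.Modules), PicF.IsInvertible L ∧ PicF.IsInvertible N' ∧
      Nonempty (L' ≅ CohB1.tensorMod ((Scheme.Modules.pullback (pullback.fst f g)).obj L)
        ((Scheme.Modules.pullback (pullback.snd f g)).obj N')) := by
  classical
  let T : Over S := Over.mk (𝟙 S)
  let U : Over S := Over.mk g
  let v : U ⟶ T := Over.homMk g (Category.comp_id g)
  have : Flat v.left := ‹_›
  have : Surjective v.left := ‹_›
  have : QuasiCompact v.left := ‹_›
  have : QuasiSeparated f := inferInstance
  have hb : ∀ T' : Over S, Flat T'.hom → Function.Bijective (PicF.XTproj f T').appTop := by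
    intro T' _
    have hfi : ∀ W : S.Opens, IsAffineOpen W → IsIso (f.app W) := fun W _ =>
      (ConcreteCategory.isIso_iff_bijective _).2 (hf W)
    have h := Groth.AlgGrp1.PushIso.baseChange (IsPullback.of_hasPullback f T'.hom) hfi
    exact Groth.PicAux.Seesaw.app_bijective_of_basis (PicF.XTproj f T')
      (fun W => IsIso ((PicF.XTproj f T').app W))
      (fun W hW => ConcreteCategory.bijective_of_isIso _)
      (fun V t ht => by
        obtain ⟨B, _, htB, hBV, hB⟩ := h V t ht
        exact ⟨B, hB, htB, hBV⟩) ⊤
  have hq : Presieve.ofArrows (fun _ : PUnit.{u + 1} => PicF.XT f U)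
      (fun _ => PicF.XTmap f v) ∈ Scheme.fpqcPrecoverage (PicF.XT f T) := by
    have h := (Groth.PicCurve.XTmap_sq f v).flip
    have : Flat (PicF.XTmap f v) := MorphismProperty.of_isPullback (P := @Flat) h ‹_›
    have : QuasiCompact (PicF.XTmap f v) := MorphismProperty.of_isPullback (P := @QuasiCompact) h ‹_›
    have := Groth.PicAux.RigDescent.surjective_XTmap (f := f) v
    exact Groth.PicAux.RigDescent.singleton_mem_fpqc _
  let ℓ : PicLoc.PicSet (PicF.XT f U) := Groth.Abvar.PicCalc.cls hL'
  obtain ⟨N'', hN'', hiso⟩ := hcomp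
  have hglue : (Groth.PicCurve.norm f σ hσ U ℓ).map (Groth.PicAux.RigDescent.pr₁ v) =
      (Groth.PicCurve.norm f σ hσ U ℓ).map (Groth.PicAux.RigDescent.pr₂ v) := by
    have e : Groth.Abvar.PicCalc.pull (PicF.XTmap f (Groth.PicAux.RigDescent.pr₁ v)) ℓ =
        Groth.Abvar.PicCalc.pull (PicF.XTmap f (Groth.PicAux.RigDescent.pr₂ v)) ℓ *
          Groth.Abvar.PicCalc.pull (PicF.XTproj f (Groth.PicAux.RigDescent.W₂ v))
            (Groth.Abvar.PicCalc.cls hN'') := by
      rw [Groth.Abvar.PicCalc.pull_cls, Groth.Abvar.PicCalc.pull_cls, Groth.Abvar.PicCalc.pull_cls,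
        ← Groth.Abvar.PicCalc.cls_tensorMod, ← Groth.Abvar.PicCalc.nonempty_iso_iff]
      exact hiso
    rw [Groth.PicCurve.norm_map, Groth.PicCurve.norm_map, e, Groth.PicCurve.norm_mul_base]
  obtain ⟨c, hc⟩ := Groth.PicAux.RigDescent.exists_map_eq v hq
    (hb U (inferInstanceAs (Flat g)))
    (hb (Groth.PicAux.RigDescent.W₃ v)
      (inferInstanceAs (Flat (pullback.fst (pullback.snd g g) (pullback.fst g g) ≫ pullback.fst g g ≫ g))))
    (Groth.PicCurve.norm f σ hσ U ℓ) hglue
  let e : X ⟶ PicF.XT f T := pullback.lift (𝟙 X) f (by simp [T])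
  obtain ⟨L, hL, hLc⟩ := PicGrp.exists_eq_cls (Groth.Abvar.PicCalc.pull e c.1)
  obtain ⟨N', hN', hNc⟩ := PicGrp.exists_eq_cls
    (Groth.Abvar.PicCalc.pull (PicF.secT f σ hσ U) ℓ)
  refine ⟨L, N', hL, hN', ?_⟩
  rw [Groth.Abvar.PicCalc.nonempty_iso_iff hL' (Groth.Abvar.PicCalc.isInvertible_tensorMod
      (PicLoc.isInvertible_pullback _ hL) (PicLoc.isInvertible_pullback _ hN')),
    Groth.Abvar.PicCalc.cls_tensorMod (PicLoc.isInvertible_pullback _ hL)
      (PicLoc.isInvertible_pullback _ hN'), ← Groth.Abvar.PicCalc.pull_cls (pullback.fst f g) hL,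
    ← Groth.Abvar.PicCalc.pull_cls (pullback.snd f g) hN']
  change ℓ = Groth.Abvar.PicCalc.pull (pullback.fst f g) (PicGrp.cls L hL) *
    Groth.Abvar.PicCalc.pull (pullback.snd f g) (PicGrp.cls N' hN')
  rw [← hLc, ← hNc, ← Groth.Abvar.PicCalc.pull_comp (pullback.fst f g) e]
  have he : pullback.fst f g ≫ e = PicF.XTmap f v := by
    apply pullback.hom_ext
    · rw [Category.assoc, pullback.lift_fst, Category.comp_id, Groth.PicCurve.XTmap_fst]
      rfl
    · rw [Category.assoc, pullback.lift_snd, Groth.PicCurve.XTmap_snd]
      exact pullback.condition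
  rw [he]
  have h := congrArg Subtype.val hc
  change Groth.Abvar.PicCalc.pull (PicF.XTmap f v) c.1 = ℓ * _⁻¹ at h
  rw [h]
  exact (inv_mul_cancel_right ℓ _).symm

end Groth.Agent.S5700
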