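import Groth.Statements.S5701
import Groth.Agent.Etale71.Maximal

set_option autoImplicit false
universe u v
open TensorProduct
open Dix

namespace Groth.Agent.S5701

/-- Let k be a field and A a finite-dimensional k-algebra which is absolutely semisimple (its base
change to an algebraic closure of k is a semisimple ring). For a subalgebra L of A, call L étale
when it is commutative and all its elements are separable over k. Then L is étale and equal to its
own centralizer in A if and only if L is a maximal étale subalgebra of A. -/
theorem result (k : Type u) [Field k] (A : Type v) [Ring A] [Algebra k A] [FiniteDimensional k A] (hss : IsSemisimpleRing (AlgebraicClosure k ⊗[k] A)) (L : Subalgebra k A) : ((∀ x ∈ L, ∀ y ∈ L, x * y = y * x) ∧ Algebra.IsSeparable k L ∧ Subalgebra.centralizer k (L : Set A) = L) ↔ ((∀ x ∈ L, ∀ y ∈ L, x * y = y * x) ∧ Algebra.IsSeparable k L ∧ ∀ L' : Subalgebra k A, (∀ x ∈ L', ∀ y ∈ L', x * y = y * x) → Algebra.IsSeparable k L' → L ≤ L' → L' = L) := by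
  constructor
  · rintro ⟨hc, hs, hC⟩
    refine ⟨hc, hs, fun L' hc' _ hle => le_antisymm (fun x hx => ?_) hle⟩
    rw [← hC, Subalgebra.mem_centralizer_iff]
    exact fun l hl => hc' l (hle hl) x hx
  · rintro ⟨hc, hs, hmax⟩
    exact ⟨hc, hs, Groth.Etale71.centralizer_eq hss L hc hs hmax⟩

end Groth.Agent.S5701
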