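import Groth.Statements.S5703
import Groth.Agent.Misc1.Azumaya.HenselLift
import Mathlib.LinearAlgebra.Dimension.Constructions


set_option autoImplicit false
universe u v
open TensorProduct
open Dix
open Groth.Azum IsLocalRing

namespace Groth.Agent.S5703

/-- Let R be a henselian local ring with residue field k and let A, B be Azumaya algebras over R. Then
every isomorphism of k-algebras e₀ : k ⊗_R A ≃ k ⊗_R B is induced by an isomorphism of R-algebras e
: A ≃ B, in the sense that e₀ (1 ⊗ a) = 1 ⊗ e(a) for all a. In particular Azumaya algebras over R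
with isomorphic special fibres are isomorphic. -/
theorem result (R : Type u) [CommRing R] [HenselianLocalRing R] (A : Type u) [Ring A] [Algebra R A] [IsAzumaya R A] (B : Type u) [Ring B] [Algebra R B] [IsAzumaya R B] (e₀ : (IsLocalRing.ResidueField R ⊗[R] A) ≃ₐ[IsLocalRing.ResidueField R] (IsLocalRing.ResidueField R ⊗[R] B)) : ∃ e : A ≃ₐ[R] B, ∀ a : A, e₀ ((1 : IsLocalRing.ResidueField R) ⊗ₜ[R] a) = (1 : IsLocalRing.ResidueField R) ⊗ₜ[R] (e a) := by
  classical
  let k := ResidueField R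
  have := baseChange R B k
  have : Module.Free R A := Module.free_of_flat_of_isLocalRing
  have : Module.Free R B := Module.free_of_flat_of_isLocalRing
  have : Module.Free R Bᵐᵒᵖ := Module.Free.of_equiv (MulOpposite.opLinearEquiv R)
  have : Module.Finite R Bᵐᵒᵖ := Module.Finite.equiv (MulOpposite.opLinearEquiv R)
  let C := A ⊗[R] Bᵐᵒᵖ
  let V := k ⊗[R] B
  let iA : A →ₐ[R] V := (e₀.toAlgHom.restrictScalars R).comp Algebra.TensorProduct.includeRight
  let iB : B →ₐ[R] V := Algebra.TensorProduct.includeRight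
  let θ : C →ₐ[R] V ⊗[k] Vᵐᵒᵖ := Algebra.TensorProduct.lift
    ((((Algebra.TensorProduct.includeLeft : V →ₐ[k] V ⊗[k] Vᵐᵒᵖ)).restrictScalars R).comp iA)
    ((((Algebra.TensorProduct.includeRight : Vᵐᵒᵖ →ₐ[k] V ⊗[k] Vᵐᵒᵖ)).restrictScalars R).comp (AlgHom.op iB))
    (fun a b => by simp [Commute, SemiconjBy])
  let π : C →ₐ[R] Module.End k V := ((AlgHom.mulLeftRight k V).restrictScalars R).comp θ
  have hπ : ∀ (a : A) (b : B) (y : V), π (a ⊗ₜ MulOpposite.op b) y = iA a * y * iB b := fun a b y => by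
    change AlgHom.mulLeftRight k V ((iA a ⊗ₜ[k] (1 : Vᵐᵒᵖ)) * ((1 : V) ⊗ₜ[k] MulOpposite.op (iB b))) y = _
    rw [Algebra.TensorProduct.tmul_mul_tmul, mul_one, one_mul, AlgHom.mulLeftRight_apply, MulOpposite.unop_op]
  -- `π` is surjective, with kernel `m C`
  have hiA : Function.Surjective iA := fun v => by
    obtain ⟨x, hx⟩ := exists_one_tmul_eq (e₀.symm v)
    exact ⟨x, by simp [iA, hx]⟩
  have hiB : Function.Surjective iB := fun v => exists_one_tmul_eq v
  have hπs : Function.Surjective π := by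
    intro φ
    obtain ⟨w, rfl⟩ := (IsAzumaya.AlgHom.mulLeftRight_bij k V).2 φ
    induction w using TensorProduct.induction_on with
    | zero => exact ⟨0, by simp⟩
    | tmul x y =>
      obtain ⟨a, rfl⟩ := hiA x
      obtain ⟨b, hb⟩ := hiB y.unop
      refine ⟨a ⊗ₜ MulOpposite.op b, LinearMap.ext fun z => ?_⟩
      rw [hπ, AlgHom.mulLeftRight_apply, hb]
    | add x y hx hy =>
      obtain ⟨u, hu⟩ := hx
      obtain ⟨v, hv⟩ := hy
      exact ⟨u + v, by rw [map_add, hu, hv, map_add]⟩
  have hπker : ∀ x, π x = 0 → x ∈ maximalIdeal R • (⊤ : Submodule R C) := by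
    intro x hx
    rw [mem_smul_top_iff_one_tmul_eq_zero]
    let Φ := LinearMap.liftBaseChange k π.toLinearMap
    have hΦ : ∀ y, Φ ((1 : k) ⊗ₜ[R] y) = π y := fun y => by simp [Φ]
    have hΦs : Function.Surjective Φ := fun φ => by
      obtain ⟨y, rfl⟩ := hπs φ
      exact ⟨_, hΦ y⟩
    have hdim : Module.finrank k (k ⊗[R] C) = Module.finrank k (Module.End k V) := by
      have hAB : Module.finrank R A = Module.finrank R B := by
        have h := e₀.toLinearEquiv.finrank_eq
        rwa [Module.finrank_baseChange, Module.finrank_baseChange] at h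
      rw [Module.finrank_baseChange, Module.finrank_linearMap, Module.finrank_baseChange,
        Module.finrank_tensorProduct, hAB, (MulOpposite.opLinearEquiv R (M := B)).finrank_eq.symm]
    refine (LinearMap.injective_iff_surjective_of_finrank_eq_finrank hdim).2 hΦs ?_
    rw [map_zero, hΦ, hx]
  have hπmem : ∀ x ∈ maximalIdeal R • (⊤ : Submodule R C), π x = 0 := by
    intro x hx
    refine Submodule.smul_induction_on hx (fun r hr y _ => ?_) (fun y z hy hz => by rw [map_add, hy, hz, add_zero])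
    have h0 : algebraMap R k r = 0 := (residue_eq_zero_iff r).2 hr
    rw [map_smul, ← algebraMap_smul k r, h0, zero_smul]
  -- a rank one idempotent and its lift
  obtain ⟨φ, hφ⟩ := exists_dual_one k V
  let q : Module.End k V := LinearMap.toSpanSingleton k V 1 ∘ₗ φ
  have hq : ∀ y, q y = φ y • (1 : V) := fun y => rfl
  obtain ⟨c, hc⟩ := hπs q
  obtain ⟨ε, hε, hεc⟩ := exists_idempotent_lift_noncomm c (hπker _ (by
    rw [map_sub, map_mul, hc]
    refine LinearMap.ext fun y => ?_
    simp [hq, hφ]))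
  have hπε : π ε = q := by
    rw [← hc, ← sub_eq_zero, ← map_sub]
    exact hπmem _ hεc
  let N : Submodule R C := LinearMap.range (LinearMap.mulRight R ε)
  let pr : C →ₗ[R] N := (LinearMap.mulRight R ε).rangeRestrict
  have hN : ∀ z : N, (z : C) * ε = z := by
    rintro ⟨_, w, rfl⟩
    change w * ε * ε = w * ε
    rw [mul_assoc, hε.eq]
  have hpr : pr ∘ₗ N.subtype = LinearMap.id := LinearMap.ext fun z => Subtype.ext (hN z)
  have : Module.Projective R N := Module.Projective.of_split N.subtype pr hpr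
  have : Module.Finite R N := Module.Finite.of_surjective pr (LinearMap.surjective_rangeRestrict _)
  let σ : N →ₗ[R] V := ((LinearMap.applyₗ (R := k) (1 : V)).restrictScalars R) ∘ₗ π.toLinearMap ∘ₗ N.subtype
  have hσ : ∀ z : N, σ z = π (z : C) 1 := fun z => rfl
  have hker : LinearMap.ker σ ≤ maximalIdeal R • ⊤ := by
    intro z hz
    rw [LinearMap.mem_ker, hσ] at hz
    have h0 : (z : C) ∈ maximalIdeal R • (⊤ : Submodule R C) := hπker _ (by
      refine LinearMap.ext fun y => ?_
      rw [← hN z, map_mul, hπε, Module.End.mul_apply, hq, map_smul, hz, smul_zero, LinearMap.zero_apply])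
    have h1 := Submodule.smul_top_le_comap_smul_top _ pr h0
    have h2 : pr (z : C) = z := LinearMap.congr_fun hpr z
    rwa [Submodule.mem_comap, h2] at h1
  let fA : A →ₗ[R] N := pr ∘ₗ (Algebra.TensorProduct.includeLeft : A →ₐ[R] C).toLinearMap
  let fB : B →ₗ[R] N := pr ∘ₗ (Algebra.TensorProduct.includeRight : Bᵐᵒᵖ →ₐ[R] C).toLinearMap ∘ₗ
    (MulOpposite.opLinearEquiv R).toLinearMap
  have hfA : ∀ a, (fA a : C) = (a ⊗ₜ (1 : Bᵐᵒᵖ)) * ε := fun a => rfl
  have hfB : ∀ b, (fB b : C) = ((1 : A) ⊗ₜ MulOpposite.op b) * ε := fun b => rfl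
  have hq1 : q 1 = 1 := by rw [hq, hφ, one_smul]
  have hσA : σ ∘ₗ fA = iA.toLinearMap := LinearMap.ext fun a => by
    rw [LinearMap.comp_apply, hσ, hfA, map_mul, hπε, Module.End.mul_apply, hq1,
      ← MulOpposite.op_one, hπ, map_one, mul_one, mul_one]
    rfl
  have hσB : σ ∘ₗ fB = iB.toLinearMap := LinearMap.ext fun b => by
    rw [LinearMap.comp_apply, hσ, hfB, map_mul, hπε, Module.End.mul_apply, hq1, hπ, map_one, one_mul, one_mul]
    rfl
  have hkA : LinearMap.ker iA.toLinearMap ≤ maximalIdeal R • ⊤ := fun a ha => by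
    rw [mem_smul_top_iff_one_tmul_eq_zero]
    rw [LinearMap.mem_ker] at ha
    exact e₀.injective ((show e₀ ((1 : k) ⊗ₜ[R] a) = 0 from ha).trans (map_zero _).symm)
  have hkB : LinearMap.ker iB.toLinearMap ≤ maximalIdeal R • ⊤ := fun b hb => by
    rw [mem_smul_top_iff_one_tmul_eq_zero]
    exact hb
  have hbA : Function.Bijective fA := by
    have h1 := bijective_of_factor (R := R) (M := A) (N := N) (V := V) fA iA.toLinearMap σ
    exact h1 hσA hiA hkA hker
  have hbB : Function.Bijective fB := by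
    have h1 := bijective_of_factor (R := R) (M := B) (N := N) (V := V) fB iB.toLinearMap σ
    exact h1 hσB hiB hkB hker
  let el : A ≃ₗ[R] B := (LinearEquiv.ofBijective fA hbA) ≪≫ₗ (LinearEquiv.ofBijective fB hbB).symm
  have hel : ∀ a, fB (el a) = fA a := fun a => (LinearEquiv.ofBijective fB hbB).apply_symm_apply _
  have helC : ∀ a, ((1 : A) ⊗ₜ[R] MulOpposite.op (el a)) * ε = (a ⊗ₜ (1 : Bᵐᵒᵖ)) * ε := fun a => by
    rw [← hfA, ← hfB, hel]
  have hone : el 1 = 1 := hbB.1 (Subtype.ext (by rw [hel, hfA, hfB]; rfl))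
  have hmul : ∀ a a', el (a * a') = el a * el a' := fun a a' => hbB.1 (Subtype.ext (by
    rw [hel, hfA, hfB,
      show ((a * a') ⊗ₜ[R] (1 : Bᵐᵒᵖ) : C) = (a ⊗ₜ 1) * (a' ⊗ₜ 1) by
        rw [Algebra.TensorProduct.tmul_mul_tmul, mul_one],
      mul_assoc, ← helC a', ← mul_assoc, Algebra.TensorProduct.tmul_mul_tmul, mul_one, one_mul,
      show ((a ⊗ₜ[R] MulOpposite.op (el a')) : C) = ((1 : A) ⊗ₜ MulOpposite.op (el a')) * (a ⊗ₜ 1) by
        rw [Algebra.TensorProduct.tmul_mul_tmul, mul_one, one_mul],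
      mul_assoc, ← helC a, ← mul_assoc, Algebra.TensorProduct.tmul_mul_tmul, one_mul, ← MulOpposite.op_mul]))
  refine ⟨AlgEquiv.ofLinearEquiv el hone hmul, fun a => ?_⟩
  calc e₀ ((1 : k) ⊗ₜ[R] a) = σ (fA a) := (LinearMap.congr_fun hσA a).symm
    _ = σ (fB (el a)) := by rw [hel]
    _ = _ := LinearMap.congr_fun hσB (el a)

end Groth.Agent.S5703
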