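import Groth.Statements.S5704
import Groth.Agent.AzLift.Scheme
import Groth.Agent.Hensel1.SmoothLift
import Groth.Agent.Misc1.Azumaya.Basic
-- import your own Groth.Agent.* helpers here

set_option autoImplicit false
universe u v
open TensorProduct
open Dix

namespace Groth.Agent.S5704

open Groth.AzLift

/-- A basis starting with `1`, and an inverse of the sandwich matrix. -/
theorem exists_point (K : Type u) [Field K] (A₀ : Type u) [Ring A₀] [Algebra K A₀]
    [Algebra.IsCentral K A₀] [IsSimpleRing A₀] [FiniteDimensional K A₀] :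
    ∃ (m : ℕ) (b : Module.Basis (Fin (m + 1)) K A₀) (D : Matrix (Fin (m + 1) × Fin (m + 1))
      (Fin (m + 1) × Fin (m + 1)) K), b 0 = 1 ∧
      sandwich (fun p q t => b.repr (b p * b q) t) * D = 1 := by
  classical
  have h1 : LinearIndepOn K id ({1} : Set A₀) := LinearIndepOn.singleton one_ne_zero
  let B := Module.Basis.extend h1
  have : Fintype (h1.extend (Set.subset_univ _)) := FiniteDimensional.fintypeBasisIndex B
  have hmem : (1 : A₀) ∈ h1.extend (Set.subset_univ _) := h1.subset_extend _ rfl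
  obtain ⟨m, hm⟩ := Nat.exists_eq_add_of_lt (Fintype.card_pos_iff.2 ⟨(⟨1, hmem⟩ : h1.extend _)⟩)
  let e₀ : h1.extend (Set.subset_univ _) ≃ Fin (m + 1) :=
    Fintype.equivFinOfCardEq (by rw [hm, zero_add])
  let e := e₀.trans (Equiv.swap (e₀ ⟨1, hmem⟩) 0)
  let b := B.reindex e
  have he : e.symm 0 = ⟨1, hmem⟩ := e.symm_apply_eq.2 (by simp [e])
  have hb : b 0 = 1 := by rw [Module.Basis.reindex_apply, he, Module.Basis.extend_apply_self]
  let T := b.tensorProduct (b.map (MulOpposite.opLinearEquiv K))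
  have hT : ∀ r x, AlgHom.mulLeftRight K A₀ x (b r) = ∑ pq, T.repr x pq • (b pq.1 * b r * b pq.2) := by
    intro r x
    conv_lhs => rw [← T.sum_repr x, map_sum, LinearMap.sum_apply]
    refine Finset.sum_congr rfl fun ⟨p, q⟩ _ => ?_
    rw [map_smul, LinearMap.smul_apply]
    simp [T, Module.Basis.tensorProduct_apply]
  choose x hx using fun sr : Fin (m + 1) × Fin (m + 1) =>
    (CSA.mulLeftRight_bijective K A₀).2 (b.constr K (Pi.single (M := fun _ => A₀) sr.2 (b sr.1)))
  refine ⟨m, b, fun pq sr => T.repr (x sr) pq, hb, ?_⟩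
  ext ⟨s, r⟩ ⟨s', r'⟩
  rw [Matrix.mul_apply]
  have hsw : ∀ pq : Fin (m + 1) × Fin (m + 1), sandwich (fun p q t => b.repr (b p * b q) t) (s, r) pq
      = b.repr (b pq.1 * b r * b pq.2) s := by
    intro pq
    conv_rhs => rw [← b.sum_repr (b pq.1 * b r), Finset.sum_mul, map_sum, Finsupp.coe_finsetSum,
      Finset.sum_apply]
    refine Finset.sum_congr rfl fun t _ => ?_
    simp
  have key := congrArg (fun z => b.repr z s) ((hT r (x (s', r'))).symm.trans
    (LinearMap.congr_fun (hx (s', r')) (b r)))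
  simp only [map_sum, map_smul, Finsupp.coe_finsetSum, Finset.sum_apply, Finsupp.coe_smul,
    Pi.smul_apply, smul_eq_mul, Module.Basis.constr_basis] at key
  simp only [hsw, mul_comm (b.repr _ s), key]
  by_cases hr : r = r' <;> by_cases hs : s = s' <;>
    simp [hr, hs, Matrix.one_apply, Pi.single_apply, Finsupp.single_apply, eq_comm]

/-- Let R be a henselian local ring with residue field k and let A₀ be a finite-dimensional central
simple k-algebra. Then there exists an Azumaya algebra A over R whose special fibre k ⊗_R A is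
isomorphic to A₀ as a k-algebra. -/
theorem result (R : Type u) [CommRing R] [HenselianLocalRing R] (A₀ : Type u) [Ring A₀] [Algebra (IsLocalRing.ResidueField R) A₀] [Algebra.IsCentral (IsLocalRing.ResidueField R) A₀] [IsSimpleRing A₀] [FiniteDimensional (IsLocalRing.ResidueField R) A₀] : ∃ (A : Type u) (_ : Ring A) (_ : Algebra R A), IsAzumaya R A ∧ Nonempty ((IsLocalRing.ResidueField R ⊗[R] A) ≃ₐ[IsLocalRing.ResidueField R] A₀) := by
  classical
  obtain ⟨m, b, D₀, hb, hD₀⟩ := exists_point (IsLocalRing.ResidueField R) A₀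
  set c₀ := fun p q t => b.repr (b p * b q) t with hc₀d
  have hbb : ∀ p q, b p * b q = ∑ t, c₀ p q t • b t := fun p q => (b.sum_repr _).symm
  have hc₀ : IsSC c₀ := by
    refine ⟨fun p q r s => ?_, fun q t => ?_, fun p t => ?_⟩
    · have h := congrArg (fun z => b.repr z s) (mul_assoc (b p) (b q) (b r))
      simp only [hbb q r, Finset.mul_sum, mul_smul_comm] at h
      simp only [hbb p q, Finset.sum_mul, smul_mul_assoc] at h
      simpa [c₀] using h
    · simp [c₀, hb, Finsupp.single_apply]
    · simp [c₀, hb, Finsupp.single_apply]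
  let σ : AzRing R (Fin (m + 1)) →ₐ[R] R ⧸ IsLocalRing.maximalIdeal R :=
    mkPt (S := IsLocalRing.ResidueField R) c₀ D₀ hc₀ hD₀
  obtain ⟨s, hs⟩ := Groth.Hensel1.exists_smooth_lift (Groth.Hensel1.gabber_of_henselianRing) σ
  obtain ⟨hc, -⟩ := isSC_pt s
  have hres : ∀ p q t, IsLocalRing.residue R (ptC s p q t) = c₀ p q t := fun p q t =>
    (DFunLike.congr_fun hs _).trans (mkPt_C (R := R) c₀ D₀ hc₀ hD₀ p q t)
  let : Algebra R A₀ := Algebra.compHom A₀ (IsLocalRing.residue R)
  have : IsScalarTower R (IsLocalRing.ResidueField R) A₀ := IsScalarTower.of_algebraMap_eq fun r => rfl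
  have hb' : ∀ p q, b p * b q = ∑ t, ptC s p q t • b t := fun p q => by
    rw [hbb]
    exact Finset.sum_congr rfl fun t _ => by
      rw [← hres]; exact IsScalarTower.algebraMap_smul _ _ _
  let ψ := scHom (ptC s) hc b hb hb'
  let eR : Module.Basis (Fin (m + 1)) R (scAlg (ptC s) hc) :=
    (Pi.basisFun R (Fin (m + 1))).map (scEquiv (ptC s) hc)
  have : Module.Free R (scAlg (ptC s) hc) := .of_basis eR
  have : Module.Finite R (scAlg (ptC s) hc) := .of_basis eR
  let Ψ : IsLocalRing.ResidueField R ⊗[R] scAlg (ptC s) hc →ₐ[IsLocalRing.ResidueField R] A₀ :=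
    Algebra.TensorProduct.lift (Algebra.ofId _ _) ψ fun x y => Algebra.commutes x _
  have hΨ : Ψ.toLinearMap =
      ((eR.baseChange (IsLocalRing.ResidueField R)).equiv b (Equiv.refl _)).toLinearMap := by
    refine (eR.baseChange _).ext fun i => ?_
    rw [LinearEquiv.coe_coe, Module.Basis.equiv_apply, AlgHom.toLinearMap_apply,
      Module.Basis.baseChange_apply]
    simp [Ψ, ψ, eR, scHom_single]
  let e : (IsLocalRing.ResidueField R ⊗[R] scAlg (ptC s) hc) ≃ₐ[IsLocalRing.ResidueField R] A₀ :=
    AlgEquiv.ofBijective Ψ (by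
      have : ⇑Ψ = ⇑((eR.baseChange (IsLocalRing.ResidueField R)).equiv b (Equiv.refl _)) :=
        funext fun x => LinearMap.congr_fun hΨ x
      rw [this]; exact LinearEquiv.bijective _)
  have : IsAzumaya (IsLocalRing.ResidueField R) A₀ := CSA.isAzumaya _ _
  have : IsAzumaya (IsLocalRing.ResidueField R) (IsLocalRing.ResidueField R ⊗[R] scAlg (ptC s) hc) :=
    IsAzumaya.of_AlgEquiv _ _ _ e.symm
  refine ⟨scAlg (ptC s) hc, inferInstance, inferInstance, Groth.Azum.bij_of_fibres R _ fun p hp => ?_, ⟨e⟩⟩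
  have hpm : p = IsLocalRing.maximalIdeal R := IsLocalRing.eq_maximalIdeal hp
  let φ : IsLocalRing.ResidueField R →+* p.ResidueField :=
    Ideal.Quotient.lift _ (algebraMap R p.ResidueField) fun a ha =>
      Ideal.algebraMap_residueField_eq_zero.2 (hpm ▸ ha)
  let := φ.toAlgebra
  have : IsScalarTower R (IsLocalRing.ResidueField R) p.ResidueField :=
    IsScalarTower.of_algebraMap_eq fun r => rfl
  have := Groth.Azum.baseChange (IsLocalRing.ResidueField R)
    (IsLocalRing.ResidueField R ⊗[R] scAlg (ptC s) hc) p.ResidueField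
  exact IsAzumaya.of_AlgEquiv (R := p.ResidueField)
    (A := p.ResidueField ⊗[IsLocalRing.ResidueField R] (IsLocalRing.ResidueField R ⊗[R] scAlg (ptC s) hc))
    (B := p.ResidueField ⊗[R] scAlg (ptC s) hc)
    (Groth.Azum.cancelEquiv R (scAlg (ptC s) hc) (IsLocalRing.ResidueField R) p.ResidueField)

end Groth.Agent.S5704
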