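import Groth.Statements.S5705
import Groth.Agent.Misc1.Azumaya.InnerLocal

set_option autoImplicit false
universe u v
open TensorProduct
open Dix

namespace Groth.Agent.S5705

/-- Over a local base, where the Zariski-local conclusion becomes global. Let R be a local ring and A an
Azumaya algebra over R. Then every R-algebra automorphism u of A is inner, u(x) = a x a⁻¹ for some
unit a of A, and the unit a is determined up to multiplication by a unit of R. -/
theorem result (R : Type u) [CommRing R] [IsLocalRing R] (A : Type v) [Ring A] [Algebra R A] [IsAzumaya R A] (u : A ≃ₐ[R] A) : (∃ a : Aˣ, ∀ x : A, u x = (a : A) * x * (a⁻¹ : Aˣ)) ∧ (∀ a a' : Aˣ, (∀ x : A, u x = (a : A) * x * (a⁻¹ : Aˣ)) → (∀ x : A, u x = (a' : A) * x * (a'⁻¹ : Aˣ)) → ∃ c : Rˣ, (a' : A) = algebraMap R A (c : R) * (a : A)) := by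
  refine ⟨Groth.Azum.aut_inner A u, fun a a' ha ha' => ?_⟩
  have : Module.Free R A := Module.free_of_flat_of_isLocalRing
  let z : Aˣ := a⁻¹ * a'
  have hz : ∀ x : A, x * (z : A) = (z : A) * x := fun x => by
    have h := (ha x).symm.trans (ha' x)
    calc x * ((a⁻¹ * a' : Aˣ) : A) = (a⁻¹ : Aˣ) * ((a : A) * x * (a⁻¹ : Aˣ)) * (a' : A) := by
          simp [mul_assoc]
      _ = (a⁻¹ : Aˣ) * ((a' : A) * x * (a'⁻¹ : Aˣ)) * (a' : A) := by rw [h]
      _ = ((a⁻¹ * a' : Aˣ) : A) * x := by simp [mul_assoc]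
  have hmem : ∀ w : A, (∀ x : A, x * w = w * x) → ∃ c : R, algebraMap R A c = w := fun w hw =>
    (Algebra.IsCentral.mem_center_iff R).1 (Subalgebra.mem_center_iff.2 hw) |>.imp fun c hc => hc.symm
  obtain ⟨c, hc⟩ := hmem _ hz
  obtain ⟨c', hc'⟩ := hmem ((z⁻¹ : Aˣ) : A) fun x => by
    calc x * ((z⁻¹ : Aˣ) : A) = (z⁻¹ : Aˣ) * ((z : A) * x) * (z⁻¹ : Aˣ) := by simp [mul_assoc]
      _ = (z⁻¹ : Aˣ) * (x * (z : A)) * (z⁻¹ : Aˣ) := by rw [hz]
      _ = ((z⁻¹ : Aˣ) : A) * x := by simp [mul_assoc]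
  have h1 : c * c' = 1 := FaithfulSMul.algebraMap_injective R A (by rw [map_mul, hc, hc', Units.mul_inv, map_one])
  refine ⟨⟨c, c', h1, by rw [mul_comm]; exact h1⟩, ?_⟩
  change (a' : A) = algebraMap R A c * a
  rw [Algebra.commutes, hc]
  simp [z]

end Groth.Agent.S5705
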