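import Groth.Statements.S5708
import Groth.Agent.EtPbc.GmCurve
-- import your own Groth.Agent.* helpers here

set_option autoImplicit false
set_option backward.isDefEq.respectTransparency.types false
universe u
open CategoryTheory AlgebraicGeometry
open Dix

namespace Groth.Agent.S5708

/-- Let k be an algebraically closed field and X a reduced scheme of finite type over k of dimension at
most 1 (an algebraic curve). Then H²(X_et, G_m) = 0. (The published statement is the vanishing of
the Brauer group of Azumaya algebras, which embeds in H²(X_et, G_m); this row states the vanishing
of H²(X_et, G_m) and assumes X reduced.) -/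
theorem result (k : Type u) [Field k] [IsAlgClosed k] (X : Scheme.{u}) (f : X ⟶ Spec (CommRingCat.of k)) [LocallyOfFiniteType f] [QuasiCompact f] [IsReduced X] (hdim : topologicalKrullDim X ≤ 1) : Subsingleton (Dix.BrCoh X) := by
  exact Groth.FieldPush.subsingleton_H_Gm_curve f hdim 2 le_rfl

end Groth.Agent.S5708
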