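import Groth.Statements.S5713
import Groth.Agent.Misc1.Azumaya.Regular

set_option autoImplicit false
universe u v
open TensorProduct
open Dix

namespace Groth.Agent.S5713

/-- Over a local base. Let R be a local ring with residue field k, A an Azumaya algebra over R of rank
r², and ξ ∈ A an element whose image ξ̄ = 1 ⊗ ξ in k ⊗_R A is regular, i.e. generates a commutative
subalgebra k[ξ̄] which is étale over k (all elements separable) of dimension r. Then the powers 1,
ξ, …, ξ^{r-1} are linearly independent over R and ξ^r lies in their R-linear span; thus R[ξ] is a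
free R-module of rank r closed under multiplication, and ξ is a regular section over all of Spec R. -/
theorem result (R : Type u) [CommRing R] [IsLocalRing R] (A : Type u) [Ring A] [Algebra R A] [IsAzumaya R A] (r : ℕ) (hA : Module.finrank R A = r ^ 2) (ξ : A) (hsep : Algebra.IsSeparable (IsLocalRing.ResidueField R) (Algebra.adjoin (IsLocalRing.ResidueField R) ({(1 : IsLocalRing.ResidueField R) ⊗ₜ[R] ξ} : Set (IsLocalRing.ResidueField R ⊗[R] A)))) (hrk : Module.finrank (IsLocalRing.ResidueField R) (Algebra.adjoin (IsLocalRing.ResidueField R) ({(1 : IsLocalRing.ResidueField R) ⊗ₜ[R] ξ} : Set (IsLocalRing.ResidueField R ⊗[R] A))) = r) : LinearIndependent R (fun i : Fin r => ξ ^ (i : ℕ)) ∧ ξ ^ r ∈ Submodule.span R (Set.range (fun i : Fin r => ξ ^ (i : ℕ))) := by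
  exact Groth.Azum.regular_section R A r hA ξ hsep hrk

end Groth.Agent.S5713
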