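import Groth.Statements.S5730
import Groth.Agent.GrassSub.ProjTwist
import Groth.Agent.RelTwist.ProjBdl
import Groth.Agent.RelTwist.PowTwist
import Groth.Agent.RelTwist.Taut
import Groth.Agent.Ega2Proj.SymGen

set_option autoImplicit false
universe u
open CategoryTheory CategoryTheory.Limits AlgebraicGeometry TopologicalSpace Opposite
open scoped HomogeneousIdeal
open EGA2

namespace Groth.Agent.S5730

theorem isBdl {Y P : Scheme.{u}} {E : Y.Modules} [E.IsQuasicoherent] {𝒮 : RelProj.QCGrAlg Y}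
    {j : E ⟶ 𝒮.toModule} (hj : RelProj.IsGrSymAlg E 𝒮 j) {p : P ⟶ Y}
    {chart : ∀ (U : Y.Opens) (hU : IsAffineOpen U), ((p ⁻¹ᵁ U : P.Opens) : Scheme.{u}) ≅ Proj (𝒮.deg U hU)}
    (hP : RelProj.IsRelProj 𝒮 p chart) :
    ∃ a : (Scheme.Modules.pullback p).obj E ⟶ Groth.RelTw.relTwist hP 1,
      Groth.ProjTwist.IsBdl p E (Groth.RelTw.relTwist hP 1) a := by
  have hO1 := Groth.RelTw.isRelTwist_relTwist hP 1
  obtain ⟨φ, hφ⟩ := Groth.RelTw.exists_phi hj hP hO1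
  refine ⟨_, Groth.RelTw.isInvertible (Groth.RelTw.relLam hP 1) hO1 (Groth.Ega2Proj.isGenDegOne_sym hj),
    Groth.RelTw.epi_adjoint hj hO1 hφ, fun {T} g {L} hL s hs => ?_⟩
  have := hs
  simpa only [Grass.quotBC, Category.assoc] using Groth.RelTw.existsUnique_toProjBdl hj hP hO1 hφ hL s

theorem nonempty_twist_pow {Y P : Scheme.{u}} {𝒮 : RelProj.QCGrAlg Y} {p : P ⟶ Y}
    {chart : ∀ (U : Y.Opens) (hU : IsAffineOpen U), ((p ⁻¹ᵁ U : P.Opens) : Scheme.{u}) ≅ Proj (𝒮.deg U hU)}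
    (hP : RelProj.IsRelProj 𝒮 p chart) (hgen : 𝒮.IsGenDegOne) (n : ℕ) {OP : P.Modules}
    {lam : ∀ (U : Y.Opens) (hU : IsAffineOpen U),
      OP ⟶ (Scheme.Modules.pushforward (RelProj.emb p chart U hU)).obj (GrTwist.twist (𝒮.deg U hU) (n : ℤ))}
    (hOP : RelProj.IsRelTwist 𝒮 p chart (n : ℤ) OP lam) :
    Nonempty (CohB1.tensorPow (Groth.RelTw.relTwist hP 1) n ≅ OP) := by
  obtain ⟨e'⟩ := Groth.RelTw.nonempty_twist_iso hP hgen (Groth.RelTw.isRelTwist_relTwist hP (n : ℤ)) hOP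
  cases n with
  | zero =>
    obtain ⟨z⟩ := Groth.RelTw.nonempty_relTwist_zero hP hgen
    exact ⟨z.symm ≪≫ e'⟩
  | succ k =>
    obtain ⟨e⟩ := Groth.RelTw.nonempty_tensorPow_relTwist hP hgen k
    exact ⟨e ≪≫ e'⟩

/-- Let E be a quasi-coherent O_Y-module and L an invertible O_Y-module, 𝒮 (with j : E → 𝒮) the graded
symmetric algebra of E and 𝒯 (with k : E ⊗ L → 𝒯) that of E ⊗ L, and let p : P → Y, q : Q → Y be the
projective bundles P(E) = Proj(𝒮) and P(E ⊗ L) = Proj(𝒯) with their charts over affine opens. Then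
there is an isomorphism i : P ≅ Q over Y such that, for every n ≥ 0 and all twisting sheaves O_P(n)
and O_Q(n) (modules given with their chart identifications), i^*O_Q(n) is isomorphic to O_P(n) ⊗
p^*(L^{⊗n}). (Existence of the isomorphisms only: the published statement names a canonical i and
canonical identifications, and states the twist relation for every integer n; this row asserts
existence and the relation for n ≥ 0.) -/
theorem result {Y P Q : Scheme.{u}} (E : Y.Modules) (hE : Coh.IsQCoh E)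
    (L : Y.Modules) (hL : PicF.IsInvertible L)
    (𝒮 : RelProj.QCGrAlg Y) (j : E ⟶ 𝒮.toModule) (hj : RelProj.IsGrSymAlg E 𝒮 j)
    (𝒯 : RelProj.QCGrAlg Y) (k : CohB1.tensorMod E L ⟶ 𝒯.toModule) (hk : RelProj.IsGrSymAlg (CohB1.tensorMod E L) 𝒯 k)
    (p : P ⟶ Y)
    (chart : ∀ (U : Y.Opens) (hU : IsAffineOpen U), ((p ⁻¹ᵁ U : P.Opens) : Scheme.{u}) ≅ Proj (𝒮.deg U hU))
    (hP : RelProj.IsRelProj 𝒮 p chart) (q : Q ⟶ Y)
    (chartQ : ∀ (U : Y.Opens) (hU : IsAffineOpen U), ((q ⁻¹ᵁ U : Q.Opens) : Scheme.{u}) ≅ Proj (𝒯.deg U hU))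
    (hQ : RelProj.IsRelProj 𝒯 q chartQ) :
    ∃ i : P ≅ Q, i.hom ≫ q = p ∧
      ∀ (n : ℕ) (OP : P.Modules)
        (lamP : ∀ (U : Y.Opens) (hU : IsAffineOpen U),
          OP ⟶ (Scheme.Modules.pushforward (RelProj.emb p chart U hU)).obj (GrTwist.twist (𝒮.deg U hU) (n : ℤ)))
        (OQ : Q.Modules)
        (lamQ : ∀ (U : Y.Opens) (hU : IsAffineOpen U),
          OQ ⟶ (Scheme.Modules.pushforward (RelProj.emb q chartQ U hU)).obj (GrTwist.twist (𝒯.deg U hU) (n : ℤ))),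
        RelProj.IsRelTwist 𝒮 p chart (n : ℤ) OP lamP → RelProj.IsRelTwist 𝒯 q chartQ (n : ℤ) OQ lamQ →
          Nonempty ((Scheme.Modules.pullback i.hom).obj OQ ≅
            CohB1.tensorMod OP ((Scheme.Modules.pullback p).obj (CohB1.tensorPow L n))) := by
  have : E.IsQuasicoherent := hE
  have := Groth.PicAux.isQCoh_of_isInvertible hL
  have : (CohB1.tensorMod E L).IsQuasicoherent := Groth.QCohMod.isQCoh_tensorMod
  obtain ⟨a, ha⟩ := isBdl hj hP
  obtain ⟨b, hb⟩ := isBdl hk hQ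
  obtain ⟨i, hi, ⟨τ⟩⟩ := Groth.ProjTwist.exists_iso_twist hL ha hb
  refine ⟨i, hi, fun n OP lamP OQ lamQ hOP hOQ => ?_⟩
  obtain ⟨eP⟩ := nonempty_twist_pow hP (Groth.Ega2Proj.isGenDegOne_sym hj) n hOP
  obtain ⟨eQ⟩ := nonempty_twist_pow hQ (Groth.Ega2Proj.isGenDegOne_sym hk) n hOQ
  obtain ⟨e₁⟩ := Groth.PicAux.pullback_tensorPow i.hom (Groth.RelTw.relTwist hQ 1) n
  obtain ⟨e₂⟩ := Groth.PicAux.nonempty_tensorPow_iso τ n
  obtain ⟨e₃⟩ := Groth.PicAux.tensorPow_tensorMod (Groth.RelTw.relTwist hP 1)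
    ((Scheme.Modules.pullback p).obj L) n
  obtain ⟨e₄⟩ := Groth.PicAux.pullback_tensorPow p L n
  exact ⟨(Scheme.Modules.pullback i.hom).mapIso eQ.symm ≪≫ e₁ ≪≫ e₂ ≪≫ e₃ ≪≫
    PicGrp.tensorModIso eP e₄.symm⟩

end Groth.Agent.S5730
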