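import Groth.Statements.S5734
import Groth.Agent.Ega2Proj2.RelProjMap
import Groth.Agent.Ega2Proj2.ProjMaps
import Groth.Agent.SymAlg.Degree
import Groth.Agent.QCohMod.Category
import Mathlib.AlgebraicGeometry.Limits

set_option autoImplicit false
universe u
open CategoryTheory CategoryTheory.Limits AlgebraicGeometry TopologicalSpace Opposite
open scoped HomogeneousIdeal
open EGA2

namespace Groth.Agent.S5734

theorem isClosedImmersion_coprodDesc_of_disjoint {X X' Y : Scheme.{u}} (f : X ⟶ Y) (f' : X' ⟶ Y)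
    [IsClosedImmersion f] [IsClosedImmersion f'] (h : Disjoint (Set.range f.base) (Set.range f'.base)) :
    IsClosedImmersion (coprod.desc f f') := by
  set d := coprod.desc f f'
  have el : ∀ a, d.base ((coprod.inl : X ⟶ X ⨿ X').base a) = f.base a := fun a =>
    congr($(coprod.inl_desc f f').base a)
  have er : ∀ a, d.base ((coprod.inr : X' ⟶ X ⨿ X').base a) = f'.base a := fun a =>
    congr($(coprod.inr_desc f f').base a)
  have hcases : ∀ z : ↥(X ⨿ X'), (∃ a, (coprod.inl : X ⟶ X ⨿ X').base a = z) ∨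
      ∃ a, (coprod.inr : X' ⟶ X ⨿ X').base a = z := fun z =>
    ((isCompl_range_inl_inr X X').sup_eq_top.ge (Set.mem_univ z))
  have hinj : Function.Injective d.base := by
    intro z w hzw
    rcases hcases z with ⟨a, rfl⟩ | ⟨a, rfl⟩ <;> rcases hcases w with ⟨b, rfl⟩ | ⟨b, rfl⟩ <;>
      simp only [el, er] at hzw
    · exact congrArg _ (f.isClosedEmbedding.injective hzw)
    · exact (Set.disjoint_left.mp h ⟨a, rfl⟩ ⟨b, hzw.symm⟩).elim
    · exact (Set.disjoint_left.mp h ⟨b, rfl⟩ ⟨a, hzw⟩).elim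
    · exact congrArg _ (f'.isClosedEmbedding.injective hzw)
  have hclosed : IsClosedMap d.base := by
    intro K hK
    have e : d.base '' K = f.base '' ((coprod.inl : X ⟶ X ⨿ X').base ⁻¹' K) ∪
        f'.base '' ((coprod.inr : X' ⟶ X ⨿ X').base ⁻¹' K) := by
      ext y
      constructor
      · rintro ⟨z, hz, rfl⟩
        rcases hcases z with ⟨a, rfl⟩ | ⟨a, rfl⟩
        · exact Or.inl ⟨a, hz, (el a).symm⟩
        · exact Or.inr ⟨a, hz, (er a).symm⟩
      · rintro (⟨a, ha, rfl⟩ | ⟨a, ha, rfl⟩)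
        · exact ⟨_, ha, el a⟩
        · exact ⟨_, ha, er a⟩
    rw [e]
    exact (f.isClosedEmbedding.isClosedMap _ (hK.preimage (coprod.inl : X ⟶ X ⨿ X').continuous)).union
      (f'.isClosedEmbedding.isClosedMap _ (hK.preimage (coprod.inr : X' ⟶ X ⨿ X').continuous))
  have hsurj : SurjectiveOnStalks d := by
    refine ⟨fun z => ?_⟩
    rcases hcases z with ⟨a, rfl⟩ | ⟨a, rfl⟩
    · have hc : Function.Surjective ((coprod.inl ≫ d).stalkMap a) := by
        rw [coprod.inl_desc]; exact Scheme.Hom.stalkMap_surjective f a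
      rw [Scheme.Hom.stalkMap_comp] at hc
      intro x
      obtain ⟨y, hy⟩ := hc (((coprod.inl : X ⟶ X ⨿ X').stalkMap a) x)
      exact ⟨y, (ConcreteCategory.bijective_of_isIso ((coprod.inl : X ⟶ X ⨿ X').stalkMap a)).1 hy⟩
    · have hc : Function.Surjective ((coprod.inr ≫ d).stalkMap a) := by
        rw [coprod.inr_desc]; exact Scheme.Hom.stalkMap_surjective f' a
      rw [Scheme.Hom.stalkMap_comp] at hc
      intro x
      obtain ⟨y, hy⟩ := hc (((coprod.inr : X' ⟶ X ⨿ X').stalkMap a) x)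
      exact ⟨y, (ConcreteCategory.bijective_of_isIso ((coprod.inr : X' ⟶ X ⨿ X').stalkMap a)).1 hy⟩
  exact ⟨.of_continuous_injective_isClosedMap d.continuous hinj hclosed⟩

/-- Let E and F be quasi-coherent O_Y-modules with graded symmetric algebras 𝒮E, 𝒮F and let 𝒮 be the
graded symmetric algebra of E ⊕ F; let πE : 𝒮 → 𝒮E and πF : 𝒮 → 𝒮F be the graded algebra
homomorphisms induced by the two projections of E ⊕ F (compatible with the structure maps from E ⊕
F, E and F), the irrelevant ideal of the target being generated by the image of that of the source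
over every affine open (so that the induced morphisms of homogeneous spectra are everywhere
defined). Let P(E ⊕ F), P(E), P(F) be the projective bundles with their charts and hE : P(E) → P(E ⊕
F), hF : P(F) → P(E ⊕ F) the morphisms chartwise induced by πE and πF. Then the morphism P(E) ⨿ P(F)
→ P(E ⊕ F) which restricts to hE and hF is a closed immersion: the disjoint union of P(E) and P(F)
is a closed subscheme of P(E ⊕ F). -/
theorem result {Y PE PF P : Scheme.{u}} (E F : Y.Modules)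
    (hE : Coh.IsQCoh E) (hF : Coh.IsQCoh F) (𝒮E 𝒮F 𝒮 : RelProj.QCGrAlg Y)
    (jE : E ⟶ 𝒮E.toModule) (hjE : RelProj.IsGrSymAlg E 𝒮E jE)
    (jF : F ⟶ 𝒮F.toModule) (hjF : RelProj.IsGrSymAlg F 𝒮F jF)
    (j : E ⊞ F ⟶ 𝒮.toModule) (hj : RelProj.IsGrSymAlg (E ⊞ F) 𝒮 j)
    (πE : 𝒮.toQCAlg ⟶ 𝒮E.toQCAlg) (hπE : RelProj.IsGradedHom πE)
    (hjπE : j ≫ RelSpec.QCAlg.Hom.toModuleMap πE = biprod.fst ≫ jE)
    (πF : 𝒮.toQCAlg ⟶ 𝒮F.toQCAlg) (hπF : RelProj.IsGradedHom πF)
    (hjπF : j ≫ RelSpec.QCAlg.Hom.toModuleMap πF = biprod.snd ≫ jF)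
    (hirrE : ∀ (U : Y.Opens) (hU : IsAffineOpen U),
      (𝒮E.deg U hU)₊ ≤ ((𝒮.deg U hU)₊).map (RelProj.gradedHomAt πE hπE U hU))
    (hirrF : ∀ (U : Y.Opens) (hU : IsAffineOpen U),
      (𝒮F.deg U hU)₊ ≤ ((𝒮.deg U hU)₊).map (RelProj.gradedHomAt πF hπF U hU))
    (p : P ⟶ Y) (pE : PE ⟶ Y) (pF : PF ⟶ Y)
    (chart : ∀ (U : Y.Opens) (hU : IsAffineOpen U), ((p ⁻¹ᵁ U : P.Opens) : Scheme.{u}) ≅ Proj (𝒮.deg U hU))
    (chartE : ∀ (U : Y.Opens) (hU : IsAffineOpen U), ((pE ⁻¹ᵁ U : PE.Opens) : Scheme.{u}) ≅ Proj (𝒮E.deg U hU))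
    (chartF : ∀ (U : Y.Opens) (hU : IsAffineOpen U), ((pF ⁻¹ᵁ U : PF.Opens) : Scheme.{u}) ≅ Proj (𝒮F.deg U hU))
    (hP : RelProj.IsRelProj 𝒮 p chart) (hPE : RelProj.IsRelProj 𝒮E pE chartE) (hPF : RelProj.IsRelProj 𝒮F pF chartF)
    (hE' : PE ⟶ P) (hhE : RelProj.IsRelProjMap πE hπE hirrE chart chartE hE')
    (hF' : PF ⟶ P) (hhF : RelProj.IsRelProjMap πF hπF hirrF chart chartF hF') :
    IsClosedImmersion (coprod.desc hE' hF') := by
  haveI : E.IsQuasicoherent := hE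
  haveI : F.IsQuasicoherent := hF
  haveI : (E ⊞ F).IsQuasicoherent := Groth.QCohMod.isQCoh_biprod E F
  have cl : ∀ {G : Y.Modules} [G.IsQuasicoherent] {𝒢 : RelProj.QCGrAlg Y} {jG : G ⟶ 𝒢.toModule}
      (hjG : RelProj.IsGrSymAlg G 𝒢 jG) (π : 𝒮.toQCAlg ⟶ 𝒢.toQCAlg) (hπ : RelProj.IsGradedHom π)
      (s : G ⟶ E ⊞ F) (hs : s ≫ j ≫ RelSpec.QCAlg.Hom.toModuleMap π = jG)
      (U : Y.Opens) (hU : IsAffineOpen U), Function.Surjective (π.hom.app (op U)).hom := by
    intro G _ 𝒢 jG hjG π hπ s hs U hU y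
    obtain ⟨q, rfl⟩ := (Groth.SymAlg.bijective_liftSec hjG.1 hU).2 y
    change _ ∈ (π.hom.app (op U)).hom.range
    induction q using SymmetricAlgebra.induction with
    | algebraMap r =>
      refine ⟨Groth.QCohMod.bstr 𝒮.toQCAlg U r, ?_⟩
      rw [Groth.SymAlg.hom_app_str, Groth.SymAlg.liftSec_algebraMap]
    | ι e =>
      refine ⟨Groth.QCohMod.toB 𝒮.toQCAlg (j.app U (s.app U e)), ?_⟩
      rw [Groth.SymAlg.liftSec_ι]
      exact congr(($hs).app U e)
    | mul p q hp hq => rw [map_mul]; exact mul_mem hp hq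
    | add p q hp hq => rw [map_add]; exact add_mem hp hq
  have hsE : biprod.inl ≫ j ≫ RelSpec.QCAlg.Hom.toModuleMap πE = jE := by
    rw [hjπE, biprod.inl_fst_assoc]
  have hsF : biprod.inr ≫ j ≫ RelSpec.QCAlg.Hom.toModuleMap πF = jF := by
    rw [hjπF, biprod.inr_snd_assoc]
  haveI : IsClosedImmersion hE' := Groth.Ega2P2.relProjMap_of_charts πE hπE hirrE hP hPE hE' hhE
    @IsClosedImmersion fun U hU => Groth.Ega2P2.isClosedImmersion_projMap _ (hirrE U hU)
      (Groth.Ega2P2.eventually_surj_of_surjective _ (cl hjE πE hπE _ hsE U hU))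
  haveI : IsClosedImmersion hF' := Groth.Ega2P2.relProjMap_of_charts πF hπF hirrF hP hPF hF' hhF
    @IsClosedImmersion fun U hU => Groth.Ega2P2.isClosedImmersion_projMap _ (hirrF U hU)
      (Groth.Ega2P2.eventually_surj_of_surjective _ (cl hjF πF hπF _ hsF U hU))
  refine isClosedImmersion_coprodDesc_of_disjoint hE' hF' (Set.disjoint_left.mpr ?_)
  rintro _ ⟨a, rfl⟩ ⟨b, hb⟩
  obtain ⟨U, hU, a₀, rfl⟩ : ∃ (U : Y.Opens) (hU : IsAffineOpen U) (a₀ : Proj (𝒮E.deg U hU)),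
      (RelProj.emb pE chartE U hU).base a₀ = a := (Groth.Ega2P2.projCharts hPE).exists_eq a
  have hbU : pF.base b ∈ U := by
    have e1 : p.base (hF'.base b) = pF.base b :=
      congr($(Groth.Ega2P2.relProjMap_comp_p πF hπF hirrF hP hPF hF' hhF).base b)
    have e2 : p.base (hE'.base ((RelProj.emb pE chartE U hU).base a₀)) =
        pE.base ((RelProj.emb pE chartE U hU).base a₀) :=
      congr($(Groth.Ega2P2.relProjMap_comp_p πE hπE hirrE hP hPE hE' hhE).base _)
    rw [← e1, hb, e2]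
    exact (Groth.Ega2P2.projCharts hPE).map_mem hU a₀
  obtain ⟨b₀, rfl⟩ : ∃ b₀, (RelProj.emb pF chartF U hU).base b₀ = b :=
    (Groth.Ega2P2.projCharts hPF).mem_range hU hbU
  have ea : hE'.base ((RelProj.emb pE chartE U hU).base a₀) = (RelProj.emb p chart U hU).base
      ((Proj.map (RelProj.gradedHomAt πE hπE U hU) (hirrE U hU)).base a₀) :=
    congr($((Groth.Ega2P2.isRelProjMap_iff πE hπE hirrE hE').mp hhE U hU).base a₀)
  have eb : hF'.base ((RelProj.emb pF chartF U hU).base b₀) = (RelProj.emb p chart U hU).base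
      ((Proj.map (RelProj.gradedHomAt πF hπF U hU) (hirrF U hU)).base b₀) :=
    congr($((Groth.Ega2P2.isRelProjMap_iff πF hπF hirrF hF').mp hhF U hU).base b₀)
  have hy := (RelProj.emb p chart U hU).isOpenEmbedding.injective (eb.symm.trans (hb.trans ea))
  obtain ⟨e, he⟩ := Groth.SymAlg.exists_notMem hj hU
    ((Proj.map (RelProj.gradedHomAt πE hπE U hU) (hirrE U hU)).base a₀)
  have hdec : e = (biprod.inl : E ⟶ E ⊞ F).app U ((biprod.fst : E ⊞ F ⟶ E).app U e) +
      (biprod.inr : F ⟶ E ⊞ F).app U ((biprod.snd : E ⊞ F ⟶ F).app U e) :=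
    (congr(($(biprod.total (X := E) (Y := F))).app U e)).symm
  refine he ?_
  have hr : Groth.QCohMod.toB 𝒮.toQCAlg
      (j.app U ((biprod.inr : F ⟶ E ⊞ F).app U ((biprod.snd : E ⊞ F ⟶ F).app U e))) ∈
      ((Proj.map (RelProj.gradedHomAt πE hπE U hU) (hirrE U hU)).base a₀).asHomogeneousIdeal := by
    change (πE.hom.app (op U)).hom _ ∈ a₀.asHomogeneousIdeal
    have h0 : biprod.inr ≫ j ≫ RelSpec.QCAlg.Hom.toModuleMap πE = 0 := by
      rw [hjπE, biprod.inr_fst_assoc, zero_comp]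
    have h1 : (πE.hom.app (op U)).hom (Groth.QCohMod.toB 𝒮.toQCAlg
      (j.app U ((biprod.inr : F ⟶ E ⊞ F).app U ((biprod.snd : E ⊞ F ⟶ F).app U e)))) = 0 :=
      congr(($h0).app U _)
    rw [h1]
    exact zero_mem _
  have hl : Groth.QCohMod.toB 𝒮.toQCAlg
      (j.app U ((biprod.inl : E ⟶ E ⊞ F).app U ((biprod.fst : E ⊞ F ⟶ E).app U e))) ∈
      ((Proj.map (RelProj.gradedHomAt πE hπE U hU) (hirrE U hU)).base a₀).asHomogeneousIdeal := by
    rw [← hy]
    change (πF.hom.app (op U)).hom _ ∈ b₀.asHomogeneousIdeal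
    have h0 : biprod.inl ≫ j ≫ RelSpec.QCAlg.Hom.toModuleMap πF = 0 := by
      rw [hjπF, biprod.inl_snd_assoc, zero_comp]
    have h1 : (πF.hom.app (op U)).hom (Groth.QCohMod.toB 𝒮.toQCAlg
      (j.app U ((biprod.inl : E ⟶ E ⊞ F).app U ((biprod.fst : E ⊞ F ⟶ E).app U e)))) = 0 :=
      congr(($h0).app U _)
    rw [h1]
    exact zero_mem _
  rw [hdec, map_add]
  exact add_mem hl hr

end Groth.Agent.S5734
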