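import Groth.Statements.S5735
import Groth.Agent.HensPair.SteinRadicial
import Groth.Agent.CohFin.ProjFinite
-- import your own Groth.Agent.* helpers here

set_option autoImplicit false
universe u
open Coherent

namespace Groth.Agent.S5735

open AlgebraicGeometry CategoryTheory CategoryTheory.Limits in
/-- Let X and Y be locally Noetherian integral schemes and f : X → Y a proper dominant morphism which is
universally open in the following sense: for every irreducible locally Noetherian scheme Y' and
every dominant morphism g : Y' → Y, each irreducible component of X ×_Y Y' has dense image in Y'
under the second projection. Suppose that the algebraic closure of the function field R(Y) in R(X)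
is purely inseparable over R(Y): every element of R(X) satisfying a nonzero polynomial over R(Y) has
some p^e-th power coming from R(Y), p being the characteristic exponent. Then for every point y of Y
the fibre X_y is geometrically connected over the residue field k(y) (its base change to any field
extension is connected and nonempty). -/
theorem result {X Y : Scheme.{u}}
    [IsIntegral X] [IsIntegral Y] [IsLocallyNoetherian X] [IsLocallyNoetherian Y] (f : X ⟶ Y) [IsProper f]
    (hdom : f.base (genericPoint X) ⤳ genericPoint Y)
    (hopen : ∀ (Y' : Scheme.{u}) (g : Y' ⟶ Y), IrreducibleSpace ↥Y' → IsLocallyNoetherian Y' →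
      IsDominant g → ∀ Z ∈ irreducibleComponents ↥(pullback f g), Dense ((pullback.snd f g).base '' Z))
    (hrad : ∀ x : X.functionField,
      (∃ q : Polynomial Y.functionField, q ≠ 0 ∧
        Polynomial.eval₂ (CohIII.stalkToFunctionField f (genericPoint Y) hdom) x q = 0) →
      ∃ e : ℕ, x ^ (ringExpChar X.functionField ^ e) ∈
        Set.range (CohIII.stalkToFunctionField f (genericPoint Y) hdom))
    (y : Y) : GeometricallyConnected (f.fiberToSpecResidueField y) := by
  have := Groth.HensPair.geometricallyConnected_of_univOpen f Groth.CohFin.projFinite hdom hopen hrad
  infer_instance

end Groth.Agent.S5735
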