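import Groth.Statements.S5736
import Groth.Agent.AdicLinTop.SysExamples
import Groth.Agent.FlatMor2.NilBaseChange
import Groth.Agent.Flatmor4.ThickFT

set_option autoImplicit false
universe u
open FCompl

namespace Groth.Agent.S5736

open AlgebraicGeometry CategoryTheory in
/-- For formal schemes presented as adic systems of thickenings, in which a finite morphism is an adic
one whose smallest level is finite; the content is that every level is then finite. Let (Y_n) be a
locally Noetherian adic formal system and f : (X_n) → (Y_n) a morphism of systems all of whose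
squares X_n → X_(n+1), Y_n → Y_(n+1) are cartesian. If X_0 → Y_0 is a finite morphism of schemes,
then X_n → Y_n is finite for every n. -/
theorem result {𝔛 𝔜 : FSch.Sys.{u}} (f : 𝔛 ⟶ 𝔜)
    (h𝔜 : 𝔜.IsLocNoethFormal) (hf : FSch.IsAdicHom f) [IsFinite ((f : FSch.Hom 𝔛 𝔜).app 0)] (n : ℕ) :
    IsFinite ((f : FSch.Hom 𝔛 𝔜).app n) := by
  obtain ⟨hFY, hAY, hNY⟩ := h𝔜
  have hFX := Groth.AdicLinTop.Thickenings.isFormal_of_isAdicHom hf hFY
  have hAX := Groth.AdicLinTop.Thickenings.isAdic_of_isAdicHom hf hFY hAY
  induction n with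
  | zero => infer_instance
  | succ n ih =>
    haveI := ih
    refine Groth.Flatmor4.isFinite_of_thickening _ _ (𝔛.ι n) (𝔜.ι n) ⟨(hFX n).1, ⟨(hFX n).2⟩⟩
      ⟨(hFY n).1, ⟨(hFY n).2⟩⟩ (fun U => ⟨2, ?_⟩) (fun U => ?_) (hf n).flip
    · rw [pow_two]
      exact congrArg (fun I : (𝔛.X (n + 1)).IdealSheafData => I.ideal U)
        (Groth.AdicLinTop.Thickenings.ker_ι_mul_self hFX hAX n)
    · haveI := hNY (n + 1)
      haveI := IsLocallyNoetherian.component_noetherian U
      exact IsNoetherian.noetherian _

end Groth.Agent.S5736
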