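import Groth.Statements.S5738
import Groth.Agent.AdicLinTop.SysExamples
import Groth.Agent.FlatMor2.NilBaseChange
import Groth.Agent.Flatmor4.ThickFT

set_option autoImplicit false
universe u
open FCompl

namespace Groth.Agent.S5738

open AlgebraicGeometry CategoryTheory in
/-- For formal schemes presented as adic systems of thickenings: a proper morphism of locally Noetherian
formal schemes is an adic one whose smallest level is proper, and the content is that every level is
then proper. Let (X_n) and (S_n) be locally Noetherian adic formal systems and f : (X_n) → (S_n) a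
morphism of systems all of whose squares X_n → X_(n+1), S_n → S_(n+1) are cartesian. If X_0 → S_0 is
proper, then X_n → S_n is proper for every n. -/
theorem result {𝔛 𝔖 : FSch.Sys.{u}} (f : 𝔛 ⟶ 𝔖)
    (h𝔛 : 𝔛.IsLocNoethFormal) (h𝔖 : 𝔖.IsLocNoethFormal) (hf : FSch.IsAdicHom f)
    [IsProper ((f : FSch.Hom 𝔛 𝔖).app 0)] (n : ℕ) :
    IsProper ((f : FSch.Hom 𝔛 𝔖).app n) := by
  obtain ⟨hFY, hAY, hNY⟩ := h𝔖
  induction n with
  | zero => infer_instance
  | succ n ih =>
    haveI := ih
    haveI := (h𝔛.1 n).1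
    haveI : Surjective (𝔛.ι n) := ⟨(h𝔛.1 n).2⟩
    haveI := (hFY n).1
    have hth : MoreMor.IsThickening (𝔖.ι n) := ⟨(hFY n).1, ⟨(hFY n).2⟩⟩
    have hfo : MoreMor.IsFiniteOrderThickening (𝔖.ι n) :=
      ⟨hth, ⟨2, (pow_two _).trans (Groth.AdicLinTop.Thickenings.ker_ι_mul_self hFY hAY n)⟩⟩
    haveI : LocallyOfFiniteType ((f : FSch.Hom 𝔛 𝔖).app (n + 1)) :=
      (Groth.FlatMor2.locallyOfFiniteType_iff_of_finiteOrder hfo (hf n)).mp inferInstance
    haveI := Groth.Flatmor4.isSeparated_of_thickening _ _ (𝔛.ι n) (𝔖.ι n) ((f : FSch.Hom 𝔛 𝔖).comm n)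
    haveI : UniversallyClosed (𝔛.ι n ≫ (f : FSch.Hom 𝔛 𝔖).app (n + 1)) := by
      rw [← (f : FSch.Hom 𝔛 𝔖).comm n]; infer_instance
    haveI := UniversallyClosed.of_comp_surjective (𝔛.ι n) ((f : FSch.Hom 𝔛 𝔖).app (n + 1))
    exact {}

end Groth.Agent.S5738
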