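import Groth.Statements.S5739
import Groth.Agent.AdicLinTop.ProperNear

set_option autoImplicit false
universe u
open FCompl AlgebraicGeometry CategoryTheory

namespace Groth.Agent.S5739

open AlgebraicGeometry CategoryTheory in
/-- Isomorphism case (completions presented by the closed subschemes of the powers of an ideal sheaf on
the base and of its inverse image ideals; the compatibility hypothesis hc always holds and is
carried as data for the completed morphism). Let Z be a locally Noetherian scheme, g : X → Z and h :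
Y → Z proper morphisms, f : X → Y a morphism with f ≫ h = g, and 𝓙 an ideal sheaf on Z. Then every
level of the completed morphism X̂ → Ŷ between the completions along the inverse image ideals of 𝓙
is an isomorphism if and only if there is an open subset U of Z containing the support of 𝓙 such
that the restriction g⁻¹(U) → h⁻¹(U) of f is an isomorphism. -/
theorem result {X Y Z : Scheme.{u}} [IsLocallyNoetherian Z]
    (g : X ⟶ Z) (h : Y ⟶ Z) [IsProper g] [IsProper h] (f : X ⟶ Y) (w : f ≫ h = g)
    (𝓙 : Z.IdealSheafData) (hc : FSch.PowCompat f (𝓙.comap g) (𝓙.comap h)) :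
    (∀ n : ℕ, IsIso ((FSch.completionMap f (𝓙.comap g) (𝓙.comap h) hc : FSch.Hom _ _).app n)) ↔
      ∃ U : Z.Opens, (𝓙.support : Set Z) ⊆ U ∧ IsIso (f ∣_ h ⁻¹ᵁ U) := by
  have hp : IsProper f := by
    have : IsProper (f ≫ h) := by rw [w]; infer_instance
    exact IsProper.of_comp f h
  have hcomap : (𝓙.comap h).comap f = 𝓙.comap g := by rw [← Scheme.IdealSheafData.comap_comp, w]
  have e : ∀ n : ℕ, ((𝓙.comap h) ^ (n + 1)).comap f = (𝓙.comap g) ^ (n + 1) := fun n => by
    rw [Groth.Divisors.comap_pow, hcomap]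
  have hsq := fun n => Groth.AdicLinTop.ProperNear.isPullback_subschemeMap f _ _ (e n)
  have hsupp : ((𝓙.comap h).support : Set Y) = h ⁻¹' (𝓙.support : Set Z) := by
    rw [Scheme.IdealSheafData.support_comap]; rfl
  constructor
  · intro hlev
    have h1 : IsClosedImmersion (CategoryTheory.Limits.pullback.snd f ((𝓙.comap h) ^ (0 + 1)).subschemeι) := by
      rw [← (hsq 0).isoPullback_inv_snd, MorphismProperty.cancel_left_of_respectsIso @IsClosedImmersion]
      have := hlev 0
      exact (inferInstance : IsClosedImmersion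
        ((FSch.completionMap f (𝓙.comap g) (𝓙.comap h) hc : FSch.Hom _ _).app 0))
    obtain ⟨W₀, hW₀, hWc₀⟩ := Groth.AdicLinTop.ProperNear.exists_isClosedImmersion_restrict f _ h1
    rw [Scheme.IdealSheafData.support_pow_succ] at hW₀
    have hker : ∀ n : ℕ, f.ker ≤ (𝓙.comap h) ^ (n + 1) := fun n => by
      have := hlev n
      let φ := (FSch.completionMap f (𝓙.comap g) (𝓙.comap h) hc : FSch.Hom _ _).app n
      have hfac : (inv φ ≫ ((𝓙.comap g) ^ (n + 1)).subschemeι) ≫ f =
          ((𝓙.comap h) ^ (n + 1)).subschemeι := by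
        rw [Category.assoc, IsIso.inv_comp_eq]
        exact (Scheme.IdealSheafData.subschemeMap_subschemeι _ _ _
          (Scheme.IdealSheafData.le_map_iff_comap_le.mpr (hc n))).symm
      rw [← ((𝓙.comap h) ^ (n + 1)).ker_subschemeι, ← hfac]
      exact Scheme.Hom.le_ker_comp _ _
    have : IsLocallyNoetherian Y := LocallyOfFiniteType.isLocallyNoetherian h
    obtain ⟨W, hW, hWc⟩ :=
      Groth.AdicLinTop.ProperNear.exists_isIso_restrict f _ W₀ hW₀ hWc₀ hker
    show ∃ U : Z.Opens, (𝓙.support : Set Z) ⊆ U ∧ (MorphismProperty.isomorphisms Scheme) (f ∣_ h ⁻¹ᵁ U)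
    refine ⟨⟨(h '' (W : Set Y)ᶜ)ᶜ, (h.isClosedMap _ W.2.isClosed_compl).isOpen_compl⟩,
      fun z hz ⟨y, hy, hyz⟩ => hy (hW (hsupp.ge (show h y ∈ (𝓙.support : Set Z) by rw [hyz]; exact hz))), ?_⟩
    generalize hU : (⟨(h '' (W : Set Y)ᶜ)ᶜ, _⟩ : Z.Opens) = U
    have hle : h ⁻¹ᵁ U ≤ W := by
      subst hU
      exact fun y hy => by_contra fun hyW => hy ⟨y, hyW, rfl⟩
    rw [Groth.FlatmorThree.FibreCI.snd_ι_iff (MorphismProperty.isomorphisms Scheme)]
    exact Groth.FlatmorThree.FibreCI.snd_of_factor (MorphismProperty.isomorphisms Scheme) f W.ι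
      (Y.homOfLE hle) (h ⁻¹ᵁ U).ι (Scheme.homOfLE_ι _ _)
      ((Groth.FlatmorThree.FibreCI.snd_ι_iff (MorphismProperty.isomorphisms Scheme) f W).1 hWc)
  · rintro ⟨U, hU, hUc⟩ n
    exact Groth.AdicLinTop.ProperNear.subschemeMap_of_near f (MorphismProperty.isomorphisms Scheme) (h ⁻¹ᵁ U) hUc _
      (by rw [Scheme.IdealSheafData.support_pow_succ, hsupp]; exact Set.preimage_mono hU) _ (e n)

end Groth.Agent.S5739
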