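import Groth.Statements.S5742
import Groth.Agent.GrpschAbsch.RigidityBase

set_option autoImplicit false
universe u
open Coherent

namespace Groth.Agent.S5742

open AlgebraicGeometry CategoryTheory CategoryTheory.Limits Groth.GrpschAbsch.Rigid in
/-- Let A be a Noetherian ring separated and complete for the I-adic topology, X proper over Spec A and
Y locally of finite type over Spec A; write X_n = X ×_A Spec(A/I^(n+1)). Two A-morphisms φ, ψ : X →
Y whose restrictions to X_n coincide for every n are equal. (The published statement takes Y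
separated and of finite type over A, which the surjectivity half needs; injectivity uses neither
separatedness nor quasi-compactness of Y. Together with the existence of an A-morphism inducing any
compatible system of morphisms X_n → Y_n, this is the bijectivity of f ↦ f̂ from A-morphisms X → Y
to morphisms of the completions.) -/
theorem result (A : Type u) [CommRing A] [IsNoetherianRing A]
    (I : Ideal A) [IsAdicComplete I A] {X Y : Scheme.{u}} (f : X ⟶ Spec (CommRingCat.of A))
    (h : Y ⟶ Spec (CommRingCat.of A)) [IsProper f] [LocallyOfFiniteType h] (φ ψ : X ⟶ Y)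
    (hφ : φ ≫ h = f) (hψ : ψ ≫ h = f)
    (e : ∀ n : ℕ, CohB1.thickι f I n ≫ φ = CohB1.thickι f I n ≫ ψ) : φ = ψ := by
  have : IsLocallyNoetherian X := LocallyOfFiniteType.isLocallyNoetherian f
  let U : X.Opens := ⨆ (O : X.Opens) (_ : O.ι ≫ φ = O.ι ≫ ψ), O
  have hclosed : closedPoints X ⊆ (U : Set X) := by
    intro p hp
    have hs : IsClosed ({f p} : Set (Spec (CommRingCat.of A))) := by
      have := f.isClosedMap _ (show IsClosed ({p} : Set X) from hp)
      simpa using this
    have hmax : (f p).asIdeal.IsMaximal := (f p).isClosed_singleton_iff_isMaximal.1 hs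
    have hI : I ≤ (f p).asIdeal := (IsAdicComplete.le_jacobson_bot I).trans
      (sInf_le ⟨bot_le, hmax⟩)
    obtain ⟨θ, hθ⟩ : ∃ θ, Spec.map θ = (Spec (CommRingCat.of A)).fromSpecStalk (f p) :=
      ⟨_, Spec.map_preimage _⟩
    have hθI : I.map θ.hom ≤ IsLocalRing.maximalIdeal _ := by
      rw [Ideal.map_le_iff_le_comap]
      have h1 := Scheme.fromSpecStalk_closedPoint (X := Spec (CommRingCat.of A)) (x := f p)
      rw [← hθ] at h1
      exact hI.trans (congrArg PrimeSpectrum.asIdeal h1).ge
    obtain ⟨O, hpO, hO⟩ := exists_nhd_eq f φ ψ p fun n => by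
      let J := ((IsLocalRing.maximalIdeal ((Spec (CommRingCat.of A)).presheaf.stalk (f p))).map
        (f.stalkMap p).hom) ^ n
      let q := CommRingCat.ofHom (Ideal.Quotient.mk J)
      have hker : ∀ a ∈ I ^ (n + 1), (θ ≫ f.stalkMap p ≫ q).hom a = 0 := by
        intro a ha
        refine Ideal.Quotient.eq_zero_iff_mem.2 ?_
        have h3 : ((I ^ n).map θ.hom).map (f.stalkMap p).hom ≤ J := by
          simp only [J, Ideal.map_pow]
          exact Ideal.pow_right_mono (Ideal.map_mono hθI) n
        exact h3 (Ideal.mem_map_of_mem _ (Ideal.mem_map_of_mem _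
          (Ideal.pow_le_pow_right n.le_succ ha)))
      let ρ : CommRingCat.of (A ⧸ I ^ (n + 1)) ⟶ CommRingCat.of (X.presheaf.stalk p ⧸ J) :=
        CommRingCat.ofHom (Ideal.Quotient.lift _ (θ ≫ f.stalkMap p ≫ q).hom hker)
      have hρ : CommRingCat.ofHom (Ideal.Quotient.mk (I ^ (n + 1))) ≫ ρ = θ ≫ f.stalkMap p ≫ q :=
        rfl
      have hcomm : (Spec.map q ≫ X.fromSpecStalk p) ≫ f = Spec.map ρ ≫ CohB1.specQuot I n := by
        rw [CohB1.specQuot, ← Spec.map_comp, hρ, Category.assoc, Spec.map_comp, Spec.map_comp,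
          Category.assoc, hθ, Scheme.SpecMap_stalkMap_fromSpecStalk]
      let l : Spec (CommRingCat.of (X.presheaf.stalk p ⧸ J)) ⟶ CohB1.thick f I n :=
        pullback.lift _ _ hcomm
      have hl : l ≫ CohB1.thickι f I n = Spec.map q ≫ X.fromSpecStalk p := pullback.lift_fst _ _ _
      simpa only [← Category.assoc, hl] using congrArg (l ≫ ·) (e n)
    exact TopologicalSpace.Opens.mem_iSup.2 ⟨O, TopologicalSpace.Opens.mem_iSup.2 ⟨hO, hpO⟩⟩
  have : CompactSpace X := QuasiCompact.compactSpace_of_compactSpace f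
  have hU : (U : Set X) = Set.univ := by
    by_contra hne
    obtain ⟨x, hx, hxc⟩ := U.isOpen.isClosed_compl.exists_closed_singleton
      (Set.nonempty_compl.2 hne)
    exact hx (hclosed hxc)
  refine Scheme.hom_ext_of_forall φ ψ fun x => ?_
  have hxU : x ∈ U := (Set.ext_iff.1 hU x).2 trivial
  obtain ⟨O, hO⟩ := TopologicalSpace.Opens.mem_iSup.1 hxU
  obtain ⟨hO', hxO⟩ := TopologicalSpace.Opens.mem_iSup.1 hO
  exact ⟨O, hxO, hO'⟩

end Groth.Agent.S5742
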