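import Groth.Statements.S5743
import Groth.Agent.CohTwo.AdicCartesian

set_option autoImplicit false
universe u
open Coherent

namespace Groth.Agent.S5743

open AlgebraicGeometry CategoryTheory CategoryTheory.Limits in
/-- Levelwise form (a proper formal scheme over Spf A presented as an adic system of schemes X_k over
Spec(A/J^(k+1)), a coherent module on it as a compatible system of coherent modules F_k, an
invertible module as a compatible system L_k). Let A be a Noetherian ring separated and complete for
the J-adic topology; X_k schemes over Spec(A/J^(k+1)) with transition maps making the squares over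
Spec(A/J^(k+1)) → Spec(A/J^(k+2)) cartesian, X_0 proper over Spec(A/J); L_k invertible with L_k
isomorphic to the pullback of L_(k+1) and L_0 ample; F_k coherent with F_k isomorphic to the
pullback of F_(k+1). Then there is an integer N such that for every n ≥ N and every k ≥ 0 the module
F_k ⊗ L_k^{⊗ n} is generated by its global sections (it is a quotient of a free module). (The
published statement says that the twist F(n) of the module on the formal scheme is generated by its
sections over the formal scheme for n ≥ N; restricted to each level this gives the present uniform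
statement, which is what is expressed here.) -/
theorem result (A : Type u) [CommRing A]
    [IsNoetherianRing A] (J : Ideal A) [IsAdicComplete J A]
    (Xs : ℕ → Scheme.{u}) (p : (k : ℕ) → (Xs k ⟶ Spec (CommRingCat.of (A ⧸ J ^ (k + 1)))))
    (i : (k : ℕ) → (Xs k ⟶ Xs (k + 1)))
    (hcart : ∀ k, IsPullback (i k) (p k) (p (k + 1)) (CohB1.specQuotTrans J k)) (hp : IsProper (p 0))
    (L : (k : ℕ) → (Xs k).Modules) (hL : ∀ k, PicF.IsInvertible (L k))
    (φ : ∀ k, Nonempty ((Scheme.Modules.pullback (i k)).obj (L (k + 1)) ≅ L k)) (ha : CohB1.IsAmple (L 0))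
    (F : (k : ℕ) → (Xs k).Modules) (hF : ∀ k, Coh.IsCoh (F k))
    (ψ : ∀ k, Nonempty ((Scheme.Modules.pullback (i k)).obj (F (k + 1)) ≅ F k)) :
    ∃ N : ℕ, ∀ n : ℕ, N ≤ n → ∀ k : ℕ,
      Curv2.IsGloballyGenerated (CohB1.tensorMod (F k) (CohB1.tensorPow (L k) n)) := by
  let S := Groth.CohTwo.AdicSch.ofCartesian J Xs p i hcart
  let M := Groth.CohTwo.AdicMod.ofIso S F (fun k => (hF k).1) ψ
  exact M.exists_uniform_gen L (Groth.CohTwo.ker_toX_le J Xs p i hcart) hL φ
    (Groth.CohTwo.isProper_zero J Xs p i hcart hp) ha (hF 0)

end Groth.Agent.S5743
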