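import Groth.Statements.S5744
import Groth.Agent.QCohMod.QCQS
import Mathlib.AlgebraicGeometry.Morphisms.Affine

set_option autoImplicit false
universe u
open Coherent

namespace Groth.Agent.S5744

open AlgebraicGeometry CategoryTheory in
/-- For the Čech complex of sheaves indexed by all ordered tuples with products as terms; over a finite
index type these terms are finite direct sums. Let X be a separated scheme, (U_i)_{i ∈ ι} a finite
family of affine opens covering X, and F a quasi-coherent O_X-module. Then for every p the degree-p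
term of the Čech complex of sheaves 𝔠(𝒰, F), the product over ordered (p+1)-tuples of the direct
images (j_{i_0…i_p})_*(F|_{U_{i_0…i_p}}), is a quasi-coherent O_X-module. -/
theorem result {X : Scheme.{u}} [X.IsSeparated] {ι : Type u}
    [Finite ι] (𝒰 : ι → X.Opens) (h𝒰 : ∀ i, IsAffineOpen (𝒰 i)) (hcov : ⨆ i, 𝒰 i = ⊤)
    (F : X.Modules) [Coh.IsQCoh F] (p : ℕ) :
    Coh.IsQCoh (((CechOX.cechSh 𝒰).obj F).X p) := by
  classical
  let W : (Fin (p + 1) → ι) → X.Opens := fun i => ∏ᶜ (𝒰 ∘ i)
  have hq : ∀ i, ((CechOX.pushRestr (W i)).obj F).IsQuasicoherent := fun i => by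
    have hW : IsAffineOpen (W i) := by
      have e : W i = ⨅ a, 𝒰 (i a) := by
        refine le_antisymm (le_iInf fun a => leOfHom (Limits.Pi.π (𝒰 ∘ i) a)) ?_
        exact leOfHom (Limits.Pi.lift (f := 𝒰 ∘ i) (P := ⨅ a, 𝒰 (i a))
          fun a => homOfLE (iInf_le (fun a => 𝒰 (i a)) a))
      rw [e]
      exact IsAffineOpen.iInf fun a => h𝒰 (i a)
    have : IsAffineHom (W i).ι := by
      refine ⟨fun V hV => ?_⟩
      rw [← (W i).ι.isAffineOpen_iff_of_isOpenImmersion,
        Scheme.Hom.image_preimage_eq_opensRange_inf, Scheme.Opens.opensRange_ι]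
      exact hW.inf hV
    have : (F.restrict (W i).ι).IsQuasicoherent :=
      Scheme.Modules.isQuasicoherent_restrictFunctor _ F
    exact Groth.QCohMod.isQCoh_pushforward _ (W i).ι
  haveI : Limits.HasFiniteBiproducts X.Modules :=
    Limits.HasFiniteBiproducts.of_hasFiniteProducts
  haveI : Fintype (Fin (p + 1) → ι) := Fintype.ofFinite _
  change SheafOfModules.IsQuasicoherent (∏ᶜ fun i => (CechOX.pushRestr (W i)).obj F : X.Modules)
  refine (Groth.QCohMod.isQCoh_iff_of_iso
    (Limits.biproduct.isoProduct _).symm).mpr ?_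
  exact (Groth.QCohMod.isQCoh_iff_of_iso (Limits.biproduct.isoCoproduct _)).mpr
    (Groth.QCohMod.isQCoh_sigma _)

end Groth.Agent.S5744
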