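import Groth.Statements.S5748
import Groth.Agent.FlatStrata.AffinePushSpans
import Groth.Agent.FlatStrata.Twist
import Groth.Agent.Ega2Proj.TwistExtend
import Groth.Agent.Chow.Projective
import Groth.Agent.Chow.VeryAmplePn
import Groth.Agent.PnCoh.AmpleVanishing
import Groth.Agent.CohBase.RpushAb
import Groth.Agent.CohBase.AffinePush
import Groth.Agent.PnCoh.ProjectionFormula
import Groth.Agent.CohBase.FibreBC
import Groth.Agent.CohFin.Proper
-- import your own Groth.Agent.* helpers here

set_option autoImplicit false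
universe u
open CategoryTheory CategoryTheory.Limits AlgebraicGeometry Opposite TopologicalSpace
open Coherent

namespace Groth.Agent.S5748

/-- Let Y be a Noetherian scheme, f : X → Y a projective morphism, L an invertible O_X-module ample
relative to f, g : Y' → Y an affine morphism locally of finite type (the spectrum of a
quasi-coherent O_Y-algebra 𝒮 of finite type) and X' = X ×_Y Y' with projections g' : X' → X and f' :
X' → Y'. The quasi-coherent modules of finite type over the pulled-back O_X-algebra f^*𝒮 = g'_*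
O_{X'} are the direct images g'_* G of the coherent O_{X'}-modules G, and they are presented here in
that form. For such a module ℳ = g'_* G there is N such that for every n ≥ N the higher direct
images R^p f_*(ℳ ⊗ L^{⊗n}) (of the underlying abelian sheaf) vanish for all p > 0 and the canonical
morphism f^* f_*(ℳ ⊗ L^{⊗n}) → ℳ ⊗ L^{⊗n} is an epimorphism. -/
theorem result {X Y X' Y' : Scheme.{u}}
    [AlgebraicGeometry.IsNoetherian Y] (f : X ⟶ Y) (hf : RelProj.IsProjective f)
    (L : X.Modules) (hL : PicF.IsInvertible L) (hamp : RelAmple.IsRelAmple f L)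
    (g : Y' ⟶ Y) [IsAffineHom g] [LocallyOfFiniteType g] (g' : X' ⟶ X) (f' : X' ⟶ Y')
    (hsq : IsPullback g' f' f g) (G : X'.Modules) (hG : Coh.IsCoh G) :
    ∃ N : ℕ, ∀ n : ℕ, N ≤ n →
      (∀ p : ℕ, 0 < p →
        IsZero ((Coh.RpushAb f p).obj (Coh.toAb (CohB1.tensorMod ((Coh.push g').obj G) (CohB1.tensorPow L n))))) ∧
      Epi ((Scheme.Modules.pullbackPushforwardAdjunction f).counit.app
        (CohB1.tensorMod ((Coh.push g').obj G) (CohB1.tensorPow L n))) := by
  classical
  have : IsProper f := Groth.Chow.isProper_of_isProjective hf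
  have : IsProper f' := MorphismProperty.of_isPullback hsq ‹IsProper f›
  have : IsAffineHom g' := MorphismProperty.of_isPullback hsq.flip ‹IsAffineHom g›
  have : IsLocallyNoetherian Y' := LocallyOfFiniteType.isLocallyNoetherian g
  have := hG.1
  have : IsLocallyNoetherian X' := LocallyOfFiniteType.isLocallyNoetherian f'
  let E : ℕ → X'.Modules := fun n =>
    CohB1.tensorMod G ((Scheme.Modules.pullback g').obj (CohB1.tensorPow L n))
  have hEq : ∀ n, (E n).IsQuasicoherent := fun n => by
    have := Groth.PicAux.isQCoh_of_isInvertible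
      (Groth.PicAux.isInvertible_pullback g' (Groth.PicAux.isInvertible_tensorPow hL n))
    exact Groth.QCohMod.isQCoh_tensorMod
  -- behaviour over an affine open of the base
  have key : ∀ V : Y.affineOpens, ∃ N : ℕ, ∀ n : ℕ, N ≤ n →
      (∀ p : ℕ, 0 < p → Groth.CohBase.HVanish (X := X'.toTopCat) (Groth.CohBase.abSheaf (E n)) p
        (g' ⁻¹ᵁ (f ⁻¹ᵁ V.1))) ∧
      Groth.Ega2Proj.SpansStalks ((E n).restrict (g' ⁻¹ᵁ (f ⁻¹ᵁ V.1)).ι) := by
    intro V
    let W := g ⁻¹ᵁ V.1
    have hW : IsAffineOpen W := V.2.preimage g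
    have hD : g' ⁻¹ᵁ (f ⁻¹ᵁ V.1) = f' ⁻¹ᵁ W := by
      change (g' ≫ f) ⁻¹ᵁ V.1 = (f' ≫ g) ⁻¹ᵁ V.1
      rw [hsq.w]
    have hL' : CohB1.IsAmple
        (((Scheme.Modules.pullback g').obj L).restrict (g' ⁻¹ᵁ (f ⁻¹ᵁ V.1)).ι) := by
      let D := f ⁻¹ᵁ V.1
      have : IsAffineHom (g' ∣_ D) := IsZariskiLocalAtTarget.restrict ‹IsAffineHom g'› D
      refine Groth.Ega2Proj.isAmple_of_iso ?_
        (Groth.Chow.isAmple_pullback_of_isAffineHom (g' ∣_ D) (hamp.2 V))
      exact (Scheme.Modules.pullback (g' ∣_ D)).mapIso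
          ((Scheme.Modules.restrictFunctorIsoPullback D.ι).app L) ≪≫
        (Scheme.Modules.pullbackComp (g' ∣_ D) D.ι).app L ≪≫
        (Scheme.Modules.pullbackCongr (morphismRestrict_ι g' D)).app L ≪≫
        ((Scheme.Modules.pullbackComp (g' ⁻¹ᵁ D).ι g').app L).symm ≪≫
        ((Scheme.Modules.restrictFunctorIsoPullback (g' ⁻¹ᵁ D).ι).app _).symm
    rw [hD] at hL' ⊢
    let D' := f' ⁻¹ᵁ W
    let q := Groth.CohBase.preimageToSpec f' (V := W)
    have : IsNoetherianRing Γ(Y', W) := IsLocallyNoetherian.component_noetherian ⟨W, hW⟩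
    have : IsProper q :=
      MorphismProperty.of_isPullback (Groth.CohBase.isPullback_preimageToSpec f' hW) ‹IsProper f'›
    have hG' := Groth.CohFin.isCoh_restrict hG D'
    have := hG'.1
    obtain ⟨N₁, hN₁⟩ := Groth.PnCoh.exists_subsingleton_of_isAmple q hL' (G.restrict D'.ι) hG'
    obtain ⟨N₂, hN₂⟩ := Groth.Ega2Proj.exists_spans_twist hL' (G.restrict D'.ι) hG'.2
    refine ⟨max N₁ N₂, fun n hn => ?_⟩
    have e : CohB1.tensorMod (G.restrict D'.ι)
        (CohB1.tensorPow (((Scheme.Modules.pullback g').obj L).restrict D'.ι) n) ≅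
        (E n).restrict D'.ι :=
      PicGrp.tensorModIso (Iso.refl _)
          (Groth.Ega2Proj.exists_tensorPow_restrict
            (L := (Scheme.Modules.pullback g').obj L) D'.ι n).some.symm ≪≫
        (Groth.Ega2Proj.exists_tensorMod_restrict (L := G)
          (M := CohB1.tensorPow ((Scheme.Modules.pullback g').obj L) n) D'.ι).some.symm ≪≫
        (Scheme.Modules.restrictFunctor D'.ι).mapIso (PicGrp.tensorModIso (Iso.refl G)
          (Groth.PicAux.pullback_tensorPow g' L n).some.symm)
    refine ⟨fun p hp => ?_, (hN₂ n ((le_max_right _ _).trans hn)).of_iso e⟩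
    have h1 : Subsingleton (Coh.HH (D' : Scheme.{u}) ((E n).restrict D'.ι) p) :=
      Groth.PnCoh.subsingleton_HH_of_iso q e (hN₁ n ((le_max_left _ _).trans hn) p hp)
    have h2 := (Groth.CohBase.hVanish_restrict_iff D'.ι (E n) p ⊤).1
      ((Groth.CohBase.subsingleton_H_iff _ _).1 h1)
    rwa [Scheme.Opens.ι_image_top] at h2
  choose N hN using key
  choose B hB hyB _ using fun y : Y =>
    exists_isAffineOpen_mem_and_subset (x := y) (U := (⊤ : Y.Opens)) trivial
  obtain ⟨t, ht⟩ := isCompact_univ.elim_finite_subcover (fun y => (B y : Set Y))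
    (fun y => (B y).2) (fun y _ => Set.mem_iUnion.2 ⟨y, hyB y⟩)
  refine ⟨t.sup fun y => N ⟨B y, hB y⟩, fun n hn => ?_⟩
  have hy : ∀ y : Y, ∃ z ∈ t, y ∈ B z := fun y => by
    obtain ⟨z, hz, hyz⟩ := Set.mem_iUnion₂.1 (ht (Set.mem_univ y))
    exact ⟨z, hz, hyz⟩
  have hle : ∀ z ∈ t, N ⟨B z, hB z⟩ ≤ n := fun z hz =>
    (Finset.le_sup (f := fun y => N ⟨B y, hB y⟩) hz).trans hn
  let P := (Scheme.Modules.pushforward g').obj (E n)
  have := hEq n
  have : P.IsQuasicoherent := Groth.QCohMod.isQCoh_pushforward (E n) g'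
  obtain ⟨eP, -⟩ := Groth.PnCoh.exists_projectionFormula g' G
    (Groth.PicAux.isInvertible_tensorPow hL n)
  refine ⟨fun p hp => ?_, ?_⟩
  · obtain ⟨a⟩ := Groth.CohBase.nonempty_RpushAb_iso_homology f (injectiveResolution P) p
    have hz : IsZero ((Coh.RpushAb f p).obj (Coh.toAb P)) := by
      refine Limits.IsZero.of_iso ((Groth.CohBase.toAbF Y).map_isZero ?_) a
      refine Groth.CohBase.isZero_homology_pushCx _ _ p fun y => ?_
      obtain ⟨z, hz, hyz⟩ := hy y
      refine ⟨B z, hB z, hyz, ?_⟩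
      obtain ⟨e⟩ := (Groth.CohBase.pushAcyclic_of_isAffineHom g' (E n)).nonempty_equiv_H' p
        (f ⁻¹ᵁ B z)
      exact @Equiv.subsingleton _ _ e.toEquiv ((hN ⟨B z, hB z⟩ n (hle z hz)).1 p hp)
    exact hz.of_iso ((Coh.RpushAb f p).mapIso ((Groth.CohBase.toAbF X).mapIso eP))
  · have hepi : Epi ((Scheme.Modules.pullbackPushforwardAdjunction f).counit.app P) :=
      Groth.Ega2Proj.epi_counit_of_spanOn f P fun x => by
        obtain ⟨z, hz, hxz⟩ := hy (f x)
        exact ⟨B z, hxz, Groth.FlatStrata.spanOn_pushforward_eq_top hsq (E n) (hB z)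
          (hN ⟨B z, hB z⟩ n (hle z hz)).2 x hxz⟩
    have h := (Scheme.Modules.pullbackPushforwardAdjunction f).counit.naturality eP.inv
    simp only [Functor.id_map, Functor.comp_map] at h
    exact epi_of_epi_fac h

end Groth.Agent.S5748
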