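import Groth.Statements.S5750
import Groth.Agent.S5749
import Mathlib.Analysis.Polynomial.Basic

set_option autoImplicit false
universe u
open Coherent

namespace Groth.Agent.S5750

open AlgebraicGeometry CategoryTheory in
/-- Let A be an Artinian local ring, i : X → P^r_A a closed immersion compatible with the structure
morphisms to Spec A, F a coherent O_X-module and F(n) = F ⊗ i^* O(n). If a polynomial P over ℚ
satisfies P(n) = χ_A(F(n)) = Σ_{j ≤ r} (-1)^j length_A H^j(X, F(n)) for every integer n (the Hilbert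
polynomial of F), then the leading coefficient of P is non-negative. -/
theorem result (A : Type u) [CommRing A]
    [IsArtinianRing A] [IsLocalRing A] (r : ℕ) (X : Scheme.{u}) [X.Over (Spec (CommRingCat.of A))]
    (i : X ⟶ CohB1.ProjSpace r A) [IsClosedImmersion i]
    (hi : i ≫ CohB1.ProjSpace.toSpec r A = X ↘ Spec (CommRingCat.of A)) (F : X.Modules) (hF : Coh.IsCoh F)
    (P : Polynomial ℚ)
    (hP : ∀ n : ℤ, ((Finset.range (r + 1)).sum fun j => (-1 : ℚ) ^ j *
        ((Module.length A (Coh.HH X (CohB1.tensorMod F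
          ((Scheme.Modules.pullback i).obj (Twist.twistProjSpace r A n))) j)).toNat : ℚ)) = P.eval (n : ℚ)) :
    0 ≤ P.leadingCoeff := by
  by_contra hlt
  rw [not_le] at hlt
  obtain ⟨N, hN⟩ := Groth.Agent.S5749.result A r X i hi F hF
  have hnn : ∀ n : ℤ, N ≤ n → 0 ≤ P.eval (n : ℚ) := fun n hn => by
    have h := congrArg (fun z : ℤ => (z : ℚ)) (hN n hn)
    push_cast at h
    rw [← hP n]
    exact h ▸ Nat.cast_nonneg _
  rcases Nat.eq_zero_or_pos P.natDegree with h0 | hpos
  · have := hnn N le_rfl
    rw [P.eq_C_of_natDegree_eq_zero h0, Polynomial.eval_C] at this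
    rw [Polynomial.leadingCoeff, h0] at hlt
    linarith
  · obtain ⟨b, hb⟩ := Filter.eventually_atTop.1
      ((P.tendsto_atBot_of_leadingCoeff_nonpos (Polynomial.natDegree_pos_iff_degree_pos.1 hpos)
        hlt.le).eventually (Filter.eventually_le_atBot (-1)))
    have h1 := hnn (max N ⌈b⌉) (le_max_left _ _)
    have h2 := hb ((max N ⌈b⌉ : ℤ) : ℚ) ((Int.le_ceil b).trans (by exact_mod_cast le_max_right _ _))
    linarith

end Groth.Agent.S5750
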