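import Groth.Statements.S5751
import Groth.Agent.CohTwo.GrSerre.Generated

set_option autoImplicit false
universe u
open CategoryTheory CategoryTheory.Limits AlgebraicGeometry Opposite TopologicalSpace
open scoped HomogeneousIdeal
noncomputable section
open Coherent

namespace Groth.Agent.S5751

/-- Over an affine base, for a graded ring generated in degree one, let S be a Noetherian commutative
ring positively graded by additive subgroups with irrelevant ideal generated by S_1, X = Proj S, and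
M a graded S-module (non-negatively graded here, the direct sum of its pieces) satisfying (TF): for
some k the submodule generated by the homogeneous elements of degree ≥ k is finitely generated.
Consider the graded module of sections n ↦ N_n = Γ(X, M(n)~), on which a homogeneous a ∈ S_e acts by
N_n → N_{n+e}, s ↦ (a/1)·s. Then there is k such that for every e ≥ 0 the group N_{k+e} is generated
by the images a · N_k, a ∈ S_e. (For a ring generated in degree one, condition (TF) for the graded
module ⊕_n N_n is this eventual generation together with the finiteness of each N_n over S_0.) -/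
theorem result {A σ : Type u} [CommRing A]
    [IsNoetherianRing A] [SetLike σ A] [AddSubgroupClass σ A] (𝒜 : ℕ → σ) [GradedRing 𝒜]
    (hgen : (HomogeneousIdeal.irrelevant 𝒜).toIdeal = Ideal.span (𝒜 1 : Set A))
    {M τ : Type u} [AddCommGroup M] [Module A M] [SetLike τ M] [AddSubgroupClass τ M] (ℳ : ℕ → τ)
    [SetLike.GradedSMul 𝒜 ℳ] [DirectSum.Decomposition ℳ]
    (hTF : ∃ k : ℕ, (Submodule.span A (⋃ i ∈ Set.Ici k, (ℳ i : Set M))).FG) :
    ∃ k : ℕ, ∀ e : ℕ,
      (⨆ a : 𝒜 e, (GrMod.smulSect 𝒜 ℳ a (k : ℤ)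
        (op (⊤ : Opens (ProjectiveSpectrum.top 𝒜)))).range) = ⊤ := by
  obtain ⟨k₀, hk₀⟩ := hTF
  have hW : (Groth.GrSerre.high (A := A) ℳ k₀).FG := hk₀
  obtain ⟨B, hsurj⟩ := Groth.GrSerre.exists_surjective 𝒜 ℳ hW
  obtain ⟨D, hD⟩ := Groth.GrSerre.exists_generated 𝒜 ℳ hgen hW
  refine ⟨max B D, fun e => eq_top_iff.2 fun s _ => ?_⟩
  obtain ⟨m, hm, hv⟩ := hsurj (max B D + e) (by omega) _
    (Groth.GrSerre.fracs_val_cast 𝒜 ℳ (max B D + e) (by push_cast; ring) s)
  have hcl := hD (max B D) (le_max_right _ _) e m hm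
  obtain ⟨t, ht, htv⟩ : ∃ t ∈ (⨆ a : 𝒜 e, (GrMod.smulSect 𝒜 ℳ a ((max B D : ℕ) : ℤ)
      (op (⊤ : Opens (ProjectiveSpectrum.top 𝒜)))).range), ∀ x, (t.1 x).1 =
        (LocalizedModule.mk m 1 : GrMod.LocMod 𝒜 (M := M) x.1) := by
    clear hm hv
    induction hcl using AddSubgroup.closure_induction with
    | mem z hz =>
      obtain ⟨a, ha, b, hb, rfl⟩ := hz
      refine ⟨_, le_iSup (fun a : 𝒜 e => (GrMod.smulSect 𝒜 ℳ a ((max B D : ℕ) : ℤ)
        (op (⊤ : Opens (ProjectiveSpectrum.top 𝒜)))).range) ⟨a, ha⟩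
        ⟨GrMod.globalOf 𝒜 ℳ ⟨b, hb⟩, rfl⟩, fun x => ?_⟩
      rw [GrMod.smulSect_apply_coe, GrMod.globalOf_apply_coe, LocalizedModule.mk_smul_mk, one_mul]
    | zero => exact ⟨0, zero_mem _, fun x => (LocalizedModule.zero_mk 1).symm⟩
    | add x y _ _ hx hy =>
      obtain ⟨t, ht, htv⟩ := hx
      obtain ⟨t', ht', htv'⟩ := hy
      refine ⟨t + t', add_mem ht ht', fun z => ?_⟩
      change (t.1 z).1 + (t'.1 z).1 = _
      rw [htv, htv']
      exact ((LocalizedModule.mkLinearMap _ M).map_add x y).symm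
    | neg x _ hx =>
      obtain ⟨t, ht, htv⟩ := hx
      refine ⟨-t, neg_mem ht, fun z => ?_⟩
      change -(t.1 z).1 = _
      rw [htv]
      exact ((LocalizedModule.mkLinearMap _ M).map_neg x).symm
  rwa [Groth.RelTilde.sect_ext 𝒜 ℳ _ (s := s) (t := t) fun x => (hv x.1).trans (htv x).symm]

end Groth.Agent.S5751
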