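import Groth.Statements.S5753
import Mathlib.RingTheory.Ideal.AssociatedPrime.Finiteness
-- import your own Groth.Agent.* helpers here

set_option autoImplicit false
universe u
open EGA41

namespace Groth.Agent.S5753

/-- Let A be a Noetherian local ring with maximal ideal m and residue field k, and N a finitely
generated A-module. Then no element of m is N-regular (multiplication by it injective) if and only
if Hom_A(k, N) is nonzero. Applied to N = M/(x_1 M + ... + x_n M) for an M-regular sequence (x_i) in
m, this says that the sequence cannot be extended by an element of m if and only if Hom_A(k, M/(x_1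
M + ... + x_n M)) ≠ 0. (The published statement allows an arbitrary module; for the direct sum N of
the quotients of a two-dimensional regular local ring by all its height-one primes no element of m
is N-regular while Hom_A(k, N) = 0, and the published proof uses finiteness of the set of associated
primes, so N is taken finitely generated here.) -/
theorem result (A : Type u) [CommRing A]
    [IsLocalRing A] [IsNoetherianRing A] (N : Type u) [AddCommGroup N] [Module A N] [Module.Finite A N] :
    (∀ x ∈ IsLocalRing.maximalIdeal A, ¬ IsSMulRegular N x) ↔
      Nontrivial (IsLocalRing.ResidueField A →ₗ[A] N) := by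
  constructor
  · intro h
    have h1 : (IsLocalRing.maximalIdeal A : Set A) ⊆ ⋃ p ∈ associatedPrimes A N, (p : Set A) := by
      rw [biUnion_associatedPrimes_eq_compl_regular]
      exact h
    obtain ⟨p, hp, hle⟩ := (Ideal.subset_union_prime_finite (associatedPrimes.finite A N) (f := id)
      ⊤ ⊤ fun _ hp _ _ => hp.isPrime).1 h1
    have hpm : IsLocalRing.maximalIdeal A = p := le_antisymm hle (IsLocalRing.le_maximalIdeal hp.isPrime.ne_top)
    obtain ⟨f, hf⟩ := ((isAssociatedPrime_iff_exists_injective_linearMap p N).mp hp).2
    subst hpm
    refine ⟨⟨f, 0, fun hf0 => ?_⟩⟩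
    have h2 := hf (a₁ := (Ideal.Quotient.mk (IsLocalRing.maximalIdeal A) 1)) (a₂ := 0)
      ((DFunLike.congr_fun hf0 _).trans (map_zero f).symm)
    exact one_ne_zero (α := IsLocalRing.ResidueField A) h2
  · intro h x hx hreg
    obtain ⟨f, hf⟩ := exists_ne (0 : IsLocalRing.ResidueField A →ₗ[A] N)
    apply hf
    ext y
    apply hreg
    show x • f y = x • (0 : N)
    rw [← map_smul, smul_zero, Algebra.smul_def, IsLocalRing.ResidueField.algebraMap_eq,
      (IsLocalRing.residue_eq_zero_iff x).mpr hx, zero_mul, map_zero]

end Groth.Agent.S5753
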