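import Groth.Statements.S5759
import Groth.Agent.EGA41Two.CMPrime
import Mathlib.RingTheory.Ideal.KrullsHeightTheorem

set_option autoImplicit false
universe u
open EGA41

namespace Groth.Agent.S5759

open RingTheory.Sequence Groth.LocCohBase in
theorem aux (A : Type u) [CommRing A] [IsLocalRing A] [IsNoetherianRing A] :
    ∀ (d : ℕ) (M : Type u) [AddCommGroup M] [Module A M] [Module.Finite A M] [Nontrivial M],
      Module.supportDim A M = d →
      (∀ xs : List A, (∀ x ∈ xs, x ∈ IsLocalRing.maximalIdeal A) →
        Module.supportDim A (M ⧸ (Ideal.ofList xs • (⊤ : Submodule A M))) + xs.length = Module.supportDim A M →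
          ∀ p ∈ associatedPrimes A (M ⧸ (Ideal.ofList xs • (⊤ : Submodule A M))),
            ringKrullDim (A ⧸ p) = Module.supportDim A (M ⧸ (Ideal.ofList xs • (⊤ : Submodule A M)))) →
      LocCoh.IsCohenMacaulayModule A M := by
  intro d
  induction d with
  | zero =>
    intro M _ _ _ _ hd _
    have h := depth_le_supportDim (R := A) M
    rw [hd] at h
    change Module.supportDim A M = _
    rw [hd]
    exact le_antisymm (WithBot.coe_le_coe.mpr bot_le) h
  | succ d ih =>
    intro M _ _ _ _ hd H
    have hIM := smul_maximalIdeal_ne_top M (IsLocalRing.maximalIdeal.isMaximal A).ne_top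
    have e0 : (M ⧸ (Ideal.ofList ([] : List A) • (⊤ : Submodule A M))) ≃ₗ[A] M :=
      Submodule.quotEquivOfEqBot _ (by simp)
    obtain ⟨x, hx, hreg⟩ : ∃ x ∈ IsLocalRing.maximalIdeal A, IsSMulRegular M x := by
      refine exists_regular_of_one_le hIM ((one_le_idealDepth_iff _ M).2 fun q hq hle => ?_)
      obtain rfl := le_antisymm (IsLocalRing.le_maximalIdeal hq.isPrime.ne_top) hle
      have h := H [] (by simp) (by rw [Module.supportDim_eq_of_equiv e0]; simp) _
        (by rw [LinearEquiv.AssociatedPrimes.eq e0]; exact hq)
      rw [Module.supportDim_eq_of_equiv e0, hd] at h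
      letI := Ideal.Quotient.field (IsLocalRing.maximalIdeal A)
      rw [ringKrullDim_eq_zero_of_field] at h
      exact absurd (by exact_mod_cast h : (0 : ℕ) = d + 1) (by omega)
    have h1 := Module.supportDim_quotSMulTop_succ_eq_supportDim hreg hx
    have h2 : Module.supportDim A (QuotSMulTop x M) = d := by
      rw [hd, Nat.cast_succ] at h1
      exact ENat.WithBot.add_one_cancel.mp h1
    have : Nontrivial (QuotSMulTop x M) := Submodule.Quotient.nontrivial_iff.mpr fun heq =>
      Submodule.top_ne_pointwise_smul_of_mem_jacobson_annihilator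
        (IsLocalRing.maximalIdeal_le_jacobson _ hx) heq.symm
    have hCM := ih (QuotSMulTop x M) h2 fun xs hxs hdim p hp => by
      have e := Submodule.quotOfListConsSMulTopEquivQuotSMulTopInner M x xs
      have := H (x :: xs) (fun y hy => by rcases List.mem_cons.mp hy with rfl | h; exacts [hx, hxs y h]) (by
        rw [Module.supportDim_eq_of_equiv e, List.length_cons, Nat.cast_succ, ← add_assoc, hdim]
        exact h1) p (by rw [LinearEquiv.AssociatedPrimes.eq e]; exact hp)
      rwa [Module.supportDim_eq_of_equiv e] at this
    change Module.supportDim A M = _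
    rw [← h1, show Module.supportDim A (QuotSMulTop x M) = _ from hCM, ← WithBot.coe_one, ← WithBot.coe_add,
      LocCoh.depth, LocCoh.depth, idealDepth_quotSMulTop_add_one _ M hIM hx hreg]


/-- Let A be a Noetherian local ring and M a nonzero finitely generated A-module. Suppose that for every
sequence x_1, ..., x_r of elements of the maximal ideal which is part of a system of parameters for
M (i.e. dim(M/(x_1 M + ... + x_r M)) = dim(M) - r), every associated prime p of N = M/(x_1 M + ... +
x_r M) satisfies dim(A/p) = dim(N). Then M is a Cohen-Macaulay module. (The published convention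
also counts the zero module as Cohen-Macaulay; this row assumes M nonzero.) -/
theorem result (A : Type u) [CommRing A]
    [IsLocalRing A] [IsNoetherianRing A] (M : Type u) [AddCommGroup M] [Module A M] [Module.Finite A M]
    [Nontrivial M]
    (h : ∀ xs : List A, (∀ x ∈ xs, x ∈ IsLocalRing.maximalIdeal A) →
      Module.supportDim A (M ⧸ (Ideal.ofList xs • (⊤ : Submodule A M))) + xs.length = Module.supportDim A M →
        ∀ p ∈ associatedPrimes A (M ⧸ (Ideal.ofList xs • (⊤ : Submodule A M))),
          ringKrullDim (A ⧸ p) = Module.supportDim A (M ⧸ (Ideal.ofList xs • (⊤ : Submodule A M)))) :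
    LocCoh.IsCohenMacaulayModule A M := by
  obtain ⟨d, hd⟩ : ∃ d : ℕ, Module.supportDim A M = d := by
    have h1 : Module.supportDim A M ≠ ⊥ := by rwa [Module.supportDim_ne_bot_iff_nontrivial]
    have h2 : Module.supportDim A M ≠ ⊤ := ne_top_of_le_ne_top ringKrullDim_ne_top
      (Module.supportDim_le_ringKrullDim A M)
    obtain ⟨b, hb⟩ := WithBot.ne_bot_iff_exists.1 h1
    obtain ⟨c, rfl⟩ := ENat.ne_top_iff_exists.1 (fun hb' : b = ⊤ => h2 (by rw [← hb, hb']; rfl))
    exact ⟨c, hb.symm⟩
  exact aux A d M hd h

end Groth.Agent.S5759
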