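import Groth.Statements.S5760
import Groth.Agent.EGA41Two.CMPrime
import Mathlib.RingTheory.Ideal.KrullsHeightTheorem

set_option autoImplicit false
universe u
open EGA41

namespace Groth.Agent.S5760

/-- Let A be a Noetherian local ring, M a nonzero finitely generated Cohen-Macaulay A-module, p a prime
ideal in the support of M and r the integer dim(M) - dim(M/pM). Then there exists an M-regular
sequence x_1, ..., x_r of elements of p; for every such sequence, dim(M/(x_1 M + ... + x_r M)) =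
dim(M/pM) = dim(A/p), and p is a minimal element of the set of associated primes of M/(x_1 M + ... +
x_r M). -/
theorem result (A : Type u) [CommRing A]
    [IsLocalRing A] [IsNoetherianRing A] (M : Type u) [AddCommGroup M] [Module A M] [Module.Finite A M]
    (hM : LocCoh.IsCohenMacaulayModule A M) (p : PrimeSpectrum A) (hp : p ∈ Module.support A M) (r : ℕ)
    (hr : Module.supportDim A (M ⧸ (p.asIdeal • (⊤ : Submodule A M))) + r = Module.supportDim A M) :
    (∃ xs : List A, xs.length = r ∧ (∀ x ∈ xs, x ∈ p.asIdeal) ∧ RingTheory.Sequence.IsWeaklyRegular M xs) ∧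
      ∀ xs : List A, xs.length = r → (∀ x ∈ xs, x ∈ p.asIdeal) → RingTheory.Sequence.IsWeaklyRegular M xs →
        Module.supportDim A (M ⧸ (Ideal.ofList xs • (⊤ : Submodule A M))) =
            Module.supportDim A (M ⧸ (p.asIdeal • (⊤ : Submodule A M))) ∧
          Module.supportDim A (M ⧸ (p.asIdeal • (⊤ : Submodule A M))) = ringKrullDim (A ⧸ p.asIdeal) ∧
          p.asIdeal ∈ associatedPrimes A (M ⧸ (Ideal.ofList xs • (⊤ : Submodule A M))) ∧
          ∀ q ∈ associatedPrimes A (M ⧸ (Ideal.ofList xs • (⊤ : Submodule A M))), q ≤ p.asIdeal → q = p.asIdeal := by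
  have := Groth.LocCohBase.nontrivial_of_CM hM
  have hIM := Groth.LocCohBase.smul_maximalIdeal_ne_top M p.2.ne_top
  obtain ⟨n, hn⟩ := ENat.ne_top_iff_exists.1 (Groth.LocCohBase.idealDepth_ne_top hIM)
  have hdim := Groth.EGA41Two.supportDim_quotient_smul_top p hp
  have : IsLocalRing (A ⧸ p.asIdeal) := IsLocalRing.of_surjective' _ Ideal.Quotient.mk_surjective
  have hfin : Module.supportDim A (M ⧸ (p.asIdeal • (⊤ : Submodule A M))) ≠ ⊥ := by
    rw [hdim]; exact ringKrullDim_ne_bot
  have hfin' : Module.supportDim A (M ⧸ (p.asIdeal • (⊤ : Submodule A M))) ≠ ⊤ := by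
    rw [hdim]
    exact ringKrullDim_ne_top
  have hrn : r = n := Groth.EGA41Two.withBot_natCast_add_inj hfin hfin'
    (hr.trans (Groth.LocCohBase.supportDim_eq_add_idealDepth p.2.ne_top n M hM hn.symm))
  refine ⟨(Groth.LocCohBase.le_idealDepth_iff_exists (I := p.asIdeal) hIM r).1 (by rw [← hn, hrn]) |>.imp
    fun xs h => ⟨h.1, h.2.2, h.2.1⟩, fun xs hlen hmem hreg => ?_⟩
  have hmem' : ∀ x ∈ xs, x ∈ IsLocalRing.maximalIdeal A := fun x hx =>
    IsLocalRing.le_maximalIdeal p.2.ne_top (hmem x hx)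
  have hCM := Groth.EGA41Two.isCM_quotient_ofList xs M hM hmem' hreg
  have h1 : Module.supportDim A (M ⧸ (Ideal.ofList xs • (⊤ : Submodule A M))) =
      Module.supportDim A (M ⧸ (p.asIdeal • (⊤ : Submodule A M))) := by
    refine Groth.EGA41Two.withBot_add_natCast_inj (n := r) |>.1 ?_
    rw [hr]
    conv_lhs => rw [← hlen]
    exact Groth.EGA41Two.supportDim_quotient_ofList hmem' hreg
  have hle : Ideal.ofList xs ≤ p.asIdeal := Ideal.span_le.mpr hmem
  have hp' : p ∈ Module.support A (M ⧸ (Ideal.ofList xs • (⊤ : Submodule A M))) := by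
    rw [Module.support_quotient]
    exact ⟨hp, hle⟩
  have hdim' := Groth.EGA41Two.supportDim_quotient_smul_top p hp'
  have := Groth.LocCohBase.nontrivial_of_CM hCM
  obtain ⟨m, hm⟩ := ENat.ne_top_iff_exists.1 (Groth.LocCohBase.idealDepth_ne_top
    (Groth.LocCohBase.smul_maximalIdeal_ne_top (M ⧸ (Ideal.ofList xs • (⊤ : Submodule A M))) p.2.ne_top))
  have h2 := Groth.LocCohBase.supportDim_eq_add_idealDepth p.2.ne_top m _ hCM hm.symm
  rw [h1, hdim', ← hdim] at h2
  have hm0 : m = 0 := (Groth.EGA41Two.withBot_natCast_add_inj hfin hfin' (m := 0) (n := m)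
    (by rw [Nat.cast_zero, add_zero]; exact h2)).symm
  have hnot : ¬ (1 : ℕ∞) ≤ LocCoh.idealDepth p.asIdeal (M ⧸ (Ideal.ofList xs • (⊤ : Submodule A M))) := by
    rw [← hm, hm0]; simp
  rw [Groth.LocCohBase.one_le_idealDepth_iff] at hnot
  push Not at hnot
  obtain ⟨q, hq, hpq⟩ := hnot
  have hmin := Groth.LocCohBase.mem_minimalPrimes_of_CM hCM hq
  have hqp : q = p.asIdeal :=
    le_antisymm (hmin.2 ⟨p.2, Module.mem_support_iff_of_finite.1 hp'⟩ hpq) hpq
  refine ⟨h1, hdim, hqp ▸ hq, fun q' hq' hle' => le_antisymm hle' ?_⟩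
  have := Groth.LocCohBase.mem_minimalPrimes_of_CM hCM hq'
  exact (hqp ▸ hmin).2 this.1 hle'

end Groth.Agent.S5760
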