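import Groth.Statements.S5764
import Mathlib.RingTheory.IntegralClosure.GoingDown
import Mathlib.RingTheory.Ideal.GoingUp
import Mathlib.RingTheory.Ideal.Height
import Mathlib.RingTheory.Ideal.GoingDown

set_option autoImplicit false
universe u
open EGA41

namespace Groth.Agent.S5764

/-- Let B be an integral domain, A a local subring of B which is integrally closed (in its field of
fractions), and suppose B is integral over A. Then dim(B_n) = dim(A) for every maximal ideal n of B. -/
theorem result (A B : Type u) [CommRing A]
    [CommRing B] [IsDomain B] [Algebra A B] (hinj : Function.Injective (algebraMap A B)) [IsDomain A]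
    [IsLocalRing A] [IsIntegrallyClosed A] [Algebra.IsIntegral A B] (n : Ideal B) [n.IsMaximal] :
    ringKrullDim (Localization.AtPrime n) = ringKrullDim A := by
  have : FaithfulSMul A B := (faithfulSMul_iff_algebraMap_injective A B).mpr hinj
  have : Algebra.HasGoingDown A B := inferInstance
  have hm : n.comap (algebraMap A B) = IsLocalRing.maximalIdeal A :=
    IsLocalRing.eq_maximalIdeal (Ideal.isMaximal_comap_of_isIntegral_of_isMaximal n)
  rw [IsLocalization.AtPrime.ringKrullDim_eq_height n (Localization.AtPrime n),
    ← IsLocalRing.maximalIdeal_height_eq_ringKrullDim, WithBot.coe_inj]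
  rw [show n.height = Order.height (⟨n, inferInstance⟩ : PrimeSpectrum B) from
      PrimeSpectrum.height_eq_orderHeight ⟨n, inferInstance⟩,
    show (IsLocalRing.maximalIdeal A).height = Order.height (⟨IsLocalRing.maximalIdeal A, inferInstance⟩ : PrimeSpectrum A)
      from PrimeSpectrum.height_eq_orderHeight ⟨IsLocalRing.maximalIdeal A, inferInstance⟩]
  refine le_antisymm ?_ (Order.height_le fun l hl => ?_)
  · have h := Order.height_le_height_apply_of_strictMono (PrimeSpectrum.comap (algebraMap A B))
      (fun a b hab => Ideal.IsIntegral.comap_lt_comap (I := a.asIdeal) (J := b.asIdeal) hab)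
      (⟨n, inferInstance⟩ : PrimeSpectrum B)
    refine h.trans_eq (congrArg Order.height (PrimeSpectrum.ext hm))
  · have : n.LiesOver l.last.asIdeal := ⟨by rw [hl]; exact hm.symm⟩
    obtain ⟨L, hL, hLlast, -⟩ := Ideal.exists_ltSeries_of_hasGoingDown l n
    rw [← hL]
    exact Order.length_le_height hLlast.le

end Groth.Agent.S5764
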