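import Groth.Statements.S5767
import Groth.Agent.Ega41Dim.SystemParams
import Mathlib.RingTheory.KrullDimension.Regular

set_option autoImplicit false
universe u
open EGA41

namespace Groth.Agent.S5767

theorem ringKrullDim_quotient_le {A : Type u} [CommRing A] (M : Type u) [AddCommGroup M] [Module A M]
    [Module.Finite A M] (p : PrimeSpectrum A) (hp : p ∈ Module.support A M) :
    ringKrullDim (A ⧸ p.asIdeal) ≤ Module.supportDim A M := by
  rw [ringKrullDim_quotient]
  exact Order.krullDim_le_of_strictMono
    (fun q : PrimeSpectrum.zeroLocus (R := A) p.asIdeal =>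
      (⟨q.1, Module.mem_support_mono (show p ≤ q.1 from q.2) hp⟩ : Module.support A M)) fun _ _ h => h

theorem exists_supportDim_eq_natCast {A : Type u} [CommRing A] [IsNoetherianRing A] [Finite (MaximalSpectrum A)]
    (M : Type u) [AddCommGroup M] [Module A M] [Module.Finite A M] [Nontrivial M] :
    ∃ d : ℕ, Module.supportDim A M = d := by
  haveI := Groth.Ega41Dim.isArtinianRing_quotient_of_forall_isMaximal (Ring.jacobson A) Groth.Ega41Dim.isMaximal_of_jacobson_le
  obtain ⟨P, hP⟩ := Groth.Ega41Dim.exists_isHSPoly (Ring.jacobson A) M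
  exact ⟨P.natDegree, (Groth.Ega41Dim.natDegree_eq_supportDim Groth.Ega41Dim.isMaximal_of_jacobson_le
    Ideal.jacobson_bot.ge hP).symm⟩


/-- Let A be a semi-local Noetherian ring, M a finitely generated A-module and x an element of the
Jacobson radical of A. One always has dim(M/xM) ≥ dim(M) - 1; equality dim(M/xM) = dim(M) - 1 holds
if and only if x belongs to none of the prime ideals p of Supp(M) with dim(A/p) = dim(M). Stated as:
dim(M/xM) + 1 = dim(M) iff x avoids those primes. -/
theorem result (A : Type u) [CommRing A] [IsNoetherianRing A]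
    [Finite (MaximalSpectrum A)] (M : Type u) [AddCommGroup M] [Module A M] [Module.Finite A M] (x : A)
    (hx : x ∈ Ring.jacobson A) :
    Module.supportDim A (QuotSMulTop x M) + 1 = Module.supportDim A M ↔
      ∀ p : PrimeSpectrum A, p ∈ Module.support A M →
        ringKrullDim (A ⧸ p.asIdeal) = Module.supportDim A M → x ∉ p.asIdeal := by
  rcases subsingleton_or_nontrivial M with hs | hn
  · haveI : Subsingleton (QuotSMulTop x M) := Submodule.Quotient.subsingleton_iff.mpr (Subsingleton.elim _ _)
    rw [Module.supportDim_eq_bot_of_subsingleton, Module.supportDim_eq_bot_of_subsingleton]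
    refine iff_of_true (by simp) fun p hp => ?_
    simp [Module.support_eq_empty] at hp
  obtain ⟨d, hd⟩ := exists_supportDim_eq_natCast (A := A) M
  have hxann : x ∈ (Module.annihilator A M).jacobson := (Module.annihilator A M).ringJacobson_le_jacobson hx
  have hge := Module.supportDim_le_supportDim_quotSMulTop_succ_of_mem_jacobson hxann
  have hsupp : ∀ p : PrimeSpectrum A, p ∈ Module.support A (QuotSMulTop x M) ↔ p ∈ Module.support A M ∧ x ∈ p.asIdeal := by
    intro p
    simp [Module.support_quotSMulTop]
  constructor
  · intro h p hp hpd hxp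
    have h1 : Module.supportDim A M ≤ Module.supportDim A (QuotSMulTop x M) :=
      hpd ▸ ringKrullDim_quotient_le (QuotSMulTop x M) p ((hsupp p).mpr ⟨hp, hxp⟩)
    have h2 := (add_le_add h1 le_rfl).trans h.le
    rw [hd] at h2
    have h3 : ((d + 1 : ℕ) : WithBot ℕ∞) ≤ (d : ℕ) := by exact_mod_cast h2
    have := Nat.cast_le.mp h3
    omega
  · intro h
    refine le_antisymm ?_ hge
    rw [hd]
    have hlen : ∀ q : LTSeries (Module.support A (QuotSMulTop x M)), q.length + 1 ≤ d := by
      intro q
      obtain ⟨hp, hxp⟩ := (hsupp q.head.1).mp q.head.2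
      have hle : ringKrullDim (A ⧸ q.head.1.asIdeal) ≤ Module.supportDim A M := ringKrullDim_quotient_le M _ hp
      have hlt : ringKrullDim (A ⧸ q.head.1.asIdeal) < Module.supportDim A M :=
        lt_of_le_of_ne hle fun he => h _ hp he hxp
      have hq : (q.length : WithBot ℕ∞) ≤ ringKrullDim (A ⧸ q.head.1.asIdeal) := by
        rw [ringKrullDim_quotient]
        exact Order.LTSeries.length_le_krullDim
          { length := q.length
            toFun := fun i => ⟨(q i).1, show q.head.1 ≤ (q i).1 from q.monotone (Fin.zero_le i)⟩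
            step := q.step }
      have := hq.trans_lt hlt
      rw [hd] at this
      exact Nat.cast_lt.mp this
    have hd1 : Module.supportDim A (QuotSMulTop x M) ≤ ((d - 1 : ℕ) : WithBot ℕ∞) :=
      iSup_le fun q => Nat.cast_le.mpr (by have := hlen q; omega)
    rcases eq_or_ne (Module.supportDim A (QuotSMulTop x M)) ⊥ with hb | hb
    · rw [hb]; simp
    haveI : Nontrivial (QuotSMulTop x M) := (Module.supportDim_ne_bot_iff_nontrivial A _).mp hb
    obtain ⟨p0, hp0⟩ := (Module.nonempty_support_of_nontrivial (R := A) (M := QuotSMulTop x M))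
    have hd0 := hlen (RelSeries.singleton _ ⟨p0, hp0⟩)
    refine (add_le_add hd1 le_rfl).trans ?_
    exact_mod_cast (by have := hd0; omega : d - 1 + 1 ≤ d)

end Groth.Agent.S5767
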