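import Groth.Statements.S5768
import Groth.Agent.Ega41Dim.SystemParams
import Mathlib.RingTheory.Regular.RegularSequence
import Mathlib.RingTheory.KrullDimension.Regular

set_option autoImplicit false
universe u
open EGA41

namespace Groth.Agent.S5768

open scoped Pointwise in
theorem supportDim_le_add_length {A : Type u} [CommRing A] [IsNoetherianRing A] :
    ∀ (xs : List A) (M : Type u) [AddCommGroup M] [Module A M] [Module.Finite A M],
      (∀ x ∈ xs, x ∈ Ring.jacobson A) →
      Module.supportDim A M ≤ Module.supportDim A (M ⧸ (Ideal.ofList xs • (⊤ : Submodule A M))) + xs.length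
  | [], M, _, _, _, _ => by
    rw [Ideal.ofList_nil, Submodule.bot_smul]
    simpa using (Module.supportDim_eq_of_equiv (Submodule.quotEquivOfEqBot (⊥ : Submodule A M) rfl)).ge
  | x :: l, M, _, _, _, h => by
    refine (Module.supportDim_le_supportDim_quotSMulTop_succ_of_mem_jacobson
      ((Module.annihilator A M).ringJacobson_le_jacobson (h x List.mem_cons_self))).trans ?_
    refine (add_le_add (supportDim_le_add_length l (QuotSMulTop x M)
      fun y hy => h y (List.mem_cons_of_mem _ hy)) le_rfl).trans_eq ?_
    rw [Module.supportDim_eq_of_equiv (Submodule.quotOfListConsSMulTopEquivQuotSMulTopInner M x l),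
      List.length_cons, Nat.cast_add, Nat.cast_one, add_assoc]

noncomputable def appendEquiv {A : Type u} [CommRing A] (M : Type u) [AddCommGroup M] [Module A M] (xs ys : List A) :
    (M ⧸ (Ideal.ofList (xs ++ ys) • (⊤ : Submodule A M))) ≃ₗ[A]
      ((M ⧸ (Ideal.ofList xs • (⊤ : Submodule A M))) ⧸
        (Ideal.ofList ys • (⊤ : Submodule A (M ⧸ (Ideal.ofList xs • (⊤ : Submodule A M)))))) :=
  Submodule.quotEquivOfEq _ _ (by rw [Ideal.ofList_append, Submodule.sup_smul]) ≪≫ₗ
    (Submodule.quotientQuotientEquivQuotientSup _ _).symm ≪≫ₗ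
    Submodule.quotEquivOfEq _ _ (by rw [Submodule.map_smul'', Submodule.map_top, Submodule.range_mkQ])

theorem ofList_eq_span {A : Type u} [CommRing A] (l : List A) :
    Ideal.ofList l = Ideal.span (Set.range fun i : Fin l.length => l[(i : ℕ)]) := by
  rw [Ideal.ofList]
  congr 1
  ext x
  simp [List.mem_iff_getElem, Fin.exists_iff]


/-- Let A be a semi-local Noetherian ring with Jacobson radical r, M a nonzero finitely generated
A-module and x_1, ..., x_k elements of r. One always has dim(M/(x_1 M + ... + x_k M)) ≥ dim(M) - k,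
and equality holds if and only if there exist further elements of r which together with the x_i form
a system of parameters for M (dim(M) elements of r modulo which M has finite length). -/
theorem result (A : Type u) [CommRing A]
    [IsNoetherianRing A] [Finite (MaximalSpectrum A)] (M : Type u) [AddCommGroup M] [Module A M]
    [Module.Finite A M] [Nontrivial M] (xs : List A) (hxs : ∀ x ∈ xs, x ∈ Ring.jacobson A) :
    Module.supportDim A (M ⧸ (Ideal.ofList xs • (⊤ : Submodule A M))) + xs.length = Module.supportDim A M ↔
      ∃ ys : List A, (∀ y ∈ ys, y ∈ Ring.jacobson A) ∧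
        ((xs ++ ys).length : WithBot ℕ∞) = Module.supportDim A M ∧
        IsFiniteLength A (M ⧸ (Ideal.ofList (xs ++ ys) • (⊤ : Submodule A M))) := by
  haveI := Groth.Ega41Dim.isArtinianRing_quotient_of_forall_isMaximal (Ring.jacobson A) Groth.Ega41Dim.isMaximal_of_jacobson_le
  obtain ⟨d, hd⟩ : ∃ d : ℕ, Module.supportDim A M = d := by
    obtain ⟨P, hP⟩ := Groth.Ega41Dim.exists_isHSPoly (Ring.jacobson A) M
    exact ⟨P.natDegree, (Groth.Ega41Dim.natDegree_eq_supportDim Groth.Ega41Dim.isMaximal_of_jacobson_le
      Ideal.jacobson_bot.ge hP).symm⟩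
  set M' := M ⧸ (Ideal.ofList xs • (⊤ : Submodule A M))
  have hge := supportDim_le_add_length xs M hxs
  constructor
  · intro h
    have hne : Module.supportDim A M' ≠ ⊥ := fun hb => by
      rw [hb, WithBot.bot_add, hd] at h
      exact (WithBot.natCast_ne_bot d) h.symm
    haveI : Nontrivial M' := (Module.supportDim_ne_bot_iff_nontrivial A _).mp hne
    obtain ⟨P, hP⟩ := Groth.Ega41Dim.exists_isHSPoly (Ring.jacobson A) M'
    have he := Groth.Ega41Dim.natDegree_eq_supportDim Groth.Ega41Dim.isMaximal_of_jacobson_le Ideal.jacobson_bot.ge hP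
    obtain ⟨y, hy, hfin⟩ := Groth.Ega41Dim.exists_finiteLength_quot_of_supportDim_le (Ring.jacobson A)
      Groth.Ega41Dim.isMaximal_of_jacobson_le Ideal.jacobson_bot.ge P.natDegree M' he.ge
    refine ⟨List.ofFn y, fun z hz => by obtain ⟨i, rfl⟩ := List.mem_ofFn.mp hz; exact hy i, ?_, ?_⟩
    · rw [← h, ← he, List.length_append, List.length_ofFn, Nat.cast_add, add_comm]
    · refine Module.length_ne_top_iff.mp ?_
      rw [(appendEquiv M xs (List.ofFn y)).length_eq,
        show Ideal.ofList (List.ofFn y) = Ideal.span (Set.range y) from by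
          rw [Ideal.ofList]; congr 1; ext z; simp [List.mem_ofFn]]
      exact Module.length_ne_top_iff.mpr hfin
  · rintro ⟨ys, hys, hlen, hfin⟩
    refine le_antisymm ?_ hge
    have h1 : Module.supportDim A M' ≤ (ys.length : WithBot ℕ∞) := by
      refine Groth.Ega41Dim.supportDim_le_of_finiteLength_quot ys.length M' (fun i => ys[(i : ℕ)])
        (fun i => hys _ (List.getElem_mem _)) (Module.length_ne_top_iff.mp ?_)
      rw [← ofList_eq_span, ← (appendEquiv M xs ys).length_eq]
      exact Module.length_ne_top_iff.mpr hfin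
    refine (add_le_add h1 le_rfl).trans_eq ?_
    rw [← hlen, List.length_append, Nat.cast_add, add_comm]

end Groth.Agent.S5768
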