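import Groth.Statements.S5769
import Mathlib.RingTheory.Ideal.KrullsHeightTheorem

set_option autoImplicit false
universe u
open EGA41

namespace Groth.Agent.S5769

/-- Let φ : A → B be a local homomorphism of Noetherian local rings, m the maximal ideal of A and k its
residue field. Then dim(B) ≤ dim(A) + dim(B ⊗_A k), where B ⊗_A k = B/mB. -/
theorem result (A B : Type u) [CommRing A] [CommRing B]
    [IsLocalRing A] [IsLocalRing B] [IsNoetherianRing A] [IsNoetherianRing B] [Algebra A B]
    [IsLocalHom (algebraMap A B)] :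
    ringKrullDim B ≤ ringKrullDim A +
      ringKrullDim (B ⧸ (IsLocalRing.maximalIdeal A).map (algebraMap A B)) := by
  have : (IsLocalRing.maximalIdeal B).LiesOver (IsLocalRing.maximalIdeal A) :=
    ⟨(((IsLocalRing.local_hom_TFAE (algebraMap A B)).out 0 4 rfl rfl).mp inferInstance).symm⟩
  have hle : (IsLocalRing.maximalIdeal A).map (algebraMap A B) ≤ IsLocalRing.maximalIdeal B :=
    Ideal.map_le_iff_le_comap.mpr (Ideal.LiesOver.over (P := IsLocalRing.maximalIdeal B)).le
  have : IsLocalRing (B ⧸ (IsLocalRing.maximalIdeal A).map (algebraMap A B)) :=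
    have : Nontrivial (B ⧸ (IsLocalRing.maximalIdeal A).map (algebraMap A B)) :=
      Ideal.Quotient.nontrivial_iff.mpr fun h =>
        (IsLocalRing.maximalIdeal.isMaximal B).ne_top (top_le_iff.mp (h ▸ hle))
    IsLocalRing.of_surjective' _ Ideal.Quotient.mk_surjective
  have h := Ideal.height_le_height_add_of_liesOver (IsLocalRing.maximalIdeal A) (IsLocalRing.maximalIdeal B)
  rw [IsLocalRing.map_maximalIdeal_of_surjective _ Ideal.Quotient.mk_surjective] at h
  rw [← IsLocalRing.maximalIdeal_height_eq_ringKrullDim, ← IsLocalRing.maximalIdeal_height_eq_ringKrullDim,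
    ← IsLocalRing.maximalIdeal_height_eq_ringKrullDim (R := B ⧸ _), ← WithBot.coe_add, WithBot.coe_le_coe]
  exact h

end Groth.Agent.S5769
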