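import Groth.Statements.S5770
import Groth.Agent.S5769
import Mathlib.RingTheory.Ideal.Quotient.Operations
import Mathlib.RingTheory.Support

set_option autoImplicit false
universe u
open EGA41

namespace Groth.Agent.S5770

open TensorProduct in
/-- Let φ : A → B be a local homomorphism of Noetherian local rings, m the maximal ideal of A, k = A/m,
M a finitely generated A-module and N a finitely generated B-module. Then dim_B(M ⊗_A N) ≤ dim_A(M)
+ dim(N ⊗_A k), the last dimension being that of N/mN (over B ⊗_A k or, equivalently by finiteness,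
over B). -/
theorem result (A B : Type u) [CommRing A] [CommRing B] [IsLocalRing A]
    [IsLocalRing B] [IsNoetherianRing A] [IsNoetherianRing B] [Algebra A B] [IsLocalHom (algebraMap A B)]
    (M : Type u) [AddCommGroup M] [Module A M] [Module.Finite A M] (N : Type u) [AddCommGroup N] [Module B N]
    [Module A N] [IsScalarTower A B N] [Module.Finite B N] :
    Module.supportDim B (N ⊗[A] M) ≤ Module.supportDim A M +
      Module.supportDim B (N ⧸ ((IsLocalRing.maximalIdeal A).map (algebraMap A B) • (⊤ : Submodule B N))) := by
  set T := N ⊗[A] M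
  rcases subsingleton_or_nontrivial M with hM | hM
  · have : Subsingleton T := ⟨fun a b => by
      have hz : ∀ z : T, z = 0 := fun z => by
        induction z using TensorProduct.induction_on with
        | zero => rfl
        | tmul n m => rw [Subsingleton.elim m 0, TensorProduct.tmul_zero]
        | add a b ha hb => rw [ha, hb, add_zero]
      rw [hz a, hz b]⟩
    rw [Module.supportDim_eq_bot_of_subsingleton]; exact bot_le
  rcases subsingleton_or_nontrivial N with hN | hN
  · have : Subsingleton T := ⟨fun a b => by
      have hz : ∀ z : T, z = 0 := fun z => by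
        induction z using TensorProduct.induction_on with
        | zero => rfl
        | tmul n m => rw [Subsingleton.elim n 0, TensorProduct.zero_tmul]
        | add a b ha hb => rw [ha, hb, add_zero]
      rw [hz a, hz b]⟩
    rw [Module.supportDim_eq_bot_of_subsingleton]; exact bot_le
  set I := Module.annihilator A M with hI
  set J := Module.annihilator B N with hJ
  set Q := I.map (algebraMap A B) ⊔ J with hQdef
  have hIle : I ≤ IsLocalRing.maximalIdeal A := IsLocalRing.le_maximalIdeal fun h =>
    not_subsingleton M (Module.annihilator_eq_top_iff.mp h)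
  have hJle : J ≤ IsLocalRing.maximalIdeal B := IsLocalRing.le_maximalIdeal fun h =>
    not_subsingleton N (Module.annihilator_eq_top_iff.mp h)
  have hmB : (IsLocalRing.maximalIdeal A).map (algebraMap A B) ≤ IsLocalRing.maximalIdeal B :=
    ((IsLocalRing.local_hom_TFAE (algebraMap A B)).out 0 2 rfl rfl).mp inferInstance
  have hQann : Q ≤ Module.annihilator B T := by
    refine sup_le (Ideal.map_le_iff_le_comap.mpr fun a ha => ?_) fun b hb => ?_
    · rw [Ideal.mem_comap, Module.mem_annihilator]
      intro z
      induction z using TensorProduct.induction_on with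
      | zero => rw [smul_zero]
      | tmul n m =>
        rw [TensorProduct.smul_tmul', algebraMap_smul, TensorProduct.smul_tmul, Module.mem_annihilator.1 ha,
          TensorProduct.tmul_zero]
      | add a b ha hb => rw [smul_add, ha, hb, add_zero]
    · rw [Module.mem_annihilator]
      intro z
      induction z using TensorProduct.induction_on with
      | zero => rw [smul_zero]
      | tmul n m => rw [TensorProduct.smul_tmul', Module.mem_annihilator.1 hb, TensorProduct.zero_tmul]
      | add a b ha hb => rw [smul_add, ha, hb, add_zero]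
  have h1 : Module.supportDim B T ≤ ringKrullDim (B ⧸ Q) := by
    rw [← Module.supportDim_quotient_eq_ringKrullDim]
    refine Order.krullDim_le_of_strictMono (fun q => ⟨q.1, ?_⟩) fun a b hab => hab
    rw [Module.mem_support_iff_of_finite, Ideal.annihilator_quotient]
    exact hQann.trans (Module.annihilator_le_of_mem_support q.2)
  have hQle : Q ≤ IsLocalRing.maximalIdeal B :=
    sup_le ((Ideal.map_mono hIle).trans hmB) hJle
  have : Nontrivial (B ⧸ Q) := Ideal.Quotient.nontrivial_iff.mpr fun h =>
    (IsLocalRing.maximalIdeal.isMaximal B).ne_top (top_le_iff.mp (h ▸ hQle))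
  have : Nontrivial (A ⧸ I) := Ideal.Quotient.nontrivial_iff.mpr fun h =>
    (IsLocalRing.maximalIdeal.isMaximal A).ne_top (top_le_iff.mp (h ▸ hIle))
  have : IsLocalRing (B ⧸ Q) := IsLocalRing.of_surjective' _ Ideal.Quotient.mk_surjective
  have : IsLocalRing (A ⧸ I) := IsLocalRing.of_surjective' _ Ideal.Quotient.mk_surjective
  letI : Algebra (A ⧸ I) (B ⧸ Q) :=
    (Ideal.quotientMap Q (algebraMap A B) (Ideal.map_le_iff_le_comap.mp le_sup_left)).toAlgebra
  have hcomp : (algebraMap (A ⧸ I) (B ⧸ Q)).comp (Ideal.Quotient.mk I) = (Ideal.Quotient.mk Q).comp (algebraMap A B) :=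
    RingHom.ext fun _ => rfl
  have : IsLocalHom (algebraMap (A ⧸ I) (B ⧸ Q)) := ⟨fun y hy => by
    obtain ⟨a, rfl⟩ := Ideal.Quotient.mk_surjective y
    by_contra hu
    have ha : a ∈ IsLocalRing.maximalIdeal A := (IsLocalRing.mem_maximalIdeal a).mpr fun h => hu (h.map _)
    have hmem : Ideal.Quotient.mk Q (algebraMap A B a) ∈ IsLocalRing.maximalIdeal (B ⧸ Q) := by
      rw [← IsLocalRing.map_maximalIdeal_of_surjective _ Ideal.Quotient.mk_surjective]
      exact Ideal.mem_map_of_mem _ (hmB (Ideal.mem_map_of_mem _ ha))
    exact (IsLocalRing.mem_maximalIdeal _).mp hmem hy⟩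
  have h2 := Groth.Agent.S5769.result (A ⧸ I) (B ⧸ Q)
  rw [← IsLocalRing.map_maximalIdeal_of_surjective (Ideal.Quotient.mk I) Ideal.Quotient.mk_surjective,
    Ideal.map_map, hcomp, ← Ideal.map_map] at h2
  have e := RingEquiv.ringKrullDim (DoubleQuot.quotQuotEquivQuotSup Q ((IsLocalRing.maximalIdeal A).map (algebraMap A B)))
  rw [e, ← Module.supportDim_quotient_eq_ringKrullDim (Q ⊔ (IsLocalRing.maximalIdeal A).map (algebraMap A B))] at h2
  rw [Module.supportDim_eq_ringKrullDim_quotient_annihilator (R := A) (M := M)]
  refine h1.trans (h2.trans (add_le_add le_rfl (le_of_eq ?_)))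
  have hs : Module.support B (B ⧸ (Q ⊔ (IsLocalRing.maximalIdeal A).map (algebraMap A B))) =
      Module.support B (N ⧸ ((IsLocalRing.maximalIdeal A).map (algebraMap A B) • (⊤ : Submodule B N))) := by
    ext q
    rw [Module.support_quotient, Set.mem_inter_iff, Module.mem_support_iff_of_finite,
      Module.mem_support_iff_of_finite, Ideal.annihilator_quotient, PrimeSpectrum.mem_zeroLocus,
      SetLike.coe_subset_coe]
    constructor
    · exact fun h => ⟨(le_sup_right.trans le_sup_left).trans h, le_sup_right.trans h⟩
    · exact fun h => sup_le (sup_le ((Ideal.map_mono hIle).trans h.2) h.1) h.2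
  show Order.krullDim _ = Order.krullDim _
  rw [hs]

end Groth.Agent.S5770
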