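import Groth.Statements.S5771
import Groth.Agent.S5769
import Mathlib.RingTheory.KrullDimension.Regular
import Mathlib.RingTheory.Ideal.KrullsHeightTheorem

set_option autoImplicit false
universe u
open EGA41

namespace Groth.Agent.S5771

/-- Let φ : A → B be a local homomorphism of Noetherian local rings, m the maximal ideal of A, and
suppose mB is an ideal of definition of B (equivalently dim(B/mB) = 0). Then dim(B) ≤ dim(A); if
moreover A is an integral domain and dim(A) = dim(B), then φ is injective. -/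
theorem result (A B : Type u) [CommRing A] [CommRing B]
    [IsLocalRing A] [IsLocalRing B] [IsNoetherianRing A] [IsNoetherianRing B] [Algebra A B]
    [IsLocalHom (algebraMap A B)]
    (hdef : ringKrullDim (B ⧸ (IsLocalRing.maximalIdeal A).map (algebraMap A B)) = 0) :
    ringKrullDim B ≤ ringKrullDim A ∧
      (IsDomain A → ringKrullDim A = ringKrullDim B → Function.Injective (algebraMap A B)) := by
  refine ⟨?_, fun hdom heq => ?_⟩
  · have h := Groth.Agent.S5769.result A B
    rwa [hdef, add_zero] at h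
  rw [injective_iff_map_eq_zero]
  intro x hx
  by_contra hx0
  have hxm : x ∈ IsLocalRing.maximalIdeal A := by
    by_contra hu
    exact not_isUnit_zero (hx ▸ (IsLocalRing.notMem_maximalIdeal.mp hu).map (algebraMap A B))
  have hle : Ideal.span {x} ≤ IsLocalRing.maximalIdeal A := (Ideal.span_singleton_le_iff_mem _).mpr hxm
  have : Nontrivial (A ⧸ Ideal.span {x}) := Ideal.Quotient.nontrivial_iff.mpr fun h =>
    (IsLocalRing.maximalIdeal.isMaximal A).ne_top (top_le_iff.mp (h ▸ hle))
  have : IsLocalRing (A ⧸ Ideal.span {x}) := IsLocalRing.of_surjective' _ Ideal.Quotient.mk_surjective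
  letI : Algebra (A ⧸ Ideal.span {x}) B :=
    (Ideal.Quotient.lift (Ideal.span {x}) (algebraMap A B) fun a ha => by
      obtain ⟨c, rfl⟩ := Ideal.mem_span_singleton.mp ha
      rw [map_mul, hx, zero_mul]).toAlgebra
  have hcomp : (algebraMap (A ⧸ Ideal.span {x}) B).comp (Ideal.Quotient.mk _) = algebraMap A B :=
    RingHom.ext fun _ => rfl
  have : IsLocalHom (algebraMap (A ⧸ Ideal.span {x}) B) := ⟨fun y hy => by
    obtain ⟨a, rfl⟩ := Ideal.Quotient.mk_surjective y
    exact ((isUnit_map_iff (algebraMap A B) a).mp hy).map _⟩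
  have h := Groth.Agent.S5769.result (A ⧸ Ideal.span {x}) B
  rw [← IsLocalRing.map_maximalIdeal_of_surjective (Ideal.Quotient.mk (Ideal.span {x})) Ideal.Quotient.mk_surjective,
    Ideal.map_map, hcomp, hdef, add_zero, ← heq,
    ← ringKrullDim_quotient_span_singleton_succ_eq_ringKrullDim (R := A) (x := x)
      (fun a b hab => mul_left_cancel₀ hx0 hab) hxm] at h
  have hb : ringKrullDim (A ⧸ Ideal.span {x}) ≠ ⊥ := ringKrullDim_ne_bot
  have ht : ringKrullDim (A ⧸ Ideal.span {x}) ≠ ⊤ := ringKrullDim_ne_top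
  obtain ⟨b, hb'⟩ := WithBot.ne_bot_iff_exists.1 hb
  obtain ⟨c, rfl⟩ := ENat.ne_top_iff_exists.1 (fun hbt : b = ⊤ => ht (by rw [← hb', hbt]; rfl))
  rw [← hb'] at h
  norm_cast at h
  omega

end Groth.Agent.S5771
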