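import Groth.Statements.S5772
import Mathlib.RingTheory.Filtration
-- import your own Groth.Agent.* helpers here

set_option autoImplicit false
universe u
open scoped Pointwise
open EGA41

namespace Groth.Agent.S5772

/-- Let A be a Noetherian ring, M a finitely generated A-module and f an element of A. Then f is
M-regular (multiplication by f on M is injective) if and only if f is M-quasi-regular, i.e. the
canonical surjection (M/fM)[T] → gr(M) for the (f)-adic filtration is bijective, which amounts to:
for every k ≥ 0 and x ∈ M, f^k x ∈ f^(k+1) M implies x ∈ fM. -/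
theorem result (A : Type u) [CommRing A] [IsNoetherianRing A] (M : Type u)
    [AddCommGroup M] [Module A M] [Module.Finite A M] (f : A) :
    IsSMulRegular M f ↔
      ∀ (k : ℕ) (x : M), f ^ k • x ∈ f ^ (k + 1) • (⊤ : Submodule A M) → x ∈ f • (⊤ : Submodule A M) := by
  constructor
  · intro h k x hx
    rw [Submodule.mem_smul_pointwise_iff_exists] at hx ⊢
    obtain ⟨y, -, hy⟩ := hx
    refine ⟨y, trivial, ?_⟩
    apply (h.pow k)
    show f ^ k • (f • y) = f ^ k • x
    rw [← mul_smul, ← pow_succ, hy]
  · intro h
    apply IsSMulRegular.of_right_eq_zero_of_smul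
    intro x hx
    have hall : ∀ n : ℕ, x ∈ (Ideal.span {f}) ^ n • (⊤ : Submodule A M) := by
      suffices ∀ n : ℕ, ∀ z : M, f • z = 0 → z ∈ (f ^ n) • (⊤ : Submodule A M) by
        intro n; rw [Ideal.span_singleton_pow, Submodule.ideal_span_singleton_smul]; exact this n x hx
      intro n
      induction n with
      | zero => intro z _; simp
      | succ n ih =>
        intro z hz
        obtain ⟨w, -, rfl⟩ := (Submodule.mem_smul_pointwise_iff_exists _ _ _).mp (ih z hz)
        rw [← mul_smul, ← pow_succ'] at hz
        obtain ⟨v, -, rfl⟩ := (Submodule.mem_smul_pointwise_iff_exists _ _ _).mp (h (n + 1) w (by rw [hz]; exact zero_mem _))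
        rw [← mul_smul, ← pow_succ]
        exact Submodule.smul_mem_pointwise_smul _ _ _ trivial
    obtain ⟨⟨r, hr⟩, hrx⟩ := (Ideal.mem_iInf_smul_pow_eq_bot_iff (Ideal.span {f}) x).mp
      (Submodule.mem_iInf _ |>.mpr hall)
    obtain ⟨a, rfl⟩ := Ideal.mem_span_singleton'.mp hr
    rw [← hrx]
    show (a * f) • x = 0
    rw [mul_smul, hx, smul_zero]

end Groth.Agent.S5772
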