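import Groth.Statements.S5774
import Groth.Agent.EGA41Two.FlatRegularFibre

set_option autoImplicit false
universe u
open EGA41

namespace Groth.Agent.S5774

/-- Let A → B be a local homomorphism of Noetherian local rings, m the maximal ideal of A and k = A/m, M
a finitely generated B-module which is flat over A, and f_1, ..., f_n elements of B whose images g_i
in B ⊗_A k form an (M ⊗_A k)-regular sequence. Then (f_i) is an M-regular sequence and the quotients
M/(f_1 M + ... + f_i M), 0 ≤ i ≤ n, are flat over A. (The f_i are not required to lie in the maximal
ideal of B.) -/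
theorem result (A B : Type u) [CommRing A] [CommRing B]
    [IsLocalRing A] [IsLocalRing B] [IsNoetherianRing A] [IsNoetherianRing B] [Algebra A B]
    [IsLocalHom (algebraMap A B)] (M : Type u) [AddCommGroup M] [Module B M] [Module A M]
    [IsScalarTower A B M] [Module.Finite B M] [Module.Flat A M] (fs : List B)
    (hreg : RingTheory.Sequence.IsWeaklyRegular
      (M ⧸ ((IsLocalRing.maximalIdeal A).map (algebraMap A B) • (⊤ : Submodule B M))) fs) :
    RingTheory.Sequence.IsWeaklyRegular M fs ∧
      ∀ i ≤ fs.length, Module.Flat A (M ⧸ (Ideal.ofList (fs.take i) • (⊤ : Submodule B M))) := by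
  exact Groth.EGA41Two.FlatFibre.weaklyRegular_and_flat fs M hreg

end Groth.Agent.S5774
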