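import Groth.Statements.S5775
import Groth.Agent.EGA41Two.FlatRegularFibre

set_option autoImplicit false
universe u
open EGA41

namespace Groth.Agent.S5775

/-- Let A → B be a local homomorphism of Noetherian local rings, m the maximal ideal of A, M a finitely
generated B-module flat over A and R a B-submodule of M such that M/R is flat over A. Let f_1, ...,
f_n be elements of the maximal ideal of B such that (i) f_i M ⊆ R for all i, (ii) the images of the
f_i form an (M/mM)-regular sequence, and (iii) the submodule f_1 (M/mM) + ... + f_n (M/mM) is the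
image of R in M/mM. Then (f_i) is an M-regular sequence and R = f_1 M + ... + f_n M. -/
theorem result (A B : Type u) [CommRing A] [CommRing B] [IsLocalRing A]
    [IsLocalRing B] [IsNoetherianRing A] [IsNoetherianRing B] [Algebra A B] [IsLocalHom (algebraMap A B)]
    (M : Type u) [AddCommGroup M] [Module B M] [Module A M] [IsScalarTower A B M] [Module.Finite B M]
    [Module.Flat A M] (R : Submodule B M) (hR : Module.Flat A (M ⧸ R)) (fs : List B)
    (hfs : ∀ f ∈ fs, f ∈ IsLocalRing.maximalIdeal B) (h1 : Ideal.ofList fs • (⊤ : Submodule B M) ≤ R)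
    (h2 : RingTheory.Sequence.IsWeaklyRegular
      (M ⧸ ((IsLocalRing.maximalIdeal A).map (algebraMap A B) • (⊤ : Submodule B M))) fs)
    (h3 : Ideal.ofList fs • (⊤ : Submodule B
        (M ⧸ ((IsLocalRing.maximalIdeal A).map (algebraMap A B) • (⊤ : Submodule B M)))) =
      R.map ((IsLocalRing.maximalIdeal A).map (algebraMap A B) • (⊤ : Submodule B M)).mkQ) :
    RingTheory.Sequence.IsWeaklyRegular M fs ∧ R = Ideal.ofList fs • (⊤ : Submodule B M) := by
  haveI := hR
  exact ⟨(Groth.EGA41Two.FlatFibre.weaklyRegular_and_flat fs M h2).1,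
    Groth.EGA41Two.FlatFibre.eq_smul_of_fibre M R (Ideal.ofList fs) h1 h3⟩

end Groth.Agent.S5775
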