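import Groth.Statements.S5778
import Groth.Agent.EGA41Two.GrLength

set_option autoImplicit false
universe u
open EGA41

namespace Groth.Agent.S5778

/-- Let A be a Noetherian local ring with maximal ideal m, residue field k, and let r be the dimension
of the k-vector space m/m². Then A is regular if and only if the canonical surjection of graded
k-algebras from the symmetric algebra of m/m² onto the associated graded ring of A for the m-adic
filtration is bijective. Since that surjection is bijective exactly when source and target have the
same length in every degree, the condition is expressed here as: length_A(A/m^(s+1)) equals the
binomial coefficient C(s+r, r) for every s ≥ 0. -/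
theorem result (A : Type u) [CommRing A] [IsLocalRing A]
    [IsNoetherianRing A] :
    IsRegularLocalRing A ↔
      ∀ s : ℕ, Module.length A (A ⧸ IsLocalRing.maximalIdeal A ^ (s + 1)) =
        ((s + Module.finrank (IsLocalRing.ResidueField A) (IsLocalRing.CotangentSpace A)).choose s : ℕ∞) := by
  exact Groth.EGA41Two.GrLength.regular_iff

end Groth.Agent.S5778
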