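import Groth.Statements.S5780
import Groth.Agent.Ega4Algebra1.RegularLocal

set_option autoImplicit false
universe u
open EGA41

namespace Groth.Agent.S5780

/-- Let A be a Noetherian local ring with maximal ideal m. If every element of m which is not in m² is a
zero divisor in A, then there is a nonzero c in A with c m = 0, i.e. m is an associated prime of A. -/
theorem result (A : Type u) [CommRing A]
    [IsLocalRing A] [IsNoetherianRing A]
    (h : ∀ a ∈ IsLocalRing.maximalIdeal A, a ∉ IsLocalRing.maximalIdeal A ^ 2 → ¬ IsSMulRegular A a) :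
    IsLocalRing.maximalIdeal A ∈ associatedPrimes A A := by
  by_cases hbot : IsLocalRing.maximalIdeal A = ⊥
  · obtain ⟨q, hq⟩ := associatedPrimes.nonempty A A
    exact le_antisymm (IsLocalRing.le_maximalIdeal hq.isPrime.ne_top) (hbot ▸ bot_le) ▸ hq
  by_contra hdepth
  obtain ⟨x, hx, hx2, hxass⟩ := Groth.Ega4Algebra1.exists_mem_notMem_notMem
    (Groth.Ega4Algebra1.maximalIdeal_not_le_sq hbot) (associatedPrimes.finite A A) (fun P hP => hP.isPrime)
    (fun P hP hle => hdepth (le_antisymm hle (IsLocalRing.le_maximalIdeal hP.isPrime.ne_top) ▸ hP))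
  refine h x hx hx2 (fun b c hbc => sub_eq_zero.mp ?_)
  by_contra hne
  have hxz : x ∈ ⋃ p ∈ associatedPrimes A A, (p : Set A) := by
    rw [biUnion_associatedPrimes_eq_compl_nonZeroDivisors]
    intro hnz
    exact hne (hnz.1 _ (by rw [mul_sub]; exact sub_eq_zero.mpr hbc))
  simp only [Set.mem_iUnion, SetLike.mem_coe, exists_prop] at hxz
  obtain ⟨P, hP, hxP⟩ := hxz
  exact hxass P hP hxP

end Groth.Agent.S5780
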