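import Groth.Statements.S5781
import Mathlib.RingTheory.Ideal.Cotangent
import Mathlib.LinearAlgebra.Dual.Lemmas

set_option autoImplicit false
universe u
open EGA41

namespace Groth.Agent.S5781

open scoped Pointwise


/-- Suppose A is a Noetherian local ring whose maximal ideal is m, and take a ∈ m with a ∉ m². Then the
quotient m/am contains a direct summand isomorphic to m/Aa: concretely, one can find A-linear maps f
: m/Aa → m/am and g : m/am → m/Aa such that g ∘ f is the identity. -/
theorem result (A : Type u) [CommRing A] [IsLocalRing A]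
    [IsNoetherianRing A] (a : A) (ha : a ∈ IsLocalRing.maximalIdeal A) (ha2 : a ∉ IsLocalRing.maximalIdeal A ^ 2) :
    ∃ (f : (↥(IsLocalRing.maximalIdeal A) ⧸ Submodule.span A {(⟨a, ha⟩ : ↥(IsLocalRing.maximalIdeal A))}) →ₗ[A]
          QuotSMulTop a ↥(IsLocalRing.maximalIdeal A))
      (g : QuotSMulTop a ↥(IsLocalRing.maximalIdeal A) →ₗ[A]
          (↥(IsLocalRing.maximalIdeal A) ⧸ Submodule.span A {(⟨a, ha⟩ : ↥(IsLocalRing.maximalIdeal A))})),
      g.comp f = LinearMap.id := by
  set m := IsLocalRing.maximalIdeal A with hmdef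
  let am : ↥m := ⟨a, ha⟩
  obtain ⟨ψ, hψ⟩ : ∃ ψ : Module.Dual (IsLocalRing.ResidueField A) (IsLocalRing.CotangentSpace A),
      ψ (m.toCotangent am) = 1 := by
    obtain ⟨ψ, hψ⟩ : ∃ ψ : Module.Dual (IsLocalRing.ResidueField A) (IsLocalRing.CotangentSpace A),
        ψ (m.toCotangent am) ≠ 0 := by
      by_contra! hall
      exact ha2 ((Ideal.toCotangent_eq_zero _ _).mp ((Module.forall_dual_apply_eq_zero_iff _ _).mp hall))
    exact ⟨(ψ (m.toCotangent am))⁻¹ • ψ, by simp [hψ]⟩
  let π : ↥m →ₗ[A] IsLocalRing.ResidueField A := (ψ.restrictScalars A).comp m.toCotangent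
  let i₀ : A →ₗ[A] QuotSMulTop a ↥m := LinearMap.toSpanSingleton A _ (Submodule.Quotient.mk am)
  have hi₀ : m ≤ LinearMap.ker i₀ := fun r hr => by
    rw [LinearMap.mem_ker, LinearMap.toSpanSingleton_apply, ← Submodule.Quotient.mk_smul,
      Submodule.Quotient.mk_eq_zero, Submodule.mem_smul_pointwise_iff_exists]
    exact ⟨⟨r, hr⟩, trivial, Subtype.ext (mul_comm a r)⟩
  let φ : IsLocalRing.ResidueField A →ₗ[A] QuotSMulTop a ↥m := Submodule.liftQ m i₀ hi₀
  let f' : ↥m →ₗ[A] QuotSMulTop a ↥m := Submodule.mkQ _ - φ.comp π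
  have hf' : f' am = 0 := by
    show Submodule.Quotient.mk am - φ (ψ (m.toCotangent am)) = 0
    rw [hψ]
    show Submodule.Quotient.mk am - i₀ 1 = 0
    rw [LinearMap.toSpanSingleton_apply, one_smul, sub_self]
  have hle : a • (⊤ : Submodule A ↥m) ≤ Submodule.span A {am} := by
    intro y hy
    obtain ⟨z, -, rfl⟩ := (Submodule.mem_smul_pointwise_iff_exists _ _ _).mp hy
    exact Submodule.mem_span_singleton.mpr ⟨z, Subtype.ext (mul_comm (z : A) a)⟩
  refine ⟨Submodule.liftQ _ f' ((Submodule.span_singleton_le_iff_mem _ _).mpr hf'), Submodule.factor hle, ?_⟩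
  refine LinearMap.ext fun y => ?_
  obtain ⟨y, rfl⟩ := Submodule.Quotient.mk_surjective _ y
  obtain ⟨r, hr⟩ := IsLocalRing.residue_surjective (π y)
  show Submodule.factor hle (Submodule.Quotient.mk y - φ (π y)) = _
  rw [← hr]
  show Submodule.factor hle (Submodule.Quotient.mk y - i₀ r) = _
  rw [LinearMap.toSpanSingleton_apply, ← Submodule.Quotient.mk_smul, ← Submodule.Quotient.mk_sub]
  show (Submodule.Quotient.mk (y - r • am) : ↥m ⧸ Submodule.span A {am}) = Submodule.Quotient.mk y
  rw [Submodule.Quotient.eq]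
  simpa using Submodule.smul_mem _ r (Submodule.mem_span_singleton_self am)

end Groth.Agent.S5781
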