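import Groth.Statements.S5782
import Groth.Agent.Ega4Algebra1.PdBasic

set_option autoImplicit false
universe u
open CategoryTheory
open EGA41

namespace Groth.Agent.S5782

/-- Let A be a Noetherian local ring with maximal ideal m, E a finitely generated A-module of finite
projective dimension, and a ∈ m an element which is A-regular and E-regular. Then E/aE, as a module
over A/aA, has finite projective dimension at most the projective dimension of E over A. -/
theorem result (A : Type u) [CommRing A] [IsLocalRing A]
    [IsNoetherianRing A] (E : Type u) [AddCommGroup E] [Module A E] [Module.Finite A E]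
    (hfin : projectiveDimension (ModuleCat.of A E) ≠ ⊤) (a : A) (ha : a ∈ IsLocalRing.maximalIdeal A)
    (hA : IsSMulRegular A a) (hE : IsSMulRegular E a) :
    projectiveDimension (ModuleCat.of (A ⧸ Ideal.span {a}) (E ⧸ (Ideal.span {a} • (⊤ : Submodule A E)))) ≤
      projectiveDimension (ModuleCat.of A E) := by
  refine sInf_le_sInf fun n hn i hi => ?_
  have h : Groth.Ega4Algebra1.PdLT A E i := hn i hi
  rcases i with _ | m
  · haveI : Subsingleton E := Groth.Ega4Algebra1.PdLT.zero_iff.mp h
    refine Groth.Ega4Algebra1.PdLT.zero_iff.mpr ?_
    exact Submodule.Quotient.subsingleton_iff.mpr (Subsingleton.elim _ _)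
  · exact Groth.Ega4Algebra1.PdLT.quotient_of_isSMulRegular a hA hE m h

end Groth.Agent.S5782
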