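import Groth.Statements.S5783
import Groth.Agent.S5756
import Groth.Agent.EGA41Two.DimIntegral
import Groth.Agent.FrobLCI.AusBuch
import Groth.Agent.Calg6.CMSop
import Groth.Agent.Ega4Algebra1.RegularLocal

set_option autoImplicit false
universe u
open EGA41

namespace Groth.Agent.S5783

/-- Let A be a regular local ring, B a local ring and ρ : A → B a local homomorphism making B a finitely
generated A-module. Then B is a free A-module if and only if B is a Cohen-Macaulay ring and ρ is
injective (the latter being equivalent to dim(B) = dim(A)). -/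
theorem result (A B : Type u) [CommRing A] [CommRing B]
    [IsRegularLocalRing A] [IsLocalRing B] [Algebra A B] [IsLocalHom (algebraMap A B)] [Module.Finite A B] :
    Module.Free A B ↔ LocCoh.IsCohenMacaulayLocalRing B ∧ Function.Injective (algebraMap A B) := by
  classical
  haveI : IsNoetherianRing B := IsNoetherianRing.of_finite A B
  haveI : Algebra.IsIntegral A B := Algebra.IsIntegral.of_finite A B
  have hAB : LocCoh.depth A B = LocCoh.depth B B := Groth.Agent.S5756.result A B B
  have hA : ringKrullDim A = ((LocCoh.depth A A : ℕ∞) : WithBot ℕ∞) := by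
    rw [← Module.supportDim_self_eq_ringKrullDim]
    exact Groth.Calg6.isCohenMacaulayModule_of_isRegularLocalRing A
  constructor
  · intro hfree
    have hinj : Function.Injective (algebraMap A B) := by
      haveI : FaithfulSMul A B := Module.Free.instFaithfulSMulOfNontrivial A B
      exact FaithfulSMul.algebraMap_injective A B
    refine ⟨{ supportDim_eq_depth := ?_ }, hinj⟩
    rw [Module.supportDim_self_eq_ringKrullDim, ← Groth.EGA41Two.ringKrullDim_eq_of_isIntegral_of_injective hinj, hA,
      ← hAB]
    obtain ⟨k, hk⟩ := Nat.exists_eq_succ_of_ne_zero (fun h0 : Module.finrank A B = 0 => by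
      have := (Module.finBasisOfFinrankEq A B h0).equivFun.toEquiv.subsingleton
      exact not_subsingleton B this)
    congr 1
    rw [← Groth.FrobLCI.depth_pi (R := A) k]
    exact Groth.LocCohBase.idealDepth_congr (Module.finBasisOfFinrankEq A B hk).equivFun.symm
  · rintro ⟨hCM, hinj⟩
    have hdep : LocCoh.depth A B = LocCoh.depth A A := by
      rw [hAB]
      have h1 := hCM.supportDim_eq_depth
      rw [Module.supportDim_self_eq_ringKrullDim, ← Groth.EGA41Two.ringKrullDim_eq_of_isIntegral_of_injective hinj, hA] at h1
      exact (WithBot.coe_inj.mp h1).symm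
    have hex : ∃ e, Groth.Ega4Algebra1.PdLT A B (e + 1) :=
      ⟨_, Groth.Ega4Algebra1.pdLT_of_isRegularLocalRing A _ rfl B⟩
    have h1 := Nat.find_spec hex
    by_cases he : Nat.find hex = 0
    · rw [he] at h1
      haveI : Module.Projective A B := Groth.Ega4Algebra1.PdLT.one_iff.1 h1
      exact Module.free_of_flat_of_isLocalRing
    · exfalso
      have hn : ¬ Groth.Ega4Algebra1.PdLT A B (Nat.find hex) := fun h => by
        obtain ⟨k, hk⟩ := Nat.exists_eq_succ_of_ne_zero he
        exact Nat.find_min hex (m := k) (by omega) (by rwa [hk] at h)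
      have hAus := Groth.FrobLCI.auslander_buchsbaum (Nat.find hex) B h1 hn
      rw [hdep] at hAus
      have hfin : LocCoh.depth A A ≠ ⊤ := Groth.LocCohBase.idealDepth_ne_top
        (Groth.LocCohBase.smul_maximalIdeal_ne_top (R := A) A (IsLocalRing.maximalIdeal.isMaximal A).ne_top)
      obtain ⟨d, hd⟩ := ENat.ne_top_iff_exists.mp hfin
      rw [← hd] at hAus
      norm_cast at hAus
      omega

end Groth.Agent.S5783
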