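import Groth.Statements.S5805
import Groth.Agent.Gorenstein.Regular
import Groth.Agent.Ega4Algebra1.GlobalDim

set_option autoImplicit false
universe u
open CategoryTheory
open EGA41

namespace Groth.Agent.S5805

/-- Let A be a Noetherian local ring with residue field k and n ≥ 0. Then the global dimension of A is
at most n as soon as the projective dimension of the A-module k is at most n: every A-module then
has projective dimension at most n. (The published statement phrases the criterion through the
vanishing of Tor^A_{n+1}(k, k), to which dim.proj_A(k) ≤ n is equivalent for finitely generated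
modules over a Noetherian local ring; this row states the projective-dimension form that the
published proof establishes.) -/
theorem result (A : Type u) [CommRing A] [IsLocalRing A]
    [IsNoetherianRing A] (n : ℕ)
    (hk : HasProjectiveDimensionLT (ModuleCat.of A (IsLocalRing.ResidueField A)) (n + 1)) (M : Type u)
    [AddCommGroup M] [Module A M] : HasProjectiveDimensionLT (ModuleCat.of A M) (n + 1) := by
  have hk' : Groth.Ega4Algebra1.PdLT A (IsLocalRing.ResidueField A) (n + 1) := hk
  have : IsRegularLocalRing A := Groth.Ega4Algebra1.isRegularLocalRing_of_pdLT A (IsLocalRing.ResidueField A)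
    (fun y hy z => by
      rw [Algebra.smul_def, show algebraMap A (IsLocalRing.ResidueField A) y = 0 from
        (IsLocalRing.residue_eq_zero_iff y).mpr hy, zero_mul]) n hk'
  obtain ⟨d, hd, -, hd0, -⟩ := GrothGoren.exists_dim A
    (GrothGoren.exists_injLT_of_regular _ A le_rfl)
  have hA : GrothGoren.InjLT A A (n + 1) := GrothGoren.injLT_of_residueField fun i hi => by
    letI : HasProjectiveDimensionLT (ModuleCat.of A (IsLocalRing.ResidueField A)) (n + 1) := hk
    exact ⟨fun a b => (Abelian.Ext.eq_zero_of_hasProjectiveDimensionLT a (n + 1) hi).trans
      (Abelian.Ext.eq_zero_of_hasProjectiveDimensionLT b (n + 1) hi).symm⟩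
  have hle : d ≤ n := by
    by_contra hc
    exact hd0 (GrothGoren.injLT_mono (by omega) hA)
  letI := Groth.Ega4Algebra1.pdLT_all_of_isRegularLocalRing A d hd (ModuleCat.of A M)
  exact hasProjectiveDimensionLT_of_ge _ (d + 1) _ (by omega)

end Groth.Agent.S5805
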