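import Groth.Statements.S5787
import Groth.Agent.LocCohBase.Depth

set_option autoImplicit false
universe u
open CategoryTheory
open EGA41 CategoryTheory
open scoped Pointwise

namespace Groth.Agent.S5787

open RingTheory.Sequence in
theorem exists_equiv (A : Type u) [CommRing A] (N : Type u) [AddCommGroup N] [Module A N] :
    ∀ (xs : List A) (M : Type u) [AddCommGroup M] [Module A M],
      (∀ x ∈ xs, ∀ n : N, x • n = 0) → IsWeaklyRegular M xs →
      Nonempty ((N →ₗ[A] (M ⧸ (Ideal.ofList xs • (⊤ : Submodule A M)))) ≃+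
        Abelian.Ext (ModuleCat.of A N) (ModuleCat.of A M) xs.length)
  | [], M, _, _, _, _ => by
    let e : (M ⧸ (Ideal.ofList ([] : List A) • (⊤ : Submodule A M))) ≃ₗ[A] M :=
      Submodule.quotEquivOfEqBot _ (by rw [Ideal.ofList_nil, Submodule.bot_smul])
    exact ⟨(LinearEquiv.congrRight e (M := N) (R := A)).toAddEquiv.trans
      ((Abelian.Ext.addEquiv₀ (X := ModuleCat.of A N) (Y := ModuleCat.of A M)).trans ModuleCat.homAddEquiv).symm⟩
  | a :: rs, M, _, _, hk, hreg => by
    rw [isWeaklyRegular_cons_iff] at hreg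
    have hk' : ∀ x ∈ rs, ∀ n : N, x • n = 0 := fun x hx => hk x (List.mem_cons_of_mem _ hx)
    obtain ⟨e⟩ := exists_equiv A N rs (QuotSMulTop a M) hk' hreg.2
    let e0 := (LinearEquiv.congrRight (Submodule.quotOfListConsSMulTopEquivQuotSMulTopInner M a rs) (M := N) (R := A)).toAddEquiv
    have hS := IsSMulRegular.smulShortComplex_shortExact (M := ModuleCat.of A M) hreg.1
    let δ : Abelian.Ext (ModuleCat.of A N) (ModuleCat.of A (QuotSMulTop a M)) rs.length →+
        Abelian.Ext (ModuleCat.of A N) (ModuleCat.of A M) (rs.length + 1) :=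
      hS.extClass.postcomp (ModuleCat.of A N) rfl
    have hvan : Subsingleton (Abelian.Ext (ModuleCat.of A N) (ModuleCat.of A M) rs.length) :=
      Groth.LocCohBase.ext_subsingleton_of_isWeaklyRegular _ _ (a :: rs)
        ((isWeaklyRegular_cons_iff M a rs).mpr hreg)
        (fun r hr => ⟨1, by rw [pow_one, Module.mem_annihilator]; exact hk r hr⟩) _ (by simp)
    have hinj : Function.Injective δ := by
      rw [injective_iff_map_eq_zero]
      intro x hx
      obtain ⟨y, rfl⟩ := Abelian.Ext.covariant_sequence_exact₃ (ModuleCat.of A N) hS x rfl hx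
      haveI : Subsingleton (Abelian.Ext (ModuleCat.of A N) ((ModuleCat.of A M).smulShortComplex a).X₂ rs.length) := hvan
      rw [Subsingleton.elim y 0, Abelian.Ext.zero_comp]
      rfl
    have hsurj : Function.Surjective δ := fun x => by
      refine Abelian.Ext.covariant_sequence_exact₁ (ModuleCat.of A N) hS x ?_ rfl
      have hN' : a • 𝟙 (ModuleCat.of A N) = 0 := by ext z; exact hk a List.mem_cons_self z
      have h1 : a • x = 0 := by
        have : a • x = (Abelian.Ext.mk₀ (a • 𝟙 (ModuleCat.of A N))).comp x (zero_add _) := by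
          simp [Abelian.Ext.mk₀_smul]
        rw [this, hN', Abelian.Ext.mk₀_zero, Abelian.Ext.zero_comp]
      rw [Abelian.Ext.smul_eq_comp_mk₀] at h1
      rw [ModuleCat.smulShortComplex_f_eq_smul_id]
      exact h1
    exact ⟨e0.trans (e.trans (AddEquiv.ofBijective δ ⟨hinj, hsurj⟩))⟩


/-- Let A be a Noetherian local ring with maximal ideal m and residue field k, M an A-module and
(x_i)_{1 ≤ i ≤ n} an M-regular sequence of elements of m. Then Hom_A(k, M/(x_1 M + ... + x_n M)) and
Ext^n_A(k, M) are isomorphic (existence of an isomorphism; stated for the underlying abelian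
groups). -/
theorem result (A : Type u) [CommRing A] [IsLocalRing A]
    [IsNoetherianRing A] (M : Type u) [AddCommGroup M] [Module A M] (xs : List A)
    (hxs : ∀ x ∈ xs, x ∈ IsLocalRing.maximalIdeal A) (hreg : RingTheory.Sequence.IsWeaklyRegular M xs) :
    Nonempty ((IsLocalRing.ResidueField A →ₗ[A] (M ⧸ (Ideal.ofList xs • (⊤ : Submodule A M)))) ≃+
      Abelian.Ext (ModuleCat.of A (IsLocalRing.ResidueField A)) (ModuleCat.of A M) xs.length) := by
  exact exists_equiv A (IsLocalRing.ResidueField A) xs M (fun x hx z => by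
    obtain ⟨b, rfl⟩ := IsLocalRing.residue_surjective z
    rw [Algebra.smul_def]
    show IsLocalRing.residue A x * IsLocalRing.residue A b = 0
    rw [(IsLocalRing.residue_eq_zero_iff x).mpr (hxs x hx), zero_mul]) hreg

end Groth.Agent.S5787
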