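import Groth.Statements.S5789
import Groth.Agent.Ega4Algebra1.PdBasic
import Groth.Agent.Gorenstein.InjDim

set_option autoImplicit false
universe u
open CategoryTheory
open EGA41 CategoryTheory Abelian

namespace Groth.Agent.S5789

theorem ext_finite_eq_zero (A : Type u) [CommRing A] (M : Type u) [AddCommGroup M] [Module A M] (n : ℕ)
    (h : ∀ I : Ideal A, Subsingleton (Ext (ModuleCat.of A M) (ModuleCat.of A (A ⧸ I)) n)) :
    ∀ (k : ℕ) (N : Type u) [AddCommGroup N] [Module A N] (v : Fin k → N),
      Submodule.span A (Set.range v) = ⊤ → GrothGoren.ExtZ A M N n := by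
  intro k
  induction k with
  | zero =>
    intro N _ _ v hv
    haveI : Subsingleton N := by
      rw [Set.range_eq_empty, Submodule.span_empty] at hv
      exact (Submodule.subsingleton_iff A).mp (subsingleton_of_bot_eq_top hv)
    refine GrothGoren.extZ_of_equiv ?_ (h ⊤)
    exact LinearEquiv.ofSubsingleton (R := A) _ _
  | succ k ih =>
    intro N _ _ v hv
    let N' := Submodule.span A (Set.range (v ∘ Fin.castSucc))
    have h1 : GrothGoren.ExtZ A M N' n := by
      refine ih N' (fun i => ⟨v i.castSucc, Submodule.subset_span ⟨i, rfl⟩⟩) ?_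
      apply Submodule.map_injective_of_injective N'.injective_subtype
      rw [Submodule.map_span, Submodule.map_top, Submodule.range_subtype, ← Set.range_comp]
      rfl
    let f := N'.mkQ.comp (LinearMap.toSpanSingleton A N (v (Fin.last k)))
    have hf : Function.Surjective f := by
      rw [← LinearMap.range_eq_top, LinearMap.range_comp, LinearMap.range_toSpanSingleton, eq_top_iff,
        ← Submodule.range_mkQ, ← Submodule.map_top, ← hv, Submodule.map_le_iff_le_comap, Submodule.span_le]
      rintro _ ⟨i, rfl⟩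
      refine Fin.lastCases ?_ (fun j => ?_) i
      · exact Submodule.mem_map_of_mem (Submodule.mem_span_singleton_self _)
      · rw [SetLike.mem_coe, Submodule.mem_comap]
        rw [show N'.mkQ (v j.castSucc) = 0 from (Submodule.Quotient.mk_eq_zero _).mpr (Submodule.subset_span ⟨j, rfl⟩)]
        exact zero_mem _
    have h3 : GrothGoren.ExtZ A M (N ⧸ N') n :=
      GrothGoren.extZ_of_equiv (f.quotKerEquivOfSurjective hf) (h (LinearMap.ker f))
    exact GrothGoren.extZ_mid (f := N'.subtype) (g := N'.mkQ) (LinearMap.exact_subtype_mkQ N')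
      N'.injective_subtype N'.mkQ_surjective h1 h3

theorem pdLT_of_ext (A : Type u) [CommRing A] [IsNoetherianRing A] (n : ℕ) :
    ∀ (M : Type u) [AddCommGroup M] [Module A M] [Module.Finite A M],
      (∀ (N : Type u) [AddCommGroup N] [Module A N] [Module.Finite A N], GrothGoren.ExtZ A M N (n + 1)) →
      Groth.Ega4Algebra1.PdLT A M (n + 1) := by
  induction n with
  | zero =>
    intro M _ _ _ h
    obtain ⟨k, g, hg⟩ := Groth.Ega4Algebra1.exists_surjective_fin A M
    have hS := LinearMap.shortExact_shortComplexKer hg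
    obtain ⟨x, hx⟩ := Ext.contravariant_sequence_exact₁ hS (ModuleCat.of A (LinearMap.ker g))
      (Ext.mk₀ (ModuleCat.ofHom (LinearMap.id : LinearMap.ker g →ₗ[A] LinearMap.ker g))) (rfl : 1 + 0 = 1)
      (Subsingleton.elim (h := h (LinearMap.ker g)) _ _)
    obtain ⟨φ, rfl⟩ := (Ext.mk₀_bijective _ _).2 x
    rw [Ext.mk₀_comp_mk₀, (Ext.mk₀_bijective _ _).1.eq_iff] at hx
    have hφ : φ.hom ∘ₗ (LinearMap.ker g).subtype = LinearMap.id := congrArg ModuleCat.Hom.hom hx
    rw [Groth.Ega4Algebra1.PdLT.one_iff]
    obtain ⟨s, hs⟩ : ∃ s : M →ₗ[A] (Fin k → A), g ∘ₗ s = LinearMap.id := by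
      have hker : LinearMap.ker g ≤ LinearMap.ker (LinearMap.id - (LinearMap.ker g).subtype ∘ₗ φ.hom) := fun z hz => by
        have h2 : φ.hom z = ⟨z, hz⟩ := LinearMap.congr_fun hφ ⟨z, hz⟩
        simp [h2]
      refine ⟨(LinearMap.ker g).liftQ _ hker ∘ₗ (g.quotKerEquivOfSurjective hg).symm.toLinearMap, LinearMap.ext fun y => ?_⟩
      obtain ⟨z, rfl⟩ := hg y
      have hz : (g.quotKerEquivOfSurjective hg).symm (g z) = Submodule.Quotient.mk z :=
        (g.quotKerEquivOfSurjective hg).injective (by rw [LinearEquiv.apply_symm_apply]; rfl)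
      simp [hz]
    exact Module.Projective.of_split s g hs
  | succ n ih =>
    intro M _ _ _ h
    obtain ⟨k, g, hg⟩ := Groth.Ega4Algebra1.exists_surjective_fin A M
    rw [Groth.Ega4Algebra1.PdLT.ker_iff g hg n]
    refine ih _ fun N _ _ _ => subsingleton_of_forall_eq 0 fun e => ?_
    have hS := LinearMap.shortExact_shortComplexKer hg
    obtain ⟨x, hx⟩ := Ext.contravariant_sequence_exact₁ hS (ModuleCat.of A N) e
      (Nat.add_comm 1 (n + 1)) (Subsingleton.elim (h := h N) _ _)
    haveI : Projective g.shortComplexKer.X₂ := (IsProjective.iff_projective (Fin k → A)).mp inferInstance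
    rw [← hx, x.eq_zero_of_projective, Ext.comp_zero]


/-- Let A be a Noetherian ring, M a finitely generated A-module and n ≥ 0. Then M has projective
dimension at most n if and only if Ext^(n+1)_A(M, N) = 0 for every monogenous A-module N, i.e. every
N = A/I with I an ideal. -/
theorem result (A : Type u) [CommRing A] [IsNoetherianRing A]
    (M : Type u) [AddCommGroup M] [Module A M] [Module.Finite A M] (n : ℕ) :
    HasProjectiveDimensionLT (ModuleCat.of A M) (n + 1) ↔
      ∀ I : Ideal A, Subsingleton (Abelian.Ext (ModuleCat.of A M) (ModuleCat.of A (A ⧸ I)) (n + 1)) := by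
  refine ⟨fun h I => subsingleton_of_forall_eq 0 fun e =>
    Ext.eq_zero_of_hasProjectiveDimensionLT e (n + 1) le_rfl, fun h => ?_⟩
  refine pdLT_of_ext A n M fun N _ _ _ => ?_
  obtain ⟨k, v, hv⟩ := Module.Finite.exists_fin (R := A) (M := N)
  exact ext_finite_eq_zero A M (n + 1) h k N v hv

end Groth.Agent.S5789
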