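import Groth.Statements.S5795
import Groth.Agent.SpectralTopology.Dim

set_option autoImplicit false
universe u
open TopDim

namespace Groth.Agent.S5795
open Groth.SpectralTopology Topology TopologicalSpace

/-- Let X be a Noetherian Kolmogoroff space and x a point of X. Then x is isolated in X if and only if
dim_x(X) = 0. -/
theorem result (X : Type u) [TopologicalSpace X]
    [TopologicalSpace.NoetherianSpace X] [T0Space X] (x : X) :
    IsOpen ({x} : Set X) ↔ FlatMor.localDim X x = 0 := by
  constructor
  · intro h
    refine le_antisymm ((localDim_le_of_mem (U := ⟨{x}, h⟩) (x := x) rfl).trans ?_) (localDim_nonneg x)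
    have : Subsingleton ({x} : Set X) := Set.subsingleton_coe _ |>.2 Set.subsingleton_singleton
    exact topologicalKrullDim_zero_of_discreteTopology (X := ({x} : Set X))
  · intro h
    obtain ⟨U, hxU, hU⟩ := exists_localDim_eq x
    have := (finite_discrete_of_dim_nonpos (X := (U : Set X)) (hU.trans h).le).2
    have hopen := U.isOpen.isOpenEmbedding_subtypeVal.isOpenMap {(⟨x, hxU⟩ : (U : Set X))}
      (isOpen_discrete _)
    simpa using hopen

end Groth.Agent.S5795
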