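import Groth.Statements.S5796
import Groth.Agent.SpectralTopology.Dim

set_option autoImplicit false
universe u
open TopDim

namespace Groth.Agent.S5796
open Groth.SpectralTopology Topology TopologicalSpace

/-- For any topological space X, the function x ↦ dim_x(X) is upper semicontinuous on X. -/
theorem result (X : Type u) [TopologicalSpace X] :
    UpperSemicontinuous fun x : X => FlatMor.localDim X x := by
  intro x c hc
  obtain ⟨U, hxU, hU⟩ := exists_localDim_eq x
  filter_upwards [U.isOpen.mem_nhds hxU] with y hy
  exact lt_of_le_of_lt ((localDim_le_of_mem hy).trans hU.le) hc

end Groth.Agent.S5796
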