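import Groth.Statements.S5799
import Groth.Agent.SpectralTopology.Dim

set_option autoImplicit false
universe u
open TopDim

namespace Groth.Agent.S5799
open Groth.SpectralTopology Topology TopologicalSpace

/-- If (X_i) is a locally finite covering of a topological space X by closed subsets, then dim(X) =
sup_i dim(X_i). -/
theorem result (X : Type u) [TopologicalSpace X]
    (ι : Type u) (Y : ι → Set X) (hY : ∀ i, IsClosed (Y i)) (hlf : LocallyFinite Y) (hcov : ⋃ i, Y i = Set.univ) :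
    topologicalKrullDim X = ⨆ i, topologicalKrullDim (Y i) := by
  refine topologicalKrullDim_eq_iSup_of_closed Y fun Z ↦ ?_
  obtain ⟨x, hx⟩ := Z.isIrreducible.nonempty
  obtain ⟨V, hV, hVfin⟩ := hlf x
  obtain ⟨W, hWV, hW, hxW⟩ := mem_nhds_iff.1 hV
  have := hVfin.to_subtype
  obtain ⟨i, hi⟩ := isPreirreducible_subset_iUnion_closed Z.isIrreducible
    (C := fun i : {i | (Y i ∩ V).Nonempty} ↦ Y i) (fun i ↦ hY i) (by
      refine (subset_closure_inter_of_isPreirreducible_of_isOpen Z.isIrreducible.2 hW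
        ⟨x, hx, hxW⟩).trans (closure_minimal ?_ (isClosed_iUnion_of_finite fun i ↦ hY i))
      rintro y ⟨-, hyW⟩
      obtain ⟨i, hi⟩ := Set.mem_iUnion.1 (hcov ▸ Set.mem_univ y : y ∈ ⋃ i, Y i)
      exact Set.mem_iUnion.2 ⟨⟨i, y, hi, hWV hyW⟩, hi⟩)
  exact ⟨i, hi⟩

end Groth.Agent.S5799
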