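import Groth.Statements.S5800
import Groth.Agent.SpectralTopology.Dim

set_option autoImplicit false
universe u
open TopDim

namespace Groth.Agent.S5800
open Groth.SpectralTopology Topology TopologicalSpace

/-- Let X be a topological space, x a point of X and (Y_i) a finite family of closed subsets each
containing x whose union is X. Then dim_x(X) = sup_i dim_x(Y_i). (The published statement lets the
Y_i be closed subsets of a neighbourhood U of x covering U; this row is the case U = X.) -/
theorem result (X : Type u) [TopologicalSpace X] (x : X)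
    (ι : Type u) [Finite ι] (Y : ι → Set X) (hY : ∀ i, IsClosed (Y i)) (hx : ∀ i, x ∈ Y i)
    (hcov : ⋃ i, Y i = Set.univ) :
    FlatMor.localDim X x = ⨆ i, FlatMor.localDim (Y i) ⟨x, hx i⟩ := by
  classical
  apply le_antisymm
  · choose U hxU hU using fun i ↦ exists_localDim_eq (X := Y i) ⟨x, hx i⟩
    choose V hV hVU using fun i ↦ isOpen_induced_iff.1 (U i).isOpen
    let W : TopologicalSpace.Opens X := ⟨⋂ i, V i, isOpen_iInter_of_finite hV⟩
    have hxW : x ∈ W := Set.mem_iInter.2 fun i ↦ by
      have : (⟨x, hx i⟩ : Y i) ∈ Subtype.val ⁻¹' V i := (hVU i).symm ▸ hxU i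
      exact this
    refine (localDim_le_of_mem hxW).trans (topologicalKrullDim_le_iff.2 fun l ↦ ?_)
    obtain ⟨i, hi⟩ := isPreirreducible_subset_iUnion_closed l.last.isIrreducible
      (C := fun i ↦ (Subtype.val ⁻¹' Y i : Set (W : Set X)))
      (fun i ↦ (hY i).preimage continuous_subtype_val)
      (by intro z _; simpa [← Set.preimage_iUnion, hcov] using Set.mem_univ z)
    refine le_trans ?_ ((hU i).le.trans (le_iSup (fun i ↦ FlatMor.localDim (Y i) ⟨x, hx i⟩) i))
    refine (length_le_of_last_subset_range IsInducing.subtypeVal l (by simpa using hi)).trans ?_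
    let g : (Subtype.val ⁻¹' Y i : Set (W : Set X)) → (U i : Set (Y i)) := fun z ↦
      ⟨⟨z.1.1, z.2⟩, (hVU i) ▸ (Set.mem_iInter.1 z.1.2 i : z.1.1 ∈ V i)⟩
    refine IsInducing.topologicalKrullDim_le (f := g) ?_
    refine IsInducing.of_comp (g := fun z : (U i : Set (Y i)) ↦ (z.1.1 : X)) (by fun_prop) (by fun_prop) ?_
    exact (IsInducing.subtypeVal.comp IsInducing.subtypeVal :
      IsInducing fun z : (Subtype.val ⁻¹' Y i : Set (W : Set X)) ↦ (z.1.1 : X))
  · refine iSup_le fun i ↦ le_iInf fun U ↦ ?_
    let V : TopologicalSpace.Opens (Y i) :=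
      ⟨Subtype.val ⁻¹' (U.1 : Set X), U.1.isOpen.preimage continuous_subtype_val⟩
    refine (localDim_le_of_mem (U := V) (x := ⟨x, hx i⟩) U.2).trans ?_
    let g : ↥(V : Set (Y i)) → (U.1 : Set X) := fun z ↦ ⟨z.1.1, z.2⟩
    refine IsInducing.topologicalKrullDim_le (f := g) ?_
    refine IsInducing.of_comp (g := fun z : (U.1 : Set X) ↦ (z.1 : X)) (by fun_prop) (by fun_prop) ?_
    exact (IsInducing.subtypeVal.comp IsInducing.subtypeVal :
      IsInducing fun z : (V : Set (Y i)) ↦ (z.1.1 : X))

end Groth.Agent.S5800
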