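import Groth.Statements.S5801
-- import your own Groth.Agent.* helpers here

set_option autoImplicit false
universe u
open scoped Pointwise
open EGA41

namespace Groth.Agent.S5801

/-- Let A be a ring, M an A-module and f ∈ A, and consider the canonical surjection (M/fM)[T] → gr(M)
for the (f)-adic filtration, whose injectivity says: for all k ≥ 0 and x ∈ M, f^k x ∈ f^(k+1) M
implies x ∈ fM. If f is M-regular this map is bijective; conversely, if it is bijective and M is
separated for the (f)-adic topology (the intersection of the f^k M is zero), then f is M-regular. -/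
theorem result (A : Type u) [CommRing A] (M : Type u)
    [AddCommGroup M] [Module A M] (f : A) :
    (IsSMulRegular M f →
        ∀ (k : ℕ) (x : M), f ^ k • x ∈ f ^ (k + 1) • (⊤ : Submodule A M) → x ∈ f • (⊤ : Submodule A M)) ∧
      ((⨅ k : ℕ, f ^ k • (⊤ : Submodule A M)) = ⊥ →
        (∀ (k : ℕ) (x : M), f ^ k • x ∈ f ^ (k + 1) • (⊤ : Submodule A M) → x ∈ f • (⊤ : Submodule A M)) →
          IsSMulRegular M f) := by
  refine ⟨fun h k x hx => ?_, fun hsep h => ?_⟩
  · rw [Submodule.mem_smul_pointwise_iff_exists] at hx ⊢
    obtain ⟨y, -, hy⟩ := hx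
    refine ⟨y, trivial, ?_⟩
    apply (h.pow k)
    show f ^ k • (f • y) = f ^ k • x
    rw [← mul_smul, ← pow_succ, hy]
  · apply IsSMulRegular.of_right_eq_zero_of_smul
    intro x hx
    suffices hall : ∀ n : ℕ, ∀ z : M, f • z = 0 → z ∈ (f ^ n) • (⊤ : Submodule A M) by
      simpa [hsep] using (Submodule.mem_iInf _).mpr (fun n => hall n x hx)
    intro n
    induction n with
    | zero => intro z _; simp
    | succ n ih =>
      intro z hz
      obtain ⟨w, -, rfl⟩ := (Submodule.mem_smul_pointwise_iff_exists _ _ _).mp (ih z hz)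
      rw [← mul_smul, ← pow_succ'] at hz
      obtain ⟨v, -, rfl⟩ := (Submodule.mem_smul_pointwise_iff_exists _ _ _).mp (h (n + 1) w (by rw [hz]; exact zero_mem _))
      rw [← mul_smul, ← pow_succ]
      exact Submodule.smul_mem_pointwise_smul _ _ _ trivial

end Groth.Agent.S5801
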