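import Groth.Statements.S5806
import Mathlib.RingTheory.Flat.Equalizer
import Mathlib.RingTheory.Flat.Stability

set_option autoImplicit false
universe u
open EGA41

namespace Groth.Agent.S5806

open scoped Pointwise

open RingTheory.Sequence in
theorem key (A B : Type u) [CommRing A] [CommRing B] [Algebra A B] (M : Type u) [AddCommGroup M] [Module B M]
    [Module A M] [IsScalarTower A B M] (I : Ideal B) (x : B)
    (hx : IsSMulRegular (M ⧸ (I • (⊤ : Submodule B M))) x)
    (hflat : Module.Flat A (M ⧸ ((I ⊔ Ideal.span {x}) • (⊤ : Submodule B M))))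
    (A' : Type u) [CommRing A'] [Algebra A A'] :
    Function.Injective (LinearMap.lTensor A'
      (((LinearMap.lsmul B (M ⧸ (I • (⊤ : Submodule B M)))) x).restrictScalars A)) := by
  let p : (M ⧸ (I • (⊤ : Submodule B M))) →ₗ[B] M ⧸ ((I ⊔ Ideal.span {x}) • (⊤ : Submodule B M)) :=
    Submodule.factor (Submodule.smul_mono_left le_sup_left)
  have hp : Function.Surjective p := fun y => by
    obtain ⟨y, rfl⟩ := Submodule.Quotient.mk_surjective _ y
    exact ⟨Submodule.Quotient.mk y, rfl⟩
  refine LinearMap.lTensor_injective_of_exact_of_flat (p.restrictScalars A) hp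
    (((LinearMap.lsmul B (M ⧸ (I • (⊤ : Submodule B M)))) x).restrictScalars A) (fun a b h => hx h) ?_ A'
  intro y
  obtain ⟨y, rfl⟩ := Submodule.Quotient.mk_surjective _ y
  constructor
  · intro hy
    change (Submodule.Quotient.mk y : M ⧸ ((I ⊔ Ideal.span {x}) • (⊤ : Submodule B M))) = 0 at hy
    rw [Submodule.Quotient.mk_eq_zero, Submodule.sup_smul, Submodule.mem_sup] at hy
    obtain ⟨u, hu, w, hw, rfl⟩ := hy
    obtain ⟨z, -, rfl⟩ := Submodule.mem_smul_pointwise_iff_exists _ _ _ |>.mp
      ((Submodule.ideal_span_singleton_smul x (⊤ : Submodule B M)) ▸ hw)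
    refine ⟨Submodule.Quotient.mk z, ?_⟩
    change x • (Submodule.Quotient.mk z : M ⧸ (I • (⊤ : Submodule B M))) = Submodule.Quotient.mk (u + x • z)
    rw [← Submodule.Quotient.mk_smul, Submodule.Quotient.eq]
    simpa using neg_mem hu
  · rintro ⟨z, hz⟩
    obtain ⟨z, rfl⟩ := Submodule.Quotient.mk_surjective _ z
    rw [← hz]
    show (Submodule.Quotient.mk (x • z) : M ⧸ ((I ⊔ Ideal.span {x}) • (⊤ : Submodule B M))) = 0
    rw [Submodule.Quotient.mk_eq_zero]
    exact Submodule.smul_mem_smul (Submodule.mem_sup_right (Ideal.mem_span_singleton_self x)) Submodule.mem_top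


open TensorProduct in
/-- Let A be a ring, B a commutative A-algebra, (f_i)_{1 ≤ i ≤ n} elements of B and M a B-module.
Suppose (f_i) is M-regular and each of the A-modules M/(f_1 M + ... + f_i M), 0 ≤ i ≤ n, is flat.
Then for every ring homomorphism A → A', writing M' = M ⊗_A A' and f'_i = f_i ⊗ 1, the sequence
(f'_i) is M'-regular and the A'-modules M'/(f'_1 M' + ... + f'_{i-1} M') are flat: concretely,
identifying M'/(f'_1 M' + ... + f'_{i-1} M') with A' ⊗_A (M/(f_1 M + ... + f_{i-1} M)),
multiplication by f_i on the latter is injective and the latter is A'-flat, for 1 ≤ i ≤ n. (The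
published hypothesis lists only the flatness of M/(f_1 M + ... + f_{i-1} M) for 1 ≤ i ≤ n, omitting
M/(f_1 M + ... + f_n M); with that omission the case n = 1, A = B = k[t], M = k[t], f_1 = t, A' =
k[t]/(t) fails, since t acts as zero on k ⊗_A M = k, and the published proof uses the flatness of
M/(f_1 M + ... + f_i M) for every i ≤ n; so flatness of all these quotients is assumed here.) -/
theorem result (A B : Type u) [CommRing A]
    [CommRing B] [Algebra A B] (M : Type u) [AddCommGroup M] [Module B M] [Module A M] [IsScalarTower A B M]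
    (fs : List B) (hreg : RingTheory.Sequence.IsWeaklyRegular M fs)
    (hflat : ∀ i : ℕ, i ≤ fs.length → Module.Flat A (M ⧸ (Ideal.ofList (fs.take i) • (⊤ : Submodule B M))))
    (A' : Type u) [CommRing A'] [Algebra A A'] (i : Fin fs.length) :
    Function.Injective (LinearMap.lTensor A'
        (((LinearMap.lsmul B (M ⧸ (Ideal.ofList (fs.take i) • (⊤ : Submodule B M)))) (fs.get i)).restrictScalars A)) ∧
      Module.Flat A' (A' ⊗[A] (M ⧸ (Ideal.ofList (fs.take i) • (⊤ : Submodule B M)))) := by
  have hi := (hflat i.1 i.2.le)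
  refine ⟨key A B M _ _ ?_ ?_ A', inferInstance⟩
  · exact hreg.regular_mod_prev i.1 i.2
  · have h := hflat (i.1 + 1) i.2
    rwa [List.take_succ_eq_append_getElem i.2, Ideal.ofList_append, Ideal.ofList_singleton] at h

end Groth.Agent.S5806
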