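import Groth.Statements.S5807
import Mathlib.RingTheory.RegularLocalRing.Polynomial
import Mathlib.RingTheory.Localization.Ideal
import Mathlib.RingTheory.FiniteType

set_option autoImplicit false
universe u
open EGA41

namespace Groth.Agent.S5807

/-- A localization of a regular ring is regular. -/
theorem isRegularRing_localization (R : Type u) [CommRing R] [IsRegularRing R] (T : Submonoid R) :
    IsRegularRing (Localization T) := by
  haveI : IsNoetherianRing (Localization T) := IsLocalization.isNoetherianRing T _ inferInstance
  refine isRegularRing_iff.mpr fun p hp => ?_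
  haveI := hp
  haveI : IsLocalization.AtPrime (Localization.AtPrime p) (p.comap (algebraMap R (Localization T))) :=
    IsLocalization.isLocalization_isLocalization_atPrime_isLocalization T (Localization.AtPrime p) p
  haveI := IsRegularRing.isRegularLocalRing_localization (p.comap (algebraMap R (Localization T)))
  exact IsRegularLocalRing.of_ringEquiv (IsLocalization.algEquiv (p.comap (algebraMap R (Localization T))).primeCompl
    (Localization.AtPrime (p.comap (algebraMap R (Localization T)))) (Localization.AtPrime p)).toRingEquiv


/-- Let A be a Noetherian ring which is a quotient of a regular ring B, and C an A-algebra of finite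
type. Then every ring of fractions of C is a quotient of a regular ring. -/
theorem result (B A C : Type u) [CommRing B]
    [IsRegularRing B] [CommRing A] (π : B →+* A) (hπ : Function.Surjective π) [CommRing C] [Algebra A C]
    [Algebra.FiniteType A C] (S : Submonoid C) :
    ∃ (R : Type u) (_ : CommRing R) (_ : IsRegularRing R) (f : R →+* Localization S),
      Function.Surjective f := by
  obtain ⟨n, g, hg⟩ := Algebra.FiniteType.iff_quotient_mvPolynomial''.mp (inferInstance : Algebra.FiniteType A C)
  let φ : MvPolynomial (Fin n) B →+* C := g.toRingHom.comp (MvPolynomial.map π)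
  have hφ : Function.Surjective φ := hg.comp (MvPolynomial.map_surjective π hπ)
  let T := S.comap φ
  haveI := isRegularRing_localization (MvPolynomial (Fin n) B) T
  refine ⟨Localization T, inferInstance, inferInstance,
    IsLocalization.map (Localization S) φ (le_refl (S.comap φ) : T ≤ S.comap φ), fun z => ?_⟩
  obtain ⟨c, ⟨s, hs⟩, rfl⟩ := IsLocalization.exists_mk'_eq S z
  obtain ⟨x, rfl⟩ := hφ c
  obtain ⟨y, rfl⟩ := hφ s
  exact ⟨IsLocalization.mk' _ x (⟨y, hs⟩ : T), IsLocalization.map_mk' _ _ _⟩

end Groth.Agent.S5807
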