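import Groth.Statements.S5808
import Groth.Agent.S5768
import Mathlib.RingTheory.Ideal.KrullsHeightTheorem
import Mathlib.RingTheory.KrullDimension.Module

set_option autoImplicit false
universe u
open EGA41

namespace Groth.Agent.S5808

theorem exists_step {A : Type u} [CommRing A] [IsNoetherianRing A] [Finite (MaximalSpectrum A)]
    (a I : Ideal A) (i h : ℕ) (hh : a.height = h) (hi : i < h)
    (hI : ∀ P ∈ I.minimalPrimes, P.height ≤ i) :
    ∃ z : A, z ∈ a ∧ z ∈ Ring.jacobson A ∧ ∀ P ∈ I.minimalPrimes, ¬ P.IsMaximal → z ∉ P := by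
  classical
  let s : Finset (Ideal A) := (I.finite_minimalPrimes_of_isNoetherianRing).toFinset.filter fun P => ¬ P.IsMaximal
  have hs : ∀ P ∈ s, P ∈ I.minimalPrimes ∧ ¬ P.IsMaximal := fun P hP => by simpa [s] using hP
  have hnot : ¬ ((a ⊓ Ring.jacobson A : Ideal A) : Set A) ⊆ ⋃ P ∈ (↑s : Set (Ideal A)), (id P : Ideal A) := by
    rw [Ideal.subset_union_prime (f := id) ⊥ ⊥ fun P hP _ _ => (hs P hP).1.isPrime]
    rintro ⟨P, hP, hle⟩
    obtain ⟨hPm, hPmax⟩ := hs P hP
    rcases hPm.isPrime.inf_le.mp hle with h1 | h1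
    · have h2 := (Ideal.height_mono h1).trans (hI P hPm)
      rw [hh, Nat.cast_le] at h2
      exact absurd hi (not_lt.mpr h2)
    · exact hPmax (Groth.Ega41Dim.isMaximal_of_jacobson_le P hPm.isPrime h1)
  obtain ⟨z, hz, hz'⟩ := Set.not_subset.mp hnot
  refine ⟨z, hz.1, hz.2, fun P hP hmax hzP => hz' ?_⟩
  exact Set.mem_iUnion₂.mpr ⟨P, Finset.mem_coe.mpr (Finset.mem_filter.mpr ⟨Set.Finite.mem_toFinset _ |>.mpr hP, hmax⟩), hzP⟩

theorem height_le_of_mem_minimalPrimes {A : Type u} [CommRing A] [IsNoetherianRing A] {i : ℕ}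
    (x : Fin i → A) {P : Ideal A} (hP : P ∈ (Ideal.span (Set.range x)).minimalPrimes) :
    P.height ≤ i := by
  refine (Ideal.height_le_card_of_mem_minimalPrimes_span (Set.finite_range x) hP).trans ?_
  rw [Nat.cast_le, ← Nat.card_coe_set_eq]
  exact (Finite.card_range_le x).trans_eq (Nat.card_fin i)

theorem exists_seq {A : Type u} [CommRing A] [IsNoetherianRing A] [Finite (MaximalSpectrum A)]
    (a p : Ideal A) [p.IsPrime] (h D : ℕ) (hh : a.height = h) (hp : p.height = h)
    (hD : ringKrullDim A = D) (hhD : h ≤ D) :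
    ∀ i, i ≤ h → ∃ x : Fin i → A, (∀ j, x j ∈ a ∧ x j ∈ Ring.jacobson A) ∧
      (∀ Q : Ideal A, Q.IsPrime → Q ≤ p → Ideal.span (Set.range x) ≤ Q → (i : ℕ∞) ≤ Q.height) ∧
      ∀ s : LTSeries (PrimeSpectrum.zeroLocus (Ideal.span (Set.range x) : Set A)), s.length + i ≤ D := by
  intro i
  induction i with
  | zero =>
    intro _
    refine ⟨Fin.elim0, fun j => j.elim0, fun Q _ _ _ => by simp, fun s => ?_⟩
    have h1 : ((s.map Subtype.val (Subtype.strictMono_coe _)).length : WithBot ℕ∞) ≤ ringKrullDim A :=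
      Order.LTSeries.length_le_krullDim _
    rw [hD, Nat.cast_le] at h1
    simpa using h1
  | succ i ih =>
    intro hi
    obtain ⟨x, hx, hxh, hxd⟩ := ih (by omega)
    have hmin : ∀ P ∈ (Ideal.span (Set.range x)).minimalPrimes, P.height ≤ i :=
      fun P => height_le_of_mem_minimalPrimes x
    obtain ⟨z, hza, hzr, hz⟩ := exists_step a _ i h hh hi hmin
    have hle : Ideal.span (Set.range x) ≤ Ideal.span (Set.range (Fin.snoc x z : Fin (i + 1) → A)) := by
      refine Ideal.span_mono ?_
      rintro _ ⟨j, rfl⟩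
      exact ⟨j.castSucc, by simp⟩
    have hzmem : z ∈ Ideal.span (Set.range (Fin.snoc x z : Fin (i + 1) → A)) :=
      Ideal.subset_span ⟨Fin.last i, by simp⟩
    refine ⟨Fin.snoc x z, ?_, ?_, ?_⟩
    · intro j
      refine Fin.lastCases ?_ (fun j => ?_) j
      · simpa using ⟨hza, hzr⟩
      · simpa using hx j
    · intro Q hQ hQp hxQ
      obtain ⟨P, hP, hPQ⟩ := Ideal.exists_minimalPrimes_le (hle.trans hxQ)
      haveI := hP.isPrime
      have hPi := hxh P hP.isPrime (hPQ.trans hQp) hP.le
      have hPne : P ≠ p := fun he => by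
        have := hmin P hP
        rw [he, hp, Nat.cast_le] at this
        omega
      have hPmax : ¬ P.IsMaximal := fun hm =>
        hPne (hm.eq_of_le (‹p.IsPrime›).ne_top (hPQ.trans hQp))
      have hlt : P < Q := lt_of_le_of_ne hPQ fun he => hz P hP hPmax (he ▸ hxQ hzmem)
      calc ((i + 1 : ℕ) : ℕ∞) = i + 1 := by norm_cast
        _ ≤ P.height + 1 := add_le_add hPi le_rfl
        _ ≤ Q.height := Ideal.height_add_one_le_of_lt_of_isPrime hlt
    · intro s
      obtain ⟨P, hP, hPQ⟩ := Ideal.exists_minimalPrimes_le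
        (hle.trans (fun a ha => s.head.2 ha) : Ideal.span (Set.range x) ≤ s.head.1.asIdeal)
      by_cases hm : P.IsMaximal
      · have h0 : s.length = 0 := by
          by_contra hne
          have hlt : s.head < s.last := by
            have := s.strictMono (show (0 : Fin (s.length + 1)) < Fin.last _ from Nat.pos_of_ne_zero hne)
            exact this
          exact s.last.1.isPrime.ne_top (hm.1.2 _ (lt_of_le_of_lt hPQ hlt))
        omega
      · have hlt : P < s.head.1.asIdeal :=
          lt_of_le_of_ne hPQ fun he => hz P hP hm (he ▸ s.head.2 hzmem)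
        let s' : LTSeries (PrimeSpectrum.zeroLocus (Ideal.span (Set.range x) : Set A)) :=
          s.map (fun q => ⟨q.1, fun a ha => q.2 (hle ha)⟩) (fun q r hqr => hqr)
        have := hxd (s'.cons ⟨⟨P, hP.isPrime⟩, hP.le⟩ hlt)
        simp only [RelSeries.cons_length, s', LTSeries.map_length] at this
        omega

theorem supportDim_quot_le {A : Type u} [CommRing A] (I : Ideal A) (n : ℕ)
    (hs : ∀ s : LTSeries (PrimeSpectrum.zeroLocus (I : Set A)), s.length ≤ n) :
    Module.supportDim A (A ⧸ I) ≤ n := by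
  rw [Module.supportDim, Module.support_eq_zeroLocus, Ideal.annihilator_quotient]
  exact iSup_le fun s => by exact_mod_cast hs s

/-- Let A be a semi-local Noetherian ring with spectrum X and Jacobson radical r, and a an ideal of A
distinct from A with codim(V(a), X) = h > 0 (h is the height of a). Then there exist h elements x_1,
..., x_h of a which are part of a system of parameters of A (so lie in r and can be completed by
elements of r to dim(A) elements generating an ideal modulo which A has finite length) and such that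
codim(V(a), V(x_1 A + ... + x_h A)) = 0, i.e. the image of a in A/(x_1 A + ... + x_h A) has height
0. -/
theorem result (A : Type u) [CommRing A] [IsNoetherianRing A]
    [Finite (MaximalSpectrum A)] (a : Ideal A) (ha : a ≠ ⊤) (h : ℕ) (hh : a.height = h) (hpos : 0 < h) :
    ∃ x : Fin h → A, (∀ i, x i ∈ a) ∧ (∀ i, x i ∈ Ring.jacobson A) ∧
      (∃ ys : List A, (∀ y ∈ ys, y ∈ Ring.jacobson A) ∧
        (((h + ys.length : ℕ) : ℕ∞) : WithBot ℕ∞) = ringKrullDim A ∧
        IsFiniteLength A (A ⧸ (Ideal.span (Set.range x) ⊔ Ideal.ofList ys))) ∧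
      (a.map (Ideal.Quotient.mk (Ideal.span (Set.range x)))).height = 0 := by
  obtain ⟨p, hpp, hap, hp⟩ := Ideal.exists_isPrime_height_eq hh
  haveI : Nontrivial A := ⟨⟨0, 1, fun he => ha ((Ideal.eq_top_iff_one a).mpr (he ▸ a.zero_mem))⟩⟩
  haveI := Groth.Ega41Dim.isArtinianRing_quotient_of_forall_isMaximal (Ring.jacobson A) Groth.Ega41Dim.isMaximal_of_jacobson_le
  obtain ⟨D, hD⟩ : ∃ D : ℕ, ringKrullDim A = D := by
    obtain ⟨P, hP⟩ := Groth.Ega41Dim.exists_isHSPoly (Ring.jacobson A) A
    exact ⟨P.natDegree, (Module.supportDim_self_eq_ringKrullDim (R := A)).symm.trans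
      (Groth.Ega41Dim.natDegree_eq_supportDim Groth.Ega41Dim.isMaximal_of_jacobson_le
        Ideal.jacobson_bot.ge hP).symm⟩
  have hhD : h ≤ D := by
    have := Ideal.height_le_ringKrullDim_of_ne_top ha
    rw [hh, hD] at this
    exact_mod_cast this
  obtain ⟨x, hx, hxh, hxd⟩ := exists_seq a p h D hh hp hD hhD h le_rfl
  have hI : Ideal.ofList (List.ofFn x) = Ideal.span (Set.range x) := by
    rw [Ideal.ofList]; congr 1; ext z; simp [List.mem_ofFn]
  have hxs : ∀ z ∈ List.ofFn x, z ∈ Ring.jacobson A := fun z hz => by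
    obtain ⟨i, rfl⟩ := List.mem_ofFn.mp hz; exact (hx i).2
  have heq : Module.supportDim A (A ⧸ (Ideal.ofList (List.ofFn x) • (⊤ : Submodule A A))) + (List.ofFn x).length =
      Module.supportDim A A := by
    refine le_antisymm ?_ (S5768.supportDim_le_add_length _ A hxs)
    rw [Module.supportDim_eq_of_equiv (Submodule.quotEquivOfEq _ (Ideal.span (Set.range x))
      (by rw [hI, smul_eq_mul, Ideal.mul_top])), Module.supportDim_self_eq_ringKrullDim, hD, List.length_ofFn]
    refine (add_le_add (supportDim_quot_le _ (D - h) fun s => by have := hxd s; omega) le_rfl).trans_eq ?_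
    norm_cast
    omega
  obtain ⟨ys, hys, hlen, hfin⟩ := (S5768.result A A _ hxs).mp heq
  refine ⟨x, fun i => (hx i).1, fun i => (hx i).2, ⟨ys, hys, ?_, ?_⟩, ?_⟩
  · rw [← Module.supportDim_self_eq_ringKrullDim, ← hlen, List.length_append, List.length_ofFn]
    rfl
  · rw [Ideal.ofList_append, hI, smul_eq_mul, Ideal.mul_top] at hfin
    exact hfin
  · have hxp : Ideal.span (Set.range x) ≤ p :=
      Ideal.span_le.mpr (by rintro _ ⟨i, rfl⟩; exact hap (hx i).1)
    set f := Ideal.Quotient.mk (Ideal.span (Set.range x))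
    haveI : (p.map f).IsPrime := Ideal.map_isPrime_of_surjective Ideal.Quotient.mk_surjective
      (by rw [Ideal.mk_ker]; exact hxp)
    refine le_antisymm ((Ideal.height_mono (Ideal.map_mono hap)).trans (Eq.le ?_)) bot_le
    rw [Ideal.height_eq_zero_iff]
    refine ⟨⟨inferInstance, bot_le⟩, fun Q ⟨hQ, _⟩ hle => ?_⟩
    have hcomap : (p.map f).comap f = p := by
      rw [Ideal.comap_map_of_surjective _ Ideal.Quotient.mk_surjective, ← RingHom.ker_eq_comap_bot, Ideal.mk_ker,
        sup_eq_left.mpr hxp]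
    have hqp : Q.comap f ≤ p := (Ideal.comap_mono hle).trans_eq hcomap
    have hxq : Ideal.span (Set.range x) ≤ Q.comap f :=
      (Ideal.mk_ker (I := Ideal.span (Set.range x))).ge.trans (Ideal.comap_mono bot_le)
    have hq := hxh _ (hQ.comap f) hqp hxq
    haveI := hQ.comap f
    rw [← hp] at hq
    rw [← Ideal.eq_of_le_of_height_le (Q.comap f) hqp hq,
      Ideal.map_comap_of_surjective _ Ideal.Quotient.mk_surjective]

end Groth.Agent.S5808
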