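import Groth.Statements.S5809
import Groth.Agent.Ega4Algebra1.PdBasic
import Groth.Agent.Calg6.TorBridge
import Groth.Agent.HTopHyper.HTor.TorKer
import Groth.Agent.S14414
import Mathlib.RingTheory.LocalRing.Module

set_option autoImplicit false
universe u
open CategoryTheory
open EGA41

namespace Groth.Agent.S5809

theorem sufficiency (A : Type u) [CommRing A] [IsLocalRing A] [IsNoetherianRing A] (n : ℕ) :
    ∀ (M : Type u) [AddCommGroup M] [Module A M] [Module.Finite A M],
      Limits.IsZero (((Tor (ModuleCat.{u} A) (n + 1)).obj
          (ModuleCat.of A (IsLocalRing.ResidueField A))).obj (ModuleCat.of A M)) →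
      Groth.Ega4Algebra1.PdLT A M (n + 1) := by
  induction n with
  | zero =>
    intro M _ _ _ h
    obtain ⟨k, g, hg⟩ := Groth.Ega4Algebra1.exists_surjective_fin A M
    have h1 := (Groth.Calg6.torZero_iff_of_presentation (IsLocalRing.ResidueField A) M g hg).mp
      ((Groth.Calg6.isZero_tor_one_iff _ _).mp h)
    haveI : Module.Free A M :=
      Module.free_of_lTensor_residueField_injective (LinearMap.ker g).subtype g hg (LinearMap.exact_subtype_ker_map g) h1
    rw [Groth.Ega4Algebra1.PdLT.one_iff]
    infer_instance
  | succ n ih =>
    intro M _ _ _ h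
    obtain ⟨k, g, hg⟩ := Groth.Ega4Algebra1.exists_surjective_fin A M
    rw [Groth.Ega4Algebra1.PdLT.ker_iff g hg n]
    refine ih _ ?_
    obtain ⟨e⟩ := Groth.HTorLib.tor_shift (H := IsLocalRing.ResidueField A) (N := M)
      (LinearMap.ker g).injective_subtype hg (LinearMap.exact_subtype_ker_map g) n
    exact (e.toModuleIso.isZero_iff).mp h


/-- Let A be a Noetherian local ring with residue field k, M a finitely generated A-module and n ≥ 0.
For M to have projective dimension at most n it is necessary that Tor^A_i(M, k) = 0 for all i > n,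
and it suffices that Tor^A_(n+1)(M, k) = 0. (Tor is written here as the left derived functors of k ⊗
- evaluated at M, i.e. computed from a projective resolution of M.) -/
theorem result (A : Type u) [CommRing A] [IsLocalRing A]
    [IsNoetherianRing A] (M : Type u) [AddCommGroup M] [Module A M] [Module.Finite A M] (n : ℕ) :
    (HasProjectiveDimensionLT (ModuleCat.of A M) (n + 1) →
        ∀ i : ℕ, n < i → Limits.IsZero (((Tor (ModuleCat.{u} A) i).obj
          (ModuleCat.of A (IsLocalRing.ResidueField A))).obj (ModuleCat.of A M))) ∧
      (Limits.IsZero (((Tor (ModuleCat.{u} A) (n + 1)).obj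
          (ModuleCat.of A (IsLocalRing.ResidueField A))).obj (ModuleCat.of A M)) →
        HasProjectiveDimensionLT (ModuleCat.of A M) (n + 1)) := by
  refine ⟨fun h i hi => ?_, fun h => sufficiency A n M h⟩
  haveI : HasProjectiveDimensionLE (ModuleCat.of A M) n := h
  exact Groth.Agent.S14414.result A (ModuleCat.of A (IsLocalRing.ResidueField A)) (ModuleCat.of A M) n i hi

end Groth.Agent.S5809
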