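import Groth.Statements.S5810
import Groth.Agent.Ega4Algebra2.DepthFlat
import Groth.Agent.Calg1.Completion
import Mathlib.RingTheory.AdicCompletion.LocalRing

set_option autoImplicit false
universe u
open EGA41

namespace Groth.Agent.S5810

open IsLocalRing in
/-- A nonzero module killed by the maximal ideal has depth zero. -/
theorem depth_eq_zero_of_smul_eq_bot (B : Type u) [CommRing B] [IsLocalRing B] [IsNoetherianRing B] (P : Type u)
    [AddCommGroup P] [Module B P] [Module.Finite B P] [Nontrivial P]
    (hP : maximalIdeal B ≤ Module.annihilator B P) : LocCoh.depth B P = 0 := by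
  have h : ¬ (1 : ℕ∞) ≤ LocCoh.depth B P := by
    rw [Groth.Ega4b.one_le_depth_iff, not_not]
    obtain ⟨q, hq⟩ := associatedPrimes.nonempty B P
    have hle : maximalIdeal B ≤ q := (hP.trans (le_of_eq Submodule.annihilator_top.symm)).trans
      (IsAssociatedPrime.annihilator_le hq)
    rwa [(maximalIdeal.isMaximal B).eq_of_le (IsAssociatedPrime.isPrime hq).ne_top hle]
  exact Order.lt_one_iff.mp (not_le.mp h)


/-- Let A be a Noetherian local ring with maximal ideal m and M a finitely generated A-module; write Â
and M̂ for the m-adic completions. Then prof_A(M) = prof_Â(M̂). -/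
theorem result (A : Type u) [CommRing A] [IsLocalRing A] [IsNoetherianRing A] (M : Type u)
    [AddCommGroup M] [Module A M] [Module.Finite A M] :
    LocCoh.depth (AdicCompletion (IsLocalRing.maximalIdeal A) A) (AdicCompletion (IsLocalRing.maximalIdeal A) M) =
      LocCoh.depth A M := by
  set C := AdicCompletion (IsLocalRing.maximalIdeal A) A
  haveI : IsNoetherianRing C :=
    Groth.Calg1.isNoetherianRing_adicCompletion _ (IsNoetherian.noetherian (IsLocalRing.maximalIdeal A))
  rw [← Groth.Ega4b.depth_congr' (A := C)
      (AdicCompletion.ofTensorProductEquivOfFiniteNoetherian (IsLocalRing.maximalIdeal A) M),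
    Groth.Ega4b.depth_tensor' (S := C) C M]
  have hne : (IsLocalRing.maximalIdeal A).map (algebraMap A C) • (⊤ : Submodule C C) = IsLocalRing.maximalIdeal C := by
    rw [smul_eq_mul, Ideal.mul_top, ← AdicCompletion.maximalIdeal_eq_map]
  haveI : Nontrivial (C ⧸ ((IsLocalRing.maximalIdeal A).map (algebraMap A C) • (⊤ : Submodule C C))) :=
    Submodule.Quotient.nontrivial_iff.mpr (by rw [hne]; exact (IsLocalRing.maximalIdeal.isMaximal C).ne_top)
  rw [depth_eq_zero_of_smul_eq_bot C _ (by
    intro c hc
    rw [Module.mem_annihilator]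
    intro z
    obtain ⟨z, rfl⟩ := Submodule.Quotient.mk_surjective _ z
    rw [← Submodule.Quotient.mk_smul, Submodule.Quotient.mk_eq_zero, hne]
    exact Ideal.mul_mem_right _ _ hc), add_zero]

end Groth.Agent.S5810
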