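import Groth.Statements.S5811
import Groth.Agent.S6284
import Groth.Agent.Calg1.Completion
import Groth.Agent.AdicLinTop.CompletionQuot
import Mathlib.RingTheory.AdicCompletion.AsTensorProduct
import Mathlib.RingTheory.Ideal.KrullsHeightTheorem
import Mathlib.RingTheory.KrullDimension.Module
import Mathlib.RingTheory.Flat.Stability

set_option autoImplicit false
universe u
open EGA41

namespace Groth.Agent.S5811

/-- The dimension of a quotient does not change under completion. -/
theorem ringKrullDim_quotient_completion (A : Type u) [CommRing A] [IsNoetherianRing A] (J : Ideal A)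
    (hJ : J ≤ Ring.jacobson A) (I : Ideal A) :
    ringKrullDim (AdicCompletion J A ⧸ I.map (algebraMap A (AdicCompletion J A))) = ringKrullDim (A ⧸ I) := by
  let C := AdicCompletion J A
  let e := algebraMap A C
  haveI : IsNoetherianRing C := Groth.Calg1.isNoetherianRing_adicCompletion J (IsNoetherian.noetherian J)
  haveI : IsAdicComplete (J.map e) C :=
    Groth.AdicLinTop.CompletionQuot.isAdicComplete_map J (IsNoetherian.noetherian J)
  let R := A ⧸ I
  let S := C ⧸ I.map e
  haveI : Module.Flat R S :=
    Module.Flat.of_linearEquiv ((Algebra.TensorProduct.quotIdealMapEquivQuotTensor C I).toLinearEquiv)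
  -- maximal ideals correspond
  have hmax : ∀ M : Ideal S, M.IsMaximal → (M.comap (algebraMap R S)).IsMaximal ∧
      (M.comap (algebraMap R S)).map (algebraMap R S) = M := by
    intro M hM
    set M' : Ideal C := M.comap (Ideal.Quotient.mk (I.map e)) with hM'
    haveI : M'.IsMaximal := Ideal.comap_isMaximal_of_surjective _ Ideal.Quotient.mk_surjective
    have hJM : J.map e ≤ M' :=
      (IsAdicComplete.le_jacobson_bot (J.map e)).trans (sInf_le ⟨bot_le, ‹M'.IsMaximal›⟩)
    have hred : ∀ x : C, ∃ r : A, x - e r ∈ J.map e := fun x => by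
      obtain ⟨r, hr⟩ := Ideal.Quotient.mk_surjective (AdicCompletion.evalₐ J 1 x)
      refine ⟨r, ?_⟩
      rw [← pow_one (J.map e), ← Groth.AdicLinTop.CompletionQuot.ker_evalₐ J (IsNoetherian.noetherian J) 1,
        RingHom.mem_ker, map_sub, sub_eq_zero]
      exact hr.symm.trans (Groth.AdicLinTop.CompletionQuot.evalₐ_algebraMap J 1 r).symm
    have hsurj : Function.Surjective ((Ideal.Quotient.mk M).comp (algebraMap R S)) := fun y => by
      obtain ⟨z, rfl⟩ := Ideal.Quotient.mk_surjective y
      obtain ⟨x, rfl⟩ := Ideal.Quotient.mk_surjective z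
      obtain ⟨r, hr⟩ := hred x
      refine ⟨Ideal.Quotient.mk I r, (Ideal.Quotient.eq.mpr ?_).symm⟩
      exact (map_sub (Ideal.Quotient.mk (I.map e)) x (e r)) ▸ hJM hr
    haveI hm : (M.comap (algebraMap R S)).IsMaximal := by
      letI : Field (S ⧸ M) := Ideal.Quotient.field M
      have := RingHom.ker_isMaximal_of_surjective _ hsurj
      rwa [← RingHom.comap_ker, Ideal.mk_ker] at this
    refine ⟨hm, le_antisymm Ideal.map_comap_le fun z hz => ?_⟩
    obtain ⟨x, rfl⟩ := Ideal.Quotient.mk_surjective z
    obtain ⟨r, hr⟩ := hred x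
    have hJmem : Ideal.Quotient.mk (I.map e) (x - e r) ∈ (M.comap (algebraMap R S)).map (algebraMap R S) := by
      have hle : J.map ((Ideal.Quotient.mk (I.map e)).comp e) ≤ (M.comap (algebraMap R S)).map (algebraMap R S) := by
        rw [show (Ideal.Quotient.mk (I.map e)).comp e = (algebraMap R S).comp (Ideal.Quotient.mk I) from rfl,
          ← Ideal.map_map]
        refine Ideal.map_mono (Ideal.map_le_iff_le_comap.mpr fun j hj => ?_)
        exact hJM (Ideal.mem_map_of_mem e hj)
      rw [← Ideal.map_map] at hle
      exact hle (Ideal.mem_map_of_mem _ hr)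
    rw [show Ideal.Quotient.mk (I.map e) x = Ideal.Quotient.mk (I.map e) (x - e r) +
      algebraMap R S (Ideal.Quotient.mk I r) from by rw [map_sub]; exact (sub_add_cancel _ _).symm]
    refine add_mem hJmem (Ideal.mem_map_of_mem _ ?_)
    show algebraMap R S (Ideal.Quotient.mk I r) ∈ M
    rw [show algebraMap R S (Ideal.Quotient.mk I r) =
      Ideal.Quotient.mk (I.map e) x - Ideal.Quotient.mk (I.map e) (x - e r) from by
        rw [map_sub, sub_sub_cancel]; rfl]
    exact sub_mem hz (hJM hr)
  have hht : ∀ M : Ideal S, M.IsMaximal → M.height = (M.comap (algebraMap R S)).height := by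
    intro M hM
    obtain ⟨hm, hMm⟩ := hmax M hM
    haveI : M.LiesOver (M.comap (algebraMap R S)) := ⟨rfl⟩
    rw [Ideal.height_eq_height_add_of_liesOver_of_hasGoingDown (M.comap (algebraMap R S)) M, hMm,
      Ideal.map_quotient_self]
    haveI : Nontrivial (S ⧸ M) := Ideal.Quotient.nontrivial_iff.mpr hM.ne_top
    rw [Ideal.height_bot, add_zero]
  refine le_antisymm ((ringKrullDim_le_iff_isMaximal_height_le _).mpr fun M hM => ?_)
    ((ringKrullDim_le_iff_isMaximal_height_le _).mpr fun m hm => ?_)
  · rw [hht M hM]
    exact Ideal.height_le_ringKrullDim_of_ne_top (hmax M hM).1.ne_top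
  · -- every maximal ideal of the quotient is hit
    let m' : Ideal A := m.comap (Ideal.Quotient.mk I)
    haveI hm' : m'.IsMaximal := Ideal.comap_isMaximal_of_surjective _ Ideal.Quotient.mk_surjective
    have hJm : J ≤ m' := hJ.trans (Ring.jacobson_le_of_isMaximal m')
    let χ : C →+* A ⧸ m' := (Ideal.Quotient.factor (show J ^ 1 ≤ m' by rwa [pow_one])).comp
      (AdicCompletion.evalₐ J 1).toRingHom
    have hχ : ∀ a, χ (e a) = Ideal.Quotient.mk m' a := fun a => by
      show Ideal.Quotient.factor (show J ^ 1 ≤ m' by rwa [pow_one]) (AdicCompletion.evalₐ J 1 (e a)) = _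
      rw [Groth.AdicLinTop.CompletionQuot.evalₐ_algebraMap]
      rfl
    have hI : I.map e ≤ RingHom.ker χ := Ideal.map_le_iff_le_comap.mpr fun a ha => by
      show χ (e a) = 0
      rw [hχ, Ideal.Quotient.eq_zero_iff_mem]
      show Ideal.Quotient.mk I a ∈ m
      rw [Ideal.Quotient.eq_zero_iff_mem.mpr ha]
      exact zero_mem _
    let χ' : S →+* A ⧸ m' := Ideal.Quotient.lift (I.map e) χ hI
    letI : Field (A ⧸ m') := Ideal.Quotient.field m'
    have hM : (RingHom.ker χ').IsMaximal := RingHom.ker_isMaximal_of_surjective χ' fun y => by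
      obtain ⟨a, rfl⟩ := Ideal.Quotient.mk_surjective y
      exact ⟨Ideal.Quotient.mk _ (e a), hχ a⟩
    have hc : (RingHom.ker χ').comap (algebraMap R S) = m := by
      refine ((hmax _ hM).1.eq_of_le hm.ne_top fun z hz => ?_)
      obtain ⟨a, rfl⟩ := Ideal.Quotient.mk_surjective z
      replace hz : χ (e a) = 0 := hz
      rw [hχ, Ideal.Quotient.eq_zero_iff_mem] at hz
      exact hz
    rw [← hc, ← hht _ hM]
    exact Ideal.height_le_ringKrullDim_of_ne_top hM.ne_top


/-- Let A be a semi-local Noetherian ring (finitely many maximal ideals) with Jacobson radical r, M a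
finitely generated A-module, and write Â and M̂ for the r-adic completions of A and M. Then
dim_Â(M̂) = dim_A(M), the dimension of a module being the Krull dimension of its support. (For M = 0
both sides are ⊥.) -/
theorem result (A : Type u) [CommRing A] [IsNoetherianRing A]
    [Finite (MaximalSpectrum A)] (M : Type u) [AddCommGroup M] [Module A M] [Module.Finite A M] :
    Module.supportDim (AdicCompletion (Ring.jacobson A) A) (AdicCompletion (Ring.jacobson A) M) =
      Module.supportDim A M := by
  set C := AdicCompletion (Ring.jacobson A) A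
  rw [← Module.supportDim_eq_of_equiv (AdicCompletion.ofTensorProductEquivOfFiniteNoetherian (Ring.jacobson A) M),
    Module.supportDim_eq_ringKrullDim_quotient_annihilator (R := A) (M := M),
    ← ringKrullDim_quotient_completion A (Ring.jacobson A) le_rfl (Module.annihilator A M),
    ringKrullDim_quotient]
  unfold Module.supportDim
  rw [Groth.Agent.S6284.result, Module.support_eq_zeroLocus, PrimeSpectrum.preimage_comap_zeroLocus,
    ← PrimeSpectrum.zeroLocus_span, Ideal.map]

end Groth.Agent.S5811
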