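import Groth.Statements.S5813
import Mathlib.Tactic.LinearCombination
import Mathlib.Tactic.Abel
-- import your own Groth.Agent.* helpers here

set_option autoImplicit false
universe u
open EGA41

namespace Groth.Agent.S5813

/-- Injectivity, commutative form. Let J be an ideal of the commutative ring B, C = B ⧸ J, M a C-module.
Two B-extensions of C by M whose induced linear maps J/J² → M (obtained from the restriction to J of
the structure map B → E) coincide are equivalent. -/
theorem result {B : Type u} [CommRing B] (J : Ideal B)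
    {M : Type u} [AddCommGroup M] [Module (B ⧸ J) M] [Module B M] [IsScalarTower B (B ⧸ J) M]
    (X Y : Exal.Ext B (B ⧸ J) M) (h : X.conormalMap J = Y.conormalMap J) :
    Nonempty (X.Equiv Y) := by
  classical
  have hJ : ∀ (W : Exal.Ext B (B ⧸ J) M) (x : J), algebraMap B W.E x = W.incl (W.conormalMap J (J.toCotangent x)) :=
    fun W x => (W.incl_kerLift _ (W.proj_algebraMap_eq_zero J x)).symm
  have hrep : ∀ (W : Exal.Ext B (B ⧸ J) M) (e : W.E), ∃ p : B × M, e = algebraMap B W.E p.1 + W.incl p.2 := by
    intro W e
    obtain ⟨b, hb⟩ := Ideal.Quotient.mk_surjective (W.proj e)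
    obtain ⟨z, hz⟩ := (W.isExtension.exact (e - algebraMap B W.E b)).1
      (by rw [map_sub, AlgHom.commutes, ← hb]; exact sub_self _)
    exact ⟨(b, z), by simp [hz]⟩
  choose rep hrep' using hrep X
  have key : ∀ b z b' z', algebraMap B X.E b + X.incl z = algebraMap B X.E b' + X.incl z' →
      algebraMap B Y.E b + Y.incl z = algebraMap B Y.E b' + Y.incl z' := by
    intro b z b' z' he
    have hb : b - b' ∈ J := by
      have h1 := congrArg X.proj he
      rw [map_add, map_add, (X.isExtension.exact _).2 ⟨z, rfl⟩, (X.isExtension.exact _).2 ⟨z', rfl⟩,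
        add_zero, add_zero, AlgHom.commutes, AlgHom.commutes] at h1
      exact Ideal.Quotient.eq.1 h1
    have h2 : X.conormalMap J (J.toCotangent ⟨b - b', hb⟩) + z = z' := by
      apply X.isExtension.incl_injective
      rw [map_add, ← hJ X ⟨b - b', hb⟩, Subtype.coe_mk, map_sub]
      linear_combination he
    rw [← h2, h, map_add, ← hJ Y ⟨b - b', hb⟩, Subtype.coe_mk, map_sub]
    ring
  let φ : X.E → Y.E := fun e => algebraMap B Y.E (rep e).1 + Y.incl (rep e).2
  have hφ : ∀ b z, φ (algebraMap B X.E b + X.incl z) = algebraMap B Y.E b + Y.incl z :=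
    fun b z => key _ _ _ _ (hrep' _).symm
  have hmul : ∀ (W : Exal.Ext B (B ⧸ J) M) b z b' z', (algebraMap B W.E b + W.incl z) * (algebraMap B W.E b' + W.incl z') =
      algebraMap B W.E (b * b') + W.incl (b • z' + b' • z) := by
    intro W b z b' z'
    have h3 : W.incl z * W.incl z' = 0 := by
      rw [W.isExtension.mul_incl, (W.isExtension.exact _).2 ⟨z, rfl⟩, zero_smul, map_zero]
    have h4 : ∀ (c : B) w, algebraMap B W.E c * W.incl w = W.incl (c • w) := fun c w => by
      rw [W.isExtension.mul_incl, AlgHom.commutes, algebraMap_smul]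
    rw [map_add W.incl, ← h4, ← h4, map_mul]
    linear_combination h3
  let f : X.E →ₐ[B] Y.E :=
    { toFun := φ
      map_one' := by rw [show (1 : X.E) = algebraMap B X.E 1 + X.incl 0 by simp, hφ]; simp
      map_mul' := fun e e' => by
        conv_lhs => rw [hrep' e, hrep' e']
        rw [hmul, hφ]
        exact (hmul Y _ _ _ _).symm
      map_zero' := by rw [show (0 : X.E) = algebraMap B X.E 0 + X.incl 0 by simp, hφ]; simp
      map_add' := fun e e' => by
        conv_lhs => rw [hrep' e, hrep' e']
        rw [add_add_add_comm, ← map_add, ← map_add, hφ, map_add, map_add]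
        exact add_add_add_comm _ _ _ _
      commutes' := fun b => by
        rw [show algebraMap B X.E b = algebraMap B X.E b + X.incl 0 by simp, hφ]; simp }
  have hfp : ∀ e, Y.proj (f e) = X.proj e := by
    intro e
    conv_rhs => rw [hrep' e]
    change Y.proj (φ e) = _
    rw [map_add, map_add, (X.isExtension.exact _).2 ⟨_, rfl⟩, (Y.isExtension.exact _).2 ⟨_, rfl⟩,
      AlgHom.commutes, AlgHom.commutes]
  have hfi : ∀ z, f (X.incl z) = Y.incl z := fun z => by
    change φ (X.incl z) = _
    rw [show X.incl z = algebraMap B X.E 0 + X.incl z by simp, hφ]; simp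
  refine ⟨{ toAlgEquiv := AlgEquiv.ofBijective f ⟨?_, ?_⟩, proj_apply := hfp, apply_incl := hfi }⟩
  · rw [injective_iff_map_eq_zero]
    intro e he
    obtain ⟨z, rfl⟩ := (X.isExtension.exact e).1 (by rw [← hfp, he, map_zero])
    rw [hfi, ← map_zero Y.incl] at he
    rw [Y.isExtension.incl_injective he, map_zero]
  · intro y
    obtain ⟨p, rfl⟩ := hrep Y y
    exact ⟨_, hφ p.1 p.2⟩

end Groth.Agent.S5813
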