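import Groth.Statements.S5814
import Mathlib.Tactic.Abel
-- import your own Groth.Agent.* helpers here

set_option autoImplicit false
universe u
open EGA41

namespace Groth.Agent.S5814

/-- Surjectivity, commutative form. Let J be an ideal of the commutative ring B, C = B ⧸ J, M a
C-module. Every linear map w : J/J² → M arises from a B-extension of C by M: there is an extension
whose induced map J/J² → M is w. Together with the injectivity statement this is the canonical
bijection between Hom_C(J/J², M) and the classes of B-extensions of C by M. -/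
theorem result {B : Type u} [CommRing B] (J : Ideal B)
    {M : Type u} [AddCommGroup M] [Module (B ⧸ J) M] [Module B M] [IsScalarTower B (B ⧸ J) M]
    (w : J.Cotangent →ₗ[B] M) :
    ∃ X : Exal.Ext B (B ⧸ J) M, X.conormalMap J = w := by
  classical
  let : Module (B)ᵐᵒᵖ M := Exal.opModule B M
  have : IsCentralScalar B M := Exal.isCentralScalar_opModule B M
  have hJM : ∀ j ∈ J, ∀ m : M, j • m = 0 := fun j hj m => by
    rw [← IsScalarTower.algebraMap_smul (B ⧸ J) j m]
    rw [show algebraMap B (B ⧸ J) j = 0 from Ideal.Quotient.eq_zero_iff_mem.mpr hj, zero_smul]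
  let N : Ideal (TrivSqZeroExt B M) :=
    { carrier := {x | ∃ j : J, x = TrivSqZeroExt.inl (j : B) + TrivSqZeroExt.inr (-(w (J.toCotangent j)))}
      zero_mem' := ⟨0, by simp⟩
      add_mem' := by
        rintro _ _ ⟨j, rfl⟩ ⟨k, rfl⟩
        exact ⟨j + k, by simp only [map_add, Submodule.coe_add, TrivSqZeroExt.inl_add, neg_add_rev,
          TrivSqZeroExt.inr_add]; abel⟩
      smul_mem' := by
        rintro x _ ⟨j, rfl⟩
        refine ⟨x.fst • j, ?_⟩
        apply TrivSqZeroExt.ext
        · simp
        · simp only [smul_eq_mul, TrivSqZeroExt.snd_mul, TrivSqZeroExt.fst_add, TrivSqZeroExt.fst_inl,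
            TrivSqZeroExt.fst_inr, add_zero, TrivSqZeroExt.snd_add, TrivSqZeroExt.snd_inl,
            TrivSqZeroExt.snd_inr, zero_add, op_smul_eq_smul, hJM _ j.2, smul_neg, map_smul, Submodule.coe_smul] }
  let p : TrivSqZeroExt B M →+* B ⧸ J :=
    { toFun := fun x => Ideal.Quotient.mk J x.fst
      map_one' := by simp
      map_mul' := fun x y => by simp
      map_zero' := by simp
      map_add' := fun x y => by simp }
  have hp : ∀ x ∈ N, p x = 0 := by
    rintro _ ⟨j, rfl⟩
    show Ideal.Quotient.mk J _ = 0
    simp [Ideal.Quotient.eq_zero_iff_mem]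
  let q := Ideal.Quotient.mk N
  let algQ : Algebra B (TrivSqZeroExt B M ⧸ N) := (q.comp (TrivSqZeroExt.inlHom B M)).toAlgebra
  let P : (TrivSqZeroExt B M ⧸ N) →ₐ[B] B ⧸ J :=
    { toRingHom := Ideal.Quotient.lift N p hp, commutes' := fun b => rfl }
  let X : Exal.Ext B (B ⧸ J) M :=
    { E := TrivSqZeroExt B M ⧸ N
      algebra := algQ
      proj := P
      incl := q.toAddMonoidHom.comp (TrivSqZeroExt.inrHom B M).toAddMonoidHom
      isExtension :=
        { proj_surjective := fun c => by
            obtain ⟨b, rfl⟩ := Ideal.Quotient.mk_surjective c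
            exact ⟨q (TrivSqZeroExt.inl b), rfl⟩
          incl_injective := fun z z' h => by
            obtain ⟨j, hj⟩ := Ideal.Quotient.eq.mp h
            have h1 := congrArg TrivSqZeroExt.fst hj
            have h2 := congrArg TrivSqZeroExt.snd hj
            simp at h1 h2
            rw [show j = 0 from Subtype.ext h1.symm, map_zero, map_zero, neg_zero, sub_eq_zero] at h2
            exact h2
          exact := fun x => by
            obtain ⟨y, rfl⟩ := Ideal.Quotient.mk_surjective x
            constructor
            · intro h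
              have hb : y.fst ∈ J := Ideal.Quotient.eq_zero_iff_mem.mp h
              refine ⟨y.snd + w (J.toCotangent ⟨y.fst, hb⟩), Ideal.Quotient.eq.mpr ⟨-⟨y.fst, hb⟩, ?_⟩⟩
              apply TrivSqZeroExt.ext <;> simp
            · rintro ⟨z, hz⟩
              show P (Ideal.Quotient.mk N y) = 0
              rw [← hz]
              show Ideal.Quotient.mk J (TrivSqZeroExt.inr z : TrivSqZeroExt B M).fst = 0
              simp
          mul_incl := fun x z => by
            obtain ⟨y, rfl⟩ := Ideal.Quotient.mk_surjective x
            show q y * q (TrivSqZeroExt.inr z) = q (TrivSqZeroExt.inr ((Ideal.Quotient.mk J y.fst) • z))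
            rw [← map_mul]
            congr 1
            apply TrivSqZeroExt.ext
            · simp
            · simp only [TrivSqZeroExt.snd_mul, TrivSqZeroExt.snd_inr, TrivSqZeroExt.fst_inr]
              rw [MulOpposite.op_zero, zero_smul, add_zero]
              exact (algebraMap_smul (B ⧸ J) _ z).symm } }
  refine ⟨X, ?_⟩
  apply LinearMap.ext
  intro c
  obtain ⟨j, rfl⟩ := J.toCotangent_surjective c
  apply X.isExtension.incl_injective
  refine (X.incl_kerLift _ (X.proj_algebraMap_eq_zero J j)).trans (Ideal.Quotient.eq.mpr ⟨j, ?_⟩)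
  apply TrivSqZeroExt.ext <;> simp

end Groth.Agent.S5814
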