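import Groth.Statements.S5815
import Groth.Agent.EGA41Two.LiftExt

set_option autoImplicit false
universe u
open EGA41

namespace Groth.Agent.S5815

/-- Discrete case. A commutative A-algebra B is formally smooth if and only if every A-extension of B by
a B-module L is trivial (has an A-algebra section). A and B are taken in one universe and L ranges
over that universe. (The published statement is for topological rings, with direct-limit classes of
extensions; this row is its discrete case.) -/
theorem result (A B : Type u) [CommRing A] [CommRing B] [Algebra A B] :
    Algebra.FormallySmooth A B ↔
      ∀ (L : Type u) [AddCommGroup L] [Module B L] (X : Exal.Ext A B L), X.IsTrivial := by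
  exact ⟨fun _ L _ _ X => Groth.EGA41Two.isTrivial_of_formallySmooth X,
    Groth.EGA41Two.formallySmooth_of_forall_isTrivial A B⟩

end Groth.Agent.S5815
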