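import Groth.Statements.S5816
import Groth.Agent.EGA41Two.LiftExt

set_option autoImplicit false
universe u
open EGA41

namespace Groth.Agent.S5816

/-- Discrete case. For ring maps Λ → A → B, B is formally smooth over A relative to Λ (square-zero test
ideals) if and only if every A-extension of B by a B-module L which is Λ-trivial is A-trivial. Λ, A,
B are taken in one universe and L ranges over it. (The published statement is for topological rings;
this row is its discrete case.) -/
theorem result (Λ A B : Type u) [CommRing Λ]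
    [CommRing A] [CommRing B] [Algebra Λ A] [Algebra Λ B] [Algebra A B] [IsScalarTower Λ A B] :
    EGA41.IsFormallySmoothRel Λ A B ↔
      ∀ (L : Type u) [AddCommGroup L] [Module B L] (X : Exal.Ext A B L),
        X.IsTrivialOver Λ → X.IsTrivial := by
  constructor
  · intro h L _ _ X hX
    obtain ⟨t, ht⟩ := hX
    let : Algebra Λ X.E := ((algebraMap A X.E).comp (algebraMap Λ A)).toAlgebra
    have : IsScalarTower Λ A X.E := IsScalarTower.of_algebraMap_eq fun _ => rfl
    have hker : ∀ x : X.E, x ∈ RingHom.ker X.proj → ∃ z, X.incl z = x := fun x hx => (X.isExtension.exact x).1 hx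
    let e := Ideal.quotientKerAlgEquivOfSurjective (f := X.proj) X.isExtension.proj_surjective
    obtain ⟨v, hv⟩ := h X.E (RingHom.ker X.proj) (by
      rw [pow_two, eq_bot_iff, Ideal.mul_le]
      intro x hx y hy
      obtain ⟨z, rfl⟩ := hker x hx
      obtain ⟨z', rfl⟩ := hker y hy
      rw [Submodule.mem_bot, X.isExtension.mul_incl, (X.isExtension.exact _).2 ⟨z, rfl⟩, zero_smul, map_zero])
      e.symm.toAlgHom ⟨{ (t.toRingHom : B →+* X.E) with commutes' := fun l => t.commutes l }, by
        ext b
        apply e.injective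
        show e (Ideal.Quotient.mk _ (t b)) = e (e.symm b)
        rw [AlgEquiv.apply_symm_apply]
        exact ht b⟩
    refine ⟨v, fun b => ?_⟩
    have h1 := congrArg e (AlgHom.congr_fun hv b)
    rwa [AlgEquiv.coe_toAlgHom, AlgEquiv.apply_symm_apply] at h1
  · intro h C _ _ _ _ J hJ u₀ hu
    obtain ⟨u, hu⟩ := hu
    refine Groth.EGA41Two.exists_lift_of_isTrivial J hJ u₀ (@h J _ (Groth.EGA41Two.sqZeroModule J hJ u₀)
      (Groth.EGA41Two.liftExt J hJ u₀) ?_)
    exact Groth.EGA41Two.isTrivialOver_liftExt J hJ u₀ Λ u fun b => AlgHom.congr_fun hu b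

end Groth.Agent.S5816
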