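import Groth.Statements.S5817
-- import your own Groth.Agent.* helpers here

set_option autoImplicit false
universe u v
open EGA41
attribute [local instance] Exal.opModule Exal.isCentralScalar_opModule

namespace Groth.Agent.S5817

/-- Commutative rings, exactness at Der_A(B, L). For ring maps A → B → C and a C-module L, the
B-extension of C by L attached to an A-derivation D : B → L (middle ring C ⊕ L, made a B-algebra
through x ↦ (x, D x)) is trivial if and only if D is the composite of B → C with an A-derivation C →
L. -/
theorem result {A : Type u} {B C L : Type v} [CommRing A] [CommRing B] [CommRing C]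
    [Algebra A B] [Algebra B C] [Algebra A C] [IsScalarTower A B C]
    [AddCommGroup L] [Module C L] [Module B L] [IsScalarTower B C L] [Module A L] [IsScalarTower A B L]
    [IsScalarTower A C L]
    (D : Derivation A B L) :
    (Exal.Ext.ofDerivation (C := C) D).IsTrivial ↔
      ∃ D' : Derivation A C L, D'.compAlgebraMap B = D := by
  constructor
  · rintro ⟨s, hs⟩
    have hs1 : ∀ c, TrivSqZeroExt.fst (s c : TrivSqZeroExt C L) = c := hs
    have hB : ∀ b : B, TrivSqZeroExt.snd (s (algebraMap B C b) : TrivSqZeroExt C L) = D b := by
      intro b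
      rw [s.commutes b]
      change TrivSqZeroExt.snd (TrivSqZeroExt.inl (algebraMap B C b) + TrivSqZeroExt.inr (D b) : TrivSqZeroExt C L) = D b
      simp
    have hmul : ∀ c c', TrivSqZeroExt.snd (s (c * c') : TrivSqZeroExt C L) =
        c • TrivSqZeroExt.snd (s c' : TrivSqZeroExt C L) + c' • TrivSqZeroExt.snd (s c : TrivSqZeroExt C L) := by
      intro c c'
      rw [map_mul]
      refine (TrivSqZeroExt.snd_mul (R := C) (M := L) (s c) (s c')).trans ?_
      rw [hs1, hs1]
      rfl
    have hA : ∀ a : A, TrivSqZeroExt.snd (s (algebraMap A C a) : TrivSqZeroExt C L) = 0 := by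
      intro a
      rw [IsScalarTower.algebraMap_apply A B C, hB, Derivation.map_algebraMap]
    refine ⟨Derivation.mk'
      { toFun := fun c => TrivSqZeroExt.snd (s c : TrivSqZeroExt C L)
        map_add' := fun c c' => by rw [map_add]; exact TrivSqZeroExt.snd_add _ _
        map_smul' := fun a c => by
          rw [Algebra.smul_def, hmul, hA, smul_zero, add_zero, algebraMap_smul]; rfl } hmul, ?_⟩
    ext b
    exact hB b
  · rintro ⟨D', hD'⟩
    refine ⟨{ toRingHom := (Exal.Ext.derivationHom (C := C) D' : C →+* TrivSqZeroExt C L), commutes' := fun b => ?_ }, fun c => ?_⟩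
    · change TrivSqZeroExt.inl (algebraMap B C b) + TrivSqZeroExt.inr (D' (algebraMap B C b)) =
        TrivSqZeroExt.inl (algebraMap B C b) + TrivSqZeroExt.inr (D b)
      rw [← hD']; rfl
    · change TrivSqZeroExt.fst (TrivSqZeroExt.inl c + TrivSqZeroExt.inr (D' c)) = c
      simp

end Groth.Agent.S5817
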