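import Groth.Statements.S5819
-- import your own Groth.Agent.* helpers here

set_option autoImplicit false
universe u v
open EGA41

namespace Groth.Agent.S5819

/-- Commutative rings, exactness at Exalcom_A(C, L) on underlying pointed sets. For ring maps A → B → C
and a C-module L, an A-extension Y of C by L pulls back to a trivial A-extension of B if and only if
Y is equivalent to some B-extension of C by L viewed as an A-extension. -/
theorem result {A : Type u} {B C L : Type v} [CommRing A]
    [CommRing B] [CommRing C] [Algebra A B] [Algebra B C] [Algebra A C] [IsScalarTower A B C]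
    [AddCommGroup L] [Module C L] [Module B L] [IsScalarTower B C L]
    (Y : Exal.Ext A C L) :
    (Y.pullback B).IsTrivial ↔
      ∃ X : Exal.Ext B C L, Nonempty ((X.restrictBase A).Equiv Y) := by
  constructor
  · rintro ⟨s, hs⟩
    let φ : B →ₐ[A] Y.E := ((AlgHom.fst A Y.E B).comp (Subalgebra.val (Y.fiberProd B))).comp s
    have hφ : ∀ b, Y.proj (φ b) = algebraMap B C b := fun b =>
      (s b).2.trans (congrArg (algebraMap B C) (hs b))
    let algY : Algebra B Y.E := φ.toRingHom.toAlgebra
    let X : Exal.Ext B C L :=
      { E := Y.E
        algebra := algY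
        proj := { (Y.proj.toRingHom : Y.E →+* C) with commutes' := hφ }
        incl := Y.incl
        isExtension :=
          { proj_surjective := Y.isExtension.proj_surjective
            incl_injective := Y.isExtension.incl_injective
            exact := Y.isExtension.exact
            mul_incl := Y.isExtension.mul_incl } }
    refine ⟨X, ⟨⟨{ (RingEquiv.refl Y.E : (X.restrictBase A).E ≃+* Y.E) with commutes' := fun a => ?_ },
      fun _ => rfl, fun _ => rfl⟩⟩⟩
    show φ (algebraMap A B a) = algebraMap A Y.E a
    exact φ.commutes a
  · rintro ⟨X, ⟨e⟩⟩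
    let φ : B →+* Y.E := (e.toAlgEquiv.toAlgHom.toRingHom : (X.restrictBase A).E →+* Y.E).comp (algebraMap B X.E)
    have hφ : ∀ b, Y.proj (φ b) = algebraMap B C b := fun b => (e.proj_apply _).trans (X.proj.commutes b)
    have hA : ∀ a, φ (algebraMap A B a) = algebraMap A Y.E a := fun a => e.toAlgEquiv.commutes a
    refine ⟨(({ φ with commutes' := hA } : B →ₐ[A] Y.E).prod (AlgHom.id A B)).codRestrict (Y.fiberProd B)
      (fun b => hφ b), fun b => rfl⟩

end Groth.Agent.S5819
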