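import Groth.Statements.S5820
import Groth.Agent.EGA41Two.Exal

set_option autoImplicit false
universe u v
open EGA41
open TensorProduct

namespace Groth.Agent.S5820

/-- For ring maps A → B → C, a C-module L and a B-extension X of C by L with middle ring E which is
A-trivial, there is exactly one C-linear map χ from the imperfection module Υ_{C/B/A} = ker(C ⊗_B
Ω_{B/A} → Ω_{C/A}) to L making the defining square commute, i.e. such that z ↦ 1 ⊗ d(χ z) ∈ C ⊗_E
Ω_{E/A} agrees on Υ_{C/B/A} with the map induced by B → E. This χ is the characteristic homomorphism
of X. (The published statement also asserts that both rows of its diagram are exact; this row states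
only the commutativity of the left square and the existence and uniqueness of χ.) -/
theorem result {A : Type u} {B C L : Type v} [CommRing A] [CommRing B] [CommRing C]
    [Algebra A B] [Algebra B C] [Algebra A C] [IsScalarTower A B C] [AddCommGroup L] [Module C L]
    (X : Exal.Ext B C L) (hX : X.IsTrivialOver A) :
    ∃! χ : ↥(EGA41.imperfection A B C) →ₗ[C] L, X.IsCharHom A χ := by
  let : Module B L := Module.compHom L (algebraMap B C)
  have : IsScalarTower B C L := IsScalarTower.of_algebraMap_smul fun _ _ => rfl
  let : Module A L := Module.compHom L (algebraMap A C)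
  have : IsScalarTower A C L := IsScalarTower.of_algebraMap_smul fun _ _ => rfl
  have : IsScalarTower A B L := IsScalarTower.of_algebraMap_smul fun a z => by
    show algebraMap B C (algebraMap A B a) • z = a • z
    rw [← IsScalarTower.algebraMap_apply, algebraMap_smul]
  obtain ⟨s, hs, ha⟩ := Groth.EGA41Two.exists_section hX
  obtain ⟨D, hD⟩ := Groth.EGA41Two.exists_derivation s hs ha
  refine ⟨(Groth.EGA41Two.phi D).comp (EGA41.imperfection A B C).subtype,
    (Groth.EGA41Two.isCharHom_iff s hs ha D hD _).mpr fun z => rfl, fun χ hχ => ?_⟩
  exact LinearMap.ext fun z => (Groth.EGA41Two.isCharHom_iff s hs ha D hD χ).mp hχ z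

end Groth.Agent.S5820
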