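import Groth.Statements.S5821
import Groth.Agent.EGA41Two.Infinitesimal

set_option autoImplicit false
universe u v
open EGA41
open TensorProduct

namespace Groth.Agent.S5821

/-- For a ring map A → B, an ideal K of B, C = B ⧸ K and the B-extension E = B ⧸ K² of C by K/K², if E
is A-trivial then its characteristic homomorphism Υ_{C/B/A} → K/K² is bijective (stated for every
C-linear χ satisfying the defining square, of which there is exactly one). -/
theorem result {A : Type u} {B : Type v} [CommRing A] [CommRing B] [Algebra A B]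
    (K : Ideal B) (hK : (Exal.Ext.infinitesimal K).IsTrivialOver A)
    (χ : ↥(EGA41.imperfection A B (B ⧸ K)) →ₗ[B ⧸ K] K.Cotangent)
    (hχ : (Exal.Ext.infinitesimal K).IsCharHom A χ) :
    Function.Bijective χ := by
  obtain ⟨s, D, hs, ha, hD, hDK⟩ := Groth.EGA41Two.exists_phi_conormal K hK
  have h := (Groth.EGA41Two.isCharHom_iff s hs ha D hD χ).mp hχ
  constructor
  · rw [injective_iff_map_eq_zero]
    intro z hz
    obtain ⟨k, hk⟩ := (Groth.EGA41Two.mem_imperfection_quotient_iff (A := A) K (z : (B ⧸ K) ⊗[B] Ω[B⁄A])).mp z.2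
    rw [h z, hk, Groth.EGA41Two.phi_one_tmul K hDK] at hz
    exact Subtype.ext (hk.trans (Groth.EGA41Two.one_tmul_D_eq_zero_of_toCotangent_eq_zero K k hz))
  · intro y
    obtain ⟨k, rfl⟩ := K.toCotangent_surjective y
    refine ⟨⟨_, (Groth.EGA41Two.mem_imperfection_quotient_iff K _).mpr ⟨k, rfl⟩⟩, ?_⟩
    rw [h]
    exact Groth.EGA41Two.phi_one_tmul K hDK k

end Groth.Agent.S5821
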