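import Groth.Statements.S5822
import Groth.Agent.EGA41Two.Exal

set_option autoImplicit false
universe u v
open scoped TensorProduct
open EGA41
open TensorProduct

namespace Groth.Agent.S5822

/-- Injectivity. For ring maps A → B → C and a C-module L, assume (i) L is an injective C-module, or
(ii) Υ_{C/B/A} is a direct summand of C ⊗_B Ω_{B/A} and Ω_{C/A} → Ω_{C/B} has a right inverse. Then
two A-trivial B-extensions of C by L with a common characteristic homomorphism are equivalent: the
map from classes of A-trivial extensions to Hom_C(Υ_{C/B/A}, L) is injective. -/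
theorem result {A : Type u} {B C L : Type v} [CommRing A] [CommRing B] [CommRing C]
    [Algebra A B] [Algebra B C] [Algebra A C] [IsScalarTower A B C] [AddCommGroup L] [Module C L]
    (h : Module.Injective C L ∨
      ((∃ r : C ⊗[B] Ω[B⁄A] →ₗ[C] ↥(EGA41.imperfection A B C), ∀ z : ↥(EGA41.imperfection A B C), r z = z) ∧
        ∃ s : Ω[C⁄B] →ₗ[C] Ω[C⁄A], ∀ ω : Ω[C⁄B], KaehlerDifferential.map A B C C (s ω) = ω))
    (X Y : Exal.Ext B C L) (hX : X.IsTrivialOver A) (hY : Y.IsTrivialOver A)
    (χ : ↥(EGA41.imperfection A B C) →ₗ[C] L) (hXχ : X.IsCharHom A χ) (hYχ : Y.IsCharHom A χ) :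
    Nonempty (X.Equiv Y) := by
  let : Module B L := Module.compHom L (algebraMap B C)
  have : IsScalarTower B C L := IsScalarTower.of_algebraMap_smul fun _ _ => rfl
  let : Module A L := Module.compHom L (algebraMap A C)
  have : IsScalarTower A C L := IsScalarTower.of_algebraMap_smul fun _ _ => rfl
  have : IsScalarTower A B L := IsScalarTower.of_algebraMap_smul fun a z => by
    show algebraMap B C (algebraMap A B a) • z = a • z
    rw [← IsScalarTower.algebraMap_apply, algebraMap_smul]
  obtain ⟨s, hs, ha⟩ := Groth.EGA41Two.exists_section hX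
  obtain ⟨D, hD⟩ := Groth.EGA41Two.exists_derivation s hs ha
  obtain ⟨t, ht, ta⟩ := Groth.EGA41Two.exists_section hY
  obtain ⟨D', hD'⟩ := Groth.EGA41Two.exists_derivation t ht ta
  have hX' := (Groth.EGA41Two.isCharHom_iff s hs ha D hD χ).mp hXχ
  have hY' := (Groth.EGA41Two.isCharHom_iff t ht ta D' hD' χ).mp hYχ
  let m := KaehlerDifferential.mapBaseChange A B C
  let d : C ⊗[B] Ω[B⁄A] →ₗ[C] L := Groth.EGA41Two.phi D - Groth.EGA41Two.phi D'
  have hd : LinearMap.ker m ≤ LinearMap.ker d := fun z hz => by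
    show Groth.EGA41Two.phi D z - Groth.EGA41Two.phi D' z = 0
    rw [← hX' ⟨z, hz⟩, ← hY' ⟨z, hz⟩, sub_self]
  let dr : LinearMap.range m →ₗ[C] L := (Submodule.liftQ _ d hd).comp m.quotKerEquivRange.symm.toLinearMap
  have hdr : ∀ z, dr ⟨m z, z, rfl⟩ = d z := fun z => by
    show Submodule.liftQ _ d hd (m.quotKerEquivRange.symm ⟨m z, z, rfl⟩) = d z
    rw [show (⟨m z, z, rfl⟩ : LinearMap.range m) = m.quotKerEquivRange (Submodule.Quotient.mk z) from rfl,
      LinearEquiv.symm_apply_apply]
    rfl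
  obtain ⟨ψ, hψ⟩ : ∃ ψ : Ω[C⁄A] →ₗ[C] L, ∀ z, ψ (m z) = d z := by
    rcases h with h | ⟨-, σ, hσ⟩
    · obtain ⟨ψ, hψ⟩ := h.out (LinearMap.range m).subtype Subtype.val_injective dr
      exact ⟨ψ, fun z => (hψ ⟨m z, z, rfl⟩).trans (hdr z)⟩
    · let q : Ω[C⁄A] →ₗ[C] LinearMap.range m := LinearMap.codRestrict _
        (LinearMap.id - σ.comp (KaehlerDifferential.map A B C C)) fun ω => by
          rw [KaehlerDifferential.range_mapBaseChange]
          simp [hσ]
      refine ⟨dr.comp q, fun z => ?_⟩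
      rw [LinearMap.comp_apply, ← hdr z]
      congr 1
      apply Subtype.ext
      show m z - σ (KaehlerDifferential.map A B C C (m z)) = m z
      rw [(KaehlerDifferential.exact_mapBaseChange_map A B C).apply_apply_eq_zero, map_zero, sub_zero]
  obtain ⟨e₁⟩ := Groth.EGA41Two.nonempty_equiv_ofDerivation s hs D hD
  obtain ⟨e₂⟩ := Groth.EGA41Two.nonempty_equiv_ofDerivation t ht D' hD'
  obtain ⟨e⟩ := Groth.EGA41Two.nonempty_equiv_ofDerivation_of_eq_add D D'
    (ψ.compDer (KaehlerDifferential.D A C)) fun b => by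
      have h1 := hψ ((1 : C) ⊗ₜ[B] KaehlerDifferential.D A B b)
      simp only [m, d, KaehlerDifferential.mapBaseChange_tmul, KaehlerDifferential.map_D, one_smul,
        LinearMap.sub_apply, Groth.EGA41Two.phi_tmul] at h1
      show D b = D' b + ψ (KaehlerDifferential.D A C (algebraMap B C b))
      rw [h1, add_sub_cancel]
  exact ⟨(e₁.symm.trans e.symm).trans e₂⟩

end Groth.Agent.S5822
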