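import Groth.Statements.S5824
import Groth.Agent.EGA41Two.Exal
import Groth.Agent.S5822
import Groth.Agent.S5823
import Mathlib.RingTheory.Smooth.Basic

set_option autoImplicit false
universe u v
open EGA41
open TensorProduct

namespace Groth.Agent.S5824

/-- For ring maps A → B → C with C formally smooth over A (discrete topologies) and Ω_{C/B} a projective
C-module, and a C-module L, the characteristic homomorphism is a bijection from the classes of all
B-extensions of C by L (each of which is A-trivial) onto Hom_C(Υ_{C/B/A}, L): injectivity on classes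
and surjectivity. -/
theorem result {A : Type u} {B C L : Type v} [CommRing A] [CommRing B] [CommRing C]
    [Algebra A B] [Algebra B C] [Algebra A C] [IsScalarTower A B C] [AddCommGroup L] [Module C L]
    [Algebra.FormallySmooth A C] [Module.Projective C Ω[C⁄B]] :
    (∀ (X Y : Exal.Ext B C L) (χ : ↥(EGA41.imperfection A B C) →ₗ[C] L),
        X.IsCharHom A χ → Y.IsCharHom A χ → Nonempty (X.Equiv Y)) ∧
      ∀ χ : ↥(EGA41.imperfection A B C) →ₗ[C] L, ∃ X : Exal.Ext B C L, X.IsCharHom A χ := by
  let : Module B L := Module.compHom L (algebraMap B C)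
  have : IsScalarTower B C L := IsScalarTower.of_algebraMap_smul fun _ _ => rfl
  let : Module A L := Module.compHom L (algebraMap A C)
  have : IsScalarTower A C L := IsScalarTower.of_algebraMap_smul fun _ _ => rfl
  have : IsScalarTower A B L := IsScalarTower.of_algebraMap_smul fun a z => by
    show algebraMap B C (algebraMap A B a) • z = a • z
    rw [← IsScalarTower.algebraMap_apply, algebraMap_smul]
  have htriv : ∀ X : Exal.Ext B C L, X.IsTrivialOver A := by
    intro X
    have hp : Function.Surjective (X.restrictBase A).proj := (X.restrictBase A).isExtension.proj_surjective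
    have hk : IsNilpotent (RingHom.ker (X.restrictBase A).proj) := by
      refine ⟨2, ?_⟩
      rw [pow_two, Submodule.zero_eq_bot, eq_bot_iff, Ideal.mul_le]
      intro x hx y hy
      obtain ⟨z, rfl⟩ := ((X.restrictBase A).isExtension.exact x).1 hx
      obtain ⟨z', rfl⟩ := ((X.restrictBase A).isExtension.exact y).1 hy
      exact Groth.EGA41Two.incl_mul_incl X z z'
    exact ⟨Algebra.FormallySmooth.liftOfSurjective (AlgHom.id A C) _ hp hk,
      Algebra.FormallySmooth.liftOfSurjective_apply (AlgHom.id A C) _ hp hk⟩
  obtain ⟨σ, hσ⟩ := Module.projective_lifting_property (KaehlerDifferential.map A B C C) LinearMap.id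
    (KaehlerDifferential.map_surjective A B C)
  have hσ' : ∀ ω, KaehlerDifferential.map A B C C (σ ω) = ω := fun ω => LinearMap.congr_fun hσ ω
  let m := KaehlerDifferential.mapBaseChange A B C
  let q : Ω[C⁄A] →ₗ[C] LinearMap.range m := LinearMap.codRestrict _
    (LinearMap.id - σ.comp (KaehlerDifferential.map A B C C)) fun ω => by
      rw [KaehlerDifferential.range_mapBaseChange]
      simp [hσ']
  have hqm : q ∘ₗ (LinearMap.range m).subtype = LinearMap.id := by
    apply LinearMap.ext
    rintro ⟨_, z, rfl⟩
    apply Subtype.ext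
    show m z - σ (KaehlerDifferential.map A B C C (m z)) = m z
    rw [(KaehlerDifferential.exact_mapBaseChange_map A B C).apply_apply_eq_zero, map_zero, sub_zero]
  have : Module.Projective C (LinearMap.range m) :=
    Module.Projective.of_split (LinearMap.range m).subtype q hqm
  obtain ⟨j, hj⟩ := Module.projective_lifting_property m.rangeRestrict LinearMap.id m.surjective_rangeRestrict
  have h : Module.Injective C L ∨
      ((∃ r : C ⊗[B] Ω[B⁄A] →ₗ[C] ↥(EGA41.imperfection A B C), ∀ z : ↥(EGA41.imperfection A B C), r z = z) ∧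
        ∃ s : Ω[C⁄B] →ₗ[C] Ω[C⁄A], ∀ ω : Ω[C⁄B], KaehlerDifferential.map A B C C (s ω) = ω) := by
    refine Or.inr ⟨⟨LinearMap.codRestrict _ (LinearMap.id - j.comp m.rangeRestrict) fun z => ?_, fun z => ?_⟩,
      σ, hσ'⟩
    · show m (z - j (m.rangeRestrict z)) = 0
      have := congrArg Subtype.val (LinearMap.congr_fun hj (m.rangeRestrict z))
      rw [map_sub, sub_eq_zero]
      exact this.symm
    · apply Subtype.ext
      show (z : C ⊗[B] Ω[B⁄A]) - j (m.rangeRestrict z) = z
      rw [show m.rangeRestrict (z : C ⊗[B] Ω[B⁄A]) = 0 from Subtype.ext z.2, map_zero, sub_zero]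
  refine ⟨fun X Y χ hX hY => Groth.Agent.S5822.result h X Y (htriv X) (htriv Y) χ hX hY, fun χ => ?_⟩
  obtain ⟨X, -, hX⟩ := Groth.Agent.S5823.result h χ
  exact ⟨X, hX⟩

end Groth.Agent.S5824
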