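import Groth.Statements.S5825
import Mathlib.Tactic.Abel
import Groth.Agent.EGA41Two.FormalInverse

set_option autoImplicit false
universe u v w
open EGA41

namespace Groth.Agent.S5825

/-- Let A be a topological ring, M, N topological A-modules with the topologies deduced from that of A,
and u : M → N a continuous linear map with dense image (a formal epimorphism). Then u is a formal
bimorphism (dense image and inducing) if and only if, for every open ideal J of A, the induced map
M/JM → N/JN is bijective (injectivity and surjectivity are written out elementwise). -/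
theorem result {A : Type u} {M : Type v} {N : Type w} [CommRing A]
    [TopologicalSpace A] [AddCommGroup M] [Module A M] [TopologicalSpace M] [AddCommGroup N] [Module A N]
    [TopologicalSpace N] (hM : TopMod.IsDeduced A M) (hN : TopMod.IsDeduced A N) (u : M →L[A] N)
    (hu : DenseRange u) :
    IsDenseInducing u ↔
      ∀ J : Ideal A, IsOpen (J : Set A) →
        (∀ x : M, u x ∈ (J • ⊤ : Submodule A N) → x ∈ (J • ⊤ : Submodule A M)) ∧
          ∀ y : N, ∃ x : M, y - u x ∈ (J • ⊤ : Submodule A N) := by
  have := hM.1
  have := hN.1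
  have hsurj : ∀ J : Ideal A, IsOpen (J : Set A) → ∀ y : N, ∃ x : M, y - u x ∈ (J • ⊤ : Submodule A N) := by
    intro J hJ y
    obtain ⟨x, hx⟩ := hu.exists_mem_open
      ((Groth.EGA41Two.isOpen_smul_top hN hJ).preimage (continuous_const.sub continuous_id) : IsOpen ((fun z => y - z) ⁻¹' _))
      ⟨y, by simp⟩
    exact ⟨x, hx⟩
  have hle : ∀ J : Ideal A, (J • ⊤ : Submodule A M) ≤ (J • ⊤ : Submodule A N).comap u.toLinearMap := fun J => by
    rw [← Submodule.map_le_iff_le_comap, Submodule.map_smul'']
    exact Submodule.smul_mono le_rfl le_top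
  constructor
  · intro h J hJ
    refine ⟨fun x hx => ?_, hsurj J hJ⟩
    have hmem : ((J • ⊤ : Submodule A M) : Set M) ∈ Filter.comap u (nhds (0 : N)) := by
      rw [← map_zero u, ← h.toIsInducing.nhds_eq_comap]; exact hM.2.mem_of_mem hJ
    obtain ⟨K, hK, hKle⟩ := (hN.2.comap u).mem_iff.mp hmem
    have h1 : (J • ⊤ : Submodule A N) ≤ (J • ⊤ : Submodule A M).map u.toLinearMap ⊔ (K • ⊤ : Submodule A N) := by
      rw [Submodule.smul_le]
      intro j hj y _
      obtain ⟨m, hm⟩ := hsurj K hK y
      rw [show j • y = u.toLinearMap (j • m) + j • (y - u m) by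
        show _ = u (j • m) + _
        rw [map_smul, smul_sub]; abel]
      exact Submodule.add_mem_sup ⟨_, Submodule.smul_mem_smul hj Submodule.mem_top, rfl⟩ (Submodule.smul_mem _ j hm)
    obtain ⟨a, ⟨m, hm, rfl⟩, b, hb, hab⟩ := Submodule.mem_sup.mp (h1 hx)
    have h2 : u (x - m) ∈ (K • ⊤ : Submodule A N) := by
      rw [map_sub, ← hab, show u.toLinearMap m = u m from rfl, add_sub_cancel_left]; exact hb
    have h3 : x - m ∈ (J • ⊤ : Submodule A M) := hKle h2
    simpa using add_mem h3 hm
  · intro h
    refine ⟨?_, hu⟩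
    apply IsTopologicalAddGroup.isInducing_iff_nhds_zero.mpr
    refine hM.2.eq_of_same_basis ?_
    refine (hN.2.comap u).congr (fun _ => Iff.rfl) fun J hJ => ?_
    ext x
    exact ⟨(h J hJ).1 x, fun hx => hle J hx⟩

end Groth.Agent.S5825
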