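import Groth.Statements.S5826
import Groth.Agent.EGA41Two.FormalInverse

set_option autoImplicit false
universe u v w
open EGA41

namespace Groth.Agent.S5826

/-- Let A be a topological ring, M, N topological A-modules with the topologies deduced from that of A,
u : M → N a continuous linear map. Then u is formally left invertible if and only if, for every open
ideal J of A, the induced map M/JM → N/JN is left invertible, i.e. some linear map N → M/JM composes
with u to the projection M → M/JM. -/
theorem result {A : Type u} {M : Type v} {N : Type w}
    [CommRing A] [TopologicalSpace A] [AddCommGroup M] [Module A M] [TopologicalSpace M] [AddCommGroup N]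
    [Module A N] [TopologicalSpace N] (hM : TopMod.IsDeduced A M) (hN : TopMod.IsDeduced A N)
    (u : M →L[A] N) :
    TopMod.IsFormallyLeftInvertible u ↔
      ∀ J : Ideal A, IsOpen (J : Set A) →
        ∃ w : N →ₗ[A] M ⧸ (J • ⊤ : Submodule A M), ∀ x : M, w (u x) = Submodule.Quotient.mk x := by
  exact Groth.EGA41Two.isFormallyLeftInvertible_iff hM hN u

end Groth.Agent.S5826
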