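import Groth.Statements.S5828
import Mathlib.Tactic.LinearCombination
import Mathlib.Tactic.Ring
-- import your own Groth.Agent.* helpers here

set_option autoImplicit false
universe u v
open EGA41

namespace Groth.Agent.S5828

/-- Commutative case. For an A-extension X of C by a C-module L, with middle ring E, projection p and
inclusion i, the A-derivations D : C → L and the self-equivalences of X correspond under D ↦ (x ↦ x
+ i (D (p x))): every derivation defines a self-equivalence with this formula, and every
self-equivalence is of this form for exactly one derivation. (Bijection of sets; the published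
statement also records compatibility with the group laws.) -/
theorem result {A : Type u} {C L : Type v} [CommRing A] [CommRing C] [Algebra A C]
    [AddCommGroup L] [Module C L] [Module A L] [IsScalarTower A C L] (X : Exal.Ext A C L) :
    (∀ D : Derivation A C L, ∃ e : X.Equiv X, ∀ x : X.E, e.toAlgEquiv x = x + X.incl (D (X.proj x))) ∧
      ∀ e : X.Equiv X, ∃! D : Derivation A C L, ∀ x : X.E, e.toAlgEquiv x = x + X.incl (D (X.proj x)) := by
  have hpi : ∀ z, X.proj (X.incl z) = 0 := fun z => (X.isExtension.exact _).2 ⟨z, rfl⟩
  have hii : ∀ z z', X.incl z * X.incl z' = 0 := fun z z' => by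
    rw [X.isExtension.mul_incl, hpi, zero_smul, map_zero]
  have hsm : ∀ (x : X.E) (z : L), X.incl (X.proj x • z) = x * X.incl z := fun x z =>
    (X.isExtension.mul_incl x z).symm
  refine ⟨fun D => ?_, fun e => ?_⟩
  · let f : X.E →ₐ[A] X.E :=
      { toFun := fun x => x + X.incl (D (X.proj x))
        map_one' := by simp
        map_mul' := fun x y => by
          simp only [map_mul, Derivation.leibniz, map_add, hsm]
          linear_combination -(hii (D (X.proj x)) (D (X.proj y)))
        map_zero' := by simp
        map_add' := fun x y => by simp only [map_add]; ring
        commutes' := fun a => by simp }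
    have hp : ∀ x, X.proj (f x) = X.proj x := fun x => by
      show X.proj (x + X.incl _) = _
      rw [map_add, hpi, add_zero]
    have hb : Function.Bijective f := by
      constructor
      · intro x y h
        have h2 : x + X.incl (D (X.proj x)) = y + X.incl (D (X.proj y)) := h
        rw [show X.proj x = X.proj y from (hp x).symm.trans ((congrArg X.proj h).trans (hp y))] at h2
        exact add_right_cancel h2
      · intro y
        refine ⟨y - X.incl (D (X.proj y)), ?_⟩
        show y - X.incl (D (X.proj y)) + X.incl (D (X.proj (y - X.incl (D (X.proj y))))) = y
        rw [map_sub X.proj, hpi, sub_zero, sub_add_cancel]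
    exact ⟨⟨AlgEquiv.ofBijective f hb, hp, fun z => by
      show X.incl z + X.incl (D (X.proj (X.incl z))) = _
      rw [hpi, map_zero, map_zero, add_zero]⟩, fun x => rfl⟩
  · have h : ∀ x : X.E, ∃ z : L, X.incl z = e.toAlgEquiv x - x := fun x =>
      (X.isExtension.exact _).1 (by rw [map_sub, e.proj_apply, sub_self])
    choose d hd using h
    have hd0 : ∀ z, d (X.incl z) = 0 := fun z => X.isExtension.incl_injective (by
      rw [hd, e.apply_incl, sub_self, map_zero])
    have hadd : ∀ x y, d (x + y) = d x + d y := fun x y => X.isExtension.incl_injective (by
      simp only [map_add, hd]; ring)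
    have hwd : ∀ x y, X.proj x = X.proj y → d x = d y := fun x y h => by
      obtain ⟨z, hz⟩ := (X.isExtension.exact (x - y)).1 (by rw [map_sub, h, sub_self])
      rw [show x = y + X.incl z by rw [hz]; ring, hadd, hd0, add_zero]
    have hs := X.isExtension.proj_surjective
    choose sec hsec using hs
    have hdm : ∀ x y, d (x * y) = X.proj x • d y + X.proj y • d x := fun x y =>
      X.isExtension.incl_injective (by
        have := hii (d x) (d y)
        simp only [hd] at this
        simp only [map_add, hsm, hd, map_mul]
        linear_combination this)
    let D : Derivation A C L := Derivation.mk'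
      { toFun := fun c => d (sec c)
        map_add' := fun c c' => by rw [← hadd]; exact hwd _ _ (by simp [hsec])
        map_smul' := fun a c => by
          show d (sec (a • c)) = a • d (sec c)
          rw [hwd (sec (a • c)) (algebraMap A X.E a * sec c) (by simp [hsec, Algebra.smul_def]), hdm,
            show d (algebraMap A X.E a) = 0 from X.isExtension.incl_injective (by rw [hd, AlgEquiv.commutes, sub_self, map_zero]),
            smul_zero, add_zero, AlgHom.commutes, algebraMap_smul] }
      (fun c c' => by
        show d (sec (c * c')) = c • d (sec c') + c' • d (sec c)
        rw [hwd (sec (c * c')) (sec c * sec c') (by simp [hsec]), hdm, hsec, hsec])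
    refine ⟨D, fun x => ?_, fun D' hD' => ?_⟩
    · show e.toAlgEquiv x = x + X.incl (d (sec (X.proj x)))
      rw [hwd (sec (X.proj x)) x (hsec _), hd, add_sub_cancel]
    · ext c
      apply X.isExtension.incl_injective
      show X.incl (D' c) = X.incl (d (sec c))
      rw [hd, hD' (sec c), hsec, add_sub_cancel_left]

end Groth.Agent.S5828
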