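import Groth.Statements.S5830
import Mathlib.Tactic.LinearCombination
import Mathlib.Tactic.Ring
import Groth.Agent.EGA41Two.Cocycle
import Groth.Agent.EGA41Two.LiftExt

set_option autoImplicit false
universe u v
open EGA41

namespace Groth.Agent.S5830

/-- Discrete case. If B is a formally smooth A-algebra then, for every B-module L, every A-bilinear
symmetric Hochschild 2-cocycle f : B × B → L (f(xy, z) + z f(x, y) = x f(y, z) + f(x, yz)) is a
Hochschild 2-coboundary: f(x, y) = x g(y) − g(xy) + y g(x) for some A-linear g : B → L. (The
published statement is for topological algebras and open ideals; this row is its discrete case.) -/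
theorem result {A : Type u} {B : Type v} [CommRing A] [CommRing B]
    [Algebra A B] [Algebra.FormallySmooth A B] {L : Type v} [AddCommGroup L] [Module B L] [Module A L]
    [IsScalarTower A B L] (f : B →ₗ[A] B →ₗ[A] L) (hsymm : ∀ x y : B, f x y = f y x)
    (hcoc : ∀ x y z : B, f (x * y) z + z • f x y = x • f y z + f x (y * z)) :
    ∃ g : B →ₗ[A] L, ∀ x y : B, f x y = x • g y - g (x * y) + y • g x := by
  obtain ⟨X, σ, hσ, hadd, hsmul, hmul⟩ := Groth.EGA41Two.exists_ext_of_cocycle f hsymm hcoc
  obtain ⟨s, hs⟩ := Groth.EGA41Two.isTrivial_of_formallySmooth X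
  have h : ∀ b, ∃ z, X.incl z = σ b - s b := fun b =>
    (X.isExtension.exact _).1 (by rw [map_sub, hσ, hs, sub_self])
  choose g hg using h
  have hA : ∀ (a : A) (z : L), X.incl (a • z) = a • X.incl z := fun a z => by
    rw [Algebra.smul_def, X.isExtension.mul_incl, AlgHom.commutes, algebraMap_smul]
  have e : ∀ (b : B) (z : L), X.incl (b • z) = σ b * X.incl z := fun b z => by
    rw [X.isExtension.mul_incl, hσ]
  have h0 : ∀ z z', X.incl z * X.incl z' = 0 := fun z z' => by
    rw [X.isExtension.mul_incl, (X.isExtension.exact _).2 ⟨z, rfl⟩, zero_smul, map_zero]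
  refine ⟨{ toFun := g
            map_add' := fun b b' => X.isExtension.incl_injective (by
              rw [map_add X.incl, hg, hg, hg, hadd, map_add]; ring)
            map_smul' := fun a b => X.isExtension.incl_injective (by
              rw [RingHom.id_apply, hA, hg, hg, hsmul, map_smul, smul_sub]) }, fun x y => ?_⟩
  apply X.isExtension.incl_injective
  show X.incl (f x y) = X.incl (x • g y - g (x * y) + y • g x)
  have hm := hmul x y
  have h1 := h0 (g x) (g y)
  rw [hg, hg] at h1
  rw [map_add, map_sub, e, e, hg, hg, hg, map_mul]
  linear_combination (hm * (-1)) - h1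

end Groth.Agent.S5830
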