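import Groth.Statements.S5831
import Mathlib.Tactic.LinearCombination
import Mathlib.Tactic.Ring
import Groth.Agent.S5815

set_option autoImplicit false
universe u
open EGA41

namespace Groth.Agent.S5831

/-- Discrete case. Let B be an A-algebra which is a projective A-module (A and B in one universe). If
for every B-module L in that universe every A-bilinear symmetric Hochschild 2-cocycle B × B → L is a
coboundary, then B is formally smooth over A. (The published statement assumes B formally projective
as a topological A-module; for discrete rings this is projectivity.) -/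
theorem result {A B : Type u} [CommRing A]
    [CommRing B] [Algebra A B] [Module.Projective A B]
    (h : ∀ (L : Type u) [AddCommGroup L] [Module B L] [Module A L] [IsScalarTower A B L]
      (f : B →ₗ[A] B →ₗ[A] L), (∀ x y : B, f x y = f y x) →
        (∀ x y z : B, f (x * y) z + z • f x y = x • f y z + f x (y * z)) →
          ∃ g : B →ₗ[A] L, ∀ x y : B, f x y = x • g y - g (x * y) + y • g x) :
    Algebra.FormallySmooth A B := by
  rw [Groth.Agent.S5815.result]
  intro L _ _ X
  let : Module A L := Module.compHom L (algebraMap A B)
  have : IsScalarTower A B L := IsScalarTower.of_algebraMap_smul fun _ _ => rfl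
  have hA : ∀ (a : A) (z : L), X.incl (a • z) = a • X.incl z := fun a z => by
    rw [Algebra.smul_def, X.isExtension.mul_incl, AlgHom.commutes, algebraMap_smul]
  obtain ⟨σ, hσ⟩ := Module.projective_lifting_property X.proj.toLinearMap LinearMap.id X.isExtension.proj_surjective
  have hσ' : ∀ b, X.proj (σ b) = b := fun b => LinearMap.congr_fun hσ b
  have e : ∀ (b : B) (z : L), X.incl (b • z) = σ b * X.incl z := fun b z => by
    rw [X.isExtension.mul_incl, hσ']
  have h0 : ∀ z z', X.incl z * X.incl z' = 0 := fun z z' => by
    rw [X.isExtension.mul_incl, (X.isExtension.exact _).2 ⟨z, rfl⟩, zero_smul, map_zero]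
  have h : ∀ x y, ∃ z, X.incl z = σ x * σ y - σ (x * y) := fun x y =>
    (X.isExtension.exact _).1 (by rw [map_sub, map_mul, hσ', hσ', hσ', sub_self])
  choose f hf using h
  have hadd1 : ∀ x x' y, f (x + x') y = f x y + f x' y := fun x x' y => X.isExtension.incl_injective (by
    rw [map_add X.incl, hf, hf, hf, add_mul, map_add, map_add]; ring)
  have hsm1 : ∀ (a : A) x y, f (a • x) y = a • f x y := fun a x y => X.isExtension.incl_injective (by
    rw [hA, hf, hf, smul_mul_assoc, map_smul, map_smul, smul_mul_assoc, smul_sub])
  have hsymm : ∀ x y, f x y = f y x := fun x y => X.isExtension.incl_injective (by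
    rw [hf, hf, mul_comm, mul_comm x y])
  let F : B →ₗ[A] B →ₗ[A] L := LinearMap.mk₂ A f hadd1 hsm1
    (fun x y y' => by rw [hsymm, hadd1, hsymm y, hsymm y'])
    (fun a x y => by rw [hsymm, hsm1, hsymm y])
  obtain ⟨g, hg⟩ := h L F hsymm (fun x y z => X.isExtension.incl_injective (by
    simp only [F, LinearMap.mk₂_apply, map_add, e, hf]
    rw [mul_assoc x y z]
    ring))
  let s : B → X.E := fun b => σ b - X.incl (g b)
  have hmul : ∀ x y, s (x * y) = s x * s y := fun x y => by
    have h1 := congrArg X.incl (hg x y)
    simp only [F, LinearMap.mk₂_apply, map_add, map_sub, e, hf] at h1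
    have h2 := h0 (g x) (g y)
    show σ (x * y) - X.incl (g (x * y)) = (σ x - X.incl (g x)) * (σ y - X.incl (g y))
    linear_combination (h1 * (-1)) - h2
  have hp : ∀ b, X.proj (s b) = b := fun b => by
    show X.proj (σ b - X.incl (g b)) = b
    rw [map_sub, hσ', (X.isExtension.exact _).2 ⟨_, rfl⟩, sub_zero]
  have hlin : ∀ (a : A) b, s (a • b) = a • s b := fun a b => by
    show σ _ - X.incl _ = _
    rw [map_smul, map_smul, hA, ← smul_sub]
  have hone : s 1 = 1 := by
    obtain ⟨n, hn⟩ := (X.isExtension.exact (s 1 - 1)).1 (by rw [map_sub, hp, map_one, sub_self])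
    have h2 := h0 n n
    rw [hn] at h2
    have h3 := hmul 1 1
    rw [mul_one] at h3
    linear_combination -(h2 + h3)
  exact ⟨{ toFun := s
           map_one' := hone
           map_mul' := hmul
           map_zero' := by show σ 0 - X.incl (g 0) = 0; simp
           map_add' := fun x y => by
             show σ (x + y) - X.incl (g (x + y)) = (σ x - X.incl (g x)) + (σ y - X.incl (g y))
             rw [map_add, map_add, map_add]; ring
           commutes' := fun a => by rw [Algebra.algebraMap_eq_smul_one, hlin, hone, ← Algebra.algebraMap_eq_smul_one] }, hp⟩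

end Groth.Agent.S5831
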