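import Groth.Statements.S5832
import Mathlib.Tactic.LinearCombination
import Mathlib.Tactic.Ring
import Mathlib.Tactic.Abel
-- import your own Groth.Agent.* helpers here

set_option autoImplicit false
universe u u' v
open EGA41

namespace Groth.Agent.S5832

/-- Surjectivity at the end of the sequence. For ring maps Λ → A → B → C and a C-module L, every
Λ-trivial A-extension of B by L is equivalent to the inverse image along B → C of a Λ-trivial
A-extension of C by L. (Exactness at the other places is that of the six-term derivation-extension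
sequence restricted to Λ-trivial classes.) -/
theorem result {Λ : Type u} {A : Type u'} {B C L : Type v}
    [CommRing Λ] [CommRing A] [CommRing B] [CommRing C] [Algebra Λ A] [Algebra Λ B] [Algebra Λ C]
    [Algebra A B] [Algebra B C] [Algebra A C] [IsScalarTower Λ A B] [IsScalarTower Λ A C] [IsScalarTower A B C]
    [AddCommGroup L] [Module C L] [Module B L] [IsScalarTower B C L]
    (Y : Exal.Ext A B L) (hY : Y.IsTrivialOver Λ) :
    ∃ X : Exal.Ext A C L, X.IsTrivialOver Λ ∧ Nonempty ((X.pullback B).Equiv Y) := by
  classical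
  let : Module Cᵐᵒᵖ L := Exal.opModule C L
  have : IsCentralScalar C L := Exal.isCentralScalar_opModule C L
  obtain ⟨s', hs'⟩ := hY
  let s : B →+* Y.E := s'.toRingHom
  have hs : ∀ b, Y.proj (s b) = b := hs'
  have hsΛ : ∀ l, s (algebraMap Λ B l) = algebraMap A Y.E (algebraMap Λ A l) := fun l => s'.commutes l
  have h0 : ∀ z z', Y.incl z * Y.incl z' = 0 := fun z z' => by
    rw [Y.isExtension.mul_incl, (Y.isExtension.exact _).2 ⟨z, rfl⟩, zero_smul, map_zero]
  have e : ∀ (b : B) (z : L), Y.incl (b • z) = s b * Y.incl z := fun b z => by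
    rw [Y.isExtension.mul_incl, hs]
  have h : ∀ y : Y.E, ∃ z, Y.incl z = y - s (Y.proj y) := fun y =>
    (Y.isExtension.exact _).1 (by rw [map_sub, hs, sub_self])
  choose δ hδ using h
  let d : A → L := fun a => δ (algebraMap A Y.E a)
  have hd : ∀ a, Y.incl (d a) = algebraMap A Y.E a - s (algebraMap A B a) := fun a => by
    rw [hδ, AlgHom.commutes]
  have hadd : ∀ a a', d (a + a') = d a + d a' := fun a a' => Y.isExtension.incl_injective (by
    simp only [map_add, hd]; ring)
  have hleib : ∀ a a', d (a * a') = algebraMap A B a • d a' + algebraMap A B a' • d a := fun a a' =>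
    Y.isExtension.incl_injective (by
      have h1 := h0 (d a) (d a')
      simp only [map_add, map_mul, e, hd] at h1 ⊢
      linear_combination h1)
  have hAC : ∀ (a : A) (z : L), algebraMap A B a • z = algebraMap A C a • z := fun a z => by
    rw [IsScalarTower.algebraMap_apply A B C]; exact (algebraMap_smul C _ z).symm
  have hd1 : d 1 = 0 := Y.isExtension.incl_injective (by simp [hd])
  let ψ : A →+* TrivSqZeroExt C L :=
    { toFun := fun a => TrivSqZeroExt.inl (algebraMap A C a) + TrivSqZeroExt.inr (d a)
      map_one' := by simp [hd1]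
      map_mul' := fun a a' => by
        apply TrivSqZeroExt.ext
        · simp
        · simp [hleib, hAC, add_comm]
      map_zero' := by
        have : d 0 = 0 := Y.isExtension.incl_injective (by simp [hd])
        simp [this]
      map_add' := fun a a' => by
        simp only [map_add, hadd, TrivSqZeroExt.inl_add, TrivSqZeroExt.inr_add]; abel }
  let algT : Algebra A (TrivSqZeroExt C L) := ψ.toAlgebra
  let X : Exal.Ext A C L :=
    { E := TrivSqZeroExt C L
      algebra := algT
      proj := { (TrivSqZeroExt.fstHom C C L).toRingHom with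
        commutes' := fun a => by
          show (ψ a).fst = algebraMap A C a
          simp [ψ] }
      incl := (TrivSqZeroExt.inrHom C L).toAddMonoidHom
      isExtension :=
        { proj_surjective := fun c => ⟨TrivSqZeroExt.inl c, rfl⟩
          incl_injective := TrivSqZeroExt.inr_injective
          exact := fun x => by
            constructor
            · intro hx
              exact ⟨TrivSqZeroExt.snd x, TrivSqZeroExt.ext hx.symm rfl⟩
            · rintro ⟨z, rfl⟩
              rfl
          mul_incl := fun x z => by
            apply TrivSqZeroExt.ext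
            · show TrivSqZeroExt.fst x * 0 = 0
              exact mul_zero _
            · show TrivSqZeroExt.fst x • z + MulOpposite.op (0 : C) • TrivSqZeroExt.snd x = TrivSqZeroExt.fst x • z
              rw [MulOpposite.op_zero, zero_smul, add_zero] } }
  have hXtriv : X.IsTrivialOver Λ := by
    refine ⟨{ (TrivSqZeroExt.inlHom C L : C →+* X.RestrictCarrier Λ) with commutes' := fun l => ?_ }, fun c => rfl⟩
    show (TrivSqZeroExt.inl (algebraMap Λ C l) : TrivSqZeroExt C L) = ψ (algebraMap Λ A l)
    have : d (algebraMap Λ A l) = 0 := Y.isExtension.incl_injective (by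
      rw [hd, map_zero, ← IsScalarTower.algebraMap_apply Λ A B, hsΛ, sub_self])
    simp [ψ, this, ← IsScalarTower.algebraMap_apply]
  refine ⟨X, hXtriv, ?_⟩
  let sC : C → TrivSqZeroExt C L := TrivSqZeroExt.inl
  let f : (X.pullback B).E → Y.E := fun w => s w.1.2 + Y.incl (TrivSqZeroExt.snd (w.1.1 : TrivSqZeroExt C L))
  have hfst : ∀ w : (X.pullback B).E, TrivSqZeroExt.fst (w.1.1 : TrivSqZeroExt C L) = algebraMap B C w.1.2 :=
    fun w => w.2
  have hp : ∀ w, Y.proj (f w) = w.1.2 := fun w => by
    show Y.proj (s _ + Y.incl _) = _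
    rw [map_add, hs, (Y.isExtension.exact _).2 ⟨_, rfl⟩, add_zero]
  let g : (X.pullback B).E →ₐ[A] Y.E :=
    { toFun := f
      map_one' := by
        show s (1 : B) + Y.incl (TrivSqZeroExt.snd (1 : TrivSqZeroExt C L)) = 1
        simp
      map_zero' := by
        show s (0 : B) + Y.incl (TrivSqZeroExt.snd (0 : TrivSqZeroExt C L)) = 0
        simp
      map_add' := fun x y => by
        have ha : TrivSqZeroExt.snd (((x + y).1.1) : TrivSqZeroExt C L) =
            TrivSqZeroExt.snd (x.1.1 : TrivSqZeroExt C L) + TrivSqZeroExt.snd (y.1.1 : TrivSqZeroExt C L) :=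
          TrivSqZeroExt.snd_add _ _
        show s (x.1.2 + y.1.2) + Y.incl (TrivSqZeroExt.snd (((x + y).1.1) : TrivSqZeroExt C L)) = f x + f y
        rw [ha, map_add, map_add]; simp only [f]; ring
      map_mul' := fun x y => by
        show s (x.1.2 * y.1.2) + Y.incl (TrivSqZeroExt.snd ((x.1.1 : TrivSqZeroExt C L) * y.1.1)) = f x * f y
        rw [TrivSqZeroExt.snd_mul, op_smul_eq_smul, hfst, hfst, algebraMap_smul, algebraMap_smul, map_mul, map_add, e, e]
        have h1 := h0 (TrivSqZeroExt.snd (x.1.1 : TrivSqZeroExt C L)) (TrivSqZeroExt.snd (y.1.1 : TrivSqZeroExt C L))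
        simp only [f]
        linear_combination -h1
      commutes' := fun a => by
        show s (algebraMap A B a) + Y.incl (TrivSqZeroExt.snd (ψ a)) = _
        simp [ψ, hd] }
  refine ⟨⟨AlgEquiv.ofBijective g ⟨?_, ?_⟩, fun w => hp w, fun z => ?_⟩⟩
  · intro x y hxy
    have h2 : f x = f y := hxy
    have hb : x.1.2 = y.1.2 := by rw [← hp x, ← hp y, h2]
    apply Subtype.ext
    refine Prod.ext ?_ hb
    apply TrivSqZeroExt.ext
    · exact (hfst x).trans ((congrArg _ hb).trans (hfst y).symm)
    · apply Y.isExtension.incl_injective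
      simp only [f, hb] at h2
      exact add_left_cancel h2
  · intro y
    refine ⟨⟨((TrivSqZeroExt.inl (algebraMap B C (Y.proj y)) + TrivSqZeroExt.inr (δ y) : TrivSqZeroExt C L), Y.proj y), ?_⟩, ?_⟩
    · show TrivSqZeroExt.fst (_ : TrivSqZeroExt C L) = _
      simp
    · show s (Y.proj y) + Y.incl (TrivSqZeroExt.snd (_ : TrivSqZeroExt C L)) = y
      simp [hδ]
  · show s (0 : B) + Y.incl (TrivSqZeroExt.snd (TrivSqZeroExt.inr z : TrivSqZeroExt C L)) = Y.incl z
    simp

end Groth.Agent.S5832
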