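import Groth.Statements.S5833
import Groth.Agent.EGA41Two.Infinitesimal

set_option autoImplicit false
universe u v
open scoped TensorProduct
open EGA41
open TensorProduct

namespace Groth.Agent.S5833

/-- Let Λ → A → B be ring maps, K an ideal of B, C = B ⧸ K, and suppose E = B ⧸ K², as an extension of C
by K/K², is Λ-trivial. Let χ : Υ_{C/A/Λ} → K/K² be the characteristic homomorphism of E as an
A-extension, relative to Λ → A. Then: (a) the kernel of χ consists of the elements of Υ_{C/A/Λ} ⊆ C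
⊗_A Ω_{A/Λ} whose image in C ⊗_B Ω_{B/Λ} is zero (that image map is written as the base change to C
of B ⊗_A Ω_{A/Λ} → Ω_{B/Λ}, through the canonical identification C ⊗_B (B ⊗_A Ω_{A/Λ}) = C ⊗_A
Ω_{A/Λ}); (b) the image of χ is the kernel of the conormal map K/K² → C ⊗_B Ω_{B/A}, x ↦ 1 ⊗ dx.
This is the exact sequence 0 → Υ^C_{B/A/Λ} → Υ_{C/A/Λ} → K/K² → C ⊗_B Ω_{B/A} → Ω_{C/A} → 0 up to
its last two (conormal-sequence) terms. -/
theorem result {Λ : Type u} {A B : Type v} [CommRing Λ]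
    [CommRing A] [CommRing B] [Algebra Λ A] [Algebra Λ B] [Algebra A B] [IsScalarTower Λ A B] (K : Ideal B)
    (htriv : ((Exal.Ext.infinitesimal K).restrictBase A).IsTrivialOver Λ)
    (χ : ↥(EGA41.imperfection Λ A (B ⧸ K)) →ₗ[B ⧸ K] K.Cotangent)
    (hχ : ((Exal.Ext.infinitesimal K).restrictBase A).IsCharHom Λ χ) :
    (∀ z : ↥(EGA41.imperfection Λ A (B ⧸ K)),
        χ z = 0 ↔
          ((KaehlerDifferential.mapBaseChange Λ A B).baseChange (B ⧸ K))
              ((TensorProduct.AlgebraTensorModule.cancelBaseChange A B (B ⧸ K) (B ⧸ K) Ω[A⁄Λ]).symm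
                (z : (B ⧸ K) ⊗[A] Ω[A⁄Λ])) = 0) ∧
      ∀ (x : B) (hx : x ∈ K),
        K.toCotangent ⟨x, hx⟩ ∈ LinearMap.range χ ↔
          (1 : B ⧸ K) ⊗ₜ[B] KaehlerDifferential.D A B x = (0 : (B ⧸ K) ⊗[B] Ω[B⁄A]) := by
  have htrivB : (Exal.Ext.infinitesimal K).IsTrivialOver Λ := by
    obtain ⟨s, hs, ha⟩ := Groth.EGA41Two.exists_section htriv
    exact Groth.EGA41Two.isTrivialOver_of_section (X := Exal.Ext.infinitesimal K) s hs fun l =>
      (ha l).trans (by rw [IsScalarTower.algebraMap_apply Λ A B]; rfl)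
  obtain ⟨s, D, hs, hsΛ, hD, hDK⟩ := Groth.EGA41Two.exists_phi_conormal K htrivB
  let DA : Derivation Λ A K.Cotangent := D.compAlgebraMap A
  have hDA : Groth.EGA41Two.IsDerOfSection ((Exal.Ext.infinitesimal K).restrictBase A) s DA := fun a => by
    show (Exal.Ext.infinitesimal K).incl (D (algebraMap A B a)) = _
    rw [hD, IsScalarTower.algebraMap_apply A B (B ⧸ K)]; rfl
  have hsA : ∀ l : Λ, s (algebraMap Λ (B ⧸ K) l) =
      algebraMap A ((Exal.Ext.infinitesimal K).restrictBase A).E (algebraMap Λ A l) := fun l =>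
    (hsΛ l).trans (by rw [IsScalarTower.algebraMap_apply Λ A B]; rfl)
  have hχ' := (Groth.EGA41Two.isCharHom_iff (X := (Exal.Ext.infinitesimal K).restrictBase A) s hs hsA DA hDA χ).mp hχ
  let j : (B ⧸ K) ⊗[A] Ω[A⁄Λ] →ₗ[B ⧸ K] (B ⧸ K) ⊗[B] Ω[B⁄Λ] :=
    ((KaehlerDifferential.mapBaseChange Λ A B).baseChange (B ⧸ K)).comp
      (TensorProduct.AlgebraTensorModule.cancelBaseChange A B (B ⧸ K) (B ⧸ K) Ω[A⁄Λ]).symm.toLinearMap
  have hj : ∀ (c : B ⧸ K) (a : A), j (c ⊗ₜ[A] KaehlerDifferential.D Λ A a) =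
      c ⊗ₜ[B] KaehlerDifferential.D Λ B (algebraMap A B a) := fun c a => by
    simp [j, KaehlerDifferential.mapBaseChange_tmul, KaehlerDifferential.map_D]
  have hphi : ∀ z, Groth.EGA41Two.phi DA z = Groth.EGA41Two.phi D (j z) := fun z => by
    induction z using Groth.EGA41Two.tensor_omega_induction with
    | h0 => simp
    | hadd x y hx hy => simp only [map_add, hx, hy]
    | h c a => rw [hj, Groth.EGA41Two.phi_tmul, Groth.EGA41Two.phi_tmul]; rfl
  have hm : ∀ z, KaehlerDifferential.mapBaseChange Λ A (B ⧸ K) z =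
      KaehlerDifferential.mapBaseChange Λ B (B ⧸ K) (j z) := fun z => by
    induction z using Groth.EGA41Two.tensor_omega_induction with
    | h0 => simp
    | hadd x y hx hy => simp only [map_add, hx, hy]
    | h c a =>
      rw [hj, KaehlerDifferential.mapBaseChange_tmul, KaehlerDifferential.mapBaseChange_tmul,
        KaehlerDifferential.map_D, KaehlerDifferential.map_D, ← IsScalarTower.algebraMap_apply]
  have hk : ∀ z : ↥(EGA41.imperfection Λ A (B ⧸ K)), ∃ k : K,
      j (z : (B ⧸ K) ⊗[A] Ω[A⁄Λ]) = (1 : B ⧸ K) ⊗ₜ[B] KaehlerDifferential.D Λ B k ∧ χ z = K.toCotangent k := by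
    intro z
    obtain ⟨k, hk⟩ := (Groth.EGA41Two.mem_imperfection_quotient_iff K _).mp
      (show j (z : (B ⧸ K) ⊗[A] Ω[A⁄Λ]) ∈ EGA41.imperfection Λ B (B ⧸ K) from (hm _).symm.trans z.2)
    exact ⟨k, hk, by rw [hχ' z, hphi, hk, Groth.EGA41Two.phi_one_tmul K hDK]⟩
  refine ⟨fun z => ?_, fun x hx => ?_⟩
  · show χ z = 0 ↔ j (z : (B ⧸ K) ⊗[A] Ω[A⁄Λ]) = 0
    refine ⟨fun h0 => ?_, fun h0 => by rw [hχ' z, hphi, h0, map_zero]⟩
    obtain ⟨k, h1, h2⟩ := hk z
    rw [h1]
    exact Groth.EGA41Two.one_tmul_D_eq_zero_of_toCotangent_eq_zero K k (h2.symm.trans h0)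
  · let π := (KaehlerDifferential.map Λ A B B).baseChange (B ⧸ K)
    have hπ : π ((1 : B ⧸ K) ⊗ₜ[B] KaehlerDifferential.D Λ B x) = (1 : B ⧸ K) ⊗ₜ[B] KaehlerDifferential.D A B x := by
      simp [π, KaehlerDifferential.map_D]
    have hex : Function.Exact j π := by
      have h0 := lTensor_exact (B ⧸ K) (KaehlerDifferential.exact_mapBaseChange_map Λ A B)
          (KaehlerDifferential.map_surjective Λ A B)
      have h1 : Function.Exact ((KaehlerDifferential.mapBaseChange Λ A B).baseChange (B ⧸ K)) π := by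
        simp only [π, LinearMap.baseChange_eq_ltensor]
        exact h0
      clear_value π
      intro y
      rw [h1 y]
      constructor
      · rintro ⟨w, hw⟩
        refine ⟨TensorProduct.AlgebraTensorModule.cancelBaseChange A B (B ⧸ K) (B ⧸ K) Ω[A⁄Λ] w, ?_⟩
        simp only [j, LinearMap.comp_apply, LinearEquiv.coe_coe, LinearEquiv.symm_apply_apply]
        exact hw
      · rintro ⟨w, hw⟩
        exact ⟨_, hw⟩
    rw [← hπ, hex]
    constructor
    · rintro ⟨z, hz⟩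
      obtain ⟨k, h1, h2⟩ := hk z
      refine ⟨z, h1.trans (sub_eq_zero.mp ?_)⟩
      rw [← TensorProduct.tmul_sub, ← map_sub]
      have h3 : K.toCotangent (k - (⟨x, hx⟩ : K)) = 0 := by rw [map_sub, ← h2, hz, sub_self]
      have h4 := Groth.EGA41Two.one_tmul_D_eq_zero_of_toCotangent_eq_zero (A := Λ) K (k - (⟨x, hx⟩ : K)) h3
      rw [Submodule.coe_sub] at h4
      exact h4
    · rintro ⟨z, hz⟩
      have hzmem : z ∈ EGA41.imperfection Λ A (B ⧸ K) := by
        show KaehlerDifferential.mapBaseChange Λ A (B ⧸ K) z = 0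
        rw [hm, hz]
        exact (Groth.EGA41Two.mem_imperfection_quotient_iff (A := Λ) K _).mpr ⟨⟨x, hx⟩, rfl⟩
      exact ⟨⟨z, hzmem⟩, by rw [hχ' ⟨z, hzmem⟩, hphi, hz]; exact Groth.EGA41Two.phi_one_tmul K hDK ⟨x, hx⟩⟩

end Groth.Agent.S5833
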