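import Groth.Statements.S5834
import Groth.Agent.EGA41Two.Infinitesimal
import Groth.Agent.S5833
import Mathlib.RingTheory.Smooth.Basic
import Mathlib.RingTheory.Kaehler.JacobiZariski

set_option autoImplicit false
universe u v
open EGA41
open TensorProduct

namespace Groth.Agent.S5834

/-- Let Λ → A → B be ring maps with B formally smooth over A, K an ideal of B, C = B ⧸ K, and suppose E
= B ⧸ K², as an extension of C by K/K², is Λ-trivial. Then the characteristic homomorphism χ :
Υ_{C/A/Λ} → K/K² of E as an A-extension relative to Λ → A is injective (so that, with the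
description of its image as the kernel of K/K² → C ⊗_B Ω_{B/A}, the sequence 0 → Υ_{C/A/Λ} → K/K² →
C ⊗_B Ω_{B/A} → Ω_{C/A} → 0 is exact). -/
theorem result {Λ : Type u} {A B : Type v} [CommRing Λ]
    [CommRing A] [CommRing B] [Algebra Λ A] [Algebra Λ B] [Algebra A B] [IsScalarTower Λ A B]
    [Algebra.FormallySmooth A B] (K : Ideal B)
    (htriv : ((Exal.Ext.infinitesimal K).restrictBase A).IsTrivialOver Λ)
    (χ : ↥(EGA41.imperfection Λ A (B ⧸ K)) →ₗ[B ⧸ K] K.Cotangent)
    (hχ : ((Exal.Ext.infinitesimal K).restrictBase A).IsCharHom Λ χ) :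
    Function.Injective χ := by
  rw [injective_iff_map_eq_zero]
  intro z hz
  have h := ((Groth.Agent.S5833.result K htriv χ hχ).1 z).mp hz
  let m := KaehlerDifferential.mapBaseChange Λ A B
  have minj : Function.Injective m := by
    rw [injective_iff_map_eq_zero]
    intro w hw
    obtain ⟨u, rfl⟩ := (Algebra.H1Cotangent.exact_δ_mapBaseChange Λ A B w).mp hw
    rw [Subsingleton.elim u 0, map_zero]
  obtain ⟨σ, hσ⟩ := Module.projective_lifting_property (KaehlerDifferential.map Λ A B B) LinearMap.id
    (KaehlerDifferential.map_surjective Λ A B)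
  let q : Ω[B⁄Λ] →ₗ[B] LinearMap.range m := LinearMap.codRestrict _
    (LinearMap.id - σ.comp (KaehlerDifferential.map Λ A B B)) fun ω => by
      rw [KaehlerDifferential.range_mapBaseChange]
      simp [show ∀ v, KaehlerDifferential.map Λ A B B (σ v) = v from fun v => LinearMap.congr_fun hσ v]
  let r := (LinearEquiv.ofInjective m minj).symm.toLinearMap.comp q
  have hr : r.comp m = LinearMap.id := by
    apply LinearMap.ext
    intro w
    show (LinearEquiv.ofInjective m minj).symm (q (m w)) = w
    rw [LinearEquiv.symm_apply_eq]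
    apply Subtype.ext
    show m w - σ (KaehlerDifferential.map Λ A B B (m w)) = m w
    rw [(KaehlerDifferential.exact_mapBaseChange_map Λ A B).apply_apply_eq_zero, map_zero, sub_zero]
  have minj' : ∀ w, (m.baseChange (B ⧸ K)) w = 0 → w = 0 := fun w hw => by
    have := congrArg (r.baseChange (B ⧸ K)) hw
    rwa [← LinearMap.comp_apply, ← LinearMap.baseChange_comp, hr, LinearMap.baseChange_id, LinearMap.id_apply,
      map_zero] at this
  have h2 := minj' _ h
  exact Subtype.ext ((LinearEquiv.map_eq_zero_iff _).mp h2)

end Groth.Agent.S5834
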