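import Groth.Statements.S5835
import Groth.Agent.Ega41Sep.Separable
import Groth.Agent.EGA41Two.KerMap
import Mathlib.RingTheory.TensorProduct.Maps

set_option autoImplicit false
universe v w
open scoped TensorProduct
open EGA41

namespace Groth.Agent.S5835

theorem injective_of_geometricallyReduced (R : Type w) {F E : Type w} [CommRing R] [Field F] [Field E] [Algebra R F]
    [Algebra R E] [Algebra F E] [IsScalarTower R F E] [Algebra.IsGeometricallyReduced F E] :
    Function.Injective (KaehlerDifferential.mapBaseChange R F E) := by
  haveI : Algebra.FormallySmooth F E := (Groth.Ega41Sep.formallySmooth_iff_isGeometricallyReduced F E).mpr ‹_›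
  rw [injective_iff_map_eq_zero]
  intro w hw
  obtain ⟨u, rfl⟩ := (Algebra.H1Cotangent.exact_δ_mapBaseChange R F E w).mp hw
  rw [Subsingleton.elim u 0, map_zero]

theorem isGeometricallyReduced_of_surjective {F : Type v} {F' E : Type w} [Field F] [Field F'] [Field E]
    [Algebra F F'] [Algebra F E] [Algebra F' E] [IsScalarTower F F' E]
    (hs : Function.Surjective (algebraMap F F')) [Algebra.IsGeometricallyReduced F E] :
    Algebra.IsGeometricallyReduced F' E := by
  rw [Algebra.isGeometricallyReduced_field_iff]
  let A := AlgebraicClosure F'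
  haveI : Algebra.IsAlgebraic F F' := ⟨fun x => by obtain ⟨y, rfl⟩ := hs x; exact isAlgebraic_algebraMap y⟩
  haveI : Algebra.IsAlgebraic F A := Algebra.IsAlgebraic.trans F F' A
  haveI : IsReduced (A ⊗[F] E) := inferInstance
  haveI : TensorProduct.CompatibleSMul F F' A E := ⟨fun s a l => by
    obtain ⟨y, rfl⟩ := hs s
    rw [algebraMap_smul, algebraMap_smul, TensorProduct.smul_tmul]⟩
  haveI : TensorProduct.CompatibleSMul F' F A E := inferInstance
  exact isReduced_of_injective _ (Algebra.TensorProduct.equivOfCompatibleSMul F F' A A E).injective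

theorem eq_zero_of_subfield (R : Type w) {F K L : Type w} [CommRing R] [Field F] [Field K] [Field L]
    [Algebra R F] [Algebra R K] [Algebra R L] [Algebra F K] [Algebra F L] [Algebra K L]
    [IsScalarTower R F K] [IsScalarTower R F L] [IsScalarTower R K L] [IsScalarTower F K L]
    [Algebra.IsGeometricallyReduced F L] {z : L ⊗[K] Ω[K⁄R]} (hz : z ∈ EGA41.imperfection R K L)
    (hspan : z ∈ Submodule.span L
      (Set.range fun s : F => (1 : L) ⊗ₜ[K] KaehlerDifferential.D R K (algebraMap F K s))) : z = 0 := by
  let Φ : L ⊗[F] Ω[F⁄R] →ₗ[L] L ⊗[K] Ω[K⁄R] :=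
    LinearMap.liftBaseChange L (((TensorProduct.mk K L Ω[K⁄R] 1).restrictScalars F).comp (KaehlerDifferential.map R R F K))
  have hΦ : ∀ (c : L) (s : F), Φ (c ⊗ₜ KaehlerDifferential.D R F s) =
      c • ((1 : L) ⊗ₜ[K] KaehlerDifferential.D R K (algebraMap F K s)) := fun c s => by
    simp [Φ, KaehlerDifferential.map_D]
  have hle : Submodule.span L (Set.range fun s : F => (1 : L) ⊗ₜ[K] KaehlerDifferential.D R K (algebraMap F K s)) ≤
      LinearMap.range Φ := by
    rw [Submodule.span_le]
    rintro _ ⟨s, rfl⟩
    exact ⟨(1 : L) ⊗ₜ KaehlerDifferential.D R F s, (hΦ 1 s).trans (one_smul _ _)⟩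
  obtain ⟨u, rfl⟩ := hle hspan
  have hcomp : ∀ u, KaehlerDifferential.mapBaseChange R K L (Φ u) = KaehlerDifferential.mapBaseChange R F L u := by
    intro u
    induction u using TensorProduct.induction_on with
    | zero => simp
    | add x y hx hy => simp only [map_add, hx, hy]
    | tmul c η =>
      suffices H : ∀ c, KaehlerDifferential.mapBaseChange R K L (Φ (c ⊗ₜ[F] η)) =
          KaehlerDifferential.mapBaseChange R F L (c ⊗ₜ[F] η) from H c
      have hη : η ∈ Submodule.span F (Set.range (KaehlerDifferential.D R F)) := by
        rw [KaehlerDifferential.span_range_derivation]; exact Submodule.mem_top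
      clear c
      induction hη using Submodule.span_induction with
      | mem η hh =>
        obtain ⟨s, rfl⟩ := hh
        intro c
        rw [hΦ, map_smul]
        simp only [KaehlerDifferential.mapBaseChange_tmul, KaehlerDifferential.map_D, one_smul,
          ← IsScalarTower.algebraMap_apply]
      | zero => intro c; simp
      | add x y _ _ hx hy => intro c; simp only [TensorProduct.tmul_add, map_add, hx, hy]
      | smul b x _ hx => intro c; rw [TensorProduct.tmul_smul, TensorProduct.smul_tmul']; exact hx (b • c)
  have h0 : KaehlerDifferential.mapBaseChange R F L u = 0 := (hcomp u).symm.trans hz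
  rw [(map_eq_zero_iff _ (injective_of_geometricallyReduced R)).mp h0, map_zero]

/-- For fields k₀ ⊆ k ⊆ K ⊆ L, the map of imperfection modules Υ_{L/K/k₀} → Υ_{L/K/k} induced by
Ω_{K/k₀} → Ω_{K/k} is injective (k is k₀-admissible for the extension L of K) in each of the
following cases: L is separable over k; L is separable over K; k lies in k₀(K^p), p the
characteristic exponent. Separable means geometrically reduced (not necessarily algebraic). -/
theorem result {k : Type v} {k₀ K L : Type w}
    [Field k₀] [Field k] [Field K] [Field L] [Algebra k₀ k] [Algebra k₀ K] [Algebra k₀ L] [Algebra k K]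
    [Algebra k L] [Algebra K L] [IsScalarTower k₀ k K] [IsScalarTower k₀ k L] [IsScalarTower k₀ K L]
    [IsScalarTower k K L] (p : ℕ) [ExpChar K p]
    (h : Algebra.IsGeometricallyReduced k L ∨ Algebra.IsGeometricallyReduced K L ∨
      ∀ x : k, algebraMap k K x ∈ EGA41.pPowerSubalgebra p k₀ K) :
    ∀ z : L ⊗[K] Ω[K⁄k₀], z ∈ EGA41.imperfection k₀ K L →
      (KaehlerDifferential.map k₀ k K K).baseChange L z = 0 → z = 0 := by
  intro z hz hker
  have hspan := Groth.EGA41Two.mem_span_of_baseChange_map_eq_zero L hker
  have case2 : Algebra.IsGeometricallyReduced K L → z = 0 := fun h2 =>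
    (map_eq_zero_iff _ (injective_of_geometricallyReduced k₀)).mp hz
  rcases h with h | h | h
  · let F := (algebraMap k K).fieldRange
    letI : Algebra k F := (algebraMap k K).rangeRestrictField.toAlgebra
    letI : Algebra k₀ F := ((algebraMap k F).comp (algebraMap k₀ k)).toAlgebra
    haveI : IsScalarTower k F L := IsScalarTower.of_algebraMap_eq fun x =>
      IsScalarTower.algebraMap_apply k K L x
    haveI : IsScalarTower k₀ F K := IsScalarTower.of_algebraMap_eq fun x =>
      IsScalarTower.algebraMap_apply k₀ k K x
    haveI : IsScalarTower k₀ F L := IsScalarTower.of_algebraMap_eq fun x => by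
      rw [IsScalarTower.algebraMap_apply k₀ K L, IsScalarTower.algebraMap_apply k₀ F K]; rfl
    haveI : IsScalarTower F K L := IsScalarTower.of_algebraMap_eq fun x => rfl
    haveI : Algebra.IsGeometricallyReduced F L :=
      isGeometricallyReduced_of_surjective (F := k) (algebraMap k K).rangeRestrictField_bijective.surjective
    refine eq_zero_of_subfield k₀ (F := F) hz (Submodule.span_mono ?_ hspan)
    rintro _ ⟨s, rfl⟩
    exact ⟨algebraMap k F s, rfl⟩
  · exact case2 h
  · rcases ‹ExpChar K p› with _ | hq
    · haveI : CharZero L := charZero_of_injective_algebraMap (algebraMap K L).injective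
      exact case2 (Groth.Ega41Sep.isGeometricallyReduced_charZero K L)
    · have hD : ∀ x ∈ EGA41.pPowerSubalgebra p k₀ K, KaehlerDifferential.D k₀ K x = 0 := by
        intro x hx
        induction hx using Algebra.adjoin_induction with
        | mem x hx =>
          obtain ⟨b, rfl⟩ := hx
          simp [Derivation.leibniz_pow, ← Nat.cast_smul_eq_nsmul K]
        | algebraMap r => exact Derivation.map_algebraMap _ r
        | add x y _ _ hx hy => simp [hx, hy]
        | mul x y _ _ hx hy => simp [hx, hy]
      have hle : Submodule.span L (Set.range fun s : k => (1 : L) ⊗ₜ[K] KaehlerDifferential.D k₀ K (algebraMap k K s)) ≤ ⊥ := by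
        rw [Submodule.span_le]
        rintro _ ⟨s, rfl⟩
        simp [hD _ (h s)]
      exact hle hspan

end Groth.Agent.S5835
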