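import Groth.Statements.S5836
import Mathlib.RingTheory.Flat.Basic
import Mathlib.LinearAlgebra.Dimension.Constructions
import Mathlib.LinearAlgebra.Dimension.RankNullity
import Mathlib.LinearAlgebra.Dimension.DivisionRing
import Groth.Agent.EGA41Two.KerMap

set_option autoImplicit false
set_option backward.isDefEq.respectTransparency false
universe u u' u'' w
open scoped TensorProduct
open EGA41
open TensorProduct

namespace Groth.Agent.S5836

/-- For fields k ⊆ k' ⊆ k'' ⊆ K ⊆ L put Δ(L/K, a/b) = ker(Υ_{L/K/b} → Υ_{L/K/a}) ⊆ L ⊗_K Ω_{K/b}. Then 0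
→ Δ(L/K, k'/k) → Δ(L/K, k''/k) → Δ(L/K, k''/k') → 0 is exact: stated as the surjectivity of the map
induced by L ⊗_K Ω_{K/k} → L ⊗_K Ω_{K/k'} (exactness on the left and in the middle hold by
construction), together with the resulting identity of ranks d(L/K, k''/k) = d(L/K, k''/k') + d(L/K,
k'/k). -/
theorem result {k : Type u} {k' : Type u'} {k'' : Type u''} {K L : Type w}
    [Field k] [Field k'] [Field k''] [Field K] [Field L]
    [Algebra k k'] [Algebra k k''] [Algebra k' k''] [IsScalarTower k k' k'']
    [Algebra k K] [Algebra k' K] [Algebra k'' K] [IsScalarTower k k' K] [IsScalarTower k' k'' K]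
    [IsScalarTower k k'' K] [Algebra K L] [Algebra k L] [Algebra k' L] [Algebra k'' L]
    [IsScalarTower k K L] [IsScalarTower k' K L] [IsScalarTower k'' K L] :
    (∀ w : L ⊗[K] Ω[K⁄k'], w ∈ EGA41.imperfection k' K L →
        (KaehlerDifferential.map k' k'' K K).baseChange L w = 0 →
          ∃ z : L ⊗[K] Ω[K⁄k], z ∈ EGA41.imperfection k K L ∧
            (KaehlerDifferential.map k k'' K K).baseChange L z = 0 ∧
              (KaehlerDifferential.map k k' K K).baseChange L z = w) ∧
      Module.rank L ↥(EGA41.imperfection k K L ⊓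
            LinearMap.ker ((KaehlerDifferential.map k k'' K K).baseChange L)) =
        Module.rank L ↥(EGA41.imperfection k' K L ⊓
              LinearMap.ker ((KaehlerDifferential.map k' k'' K K).baseChange L)) +
          Module.rank L ↥(EGA41.imperfection k K L ⊓
              LinearMap.ker ((KaehlerDifferential.map k k' K K).baseChange L)) := by
  classical
  have : IsScalarTower k k' L := IsScalarTower.of_algebraMap_eq fun x => by
    rw [IsScalarTower.algebraMap_apply k K L, IsScalarTower.algebraMap_apply k' K L, IsScalarTower.algebraMap_apply k k' K]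
  let f' := (KaehlerDifferential.map k k' K K).baseChange L
  let f'' := (KaehlerDifferential.map k k'' K K).baseChange L
  let g := (KaehlerDifferential.map k' k'' K K).baseChange L
  have hcomp : ∀ z, g (f' z) = f'' z := fun z => by
    induction z using TensorProduct.induction_on with
    | zero => simp
    | add x y hx hy => simp only [map_add, hx, hy]
    | tmul c ω => simp only [f', f'', g, LinearMap.baseChange_tmul, Groth.EGA41Two.map_map_apply]
  have hm : ∀ z, KaehlerDifferential.mapBaseChange k' K L (f' z) =
      KaehlerDifferential.map k k' L L (KaehlerDifferential.mapBaseChange k K L z) := fun z => by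
    induction z using TensorProduct.induction_on with
    | zero => simp
    | add x y hx hy => simp only [map_add, hx, hy]
    | tmul c ω =>
      simp only [f', LinearMap.baseChange_tmul, KaehlerDifferential.mapBaseChange_tmul, map_smul]
      congr 1
      have hω : ω ∈ Submodule.span K (Set.range (KaehlerDifferential.D k K)) := by
        rw [KaehlerDifferential.span_range_derivation]; exact Submodule.mem_top
      induction hω using Submodule.span_induction with
      | mem ω h => obtain ⟨b, rfl⟩ := h; simp [KaehlerDifferential.map_D]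
      | zero => simp
      | add x y _ _ hx hy => simp [hx, hy]
      | smul b x _ hx =>
        rw [map_smul, map_smul, map_smul, ← algebraMap_smul L b, ← algebraMap_smul L b, map_smul, hx]
  have hsurj : ∀ w : L ⊗[K] Ω[K⁄k'], w ∈ EGA41.imperfection k' K L → g w = 0 →
      ∃ z : L ⊗[K] Ω[K⁄k], z ∈ EGA41.imperfection k K L ∧ f'' z = 0 ∧ f' z = w := by
    intro w hw hgw
    obtain ⟨z, rfl⟩ : ∃ z, f' z = w := by
      have := LinearMap.lTensor_surjective L (KaehlerDifferential.map_surjective k k' K)
      rw [← LinearMap.baseChange_eq_ltensor] at this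
      exact this w
    have h1 : KaehlerDifferential.map k k' L L (KaehlerDifferential.mapBaseChange k K L z) = 0 := by
      rw [← hm]; exact hw
    have h2 : Submodule.span L (Set.range fun s : k' => KaehlerDifferential.D k L (algebraMap k' L s)) ≤
        Submodule.map (KaehlerDifferential.mapBaseChange k K L) (LinearMap.ker f') := by
      rw [Submodule.span_le]
      rintro _ ⟨s, rfl⟩
      refine ⟨(1 : L) ⊗ₜ[K] KaehlerDifferential.D k K (algebraMap k' K s), ?_, ?_⟩
      · show f' _ = 0
        simp [f', KaehlerDifferential.map_D]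
      · rw [KaehlerDifferential.mapBaseChange_tmul, one_smul, KaehlerDifferential.map_D,
          ← IsScalarTower.algebraMap_apply]
    obtain ⟨u, hu, hu'⟩ := h2 (Groth.EGA41Two.mem_span_of_map_eq_zero h1)
    have hu0 : f' u = 0 := hu
    refine ⟨z - u, ?_, ?_, ?_⟩
    · show KaehlerDifferential.mapBaseChange k K L (z - u) = 0
      rw [map_sub, hu', sub_self]
    · rw [← hcomp, map_sub f', hu0, sub_zero]; exact hgw
    · rw [map_sub, hu0, sub_zero]
  refine ⟨hsurj, ?_⟩
  let P : Submodule L (L ⊗[K] Ω[K⁄k]) := EGA41.imperfection k K L ⊓ LinearMap.ker f''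
  let Q : Submodule L (L ⊗[K] Ω[K⁄k']) := EGA41.imperfection k' K L ⊓ LinearMap.ker g
  let φ : P →ₗ[L] Q := LinearMap.codRestrict Q (f'.comp P.subtype) fun z => by
    refine ⟨?_, ?_⟩
    · show KaehlerDifferential.mapBaseChange k' K L (f' z) = 0
      rw [hm, show KaehlerDifferential.mapBaseChange k K L (z : L ⊗[K] Ω[K⁄k]) = 0 from z.2.1, map_zero]
    · show g (f' z) = 0
      rw [hcomp]; exact z.2.2
  have hφ : Function.Surjective φ := fun w => by
    obtain ⟨z, h1, h2, h3⟩ := hsurj w w.2.1 w.2.2
    exact ⟨⟨z, h1, h2⟩, Subtype.ext h3⟩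
  have hker : Submodule.map P.subtype (LinearMap.ker φ) = EGA41.imperfection k K L ⊓ LinearMap.ker f' := by
    ext z
    constructor
    · rintro ⟨z', hz', rfl⟩
      exact ⟨z'.2.1, congrArg Subtype.val hz'⟩
    · rintro ⟨h1, h2⟩
      refine ⟨⟨z, h1, ?_⟩, Subtype.ext h2, rfl⟩
      show f'' z = 0
      rw [← hcomp, show f' z = 0 from h2, map_zero]
  show Module.rank L P = Module.rank L Q + Module.rank L ↥(EGA41.imperfection k K L ⊓ LinearMap.ker f')
  let : AddCommGroup ↥P := P.addCommGroup
  let : AddCommGroup ↥Q := Q.addCommGroup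
  have r1 := LinearMap.rank_range_add_rank_ker (R := L) (M := ↥P) (M₁ := ↥Q) φ
  rw [LinearMap.range_eq_top.mpr hφ, rank_top,
    ((LinearMap.ker φ).equivMapOfInjective P.subtype Subtype.val_injective).rank_eq, hker] at r1
  exact r1.symm

end Groth.Agent.S5836
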