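import Groth.Statements.S5837
import Mathlib.RingTheory.Flat.Basic
import Mathlib.LinearAlgebra.TensorProduct.Prod
import Mathlib.LinearAlgebra.Dimension.Constructions
import Mathlib.LinearAlgebra.Dimension.RankNullity
import Mathlib.LinearAlgebra.Dimension.DivisionRing
import Groth.Agent.EGA41Two.KerMap

set_option autoImplicit false
set_option backward.isDefEq.respectTransparency false
universe u u' w
open scoped TensorProduct
open EGA41
open TensorProduct

namespace Groth.Agent.S5837

/-- Rank form. For fields k₀ ⊆ k ⊆ K ⊆ L ⊆ M, with Δ(F/E, k/k₀) = ker(Υ_{F/E/k₀} → Υ_{F/E/k}) and d its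
rank, one has d(M/K, k/k₀) = d(M/L, k/k₀) + d(L/K, k/k₀) (cardinal ranks; the published statement
gives the short exact sequence 0 → Δ(L/K, k/k₀) ⊗_L M → Δ(M/K, k/k₀) → Δ(M/L, k/k₀) → 0, of which
this row states the rank identity). -/
theorem result {k₀ : Type u} {k : Type u'} {K L M : Type w}
    [Field k₀] [Field k] [Field K] [Field L] [Field M] [Algebra k₀ k]
    [Algebra k₀ K] [Algebra k K] [IsScalarTower k₀ k K] [Algebra k₀ L] [Algebra k L] [IsScalarTower k₀ k L]
    [Algebra K L] [Algebra K M] [Algebra L M] [IsScalarTower K L M]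
    [Algebra k₀ M] [Algebra k M] [IsScalarTower k₀ K L] [IsScalarTower k K L]
    [IsScalarTower k₀ K M] [IsScalarTower k K M] [IsScalarTower k₀ L M] [IsScalarTower k L M] :
    Module.rank M ↥(EGA41.imperfection k₀ K M ⊓
          LinearMap.ker ((KaehlerDifferential.map k₀ k K K).baseChange M)) =
      Module.rank M ↥(EGA41.imperfection k₀ L M ⊓
            LinearMap.ker ((KaehlerDifferential.map k₀ k L L).baseChange M)) +
        Module.rank L ↥(EGA41.imperfection k₀ K L ⊓
            LinearMap.ker ((KaehlerDifferential.map k₀ k K K).baseChange L)) := by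
  classical
  let m := KaehlerDifferential.mapBaseChange k₀ K L
  let n := (KaehlerDifferential.map k₀ k K K).baseChange L
  let mM := KaehlerDifferential.mapBaseChange k₀ K M
  let nM := (KaehlerDifferential.map k₀ k K K).baseChange M
  let mL := KaehlerDifferential.mapBaseChange k₀ L M
  let nL := (KaehlerDifferential.map k₀ k L L).baseChange M
  let mk := KaehlerDifferential.mapBaseChange k K L
  let c := TensorProduct.AlgebraTensorModule.cancelBaseChange K L M M Ω[K⁄k₀]
  let c' := TensorProduct.AlgebraTensorModule.cancelBaseChange K L M M Ω[K⁄k]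
  let a : M ⊗[K] Ω[K⁄k₀] →ₗ[M] M ⊗[L] Ω[L⁄k₀] := (m.baseChange M).comp c.symm.toLinearMap
  have ha : ∀ (x : M) (y : K), a (x ⊗ₜ[K] KaehlerDifferential.D k₀ K y) =
      x ⊗ₜ[L] KaehlerDifferential.D k₀ L (algebraMap K L y) := fun x y => by
    simp [a, c, m, KaehlerDifferential.mapBaseChange_tmul, KaehlerDifferential.map_D]
  have ext_span : ∀ {P : M ⊗[K] Ω[K⁄k₀] → Prop}, P 0 → (∀ x y, P x → P y → P (x + y)) →
      (∀ x y, P (x ⊗ₜ[K] KaehlerDifferential.D k₀ K y)) → ∀ z, P z := by
    intro P h0 hadd h z
    induction z using TensorProduct.induction_on with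
    | zero => exact h0
    | add x y hx hy => exact hadd x y hx hy
    | tmul c ω =>
      suffices H : ∀ c, P (c ⊗ₜ[K] ω) from H c
      have hω : ω ∈ Submodule.span K (Set.range (KaehlerDifferential.D k₀ K)) := by
        rw [KaehlerDifferential.span_range_derivation]; exact Submodule.mem_top
      clear c
      induction hω using Submodule.span_induction with
      | mem ω hh => obtain ⟨b, rfl⟩ := hh; exact fun c => h c b
      | zero => intro c; rw [TensorProduct.tmul_zero]; exact h0
      | add x y _ _ hx hy => intro c; rw [TensorProduct.tmul_add]; exact hadd _ _ (hx c) (hy c)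
      | smul b x _ hx => intro c; rw [TensorProduct.tmul_smul, TensorProduct.smul_tmul']; exact hx (b • c)
  have hma : ∀ z, mL (a z) = mM z := by
    apply ext_span
    · simp
    · intro x y hx hy; simp only [map_add, hx, hy]
    · intro x y
      rw [ha]
      simp only [mL, mM, KaehlerDifferential.mapBaseChange_tmul, KaehlerDifferential.map_D,
        ← IsScalarTower.algebraMap_apply]
  have hna : ∀ z, nL (a z) = (mk.baseChange M) (c'.symm (nM z)) := by
    apply ext_span
    · simp
    · intro x y hx hy; simp only [map_add, hx, hy]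
    · intro x y
      rw [ha]
      simp [nL, nM, mk, c', KaehlerDifferential.map_D, KaehlerDifferential.mapBaseChange_tmul]
  have hnc : ∀ z, nM z = c' ((n.baseChange M) (c.symm z)) := by
    apply ext_span
    · simp
    · intro x y hx hy; simp only [map_add, hx, hy]
    · intro x y
      simp [nM, n, c, c']
  let P : Submodule M (M ⊗[K] Ω[K⁄k₀]) := EGA41.imperfection k₀ K M ⊓ LinearMap.ker nM
  let Q : Submodule M (M ⊗[L] Ω[L⁄k₀]) := EGA41.imperfection k₀ L M ⊓ LinearMap.ker nL
  let φ : P →ₗ[M] Q := LinearMap.codRestrict Q (a.comp P.subtype) fun z => by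
    refine ⟨?_, ?_⟩
    · show mL (a z) = 0
      rw [hma]; exact z.2.1
    · show nL (a z) = 0
      rw [hna, show nM (z : M ⊗[K] Ω[K⁄k₀]) = 0 from z.2.2, map_zero, map_zero]
  have hφ : Function.Surjective φ := by
    rintro ⟨w, hw1, hw2⟩
    have h2 : Submodule.span M (Set.range fun s : k => (1 : M) ⊗ₜ[L] KaehlerDifferential.D k₀ L (algebraMap k L s)) ≤
        Submodule.map a (LinearMap.ker nM) := by
      rw [Submodule.span_le]
      rintro _ ⟨s, rfl⟩
      refine ⟨(1 : M) ⊗ₜ[K] KaehlerDifferential.D k₀ K (algebraMap k K s), ?_, ?_⟩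
      · show nM _ = 0
        simp [nM, KaehlerDifferential.map_D]
      · rw [ha, ← IsScalarTower.algebraMap_apply]
    obtain ⟨z, hz, rfl⟩ := h2 (Groth.EGA41Two.mem_span_of_baseChange_map_eq_zero M hw2)
    exact ⟨⟨z, (hma z).symm.trans hw1, hz⟩, rfl⟩
  let D : Submodule L (L ⊗[K] Ω[K⁄k₀]) := EGA41.imperfection k₀ K L ⊓ LinearMap.ker n
  have hD : LinearMap.ker (m.baseChange M) ⊓ LinearMap.ker (n.baseChange M) =
      LinearMap.range (D.subtype.baseChange M) := by
    have hex : Function.Exact D.subtype (m.prod n) := by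
      intro x
      rw [← LinearMap.mem_ker, LinearMap.ker_prod]
      constructor
      · intro hx; exact ⟨⟨x, hx⟩, rfl⟩
      · rintro ⟨y, rfl⟩; exact y.2
    let : AddCommGroup ↥D := D.addCommGroup
    have h2 := @Module.Flat.lTensor_exact L M _ _ _ _ ↥D (L ⊗[K] Ω[K⁄k₀]) (Ω[L⁄k₀] × L ⊗[K] Ω[K⁄k]) _ _ _ _ _ _ D.subtype (m.prod n) hex
    ext y
    have h3 : ∀ v : M ⊗[L] (Ω[L⁄k₀] × L ⊗[K] Ω[K⁄k]), (LinearMap.fst L _ _).lTensor M v = 0 →
        (LinearMap.snd L _ _).lTensor M v = 0 → v = 0 := fun v h4 h5 => by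
      apply (TensorProduct.prodRight L L M _ _).injective
      rw [map_zero]
      have e1 : ∀ v, (TensorProduct.prodRight L L M _ _ v) =
          (((LinearMap.fst L Ω[L⁄k₀] (L ⊗[K] Ω[K⁄k])).lTensor M v, (LinearMap.snd L Ω[L⁄k₀] (L ⊗[K] Ω[K⁄k])).lTensor M v)) := fun v => by
        induction v using TensorProduct.induction_on with
        | zero => simp only [map_zero, Prod.mk_zero_zero]
        | add x y hx hy => rw [map_add, hx, hy, map_add, map_add, Prod.mk_add_mk]
        | tmul c p => simp
      rw [e1, h4, h5, Prod.mk_zero_zero]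
    simp only [Submodule.mem_inf, LinearMap.mem_ker, LinearMap.mem_range, LinearMap.baseChange_eq_ltensor]
    rw [← Set.mem_range, ← h2 y]
    have e2 : (LinearMap.fst L _ _).lTensor M ((m.prod n).lTensor M y) = m.lTensor M y := by
      rw [← LinearMap.lTensor_comp_apply, LinearMap.fst_prod]
    have e3 : (LinearMap.snd L _ _).lTensor M ((m.prod n).lTensor M y) = n.lTensor M y := by
      rw [← LinearMap.lTensor_comp_apply, LinearMap.snd_prod]
    constructor
    · rintro ⟨h4, h5⟩
      exact h3 _ (e2.trans h4) (e3.trans h5)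
    · intro h4
      exact ⟨by rw [← e2, h4, map_zero], by rw [← e3, h4, map_zero]⟩
  have hker : Submodule.map P.subtype (LinearMap.ker φ) =
      LinearMap.range (c.toLinearMap.comp (D.subtype.baseChange M)) := by
    rw [LinearMap.range_comp, ← hD]
    ext z
    constructor
    · rintro ⟨z', hz', rfl⟩
      refine ⟨c.symm z', ⟨congrArg Subtype.val hz', ?_⟩, c.apply_symm_apply _⟩
      apply c'.injective
      rw [map_zero, ← hnc]
      exact z'.2.2
    · rintro ⟨w, ⟨h1, h2⟩, rfl⟩
      have h4 : a (c w) = 0 := by simp only [a, LinearMap.comp_apply, LinearEquiv.coe_coe, LinearEquiv.symm_apply_apply]; exact h1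
      refine ⟨⟨c w, ?_, ?_⟩, Subtype.ext h4, rfl⟩
      · show mM (c w) = 0
        rw [← hma, h4, map_zero]
      · show nM (c w) = 0
        rw [hnc, LinearEquiv.symm_apply_apply, show n.baseChange M w = 0 from h2, map_zero]
  have hinj : Function.Injective (c.toLinearMap.comp (D.subtype.baseChange M)) := by
    rw [LinearMap.coe_comp, LinearMap.baseChange_eq_ltensor]
    exact c.injective.comp (Module.Flat.lTensor_preserves_injective_linearMap _ Subtype.val_injective)
  show Module.rank M P = Module.rank M Q + Module.rank L D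
  let : AddCommGroup ↥P := P.addCommGroup
  let : AddCommGroup ↥Q := Q.addCommGroup
  have hfree : Module.Free L ↥D := @Module.Free.of_divisionRing L ↥D _ D.addCommGroup D.module
  have r1 := LinearMap.rank_range_add_rank_ker (R := M) (M := ↥P) (M₁ := ↥Q) φ
  rw [LinearMap.range_eq_top.mpr hφ, rank_top,
    ((LinearMap.ker φ).equivMapOfInjective P.subtype Subtype.val_injective).rank_eq, hker,
    ← (LinearEquiv.ofInjective _ hinj).rank_eq, Module.rank_baseChange, Cardinal.lift_id] at r1
  exact r1.symm

end Groth.Agent.S5837
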