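import Groth.Statements.S5838
import Groth.Agent.EGA41Two.FormalInverse

set_option autoImplicit false
universe u v w
open EGA41

namespace Groth.Agent.S5838

/-- Let A be a topological ring with a countable decreasing fundamental system (𝔍_n) of open ideals, M
and N topological A-modules with the topologies deduced from that of A, M Hausdorff and complete,
and u : M → N a continuous linear map such that for every n the cokernel of M/𝔍_n M → N/𝔍_n N is a
projective (A/𝔍_n)-module. Then u is formally left invertible if and only if it has a linear left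
inverse. (The published statement adds that u is then a topological isomorphism onto a topological
direct factor.) -/
theorem result {A : Type u} {M : Type v} {N : Type w}
    [CommRing A] [TopologicalSpace A] [AddCommGroup M] [Module A M] [UniformSpace M] [IsUniformAddGroup M]
    [CompleteSpace M] [T2Space M] [AddCommGroup N] [Module A N] [TopologicalSpace N]
    (𝔍 : ℕ → Ideal A) (h𝔍open : ∀ n, IsOpen (𝔍 n : Set A)) (h𝔍anti : Antitone 𝔍)
    (h𝔍basis : (nhds (0 : A)).HasBasis (fun _ : ℕ => True) (fun n => (𝔍 n : Set A)))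
    (hM : TopMod.IsDeduced A M) (hN : TopMod.IsDeduced A N) (u : M →L[A] N)
    (hcoker : ∀ n, Module.Projective (A ⧸ 𝔍 n)
      ((N ⧸ LinearMap.range u.toLinearMap) ⧸ (𝔍 n • (⊤ : Submodule A (N ⧸ LinearMap.range u.toLinearMap))))) :
    TopMod.IsFormallyLeftInvertible u ↔ ∃ w : N →ₗ[A] M, ∀ x : M, w (u x) = x := by
  constructor
  · intro h
    have hu := (Groth.EGA41Two.isFormallyLeftInvertible_iff hM hN u).mp h
    obtain ⟨w, hw, hcomp⟩ := Groth.EGA41Two.exists_compatible_system u.toLinearMap 𝔍 h𝔍anti
      (fun n => hu (𝔍 n) (h𝔍open n)) hcoker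
    have hbasis : (nhds (0 : M)).HasBasis (fun _ : ℕ => True) (fun n => ((𝔍 n • ⊤ : Submodule A M) : Set M)) := by
      refine hM.2.to_hasBasis (fun J hJ => ?_) fun n _ => ⟨𝔍 n, h𝔍open n, subset_rfl⟩
      obtain ⟨n, -, hn⟩ := h𝔍basis.mem_iff.mp (hJ.mem_nhds J.zero_mem)
      exact ⟨n, trivial, Submodule.smul_mono (fun x hx => hn hx) le_rfl⟩
    have hclosed : ∀ n, IsClosed ((𝔍 n • ⊤ : Submodule A M) : Set M) := fun n =>
      AddSubgroup.isClosed_of_isOpen (𝔍 n • ⊤ : Submodule A M).toAddSubgroup
        (Groth.EGA41Two.isOpen_smul_top hM (h𝔍open n))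
    have huniq : ∀ x x' : M, (∀ n, (Submodule.Quotient.mk x : M ⧸ (𝔍 n • ⊤ : Submodule A M)) = Submodule.Quotient.mk x') →
        x = x' := by
      intro x x' hx
      rw [← sub_eq_zero]
      by_contra hne
      obtain ⟨n, -, hn⟩ := hbasis.mem_iff.mp (isOpen_ne.mem_nhds (Ne.symm hne) : {z : M | z ≠ x - x'} ∈ nhds 0)
      exact hn ((Submodule.Quotient.eq _).mp (hx n)) rfl
    have hex : ∀ y : N, ∃ x : M, ∀ n, (Submodule.Quotient.mk x : M ⧸ (𝔍 n • ⊤ : Submodule A M)) = w n y := by
      intro y
      choose m hm using fun n => Submodule.Quotient.mk_surjective _ (w n y)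
      have hstep : ∀ n k, n ≤ k → m k - m n ∈ (𝔍 n • ⊤ : Submodule A M) := by
        intro n k hnk
        induction k, hnk using Nat.le_induction with
        | base => rw [sub_self]; exact zero_mem _
        | succ k hk ih =>
          have h1 : m (k + 1) - m k ∈ (𝔍 k • ⊤ : Submodule A M) := by
            rw [← Submodule.Quotient.eq, hm k, ← hcomp k y, ← hm (k + 1)]
            rfl
          have h2 := add_mem ((Submodule.smul_mono (h𝔍anti hk) le_rfl) h1) ih
          rwa [sub_add_sub_cancel] at h2
      have hc : CauchySeq m := by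
        have hb : (uniformity M).HasBasis (fun _ : ℕ => True)
            (fun n => {p : M × M | p.2 - p.1 ∈ (𝔍 n • ⊤ : Submodule A M)}) := by
          rw [uniformity_eq_comap_nhds_zero M]
          exact hbasis.comap _
        rw [hb.cauchySeq_iff]
        intro n _
        refine ⟨n, fun a ha b hb => ?_⟩
        have h2 := sub_mem (hstep n b hb) (hstep n a ha)
        rwa [sub_sub_sub_cancel_right] at h2
      obtain ⟨x, hx⟩ := cauchySeq_tendsto_of_complete hc
      refine ⟨x, fun n => ?_⟩
      rw [← hm n, Submodule.Quotient.eq]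
      exact ((hclosed n).preimage (continuous_id.sub continuous_const)).mem_of_tendsto hx
        (Filter.eventually_atTop.mpr ⟨n, fun k hk => hstep n k hk⟩)
    choose W hW using hex
    refine ⟨{ toFun := W
              map_add' := fun a b => huniq _ _ fun n => by rw [Submodule.Quotient.mk_add, hW, hW, hW, map_add]
              map_smul' := fun r a => huniq _ _ fun n => by
                rw [RingHom.id_apply, Submodule.Quotient.mk_smul, hW, hW, map_smul] }, fun x => huniq _ _ fun n => ?_⟩
    exact (hW (u x) n).trans (hw n x)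
  · rintro ⟨w, hw⟩
    refine (Groth.EGA41Two.isFormallyLeftInvertible_iff hM hN u).mpr fun J _ =>
      ⟨(J • ⊤ : Submodule A M).mkQ.comp w, fun x => ?_⟩
    show Submodule.Quotient.mk (w (u x)) = _
    rw [hw]

end Groth.Agent.S5838
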