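import Groth.Statements.S5839
import Groth.Agent.EGA41Two.FormalInverse
import Groth.Agent.S5838
import Groth.Agent.S5827

set_option autoImplicit false
universe u v w
open EGA41

namespace Groth.Agent.S5839

/-- Let A be preadmissible with ideal of definition 𝔏, the topologies of M and N deduced from that of A,
N/JN projective over A/J for every open ideal J; assuming moreover a countable decreasing
fundamental system of open ideals and M Hausdorff and complete, u : M → N has a linear left inverse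
if and only if the induced map M/𝔏M → N/𝔏N has one (both being equivalent to formal left
invertibility). -/
theorem result {A : Type u} {M : Type v} {N : Type w}
    [CommRing A] [TopologicalSpace A] [AddCommGroup M] [Module A M] [UniformSpace M] [IsUniformAddGroup M]
    [CompleteSpace M] [T2Space M] [AddCommGroup N] [Module A N] [TopologicalSpace N]
    (𝔍 : ℕ → Ideal A) (h𝔍open : ∀ n, IsOpen (𝔍 n : Set A)) (h𝔍anti : Antitone 𝔍)
    (h𝔍basis : (nhds (0 : A)).HasBasis (fun _ : ℕ => True) (fun n => (𝔍 n : Set A)))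
    (hM : TopMod.IsDeduced A M) (hN : TopMod.IsDeduced A N) (u : M →L[A] N)
    (hA : LinTop.IsPreadmissible A) (𝔏 : Ideal A) (h𝔏 : LinTop.IsIdealOfDefinition A 𝔏)
    (hproj : ∀ J : Ideal A, IsOpen (J : Set A) → Module.Projective (A ⧸ J) (N ⧸ (J • (⊤ : Submodule A N)))) :
    (∃ w : N →ₗ[A] M, ∀ x : M, w (u x) = x) ↔
      ∃ w₀ : N →ₗ[A] M ⧸ (𝔏 • ⊤ : Submodule A M), ∀ x : M, w₀ (u x) = Submodule.Quotient.mk x := by
  refine ⟨fun ⟨w, hw⟩ => ⟨(𝔏 • ⊤ : Submodule A M).mkQ.comp w, fun x => by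
    show Submodule.Quotient.mk (w (u x)) = _
    rw [hw]⟩, fun hw₀ => ?_⟩
  have hfli := (Groth.Agent.S5827.result hA 𝔏 h𝔏 hM hN hproj u).mpr hw₀
  refine (Groth.Agent.S5838.result 𝔍 h𝔍open h𝔍anti h𝔍basis hM hN u (fun n => ?_)).mp hfli
  obtain ⟨w, hw⟩ := (Groth.EGA41Two.isFormallyLeftInvertible_iff hM hN u).mp hfli (𝔍 n) (h𝔍open n)
  have hs : Function.Surjective (algebraMap A (A ⧸ 𝔍 n)) := Ideal.Quotient.mk_surjective
  let R := LinearMap.range u.toLinearMap
  have hu : (𝔍 n • ⊤ : Submodule A M) ≤ (𝔍 n • ⊤ : Submodule A N).comap u.toLinearMap := by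
    rw [← Submodule.map_le_iff_le_comap, Submodule.map_smul'']
    exact Submodule.smul_mono le_rfl le_top
  let e : N →ₗ[A] N ⧸ (𝔍 n • ⊤ : Submodule A N) :=
    (𝔍 n • ⊤ : Submodule A N).mkQ - (Submodule.mapQ _ _ u.toLinearMap hu).comp w
  have he : R ≤ LinearMap.ker e := by
    rintro _ ⟨x, rfl⟩
    show Submodule.Quotient.mk (u x) - Submodule.mapQ _ _ u.toLinearMap hu (w (u x)) = 0
    rw [hw, Submodule.mapQ_apply]
    exact sub_self _
  have he2 : (𝔍 n • ⊤ : Submodule A (N ⧸ R)) ≤ LinearMap.ker (Submodule.liftQ R e he) := by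
    rw [Submodule.smul_le]
    intro a ha y _
    rw [LinearMap.mem_ker, map_smul, ← algebraMap_smul (A ⧸ 𝔍 n) a,
      show algebraMap A (A ⧸ 𝔍 n) a = 0 from Ideal.Quotient.eq_zero_iff_mem.mpr ha, zero_smul]
  have hq : (𝔍 n • ⊤ : Submodule A N) ≤ LinearMap.ker ((𝔍 n • ⊤ : Submodule A (N ⧸ R)).mkQ.comp R.mkQ) := by
    rw [LinearMap.ker_comp, Submodule.ker_mkQ, ← Submodule.map_le_iff_le_comap, Submodule.map_smul'']
    exact Submodule.smul_mono le_rfl le_top
  have := hproj (𝔍 n) (h𝔍open n)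
  refine Module.Projective.of_split (M := N ⧸ (𝔍 n • ⊤ : Submodule A N))
    (LinearMap.extendScalarsOfSurjective hs (Submodule.liftQ _ _ he2))
    (LinearMap.extendScalarsOfSurjective hs (Submodule.liftQ _ _ hq)) ?_
  apply LinearMap.ext
  intro z
  obtain ⟨z, rfl⟩ := Submodule.Quotient.mk_surjective _ z
  obtain ⟨y, rfl⟩ := Submodule.Quotient.mk_surjective _ z
  show Submodule.liftQ _ _ hq (Submodule.Quotient.mk y - Submodule.mapQ _ _ u.toLinearMap hu (w y)) =
    Submodule.Quotient.mk (Submodule.Quotient.mk y)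
  obtain ⟨m, hm⟩ := Submodule.Quotient.mk_surjective _ (w y)
  rw [← hm, map_sub]
  show (Submodule.Quotient.mk (Submodule.Quotient.mk y) : (N ⧸ R) ⧸ (𝔍 n • ⊤ : Submodule A (N ⧸ R))) -
    Submodule.Quotient.mk (Submodule.Quotient.mk (u m)) = _
  have h0 : (Submodule.Quotient.mk (u m) : N ⧸ R) = 0 := (Submodule.Quotient.mk_eq_zero R).mpr ⟨m, rfl⟩
  rw [h0, Submodule.Quotient.mk_zero, sub_zero]

end Groth.Agent.S5839
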