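import Groth.Statements.S5854
import Groth.Agent.SchemeMorphisms.ZClos.FlatBC
-- import your own Groth.Agent.* helpers here

set_option autoImplicit false
universe u
open ZClos

namespace Groth.Agent.S5854

open CategoryTheory CategoryTheory.Limits AlgebraicGeometry in
/-- Let f : X' → X be a flat morphism of locally Noetherian schemes, Z a subset of X stable under
specialization, Z' = f⁻¹(Z) and F a quasi-coherent O_X-module. If H⁰_{X/Z}(F) is coherent then
H⁰_{X'/Z'}(f^* F) is coherent; the converse holds when f is moreover surjective (faithfully flat)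
and quasi-compact. -/
theorem result {X X' : Scheme.{u}} [IsLocallyNoetherian X] [IsLocallyNoetherian X'] (f : X' ⟶ X) [Flat f]
    (Z : Set X) (hZ : StableUnderSpecialization Z) (F : X.Modules) (hF : Coh.IsQCoh F) :
    (Coh.IsCoh ((ZClos.H0 Z).obj F) →
      Coh.IsCoh ((ZClos.H0 (f.base ⁻¹' Z)).obj ((Scheme.Modules.pullback f).obj F))) ∧
    (Surjective f → QuasiCompact f →
      Coh.IsCoh ((ZClos.H0 (f.base ⁻¹' Z)).obj ((Scheme.Modules.pullback f).obj F)) →
        Coh.IsCoh ((ZClos.H0 Z).obj F)) := by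
  haveI hFq : F.IsQuasicoherent := hF
  obtain ⟨e⟩ := Groth.ZClosAux.nonempty_pullback_H0 f F hZ
  haveI hH : ((ZClos.H0 Z).obj F).IsQuasicoherent := Groth.ZClosAux.isQCoh_H0 Z hF
  refine ⟨fun h => ⟨Groth.ZClosAux.isQCoh_H0 _ (Groth.QCohMod.isQCoh_pullback_obj f F),
    Groth.QCohMod.isFT_of_iso e (Groth.QCohMod.isFT_pullback f _ h.2)⟩, fun _ _ h => ?_⟩
  exact ⟨hH, Groth.ZClosAux.isFT_of_pullback f _ (Groth.QCohMod.isFT_of_iso e.symm h.2)⟩

end Groth.Agent.S5854
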