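import Groth.Statements.S5855
import Groth.Agent.SchemeMorphisms.ZClos.Depth
-- import your own Groth.Agent.* helpers here

set_option autoImplicit false
universe u
open ZClos

namespace Groth.Agent.S5855

open CategoryTheory CategoryTheory.Limits AlgebraicGeometry in
/-- For a locally Noetherian scheme X, a subset Z of X stable under specialization, a coherent
O_X-module F and a point x, F is Z-pure at x (the map induced on stalks at x by ρ_{X/Z} : F →
H⁰_{X/Z}(F) is injective) if and only if the stalk F_{x'} has depth at least 1 over O_{X,x'} at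
every generization x' of x lying in Z. -/
theorem result (X : Scheme.{u}) [IsLocallyNoetherian X] (Z : Set X)
    (hZ : StableUnderSpecialization Z) (F : X.Modules) (hF : Coh.IsCoh F) (x : X) :
    ZClos.IsZPureAt Z F x ↔
      ∀ x' : X, x' ⤳ x → x' ∈ Z → (1 : ℕ∞) ≤ LocCoh.depth (X.presheaf.stalk x') (F.presheaf.stalk x') := by
  rw [Groth.ZClosAux.isZPureAt_iff hZ hF.1 x]
  exact forall₃_congr fun y _ _ => (Groth.ZClosAux.one_le_depth_stalk_iff hF y).symm

end Groth.Agent.S5855
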