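import Groth.Statements.S5861
import Groth.Agent.SchemeMorphisms.ZClos.STwo
-- import your own Groth.Agent.* helpers here

set_option autoImplicit false
universe u
open ZClos

namespace Groth.Agent.S5861

open CategoryTheory CategoryTheory.Limits AlgebraicGeometry in
/-- Suppose X is a locally Noetherian scheme and F is a coherent O_X-module whose support is the whole
of X. Assume no associated point of F has a local ring of X of dimension 1, and assume H⁰_{X/Z}(F)
is coherent, where Z = Z^(2)(X) denotes the set of points whose local ring has dimension at least 2.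
Consider the set U of points x where F satisfies (S_2), meaning depth(F_{x'}) ≥ min(2, dim F_{x'})
holds at every generization x' of x. Then U is an open subset, and the points lying outside U form a
set of codimension ≥ 2: the local ring at any such point has dimension at least 2. -/
theorem result (X : Scheme.{u}) [IsLocallyNoetherian X] (F : X.Modules) (hF : Coh.IsCoh F)
    (hsupp : ∀ x : X, Nontrivial (F.presheaf.stalk x))
    (hass : ∀ x ∈ AssSch.Ass F, ringKrullDim (X.presheaf.stalk x) ≠ 1)
    (hH : Coh.IsCoh ((ZClos.H0 (ZClos.dimGe X 2)).obj F)) :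
    IsOpen {x : X | ∀ x' : X, x' ⤳ x →
        min (2 : WithBot ℕ∞) (Module.supportDim (X.presheaf.stalk x') (F.presheaf.stalk x')) ≤
          ((LocCoh.depth (X.presheaf.stalk x') (F.presheaf.stalk x') : ℕ∞) : WithBot ℕ∞)} ∧
      ∀ x : X, (¬ ∀ x' : X, x' ⤳ x →
        min (2 : WithBot ℕ∞) (Module.supportDim (X.presheaf.stalk x') (F.presheaf.stalk x')) ≤
          ((LocCoh.depth (X.presheaf.stalk x') (F.presheaf.stalk x') : ℕ∞) : WithBot ℕ∞)) →
        (2 : WithBot ℕ∞) ≤ ringKrullDim (X.presheaf.stalk x) := by
  exact Groth.ZClosAux.isOpen_s2_locus hF hsupp hass hH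

end Groth.Agent.S5861
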