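import Groth.Statements.S5862
import Groth.Agent.SpectralTopology.Radicial

set_option autoImplicit false
universe u
open RadPt

namespace Groth.Agent.S5862
open Groth.SpectralTopology

open CategoryTheory AlgebraicGeometry in
/-- Let f : X → Y and g : Y → Z be morphisms of schemes and y a point of Y. If f is radicial at y (fibre
with at most one point, purely inseparable residue field extension) and g is radicial at g(y), then
g ∘ f is radicial at g(y). Conversely, if f is surjective and g ∘ f is radicial at g(y), then f is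
radicial at y and g is radicial at g(y). -/
theorem result {X Y Z : Scheme.{u}} (f : X ⟶ Y) (g : Y ⟶ Z) (y : Y) :
    (RadPt.IsRadicialAt f y → RadPt.IsRadicialAt g (g y) → RadPt.IsRadicialAt (f ≫ g) (g y)) ∧
      (Surjective f → RadPt.IsRadicialAt (f ≫ g) (g y) →
        RadPt.IsRadicialAt f y ∧ RadPt.IsRadicialAt g (g y)) := by
  refine ⟨fun hf hg ↦ ⟨fun x x' hx hx' ↦ ?_, fun x hx ↦ ?_⟩, fun hsurj hc ↦ ?_⟩
  · have e1 : f x = y := by
      apply hg.1
      · simpa using hx
      · rfl
    have e2 : f x' = y := by
      apply hg.1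
      · simpa using hx'
      · rfl
    exact hf.1 x x' e1 e2
  · have e1 : f x = y := by
      apply hg.1
      · simpa using hx
      · rfl
    exact (pi_comp f g x).2 ⟨hg.2 _ (by rw [e1]), hf.2 x e1⟩
  · refine ⟨⟨fun x x' hx hx' ↦ hc.1 x x' (by simp [hx]) (by simp [hx']), fun x hx ↦
      ((pi_comp f g x).1 (hc.2 x (by simp [hx]))).2⟩, fun b b' hb hb' ↦ ?_, fun b hb ↦ ?_⟩
    · obtain ⟨x, rfl⟩ := f.surjective b
      obtain ⟨x', rfl⟩ := f.surjective b'
      rw [hc.1 x x' (by simpa using hb) (by simpa using hb')]
    · obtain ⟨x, rfl⟩ := f.surjective b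
      exact ((pi_comp f g x).1 (hc.2 x (by simpa using hb))).1

end Groth.Agent.S5862
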