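import Groth.Statements.S5864
import Groth.Agent.SpectralTopology.Radicial

set_option autoImplicit false
universe u
open RadPt

namespace Groth.Agent.S5864
open Groth.SpectralTopology

open CategoryTheory AlgebraicGeometry in
/-- Let f : X → Y be a morphism of schemes whose induced morphism of reduced schemes is birational (f
maps the maximal points of X bijectively onto those of Y, with one-point fibres and trivial residue
field extensions over the maximal points of Y), g : Y' → Y a flat morphism and f' : X ×_Y Y' → Y'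
the base change (any cartesian square). Then the morphism of reduced schemes induced by f' is
birational in the same sense. -/
theorem result {X Y X' Y' : Scheme.{u}} {f : X ⟶ Y} {g : Y' ⟶ Y} [Flat g] {f' : X' ⟶ Y'} {g' : X' ⟶ X}
    (sq : IsPullback g' f' f g) (hf : RadPt.IsBirational f) : RadPt.IsBirational f' := by
  obtain ⟨hbij, hfib⟩ := hf
  have hflat' : Flat g' := MorphismProperty.of_isPullback (P := @Flat) sq.flip inferInstance
  have hmax : ∀ {S : Scheme.{u}} (a : S), a ∈ genericPoints S ↔ ∀ b : S, b ⤳ a → b = a := by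
    intro S a
    constructor
    · intro ha b hb
      refine (hb.antisymm (specializes_iff_mem_closure.2 ?_)).eq
      exact ha.2 isIrreducible_singleton.closure
        (closure_minimal (Set.singleton_subset_iff.2 hb.mem_closure) isClosed_closure)
        (subset_closure rfl)
    · intro h
      refine ⟨isIrreducible_singleton.closure, fun Z hZ hle ↦ ?_⟩
      have hη := hZ.closure.isGenericPoint_genericPoint isClosed_closure
      have hs := hη.specializes (subset_closure (hle (subset_closure rfl)))
      rw [← h _ hs, hη.def]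
      exact subset_closure
  have hgmax : ∀ {S T : Scheme.{u}} (φ : S ⟶ T) [Flat φ] (a : S), a ∈ genericPoints S →
      φ a ∈ genericPoints T := by
    intro S T φ _ a ha
    refine (hmax _).2 fun b hb ↦ ?_
    obtain ⟨a', ha', rfl⟩ := Flat.generalizingMap φ hb
    rw [(hmax a).1 ha a' ha']
  -- the fibres over points lying over maximal points of Y
  have hcomm : ∀ x' : X', g (f' x') = f (g' x') := fun x' ↦ by
    rw [← Scheme.Hom.comp_apply, ← Scheme.Hom.comp_apply, sq.w]
  have hover : ∀ y' : Y', g y' ∈ genericPoints Y →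
      (∀ a b : X', f' a = y' → f' b = y' → a = b) ∧ (∃ a, f' a = y') ∧
        ∀ a : X', f' a = y' → Function.Bijective (f'.residueFieldMap a).hom := by
    intro y' hy'
    obtain ⟨x, hx, hxy⟩ := hbij.2.2 hy'
    obtain ⟨h1, h2⟩ := hfib _ hy'
    have hrad : RadPt.IsRadicialAt f (g y') :=
      ⟨h1, fun a ha ↦ purelyInseparable_of_bijective (h2 a ha)⟩
    have hrad' : RadPt.IsRadicialAt f' y' := by
      rw [isRadicialAt_iff_universallyInjective] at hrad ⊢
      exact MorphismProperty.of_isPullback (P := @UniversallyInjective)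
        (isPullback_fiberToSpecResidueField_of_isPullback sq y') hrad
    obtain ⟨s, hs⟩ := exists_section_of_bijective f (h2 x hxy)
    let t : Spec (Y'.residueField y') ⟶ X' := sq.lift
      (Spec.map (g.residueFieldMap y') ≫ Spec.map (Y.residueFieldCongr hxy).hom ≫ s)
      (Y'.fromSpecResidueField y') (by
        rw [Category.assoc, Category.assoc, hs, Scheme.residueFieldCongr_fromSpecResidueField,
          Scheme.Hom.SpecMap_residueFieldMap_fromSpecResidueField])
    have ht : t ≫ f' = Y'.fromSpecResidueField y' := sq.lift_snd _ _ _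
    let p : Spec (Y'.residueField y') := IsLocalRing.closedPoint (Y'.residueField y')
    have hp : f' (t p) = y' := by
      rw [← Scheme.Hom.comp_apply, ht, Scheme.fromSpecResidueField_apply]
    refine ⟨hrad'.1, ⟨_, hp⟩, fun a ha ↦ ?_⟩
    obtain rfl := hrad'.1 a (t p) ha hp
    have h3 := congr_prop (P := fun φ ↦ Function.Bijective φ) ht p
    have h4 := h3.2 (bijective_residueFieldMap (Y'.fromSpecResidueField y') p)
    rw [Scheme.residueFieldMap_comp] at h4
    refine ⟨RingHom.injective _, fun c ↦ ?_⟩
    obtain ⟨d, hd⟩ := h4.2 ((t.residueFieldMap p).hom c)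
    exact ⟨d, (t.residueFieldMap p).hom.injective hd⟩
  have hmaps : ∀ x' ∈ genericPoints X', f' x' ∈ genericPoints Y' := by
    intro x' hx'
    have hy : g (f' x') ∈ genericPoints Y := by
      rw [hcomm]
      exact hbij.1 (hgmax g' x' hx')
    refine (hmax _).2 fun b hb ↦ ?_
    have hgb : g b = g (f' x') :=
      (hmax _).1 hy _ (hb.map g.continuous)
    obtain ⟨x, hx, hxy⟩ := hbij.2.2 hy
    obtain ⟨s, hs⟩ := exists_section_of_bijective f ((hfib _ hy).2 x hxy)
    let G := g.fiber (g (f' x'))
    let σ : G ⟶ X' := sq.lift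
      (g.fiberToSpecResidueField (g (f' x')) ≫ Spec.map (Y.residueFieldCongr hxy).hom ≫ s)
      (g.fiberι (g (f' x'))) (by
        rw [Category.assoc, Category.assoc, hs, Scheme.residueFieldCongr_fromSpecResidueField,
          Scheme.Hom.fiber_fac])
    have hσ : σ ≫ f' = g.fiberι (g (f' x')) := sq.lift_snd _ _ _
    obtain ⟨z, hz⟩ := (g.range_fiberι (g (f' x'))).ge (show b ∈ g ⁻¹' {g (f' x')} from hgb)
    obtain ⟨w, hw⟩ := (g.range_fiberι (g (f' x'))).ge
      (show f' x' ∈ g ⁻¹' {g (f' x')} from rfl)
    have hzw : z ⤳ w :=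
      (g.fiberι (g (f' x'))).isEmbedding.isInducing.specializes_iff.1 (by rwa [hz, hw])
    have hσw : σ w = x' :=
      (hover _ hy).1 _ _ (by rw [← Scheme.Hom.comp_apply, hσ, hw]) rfl
    have := (hmax x').1 hx' (σ z) (hσw ▸ hzw.map σ.continuous)
    rw [← this, ← Scheme.Hom.comp_apply, hσ, hz]
  refine ⟨⟨hmaps, fun a ha b hb hab ↦ ?_, fun y' hy' ↦ ?_⟩, fun y' hy' ↦ ?_⟩
  · exact (hover _ (hgmax g _ (hmaps a ha))).1 a b rfl hab.symm
  · obtain ⟨h1, ⟨a, ha⟩, -⟩ := hover y' (hgmax g y' hy')
    refine ⟨a, (hmax a).2 fun b hb ↦ ?_, ha⟩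
    exact h1 b a ((hmax y').1 hy' _ (ha ▸ hb.map f'.continuous)) ha
  · obtain ⟨h1, -, h3⟩ := hover y' (hgmax g y' hy')
    exact ⟨h1, h3⟩

end Groth.Agent.S5864
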