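import Groth.Statements.S5870
import Groth.Agent.SchemeMorphisms.ZClos.Closed
-- import your own Groth.Agent.* helpers here

set_option autoImplicit false
universe u
open ZClos

namespace Groth.Agent.S5870

open CategoryTheory CategoryTheory.Limits AlgebraicGeometry in
/-- For a locally Noetherian scheme X, a subset Z of X stable under specialization and an arbitrary
O_X-module F, the Z-closure H⁰_{X/Z}(F) is zero if and only if the support of F is contained in Z,
that is, the stalk of F at every point outside Z is zero. -/
theorem result (X : Scheme.{u}) [IsLocallyNoetherian X] (Z : Set X)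
    (hZ : StableUnderSpecialization Z) (F : X.Modules) :
    IsZero ((ZClos.H0 Z).obj F) ↔ ∀ x : X, x ∉ Z → Subsingleton (F.presheaf.stalk x) := by
  exact Groth.ZClosAux.isZero_H0_iff hZ

end Groth.Agent.S5870
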