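import Groth.Statements.S5871
import Groth.Agent.Ega43Geom.AssLocus

set_option autoImplicit false
universe u
open CategoryTheory AlgebraicGeometry
open Cons9

namespace Groth.Agent.S5871

/-- Let f : X ⟶ S be a morphism of finite presentation (locally of finite presentation, quasi-compact
and quasi-separated) and F a quasi-coherent O_X-module of finite presentation; for s in S let F_s be
the pullback of F to the scheme-theoretic fibre X_s. Then the set of s such that F_s has no embedded
associated point (an associated point of F_s which is a specialization of another associated point
is equal to it) is locally constructible in S. -/
theorem result {X S : Scheme.{u}} (f : X ⟶ S)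
    [LocallyOfFinitePresentation f] [QuasiCompact f] [QuasiSeparated f]
    (F : X.Modules) [Coh.IsQCoh F] (hF : CohB1.IsFP F) :
    Topology.IsLocallyConstructible
      {s : S | AssSch.NoEmbedded ((Scheme.Modules.pullback (f.fiberι s)).obj F)} := by
  exact Groth.Ega43Geom.isLocallyConstructible_noEmbedded f F hF

end Groth.Agent.S5871
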