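import Groth.Statements.S5877
import Groth.Agent.SubAlgImm.Basic
-- import your own Groth.Agent.* helpers here

set_option autoImplicit false
universe u
open CategoryTheory AlgebraicGeometry Opposite
open Lim8

namespace Groth.Agent.S5877

/-- Equivalence of a) and b): let Y be a quasi-compact quasi-separated scheme, f : X ⟶ Y a
quasi-separated morphism of finite type, C a quasi-coherent O_Y-algebra with relative spectrum
Spec(C) ⟶ Y, and g : X ⟶ Spec(C) a Y-morphism. The quasi-coherent sub-O_Y-algebras of C of finite
type form an increasing filtered family with union C; here such a sub-algebra is a quasi-coherent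
O_Y-algebra C' with a homomorphism C' ⟶ C that is injective on sections over every open, and with
C'(U) a finitely generated O_Y(U)-algebra for every affine open U of Y. Then g is an immersion if
and only if, for some quasi-coherent sub-algebra C' of C of finite type, the composite X ⟶ Spec(C) ⟶
Spec(C') is an immersion. -/
theorem result {X Y : Scheme.{u}}
    [CompactSpace Y] [QuasiSeparatedSpace Y]
    (f : X ⟶ Y) [LocallyOfFiniteType f] [QuasiCompact f] [QuasiSeparated f]
    (C : RelSpec.QCAlg Y) (g : X ⟶ C.spec) (hg : g ≫ C.π = f) :
    IsImmersion g ↔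
      ∃ (C' : RelSpec.QCAlg Y) (φ : C' ⟶ C),
        (∀ U : Y.Opens, Function.Injective (φ.hom.app (op U))) ∧
        (∀ U : Y.affineOpens, (C'.str.app (op (U : Y.Opens))).hom.FiniteType) ∧
        IsImmersion (g ≫ RelSpec.QCAlg.specMap φ) := by
  refine ⟨fun hi => ?_, fun ⟨C', φ, _, _, hi⟩ => AlgebraicGeometry.IsImmersion.of_comp g (RelSpec.QCAlg.specMap φ)⟩
  exact Groth.SubAlgImm.exists_subalgebra f C g hg

end Groth.Agent.S5877

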