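import Groth.Statements.S5882
import Groth.Agent.SpectralTopology.ConsModLocus

set_option autoImplicit false
universe u
open CategoryTheory AlgebraicGeometry
open ConsProp

namespace Groth.Agent.S5882

/-- Let P(X, F, k) be a constructible property of algebraic schemes with a coherent module, S an
irreducible scheme with generic point η, u : X ⟶ S a morphism of finite presentation (locally of
finite presentation, quasi-compact and quasi-separated), F a quasi-coherent O_X-module of finite
presentation, and E the set of points s of S such that P holds for (X_s, F_s) over κ(s). Then one of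
E and its complement is a neighbourhood of η in S. -/
theorem result
    {P : ∀ ⦃Y T : Scheme.{u}⦄, (Y ⟶ T) → Y.Modules → Prop} (hP : ConsProp.IsConsMod P)
    {X S : Scheme.{u}} [IrreducibleSpace S] (u : X ⟶ S)
    [LocallyOfFinitePresentation u] [QuasiCompact u] [QuasiSeparated u]
    (F : X.Modules) [Coh.IsQCoh F] (hF : CohB1.IsFP F) :
    genericPoint S ∈ interior (ConsProp.locusMod P u F) ∨
      genericPoint S ∈ interior (ConsProp.locusMod P u F)ᶜ := by
  obtain ⟨_, ⟨V, hV, rfl⟩, hηV, -⟩ :=
    S.isBasis_affineOpens.exists_subset_of_mem_open (Set.mem_univ (genericPoint S)) isOpen_univ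
  have hC := Groth.SpectralTopology.ConsModLocus.isConstructible_preimage_locusMod u F hF hP hV
  by_cases h : genericPoint S ∈ ConsProp.locusMod P u F
  · exact Or.inl (Groth.SpectralTopology.ConsModLocus.genericPoint_mem_interior_of_open hηV hC h
      subset_rfl)
  · exact Or.inr (Groth.SpectralTopology.ConsModLocus.genericPoint_mem_interior_of_open hηV hC.compl h
      subset_rfl)

end Groth.Agent.S5882
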