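import Groth.Statements.S5888
import Groth.Agent.SpectralTopology.ConsBase
import Groth.Agent.FibreDim.Constructible
import Groth.Agent.FibreDim.BaseChange

set_option autoImplicit false
universe u
open CategoryTheory AlgebraicGeometry
open ConsProp

namespace Groth.Agent.S5888

/-- For a given set Φ of values (natural numbers, with −∞ = ⊥ the dimension of the empty scheme), the
property of an algebraic k-scheme X that the dimension of X belongs to Φ is a constructible property
of algebraic schemes. The dimension is the Krull dimension of the underlying topological space,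
valued in WithBot ℕ∞. -/
theorem result (Φ : Set (WithBot ℕ∞)) :
    ConsProp.IsCons (fun Y T g => topologicalKrullDim ↥Y ∈ Φ) := by
  have hfib : ∀ {X T : Scheme}  (g : X ⟶ T) [Subsingleton T] (t : T),
      topologicalKrullDim ↥(g.fiber t) = topologicalKrullDim ↥X := fun g _ t ↦ by
    refine (IsHomeomorph.topologicalKrullDim_eq _ (isHomeomorph_iff_isEmbedding_surjective.2
      ⟨(g.fiberι t).isEmbedding, fun x ↦ ?_⟩))
    exact (g.range_fiberι t).ge (Subsingleton.elim _ _ : g x = t)
  refine ⟨fun Y Y' T T' g g' e h _ _ _ _ _ _ sq ↦ ?_, fun X S f _ _ _ _ ↦ ?_⟩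
  · obtain ⟨t'⟩ := (inferInstance : Nonempty T')
    have := Groth.FibreDim.dim_fiber_baseChange g h g' e sq t'
    rw [hfib g, hfib g'] at this
    show topologicalKrullDim ↥Y ∈ Φ ↔ topologicalKrullDim ↥Y' ∈ Φ
    rw [this]
  · have : LocallyOfFinitePresentation f :=
      LocallyOfFinitePresentation.iff_locallyOfFiniteType.2 inferInstance
    have hC : Topology.IsConstructible
        {s : S | topologicalKrullDim ↥(f.fiber s) = topologicalKrullDim ↥(f.fiber (genericPoint S))} :=
      (Groth.FibreDim.isLocallyConstructible_dim_fiber_eq f _).isConstructible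
    have hint := Groth.SpectralTopology.genericPoint_mem_interior hC rfl
    by_cases hη : topologicalKrullDim ↥(f.fiber (genericPoint S)) ∈ Φ
    · refine .inl ⟨_, interior_mono (fun s hs ↦ ?_) hint⟩
      show topologicalKrullDim ↥(f.fiber s) ∈ Φ
      rwa [hs]
    · refine .inr ⟨_, interior_mono (fun s hs ↦ ?_) hint⟩
      show topologicalKrullDim ↥(f.fiber s) ∉ Φ
      rwa [hs]

end Groth.Agent.S5888
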