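import Groth.Statements.S5909
import Groth.Agent.Calg5.SepFamily

set_option autoImplicit false
universe u
open CategoryTheory AlgebraicGeometry
open EGA43

namespace Groth.Agent.S5909

/-- Case Z_λ = X: let X be a scheme, (u_i : F ⟶ G_i) a finite family (finite index set) of homomorphisms
of quasi-coherent O_X-modules which is separating (a section of F over an open subset killed by
every u_i is zero), and g : X' ⟶ X a flat morphism. Then the family (g^*u_i : g^*F ⟶ g^*G_i) is
separating. (The published statement allows a finite family of homomorphisms into direct images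
(f_λ)_*G_λ along quasi-compact morphisms f_λ; this row is the case Z_λ = X, to which the general
case reduces.) -/
theorem result {X X' : Scheme.{u}} (F : X.Modules) [Coh.IsQCoh F] {ι : Type u} [Finite ι]
    (G : ι → X.Modules) [∀ i, Coh.IsQCoh (G i)] (u : ∀ i, F ⟶ G i) (g : X' ⟶ X) [Flat g]
    (h : ∀ (V : (X).Opens) (t : ↑((F).presheaf.obj (Opposite.op V))), (∀ i, (Scheme.Modules.Hom.mapPresheaf (u i)).app (Opposite.op V) t = 0) → t = 0) :
    ∀ (V : (X').Opens) (t : ↑(((Scheme.Modules.pullback g).obj F).presheaf.obj (Opposite.op V))), (∀ i, (Scheme.Modules.Hom.mapPresheaf ((Scheme.Modules.pullback g).map (u i))).app (Opposite.op V) t = 0) → t = 0 :=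
  fun V t ht => Groth.Calg5.SepFamily.separating_pullback g F G u (fun y z hz => by
    let _ := Groth.QCohMod.stalkAlg g y
    have : Module.Flat (X.presheaf.stalk (g y)) (X'.presheaf.stalk y) := Flat.stalkMap g y
    exact Groth.Calg5.SepFamily.eq_zero_of_lTensor_of_flat _
      (Groth.Calg5.SepFamily.stalk_injective_of_finite F G u h (g y)) z hz) V t ht

end Groth.Agent.S5909
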