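import Groth.Statements.S5910
import Groth.Agent.EGA43Sep.Nilp
import Groth.Agent.EGA43Sep.Sheaf
import Groth.Agent.Flatmor4.FlatModAffine

set_option autoImplicit false
universe u
open CategoryTheory AlgebraicGeometry
open TensorProduct
open EGA43

namespace Groth.Agent.S5910

open CategoryTheory.Limits in
/-- Separating assertion: over an affine base and in the case Z_λ = X: let A be a commutative ring, p :
X ⟶ Spec A an A-scheme, F a quasi-coherent O_X-module, (G_i) quasi-coherent O_X-modules flat over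
Spec A and u_i : F ⟶ G_i homomorphisms. Let J be a nilpotent ideal of A all of whose successive
quotients J^k/J^{k+1} are free (A/J)-modules, and X₀ = X ×_{Spec A} Spec(A/J). If the family of
pullbacks of the u_i to X₀ is separating (a section of the pulled-back F over an open subset killed
by every member is zero), then (u_i) is separating. (The published statement has an arbitrary base
S, a nilpotent quasi-coherent ideal of O_S whose successive quotients are locally free over O_S
modulo the ideal, homomorphisms into direct images (f_λ)_*G_λ, and the same assertion for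
universally separating families; the assertion is local on S and on X, and this row is the case of
an affine base with free successive quotients and Z_λ = X.) -/
theorem result {X : Scheme.{u}} (A : CommRingCat.{u}) (p : X ⟶ Spec A)
    (J : Ideal ↑A) (hJ : IsNilpotent J) (hfree : ∀ k : ℕ, Module.Free (↑A ⧸ J) ((↑A ⧸ J) ⊗[↑A] ↥(J ^ k)))
    (F : X.Modules) [Coh.IsQCoh F] {ι : Type u} (G : ι → X.Modules) [∀ i, Coh.IsQCoh (G i)]
    (hG : ∀ i, FlatMod.IsFlatOver p (G i)) (u : ∀ i, F ⟶ G i)
    (h0 : ∀ (V : (pullback p (Spec.map (CommRingCat.ofHom (Ideal.Quotient.mk J)))).Opens) (t : ↑(((Scheme.Modules.pullback (pullback.fst p (Spec.map (CommRingCat.ofHom (Ideal.Quotient.mk J))))).obj F).presheaf.obj (Opposite.op V))), (∀ i, (Scheme.Modules.Hom.mapPresheaf ((Scheme.Modules.pullback (pullback.fst p (Spec.map (CommRingCat.ofHom (Ideal.Quotient.mk J))))).map (u i))).app (Opposite.op V) t = 0) → t = 0) :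
    ∀ (V : (X).Opens) (t : ↑((F).presheaf.obj (Opposite.op V))), (∀ i, (Scheme.Modules.Hom.mapPresheaf (u i)).app (Opposite.op V) t = 0) → t = 0 := by
  intro V t ht
  have : F.IsQuasicoherent := ‹Coh.IsQCoh F›
  have : ∀ i, (G i).IsQuasicoherent := fun i => (inferInstance : Coh.IsQCoh (G i))
  refine Groth.DescentBase.eq_zero_of_germ _ t fun y hy => ?_
  obtain ⟨W, hW, hyW, hWV⟩ := exists_isAffineOpen_mem_and_subset (X := X) (U := V) (x := y) hy
  have hWV' : W ≤ V := hWV
  suffices h : ∀ m : Γ(F, W), (∀ i, (u i).app W m = 0) → m = 0 by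
    rw [← Groth.QCohMod.germ_res F hWV' y hyW t, h (Groth.QCohMod.res F hWV' t) (fun i => by
      rw [← Groth.QCohMod.res_app, show (u i).app V t = 0 from ht i, map_zero]), map_zero]
  intro m hm
  let q := Spec.map (CommRingCat.ofHom (Ideal.Quotient.mk J))
  let pr := pullback.fst p q
  let P : (pullback p q).Opens := pr ⁻¹ᵁ W ⊓ pullback.snd p q ⁻¹ᵁ ⊤
  have eP : P ≤ pr ⁻¹ᵁ W := inf_le_left
  have hP : IsAffineOpen P := by
    have : IsAffine _ := hW
    have : IsAffine _ := isAffineOpen_top (Spec A)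
    have : IsAffine _ := isAffineOpen_top (Spec (CommRingCat.of (↑A ⧸ J)))
    exact .of_isIso (Scheme.Hom.isPullback_resLE (IsPullback.of_hasPullback p q)
      (US := ⊤) (UT := ⊤) (UX := W) le_top le_top rfl).isoPullback.hom
  have hpush := (isIso_pushoutSection_iff (IsPullback.of_hasPullback p q)
    (US := ⊤) (UT := ⊤) (UX := W) (UY := P) le_top le_top rfl).1
    (isIso_pushoutSection_of_isAffineOpen (IsPullback.of_hasPullback p q) le_top le_top rfl
      (isAffineOpen_top _) (isAffineOpen_top _) hW)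
  let φ : A ⟶ Γ(X, W) := (Scheme.ΓSpecIso A).inv ≫ p.appLE ⊤ W le_top
  letI : Algebra A Γ(X, W) := φ.hom.toAlgebra
  let _ := Groth.QCohMod.sectionsAlg pr eP
  -- the quotient of `Γ(X, W)` by `J` is the ring of sections over `P`
  let Q : CommRingCat := CommRingCat.of (Γ(X, W) ⧸ J.map φ.hom)
  let l : CommRingCat.of (↑A ⧸ J) ⟶ Q := CommRingCat.ofHom
    (Ideal.quotientMap (J.map φ.hom) φ.hom Ideal.le_comap_map)
  let π : Γ(X, W) ⟶ Q := CommRingCat.ofHom (Ideal.Quotient.mk _)
  have hq : q.appLE ⊤ ⊤ le_top = q.appTop := (Scheme.Hom.app_eq_appLE q).symm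
  have hw : p.appLE ⊤ W le_top ≫ π =
      q.appLE ⊤ ⊤ le_top ≫ (Scheme.ΓSpecIso (CommRingCat.of (↑A ⧸ J))).hom ≫ l := by
    rw [hq, ← Category.assoc q.appTop, Scheme.ΓSpecIso_naturality, Category.assoc,
      ← cancel_epi (Scheme.ΓSpecIso A).inv]
    erw [Iso.inv_hom_id_assoc]
    rfl
  have hker : ∀ r : Γ(X, W), pr.appLE W P eP r = 0 → r ∈ J.map φ.hom := by
    intro r hr
    have h1 := congrArg (fun ψ => ψ.hom r) (hpush.inl_desc _ _ hw)
    simp only [CommRingCat.hom_comp, RingHom.comp_apply] at h1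
    rw [show (pullback.fst p q).appLE W P eP r = 0 from hr, map_zero] at h1
    exact Ideal.Quotient.eq_zero_iff_mem.1 h1.symm
  have hmap : ∀ j ∈ J, pr.appLE W P eP (φ j) = 0 := by
    intro j hj
    have h1 := congrArg (fun ψ => ψ.hom ((Scheme.ΓSpecIso A).inv j)) hpush.w
    simp only [CommRingCat.hom_comp, RingHom.comp_apply, hq] at h1
    have h2 : q.appTop ((Scheme.ΓSpecIso A).inv j) =
        (Scheme.ΓSpecIso (CommRingCat.of (↑A ⧸ J))).inv (Ideal.Quotient.mk J j) := by
      rw [← ConcreteCategory.comp_apply, ← Scheme.ΓSpecIso_inv_naturality]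
      rfl
    rw [h2, Ideal.Quotient.eq_zero_iff_mem.2 hj, map_zero, map_zero] at h1
    exact h1
  letI : ∀ i, Module A Γ(G i, W) := fun i => Module.compHom _ φ.hom
  letI : Module A Γ(F, W) := Module.compHom _ φ.hom
  have hflat : ∀ i, Module.Flat A Γ(G i, W) := fun i => by
    have h1 := (Groth.Flatmor4.flat_sections_iff p (G i) hW (isAffineOpen_top (Spec A))
      le_top).2 fun x _ => hG i x
    letI := Groth.Flatmor4.sectionModule p (G i) (V := (⊤ : (Spec A).Opens)) (U := W) le_top
    letI := (Scheme.ΓSpecIso A).inv.hom.toAlgebra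
    have : IsScalarTower A Γ(Spec A, ⊤) Γ(G i, W) := IsScalarTower.of_algebraMap_smul fun _ _ => rfl
    have : Module.Flat A Γ(Spec A, ⊤) :=
      RingHom.Flat.of_bijective (ConcreteCategory.bijective_of_isIso (Scheme.ΓSpecIso A).inv)
    exact Module.Flat.trans A Γ(Spec A, ⊤) Γ(G i, W)
  let v : ∀ i, Γ(F, W) →ₗ[A] Γ(G i, W) := fun i =>
    { toFun := (u i).app W
      map_add' := map_add _
      map_smul' := fun r x => Scheme.Modules.Hom.app_smul (u i) (φ r) x }
  -- pulling a section back to `P` kills exactly `J • ⊤`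
  have hρ : ∀ (M : X.Modules), letI : Module A Γ(M, W) := Module.compHom _ φ.hom
      ∀ x : Γ(M, W), x ∈ J • (⊤ : Submodule A Γ(M, W)) →
        Groth.QCohMod.res _ eP (Groth.PicAux.pullSec pr M x) = 0 := by
    intro M
    letI : Module A Γ(M, W) := Module.compHom _ φ.hom
    intro x hx
    refine Submodule.smul_induction_on (p := fun x => Groth.QCohMod.res _ eP
      (Groth.PicAux.pullSec pr M x) = 0) hx (fun j hj y _ => ?_) (fun a b ha hb => ?_)
    · show Groth.QCohMod.res _ eP (Groth.PicAux.pullSec pr M (φ j • y)) = 0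
      rw [Groth.QCohMod.res_pullSec_smul, hmap j hj, zero_smul]
    · rw [show Groth.PicAux.pullSec pr M (a + b) = Groth.PicAux.pullSec pr M a +
        Groth.PicAux.pullSec pr M b from map_add _ _ _, map_add, ha, hb, add_zero]
  refine Groth.EGA43Sep.eq_zero_of_sep_mod_nilpotent J hJ hfree v ?_ m hm
  intro w hw'
  obtain ⟨x, rfl⟩ := TensorProduct.mk_surjective A Γ(F, W) (↑A ⧸ J) Ideal.Quotient.mk_surjective w
  have hmem : ∀ (M : Type u) [AddCommGroup M] [Module A M] (y : M),
      (1 : ↑A ⧸ J) ⊗ₜ[A] y = 0 ↔ y ∈ J • (⊤ : Submodule A M) := by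
    intro M _ _ y
    rw [← (TensorProduct.quotTensorEquivQuotSMul M J).map_eq_zero_iff, ← (Ideal.Quotient.mk J).map_one,
      TensorProduct.quotTensorEquivQuotSMul_mk_tmul, one_smul, Submodule.Quotient.mk_eq_zero]
  have h1 : Groth.QCohMod.res _ eP (Groth.PicAux.pullSec pr F x) = 0 := by
    refine h0 P _ fun i => ?_
    show ((Scheme.Modules.pullback pr).map (u i)).app P _ = 0
    rw [← Groth.QCohMod.res_app, Groth.PicAux.pullSec_map]
    exact hρ (G i) _ ((hmem _ _).1 (hw' i))
  have h2 : (1 : Γ(pullback p q, P)) ⊗ₜ[Γ(X, W)] x = 0 := by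
    apply (Groth.QCohMod.pullSecTensor_bijective pr F eP hW hP).1
    rw [map_zero, Groth.QCohMod.pullSecTensor_tmul, one_smul, h1]
  refine (hmem _ x).2 ?_
  -- descend to `Γ(X, W) / J Γ(X, W)`
  let g : Γ(pullback p q, P) →+* Γ(X, W) ⧸ J.map φ.hom := (hpush.desc _ _ hw).hom
  letI := g.toAlgebra
  have hgc : ∀ r, g (algebraMap Γ(X, W) Γ(pullback p q, P) r) = Ideal.Quotient.mk _ r := fun r =>
    congrArg (fun ψ => ψ.hom r) (hpush.inl_desc _ _ hw)
  let gl : Γ(pullback p q, P) →ₗ[Γ(X, W)] Γ(X, W) ⧸ J.map φ.hom :=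
    { toFun := g
      map_add' := map_add g
      map_smul' := fun r b => by
        rw [Algebra.smul_def, map_mul, hgc, RingHom.id_apply, Algebra.smul_def]
        rfl }
  have h3 : (1 : Γ(X, W) ⧸ J.map φ.hom) ⊗ₜ[Γ(X, W)] x = 0 := by
    have := congrArg (gl.rTensor Γ(F, W)) h2
    simpa [gl] using this
  have h4 : x ∈ J.map φ.hom • (⊤ : Submodule Γ(X, W) Γ(F, W)) := by
    rwa [← (TensorProduct.quotTensorEquivQuotSMul Γ(F, W) _).map_eq_zero_iff,
      ← (Ideal.Quotient.mk (J.map φ.hom)).map_one,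
      TensorProduct.quotTensorEquivQuotSMul_mk_tmul, one_smul,
      Submodule.Quotient.mk_eq_zero] at h3
  have : IsScalarTower A Γ(X, W) Γ(F, W) := IsScalarTower.of_algebraMap_smul fun _ _ => rfl
  rw [← Submodule.restrictScalars_mem A] at h4
  rwa [show J.map φ.hom = J.map (algebraMap A Γ(X, W)) from rfl, Ideal.smul_restrictScalars,
    Submodule.restrictScalars_top] at h4

end Groth.Agent.S5910
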