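import Groth.Statements.S5912
import Groth.Agent.Calg5.IdealSepFlat
import Mathlib.RingTheory.Flat.TorsionFree
import Mathlib.RingTheory.Ideal.AssociatedPrime.Finiteness

set_option autoImplicit false
universe u
open TensorProduct
open EGA43

namespace Groth.Agent.S5912

/-- Let A be a Noetherian ring, J an ideal of A and M an A-module which is ideally separated for the
J-adic topology (for every ideal a of A the module a ⊗_A M is J-adically separated), and suppose
every quotient J^k/J^{k+1} is a flat (A/J)-module (the associated graded ring of A along J is flat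
over A/J). Then M is flat if and only if (A/J) ⊗_A M is flat over A/J and M_p is flat over A_p for
every associated prime p of the A-module A/J. -/
theorem result {A : Type u} [CommRing A] [IsNoetherianRing A]
    (J : Ideal A) (M : Type u) [AddCommGroup M] [Module A M]
    (hsep : ∀ a : Ideal A, IsHausdorff J (↥a ⊗[A] M))
    (hgr : ∀ k : ℕ, Module.Flat (A ⧸ J) ((A ⧸ J) ⊗[A] ↥(J ^ k))) :
    Module.Flat A M ↔
      Module.Flat (A ⧸ J) ((A ⧸ J) ⊗[A] M) ∧
        ∀ q : associatedPrimes A (A ⧸ J),
          haveI : q.1.IsPrime := IsAssociatedPrime.isPrime q.2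
          Module.Flat (Localization.AtPrime q.1) (LocalizedModule q.1.primeCompl M) := by
  constructor
  · intro hM
    exact ⟨inferInstance, fun q => by
      have : q.1.IsPrime := IsAssociatedPrime.isPrime q.2
      exact Module.Flat.localizedModule _⟩
  rintro ⟨h0, h1⟩
  have hfin : Finite (associatedPrimes A (A ⧸ J)) := (associatedPrimes.finite A (A ⧸ J)).to_subtype
  obtain ⟨n, ⟨e⟩⟩ := Finite.exists_equiv_fin (associatedPrimes A (A ⧸ J))
  let p : Fin n → Ideal A := fun i => (e.symm i).1
  have : ∀ i, (p i).IsPrime := fun i => IsAssociatedPrime.isPrime (e.symm i).2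
  have : ∀ i, Module.Flat A (LocalizedModule (p i).primeCompl M) := fun i => by
    have := h1 (e.symm i)
    exact Module.Flat.trans A (Localization.AtPrime (p i)) _
  refine Groth.Calg5.IdealSepFlat.flat_of_filtration J hsep p (fun k => J ^ k)
    (by simp) (fun k => Ideal.pow_le_pow_right (Nat.le_succ k)) (fun k => (pow_succ' J k).ge)
    (fun m => ⟨m, le_rfl⟩) fun k x hx h => ?_
  let a : Ideal A := Submodule.comap (LinearMap.toSpanSingleton A A x) (J ^ (k + 1))
  obtain ⟨s, hsa, hs⟩ : ∃ s ∈ a, IsSMulRegular (A ⧸ J) s := by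
    by_contra hne
    push Not at hne
    have hsub : (a : Set A) ⊆ ⋃ i ∈ (Finset.univ : Finset (Fin n)), (p i : Set A) := by
      intro s hs
      have hnr := hne s hs
      have : s ∈ ⋃ q ∈ associatedPrimes A (A ⧸ J), (q : Set A) := by
        rw [biUnion_associatedPrimes_eq_zero_divisors]
        by_contra hzd
        refine hnr fun u v huv => sub_eq_zero.1 ?_
        by_contra huv'
        exact hzd ⟨u - v, huv', by rw [smul_sub]; exact sub_eq_zero.2 huv⟩
      simp only [Set.mem_iUnion] at this ⊢
      obtain ⟨q, hq, hsq⟩ := this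
      exact ⟨e ⟨q, hq⟩, Finset.mem_univ _, by simpa [p] using hsq⟩
    obtain ⟨i₀, -, -⟩ := Set.mem_iUnion₂.1 (hsub a.zero_mem)
    have hsub' : (a : Set A) ⊆ ⋃ i ∈ (↑(Finset.univ : Finset (Fin n)) : Set (Fin n)), (p i : Set A) :=
      fun y hy => by simpa using hsub hy
    obtain ⟨i, -, hi⟩ :=
      (Ideal.subset_union_prime i₀ i₀ (fun i _ _ _ => inferInstance)).1 hsub'
    obtain ⟨s, hs, hsx⟩ := h i
    exact hs (hi (by simpa [a] using hsx))
  have hN : IsSMulRegular ((A ⧸ J) ⊗[A] ↥(J ^ k)) s := by
    have := hgr k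
    have hr : IsSMulRegular (A ⧸ J) (Ideal.Quotient.mk J s) := fun u v huv => hs (by
      simpa [Algebra.smul_def] using huv)
    intro u v huv
    have hm : Ideal.Quotient.mk J s ∈ nonZeroDivisors (A ⧸ J) := by
      rw [mem_nonZeroDivisors_iff_right]
      intro y hy
      refine hr ?_
      simpa [mul_comm] using hy
    exact Module.Flat.isSMulRegular_of_nonZeroDivisors (M := (A ⧸ J) ⊗[A] ↥(J ^ k)) hm
      (by simp only [← Ideal.Quotient.algebraMap_eq, algebraMap_smul]; exact huv)
  have h1x : (1 : A ⧸ J) ⊗ₜ[A] (⟨x, hx⟩ : ↥(J ^ k)) = 0 := by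
    apply hN
    show s • _ = s • _
    rw [smul_zero, ← tmul_smul]
    have hsx : s • (⟨x, hx⟩ : ↥(J ^ k)) ∈ J • (⊤ : Submodule A ↥(J ^ k)) := by
      refine (Submodule.mem_smul_top_iff J (J ^ k) _).2 ?_
      rw [smul_eq_mul, ← pow_succ']
      simpa [a, mul_comm] using hsa
    refine (TensorProduct.quotTensorEquivQuotSMul ↥(J ^ k) J).injective ?_
    rw [map_zero]
    simpa [Submodule.Quotient.mk_eq_zero] using hsx
  have h2 := congrArg (TensorProduct.quotTensorEquivQuotSMul ↥(J ^ k) J) h1x
  rw [map_zero] at h2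
  have h3 : (⟨x, hx⟩ : ↥(J ^ k)) ∈ J • (⊤ : Submodule A ↥(J ^ k)) := by
    simpa [Submodule.Quotient.mk_eq_zero] using h2
  have h4 := (Submodule.mem_smul_top_iff J (J ^ k) _).1 h3
  rwa [smul_eq_mul, ← pow_succ'] at h4

end Groth.Agent.S5912
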