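import Groth.Statements.S5913
import Groth.Agent.Calg2.IsolatedPoint
import Groth.Agent.S7547
import Mathlib.RingTheory.KrullDimension.Field


set_option autoImplicit false
universe u
open CategoryTheory AlgebraicGeometry
open EGA43

namespace Groth.Agent.S5913

/-- In the locally Noetherian form: a locally Noetherian scheme X is Jacobson if and only if it has no
subscheme isomorphic to the spectrum of a semi-local integral domain of dimension 1, i.e. there is
no immersion Spec R ⟶ X with R an integral domain having finitely many maximal ideals and Krull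
dimension 1. -/
theorem result (X : Scheme.{u}) [IsLocallyNoetherian X] :
    JacobsonSpace X ↔
      ∀ (R : CommRingCat.{u}) [IsDomain R] (i : Spec R ⟶ X) [IsImmersion i],
        ¬ (Finite (MaximalSpectrum R) ∧ ringKrullDim R = 1) := by
  open AlgebraicGeometry CategoryTheory in
  constructor
  · intro hJ R _ i _ ⟨hfin, hdim⟩
    have : JacobsonSpace (Spec R) := LocallyOfFiniteType.jacobsonSpace i
    have : IsJacobsonRing R := PrimeSpectrum.isJacobsonRing_iff_jacobsonSpace.2 this
    have : Finite (MaximalSpectrum R) := hfin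
    obtain ⟨m, hm⟩ : ∃ m : MaximalSpectrum R, m.asIdeal = ⊥ := by
      by_contra H
      push Not at H
      classical
      have : Fintype (MaximalSpectrum R) := Fintype.ofFinite _
      choose x hxm hx0 using fun m => Submodule.exists_mem_ne_zero_of_ne_bot (H m)
      have h1 : ∏ m, x m ∈ (⊥ : Ideal R).jacobson := by
        rw [Ideal.jacobson, Ideal.mem_sInf]
        rintro M ⟨-, hM⟩
        exact Ideal.mem_of_dvd _ (Finset.dvd_prod_of_mem x (Finset.mem_univ ⟨M, hM⟩)) (hxm ⟨M, hM⟩)
      rw [IsJacobsonRing.out ‹_› Ideal.isPrime_bot.isRadical, Ideal.mem_bot, Finset.prod_eq_zero_iff] at h1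
      obtain ⟨m, -, hm⟩ := h1
      exact hx0 m hm
    have hF : IsField R := by
      by_contra hF
      exact Ring.ne_bot_of_isMaximal_of_not_isField m.isMaximal hF hm
    rw [ringKrullDim_eq_zero_of_isField hF] at hdim
    exact absurd hdim (by norm_num)
  · intro H
    by_contra hJ
    obtain ⟨x, hxcl, hxlc⟩ := Groth.Agent.S7547.result hJ
    obtain ⟨y, hy, hyx⟩ : ∃ y, y ∈ closure ({x} : Set X) ∧ y ≠ x := by
      by_contra H'
      push Not at H'
      have h1 : closure ({x} : Set X) = {x} := Set.Subset.antisymm (fun y hy => H' y hy) subset_closure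
      exact hxcl (h1 ▸ isClosed_closure)
    obtain ⟨W, hW, hyW, -⟩ :=
      AlgebraicGeometry.exists_isAffineOpen_mem_and_subset (U := ⊤) (Set.mem_univ y)
    have hxy : x ⤳ y := specializes_iff_mem_closure.2 hy
    have hxW : x ∈ W := hxy.mem_open W.isOpen hyW
    obtain ⟨p, hp, hfin, hd⟩ := Groth.Calg2.IsolatedPoint.krullDimLE_one hxlc W hW hxW
    obtain ⟨q, hq⟩ : y ∈ Set.range hW.fromSpec := by rw [hW.range_fromSpec]; exact hyW
    have hpq := Groth.Calg2.IsolatedPoint.lt_of_specializes hW p q
      (by rw [hp, hq]; exact hxy) (by rw [hp, hq]; exact hyx.symm)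
    let R : CommRingCat.{u} := CommRingCat.of (Γ(X, W) ⧸ p.asIdeal)
    have : IsDomain R := inferInstanceAs (IsDomain (Γ(X, W) ⧸ p.asIdeal))
    have : IsClosedImmersion (Spec.map (CommRingCat.ofHom (Ideal.Quotient.mk p.asIdeal))) :=
      IsClosedImmersion.spec_of_surjective _ Ideal.Quotient.mk_surjective
    refine H R (Spec.map (CommRingCat.ofHom (Ideal.Quotient.mk p.asIdeal)) ≫ hW.fromSpec) ⟨?_, ?_⟩
    · exact Finite.of_injective (fun m : MaximalSpectrum (Γ(X, W) ⧸ p.asIdeal) => m.toPrimeSpectrum)
        MaximalSpectrum.toPrimeSpectrum_injective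
    · show ringKrullDim (Γ(X, W) ⧸ p.asIdeal) = 1
      refine le_antisymm (by exact_mod_cast (Ring.krullDimLE_iff (n := 1)).1 hd) ?_
      by_contra hlt
      have h0 : Ring.KrullDimLE 0 (Γ(X, W) ⧸ p.asIdeal) := by
        rw [Ring.krullDimLE_iff, Nat.cast_zero]
        cases hd' : ringKrullDim (Γ(X, W) ⧸ p.asIdeal) with
        | bot => exact bot_le
        | coe n =>

          rw [hd'] at hlt
          have hn : n < 1 := by exact_mod_cast not_le.1 hlt
          rw [Order.lt_one_iff.1 hn]
          rfl
      have hF : IsField (Γ(X, W) ⧸ p.asIdeal) := Ring.KrullDimLE.isField_of_isDomain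
      exact hpq.ne ((Ideal.Quotient.maximal_of_isField _ hF).eq_of_le q.2.ne_top hpq.le)

end Groth.Agent.S5913
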