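import Groth.Statements.S5918
import Groth.Agent.EGA43Art.Scheme
import Groth.Agent.QCohMod.FiniteType

set_option autoImplicit false
universe u
open CategoryTheory AlgebraicGeometry
open EGA43

namespace Groth.Agent.S5918

open CategoryTheory.Limits in
/-- Let A be an Artinian local ring, f : X ⟶ Spec A locally of finite type, F a coherent O_X-module and
x a point of X. Let (g_i : Y_i ⟶ Spec A) be a family of A-schemes such that an element of A whose
image in every Γ(Y_i, O_{Y_i}) is zero is itself zero. If, for every i, the pullback of F to X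
×_{Spec A} Y_i is flat over Y_i at every point lying over x, then F is f-flat at x. -/
theorem result {A : Type u} [CommRing A]
    [IsArtinianRing A] [IsLocalRing A] {X : Scheme.{u}} (f : X ⟶ Spec (CommRingCat.of A))
    [LocallyOfFiniteType f] (F : X.Modules) (hF : Coh.IsCoh F) (x : X)
    {ι : Type u} (Y : ι → Scheme.{u}) (g : ∀ i, Y i ⟶ Spec (CommRingCat.of A))
    (hg : ∀ a : A, (∀ i, (g i).appTop ((Scheme.ΓSpecIso (CommRingCat.of A)).inv a) = 0) → a = 0)
    (hflat : ∀ (i : ι) (x' : ↥(pullback f (g i))), pullback.fst f (g i) x' = x →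
      FlatMod.IsFlatOverAt (pullback.snd f (g i)) ((Scheme.Modules.pullback (pullback.fst f (g i))).obj F) x') :
    FlatMod.IsFlatOverAt f F x := by
  have : F.IsQuasicoherent := hF.1
  have : IsNoetherianRing A := inferInstance
  have : IsLocallyNoetherian X := LocallyOfFiniteType.isLocallyNoetherian f
  obtain ⟨U, hU, hx, -⟩ := exists_isAffineOpen_mem_and_subset (X := X) (U := ⊤) (x := x) trivial
  have e₁ : U ≤ f ⁻¹ᵁ ⊤ := le_top
  have : IsNoetherianRing Γ(X, U) := IsLocallyNoetherian.component_noetherian ⟨U, hU⟩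
  have : Module.Finite Γ(X, U) Γ(F, U) := Groth.QCohMod.finite_sections F hF.2 hU
  let eA : A ≃+* Γ(Spec (CommRingCat.of A), ⊤) :=
    (Scheme.ΓSpecIso (CommRingCat.of A)).symm.commRingCatIsoToRingEquiv
  have : IsArtinianRing Γ(Spec (CommRingCat.of A), ⊤) := eA.surjective.isArtinianRing
  have : IsLocalRing Γ(Spec (CommRingCat.of A), ⊤) := eA.isLocalRing
  let A' := fun j : Σ i, (Y i).affineOpens => (Γ(Y j.1, j.2.1) : Type u)
  have e₂ : ∀ j : Σ i, (Y i).affineOpens, j.2.1 ≤ g j.1 ⁻¹ᵁ ⊤ := fun j => le_top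
  letI : ∀ j, Algebra Γ(Spec (CommRingCat.of A), ⊤) (A' j) := fun j =>
    ((g j.1).appLE ⊤ j.2.1 (e₂ j)).hom.toAlgebra
  letI := (f.appLE ⊤ U e₁).hom.toAlgebra
  letI : Module Γ(Spec (CommRingCat.of A), ⊤) Γ(F, U) :=
    Module.compHom _ (f.appLE ⊤ U e₁).hom
  haveI : IsScalarTower Γ(Spec (CommRingCat.of A), ⊤) Γ(X, U) Γ(F, U) :=
    IsScalarTower.of_algebraMap_smul fun _ _ => rfl
  have hall := fun j : Σ i, (Y i).affineOpens =>
    Groth.EGA43Art.detect_pointsOver f (g j.1) e₁ (e₂ j) (isAffineOpen_top _) j.2.2 hU F x hx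
      fun y => hflat j.1 y.1 y.2.2
  choose κ N hN₁ hN₂ hN₃ hN₄ hN₅ ψ hdet using hall
  set 𝔭 := (hU.primeIdealOf ⟨x, hx⟩).asIdeal with h𝔭
  have hflatloc : Module.Flat Γ(Spec (CommRingCat.of A), ⊤)
      (LocalizedModule 𝔭.primeCompl Γ(F, U)) := by
    refine Groth.EGA43Art.flat_of_detect A' (fun a ha => ?_) N ψ hdet
    -- `a` vanishes on an affine cover of every `Y i`
    have h1 : ∀ i, (g i).appTop a = 0 := by
      intro i
      refine TopCat.Sheaf.eq_of_locally_eq' (Y i).sheaf (fun W : (Y i).affineOpens => W.1) ⊤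
        (fun W => homOfLE le_top) (iSup_affineOpens_eq_top (Y i)).ge _ _ fun W => ?_
      have h2 := ha ⟨i, W⟩
      exact h2.trans (map_zero _).symm
    have h2 := hg (eA.symm a) fun i => by
      rw [show (Scheme.ΓSpecIso (CommRingCat.of A)).inv (eA.symm a) = a from eA.apply_symm_apply a]
      exact h1 i
    exact eA.symm.injective (h2.trans (map_zero _).symm)
  -- back to the stalk
  let _ := FlatMod.moduleStalkOver f F x
  let _ := Groth.QCohMod.stalkModule F x hx
  let _ : Module Γ(Spec (CommRingCat.of A), ⊤) (F.presheaf.stalk x) :=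
    Module.compHom _ ((X.presheaf.germ U x hx).hom.comp (f.appLE ⊤ U e₁).hom)
  have : IsScalarTower Γ(Spec (CommRingCat.of A), ⊤) Γ(X, U) (F.presheaf.stalk x) :=
    IsScalarTower.of_algebraMap_smul fun _ _ => rfl
  have := Groth.QCohMod.isLocalizedModule_germ F hU x hx
  let e : LocalizedModule 𝔭.primeCompl Γ(F, U) ≃ₗ[Γ(X, U)] F.presheaf.stalk x :=
    IsLocalizedModule.iso 𝔭.primeCompl (Groth.QCohMod.germₗ F x hx)
  have hstalk : Module.Flat Γ(Spec (CommRingCat.of A), ⊤) (F.presheaf.stalk x) :=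
    Module.Flat.of_linearEquiv (e.restrictScalars Γ(Spec (CommRingCat.of A), ⊤)).symm
  let S := Spec (CommRingCat.of A)
  have hfx : f x ∈ (⊤ : S.Opens) := trivial
  let _ := TopCat.Presheaf.algebra_section_stalk S.presheaf (U := (⊤ : S.Opens)) ⟨f x, hfx⟩
  have : IsScalarTower Γ(Spec (CommRingCat.of A), ⊤)
      ((Spec (CommRingCat.of A)).presheaf.stalk (f x)) (F.presheaf.stalk x) :=
    IsScalarTower.of_algebraMap_smul fun r v => by
      change f.stalkMap x ((Spec (CommRingCat.of A)).presheaf.germ ⊤ _ hfx r) • v =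
        X.presheaf.germ U x hx (f.appLE ⊤ U e₁ r) • v
      erw [Scheme.Hom.germ_stalkMap_apply]
      congr 1
      exact (TopCat.Presheaf.germ_res_apply X.presheaf (homOfLE e₁) x hx _).symm
  have := (isAffineOpen_top S).isLocalization_stalk ⟨f x, hfx⟩
  exact (Module.flat_iff_of_isLocalization (S.presheaf.stalk (f x))
    ((isAffineOpen_top S).primeIdealOf ⟨f x, hfx⟩).asIdeal.primeCompl (F.presheaf.stalk x)).2
      hstalk

end Groth.Agent.S5918
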