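import Groth.Statements.S5915
import Groth.Agent.S5918
import Groth.Agent.EGA43Art.Adic
import Groth.Agent.FlatMorOne.FlatStageGlobal

set_option autoImplicit false
universe u
open CategoryTheory AlgebraicGeometry
open EGA43
set_option backward.isDefEq.respectTransparency.types false

namespace Groth.Agent.S5915

open CategoryTheory.Limits in
/-- Let Y be locally Noetherian, f : X ⟶ Y locally of finite type, F a coherent O_X-module, x a point of
X and y = f x. Let φ : O_{Y,y} ⟶ A' be an injective ring homomorphism which is finite (A' finitely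
generated as an O_{Y,y}-module), Y' = Spec A' ⟶ Y the induced Y-scheme, X' = X ×_Y Y' and F' the
pullback of F to X'. Then F is f-flat at x if and only if F' is flat over Y' at every point of X'
lying over x and over a closed point of Y'. (The published statement treats more generally a Zariski
ring A' whose radical pulls back to the maximal ideal and whose map on completions is injective;
this row is the case of a finite algebra with injective structure map, in which those conditions
hold.) -/
theorem result {X Y : Scheme.{u}} [IsLocallyNoetherian Y]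
    (f : X ⟶ Y) [LocallyOfFiniteType f] (F : X.Modules) (hF : Coh.IsCoh F) (x : X)
    (A' : CommRingCat.{u}) (φ : Y.presheaf.stalk (f.base x) ⟶ A') (hfin : φ.hom.Finite)
    (hinj : Function.Injective φ.hom) :
    FlatMod.IsFlatOverAt f F x ↔
      ∀ x' : ↥(pullback f (Spec.map φ ≫ Y.fromSpecStalk (f.base x))), pullback.fst f (Spec.map φ ≫ Y.fromSpecStalk (f.base x)) x' = x →
        IsClosed ({pullback.snd f (Spec.map φ ≫ Y.fromSpecStalk (f.base x)) x'} : Set ↥(Spec A')) →
          FlatMod.IsFlatOverAt (pullback.snd f (Spec.map φ ≫ Y.fromSpecStalk (f.base x))) ((Scheme.Modules.pullback (pullback.fst f (Spec.map φ ≫ Y.fromSpecStalk (f.base x)))).obj F) x' := by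
  have : F.IsQuasicoherent := hF.1
  let O : CommRingCat := Y.presheaf.stalk (f x)
  let g : Spec A' ⟶ Y := Spec.map φ ≫ Y.fromSpecStalk (f x)
  constructor
  · intro h x' hx' _
    exact Groth.FlatMorOne.isFlatOverAt_baseChange (IsPullback.of_hasPullback f g) F x' (hx'.symm ▸ h)
  intro hflat
  let m := IsLocalRing.maximalIdeal O
  letI : Algebra O A' := φ.hom.toAlgebra
  haveI : Module.Finite O A' := hfin
  refine Groth.EGA43Art.Adic.isFlatOverAt_of_quotients f F hF x fun k hk => ?_
  -- Artin-Rees for the submodule `O` of `A'`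
  obtain ⟨c, hc⟩ := Ideal.exists_pow_inf_eq_pow_smul m (LinearMap.range (Algebra.linearMap O A'))
  let n := k + c
  let J : Ideal A' := (m ^ n).map φ.hom
  let I : Ideal O := J.comap φ.hom
  have hI : I ≤ m ^ k := by
    intro a ha
    have h1 : φ.hom a ∈ (m ^ n • ⊤ : Submodule O A') ⊓ LinearMap.range (Algebra.linearMap O A') := by
      refine ⟨?_, ⟨a, rfl⟩⟩
      rw [Ideal.smul_top_eq_map]
      exact ha
    rw [hc n (by omega), show n - c = k by omega] at h1
    have h2 := Submodule.smul_mono (le_refl (m ^ k)) (inf_le_right :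
      (m ^ c • ⊤ : Submodule O A') ⊓ LinearMap.range (Algebra.linearMap O A') ≤ _) h1
    rw [LinearMap.range_eq_map, ← Submodule.map_smul'', smul_eq_mul, Ideal.mul_top] at h2
    obtain ⟨b, hb, hba⟩ := h2
    exact hinj (show φ.hom b = φ.hom a from hba) ▸ hb
  have hIm : I ≤ m := hI.trans (Ideal.pow_le_self hk.ne')
  have hmI : m ^ n ≤ I := Ideal.le_comap_map
  have : Nontrivial (O ⧸ I) := Ideal.Quotient.nontrivial_iff.2
    (ne_top_of_le_ne_top (IsLocalRing.maximalIdeal.isMaximal O).ne_top hIm)
  have hloc : IsLocalRing (O ⧸ I) := .of_surjective' _ Ideal.Quotient.mk_surjective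
  have : IsArtinianRing (O ⧸ I) := by
    rw [isArtinianRing_iff_isNilpotent_maximalIdeal]
    refine ⟨n, ?_⟩
    rw [← IsLocalRing.map_maximalIdeal_of_surjective (Ideal.Quotient.mk I) Ideal.Quotient.mk_surjective,
      ← Ideal.map_pow, Submodule.zero_eq_bot, Ideal.map_eq_bot_iff_le_ker, Ideal.mk_ker]
    exact hmI
  let R : CommRingCat.{u} := CommRingCat.of (O ⧸ I)
  let π : O ⟶ R := CommRingCat.ofHom (Ideal.Quotient.mk I)
  have : IsLocalHom π.hom := .of_surjective _ Ideal.Quotient.mk_surjective
  have : IsClosedImmersion (Spec.map π) :=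
    IsClosedImmersion.spec_of_surjective π Ideal.Quotient.mk_surjective
  let h : Spec R ⟶ Y := Spec.map π ≫ Y.fromSpecStalk (f x)
  have : IsPreimmersion h := inferInstanceAs (IsPreimmersion (Spec.map π ≫ Y.fromSpecStalk (f x)))
  have hcp : f x = h (IsLocalRing.closedPoint R) := by
    show f x = Y.fromSpecStalk (f x) ((Spec.map π) (IsLocalRing.closedPoint R))
    rw [Spec_closedPoint]
    exact Scheme.fromSpecStalk_closedPoint.symm
  obtain ⟨z, hz, -⟩ := Scheme.Pullback.exists_preimage_pullback (f := f) (g := h) x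
    (IsLocalRing.closedPoint R) hcp
  refine ⟨I, hI, hloc, ‹IsPreimmersion h›, z, hz, ?_⟩
  let pr := pullback.fst f h
  let fR := pullback.snd f h
  have : LocallyOfFiniteType fR := MorphismProperty.pullback_snd f h ‹_›
  let F' := (Scheme.Modules.pullback pr).obj F
  have hF' : Coh.IsCoh F' := ⟨inferInstanceAs ((Scheme.Modules.pullback pr).obj F).IsQuasicoherent,
    Groth.QCohMod.isFT_pullback _ F hF.2⟩
  let B : CommRingCat.{u} := CommRingCat.of (A' ⧸ J)
  let v : R ⟶ B := CommRingCat.ofHom (Ideal.quotientMap J φ.hom le_rfl)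
  have : IsArtinianRing (A' ⧸ J) := by
    letI := v.hom.toAlgebra
    have : Module.Finite (O ⧸ I) (A' ⧸ J) :=
      RingHom.Finite.of_comp_finite (f := Ideal.Quotient.mk I) (g := v.hom)
        ((RingHom.Finite.of_surjective _ Ideal.Quotient.mk_surjective).comp hfin)
    exact IsArtinianRing.of_finite (O ⧸ I) (A' ⧸ J)
  let w : Spec B ⟶ Spec R := Spec.map v
  let k' : Spec B ⟶ Spec A' := Spec.map (CommRingCat.ofHom (Ideal.Quotient.mk J))
  have : IsClosedImmersion k' :=
    IsClosedImmersion.spec_of_surjective _ Ideal.Quotient.mk_surjective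
  refine Groth.Agent.S5918.result (A := O ⧸ I) fR F' hF' z (fun _ : PUnit.{u + 1} => Spec B)
    (fun _ => w) (fun a ha => ?_) fun _ d hd => ?_
  · have h1 := ha PUnit.unit
    have h2 := congrArg (fun ξ => ξ.hom a) (Scheme.ΓSpecIso_inv_naturality v)
    simp only [CommRingCat.hom_comp, RingHom.comp_apply] at h2
    have h3 : (Scheme.ΓSpecIso B).inv (v.hom a) = 0 := h2.trans h1
    have h4 : v.hom a = 0 :=
      (ConcreteCategory.bijective_of_isIso (Scheme.ΓSpecIso B).inv).1 (h3.trans (map_zero _).symm)
    exact Ideal.quotientMap_injective (f := φ.hom) (h4.trans (map_zero _).symm)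
  · have hwk : w ≫ h = k' ≫ g := by
      show Spec.map _ ≫ Spec.map π ≫ _ = Spec.map _ ≫ Spec.map _ ≫ _
      rw [← Spec.map_comp_assoc, ← Spec.map_comp_assoc]
      rfl
    let q₁ := pullback.fst fR w
    let q₂ := pullback.snd fR w
    let u' : pullback fR w ⟶ pullback f g := pullback.lift (q₁ ≫ pr) (q₂ ≫ k') (by
      rw [Category.assoc, Category.assoc, pullback.condition, ← hwk, reassoc_of% pullback.condition])
    have hu1 : u' ≫ pullback.fst f g = q₁ ≫ pr := pullback.lift_fst ..
    have hu2 : u' ≫ pullback.snd f g = q₂ ≫ k' := pullback.lift_snd ..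
    have H : IsPullback u' q₂ (pullback.snd f g) k' := by
      refine IsPullback.of_right ?_ hu2 (IsPullback.of_hasPullback f g)
      rw [hu1, ← hwk]
      exact (IsPullback.of_hasPullback fR w).paste_horiz (IsPullback.of_hasPullback f h)
    have hfl : FlatMod.IsFlatOverAt (pullback.snd f g)
        ((Scheme.Modules.pullback (pullback.fst f g)).obj F) (u' d) := by
      refine hflat (u' d) ?_ ?_
      · show pullback.fst f g (u' d) = x
        rw [← Scheme.Hom.comp_apply, hu1, Scheme.Hom.comp_apply, hd, hz]
      · show IsClosed {pullback.snd f g (u' d)}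
        rw [← Scheme.Hom.comp_apply, hu2, Scheme.Hom.comp_apply, ← Set.image_singleton]
        haveI : DiscreteTopology ↥(Spec B) := inferInstanceAs (DiscreteTopology (PrimeSpectrum (A' ⧸ J)))
        exact k'.isClosedEmbedding.isClosedMap _ (isClosed_discrete _)
    refine (Groth.FlatMorOne.isFlatOverAt_congr _ ((Scheme.Modules.pullbackComp q₁ pr).app F) d).mpr ?_
    exact Groth.FlatMorOne.isFlatOverAt_of_square F H hu1 d hfl

end Groth.Agent.S5915
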