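import Groth.Statements.S5916
import Groth.Agent.EGA43Sep.Geom
import Groth.Agent.Flatmor4.FlatModAffine

set_option autoImplicit false
universe u
open CategoryTheory AlgebraicGeometry
open EGA43

namespace Groth.Agent.S5916

open CategoryTheory.Limits in
/-- Case Z_λ = X: let A be a commutative ring, p : X ⟶ Spec A an A-scheme, F a quasi-coherent
O_X-module, (G_i) quasi-coherent O_X-modules flat over Spec A and u_i : F ⟶ G_i a separating family
of homomorphisms (a section of F over an open subset killed by every u_i is zero). Let φ : A ⟶ A' be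
a ring homomorphism. If for every factorisation A ⟶ B ⟶ A' of φ with A ⟶ B of finite type and B ⟶ A'
injective (every finitely generated sub-A-algebra B of A') the family pulled back to X ×_{Spec A}
Spec B is separating, then the family pulled back to X ×_{Spec A} Spec A' is separating. (The
published statement allows homomorphisms into direct images (f_λ)_*G_λ of modules G_λ flat over the
base; this row is the case Z_λ = X.) -/
theorem result {X : Scheme.{u}} (A A' : CommRingCat.{u}) (φ : A ⟶ A')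
    (p : X ⟶ Spec A) (F : X.Modules) [Coh.IsQCoh F] {ι : Type u} (G : ι → X.Modules) [∀ i, Coh.IsQCoh (G i)]
    (hG : ∀ i, FlatMod.IsFlatOver p (G i)) (u : ∀ i, F ⟶ G i)
    (h : ∀ (V : (X).Opens) (t : ↑((F).presheaf.obj (Opposite.op V))), (∀ i, (Scheme.Modules.Hom.mapPresheaf (u i)).app (Opposite.op V) t = 0) → t = 0)
    (hfg : ∀ (B : CommRingCat.{u}) (a : A ⟶ B) (b : B ⟶ A'), a ≫ b = φ → Function.Injective b.hom → a.hom.FiniteType →
      ∀ (V : (pullback p (Spec.map a)).Opens) (t : ↑(((Scheme.Modules.pullback (pullback.fst p (Spec.map a))).obj F).presheaf.obj (Opposite.op V))), (∀ i, (Scheme.Modules.Hom.mapPresheaf ((Scheme.Modules.pullback (pullback.fst p (Spec.map a))).map (u i))).app (Opposite.op V) t = 0) → t = 0) :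
    ∀ (V : (pullback p (Spec.map φ)).Opens) (t : ↑(((Scheme.Modules.pullback (pullback.fst p (Spec.map φ))).obj F).presheaf.obj (Opposite.op V))), (∀ i, (Scheme.Modules.Hom.mapPresheaf ((Scheme.Modules.pullback (pullback.fst p (Spec.map φ))).map (u i))).app (Opposite.op V) t = 0) → t = 0 := by
  intro O t ht
  have : F.IsQuasicoherent := ‹Coh.IsQCoh F›
  have : ∀ i, (G i).IsQuasicoherent := fun i => (inferInstance : Coh.IsQCoh (G i))
  refine Groth.DescentBase.eq_zero_of_germ _ t fun y hy => ?_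
  obtain ⟨U, hU, hyU, -⟩ := exists_isAffineOpen_mem_and_subset (X := X) (U := ⊤)
    (x := pullback.fst p (Spec.map φ) y) trivial
  have e₁ : U ≤ p ⁻¹ᵁ ⊤ := le_top
  have e₂ : (⊤ : (Spec A').Opens) ≤ Spec.map φ ⁻¹ᵁ ⊤ := le_top
  refine Groth.EGA43Sep.germ_eq_zero_of_sepAlg_tensor p (Spec.map φ) e₁ e₂ (isAffineOpen_top _)
    (isAffineOpen_top _) hU u ?_ t ht y hyU trivial hy
  let _ := (p.appLE ⊤ U e₁).hom.toAlgebra
  let _ := ((Spec.map φ).appLE ⊤ ⊤ e₂).hom.toAlgebra
  let _ : ∀ i, Module Γ(Spec A, ⊤) Γ(G i, U) := fun i => Groth.Flatmor4.sectionModule p (G i) e₁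
  have : ∀ i, IsScalarTower Γ(Spec A, ⊤) Γ(X, U) Γ(G i, U) :=
    fun i => IsScalarTower.of_algebraMap_smul fun _ _ => rfl
  have : ∀ i, Module.Flat Γ(Spec A, ⊤) Γ(G i, U) := fun i =>
    (Groth.Flatmor4.flat_sections_iff p (G i) hU (isAffineOpen_top _) e₁).2 fun x _ => hG i x
  refine Groth.EGA43Sep.SepAlg.of_fg_subalgebras fun B₀ hB₀ => ?_
  let B : CommRingCat.{u} := CommRingCat.of B₀
  let am := algebraMap Γ(Spec A, ⊤) B₀
  let a : A ⟶ B := CommRingCat.ofHom (am.comp (Scheme.ΓSpecIso A).inv.hom)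
  let b : B ⟶ A' := CommRingCat.ofHom ((Scheme.ΓSpecIso A').hom.hom.comp B₀.val.toRingHom)
  have happ : (Spec.map φ).appLE ⊤ ⊤ e₂ = (Spec.map φ).appTop := (Scheme.Hom.app_eq_appLE _).symm
  have hab : a ≫ b = φ := by
    ext r
    have h1 : ((Scheme.ΓSpecIso A).inv ≫ (Spec.map φ).appLE ⊤ ⊤ e₂ ≫
        (Scheme.ΓSpecIso A').hom).hom r = φ.hom r := by
      rw [happ, Scheme.ΓSpecIso_naturality, Iso.inv_hom_id_assoc]
    exact h1
  have hb : Function.Injective b.hom :=
    (ConcreteCategory.bijective_of_isIso (Scheme.ΓSpecIso A').hom).1.comp Subtype.val_injective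
  have hft : a.hom.FiniteType := by
    have : Algebra.FiniteType Γ(Spec A, ⊤) B₀ := (Subalgebra.fg_iff_finiteType _).1 hB₀
    have h2 : am.FiniteType := RingHom.finiteType_algebraMap.2 this
    exact h2.comp (RingHom.FiniteType.of_surjective _
      (ConcreteCategory.bijective_of_isIso (Scheme.ΓSpecIso A).inv).2)
  have e₃ : (⊤ : (Spec B).Opens) ≤ Spec.map a ⁻¹ᵁ ⊤ := le_top
  have h1 := Groth.EGA43Sep.sepAlg_tensor_of_separating_pullback p (Spec.map a) e₁ e₃
    (isAffineOpen_top _) (isAffineOpen_top _) hU u (hfg B a b hab hb hft)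
  let _ := ((Spec.map a).appLE ⊤ ⊤ e₃).hom.toAlgebra
  have hcomp : ∀ r, (Scheme.ΓSpecIso B).hom.hom ((Spec.map a).appLE ⊤ ⊤ e₃ r) = am r := by
    intro r
    have h2 := congrArg (fun χ => χ.hom r) (Scheme.ΓSpecIso_naturality a)
    rw [show (Spec.map a).appLE ⊤ ⊤ e₃ = (Spec.map a).appTop from
      (Scheme.Hom.app_eq_appLE _).symm]
    refine h2.trans ?_
    exact congrArg am ((Scheme.ΓSpecIso A).hom_inv_id_apply r)
  let ε : Γ(Spec B, ⊤) ≃ₐ[Γ(Spec A, ⊤)] B₀ :=
    AlgEquiv.ofRingEquiv (f := (Scheme.ΓSpecIso B).commRingCatIsoToRingEquiv) hcomp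
  exact h1.of_algEquiv (Algebra.TensorProduct.congr AlgEquiv.refl ε)

end Groth.Agent.S5916
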