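import Groth.Statements.S5920
import Mathlib
import Groth.Agent.Ega43FP2.DepthScheme
-- import your own Groth.Agent.* helpers here

set_option autoImplicit false
open CategoryTheory AlgebraicGeometry
universe u
open EGA43

namespace Groth.Agent.S5920


/-- Let f : X ⟶ Y be a proper morphism of finite presentation and F a finitely presented O_X-module
which is f-flat; for y in Y write F_y for the restriction of F to the fibre X_y. For a point x of
X_y the rectified depth of F_y at x is prof(F_y)_x + dim cl{x}, the depth of the stalk over the
local ring of X_y at x plus the dimension of the closure of x in X_y, and prof*(F_y) is the infimum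
of these over X_y. Then y ↦ prof*(F_y) is lower semicontinuous on Y: for every natural number n, the
set of points y such that prof(F_y)_x + dim cl{x} ≥ n for every point x of X_y is open in Y. -/
theorem result {X Y : Scheme.{u}} (f : X ⟶ Y) [IsProper f]
    [LocallyOfFinitePresentation f] (F : X.Modules) (hF : CohB1.IsFP F) (hflat : FlatMod.IsFlatOver f F) (n : ℕ) :
    IsOpen {y : Y | ∀ x : ↥(f.fiber y), (n : WithBot ℕ∞) ≤
      ((LocCoh.depth ((f.fiber y).presheaf.stalk x) (((Scheme.Modules.pullback (f.fiberι y)).obj F).presheaf.stalk x) : ℕ∞) : WithBot ℕ∞) +
        topologicalKrullDim ↥(closure ({x} : Set ↥(f.fiber y)))} := by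
  exact Groth.Ega43FP2.isOpen_fibreLocus_target f F f.isClosedMap hF hflat (Groth.Ega43FP2.openOverAffine_le_depth_add n)

end Groth.Agent.S5920
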