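import Groth.Statements.S5922
import Mathlib
import Groth.Agent.Ega43FP2.DepthScheme
import Groth.Agent.CMMor.Locus
import Groth.Agent.Misc13.FlatBC
import Groth.Agent.QCohMod.Affine
import Groth.Agent.LocFree.FP
-- import your own Groth.Agent.* helpers here

set_option autoImplicit false
open CategoryTheory AlgebraicGeometry
universe u
open EGA43

namespace Groth.Agent.S5922


/-- Let f : X ⟶ Y be a morphism locally of finite presentation and n a natural number. The set of points
x of X such that f is flat at x and the local ring at x of the fibre of f through x has codepth at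
most n, i.e. its Krull dimension is at most its depth plus n, is open in X. -/
theorem result {X Y : Scheme.{u}} (f : X ⟶ Y) [LocallyOfFinitePresentation f]
    (n : ℕ) :
    IsOpen {x : X | (f.stalkMap x).hom.Flat ∧
      ringKrullDim ((f.fiber (f.base x)).presheaf.stalk (f.asFiber x)) ≤
        ((LocCoh.depth ((f.fiber (f.base x)).presheaf.stalk (f.asFiber x)) ((f.fiber (f.base x)).presheaf.stalk (f.asFiber x)) : ℕ∞) : WithBot ℕ∞) + n} := by
  have hFP : CohB1.IsFP (Coh.structureModule X) := Groth.LocFree.isFP_of_affine_cover _ fun x => by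
    obtain ⟨A, hA, hxA, -⟩ := exists_isAffineOpen_mem_and_subset (U := (⊤ : X.Opens)) (x := x) trivial
    exact ⟨A, hA, hxA, (inferInstance : Module.FinitePresentation Γ(X, A) Γ(X, A))⟩
  have hq : (Coh.structureModule X).IsQuasicoherent := Groth.QCohMod.isQCoh_unit X
  have := Groth.Ega43FP2.isOpen_fibreLocus f (Coh.structureModule X) hFP
    ⟨_, Groth.CMMor.isOpen_flatAt f⟩ (fun x hx => (Groth.Misc13.FlatBC.flat_stalkMap_iff_structure f x).2 hx)
    (Groth.Ega43FP2.openOverAffine_coprof_le n)
  convert this using 1
  ext x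
  refine and_congr Iff.rfl ?_
  obtain ⟨W, hW, hxW, -⟩ := exists_isAffineOpen_mem_and_subset (U := (⊤ : X.Opens)) (x := x) trivial
  let := Groth.SchDom.secAlg (f.fiberι (f.base x)) (f.asFiber x) (by rw [f.fiberι_asFiber]; exact hxW)
  obtain ⟨θ⟩ := Groth.SchDom.nonempty_pullStalk_equiv (f.fiberι (f.base x)) (Coh.structureModule X) hW (f.asFiber x) (by rw [f.fiberι_asFiber]; exact hxW)
  let e := (TensorProduct.AlgebraTensorModule.rid Γ(X, W) _ _).symm.trans θ
  unfold Groth.Ega43FP2.depthAt Groth.Ega43FP2.suppAt
  rw [← Module.supportDim_eq_of_equiv e, ← Groth.Ega4b.depth_congr' e, Module.supportDim_self_eq_ringKrullDim]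

end Groth.Agent.S5922
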