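import Groth.Statements.S5924
import Groth.Agent.Misc6.Equidim2

set_option autoImplicit false
open CategoryTheory AlgebraicGeometry
universe u
open EGA43

namespace Groth.Agent.S5924

/-- Let Y be an irreducible locally Noetherian scheme, f : X ⟶ Y a morphism locally of finite type which
is equidimensional at the point x, and suppose that x is not a maximal point of its fibre f⁻¹(f x),
i.e. some point of the fibre other than x specializes to x. Then there exist an affine open
neighbourhood U of x and a section g of O_X over U such that g vanishes at x (x is not in the basic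
open set of g) while every maximal point of f⁻¹(f x) lying in U is in the basic open set of g. -/
theorem result {X Y : Scheme.{u}} [IrreducibleSpace Y]
    [IsLocallyNoetherian Y] (f : X ⟶ Y) [LocallyOfFiniteType f] (x : X) (hf : EGA43.IsEquidimAt f x)
    (hx : ∃ x' : X, f.base x' = f.base x ∧ x' ≠ x ∧ x ∈ closure ({x'} : Set X)) :
    ∃ U : X.Opens, IsAffineOpen U ∧ x ∈ U ∧ ∃ g : Γ(X, U), x ∉ X.basicOpen g ∧
      ∀ z : X, f.base z = f.base x → (∀ z' : X, f.base z' = f.base x → z ∈ closure ({z'} : Set X) → z' = z) →
        z ∈ U → z ∈ X.basicOpen g := by
  have : IsLocallyNoetherian X := LocallyOfFiniteType.isLocallyNoetherian f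
  exact Groth.Misc6.Equidim.exists_section_avoiding f hx

end Groth.Agent.S5924
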