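import Groth.Statements.S5925
import Groth.Agent.Misc6.Equidim2

set_option autoImplicit false
open CategoryTheory AlgebraicGeometry
universe u
open EGA43

namespace Groth.Agent.S5925

/-- Let Y be an irreducible locally Noetherian scheme, f : X ⟶ Y a morphism locally of finite type which
is equidimensional at the point x, y = f x and e = dim_x(f⁻¹(y)). Let g be a global section of O_X
vanishing at x whose zero set X' contains no maximal point of f⁻¹(y). Then X', with its reduced
closed subscheme structure, is equidimensional over Y at x; dim_x(X' ∩ f⁻¹(y)) = e − 1; and every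
irreducible component of X' containing x has codimension 1 in X, i.e. the local ring of X at its
generic point has Krull dimension 1. (Stated for a global section; the published statement takes g
on an affine open neighbourhood of x, to which this applies after restriction, and its codimension
assertion codim(X', X) = 1 is read for the components of X' through x: a component of the zero set
not passing through x can be a whole irreducible component of X disjoint from the fibre, of
codimension 0.) -/
theorem result {X Y : Scheme.{u}} [IrreducibleSpace Y]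
    [IsLocallyNoetherian Y] (f : X ⟶ Y) [LocallyOfFiniteType f] (x : X) (hf : EGA43.IsEquidimAt f x)
    (g : Γ(X, ⊤)) (hgx : x ∈ X.zeroLocus ({g} : Set Γ(X, ⊤)))
    (hmax : ∀ z : X, f.base z = f.base x → (∀ z' : X, f.base z' = f.base x → z ∈ closure ({z'} : Set X) → z' = z) →
      z ∉ X.zeroLocus ({g} : Set Γ(X, ⊤))) :
    (∀ w : ↥(Scheme.IdealSheafData.vanishingIdeal ⟨X.zeroLocus ({g} : Set Γ(X, ⊤)), X.zeroLocus_isClosed _⟩).subscheme,
        (Scheme.IdealSheafData.vanishingIdeal ⟨X.zeroLocus ({g} : Set Γ(X, ⊤)), X.zeroLocus_isClosed _⟩).subschemeι.base w = x →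
        EGA43.IsEquidimAt ((Scheme.IdealSheafData.vanishingIdeal ⟨X.zeroLocus ({g} : Set Γ(X, ⊤)), X.zeroLocus_isClosed _⟩).subschemeι ≫ f) w) ∧
      FlatMor.localDim ↥(X.zeroLocus ({g} : Set Γ(X, ⊤)) ∩ f.base ⁻¹' {f.base x}) ⟨x, ⟨hgx, rfl⟩⟩ + 1 = FlatMor.fibreDimAt f x ∧
      ∀ Z ∈ irreducibleComponents ↥(X.zeroLocus ({g} : Set Γ(X, ⊤))), (⟨x, hgx⟩ : ↥(X.zeroLocus ({g} : Set Γ(X, ⊤)))) ∈ Z →
        ∀ ξ : ↥(X.zeroLocus ({g} : Set Γ(X, ⊤))), closure ({ξ} : Set ↥(X.zeroLocus ({g} : Set Γ(X, ⊤)))) = Z →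
          ringKrullDim (X.presheaf.stalk (ξ : X)) = 1 := by
  have : IsLocallyNoetherian X := LocallyOfFiniteType.isLocallyNoetherian f
  obtain ⟨h1, h2, h3⟩ := Groth.Misc6.Equidim.section_step f hf g hgx hmax
  refine ⟨h1, h2, fun Z hZ hxZ ξ hξ => ?_⟩
  rw [ringKrullDim_stalk_eq_coheight, h3 ξ ξ.2 ?_ ?_]
  · rfl
  · intro y hy hyξ
    have hs : (⟨y, hy⟩ : ↥(X.zeroLocus ({g} : Set Γ(X, ⊤)))) ⤳ ξ := (subtype_specializes_iff _ _).2 hyξ
    have hle : Z ⊆ closure {(⟨y, hy⟩ : ↥(X.zeroLocus ({g} : Set Γ(X, ⊤))))} := hξ ▸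
      closure_minimal (Set.singleton_subset_iff.2 (specializes_iff_mem_closure.1 hs)) isClosed_closure
    have hge := hZ.2 isIrreducible_singleton.closure hle (subset_closure rfl)
    rw [← hξ] at hge
    exact (((specializes_iff_mem_closure.2 hge).antisymm hs).eq ▸ rfl : y = ξ.1)
  · exact (subtype_specializes_iff _ _).1 (specializes_iff_mem_closure.2 (hξ.symm ▸ hxZ))

end Groth.Agent.S5925
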