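import Groth.Statements.S5926
import Groth.Agent.EGA43Topo.SectionCompDim

set_option autoImplicit false
open CategoryTheory AlgebraicGeometry
universe u
open EGA43

namespace Groth.Agent.S5926

/-- Let Y be a reduced locally Noetherian scheme, f : X ⟶ Y a morphism locally of finite type with a
section g : Y ⟶ X, X_y^0 the connected component of f⁻¹(y) containing g y, and suppose every X_y^0
is geometrically irreducible over κ(y) (its preimage in the base change of X_y to any field
extension K of κ(y) is irreducible). Let x₀ be a point of X lying in X_{y₀}^0, y₀ = f x₀. If y ↦ dim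
X_y^0 is constant on a neighbourhood of y₀ and the fibre f⁻¹(y₀) is geometrically reduced at x₀,
then f is flat at x₀. -/
theorem result {X Y : Scheme.{u}} [IsLocallyNoetherian Y]
    [IsReduced Y] (f : X ⟶ Y) [LocallyOfFiniteType f] (g : Y ⟶ X) (hg : g ≫ f = 𝟙 Y)
    (hirr : ∀ y : Y, (∀ (K : Type u) [Field K] [Algebra (IsLocalRing.ResidueField (Y.presheaf.stalk y)) K],
        IsIrreducible ((FBase.bcπ (f.fiberToSpecResidueField y) K ≫ f.fiberι y).base ⁻¹' connectedComponentIn (f.base ⁻¹' {y}) (g.base y))))
    (x₀ : X) (hx₀ : x₀ ∈ MoreMor.sectionComponents f g)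
    (hconst : (∃ V ∈ nhds (f.base x₀), ∀ z ∈ V, topologicalKrullDim ↥(connectedComponentIn (f.base ⁻¹' {z}) (g.base z)) = topologicalKrullDim ↥(connectedComponentIn (f.base ⁻¹' {(f.base x₀)}) (g.base (f.base x₀)))))
    (hred : FBase.IsGeomReducedAt (f.fiberToSpecResidueField (f.base x₀)) (f.asFiber x₀)) :
    (f.stalkMap x₀).hom.Flat := by
  exact Groth.EGA43Topo.FlatUnivOpen.flat_stalkMap_of_goodFibre f
    (Groth.EGA43Topo.SecComp.goodFibre_of_dim hg (hirr _)
      (fun z hz => Groth.EGA43Topo.SecComp.le_fibreDimAt_of_eventually hg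
        (fun y => Groth.EGA43Topo.SecComp.isIrreducible_of_geomIrr (hirr y)) hconst hz) hx₀ hred)

end Groth.Agent.S5926
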