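import Groth.Statements.S5927
import Groth.Agent.EGA43Topo.SectionCompConst

set_option autoImplicit false
open CategoryTheory AlgebraicGeometry
universe u
open EGA43

namespace Groth.Agent.S5927

/-- Let Y be a locally Noetherian scheme, f : X ⟶ Y a morphism locally of finite type with a section g :
Y ⟶ X, X_y^0 the connected component of f⁻¹(y) containing g y, every X_y^0 geometrically irreducible
over κ(y), and y₀ a point of Y such that f is universally open at the generic point of X_{y₀}^0.
Suppose moreover that either (α) the fibre f⁻¹(y₀) is geometrically reduced at g y₀, or (β) dim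
f⁻¹(y') = dim X_{y'}^0 for the generic point y' of every irreducible component of Y containing y₀.
Then y ↦ dim X_y^0 is constant on a neighbourhood of y₀. -/
theorem result {X Y : Scheme.{u}} [IsLocallyNoetherian Y] (f : X ⟶ Y)
    [LocallyOfFiniteType f] (g : Y ⟶ X) (hg : g ≫ f = 𝟙 Y)
    (hirr : ∀ y : Y, (∀ (K : Type u) [Field K] [Algebra (IsLocalRing.ResidueField (Y.presheaf.stalk y)) K],
        IsIrreducible ((FBase.bcπ (f.fiberToSpecResidueField y) K ≫ f.fiberι y).base ⁻¹' connectedComponentIn (f.base ⁻¹' {y}) (g.base y))))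
    (y₀ : Y) (hopen : ∀ ξ ∈ connectedComponentIn (f.base ⁻¹' {y₀}) (g.base y₀), connectedComponentIn (f.base ⁻¹' {y₀}) (g.base y₀) ⊆ closure {ξ} → EGA43.IsUnivOpenAt f ξ)
    (hαβ : FBase.IsGeomReducedAt (f.fiberToSpecResidueField (f.base (g.base y₀))) (f.asFiber (g.base y₀)) ∨
      (∀ y' : Y, y₀ ∈ closure {y'} → closure {y'} ∈ irreducibleComponents (Y : Type u) →
        topologicalKrullDim ↥(f.fiber y') = topologicalKrullDim ↥(connectedComponentIn (f.base ⁻¹' {y'}) (g.base y')))) :
    (∃ V ∈ nhds y₀, ∀ z ∈ V, topologicalKrullDim ↥(connectedComponentIn (f.base ⁻¹' {z}) (g.base z)) = topologicalKrullDim ↥(connectedComponentIn (f.base ⁻¹' {y₀}) (g.base y₀))) := by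
  have hirr0 : ∀ y, IsIrreducible (Groth.EGA43Topo.SecComp.comp f g y) :=
    fun y => Groth.EGA43Topo.SecComp.isIrreducible_of_geomIrr (hirr y)
  rcases hαβ with hred | hβ
  · exact Groth.EGA43Topo.SecComp.eventually_dim_eq_of_goodFibre hg hirr0
      (Groth.EGA43Topo.SecComp.goodFibre_of (hirr0 y₀) hopen (Groth.EGA43Topo.SecComp.section_mem hg y₀) hred)
  · refine Groth.EGA43Topo.SecComp.eventually_dim_eq_of_generizations hg hirr0 fun z hz => ?_
    obtain ⟨y', hy'max, hy'z⟩ := Groth.FibreDim.exists_max_specializes z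
    exact Groth.EGA43Topo.SecComp.dim_eq_of_beta hg hirr0 hopen hz hy'z
      (hβ y' (hy'z.trans hz).mem_closure (Groth.FibreDim.mem_irreducibleComponents_of_isMax hy'max))

end Groth.Agent.S5927
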