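import Groth.Statements.S5928
import Groth.Agent.EGA43Topo.SectionCompNhd

set_option autoImplicit false
open CategoryTheory AlgebraicGeometry
universe u
open EGA43

namespace Groth.Agent.S5928

/-- Let f : X ⟶ Y be a morphism with a section g : Y ⟶ X, and suppose that either Y is locally
Noetherian and f is locally of finite type, or f is of finite presentation. Let X_y^0 be the
connected component of f⁻¹(y) containing g y and X^0 ⊆ X the union of the X_y^0, and suppose every
X_y^0 is geometrically irreducible over κ(y). Then the set W of points x of X^0 such that y ↦ dim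
X_y^0 is constant on a neighbourhood of f x and the fibre f⁻¹(f x) is geometrically reduced at x
over κ(f x) is open in X. (The published statement asks that the whole component X_{f x}^0 be
geometrically reduced rather than geometrically reduced at x; with that reading the set need not be
open: over the affine line Spec k[t] take X = Spec k[t, s, e]/(e², e(ts − 1)) with the section s = e
= 0, whose fibres are lines carrying an embedded point at s = 1/t for t ≠ 0 and a reduced line at t
= 0, so that the set would be the closed fibre over t = 0; the published proof, through the openness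
of the locus where the fibre is geometrically reduced at the point, gives the pointwise form stated
here.) -/
theorem result {X Y : Scheme.{u}} (f : X ⟶ Y) (g : Y ⟶ X)
    (hg : g ≫ f = 𝟙 Y)
    (hfin : (IsLocallyNoetherian Y ∧ LocallyOfFiniteType f) ∨
      (LocallyOfFinitePresentation f ∧ QuasiCompact f ∧ QuasiSeparated f))
    (hirr : ∀ y : Y, (∀ (K : Type u) [Field K] [Algebra (IsLocalRing.ResidueField (Y.presheaf.stalk y)) K],
        IsIrreducible ((FBase.bcπ (f.fiberToSpecResidueField y) K ≫ f.fiberι y).base ⁻¹' connectedComponentIn (f.base ⁻¹' {y}) (g.base y)))) :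
    IsOpen {x : X | x ∈ MoreMor.sectionComponents f g ∧ (∃ V ∈ nhds (f.base x), ∀ z ∈ V, topologicalKrullDim ↥(connectedComponentIn (f.base ⁻¹' {z}) (g.base z)) = topologicalKrullDim ↥(connectedComponentIn (f.base ⁻¹' {(f.base x)}) (g.base (f.base x)))) ∧
      FBase.IsGeomReducedAt (f.fiberToSpecResidueField (f.base x)) (f.asFiber x)} := by
  have hirr0 : ∀ y, IsIrreducible (Groth.EGA43Topo.SecComp.comp f g y) := by
    rcases hfin with ⟨_, _⟩ | ⟨_, _, _⟩ <;>
      exact fun y => Groth.EGA43Topo.SecComp.isIrreducible_of_geomIrr (hirr y)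
  refine isOpen_iff_mem_nhds.2 fun x hx => ?_
  obtain ⟨hxC, ⟨V, hV, hVc⟩, hred⟩ := hx
  have hd : ∀ z, z ⤳ f.base x →
      topologicalKrullDim ↥(Groth.EGA43Topo.SecComp.comp f g (f.base x)) ≤ FlatMor.fibreDimAt f (g.base z) := by
    rcases hfin with ⟨_, _⟩ | ⟨_, _, _⟩ <;>
      exact fun z hz => Groth.EGA43Topo.SecComp.le_fibreDimAt_of_eventually hg hirr0 ⟨V, hV, hVc⟩ hz
  have h1 : MoreMor.sectionComponents f g ∈ nhds x ∧
      {w : X | FBase.IsGeomReducedAt (f.fiberToSpecResidueField (f.base w)) (f.asFiber w)} ∈ nhds x := by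
    rcases hfin with ⟨_, _⟩ | ⟨_, _, _⟩
    · exact ⟨Groth.EGA43Topo.SecComp.sectionComponents_mem_nhds_noetherian hg hirr0 (hirr _) hd hxC hred,
        Groth.EGA43Topo.SecComp.geomReducedAt_mem_nhds
          (fun Y' i _ _ => Groth.EGA43Topo.SecComp.flat_pullback_noetherian hg (hirr _) hd hxC hred Y' i) hred⟩
    · exact ⟨Groth.EGA43Topo.SecComp.sectionComponents_mem_nhds_fp hg (hirr _) hd hxC hred,
        Groth.EGA43Topo.SecComp.geomReducedAt_mem_nhds
          (fun Y' i _ _ => Groth.EGA43Topo.SecComp.flat_pullback_fp hg (hirr _) hd hxC hred Y' i) hred⟩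
  have h2 : f.base ⁻¹' interior V ∈ nhds x :=
    (isOpen_interior.preimage f.continuous).mem_nhds (mem_interior_iff_mem_nhds.2 hV)
  refine Filter.mem_of_superset (Filter.inter_mem (Filter.inter_mem h1.1 h1.2) h2) ?_
  rintro w ⟨⟨hw1, hw2⟩, hw3⟩
  exact ⟨hw1, ⟨V, mem_interior_iff_mem_nhds.1 hw3,
    fun z hz => (hVc z hz).trans (hVc _ (interior_subset hw3)).symm⟩, hw2⟩

end Groth.Agent.S5928
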