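import Groth.Statements.S5930
import Mathlib
import Groth.Agent.Ega43FP2.PdFibre
-- import your own Groth.Agent.* helpers here

set_option autoImplicit false
universe u
open TensorProduct CategoryTheory
open EGA43

namespace Groth.Agent.S5930


/-- Let A be a commutative ring, B a finitely presented A-algebra which is flat as an A-module, and M a
finitely presented B-module which is flat as an A-module. Then the projective dimension of M as a
B-module equals the supremum, over the prime ideals p of A with residue fields κ(p), of the
projective dimensions of the modules (B ⊗_A κ(p)) ⊗_B M over the rings B ⊗_A κ(p). (Projective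
dimensions are taken in the respective module categories, with values in WithBot ℕ∞ and the zero
module of dimension ⊥. The published formula also equates these with the Tor-dimension of M over B;
that equality is not stated here.) -/
theorem result (A B M : Type u) [CommRing A] [CommRing B] [Algebra A B]
    [Algebra.FinitePresentation A B] [Module.Flat A B] [AddCommGroup M] [Module B M] [Module A M]
    [IsScalarTower A B M] [Module.FinitePresentation B M] [Module.Flat A M] :
    projectiveDimension (ModuleCat.of B M) =
      ⨆ p : PrimeSpectrum A, projectiveDimension
        (ModuleCat.of (B ⊗[A] p.asIdeal.ResidueField) ((B ⊗[A] p.asIdeal.ResidueField) ⊗[B] M)) := by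
  have key : ∀ i : ℕ, HasProjectiveDimensionLT (ModuleCat.of B M) i ↔
      ∀ (p : Ideal A) [p.IsPrime], HasProjectiveDimensionLT
        (ModuleCat.of (B ⊗[A] p.ResidueField) ((B ⊗[A] p.ResidueField) ⊗[B] M)) i :=
    fun i => Groth.Ega43FP2.hasProjectiveDimensionLT_iff_fib i (A := A) ⟨M⟩
  apply le_antisymm
  · refine sInf_le fun i hi => (key i).2 fun p hp => projectiveDimension_lt_iff.1 (lt_of_le_of_lt ?_ hi)
    exact le_iSup (fun p : PrimeSpectrum A => projectiveDimension
        (ModuleCat.of (B ⊗[A] p.asIdeal.ResidueField) ((B ⊗[A] p.asIdeal.ResidueField) ⊗[B] M))) ⟨p, hp⟩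
  · refine iSup_le fun p => sInf_le_sInf fun n hn i hi => ?_
    exact (key i).1 (hn i hi) p.asIdeal

end Groth.Agent.S5930
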