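import Groth.Statements.S5933
import Groth.Agent.Ega43Geom.Open

set_option autoImplicit false
open CategoryTheory AlgebraicGeometry
universe u
open EGA43

namespace Groth.Agent.S5933

/-- Let f : X ⟶ Y be a proper, flat morphism of finite presentation. The set of points y of Y whose
fibre X_y is geometrically normal over κ(y) — for every point x of X_y, every finite field extension
K of κ(y) and every point x' over x of the base change of X_y to K, the local ring at x' is an
integrally closed domain — is open in Y. -/
theorem result {X Y : Scheme.{u}} (f : X ⟶ Y) [IsProper f] [Flat f]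
    [LocallyOfFinitePresentation f] :
    IsOpen {y : Y | ∀ x : ↥(f.fiber y), (∀ (K : Type u) [Field K] [Algebra (IsLocalRing.ResidueField (Y.presheaf.stalk y)) K],
        Module.Finite (IsLocalRing.ResidueField (Y.presheaf.stalk y)) K →
        ∀ x' : ↥(FBase.bc (f.fiberToSpecResidueField y) K),
          (FBase.bcπ (f.fiberToSpecResidueField y) K).base x' = x →
          IsDomain ((FBase.bc (f.fiberToSpecResidueField y) K).presheaf.stalk x') ∧
            IsIntegrallyClosed ((FBase.bc (f.fiberToSpecResidueField y) K).presheaf.stalk x'))} := by
  refine Groth.Ega43FP2.isOpen_target f f.isClosedMap _ ?_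
  convert Groth.Ega43Geom.isOpen_flatAt_geomNormal f using 1
  ext x
  exact ⟨fun h => ⟨Flat.stalkMap f x, h⟩, fun h => h.2⟩

end Groth.Agent.S5933
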