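import Groth.Statements.S5937
import Groth.Agent.OmegaSheaf.Receptacle
import Groth.Agent.QCohMod.Stalk
-- import your own Groth.Agent.* helpers here

set_option autoImplicit false
universe u
open CategoryTheory CategoryTheory.Limits AlgebraicGeometry
open Unram17

namespace Groth.Agent.S5937

/-- Take a morphism of schemes f : X ⟶ Y and an O_X-module Ω' equipped with a universal Y-derivation d :
O_X → Ω' (so that Ω' is a sheaf of differentials of X over Y). Then f is formally unramified if and
only if Ω' is a zero object of the category of O_X-modules. -/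
theorem result {X Y : Scheme.{u}} (f : X ⟶ Y)
    (Ω' : X.Modules) (d : OmegaSh.Der f Ω') (hd : OmegaSh.IsUniversal d) :
    FormallyUnramified f ↔ IsZero Ω' := by
  have hsub : ∀ (U : X.Opens), IsZero Ω' → Subsingleton Γ(Ω', U) := fun U hz => by
    refine subsingleton_of_forall_eq 0 fun s => ?_
    exact congrArg (fun φ : Ω' ⟶ Ω' => φ.app U s) (hz.eq_of_src (𝟙 Ω') 0)
  constructor
  · intro hf
    refine (Groth.QCohMod.isZero_iff_stalk Ω').2 fun x => @AddCommGrpCat.isZero_of_subsingleton _ ?_
    refine subsingleton_of_forall_eq 0 fun t => ?_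
    obtain ⟨W, hW, s, rfl⟩ := Groth.QCohMod.exists_germ Ω' x t
    obtain ⟨c, hxc, hle⟩ := Groth.OmegaSheaf.exists_chart f hW
    let _ := Groth.OmegaSheaf.chartAlg f c.e
    have : Algebra.FormallyUnramified Γ(Y, c.V) Γ(X, c.U) := f.formallyUnramified_appLE c.hV c.hU c.e
    have hb := Groth.OmegaSheaf.chartLift_bijective_of_isUniversal hd c
    rw [← Groth.QCohMod.germ_res Ω' hle x hxc s,
      show Groth.QCohMod.res Ω' hle s = 0 from @Subsingleton.elim _ (hb.2.subsingleton) _ _]
    exact map_zero _
  · intro hz
    refine (formallyUnramified_iff f).2 fun {V} hV {U} hU e => ?_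
    let c : Groth.OmegaSheaf.Chart f := ⟨U, V, hU, hV, e⟩
    let _ := Groth.OmegaSheaf.chartAlg f c.e
    have hb := Groth.OmegaSheaf.chartLift_bijective_of_isUniversal hd c
    have := hsub c.U hz
    exact (⟨hb.1.subsingleton⟩ : Algebra.FormallyUnramified Γ(Y, c.V) Γ(X, c.U))

end Groth.Agent.S5937
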