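import Groth.Statements.S5939


set_option autoImplicit false
universe u
open CategoryTheory AlgebraicGeometry
open Unram17 CategoryTheory.Limits

namespace Groth.Agent.S5939

/-- Let f : X ⟶ Y be faithfully flat, locally of finite presentation and quasi-compact, and let g : Y ⟶
Z be a morphism such that f ≫ g is of finite presentation (locally of finite presentation,
quasi-compact and quasi-separated). Then g is quasi-compact and quasi-separated; together with the
descent of local finite presentation along f this says that g is of finite presentation. This is the
case f quasi-compact. -/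
theorem result {X Y Z : Scheme.{u}} (f : X ⟶ Y) (g : Y ⟶ Z)
    [Surjective f] [Flat f] [LocallyOfFinitePresentation f] [QuasiCompact f]
    [LocallyOfFinitePresentation (f ≫ g)] [QuasiCompact (f ≫ g)] [QuasiSeparated (f ≫ g)] :
    QuasiCompact g ∧ QuasiSeparated g := by
  have key : ∀ {A B C : Scheme.{u}} (p : A ⟶ B) (q : B ⟶ C), Surjective p → QuasiCompact (p ≫ q) →
      QuasiCompact q := by
    intro A B C p q hp hpq
    refine ⟨fun U hU hUc => ?_⟩
    have h := (hpq.isCompact_preimage U hU hUc).image p.continuous
    rw [Scheme.Hom.comp_base, TopCat.coe_comp, Set.preimage_comp,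
      Set.image_preimage_eq _ hp.surj] at h
    exact h
  have hqc : QuasiCompact g := key f g inferInstance inferInstance
  refine ⟨hqc, ⟨key f (pullback.diagonal g) inferInstance ?_⟩⟩
  have e : f ≫ pullback.diagonal g = pullback.diagonal (f ≫ g) ≫
      pullback.map (f ≫ g) (f ≫ g) g g f f (𝟙 Z) (by simp) (by simp) := by
    apply pullback.hom_ext
    · simp only [pullback.map, Category.assoc, pullback.lift_fst, pullback.diagonal_fst_assoc,
        pullback.diagonal_fst, Category.comp_id]
      first | done | exact (pullback.diagonal_fst_assoc _ _).symm
    · simp only [pullback.map, Category.assoc, pullback.lift_snd, pullback.diagonal_snd_assoc,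
        pullback.diagonal_snd, Category.comp_id]
      first | done | exact (pullback.diagonal_snd_assoc _ _).symm
  rw [e]
  have : QuasiCompact (pullback.map (f ≫ g) (f ≫ g) g g f f (𝟙 Z) (by simp) (by simp)) :=
    MorphismProperty.pullbackMap (P := @QuasiCompact) inferInstance inferInstance (Category.comp_id _) (Category.comp_id _)
  exact @quasiCompact_comp _ _ _ _ _ (QuasiSeparated.quasiCompact_diagonal (f := f ≫ g)) this

end Groth.Agent.S5939
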