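import Groth.Statements.S5950
import Groth.Agent.Calg4.NormalizationChar

set_option autoImplicit false
universe u
open CategoryTheory AlgebraicGeometry
open Unram17

namespace Groth.Agent.S5950

/-- Let X be an integral scheme which has a nonempty (hence dense) open subset at whose points the local
rings are integrally closed, let X' ⟶ X be its normalization, and let f : Y ⟶ X be a morphism of
schemes. Then there is an isomorphism Y ≅ X' over X if and only if: every local ring of Y is an
integrally closed domain, f is an integral morphism, and there is a dense open subset U of X whose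
preimage is dense in Y and such that the restriction f⁻¹(U) ⟶ U of f is an isomorphism. (The
published statement allows X reduced with locally finitely many irreducible components and a dense
normal open subset; this row states the case of an integral X. The quasi-compactness and
quasi-separatedness binders on the generic point always hold and only serve to form the
normalization.) -/
theorem result (X : Scheme.{u}) [IsIntegral X]
    [QuasiCompact (X.fromSpecStalk (genericPoint X))] [QuasiSeparated (X.fromSpecStalk (genericPoint X))]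
    (hV : ∃ V : X.Opens, (V : Set ↥X).Nonempty ∧ ∀ x ∈ V, IsIntegrallyClosed (X.presheaf.stalk x))
    {Y : Scheme.{u}} (f : Y ⟶ X) :
    (∃ e : Y ≅ Curv2.normalization X, e.hom ≫ Curv2.normalizationι X = f) ↔
      Pi1.IsNormalScheme Y ∧ IsIntegralHom f ∧
        ∃ U : X.Opens, Dense (U : Set ↥X) ∧ Dense ((f ⁻¹ᵁ U : Y.Opens) : Set ↥Y) ∧ IsIso (f ∣_ U) := by
  constructor
  · rintro ⟨e, he⟩
    obtain ⟨hN, hint, hirr, hpre, -⟩ := Groth.Calg4.NormChar.of_iso f e he
    obtain ⟨V, hVne, hVn⟩ := hV
    have hiso := Groth.Calg4.NormChar.isIso_restrict V hVne hVn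
    have hξ : genericPoint X ∈ V :=
      ((genericPoint_spec X).mem_open_set_iff V.isOpen).mpr (by simpa using hVne)
    refine ⟨hN, hint, V, V.isOpen.dense hVne, (f ⁻¹ᵁ V).isOpen.dense ⟨genericPoint Y, ?_⟩, ?_⟩
    · have h := Set.mem_singleton (genericPoint Y)
      rw [← hpre] at h
      show f.base (genericPoint Y) ∈ V
      rw [show f.base (genericPoint Y) = genericPoint X from h]
      exact hξ
    · subst he
      rw [morphismRestrict_comp]
      exact IsIso.comp_isIso' (IsZariskiLocalAtTarget.restrict (P := MorphismProperty.isomorphisms Scheme.{u})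
        (inferInstanceAs (IsIso e.hom)) _) hiso
  · rintro ⟨hN, hint, U, hU, hUd, hiso⟩
    obtain ⟨x₀, hx₀⟩ : (U : Set X).Nonempty := hU.nonempty
    have hξ : genericPoint X ∈ U :=
      ((genericPoint_spec X).mem_open_set_iff U.isOpen).mpr (by rw [Set.univ_inter]; exact ⟨x₀, hx₀⟩)
    have : Nonempty U := ⟨⟨x₀, hx₀⟩⟩
    let φ : (f ⁻¹ᵁ U).toScheme ⟶ U.toScheme := f ∣_ U
    have : IsIso φ := hiso
    have : Nonempty (f ⁻¹ᵁ U).toScheme := ⟨(inv φ) ⟨x₀, hx₀⟩⟩
    have : IsIntegral (f ⁻¹ᵁ U).toScheme := isIntegral_of_isOpenImmersion φ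
    let p := genericPoint (f ⁻¹ᵁ U).toScheme
    have hp : IsGenericPoint ((f ⁻¹ᵁ U).ι p) Set.univ := by
      have h := (genericPoint_spec (f ⁻¹ᵁ U).toScheme).image (f ⁻¹ᵁ U).ι.continuous
      rwa [Set.image_univ, Scheme.Opens.range_ι, hUd.closure_eq] at h
    have : IrreducibleSpace Y :=
      (irreducibleSpace_def _).mpr (by rw [show (⊤ : Set Y) = closure {(f ⁻¹ᵁ U).ι p} from hp.def.symm]; exact isIrreducible_singleton.closure)
    have hgp : genericPoint Y = (f ⁻¹ᵁ U).ι p := IsGenericPoint.eq (genericPoint_spec Y) hp
    have hsq : (f ⁻¹ᵁ U).ι ≫ f = φ ≫ U.ι := (morphismRestrict_ι f U).symm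
    have hη : f (genericPoint Y) = genericPoint X := by
      rw [hgp, ← Scheme.Hom.comp_apply, hsq, Scheme.Hom.comp_apply, genericPoint_eq_of_isOpenImmersion φ,
        genericPoint_eq_of_isOpenImmersion U.ι]
    have : IsIso (f.stalkMap (genericPoint Y)) := by
      rw [hgp]
      exact ((MorphismProperty.isomorphisms CommRingCat).arrow_mk_iso_iff
        (morphismRestrictStalkMap f U p)).mp (inferInstanceAs (IsIso (φ.stalkMap p)))
    exact Groth.Calg4.NormChar.exists_iso f hN hη

end Groth.Agent.S5950
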