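import Groth.Statements.S5953
import Groth.Agent.SchemeMorphisms.PrinParts.GrIso
-- import your own Groth.Agent.* helpers here

set_option autoImplicit false
universe u
open CategoryTheory CategoryTheory.Limits AlgebraicGeometry TopologicalSpace Opposite
open Nrm16

namespace Groth.Agent.S5953

/-- Let f : Y ⟶ X be a closed immersion, v : X' ⟶ X a flat morphism, Y' a fibre product of Y and X' over
X with projections u : Y' ⟶ Y and f' : Y' ⟶ X', and n a natural number. Let φ : u^* Gr_n(f) ⟶
Gr_n(f') be the canonical O_{Y'}-linear map between the n-th graded pieces of the ideals of f and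
f'. Then φ is an isomorphism. (The published statement assumes only that v is flat and that f is a
morphism of schemes with surjective comorphism; this row also assumes f a closed immersion, the case
in which the graded pieces are formed here.) -/
theorem result {Y X Y' X' : Scheme.{u}} (f : Y ⟶ X) [IsClosedImmersion f]
    (v : X' ⟶ X) [Flat v] (u : Y' ⟶ Y) (f' : Y' ⟶ X') (hsq : IsPullback u f' f v) (n : ℕ)
    (φ : (Scheme.Modules.pullback u).obj (PrinPart.grMod f n) ⟶ PrinPart.grMod f' n)
    (hφ : PrinPart.IsGrMap f' f v u n φ) :
    IsIso φ := by
  exact Groth.PrinPartsAux.isIso_grMap_of_flat hsq hφ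

end Groth.Agent.S5953
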