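import Groth.Statements.S5961
import Groth.Agent.SchemeMorphisms.PrinParts.Rows
-- import your own Groth.Agent.* helpers here

set_option autoImplicit false
universe u
open CategoryTheory CategoryTheory.Limits AlgebraicGeometry TopologicalSpace Opposite
open Nrm16

namespace Groth.Agent.S5961

/-- Let f : X ⟶ S be a morphism of schemes, G an O_X-module and D : O_X ⟶ G a differential operator of
order at most 1 relative to S. Then D can be written in exactly one way as v + d with v : O_X ⟶ G an
O_X-linear map and d an S-derivation of O_X into G. -/
theorem result {X S : Scheme.{u}} (f : X ⟶ S) (G : X.Modules)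
    (D : (Coh.structureModule X).presheaf ⟶ G.presheaf)
    (hD : PrinPart.IsDiffOpLE f (Coh.structureModule X) G 1 D) :
    ∃! p : (Coh.structureModule X ⟶ G) × OmegaSh.Der f G,
      ∀ (U : X.Opens) (a : Γ(X, U)),
        D.app (op U) (OmegaSh.strSect X U a) = p.1.app U (OmegaSh.strSect X U a) + p.2.app U a := by
  exact Groth.PrinPartsAux.existsUnique_split f D hD

end Groth.Agent.S5961
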