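import Groth.Statements.S5965
import Groth.Agent.SchemeMorphisms.PrinParts.Finite
-- import your own Groth.Agent.* helpers here

set_option autoImplicit false
universe u
open CategoryTheory CategoryTheory.Limits AlgebraicGeometry TopologicalSpace Opposite
open Nrm16

namespace Groth.Agent.S5965

/-- Let g : X ⟶ Y be a morphism locally of finite type with a section f : Y ⟶ X which is a closed
immersion. Then for every n the n-th infinitesimal neighbourhood of Y in X, mapped to Y through its
inclusion into X followed by g, is finite over Y. (The published statement allows any section f and
says that the structure sheaf of the neighbourhood is a quasi-coherent O_Y-algebra which is an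
O_Y-module of finite type; this row assumes f a closed immersion and states the conclusion as
finiteness of the morphism to Y.) -/
theorem result {X Y : Scheme.{u}} (g : X ⟶ Y) [LocallyOfFiniteType g] (f : Y ⟶ X)
    [IsClosedImmersion f] (hf : f ≫ g = 𝟙 Y) (n : ℕ) :
    IsFinite (PrinPart.infNbhdι f n ≫ g) := by
  exact Groth.PrinPartsAux.isFinite_infNbhd g f hf n

end Groth.Agent.S5965
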