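import Groth.Statements.S5967
import Groth.Agent.SchemeMorphisms.PrinParts.FlatExact
-- import your own Groth.Agent.* helpers here

set_option autoImplicit false
universe u
open CategoryTheory CategoryTheory.Limits AlgebraicGeometry TopologicalSpace Opposite
open Nrm16

namespace Groth.Agent.S5967

/-- Let f : X ⟶ S be a morphism of schemes and n a natural number, and assume that P^n_{X/S} is a flat
O_X-module for its left structure. Then the functor F ↦ P^n_{X/S}(F) on O_X-modules preserves finite
limits (so it is exact). -/
theorem result {X S : Scheme.{u}} (f : X ⟶ S) (n : ℕ)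
    (hP : FlatMod.IsFlat (PrinPart.P f n)) :
    PreservesFiniteLimits
      ((Scheme.Modules.pullback (PrinPart.pr2 f n)) ⋙ (Scheme.Modules.pushforward (PrinPart.pr1 f n))) := by
  exact Groth.PrinPartsAux.preservesFiniteLimits_PMod f n hP

end Groth.Agent.S5967
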