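import Groth.Statements.S5972
import Groth.Agent.SchemeMorphisms.PrinParts.Affine
-- import your own Groth.Agent.* helpers here

set_option autoImplicit false
universe u
open CategoryTheory CategoryTheory.Limits AlgebraicGeometry TopologicalSpace Opposite
open Nrm16

namespace Groth.Agent.S5972

/-- Let A → B be a ring homomorphism, X = Spec B, S = Spec A with f : X ⟶ S the induced morphism, and n
a natural number; identify B with the ring of global functions on X through the canonical
isomorphism. If ψ : B ⊗_A B → Γ(X, P^n_{X/S}) is the additive map with ψ(b ⊗ b') = b · d^n(b') for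
all b, b' in B, then ψ is surjective with kernel the (n+1)-st power of the kernel I of the
multiplication map B ⊗_A B → B. -/
theorem result (A B : Type u) [CommRing A] [CommRing B] [Algebra A B] (n : ℕ)
    (ψ : TensorProduct A B B →+
      Γ(PrinPart.P (Spec.map (CommRingCat.ofHom (algebraMap A B))) n, (⊤ : (Spec (CommRingCat.of B)).Opens)))
    (hψ : ∀ b b' : B, ψ (b ⊗ₜ[A] b') =
      (Scheme.ΓSpecIso (CommRingCat.of B)).inv b •
        PrinPart.dn (Spec.map (CommRingCat.ofHom (algebraMap A B))) n ⊤
          ((Scheme.ΓSpecIso (CommRingCat.of B)).inv b')) :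
    Function.Surjective ψ ∧ ψ.ker = (KaehlerDifferential.ideal A B ^ (n + 1)).toAddSubgroup := by
  exact Groth.PrinPartsAux.affine_sections A B n ψ hψ

end Groth.Agent.S5972
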