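import Groth.Statements.S5973
import Groth.Agent.SchemeMorphisms.PrinParts.GrFT
-- import your own Groth.Agent.* helpers here

set_option autoImplicit false
universe u
open CategoryTheory CategoryTheory.Limits AlgebraicGeometry TopologicalSpace Opposite
open Nrm16

namespace Groth.Agent.S5973

/-- Let f : Y ⟶ X be a closed immersion which is locally of finite presentation. Then for every n the
n-th graded piece Gr_n(f) = I^n/I^(n+1) of the ideal of f, as an O_Y-module, is quasi-coherent of
finite type. (The published statement allows any immersion locally of finite presentation; this row
states the case of a closed immersion.) -/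
theorem result {Y X : Scheme.{u}} (f : Y ⟶ X) [IsClosedImmersion f]
    [LocallyOfFinitePresentation f] (n : ℕ) :
    Coh.IsCoh (PrinPart.grMod f n) := by
  exact Groth.PrinPartsAux.isCoh_grMod f n

end Groth.Agent.S5973
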