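import Groth.Statements.S5974
import Groth.Agent.OmegaSheaf.ConormalTrans
open Groth.OmegaSheaf

set_option autoImplicit false
universe u
open CategoryTheory CategoryTheory.Limits AlgebraicGeometry TopologicalSpace Opposite
open Nrm16

namespace Groth.Agent.S5974

/-- Let f : Y ⟶ X and j : Y' ⟶ Y be quasi-compact immersions. Let φ₁ : j^* N_{Y/X} ⟶ N_{Y'/X} and φ₂ :
N_{Y'/X} ⟶ N_{Y'/Y} be the canonical maps of conormal sheaves (the first induced by the identity of
X, the second by f, on local sections of the ideals). Then φ₂ is an epimorphism and the image of φ₁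
is the kernel of φ₂: the sequence j^* N_{Y/X} ⟶ N_{Y'/X} ⟶ N_{Y'/Y} ⟶ 0 is exact. (The published
statement allows arbitrary immersions; this row assumes them quasi-compact, the case in which the
conormal sheaves used here are those of the immersions.) -/
theorem result {Y' Y X : Scheme.{u}} (f : Y ⟶ X) [IsImmersion f] [QuasiCompact f]
    (j : Y' ⟶ Y) [IsImmersion j] [QuasiCompact j]
    (φ₁ : (Scheme.Modules.pullback j).obj (Omega.conormal f) ⟶ Omega.conormal (j ≫ f))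
    (hφ₁ : OmegaSh.IsConormalMap (j ≫ f) f (𝟙 X) j φ₁)
    (φ₂ : (Scheme.Modules.pullback (𝟙 Y')).obj (Omega.conormal (j ≫ f)) ⟶ Omega.conormal j)
    (hφ₂ : OmegaSh.IsConormalMap j (j ≫ f) f (𝟙 Y') φ₂) :
    Epi φ₂ ∧
      imageSubobject φ₁ =
        kernelSubobject ((Scheme.Modules.pullbackId Y').inv.app (Omega.conormal (j ≫ f)) ≫ φ₂) := by
  have hch : ∀ z : Y', ∃ (W W' : X.Opens) (e : W' ≤ 𝟙 X ⁻¹ᵁ W), (j ≫ f) z ∈ W' ∧
      IsConormalChart (j ≫ f) W' ∧ IsAffineOpen (f ⁻¹ᵁ W') ∧ Function.Surjective (f.app W') ∧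
      RingHom.ker (f.app W').hom ≤ (RingHom.ker (f.app W).hom).map ((𝟙 X : X ⟶ X).appLE W W' e).hom := by
    intro z
    obtain ⟨W, hW, hz, hle⟩ := exists_conormalChart (j ≫ f) z
      (W₀ := f.coborderRange) (subset_coborder ⟨j z, rfl⟩)
    have hWf := isConormalChart_of_le f hW.affine hle
    refine ⟨W, W, le_rfl, hz, hW, hWf.affine_preimage, hWf.surjective, fun x hx ↦ ?_⟩
    refine (show ((𝟙 X : X ⟶ X).appLE W W le_rfl) x = x from ?_) ▸ Ideal.mem_map_of_mem _ hx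
    rw [show (𝟙 X : X ⟶ X).appLE W W le_rfl = (𝟙 X : X ⟶ X).app W from ((𝟙 X : X ⟶ X).app_eq_appLE (U := W)).symm]
    rfl
  have w := transMap_comp_eq_zero hφ₁ hφ₂ (e := 𝟙 Y)
    (show f ≫ 𝟙 X = 𝟙 Y ≫ f by simp)
  refine ⟨transMap_epi hφ₂ fun z ↦ ?_, ?_⟩
  · obtain ⟨W, W', e, hz, hW', hV, hn, -⟩ := hch z
    exact ⟨W', hz, hW', hV, hn⟩
  · exact (ShortComplex.exact_iff_image_eq_kernel _).mp (transMap_exact hφ₁ hφ₂ hch w)

end Groth.Agent.S5974
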