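import Groth.Statements.S5980
import Groth.Agent.OmegaSheaf.ConormalSections
import Groth.Agent.NeronArea.JacobianCriterion

set_option autoImplicit false
universe u
open CategoryTheory CategoryTheory.Limits AlgebraicGeometry TopologicalSpace Opposite
open Nrm16

namespace Groth.Agent.S5980

/-- Consider a point y of Y and an immersion j : Y ⟶ X that is quasi-compact and locally of finite
presentation. The stalk at y of the conormal sheaf N_{Y/X} = I/I² is zero exactly when y has an open
neighbourhood U in Y on which the restriction of j is an open immersion. (The published statement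
covers every immersion locally of finite presentation. Here j is additionally assumed quasi-compact,
since in that case the conormal sheaf used here is the one attached to j.) -/
theorem result {Y X : Scheme.{u}} (j : Y ⟶ X) [IsImmersion j]
    [QuasiCompact j] [LocallyOfFinitePresentation j] (y : Y) :
    (∃ U : Y.Opens, y ∈ U ∧ IsOpenImmersion (U.ι ≫ j)) ↔
      Subsingleton ((Omega.conormal j).presheaf.stalk y) := by
  obtain ⟨W, hW, hyW, -⟩ := Groth.OmegaSheaf.exists_conormalChart j y (W₀ := ⊤) trivial
  have hnat : ∀ {V V' : X.Opens} (e : V' ≤ V) (x : Γ(X, V)), j.app V' (X.presheaf.map (homOfLE e).op x) =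
      Y.presheaf.map ((Opens.map j.base).map (homOfLE e)).op (j.app V x) := fun e x ↦ by
    rw [← CommRingCat.comp_apply, Scheme.Hom.naturality, CommRingCat.comp_apply]; rfl
  constructor
  · rintro ⟨U, hyU, hU⟩
    have hinj : Function.Injective (j.stalkMap y) := by
      let y' : U.toScheme := ⟨y, hyU⟩
      have h1 : IsIso ((U.ι ≫ j).stalkMap y') := inferInstance
      rw [Scheme.Hom.stalkMap_comp] at h1
      have h1' : IsIso (j.stalkMap (U.ι y') ≫ U.ι.stalkMap y') := h1
      have h2 : IsIso (j.stalkMap (U.ι y')) := IsIso.of_isIso_comp_right _ (U.ι.stalkMap y')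
      exact (ConcreteCategory.bijective_of_isIso (j.stalkMap (U.ι y'))).1
    refine ⟨fun s t ↦ ?_⟩
    suffices h : ∀ t : (Omega.conormal j).presheaf.stalk y, t = 0 by rw [h s, h t]
    intro t
    obtain ⟨a, m, ha, hm⟩ := Groth.QCohMod.exists_smul_germ_eq (Omega.conormal j) hW.affine_preimage y hyW t
    obtain ⟨k, rfl⟩ := hW.conormalSect_surjective m
    have hzero : Groth.QCohMod.germ (Omega.conormal j) y hyW (OmegaSh.conormalSect j W k) = 0 := by
      have hg : X.presheaf.germ W (j y) hyW (OmegaSh.idealSect j.ker W k) =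
          X.presheaf.germ W (j y) hyW 0 := by
        apply hinj
        rw [Scheme.Hom.germ_stalkMap_apply, Scheme.Hom.germ_stalkMap_apply,
          Groth.OmegaSheaf.app_idealSect]
        exact congrArg _ (map_zero (j.app W).hom).symm
      obtain ⟨V, hyV, e, e', hV⟩ := TopCat.Presheaf.germ_eq X.presheaf (j y) hyW hyW _ _ hg
      have hk : Groth.QCohMod.res (ClSub.idealMod j.ker) (leOfHom e) k = 0 := by
        refine Groth.OmegaSheaf.idealSect_injective _ _ ?_
        rw [map_zero]
        exact (Groth.OmegaSheaf.idealSect_res _ (leOfHom e) k).trans (hV.trans (map_zero (X.presheaf.map e'.op).hom))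
      rw [← Groth.QCohMod.germ_res (Omega.conormal j) (j.preimage_mono (leOfHom e)) y hyV,
        Groth.OmegaSheaf.res_conormalSect j (leOfHom e), hk, map_zero, map_zero]
    rw [hzero] at hm
    exact ((Scheme.mem_basicOpen Y a y hyW).mp ha).smul_eq_zero.mp hm
  · intro hsub
    let I := RingHom.ker (j.app W).hom
    have hIfg : I.FG := by
      have hfp : (j.appLE W (j ⁻¹ᵁ W) le_rfl).hom.FinitePresentation :=
        j.finitePresentation_appLE hW.affine hW.affine_preimage le_rfl
      rw [← Scheme.Hom.app_eq_appLE] at hfp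
      let _ : Algebra Γ(X, W) Γ(Y, j ⁻¹ᵁ W) := (j.app W).hom.toAlgebra
      have : Algebra.FinitePresentation Γ(X, W) Γ(Y, j ⁻¹ᵁ W) := hfp
      exact Algebra.FinitePresentation.ker_fG_of_surjective
        (Algebra.ofId Γ(X, W) Γ(Y, j ⁻¹ᵁ W)) hW.surjective
    have hloc : ∀ x ∈ I, ∃ a : Γ(X, W), j y ∈ X.basicOpen a ∧ a * x ∈ I ^ 2 := by
      intro x hx
      obtain ⟨k, hk⟩ := Groth.OmegaSheaf.exists_idealSect_of_app_eq_zero j (x := x) hx
      obtain ⟨b, hb, hbk⟩ := Groth.QCohMod.exists_smul_eq_zero_of_germ_eq_zero (Omega.conormal j)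
        hW.affine_preimage y hyW (OmegaSh.conormalSect j W k) (Subsingleton.elim _ _)
      obtain ⟨a, rfl⟩ := hW.surjective b
      rw [← Groth.OmegaSheaf.conormalSect_smul, hW.conormalSect_eq_zero_iff,
        Groth.OmegaSheaf.idealSect_smul, hk] at hbk
      refine ⟨a, ?_, hbk⟩
      rw [← Scheme.preimage_basicOpen] at hb
      exact hb
    obtain ⟨S, hS⟩ := hIfg
    choose! a ha haI using hloc
    have hSI : ∀ s ∈ S, s ∈ I := fun s hs ↦ hS ▸ Submodule.subset_span hs
    have hprod : j y ∈ X.basicOpen (∏ s ∈ S, a s) := by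
      rw [Scheme.mem_basicOpen X _ _ hyW, map_prod, IsUnit.prod_iff]
      exact fun s hs ↦ (Scheme.mem_basicOpen X _ _ hyW).mp (ha s (hSI s hs))
    have hA : ∀ x ∈ I, (∏ s ∈ S, a s) * x ∈ (⊥ : Ideal Γ(X, W)) ⊔ I ^ 2 := by
      intro x hx
      rw [bot_sup_eq]
      rw [← hS] at hx
      induction hx using Submodule.span_induction with
      | mem s hs =>
        obtain ⟨d, hd⟩ := Finset.dvd_prod_of_mem a hs
        rw [hd, mul_comm (a s) d, mul_assoc]
        exact Ideal.mul_mem_left _ _ (haI s (hSI s hs))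
      | zero => rw [mul_zero]; exact zero_mem _
      | add p q _ _ hp hq => rw [mul_add]; exact add_mem hp hq
      | smul r p _ hp => rw [smul_eq_mul, mul_left_comm]; exact Ideal.mul_mem_left _ _ hp
    obtain ⟨g, n, hgn, hg⟩ := Groth.NeronArea.Jacobian.det_trick I ⊥ ⟨S, hS⟩ _ hA
    have hyg : j y ∈ X.basicOpen g := by
      change y ∈ j ⁻¹ᵁ X.basicOpen g
      have hy' : y ∈ j ⁻¹ᵁ X.basicOpen (∏ s ∈ S, a s) := hprod
      rw [Scheme.preimage_basicOpen] at hy' ⊢
      rw [Scheme.mem_basicOpen Y _ _ hyW] at hy' ⊢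
      rw [show j.app W g = j.app W ((∏ s ∈ S, a s) ^ n) from sub_eq_zero.mp
        ((map_sub (j.app W).hom _ _).symm.trans hgn), map_pow, map_pow]
      exact hy'.pow n
    have hD : IsAffineOpen (X.basicOpen g) := hW.affine.basicOpen g
    have hle : X.basicOpen g ≤ W := X.basicOpen_le g
    have hDY : IsAffineOpen (j ⁻¹ᵁ X.basicOpen g) := by
      rw [Scheme.preimage_basicOpen]; exact hW.affine_preimage.basicOpen _
    have hker : RingHom.ker (j.app (X.basicOpen g)).hom = ⊥ := by
      rw [← Groth.OmegaSheaf.ker_ideal_eq (i := j) hD]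
      have := j.ker.map_ideal_basicOpen ⟨W, hW.affine⟩ g
      refine this.symm.trans (eq_bot_iff.mpr (Ideal.map_le_iff_le_comap.mpr fun x hx ↦ ?_))
      rw [Ideal.mem_comap, Ideal.mem_bot]
      have hx' : x ∈ I := (SetLike.ext_iff.mp (Groth.OmegaSheaf.ker_ideal_eq (i := j) hW.affine) x).mp hx
      have hgx : g * x = 0 := hg x hx'
      have hu : IsUnit (X.presheaf.map (homOfLE hle).op g) :=
        X.toRingedSpace.isUnit_res_basicOpen g
      exact hu.mul_right_eq_zero.mp
        (((map_mul (X.presheaf.map (homOfLE hle).op).hom g x).symm.trans (congrArg _ hgx)).trans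
          (map_zero _))
    have hsurj : Function.Surjective (j.app (X.basicOpen g)) := by
      intro t
      have hloc' := hW.affine_preimage.isLocalization_basicOpen (j.app W g)
      have heq : j ⁻¹ᵁ X.basicOpen g = Y.basicOpen (j.app W g) := Scheme.preimage_basicOpen j g
      obtain ⟨⟨b, c, N, hN⟩, hbc⟩ := IsLocalization.surj (Submonoid.powers (j.app W g))
        (Y.presheaf.map (eqToHom heq.symm).op t)
      obtain ⟨b, rfl⟩ := hW.surjective b
      simp only at hN; subst hN
      have hu : IsUnit (X.presheaf.map (homOfLE hle).op g) :=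
        X.toRingedSpace.isUnit_res_basicOpen g
      obtain ⟨u, hu'⟩ := (hu.pow N).exists_right_inv
      refine ⟨X.presheaf.map (homOfLE hle).op b * u, ?_⟩
      apply (ConcreteCategory.bijective_of_isIso (Y.presheaf.map (eqToHom heq.symm).op)).1
      have hcomp : ∀ x : Γ(X, W), Y.presheaf.map (eqToHom heq.symm).op
          (j.app _ (X.presheaf.map (homOfLE hle).op x)) =
          algebraMap Γ(Y, j ⁻¹ᵁ W) Γ(Y, Y.basicOpen (j.app W g)) (j.app W x) := fun x ↦ by
        rw [hnat, ← CommRingCat.comp_apply, ← Functor.map_comp]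
        rfl
      change _ * algebraMap _ _ ((j.app W g) ^ N) = algebraMap _ _ (j.app W b) at hbc
      refine ((IsLocalization.map_units Γ(Y, Y.basicOpen (j.app W g))
        (⟨(j.app W g) ^ N, N, rfl⟩ : Submonoid.powers (j.app W g))).mul_left_inj).mp ?_
      rw [hbc]
      simp only [← map_pow]
      rw [← hcomp, ← map_mul, ← map_mul, ← hcomp, mul_assoc, map_pow, mul_comm u, hu', mul_one]
    refine ⟨j ⁻¹ᵁ X.basicOpen g, hyg, ?_⟩
    have : IsAffine (X.basicOpen g) := hD
    have : IsAffine (j ⁻¹ᵁ X.basicOpen g) := hDY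
    have hb : IsIso (j.app (X.basicOpen g)) := (ConcreteCategory.isIso_iff_bijective _).mpr
      ⟨(RingHom.injective_iff_ker_eq_bot _).mpr hker, hsurj⟩
    have htop : IsIso (j ∣_ X.basicOpen g).appTop := by
      rw [morphismRestrict_appTop]
      have : IsIso (j.app ((X.basicOpen g).ι ''ᵁ ⊤)) := by
        rw [Scheme.Opens.ι_image_top]; exact hb
      have h2 : IsIso (eqToHom (image_morphismRestrict_preimage j (X.basicOpen g) ⊤)).op := inferInstance
      exact IsIso.comp_isIso' this (@Functor.map_isIso _ _ _ _ _ _ Y.presheaf _ h2)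
    have : IsIso (j ∣_ X.basicOpen g) :=
      (MorphismProperty.arrow_mk_iso_iff (MorphismProperty.isomorphisms Scheme)
        (arrowIsoSpecΓOfIsAffine (j ∣_ X.basicOpen g))).mpr
        (show IsIso (Spec.map (j ∣_ X.basicOpen g).appTop) from inferInstance)
    rw [← morphismRestrict_ι]
    infer_instance

end Groth.Agent.S5980
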