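import Groth.Statements.S5985
import Groth.Agent.FlatMor2.EtaleFinite
import Groth.Agent.Flatmor4.QuasiFiniteSplit
-- import your own Groth.Agent.* helpers here

set_option autoImplicit false
universe u
open CategoryTheory AlgebraicGeometry
open Unram

namespace Groth.Agent.S5985

/-- Let f : X ⟶ Y be separated and locally of finite type, and y a point of Y whose fibre f⁻¹(y) is
finite (hence discrete). Then there are an étale morphism g : Y' ⟶ Y, a point y' of Y' with g(y') =
y inducing an isomorphism of residue fields κ(y) ≅ κ(y'), and two complementary open subschemes V, W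
of X' = X ×_Y Y' such that V ⟶ Y' is finite and W contains no point of X' lying over y'. -/
theorem result {X Y : Scheme.{u}} (f : X ⟶ Y)
    [LocallyOfFiniteType f] [IsSeparated f] (y : Y) (hfin : (f ⁻¹' {y}).Finite) :
    ∃ (Y' : Scheme.{u}) (g : Y' ⟶ Y) (y' : Y'), Etale g ∧ g y' = y ∧
      IsIso (g.residueFieldMap y') ∧
      ∃ (V W : (Limits.pullback f g).Opens), IsCompl V W ∧
        IsFinite (V.ι ≫ Limits.pullback.snd f g) ∧
        ∀ x : ↥(Limits.pullback f g), Limits.pullback.snd f g x = y' → x ∈ V := by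
  classical
  obtain ⟨n, x, -, hx⟩ : ∃ (n : ℕ) (x : Fin n → X), Function.Injective x ∧ Set.range x = f ⁻¹' {y} := by
    have := hfin.to_subtype
    let e := (Finite.equivFin (f ⁻¹' {y})).symm
    exact ⟨_, fun i => (e i).1, Subtype.val_injective.comp e.injective, by
      rw [show (fun i => (e i).1) = Subtype.val ∘ e from rfl, Set.range_comp, e.surjective.range_eq,
        Set.image_univ, Subtype.range_coe]⟩
  have hy : ∀ i, f (x i) = y := fun i => (Set.ext_iff.1 hx (x i)).1 ⟨i, rfl⟩
  have hqf : ∀ i, f.QuasiFiniteAt (x i) := fun i => by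
    rw [Scheme.Hom.quasiFiniteAt_iff_isOpen_singleton_asFiber]
    have : Finite ↥(f.fiber (f (x i))) :=
      have : Finite ↥(f ⁻¹' {f (x i)}) := by rw [hy i]; exact hfin.to_subtype
      Finite.of_equiv _ (f.fiberHomeo (f (x i))).toEquiv.symm
    have : LocallyOfFiniteType (f.fiberToSpecResidueField (f (x i))) :=
      MorphismProperty.pullback_snd (P := @LocallyOfFiniteType) _ _ ‹_›
    have : LocallyQuasiFinite (f.fiberToSpecResidueField (f (x i))) :=
      .of_finite_preimage_singleton _ fun _ => Set.toFinite _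
    have : IsLocallyArtinian (f.fiber (f (x i))) :=
      .of_locallyQuasiFinite (f.fiberToSpecResidueField (f (x i)))
    exact isOpen_discrete _
  obtain ⟨Y', g, y', ⟨hg, hgy, hres⟩, hnb⟩ := Groth.FlatMor2.exists_common_nbhd f y x hy hqf
  choose V hV v hvV hvy hvx using fun i => (hnb i).imp fun V h => (⟨h.1, h.2.2⟩ :
    IsFinite (V.ι ≫ Limits.pullback.snd f g) ∧
      ∃ v, v ∈ V ∧ Limits.pullback.snd f g v = y' ∧ Limits.pullback.fst f g v = x i)
  let W : (Limits.pullback f g).Opens := ⨆ i, V i
  have hW : IsFinite (W.ι ≫ Limits.pullback.snd f g) :=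
    Groth.Flatmor4.isFinite_iSup (Limits.pullback.snd f g) V hV
  have hcl : IsClosed (W : Set ↥(Limits.pullback f g)) := by
    have : UniversallyClosed W.ι := .of_comp_of_isSeparated W.ι (Limits.pullback.snd f g)
    rw [← Scheme.Opens.range_ι]
    exact W.ι.isClosedMap.isClosed_range
  refine ⟨Y', g, y', hg, hgy, (ConcreteCategory.isIso_iff_bijective _).2 hres, W,
    ⟨(W : Set _)ᶜ, hcl.isOpen_compl⟩, ⟨?_, ?_⟩, hW, fun w hw => ?_⟩
  · rw [disjoint_iff]
    exact TopologicalSpace.Opens.ext (Set.inter_compl_self _)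
  · rw [codisjoint_iff]
    exact TopologicalSpace.Opens.ext (Set.union_compl_self _)
  · obtain ⟨-, hinj, -⟩ :=
      Groth.FlatMor2.fiber_of_bijective_residueFieldMap (IsPullback.of_hasPullback f g) y' hres
    obtain ⟨i, hi⟩ := (Set.ext_iff.1 hx (Limits.pullback.fst f g w)).2 (by
      show f (Limits.pullback.fst f g w) = y
      rw [← Scheme.Hom.comp_apply, Limits.pullback.condition, Scheme.Hom.comp_apply, hw, hgy])
    rw [hinj hw (hvy i) (hi.symm.trans (hvx i).symm)]
    exact TopologicalSpace.Opens.mem_iSup.2 ⟨i, hvV i⟩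

end Groth.Agent.S5985
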