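import Groth.Statements.S5986
import Groth.Agent.Ega43Geom.DepthAlong
import Groth.Agent.S17866

set_option autoImplicit false
universe u
open CategoryTheory CategoryTheory.Limits AlgebraicGeometry TopologicalSpace Topology
open CInt

namespace Groth.Agent.S5986

/-- Let f : X ⟶ S be locally of finite presentation, Y a closed subset of X which is locally
constructible in X, F a finitely presented quasi-coherent O_X-module flat over S, and n a natural
number. Then the set V_n of points y of Y at which the depth of the fibre module F_{f(y)} along Y ∩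
X_{f(y)} is at least n is retrocompact in X: it meets every quasi-compact open subset of X in a
quasi-compact set. -/
theorem result {X S : Scheme.{u}} (f : X ⟶ S)
    [LocallyOfFinitePresentation f] (Y : Closeds ↥X) (hY : IsLocallyConstructible (Y : Set ↥X))
    (F : X.Modules) (hqc : Coh.IsQCoh F) (hfp : CohB1.IsFP F) (hfl : FlatMod.IsFlatOver f F)
    (n : ℕ) :
    IsRetrocompact {y : ↥X | y ∈ Y ∧ (n : ℕ∞) ≤ CInt.fiberDepthAlong f F (Y : Set ↥X) y} := by
  have : F.IsQuasicoherent := hqc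
  have hset : {y : ↥X | y ∈ Y ∧ (n : ℕ∞) ≤ CInt.fiberDepthAlong f F (Y : Set ↥X) y} =
      (Y : Set ↥X) ∩ {y | (n : ℕ∞) ≤ CInt.fiberDepthAlong f F (Y : Set ↥X) y} := rfl
  rw [hset]
  intro V hVc hVo
  have hcov : ∀ x ∈ V, ∃ W : X.Opens, IsAffineOpen W ∧ x ∈ W ∧ (W : Set X) ⊆ V ∧
      ∃ O : S.Opens, IsAffineOpen O ∧ W ≤ f ⁻¹ᵁ O := by
    intro x hx
    obtain ⟨O, hO, hxO, -⟩ := exists_isAffineOpen_mem_and_subset (U := (⊤ : S.Opens)) (x := f x) trivial
    obtain ⟨W, hW, hxW, hWle⟩ := exists_isAffineOpen_mem_and_subset (U := (⟨V, hVo⟩ : X.Opens) ⊓ f ⁻¹ᵁ O)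
      (x := x) ⟨hx, hxO⟩
    exact ⟨W, hW, hxW, fun w hw => (hWle hw).1, O, hO, fun w hw => (hWle hw).2⟩
  choose W hW hxW hWV O hO hWO using hcov
  obtain ⟨t, ht⟩ := hVc.elim_finite_subcover (fun x : V => (W x.1 x.2 : Set X)) (fun x => (W x.1 x.2).isOpen)
    fun x hx => Set.mem_iUnion.2 ⟨⟨x, hx⟩, hxW x hx⟩
  have heq : (Y : Set X) ∩ {y | (n : ℕ∞) ≤ CInt.fiberDepthAlong f F (Y : Set ↥X) y} ∩ V =
      ⋃ x ∈ t, (hW x.1 x.2).fromSpec '' ((hW x.1 x.2).fromSpec ⁻¹'
        ((Y : Set X) ∩ {y | (n : ℕ∞) ≤ CInt.fiberDepthAlong f F (Y : Set ↥X) y})) := by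
    ext z
    simp only [Set.image_preimage_eq_inter_range, IsAffineOpen.range_fromSpec, Set.mem_iUnion, Set.mem_inter_iff]
    constructor
    · rintro ⟨hz, hzV⟩
      obtain ⟨x, hxt, hzx⟩ := Set.mem_iUnion₂.1 (ht hzV)
      exact ⟨x, hxt, hz, hzx⟩
    · rintro ⟨x, -, hz, hzx⟩
      exact ⟨hz, hWV x.1 x.2 hzx⟩
  rw [heq]
  refine t.finite_toSet.isCompact_biUnion fun x _ => IsCompact.image ?_ (hW x.1 x.2).fromSpec.continuous
  refine Groth.Agent.S17866.isCompact_of_isConstructible ?_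
  have hYc : Topology.IsConstructible ((hW x.1 x.2).fromSpec ⁻¹' (Y : Set X)) :=
    (hY.preimage_of_isOpenEmbedding (hW x.1 x.2).fromSpec.isOpenEmbedding).isConstructible
  rw [Set.preimage_inter]
  exact hYc.inter (Groth.Ega43Geom.isConstructible_preimage_le_fiberDepthAlong f F hfp (hW x.1 x.2) (hO x.1 x.2)
    (hWO x.1 x.2) _ hYc n)

end Groth.Agent.S5986
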