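import Groth.Statements.S5987
import Groth.Agent.LocCohTC.Basic
import Groth.Agent.MiscGeom.SopAvoid

set_option autoImplicit false
universe u
open EGA418

namespace Groth.Agent.S5987

open IsLocalRing

theorem exists_coset_avoid {A : Type u} [CommRing A] (F : Finset (Ideal A)) (hF : ∀ q ∈ F, q.IsPrime)
    (y : A) (J : Ideal A) (h : ∀ q ∈ F, y ∈ q → ¬ J ≤ q) : ∃ z ∈ J, ∀ q ∈ F, y + z ∉ q := by
  classical
  let M := F.filter fun q => ∀ q' ∈ F, q ≤ q' → q' ≤ q
  let K : Ideal A := J * ∏ q ∈ M.filter (fun q => y ∉ q), q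
  have hM : ∀ q ∈ M, q ∈ F := fun q hq => (Finset.mem_filter.1 hq).1
  have hK : ¬ ((K : Set A) ⊆ ⋃ q ∈ ((M.filter fun q => y ∈ q) : Set (Ideal A)), (q : Set A)) := by
    intro hsub
    obtain ⟨q, hq, hle⟩ := (Ideal.subset_union_prime (f := fun q => q) ⊥ ⊥
      (fun q hq _ _ => hF q (hM q (Finset.mem_filter.1 hq).1))).1 hsub
    obtain ⟨hqM, hyq⟩ := Finset.mem_filter.1 hq
    haveI := hF q (hM q hqM)
    rcases (Ideal.IsPrime.mul_le inferInstance).1 hle with h1 | h1
    · exact h q (hM q hqM) hyq h1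
    · obtain ⟨q', hq', hle'⟩ := (Ideal.IsPrime.prod_le inferInstance).1 h1
      obtain ⟨hq'M, hyq'⟩ := Finset.mem_filter.1 hq'
      exact hyq' ((Finset.mem_filter.1 hq'M).2 q (hM q hqM) hle' hyq)
  obtain ⟨z, hz, hzq⟩ := Set.not_subset.1 hK
  refine ⟨z, Ideal.mul_le_left hz, fun q hq => ?_⟩
  suffices ∀ q ∈ M, y + z ∉ q by
    obtain ⟨m, hm, hmax⟩ := (F.filter fun q' => q ≤ q').exists_maximal ⟨q, Finset.mem_filter.2 ⟨hq, le_rfl⟩⟩
    obtain ⟨hmF, hqm⟩ := Finset.mem_filter.1 hm
    exact fun hc => this m (Finset.mem_filter.2 ⟨hmF, fun q' hq' hle =>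
      hmax (Finset.mem_filter.2 ⟨hq', hqm.trans hle⟩) hle⟩) (hqm hc)
  intro q hqM hc
  by_cases hy : y ∈ q
  · exact hzq (Set.mem_biUnion (Finset.mem_filter.2 ⟨hqM, hy⟩ : q ∈ M.filter fun q => y ∈ q) ((Submodule.add_mem_iff_right q hy).1 hc))
  · have : z ∈ q := (Ideal.mul_le_right (I := J) |>.trans
      (Ideal.prod_le_inf.trans (Finset.inf_le (Finset.mem_filter.2 ⟨hqM, hy⟩)))) hz
    exact hy ((Submodule.add_mem_iff_left q this).1 hc)

theorem notMem_of_minimal {R : Type u} [CommRing R] (L : Ideal R) (t : R) (ht : ∀ z, t * z ∈ L → z ∈ L)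
    {Q : Ideal R} (hQ : Q ∈ L.minimalPrimes) : t ∉ Q := by
  intro h
  have h' := Ideal.iUnion_minimalPrimes (I := L)
  obtain ⟨y, hy, hty⟩ : t ∈ {x | ∃ y ∉ L.radical, x * y ∈ L.radical} := h' ▸ Set.mem_biUnion hQ h
  obtain ⟨n, hn⟩ := hty
  rw [mul_pow] at hn
  have : ∀ m z, t ^ m * z ∈ L → z ∈ L := by
    intro m
    induction m with
    | zero => simp
    | succ m ih => exact fun z hz => ih z (ht _ (by rwa [pow_succ', mul_assoc] at hz))
  exact hy ⟨n, this n _ hn⟩

theorem mem_initial {R : Type u} [CommRing R] [LocCoh.IsCohenMacaulayLocalRing R] {s : ℕ}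
    (hs : ringKrullDim R = s) (t : Fin s → R) (ht : ∀ i, t i ∈ maximalIdeal R)
    (hsop : ringKrullDim (R ⧸ Ideal.span (Set.range t)) = 0) (i : Fin s) (z : R)
    (hz : t i * z ∈ Ideal.span (t '' {j | j < i})) : z ∈ Ideal.span (t '' {j | j < i}) := by
  have hfull : Ideal.ofList (List.ofFn t) = Ideal.span (Set.range t) := by
    rw [Ideal.ofList]; congr 1; ext x; simp
  have hmem : ∀ x ∈ List.ofFn t, x ∈ maximalIdeal R := fun x hx => by
    obtain ⟨j, rfl⟩ := List.mem_ofFn.1 hx
    exact ht j
  have hw : RingTheory.Sequence.IsWeaklyRegular R (List.ofFn t) := by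
    refine ((Agent.S5758.result R R LocCoh.IsCohenMacaulayLocalRing.supportDim_eq_depth _ hmem).1).2 ?_
    rw [hfull, smul_eq_mul, Ideal.mul_top, Module.supportDim_quotient_eq_ringKrullDim, hsop, zero_add,
      Module.supportDim_self_eq_ringKrullDim, hs, List.length_ofFn]
  have hreg := hw.regular_mod_prev i (by simp)
  have hl : Ideal.ofList ((List.ofFn t).take i) = Ideal.span (t '' {j | j < i}) := by
    rw [Ideal.ofList]; congr 1; ext x
    simp only [Set.mem_setOf_eq, List.mem_take_iff_getElem, List.getElem_ofFn, List.length_ofFn, Set.mem_image]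
    constructor
    · rintro ⟨j, hj, rfl⟩
      exact ⟨⟨j, (lt_min_iff.1 hj).2⟩, (lt_min_iff.1 hj).1, rfl⟩
    · rintro ⟨j, hj, rfl⟩
      exact ⟨j.1, lt_min hj j.2, rfl⟩
  simp only [List.getElem_ofFn] at hreg
  have hzero : t i • (Submodule.Quotient.mk z : R ⧸ (Ideal.ofList ((List.ofFn t).take i) • (⊤ : Submodule R R))) = 0 := by
    rw [← Submodule.Quotient.mk_smul, Submodule.Quotient.mk_eq_zero, smul_eq_mul, smul_eq_mul, Ideal.mul_top, hl]
    exact hz
  have h1 := hreg (hzero.trans (smul_zero _).symm)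
  rwa [Submodule.Quotient.mk_eq_zero, smul_eq_mul, Ideal.mul_top, hl] at h1


/-- Let A be a Noetherian local ring and p a prime ideal of A such that the local ring A_p is
Cohen–Macaulay, of dimension s; let t_1, …, t_s be a system of parameters of A_p (elements of its
maximal ideal such that A_p/(t_1, …, t_s) has dimension 0). Then there are elements x_1, …, x_s of p
which form part of a system of parameters of A, in the sense that dim A/(x_1, …, x_s) + s = dim A,
and elements a_1, …, a_s of A outside p, such that for every i the image of x_i in A_p is congruent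
to a_i t_i modulo the ideal (t_1, …, t_{i-1}) A_p. (The published statement asks for the image of
x_i to be congruent to t_i itself; this row allows the factor a_i outside p, which is what the
published proof gives, since it first multiplies each t_i by a unit of A_p to bring it into the
image of A. The published form fails already for s = 1: for A the localization of k[X, Y] at (X, Y),
p = (X) and t_1 = X/Y, the congruence modulo the zero ideal asks for an element of A with image X/Y
in A_p, and there is none.) -/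
theorem result (A : Type u) [CommRing A]
    [IsNoetherianRing A] [IsLocalRing A] (p : Ideal A) [p.IsPrime]
    [LocCoh.IsCohenMacaulayLocalRing (Localization.AtPrime p)] (s : ℕ)
    (hs : ringKrullDim (Localization.AtPrime p) = s) (t : Fin s → Localization.AtPrime p)
    (ht : ∀ i, t i ∈ IsLocalRing.maximalIdeal (Localization.AtPrime p))
    (hsop : ringKrullDim (Localization.AtPrime p ⧸ Ideal.span (Set.range t)) = 0) :
    ∃ x a : Fin s → A, (∀ i, x i ∈ p) ∧ (∀ i, a i ∉ p) ∧
      ringKrullDim (A ⧸ Ideal.span (Set.range x)) + (s : WithBot ℕ∞) = ringKrullDim A ∧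
      ∀ i : Fin s, algebraMap A (Localization.AtPrime p) (x i) -
          algebraMap A (Localization.AtPrime p) (a i) * t i ∈
        Ideal.span (t '' {j : Fin s | j < i}) := by
  classical
  let f := algebraMap A (Localization.AtPrime p)
  have hys : ∀ i, ∃ y a : A, a ∉ p ∧ f y = f a * t i := fun i => by
    obtain ⟨⟨y, a⟩, h⟩ := IsLocalization.surj p.primeCompl (t i)
    exact ⟨y, a, a.2, by rw [mul_comm]; exact h.symm⟩
  choose y a ha hya using hys
  have hy : ∀ i, y i ∈ p := fun i => (IsLocalization.AtPrime.to_map_mem_maximal_iff (Localization.AtPrime p) p (y i)).1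
    (hya i ▸ Ideal.mul_mem_left _ _ (ht i))
  let L : Fin s → Ideal (Localization.AtPrime p) := fun i => Ideal.span (t '' {j | j < i})
  suffices H : ∀ k ≤ s, ∃ x : Fin s → A, (∀ j : Fin s, j.1 < k → x j ∈ p ∧ f (x j) - f (a j) * t j ∈ L j) ∧
      ringKrullDim (A ⧸ Ideal.span (x '' {j | j.1 < k})) + (k : WithBot ℕ∞) = ringKrullDim A by
    obtain ⟨x, hx, hdim⟩ := H s le_rfl
    refine ⟨x, a, fun i => (hx i i.2).1, ha, ?_, fun i => (hx i i.2).2⟩
    have e : x '' {j | j.1 < s} = Set.range x := by ext z; simp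
    rwa [e] at hdim
  intro k
  induction k with
  | zero =>
    refine fun _ => ⟨fun _ => 0, fun j hj => absurd hj (Nat.not_lt_zero _), ?_⟩
    simp only [Nat.not_lt_zero, Set.setOf_false, Set.image_empty, Ideal.span_empty, Nat.cast_zero, add_zero]
    exact ringKrullDim_eq_of_ringEquiv ((Ideal.quotEquivOfEq (by ext; simp)).trans (RingEquiv.quotientBot A))
  | succ k ih =>
    intro hk
    obtain ⟨x, hx, hdim⟩ := ih (Nat.le_of_succ_le hk)
    let i : Fin s := ⟨k, hk⟩
    let I := Ideal.span (x '' {j | j.1 < k})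
    let J := (L i).comap f
    have hIm : I ≤ maximalIdeal A := Ideal.span_le.2 (by
      rintro _ ⟨j, hj, rfl⟩; exact le_maximalIdeal (Ideal.IsPrime.ne_top inferInstance) (hx j hj).1)
    have hIJ : I ≤ J := Ideal.span_le.2 (by
      rintro _ ⟨j, hj, rfl⟩
      have h1 : L j ≤ L i := Ideal.span_mono (Set.image_mono fun (l : Fin s) (hl : l < j) => (lt_trans hl hj : l < i))
      have h2 := (L i).add_mem (h1 (hx j hj).2) ((L i).mul_mem_left (f (a j)) (Ideal.subset_span ⟨j, hj, rfl⟩))
      rwa [sub_add_cancel] at h2)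
    have hJp : J ≤ p := fun z hz => (IsLocalization.AtPrime.to_map_mem_maximal_iff (Localization.AtPrime p) p z).1
      ((Ideal.span_le.2 (by rintro _ ⟨j, -, rfl⟩; exact ht j) : L i ≤ maximalIdeal (Localization.AtPrime p)) hz)
    have hfin := Ideal.finite_minimalPrimes_of_isNoetherianRing A I
    obtain ⟨z, hz, hzq⟩ := exists_coset_avoid hfin.toFinset (fun q hq => (hfin.mem_toFinset.1 hq).1.1) (y i) J
      (fun q hq hyq hJq => by
        have hq := hfin.mem_toFinset.1 hq
        obtain ⟨Q, hQ, hLQ, rfl⟩ := Ideal.exists_comap_eq_of_mem_minimalPrimes f (I := L i) q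
          ⟨⟨hq.1.1, hJq⟩, fun q' hq' hle => hq.2 ⟨hq'.1, hIJ.trans hq'.2⟩ hle⟩
        have hQmin : Q ∈ (L i).minimalPrimes := ⟨⟨hQ, hLQ⟩, fun Q' hQ' hle => by
          haveI := hQ'.1
          have h := hq.2 ⟨Ideal.IsPrime.comap f, hIJ.trans (Ideal.comap_mono hQ'.2)⟩ (Ideal.comap_mono hle)
          rw [← IsLocalization.map_comap p.primeCompl (Localization.AtPrime p) Q, ← IsLocalization.map_comap p.primeCompl (Localization.AtPrime p) Q']
          exact Ideal.map_mono h⟩
        have h1 : f (a i) * t i ∈ Q := hya i ▸ hyq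
        refine notMem_of_minimal (L i) (t i) (mem_initial hs t ht hsop i) hQmin ((hQ.mem_or_mem h1).resolve_left ?_)
        exact fun h => hQ.ne_top (Q.eq_top_of_isUnit_mem h
          (IsLocalization.map_units (Localization.AtPrime p) (⟨a i, ha i⟩ : p.primeCompl))))
    refine ⟨Function.update x i (y i + z), fun j hj => ?_, ?_⟩
    · by_cases hji : j = i
      · subst hji
        refine ⟨by rw [Function.update_self]; exact p.add_mem (hy i) (hJp hz), ?_⟩
        rw [Function.update_self, map_add, hya, add_sub_cancel_left]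
        exact hz
      · rw [Function.update_of_ne hji]
        exact hx j (lt_of_le_of_ne (Nat.lt_succ_iff.1 hj) fun h => hji (Fin.ext h))
    · have himg : Ideal.span (Function.update x i (y i + z) '' {j | j.1 < k + 1}) = I ⊔ Ideal.span {y i + z} := by
        refine le_antisymm (Ideal.span_le.2 ?_) (sup_le (Ideal.span_le.2 ?_) (Ideal.span_le.2 ?_))
        · rintro _ ⟨j, hj, rfl⟩
          by_cases hji : j = i
          · subst hji
            rw [Function.update_self]
            exact Ideal.mem_sup_right (Ideal.mem_span_singleton_self _)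
          · rw [Function.update_of_ne hji]
            exact Ideal.mem_sup_left (Ideal.subset_span ⟨j, lt_of_le_of_ne (Nat.lt_succ_iff.1 hj) fun h => hji (Fin.ext h), rfl⟩)
        · rintro _ ⟨j, hj, rfl⟩
          exact Ideal.subset_span ⟨j, Nat.lt_succ_of_lt hj, Function.update_of_ne (fun h => (lt_irrefl k) (by simpa [h, i] using hj)) _ _⟩
        · rintro _ rfl
          exact Ideal.subset_span ⟨i, Nat.lt_succ_self k, Function.update_self _ _ _⟩
      rw [himg]
      haveI : Nontrivial (A ⧸ I) := Ideal.Quotient.nontrivial_iff.2 fun h => (maximalIdeal.isMaximal A).ne_top (top_le_iff.1 (h ▸ hIm))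
      haveI : IsLocalRing (A ⧸ I) := IsLocalRing.of_surjective' _ Ideal.Quotient.mk_surjective
      have hxm : y i + z ∈ maximalIdeal A := le_maximalIdeal (Ideal.IsPrime.ne_top inferInstance) (p.add_mem (hy i) (hJp hz))
      let e : ((A ⧸ I) ⧸ Ideal.span {Ideal.Quotient.mk I (y i + z)}) ≃+* A ⧸ (I ⊔ Ideal.span {y i + z}) :=
        (Ideal.quotientEquiv _ _ (RingEquiv.refl _) (by simp [Ideal.map_span])).trans (DoubleQuot.quotQuotEquivQuotSup I (Ideal.span {y i + z}))
      rw [← ringKrullDim_eq_of_ringEquiv e]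
      set r := Ideal.Quotient.mk I (y i + z)
      have hrm : r ∈ maximalIdeal (A ⧸ I) := (IsLocalRing.eq_maximalIdeal (Ideal.map_eq_top_or_isMaximal_of_surjective _ Ideal.Quotient.mk_surjective (maximalIdeal.isMaximal A) |>.resolve_left (fun h => (maximalIdeal.isMaximal A).ne_top (by rw [← sup_eq_left.2 hIm, ← Ideal.mk_ker (I := I), RingHom.ker_eq_comap_bot, ← Ideal.comap_map_of_surjective _ Ideal.Quotient.mk_surjective, h, Ideal.comap_top]))) ▸ Ideal.mem_map_of_mem _ hxm)
      have hle : ringKrullDim ((A ⧸ I) ⧸ Ideal.span {r}) + 1 ≤ ringKrullDim (A ⧸ I) :=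
        Groth.MiscGeom.SopAvoid.ringKrullDim_quotient_succ_le hrm fun P hP hrP => hzq (P.comap (Ideal.Quotient.mk I))
          (hfin.mem_toFinset.2 (by rw [Ideal.minimalPrimes_eq_comap]; exact ⟨P, hP, rfl⟩)) hrP
      have hge : ringKrullDim (A ⧸ I) ≤ ringKrullDim ((A ⧸ I) ⧸ Ideal.span {r}) + 1 := by
        have := ringKrullDim_le_ringKrullDim_quotient_add_encard ({r} : Set (A ⧸ I)) (by
          rw [Set.singleton_subset_iff, IsLocalRing.ringJacobson_eq_maximalIdeal]; exact hrm)
        simpa using this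
      rw [← hdim, ← le_antisymm hle hge, Nat.cast_succ, add_assoc, add_comm (k : WithBot ℕ∞) 1]

end Groth.Agent.S5987
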