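import Groth.Statements.S5989
import Mathlib
import Groth.Agent.Ega418Omega.CartierRank
-- import your own Groth.Agent.* helpers here

set_option autoImplicit false
universe u
open scoped TensorProduct
open EGA418

namespace Groth.Agent.S5989

/-- Let k be a field of characteristic p > 0 such that k is finite over its subfield k^p of p-th powers
(the Frobenius endomorphism of k is a finite ring map), C a complete Noetherian local k-algebra
which is an integral domain whose residue field is a finite extension of k, n the dimension of C, L
a fraction field of C and Υ the module of imperfection of L over k (the kernel of L ⊗_k Ω_k ⟶ Ω_L on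
absolute differentials). Then dim_L Ω_{L/k} = n + dim_L Υ, and the module of differentials Ω_{C/k}
is a finitely generated C-module. -/
theorem result (p : ℕ) [Fact p.Prime]
    (k C L : Type u) [Field k] [CharP k p] (hk : (frobenius k p).Finite) [CommRing C] [IsDomain C]
    [IsNoetherianRing C] [IsLocalRing C] [Algebra k C] [IsAdicComplete (IsLocalRing.maximalIdeal C) C]
    [Module.Finite k (IsLocalRing.ResidueField C)] (n : ℕ) (hn : ringKrullDim C = n)
    [Field L] [Algebra C L] [IsFractionRing C L] [Algebra k L] [IsScalarTower k C L] :
    Module.finrank L (Ω[L⁄k]) =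
        n + Module.finrank L (LinearMap.ker (KaehlerDifferential.mapBaseChange ℤ k L)) ∧
      Module.Finite C (Ω[C⁄k]) := by
  obtain ⟨φ, hinj, hfin⟩ := Groth.Ega418Omega.Cartier.exists_normalization k C n hn
  let Q := MvPowerSeries (Fin n) k
  letI : Algebra Q C := φ.toRingHom.toAlgebra
  haveI : Module.Finite Q C := hfin
  haveI : IsScalarTower k Q C := .of_algebraMap_eq fun c => (φ.commutes c).symm
  letI : Algebra Q L := ((algebraMap C L).comp φ.toRingHom).toAlgebra
  haveI : IsScalarTower Q C L := .of_algebraMap_eq fun _ => rfl
  haveI : FaithfulSMul Q L := (faithfulSMul_iff_algebraMap_injective Q L).mpr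
    ((IsFractionRing.injective C L).comp hinj)
  let K := FractionRing Q
  letI : Algebra K L := FractionRing.liftAlgebra Q L
  haveI : IsScalarTower k K L := .of_algebraMap_eq fun c => by
    rw [IsScalarTower.algebraMap_apply k Q K, ← IsScalarTower.algebraMap_apply Q K L,
      IsScalarTower.algebraMap_apply k C L]
    show algebraMap C L (algebraMap k C c) = algebraMap C L (φ (algebraMap k Q c))
    rw [φ.commutes]
  haveI : Module.Finite K L := Groth.Ega418Omega.Cartier.finite_fractionRing Q C L K
  obtain ⟨hfinU, heq⟩ := Groth.Ega418Omega.Cartier.rank_kaehler_eq k K L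
    (Groth.Ega418Omega.Cartier.injective_mapBaseChange (k := k) (K := K) n)
  rw [Groth.Ega418Omega.Cartier.rank_kaehler_eq_of_finite (k := k) (n := n) (K := K) p hk] at heq
  refine ⟨?_, ?_⟩
  · haveI := hfinU
    have h : Module.rank L (Ω[L⁄k]) =
        ((n + Module.finrank L (LinearMap.ker (KaehlerDifferential.mapBaseChange ℤ k L)) : ℕ) : Cardinal.{u}) := by
      rw [heq, ← Module.finrank_eq_rank]; push_cast; rfl
    exact Module.finrank_eq_of_rank_eq h
  · haveI : Module.Finite Q (Ω[Q⁄k]) := ⟨(Groth.Ega418Omega.Cartier.span_D_X_eq_top (k := k) (n := n) p hk) ▸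
      Submodule.fg_span (Set.finite_range _)⟩
    haveI : Module.Finite C (Ω[C⁄Q]) := inferInstance
    exact Module.Finite.of_exact (f := KaehlerDifferential.mapBaseChange k Q C)
      (g := KaehlerDifferential.map k Q C C) (KaehlerDifferential.exact_mapBaseChange_map k Q C) (KaehlerDifferential.map_surjective_of_surjective k Q C C Function.surjective_id)

end Groth.Agent.S5989
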