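import Groth.Statements.S5991
import Groth.Agent.Ega41Adic.CompletionFinite
import Groth.Agent.AdicLinTop.Adic

set_option autoImplicit false
universe u
open scoped TensorProduct
open EGA418

namespace Groth.Agent.S5991

/-- A finite completion is the image of the module. -/
theorem of_surjective_of_finite {B : Type u} [CommRing B] (I : Ideal B) [IsPrecomplete I B] {M : Type u} [AddCommGroup M]
    [Module B M] [Module.Finite B (AdicCompletion I M)] : Function.Surjective (AdicCompletion.of I M) := by
  haveI : Module.Finite B (M ⧸ I ^ 1 • (⊤ : Submodule B M)) :=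
    Module.Finite.of_surjective (AdicCompletion.eval I M 1) fun y => by
      obtain ⟨y, rfl⟩ := Submodule.mkQ_surjective _ y
      exact ⟨AdicCompletion.of I M y, AdicCompletion.eval_of _ _ _ _⟩
  obtain ⟨n, g, hg⟩ := Module.Finite.exists_fin (R := B) (M := M ⧸ I ^ 1 • (⊤ : Submodule B M))
  choose c hc using fun i => Submodule.mkQ_surjective (I ^ 1 • (⊤ : Submodule B M)) (g i)
  have hf : LinearMap.range (Fintype.linearCombination B c) ⊔ I • (⊤ : Submodule B M) = ⊤ := by
    rw [show I • (⊤ : Submodule B M) = I ^ 1 • ⊤ by rw [pow_one], ← Submodule.ker_mkQ (I ^ 1 • (⊤ : Submodule B M)),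
      ← Submodule.comap_map_eq, Fintype.range_linearCombination, Submodule.map_span, ← Set.range_comp,
      show (I ^ 1 • (⊤ : Submodule B M)).mkQ ∘ c = g from funext hc, hg, Submodule.comap_top]
  intro y
  obtain ⟨x, rfl⟩ := Groth.Ega41Adic.surjective_of_comp_of_range_sup_eq_top I _ hf y
  exact ⟨_, rfl⟩

/-- Let k be a field, R and S complete Noetherian local k-algebras such that the module of differentials
of the residue field of S over k is finite-dimensional, and let S be a finite R-algebra through a
k-algebra homomorphism R → S. Write m for the maximal ideal of S and complete m-adically. Then the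
S-module Ω_{S/R} is m-adically complete (it is its own completion), and the sequence of completed
modules (S ⊗_R Ω_{R/k})^ ⟶ (Ω_{S/k})^ ⟶ (Ω_{S/R})^ ⟶ 0, induced by the canonical maps S ⊗_R Ω_{R/k}
⟶ Ω_{S/k} ⟶ Ω_{S/R}, is exact: the second map is surjective and its kernel is the image of the
first. -/
theorem result (k R S : Type u) [Field k] [CommRing R] [IsNoetherianRing R]
    [IsLocalRing R] [Algebra k R] [IsAdicComplete (IsLocalRing.maximalIdeal R) R]
    [CommRing S] [IsNoetherianRing S] [IsLocalRing S] [Algebra k S]
    [IsAdicComplete (IsLocalRing.maximalIdeal S) S] [Algebra R S] [IsScalarTower k R S]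
    [Module.Finite R S] [Module.Finite (IsLocalRing.ResidueField S) (Ω[IsLocalRing.ResidueField S⁄k])] :
    IsAdicComplete (IsLocalRing.maximalIdeal S) (Ω[S⁄R]) ∧
      Function.Surjective (AdicCompletion.map (IsLocalRing.maximalIdeal S) (KaehlerDifferential.map k R S S)) ∧
      LinearMap.range (AdicCompletion.map (IsLocalRing.maximalIdeal S) (KaehlerDifferential.mapBaseChange k R S)) =
        LinearMap.ker (AdicCompletion.map (IsLocalRing.maximalIdeal S) (KaehlerDifferential.map k R S S)) := by
  let m := IsLocalRing.maximalIdeal S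
  haveI : Module.Finite R S := inferInstance
  haveI : Module.Finite S (Ω[S⁄R]) := inferInstance
  haveI hc : IsAdicComplete m (Ω[S⁄R]) := Groth.AdicLinTop.Adic.isAdicComplete_of_finite
  haveI : Module.Finite S m.Cotangent := Module.Finite.of_surjective _ m.toCotangent_surjective
  haveI : Module.Finite (S ⧸ m) m.Cotangent := Module.Finite.of_restrictScalars_finite S _ _
  haveI : Module.Finite (S ⧸ m) (Ω[S ⧸ m⁄k]) :=
    ‹Module.Finite (IsLocalRing.ResidueField S) (Ω[IsLocalRing.ResidueField S⁄k])›
  haveI : Module.Finite S (AdicCompletion m (Ω[S⁄k])) := Groth.Ega41Adic.finite_adicCompletion_kaehler m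
  have hof : Function.Surjective (AdicCompletion.of m (Ω[S⁄k])) := of_surjective_of_finite m
  have hsurj : Function.Surjective (AdicCompletion.map m (KaehlerDifferential.map k R S S)) :=
    AdicCompletion.map_surjective _ (KaehlerDifferential.map_surjective k R S)
  refine ⟨hc, hsurj, le_antisymm ?_ fun x hx => ?_⟩
  · rintro _ ⟨z, rfl⟩
    rw [LinearMap.mem_ker, ← LinearMap.comp_apply, AdicCompletion.map_comp,
      show (KaehlerDifferential.map k R S S).comp (KaehlerDifferential.mapBaseChange k R S) = 0 from
        LinearMap.ext fun y => (KaehlerDifferential.exact_mapBaseChange_map k R S).apply_apply_eq_zero y,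
      AdicCompletion.map_zero, LinearMap.zero_apply]
  · obtain ⟨y, rfl⟩ := hof x
    rw [LinearMap.mem_ker, AdicCompletion.map_of] at hx
    have h0 : KaehlerDifferential.map k R S S y = 0 := by
      refine (AdicCompletion.ofLinearEquiv m (Ω[S⁄R])).injective ?_
      rw [map_zero]
      exact hx
    obtain ⟨z, hz⟩ := (KaehlerDifferential.exact_mapBaseChange_map k R S y).mp h0
    exact ⟨AdicCompletion.of m _ z, by rw [AdicCompletion.map_of, hz]⟩

end Groth.Agent.S5991
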