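import Groth.Statements.S5992
import Mathlib
import Groth.Agent.S5054
import Groth.Agent.S4523
import Groth.Agent.S5061
import Groth.Agent.S5989
import Groth.Agent.Ega418Omega.InsepRed
-- import your own Groth.Agent.* helpers here

set_option autoImplicit false
universe u
open scoped TensorProduct
open EGA418

namespace Groth.Agent.S5992

section Helpers

open Groth.Ega418Omega IsLocalRing

private theorem finite_frobenius {k k' : Type u} [Field k] [Field k'] [Algebra k k'] (p : ℕ) [ExpChar k p]
    [ExpChar k' p] [Module.Finite k k'] (hk : (frobenius k p).Finite) : (frobenius k' p).Finite := by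
  have h : ((frobenius k' p).comp (algebraMap k k')).Finite := by
    rw [show (frobenius k' p).comp (algebraMap k k') = (algebraMap k k').comp (frobenius k p) from
      RingHom.ext fun x => by simp [frobenius_def]]
    exact (RingHom.finite_algebraMap.2 inferInstance).comp hk
  exact RingHom.Finite.of_comp_finite h

/-- The data attached to a purely inseparable extension. -/
private theorem props {k k' A : Type u} [Field k] [Field k'] [Algebra k k'] [Module.Finite k k']
    [IsPurelyInseparable k k'] (p : ℕ) [ExpChar k p] [CommRing A] [IsDomain A] [IsNoetherianRing A]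
    [IsLocalRing A] [Algebra k A] [IsAdicComplete (maximalIdeal A) A] [Module.Finite k (ResidueField A)]
    [Algebra A ((k' ⊗[k] A) ⧸ nilradical (k' ⊗[k] A))]
    (hA : ∀ a, algebraMap A ((k' ⊗[k] A) ⧸ nilradical (k' ⊗[k] A)) a = Ideal.Quotient.mk _ ((1 : k') ⊗ₜ[k] a))
    [IsLocalRing ((k' ⊗[k] A) ⧸ nilradical (k' ⊗[k] A))] :
    IsNoetherianRing ((k' ⊗[k] A) ⧸ nilradical (k' ⊗[k] A)) ∧
      IsAdicComplete (maximalIdeal ((k' ⊗[k] A) ⧸ nilradical (k' ⊗[k] A))) ((k' ⊗[k] A) ⧸ nilradical (k' ⊗[k] A)) ∧
      Module.Finite k' (ResidueField ((k' ⊗[k] A) ⧸ nilradical (k' ⊗[k] A))) ∧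
      ringKrullDim ((k' ⊗[k] A) ⧸ nilradical (k' ⊗[k] A)) = ringKrullDim A ∧
      Function.Injective (algebraMap A ((k' ⊗[k] A) ⧸ nilradical (k' ⊗[k] A))) := by
  set A' := (k' ⊗[k] A) ⧸ nilradical (k' ⊗[k] A)
  haveI : IsScalarTower k A A' := .of_algebraMap_eq fun c => by
    rw [hA, IsScalarTower.algebraMap_apply k (k' ⊗[k] A) A']
    show Ideal.Quotient.mk _ _ = _
    rw [← Algebra.TensorProduct.includeRight_apply (R := k) (A := k'), AlgHom.commutes]
  have hinj : Function.Injective (algebraMap A A') := by
    rw [injective_iff_map_eq_zero]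
    intro a ha
    rw [hA, Ideal.Quotient.eq_zero_iff_mem, mem_nilradical] at ha
    obtain ⟨N, hN⟩ := ha
    rw [Algebra.TensorProduct.tmul_pow, one_pow] at hN
    exact eq_zero_of_pow_eq_zero (Algebra.TensorProduct.includeRight_injective (R := k) (A := k') (B := A)
      (RingHom.injective _) (hN.trans (map_zero (Algebra.TensorProduct.includeRight : A →ₐ[k] k' ⊗[k] A)).symm))
  haveI : Module.Finite A A' := by
    classical
    obtain ⟨r, b, hb⟩ := Module.Finite.exists_fin (R := k) (M := k')
    refine Module.Finite.of_fg_top ⟨Finset.univ.image fun l => Ideal.Quotient.mk (nilradical (k' ⊗[k] A)) (b l ⊗ₜ[k] (1 : A)), ?_⟩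
    rw [Finset.coe_image, Finset.coe_univ, Set.image_univ, eq_top_iff]
    intro z _
    obtain ⟨y, rfl⟩ := Ideal.Quotient.mk_surjective z
    induction y using TensorProduct.induction_on with
    | zero => rw [map_zero]; exact zero_mem _
    | add x y hx hy => rw [map_add]; exact add_mem (hx trivial) (hy trivial)
    | tmul c a =>
      obtain ⟨e, rfl⟩ := (Submodule.mem_span_range_iff_exists_fun k).1 (hb.ge trivial : c ∈ _)
      rw [TensorProduct.sum_tmul, map_sum]
      refine Submodule.sum_mem _ fun l _ => ?_
      rw [TensorProduct.smul_tmul, show b l ⊗ₜ[k] (e l • a) = ((1 : k') ⊗ₜ[k] (e l • a)) * (b l ⊗ₜ 1) by simp,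
        map_mul, ← hA, ← Algebra.smul_def]
      exact Submodule.smul_mem _ _ (Submodule.subset_span ⟨l, rfl⟩)
  have hnoeth : IsNoetherianRing A' := isNoetherian_of_tower A (inferInstance : IsNoetherian A A')
  haveI : IsLocalHom (algebraMap A A') := RingHom.IsIntegral.isLocalHom
    (fun x => Algebra.IsIntegral.isIntegral x) hinj
  obtain ⟨hc, hf⟩ := InsepRed.finite_extension_complete (k := k) (A := A) (B := A')
  haveI := hf
  haveI : IsScalarTower k k' (ResidueField A') := .of_algebraMap_eq fun c => by
    show residue A' (algebraMap k A' c) = residue A' (algebraMap k' A' (algebraMap k k' c))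
    rw [← IsScalarTower.algebraMap_apply k k' A']
  exact ⟨hnoeth, hc, Module.Finite.of_restrictScalars_finite k k' _,
    Groth.Calg8.ringKrullDim_eq_of_integral A A' hinj, hinj⟩

private theorem isFractionRing_bot (B : Type u) [CommRing B] [IsDomain B] :
    IsFractionRing B (Localization.AtPrime (⊥ : Ideal B)) := by
  have h : (⊥ : Ideal B).primeCompl = nonZeroDivisors B := by
    ext x
    simp [Ideal.primeCompl, mem_nonZeroDivisors_iff_ne_zero]
  show IsLocalization (nonZeroDivisors B) _
  rw [← h]
  infer_instance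

end Helpers



/-- Let k be a field of characteristic exponent p such that k is finite over its subfield k^p (the
Frobenius endomorphism of k is a finite ring map), and A a complete Noetherian local k-algebra which
is an integral domain, not a field, whose residue field is a finite extension of k; let n = dim A.
Then there is a finite purely inseparable extension k' of k such that, A' denoting the reduction of
k' ⊗_k A modulo its nilradical, A' is a local domain and there is a local k'-algebra homomorphism
from the power series ring k'[[T_1, …, T_n]] to A' which is injective, makes A' a finite algebra,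
and is unramified at the zero ideal of A' (so the fraction field of A' is a finite separable
extension of that of k'[[T_1, …, T_n]]). -/
theorem result (p : ℕ) (k A : Type u) [Field k]
    [ExpChar k p] (hk : (frobenius k p).Finite) [CommRing A] [IsDomain A] [IsNoetherianRing A] [IsLocalRing A]
    [Algebra k A] [IsAdicComplete (IsLocalRing.maximalIdeal A) A]
    [Module.Finite k (IsLocalRing.ResidueField A)] (hA : ¬ IsField A) (n : ℕ) (hn : ringKrullDim A = n) :
    ∃ (k' : Type u) (_ : Field k') (_ : Algebra k k'), Module.Finite k k' ∧ IsPurelyInseparable k k' ∧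
      ∃ (_ : IsDomain ((k' ⊗[k] A) ⧸ nilradical (k' ⊗[k] A)))
        (_ : IsLocalRing ((k' ⊗[k] A) ⧸ nilradical (k' ⊗[k] A)))
        (_ : Algebra (MvPowerSeries (Fin n) k') ((k' ⊗[k] A) ⧸ nilradical (k' ⊗[k] A)))
        (_ : IsScalarTower k' (MvPowerSeries (Fin n) k') ((k' ⊗[k] A) ⧸ nilradical (k' ⊗[k] A))),
        IsLocalHom (algebraMap (MvPowerSeries (Fin n) k') ((k' ⊗[k] A) ⧸ nilradical (k' ⊗[k] A))) ∧
        Function.Injective (algebraMap (MvPowerSeries (Fin n) k') ((k' ⊗[k] A) ⧸ nilradical (k' ⊗[k] A))) ∧
        Module.Finite (MvPowerSeries (Fin n) k') ((k' ⊗[k] A) ⧸ nilradical (k' ⊗[k] A)) ∧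
        Algebra.IsUnramifiedAt (MvPowerSeries (Fin n) k') (⊥ : Ideal ((k' ⊗[k] A) ⧸ nilradical (k' ⊗[k] A))) := by
  classical
  have hbot : (⊥ : Ideal A) ≠ IsLocalRing.maximalIdeal A := fun h => hA
    (IsLocalRing.isField_iff_maximalIdeal_eq.2 h.symm)
  cases ‹ExpChar k p› with
  | zero =>
    letI : Algebra A ((k ⊗[k] A) ⧸ nilradical (k ⊗[k] A)) :=
      RingHom.toAlgebra (R := A) (S := (k ⊗[k] A) ⧸ nilradical (k ⊗[k] A))
        ((Ideal.Quotient.mk (nilradical (k ⊗[k] A))).comp
          (Algebra.TensorProduct.includeRight : A →ₐ[k] k ⊗[k] A).toRingHom)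
    haveI hdom := Groth.Ega418Omega.InsepRed.isDomain_quotient_nilradical k k A 1
    haveI := Groth.Ega418Omega.InsepRed.isLocalRing_tensor k k A 1
    haveI hloc : IsLocalRing ((k ⊗[k] A) ⧸ nilradical (k ⊗[k] A)) :=
      IsLocalRing.of_surjective' _ Ideal.Quotient.mk_surjective
    obtain ⟨hnoeth, hc, hres, hdim, -⟩ := props (k := k) (k' := k) (A := A) 1 fun _ => rfl
    set A' := (k ⊗[k] A) ⧸ nilradical (k ⊗[k] A)
    letI : CommRing A' := Ideal.Quotient.commRing _
    haveI := hnoeth; haveI := hc; haveI := hres
    obtain ⟨φ, hinj, hfin⟩ := Groth.Ega418Omega.Cartier.exists_normalization k A' n (hdim.trans hn)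
    let Q := MvPowerSeries (Fin n) k
    letI : Algebra Q A' := φ.toRingHom.toAlgebra
    haveI : IsScalarTower k Q A' := .of_algebraMap_eq fun c => (φ.commutes c).symm
    haveI : Module.Finite Q A' := hfin
    refine ⟨k, inferInstance, inferInstance, inferInstance, inferInstance, hdom, hloc, inferInstance,
      inferInstance, RingHom.IsIntegral.isLocalHom (fun x => Algebra.IsIntegral.isIntegral x) hinj, hinj,
      inferInstance, ?_⟩
    let L := Localization.AtPrime (⊥ : Ideal A')
    haveI := isFractionRing_bot A'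
    letI : Field L := IsFractionRing.toField A'
    haveI : FaithfulSMul Q L := (faithfulSMul_iff_algebraMap_injective Q L).mpr (by
      rw [IsScalarTower.algebraMap_eq Q A' L]
      exact (IsFractionRing.injective A' L).comp hinj)
    let K₀ := FractionRing Q
    letI : Algebra K₀ L := FractionRing.liftAlgebra Q L
    haveI : Module.Finite K₀ L := Groth.Ega418Omega.Cartier.finite_fractionRing Q A' L K₀
    haveI : CharZero k := inferInstance
    haveI : CharZero K₀ := charZero_of_injective_algebraMap (algebraMap k K₀).injective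
    haveI : Algebra.IsSeparable K₀ L := inferInstance
    haveI : Algebra.FormallyUnramified K₀ L := (Algebra.FormallyUnramified.iff_isSeparable K₀ L).2 inferInstance
    haveI : Algebra.FormallyUnramified Q K₀ := Algebra.FormallyUnramified.of_isLocalization (nonZeroDivisors Q)
    exact Algebra.FormallyUnramified.comp Q K₀ L
  | prime hprime =>
    haveI := Fact.mk hprime
    obtain ⟨φ, hinj, hfin⟩ := Groth.Ega418Omega.Cartier.exists_normalization k A n hn
    let Q := MvPowerSeries (Fin n) k
    letI : Algebra Q A := φ.toRingHom.toAlgebra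
    haveI : Module.Finite Q A := hfin
    let K := FractionRing A
    haveI : IsScalarTower Q A K := inferInstance
    haveI : IsScalarTower k Q A := .of_algebraMap_eq fun c => (φ.commutes c).symm
    haveI : IsScalarTower k Q K := .of_algebraMap_eq fun c => by
      rw [IsScalarTower.algebraMap_apply Q A K, ← IsScalarTower.algebraMap_apply k Q A,
        ← IsScalarTower.algebraMap_apply]
    haveI : FaithfulSMul Q K := (faithfulSMul_iff_algebraMap_injective Q K).mpr
      (by
        rw [IsScalarTower.algebraMap_eq Q A K]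
        exact (IsFractionRing.injective A K).comp hinj)
    letI : Algebra k (PerfectClosure k p) := (PerfectClosure.of k p).toAlgebra
    haveI : IsPRadical (algebraMap k (PerfectClosure k p)) p := inferInstanceAs (IsPRadical (PerfectClosure.of k p) p)
    haveI : IsPurelyInseparable k (PerfectClosure k p) := IsPRadical.isPurelyInseparable k (PerfectClosure k p) p
    haveI : Algebra.IsAlgebraic k (PerfectClosure k p) := inferInstance
    have hArt : IsArtinianRing (K ⊗[k] PerfectClosure k p) :=
      Groth.Ega418Omega.InsepRed.isArtinianRing_tensor (n := n) (PerfectClosure k p) K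
        (fun K₀ _ _ _ _ _ => Groth.Ega418Omega.Cartier.finite_fractionRing Q A K K₀)
    obtain ⟨k', _, _, hfk', hpi, hgeom⟩ := (Groth.Agent.S5061.result p k K (PerfectClosure k p)).1 hArt
    haveI := hfk'; haveI := hpi
    haveI : CharP k' p := charP_of_injective_algebraMap (algebraMap k k').injective p
    letI : Algebra A ((k' ⊗[k] A) ⧸ nilradical (k' ⊗[k] A)) :=
      RingHom.toAlgebra (R := A) (S := (k' ⊗[k] A) ⧸ nilradical (k' ⊗[k] A))
        ((Ideal.Quotient.mk (nilradical (k' ⊗[k] A))).comp
          (Algebra.TensorProduct.includeRight : A →ₐ[k] k' ⊗[k] A).toRingHom)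
    haveI hdom := Groth.Ega418Omega.InsepRed.isDomain_quotient_nilradical k k' A p
    haveI := Groth.Ega418Omega.InsepRed.isLocalRing_tensor k k' A p
    haveI hloc : IsLocalRing ((k' ⊗[k] A) ⧸ nilradical (k' ⊗[k] A)) :=
      IsLocalRing.of_surjective' _ Ideal.Quotient.mk_surjective
    obtain ⟨hnoeth, hc, hres, hdim, hAinj⟩ := props (k := k) (k' := k') (A := A) p fun _ => rfl
    set A' := (k' ⊗[k] A) ⧸ nilradical (k' ⊗[k] A)
    letI : CommRing A' := Ideal.Quotient.commRing _
    haveI := hnoeth; haveI := hc; haveI := hres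
    -- the fraction field is geometrically reduced
    haveI := Groth.Ega418Omega.InsepRed.isDomain_quotient_nilradical k k' K p
    letI : CommRing ((k' ⊗[k] K) ⧸ nilradical (k' ⊗[k] K)) := Ideal.Quotient.commRing _
    have hfield : IsField ((k' ⊗[k] K) ⧸ nilradical (k' ⊗[k] K)) := by
      refine ⟨exists_pair_ne _, mul_comm, fun {a} ha => ?_⟩
      obtain ⟨z, rfl⟩ := Ideal.Quotient.mk_surjective a
      obtain ⟨m, c, hmc⟩ := Groth.Ega418Omega.InsepRed.pow_mem k k' K p z
      have hu : IsUnit z := by
        rw [Groth.Ega418Omega.InsepRed.isUnit_iff k k' K p z m c hmc, isUnit_iff_ne_zero]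
        rintro rfl
        exact ha (Ideal.Quotient.eq_zero_iff_mem.2 (mem_nilradical.2 ⟨p ^ m, by rw [hmc, TensorProduct.tmul_zero]⟩))
      exact (hu.map (Ideal.Quotient.mk _)).exists_right_inv
    letI := hfield.toField
    let f₀ : k' ⊗[k] A →ₐ[k'] k' ⊗[k] K := Algebra.TensorProduct.map (AlgHom.id k' k') (IsScalarTower.toAlgHom k A K)
    have hf₀ : Function.Injective f₀ := Module.Flat.lTensor_preserves_injective_linearMap
      (IsScalarTower.toAlgHom k A K).toLinearMap (IsFractionRing.injective A K)
    have hf₀nil : nilradical (k' ⊗[k] A) ≤ (nilradical (k' ⊗[k] K)).comap f₀ := fun x hx => by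
      obtain ⟨N, hN⟩ := mem_nilradical.1 hx
      exact mem_nilradical.2 ⟨N, by rw [← map_pow, hN, map_zero]⟩
    let f₁ : A' →ₐ[k'] (k' ⊗[k] K) ⧸ nilradical (k' ⊗[k] K) := Ideal.quotientMapₐ _ f₀ hf₀nil
    have hf₁ : Function.Injective f₁ := Ideal.quotientMap_injective' (H := hf₀nil) fun x hx => by
      obtain ⟨N, hN⟩ := mem_nilradical.1 (Ideal.mem_comap.1 hx)
      exact mem_nilradical.2 ⟨N, hf₀ (by rw [map_pow, map_zero]; exact hN)⟩
    let L := FractionRing A'
    let g : L →ₐ[k'] (k' ⊗[k] K) ⧸ nilradical (k' ⊗[k] K) := IsFractionRing.liftAlgHom hf₁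
    haveI := hgeom
    haveI : Algebra.IsGeometricallyReduced k' L := Algebra.IsGeometricallyReduced.of_injective g g.toRingHom.injective
    obtain ⟨hiff, -⟩ := Groth.Agent.S4523.result (k := k') (K := L)
    have hgr : Algebra.IsGeometricallyReduced k' L := inferInstance
    have hU' := hiff.1 hgr
    unfold EGA41.imperfection at hU'
    have hdimA' : ringKrullDim A' = n := hdim.trans hn
    obtain ⟨hrank, -⟩ := Groth.Agent.S5989.result p k' A' L (finite_frobenius p hk) n hdimA'
    rw [hU', finrank_bot, add_zero] at hrank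
    have hpos : 0 < n := by
      rcases Nat.eq_zero_or_pos n with h0 | hpos
      · exfalso
        haveI : Ring.KrullDimLE 0 A := Ring.krullDimLE_iff.2 (le_of_eq (by rw [hn, h0]))
        exact hA (Ring.KrullDimLE.isField_of_isDomain)
      · exact hpos
    have hΩfin : Module.Finite L (Ω[L⁄k']) := Module.finite_of_finrank_pos (hrank ▸ hpos)
    obtain ⟨s, hs⟩ := Groth.Ega418Omega.InsepRed.exists_gen hΩfin hrank
    have hp' : (⊥ : Ideal A') ≠ IsLocalRing.maximalIdeal A' := fun h => by
      have h1 := ringKrullDim_eq_zero_of_isField (IsLocalRing.isField_iff_maximalIdeal_eq.2 h.symm)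
      rw [hdimA'] at h1
      norm_cast at h1
      omega
    obtain ⟨a, b, hlocal, hfinite, hun⟩ := (Groth.Agent.S5054.result k' A' ⊥ hp'
      ⟨⊥, by
        rw [IsDomain.minimalPrimes_eq_singleton_bot]
        exact ⟨rfl, le_rfl, ringKrullDim_eq_of_ringEquiv (RingEquiv.quotientBot A')⟩⟩ n).1
      (Groth.Ega418Omega.exists_span_localized_iff.mpr ⟨s, hs⟩)
    exact ⟨k', inferInstance, inferInstance, hfk', hpi, hdom, hloc, a, b, hlocal,
      Groth.Ega418Omega.InsepRed.injective_algebraMap hdimA', hfinite, hun⟩

end Groth.Agent.S5992
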