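import Groth.Statements.S9405
import Mathlib
import Groth.Agent.Hensel1.Finite
import Groth.Agent.Hensel1.Local
import Groth.Agent.AdicLinTop.Adic

set_option autoImplicit false
universe u
open CAlg

namespace Groth.Agent.S9405


theorem isAdicComplete_of_pow_le {A : Type*} [CommRing A] {I J : Ideal A} {M : Type*}
    [AddCommGroup M] [Module A M] (hJI : J ≤ I) (N : ℕ) (hN : 1 ≤ N) (hIJ : I ^ N ≤ J)
    [IsAdicComplete J M] : IsAdicComplete I M := by
  have h1 : ∀ n, (I ^ (N * n) • ⊤ : Submodule A M) ≤ J ^ n • ⊤ := fun n =>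
    Submodule.smul_mono_left (by rw [pow_mul]; exact Ideal.pow_right_mono hIJ n)
  have h2 : ∀ n, (J ^ n • ⊤ : Submodule A M) ≤ I ^ n • ⊤ := fun n =>
    Submodule.smul_mono_left (Ideal.pow_right_mono hJI n)
  refine { haus' := fun x hx => IsHausdorff.haus (I := J) inferInstance x fun n =>
             SModEq.mono (h1 n) (hx (N * n)), prec' := fun f hf => ?_ }
  obtain ⟨L, hL⟩ := IsPrecomplete.prec (I := J) (M := M) inferInstance (f := fun n => f (N * n))
    fun {a b} hab => SModEq.mono (h1 a) (hf (Nat.mul_le_mul_left N hab))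
  exact ⟨L, fun n => (hf (Nat.le_mul_of_pos_left n (by omega))).trans (SModEq.mono (h2 n) (hL n))⟩

/-- A module-finite algebra S over a complete Noetherian local ring R is a finite product of complete
Noetherian local rings; precisely, S has finitely many maximal ideals, S maps bijectively onto the
product of its localizations at them, and each of these localizations is Noetherian and complete for
its maximal ideal. -/
theorem result (R : Type u) [CommRing R]
    [IsLocalRing R] [IsNoetherianRing R] [IsAdicComplete (IsLocalRing.maximalIdeal R) R]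
    (S : Type u) [CommRing S] [Algebra R S] [Module.Finite R S] :
    Finite (MaximalSpectrum S) ∧
      Function.Bijective
        (algebraMap S ((m : MaximalSpectrum S) → Localization.AtPrime m.asIdeal)) ∧
      ∀ m : MaximalSpectrum S, IsNoetherianRing (Localization.AtPrime m.asIdeal) ∧
        IsAdicComplete (IsLocalRing.maximalIdeal (Localization.AtPrime m.asIdeal))
          (Localization.AtPrime m.asIdeal) := by
  classical
  have : HenselianLocalRing R := Groth.Hensel1.henselianLocalRing_of_henselianRing
  obtain ⟨ι, _, e, he, hloc⟩ := Groth.Hensel1.exists_completeOrthogonalIdempotents_local R S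
  have hex : ∀ m : MaximalSpectrum S, ∃ i, e i ∉ m.asIdeal := fun m => by
    by_contra! h
    apply m.isMaximal.ne_top
    rw [Ideal.eq_top_iff_one, ← he.complete]
    exact Ideal.sum_mem _ fun i _ => h i
  choose σ hσ using hex
  have hone : ∀ m : MaximalSpectrum S, 1 - e (σ m) ∈ m.asIdeal := fun m =>
    (m.isMaximal.isPrime.mem_or_mem (x := e (σ m)) (y := 1 - e (σ m)) (by
      rw [mul_sub, mul_one, (he.idem _).eq, sub_self]; exact zero_mem _)).resolve_left (hσ m)
  -- the maximal ideal of each local factor
  have huniq : ∀ i (P : Ideal S), P.IsMaximal → 1 - e i ∈ P →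
      P = (IsLocalRing.maximalIdeal (S ⧸ Ideal.span {1 - e i})).comap (Ideal.Quotient.mk _) := by
    intro i P hP hiP
    have hle : Ideal.span {1 - e i} ≤ P := (Ideal.span_singleton_le_iff_mem _).mpr hiP
    have h1 : (P.map (Ideal.Quotient.mk (Ideal.span {1 - e i}))).IsMaximal :=
      Ideal.IsMaximal.map_of_surjective_of_ker_le Ideal.Quotient.mk_surjective
        (by rwa [Ideal.mk_ker])
    rw [← IsLocalRing.eq_maximalIdeal h1, Ideal.comap_map_of_surjective' _
      Ideal.Quotient.mk_surjective, Ideal.mk_ker, sup_eq_left.mpr hle]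
  have hσinj : Function.Injective σ := fun a b hab => MaximalSpectrum.ext (by
    rw [huniq _ _ a.isMaximal (hone a), hab, ← huniq _ _ b.isMaximal (hone b)])
  have hσsurj : Function.Surjective σ := fun i => by
    let P := (IsLocalRing.maximalIdeal (S ⧸ Ideal.span {1 - e i})).comap (Ideal.Quotient.mk _)
    have hP : P.IsMaximal := Ideal.comap_isMaximal_of_surjective _ Ideal.Quotient.mk_surjective
    refine ⟨⟨P, hP⟩, ?_⟩
    by_contra hne
    apply hσ ⟨P, hP⟩
    have h0 : e (σ ⟨P, hP⟩) * e i = 0 := he.ortho hne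
    rw [show e (σ ⟨P, hP⟩) = e (σ ⟨P, hP⟩) * (1 - e i) by rw [mul_sub, mul_one, h0, sub_zero]]
    refine P.mul_mem_left _ ?_
    rw [Ideal.mem_comap, Ideal.Quotient.eq_zero_iff_mem.mpr (Ideal.mem_span_singleton_self _)]
    exact zero_mem _
  have hker : ∀ (m : MaximalSpectrum S) (x : S),
      algebraMap S (Localization.AtPrime m.asIdeal) x = 0 ↔ x ∈ Ideal.span {1 - e (σ m)} := by
    intro m x
    rw [IsLocalization.map_eq_zero_iff m.asIdeal.primeCompl]
    constructor
    · rintro ⟨⟨s, hs⟩, hsx⟩
      rw [← Ideal.Quotient.eq_zero_iff_mem]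
      have hu : IsUnit (Ideal.Quotient.mk (Ideal.span {1 - e (σ m)}) s) := by
        have := hloc (σ m)
        refine IsLocalRing.notMem_maximalIdeal.mp fun h => hs ?_
        rw [huniq _ _ m.isMaximal (hone m)]
        exact h
      rw [← hu.mul_right_eq_zero, ← map_mul]
      exact (congr_arg _ hsx).trans (map_zero _)
    · intro hx
      obtain ⟨a, rfl⟩ := Ideal.mem_span_singleton'.mp hx
      exact ⟨⟨e (σ m), hσ m⟩, by
        linear_combination (-a) * (he.idem (σ m)).eq⟩
  have hsurj : ∀ m : MaximalSpectrum S,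
      Function.Surjective (algebraMap S (Localization.AtPrime m.asIdeal)) := by
    intro m y
    obtain ⟨a, ⟨s, hs⟩, rfl⟩ := IsLocalization.exists_mk'_eq m.asIdeal.primeCompl y
    have hu : IsUnit (Ideal.Quotient.mk (Ideal.span {1 - e (σ m)}) s) := by
      have := hloc (σ m)
      refine IsLocalRing.notMem_maximalIdeal.mp fun h => hs ?_
      rw [huniq _ _ m.isMaximal (hone m)]
      exact h
    obtain ⟨t, ht⟩ := hu.exists_left_inv
    obtain ⟨t, rfl⟩ := Ideal.Quotient.mk_surjective t
    rw [← map_mul, ← map_one (Ideal.Quotient.mk (Ideal.span {1 - e (σ m)})),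
      Ideal.Quotient.eq, ← hker, map_sub, map_one, map_mul, sub_eq_zero] at ht
    refine ⟨a * t, ?_⟩
    rw [IsLocalization.eq_mk'_iff_mul_eq]
    change _ * algebraMap S _ s = _
    rw [map_mul, mul_assoc, ht, mul_one]
  refine ⟨Finite.of_injective σ hσinj, ⟨?_, ?_⟩, fun m => ?_⟩
  · rw [injective_iff_map_eq_zero]
    intro x hx
    refine he.bijective_pi.1 (funext fun i => ?_)
    obtain ⟨m, rfl⟩ := hσsurj i
    have : x ∈ Ideal.span {1 - e (σ m)} := (hker m x).mp (congr_fun hx m)
    rw [map_zero]
    exact Ideal.Quotient.eq_zero_iff_mem.mpr this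
  · intro y
    choose a ha using fun m => hsurj m (y m)
    let τ := Function.surjInv hσsurj
    obtain ⟨x, hx⟩ := he.bijective_pi.2 fun i => Ideal.Quotient.mk _ (a (τ i))
    refine ⟨x, funext fun m => ?_⟩
    have hτ : τ (σ m) = m := hσinj (Function.surjInv_eq hσsurj (σ m))
    have h1 : Ideal.Quotient.mk (Ideal.span {1 - e (σ m)}) x = Ideal.Quotient.mk _ (a m) := by
      have := congr_fun hx (σ m)
      rw [hτ] at this
      exact this
    rw [Ideal.Quotient.eq, ← hker, map_sub, sub_eq_zero] at h1
    exact h1.trans (ha m)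
  · let Q := Localization.AtPrime m.asIdeal
    have : Module.Finite R Q :=
      Module.Finite.of_surjective (IsScalarTower.toAlgHom R S Q).toLinearMap (hsurj m)
    have hQ : IsNoetherianRing Q :=
      isNoetherianRing_of_surjective S Q (algebraMap S Q) (hsurj m)
        (H := IsNoetherianRing.of_finite R S)
    refine ⟨hQ, ?_⟩
    let J := (IsLocalRing.maximalIdeal R).map (algebraMap R Q)
    have : IsAdicComplete J Q := by
      have : IsAdicComplete (IsLocalRing.maximalIdeal R) Q :=
        Groth.AdicLinTop.Adic.isAdicComplete_of_finite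
      exact (IsAdicComplete.map_algebraMap_iff _ Q).mpr this
    have : Algebra.IsIntegral R Q := Algebra.IsIntegral.of_finite R Q
    have hle : J ≤ IsLocalRing.maximalIdeal Q := by
      rw [Ideal.map_le_iff_le_comap]
      exact (IsLocalRing.eq_maximalIdeal
        (Ideal.isMaximal_comap_of_isIntegral_of_isMaximal (IsLocalRing.maximalIdeal Q))).ge
    have : Module.Finite (R ⧸ IsLocalRing.maximalIdeal R) (Q ⧸ J) :=
      Module.Finite.of_restrictScalars_finite R _ _
    have : IsArtinianRing (R ⧸ IsLocalRing.maximalIdeal R) :=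
      inferInstanceAs (IsArtinianRing (IsLocalRing.ResidueField R))
    have : IsArtinianRing (Q ⧸ J) := IsArtinianRing.of_finite (R ⧸ IsLocalRing.maximalIdeal R) _
    obtain ⟨N, hN⟩ := IsArtinianRing.isNilpotent_jacobson_bot (R := Q ⧸ J)
    refine isAdicComplete_of_pow_le hle (N + 1) (by omega) ?_
    refine le_trans (Ideal.pow_le_pow_right N.le_succ) ?_
    have hm : (IsLocalRing.maximalIdeal Q).map (Ideal.Quotient.mk J) ≤ Ideal.jacobson ⊥ :=
      le_sInf fun P hP => by
        rw [Ideal.map_le_iff_le_comap]
        exact (IsLocalRing.eq_maximalIdeal (Ideal.comap_isMaximal_of_surjective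
          (Ideal.Quotient.mk J) Ideal.Quotient.mk_surjective (H := hP.2))).ge
    have h2 := Ideal.pow_right_mono hm N
    rw [← Ideal.map_pow, hN, Ideal.zero_eq_bot, le_bot_iff, Ideal.map_eq_bot_iff_le_ker,
      Ideal.mk_ker] at h2
    exact h2

end Groth.Agent.S9405
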