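import Groth.Statements.S5993
import Groth.Agent.S4740
import Groth.Agent.S9405
import Groth.Agent.Calg4.RegularFlat
import Groth.Agent.ArtfunDeform.PowerSeries
import Mathlib

set_option autoImplicit false
universe u
open scoped TensorProduct
open EGA418

set_option backward.isDefEq.respectTransparency.types false
attribute [local instance] Algebra.TensorProduct.rightAlgebra

namespace Groth.Agent.S5993

/-- Let k be a field, A a complete Noetherian local k-algebra with maximal ideal m whose residue field
is a finite extension of k, k' an extension field of k, I the ideal of A ⊗_k k' generated by m, and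
A' the completed tensor product of A and k' over k, namely the I-adic completion of A ⊗_k k'. Then
A' is a Noetherian ring with finitely many maximal ideals, complete and separated for the ideal
generated by m, and for every maximal ideal M of A' the local ring A'_M is complete, faithfully flat
over A, of the same dimension as A, and has residue field finite over k'. -/
theorem result (k A k' : Type u) [Field k]
    [CommRing A] [IsNoetherianRing A] [IsLocalRing A] [Algebra k A]
    [IsAdicComplete (IsLocalRing.maximalIdeal A) A] [Module.Finite k (IsLocalRing.ResidueField A)]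
    [Field k'] [Algebra k k'] (I : Ideal (A ⊗[k] k'))
    (hI : I = (IsLocalRing.maximalIdeal A).map (algebraMap A (A ⊗[k] k'))) :
    IsNoetherianRing (AdicCompletion I (A ⊗[k] k')) ∧
      Finite (MaximalSpectrum (AdicCompletion I (A ⊗[k] k'))) ∧
      IsAdicComplete ((IsLocalRing.maximalIdeal A).map (algebraMap A (AdicCompletion I (A ⊗[k] k'))))
        (AdicCompletion I (A ⊗[k] k')) ∧
      ∀ M : MaximalSpectrum (AdicCompletion I (A ⊗[k] k')),
        IsAdicComplete (IsLocalRing.maximalIdeal (Localization.AtPrime M.asIdeal))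
            (Localization.AtPrime M.asIdeal) ∧
          Module.FaithfullyFlat A (Localization.AtPrime M.asIdeal) ∧
          ringKrullDim (Localization.AtPrime M.asIdeal) = ringKrullDim A ∧
          (((Ideal.Quotient.mk M.asIdeal).comp (algebraMap (A ⊗[k] k') (AdicCompletion I (A ⊗[k] k')))).comp
              Algebra.TensorProduct.includeRight.toRingHom).Finite := by
  classical
  set mA := IsLocalRing.maximalIdeal A
  have hbot : IsLocalRing.maximalIdeal k' = ⊥ := IsLocalRing.maximalIdeal_eq_bot
  haveI : IsAdicComplete (IsLocalRing.maximalIdeal k') k' := by rw [hbot]; infer_instance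
  have hI' : I = EGA4.cTensorIdeal k A k' := by
    rw [hI, EGA4.cTensorIdeal, hbot, Ideal.map_bot, sup_bot_eq]
    rfl
  subst hI'
  obtain ⟨⟨hN, hfin⟩, ⟨hflatA, -⟩, ⟨hjac, ⟨efib⟩⟩, hres⟩ := Groth.Agent.S4740.result k A k'
  have hIfg : (EGA4.cTensorIdeal k A k').FG := by
    rw [hI]; exact Ideal.FG.map (IsNoetherian.noetherian mA) (algebraMap A (A ⊗[k] k'))
  have hC : IsAdicComplete (mA.map (algebraMap A (EGA4.CTensor k A k'))) (EGA4.CTensor k A k') := by
    have h := AdicCompletion.isAdicComplete (M := A ⊗[k] k') hIfg
    have h2 := (IsAdicComplete.map_algebraMap_iff (S := EGA4.CTensor k A k') (M := EGA4.CTensor k A k')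
      (EGA4.cTensorIdeal k A k')).mpr h
    have e1 : (EGA4.cTensorIdeal k A k').map (algebraMap (A ⊗[k] k') (EGA4.CTensor k A k')) =
        mA.map (algebraMap A (EGA4.CTensor k A k')) :=
      (congrArg (Ideal.map _) hI).trans ((Ideal.map_map _ _).trans
        (congrArg (fun f => mA.map f) (IsScalarTower.algebraMap_eq A (A ⊗[k] k') (EGA4.CTensor k A k')).symm))
    exact e1 ▸ h2
  -- finite over a ring of power series
  obtain ⟨d, a, -, ha, N, hNpow⟩ := Groth.Calg2.CompleteStructure.exists_parameters A
  let φ := Groth.Calg6.evalAdic (k := k) mA a ha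
  let P := MvPowerSeries (Fin d) k
  let Q := MvPowerSeries (Fin d) k'
  letI : Algebra P A := φ.toRingHom.toAlgebra
  haveI : Module.Finite P A := Groth.Ega4Algebra1.finite_evalAdic (k := k) a ha hNpow
  haveI : IsScalarTower k P A := IsScalarTower.of_algebraMap_eq fun c => (φ.commutes c).symm
  have hmem : ∀ i, algebraMap P A (MvPowerSeries.X i) ∈ mA := fun i => by
    show φ (MvPowerSeries.X i) ∈ _
    rw [Groth.Calg6.evalAdic_X]; exact ha i
  obtain ⟨e, -⟩ := Groth.Ega4Algebra1.exists_cTensor_equiv k A k' d hmem
  letI : Algebra Q (EGA4.CTensor k A k') :=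
    (e.symm.toRingHom.comp (algebraMap Q (Q ⊗[P] A))).toAlgebra
  haveI : Module.Finite Q (EGA4.CTensor k A k') :=
    Module.Finite.equiv ({ e.symm with commutes' := fun q => rfl } : Q ⊗[P] A ≃ₐ[Q] EGA4.CTensor k A k').toLinearEquiv
  haveI : IsAdicComplete (IsLocalRing.maximalIdeal Q) Q := Groth.ArtfunDeform.isAdicComplete_ps
  obtain ⟨-, -, hloc⟩ := Groth.Agent.S9405.result Q (EGA4.CTensor k A k')
  refine ⟨hN, Set.finite_univ_iff.mp hfin, hC, fun M => ?_⟩
  obtain ⟨hNL, hcL⟩ := hloc M
  have hMA : mA.map (algebraMap A (EGA4.CTensor k A k')) ≤ M.asIdeal :=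
    hjac.trans (sInf_le ⟨bot_le, M.isMaximal⟩)
  refine ⟨hcL, ?_⟩
  set C := EGA4.CTensor k A k'
  set L := Localization.AtPrime M.asIdeal
  haveI : IsNoetherianRing L := hNL
  haveI : Module.Flat A C := hflatA
  haveI : Module.Flat C L := IsLocalization.flat L M.asIdeal.primeCompl
  haveI : Module.Flat A L := Module.Flat.trans A C L
  haveI hlh : IsLocalHom (algebraMap A L) :=
    ((IsLocalRing.local_hom_TFAE (algebraMap A L)).out 2 0 rfl rfl).mp <| by
      rw [IsScalarTower.algebraMap_eq A C L, ← Ideal.map_map]
      exact (Ideal.map_mono hMA).trans (Localization.AtPrime.map_eq_maximalIdeal (I := M.asIdeal)).le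
  haveI : IsArtinianRing ((A ⧸ mA) ⊗[k] k') := by
    haveI : Module.Finite k' (k' ⊗[k] IsLocalRing.ResidueField A) := inferInstance
    haveI : IsArtinianRing (k' ⊗[k] IsLocalRing.ResidueField A) := IsArtinianRing.of_finite k' _
    exact (Algebra.TensorProduct.comm k k' (IsLocalRing.ResidueField A)).toRingEquiv.surjective.isArtinianRing
  haveI : IsArtinianRing (C ⧸ mA.map (algebraMap A C)) := efib.symm.surjective.isArtinianRing
  have hzero : ∀ p : Ideal L, p.IsPrime → mA.map (algebraMap A L) ≤ p → p = IsLocalRing.maximalIdeal L := by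
    intro p hp hle
    have h1 : mA.map (algebraMap A C) ≤ p.comap (algebraMap C L) := by
      rw [← Ideal.map_le_iff_le_comap, Ideal.map_map, ← IsScalarTower.algebraMap_eq]
      exact hle
    have hp' : (p.comap (algebraMap C L)).IsPrime := hp.comap _
    have h2 : ((p.comap (algebraMap C L)).map (Ideal.Quotient.mk (mA.map (algebraMap A C)))).IsPrime :=
      Ideal.map_isPrime_of_surjective Ideal.Quotient.mk_surjective (by rwa [Ideal.mk_ker])
    have h3 : (p.comap (algebraMap C L)).IsMaximal := by
      haveI := h2
      have h4 := IsArtinianRing.isMaximal_of_isPrime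
        ((p.comap (algebraMap C L)).map (Ideal.Quotient.mk (mA.map (algebraMap A C))))
      have h5 := Ideal.comap_isMaximal_of_surjective (Ideal.Quotient.mk (mA.map (algebraMap A C)))
        Ideal.Quotient.mk_surjective (K := (p.comap (algebraMap C L)).map (Ideal.Quotient.mk (mA.map (algebraMap A C))))
      rwa [Ideal.comap_map_of_surjective' _ Ideal.Quotient.mk_surjective, Ideal.mk_ker,
        sup_eq_left.mpr h1] at h5
    have h6 : p.comap (algebraMap C L) = M.asIdeal := by
      refine h3.eq_of_le M.isMaximal.ne_top ?_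
      refine (Ideal.comap_mono (IsLocalRing.le_maximalIdeal hp.ne_top)).trans ?_
      exact (IsLocalization.AtPrime.comap_maximalIdeal L M.asIdeal).le
    rw [← IsLocalization.map_comap M.asIdeal.primeCompl L p]
    show Ideal.map (algebraMap C L) (p.comap (algebraMap C L)) = _
    rw [h6]
    exact Localization.AtPrime.map_eq_maximalIdeal
  refine ⟨Module.FaithfullyFlat.of_flat_of_isLocalHom, ?_, ?_⟩
  · have hne : mA.map (algebraMap A L) ≠ ⊤ := ne_top_of_le_ne_top
      (IsLocalRing.maximalIdeal.isMaximal L).ne_top
      (((IsLocalRing.local_hom_TFAE (algebraMap A L)).out 0 2 rfl rfl).mp hlh)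
    haveI : Nontrivial (L ⧸ mA.map (algebraMap A L)) := Ideal.Quotient.nontrivial_iff.mpr hne
    haveI : IsLocalRing (L ⧸ mA.map (algebraMap A L)) :=
      IsLocalRing.of_surjective' (Ideal.Quotient.mk _) Ideal.Quotient.mk_surjective
    haveI : Ring.KrullDimLE 0 (L ⧸ mA.map (algebraMap A L)) := Ring.KrullDimLE.mk₀ fun p hp => by
      have hp' := hp
      have h1 : p.comap (Ideal.Quotient.mk (mA.map (algebraMap A L))) = IsLocalRing.maximalIdeal L :=
        hzero _ (hp.comap _) ((Ideal.mk_ker (I := mA.map (algebraMap A L))).ge.trans (Ideal.ker_le_comap _))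
      rw [← Ideal.map_comap_of_surjective _ Ideal.Quotient.mk_surjective p, h1]
      refine (Ideal.map_eq_top_or_isMaximal_of_surjective _ Ideal.Quotient.mk_surjective
        (IsLocalRing.maximalIdeal.isMaximal L)).resolve_left fun h => hp.ne_top ?_
      rw [← Ideal.map_comap_of_surjective _ Ideal.Quotient.mk_surjective p, h1, h]
    rw [Groth.Calg4.ringKrullDim_eq_add_of_flat A L,
      (ringKrullDimZero_iff_ringKrullDim_eq_zero (R := L ⧸ mA.map (algebraMap A L))).mp inferInstance, add_zero]
  · haveI := M.isMaximal
    haveI : Module.Finite k' (C ⧸ M.asIdeal) := hres M.asIdeal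
    exact RingHom.finite_algebraMap.mpr this

end Groth.Agent.S5993
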