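import Groth.Statements.S5995
import Groth.Agent.EtaleBaseTwo.RationalSection
-- import your own Groth.Agent.* helpers here

set_option autoImplicit false
universe u
open CategoryTheory AlgebraicGeometry
open Unram

namespace Groth.Agent.S5995

/-- Let Y be a reduced scheme whose irreducible components form a locally finite family and all of whose
local rings are geometrically unibranch, f : X ⟶ Y a separated, locally of finite type, formally
unramified morphism, and u : U ⟶ X a section of f over a dense open U of Y which cannot be extended: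
whenever v is a section of f over an open V agreeing with u on U ∩ V, V is contained in U (so U is
the domain of definition of the rational section defined by u). Then the image u(U) is an open and
closed subset of X. -/
theorem result {X Y : Scheme.{u}} [IsReduced Y]
    (hcomp : LocallyFinite (fun Z : ↥(irreducibleComponents ↥Y) => (Z : Set ↥Y)))
    (f : X ⟶ Y) [IsSeparated f] [LocallyOfFiniteType f] [FormallyUnramified f]
    (U : Y.Opens) (hU : Dense (U : Set ↥Y)) (u : (U : Scheme.{u}) ⟶ X) (hu : u ≫ f = U.ι)
    (hY : ∀ y : Y, CAlg2.IsGeomUnibranch (Y.presheaf.stalk y))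
    (hmax : ∀ (V : Y.Opens) (v : (V : Scheme.{u}) ⟶ X), v ≫ f = V.ι →
      Y.homOfLE (inf_le_left : U ⊓ V ≤ U) ≫ u = Y.homOfLE (inf_le_right : U ⊓ V ≤ V) ≫ v → V ≤ U) :
    IsOpen (Set.range u) ∧ IsClosed (Set.range u) := by
  have key : ∀ x ∈ closure (Set.range u), ∃ O : Set X, IsOpen O ∧ x ∈ O ∧ O ⊆ Set.range u := by
    intro x hx
    obtain ⟨V, v, hxV, hv, hxv, hopen, hagree⟩ :=
      Groth.EtaleBaseTwo.exists_section_nhd hcomp f U hU u hu x (hY _) hx
    refine ⟨Set.range v, hopen, hxv, ?_⟩
    rintro _ ⟨t, rfl⟩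
    have hle := hmax V v hv hagree
    let s : (U ⊓ V : Y.Opens).toScheme := ⟨t.1, hle t.2, t.2⟩
    refine ⟨Y.homOfLE inf_le_left s, ?_⟩
    show (Y.homOfLE inf_le_left ≫ u) s = v t
    rw [hagree]
    show v (Y.homOfLE inf_le_right s) = v t
    congr 1
    apply Subtype.ext
    show (Y.homOfLE inf_le_right ≫ V.ι) s = t.1
    rw [Scheme.homOfLE_ι]
    rfl
  refine ⟨isOpen_iff_forall_mem_open.mpr fun x hx => ?_, isClosed_of_closure_subset fun x hx => ?_⟩
  · obtain ⟨O, hO, hxO, hsub⟩ := key x (subset_closure hx)
    exact ⟨O, hsub, hO, hxO⟩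
  · obtain ⟨O, -, hxO, hsub⟩ := key x hx
    exact hsub hxO

end Groth.Agent.S5995
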