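import Groth.Statements.S5996
import Groth.Agent.EtaleBaseTwo.RationalSection
-- import your own Groth.Agent.* helpers here

set_option autoImplicit false
universe u
open CategoryTheory AlgebraicGeometry
open Unram

namespace Groth.Agent.S5996

/-- Let Y be a reduced scheme whose irreducible components form a locally finite family, f : X ⟶ Y a
separated, locally of finite type, formally unramified morphism such that f(T) is closed in Y for
every closed irreducible subset T of X, and u : U ⟶ X a section of f over a dense open U of Y. Then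
for every point y of Y whose local ring is geometrically unibranch there are an open V ∋ y and a
section v : V ⟶ X of f agreeing with u on U ∩ V: the rational section defined by u is defined at
every geometrically unibranch point. -/
theorem result {X Y : Scheme.{u}} [IsReduced Y]
    (hcomp : LocallyFinite (fun Z : ↥(irreducibleComponents ↥Y) => (Z : Set ↥Y)))
    (f : X ⟶ Y) [IsSeparated f] [LocallyOfFiniteType f] [FormallyUnramified f]
    (U : Y.Opens) (hU : Dense (U : Set ↥Y)) (u : (U : Scheme.{u}) ⟶ X) (hu : u ≫ f = U.ι)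
    (hcl : ∀ T : Set ↥X, IsClosed T → IsIrreducible T → IsClosed (f '' T))
    (y : Y) (hy : CAlg2.IsGeomUnibranch (Y.presheaf.stalk y)) :
    ∃ (V : Y.Opens) (v : (V : Scheme.{u}) ⟶ X), y ∈ V ∧ v ≫ f = V.ι ∧
      Y.homOfLE (inf_le_left : U ⊓ V ≤ U) ≫ u = Y.homOfLE (inf_le_right : U ⊓ V ≤ V) ≫ v := by
  obtain ⟨W, hyW, -, _⟩ := Groth.EtaleBaseTwo.exists_integral_affine_nhd hcomp y hy
  have : IrreducibleSpace ↥W.toScheme := inferInstance
  have : QuasiSober ↥W.toScheme := inferInstance
  let η : W.toScheme := genericPoint ↥W.toScheme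
  have hηy : η.1 ⤳ y := (genericPoint_specializes (α := ↥W.toScheme) ⟨y, hyW⟩).map W.ι.continuous
  have hηU : η.1 ∈ U := by
    obtain ⟨z, hzW, hzU⟩ := hU.inter_open_nonempty _ W.isOpen ⟨_, hyW⟩
    exact ((genericPoint_specializes (α := ↥W.toScheme) ⟨z, hzW⟩).map W.ι.continuous).mem_open U.isOpen hzU
  let x' : X := u ⟨η.1, hηU⟩
  have hfx' : f x' = η.1 := by
    show (u ≫ f) ⟨η.1, hηU⟩ = η.1
    rw [hu]; rfl
  obtain ⟨x, hx, hxy⟩ := hηy.mem_closed (hcl (closure {x'}) isClosed_closure isIrreducible_singleton.closure)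
    ⟨x', subset_closure (Set.mem_singleton _), hfx'⟩
  subst hxy
  obtain ⟨V, v, h1, h2, -, -, h3⟩ := Groth.EtaleBaseTwo.exists_section_nhd hcomp f U hU u hu x hy
    (closure_mono (Set.singleton_subset_iff.mpr (Set.mem_range_self _)) hx)
  exact ⟨V, v, h1, h2, h3⟩

end Groth.Agent.S5996
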