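import Groth.Statements.S5997
import Groth.Agent.ProjRigid.Basic
import Groth.Agent.Chow.ToPn
import Groth.Agent.RelVA.PnData
import Groth.Agent.PnCoh.OverAffine
import Groth.Agent.PnCoh.GlobalFun
import Groth.Agent.Variety2.ProjBasics
import Groth.Agent.FibreVA.Main
import Groth.Agent.S3573

set_option backward.isDefEq.respectTransparency false
set_option backward.isDefEq.respectTransparency.types false
set_option linter.style.haveILetI false
set_option maxHeartbeats 1000000
open TopologicalSpace

set_option autoImplicit false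
universe u
open SGA1

namespace Groth.Agent.S5997

open AlgebraicGeometry CategoryTheory CategoryTheory.Limits in
theorem app_transport {W X P : Scheme.{u}} (j : W ⟶ X) (ρ : X ⟶ P) (M : P.Modules) {L : X.Modules}
    (τ : (Scheme.Modules.pullback ρ).obj M ≅ L) {N : W.Modules}
    (a : (Scheme.Modules.pullback j).obj L ≅ N) (x : ProjUP.Γm M) :
    ((Scheme.Modules.pullbackComp j ρ).symm.app M ≪≫ (Scheme.Modules.pullback j).mapIso τ ≪≫ a).hom.app ⊤
        (ProjUP.pullSec (j ≫ ρ) M x) =
      a.hom.app ⊤ (ProjUP.pullSec j L (τ.hom.app ⊤ (ProjUP.pullSec ρ M x))) := by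
  simp only [Iso.trans_hom, Scheme.Modules.Hom.comp_app, ConcreteCategory.comp_apply]
  refine congrArg (a.hom.app ⊤) ?_
  have h1 := Groth.PicAux.pullSec_comp j ρ M (U := ⊤) x
  have h2 := Groth.PicAux.pullSec_map (f := j) τ.hom (U := ⊤) (ProjUP.pullSec ρ M x)
  refine Eq.trans ?_ h2
  refine congrArg (((Scheme.Modules.pullback j).map τ.hom).app ⊤) ?_
  refine (congrArg ((((Scheme.Modules.pullbackComp j ρ).symm.app M).hom).app ⊤) h1.symm).trans ?_
  exact congr($(Iso.hom_inv_id_app (Scheme.Modules.pullbackComp j ρ) M).app ⊤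
    (ProjUP.pullSec j _ (ProjUP.pullSec ρ M x)))

open AlgebraicGeometry CategoryTheory CategoryTheory.Limits in
/-- The morphism to projective space of generating sections. -/
theorem exists_to_pn {A : Type u} [CommRing A] {r : ℕ} {X : Scheme.{u}}
    (f : X ⟶ Spec (CommRingCat.of A)) (L : X.Modules) (s : Fin (r + 1) → ProjUP.Γm L)
    (hcov : ⨆ i, Groth.Chow.ToPn.U L s i = ⊤) :
    ∃ (ρ : X ⟶ CohB1.ProjSpace r A)
      (τ : (Scheme.Modules.pullback ρ).obj (Twist.twistProjSpace r A 1) ≅ L),
      ρ ≫ CohB1.ProjSpace.toSpec r A = f ∧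
        ∀ i, τ.hom.app ⊤ (ProjUP.pullSec ρ (Twist.twistProjSpace r A 1) (ProjUP.coord r A i)) = s i := by
  obtain ⟨ρ, hρ⟩ := Groth.Chow.ToPn.exists_r f L s hcov
  obtain ⟨τ, hτ⟩ := Groth.Chow.ToPn.exists_tau hρ hcov
  exact ⟨ρ, τ, Groth.Chow.ToPn.r_toSpec hρ hcov, hτ⟩

open AlgebraicGeometry CategoryTheory CategoryTheory.Limits in
/-- Lifts of the pulled back coordinates generate at the points of the source. -/
theorem mem_iSup_U {A : Type u} [CommRing A] {r : ℕ} {W X : Scheme.{u}} (j : W ⟶ X) (L : X.Modules)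
    (hL : PicF.IsInvertible L) (g : W ⟶ CohB1.ProjSpace r A)
    (a : (Scheme.Modules.pullback j).obj L ≅
      (Scheme.Modules.pullback g).obj (Twist.twistProjSpace r A 1))
    (s : Fin (r + 1) → ProjUP.Γm L)
    (hs : ∀ i, ProjUP.pullSec j L (s i) =
      a.inv.app ⊤ (ProjUP.pullSec g (Twist.twistProjSpace r A 1) (ProjUP.coord r A i))) (z : W) :
    j.base z ∈ ⨆ i, Groth.Chow.ToPn.U L s i := by
  have hM : PicF.IsInvertible (Twist.twistProjSpace r A 1) := Groth.Chow.ToPn.twist_isInvertible
  obtain ⟨i, hi⟩ := Opens.mem_iSup.1 ((Proj.iSup_basicOpen_eq_top (CohB1.polyGrading r A)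
    (fun k : Fin (r + 1) => (MvPolynomial.X k : MvPolynomial (Fin (r + 1)) A))
    (Groth.Chow.ToPn.irrelevant_le_span_X)).ge (Opens.mem_top (g.base z)))
  refine Opens.mem_iSup.2 ⟨i, ?_⟩
  have h1 : z ∈ Groth.PropsBasic.Ample.gloc (L := (Scheme.Modules.pullback j).obj L)
      (a.inv.app ⊤ (ProjUP.pullSec g (Twist.twistProjSpace r A 1) (ProjUP.coord r A i))) := by
    rw [Groth.PropsBasic.Ample.gloc_map]
    erw [Groth.PropsBasic.Ample.gloc_pullSec g hM, Groth.RelVA.gloc_co]
    exact hi
  rw [← hs i] at h1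
  erw [Groth.PropsBasic.Ample.gloc_pullSec j hL] at h1
  exact h1

open AlgebraicGeometry CategoryTheory CategoryTheory.Limits in
/-- Suppose A is a Noetherian local ring, complete for its maximal ideal, whose residue field we call k,
and consider a proper flat A-scheme X such that the closed fibre X ×_A k is isomorphic over k to
P^r_k. Then X is isomorphic over A to P^r_A. (For ordinary schemes the published statement leaves
out flatness, yet the proof relies on it; dropping it, P^r_k regarded as an A-scheme via the closed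
point gives a counterexample as soon as A fails to be a field. This row therefore assumes f is
flat.) -/
theorem result (A : Type u) [CommRing A] [IsLocalRing A]
    [IsNoetherianRing A] [IsAdicComplete (IsLocalRing.maximalIdeal A) A] (r : ℕ) {X : Scheme.{u}}
    (f : X ⟶ Spec (CommRingCat.of A)) [IsProper f] [Flat f]
    (e₀ : pullback f (Spec.map (CommRingCat.ofHom (IsLocalRing.residue A))) ≅
      CohB1.ProjSpace r (IsLocalRing.ResidueField A))
    (he₀ : e₀.hom ≫ CohB1.ProjSpace.toSpec r (IsLocalRing.ResidueField A) = pullback.snd f _) :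
    ∃ e : X ≅ CohB1.ProjSpace r A, e.hom ≫ CohB1.ProjSpace.toSpec r A = f := by
  classical
  obtain ⟨κc, hκc⟩ : ∃ c : CohB1.ProjSpace r (IsLocalRing.ResidueField A) ⟶ CohB1.ProjSpace r A,
      c = Groth.PnCoh.toBasePn r A (IsLocalRing.ResidueField A) := ⟨_, rfl⟩
  have hsq : IsPullback κc (CohB1.ProjSpace.toSpec r (IsLocalRing.ResidueField A))
      (CohB1.ProjSpace.toSpec r A) (Groth.ProjRigid.closedPt A) := by
    rw [hκc]; exact Groth.PnCoh.isPullback_toBasePn r A (IsLocalRing.ResidueField A)
  obtain ⟨eO⟩ : Nonempty ((Scheme.Modules.pullback κc).obj (Twist.twistProjSpace r A 1) ≅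
      Twist.twistProjSpace r (IsLocalRing.ResidueField A) 1) := by
    rw [hκc]; exact Groth.PnCoh.nonempty_pullback_toBasePn_twist r A (IsLocalRing.ResidueField A) 1
  haveI : IsProper (CohB1.ProjSpace.toSpec r A) := Groth.Variety2.isProper_projSpace_toSpec r A
  let M := Twist.twistProjSpace r A 1
  have hM : PicF.IsInvertible M := Groth.Chow.ToPn.twist_isInvertible
  let X₀ := pullback f (Groth.ProjRigid.closedPt A)
  let i₀ : X₀ ⟶ X := pullback.fst f (Groth.ProjRigid.closedPt A)
  -- lift the twisting sheaf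
  have hk2 : Subsingleton (Coh.HH X₀ (Coh.structureModule X₀) 2) :=
    Groth.FormalPic.subsingleton_hh_structure_of_iso e₀.inv 2
      (Groth.PnCoh.subsingleton_HH_structureModule (n := r) (R := IsLocalRing.ResidueField A) two_pos)
  obtain ⟨L, hL, ⟨a₀⟩⟩ := Groth.FormalPic.picPullbackSurjective f hk2
    ((Scheme.Modules.pullback (e₀.hom ≫ κc)).obj M) (Groth.PicAux.isInvertible_pullback _ hM)
  -- the fibre at the closed point
  let t : Spec (CommRingCat.of A) := IsLocalRing.closedPoint A
  obtain ⟨w, hw⟩ := Groth.ProjRigid.exists_factor (K := (Spec (CommRingCat.of A)).residueField t)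
    ((Spec (CommRingCat.of A)).fromSpecResidueField t) fun z => Scheme.fromSpecResidueField_apply _ _
  haveI : IsIso w := by
    obtain ⟨w', hw'⟩ : ∃ w', w' ≫ (Spec (CommRingCat.of A)).fromSpecResidueField t =
        Groth.ProjRigid.closedPt A := by
      have key : ∀ {K : Type u} [Field K] (ζ : Spec (CommRingCat.of K) ⟶ Spec (CommRingCat.of A))
          (s : Spec (CommRingCat.of A)), ζ.base (IsLocalRing.closedPoint K) = s →
          ∃ w', w' ≫ (Spec (CommRingCat.of A)).fromSpecResidueField s = ζ := by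
        intro K _ ζ s h
        subst h
        exact ⟨_, Scheme.descResidueField_stalkClosedPointTo_fromSpecResidueField K _ ζ⟩
      exact key _ t (Groth.ProjRigid.closedPt_apply _)
    refine ⟨w', ?_, ?_⟩
    · rw [← cancel_mono ((Spec (CommRingCat.of A)).fromSpecResidueField t), Category.assoc, hw', hw,
        Category.id_comp]
    · rw [← cancel_mono (Groth.ProjRigid.closedPt A), Category.assoc, hw, hw', Category.id_comp]
  let j := f.fiberι t
  let Xt := f.fiber t
  let u : Xt ⟶ X₀ := pullback.lift j (f.fiberToSpecResidueField t ≫ w) (by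
    rw [Category.assoc, hw]; exact pullback.condition)
  have huj : u ≫ i₀ = j := pullback.lift_fst _ _ _
  haveI : IsIso u := by
    have h1 : IsPullback u (f.fiberToSpecResidueField t) (pullback.snd f (Groth.ProjRigid.closedPt A)) w := by
      refine IsPullback.of_right ?_ (pullback.lift_snd _ _ _) (IsPullback.of_hasPullback f _)
      rw [pullback.lift_fst, hw]
      exact IsPullback.of_hasPullback f _
    exact MorphismProperty.of_isPullback (P := MorphismProperty.isomorphisms Scheme) h1.flip ‹IsIso w›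
  let v : Xt ⟶ CohB1.ProjSpace r (IsLocalRing.ResidueField A) := u ≫ e₀.hom
  haveI : IsIso v := inferInstance
  let r' : Xt ⟶ CohB1.ProjSpace r A := v ≫ κc
  obtain ⟨a⟩ : Nonempty (CohIII.fiberMod f L t ≅ (Scheme.Modules.pullback r').obj M) := ⟨
    (Scheme.Modules.pullbackCongr huj.symm).app L ≪≫
      ((Scheme.Modules.pullbackComp u i₀).app L).symm ≪≫ (Scheme.Modules.pullback u).mapIso a₀ ≪≫
      (Scheme.Modules.pullbackComp u (e₀.hom ≫ κc)).app M ≪≫
      (Scheme.Modules.pullbackCongr (Category.assoc u e₀.hom κc).symm).app M⟩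
  have hH1 : Subsingleton (Coh.HH Xt (CohIII.fiberMod f L t) 1) := by
    refine Groth.ProjRigid.subsingleton_HH_of_iso
      ((Scheme.Modules.pullback v).mapIso eO.symm ≪≫ (Scheme.Modules.pullbackComp v κc).app M ≪≫ a.symm) 1 ?_
    haveI : (Twist.twistProjSpace r (IsLocalRing.ResidueField A) 1).IsQuasicoherent :=
      (Groth.VarietyBC.CurveGG.isCoh_of_isInvertible Groth.Chow.ToPn.twist_isInvertible).1
    exact Groth.ProjRigid.subsingleton_HH_pullback v _ 1
      (Groth.PnCoh.subsingleton_HH_twist 1 1 (fun h => by omega) (fun h => by omega))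
  -- lift the coordinates
  let T : Fin (r + 1) → ProjUP.Γm (CohIII.fiberMod f L t) := fun i =>
    a.inv.app ⊤ (ProjUP.pullSec r' M (ProjUP.coord r A i))
  have hlift : ∀ i, ∃ s : ProjUP.Γm L, ProjUP.pullSec j L s = T i := by
    intro i
    obtain ⟨U, htU, e, s, hs⟩ := Groth.CohBase.exists_section_lift f L
      (Groth.VarietyBC.CurveGG.isCoh_of_isInvertible hL) (Groth.CohBase.isFlatOver_of_isInvertible f hL) t hH1 (T i)
    have hU : U = ⊤ := top_le_iff.1 fun z _ =>
      (IsLocalRing.specializes_closedPoint z).mem_open U.2 htU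
    subst hU
    refine ⟨s, Eq.trans ?_ hs⟩
    exact (Groth.PicAux.res_self _ _).symm
  choose s hs using hlift
  -- the lifts generate
  have hcov : ⨆ i, Groth.Chow.ToPn.U L s i = ⊤ := by
    refine Groth.FormalAlg.opens_eq_top_of_closedFibre (I := IsLocalRing.maximalIdeal A) f _ fun x hx => ?_
    have hxt : f.base x = t := PrimeSpectrum.ext
      ((IsLocalRing.maximalIdeal.isMaximal A).eq_of_le (f.base x).isPrime.ne_top hx).symm
    obtain ⟨z, hz⟩ : x ∈ Set.range j := by rw [Scheme.Hom.range_fiberι]; exact hxt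
    rw [← hz]
    exact mem_iSup_U j L hL r' a s hs z
  obtain ⟨ρ, τ, hρs, hτ⟩ := exists_to_pn f L s hcov
  have he' : v ≫ CohB1.ProjSpace.toSpec r (IsLocalRing.ResidueField A) = f.fiberToSpecResidueField t ≫ w := by
    rw [Category.assoc, he₀, pullback.lift_snd]
  have hjr : j ≫ ρ = r' := by
    refine Groth.Agent.S3573.result r _ _ ?_ ((Scheme.Modules.pullbackComp j ρ).symm.app M ≪≫
      (Scheme.Modules.pullback j).mapIso τ ≪≫ a) fun i => ?_
    · rw [Category.assoc, hρs, Category.assoc, hsq.w, ← Category.assoc v, he', Category.assoc, hw]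
      exact pullback.condition
    · refine (app_transport j ρ M τ a _).trans ?_
      refine (congrArg (fun z => a.hom.app ⊤ (ProjUP.pullSec j L z)) (hτ i)).trans ?_
      refine (congrArg (a.hom.app ⊤) (hs i)).trans ?_
      show a.hom.app ⊤ (a.inv.app ⊤ _) = _
      rw [← ConcreteCategory.comp_apply, ← Scheme.Modules.Hom.comp_app, Iso.inv_hom_id]
      rfl
  have hXt : IsPullback j (v ≫ CohB1.ProjSpace.toSpec r (IsLocalRing.ResidueField A)) f
      (Groth.ProjRigid.closedPt A) := by
    rw [he']
    refine (IsPullback.of_hasPullback f ((Spec (CommRingCat.of A)).fromSpecResidueField t)).of_iso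
      (Iso.refl _) (Iso.refl _) (asIso w) (Iso.refl _) ?_ ?_ ?_ ?_
    · simp [j, Scheme.Hom.fiberι]
    · simp [Scheme.Hom.fiberToSpecResidueField]
    · simp
    · simp [hw]
  have hv : IsPullback j v ρ κc := IsPullback.of_bot (by rw [hρs]; exact hXt) hjr hsq
  haveI : IsProper (ρ ≫ CohB1.ProjSpace.toSpec r A) := by rw [hρs]; infer_instance
  haveI : Flat (ρ ≫ CohB1.ProjSpace.toSpec r A) := by rw [hρs]; infer_instance
  haveI := Groth.ProjRigid.isIso_of_closedFibre ρ (CohB1.ProjSpace.toSpec r A) hsq hv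
  exact ⟨asIso ρ, hρs⟩

end Groth.Agent.S5997
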