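import Groth.Statements.S5998
import Groth.Agent.Pi1Smooth.JacobianAt
import Mathlib.RingTheory.Smooth.Basic

set_option backward.isDefEq.respectTransparency false

set_option autoImplicit false
universe u
open SGA1

namespace Groth.Agent.S5998

open TensorProduct in
/-- Let R be a Noetherian ring, A a smooth R-algebra, I an ideal of A, P a prime ideal of A/I and q its
preimage in A. Then A/I is smooth over R at P (that is, the local ring of A/I at P is formally
smooth over R) exactly when there are finitely many elements g_1, ..., g_p of I generating the ideal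
I·A_q whose differentials dg_i have linearly independent images in κ(q) ⊗_A Ω_{A/R}. -/
theorem result
    (R A : Type u) [CommRing R] [CommRing A] [IsNoetherianRing R] [Algebra R A] [Algebra.Smooth R A]
    (I : Ideal A) (P : Ideal (A ⧸ I)) [P.IsPrime] :
    letI q : Ideal A := P.comap (Ideal.Quotient.mk I)
    Algebra.IsSmoothAt R P ↔ ∃ s : Finset A, (↑s : Set A) ⊆ (I : Set A) ∧
      Ideal.map (algebraMap A (Localization.AtPrime q)) I =
        Ideal.span ((algebraMap A (Localization.AtPrime q)) '' (↑s : Set A)) ∧
      LinearIndependent q.ResidueField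
        (fun g : ↥s => (1 : q.ResidueField) ⊗ₜ[A] KaehlerDifferential.D R A (g : A)) := by
  classical
  haveI : IsNoetherianRing A := Algebra.FiniteType.isNoetherianRing R A
  let q : Ideal A := P.comap (Ideal.Quotient.mk I)
  have hX : Algebra.IsSmoothAt R q := Algebra.FormallySmooth.comp R A (Localization.AtPrime q)
  show Algebra.IsSmoothAt R P ↔ _
  rw [Groth.Pi1Smooth.isSmoothAt_quotient_iff I P hX]
  constructor
  · rintro ⟨m, a, haI, hspan, hind⟩
    have hinj : Function.Injective a := fun i j h =>
      hind.injective (show (1 : q.ResidueField) ⊗ₜ[A] KaehlerDifferential.D R A (a i) = _ by rw [h])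
    refine ⟨Finset.univ.image a, by simpa [Set.range_subset_iff] using haI, ?_, ?_⟩
    · rw [hspan, Finset.coe_image, Finset.coe_univ, Set.image_univ, ← Set.range_comp]
      rfl
    · let e : Fin m ≃ ↥(Finset.univ.image a) := Equiv.ofBijective
        (fun i => ⟨a i, Finset.mem_image_of_mem a (Finset.mem_univ i)⟩)
        ⟨fun i j h => hinj (congrArg Subtype.val h), fun ⟨x, hx⟩ => by
          obtain ⟨i, -, rfl⟩ := Finset.mem_image.mp hx
          exact ⟨i, rfl⟩⟩
      rw [← linearIndependent_equiv e]
      exact hind
  · rintro ⟨s, hsI, hspan, hind⟩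
    refine ⟨s.card, fun i => (s.equivFin.symm i : A), fun i => hsI (s.equivFin.symm i).2, ?_, ?_⟩
    · rw [hspan]
      congr 1
      ext x
      constructor
      · rintro ⟨y, hy, rfl⟩
        exact ⟨s.equivFin ⟨y, hy⟩, by simp [q]⟩
      · rintro ⟨i, rfl⟩
        exact ⟨_, (s.equivFin.symm i).2, rfl⟩
    · exact hind.comp _ s.equivFin.symm.injective

end Groth.Agent.S5998
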