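import Groth.Statements.S5999
import Groth.Agent.Pi1Smooth.JacobianAt

set_option backward.isDefEq.respectTransparency false

set_option autoImplicit false
universe u
open SGA1

namespace Groth.Agent.S5999

open TensorProduct in
/-- Let R be a Noetherian ring, A an R-algebra of finite type, F an element of A, P a prime ideal of
A/(F) and q its preimage in A, and suppose A is smooth over R at q. Then the hypersurface A/(F) is
smooth over R at P if and only if either F is zero in the local ring A_q (F vanishes on a
neighbourhood of q) or the image dF(q) of the differential of F in κ(q) ⊗_A Ω_{A/R} is nonzero. -/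
theorem result
    (R A : Type u) [CommRing R] [CommRing A] [IsNoetherianRing R] [Algebra R A] [Algebra.FiniteType R A]
    (F : A) (P : Ideal (A ⧸ Ideal.span ({F} : Set A))) [P.IsPrime]
    (hX : Algebra.IsSmoothAt R (P.comap (Ideal.Quotient.mk (Ideal.span ({F} : Set A))))) :
    letI q : Ideal A := P.comap (Ideal.Quotient.mk (Ideal.span ({F} : Set A)))
    Algebra.IsSmoothAt R P ↔ algebraMap A (Localization.AtPrime q) F = 0 ∨
      (1 : q.ResidueField) ⊗ₜ[A] KaehlerDifferential.D R A F ≠ 0 := by
  classical
  haveI : IsNoetherianRing A := Algebra.FiniteType.isNoetherianRing R A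
  let I : Ideal A := Ideal.span ({F} : Set A)
  let q : Ideal A := P.comap (Ideal.Quotient.mk I)
  show Algebra.IsSmoothAt R P ↔ algebraMap A (Localization.AtPrime q) F = 0 ∨
    (1 : q.ResidueField) ⊗ₜ[A] KaehlerDifferential.D R A F ≠ 0
  rw [Groth.Pi1Smooth.isSmoothAt_quotient_iff I P hX]
  have hmap : I.map (algebraMap A (Localization.AtPrime q)) =
      Ideal.span {algebraMap A (Localization.AtPrime q) F} := by
    rw [Ideal.map_span, Set.image_singleton]
  constructor
  · rintro ⟨m, a, haI, hspan, hind⟩
    by_contra hcon
    push Not at hcon
    obtain ⟨hF, hdF⟩ := hcon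
    obtain _ | n := m
    · apply hF
      have h : algebraMap A (Localization.AtPrime q) F ∈ I.map (algebraMap A (Localization.AtPrime q)) :=
        hmap ▸ Ideal.subset_span rfl
      rw [hspan, Set.range_eq_empty, Ideal.span_empty] at h
      exact Ideal.mem_bot.mp h
    · obtain ⟨c, hc⟩ := Ideal.mem_span_singleton'.mp (haI 0)
      have hFq : algebraMap A q.ResidueField F = 0 := by
        exact (Ideal.algebraMap_residueField_eq_zero (I := q)).mpr (by
          show Ideal.Quotient.mk I F ∈ P
          rw [Ideal.Quotient.eq_zero_iff_mem.mpr (show F ∈ I from Ideal.subset_span rfl)]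
          exact P.zero_mem)
      refine hind.ne_zero 0 ?_
      rw [← hc, Derivation.leibniz, TensorProduct.tmul_add, TensorProduct.tmul_smul,
        TensorProduct.tmul_smul, hdF, smul_zero, zero_add, TensorProduct.smul_tmul',
        Algebra.smul_def, hFq, zero_mul, TensorProduct.zero_tmul]
  · rintro (hF | hdF)
    · refine ⟨0, Fin.elim0, fun i => i.elim0, ?_, linearIndependent_empty_type⟩
      rw [hmap, hF, Set.range_eq_empty]
      simp
    · refine ⟨1, fun _ => F, fun _ => Ideal.subset_span rfl, ?_, ?_⟩
      · rw [hmap]
        exact congrArg Ideal.span (Set.range_const (c := algebraMap A (Localization.AtPrime q) F)).symm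
      · exact linearIndependent_unique_iff.mpr hdF

end Groth.Agent.S5999
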