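import Groth.Statements.S6001
import Groth.Agent.S9562
import Groth.Agent.Pi1Etale.Reduced
import Mathlib.RingTheory.AdicCompletion.Algebra
import Mathlib.RingTheory.Etale.Locus

set_option backward.isDefEq.respectTransparency false
set_option linter.style.haveILetI false

set_option autoImplicit false
universe u
open SGA1

namespace Groth.Agent.S6001

open IsLocalRing in
/-- The completion map of a local homomorphism. -/
theorem exists_completionMap (A B : Type u) [CommRing A] [CommRing B] [IsLocalRing A] [IsLocalRing B]
    [Algebra A B] [IsLocalHom (algebraMap A B)] :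
    ∃ ψ : AdicCompletion (maximalIdeal A) A →+* AdicCompletion (maximalIdeal B) B,
      ψ.comp (algebraMap A (AdicCompletion (maximalIdeal A) A)) =
        (algebraMap B (AdicCompletion (maximalIdeal B) B)).comp (algebraMap A B) := by
  have hle : (maximalIdeal A).map (algebraMap A B) ≤ maximalIdeal B :=
    ((IsLocalRing.local_hom_TFAE (algebraMap A B)).out 0 2).mp ‹_›
  let f : ∀ n : ℕ, AdicCompletion (maximalIdeal A) A →+* B ⧸ maximalIdeal B ^ n := fun n =>
    (Ideal.quotientMap (maximalIdeal B ^ n) (algebraMap A B) (by
      rw [← Ideal.map_le_iff_le_comap, Ideal.map_pow]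
      exact Ideal.pow_right_mono hle n)).comp (AdicCompletion.evalₐ (maximalIdeal A) n).toRingHom
  have hf : ∀ {m n : ℕ} (h : m ≤ n), (Ideal.Quotient.factorPow (maximalIdeal B) h).comp (f n) = f m := by
    intro m n h
    ext x
    obtain ⟨c, rfl⟩ := AdicCompletion.mk_surjective _ _ x
    simp only [f, RingHom.comp_apply, AlgHom.toRingHom_eq_coe, RingHom.coe_coe,
      AdicCompletion.evalₐ_mk, Ideal.quotientMap_mk]
    rw [Ideal.Quotient.factor_mk, Ideal.Quotient.eq, ← map_sub]
    exact Ideal.pow_right_mono hle m (by
      rw [← Ideal.map_pow]
      refine Ideal.mem_map_of_mem _ (neg_mem_iff.mp ?_)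
      rw [neg_sub]
      simpa using SModEq.sub_mem.mp (c.2 h))
  refine ⟨AdicCompletion.liftRingHom (maximalIdeal B) f hf, RingHom.ext fun a => ?_⟩
  refine AdicCompletion.ext_evalₐ fun n => ?_
  rw [RingHom.comp_apply, AdicCompletion.evalₐ_liftRingHom]
  simp [f]

/-- Let A be a Noetherian local ring which is analytically reduced (its completion has no nonzero
nilpotents), and let B be the local ring at a prime q, lying over the maximal ideal of A, of an
A-algebra C of finite type that is etale over A at q (an etale local homomorphism A ⟶ B). Then B is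
analytically reduced, and in particular reduced. -/
theorem result (A C : Type u) [CommRing A] [IsLocalRing A]
    [IsNoetherianRing A] [CommRing C] [Algebra A C] [Algebra.FiniteType A C] (q : Ideal C) [q.IsPrime]
    (hq : Ideal.comap (algebraMap A C) q = IsLocalRing.maximalIdeal A) (hC : Algebra.IsEtaleAt A q)
    (hA : IsReduced (AdicCompletion (IsLocalRing.maximalIdeal A) A)) :
    IsReduced (AdicCompletion (IsLocalRing.maximalIdeal (Localization.AtPrime q)) (Localization.AtPrime q)) ∧
      IsReduced (Localization.AtPrime q) := by
  haveI : IsNoetherianRing C := Algebra.FiniteType.isNoetherianRing A C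
  haveI : Algebra.FinitePresentation A C := Algebra.FinitePresentation.of_finiteType.mp inferInstance
  let B := Localization.AtPrime q
  haveI : IsLocalHom (algebraMap A B) := by
    refine ((IsLocalRing.local_hom_TFAE _).out 0 4).mpr ?_
    have h1 : (IsLocalRing.maximalIdeal B).comap (algebraMap C B) = q :=
      IsLocalization.AtPrime.under_maximalIdeal B q
    rw [IsScalarTower.algebraMap_eq A C B, ← Ideal.comap_comap, h1, hq]
  haveI : Algebra.EssFiniteType C B := Algebra.EssFiniteType.of_isLocalization B q.primeCompl
  haveI : Algebra.EssFiniteType A B := Algebra.EssFiniteType.comp A C B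
  haveI : Algebra.FormallyEtale A B := hC
  haveI : Module.Flat A B := by
    haveI : Algebra.IsEtaleAt A q := hC
    obtain ⟨g, hg, hgE⟩ := Algebra.exists_etale_of_isEtaleAt (R := A) q
    letI : Algebra (Localization.Away g) B :=
      (IsLocalization.Away.lift (S := Localization.Away g) g
        (show IsUnit (algebraMap C B g) from IsLocalization.map_units B (⟨g, hg⟩ : q.primeCompl))).toAlgebra
    haveI : IsScalarTower C (Localization.Away g) B :=
      IsScalarTower.of_algebraMap_eq fun c => (IsLocalization.Away.lift_eq g _ c).symm
    haveI : IsScalarTower A (Localization.Away g) B := IsScalarTower.to₁₃₄ A C (Localization.Away g) B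
    haveI : IsLocalization (q.primeCompl.map (algebraMap C (Localization.Away g))) B :=
      IsLocalization.isLocalization_of_submonoid_le (Localization.Away g) B (Submonoid.powers g)
        q.primeCompl (Submonoid.powers_le.mpr hg)
    haveI : Module.Flat (Localization.Away g) B :=
      IsLocalization.flat B (q.primeCompl.map (algebraMap C (Localization.Away g)))
    exact Module.Flat.trans A (Localization.Away g) B
  obtain ⟨ψ, hψ⟩ := exists_completionMap A B
  obtain ⟨hiff, hfree⟩ := Groth.Agent.S9562.result A B ψ hψ
  have het : ψ.Etale := hiff.1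
    ⟨inferInstance, Algebra.FormallyUnramified.map_maximalIdeal, inferInstance, inferInstance⟩
  obtain ⟨n, -, ⟨e⟩⟩ := hfree het
  letI := ψ.toAlgebra
  haveI := Module.Finite.equiv e
  haveI : Algebra.Etale (AdicCompletion (IsLocalRing.maximalIdeal A) A)
      (AdicCompletion (IsLocalRing.maximalIdeal B) B) := het
  haveI := hA
  have hB : IsReduced (AdicCompletion (IsLocalRing.maximalIdeal B) B) :=
    Groth.Pi1Etale.isReduced_of_finite_etale (AdicCompletion (IsLocalRing.maximalIdeal A) A) _
  haveI := hB
  haveI : Module.FaithfullyFlat B (AdicCompletion (IsLocalRing.maximalIdeal B) B) :=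
    Module.FaithfullyFlat.of_flat_of_isLocalHom
  exact ⟨hB, isReduced_of_injective (algebraMap B (AdicCompletion (IsLocalRing.maximalIdeal B) B))
    (FaithfulSMul.algebraMap_injective _ _)⟩

end Groth.Agent.S6001
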