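import Groth.Statements.S6002
import Groth.Agent.SmoothExt.AffineLift

set_option autoImplicit false
set_option linter.style.haveILetI false
universe u
open SGA1

namespace Groth.Agent.S6002

open AlgebraicGeometry CategoryTheory CategoryTheory.Limits in
/-- Let Y be a locally Noetherian scheme, Y₀ a closed subscheme of Y with the same underlying space (a
closed immersion i : Y₀ ⟶ Y that is surjective on points) and X₀ an affine scheme smooth over Y₀.
Then there is a smooth Y-scheme X together with a Y₀-isomorphism e : X₀ ≅ X ×_Y Y₀, and X is unique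
up to a (non-unique) isomorphism: for every smooth Y-scheme X' with a Y₀-isomorphism e' : X₀ ≅ X'
×_Y Y₀ there is a Y-isomorphism φ : X ≅ X' under which the closed immersion of X₀ into X given by e
corresponds to the one into X' given by e'. -/
theorem result {Y₀ Y X₀ : Scheme.{u}} [IsLocallyNoetherian Y]
    (i : Y₀ ⟶ Y) [IsClosedImmersion i] (hi : Function.Surjective i.base)
    (f₀ : X₀ ⟶ Y₀) [Smooth f₀] [IsAffine X₀] :
    ∃ (X : Scheme.{u}) (g : X ⟶ Y) (_ : Smooth g) (e : X₀ ≅ pullback g i),
      e.hom ≫ pullback.snd g i = f₀ ∧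
      ∀ (X' : Scheme.{u}) (g' : X' ⟶ Y) [Smooth g'] (e' : X₀ ≅ pullback g' i),
        e'.hom ≫ pullback.snd g' i = f₀ →
        ∃ φ : X ≅ X', φ.hom ≫ g' = g ∧
          (e.hom ≫ pullback.fst g i) ≫ φ.hom = e'.hom ≫ pullback.fst g' i := by
  haveI : Surjective i := ⟨hi⟩
  obtain ⟨X, g, j, hg, hX, hc⟩ := Groth.SmoothExt.exists_affine_lift i f₀
  haveI := hg
  haveI := hX
  refine ⟨X, g, hg, hc.isoPullback, hc.isoPullback_hom_snd, fun X' g' hg' e' he' => ?_⟩
  haveI := hg'
  have hT : MoreMor.IsThickening i := ⟨inferInstance, inferInstance⟩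
  obtain ⟨_, _⟩ : MoreMor.IsThickening j := Groth.FlatMor2.isThickening_of_isPullback hT hc
  haveI : IsLocallyNoetherian X := LocallyOfFiniteType.isLocallyNoetherian g
  have hc' : IsPullback (e'.hom ≫ pullback.fst g' i) f₀ g' i :=
    IsPullback.of_iso_pullback ⟨by rw [Category.assoc, pullback.condition, ← Category.assoc, he']⟩ e' rfl he'
  obtain ⟨φ, hφj, hφg⟩ := Groth.SmoothExt.exists_extend_affine j g' (e'.hom ≫ pullback.fst g' i) g
    (by rw [hc.w, Category.assoc, pullback.condition, ← Category.assoc, he'])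
  haveI : Flat (φ ≫ g') := by rw [hφg]; infer_instance
  haveI : LocallyOfFinitePresentation (φ ≫ g') := by rw [hφg]; infer_instance
  haveI : IsIso φ := (Groth.FlatMor2.isIso_iff_deform_fp (f := 𝟙 X₀) (g := f₀) hT
    (by simpa [hφg] using hc) hc' (by simpa using hφj)).1 inferInstance
  refine ⟨asIso φ, hφg, ?_⟩
  rw [hc.isoPullback_hom_fst, asIso_hom, hφj]

end Groth.Agent.S6002
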