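import Groth.Statements.S6003
import Groth.Agent.H1Proper.FpqcTorsor
set_option backward.isDefEq.respectTransparency.types false

set_option autoImplicit false
universe u
open CategoryTheory AlgebraicGeometry
open SGA1

namespace Groth.Agent.S6003

/-- Let G be an S-group scheme which is flat and quasi-compact over S and let G act on the S-scheme X.
Then X is a principal homogeneous bundle under G (a pseudo-torsor which acquires sections on the
members of some fpqc covering family of S) if and only if X is formally principal homogeneous (a
pseudo-torsor) and the structure morphism X → S is faithfully flat and quasi-compact. -/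
theorem result {S : Scheme.{u}}
    (G X : Over S) [GrpObj G] [Flat G.hom] [QuasiCompact G.hom] (a : AlgGrp.Action G X) :
    NonAbH1.IsTorsorFor Scheme.fpqcPrecoverage a ↔
      (NonAbH1.IsPseudoTorsorSch a ∧ Surjective X.hom ∧ Flat X.hom ∧ QuasiCompact X.hom) := by
  refine ⟨fun ⟨h, hX⟩ => ⟨h, Groth.H1Proper.surjective_of_fpqc hX,
    Groth.H1Proper.property_of_fpqc a h @Flat hX inferInstance,
    Groth.H1Proper.property_of_fpqc a h @QuasiCompact hX inferInstance⟩, fun ⟨h, _, _, _⟩ => ⟨h, ?_⟩⟩
  refine ⟨Presieve.singleton X.hom, Scheme.Hom.singleton_mem_fpqcPrecoverage X.hom, ?_⟩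
  rintro S' f ⟨⟩
  exact ⟨𝟙 X.left, Category.id_comp _⟩

end Groth.Agent.S6003
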