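import Groth.Statements.S6006
import Groth.Agent.Pi1Tors.Zariski
import Groth.Agent.Reductive.Points
import Mathlib.RingTheory.TensorProduct.IncludeLeftSubRight

set_option autoImplicit false
set_option backward.isDefEq.respectTransparency false
set_option backward.defeqAttrib.useBackward true
set_option linter.style.haveILetI false
universe u
open CategoryTheory AlgebraicGeometry
open SGA1

open scoped TensorProduct

namespace Groth.Agent.S6006

variable {A B : Type u} [CommRing A] [CommRing B] [Algebra A B] [Module.FaithfullyFlat A B]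

/-- The Amitsur complex is exact in degree one. -/
theorem exists_primitive (u : B ⊗[A] B) (hc : Pi1Tors.p13 u = Pi1Tors.p23 u + Pi1Tors.p12 u) :
    ∃ c : B, 1 ⊗ₜ c - c ⊗ₜ 1 = u := by
  let d₀ : B →ₗ[A] B ⊗[A] B := -(Algebra.TensorProduct.includeLeftSubRight A B)
  let d₁ : B ⊗[A] B →ₗ[A] B ⊗[A] (B ⊗[A] B) :=
    (Pi1Tors.p23 (A := A) (B := B)).toLinearMap - (Pi1Tors.p13 (A := A) (B := B)).toLinearMap +
      (Pi1Tors.p12 (A := A) (B := B)).toLinearMap
  let μ : B ⊗[A] B →ₗ[A] B := (Algebra.TensorProduct.lmul' A).toLinearMap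
  let h₂ : B ⊗[A] (B ⊗[A] B) →ₗ[A] B ⊗[A] B :=
    μ.rTensor B ∘ₗ (TensorProduct.assoc A B B B).symm.toLinearMap
  let h₃ : B ⊗[A] (B ⊗[A] (B ⊗[A] B)) →ₗ[A] B ⊗[A] (B ⊗[A] B) :=
    μ.rTensor (B ⊗[A] B) ∘ₗ (TensorProduct.assoc A B B (B ⊗[A] B)).symm.toLinearMap
  have hd₀ : ∀ b, d₀ b = 1 ⊗ₜ b - b ⊗ₜ 1 := fun b => by simp [d₀]
  have hd₁ : ∀ b c : B, d₁ (b ⊗ₜ c) = 1 ⊗ₜ (b ⊗ₜ c) - b ⊗ₜ (1 ⊗ₜ c) + b ⊗ₜ (c ⊗ₜ 1) := fun b c => by
    simp [d₁, Pi1Tors.p23]
  have hid : ∀ z : B ⊗[A] (B ⊗[A] B), d₀.lTensor B (h₂ z) + h₃ (d₁.lTensor B z) = z := by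
    intro z
    induction z using TensorProduct.induction_on with
    | zero => simp
    | tmul x y =>
      induction y using TensorProduct.induction_on with
      | zero => simp
      | tmul b c =>
        rw [LinearMap.lTensor_tmul, hd₁]
        simp [h₂, h₃, μ, hd₀, TensorProduct.tmul_sub, TensorProduct.tmul_add]
      | add y y' hy hy' => rw [TensorProduct.tmul_add]; simp only [map_add]; rw [add_add_add_comm, hy, hy']
    | add z w hz hw => simp only [map_add]; rw [add_add_add_comm, hz, hw]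
  have hd10 : d₁ ∘ₗ d₀ = 0 := LinearMap.ext fun b => by
    rw [LinearMap.comp_apply, hd₀, map_sub, hd₁, hd₁]
    simp
  have hexact : Function.Exact (d₀.lTensor B) (d₁.lTensor B) := by
    intro z
    constructor
    · intro hz
      exact ⟨h₂ z, by simpa [hz] using hid z⟩
    · rintro ⟨w, rfl⟩
      rw [← LinearMap.comp_apply, ← LinearMap.lTensor_comp, hd10, LinearMap.lTensor_zero]
      rfl
  have hu : d₁ u = 0 := by
    change Pi1Tors.p23 u - Pi1Tors.p13 u + Pi1Tors.p12 u = 0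
    rw [hc]; abel
  obtain ⟨c, hc⟩ := (Module.FaithfullyFlat.lTensor_reflects_exact A B d₀ d₁ hexact u).1 hu
  exact ⟨c, by rw [← hd₀, hc]⟩

/-- Every principal homogeneous bundle under the additive group over S (a pseudo-torsor which acquires
sections on the members of some fpqc covering family of S) is locally trivial, i.e. is a torsor for
the Zariski topology: S is covered by open subschemes over which it acquires sections. -/
theorem result {S : Scheme.{u}} (X : Over S)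
    (a : AlgGrp.Action (Red.Ga S) X) (h : NonAbH1.IsTorsorFor Scheme.fpqcPrecoverage a) :
    NonAbH1.IsTorsorFor Scheme.zariskiPrecoverage a := by
  obtain ⟨hps, hloc⟩ := h
  refine ⟨hps, Pi1Tors.isLocallyTrivial_zariski hloc fun A B _ _ _ _ j s x => ⟨⊤, trivial, ?_⟩⟩
  obtain ⟨g, hg, hcoc⟩ := Pi1Tors.exists_cocycle j a hps s
  obtain ⟨u, hu⟩ := (Pi1Tors.val_id_bijective j (R := B ⊗[A] B)).2 (Red.gaFn g)
  have hgu : ∀ (T : Over S) (w : T ⟶ Pi1Tors.specObj j (B ⊗[A] B)), Red.gaFn (w ≫ g) = Pi1Tors.val j w u :=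
    fun T w => by
      rw [Reductive.gaFn_comp, ← hu, ← Pi1Tors.val_comp, Category.comp_id]
  have hc : Pi1Tors.p13 u = Pi1Tors.p23 u + Pi1Tors.p12 u := by
    refine (Pi1Tors.val_id_bijective j).1 ?_
    have hq : ∀ ψ : B ⊗[A] B →ₐ[A] B ⊗[A] (B ⊗[A] B),
        Red.gaFn (Pi1Tors.specPt j ψ ≫ g) = Pi1Tors.val j (𝟙 _) (ψ u) := fun ψ => by
      rw [hgu, ← Pi1Tors.val_specPt, Category.id_comp]
    rw [map_add, ← hq, ← hq, ← hq, ← Reductive.gaFn_mul, hcoc]
  obtain ⟨c, hc'⟩ := exists_primitive u hc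
  refine Pi1Tors.exists_section j a s g hg ⊤ (Reductive.gaMk _ (Pi1Tors.val j (Pi1Tors.preIncl j B ⊤) (-c)))
    fun T p q w hp hq => ?_
  refine Reductive.gaFn_injective ?_
  rw [Reductive.gaFn_mul, hgu, Reductive.gaFn_comp, Reductive.gaFn_comp, Reductive.gaFn_gaMk,
    ← Pi1Tors.val_comp, ← Pi1Tors.val_comp, ← hp, ← hq, Pi1Tors.val_specPt, Pi1Tors.val_specPt, ← hc',
    ← map_add]
  congr 1
  simp only [Algebra.TensorProduct.includeLeft_apply, Algebra.TensorProduct.includeRight_apply,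
    TensorProduct.tmul_neg, TensorProduct.neg_tmul]
  abel

end Groth.Agent.S6006
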