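import Groth.Statements.S6007
import Groth.Agent.Pi1Tors.Exact
import Groth.Agent.Reductive.MultTypeHom

set_option autoImplicit false
set_option backward.isDefEq.respectTransparency false
set_option backward.defeqAttrib.useBackward true
universe u
open CategoryTheory AlgebraicGeometry MonoidalCategory CartesianMonoidalCategory MonObj GrpObj
open SGA1t

set_option linter.style.haveILetI false

namespace Groth.Agent.S6007

/-- For a scheme S and an integer n ≥ 1 the Kummer sequence 1 → μ_n → G_m → G_m → 1 over S is exact for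
the fpqc topology. Here G_m = D_S(Z), μ_n = D_S(Z/n) mapped into G_m by the diagonalisable-group
morphism induced by Z → Z/n, and G_m → G_m is the n-th power map, the character of D_S(Z) attached
to n; exactness means that both maps are homomorphisms with trivial composite, that (g, z) ↦ (g, gz)
identifies G_m ×_S μ_n with the fibre product of the n-th power map with itself, and that the n-th
power map acquires sections on the members of some fpqc covering family of its target. -/
theorem result {S : Scheme.{u}} (n : ℕ) (hn : 0 < n) :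
    NonAbH1.IsExactSeq Scheme.fpqcPrecoverage
      (Red.DSmap S (Int.castAddHom (ZMod n))) (Red.chi S (n : ℤ)) := by
  rw [show Red.chi S (n : ℤ) = Red.DSmap S (zmultiplesHom ℤ (n : ℤ) : ℤ →+ ℤ) from rfl,
    ← Reductive.FreeDiag.dsHom_eq_DSmap, ← Reductive.FreeDiag.dsHom_eq_DSmap]
  have hinjℤ : Function.Injective (zmultiplesHom ℤ (n : ℤ) : ℤ →+ ℤ) := fun a b h =>
    mul_right_cancel₀ (b := (n : ℤ)) (by exact_mod_cast hn.ne') (by simpa using h)
  obtain ⟨hflat, hsurj⟩ := Reductive.FreeDiag.flat_surjective_dsHom (T := S) _ hinjℤ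
  set v := Reductive.FreeDiag.dsHom (T := S) (zmultiplesHom ℤ (n : ℤ) : ℤ →+ ℤ) with hv
  haveI : IsAffineHom (Red.DS S ℤ).hom := by
    change IsAffineHom (CategoryTheory.Limits.pullback.snd _ _)
    haveI : IsAffine (Red.diag (ULift.{u} ℤ) ℤ).left := inferInstanceAs (IsAffine (Spec _))
    haveI : IsAffineHom (Red.diag (ULift.{u} ℤ) ℤ).hom := isAffineHom_of_isAffine _
    exact MorphismProperty.pullback_snd (P := @IsAffineHom) _ _ inferInstance
  haveI : QuasiCompact v.left := by
    haveI : QuasiCompact (v.left ≫ (Red.DS S ℤ).hom) := by rw [Over.w v]; infer_instance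
    exact QuasiCompact.of_comp v.left (Red.DS S ℤ).hom
  haveI := hflat
  haveI := hsurj
  refine Pi1Tors.isExactSeq_of_points _ v (fun T g => ?_) (fun T x hx => ?_) fun T g g' h => ?_
  · refine Reductive.dsVal_ext fun m => ?_
    rw [hv, Reductive.FreeDiag.dsVal_dsHom, Reductive.FreeDiag.dsVal_dsHom, Reductive.FreeDiag.dsVal_one,
      show AddMonoidHom.toMultiplicative (Int.castAddHom (ZMod n))
        (AddMonoidHom.toMultiplicative (zmultiplesHom ℤ (n : ℤ)) m) = 1 from ?_]
    · exact map_one (Reductive.dsValHom g)
    · refine Multiplicative.toAdd.injective ?_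
      simp
  · let φ : ℤ →+ Additive Γ(T.left, ⊤)ˣ := MonoidHom.toAdditiveRight (Reductive.dsValHom x).toHomUnits
    have hφn : φ n = 0 := by
      refine Additive.toMul.injective (Units.ext ?_)
      have h := congrArg (fun z => Reductive.dsVal z (Multiplicative.ofAdd (1 : ℤ))) hx
      simp only [hv, Reductive.FreeDiag.dsVal_dsHom, Reductive.FreeDiag.dsVal_one] at h
      simp [φ] at h ⊢
      exact h
    let ψ : ZMod n →+ Additive Γ(T.left, ⊤)ˣ := ZMod.lift n ⟨φ, hφn⟩
    refine ⟨Reductive.dsMk T ((Units.coeHom _).comp (AddMonoidHom.toMultiplicativeLeft ψ)), ?_⟩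
    refine Reductive.dsVal_ext fun m => ?_
    rw [Reductive.FreeDiag.dsVal_dsHom, Reductive.dsVal_dsMk]
    simp [ψ, φ]
    rfl
  · refine Reductive.dsVal_ext fun m => ?_
    obtain ⟨k, hk⟩ := ZMod.intCast_surjective m.toAdd
    have e := congrArg (fun z => Reductive.dsVal z (Multiplicative.ofAdd k)) h
    simp only [Reductive.FreeDiag.dsVal_dsHom] at e
    simpa [hk] using e

end Groth.Agent.S6007
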