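import Groth.Statements.S6008
import Groth.Agent.Pi1Tors.Exact
import Groth.Agent.Reductive.Points
import Groth.Agent.SGA7.ConstPoints
import Groth.Agent.AlgGrp1.Basic
import Mathlib.RingTheory.AdjoinRoot
import Mathlib.RingTheory.Flat.FaithfullyFlat.Algebra
import Mathlib.Algebra.CharP.Lemmas
import Mathlib.Algebra.CharP.CharAndCard
import Mathlib.FieldTheory.Finite.Basic
import Mathlib.Algebra.Field.ZMod

set_option autoImplicit false
set_option backward.isDefEq.respectTransparency false
set_option backward.defeqAttrib.useBackward true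
set_option linter.style.haveILetI false
universe u
open CategoryTheory AlgebraicGeometry MonoidalCategory CartesianMonoidalCategory MonObj GrpObj
open SGA1t

namespace Groth.Agent.S6008

set_option synthInstance.maxHeartbeats 400000

section Ring

variable {R : Type u} [CommRing R] {p : ℕ} [Fact p.Prime] (hR : (p : R) = 0)

/-- The unique ring map from `ℤ/p` when `p = 0`. -/
noncomputable def charHom : ZMod p →+* R :=
  haveI := ringChar.charP R
  ZMod.castHom (ringChar.dvd hR) R

theorem charHom_isUnit {k : ZMod p} (hk : k ≠ 0) : IsUnit (charHom hR k) :=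
  hk.isUnit.map _

theorem charHom_pow (k : ZMod p) : charHom hR k ^ p = charHom hR k := by
  rw [← map_pow, ZMod.pow_card]

include hR in
theorem add_pow_of_char (x y : R) : (x + y) ^ p = x ^ p + y ^ p := by
  obtain ⟨r, hr⟩ := exists_add_pow_prime_eq (Fact.out : p.Prime) x y
  simp [hr, hR]

theorem prod_sub_charHom (r : R) : ∏ k : ZMod p, (r - charHom hR k) = r ^ p - r := by
  have hp1 : 1 < p := (Fact.out : p.Prime).one_lt
  have hroots : (Polynomial.X ^ p - Polynomial.X : Polynomial (ZMod p)).roots = Finset.univ.val := by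
    simpa [ZMod.card] using FiniteField.roots_X_pow_card_sub_X (ZMod p)
  have hne : (Polynomial.X ^ p - Polynomial.X : Polynomial (ZMod p)) ≠ 0 :=
    FiniteField.X_pow_card_sub_X_ne_zero _ hp1
  have hsplit : (Polynomial.X ^ p - Polynomial.X : Polynomial (ZMod p)) =
      ∏ k : ZMod p, (Polynomial.X - Polynomial.C k) := by
    refine (Polynomial.prod_multiset_X_sub_C_of_monic_of_roots_card_eq ?_ ?_).symm.trans ?_
    · exact Polynomial.monic_X_pow_sub (by rw [Polynomial.degree_X]; exact_mod_cast hp1)
    · rw [hroots, FiniteField.X_pow_card_sub_X_natDegree_eq _ hp1]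
      simp [ZMod.card]
    · rw [hroots]; rfl
  have h := congrArg (Polynomial.eval₂ (charHom hR) r) hsplit
  rw [Polynomial.eval₂_finset_prod] at h
  simpa using h.symm

end Ring

open Groth.SGA7 in
/-- The index type in the universe of schemes. -/
abbrev M' (p : ℕ) : Type u := ULift.{u} (Multiplicative (ZMod p))

/-- Let p be a prime and S a scheme of characteristic p (p = 0 in the ring of global functions). Let F
be the Frobenius endomorphism of the additive group over S, the S-endomorphism which raises the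
coordinate function of every point to the p-th power, and let P be the difference of the identity
and F in the group of endomorphisms (on points x ↦ x − x^p). Let G' be the constant S-group (Z/p)_S:
an S-group together with an isomorphism of S-schemes e from G' to the disjoint union of copies of S
indexed by Z/p, under which the S-points of indices m and n multiply to the S-point of index m + n;
and let i : G' → G_a be the homomorphism of S-groups which sends the S-point of index 1 to the point
whose coordinate is the unit global function. Then the Artin-Schreier sequence 1 → (Z/p)_S → G_a →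
G_a → 1 is exact for the fpqc topology: i and P are homomorphisms with trivial composite, (x, g) ↦
(x, x + i(g)) identifies G_a ×_S G' with the fibre product of P with itself (so that i is a kernel
of P), and P acquires sections on the members of some fpqc covering family of its target. -/
theorem result (p : ℕ) [Fact p.Prime] {S : Scheme.{u}}
    (hp : (p : Γ(S, ⊤)) = 0) (F : Red.Ga S ⟶ Red.Ga S)
    (hF : ∀ (T : Over S) (x : T ⟶ Red.Ga S), Red.gaFn (x ≫ F) = Red.gaFn x ^ p)
    {G' : Over S} [GrpObj G'] (e : G' ≅ TwC.const S (Multiplicative (ZMod p)))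
    (he : TwC.IsConstGrp (Multiplicative (ZMod p)) G' e)
    (i : G' ⟶ Red.Ga S) [IsMonHom i]
    (hi : Red.gaFn (TwC.pt S (Multiplicative (ZMod p)) (Multiplicative.ofAdd 1) ≫ e.inv ≫ i) = 1) :
    NonAbH1.IsExactSeq Scheme.fpqcPrecoverage i (𝟙 (Red.Ga S) * F⁻¹) := by
  classical
  have hpT : ∀ T : Over S, ((p : ℕ) : Γ(T.left, ⊤)) = 0 := fun T => by
    rw [← map_natCast T.hom.appTop.hom, hp, map_zero]
  have hpU : ∀ (T : Over S) (U : T.left.Opens), ((p : ℕ) : Γ((U : Scheme.{u}), ⊤)) = 0 := fun T U => by
    rw [← map_natCast U.ι.appTop.hom, hpT, map_zero]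
  -- Artin-Schreier map on points
  set P : Red.Ga S ⟶ Red.Ga S := 𝟙 (Red.Ga S) * F⁻¹ with hPdef
  have hP : ∀ (T : Over S) (x : T ⟶ Red.Ga S), Red.gaFn (x ≫ P) = Red.gaFn x - Red.gaFn x ^ p := fun T x => by
    rw [hPdef, MonObj.comp_mul, Category.comp_id, GrpObj.comp_inv, Reductive.gaFn_mul, Reductive.gaFn_inv, hF,
      sub_eq_add_neg]
  haveI : IsMonHom P := AlgGrp1.isMonHom_of_points P fun T x y => Reductive.gaFn_injective (by
    rw [hP, Reductive.gaFn_mul, Reductive.gaFn_mul, hP, hP, add_pow_of_char (hpT T)]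
    ring)
  -- points of G'
  let eM : TwC.const S (Multiplicative (ZMod p)) ≅ TwC.const S (M'.{u} p) :=
    { hom := TwC.constMap S (fun m => ULift.up m)
      inv := TwC.constMap S (fun m : M'.{u} p => m.down)
      hom_inv_id := Over.OverMorphism.ext (Limits.Sigma.hom_ext _ _ fun m => by simp [TwC.constMap])
      inv_hom_id := Over.OverMorphism.ext (Limits.Sigma.hom_ext _ _ fun m => by simp [TwC.constMap]) }
  let e' := e ≪≫ eM
  have hpt : ∀ m : M'.{u} p, TwC.pt S (M'.{u} p) m ≫ e'.inv = TwC.pt S (Multiplicative (ZMod p)) m.down ≫ e.inv :=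
    fun m => by
      rw [Iso.trans_inv, ← Category.assoc]
      congr 1
      refine Over.OverMorphism.ext ?_
      simp [eM, TwC.constMap, TwC.pt]
  have he' : TwC.IsConstGrp (M'.{u} p) G' e' := fun m n => by rw [hpt, hpt, hpt]; exact he m.down n.down
  let ix : ∀ {T : Over S}, (T ⟶ G') → T.left → ZMod p := fun g t => (SGA7.ConstPoints.ix e' g t).down.toAdd
  have hone : TwC.pt S (Multiplicative (ZMod p)) 1 ≫ e.inv = 1 := by
    have := he 1 1
    rwa [_root_.one_mul, mul_eq_left] at this
  have hpti : ∀ (T : Over S) (k : ℕ),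
      Red.gaFn (toUnit T ≫ TwC.pt S (Multiplicative (ZMod p)) (Multiplicative.ofAdd (k : ZMod p)) ≫ e.inv ≫ i) =
        (k : Γ(T.left, ⊤)) := by
    intro T k
    have h1i : (1 : 𝟙_ (Over S) ⟶ G') ≫ i = 1 := MonObj.one_comp i
    induction k with
    | zero =>
      rw [Nat.cast_zero, ofAdd_zero, reassoc_of% hone, h1i, MonObj.comp_one, Reductive.gaFn_one,
        Nat.cast_zero]
    | succ k ih =>
      rw [Nat.cast_succ, ofAdd_add, Nat.cast_succ, ← reassoc_of% (he _ _), show ∀ (a b : 𝟙_ (Over S) ⟶ G'), (a * b) ≫ i = (a ≫ i) * (b ≫ i) from fun a b => MonObj.mul_comp a b i,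
        MonObj.comp_mul,
        Reductive.gaFn_mul, Category.assoc, Category.assoc, ih]
      congr 1
      rw [Reductive.gaFn_comp, hi]
      exact map_one _
  have hpiece : ∀ (T : Over S) (g : T ⟶ G') (U : T.left.Opens) (k : ZMod p), (∀ t ∈ U, ix g t = k) →
      U.ι.appTop (Red.gaFn (g ≫ i)) = charHom (hpU T U) k := by
    intro T g U k hk
    have hg : SGA7.ConstPoints.pieceι T U ≫ g =
        toUnit _ ≫ TwC.pt S (M'.{u} p) ⟨Multiplicative.ofAdd k⟩ ≫ e'.inv :=
      SGA7.ConstPoints.eq_pt' _ _ fun t => by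
        rw [SGA7.ConstPoints.ix_comp, ← hk _ t.2]
        rfl
    obtain ⟨n, rfl⟩ := ZMod.natCast_zmod_surjective (n := p) k
    rw [map_natCast, ← hpti (SGA7.ConstPoints.piece T U) n]
    refine (Reductive.gaFn_comp (SGA7.ConstPoints.pieceι T U) (g ≫ i)).symm.trans ?_
    rw [← Category.assoc, hg, hpt, Category.assoc, Category.assoc]
  have hcov : ∀ {T : Over S} (g : T ⟶ G') (t : T.left), ∃ U : T.left.Opens, t ∈ U ∧ ∀ s ∈ U, ix g s = ix g t := by
    intro T g t
    refine ⟨⟨SGA7.ConstPoints.ix e' g ⁻¹' {SGA7.ConstPoints.ix e' g t},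
      SGA7.ConstPoints.isLocallyConstant_ix g _⟩, rfl, fun s hs => ?_⟩
    show (SGA7.ConstPoints.ix e' g s).down.toAdd = _
    rw [Set.mem_preimage.1 hs]
  have hlocal : ∀ {T : Over S} (a b : T ⟶ Red.Ga S), (∀ t : T.left, ∃ U : T.left.Opens, t ∈ U ∧
      U.ι.appTop (Red.gaFn a) = U.ι.appTop (Red.gaFn b)) → a = b := by
    intro T a b h
    choose U hU hab using h
    refine Over.OverMorphism.ext ((T.left.openCoverOfIsOpenCover U (.mk (top_le_iff.mp fun t _ =>
      TopologicalSpace.Opens.mem_iSup.mpr ⟨t, hU t⟩))).hom_ext _ _ fun t => ?_)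
    have e1 : SGA7.ConstPoints.pieceι T (U t) ≫ a = SGA7.ConstPoints.pieceι T (U t) ≫ b :=
      Reductive.gaFn_injective (by rw [Reductive.gaFn_comp, Reductive.gaFn_comp]; exact hab t)
    exact congrArg CommaMorphism.left e1
  refine Pi1Tors.isExactSeq_of_points' i P (fun T g => ?_) (fun T x hx => ?_) (fun T g g' h => ?_) ?_
  · refine hlocal _ _ fun t => ?_
    obtain ⟨U, htU, hU⟩ := hcov g t
    refine ⟨U, htU, ?_⟩
    rw [hP, map_sub, map_pow, Reductive.gaFn_one, map_zero, hpiece T g U _ hU, charHom_pow, sub_self]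
  · -- a point killed by `P` is locally constant with values in `ℤ/p`
    set r := Red.gaFn x with hr
    have hr' : r ^ p = r := by
      have := congrArg Red.gaFn hx
      rw [hP, Reductive.gaFn_one, sub_eq_zero] at this
      exact this.symm
    let ch := charHom (p := p) (hpT T)
    let V : ZMod p → T.left.Opens := fun k => T.left.basicOpen (∏ j ∈ Finset.univ.erase k, (r - ch j))
    have hprod : ∀ k, (r - ch k) * ∏ j ∈ Finset.univ.erase k, (r - ch j) = 0 := fun k => by
      rw [Finset.mul_prod_erase _ (fun j => r - ch j) (Finset.mem_univ k), prod_sub_charHom, hr', sub_self]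
    have hVeq : ∀ k (W : T.left.Opens) (hW : W ≤ V k), W.ι.appTop r = charHom (hpU T W) k := by
      intro k W hW
      have hu : IsUnit (W.ι.appTop (∏ j ∈ Finset.univ.erase k, (r - ch j))) := by
        refine (W : Scheme.{u}).toRingedSpace.isUnit_of_isUnit_germ ⊤ _ fun w _ => ?_
        refine (Scheme.mem_basicOpen_top (X := (W : Scheme.{u})) _ w).1 ?_
        rw [← Scheme.preimage_basicOpen_top]
        exact hW w.2
      have h0 := congrArg W.ι.appTop (hprod k)
      rw [map_mul, map_zero, hu.mul_left_eq_zero, map_sub, sub_eq_zero] at h0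
      rw [h0]
      exact RingHom.congr_fun (RingHom.ext_zmod (W.ι.appTop.hom.comp ch) (charHom (hpU T W))) k
    have hVcov : ∀ t : T.left, ∃ k, t ∈ V k := by
      intro t
      let ev : Γ(T.left, ⊤) →+* T.left.residueField t :=
        (T.left.residue t).hom.comp (T.left.presheaf.germ ⊤ t trivial).hom
      have hz : ∏ j : ZMod p, ev (r - ch j) = 0 := by
        rw [← map_prod, prod_sub_charHom, hr', sub_self, map_zero]
      obtain ⟨k, -, hk⟩ := Finset.prod_eq_zero_iff.1 hz
      refine ⟨k, ?_⟩
      rw [Scheme.mem_basicOpen_top]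
      refine IsLocalRing.notMem_maximalIdeal.1 fun hm => ?_
      have h0 : ev (∏ j ∈ Finset.univ.erase k, (r - ch j)) = 0 :=
        (IsLocalRing.residue_eq_zero_iff _).2 hm
      rw [map_prod, Finset.prod_eq_zero_iff] at h0
      obtain ⟨j, hj, hj0⟩ := h0
      rw [map_sub, sub_eq_zero] at hk hj0
      exact (Finset.mem_erase.1 hj).1 ((ev.comp ch).injective (hj0.symm.trans hk))
    have hVdisj : ∀ t k l, t ∈ V k → t ∈ V l → k = l := by
      intro t k l hk hl
      haveI : Nontrivial Γ(((V k ⊓ V l : T.left.Opens) : Scheme.{u}), ⊤) :=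
        @Scheme.component_nontrivial _ ⊤ ⟨⟨⟨t, hk, hl⟩, trivial⟩⟩
      exact (charHom (hpU T (V k ⊓ V l))).injective
        ((hVeq k _ inf_le_left).symm.trans (hVeq l _ inf_le_right))
    choose f hf using hVcov
    have hf0 : IsLocallyConstant f := IsLocallyConstant.iff_isOpen_fiber.2 fun k => by
      convert (V k).isOpen using 1
      ext t
      exact ⟨fun h => h ▸ hf t, fun h => hVdisj t _ _ (hf t) h⟩
    have hfl : IsLocallyConstant fun t => (⟨Multiplicative.ofAdd (f t)⟩ : M'.{u} p) :=
      hf0.comp fun k => (⟨Multiplicative.ofAdd k⟩ : M'.{u} p)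
    obtain ⟨φ, hφ⟩ := SGA7.ConstPoints.exists_of_isLocallyConstant T _ hfl
    refine ⟨φ ≫ e'.inv, hlocal _ _ fun t => ⟨V (f t), hf t, ?_⟩⟩
    rw [hVeq (f t) _ le_rfl]
    refine hpiece T _ _ _ fun s hs => ?_
    show (SGA7.ConstPoints.idx ((φ ≫ e'.inv) ≫ e'.hom) s).down.toAdd = f t
    rw [Category.assoc, e'.inv_hom_id, Category.comp_id, hφ]
    exact hVdisj s _ _ (hf s) hs
  · refine SGA7.ConstPoints.ix_ext (e := e') (funext fun t => ?_)
    obtain ⟨U, htU, hU⟩ := hcov g t
    obtain ⟨U', htU', hU'⟩ := hcov g' t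
    haveI : Nontrivial Γ(((U ⊓ U' : T.left.Opens) : Scheme.{u}), ⊤) :=
      @Scheme.component_nontrivial _ ⊤ ⟨⟨⟨t, htU, htU'⟩, trivial⟩⟩
    have h1 := hpiece T g (U ⊓ U') (ix g t) fun s hs => hU s hs.1
    rw [h, hpiece T g' (U ⊓ U') (ix g' t) fun s hs => hU' s hs.2] at h1
    have h2 := (charHom (hpU T (U ⊓ U'))).injective h1
    exact ULift.ext _ _ (Multiplicative.toAdd.injective h2.symm)
  · -- an fpqc cover on which the coordinate becomes a value of `P`
    let A : Type u := SymmetricAlgebra (ULift.{u} ℤ) (ULift.{u} ℤ)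
    let c : A := SymmetricAlgebra.ι (ULift.{u} ℤ) (ULift.{u} ℤ) (ULift.up 1)
    let f : Polynomial A := Polynomial.X ^ p - (Polynomial.X - Polynomial.C c)
    haveI : Nontrivial A := RingHom.domain_nontrivial
      (SymmetricAlgebra.algebraMapInv (R := ULift.{u} ℤ) (M := ULift.{u} ℤ)).toRingHom
    have hp1 : 1 < p := (Fact.out : p.Prime).one_lt
    have hlt : (Polynomial.X - Polynomial.C c).degree < (p : WithBot ℕ) := by
      rw [Polynomial.degree_X_sub_C]; exact_mod_cast hp1
    have hmon : f.Monic := Polynomial.monic_X_pow_sub hlt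
    haveI : Module.Free A (AdjoinRoot f) := hmon.free_adjoinRoot
    haveI : Module.Finite A (AdjoinRoot f) := hmon.finite_adjoinRoot
    have hdim : 0 < (AdjoinRoot.powerBasis' hmon).dim := by
      rw [AdjoinRoot.powerBasis'_dim, Polynomial.natDegree_eq_of_degree_eq_some (n := p) (by
        rw [Polynomial.degree_sub_eq_left_of_degree_lt (by rwa [Polynomial.degree_X_pow]), Polynomial.degree_X_pow])]
      omega
    haveI : Nontrivial (AdjoinRoot f) :=
      ⟨⟨_, 0, (AdjoinRoot.powerBasis' hmon).basis.ne_zero ⟨0, hdim⟩⟩⟩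
    haveI : Module.FaithfullyFlat A (AdjoinRoot f) := inferInstance
    let π : Spec (CommRingCat.of (AdjoinRoot f)) ⟶ Spec (CommRingCat.of A) :=
      Spec.map (CommRingCat.ofHom (algebraMap A (AdjoinRoot f)))
    haveI : Flat π := Flat.SpecMap_iff.2 (RingHom.flat_algebraMap_iff.2 inferInstance)
    haveI : Surjective π := ⟨PrimeSpectrum.comap_surjective_of_faithfullyFlat (A := A) (B := AdjoinRoot f)⟩
    haveI : QuasiCompact π := inferInstance
    let b : (Red.Ga S).left ⟶ Spec (CommRingCat.of A) := Limits.pullback.fst _ _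
    refine ⟨Presieve.singleton (Limits.pullback.fst b π), Scheme.Hom.singleton_mem_fpqcPrecoverage _, ?_⟩
    rintro S' j ⟨⟩
    let q := Limits.pullback.fst b π
    let T : Over S := Over.mk (q ≫ (Red.Ga S).hom)
    let y : T ⟶ Red.Ga S := Over.homMk q rfl
    let ψ : AdjoinRoot f →+* Γ(T.left, ⊤) :=
      (Limits.pullback.snd b π).appTop.hom.comp (Scheme.ΓSpecIso (CommRingCat.of (AdjoinRoot f))).inv.hom
    have hy : Red.gaFn y = ψ (algebraMap A (AdjoinRoot f) c) := by
      change (q ≫ b).appTop Red.gaCoord = _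
      rw [Limits.pullback.condition]
      simp only [ψ, RingHom.comp_apply, Scheme.Hom.comp_appTop]
      refine congrArg ((Limits.pullback.snd b π).appTop) ?_
      exact (RingHom.congr_fun (congrArg CommRingCat.Hom.hom
        (Scheme.ΓSpecIso_inv_naturality (CommRingCat.ofHom (algebraMap A (AdjoinRoot f))))) c).symm
    let s := Reductive.gaMk T (ψ (AdjoinRoot.root f))
    have hs : s ≫ P = y := Reductive.gaFn_injective (by
      rw [hP, Reductive.gaFn_gaMk, hy, ← map_pow, ← map_sub]
      congr 1
      have h0 := AdjoinRoot.eval₂_root f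
      simp only [f, Polynomial.eval₂_sub, Polynomial.eval₂_X_pow, Polynomial.eval₂_X, Polynomial.eval₂_C] at h0
      rw [AdjoinRoot.algebraMap_eq]
      linear_combination -h0)
    exact ⟨s.left, congrArg CommaMorphism.left hs⟩

end Groth.Agent.S6008
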