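import Groth.Statements.S6009
import Groth.Agent.Pi1Tors.Points

set_option autoImplicit false
set_option backward.isDefEq.respectTransparency false
set_option backward.defeqAttrib.useBackward true
set_option linter.style.haveILetI false
universe u
open CategoryTheory AlgebraicGeometry MonoidalCategory CartesianMonoidalCategory MonObj GrpObj
open SGA1

open CategoryTheory.Limits

namespace Groth.Agent.S6009

/-- Exactness of the cohomology sequence at H^1(S, G'): let u : G' → G and v : G → G'' be homomorphisms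
of affine commutative S-groups forming a sequence 1 → G' → G → G'' → 1 which is exact for the fpqc
topology, and let Q be a principal homogeneous bundle under G' (fpqc torsor). Then the bundle
deduced from Q by extension of the structure group along u is trivial, in the sense that Q admits a
u-equivariant S-morphism to G acting on itself by left translation, if and only if Q is the boundary
of some section f of G'' over S: there is a morphism i : Q → G making Q the inverse image of f under
v, with G' acting through right translation by inverses. -/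
theorem result {S : Scheme.{u}}
    {G G' G'' : Over S} [GrpObj G] [GrpObj G'] [GrpObj G'']
    [IsCommMonObj G] [IsCommMonObj G'] [IsCommMonObj G'']
    [IsAffineHom G.hom] [IsAffineHom G'.hom] [IsAffineHom G''.hom]
    (u : G' ⟶ G) (v : G ⟶ G'') (hex : NonAbH1.IsExactSeq Scheme.fpqcPrecoverage u v)
    (Q : NonAbH1.TorsorSch G' Scheme.fpqcPrecoverage) :
    NonAbH1.IsPushforwardAlongSch u Q.act (NonAbH1.trivialAction G) ↔
      ∃ (f : 𝟙_ (Over S) ⟶ G'') (i : Q.X ⟶ G), NonAbH1.IsPullbackTorsor u v f i Q.act := by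
  haveI := hex.1
  haveI := hex.2.1
  have hQ := Pi1Tors.locSurj_toUnit Q.isTorsor.2
  have htr : ∀ {T : Over S} (g x : T ⟶ G), lift g x ≫ (NonAbH1.trivialAction G).act = g * x :=
    fun g x => (Hom.mul_def g x).symm
  constructor
  · rintro ⟨f₀, hf₀⟩
    have hf : ∀ {T : Over S} (g : T ⟶ G') (p : T ⟶ Q.X),
        Pi1Tors.dot Q.act g p ≫ f₀ = (g ≫ u) * (p ≫ f₀) := fun g p => by
      rw [Pi1Tors.dot, Category.assoc, hf₀, ← Category.assoc, comp_lift, htr, lift_fst_assoc, lift_snd_assoc]
    let i : Q.X ⟶ G := f₀⁻¹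
    have hi : ∀ {T : Over S} (g : T ⟶ G') (p : T ⟶ Q.X),
        Pi1Tors.dot Q.act g p ≫ i = (p ≫ i) * (g ≫ u)⁻¹ := fun g p => by
      rw [GrpObj.comp_inv, GrpObj.comp_inv, hf, _root_.mul_inv_rev]
    obtain ⟨f, hfdesc⟩ := hQ.desc (i ≫ v) fun T x y _ => by
      obtain ⟨g, hg⟩ := Pi1Tors.exists_dot_eq Q.act Q.isTorsor.1 x y
      rw [← hg, ← Category.assoc, ← Category.assoc, hi, MonObj.mul_comp, GrpObj.inv_comp,
        Pi1Tors.comp_eq_one hex, _root_.inv_one, _root_.mul_one]
    have huniq : ∀ {T : Over S} (x y : T ⟶ Q.X), x ≫ i = y ≫ i → x = y := fun {T} x y h => by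
      obtain ⟨g, rfl⟩ := Pi1Tors.exists_dot_eq Q.act Q.isTorsor.1 x y
      rw [hi, _root_.mul_eq_left, _root_.inv_eq_one] at h
      rw [Pi1Tors.u_injective hex (g := g) (g' := 1) (h.trans (MonObj.one_comp u).symm), Pi1Tors.one_dot]
    have hex' : ∀ {T : Over S} (y : T ⟶ G), y ≫ v = toUnit T ≫ f → ∃ p : T ⟶ Q.X, p ≫ i = y := by
      intro T y hy
      have hv : (snd T Q.X ≫ i) ≫ v = (fst T Q.X ≫ y) ≫ v := by
        rw [Category.assoc, ← hfdesc, ← Category.assoc, Category.assoc (fst T Q.X), hy, ← Category.assoc]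
        congr 1
        exact toUnit_unique _ _
      obtain ⟨g, hg⟩ := Pi1Tors.exists_translate hex _ _ hv
      have hp : Pi1Tors.dot Q.act g⁻¹ (snd T Q.X) ≫ i = fst T Q.X ≫ y := by
        rw [hi, GrpObj.inv_comp, _root_.inv_inv, ← hg]
      obtain ⟨p, hp'⟩ := (hQ.fst T).desc (Pi1Tors.dot Q.act g⁻¹ (snd T Q.X)) fun T' x x' h => huniq _ _ (by
        rw [Category.assoc, Category.assoc, hp, ← Category.assoc, ← Category.assoc, h])
      exact ⟨p, (hQ.fst T).cancel (by rw [← Category.assoc, hp', hp])⟩
    refine ⟨f, i, hex.1, hex.2.1, ⟨⟨hfdesc.symm⟩, ⟨PullbackCone.IsLimit.mk hfdesc.symm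
      (fun c => (hex' c.fst (c.condition.trans (congrArg (· ≫ f) (toUnit_unique _ _)))).choose)
      (fun c => (hex' c.fst (c.condition.trans (congrArg (· ≫ f) (toUnit_unique _ _)))).choose_spec)
      (fun c => toUnit_unique _ _)
      (fun c m hm _ => huniq _ _ (hm.trans
        (hex' c.fst (c.condition.trans (congrArg (· ≫ f) (toUnit_unique _ _)))).choose_spec.symm))⟩⟩, ?_⟩
    intro T g p
    rw [← Category.assoc]
    exact hi g p
  · rintro ⟨f, i, -, -, -, hi⟩
    refine ⟨i⁻¹, ?_⟩
    rw [htr, GrpObj.comp_inv, GrpObj.comp_inv, Pi1Tors.act_eq_dot, Pi1Tors.dot, Category.assoc,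
      hi, _root_.mul_inv_rev, _root_.inv_inv]

end Groth.Agent.S6009
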