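import Groth.Statements.S6010
import Groth.Agent.Pi1Tors.Points

set_option autoImplicit false
set_option backward.isDefEq.respectTransparency false
set_option backward.defeqAttrib.useBackward true
set_option linter.style.haveILetI false
universe u
open CategoryTheory AlgebraicGeometry MonoidalCategory CartesianMonoidalCategory MonObj GrpObj
open SGA1

open CategoryTheory.Limits

namespace Groth.Agent.S6010

/-- Exactness of the cohomology sequence at H^1(S, G): let u : G' → G and v : G → G'' be homomorphisms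
of affine commutative S-groups forming a sequence 1 → G' → G → G'' → 1 which is exact for the fpqc
topology, and let P be a principal homogeneous bundle under G (fpqc torsor). Then the bundle deduced
from P by extension of the structure group along v is trivial, in the sense that P admits a
v-equivariant S-morphism to G'' acting on itself by left translation, if and only if P comes from
G': there is a principal homogeneous bundle Q under G' with a u-equivariant S-morphism Q → P. -/
theorem result {S : Scheme.{u}}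
    {G G' G'' : Over S} [GrpObj G] [GrpObj G'] [GrpObj G'']
    [IsCommMonObj G] [IsCommMonObj G'] [IsCommMonObj G'']
    [IsAffineHom G.hom] [IsAffineHom G'.hom] [IsAffineHom G''.hom]
    (u : G' ⟶ G) (v : G ⟶ G'') (hex : NonAbH1.IsExactSeq Scheme.fpqcPrecoverage u v)
    (P : NonAbH1.TorsorSch G Scheme.fpqcPrecoverage) :
    NonAbH1.IsPushforwardAlongSch v P.act (NonAbH1.trivialAction G'') ↔
      ∃ Q : NonAbH1.TorsorSch G' Scheme.fpqcPrecoverage, NonAbH1.IsPushforwardAlongSch u Q.act P.act := by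
  haveI := hex.1
  haveI := hex.2.1
  have htr : ∀ {T : Over S} (g x : T ⟶ G''), lift g x ≫ (NonAbH1.trivialAction G'').act = g * x :=
    fun g x => (Hom.mul_def g x).symm
  constructor
  · rintro ⟨f₀, hf₀⟩
    have hf : ∀ {T : Over S} (g : T ⟶ G) (p : T ⟶ P.X),
        Pi1Tors.dot P.act g p ≫ f₀ = (g ≫ v) * (p ≫ f₀) := fun g p => by
      rw [Pi1Tors.dot, Category.assoc, hf₀, ← Category.assoc, comp_lift, htr, lift_fst_assoc, lift_snd_assoc]
    let Q : Over S := pullback f₀ η[G'']
    let q : Q ⟶ P.X := pullback.fst f₀ η[G'']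
    have hq : ∀ {T : Over S} (x : T ⟶ Q), (x ≫ q) ≫ f₀ = 1 := fun x => by
      rw [Category.assoc, pullback.condition, ← Category.assoc, Hom.one_def]
      congr 1
      exact toUnit_unique _ _
    have hqlift : ∀ {T : Over S} (p : T ⟶ P.X), p ≫ f₀ = 1 → ∃ x : T ⟶ Q, x ≫ q = p := fun {T} p hp =>
      ⟨pullback.lift p (toUnit T) (hp.trans Hom.one_def), pullback.lift_fst _ _ _⟩
    have hqinj : ∀ {T : Over S} {x y : T ⟶ Q}, x ≫ q = y ≫ q → x = y := fun h =>
      pullback.hom_ext h (toUnit_unique _ _)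
    have hact : (Pi1Tors.dot P.act (fst G' Q ≫ u) (snd G' Q ≫ q)) ≫ f₀ = 1 := by
      rw [hf, Pi1Tors.comp_eq_one hex, _root_.one_mul, hq]
    obtain ⟨m, hm⟩ := hqlift _ hact
    have hm' : ∀ {T : Over S} (g : T ⟶ G') (x : T ⟶ Q),
        (lift g x ≫ m) ≫ q = Pi1Tors.dot P.act (g ≫ u) (x ≫ q) := fun g x => by
      rw [Category.assoc, hm, Pi1Tors.comp_dot, lift_fst_assoc, lift_snd_assoc]
    let a : AlgGrp.Action G' Q :=
      { act := m
        one_act := hqinj (by
          have : (η[G'] ▷ Q) = lift (1 : 𝟙_ (Over S) ⊗ Q ⟶ G') (snd _ Q) := by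
            apply CartesianMonoidalCategory.hom_ext
            · rw [lift_fst, whiskerRight_fst, Hom.one_def]; exact congrArg (· ≫ η[G']) (toUnit_unique _ _)
            · rw [lift_snd, whiskerRight_snd]
          rw [this, hm', MonObj.one_comp, Pi1Tors.one_dot, leftUnitor_hom])
        mul_act := hqinj (by
          have e1 : (μ[G'] ▷ Q) = lift ((fst (G' ⊗ G') Q ≫ fst G' G') * (fst (G' ⊗ G') Q ≫ snd G' G'))
              (snd (G' ⊗ G') Q) := by
            apply CartesianMonoidalCategory.hom_ext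
            · rw [lift_fst, whiskerRight_fst, Hom.mul_def, ← comp_lift, lift_fst_snd, Category.comp_id]
            · rw [lift_snd, whiskerRight_snd]
          have e2 : (α_ G' G' Q).hom ≫ (G' ◁ m) = lift (fst (G' ⊗ G') Q ≫ fst G' G')
              (lift (fst (G' ⊗ G') Q ≫ snd G' G') (snd (G' ⊗ G') Q) ≫ m) := by
            apply CartesianMonoidalCategory.hom_ext
            · rw [lift_fst, Category.assoc, whiskerLeft_fst, associator_hom_fst]
            · rw [lift_snd, Category.assoc, whiskerLeft_snd, ← Category.assoc]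
              congr 1
              apply CartesianMonoidalCategory.hom_ext <;> simp
          rw [e1, hm', MonObj.mul_comp, Pi1Tors.mul_dot, ← Category.assoc (α_ G' G' Q).hom, e2, hm', hm']) }
    have ha : ∀ {T : Over S} (g : T ⟶ G') (x : T ⟶ Q),
        Pi1Tors.dot a g x ≫ q = Pi1Tors.dot P.act (g ≫ u) (x ≫ q) := hm'
    have hkill : ∀ {T : Over S} {x y : T ⟶ P.X} {g : T ⟶ G}, Pi1Tors.dot P.act g y = x →
        g ≫ v = (x ≫ f₀) * (y ≫ f₀)⁻¹ := fun {T x y g} h => by
      rw [← h, hf, _root_.mul_inv_cancel_right]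
    have hps : NonAbH1.IsPseudoTorsorSch a := by
      refine Pi1Tors.isPseudoTorsor_of_points a (fun T x y => ?_) fun T g g' x h => ?_
      · obtain ⟨g, hg⟩ := Pi1Tors.exists_dot_eq P.act P.isTorsor.1 (x ≫ q) (y ≫ q)
        have hgv := hkill hg
        rw [hq, hq, _root_.inv_one, _root_.mul_one] at hgv
        obtain ⟨k, hk⟩ := Pi1Tors.exists_translate hex 1 g (by rw [hgv, MonObj.one_comp])
        rw [_root_.one_mul] at hk
        exact ⟨k, hqinj (by rw [ha, ← hk, hg])⟩
      · exact Pi1Tors.u_injective hex (Pi1Tors.dot_cancel P.act P.isTorsor.1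
          (x := x ≫ q) (by rw [← ha, ← ha, h]))
    have hloc : NonAbH1.IsLocallyTrivialFor Scheme.fpqcPrecoverage Q := by
      obtain ⟨R, hR, hsec⟩ := P.isTorsor.2
      obtain ⟨I, Y, j, rfl⟩ := R.exists_eq_ofArrows
      obtain ⟨R', hR', hsec'⟩ := hex.2.2.2.2
      obtain ⟨K, Z, k, rfl⟩ := R'.exists_eq_ofArrows
      choose p hp using fun i => hsec (j i) (Presieve.ofArrows.mk i)
      choose t ht using fun l => hsec' (k l) (Presieve.ofArrows.mk l)
      let z : ∀ i, Y i ⟶ G''.left := fun i => p i ≫ f₀.left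
      refine ⟨_, Precoverage.comp_mem_coverings j hR (fun i l => pullback.fst (z i) (k l))
        (fun i => Precoverage.mem_coverings_of_isPullback k hR' (z i) _ (fun l => pullback.snd (z i) (k l))
          fun l => IsPullback.of_hasPullback (z i) (k l)), ?_⟩
      rintro S' f ⟨⟨i, l⟩⟩
      let e : pullback (z i) (k l) ⟶ S := pullback.fst (z i) (k l) ≫ j i
      let T : Over S := Over.mk e
      let x : T ⟶ P.X := Over.homMk (pullback.fst (z i) (k l) ≫ p i) (by
        rw [Category.assoc, hp]; rfl)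
      let g : T ⟶ G := Over.homMk (pullback.snd (z i) (k l) ≫ t l) (by
        have h1 : v.left ≫ G''.hom = G.hom := Over.w v
        have h2 : t l ≫ v.left = k l := ht l
        have h3 : f₀.left ≫ G''.hom = P.X.hom := Over.w f₀
        rw [← h1, Category.assoc, ← Category.assoc (t l), h2, ← Category.assoc, ← pullback.condition,
          Category.assoc, Category.assoc, h3, hp]
        rfl)
      have hgx : g ≫ v = x ≫ f₀ := by
        refine Over.OverMorphism.ext ?_
        change (pullback.snd (z i) (k l) ≫ t l) ≫ v.left = (pullback.fst (z i) (k l) ≫ p i) ≫ f₀.left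
        rw [Category.assoc, show t l ≫ v.left = k l from ht l, ← pullback.condition, Category.assoc]
      obtain ⟨x', hx'⟩ := hqlift (Pi1Tors.dot P.act g⁻¹ x) (by
        rw [hf, GrpObj.inv_comp, hgx, _root_.inv_mul_cancel])
      exact ⟨x'.left, Over.w x'⟩
    refine ⟨⟨Q, a, hps, hloc⟩, q, ?_⟩
    exact (hm.trans (by rfl) : m ≫ q = _)
  · rintro ⟨Q, q, hq₀⟩
    have hq : ∀ {T : Over S} (g : T ⟶ G') (x : T ⟶ Q.X),
        Pi1Tors.dot Q.act g x ≫ q = Pi1Tors.dot P.act (g ≫ u) (x ≫ q) := fun g x => by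
      rw [Pi1Tors.dot, Category.assoc, hq₀, ← Category.assoc, comp_lift, lift_fst_assoc, lift_snd_assoc]
      rfl
    have hQ := Pi1Tors.locSurj_toUnit Q.isTorsor.2
    obtain ⟨d, hd⟩ := Pi1Tors.exists_dot_eq P.act P.isTorsor.1 (fst P.X Q.X) (snd P.X Q.X ≫ q)
    have hd' : ∀ {T : Over S} (z : T ⟶ P.X ⊗ Q.X),
        Pi1Tors.dot P.act (z ≫ d) ((z ≫ snd _ _) ≫ q) = z ≫ fst _ _ := fun z => by
      rw [Category.assoc, ← Pi1Tors.comp_dot, hd]
    obtain ⟨f, hf⟩ := (hQ.fst P.X).desc (d ≫ v) fun T x y h => by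
      obtain ⟨k, hk⟩ := Pi1Tors.exists_dot_eq Q.act Q.isTorsor.1 (x ≫ snd _ _) (y ≫ snd _ _)
      have h1 := hd' x
      rw [← hk, hq, ← Pi1Tors.mul_dot, h, ← hd' y] at h1
      rw [← Category.assoc, ← Category.assoc, ← Pi1Tors.dot_cancel P.act P.isTorsor.1 h1,
        MonObj.mul_comp, Pi1Tors.comp_eq_one hex, _root_.mul_one]
    refine ⟨f, ?_⟩
    rw [htr]
    apply (hQ.fst (G ⊗ P.X)).cancel
    have key : ∀ {T : Over S} (p : T ⟶ P.X) (x : T ⟶ Q.X), p ≫ f = (lift p x ≫ d) ≫ v := fun p x => by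
      rw [Category.assoc, ← hf, ← Category.assoc, lift_fst]
    rw [MonObj.comp_mul, ← Category.assoc, ← Category.assoc, ← Category.assoc,
      key _ (snd (G ⊗ P.X) Q.X), key (fst (G ⊗ P.X) Q.X ≫ snd G P.X) (snd (G ⊗ P.X) Q.X),
      ← MonObj.mul_comp]
    congr 1
    refine Pi1Tors.dot_cancel P.act P.isTorsor.1 (x := snd (G ⊗ P.X) Q.X ≫ q) ?_
    have h2 := hd' (lift (fst (G ⊗ P.X) Q.X ≫ P.act.act) (snd (G ⊗ P.X) Q.X))
    have h3 := hd' (lift (fst (G ⊗ P.X) Q.X ≫ snd G P.X) (snd (G ⊗ P.X) Q.X))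
    simp only [lift_fst, lift_snd] at h2 h3
    rw [h2, Pi1Tors.mul_dot, h3, Pi1Tors.act_eq_dot, Pi1Tors.comp_dot]

end Groth.Agent.S6010
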