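import Groth.Statements.S6019
import Groth.Agent.CategoryFibred.Clv

set_option autoImplicit false
open CategoryTheory
universe v₁ v₂ u₁ u₂
open FibCat FibCat.Cleavage

namespace Groth.Agent.S6019
/-- A cartesian lift which is the identity over identities. -/
noncomputable def choice {𝒮 : Type u₁} {𝒳 : Type u₂} [Category.{v₁} 𝒮] [Category.{v₂} 𝒳]
    (p : 𝒳 ⥤ 𝒮) [p.IsPreFibered] {R S : 𝒮} {a : 𝒳} (ha : p.obj a = S) (f : R ⟶ S) :
    Σ b : 𝒳, { φ : b ⟶ a // p.IsCartesian f φ } :=
  open scoped Classical in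
  if h : ∃ e : R = S, f = eqToHom e then
    ⟨a, 𝟙 a, by
      obtain ⟨rfl, rfl⟩ := h
      have : p.IsHomLift (eqToHom (rfl : R = R)) (𝟙 a) := IsHomLift.id ha
      infer_instance⟩
  else ⟨_, Functor.IsPreFibered.pullbackMap ha f, inferInstance⟩

lemma choice_id {𝒮 : Type u₁} {𝒳 : Type u₂} [Category.{v₁} 𝒮] [Category.{v₂} 𝒳]
    (p : 𝒳 ⥤ 𝒮) [p.IsPreFibered] {S : 𝒮} {a : 𝒳} (ha : p.obj a = S) :
    ∃ h : (choice p ha (𝟙 S)).1 = a, (choice p ha (𝟙 S)).2.1 = eqToHom h := by
  have e : ∃ e : S = S, 𝟙 S = eqToHom e := ⟨rfl, rfl⟩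
  unfold choice
  rw [dif_pos e]
  exact ⟨rfl, rfl⟩


/-- A pre-fibred category admits a normalised cleavage: if every base morphism `R ⟶ p(a)` has a
cartesian morphism over it with target `a`, then one cartesian lift can be chosen for every base
morphism at every object over its target in such a way that the chosen lift of each identity `𝟙 S`
at each object `a` over `S` is the identity of `a` (identities are transport morphisms). -/
theorem result (𝒮 : Type u₁) (𝒳 : Type u₂) [Category.{v₁} 𝒮] [Category.{v₂} 𝒳]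
    (p : 𝒳 ⥤ 𝒮) [p.IsPreFibered] : ∃ K : FibCat.Cleavage p, K.IsNormalised := by
  exact ⟨{ obj := fun ha f => (choice p ha f).1
           lift := fun ha f => (choice p ha f).2.1
           isCartesian := fun ha f => (choice p ha f).2.2 },
    fun S a ha => choice_id p ha⟩

end Groth.Agent.S6019
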