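import Groth.Statements.S6033
import Groth.Agent.KoszulCone.SupportsCase
-- import your own Groth.Agent.* helpers here

set_option autoImplicit false
universe u
open CategoryTheory CategoryTheory.Limits TopologicalSpace AlgebraicGeometry
open LocCohZ

namespace Groth.Agent.S6033

/-- Let A be a commutative ring such that the underlying space of X = Spec A is Noetherian. Then M~ is
flasque for every injective A-module M if and only if colim_n H^1(f^n, M) = 0 (direct limit of
Koszul cohomology of the powers) for every finite family f of elements of A and every injective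
A-module M; and in that case colim_n H^i(f^n, M) = 0 for all i > 0 as well. -/
theorem result (A : Type u) [CommRing A]
    [NoetherianSpace (PrimeSpectrum A)] :
    ((∀ (M : Type u) [AddCommGroup M] [Module A M], Module.Injective A M →
        TopCat.Sheaf.IsFlasque (Coh.toAb (AlgebraicGeometry.tilde (R := CommRingCat.of A) (ModuleCat.of A M)))) ↔
      ∀ (fs : List A) (M : Type u) [AddCommGroup M] [Module A M], Module.Injective A M →
        Subsingleton (CohIII.koszulHLim fs (ModuleCat.of A M) 1)) ∧
    ((∀ (M : Type u) [AddCommGroup M] [Module A M], Module.Injective A M →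
        TopCat.Sheaf.IsFlasque (Coh.toAb (AlgebraicGeometry.tilde (R := CommRingCat.of A) (ModuleCat.of A M)))) →
      ∀ (fs : List A) (M : Type u) [AddCommGroup M] [Module A M], Module.Injective A M →
        ∀ i : ℕ, 0 < i → Subsingleton (CohIII.koszulHLim fs (ModuleCat.of A M) i)) := by
  refine ⟨⟨fun h fs M _ _ hM => ?_, fun h M _ _ hM => ?_⟩, fun h fs M _ _ hM i hi => ?_⟩
  · obtain ⟨e⟩ := Groth.KoszulCone.nonempty_koszulHLim_equiv_HZM (ModuleCat.of A M) fs 1
    have := h M hM
    have := Groth.LocCohZBase.subsingleton_HZ_succ_of_flasque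
      (Coh.toAb (tilde (R := CommRingCat.of A) (ModuleCat.of A M)))
      (le_top : LocCoh.puncturedOpen A (Ideal.span {a | a ∈ fs}) ≤ ⊤) 0
    exact e.toEquiv.subsingleton
  · refine Groth.LocCohZBase.isFlasque_of_subsingleton_one _ fun U => ?_
    obtain ⟨s, hs, hU⟩ := (NoetherianSpace.isCompact (α := PrimeSpectrum A) U.carrier).elim_finite_subcover_image
        (b := {g : A | (PrimeSpectrum.basicOpen g : Set (PrimeSpectrum A)) ⊆ U.carrier})
        (c := fun g : A => (PrimeSpectrum.basicOpen g : Set (PrimeSpectrum A)))
        (fun g _ => (PrimeSpectrum.basicOpen g).2)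
        (fun x hx => by
          obtain ⟨_, ⟨g, rfl⟩, hxg, hgU⟩ :=
            PrimeSpectrum.isTopologicalBasis_basic_opens.exists_subset_of_mem_open hx U.2
          exact Set.mem_biUnion (x := g) hgU hxg)
    obtain ⟨e⟩ := Groth.KoszulCone.nonempty_koszulHLim_equiv_HZM (ModuleCat.of A M) hU.1.toFinset.toList 1
    have := h hU.1.toFinset.toList M hM
    have key : LocCoh.puncturedOpen A (Ideal.span {a | a ∈ hU.1.toFinset.toList}) = U := by
      refine Opens.ext (Set.ext fun (x : PrimeSpectrum A) => ?_)
      show x ∉ PrimeSpectrum.zeroLocus _ ↔ x ∈ (U.carrier : Set (PrimeSpectrum A))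
      rw [PrimeSpectrum.zeroLocus_span, PrimeSpectrum.mem_zeroLocus, Set.not_subset]
      constructor
      · rintro ⟨g, hg, hx⟩
        exact hs (by simpa using hg) hx
      · intro hx
        obtain ⟨g, hg, hxg⟩ := Set.mem_iUnion₂.1 (hU.2 hx)
        exact ⟨g, by simpa using hg, hxg⟩
    rw [key] at e
    exact e.symm.toEquiv.subsingleton
  · obtain ⟨e⟩ := Groth.KoszulCone.nonempty_koszulHLim_equiv_HZM (ModuleCat.of A M) fs i
    obtain ⟨j, rfl⟩ := Nat.exists_eq_add_of_le' hi
    have := h M hM
    have := Groth.LocCohZBase.subsingleton_HZ_succ_of_flasque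
      (Coh.toAb (tilde (R := CommRingCat.of A) (ModuleCat.of A M)))
      (le_top : LocCoh.puncturedOpen A (Ideal.span {a | a ∈ fs}) ≤ ⊤) j
    exact e.toEquiv.subsingleton

end Groth.Agent.S6033
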