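import Groth.Statements.S6034
import Groth.Agent.LocCohZBase.AffineDepth

set_option autoImplicit false
universe u
open CategoryTheory CategoryTheory.Limits TopologicalSpace AlgebraicGeometry
open LocCohZ

namespace Groth.Agent.S6034

/-- Let X be a locally Noetherian scheme, Y a closed subset with open complement U, M a coherent
O_X-module with underlying abelian sheaf F and n a natural number. Then ℋ^i_Y(F) = 0 for all i < n
if and only if depth M_x ≥ n for every x ∈ Y. -/
theorem result (X : Scheme.{u}) [IsLocallyNoetherian X] (U : X.Opens)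
    (M : X.Modules) (hM : Coh.IsCoh M) (n : ℕ) :
    (∀ i : ℕ, i < n → IsZero ((LocCohZ.HZsh (X := X.carrier) U i).obj (Coh.toAb M))) ↔
      ∀ x : X, x ∉ (U : Set X) →
        (n : ℕ∞) ≤ LocCoh.depth (X.presheaf.stalk x) (M.presheaf.stalk x) := by
  have : M.IsQuasicoherent := hM.1
  constructor
  · intro h x hxU
    obtain ⟨V, hV, hxV, -⟩ :=
      Opens.isBasis_iff_nbhd.mp X.isBasis_affineOpens (TopologicalSpace.Opens.mem_top x)
    refine (Groth.LocCohZBase.subsingleton_iff_depth_image M U hM.2 V hV n).1 ?_ x hxV hxU
    exact fun i hi =>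
      (Groth.LocCohZBase.isZero_iff_subsingleton (X := X.toTopCat) U (Coh.toAb M) n).1 h V i hi
  · intro h i hi
    rw [Groth.LocCohZBase.isZero_iff_locVanish]
    exact Groth.LocCohZBase.locVanish_of_affine U (Coh.toAb M) i fun V hV =>
      (Groth.LocCohZBase.subsingleton_iff_depth_image M U hM.2 V hV n).2
        (fun x _ hxU => h x hxU) i hi

end Groth.Agent.S6034
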