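import Groth.Statements.S6037
import Groth.Agent.LocCohZBase.SpectralSeq

set_option autoImplicit false
universe u
open CategoryTheory CategoryTheory.Limits TopologicalSpace
open LocCohZ

namespace Groth.Agent.S6037

/-- Let f : X → Y be a continuous map of topological spaces, Y' a closed subset of Y with open
complement V, X' = f⁻¹(Y') and F an abelian sheaf on X. There is an E₂ spectral sequence of abelian
groups with E₂^{p,q} ≅ H^p_{Y'}(Y, R^q f_* F) for p, q ≥ 0 (0 otherwise), bounded, abutting with
finite filtrations to H^n_{X'}(X, F). (The published statement is for a morphism of ringed spaces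
and records module structures over the global sections of O_Y; here only abelian groups. Existence
only: the E₂ identifications and abutment isomorphisms are some isomorphisms, not the canonical
ones.) -/
theorem result {X Y : TopCat.{u}} (f : X ⟶ Y)
    (V : Opens Y) (F : CohTop.Ab X) :
    ∃ (E : E₂CohomologicalSpectralSequence AddCommGrpCat.{u})
      (a : SpSeq.Abutment E (fun n : ℤ =>
        if 0 ≤ n then AddCommGrpCat.of (LocCohZ.HZc F n.toNat ((Opens.map f).obj V))
          else AddCommGrpCat.of PUnit.{u + 1})),
      (∀ n : ℤ, a.IsFinite n) ∧ SpSeq.IsBounded E ∧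
      ∀ p q : ℤ, Nonempty ((E.page 2 le_rfl).X (p, q) ≅
        (if 0 ≤ p ∧ 0 ≤ q then AddCommGrpCat.of (LocCohZ.HZc ((CohTop.Rpush f q.toNat).obj F) p.toNat V)
          else AddCommGrpCat.of PUnit.{u + 1})) := by
  have := Groth.LocCohZBase.preservesFiniteLimits_gammaZF V
  refine Groth.Misc7.GSS.exists_composite (CohTop.push f) (LocCohZ.gammaZF V) (fun Q hQ q => ?_) F _
    (fun n => ?_) (fun n hn => ?_) (fun p q => if 0 ≤ p ∧ 0 ≤ q then
        AddCommGrpCat.of (LocCohZ.HZc ((CohTop.Rpush f q.toNat).obj F) p.toNat V)
      else AddCommGrpCat.of PUnit.{u + 1}) (fun p q => ?_) (fun p q h => ?_)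
  · have := @Groth.SiteCohomology.injective_push X Q hQ Y f
    exact Functor.isZero_rightDerived_obj_injective_succ _ q _
  · obtain ⟨e⟩ := Groth.LocCohZBase.nonempty_rightDerived_push_gamma f V F n
    exact ⟨e ≪≫ eqToIso (by simp)⟩
  · simp only [not_le.2 hn, if_false]; exact AddCommGrpCat.isZero_of_subsingleton _
  · obtain ⟨e⟩ := Groth.LocCohZBase.nonempty_RHZ_iso_HZc V ((CohTop.Rpush f q).obj F) p
    exact ⟨e ≪≫ eqToIso (by simp)⟩
  · simp only [h, if_false]; exact AddCommGrpCat.isZero_of_subsingleton _

end Groth.Agent.S6037
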