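import Groth.Statements.S6038
import Groth.Agent.LocCohZBase.AffineDepth
import Groth.Agent.LocCohBase.CdLocal

set_option autoImplicit false
universe u
open CategoryTheory CategoryTheory.Limits TopologicalSpace AlgebraicGeometry
open LocCohZ

namespace Groth.Agent.S6038

/-- In the case F = O_X (where Ext^i_Y(O_X, G) is the local cohomology sheaf ℋ^i_Y(G)). Let X be a
locally Noetherian scheme whose local rings are all regular, Y a closed subset with open complement
U, G a coherent O_X-module with underlying abelian sheaf F, and i a natural number with dim O_{X,x}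
< i for every x ∈ Y. Then ℋ^i_Y(F) = 0. -/
theorem result (X : Scheme.{u}) [IsLocallyNoetherian X]
    (hreg : ∀ x : X, IsRegularLocalRing (X.presheaf.stalk x)) (U : X.Opens) (G : X.Modules) (hG : Coh.IsCoh G)
    (i : ℕ) (hi : ∀ x : X, x ∉ (U : Set X) → ringKrullDim (X.presheaf.stalk x) < (i : WithBot ℕ∞)) :
    IsZero ((LocCohZ.HZsh (X := X.carrier) U i).obj (Coh.toAb G)) := by
  have : G.IsQuasicoherent := hG.1
  rw [Groth.LocCohZBase.isZero_iff_locVanish]
  refine Groth.LocCohZBase.locVanish_of_affine U (Coh.toAb G) i fun V hV => ?_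
  have hA : IsAffineOpen (V.ι ''ᵁ ⊤) := by rwa [Scheme.Opens.ι_image_top]
  obtain ⟨I, key, hI⟩ := Groth.LocCohZBase.exists_localCoh_model G U V hV hA
  rw [hI]
  have : IsNoetherianRing Γ(X, V.ι ''ᵁ ⊤) :=
    IsLocallyNoetherian.component_noetherian (X := X) ⟨V.ι ''ᵁ ⊤, hA⟩
  have hdim : ∀ p : PrimeSpectrum Γ(X, V.ι ''ᵁ ⊤), I ≤ p.asIdeal →
      (p.asIdeal.height : WithBot ℕ∞) < (i : WithBot ℕ∞) := by
    intro p hp
    obtain ⟨⟨x, hx⟩, rfl⟩ : ∃ y, hA.primeIdealOf y = p :=
      (Scheme.Hom.homeomorph hA.isoSpec.hom).surjective p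
    let _ := TopCat.Presheaf.algebra_section_stalk X.presheaf ⟨x, hx⟩
    have : IsLocalization.AtPrime (X.presheaf.stalk x) (hA.primeIdealOf ⟨x, hx⟩).asIdeal :=
      hA.isLocalization_stalk ⟨x, hx⟩
    rw [← IsLocalization.AtPrime.ringKrullDim_eq_height _ (X.presheaf.stalk x)]
    exact hi x fun hxU => (key x hx).1 hxU hp
  cases i with
  | zero =>
    have hItop : I = ⊤ := by
      by_contra hne
      obtain ⟨m, hm, hle⟩ := Ideal.exists_le_maximal I hne
      have h0 := hdim ⟨m, hm.isPrime⟩ hle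
      rw [Nat.cast_zero] at h0
      exact not_le.2 h0 (WithBot.coe_le_coe.2 zero_le)
    subst hItop
    exact Groth.LocCohBase.subsingleton_H_top 0 _
  | succ d =>
    refine Groth.LocCohBase.cdLE_of_localized (I := I) (d := d) (fun p _ => ?_) _ _ (Nat.lt_succ_self d)
    by_cases hp : I ≤ p
    · refine Groth.LocCohBase.cdLE_of_dim_le_local _ d ?_
      rw [IsLocalization.AtPrime.ringKrullDim_eq_height p]
      have h1 := hdim ⟨p, inferInstance⟩ hp
      have h2 : p.height < ((d + 1 : ℕ) : ℕ∞) := WithBot.coe_lt_coe.1 h1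
      exact WithBot.coe_le_coe.2 (Order.le_of_lt_add_one h2)
    · intro N _ _ j _
      obtain ⟨a, haI, hap⟩ := SetLike.not_le_iff_exists.1 hp
      have e : I.map (algebraMap Γ(X, V.ι ''ᵁ ⊤) (Localization.AtPrime p)) = ⊤ :=
        Ideal.eq_top_of_isUnit_mem _ (Ideal.mem_map_of_mem _ haI)
          (IsLocalization.map_units _ (⟨a, hap⟩ : p.primeCompl))
      rw [e]
      exact Groth.LocCohBase.subsingleton_H_top j N

end Groth.Agent.S6038
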