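import Groth.Statements.S6039
import Groth.Agent.S6034
import Groth.Agent.KoszulCone.SupportsCase

set_option autoImplicit false
universe u
open CategoryTheory CategoryTheory.Limits TopologicalSpace AlgebraicGeometry Opposite
open LocCohZ

namespace Groth.Agent.S6039

/-- Let X be a locally Noetherian scheme, Y a closed subset with open complement U and M a coherent
O_X-module. Then depth M_x ≥ 2 for every x ∈ Y if and only if, for every open V of X, the
restriction map Γ(V, M) → Γ(V ∩ U, M) is bijective. -/
theorem result (X : Scheme.{u}) [IsLocallyNoetherian X] (U : X.Opens)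
    (M : X.Modules) (hM : Coh.IsCoh M) :
    (∀ x : X, x ∉ (U : Set X) → (2 : ℕ∞) ≤ LocCoh.depth (X.presheaf.stalk x) (M.presheaf.stalk x)) ↔
      ∀ V : X.Opens, Function.Bijective (M.val.map (homOfLE (inf_le_left : V ⊓ U ≤ V)).op).hom := by
  refine (Groth.Agent.S6034.result X U M hM 2).symm.trans ?_
  have key : ∀ V : X.Opens,
      Function.Bijective (CohTop.res (X := X.toTopCat) (Coh.toAb M) 0 (inf_le_left : V ⊓ U ≤ V)) ↔
        Function.Bijective (M.val.map (homOfLE (inf_le_left : V ⊓ U ≤ V)).op).hom := by
    intro V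
    have e : (M.val.map (homOfLE (inf_le_left : V ⊓ U ≤ V)).op).hom ∘
        Groth.KoszulCone.huEquiv (T := X.toTopCat) (Coh.toAb M) V =
        Groth.KoszulCone.huEquiv (T := X.toTopCat) (Coh.toAb M) (V ⊓ U) ∘
          CohTop.res (X := X.toTopCat) (Coh.toAb M) 0 (inf_le_left : V ⊓ U ≤ V) :=
      funext fun x => (Groth.KoszulCone.huEquiv_res (T := X.toTopCat) (Coh.toAb M) inf_le_left x).symm
    refine (Function.Bijective.of_comp_iff'
      (Groth.KoszulCone.huEquiv (T := X.toTopCat) (Coh.toAb M) (V ⊓ U)).bijective _).symm.trans ?_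
    exact (iff_of_eq (congrArg Function.Bijective e.symm)).trans
      (Function.Bijective.of_comp_iff _ (Groth.KoszulCone.huEquiv (T := X.toTopCat) (Coh.toAb M) V).bijective)
  constructor
  · intro h V
    exact (key V).1 (((Groth.LocCohZBase.isZero_iff_res_bijective (X := X.toTopCat) U (Coh.toAb M) 1).1
      (fun i hi => h i (by omega)) V).1 0 Nat.one_pos)
  · intro h i hi
    refine Groth.LocCohZBase.isZero_of_res_bijective (X := X.toTopCat) U (Coh.toAb M) 1 Nat.one_pos
      (fun V j hj => ?_) i (by omega)
    obtain rfl : j = 0 := by omega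
    exact (key V).2 (h V)

end Groth.Agent.S6039
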