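import Groth.Statements.S6041
import Groth.Agent.Calg4.QuotRep

set_option autoImplicit false
open CategoryTheory CategoryTheory.Limits AlgebraicGeometry MonoidalCategory
universe u
open GrpQ

namespace Groth.Agent.S6041

open CartesianMonoidalCategory in
/-- For schemes and the fppf topology, easy direction: let `s, t : R ⇉ U` be a pair of morphisms of
schemes over `S` (in the source an equivalence relation), `T` a scheme over `S` and `i : Z ⟶ U ×_S
T` such that `Z ⟶ T` is flat, surjective and locally of finite presentation and any two points of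
`Z` over the same point of `T` have `R`-related images in `U`. Then the composite `h_Z ⟶ h_U ⟶ U/R`
descends to exactly one section of the fppf quotient sheaf `U/R` over `T`. -/
theorem result {S : Scheme.{u}} {R U : Over S} (s t : R ⟶ U)
    (T Z : Over S) (i : Z ⟶ U ⊗ T)
    [Flat (i ≫ snd U T).left] [Surjective (i ≫ snd U T).left] [LocallyOfFinitePresentation (i ≫ snd U T).left]
    (hZZ : ∀ (T' : Over S) (z₁ z₂ : T' ⟶ Z), z₁ ≫ i ≫ snd U T = z₂ ≫ i ≫ snd U T →
      ∃ r : T' ⟶ R, r ≫ s = z₁ ≫ i ≫ fst U T ∧ r ≫ t = z₂ ≫ i ≫ fst U T) :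
    ∃! σ : QuotSh.rep Scheme.fppfPrecoverage T ⟶ QuotSh.quot Scheme.fppfPrecoverage s t,
      QuotSh.repMap Scheme.fppfPrecoverage (i ≫ fst U T) ≫ QuotSh.quotπ Scheme.fppfPrecoverage s t =
        QuotSh.repMap Scheme.fppfPrecoverage (i ≫ snd U T) ≫ σ := by
  let h : Z ⟶ T := i ≫ snd U T
  let F := Groth.QuotSheaf.repFunctor.{u} Scheme.fppfPrecoverage (S := S)
  have hk : IsKernelPair (F.map h) (F.map (pullback.fst h h)) (F.map (pullback.snd h h)) :=
    (IsPullback.of_hasPullback h h).map F
  have he : Epi (F.map h) := Groth.QuotSheaf.epi_repMap h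
  have : IsRegularEpi (F.map h) := IsRegularEpiCategory.regularEpiOfEpi _
  let hc := hk.toCoequalizer'
  obtain ⟨r, hr₁, hr₂⟩ := hZZ _ (pullback.fst h h) (pullback.snd h h) pullback.condition
  have hw : F.map (pullback.fst h h) ≫ F.map (i ≫ fst U T) ≫ QuotSh.quotπ _ s t =
      F.map (pullback.snd h h) ≫ F.map (i ≫ fst U T) ≫ QuotSh.quotπ _ s t := by
    rw [← F.map_comp_assoc, ← F.map_comp_assoc, ← hr₁, ← hr₂, F.map_comp, F.map_comp,
      Category.assoc, Category.assoc]
    exact congrArg (fun k => F.map r ≫ k) (QuotSh.quot_condition _ s t)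
  refine ⟨hc.desc (Cofork.ofπ _ hw), (hc.fac (Cofork.ofπ _ hw) WalkingParallelPair.one).symm,
    fun σ hσ => ?_⟩
  exact (cancel_epi (F.map h)).1
    (hσ.symm.trans (hc.fac (Cofork.ofπ _ hw) WalkingParallelPair.one).symm)

end Groth.Agent.S6041
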