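import Groth.Statements.S6043
import Groth.Agent.S10103
import Groth.Agent.AlgSpBasic.FpqcSheaf

set_option autoImplicit false
open CategoryTheory CategoryTheory.Limits AlgebraicGeometry MonoidalCategory
universe u
open GrpQ

namespace Groth.Agent.S6043

open CartesianMonoidalCategory in
/-- The comparison of topologies, for an equivalence relation of schemes over a base scheme `S` with
closed graph: let `s, t : R ⇉ U` be an equivalence relation of schemes over `S` with `s` flat,
surjective and locally of finite presentation and `(t, s) : R ⟶ U ×_S U` a closed immersion. Then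
the fppf quotient sheaf `U/R` on schemes over `S` satisfies the sheaf condition for the fpqc
topology. (The published statement takes `R ⟶ U` faithfully flat and quasi-compact and says that its
fpqc quotient sheaf is also the quotient for the canonical topology; this row takes `R ⟶ U` flat,
surjective and locally of finite presentation and says that the fppf quotient sheaf is already an
fpqc sheaf.) -/
theorem result {S : Scheme.{u}} {R U : Over S} (s t : R ⟶ U)
    [IsEquivalenceRelation s t]
    [Flat s.left] [Surjective s.left] [LocallyOfFinitePresentation s.left]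
    (hc : IsClosedImmersion (lift t s).left) :
    Presheaf.IsSheaf (QuotSh.J Scheme.fpqcPrecoverage S)
      (QuotSh.quot Scheme.fppfPrecoverage s t).obj := by
  obtain ⟨e⟩ := IsEquivalenceRelation.nonempty_equivalenceRelation (p₁ := s) (p₂ := t)
  have hinj : ∀ (T : Over S) (r r' : T ⟶ R), r ≫ t = r' ≫ t → r ≫ s = r' ≫ s → r = r' :=
    fun T r r' h₁ h₂ => e.right_cancellation r r' h₂ h₁
  have heq : AlgSp.IsEqvRel s t := ⟨hinj, fun T => ⟨
    fun a => ⟨a ≫ e.r, by rw [Category.assoc, e.reflexivity₂, Category.comp_id],
      by rw [Category.assoc, e.reflexivity₁, Category.comp_id]⟩,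
    fun {a b} ⟨r, h₁, h₂⟩ => ⟨r ≫ e.s, by rw [Category.assoc, e.symmetry₂, h₂],
      by rw [Category.assoc, e.symmetry₁, h₁]⟩,
    fun {a b c} ⟨r, h₁, h₂⟩ ⟨r', h₃, h₄⟩ => by
      let k := PullbackCone.IsLimit.lift e.isLimit r' r (h₃.trans h₂.symm)
      exact ⟨k ≫ e.t, by rw [Category.assoc, e.transitivity₂, PullbackCone.IsLimit.lift_snd_assoc, h₁],
        by rw [Category.assoc, e.transitivity₁, PullbackCone.IsLimit.lift_fst_assoc, h₄]⟩⟩⟩
  haveI : IsIso e.s := by
    have h : e.s ≫ e.s = 𝟙 R := e.right_cancellation _ _ (by rw [Category.assoc, e.symmetry₁, e.symmetry₂, Category.id_comp]) (by rw [Category.assoc, e.symmetry₂, e.symmetry₁, Category.id_comp])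
    exact ⟨e.s, h, h⟩
  haveI : IsIso e.s.left := inferInstanceAs (IsIso ((Over.forget S).map e.s))
  have ht : t.left = e.s.left ≫ s.left := by rw [← Over.comp_left, e.symmetry₁]
  haveI : Flat t.left := by rw [ht]; infer_instance
  haveI : LocallyOfFinitePresentation t.left := by rw [ht]; infer_instance
  have hX := Groth.Agent.S10103.result S s t heq
  exact (isSheaf_iff_isSheaf_of_type _ _).2 (Groth.AlgSpBasic.isSheaf_fpqc hX)

end Groth.Agent.S6043
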