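import Groth.Statements.S6047
import Groth.Agent.ShfCat.GrpQuot

set_option autoImplicit false
open CategoryTheory CategoryTheory.Limits MonoidalCategory
universe w v₁ u₁
open ShfCat

namespace Groth.Agent.S6047

open MonObj CartesianMonoidalCategory SemiCartesianMonoidalCategory in
/-- Let `u : H ⟶ G` be a monomorphism of sheaves of groups on a site identifying `H` with a normal
subgroup sheaf of `G`. Then the quotient sheaf `G/H` (the coequalizer, in sheaves of sets, of the
projection and the multiplication `G × H ⇉ G`) carries exactly one structure of sheaf of groups for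
which the canonical map `G ⟶ G/H` is a homomorphism. Stated for sheaves of sets valued in `Type w`
whenever sheafification exists; group sheaves are group objects for the cartesian monoidal
structure. -/
theorem result {C : Type u₁} [Category.{v₁} C]
    (J : GrothendieckTopology C) [HasSheafify J (Type w)]
    {H G : Sheaf J (Type w)} [hH : GrpObj H] [hG : GrpObj G] (u : H ⟶ G) [Mono u]
    (hu : @IsMonHom (Sheaf J (Type w)) _ _ H G hH.toMonObj hG.toMonObj u)
    (hn : ∀ (Y : Sheaf J (Type w)) (g : Y ⟶ G) (h : Y ⟶ H), ∃ h' : Y ⟶ H, g * (h ≫ u) * g⁻¹ = h' ≫ u) :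
    ∃! str : GrpObj (coequalizer (fst G H) ((G ◁ u) ≫ hG.mul)),
      @IsMonHom (Sheaf J (Type w)) _ _ G (coequalizer (fst G H) ((G ◁ u) ≫ hG.mul)) hG.toMonObj str.toMonObj
        (coequalizer.π (fst G H) ((G ◁ u) ≫ hG.mul)) := by
  haveI := hu
  exact Groth.ShfCat.existsUnique_grpObj u hn

end Groth.Agent.S6047
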