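import Groth.Statements.S6048
import Groth.Agent.ShfCat.Epi

set_option autoImplicit false
open CategoryTheory CategoryTheory.Limits MonoidalCategory
universe w v₁ u₁
open ShfCat

namespace Groth.Agent.S6048

open CartesianMonoidalCategory SemiCartesianMonoidalCategory in
/-- For sheaves of sets on a site with sheafification: let `p₁, p₂ : R ⇉ X` be an equivalence relation
of sheaves with universally effective quotient `π : X ⟶ X/R` and `Y` a sheaf. (a) A subsheaf `Z ⊆ X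
× Y` stable under `R × Y`, covering `Y`, and any two of whose points over the same point of `Y` are
`R`-related, is the pullback of `π` along exactly one `f : Y ⟶ X/R`; (b) every `f : Y ⟶ X/R` arises
in this way. -/
theorem result {C : Type u₁} [Category.{v₁} C]
    (J : GrothendieckTopology C) [HasSheafify J (Type w)]
    {R X : Sheaf J (Type w)} {p₁ p₂ : R ⟶ X}
    (e : UniversallyEffectiveEquivalenceRelation p₁ p₂) (Y : Sheaf J (Type w)) :
    (∀ (Z : Sheaf J (Type w)) (ι : Z ⟶ X ⊗ Y), Mono ι →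
      (∀ (W : Sheaf J (Type w)) (r : W ⟶ R) (y : W ⟶ Y),
        (∃ z : W ⟶ Z, z ≫ ι = lift (r ≫ p₁) y) ↔ (∃ z : W ⟶ Z, z ≫ ι = lift (r ≫ p₂) y)) →
      Epi (ι ≫ snd X Y) →
      (∀ (W : Sheaf J (Type w)) (z₁ z₂ : W ⟶ Z), z₁ ≫ ι ≫ snd X Y = z₂ ≫ ι ≫ snd X Y →
        ∃ r : W ⟶ R, r ≫ p₁ = z₁ ≫ ι ≫ fst X Y ∧ r ≫ p₂ = z₂ ≫ ι ≫ fst X Y) →
      ∃! f : Y ⟶ e.B, IsPullback (ι ≫ fst X Y) (ι ≫ snd X Y) e.π f) ∧
    (∀ f : Y ⟶ e.B, ∃ (Z : Sheaf J (Type w)) (ι : Z ⟶ X ⊗ Y), Mono ι ∧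
      (∀ (W : Sheaf J (Type w)) (r : W ⟶ R) (y : W ⟶ Y),
        (∃ z : W ⟶ Z, z ≫ ι = lift (r ≫ p₁) y) ↔ (∃ z : W ⟶ Z, z ≫ ι = lift (r ≫ p₂) y)) ∧
      Epi (ι ≫ snd X Y) ∧
      (∀ (W : Sheaf J (Type w)) (z₁ z₂ : W ⟶ Z), z₁ ≫ ι ≫ snd X Y = z₂ ≫ ι ≫ snd X Y →
        ∃ r : W ⟶ R, r ≫ p₁ = z₁ ≫ ι ≫ fst X Y ∧ r ≫ p₂ = z₂ ≫ ι ≫ fst X Y) ∧
      IsPullback (ι ≫ fst X Y) (ι ≫ snd X Y) e.π f) := by
  have hπ : Epi e.π := epi_of_isColimit_cofork e.isPushout.isLimitFork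
  refine ⟨fun Z ι _ hst hepi hrel ↦ ?_, fun f ↦ ?_⟩
  · obtain ⟨f, hf⟩ := Groth.ShfCat.exists_desc (ι ≫ snd X Y) (ι ≫ fst X Y ≫ e.π) fun W a b hab ↦ by
      obtain ⟨r, h₁, h₂⟩ := hrel W a b hab
      simp only [← Category.assoc] at h₁ h₂ ⊢
      rw [← h₁, ← h₂, Category.assoc, Category.assoc, e.isKernelPair.w]
    have hw : (ι ≫ fst X Y) ≫ e.π = (ι ≫ snd X Y) ≫ f := by rw [hf, Category.assoc]
    refine ⟨f, ?_, fun g hgsq ↦ (cancel_epi (ι ≫ snd X Y)).mp (hgsq.w.symm.trans hw)⟩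
    have key : ∀ s : PullbackCone e.π f, ∃ z : s.pt ⟶ Z, z ≫ ι = lift s.fst s.snd := fun s ↦ by
      obtain ⟨W', c, z', hc, hz'⟩ := Groth.ShfCat.exists_lift (ι ≫ snd X Y) s.snd
      have hx : (z' ≫ ι ≫ fst X Y) ≫ e.π = (c ≫ s.fst) ≫ e.π := by
        rw [Category.assoc, hw, ← Category.assoc, hz', Category.assoc, ← s.condition, Category.assoc]
      obtain ⟨r, h₁, h₂⟩ := e.isKernelPair.lift' _ _ hx
      obtain ⟨b, hb⟩ := (hst W' r (c ≫ s.snd)).mp ⟨z', by
        ext : 1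
        · simpa using h₁.symm
        · simpa using hz'⟩
      exact Groth.ShfCat.factor_of_epi c ι _ b (by rw [hb, h₂, comp_lift])
    choose z hz using key
    exact ⟨⟨hw⟩, ⟨PullbackCone.IsLimit.mk _ z
      (fun s ↦ by rw [← Category.assoc, hz, lift_fst])
      (fun s ↦ by rw [← Category.assoc, hz, lift_snd])
      (fun s m h₁ h₂ ↦ (cancel_mono ι).mp (by
        rw [hz]
        ext : 1
        · simpa using h₁
        · simpa using h₂))⟩⟩
  · have hm : Mono (lift (pullback.fst e.π f) (pullback.snd e.π f)) := ⟨fun a b hab ↦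
      pullback.hom_ext (by simpa using congr($hab ≫ fst X Y)) (by simpa using congr($hab ≫ snd X Y))⟩
    refine ⟨pullback e.π f, lift (pullback.fst e.π f) (pullback.snd e.π f), hm, fun W r y ↦ ?_,
      ?_, fun W z₁ z₂ hz ↦ ?_, ?_⟩
    · have key : ∀ x : W ⟶ X, (∃ z : W ⟶ pullback e.π f,
          z ≫ lift (pullback.fst e.π f) (pullback.snd e.π f) = lift x y) ↔ x ≫ e.π = y ≫ f := by
        refine fun x ↦ ⟨?_, fun h ↦ ⟨pullback.lift x y h, by
          ext : 1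
          · rw [Category.assoc, lift_fst, lift_fst]; exact pullback.lift_fst _ _ _
          · rw [Category.assoc, lift_snd, lift_snd]; exact pullback.lift_snd _ _ _⟩⟩
        rintro ⟨z, hz⟩
        have h₁ : z ≫ pullback.fst e.π f = x := by simpa using congr($hz ≫ fst X Y)
        have h₂ : z ≫ pullback.snd e.π f = y := by simpa using congr($hz ≫ snd X Y)
        rw [← h₁, ← h₂, Category.assoc, Category.assoc, pullback.condition]
      rw [key, key, Category.assoc, Category.assoc, e.isKernelPair.w]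
    · rw [lift_snd]
      exact Groth.ShfCat.epi_of_isPullback_sheaf (IsPullback.of_hasPullback e.π f).flip
    · simp only [lift_fst, lift_snd] at hz ⊢
      exact ⟨e.isKernelPair.lift (z₁ ≫ pullback.fst e.π f) (z₂ ≫ pullback.fst e.π f)
        (by rw [Category.assoc, Category.assoc, pullback.condition, reassoc_of% hz]),
        IsPullback.lift_fst _ _ _ _, IsPullback.lift_snd _ _ _ _⟩
    · simp only [lift_fst, lift_snd]
      exact IsPullback.of_hasPullback e.π f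

end Groth.Agent.S6048
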