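import Groth.Statements.S6056
import Groth.Agent.AlgGrp1.Basic
import Groth.Agent.FlatMor2.FlatComp
import Groth.Agent.GitQuot.FppfSourceScheme
-- import your own Groth.Agent.* helpers here

set_option autoImplicit false
open CategoryTheory CategoryTheory.Limits AlgebraicGeometry MonoidalCategory
universe u
open RedSub

namespace Groth.Agent.S6056

section Helpers

open CategoryTheory Limits MonoidalCategory CartesianMonoidalCategory MonObj AlgebraicGeometry
  Groth.AlgGrp1

variable {S : Scheme.{u}}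

/-- A square over `X ⊗ B` is cartesian if points lift uniquely. -/
theorem isPullback_of_points {X B Y : Over S} (α : X ⊗ B ⟶ X) (p : X ⟶ Y)
    (w : fst X B ≫ p = α ≫ p)
    (h : ∀ (T : Over S) (u v : T ⟶ X), u ≫ p = v ≫ p → ∃! z : T ⟶ B, lift u z ≫ α = v) :
    IsPullback (fst X B) α p p := by
  refine ⟨⟨w⟩, ⟨PullbackCone.IsLimit.mk _
    (fun s => lift s.fst (h s.pt s.fst s.snd s.condition).choose) ?_ ?_ ?_⟩⟩
  · intro s; exact lift_fst _ _
  · intro s; exact (h s.pt s.fst s.snd s.condition).choose_spec.1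
  · intro s m hm₁ hm₂
    refine CartesianMonoidalCategory.hom_ext _ _ ?_ ?_
    · rw [lift_fst]; exact hm₁
    · rw [lift_snd]
      refine (h s.pt s.fst s.snd s.condition).choose_spec.2 _ ?_
      show lift s.fst (m ≫ snd X B) ≫ α = s.snd
      rw [← hm₂]
      congr 1
      exact CartesianMonoidalCategory.hom_ext _ _ (by simpa using hm₁.symm) (by simp)

/-- Points of the kernel pair of a quotient map. -/
theorem eq_iff {H G Q : Over S} [GrpObj G] {i : H ⟶ G} {q : G ⟶ Q}
    (hq : RedSub.IsQuotient i q) {T : Over S} (a b : T ⟶ G) :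
    a ≫ q = b ≫ q ↔ ∃ h : T ⟶ H, b = a * (h ≫ i) := by
  have P := hq.2.2.2
  constructor
  · intro e
    obtain ⟨l, l₁, l₂⟩ := P.exists_lift a b e
    refine ⟨l ≫ snd G H, l₂.symm.trans ?_⟩
    have : l = lift a (l ≫ snd G H) := CartesianMonoidalCategory.hom_ext _ _ (by simpa using l₁) (by simp)
    rw [this, lift_whiskerLeft_assoc, lift_snd, ← Hom.mul_def]
  · rintro ⟨h, rfl⟩
    have := congrArg (lift a h ≫ ·) P.w
    simpa [Hom.mul_def] using this

/-- The two maps of a quotient square give a cover of the product. -/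
theorem isCover_tensorHom {X Y X' Y' : Over S} {p : X ⟶ Y} {q : X' ⟶ Y'} (hp : IsCover p)
    (hq : IsCover q) : IsCover (p ⊗ₘ q) := by
  rw [MonoidalCategory.tensorHom_def]
  exact (hp.whiskerRight X').comp (hq.whiskerLeft Y)

theorem third_iso {H K G QH Kb : Over S}
    [GrpObj H] [GrpObj K] [GrpObj G] [GrpObj Kb]
    (h : H ⟶ K) (k : K ⟶ G) [Mono k] [IsMonHom k]
    (qH : G ⟶ QH) (hqH : RedSub.IsQuotient (h ≫ k) qH)
    (qKb : K ⟶ Kb) (hqKb : RedSub.IsQuotient h qKb)
    (act : QH ⊗ Kb ⟶ QH) (hact : (qH ⊗ₘ qKb) ≫ act = (G ◁ k) ≫ μ[G] ≫ qH) :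
    (∀ (QK : Over S) (qK : G ⟶ QK), RedSub.IsQuotient k qK →
      ∀ qbar : QH ⟶ QK, qH ≫ qbar = qK →
        Surjective qbar.left ∧ Flat qbar.left ∧ LocallyOfFinitePresentation qbar.left ∧
          IsPullback (fst QH Kb) act qbar qbar) ∧
    (∀ (Y : Over S) (p : QH ⟶ Y),
      Surjective p.left → Flat p.left → LocallyOfFinitePresentation p.left →
      IsPullback (fst QH Kb) act p p → RedSub.IsQuotient k (qH ≫ p)) := by
  have cH : IsCover qH := ⟨hqH.2.1, hqH.1, hqH.2.2.1⟩
  have cK : IsCover qKb := ⟨hqKb.2.1, hqKb.1, hqKb.2.2.1⟩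
  have act_pt : ∀ {T : Over S} (a : T ⟶ G) (κ : T ⟶ K),
      lift (a ≫ qH) (κ ≫ qKb) ≫ act = (a * (κ ≫ k)) ≫ qH := by
    intro T a κ
    rw [← lift_map_assoc, hact, lift_whiskerLeft_assoc, Hom.mul_def, Category.assoc]
  -- cancelling the action
  have inj : ∀ {T : Over S} (u : T ⟶ QH) (z z' : T ⟶ Kb),
      lift u z ≫ act = lift u z' ≫ act → z = z' := by
    intro T u z z' e
    obtain ⟨T₁, c₁, κ, κ', hc₁, hκ, hκ'⟩ := cK.exists_lift₂ z z'
    obtain ⟨T₂, c₂, a, hc₂, ha⟩ := cH.exists_lift (c₁ ≫ u)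
    have e' := congrArg (fun w => (c₂ ≫ c₁) ≫ w) e
    simp only [comp_lift_assoc, Category.assoc, ← hκ, ← hκ'] at e'
    rw [← ha, ← Category.assoc, ← Category.assoc, act_pt, act_pt] at e'
    obtain ⟨h₀, hh₀⟩ := (eq_iff hqH _ _).1 e'
    have ek : c₂ ≫ κ' = (c₂ ≫ κ) * (h₀ ≫ h) := by
      rw [← cancel_mono k]
      simp only [MonObj.mul_comp, Category.assoc] at hh₀ ⊢
      rwa [_root_.mul_assoc, mul_right_inj] at hh₀
    have := (eq_iff hqKb _ _).2 ⟨h₀, ek⟩
    apply hc₁.cancel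
    apply hc₂.cancel
    rw [← hκ, ← hκ', ← Category.assoc, ← Category.assoc]
    exact this
  constructor
  · intro QK qK hqK qbar hbar
    have := hqH.1; have := hqH.2.1; have := hqH.2.2.1
    have := hqK.1; have := hqK.2.1; have := hqK.2.2.1
    have hl : qH.left ≫ qbar.left = qK.left := congr(($hbar).left)
    have s₁ : Surjective qbar.left := by
      have : Surjective (qH.left ≫ qbar.left) := by rw [hl]; infer_instance
      exact Surjective.of_comp qH.left qbar.left
    have s₂ : Flat qbar.left := by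
      have : Flat (qH.left ≫ qbar.left) := by rw [hl]; infer_instance
      exact Groth.FlatMor2.flat_of_comp_surjective qH.left qbar.left
    have s₃ : LocallyOfFinitePresentation qbar.left := by
      have : LocallyOfFinitePresentation (qH.left ≫ qbar.left) := by rw [hl]; infer_instance
      exact Groth.GitQuot.FppfSource.locallyOfFinitePresentation_of_fppf qH.left qbar.left
    refine ⟨s₁, s₂, s₃, isPullback_of_points act qbar ?_ ?_⟩
    · apply (isCover_tensorHom cH cK).cancel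
      rw [reassoc_of% hact, tensorHom_fst_assoc, hbar]
      have := hqK.2.2.2.w
      rwa [Category.assoc] at this
    · intro T u v huv
      obtain ⟨T₁, c, a, b, hc, ha, hb⟩ := cH.exists_lift₂ u v
      have e : a ≫ qK = b ≫ qK := by
        rw [← hbar, ← Category.assoc, ha, ← Category.assoc b, hb, Category.assoc, huv,
          ← Category.assoc]
      obtain ⟨κ, hκ⟩ := (eq_iff hqK a b).1 e
      have hz : lift (c ≫ u) (κ ≫ qKb) ≫ act = c ≫ v := by
        rw [← ha, act_pt, ← hκ, hb]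
      obtain ⟨z, hz'⟩ := hc.exists_desc (κ ≫ qKb) (fun W s t hst => by
        apply inj (s ≫ c ≫ u)
        calc lift (s ≫ c ≫ u) (s ≫ κ ≫ qKb) ≫ act = s ≫ c ≫ v := by
              rw [← comp_lift_assoc, hz]
          _ = t ≫ c ≫ v := by rw [reassoc_of% hst]
          _ = lift (s ≫ c ≫ u) (t ≫ κ ≫ qKb) ≫ act := by
              rw [reassoc_of% hst, ← comp_lift_assoc, hz])
      have hz'' : lift u z ≫ act = v := by
        apply hc.cancel
        rw [comp_lift_assoc, hz', hz]
      exact ⟨z, hz'', fun z' hz₂ => inj u z' z (hz₂.trans hz''.symm)⟩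
  · intro Y p s₁ s₂ s₃ P
    have cp : IsCover p := ⟨s₂, s₁, s₃⟩
    have cc := cH.comp cp
    refine ⟨cc.surj, cc.flat, cc.lfp, isPullback_of_points _ _ ?_ ?_⟩
    · have := congrArg ((qH ⊗ₘ qKb) ≫ ·) P.w
      simp only [tensorHom_fst_assoc, reassoc_of% hact] at this
      simpa using this
    · intro T a b e
      have e₂ : (a ≫ qH) ≫ p = (b ≫ qH) ≫ p := by simpa using e
      obtain ⟨l, l₁, l₂⟩ := P.exists_lift (a ≫ qH) (b ≫ qH) e₂
      obtain ⟨T₁, c, κ, hc, hκ⟩ := cK.exists_lift (l ≫ snd QH Kb)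
      have hl : l = lift (a ≫ qH) (l ≫ snd QH Kb) :=
        CartesianMonoidalCategory.hom_ext _ _ (by simpa using l₁) (by simp)
      rw [hl] at l₂
      have e₃ : ((c ≫ a) * (κ ≫ k)) ≫ qH = (c ≫ b) ≫ qH := by
        rw [← act_pt, hκ, Category.assoc, Category.assoc, ← comp_lift_assoc, l₂]
      obtain ⟨h₀, hh₀⟩ := (eq_iff hqH _ _).1 e₃
      obtain ⟨x, hx⟩ := factor_of_cover hc (i := k) (a⁻¹ * b) ⟨κ * (h₀ ≫ h), by
        rw [MonObj.comp_mul, GrpObj.comp_inv, MonObj.mul_comp, hh₀]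
        simp [_root_.mul_assoc]⟩
      have hlx : ∀ y : T ⟶ K, lift a y ≫ (G ◁ k) ≫ μ[G] = a * (y ≫ k) := fun y => by
        rw [lift_whiskerLeft_assoc, Hom.mul_def]
      refine ⟨x, ?_, fun y hy => ?_⟩
      · show lift a x ≫ (G ◁ k) ≫ μ[G] = b
        rw [hlx, hx, mul_inv_cancel_left]
      · change lift a y ≫ (G ◁ k) ≫ μ[G] = b at hy
        rw [hlx] at hy
        rw [← cancel_mono k, hx, ← hy, inv_mul_cancel_left]

end Helpers

open MonObj CartesianMonoidalCategory SemiCartesianMonoidalCategory in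
/-- For group schemes and fppf quotients: let `K ⊆ G` be a subgroup scheme and `H ⊆ K` a subgroup scheme
normal in `K`; suppose `G/H` is represented by `q_H : G ⟶ Q_H` and `K/H` by a homomorphism `K ⟶ K'`
of group schemes, and let `act : Q_H ×_S K' ⟶ Q_H` be the right action induced by the multiplication
of `G`. Then: (i) if `G/K` is represented by `q_K : G ⟶ Q_K`, the map `Q_H ⟶ Q_K` under `G` is an
fppf covering whose kernel pair is `Q_H ×_S K' ⇉ Q_H` (projection, action), i.e. `Q_K =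
(G/H)/(K/H)`; (ii) conversely, if `p : Q_H ⟶ Y` is an fppf covering with that kernel pair, then `q_H
≫ p` represents `G/K`. -/
theorem result {S : Scheme.{u}} {H K G QH Kb : Over S}
    [hH : GrpObj H] [hK : GrpObj K] [hG : GrpObj G] [hKb : GrpObj Kb]
    (h : H ⟶ K) (k : K ⟶ G) [Mono h] [Mono k] [IsMonHom h] [IsMonHom k]
    (hn : AlgGrp.IsNormalHom h)
    (qH : G ⟶ QH) (hqH : RedSub.IsQuotient (h ≫ k) qH)
    (qKb : K ⟶ Kb) [IsMonHom qKb] (hqKb : RedSub.IsQuotient h qKb)
    (act : QH ⊗ Kb ⟶ QH) (hact : (qH ⊗ₘ qKb) ≫ act = (G ◁ k) ≫ μ[G] ≫ qH) :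
    (∀ (QK : Over S) (qK : G ⟶ QK), RedSub.IsQuotient k qK →
      ∀ qbar : QH ⟶ QK, qH ≫ qbar = qK →
        Surjective qbar.left ∧ Flat qbar.left ∧ LocallyOfFinitePresentation qbar.left ∧
          IsPullback (fst QH Kb) act qbar qbar) ∧
    (∀ (Y : Over S) (p : QH ⟶ Y),
      Surjective p.left → Flat p.left → LocallyOfFinitePresentation p.left →
      IsPullback (fst QH Kb) act p p → RedSub.IsQuotient k (qH ≫ p)) :=
  third_iso h k qH hqH qKb hqKb act hact

end Groth.Agent.S6056
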