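import Groth.Statements.S6057

set_option autoImplicit false
open CategoryTheory
universe v₁ u₁
open ShfCat

namespace Groth.Agent.S6057

/-- Let `S` be an object whose representable presheaf is a sheaf for `J` and `φ : F ⟶ h_S` a morphism of
presheaves of sets. The relative presheaf on `C/S` (sections of `F` over `T` lying over the given `T
⟶ S`) is separated (resp. a sheaf) for the induced topology on `C/S` if and only if `F` is separated
(resp. a sheaf). -/
theorem result {C : Type u₁} [Category.{v₁} C] (J : GrothendieckTopology C)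
    {S : C} (hS : Presieve.IsSheaf J (yoneda.obj S)) {F : Cᵒᵖ ⥤ Type v₁} (φ : F ⟶ yoneda.obj S) :
    (Presieve.IsSeparated (J.over S) (ShfCat.relPsh φ) ↔ Presieve.IsSeparated J F) ∧
    (Presieve.IsSheaf (J.over S) (ShfCat.relPsh φ) ↔ Presieve.IsSheaf J F) := by
  have hsep : Presieve.IsSeparated (J.over S) (ShfCat.relPsh φ) ↔ Presieve.IsSeparated J F := by
    refine ⟨fun h U R hR x t₁ t₂ h₁ h₂ ↦ ?_, fun h T R hR x t₁ t₂ h₁ h₂ ↦ ?_⟩
    · have he : φ.app (Opposite.op U) t₁ = φ.app (Opposite.op U) t₂ := by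
        refine (hS.isSeparated R hR).ext fun V g hg ↦ ?_
        rw [← NatTrans.naturality_apply, ← NatTrans.naturality_apply, h₁ g hg, h₂ g hg]
      let T : Over S := Over.mk (φ.app (Opposite.op U) t₁)
      have := (h ((Sieve.overEquiv T).symm R) (J.overEquiv_symm_mem_over T R hR)).ext
        (t₁ := (⟨t₁, rfl⟩ : ShfCat.RelSections φ T)) (t₂ := (⟨t₂, he.symm⟩ : ShfCat.RelSections φ T))
        fun V g hg ↦ Subtype.ext
          ((h₁ g.left ((Sieve.overEquiv_symm_iff R g).mp hg)).trans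
            (h₂ g.left ((Sieve.overEquiv_symm_iff R g).mp hg)).symm)
      exact congrArg Subtype.val this
    · refine Subtype.ext ((h (Sieve.overEquiv T R) (hR : R ∈ (J.over S) T)).ext fun V g hg ↦ ?_)
      have hg' := (Sieve.overEquiv_iff R g).mp hg
      exact congrArg Subtype.val ((h₁ _ hg').trans (h₂ _ hg').symm)
  refine ⟨hsep, fun h U R hR x hx ↦ ?_, fun h T R hR x hx ↦ ?_⟩
  · have hs := hsep.mp h.isSeparated
    obtain ⟨t, ht⟩ := (hS R hR (fun V g hg ↦ φ.app (Opposite.op V) (x g hg)) (fun V₁ V₂ W g₁ g₂ f₁ f₂ h₁ h₂ e ↦ by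
      rw [← NatTrans.naturality_apply, ← NatTrans.naturality_apply, hx g₁ g₂ h₁ h₂ e])).exists
    let T : Over S := Over.mk t
    let x' : Presieve.FamilyOfElements (ShfCat.relPsh φ) ((Sieve.overEquiv T).symm R).arrows :=
      fun V g hg ↦ ⟨x g.left ((Sieve.overEquiv_symm_iff R g).mp hg),
        ((ht g.left ((Sieve.overEquiv_symm_iff R g).mp hg)).symm.trans (Over.w g))⟩
    obtain ⟨y, hy⟩ := (h ((Sieve.overEquiv T).symm R) (J.overEquiv_symm_mem_over T R hR) x'
      (fun V₁ V₂ W g₁ g₂ f₁ f₂ h₁ h₂ e ↦ Subtype.ext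
        (hx g₁.left g₂.left _ _ congr(($e).left)))).exists
    refine existsUnique_of_exists_of_unique ⟨y.1, fun V g hg ↦ ?_⟩ fun a b ↦ hs R hR x a b
    exact congrArg Subtype.val (hy (Over.homMk (U := Over.mk (g ≫ t)) g)
      ((Sieve.overEquiv_symm_iff R (Over.homMk (U := Over.mk (g ≫ t)) (V := T) g)).mpr hg))
  · have hs := hsep.mpr h.isSeparated
    let R' := Sieve.overEquiv T R
    let x' : Presieve.FamilyOfElements F R'.arrows :=
      fun V g hg ↦ (x (Over.homMk (U := Over.mk (g ≫ T.hom)) g) ((Sieve.overEquiv_iff R g).mp hg)).1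
    have hx' : x'.Compatible := fun V₁ V₂ W g₁ g₂ f₁ f₂ h₁ h₂ e ↦ congrArg Subtype.val
      (hx (Over.homMk (U := Over.mk (g₁ ≫ f₁ ≫ T.hom)) (V := Over.mk (f₁ ≫ T.hom)) g₁)
        (Over.homMk (U := Over.mk (g₁ ≫ f₁ ≫ T.hom)) (V := Over.mk (f₂ ≫ T.hom)) g₂
          (by simp [reassoc_of% e]))
        ((Sieve.overEquiv_iff R f₁).mp h₁) ((Sieve.overEquiv_iff R f₂).mp h₂)
        (Over.OverMorphism.ext e))
    obtain ⟨y, hy⟩ := (h R' hR x' hx').exists
    have hyT : φ.app (Opposite.op T.left) y = T.hom := by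
      refine (hS.isSeparated R' hR).ext fun V g hg ↦ ?_
      rw [← NatTrans.naturality_apply, hy g hg]
      exact (x (Over.homMk (U := Over.mk (g ≫ T.hom)) g) ((Sieve.overEquiv_iff R g).mp hg)).2
    refine existsUnique_of_exists_of_unique ⟨⟨y, hyT⟩, fun V g hg ↦ Subtype.ext ?_⟩
      fun a b ↦ hs R hR x a b
    have hmem : R' g.left := ⟨_, g, 𝟙 _, hg, (Category.id_comp _).symm⟩
    refine (hy g.left hmem).trans ?_
    have := congrArg Subtype.val (hx
      (Over.homMk (U := V) (V := Over.mk (g.left ≫ T.hom)) (𝟙 _) (by simp)) (𝟙 V)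
      ((Sieve.overEquiv_iff R g.left).mp hmem) hg
      (Over.OverMorphism.ext rfl))
    erw [ShfCat.relPsh_map_val, ShfCat.relPsh_map_val] at this
    simpa [x'] using this

end Groth.Agent.S6057
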