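import Groth.Statements.S6060
import Groth.Agent.Reductive.CentralEq.Global
-- import your own Groth.Agent.* helpers here

set_option autoImplicit false
open CategoryTheory MonoidalCategory CartesianMonoidalCategory MonObj GrpObj AlgebraicGeometry
universe u
open SGA3x

namespace Groth.Agent.S6060

/-- Let G be an S-group, suppose S locally Noetherian or G of finite presentation over S, and let i₁ :
H₁ ⟶ G, i₂ : H₂ ⟶ G be two sub-group-schemes (homomorphisms which are immersions) of multiplicative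
type and of finite type. Let s ∈ S be a point such that the fibre (H₁)_s is central in G_s (every
point of G_s commutes with every point of (H₁)_s) and (H₁)_s = (H₂)_s as subgroups of G_s (an
isomorphism of the fibres compatible with the inclusions). Then there is an open neighbourhood U of
s such that H₁|_U = H₂|_U as subgroups of G|_U. -/
theorem result {S : Scheme.{u}} (G H₁ H₂ : Over S) [GrpObj G] [GrpObj H₁] [GrpObj H₂]
    (hG : IsLocallyNoetherian S ∨ (LocallyOfFinitePresentation G.hom ∧ QuasiCompact G.hom ∧ QuasiSeparated G.hom))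
    (h₁ : SGA3x.IsMultTypeFT H₁) (h₂ : SGA3x.IsMultTypeFT H₂)
    (i₁ : H₁ ⟶ G) [IsMonHom i₁] [IsImmersion i₁.left] (i₂ : H₂ ⟶ G) [IsMonHom i₂] [IsImmersion i₂.left] (s : S)
    (hc : ∀ (X : Over (Spec (S.residueField s))) (g : X ⟶ Red.bc (S.fromSpecResidueField s) G)
      (h : X ⟶ Red.bc (S.fromSpecResidueField s) H₁),
      g * (h ≫ (Over.pullback (S.fromSpecResidueField s)).map i₁) = (h ≫ (Over.pullback (S.fromSpecResidueField s)).map i₁) * g)
    (hs : ∃ ψ : Red.bc (S.fromSpecResidueField s) H₁ ≅ Red.bc (S.fromSpecResidueField s) H₂,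
      ψ.hom ≫ (Over.pullback (S.fromSpecResidueField s)).map i₂ = (Over.pullback (S.fromSpecResidueField s)).map i₁) :
    ∃ U : S.Opens, s ∈ U ∧ ∃ ψ : Red.bc U.ι H₁ ≅ Red.bc U.ι H₂,
      ψ.hom ≫ (Over.pullback U.ι).map i₂ = (Over.pullback U.ι).map i₁ := by
  open Groth.Reductive.FreeDiag Groth.Reductive.CentralNhd in
  obtain ⟨ψ, hψ⟩ := hs
  haveI : Mono i₁.left := inferInstance
  haveI : Mono i₂.left := inferInstance
  haveI : Mono i₁ := Over.mono_of_mono_left i₁
  haveI : Mono i₂ := Over.mono_of_mono_left i₂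
  have hG' : IsLocallyNoetherian S ∨ LocallyOfFinitePresentation G.hom := hG.imp id (·.1)
  have hψ' : ψ.symm.hom ≫ (Over.pullback (S.fromSpecResidueField s)).map i₁ =
      (Over.pullback (S.fromSpecResidueField s)).map i₂ := by
    rw [← hψ, Iso.symm_hom, Iso.inv_hom_id_assoc]
  have f12 := Groth.Reductive.FreeDiag.facOn_of_iso _ ψ hψ
  have f21 := Groth.Reductive.FreeDiag.facOn_of_iso _ ψ.symm hψ'
  have c1 : Groth.Reductive.FreeDiag.TrivOn (Groth.Reductive.CentralNhd.commMap i₁)
      (Over.mk (S.fromSpecResidueField s)) := by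
    refine ((Groth.Reductive.CentralNhd.trivOn_bc i₁ (S.fromSpecResidueField s) (Iso.refl _)
      (Over.mk (𝟙 _))).1 ?_).of_hom (Over.homMk (𝟙 _) (by simp))
    rw [Iso.refl_hom, Category.id_comp, Groth.Reductive.CentralNhd.trivOn_commMap_iff]
    exact fun W _ g h ↦ hc W g h
  have c2 : Groth.Reductive.FreeDiag.TrivOn (Groth.Reductive.CentralNhd.commMap i₂)
      (Over.mk (S.fromSpecResidueField s)) := by
    rw [Groth.Reductive.CentralNhd.trivOn_commMap_iff] at c1 ⊢
    intro W w g h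
    obtain ⟨h', e⟩ := f21 W w h
    rw [← e]
    exact c1 W w g h'
  obtain ⟨V₁, hV₁, F₁⟩ := Groth.Reductive.CentralEq.exists_facOn_nhd hG' h₁ h₂ i₁ i₂ s c1 f12
  obtain ⟨V₂, hV₂, F₂⟩ := Groth.Reductive.CentralEq.exists_facOn_nhd hG' h₂ h₁ i₂ i₁ s c2 f21
  refine ⟨V₁ ⊓ V₂, ⟨hV₁, hV₂⟩, Groth.Reductive.FreeDiag.exists_iso_of_facOn _ ?_ ?_⟩
  · exact F₁.of_hom (Over.homMk (S.homOfLE inf_le_left) (S.homOfLE_ι _))
  · exact F₂.of_hom (Over.homMk (S.homOfLE inf_le_right) (S.homOfLE_ι _))

end Groth.Agent.S6060
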