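import Groth.Statements.S6061
import Groth.Agent.Reductive2.HomTwConst

set_option autoImplicit false
open CategoryTheory MonoidalCategory CartesianMonoidalCategory MonObj GrpObj AlgebraicGeometry
universe u
open SGA3x

namespace Groth.Agent.S6061

/-- Representability; the twisted-constant structure is asserted at the level of S-schemes: Let H and G
be quasi-isotrivial S-groups of multiplicative type — etale-locally on S isomorphic, as group
schemes, to diagonalisable groups D(M), with M finitely generated in the case of G (G of finite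
type). Then the functor of group homomorphisms from H to G is representable, by an S-scheme which is
a quasi-isotrivial twisted constant S-scheme (etale-locally constant). The character groups M range
over Type 0, as in the prelude's D_S(M). (The published statement also asserts that the representing
object is a twisted constant group of type Hom(M, N), M and N the types of G and H respectively;
this row asserts only the scheme-level twisted constant structure, without the group structure or
the type.) -/
theorem result {S : Scheme.{u}} (H G : Over S) [GrpObj H] [GrpObj G]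
    (hH : TwC.Locally S TwC.Topology.etale (fun S' f => ∃ (M : Type) (_ : AddCommGroup M),
      Nonempty (Grp.mk (Red.bc f H) ≅ Grp.mk (Red.DS S' M))))
    (hG : TwC.Locally S TwC.Topology.etale (fun S' f => ∃ (M : Type) (_ : AddCommGroup M),
      AddGroup.FG M ∧ Nonempty (Grp.mk (Red.bc f G) ≅ Grp.mk (Red.DS S' M)))) :
    ∃ (A : Over S) (υ : H ⊗ A ⟶ G), AutFam.RepresentsHom H G A υ ∧ TwC.IsTwConst TwC.Topology.etale A := by
  classical
  change ∀ s : S, ∃ (S' : Scheme.{u}) (f : S' ⟶ S), Etale f ∧ s ∈ Set.range f.base ∧ ∃ (M : Type) (_ : AddCommGroup M),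
    Nonempty (Grp.mk (Red.bc f H) ≅ Grp.mk (Red.DS S' M)) at hH
  change ∀ s : S, ∃ (S' : Scheme.{u}) (f : S' ⟶ S), Etale f ∧ s ∈ Set.range f.base ∧ ∃ (M : Type) (_ : AddCommGroup M),
    AddGroup.FG M ∧ Nonempty (Grp.mk (Red.bc f G) ≅ Grp.mk (Red.DS S' M)) at hG
  choose T₁ f₁ he₁ hs₁ M hMg hMe using hH
  choose T₂ f₂ he₂ hs₂ N hNg hNfg hNe using hG
  letI := hMg; letI := hNg
  have key : ∀ s, ∃ (T : Scheme.{u}) (f : T ⟶ S), IsAffine T ∧ Etale f ∧ s ∈ Set.range f.base ∧
      (∃ i : Red.DS T (M s) ≅ Red.bc f H, IsMonHom i.hom) ∧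
      ∃ i : Red.DS T (N s) ≅ Red.bc f G, IsMonHom i.hom := fun s =>
    haveI := he₁ s; haveI := he₂ s
    Groth.Reductive2.HomTwConst.exists_common_chart H G s (f₁ s) (f₂ s) (hs₁ s) (hs₂ s) (hMe s) (hNe s)
  choose T f haff het hmem hiso₁ hiso₂ using key
  choose iH hiH using hiso₁
  choose iG hiG using hiso₂
  have hrep := fun s => by
    haveI := haff s; haveI := hNfg s; haveI := hiH s; haveI := hiG s
    exact Groth.Reductive2.HomSplit.exists_representsOn (iH s) (iG s)
  choose υ hυ _ using hrep
  obtain ⟨A, ω, hA, hc⟩ := Groth.Reductive2.HomTwConst.exists_of_charts (κ := S) f (fun s => ⟨s, hmem s⟩)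
    (fun s => Groth.Reductive2.HomSplit.Idx.{u} (M s) (N s)) υ hυ
  refine ⟨A, ω, hA, fun s => ⟨T s, f s, het s, hmem s, Groth.Reductive2.HomSplit.Idx.{u} (M s) (N s), ?_⟩⟩
  obtain ⟨c, _, hc⟩ := hc s
  obtain ⟨e, _⟩ := Groth.Reductive2.HomTwConst.exists_iso_const c hc
  exact ⟨e⟩

end Groth.Agent.S6061
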