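import Groth.Statements.S6063
import Groth.Agent.Reductive2.FiltFlat
-- import your own Groth.Agent.* helpers here

set_option autoImplicit false
universe u
open CategoryTheory AlgebraicGeometry
open TensorProduct
open SGA3x

namespace Groth.Agent.S6063

open CategoryTheory.Limits in
/-- Over an affine base with free successive quotients. Let A be a ring, J a nilpotent ideal of A such
that every quotient J^k/J^(k+1) is a free (A/J)-module, p : X ⟶ Spec A a flat morphism and (v_i :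
Z_i ⟶ X) a family of subschemes of X (immersions) with every Z_i flat over Spec A. If the family of
reductions Z_i ×_A (A/J) ⟶ X ×_A (A/J) is schematically dense, i.e. a section of the structure sheaf
of X ×_A (A/J) over an open subset whose pullback to every member vanishes is zero, then the family
(v_i) is schematically dense in X in the same sense. (The published statement has an arbitrary base
S and a nilpotent quasi-coherent ideal of the structure sheaf whose successive quotients are locally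
free modulo the ideal; the assertion is local on S and on X, and this row is the case of an affine
base with free successive quotients.) -/
theorem result {X : Scheme.{u}} (A : CommRingCat.{u}) (p : X ⟶ Spec A) [Flat p]
    (J : Ideal ↑A) (hJ : IsNilpotent J) (hfree : ∀ k : ℕ, Module.Free (↑A ⧸ J) ((↑A ⧸ J) ⊗[↑A] ↥(J ^ k)))
    {ι : Type u} (Z : ι → Scheme.{u}) (v : ∀ i, Z i ⟶ X) [∀ i, IsImmersion (v i)] [∀ i, Flat (v i ≫ p)]
    (h0 : ∀ (V : (pullback p (Spec.map (CommRingCat.ofHom (Ideal.Quotient.mk J)))).Opens) (t : Γ(pullback p (Spec.map (CommRingCat.ofHom (Ideal.Quotient.mk J))), V)),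
      (∀ i, (pullback.map (v i ≫ p) (Spec.map (CommRingCat.ofHom (Ideal.Quotient.mk J))) p (Spec.map (CommRingCat.ofHom (Ideal.Quotient.mk J))) (v i) (𝟙 _) (𝟙 _)
        (Category.comp_id _) ((Category.comp_id _).trans (Category.id_comp _).symm)).app V t = 0) → t = 0) :
    ∀ (V : X.Opens) (t : Γ(X, V)), (∀ i, (v i).app V t = 0) → t = 0 := by
  classical
  intro V t ht
  suffices haff : ∀ (V : X.Opens), IsAffineOpen V → ∀ t : Γ(X, V), (∀ i, (v i).app V t = 0) → t = 0 by
    apply TopCat.Sheaf.eq_of_locally_eq' X.sheaf (fun W : {W : X.affineOpens // (W : X.Opens) ≤ V} ↦ (W.1 : X.Opens)) V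
      (fun W ↦ homOfLE W.2)
    · intro x hx
      obtain ⟨W, hW, hxW, hWV⟩ := exists_isAffineOpen_mem_and_subset (x := x) (U := V) hx
      exact TopologicalSpace.Opens.mem_iSup.mpr ⟨⟨⟨W, hW⟩, hWV⟩, hxW⟩
    intro W
    refine Eq.trans ?_ (map_zero _).symm
    refine haff _ W.1.2 _ fun i ↦ ?_
    have := ConcreteCategory.congr_hom ((v i).naturality (homOfLE W.2).op) t
    simp only [CommRingCat.comp_apply] at this
    refine this.trans ?_
    rw [ht i, map_zero]
  clear ht t V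
  intro V hV t ht
  let q : A ⟶ CommRingCat.of (↑A ⧸ J) := CommRingCat.ofHom (Ideal.Quotient.mk J)
  let αB : A ⟶ Γ(X, V) := (Scheme.ΓSpecIso A).inv ≫ p.appLE ⊤ V (by simp)
  letI : Algebra A Γ(X, V) := αB.hom.toAlgebra
  have hΓ : (Scheme.ΓSpecIso A).inv.hom.Flat :=
    RingHom.Flat.of_bijective (ConcreteCategory.bijective_of_isIso (Scheme.ΓSpecIso A).inv)
  have hBflat : Module.Flat A Γ(X, V) := by
    have h : αB.hom.Flat := hΓ.comp (HasRingHomProperty.appLE @Flat p inferInstance ⟨⊤, isAffineOpen_top _⟩ ⟨V, hV⟩ _)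
    exact h
  let σ := Σ i, {W : (Z i).affineOpens // (W : (Z i).Opens) ≤ v i ⁻¹ᵁ V}
  let C : σ → Type u := fun s ↦ Γ(Z s.1, (s.2.1 : (Z s.1).Opens))
  letI algC : ∀ s, Algebra A (C s) := fun s ↦
    ((Scheme.ΓSpecIso A).inv ≫ (v s.1 ≫ p).appLE ⊤ (s.2.1 : (Z s.1).Opens) (by simp)).hom.toAlgebra
  have hC : ∀ s, Module.Flat A (C s) := fun s ↦ by
    have h : ((Scheme.ΓSpecIso A).inv ≫ (v s.1 ≫ p).appLE ⊤ (s.2.1 : (Z s.1).Opens) (by simp)).hom.Flat :=
      hΓ.comp (HasRingHomProperty.appLE @Flat (v s.1 ≫ p) inferInstance ⟨⊤, isAffineOpen_top _⟩ s.2.1 _)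
    exact h
  let φ : ∀ s, Γ(X, V) →ₐ[A] C s := fun s ↦
    { ((v s.1).appLE V (s.2.1 : (Z s.1).Opens) s.2.2).hom with
      commutes' := fun a ↦ by
        show ((v s.1).appLE V _ s.2.2) (p.appLE ⊤ V _ ((Scheme.ΓSpecIso A).inv a)) = _
        exact ConcreteCategory.congr_hom (Scheme.Hom.appLE_comp_appLE (v s.1) p ⊤ V
          (s.2.1 : (Z s.1).Opens) (by simp) s.2.2) _ }
  refine Groth.Reductive2.eq_zero_of_map_eq_zero J hJ hfree Γ(X, V) C φ (fun b hb ↦ ?_) t fun s ↦ ?_
  swap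
  · show (v s.1).appLE V _ s.2.2 t = 0
    rw [Scheme.Hom.appLE, CommRingCat.comp_apply, ht, map_zero]
  set X₀ := pullback p (Spec.map q)
  -- the reduction of `b` vanishes
  have hb0 : (pullback.fst p (Spec.map q)).app V b = 0 := by
    refine h0 (pullback.fst p (Spec.map q) ⁻¹ᵁ V) _ fun i ↦ ?_
    set Z₀ := pullback (v i ≫ p) (Spec.map q)
    set m : Z₀ ⟶ X₀ := pullback.map (v i ≫ p) (Spec.map q) p (Spec.map q) (v i) (𝟙 _) (𝟙 _)
      (Category.comp_id _) ((Category.comp_id _).trans (Category.id_comp _).symm)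
    have hm : m ≫ pullback.fst p (Spec.map q) = pullback.fst (v i ≫ p) (Spec.map q) ≫ v i := pullback.lift_fst _ _ _
    set f := pullback.fst (v i ≫ p) (Spec.map q)
    show m.app (pullback.fst p (Spec.map q) ⁻¹ᵁ V) ((pullback.fst p (Spec.map q)).app V b) = 0
    rw [← CommRingCat.comp_apply, ← Scheme.Hom.comp_app, Scheme.Hom.congr_app hm V]
    erw [CommRingCat.comp_apply, Scheme.Hom.comp_app]
    suffices f.app (v i ⁻¹ᵁ V) ((v i).app V b) = 0 from (congrArg _ this).trans (map_zero _)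
    apply TopCat.Sheaf.eq_of_locally_eq' Z₀.sheaf
      (fun W : {W : (Z i).affineOpens // (W : (Z i).Opens) ≤ v i ⁻¹ᵁ V} ↦ f ⁻¹ᵁ (W.1 : (Z i).Opens)) (f ⁻¹ᵁ (v i ⁻¹ᵁ V))
      (fun W ↦ homOfLE (f.preimage_mono W.2))
    · intro x hx
      obtain ⟨W, hW, hxW, hWV⟩ := exists_isAffineOpen_mem_and_subset (x := f.base x) (U := v i ⁻¹ᵁ V) hx
      exact TopologicalSpace.Opens.mem_iSup.mpr ⟨⟨⟨W, hW⟩, hWV⟩, hxW⟩
    intro W
    refine Eq.trans ?_ (map_zero _).symm
    refine ((ConcreteCategory.congr_hom (f.naturality (homOfLE W.2).op) ((v i).app V b)).symm).trans ?_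
    show f.app (W.1 : (Z i).Opens) (φ ⟨i, W⟩ b) = 0
    have hq : ∀ j ∈ J, (Spec.map q).appTop ((Scheme.ΓSpecIso A).inv j) = 0 := fun j hj ↦ by
      refine (ConcreteCategory.congr_hom (Scheme.ΓSpecIso_inv_naturality q) j).symm.trans ?_
      show (Scheme.ΓSpecIso (CommRingCat.of (↑A ⧸ J))).inv (Ideal.Quotient.mk J j) = 0
      rw [Ideal.Quotient.eq_zero_iff_mem.mpr hj, map_zero]
    have hker : J.map (algebraMap A (C ⟨i, W⟩)) ≤ RingHom.ker (f.app (W.1 : (Z i).Opens)).hom := by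
      refine Ideal.map_le_iff_le_comap.mpr fun j hj ↦ RingHom.mem_ker.mpr ?_
      show f.app (W.1 : (Z i).Opens) ((v i ≫ p).appLE ⊤ (W.1 : (Z i).Opens) _ ((Scheme.ΓSpecIso A).inv j)) = 0
      rw [Scheme.Hom.app_eq_appLE f]
      refine (ConcreteCategory.congr_hom (Scheme.Hom.appLE_comp_appLE f (v i ≫ p) ⊤ (W.1 : (Z i).Opens)
        (f ⁻¹ᵁ (W.1 : (Z i).Opens)) (by simp) le_rfl) ((Scheme.ΓSpecIso A).inv j)).trans ?_
      have hcond : f ≫ v i ≫ p = pullback.snd _ _ ≫ Spec.map q := pullback.condition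
      simp only [hcond]
      simp only [Scheme.Hom.appLE, Scheme.Hom.comp_app]
      refine (congrArg ((pullback (v i ≫ p) (Spec.map q)).presheaf.map _).hom
        ((congrArg ((pullback.snd (v i ≫ p) (Spec.map q)).app _).hom (hq j hj)).trans (map_zero _))).trans (map_zero _)
    exact RingHom.mem_ker.mp (hker (hb ⟨i, W⟩))
  -- hence it lies in the ideal
  let I := J.map (algebraMap A Γ(X, V))
  let r : Γ(X, V) ⟶ CommRingCat.of (Γ(X, V) ⧸ I) := CommRingCat.ofHom (Ideal.Quotient.mk I)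
  let g : Spec (CommRingCat.of (Γ(X, V) ⧸ I)) ⟶ X := Spec.map r ≫ hV.fromSpec
  let w : CommRingCat.of (↑A ⧸ J) ⟶ CommRingCat.of (Γ(X, V) ⧸ I) :=
    CommRingCat.ofHom (Ideal.quotientMap I (algebraMap A Γ(X, V)) Ideal.le_comap_map)
  have hgV : (⊤ : (Spec (CommRingCat.of (Γ(X, V) ⧸ I))).Opens) ≤ g ⁻¹ᵁ V := by
    simp [g, hV.fromSpec_preimage_self]
  have hg : g.appLE V ⊤ hgV = r ≫ (Scheme.ΓSpecIso _).inv := by
    have h1 : hV.fromSpec.appLE V ⊤ (by rw [hV.fromSpec_preimage_self]) = (Scheme.ΓSpecIso Γ(X, V)).inv := by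
      rw [Scheme.Hom.appLE, hV.fromSpec_app_self, Category.assoc, ← Functor.map_comp]
      simp
    rw [show g.appLE V ⊤ hgV = hV.fromSpec.appLE V ⊤ (by rw [hV.fromSpec_preimage_self]) ≫
        (Spec.map r).appLE ⊤ ⊤ (by simp) from (Scheme.Hom.appLE_comp_appLE _ _ _ _ _ _ _).symm, h1,
      Scheme.ΓSpecIso_inv_naturality]
    simp [Scheme.Hom.appTop, Scheme.Hom.appLE]
  have hcomm : g ≫ p = Spec.map w ≫ Spec.map q := by
    rw [← Spec.map_comp]
    apply ext_of_isAffine
    have h1 : (g ≫ p).appTop = p.appLE ⊤ V (by simp) ≫ g.appLE V ⊤ hgV := by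
      refine Eq.trans ?_ (Scheme.Hom.appLE_comp_appLE g p ⊤ V ⊤ (by simp) hgV).symm
      simp [Scheme.Hom.appTop, Scheme.Hom.appLE]
    have h2 : q ≫ w = αB ≫ r := rfl
    rw [h1, hg, h2, ← cancel_epi (Scheme.ΓSpecIso A).inv, ← Scheme.ΓSpecIso_inv_naturality (αB ≫ r)]
    simp [αB]
  have hσ : pullback.lift g (Spec.map w) hcomm ≫ pullback.fst p (Spec.map q) = g := pullback.lift_fst _ _ _
  have h3 : g.appLE V ⊤ hgV b = 0 := by
    have e := ConcreteCategory.congr_hom (Scheme.Hom.appLE_comp_appLE (pullback.lift g (Spec.map w) hcomm)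
      (pullback.fst p (Spec.map q)) V (pullback.fst p (Spec.map q) ⁻¹ᵁ V) ⊤ le_rfl
      (by rw [← Scheme.Hom.comp_preimage, hσ]; exact hgV)) b
    simp only [hσ] at e
    refine e.symm.trans ?_
    rw [CommRingCat.comp_apply, ← Scheme.Hom.app_eq_appLE, hb0, map_zero]
  rw [hg, CommRingCat.comp_apply] at h3
  exact Ideal.Quotient.eq_zero_iff_mem.mp
    ((ConcreteCategory.bijective_of_isIso (Scheme.ΓSpecIso _).inv).1 (h3.trans (map_zero _).symm))

end Groth.Agent.S6063
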