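import Groth.Statements.S6066
import Groth.Agent.TorsionDense.Transporter

set_option autoImplicit false
open CategoryTheory MonoidalCategory CartesianMonoidalCategory MonObj GrpObj AlgebraicGeometry
universe u
open SGA3x

namespace Groth.Agent.S6066

open CategoryTheory.Limits in
/-- Let S be a locally Noetherian scheme, H a commutative S-group which is of finite type over S, and E
a nonempty set of integers n > 0 stable under multiplication such that a) every kernel ₙH of the
n-th power map (n ∈ E; the pullback of the unit section along that map) is finite and flat over S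
and b) for every s ∈ S the family of fibres (ₙH)_s ⟶ H_s, n ∈ E, is schematically dense in H_s. Let
u : H ⟶ G be a homomorphism into an S-group G locally of finite type over S and k : K ⟶ G a closed
sub-group-scheme. Then the transporter of u into K — the subfunctor of G of those points g, with
values in an S-scheme X, such that for every X' ⟶ X and every X'-valued point h of H the point g
u(h) g⁻¹ lies in K — is representable by a closed subscheme of G; and if the scheme G is Noetherian
there is n ∈ E such that a point g of G lies in the transporter if and only if g u(h) g⁻¹ lies in K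
for all points h of H with h^n = 1. (The published statement is over an arbitrary base S and also
asserts that the transporter is smooth over S when G is smooth, K is smooth or of multiplicative
type and the ₙH, n ∈ E, are of multiplicative type; this row assumes S locally Noetherian, the
setting in which the printed argument through the base G applies, and does not state the smoothness
assertion.) -/
theorem result {S : Scheme.{u}} [IsLocallyNoetherian S]
    (H : Over S) [GrpObj H] [IsCommMonObj H] [LocallyOfFiniteType H.hom] [QuasiCompact H.hom]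
    (E : Set ℕ) (hE : E.Nonempty) (hE0 : ∀ n ∈ E, 0 < n) (hEmul : ∀ m ∈ E, ∀ n ∈ E, m * n ∈ E)
    (ha : ∀ n ∈ E, IsFinite ((pullback.snd η[H].left (𝟙 H ^ n : H ⟶ H).left) ≫ H.hom) ∧ Flat ((pullback.snd η[H].left (𝟙 H ^ n : H ⟶ H).left) ≫ H.hom))
    (hb : ∀ (s : S) (V : (H.hom.fiber s).Opens) (t : Γ(H.hom.fiber s, V)),
      (∀ n ∈ E, (MoreMor.fiberMap (pullback.snd η[H].left (𝟙 H ^ n : H ⟶ H).left) H.hom s).app V t = 0) → t = 0)
    (G K : Over S) [GrpObj G] [GrpObj K] [LocallyOfFiniteType G.hom] (u : H ⟶ G) [IsMonHom u]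
    (k : K ⟶ G) [IsMonHom k] [IsClosedImmersion k.left] :
    (∃ (T : Over S) (j : T ⟶ G), IsClosedImmersion j.left ∧
      ∀ (X : Over S) (g : X ⟶ G), (∃ t : X ⟶ T, t ≫ j = g) ↔
        ∀ (X' : Over S) (x : X' ⟶ X) (h : X' ⟶ H), ∃ κ : X' ⟶ K, (x ≫ g) * (h ≫ u) * (x ≫ g)⁻¹ = κ ≫ k) ∧
    (AlgebraicGeometry.IsNoetherian G.left → ∃ n ∈ E, ∀ (X : Over S) (g : X ⟶ G),
      (∀ (X' : Over S) (x : X' ⟶ X) (h : X' ⟶ H), ∃ κ : X' ⟶ K, (x ≫ g) * (h ≫ u) * (x ≫ g)⁻¹ = κ ≫ k) ↔
        ∀ (X' : Over S) (x : X' ⟶ X) (h : X' ⟶ H), h ^ n = 1 → ∃ κ : X' ⟶ K, (x ≫ g) * (h ≫ u) * (x ≫ g)⁻¹ = κ ≫ k) := by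
  have : Nonempty (ULift.{u} E) := ⟨⟨⟨_, hE.some_mem⟩⟩⟩
  have : IsLocallyNoetherian H.left := LocallyOfFiniteType.isLocallyNoetherian H.hom
  have : IsLocallyNoetherian G.left := LocallyOfFiniteType.isLocallyNoetherian G.hom
  let f := fun i : ULift.{u} E => Groth.TorsionDense.torIncl H i.down.1
  have hdom : Groth.TorsionDense.UnivDom H.hom f :=
    Groth.TorsionDense.univDom_of_fibres H.hom f (fun i => (ha _ i.down.2).2)
      fun s V t ht => hb s V t fun n hn => ht ⟨⟨n, hn⟩⟩
  let p := CategoryTheory.Limits.pullback.snd H.hom G.hom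
  let fG := fun i => Groth.TorsionDense.bc H.hom (f i) G.hom
  have e : ∀ i, fG i ≫ p = CategoryTheory.Limits.pullback.snd (f i ≫ H.hom) G.hom :=
    fun i => CategoryTheory.Limits.pullback.lift_snd _ _ _
  have hfin : ∀ i, IsFinite (fG i ≫ p) := fun i => by
    rw [e]; exact MorphismProperty.pullback_snd _ _ (ha _ i.down.2).1
  have hflat : ∀ i, Flat (fG i ≫ p) := fun i => by
    rw [e]; exact MorphismProperty.pullback_snd _ _ (ha _ i.down.2).2
  have hlift : ∀ i j, (∃ a, a ≫ f j = f i) → ∃ a, a ≫ fG j = fG i := by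
    rintro i j ⟨a, ha'⟩
    refine ⟨CategoryTheory.Limits.pullback.lift (CategoryTheory.Limits.pullback.fst _ _ ≫ a) (CategoryTheory.Limits.pullback.snd _ _) ?_, ?_⟩
    · rw [Category.assoc, ← Category.assoc a, ha']; exact CategoryTheory.Limits.pullback.condition
    · apply CategoryTheory.Limits.pullback.hom_ext <;>
        simp [fG, Groth.TorsionDense.bc, CategoryTheory.Limits.pullback.lift_fst, CategoryTheory.Limits.pullback.lift_snd,
          CategoryTheory.Limits.pullback.lift_fst_assoc, ha']
  let y := CategoryTheory.Limits.pullback.fst (Groth.TorsionDense.conjMap u).left k.left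
  have hy : IsClosedImmersion y := inferInstance
  obtain ⟨h1, h2⟩ := @Groth.TorsionDense.exists_locus _ _ _ _ _ _ p fG _ hfin hflat
    (fun i j => ⟨⟨⟨_, hEmul _ i.down.2 _ j.down.2⟩⟩,
      hlift _ _ (Groth.TorsionDense.exists_tor_mono H _ _), hlift _ _ (by
      obtain ⟨a, ha⟩ := Groth.TorsionDense.exists_tor_mono H j.down.1 i.down.1
      show ∃ a, a ≫ Groth.TorsionDense.torIncl H (i.down.1 * j.down.1) = _
      rw [Nat.mul_comm]
      exact ⟨a, ha⟩)⟩) (hdom.baseChange G.hom) y hy
  -- the transporter condition over `G`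
  have hP : ∀ (X : Over S) (g : X ⟶ G),
      (∀ (X' : Over S) (x : X' ⟶ X) (h : X' ⟶ H), ∃ κ : X' ⟶ K, (x ≫ g) * (h ≫ u) * (x ≫ g)⁻¹ = κ ≫ k) ↔
        ∃ l, l ≫ y = CategoryTheory.Limits.pullback.fst p g.left := by
    intro X g
    constructor
    · intro hg
      obtain ⟨l, hl⟩ := Groth.TorsionDense.exists_factor_of_conj u k (𝟙 _) p (Category.id_comp _) g
        fun X' x h _ _ => hg X' x h
      exact ⟨l, hl.trans (Category.comp_id _)⟩
    · rintro ⟨l, hl⟩ X' x h
      exact Groth.TorsionDense.exists_conj_of_factor u k (𝟙 _) p (Category.id_comp _) g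
        ⟨l, hl.trans (Category.comp_id _).symm⟩ x h (lift h (x ≫ g)).left (Category.comp_id _)
  refine ⟨?_, fun hG => ?_⟩
  · obtain ⟨T, t, ht, hT⟩ := h1
    refine ⟨Over.mk (t ≫ G.hom), Over.homMk t rfl, ht, fun X g => ?_⟩
    rw [hP, ← hT]
    refine ⟨fun ⟨s, hs⟩ => ⟨s.left, congrArg CommaMorphism.left hs⟩, fun ⟨s, hs⟩ =>
      ⟨Over.homMk s ?_, Over.OverMorphism.ext hs⟩⟩
    show s ≫ t ≫ G.hom = X.hom
    rw [← Category.assoc, hs, Over.w]
  · obtain ⟨n, hn⟩ := h2 hG
    refine ⟨n.down.1, n.down.2, fun X g => ?_⟩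
    rw [hP, hn]
    constructor
    · intro hl X' x h hh
      obtain ⟨b, hb'⟩ := Groth.TorsionDense.exists_lift_tor H h n.down.1 hh
      refine Groth.TorsionDense.exists_conj_of_factor u k (fG n) _ rfl g hl x h
        (CategoryTheory.Limits.pullback.lift b (x ≫ g).left ?_) ?_
      · rw [← Category.assoc, show b ≫ f n = h.left from hb', Over.w, Over.w]
      · apply CategoryTheory.Limits.pullback.hom_ext
        · simp [fG, Groth.TorsionDense.bc, CategoryTheory.Limits.pullback.lift_fst, CategoryTheory.Limits.pullback.lift_fst_assoc]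
          exact hb'
        · simp [fG, Groth.TorsionDense.bc, CategoryTheory.Limits.pullback.lift_snd]
    · intro hg
      refine Groth.TorsionDense.exists_factor_of_conj u k (fG n) _ rfl g fun X' x h b hb' => hg X' x h ?_
      let b₀ : X' ⟶ Over.mk (Groth.TorsionDense.torIncl H n.down.1 ≫ H.hom) :=
        Over.homMk (b ≫ CategoryTheory.Limits.pullback.fst _ _) (by
          show (b ≫ CategoryTheory.Limits.pullback.fst _ _) ≫ f n ≫ H.hom = X'.hom
          rw [← Over.w h, ← hb']
          simp [fG, Groth.TorsionDense.bc, CategoryTheory.Limits.pullback.lift_fst_assoc])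
      have e₀ : h = b₀ ≫ (Over.homMk (Groth.TorsionDense.torIncl H n.down.1) rfl :
          Over.mk (Groth.TorsionDense.torIncl H n.down.1 ≫ H.hom) ⟶ H) := Over.OverMorphism.ext (by
        rw [← hb', Over.comp_left]
        simp [fG, b₀, f, Groth.TorsionDense.bc, CategoryTheory.Limits.pullback.lift_fst])
      rw [e₀, ← MonObj.comp_pow, Groth.TorsionDense.tor_pow, MonObj.comp_one]

end Groth.Agent.S6066
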