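import Groth.Statements.S6067
import Groth.Agent.SmoothWeil.Transporter

set_option autoImplicit false
open CategoryTheory MonoidalCategory CartesianMonoidalCategory MonObj GrpObj AlgebraicGeometry
universe u
open SGA3x

namespace Groth.Agent.S6067

/-- Transporter: Let G be an S-group locally of finite type and quasi-separated over S, H an S-group
which is smooth and of finite presentation over S with connected fibres, i : H ⟶ G a homomorphism
which is a monomorphism, and j : K ⟶ G a homomorphism of S-groups which is a monomorphism of finite
presentation. Then the transporter of H into K — the subfunctor of G of those points g, with values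
in an S-scheme X, such that for every X' ⟶ X and every X'-valued point h of H the point g i(h) g⁻¹
lies in K — is representable by a closed subscheme of G whose immersion into G is of finite
presentation. -/
theorem result {S : Scheme.{u}} (G H K : Over S) [GrpObj G] [GrpObj H] [GrpObj K]
    [LocallyOfFiniteType G.hom] [QuasiSeparated G.hom] [Smooth H.hom] [QuasiCompact H.hom] [QuasiSeparated H.hom]
    (hconn : ∀ s : S, ConnectedSpace ↥(Limits.pullback H.hom (S.fromSpecResidueField s)))
    (i : H ⟶ G) [IsMonHom i] [Mono i] (j : K ⟶ G) [IsMonHom j] [Mono j]
    [LocallyOfFinitePresentation j.left] [QuasiCompact j.left] [QuasiSeparated j.left] :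
    ∃ (T : Over S) (t : T ⟶ G), IsClosedImmersion t.left ∧ LocallyOfFinitePresentation t.left ∧
      ∀ (X : Over S) (g : X ⟶ G), (∃ x : X ⟶ T, x ≫ t = g) ↔
        ∀ (X' : Over S) (x : X' ⟶ X) (h : X' ⟶ H), ∃ κ : X' ⟶ K, (x ≫ g) * (h ≫ i) * (x ≫ g)⁻¹ = κ ≫ j := by
  haveI := Groth.SmoothWeil.geometricallyIrreducible_of_connected_fibres H hconn
  exact Groth.SmoothWeil.exists_transporter i j

end Groth.Agent.S6067
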