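import Groth.Statements.S6069
import Groth.Agent.Misc15.MTFin.Finite
-- import your own Groth.Agent.* helpers here

set_option autoImplicit false
open CategoryTheory MonoidalCategory CartesianMonoidalCategory MonObj GrpObj AlgebraicGeometry
universe u
open CategoryTheory.Limits
open SGA3x

namespace Groth.Agent.S6069

/-- Let G be an S-group which is affine and of finite presentation over S. Then the functor which to an
S-scheme T assigns the set of subgroup schemes of G ×_S T which are of multiplicative type and
finite over T (homomorphisms which are immersions from a T-group of multiplicative type, finite over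
T) is representable by an S-scheme M every point of which has an open and closed neighbourhood
affine over S: M carries a universal such subgroup K ⟶ G ×_S M, and for every f : T ⟶ S and every
such subgroup K' of G ×_S T there is exactly one S-morphism v : T ⟶ M under which the pull-back of K
equals K' as a subscheme of G ×_S T (compared through their maps to G and to T). Moreover M is
locally of finite presentation over S. (The published statement says that the representing scheme is
affine over S; its argument builds it as the disjoint sum, over the isomorphism types of finite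
commutative groups, of pieces each affine over S, and for G the multiplicative group over a field
that sum has one copy of S for every n ≥ 1 — the subgroups of n-th roots of unity — so it is not
quasi-compact, hence not affine, over S; this row states the piecewise affineness. The published
statement also allows S locally Noetherian with G affine of arbitrary type; its argument that the
subgroup immersions form an open and closed part of the scheme of homomorphisms needs G of finite
presentation — for G an infinite product of copies of the multiplicative group over a field and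
homomorphisms from the group of p-th roots of unity, p prime, the immersions form a part which is
open but not closed — so this row assumes G of finite presentation over S.) -/
theorem result {S : Scheme.{u}} (G : Over S) [GrpObj G] [IsAffineHom G.hom]
    [LocallyOfFinitePresentation G.hom] :
    ∃ (M : Over S) (K : Over M.left) (_ : GrpObj K) (j : K ⟶ Red.bc M.hom G),
      (∀ m : ↥M.left, ∃ U : M.left.Opens, m ∈ U ∧ IsClosed (U : Set ↥M.left) ∧ IsAffineHom (U.ι ≫ M.hom)) ∧ IsMonHom j ∧ IsImmersion j.left ∧ SGA3x.IsMultTypeFT K ∧ IsFinite K.hom ∧
      (∀ (T : Scheme.{u}) (f : T ⟶ S) (K' : Over T) [GrpObj K'] (j' : K' ⟶ Red.bc f G),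
        IsMonHom j' → IsImmersion j'.left → SGA3x.IsMultTypeFT K' → IsFinite K'.hom →
        ∃! v : T ⟶ M.left, v ≫ M.hom = f ∧
          ∃ φ : K'.left ≅ (Red.bc v K).left,
            φ.hom ≫ (Red.bc v K).hom = K'.hom ∧
            φ.hom ≫ ((Over.pullback v).map j).left ≫ pullback.fst (Red.bc M.hom G).hom v ≫ pullback.fst G.hom M.hom =
              j'.left ≫ pullback.fst G.hom f) ∧
      LocallyOfFinitePresentation M.hom := by
  have hGa : IsAffineHom G.hom := inferInstance
  obtain ⟨D, hOk, hPa, hPp⟩ := Groth.Misc15.MTFin.exists_finPieces G hGa
  have hfin : ∀ i : Groth.Misc15.MTSub.Idx.{u}, D.Ok i → Finite i.Λ := fun i h => (hOk i).1 h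
  obtain ⟨X⟩ := Groth.Misc15.MTSub.exists_model_of_invariant D hGa (Groth.Misc15.MTFin.exists_invariant D hfin hPa)
  obtain ⟨iK, hj⟩ := X.exists_grpObj_Kun
  letI := iK
  haveI := hj
  haveI := X.isClosedImmersion_jun
  refine ⟨X.M, X.Kun, iK, X.jun, fun m => ?_, hj, inferInstance, X.isMultTypeFT_Kun,
    Groth.Misc15.MTFin.isFinite_Kun X hfin hGa, fun T f K' iK' j' hj' himm hMT hK' => ?_,
    Groth.Misc15.MTFin.lfp_M X hPp⟩
  · obtain ⟨i, hm⟩ := Groth.Misc15.MTFin.exists_mem_imgOpen X m
    exact ⟨_, hm, Groth.Misc15.MTFin.isClosed_imgOpen X i,
      Groth.Misc15.MTFin.isAffineHom_imgOpen X hfin hPa hGa i⟩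
  haveI := hj'
  haveI := himm
  haveI := hK'
  haveI : Mono j'.left := inferInstance
  obtain ⟨v, hv, hvu⟩ := X.existsUnique_point f j' hMT fun Y _ _ τ i e => (hOk i).2 (by
    haveI := Groth.Misc15.MTFin.finite_of_triv τ
    exact Finite.of_equiv τ.M e.symm.toEquiv)
  refine ⟨v.left, ⟨Over.w v, (X.same_pts_iff_exists_iso f j' v).1 hv⟩, ?_⟩
  rintro w ⟨hw, hφ⟩
  let wO : Over.mk f ⟶ X.M := Over.homMk w hw
  exact congrArg CommaMorphism.left (hvu wO ((X.same_pts_iff_exists_iso f j' wO).2 hφ))

end Groth.Agent.S6069
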