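import Groth.Statements.S6070
import Groth.Agent.Misc15.SubLift.Lift
import Groth.Agent.Misc15.SubLift.Torsion
import Groth.Agent.S5294
import Groth.Agent.Reductive.MTConjLocal

set_option autoImplicit false
open CategoryTheory MonoidalCategory CartesianMonoidalCategory MonObj GrpObj AlgebraicGeometry
universe u
open SGA3x

namespace Groth.Agent.S6070

/-- In lifting form: what formal smoothness of the morphism H ↦ ₙH of the functor of multiplicative
subgroups means. Let S = Spec R be affine, J a nilpotent ideal of R, S₀ = Spec (R/J), n a natural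
number and G an S-group which is smooth over S. Let j₀ : H₀ ⟶ G₀ = G ×_S S₀ be a sub-group-scheme (a
homomorphism which is an immersion) of multiplicative type (fpqc-locally isomorphic, as a group, to
diagonalisable groups D(M), M allowed to vary and taken in Type 0), and l : L ⟶ G a sub-group-scheme
of multiplicative type whose base change to S₀ is the n-torsion of H₀ inside G₀: a point of G₀
factors through L ×_S S₀ if and only if it is j₀(h) for a point h of H₀ with h^n = 1. Then there is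
a sub-group-scheme j : H ⟶ G of multiplicative type whose base change to S₀ coincides with H₀ as a
subgroup of G₀ (an isomorphism compatible with the maps to G₀) and whose n-torsion is L: a point of
G factors through L if and only if it is j(h) for a point h of H with h^n = 1. -/
theorem result {R : Type u} [CommRing R] (J : Ideal R) (hJ : IsNilpotent J) (n : ℕ)
    (G : Over (Spec (CommRingCat.of R))) [GrpObj G] (hG : Smooth G.hom)
    (H₀ : Over (Spec (CommRingCat.of (R ⧸ J)))) [GrpObj H₀]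
    (hH₀ : TwC.Locally (Spec (CommRingCat.of (R ⧸ J))) TwC.Topology.fpqc (fun S' f => ∃ (M : Type) (_ : AddCommGroup M), Nonempty (Grp.mk (Red.bc f H₀) ≅ Grp.mk (Red.DS S' M))))
    (j₀ : H₀ ⟶ Red.bc (Spec.map (CommRingCat.ofHom (Ideal.Quotient.mk J))) G) [IsMonHom j₀] [IsImmersion j₀.left]
    (L : Over (Spec (CommRingCat.of R))) [GrpObj L] (hL : TwC.Locally (Spec (CommRingCat.of R)) TwC.Topology.fpqc (fun S' f => ∃ (M : Type) (_ : AddCommGroup M), Nonempty (Grp.mk (Red.bc f L) ≅ Grp.mk (Red.DS S' M))))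
    (l : L ⟶ G) [IsMonHom l] [IsImmersion l.left]
    (hL0 : ∀ (X : Over (Spec (CommRingCat.of (R ⧸ J)))) (g : X ⟶ Red.bc (Spec.map (CommRingCat.ofHom (Ideal.Quotient.mk J))) G),
      (∃ y : X ⟶ Red.bc (Spec.map (CommRingCat.ofHom (Ideal.Quotient.mk J))) L, y ≫ (Over.pullback (Spec.map (CommRingCat.ofHom (Ideal.Quotient.mk J)))).map l = g) ↔
        ∃ h : X ⟶ H₀, h ^ n = 1 ∧ h ≫ j₀ = g) :
    ∃ (H : Over (Spec (CommRingCat.of R))) (_ : GrpObj H) (j : H ⟶ G), IsMonHom j ∧ IsImmersion j.left ∧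
      TwC.Locally (Spec (CommRingCat.of R)) TwC.Topology.fpqc (fun S' f => ∃ (M : Type) (_ : AddCommGroup M), Nonempty (Grp.mk (Red.bc f H) ≅ Grp.mk (Red.DS S' M))) ∧
      (∃ φ : Red.bc (Spec.map (CommRingCat.ofHom (Ideal.Quotient.mk J))) H ≅ H₀, φ.hom ≫ j₀ = (Over.pullback (Spec.map (CommRingCat.ofHom (Ideal.Quotient.mk J)))).map j) ∧
      ∀ (X : Over (Spec (CommRingCat.of R))) (g : X ⟶ G),
        (∃ y : X ⟶ L, y ≫ l = g) ↔ ∃ h : X ⟶ H, h ^ n = 1 ∧ h ≫ j = g := by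
  obtain ⟨H, iH, j, hj, hjimm, hMT, φ, hφ, hφj⟩ :=
    Groth.Misc15.SubLift.exists_lift_subgroup J hJ G hG H₀ hH₀ j₀
  obtain ⟨S', f, h1, h2, h3, hloc⟩ := hMT
  have hH : TwC.Locally (Spec (CommRingCat.of R)) TwC.Topology.fpqc (fun S' f => ∃ (M : Type) (_ : AddCommGroup M),
      Nonempty (Grp.mk (Red.bc f H) ≅ Grp.mk (Red.DS S' M))) :=
    ⟨S', f, h1, h2, h3, fun s' => by obtain ⟨U, hU, M, iM, -, e⟩ := hloc s'; exact ⟨U, hU, M, iM, e⟩⟩
  obtain ⟨K, iK, a, ha, hacl, hK⟩ :=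
    Groth.Misc15.SubLift.exists_powKer (Groth.Reductive.MTInt.locTriv_of_locally hH) n
  haveI := hjimm
  haveI := hj
  haveI := hφ
  haveI := ha
  haveI := hacl
  haveI : Mono a := (Over.forget _).mono_of_mono_map (inferInstanceAs (Mono a.left))
  have hKloc := Groth.Misc15.SubLift.locally_powKer n a hK hH
  haveI : IsImmersion (a ≫ j).left := inferInstanceAs (IsImmersion (a.left ≫ j.left))
  let i₀ := Spec.map (CommRingCat.ofHom (Ideal.Quotient.mk J))
  let Y₀ : Over (Spec (CommRingCat.of R)) := Over.mk i₀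
  -- points over the closed subscheme
  have hsub : ∀ (X : Over (Spec (CommRingCat.of R))) (p : X ⟶ Y₀),
      ∃ (W : Over (Spec (CommRingCat.of (R ⧸ J)))), Nonempty ((Over.map i₀).obj W ≅ X) := fun X p =>
    ⟨Over.mk p.left, ⟨Over.isoMk (Iso.refl _) (by
      show 𝟙 _ ≫ X.hom = p.left ≫ i₀
      rw [Category.id_comp]; exact (Over.w p).symm)⟩⟩
  have hfwd : ∀ (X : Over (Spec (CommRingCat.of R))) (_ : X ⟶ Y₀) (x : X ⟶ K), ∃ y : X ⟶ L, y ≫ l = x ≫ a ≫ j := by
    intro X p x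
    obtain ⟨W, ⟨e⟩⟩ := hsub X p
    let t := (Groth.Reductive.bcPointEquiv i₀ H W).symm (e.hom ≫ x ≫ a)
    have ht : t ^ n = 1 := by
      show (Groth.Reductive.bcPointEquiv i₀ H W).symm _ ^ n = 1
      rw [← map_pow, ← Category.assoc, (hK _ _).1 ⟨e.hom ≫ x, rfl⟩, map_one]
    obtain ⟨y, hy⟩ := (hL0 W (t ≫ (Over.pullback i₀).map j)).2 ⟨t ≫ φ.hom, by
      rw [← MonObj.pow_comp, ht, MonObj.one_comp], by rw [Category.assoc, hφj]⟩
    refine ⟨e.inv ≫ Groth.Reductive.bcPointEquiv i₀ L W y, ?_⟩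
    rw [Category.assoc, ← Groth.Reductive.MTInt.bcPointEquiv_map, hy,
      Groth.Reductive.MTInt.bcPointEquiv_map, MulEquiv.apply_symm_apply, Category.assoc,
      e.inv_hom_id_assoc, Category.assoc]
  have hbwd : ∀ (X : Over (Spec (CommRingCat.of R))) (_ : X ⟶ Y₀) (y : X ⟶ L), ∃ x : X ⟶ K, x ≫ a ≫ j = y ≫ l := by
    intro X p y
    obtain ⟨W, ⟨e⟩⟩ := hsub X p
    obtain ⟨h, hn, hh⟩ := (hL0 W ((Groth.Reductive.bcPointEquiv i₀ L W).symm (e.hom ≫ y) ≫
      (Over.pullback i₀).map l)).1 ⟨_, rfl⟩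
    let x₁ := Groth.Reductive.bcPointEquiv i₀ H W (h ≫ φ.inv)
    have hx₁ : x₁ ^ n = 1 := by
      show Groth.Reductive.bcPointEquiv i₀ H W (h ≫ φ.inv) ^ n = 1
      rw [← map_pow, ← MonObj.pow_comp, hn, MonObj.one_comp, map_one]
    obtain ⟨z, hz⟩ := (hK _ x₁).2 hx₁
    refine ⟨e.inv ≫ z, ?_⟩
    have h4 : (h ≫ φ.inv) ≫ (Over.pullback i₀).map j = h ≫ j₀ := by
      rw [← hφj, Category.assoc, φ.inv_hom_id_assoc]
    rw [Category.assoc, reassoc_of% hz]
    show e.inv ≫ Groth.Reductive.bcPointEquiv i₀ H W (h ≫ φ.inv) ≫ j = _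
    rw [← Groth.Reductive.MTInt.bcPointEquiv_map, h4, hh, Groth.Reductive.MTInt.bcPointEquiv_map,
      MulEquiv.apply_symm_apply, Category.assoc, e.inv_hom_id_assoc]
  obtain ⟨g, hg, ψ, hψ⟩ := Groth.Agent.S5294.result J hJ G K L hG hKloc hL (a ≫ j) l 1 (fun X p => by
    constructor
    · intro x
      obtain ⟨y, hy⟩ := hfwd X p x
      exact ⟨y, by rw [MonObj.comp_one, _root_.one_mul, inv_one, _root_.mul_one, hy]⟩
    · intro y
      obtain ⟨x, hx⟩ := hbwd X p y
      exact ⟨x, by rw [MonObj.comp_one, inv_one, _root_.one_mul, _root_.mul_one, hx]⟩)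
  -- conjugation by g
  let c : ∀ X : Over (Spec (CommRingCat.of R)), X ⟶ G := fun X => toUnit X ≫ g
  have hc : ∀ {X Y : Over (Spec (CommRingCat.of R))} (w : X ⟶ Y), w ≫ c Y = c X := fun w => by
    show w ≫ toUnit _ ≫ g = toUnit _ ≫ g
    rw [← Category.assoc, comp_toUnit]
  let cM : G ⟶ G := c G * 𝟙 G * (c G)⁻¹
  let cN : G ⟶ G := (c G)⁻¹ * 𝟙 G * c G
  have hcM : ∀ {X : Over (Spec (CommRingCat.of R))} (x : X ⟶ G), x ≫ cM = c X * x * (c X)⁻¹ := fun x => by
    rw [MonObj.comp_mul, MonObj.comp_mul, GrpObj.comp_inv, hc, Category.comp_id]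
  have hcN : ∀ {X : Over (Spec (CommRingCat.of R))} (x : X ⟶ G), x ≫ cN = (c X)⁻¹ * x * c X := fun x => by
    rw [MonObj.comp_mul, MonObj.comp_mul, GrpObj.comp_inv, hc, Category.comp_id]
  let eM : G ≅ G :=
    { hom := cM
      inv := cN
      hom_inv_id := by rw [hcN]; simp only [cM]; group
      inv_hom_id := by rw [hcM]; simp only [cN]; group }
  haveI : IsMonHom cM := Groth.AlgGrp1.isMonHom_of_points _ fun X x y => by rw [hcM, hcM, hcM]; group
  haveI : IsIso cM.left := ((Over.forget _).mapIso eM).isIso_hom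
  refine ⟨H, iH, j ≫ cM, inferInstance, inferInstanceAs (IsImmersion (j.left ≫ cM.left)), hH, ⟨φ, ?_⟩, ?_⟩
  · rw [hφj]
    refine (Category.id_comp _).symm.trans (Eq.trans ?_ (Category.id_comp _))
    let W := Red.bc i₀ H
    let p : (Over.map i₀).obj W ⟶ Y₀ := Over.homMk W.hom rfl
    apply (Groth.Reductive.bcPointEquiv i₀ G W).injective
    rw [Groth.Reductive.MTInt.bcPointEquiv_map, Groth.Reductive.MTInt.bcPointEquiv_map, ← Category.assoc, hcM]
    have h1 : c ((Over.map i₀).obj W) = 1 := by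
      show toUnit _ ≫ g = 1
      rw [toUnit_unique (toUnit ((Over.map i₀).obj W)) (p ≫ toUnit Y₀), Category.assoc, hg, MonObj.comp_one]
    rw [h1, inv_one, _root_.one_mul, _root_.mul_one]
  · intro X x
    constructor
    · rintro ⟨y, rfl⟩
      refine ⟨(y ≫ ψ.inv) ≫ a, (hK _ _).1 ⟨_, rfl⟩, ?_⟩
      have h5 : (a ≫ j) ≫ cM = ψ.hom ≫ l := by rw [hcM]; exact hψ
      rw [Category.assoc, ← Category.assoc a j cM, h5, Category.assoc, ψ.inv_hom_id_assoc]
    · rintro ⟨h, hn, rfl⟩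
      obtain ⟨z, rfl⟩ := (hK _ h).2 hn
      have h5 : (a ≫ j) ≫ cM = ψ.hom ≫ l := by rw [hcM]; exact hψ
      exact ⟨z ≫ ψ.hom, by rw [Category.assoc, Category.assoc, ← h5, Category.assoc]⟩

end Groth.Agent.S6070
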