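import Groth.Statements.S6072
import Groth.Agent.Misc12.MultLift.Basic

set_option autoImplicit false
universe u
open TensorProduct SGA3b
open SGA3b

namespace Groth.Agent.S6072

/-- Let R be a henselian local ring with residue field k and H₀ = Spec C₀ a k-group of multiplicative
type which is finite over k. Then H₀ lifts to R: there is an R-group H = Spec C of multiplicative
type, finite over R and isotrivial, together with an isomorphism of k-groups H ×_R k ≅ H₀, i.e. a
bialgebra isomorphism k ⊗_R C ≅ C₀ (existence of an isomorphism; the lift is determined up to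
isomorphism only). (Affine group schemes over an affine base are taken in Hopf-algebra form; base
change is the tensor product.) -/
theorem result (R : Type u) [CommRing R] [HenselianLocalRing R]
    (C₀ : Type u) [CommRing C₀] [HopfAlgebra (IsLocalRing.ResidueField R) C₀] [Module.Finite (IsLocalRing.ResidueField R) C₀]
    (h₀ : IsMultType (IsLocalRing.ResidueField R) C₀) :
    ∃ (C : Type u) (_ : CommRing C) (_ : HopfAlgebra R C), Module.Finite R C ∧ IsIsotrivial R C ∧
      Nonempty ((IsLocalRing.ResidueField R ⊗[R] C) ≃ₐc[IsLocalRing.ResidueField R] C₀) := by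
  let k := IsLocalRing.ResidueField R
  have : HenselianRing R (IsLocalRing.maximalIdeal R) := inferInstance
  have h0 : IsIsotrivial k C₀ := by
    obtain ⟨k', _, _, hf, hs, M, _, -, ⟨e⟩⟩ :=
      Groth.Sga3.CharLift.exists_finite_separable_isDiagFT (k := k) (A := C₀) inferInstance h₀
    have : Algebra.FormallyEtale k k' := Algebra.FormallyEtale.of_isSeparable _ _
    exact ⟨k', inferInstance, inferInstance,
      { finitePresentation := Algebra.FinitePresentation.of_finiteType.mp inferInstance },
      hf, inferInstance, M, inferInstance, ⟨e⟩⟩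
  let : HopfAlgebra (R ⧸ IsLocalRing.maximalIdeal R) C₀ :=
    (inferInstance : HopfAlgebra (IsLocalRing.ResidueField R) C₀)
  obtain ⟨A, _, _, hA, ⟨ε⟩⟩ :=
    Groth.Agent.Misc12.MultLift.exists_isotrivial_lift (IsLocalRing.maximalIdeal R) C₀ h0
  have : Module.Finite (R ⧸ IsLocalRing.maximalIdeal R) C₀ :=
    (inferInstance : Module.Finite (IsLocalRing.ResidueField R) C₀)
  have : Module.Finite (R ⧸ IsLocalRing.maximalIdeal R) ((R ⧸ IsLocalRing.maximalIdeal R) ⊗[R] A) :=
    Module.Finite.equiv ε.toAlgEquiv.symm.toLinearEquiv
  exact ⟨A, inferInstance, inferInstance,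
    Groth.Agent.Misc12.MultLift.finite_of_isIsotrivial (IsLocalRing.maximalIdeal R) hA, hA, ⟨ε⟩⟩

end Groth.Agent.S6072
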