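import Groth.Statements.S6073
import Groth.Agent.Sga3.BddGen.Main

set_option autoImplicit false
universe u
open CategoryTheory CategoryTheory.Limits MonoidalCategory CartesianMonoidalCategory MonObj GrpObj AlgebraicGeometry
open SGA3
open Groth.Sga3.BddGen Groth.Sga3.Solvable

namespace Groth.Agent.S6073

/-- Let k be an algebraically closed field, G a group scheme locally of finite type over k, and a : A →
G, b : B → G two closed subgroup schemes which are geometrically reduced over k, such that either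
(a) A and B are normal in G and of finite type over k, or (b) A is connected and B is of finite type
over k. Let i : Γ → G be the commutator subgroup scheme (A, B): the smallest closed subgroup scheme
of G through which A ×_k B → G, (x, y) ↦ a(x) b(y) a(x)⁻¹ b(y)⁻¹, factors. Then the image of Γ(k) in
G(k) is the commutator subgroup of the images of A(k) and B(k): the subgroup of G(k) generated by
the commutators of a k-point of A with a k-point of B. -/
theorem result (k : Type u) [Field k] [IsAlgClosed k]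
    (G A B : Over (Spec (CommRingCat.of k))) [GrpObj G] [GrpObj A] [GrpObj B] [LocallyOfFiniteType G.hom]
    (a : A ⟶ G) [IsMonHom a] [IsClosedImmersion a.left] (b : B ⟶ G) [IsMonHom b] [IsClosedImmersion b.left]
    [GeometricallyReduced A.hom] [GeometricallyReduced B.hom] [QuasiCompact B.hom]
    (hcase : (AlgGrp.IsNormalHom a ∧ AlgGrp.IsNormalHom b ∧ QuasiCompact A.hom) ∨ ConnectedSpace A.left)
    (Γ : Over (Spec (CommRingCat.of k))) [GrpObj Γ] (i : Γ ⟶ G) [IsMonHom i] [IsClosedImmersion i.left]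
    (hf : ∃ f' : A ⊗ B ⟶ Γ, f' ≫ i = (((fst A B) ≫ a) * ((snd A B) ≫ b) * ((fst A B) ≫ a)⁻¹ * ((snd A B) ≫ b)⁻¹))
    (hmin : ∀ (Γ' : Over (Spec (CommRingCat.of k))) (_ : GrpObj Γ') (i' : Γ' ⟶ G), IsMonHom i' → IsClosedImmersion i'.left →
        (∃ f'' : A ⊗ B ⟶ Γ', f'' ≫ i' = (((fst A B) ≫ a) * ((snd A B) ≫ b) * ((fst A B) ≫ a)⁻¹ * ((snd A B) ≫ b)⁻¹)) → ∃ j : Γ ⟶ Γ', j ≫ i' = i) :
    Set.range (fun z : 𝟙_ (Over (Spec (CommRingCat.of k))) ⟶ Γ => z ≫ i) =
      ((⁅Subgroup.closure (Set.range (fun x : 𝟙_ (Over (Spec (CommRingCat.of k))) ⟶ A => x ≫ a)),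
         Subgroup.closure (Set.range (fun y : 𝟙_ (Over (Spec (CommRingCat.of k))) ⟶ B => y ≫ b))⁆ : Subgroup (𝟙_ (Over (Spec (CommRingCat.of k))) ⟶ G)) :
        Set (𝟙_ (Over (Spec (CommRingCat.of k))) ⟶ G)) := by
  letI := ptsTopology G
  haveI hlA : LocallyOfFiniteType A.hom := by rw [← Over.w a]; infer_instance
  haveI hlB : LocallyOfFiniteType B.hom := by rw [← Over.w b]; infer_instance
  haveI := Groth.GenSub.geometricallyReduced_tensor A B
  haveI : LocallyOfFiniteType (A ⊗ B).hom := inferInstanceAs (LocallyOfFiniteType (pullback.fst A.hom B.hom ≫ A.hom))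
  let e := ptsEquivUnit G
  obtain ⟨As, hAs⟩ := ptsSub G a
  obtain ⟨Bs, hBs⟩ := ptsSub G b
  have hmapA : (Subgroup.closure (Set.range (fun x : 𝟙_ (Over (Spec (CommRingCat.of k))) ⟶ A => x ≫ a))).map
      e.toMonoidHom = As := by
    rw [MonoidHom.map_closure, MulEquiv.coe_toMonoidHom, image_range_comp, ← hAs, Subgroup.closure_eq]
  have hmapB : (Subgroup.closure (Set.range (fun x : 𝟙_ (Over (Spec (CommRingCat.of k))) ⟶ B => x ≫ b))).map
      e.toMonoidHom = Bs := by
    rw [MonoidHom.map_closure, MulEquiv.coe_toMonoidHom, image_range_comp, ← hBs, Subgroup.closure_eq]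
  have hnorm : ∀ {C : Over (Spec (CommRingCat.of k))} [GrpObj C] (c : C ⟶ G) [IsMonHom c], AlgGrp.IsNormalHom c →
      ∀ (Cs : Subgroup (Pts G)), (Cs : Set (Pts G)) = imgSet c → Cs.Normal := by
    intro C _ c _ hc Cs hCs
    refine ⟨fun x hx g => ?_⟩
    rw [← SetLike.mem_coe, hCs] at hx ⊢
    obtain ⟨n, rfl⟩ := hx
    obtain ⟨m, hm⟩ := hc _ g n
    exact ⟨m, hm.symm⟩
  obtain ⟨N, -, hcl⟩ := bdd_commutator a b As Bs hAs hBs
    (hcase.imp_left fun h => ⟨hnorm a h.1 As hAs, hnorm b h.2.1 Bs hBs, h.2.2⟩)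
  rw [← Groth.Sga3.BddGen.commutator_eq_closure] at hcl
  have hfsub : imgSet (((fst A B) ≫ a) * ((snd A B) ≫ b) * ((fst A B) ≫ a)⁻¹ * ((snd A B) ≫ b)⁻¹) ⊆
      (⁅As, Bs⁆ : Subgroup (Pts G)) := by
    rintro _ ⟨x, rfl⟩
    have h1 : (x ≫ fst A B) ≫ a ∈ As := hAs.symm.subset ⟨_, rfl⟩
    have h2 : (x ≫ snd A B) ≫ b ∈ Bs := hBs.symm.subset ⟨_, rfl⟩
    have h := Subgroup.commutator_mem_commutator h1 h2
    rw [commutatorElement_def] at h
    simpa [MonObj.comp_mul, GrpObj.comp_inv] using h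
  have h1 := imgSet_subset_of_min _ Γ i hmin ⁅As, Bs⁆ hcl hfsub
  obtain ⟨Γs, hΓs⟩ := ptsSub G i
  obtain ⟨f', hf'⟩ := hf
  have h2 : ⁅As, Bs⁆ ≤ Γs := by
    refine Subgroup.commutator_le.2 fun x hx y hy => ?_
    rw [← SetLike.mem_coe, hAs] at hx
    rw [← SetLike.mem_coe, hBs] at hy
    rw [← SetLike.mem_coe, hΓs]
    obtain ⟨x, rfl⟩ := hx
    obtain ⟨y, rfl⟩ := hy
    refine ⟨lift x y ≫ f', ?_⟩
    simp [Category.assoc, hf', MonObj.comp_mul, GrpObj.comp_inv, commutatorElement_def]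
  have heq : imgSet i = ((⁅As, Bs⁆ : Subgroup (Pts G)) : Set (Pts G)) :=
    h1.antisymm (fun x hx => hΓs.subset (h2 hx))
  apply e.injective.image_injective
  rw [image_range_comp, heq, ← hmapA, ← hmapB, ← Subgroup.map_commutator, Subgroup.coe_map]
  rfl

end Groth.Agent.S6073
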