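import Groth.Statements.S6074
import Groth.Agent.Sga3.BddGen.Field
import Groth.Agent.Sga3.BddGen.Connected

set_option autoImplicit false
universe u
open CategoryTheory CategoryTheory.Limits MonoidalCategory CartesianMonoidalCategory MonObj GrpObj AlgebraicGeometry
open SGA3
open Groth.Sga3.BddGen Groth.Sga3.Solvable Groth.AlgGrp1

namespace Groth.Agent.S6074

/-- Let k be a field, G a group scheme locally of finite type over k, X a k-scheme of finite type,
geometrically reduced and geometrically connected, and f : X → G a k-morphism whose image contains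
the unit point of G. Let i : Γ → G be the smallest closed subgroup scheme of G through which f
factors. Then there is a natural number N such that the underlying set of Γ is the set of points of
G lying under a word of length N in f: a point g of G is in the image of i if and only if there are
a k-scheme T, a point p of T, T-valued points x_1, …, x_N of X and signs such that the T-valued
point f(x_1)^{±1} ⋯ f(x_N)^{±1} of G maps p to g. (The set of points of G lying under words of
length exactly N is the image of the N-th iterated word morphism X^N → G built from f and its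
inverse.) -/
theorem result (k : Type u) [Field k]
    (G X : Over (Spec (CommRingCat.of k))) [GrpObj G] [LocallyOfFiniteType G.hom]
    [LocallyOfFiniteType X.hom] [QuasiCompact X.hom] [GeometricallyReduced X.hom] [GeometricallyConnected X.hom]
    (f : X ⟶ G) (he : ∃ x : X.left, f.left.base x ∈ Set.range (η[G] : 𝟙_ (Over (Spec (CommRingCat.of k))) ⟶ G).left.base)
    (Γ : Over (Spec (CommRingCat.of k))) [GrpObj Γ] (i : Γ ⟶ G) [IsMonHom i] [IsClosedImmersion i.left]
    (hf : ∃ f' : X ⟶ Γ, f' ≫ i = f)
    (hmin : ∀ (Γ' : Over (Spec (CommRingCat.of k))) (_ : GrpObj Γ') (i' : Γ' ⟶ G), IsMonHom i' → IsClosedImmersion i'.left →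
        (∃ f'' : X ⟶ Γ', f'' ≫ i' = f) → ∃ j : Γ ⟶ Γ', j ≫ i' = i) :
    ∃ N : ℕ, Set.range i.left.base =
      {g : G.left | ∃ (T : Over (Spec (CommRingCat.of k))) (p : T.left) (x : Fin N → (T ⟶ X)) (ε : Fin N → Bool),
        ((List.ofFn fun j : Fin N => if ε j then x j ≫ f else (x j ≫ f)⁻¹).prod : T ⟶ G).left.base p = g} := by
  let φ : Spec (CommRingCat.of (AlgebraicClosure k)) ⟶ Spec (CommRingCat.of k) :=
    Spec.map (CommRingCat.ofHom (algebraMap k (AlgebraicClosure k)))
  letI := ptsTopology (Red.bc φ G)
  haveI : LocallyOfFiniteType (Red.bc φ G).hom := inferInstanceAs (LocallyOfFiniteType (pullback.snd G.hom φ))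
  haveI : LocallyOfFiniteType (Red.bc φ X).hom := inferInstanceAs (LocallyOfFiniteType (pullback.snd X.hom φ))
  haveI : QuasiCompact (Red.bc φ X).hom := inferInstanceAs (QuasiCompact (pullback.snd X.hom φ))
  haveI : ConnectedSpace (Red.bc φ X).left :=
    GeometricallyConnected.geometrically_connectedSpace (f := X.hom) φ _ _ (IsPullback.of_hasPullback X.hom φ)
  let F := (Over.pullback φ).map f
  have hone : (1 : Pts (Red.bc φ G)) ∈ imgSet F := by
    obtain ⟨x, hx⟩ := he
    haveI : Surjective φ := ⟨fun y => ⟨IsLocalRing.closedPoint _, Subsingleton.elim (α := PrimeSpectrum k) _ _⟩⟩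
    obtain ⟨x', hx'⟩ := (pullback.fst X.hom φ).surjective x
    obtain ⟨o, ho⟩ := hx
    have h1 : (pullback.fst G.hom φ).base (F.left.base x') = (η[G] : 𝟙_ (Over (Spec (CommRingCat.of k))) ⟶ G).left.base o := by
      rw [← Scheme.Hom.comp_apply, show F.left ≫ pullback.fst G.hom φ = pullback.fst X.hom φ ≫ f.left from
        pullback.lift_fst _ _ _, Scheme.Hom.comp_apply, hx', ho]
    obtain ⟨q, -, hq⟩ := Scheme.exists_preimage_of_isPullback
      (Groth.GrpschAbsch.FibreFlat.isPullback_map φ (η[G] : 𝟙_ (Over (Spec (CommRingCat.of k))) ⟶ G)) o (F.left.base x') h1.symm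
    have hsub : Subsingleton (Red.bc φ (𝟙_ (Over (Spec (CommRingCat.of k))))).left := by
      haveI : IsIso (pullback.snd (𝟙 (Spec (CommRingCat.of k))) φ) := inferInstance
      exact ((pullback.snd (𝟙 (Spec (CommRingCat.of k))) φ).homeomorph).injective.subsingleton
    have hr : (1 : Pts (Red.bc φ G)) = toPt φ (toUnit _) ≫ (Over.pullback φ).map (η[G]) := by
      rw [← rho_comp, ← Hom.one_def, map_one]
    refine exists_pt_image F ⟨x', ?_⟩
    rw [hr, Over.comp_left, Scheme.Hom.comp_apply, ← hq, @Subsingleton.elim _ hsub q]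
  obtain ⟨N, hN⟩ := range_eq_wordPts φ f (bdd_of_connected F hone) Γ i hf hmin
  exact ⟨N, hN⟩

end Groth.Agent.S6074
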