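import Groth.Statements.S6076
import Groth.Agent.S12442
import Groth.Agent.SpectralTopology.Constructible
import Mathlib.Topology.Spectral.ConstructibleTopology

set_option autoImplicit false
universe u
open CategoryTheory CategoryTheory.Limits MonoidalCategory CartesianMonoidalCategory MonObj GrpObj AlgebraicGeometry
open SGA3

namespace Groth.Agent.S6076

open CategoryTheory Limits MonoidalCategory CartesianMonoidalCategory MonObj GrpObj AlgebraicGeometry Topology

/-- A covering of an affine scheme by constructible sets has a finite subcover. -/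
theorem exists_finite_cover (Y : Scheme.{u}) [IsAffine Y] {κ : Type*} (C : κ → Set Y)
    (hC : ∀ i, IsConstructible (C i)) (hcov : ∀ y, ∃ i, y ∈ C i) :
    ∃ t : Finset κ, ∀ y, ∃ i ∈ t, y ∈ C i := by
  have hopen : ∀ i, IsOpen[constructibleTopology Y] (C i) := fun i => by
    letI : TopologicalSpace Y.carrier := Y.carrier.str
    obtain ⟨n, U, V, hU, hV, hE⟩ := Groth.SpectralTopology.exists_pieces (hC i)
    rw [hE]
    refine @isOpen_iUnion _ _ (constructibleTopology Y) _ fun j => ?_
    rw [Set.sdiff_eq]
    refine @IsOpen.inter _ (constructibleTopology Y) _ _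
      (IsCompact.isOpen_constructibleTopology_of_isOpen (hU j).2.isCompact (hU j).1) ?_
    exact IsCompact.isOpen_constructibleTopology_of_isClosed
      (by rw [compl_compl]; exact (hV j).2.isCompact) (hV j).1.isClosed_compl
  obtain ⟨t, ht⟩ := (isCompact_univ (X := WithConstructibleTopology Y)).elim_finite_subcover
    (fun i => WithTopology.ofTopology ⁻¹' C i)
    (fun i => WithConstructibleTopology.isOpen_iff.2 (hopen i))
    (fun y _ => Set.mem_iUnion.2 (hcov _))
  refine ⟨t, fun y => ?_⟩
  obtain ⟨i, hi, h⟩ := Set.mem_iUnion₂.1 (ht (Set.mem_univ (WithTopology.toTopology _ y)))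
  exact ⟨i, hi, h⟩

variable {S : Scheme.{u}} (X : Over S)

/-- The m-fold product. -/
noncomputable def prodX : ℕ → Over S
  | 0 => 𝟙_ (Over S)
  | m + 1 => X ⊗ prodX m

/-- The projections. -/
noncomputable def proj : ∀ m, Fin m → (prodX X m ⟶ X)
  | 0 => Fin.elim0
  | m + 1 => Fin.cons (fst X (prodX X m)) fun j => snd X (prodX X m) ≫ proj m j

/-- Tuples of points are points of the product. -/
theorem exists_lift {T : Over S} : ∀ (m : ℕ) (x : Fin m → (T ⟶ X)),
    ∃ t : T ⟶ prodX X m, ∀ j, t ≫ proj X m j = x j
  | 0, _ => ⟨toUnit T, fun j => j.elim0⟩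
  | m + 1, x => by
    obtain ⟨t, ht⟩ := exists_lift m fun j => x j.succ
    refine ⟨lift (x 0) t, fun j => ?_⟩
    refine Fin.cases ?_ (fun j => ?_) j
    · simp [proj, prodX]
    · simp [proj, prodX, ht]

theorem lfp_prodX [LocallyOfFinitePresentation X.hom] :
    ∀ m, LocallyOfFinitePresentation (prodX X m).hom
  | 0 => inferInstanceAs (LocallyOfFinitePresentation (𝟙 S))
  | m + 1 =>
    haveI := lfp_prodX m
    inferInstanceAs (LocallyOfFinitePresentation (pullback.fst X.hom (prodX X m).hom ≫ X.hom))

variable {X} {H : Over S} [GrpObj H]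

theorem comp_prod {T T' : Over S} (t : T' ⟶ T) : ∀ {m : ℕ} (a : Fin m → (T ⟶ H)),
    t ≫ (List.ofFn a).prod = (List.ofFn fun j => t ≫ a j).prod
  | 0, _ => by simp [MonObj.comp_one]
  | m + 1, a => by
    rw [List.ofFn_succ, List.ofFn_succ, List.prod_cons, List.prod_cons, MonObj.comp_mul, comp_prod]

/-- The word morphism. -/
noncomputable def word (f : X ⟶ H) {m : ℕ} (ε : Fin m → Bool) : prodX X m ⟶ H :=
  (List.ofFn fun j => if ε j then proj X m j ≫ f else (proj X m j ≫ f)⁻¹).prod

theorem comp_word (f : X ⟶ H) {m : ℕ} (ε : Fin m → Bool) {T : Over S} (t : T ⟶ prodX X m)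
    (x : Fin m → (T ⟶ X)) (hx : ∀ j, t ≫ proj X m j = x j) :
    t ≫ word f ε = (List.ofFn fun j => if ε j then x j ≫ f else (x j ≫ f)⁻¹).prod := by
  rw [word, comp_prod]
  congr 2
  funext j
  cases ε j <;> simp [GrpObj.comp_inv, ← hx j]

/-- Near every point under a word, a constructible set of an affine open is under the same word. -/
theorem exists_constructible [LocallyOfFinitePresentation X.hom]
    [LocallyOfFinitePresentation H.hom] (f : X ⟶ H) (V : H.left.Opens) (hV : IsAffineOpen V)
    (v : (V : Scheme.{u})) {m : ℕ} {T : Over S} (p : T.left) (x : Fin m → (T ⟶ X))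
    (ε : Fin m → Bool)
    (hv : ((List.ofFn fun j : Fin m => if ε j then x j ≫ f else (x j ≫ f)⁻¹).prod : T ⟶ H).left.base p
      = V.ι.base v) :
    ∃ C : Set (V : Scheme.{u}), IsConstructible C ∧ v ∈ C ∧
      ∀ w ∈ C, ∃ q, (word f ε).left.base q = V.ι.base w := by
  obtain ⟨t, ht⟩ := exists_lift X m x
  have hq : (word f ε).left.base (t.left.base p) = V.ι.base v := by
    rw [← hv, ← comp_word f ε t x ht]
    rfl
  let g := (word f ε).left
  haveI : LocallyOfFinitePresentation (g ≫ H.hom) := by
    rw [Over.w]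
    exact lfp_prodX X m
  haveI : LocallyOfFinitePresentation g := Groth.PropsBasic2.lfp_of_comp g H.hom
  have hmem : t.left.base p ∈ g ⁻¹ᵁ V := by
    show g.base (t.left.base p) ∈ V
    rw [hq]
    exact v.2
  obtain ⟨W, hW, hpW, hWV⟩ := exists_isAffineOpen_mem_and_subset hmem
  haveI : IsAffine (W : Scheme.{u}) := hW
  haveI : IsAffine (V : Scheme.{u}) := hV
  let h := g.resLE V W hWV
  have hh : ∀ z, V.ι.base (h.base z) = g.base (W.ι.base z) := fun z =>
    congr(($(Scheme.Hom.resLE_comp_ι g hWV)).base z)
  refine ⟨h '' Set.univ, h.isConstructible_image IsConstructible.univ, ⟨⟨_, hpW⟩, trivial, ?_⟩, ?_⟩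
  · exact V.ι.isOpenEmbedding.injective ((hh _).trans hq)
  · rintro _ ⟨z, -, rfl⟩
    exact ⟨W.ι.base z, (hh z).symm⟩


/-- (iii) ⟹ (iv): let S be a scheme, X an S-scheme which is flat and locally of finite presentation over
S, H an S-group scheme locally of finite presentation over S with reduced fibres and quasi-compact
underlying space, and f : X → H an S-morphism. Say that a point h of H lies under a word of length n
in f when there are an S-scheme T, a point p of T, T-valued points x_1, …, x_n of X and signs such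
that the T-valued point f(x_1)^{±1} ⋯ f(x_n)^{±1} of H maps p to h. If every point of H lies under
some word in f, then there is a natural number n such that every point of H lies under a word of
length at most n. (The published statement concludes with words of one fixed length n and an
fppf-covering word morphism; for the constant group of order two over a field and f the non-trivial
point, the points under words of length n alternate between the two points of H, so only the bound
on the length is stated here, and the covering assertion is not stated.) -/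
theorem result (S : Scheme.{u}) (X H : Over S) [GrpObj H]
    [Flat X.hom] [LocallyOfFinitePresentation X.hom] [LocallyOfFinitePresentation H.hom]
    (hred : ∀ s : S, IsReduced (H.hom.fiber s)) [CompactSpace H.left] (f : X ⟶ H)
    (hsurj : ∀ h : H.left, ∃ (n : ℕ) (T : Over S) (p : T.left) (x : Fin n → (T ⟶ X)) (ε : Fin n → Bool),
      ((List.ofFn fun j : Fin n => if ε j then x j ≫ f else (x j ≫ f)⁻¹).prod : T ⟶ H).left.base p = h) :
    ∃ n : ℕ, ∀ h : H.left, ∃ (m : ℕ) (_ : m ≤ n) (T : Over S) (p : T.left) (x : Fin m → (T ⟶ X)) (ε : Fin m → Bool),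
      ((List.ofFn fun j : Fin m => if ε j then x j ≫ f else (x j ≫ f)⁻¹).prod : T ⟶ H).left.base p = h := by
  classical
  choose m T p x ε hp using hsurj
  have hlocal : ∀ V : H.left.affineOpens, ∃ n : ℕ, ∀ h ∈ V.1, ∃ (k : ℕ) (_ : k ≤ n)
      (ε' : Fin k → Bool) (q : (prodX X k).left), (word f ε').left.base q = h := by
    intro V
    haveI : IsAffine (V.1 : Scheme.{u}) := V.2
    choose C hC hvC hCw using fun v : (V.1 : Scheme.{u}) =>
      exists_constructible f V.1 V.2 v (p _) (x _) (ε _) (hp (V.1.ι.base v))
    obtain ⟨t, ht⟩ := exists_finite_cover (V.1 : Scheme.{u}) C hC fun v => ⟨v, hvC v⟩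
    refine ⟨t.sup fun v => m (V.1.ι.base v), fun h hh => ?_⟩
    obtain ⟨v, hv, hw⟩ := ht ⟨h, hh⟩
    obtain ⟨q, hq⟩ := hCw v _ hw
    exact ⟨_, Finset.le_sup (f := fun v => m (V.1.ι.base v)) hv, _, q, hq⟩
  choose N hN using hlocal
  obtain ⟨t, ht⟩ := (isCompact_univ (X := H.left)).elim_finite_subcover
    (fun V : H.left.affineOpens => (V.1 : Set H.left)) (fun V => V.1.isOpen) fun y _ => by
      obtain ⟨W, hW, hyW, -⟩ := exists_isAffineOpen_mem_and_subset (U := ⊤) (Set.mem_univ y)
      exact Set.mem_iUnion.2 ⟨⟨W, hW⟩, hyW⟩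
  refine ⟨t.sup N, fun h => ?_⟩
  obtain ⟨V, hV, hhV⟩ := Set.mem_iUnion₂.1 (ht (Set.mem_univ h))
  obtain ⟨k, hk, ε', q, hq⟩ := hN V h hhV
  refine ⟨k, hk.trans (Finset.le_sup hV), prodX X k, q, proj X k, ε', ?_⟩
  exact hq

end Groth.Agent.S6076
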