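import Groth.Statements.S6077
import Groth.Agent.Sga3.BddGen.Main
import Groth.Agent.Sga3.BddGen.WordPts
import Groth.Agent.S6075

set_option autoImplicit false
universe u
open CategoryTheory CategoryTheory.Limits MonoidalCategory CartesianMonoidalCategory MonObj GrpObj AlgebraicGeometry
open SGA3
open Groth.Sga3.BddGen Groth.Sga3.Solvable Groth.AlgGrp1
open scoped Pointwise

namespace Groth.Agent.S6077

/-- Let k be an algebraically closed field, G a group scheme locally of finite type over k, X a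
geometrically reduced k-scheme locally of finite type, f : X → G a k-morphism, and h : H → G a
closed subgroup scheme whose underlying set is contained in the image of f. Let i : Γ → G be the
smallest closed subgroup scheme of G through which f factors. Say that a point of G lies under a
word of length n in f when there are a k-scheme T, a point p of T, T-valued points x_1, …, x_n of X
and signs such that f(x_1)^{±1} ⋯ f(x_n)^{±1} maps p to it; let Γ'₀ be the set of k-points of G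
whose point lies under some word (of any length n ≥ 0). Suppose that Γ'₀ is covered by finitely many
left translates a · H(k) of the image of H(k) in G(k), with the a in Γ'₀ (H(k) has finite index in
Γ'₀). Then there is m such that the underlying set of Γ is the set of points of G lying under a word
of length m, and there are finitely many k-points a_1, …, a_r of G such that the underlying set of Γ
is the union of the left translates a_j · H of the underlying set of H. -/
theorem result (k : Type u) [Field k] [IsAlgClosed k]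
    (G X H : Over (Spec (CommRingCat.of k))) [GrpObj G] [GrpObj H] [LocallyOfFiniteType G.hom]
    [LocallyOfFiniteType X.hom] [GeometricallyReduced X.hom] (f : X ⟶ G)
    (h : H ⟶ G) [IsMonHom h] [IsClosedImmersion h.left] (hH : Set.range h.left.base ⊆ Set.range f.left.base)
    (Γ : Over (Spec (CommRingCat.of k))) [GrpObj Γ] (i : Γ ⟶ G) [IsMonHom i] [IsClosedImmersion i.left]
    (hf : ∃ f' : X ⟶ Γ, f' ≫ i = f)
    (hmin : ∀ (Γ' : Over (Spec (CommRingCat.of k))) (_ : GrpObj Γ') (i' : Γ' ⟶ G), IsMonHom i' → IsClosedImmersion i'.left →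
        (∃ f'' : X ⟶ Γ', f'' ≫ i' = f) → ∃ j : Γ ⟶ Γ', j ≫ i' = i)
    (hfin : ∃ F : Finset (𝟙_ (Over (Spec (CommRingCat.of k))) ⟶ G),
      (∀ a ∈ F, ∃ (n : ℕ) (T : Over (Spec (CommRingCat.of k))) (p : T.left) (p₀ : (𝟙_ (Over (Spec (CommRingCat.of k)))).left) (x : Fin n → (T ⟶ X)) (ε : Fin n → Bool),
        ((List.ofFn fun j : Fin n => if ε j then x j ≫ f else (x j ≫ f)⁻¹).prod : T ⟶ G).left.base p = a.left.base p₀) ∧
      ∀ g : 𝟙_ (Over (Spec (CommRingCat.of k))) ⟶ G, (∃ (n : ℕ) (T : Over (Spec (CommRingCat.of k))) (p : T.left) (p₀ : (𝟙_ (Over (Spec (CommRingCat.of k)))).left) (x : Fin n → (T ⟶ X)) (ε : Fin n → Bool),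
        ((List.ofFn fun j : Fin n => if ε j then x j ≫ f else (x j ≫ f)⁻¹).prod : T ⟶ G).left.base p = g.left.base p₀) →
        ∃ a ∈ F, ∃ y : 𝟙_ (Over (Spec (CommRingCat.of k))) ⟶ H, g = a * (y ≫ h)) :
    (∃ m : ℕ, Set.range i.left.base =
      {g : G.left | ∃ (T : Over (Spec (CommRingCat.of k))) (p : T.left) (x : Fin m → (T ⟶ X)) (ε : Fin m → Bool),
        ((List.ofFn fun j : Fin m => if ε j then x j ≫ f else (x j ≫ f)⁻¹).prod : T ⟶ G).left.base p = g}) ∧
    ∃ F : Finset (𝟙_ (Over (Spec (CommRingCat.of k))) ⟶ G), Set.range i.left.base =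
      ⋃ a ∈ F, (fun z => ((λ_ G).inv ≫ (a ▷ G) ≫ μ[G]).left.base z) '' Set.range h.left.base := by
  classical
  letI := ptsTopology G
  haveI hlH : LocallyOfFiniteType H.hom := by rw [← Over.w h]; infer_instance
  haveI hlΓ : LocallyOfFiniteType Γ.hom := by rw [← Over.w i]; infer_instance
  let e := ptsEquivUnit G
  obtain ⟨f', hf'⟩ := hf
  obtain ⟨F₀, hF₀, hcov⟩ := hfin
  have hcls := Groth.Agent.S6075.result k G X f
  let D : Subgroup (Pts G) := Subgroup.closure (imgSet f)
  have hD : ∀ g : 𝟙_ (Over (Spec (CommRingCat.of k))) ⟶ G,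
      (∃ (n : ℕ) (T : Over (Spec (CommRingCat.of k))) (p : T.left) (p₀ : (𝟙_ (Over (Spec (CommRingCat.of k)))).left) (x : Fin n → (T ⟶ X)) (ε : Fin n → Bool),
        ((List.ofFn fun j : Fin n => if ε j then x j ≫ f else (x j ≫ f)⁻¹).prod : T ⟶ G).left.base p = g.left.base p₀) ↔
        e g ∈ D := by
    intro g
    refine (Set.ext_iff.1 hcls g).trans ?_
    have he : {g : 𝟙_ (Over (Spec (CommRingCat.of k))) ⟶ G | ∃ p₀ : (𝟙_ (Over (Spec (CommRingCat.of k)))).left,
        g.left.base p₀ ∈ Set.range f.left.base} = Set.range (fun x : 𝟙_ (Over (Spec (CommRingCat.of k))) ⟶ X => x ≫ f) := by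
      ext g
      constructor
      · rintro ⟨p₀, q, hq⟩
        obtain ⟨x, hx⟩ := Groth.Agent.S6075.exists_point f g p₀ q hq
        exact ⟨x, hx⟩
      · rintro ⟨x, rfl⟩
        exact ⟨IsLocalRing.closedPoint k, _, (Scheme.Hom.comp_apply _ _ _).symm⟩
    rw [he, SetLike.mem_coe]
    show _ ↔ e g ∈ Subgroup.closure (imgSet f)
    rw [← image_range_comp, ← MulEquiv.coe_toMonoidHom, ← MonoidHom.map_closure]
    exact (Subgroup.mem_map_iff_mem (f := e.toMonoidHom) e.injective).symm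
  have hhf : imgSet h ⊆ imgSet f := by
    rintro _ ⟨x, rfl⟩
    exact exists_pt_image f (hH ⟨_, (Scheme.Hom.comp_apply _ _ _).symm⟩)
  have hone : (1 : Pts G) ∈ imgSet f := hhf ⟨1, MonObj.one_comp h⟩
  let R : Set (Pts G) := e '' (F₀ : Set (𝟙_ (Over (Spec (CommRingCat.of k))) ⟶ G))
  have hR : R.Finite := F₀.finite_toSet.image _
  have hRD : R ⊆ D := by
    rintro _ ⟨a, ha, rfl⟩
    exact (hD a).1 (hF₀ a ha)
  have hDeq : (D : Set (Pts G)) = R * imgSet h := by
    refine Set.Subset.antisymm (fun g hg => ?_) ?_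
    · obtain ⟨g, rfl⟩ := e.surjective g
      obtain ⟨a, ha, y, rfl⟩ := hcov g ((hD g).2 hg)
      refine ⟨e a, ⟨a, ha, rfl⟩, e (y ≫ h), ?_, (map_mul e _ _).symm⟩
      rw [← image_range_comp]
      exact ⟨_, ⟨y, rfl⟩, rfl⟩
    · rintro _ ⟨r, hr, y, hy, rfl⟩
      exact mul_mem (hRD hr) (Subgroup.subset_closure (hhf hy))
  have hDc : IsClosed (D : Set (Pts G)) :=
    hDeq ▸ isClosed_of_finite_cosets (isZariskiGroup G) (isClosed_imgSet G h) hR
  have hiD := imgSet_subset_of_min f Γ i hmin D hDc Subgroup.subset_closure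
  obtain ⟨Γs, hΓs⟩ := ptsSub G i
  have hDi : D ≤ Γs := (Subgroup.closure_le _).2 (by
    rw [hΓs]
    rintro _ ⟨x, rfl⟩
    exact ⟨x ≫ f', by simp [hf']⟩)
  -- left translations
  let τ : (𝟙_ (Over (Spec (CommRingCat.of k))) ⟶ G) → (G ⟶ G) := fun a => (toUnit G ≫ a) * 𝟙 G
  have hτ : ∀ a, τ a = (λ_ G).inv ≫ (a ▷ G) ≫ μ[G] := fun a => by
    have h1 : (λ_ G).inv ≫ (a ▷ G) = lift (toUnit G ≫ a) (𝟙 G) := by
      apply CartesianMonoidalCategory.hom_ext <;> simp
    rw [← Category.assoc, h1]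
    exact Hom.mul_def _ _
  have hτcomp : ∀ (a) {T : Over (Spec (CommRingCat.of k))} (x : T ⟶ G), x ≫ τ a = (toUnit T ≫ a) * x := fun a T x => by
    simp only [τ, MonObj.comp_mul, Category.comp_id, ← Category.assoc, comp_toUnit]
  have hτclosed : ∀ a, ∀ Z : Set G.left, IsClosed Z → IsClosed ((τ a).left.base '' Z) := by
    intro a Z hZ
    have hinv : τ a ≫ τ a⁻¹ = 𝟙 G := by
      rw [hτcomp]; simp only [τ]
      rw [← _root_.mul_assoc, GrpObj.comp_inv, inv_mul_cancel, _root_.one_mul]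
    have hinv' : τ a⁻¹ ≫ τ a = 𝟙 G := by
      rw [hτcomp]; simp only [τ]
      rw [← _root_.mul_assoc, GrpObj.comp_inv, mul_inv_cancel, _root_.one_mul]
    have e1 : ∀ z, (τ a⁻¹).left.base ((τ a).left.base z) = z := fun z => by
      rw [← Scheme.Hom.comp_apply, ← Over.comp_left, hinv]; rfl
    have e2 : ∀ z, (τ a).left.base ((τ a⁻¹).left.base z) = z := fun z => by
      rw [← Scheme.Hom.comp_apply, ← Over.comp_left, hinv']; rfl
    have : (τ a).left.base '' Z = (τ a⁻¹).left.base ⁻¹' Z := Set.ext fun z =>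
      ⟨fun ⟨y, hy, hyz⟩ => by subst hyz; rw [Set.mem_preimage, e1]; exact hy, fun hz => ⟨_, hz, e2 z⟩⟩
    rw [this]
    exact hZ.preimage (τ a⁻¹).left.continuous
  let Z : Set G.left := ⋃ a ∈ F₀, (τ a).left.base '' Set.range h.left.base
  have hZc : IsClosed Z := F₀.finite_toSet.isClosed_biUnion fun a _ => hτclosed a _ h.left.isClosedEmbedding.isClosed_range
  have hZi : Set.range i.left.base = Z := by
    refine Set.Subset.antisymm ?_ (Set.iUnion₂_subset fun a ha => ?_)
    · rintro _ ⟨z, rfl⟩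
      by_contra hz
      obtain ⟨y, hy⟩ := exists_pt (X := Γ) (Z := i.left.base ⁻¹' Zᶜ) ⟨z, hz⟩
        (hZc.isOpen_compl.preimage i.left.continuous).isLocallyClosed
      obtain ⟨_, ⟨a, ha, rfl⟩, _, ⟨x, rfl⟩, hxy⟩ := hDeq.subset (hiD ⟨y, rfl⟩)
      refine hy (Set.mem_of_eq_of_mem ((Scheme.Hom.comp_apply _ _ _).symm.trans
        (congrArg (fun φ : Pts G => φ.left.base (IsLocalRing.closedPoint k)) hxy.symm)) ?_)
      refine Set.mem_biUnion ha ⟨_, ⟨x.left.base (IsLocalRing.closedPoint k), rfl⟩, ?_⟩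
      have : (x ≫ h) ≫ τ a = e a * (x ≫ h) := by
        rw [hτcomp]
        congr 1
        show toUnit _ ≫ a = unitIso.inv ≫ a
        rw [toUnit_unique (toUnit _) unitIso.inv]
      exact ((congrArg (τ a).left.base (Scheme.Hom.comp_apply _ _ _).symm).trans (Scheme.Hom.comp_apply _ _ _).symm).trans
        (congrArg (fun φ : Pts G => φ.left.base (IsLocalRing.closedPoint k)) this)
    · rintro _ ⟨_, ⟨q, rfl⟩, rfl⟩
      obtain ⟨z, hz⟩ := hΓs.subset (hDi ((hD a).1 (hF₀ a ha)))
      obtain ⟨x, hx⟩ := hH ⟨q, rfl⟩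
      rw [← hx, ← Scheme.Hom.comp_apply, ← Over.comp_left, hτcomp]
      have hza : (unitIso.hom ≫ z) ≫ i = a := by
        rw [Category.assoc, show z ≫ i = unitIso.inv ≫ a from hz, Iso.hom_inv_id_assoc]
      refine ⟨((toUnit X ≫ unitIso.hom ≫ z) * f').left.base x, ?_⟩
      rw [← Scheme.Hom.comp_apply, ← Over.comp_left, MonObj.mul_comp, Category.assoc, hza, hf']
  refine ⟨?_, F₀, ?_⟩
  · choose! n hn using fun a (ha : a ∈ F₀) => exists_mem_pm_pow (hRD ⟨a, ha, rfl⟩)
    obtain ⟨M, hM⟩ := (F₀.finite_toSet.image n).bddAbove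
    refine ⟨M + 1, Set.Subset.antisymm ?_ ?_⟩
    · intro g hg
      rw [hZi] at hg
      obtain ⟨a, ha, _, ⟨q, rfl⟩, rfl⟩ := Set.mem_iUnion₂.1 hg
      obtain ⟨x, hx⟩ := hH ⟨q, rfl⟩
      obtain ⟨y, ε, hy⟩ := exists_wordProd_of_mem_pow f (pm_pow_mono hone (hM ⟨a, ha, rfl⟩) (hn a ha))
      refine ⟨X, x, Fin.snoc (fun j => toUnit X ≫ unitIso.hom ≫ y j) (𝟙 X), Fin.snoc ε true, ?_⟩
      show (wordProd f (Fin.snoc (fun j => toUnit X ≫ unitIso.hom ≫ y j) (𝟙 X)) (Fin.snoc ε true)).left.base x = _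
      have hw : wordProd f (fun j => toUnit X ≫ unitIso.hom ≫ y j) ε = toUnit X ≫ a := by
        rw [← comp_wordProd, ← comp_wordProd, hy]
        show toUnit X ≫ unitIso.hom ≫ unitIso.inv ≫ a = _
        simp
      rw [wordProd_snoc, hw, Category.id_comp, ← hτcomp, Over.comp_left, Scheme.Hom.comp_apply, hx]
    · rintro g ⟨T, p, x, ε, rfl⟩
      exact range_wordProd_subset i f ⟨f', hf'⟩ x ε ⟨p, rfl⟩
  · rw [hZi]
    simp only [Z, hτ]

end Groth.Agent.S6077
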