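import Groth.Statements.S6078
import Groth.Agent.Sga3.CommSpread.Point

set_option autoImplicit false
universe u
open CategoryTheory CategoryTheory.Limits MonoidalCategory CartesianMonoidalCategory MonObj GrpObj AlgebraicGeometry
open SGA3
open Groth.Sga3.CommSpread

set_option backward.isDefEq.respectTransparency false

namespace Groth.Agent.S6078

/-- Case (G, H) = H: let S be an integral scheme with generic point η, G an S-group scheme and h : H → G
a normal subgroup scheme of G, with G and H of finite presentation over S and with smooth generic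
fibres G_η, H_η. Suppose that (G_η, H_η) = H_η: the subgroup H_η is contained in every closed
subgroup scheme of G_η through which the morphism G_η ×_{κ(η)} H_η → G_η, (g, x) ↦ g h(x) g⁻¹
h(x)⁻¹, factors (H_η itself is such a subgroup since H is normal). Then there is a nonempty open
subset U of S such that for every s ∈ U the same holds on the fibre at s: H_s is contained in every
closed subgroup scheme of G_s through which G_s ×_{κ(s)} H_s → G_s, (g, x) ↦ g h(x) g⁻¹ h(x)⁻¹,
factors. -/
theorem result (S : Scheme.{u}) [IsIntegral S] (G H : Over S) [GrpObj G] [GrpObj H]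
    [LocallyOfFinitePresentation G.hom] [QuasiCompact G.hom] [QuasiSeparated G.hom]
    [LocallyOfFinitePresentation H.hom] [QuasiCompact H.hom] [QuasiSeparated H.hom]
    (h : H ⟶ G) [IsMonHom h] [IsImmersion h.left] (hN : AlgGrp.IsNormalHom h)
    (hsmG : Smooth (Red.bc (S.fromSpecResidueField (genericPoint S)) G).hom) (hsmH : Smooth (Red.bc (S.fromSpecResidueField (genericPoint S)) H).hom)
    (hgen : (∀ (K : Over (Spec (S.residueField (genericPoint S)))) (_ : GrpObj K) (j : K ⟶ (Red.bc (S.fromSpecResidueField (genericPoint S)) G)), IsMonHom j → IsClosedImmersion j.left →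
        (∃ c : (Red.bc (S.fromSpecResidueField (genericPoint S)) G) ⊗ (Red.bc (S.fromSpecResidueField (genericPoint S)) H) ⟶ K, c ≫ j = (((fst (Red.bc (S.fromSpecResidueField (genericPoint S)) G) (Red.bc (S.fromSpecResidueField (genericPoint S)) H)) * ((snd (Red.bc (S.fromSpecResidueField (genericPoint S)) G) (Red.bc (S.fromSpecResidueField (genericPoint S)) H)) ≫ ((Over.pullback (S.fromSpecResidueField (genericPoint S))).map h)) * (fst (Red.bc (S.fromSpecResidueField (genericPoint S)) G) (Red.bc (S.fromSpecResidueField (genericPoint S)) H))⁻¹ * ((snd (Red.bc (S.fromSpecResidueField (genericPoint S)) G) (Red.bc (S.fromSpecResidueField (genericPoint S)) H)) ≫ ((Over.pullback (S.fromSpecResidueField (genericPoint S))).map h))⁻¹ : (Red.bc (S.fromSpecResidueField (genericPoint S)) G) ⊗ (Red.bc (S.fromSpecResidueField (genericPoint S)) H) ⟶ (Red.bc (S.fromSpecResidueField (genericPoint S)) G)))) → ∃ m : (Red.bc (S.fromSpecResidueField (genericPoint S)) H) ⟶ K, m ≫ j = ((Over.pullback (S.fromSpecResidueField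 (genericPoint S))).map h))) :
    ∃ U : S.Opens, (U : Set S).Nonempty ∧ ∀ s : U,
      (∀ (K : Over (Spec (S.residueField (s : S)))) (_ : GrpObj K) (j : K ⟶ (Red.bc (S.fromSpecResidueField (s : S)) G)), IsMonHom j → IsClosedImmersion j.left →
        (∃ c : (Red.bc (S.fromSpecResidueField (s : S)) G) ⊗ (Red.bc (S.fromSpecResidueField (s : S)) H) ⟶ K, c ≫ j = (((fst (Red.bc (S.fromSpecResidueField (s : S)) G) (Red.bc (S.fromSpecResidueField (s : S)) H)) * ((snd (Red.bc (S.fromSpecResidueField (s : S)) G) (Red.bc (S.fromSpecResidueField (s : S)) H)) ≫ ((Over.pullback (S.fromSpecResidueField (s : S))).map h)) * (fst (Red.bc (S.fromSpecResidueField (s : S)) G) (Red.bc (S.fromSpecResidueField (s : S)) H))⁻¹ * ((snd (Red.bc (S.fromSpecResidueField (s : S)) G) (Red.bc (S.fromSpecResidueField (s : S)) H)) ≫ ((Over.pullback (S.fromSpecResidueField (s : S))).map h))⁻¹ : (Red.bc (S.fromSpecResidueField (s : S)) G) ⊗ (Red.bc (S.fromSpecResidueField (s : S)) H) ⟶ (Red.bc (S.fromSpecResidueField (s : S)) G)))) → ∃ m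 : (Red.bc (S.fromSpecResidueField (s : S)) H) ⟶ K, m ≫ j = ((Over.pullback (S.fromSpecResidueField (s : S))).map h)) := by
  haveI : IsImmersion (𝟙 G : G ⟶ G).left := inferInstanceAs (IsImmersion (𝟙 G.left))
  have hn1 : AlgGrp.IsNormalHom (𝟙 G) := fun T g n => ⟨g * n * g⁻¹, by simp⟩
  obtain ⟨Γ, _, i, D₀, d₀, N, hmon, hci, hcl, hd, hlD, hqD, hsD, hf, -, hgood⟩ :=
    exists_comm_data (𝟙 G) h hsmG hsmH (Or.inr ⟨hn1, hN⟩)
  obtain ⟨U, hU, ⟨⟨⟨-, hcov⟩, -⟩, hsmHU⟩, hflH, -⟩ :=
    ((hgood.and (gnr_smooth H hsmH)).and (gnr_flat H)).exists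
  obtain ⟨f', hf'⟩ := hf
  obtain ⟨m, hm⟩ := hgen Γ inferInstance i hmon hci ⟨f', by simpa [Groth.Sga3.CommSpread.comm] using hf'⟩
  obtain ⟨y, hy⟩ := factor_map U hU hcl h ⟨m, hm⟩
  refine ⟨U, hU, fun s K _ j hj hjc hc => ?_⟩
  have hcovH : ∀ p : H.left, H.hom.base p ∈ Set.range (S.fromSpecResidueField (s : S)).base →
      h.left.base p ∈ Groth.Sga3.BddGen.wordPts (comm (𝟙 G) h) N := by
    intro p hp
    rw [Scheme.range_fromSpecResidueField, Set.mem_singleton_iff] at hp
    obtain ⟨p', hp', -⟩ := Scheme.Pullback.exists_preimage_pullback (f := H.hom) (g := U.ι) p s hp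
    have e : (y.left ≫ pullback.fst D₀.hom U.ι) ≫ d₀.left = pullback.fst H.hom U.ι ≫ h.left := by
      rw [Category.assoc, (Groth.GrpschAbsch.FibreFlat.isPullback_map U.ι d₀).w, ← Category.assoc, ← Over.comp_left, hy,
        (Groth.GrpschAbsch.FibreFlat.isPullback_map U.ι h).w]
    have e1 : d₀.left.base ((y.left ≫ pullback.fst D₀.hom U.ι).base p') = h.left.base p := by
      rw [← hp']
      exact (Scheme.Hom.comp_apply _ _ _).symm.trans ((congrArg (fun m : (Red.bc U.ι H).left ⟶ G.left => m.base p') e).trans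
        (Scheme.Hom.comp_apply _ _ _))
    rw [← e1]
    refine hcov _ ?_
    have e2 : D₀.hom.base ((y.left ≫ pullback.fst D₀.hom U.ι).base p') = H.hom.base p := by
      exact (congrArg (fun m : D₀.left ⟶ S => m.base _) (Over.w d₀)).symm.trans ((Scheme.Hom.comp_apply _ _ _).trans
        ((congrArg G.hom.base e1).trans ((Scheme.Hom.comp_apply _ _ _).symm.trans
        (congrArg (fun m : H.left ⟶ S => m.base p) (Over.w h)))))
    rw [e2, hp]
    exact s.2
  haveI : Smooth (pullback.snd H.hom (S.fromSpecResidueField (s : S))) := smooth_bc_point hsmHU s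
  haveI : IsReduced (Red.bc (S.fromSpecResidueField (s : S)) H).left :=
    Groth.AlgGrp1.isReduced_of_smooth (k := S.residueField (s : S)) (pullback.snd H.hom (S.fromSpecResidueField (s : S)))
  obtain ⟨c, hc⟩ := hc
  refine exists_factor_over j _ (range_subset_point h (𝟙 G) h _ hcovH j ⟨c, ?_⟩)
  simpa [Groth.Sga3.CommSpread.comm] using hc

end Groth.Agent.S6078
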