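import Groth.Statements.S6080
import Groth.Agent.Hopf.Coeff
import Groth.Agent.Sga3.DualProjective
import Groth.Agent.S3032
open Groth.ComodLib Groth.Sga3.DualProjective

set_option autoImplicit false
universe u
open TensorProduct
open SGA3

namespace Groth.Agent.S6080

/-- A comodule structure on a finite free module, compatible with a map into the regular comodule,
gives a matrix corepresentation containing the image in its span. -/
theorem of_free_comod (R : Type u) [CommRing R] (A : Type u) [CommRing A] [HopfAlgebra R A] (d : ℕ)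
    [HopfRep.Comod R A (Fin d → R)] (θ : (Fin d → R) →ₗ[R] R) :
    ∃ a : Matrix (Fin d) (Fin d) A,
      (∀ i j, CoalgebraStruct.comul (R := R) (a i j) = ∑ l, a i l ⊗ₜ[R] a l j) ∧
      (∀ i j, CoalgebraStruct.counit (R := R) (a i j) = if i = j then 1 else 0) ∧
      (∃ u : A, u * a.det = 1) ∧
      ∀ v : Fin d → R, lslice θ (HopfRep.Comod.coact (k := R) (A := A) v) ∈
        Submodule.span R (Set.range fun p : Fin d × Fin d => a p.1 p.2) := by
  let e : Fin d → (Fin d → R) := fun i => Pi.single i 1
  let a : Matrix (Fin d) (Fin d) A := fun l i =>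
    lslice (LinearMap.proj l) (HopfRep.Comod.coact (k := R) (A := A) (e i))
  have he : ∀ z : (Fin d → R) ⊗[R] A,
      z = ∑ l, e l ⊗ₜ[R] lslice (LinearMap.proj l : (Fin d → R) →ₗ[R] R) z := by
    intro z
    induction z using TensorProduct.induction_on with
    | zero => simp
    | tmul v x =>
      conv_lhs => rw [pi_eq_sum_univ' v, TensorProduct.sum_tmul]
      refine Finset.sum_congr rfl fun l _ => ?_
      simp [e, TensorProduct.smul_tmul', TensorProduct.tmul_smul]
    | add x y hx hy =>
      simp only [map_add, TensorProduct.tmul_add, Finset.sum_add_distrib]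
      rw [← hx, ← hy]
  have hco : ∀ i, HopfRep.Comod.coact (k := R) (A := A) (e i) = ∑ l, e l ⊗ₜ[R] a l i :=
    fun i => he _
  have hΔ : ∀ i j, Coalgebra.comul (R := R) (a i j) = ∑ l, a i l ⊗ₜ[R] a l j := by
    intro i j
    have h1 := LinearMap.congr_fun (HopfRep.Comod.coassoc (k := R) (A := A) (V := Fin d → R)) (e j)
    simp only [LinearMap.comp_apply, LinearEquiv.coe_coe] at h1
    change Coalgebra.comul (R := R) (lslice _ _) = _
    rw [← lslice_lTensor, ← h1, hco, map_sum, map_sum, map_sum]
    refine Finset.sum_congr rfl fun l _ => ?_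
    rw [LinearMap.rTensor_tmul, hco, TensorProduct.sum_tmul, map_sum, map_sum]
    rw [Finset.sum_eq_single i]
    · simp [e]
    · intro b _ hb
      simp [e, Ne.symm hb]
    · simp
  have hε : ∀ i j, Coalgebra.counit (R := R) (a i j) = if i = j then 1 else 0 := by
    intro i j
    change Coalgebra.counit (R := R) (lslice _ _) = _
    rw [apply_lslice, ← op_apply, op_counit]
    simp [e, Pi.single_apply]
  have hdet : Coalgebra.comul (R := R) a.det = a.det ⊗ₜ[R] a.det := by
    have h1 : (Bialgebra.comulAlgHom R A).mapMatrix a =
        (Algebra.TensorProduct.includeLeft : A →ₐ[R] A ⊗[R] A).mapMatrix a *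
          (Algebra.TensorProduct.includeRight : A →ₐ[R] A ⊗[R] A).mapMatrix a := by
      ext i j
      simp [Matrix.mul_apply, hΔ i j]
    change Bialgebra.comulAlgHom R A a.det = _
    rw [AlgHom.map_det, h1, Matrix.det_mul, ← AlgHom.map_det, ← AlgHom.map_det]
    simp
  have hεdet : Coalgebra.counit (R := R) a.det = 1 := by
    have h1 : (Bialgebra.counitAlgHom R A).mapMatrix a = 1 := by
      ext i j
      simp [hε i j, Matrix.one_apply]
    change Bialgebra.counitAlgHom R A a.det = _
    rw [AlgHom.map_det, h1, Matrix.det_one]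
  refine ⟨a, hΔ, hε, ⟨HopfAlgebra.antipode R a.det, ?_⟩, fun v => ?_⟩
  · have h1 := HopfAlgebra.mul_antipode_rTensor_comul_apply (R := R) a.det
    rw [hdet, LinearMap.rTensor_tmul, LinearMap.mul'_apply, hεdet, map_one] at h1
    exact h1
  · rw [pi_eq_sum_univ' v, map_sum, map_sum]
    refine Submodule.sum_mem _ fun j _ => ?_
    rw [map_smul, map_smul]
    refine Submodule.smul_mem _ _ ?_
    change lslice θ (HopfRep.Comod.coact (k := R) (A := A) (e j)) ∈ _
    rw [hco, map_sum]
    refine Submodule.sum_mem _ fun l _ => ?_
    rw [lslice_tmul]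
    exact Submodule.smul_mem _ _ (Submodule.subset_span ⟨(l, j), rfl⟩)

/-- Extend a comodule structure from a projective module to a free module containing it as a summand. -/
@[reducible] noncomputable def freeComod {R : Type u} [CommRing R] {A : Type u} [CommRing A] [HopfAlgebra R A]
    {P F : Type u} [AddCommGroup P] [Module R P] [AddCommGroup F] [Module R F] (ρ : P →ₗ[R] P ⊗[R] A)
    (hρ : (TensorProduct.assoc R P A A).toLinearMap ∘ₗ ρ.rTensor A ∘ₗ ρ =
      (CoalgebraStruct.comul (R := R) (A := A)).lTensor P ∘ₗ ρ)
    (hρc : (CoalgebraStruct.counit (R := R) (A := A)).lTensor P ∘ₗ ρ = (TensorProduct.mk R P R).flip 1)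
    (π : F →ₗ[R] P) (s : P →ₗ[R] F) (hs : ∀ p, π (s p) = p) : HopfRep.Comod R A F where
  coact := s.rTensor A ∘ₗ ρ ∘ₗ π + (TensorProduct.mk R F A).flip 1 ∘ₗ (LinearMap.id - s ∘ₗ π)
  coassoc := by
    refine LinearMap.ext fun v => ?_
    set c : F →ₗ[R] F ⊗[R] A :=
      s.rTensor A ∘ₗ ρ ∘ₗ π + (TensorProduct.mk R F A).flip 1 ∘ₗ (LinearMap.id - s ∘ₗ π) with hc
    have hcs : ∀ p, c (s p) = s.rTensor A (ρ p) := fun p => by simp [hc, hs]
    have hcr : c (v - s (π v)) = (v - s (π v)) ⊗ₜ[R] (1 : A) := by simp [hc, hs, TensorProduct.sub_tmul]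
    have hcv : c v = s.rTensor A (ρ (π v)) + (v - s (π v)) ⊗ₜ[R] (1 : A) := by simp [hc, TensorProduct.sub_tmul]
    have e1 : ∀ z : P ⊗[R] A, TensorProduct.assoc R F A A (c.rTensor A (s.rTensor A z)) =
        s.rTensor (A ⊗[R] A) (TensorProduct.assoc R P A A (ρ.rTensor A z)) := by
      intro z
      induction z using TensorProduct.induction_on with
      | zero => simp
      | tmul p x =>
        simp only [LinearMap.rTensor_tmul, hcs]
        induction ρ p using TensorProduct.induction_on with
        | zero => simp
        | tmul q y => simp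
        | add q y hq hy => simp only [map_add, TensorProduct.add_tmul, hq, hy]
      | add p x hp hx => simp only [map_add, hp, hx]
    have h := LinearMap.congr_fun hρ (π v)
    simp only [LinearMap.comp_apply, LinearEquiv.coe_coe] at h ⊢
    rw [hcv, map_add, map_add, e1, h, map_add, LinearMap.rTensor_tmul, hcr, TensorProduct.assoc_tmul,
      LinearMap.lTensor_tmul, Bialgebra.comul_one, ← Algebra.TensorProduct.one_def]
    congr 1
    rw [← LinearMap.comp_apply, LinearMap.rTensor_comp_lTensor, ← LinearMap.lTensor_comp_rTensor,
      LinearMap.comp_apply]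
  counit_comp := by
    refine LinearMap.ext fun v => ?_
    have h := LinearMap.congr_fun hρc (π v)
    simp only [LinearMap.comp_apply, LinearMap.flip_apply, TensorProduct.mk_apply] at h
    simp only [LinearMap.comp_apply, LinearMap.add_apply, map_add, LinearMap.flip_apply,
      TensorProduct.mk_apply, LinearMap.lTensor_tmul, Bialgebra.counit_one, LinearMap.sub_apply,
      LinearMap.id_apply]
    rw [← LinearMap.comp_apply (f := LinearMap.lTensor F _) (g := s.rTensor A),
      LinearMap.lTensor_comp_rTensor, ← LinearMap.rTensor_comp_lTensor, LinearMap.comp_apply, h,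
      LinearMap.rTensor_tmul, ← TensorProduct.add_tmul]
    simp


/-- Let R be a Noetherian regular ring of Krull dimension at most 2 and A a commutative Hopf algebra
over R which is flat as an R-module, so that G = Spec A is an affine flat R-group scheme, not
necessarily of finite type. Then every finite subset F of A is contained in a finite-type
sub-Hopf-algebra of the following form: there are a natural number d and a d × d matrix (a_ij) of
elements of A with Δ(a_ij) = Σ_l a_il ⊗ a_lj and ε(a_ij) = δ_ij (a matrix corepresentation, i.e. a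
homomorphism G → GL_{d,R}) whose determinant is a unit, such that F lies in the R-subalgebra
generated by the entries a_ij together with the inverse of det(a_ij) (the affine algebra of the
schematic image of G in GL_{d,R}). Consequently A is the directed union of finite-type
sub-Hopf-algebras each of which is a quotient of the Hopf algebra of some GL_{d,R}. (The published
statement asserts that A is a filtered union of sub-Hopf-algebras of finite type which are moreover
flat over R. The published proof produces the sub-Hopf-algebras described here, as coefficient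
algebras of finite projective subcomodules, and does not address their flatness; they need not be
flat: for the additive group over R = k[x, y], so A = R[s] with s primitive, and the subcomodule
spanned by 1, x s and y s, the construction gives the subalgebra R[x s, y s], which as an R-module
is the direct sum of the powers of the ideal (x, y) and is not flat. Flatness of the
sub-Hopf-algebras is therefore not asserted here. The published statement is over a Noetherian
regular scheme of dimension at most 2; this row is the affine case.) -/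
theorem result (R : Type u) [CommRing R] [IsRegularRing R]
    (hdim : ringKrullDim R ≤ 2) (A : Type u) [CommRing A] [HopfAlgebra R A] [Module.Flat R A] (F : Finset A) :
    ∃ (d : ℕ) (a : Matrix (Fin d) (Fin d) A),
      (∀ i j, CoalgebraStruct.comul (R := R) (a i j) = ∑ l, a i l ⊗ₜ[R] a l j) ∧
      (∀ i j, CoalgebraStruct.counit (R := R) (a i j) = if i = j then 1 else 0) ∧
      ∃ u : A, u * a.det = 1 ∧ (↑F : Set A) ⊆ Algebra.adjoin R (Set.range (fun p : Fin d × Fin d => a p.1 p.2) ∪ {u}) := by
  classical
  obtain ⟨W, hW, hFW, hWfg⟩ := Groth.Agent.S3032.result R A A (Submodule.span R (↑F : Set A))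
    (Submodule.fg_span F.finite_toSet)
  have : Module.Finite R W := Module.Finite.of_fg hWfg
  obtain ⟨_, _⟩ := finite_projective_dual hdim W
  obtain ⟨_, _⟩ := finite_projective_dual hdim (Module.Dual R W)
  let P := Module.Dual R (Module.Dual R W)
  let ev : W →ₗ[R] P := Module.Dual.eval R W
  let c := ComodSub.Comod.restr (HopfRep.Comod.regular R A) W hW
  obtain ⟨ρ, hρ⟩ := exists_extend (X := P ⊗[R] A) (ev.rTensor A ∘ₗ c.coact)
  obtain ⟨ι, hι⟩ := exists_extend (X := A) W.subtype
  have hρ' : ∀ w, ρ (ev w) = ev.rTensor A (c.coact w) := fun w => LinearMap.congr_fun hρ w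
  have hι' : ∀ w, ι (ev w) = (w : A) := fun w => LinearMap.congr_fun hι w
  have hassoc : (TensorProduct.assoc R P A A).toLinearMap ∘ₗ ρ.rTensor A ∘ₗ ρ =
      (CoalgebraStruct.comul (R := R) (A := A)).lTensor P ∘ₗ ρ := by
    refine ext_of_comp_eval (A := R) (W := W) (X := P ⊗[R] (A ⊗[R] A)) _ _ ?_
    refine LinearMap.ext fun w => ?_
    have h := LinearMap.congr_fun c.coassoc w
    simp only [LinearMap.comp_apply, LinearEquiv.coe_coe] at h ⊢
    rw [hρ']
    have e1 : ∀ z : W ⊗[R] A, TensorProduct.assoc R P A A (ρ.rTensor A (ev.rTensor A z)) =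
        ev.rTensor (A ⊗[R] A) (TensorProduct.assoc R W A A (c.coact.rTensor A z)) := by
      intro z
      induction z using TensorProduct.induction_on with
      | zero => simp
      | tmul p x =>
        simp only [LinearMap.rTensor_tmul, hρ']
        induction c.coact p using TensorProduct.induction_on with
        | zero => simp
        | tmul q y => simp
        | add q y hq hy => simp only [map_add, TensorProduct.add_tmul, hq, hy]
      | add p x hp hx => simp only [map_add, hp, hx]
    rw [e1, h, ← LinearMap.comp_apply, LinearMap.rTensor_comp_lTensor,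
      ← LinearMap.lTensor_comp_rTensor, LinearMap.comp_apply]
  have hcounit : (CoalgebraStruct.counit (R := R) (A := A)).lTensor P ∘ₗ ρ =
      (TensorProduct.mk R P R).flip 1 := by
    refine ext_of_comp_eval (A := R) (W := W) (X := P ⊗[R] R) _ _ ?_
    refine LinearMap.ext fun w => ?_
    have h := LinearMap.congr_fun c.counit_comp w
    simp only [LinearMap.comp_apply, LinearMap.flip_apply, TensorProduct.mk_apply] at h ⊢
    rw [hρ', ← LinearMap.comp_apply, LinearMap.lTensor_comp_rTensor, ← LinearMap.rTensor_comp_lTensor,
      LinearMap.comp_apply, h]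
    rfl
  have hιρ : ι = lslice (Coalgebra.counit (R := R) (A := A) ∘ₗ ι) ∘ₗ ρ := by
    refine ext_of_comp_eval (A := R) (W := W) (X := A) _ _ ?_
    refine LinearMap.ext fun w => ?_
    simp only [LinearMap.comp_apply]
    rw [hι', hρ', lslice_rTensor, LinearMap.comp_assoc, hι, ← lslice_rTensor,
      ComodSub.restr_coact_coe]
    change (w : A) = lslice (Coalgebra.counit (R := R)) (Coalgebra.comul (R := R) (w : A))
    simp [lslice, Coalgebra.rTensor_counit_comul]
  obtain ⟨d, π, s, -, -, hπs⟩ := Module.Finite.exists_comp_eq_id_of_projective R P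
  have hπs' : ∀ p, π (s p) = p := fun p => LinearMap.congr_fun hπs p
  let := freeComod ρ hassoc hcounit π s hπs'
  obtain ⟨a, ha1, ha2, ⟨u, hu⟩, ha3⟩ :=
    of_free_comod R A d (Coalgebra.counit (R := R) (A := A) ∘ₗ ι ∘ₗ π)
  refine ⟨d, a, ha1, ha2, u, hu, fun x hx => ?_⟩
  have hxW : x ∈ W := hFW (Submodule.subset_span hx)
  have hmem := ha3 (s (ev ⟨x, hxW⟩))
  have hval : lslice (Coalgebra.counit (R := R) (A := A) ∘ₗ ι ∘ₗ π)
      (HopfRep.Comod.coact (k := R) (A := A) (s (ev ⟨x, hxW⟩))) = x := by
    change lslice _ (s.rTensor A (ρ (π (s (ev ⟨x, hxW⟩)))) +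
      (s (ev ⟨x, hxW⟩) - s (π (s (ev ⟨x, hxW⟩)))) ⊗ₜ[R] (1 : A)) = x
    rw [hπs', sub_self, TensorProduct.zero_tmul, add_zero, lslice_rTensor, LinearMap.comp_assoc,
      LinearMap.comp_assoc, hπs, LinearMap.comp_id, ← LinearMap.comp_apply (f := lslice _) (g := ρ),
      ← hιρ, hι']
  rw [hval] at hmem
  exact Algebra.span_le_adjoin R _ (Submodule.span_mono Set.subset_union_left hmem)

end Groth.Agent.S6080
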