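import Groth.Statements.S6083
import Groth.Agent.Calg4.QuasiFiniteAffineSpaceOpen
import Groth.Agent.SpectralTopology.FpCancel

set_option autoImplicit false
universe u
open CategoryTheory CategoryTheory.Limits MonoidalCategory CartesianMonoidalCategory MonObj GrpObj AlgebraicGeometry
open SGA3

namespace Groth.Agent.S6083


open Groth.EGA43Topo in
/-- A generic point of a component of the fibre is maximal in the fibre, and the fibre dimension
there is at least the dimension of the component. -/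
theorem le_fibreDimAt_generic {X S : Scheme.{u}} (f : X ⟶ S) [LocallyOfFiniteType f] {s : S}
    {Z : Set ↥(f.base ⁻¹' {s})} (hZ : Z ∈ irreducibleComponents ↥(f.base ⁻¹' {s})) {z : X}
    (hz : z ∈ Subtype.val '' Z ∧ Subtype.val '' Z ⊆ closure {z}) :
    (∀ z', f.base z' = f.base z → z' ⤳ z → z' = z) ∧
      topologicalKrullDim ↥Z ≤ FlatMor.fibreDimAt f z := by
  obtain ⟨⟨⟨z, hzs⟩, hzZ, rfl⟩, hcl⟩ := hz
  have hfz : f.base z = s := hzs
  have hZc : IsClosed Z := isClosed_of_mem_irreducibleComponents Z hZ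
  have hsub : Z ⊆ closure {(⟨z, hzs⟩ : ↥(f.base ⁻¹' {s}))} := fun y hy => by
    rw [closure_subtype, Set.image_singleton]
    exact hcl ⟨y, hy, rfl⟩
  have hmax : ∀ z', f.base z' = f.base z → z' ⤳ z → z' = z := by
    intro z' hz' hsp
    let w : ↥(f.base ⁻¹' {s}) := ⟨z', hz'.trans hfz⟩
    have hwz : w ⤳ ⟨z, hzs⟩ := Topology.IsInducing.subtypeVal.specializes_iff.1 hsp
    have hle : Z ⊆ closure {w} := hsub.trans
      (closure_minimal (Set.singleton_subset_iff.2 hwz.mem_closure) isClosed_closure)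
    have hwZ : w ∈ Z := (hZ.2 isIrreducible_singleton.closure hle) (subset_closure rfl)
    exact (hsp.antisymm (specializes_iff_mem_closure.2 (hcl ⟨w, hwZ, rfl⟩))).eq
  refine ⟨hmax, le_of_eq ?_⟩
  rw [(Groth.FibreDim.fibreDimAt_eq_height_of_max f hmax).1, ← Groth.FibreDim.dim_closure_inter_fibre f z]
  have he : Subtype.val '' Z = closure ({z} : Set X) ∩ f.base ⁻¹' {f.base z} := by
    rw [hfz]
    refine Set.Subset.antisymm (fun y hy => ⟨hcl hy, ?_⟩) fun y hy => ⟨⟨y, hy.2⟩, ?_, rfl⟩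
    · obtain ⟨y, -, rfl⟩ := hy
      exact y.2
    · exact hZc.closure_subset_iff.2 (Set.singleton_subset_iff.2 hzZ)
        (by rw [closure_subtype, Set.image_singleton]; exact hy.1)
  exact ((Topology.IsEmbedding.subtypeVal.homeomorphImage Z).trans
    (Homeomorph.setCongr he)).isHomeomorph.topologicalKrullDim_eq

open Groth.EGA43Topo in
/-- The test on a valuation ring. -/
theorem exists_generization_over_valuation {X S : Scheme.{u}} (f : X ⟶ S) [LocallyOfFiniteType f]
    {n : ℕ} (u : X ⟶ 𝔸(ULift.{u} (Fin n); S)) [LocallyQuasiFinite u] [LocallyOfFiniteType u]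
    (hu : u ≫ (𝔸(ULift.{u} (Fin n); S) ↘ S) = f) {x z : X} (hzx : z ⤳ x) (hfz : f.base z = f.base x)
    (hmax : ∀ z', f.base z' = f.base z → z' ⤳ z → z' = z) (hopen : EGA43.IsUnivOpenAt f z)
    (hdim : (n : WithBot ℕ∞) ≤ FlatMor.fibreDimAt f z)
    {V : Type u} [CommRing V] [IsDomain V] [ValuationRing V]
    (h : Spec (CommRingCat.of V) ⟶ 𝔸(ULift.{u} (Fin n); S))
    (p₀ : ↥(pullback u h)) (hp₀f : (pullback.fst u h).base p₀ = x)
    (hp₀s : (pullback.snd u h).base p₀ = IsLocalRing.closedPoint V) :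
    ∃ p₁ : ↥(pullback u h), p₁ ⤳ p₀ ∧
      (pullback.snd u h).base p₁ = (⟨⊥, Ideal.isPrime_bot⟩ : PrimeSpectrum V) := by
  let Y : Scheme.{u} := Spec (CommRingCat.of V)
  let q := 𝔸(ULift.{u} (Fin n); S) ↘ S
  let gS : Y ⟶ S := h ≫ q
  let m := AffineSpace.map (ULift.{u} (Fin n)) gS
  let q' := 𝔸(ULift.{u} (Fin n); Y) ↘ Y
  have sqA : IsPullback m q' q gS := AffineSpace.isPullback_map gS
  let σ : Y ⟶ 𝔸(ULift.{u} (Fin n); Y) := sqA.lift h (𝟙 _) (by rw [Category.id_comp])
  have hσm : σ ≫ m = h := sqA.lift_fst ..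
  have hσq : σ ≫ q' = 𝟙 _ := sqA.lift_snd ..
  have sqX : IsPullback (pullback.fst u m) (pullback.snd u m ≫ q') f gS :=
    hu ▸ (IsPullback.of_hasPullback u m).paste_vert sqA
  let fX := pullback.fst u m
  let uV := pullback.snd u m
  let pV := uV ≫ q'
  have : LocallyOfFiniteType pV := inferInstanceAs (LocallyOfFiniteType (_ ≫ _))
  have : LocallyOfFiniteType uV := inferInstanceAs (LocallyOfFiniteType (pullback.snd u m))
  have : LocallyQuasiFinite uV := inferInstanceAs (LocallyQuasiFinite (pullback.snd u m))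
  let c : Y := IsLocalRing.closedPoint V
  let o : Y := (⟨⊥, Ideal.isPrime_bot⟩ : PrimeSpectrum V)
  let j : pullback u h ⟶ pullback u m :=
    pullback.lift (pullback.fst u h) (pullback.snd u h ≫ σ)
      (by rw [Category.assoc, hσm, pullback.condition])
  have hjf : j ≫ fX = pullback.fst u h := pullback.lift_fst ..
  have hjs : j ≫ uV = pullback.snd u h ≫ σ := pullback.lift_snd ..
  set w₀ := j.base p₀ with hw₀def
  have hw₀f : fX.base w₀ = x := by rw [← Scheme.Hom.comp_apply, hjf, hp₀f]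
  have hw₀u : uV.base w₀ = σ.base c := by rw [← Scheme.Hom.comp_apply, hjs, Scheme.Hom.comp_apply, hp₀s]
  have hσc : ∀ y, q'.base (σ.base y) = y := fun y => by rw [← Scheme.Hom.comp_apply, hσq]; rfl
  have hw₀p : pV.base w₀ = c := by
    rw [Scheme.Hom.comp_apply]
    exact (congrArg q'.base hw₀u).trans (hσc c)
  obtain ⟨z₀, hz₀f, hz₀p, hz₀w⟩ : w₀ ∈ Groth.SpectralTopology.fibreCl pV (fX ⁻¹' {z}) := by
    rw [Groth.SpectralTopology.fibreCl_preimage sqX]
    exact ⟨z, rfl, by rw [hw₀f, hfz], by rw [hw₀f]; exact hzx⟩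
  obtain ⟨z₁, hz₁p, hz₁z, hz₁h, -⟩ := Groth.FibreDim.exists_maximal_fibre_point pV z₀
  have hmax₁ := (Groth.FibreDim.isMax_asFiber_iff pV z₁).1 (Order.coheight_eq_zero.1 hz₁h)
  have hc₁ : pV.base z₁ = c := hz₁p.trans (hz₀p.trans hw₀p)
  have hz₀f' : fX.base z₀ = z := hz₀f
  have hz₁f : fX.base z₁ = z := by
    refine hmax _ ?_ (hz₀f' ▸ hz₁z.map fX.continuous)
    rw [hfz, ← hw₀f, ← Scheme.Hom.comp_apply, ← Scheme.Hom.comp_apply, sqX.w,
      Scheme.Hom.comp_apply, Scheme.Hom.comp_apply]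
    exact congrArg gS.base (hc₁.trans hw₀p.symm)
  have ho : o ⤳ pV.base z₁ := by
    rw [hc₁]
    exact (PrimeSpectrum.le_iff_specializes _ _).1 bot_le
  obtain ⟨a, haz, hap, hamax, had⟩ :=
    exists_generization_of_isUnivOpenAt (isUnivOpenAt_baseChange hopen sqX z₁ hz₁f)
      (fun z' hz' h' => hmax₁ z' hz' h') ho
  rw [Groth.FibreDim.fibreDimAt_baseChange f gS pV fX sqX, hz₁f] at had
  obtain ⟨d, hd, hd'⟩ := Groth.FibreDim.exists_relTrdeg_eq_height pV a
  have htr : (n : Cardinal.{u}) ≤ Groth.Variety2.Dim.relTrdeg pV a := by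
    have h1 := hdim.trans had
    rw [(Groth.FibreDim.fibreDimAt_eq_height_of_max pV fun w hw h' => hamax w (hw.trans hap) h').1,
      hd'] at h1
    rw [hd, Nat.cast_le]
    exact_mod_cast h1
  let eR : (Γ(Y, ⊤) : Type u) ≃+* V := (Scheme.ΓSpecIso (CommRingCat.of V)).commRingCatIsoToRingEquiv
  have : IsDomain Γ(Y, ⊤) := MulEquiv.isDomain V eR.toMulEquiv
  have : IsIntegrallyClosed Γ(Y, ⊤) := IsIntegrallyClosed.of_equiv eR.symm
  let ρ : MvPolynomial (ULift.{u} (Fin n)) Γ(Y, ⊤) ≃+* MvPolynomial (Fin n) Γ(Y, ⊤) :=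
    (MvPolynomial.renameEquiv _ Equiv.ulift).toRingEquiv
  let e : 𝔸(ULift.{u} (Fin n); Y) ≅ Spec (.of (MvPolynomial (Fin n) Γ(Y, ⊤))) :=
    AffineSpace.isoOfIsAffine _ Y ≪≫ Scheme.Spec.mapIso ρ.toCommRingCatIso.op.symm
  have he : e.hom ≫ Spec.map (CommRingCat.ofHom MvPolynomial.C) ≫ Y.isoSpec.inv = q' := by
    rw [← Iso.eq_inv_comp]
    simp only [e, Iso.trans_inv, Category.assoc, q', AffineSpace.isoOfIsAffine_inv_over]
    rw [← Category.assoc, Functor.mapIso_inv, Scheme.Spec_map, ← Spec.map_comp]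
    congr 2
    ext1
    refine RingHom.ext fun r => ?_
    exact (MvPolynomial.rename_C _ r).symm
  have hb : e.hom.base (σ.base o) ⤳ (uV ≫ e.hom).base w₀ := by
    rw [Scheme.Hom.comp_apply]
    refine Specializes.map ?_ e.hom.continuous
    rw [show uV.base w₀ = σ.base c from hw₀u]
    exact ((PrimeSpectrum.le_iff_specializes _ _).1 bot_le : o ⤳ c).map σ.continuous
  obtain ⟨w', hw', hw'b⟩ := Groth.Calg4.exists_specializes_of_lqf_affineSpace (uV ≫ e.hom) pV
    (by rw [Category.assoc, he]) (haz.trans (hz₁z.trans hz₀w))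
    (fun y => by rw [hap]; exact (PrimeSpectrum.le_iff_specializes _ _).1 bot_le) htr hb
  have hw'u : uV.base w' = σ.base o := by
    rw [Scheme.Hom.comp_apply] at hw'b
    exact e.hom.isOpenEmbedding.injective hw'b
  have sqj : IsPullback j (pullback.snd u h) uV σ := by
    refine IsPullback.of_right ?_ hjs (IsPullback.of_hasPullback u m)
    rw [hjf, hσm]
    exact IsPullback.of_hasPullback u h
  have : IsClosedImmersion (σ ≫ q') := hσq ▸ inferInstance
  have : IsClosedImmersion σ := IsClosedImmersion.of_comp σ q'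
  have : IsPreimmersion j := MorphismProperty.of_isPullback sqj.flip
    (inferInstance : IsPreimmersion σ)
  obtain ⟨p₁, hp₁j, hp₁s⟩ := Scheme.exists_preimage_of_isPullback sqj w' o hw'u
  exact ⟨p₁, j.isEmbedding.toIsInducing.specializes_iff.1 (by rw [hp₁j]; exact hw'), hp₁s⟩

/-- Let f : X → S be a morphism locally of finite presentation, s a point of S, x a point of the fibre
X_s = f⁻¹(s), n the local dimension of X_s at x, q : 𝔸^n_S → S the affine n-space over S and u : X →
𝔸^n_S a locally quasi-finite morphism with u q = f. Suppose that f is universally open at the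
generic point z of an irreducible component Z of X_s which contains x and has dimension n. Then u is
universally open at x. -/
theorem result (X S : Scheme.{u}) (f : X ⟶ S) [LocallyOfFinitePresentation f]
    (s : S) (x : X) (hxs : f.base x = s) (n : ℕ)
    (u : X ⟶ 𝔸(ULift.{u} (Fin n); S)) [LocallyQuasiFinite u] (hu : u ≫ (𝔸(ULift.{u} (Fin n); S) ↘ S) = f)
    (Z : Set ↥(f.base ⁻¹' {s})) (hZ : Z ∈ irreducibleComponents ↥(f.base ⁻¹' {s})) (hxZ : x ∈ (Subtype.val '' Z))
    (z : X) (hz : z ∈ Subtype.val '' Z ∧ Subtype.val '' Z ⊆ closure {z}) (hopen : EGA43.IsUnivOpenAt f z)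
    (hdimZ : topologicalKrullDim ↥Z = n) (hdimx : FlatMor.localDim ↥(f.base ⁻¹' {s}) ⟨x, hxs⟩ = n) :
    EGA43.IsUnivOpenAt u x := by
  have : LocallyOfFinitePresentation (u ≫ (𝔸(ULift.{u} (Fin n); S) ↘ S)) := hu ▸ inferInstance
  have : LocallyOfFinitePresentation u :=
    Groth.SpectralTopology.lfp_of_comp u (𝔸(ULift.{u} (Fin n); S) ↘ S)
  obtain ⟨hmax, hdim⟩ := le_fibreDimAt_generic f hZ hz
  rw [hdimZ] at hdim
  have hzx : z ⤳ x := specializes_iff_mem_closure.2 (hz.2 hxZ)
  have hfz : f.base z = f.base x := by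
    obtain ⟨⟨y, hy⟩, -, rfl⟩ := hz.1
    exact (show f.base y = s from hy).trans hxs.symm
  intro T g x' hx'
  refine Groth.EGA43Topo.isOpenAt_of_generizations _ _ fun U hxU t ht => ?_
  obtain ⟨V, _, _, _, k, hk0, hk1⟩ := Groth.FibreDim.exists_valuation_lift ht
  let r : pullback u (k ≫ g) ⟶ pullback u g :=
    pullback.lift (pullback.fst _ _) (pullback.snd _ _ ≫ k)
      (by rw [Category.assoc, pullback.condition])
  have sqr : IsPullback r (pullback.snd u (k ≫ g)) (pullback.snd u g) k := by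
    refine IsPullback.of_right ?_ (pullback.lift_snd ..) (IsPullback.of_hasPullback u g)
    rw [pullback.lift_fst]
    exact IsPullback.of_hasPullback u (k ≫ g)
  have : LocallyOfFiniteType (pullback.snd u g) := inferInstance
  obtain ⟨p₀, hp₀r, hp₀s⟩ := Scheme.exists_preimage_of_isPullback sqr x' (IsLocalRing.closedPoint V)
    hk0.symm
  have hp₀f : (pullback.fst u (k ≫ g)).base p₀ = x := by
    rw [← pullback.lift_fst (f := u) (g := g) (pullback.fst u (k ≫ g)) (pullback.snd u (k ≫ g) ≫ k)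
      (by rw [Category.assoc, pullback.condition]), Scheme.Hom.comp_apply]
    exact (congrArg (pullback.fst u g).base hp₀r).trans hx'
  obtain ⟨w', hw', hw's⟩ := exists_generization_over_valuation f u hu hzx hfz hmax hopen hdim
    (k ≫ g) p₀ hp₀f hp₀s
  refine ⟨r.base w', (hp₀r ▸ hw'.map r.continuous : r.base w' ⤳ x').mem_open U.isOpen hxU, ?_⟩
  rw [← Scheme.Hom.comp_apply, sqr.w, Scheme.Hom.comp_apply, hw's, hk1]

end Groth.Agent.S6083
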