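import Groth.Statements.S6084
import Groth.Agent.GitQuot.FppfSourceScheme
import Mathlib.AlgebraicGeometry.Morphisms.QuasiFinite

set_option autoImplicit false
universe u
open CategoryTheory CategoryTheory.Limits MonoidalCategory CartesianMonoidalCategory MonObj GrpObj AlgebraicGeometry
open SGA3

namespace Groth.Agent.S6084

/-- Let k be a perfect field, G a group scheme locally of finite type over k and u : F → G a
homomorphism of k-group schemes which is a closed immersion and surjective on underlying spaces,
with F reduced (so F is G_red with its group structure). Let p : G → X be a k-morphism which is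
flat, surjective and locally of finite presentation and makes the square formed by (f, g) ↦ u(f) ·
g, the second projection F ×_k G → G and p (twice) cartesian (X is the quotient of G by F acting by
left translations). Then X is the spectrum of a finite local k-algebra with residue field k: X is
affine, its underlying space is a single point at which the structure morphism induces an
isomorphism of residue fields, and the ring of global sections of X is finite over k. -/
theorem result (k : Type u) [Field k] [PerfectField k]
    (F G : Over (Spec (CommRingCat.of k))) [GrpObj F] [GrpObj G] [LocallyOfFiniteType G.hom] [IsReduced F.left]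
    (u : F ⟶ G) [IsMonHom u] [IsClosedImmersion u.left] [Surjective u.left]
    (X : Over (Spec (CommRingCat.of k))) (p : G ⟶ X) [Flat p.left] [Surjective p.left] [LocallyOfFinitePresentation p.left]
    (hp : IsPullback ((u ▷ G) ≫ μ[G]) (snd F G) p p) :
    IsAffine X.left ∧ (∃ x : X.left, (Set.univ : Set X.left) = {x} ∧ IsIso (X.hom.residueFieldMap x)) ∧
      ((Scheme.ΓSpecIso (CommRingCat.of k)).inv ≫ X.hom.appTop).hom.Finite := by
  have key : u ≫ p = (1 : F ⟶ G) ≫ p := by
    have h := congrArg (lift (𝟙 F) (1 : F ⟶ G) ≫ ·) hp.w
    simp only [← Category.assoc, lift_snd] at h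
    have e : (lift (𝟙 F) (1 : F ⟶ G) ≫ u ▷ G) ≫ μ[G] = u := by
      rw [lift_whiskerRight, Category.id_comp, ← Hom.mul_def, _root_.mul_one]
    rwa [e] at h
  let σ : Spec (CommRingCat.of k) ⟶ X.left := (η[G] ≫ p).left
  let x := σ (IsLocalRing.closedPoint k)
  have hall : ∀ y : X.left, y = x := by
    intro y
    obtain ⟨g, rfl⟩ := p.left.surjective y
    obtain ⟨f, rfl⟩ := u.left.surjective g
    rw [← Scheme.Hom.comp_apply, ← Over.comp_left, key, Hom.one_def, Category.assoc, Over.comp_left,
      Scheme.Hom.comp_apply]
    exact congrArg σ (Subsingleton.elim (α := PrimeSpectrum k) _ _)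
  haveI : Subsingleton X.left := ⟨fun a b => (hall a).trans (hall b).symm⟩
  haveI : IsAffine X.left := by
    obtain ⟨U, hU, hxU, -⟩ := exists_isAffineOpen_mem_and_subset (X := X.left) (x := x) (U := ⊤) trivial
    have : U = ⊤ := top_le_iff.1 fun y _ => hall y ▸ hxU
    haveI : IsAffine (⊤ : X.left.Opens).toScheme := this ▸ hU
    exact IsAffine.of_isIso X.left.topIso.inv
  haveI : LocallyOfFiniteType X.hom := by
    haveI : LocallyOfFinitePresentation (p.left ≫ X.hom) := by rw [Over.w]; infer_instance
    haveI := Groth.GitQuot.FppfSource.locallyOfFinitePresentation_of_fppf p.left X.hom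
    infer_instance
  haveI : LocallyQuasiFinite X.hom :=
    LocallyQuasiFinite.of_injective fun a b _ => Subsingleton.elim a b
  haveI : IsFinite X.hom := IsFinite.of_locallyQuasiFinite X.hom
  refine ⟨inferInstance, ⟨x, Set.eq_singleton_iff_unique_mem.2 ⟨trivial, fun y _ => hall y⟩, ?_⟩,
    RingHom.Finite.comp X.hom.finite_appTop
      (RingHom.Finite.of_surjective _ (ConcreteCategory.bijective_of_isIso (Scheme.ΓSpecIso (CommRingCat.of k)).inv).2)⟩
  have hσ : σ ≫ X.hom = 𝟙 _ := Over.w (η[G] ≫ p)
  have hiso : IsIso ((σ ≫ X.hom).residueFieldMap (IsLocalRing.closedPoint k)) := by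
    rw [hσ]; infer_instance
  rw [Scheme.residueFieldMap_comp] at hiso
  have hiso' : IsIso (X.hom.residueFieldMap x ≫ σ.residueFieldMap (IsLocalRing.closedPoint k)) := hiso
  have hb := (ConcreteCategory.isIso_iff_bijective _).1 hiso'
  refine (ConcreteCategory.isIso_iff_bijective _).2 ⟨(X.hom.residueFieldMap x).hom.injective, fun t => ?_⟩
  obtain ⟨a, ha⟩ := hb.2 (σ.residueFieldMap (IsLocalRing.closedPoint k) t)
  exact ⟨a, (σ.residueFieldMap (IsLocalRing.closedPoint k)).hom.injective ha⟩

end Groth.Agent.S6084
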