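import Groth.Statements.S6087
import Groth.Agent.GrpLim.QuotModel

set_option autoImplicit false
universe u
open CategoryTheory CategoryTheory.Limits MonoidalCategory CartesianMonoidalCategory MonObj GrpObj AlgebraicGeometry
open SGA3

namespace Groth.Agent.S6087

section Helpers

open Groth.GrpLim

set_option backward.isDefEq.respectTransparency false

theorem hasQuot_iff {S' S : Scheme.{u}} (p : S' ⟶ S) {G G' : Over S} [GrpObj G] [GrpObj G'] (v : G' ⟶ G) :
    (∃ (Q : Over S') (q : Red.bc p G ⟶ Q), Flat q.left ∧ Surjective q.left ∧ LocallyOfFinitePresentation q.left ∧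
        IsPullback ((Red.bc p G ◁ (Over.pullback p).map v) ≫ μ[Red.bc p G]) (fst (Red.bc p G) (Red.bc p G')) q q) ↔
    HasQuot p ((G ◁ v) ≫ μ[G]) (fst G G') := by
  let M := Functor.Monoidal.μIso (Over.pullback p) G G'
  have h1 : M.hom ≫ (Over.pullback p).map ((G ◁ v) ≫ μ[G]) =
      (Red.bc p G ◁ (Over.pullback p).map v) ≫ μ[Red.bc p G] := by
    simp [M]
  have h2 : M.hom ≫ (Over.pullback p).map (fst G G') = fst (Red.bc p G) (Red.bc p G') := by
    simp [M]
  constructor
  · rintro ⟨Q, q, a, b, d, h⟩
    refine ⟨Q, q, a, b, d, h.of_iso M (Iso.refl _) (Iso.refl _) (Iso.refl _) ?_ ?_ (by simp) (by simp)⟩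
    · rw [h1]; exact Category.comp_id _
    · rw [h2]; exact Category.comp_id _
  · rintro ⟨Q, q, a, b, d, h⟩
    refine ⟨Q, q, a, b, d, h.of_iso M.symm (Iso.refl _) (Iso.refl _) (Iso.refl _) ?_ ?_ (by simp) (by simp)⟩
    · rw [← h1]; simp
    · rw [← h2]; simp

end Helpers

/-- Let S be the limit of a cofiltered system (S_i) of quasi-compact quasi-separated schemes with affine
transition morphisms, j an index, G_j an S_j-group scheme of finite presentation over S_j and u_j :
G'_j → G_j a subgroup scheme (a homomorphism which is a monomorphism) with G'_j flat and of finite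
presentation over S_j. For a base change G, G' of G_j, G'_j say that G/G' is representable when
there are Q and a morphism p : G → Q which is flat, surjective and locally of finite presentation
and makes the square formed by (g, h) ↦ g · u(h), the first projection G × G' → G and p (twice)
cartesian. Then G/G' is representable over S for the base changes to S if and only if there is an
index i over j such that G_i/G'_i is representable over S_i for the base changes to S_i. (The
published statement is for representability of the fpqc quotient sheaf; with G' flat of finite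
presentation this is the same as the existence of such a p. The published setting takes all S_i
affine over a fixed quasi-compact quasi-separated S_0.) -/
theorem result {I : Type u} [SmallCategory I] [IsCofiltered I]
    (D : I ⥤ Scheme.{u}) (c : Limits.Cone D) (hc : Limits.IsLimit c)
    [∀ (i i' : I) (f : i ⟶ i'), IsAffineHom (D.map f)] [∀ i, CompactSpace (D.obj i)] [∀ i, QuasiSeparatedSpace (D.obj i)]
    (j : I) (Gj G'j : Over (D.obj j)) [GrpObj Gj] [GrpObj G'j]
    [LocallyOfFinitePresentation Gj.hom] [QuasiCompact Gj.hom] [QuasiSeparated Gj.hom]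
    [Flat G'j.hom] [LocallyOfFinitePresentation G'j.hom] [QuasiCompact G'j.hom] [QuasiSeparated G'j.hom]
    (uj : G'j ⟶ Gj) [IsMonHom uj] [Mono uj] :
    (∃ (Q : Over c.pt) (p : (Red.bc (c.π.app j) Gj) ⟶ Q), Flat p.left ∧ Surjective p.left ∧ LocallyOfFinitePresentation p.left ∧
        IsPullback (((Red.bc (c.π.app j) Gj) ◁ ((Over.pullback (c.π.app j)).map uj)) ≫ μ[(Red.bc (c.π.app j) Gj)]) (fst (Red.bc (c.π.app j) Gj) (Red.bc (c.π.app j) G'j)) p p) ↔
    ∃ (i : I) (f : i ⟶ j), ∃ (Q : Over (D.obj i)) (p : (Red.bc (D.map f) Gj) ⟶ Q), Flat p.left ∧ Surjective p.left ∧ LocallyOfFinitePresentation p.left ∧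
        IsPullback (((Red.bc (D.map f) Gj) ◁ ((Over.pullback (D.map f)).map uj)) ≫ μ[(Red.bc (D.map f) Gj)]) (fst (Red.bc (D.map f) Gj) (Red.bc (D.map f) G'j)) p p := by
  simp only [hasQuot_iff]
  constructor
  · intro h
    have : QuasiCompact (Gj ⊗ G'j).hom := inferInstanceAs (QuasiCompact (pullback.fst Gj.hom G'j.hom ≫ Gj.hom))
    have : QuasiSeparated (Gj ⊗ G'j).hom := inferInstanceAs (QuasiSeparated (pullback.fst Gj.hom G'j.hom ≫ Gj.hom))
    have : LocallyOfFinitePresentation (Gj ⊗ G'j).hom :=
      inferInstanceAs (LocallyOfFinitePresentation (pullback.fst Gj.hom G'j.hom ≫ Gj.hom))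
    have : QuasiCompact (fst Gj G'j).left := inferInstanceAs (QuasiCompact (pullback.fst Gj.hom G'j.hom))
    exact Groth.GrpLim.exists_hasQuot D c hc h
  · rintro ⟨i, f, h⟩
    exact Groth.GrpLim.HasQuot.bc (c.w f) h

end Groth.Agent.S6087
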