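import Groth.Statements.S6088
import Groth.Agent.GrpLim.Conditions
-- import your own Groth.Agent.* helpers here

set_option autoImplicit false
universe u
open CategoryTheory CategoryTheory.Limits MonoidalCategory CartesianMonoidalCategory MonObj GrpObj AlgebraicGeometry
open SGA3

namespace Groth.Agent.S6088

section Helpers

open CategoryTheory Limits MonoidalCategory CartesianMonoidalCategory MonObj AlgebraicGeometry
  Groth.GrpLim

theorem main {I : Type u} [SmallCategory I] [IsCofiltered I]
    (D : I ⥤ Scheme.{u}) (c : Limits.Cone D) (hc : Limits.IsLimit c)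
    [∀ (i i' : I) (f : i ⟶ i'), IsAffineHom (D.map f)] [∀ i, CompactSpace (D.obj i)] [∀ i, QuasiSeparatedSpace (D.obj i)]
    {j : I} {Gj Hj : Over (D.obj j)} [GrpObj Gj] [GrpObj Hj]
    [LocallyOfFinitePresentation Gj.hom] [QuasiCompact Gj.hom] [QuasiSeparated Gj.hom]
    [LocallyOfFinitePresentation Hj.hom] [QuasiCompact Hj.hom] [QuasiSeparated Hj.hom]
    (uj : Hj ⟶ Gj) :
    ((Mono ((Over.pullback (c.π.app j)).map uj) ∧ AlgGrp.IsNormalHom ((Over.pullback (c.π.app j)).map uj)) ↔
      ∃ (i : I) (f : i ⟶ j), Mono ((Over.pullback (D.map f)).map uj) ∧ AlgGrp.IsNormalHom ((Over.pullback (D.map f)).map uj)) ∧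
    ((Mono ((Over.pullback (c.π.app j)).map uj) ∧ (∀ (T : Over c.pt) (g : T ⟶ (Red.bc (c.π.app j) Gj)) (n : T ⟶ (Red.bc (c.π.app j) Hj)), g * (n ≫ ((Over.pullback (c.π.app j)).map uj)) = (n ≫ ((Over.pullback (c.π.app j)).map uj)) * g)) ↔
      ∃ (i : I) (f : i ⟶ j), Mono ((Over.pullback (D.map f)).map uj) ∧ (∀ (T : Over (D.obj i)) (g : T ⟶ (Red.bc (D.map f) Gj)) (n : T ⟶ (Red.bc (D.map f) Hj)), g * (n ≫ ((Over.pullback (D.map f)).map uj)) = (n ≫ ((Over.pullback (D.map f)).map uj)) * g)) := by
  have : QuasiCompact (Gj ⊗ Hj).hom := inferInstanceAs (QuasiCompact (pullback.fst Gj.hom Hj.hom ≫ Gj.hom))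
  have : QuasiSeparated (Gj ⊗ Hj).hom := inferInstanceAs (QuasiSeparated (pullback.fst Gj.hom Hj.hom ≫ Gj.hom))
  have huc : QuasiCompact uj.left := by
    have : QuasiCompact (uj.left ≫ Gj.hom) := by rw [Over.w uj]; infer_instance
    exact MorphismProperty.of_postcomp (W := @QuasiCompact) (W' := @QuasiSeparated) uj.left Gj.hom
      ‹_› ‹_›
  have hus : QuasiSeparated uj.left := by
    have : QuasiSeparated (uj.left ≫ Gj.hom) := by rw [Over.w uj]; infer_instance
    exact QuasiSeparated.of_comp uj.left Gj.hom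
  have hP : IsPullback (pullback.fst uj uj).left (pullback.snd uj uj).left uj.left uj.left :=
    (IsPullback.of_hasPullback uj uj).map (Over.forget _)
  have hfc : QuasiCompact (pullback.fst uj uj).left := MorphismProperty.of_isPullback hP.flip huc
  have hfs : QuasiSeparated (pullback.fst uj uj).left := MorphismProperty.of_isPullback hP.flip hus
  have : QuasiCompact (pullback uj uj).hom := by rw [← Over.w (pullback.fst uj uj)]; infer_instance
  have : QuasiSeparated (pullback uj uj).hom := by rw [← Over.w (pullback.fst uj uj)]; infer_instance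
  have hmono : Mono ((Over.pullback (c.π.app j)).map uj) → ∃ (i : I) (f : i ⟶ j),
      (Over.pullback (D.map f)).map (pullback.fst uj uj) = (Over.pullback (D.map f)).map (pullback.snd uj uj) :=
    fun h => exists_map_eq D c hc _ _ ((mono_map_iff _ _).1 h)
  have hlimm : ∀ (i : I) (f : i ⟶ j), Mono ((Over.pullback (D.map f)).map uj) →
      Mono ((Over.pullback (c.π.app j)).map uj) := fun i f h =>
    (mono_map_iff _ _).2 (map_eq_limit D c ((mono_map_iff _ _).1 h))
  refine ⟨⟨fun ⟨h1, h2⟩ => ?_, fun ⟨i, f, h1, h2⟩ => ⟨hlimm i f h1, ?_⟩⟩,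
    ⟨fun ⟨h1, h2⟩ => ?_, fun ⟨i, f, h1, h2⟩ => ⟨hlimm i f h1, ?_⟩⟩⟩
  · obtain ⟨i₁, f₁, e₁⟩ := hmono h1
    obtain ⟨v, hv⟩ := (normal_map_iff _ uj).1 h2
    obtain ⟨i₂, f₂, e₂⟩ := exists_factors D c hc uj (conjMap uj) v hv
    obtain ⟨k, g₁, g₂, hk⟩ := IsCofiltered.cospan f₁ f₂
    refine ⟨k, g₁ ≫ f₁, (mono_map_iff _ _).2 (map_eq_mono D g₁ e₁), (normal_map_iff _ uj).2 ?_⟩
    rw [hk]
    exact Factors.mono D g₂ e₂
  · exact (normal_map_iff _ uj).2 (Factors.limit D c (show Factors D f uj (conjMap uj) from (normal_map_iff _ uj).1 h2))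
  · obtain ⟨i₁, f₁, e₁⟩ := hmono h1
    obtain ⟨i₂, f₂, e₂⟩ := exists_map_eq D c hc _ _ ((central_map_iff _ uj).1 h2)
    obtain ⟨k, g₁, g₂, hk⟩ := IsCofiltered.cospan f₁ f₂
    refine ⟨k, g₁ ≫ f₁, (mono_map_iff _ _).2 (map_eq_mono D g₁ e₁), (central_map_iff _ uj).2 ?_⟩
    rw [hk]
    exact map_eq_mono D g₂ e₂
  · exact (central_map_iff _ uj).2 (map_eq_limit D c ((central_map_iff _ uj).1 h2))

end Helpers

/-- Let S be the limit of a cofiltered system (S_i) of quasi-compact quasi-separated schemes with affine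
transition morphisms, j an index and u_j : H_j → G_j a homomorphism of S_j-group schemes of finite
presentation over S_j; write u and u_i for its base changes to S and to S_i. Then u is a
monomorphism with H normal in G (for every S-scheme T, conjugates of T-points of H by T-points of G
are T-points of H) if and only if there is an index i over j such that u_i is a monomorphism with
H_i normal in G_i; and u is a monomorphism with H central in G (every T-point of H commutes with
every T-point of G) if and only if there is an index i over j with the same property for u_i. (The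
published statement starts from a homomorphism u of S-groups of finite presentation and first
descends it to some u_j; this row starts from u_j. The published setting takes all S_i affine over a
fixed quasi-compact quasi-separated S_0.) -/
theorem result {I : Type u} [SmallCategory I] [IsCofiltered I]
    (D : I ⥤ Scheme.{u}) (c : Limits.Cone D) (hc : Limits.IsLimit c)
    [∀ (i i' : I) (f : i ⟶ i'), IsAffineHom (D.map f)] [∀ i, CompactSpace (D.obj i)] [∀ i, QuasiSeparatedSpace (D.obj i)]
    (j : I) (Gj Hj : Over (D.obj j)) [GrpObj Gj] [GrpObj Hj]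
    [LocallyOfFinitePresentation Gj.hom] [QuasiCompact Gj.hom] [QuasiSeparated Gj.hom]
    [LocallyOfFinitePresentation Hj.hom] [QuasiCompact Hj.hom] [QuasiSeparated Hj.hom]
    (uj : Hj ⟶ Gj) [IsMonHom uj] :
    ((Mono ((Over.pullback (c.π.app j)).map uj) ∧ AlgGrp.IsNormalHom ((Over.pullback (c.π.app j)).map uj)) ↔
      ∃ (i : I) (f : i ⟶ j), Mono ((Over.pullback (D.map f)).map uj) ∧ AlgGrp.IsNormalHom ((Over.pullback (D.map f)).map uj)) ∧
    ((Mono ((Over.pullback (c.π.app j)).map uj) ∧ (∀ (T : Over c.pt) (g : T ⟶ (Red.bc (c.π.app j) Gj)) (n : T ⟶ (Red.bc (c.π.app j) Hj)), g * (n ≫ ((Over.pullback (c.π.app j)).map uj)) = (n ≫ ((Over.pullback (c.π.app j)).map uj)) * g)) ↔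
      ∃ (i : I) (f : i ⟶ j), Mono ((Over.pullback (D.map f)).map uj) ∧ (∀ (T : Over (D.obj i)) (g : T ⟶ (Red.bc (D.map f) Gj)) (n : T ⟶ (Red.bc (D.map f) Hj)), g * (n ≫ ((Over.pullback (D.map f)).map uj)) = (n ≫ ((Over.pullback (D.map f)).map uj)) * g)) :=
  main D c hc uj

end Groth.Agent.S6088
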