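import Groth.Statements.S6092
import Groth.Agent.GrpLim.GroupModel
import Groth.Agent.Limits.Topology
import Groth.Agent.Limits.RingPropDescent
import Groth.Agent.Limits.FlatDescent

set_option autoImplicit false
universe u
open CategoryTheory CategoryTheory.Limits MonoidalCategory CartesianMonoidalCategory MonObj GrpObj AlgebraicGeometry
open SGA3

namespace Groth.Agent.S6092

section Helpers

open Groth.GrpLim Topology

set_option backward.isDefEq.respectTransparency false

noncomputable abbrev shear {S' S : Scheme.{u}} (p : S' ⟶ S) {G X : Over S} [GrpObj G] (act : AlgGrp.Action G X) :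
    Red.bc p G ⊗ Red.bc p X ⟶ Red.bc p X ⊗ Red.bc p X :=
  lift (Functor.LaxMonoidal.μ (Over.pullback p) G X ≫ (Over.pullback p).map act.act)
    (snd (Red.bc p G) (Red.bc p X))

theorem isIso_shear_iff {S' S : Scheme.{u}} (p : S' ⟶ S) {G X : Over S} [GrpObj G] (act : AlgGrp.Action G X) :
    IsIso (shear p act) ↔ IsIso ((Over.pullback p).map (lift act.act (snd G X))) := by
  have h : shear p act = (Functor.Monoidal.μIso (Over.pullback p) G X).hom ≫
      (Over.pullback p).map (lift act.act (snd G X)) ≫ (Functor.Monoidal.μIso (Over.pullback p) X X).inv := by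
    apply CartesianMonoidalCategory.hom_ext <;>
      simp [shear, ← Functor.map_comp]
  rw [h, isIso_comp_left_iff, isIso_comp_right_iff]

/-- The covering condition. -/
def Cov {S' S : Scheme.{u}} (p : S' ⟶ S) (X : Over S) : Prop :=
  ∃ (Z : Scheme.{u}) (v : Z ⟶ S') (w : Z ⟶ (Red.bc p X).left), w ≫ (Red.bc p X).hom = v ∧
    Flat v ∧ Surjective v ∧ LocallyOfFinitePresentation v ∧ QuasiCompact v ∧ QuasiSeparated v

theorem Cov.bc {S₁ S₂ S₃ : Scheme.{u}} {a : S₁ ⟶ S₂} {b : S₂ ⟶ S₃} {ab : S₁ ⟶ S₃} (h : a ≫ b = ab)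
    {X : Over S₃} (hX : Cov b X) : Cov ab X := by
  obtain ⟨Z, v, w, hw, h1, h2, h3, h4, h5⟩ := hX
  let m : Red.bc a (Over.mk v) ⟶ Red.bc ab X :=
    (Over.pullback a).map (Over.homMk (U := Over.mk v) (V := Red.bc b X) w hw) ≫ (cmp h).hom.app X
  exact ⟨pullback v a, pullback.snd v a, m.left, Over.w m, inferInstance, inferInstance, inferInstance,
    inferInstance, inferInstance⟩

variable {I : Type u} [SmallCategory I] [IsCofiltered I] (D : I ⥤ Scheme.{u}) (c : Cone D) (hc : IsLimit c)
  [∀ (i i' : I) (f : i ⟶ i'), IsAffineHom (D.map f)] [∀ i, CompactSpace (D.obj i)]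
  [∀ i, QuasiSeparatedSpace (D.obj i)]

include hc in
theorem exists_flat_surjective_stage {i : I} (A : Over (D.obj i)) [LocallyOfFinitePresentation A.hom]
    [QuasiCompact A.hom] [QuasiSeparated A.hom] (hf : Flat (Red.bc (c.π.app i) A).hom)
    (hs : Surjective (Red.bc (c.π.app i) A).hom) :
    ∃ (k : I) (φ : k ⟶ i), Flat (Red.bc (D.map φ) A).hom ∧ Surjective (Red.bc (D.map φ) A).hom := by
  have : CompactSpace A.left := QuasiCompact.compactSpace_of_compactSpace A.hom
  obtain ⟨o, ho⟩ := Groth.Limits.exists_stage_of_ringDescends (P := @Flat) (Q := RingHom.Flat)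
    Groth.Limits.ringDescends_flat (fun _ _ f hf => inferInstance) D c hc i A.hom hf
  have : IsConstructible (Set.range A.hom) := by
    rw [← Set.image_univ]; exact A.hom.isConstructible_image IsConstructible.univ
  obtain ⟨l, φ, hl⟩ := Groth.Limits.exists_preimage_subset D c hc (E := Set.univ)
    (F := Set.range A.hom) Groth.Limits.pc_univ.qcImage
    (Groth.Limits.pc_compl_of_isConstructible this) (fun x _ ↦ by
      obtain ⟨y, hy⟩ := hs.surj x
      subst hy
      exact ⟨pullback.fst A.hom (c.π.app i) y, by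
        show _ = (c.π.app i) (pullback.snd A.hom (c.π.app i) y)
        rw [← Scheme.Hom.comp_apply, pullback.condition, Scheme.Hom.comp_apply]⟩)
  obtain ⟨k, a, b, hab⟩ := IsCofiltered.cospan o.hom φ
  refine ⟨k, a ≫ o.hom, ?_, ?_⟩
  · let e := (cmp (D.map_comp a o.hom).symm).app A
    have : Flat (pullback.snd A.hom (D.map o.hom)) := ho
    have h1 : Flat (Red.bc (D.map a) (Red.bc (D.map o.hom) A)).hom :=
      inferInstanceAs (Flat (pullback.snd (pullback.snd A.hom (D.map o.hom)) (D.map a)))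
    exact (MorphismProperty.arrow_mk_iso_iff @Flat
      (Arrow.isoMk ((Over.forget _).mapIso e) (Iso.refl _) (by simpa using Over.w e.hom))).1 h1
  · rw [hab]
    refine ⟨fun t => ?_⟩
    obtain ⟨x, hx⟩ := hl (show (D.map b) t ∈ ⇑(D.map φ) ⁻¹' Set.univ from trivial)
    obtain ⟨z, -, hz⟩ := Scheme.Pullback.exists_preimage_pullback (f := A.hom) (g := D.map (b ≫ φ)) x t (by
      rw [hx, D.map_comp, Scheme.Hom.comp_apply])
    exact ⟨z, hz⟩

set_option maxHeartbeats 1000000 in
include hc in
theorem exists_cov {j : I} {X : Over (D.obj j)} [LocallyOfFinitePresentation X.hom]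
    (hX : Cov (c.π.app j) X) : ∃ (i : I) (f : i ⟶ j), Cov (D.map f) X := by
  obtain ⟨Z, v, w, hw, hfl, hsu, hlfp, hqc, hqs⟩ := hX
  obtain ⟨j₁, ⟨M⟩⟩ := Groth.SpectralTopology.exists_stageModel (D := D) (c := c) hc v
  let A₁ : Over (D.obj j₁) := Over.mk M.hom
  let e₁ : Over.mk v ≅ Red.bc (c.π.app j₁) A₁ := Over.isoMk M.sq.isoPullback M.sq.isoPullback_hom_snd
  have : QuasiCompact A₁.hom := M.qc
  have : QuasiSeparated A₁.hom := M.qs
  have : LocallyOfFinitePresentation A₁.hom := M.lfp
  have hh : (Red.bc (c.π.app j₁) A₁).hom = e₁.inv.left ≫ v := (Over.w e₁.inv).symm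
  have : IsIso e₁.inv.left := inferInstanceAs (IsIso ((Over.forget _).map e₁.inv))
  obtain ⟨k, φ, h1, h2⟩ := exists_flat_surjective_stage D c hc A₁ (by rw [hh]; infer_instance)
    (by rw [hh]; infer_instance)
  let a : IsCofiltered.min k j ⟶ j₁ := IsCofiltered.minToLeft k j ≫ φ
  let b : IsCofiltered.min k j ⟶ j := IsCofiltered.minToRight k j
  let l := IsCofiltered.min k j
  let A := Red.bc (D.map a) A₁
  have : QuasiCompact A.hom := inferInstanceAs (QuasiCompact (pullback.snd A₁.hom (D.map a)))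
  have : QuasiSeparated A.hom := inferInstanceAs (QuasiSeparated (pullback.snd A₁.hom (D.map a)))
  have : LocallyOfFinitePresentation A.hom :=
    inferInstanceAs (LocallyOfFinitePresentation (pullback.snd A₁.hom (D.map a)))
  let B := Red.bc (D.map b) X
  have : LocallyOfFinitePresentation B.hom :=
    inferInstanceAs (LocallyOfFinitePresentation (pullback.snd X.hom (D.map b)))
  let u : Red.bc (c.π.app l) A ⟶ Red.bc (c.π.app l) B :=
    ((cmp (c.w a)).app A₁).hom ≫ e₁.inv ≫ Over.homMk (U := Over.mk v) (V := Red.bc (c.π.app j) X) w hw ≫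
      ((cmp (c.w b)).app X).inv
  obtain ⟨i, g, ui, -⟩ := exists_stageOf D c hc u
  let r : Red.bc (D.map g) A ⟶ Red.bc (D.map (g ≫ b)) X := ui ≫ (cmp (D.map_comp g b).symm).hom.app X
  have hflat : Flat A.hom := by
    let e := (cmp (D.map_comp (IsCofiltered.minToLeft k j) φ).symm).app A₁
    have : Flat (Red.bc (D.map φ) A₁).hom := h1
    have h1' : Flat (Red.bc (D.map (IsCofiltered.minToLeft k j)) (Red.bc (D.map φ) A₁)).hom :=
      inferInstanceAs (Flat (pullback.snd (Red.bc (D.map φ) A₁).hom _))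
    exact (MorphismProperty.arrow_mk_iso_iff @Flat
      (Arrow.isoMk ((Over.forget _).mapIso e) (Iso.refl _) (by simpa [A, a] using Over.w e.hom))).1 h1'
  have hsurj : Surjective A.hom := by
    let e := (cmp (D.map_comp (IsCofiltered.minToLeft k j) φ).symm).app A₁
    have : Surjective (Red.bc (D.map φ) A₁).hom := h2
    have h1' : Surjective (Red.bc (D.map (IsCofiltered.minToLeft k j)) (Red.bc (D.map φ) A₁)).hom :=
      inferInstanceAs (Surjective (pullback.snd (Red.bc (D.map φ) A₁).hom _))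
    exact (MorphismProperty.arrow_mk_iso_iff @Surjective
      (Arrow.isoMk ((Over.forget _).mapIso e) (Iso.refl _) (by simpa [A, a] using Over.w e.hom))).1 h1'
  exact ⟨i, g ≫ b, (Red.bc (D.map g) A).left, (Red.bc (D.map g) A).hom, r.left, Over.w r,
    inferInstanceAs (Flat (pullback.snd A.hom _)), inferInstanceAs (Surjective (pullback.snd A.hom _)),
    inferInstanceAs (LocallyOfFinitePresentation (pullback.snd A.hom _)),
    inferInstanceAs (QuasiCompact (pullback.snd A.hom _)), inferInstanceAs (QuasiSeparated (pullback.snd A.hom _))⟩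

omit [IsCofiltered I] [∀ (i i' : I) (f : i ⟶ i'), IsAffineHom (D.map f)] [∀ i, CompactSpace (D.obj i)]
  [∀ i, QuasiSeparatedSpace (D.obj i)] in
theorem isIso_map_bc {S₁ S₂ S₃ : Scheme.{u}} {a : S₁ ⟶ S₂} {b : S₂ ⟶ S₃} {ab : S₁ ⟶ S₃} (h : a ≫ b = ab)
    {A B : Over S₃} (s : A ⟶ B) [IsIso ((Over.pullback b).map s)] : IsIso ((Over.pullback ab).map s) :=
  (NatIso.isIso_map_iff (cmp h) s).1
    (inferInstanceAs (IsIso ((Over.pullback a).map ((Over.pullback b).map s))))

include hc in
theorem exists_isIso_stage {j : I} {A B : Over (D.obj j)} [QuasiCompact A.hom] [QuasiSeparated A.hom]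
    [QuasiCompact B.hom] [QuasiSeparated B.hom]
    [LocallyOfFinitePresentation A.hom] [LocallyOfFinitePresentation B.hom]
    (s : A ⟶ B) (h : IsIso ((Over.pullback (c.π.app j)).map s)) :
    ∃ (i : I) (f : i ⟶ j), IsIso ((Over.pullback (D.map f)).map s) := by
  obtain ⟨i, f, t, ht⟩ := exists_stageOf D c hc (inv ((Over.pullback (c.π.app j)).map s))
  let σ := cmp (c.w f)
  have hσ : (Over.pullback (c.π.app i)).map ((Over.pullback (D.map f)).map s) =
      σ.hom.app A ≫ (Over.pullback (c.π.app j)).map s ≫ σ.inv.app B :=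
    by rw [← σ.hom.naturality_assoc, Iso.hom_inv_id_app, Category.comp_id]; rfl
  have : QuasiCompact (Red.bc (D.map f) A).hom := inferInstanceAs (QuasiCompact (pullback.snd A.hom _))
  have : QuasiSeparated (Red.bc (D.map f) A).hom := inferInstanceAs (QuasiSeparated (pullback.snd A.hom _))
  have : QuasiCompact (Red.bc (D.map f) B).hom := inferInstanceAs (QuasiCompact (pullback.snd B.hom _))
  have : QuasiSeparated (Red.bc (D.map f) B).hom := inferInstanceAs (QuasiSeparated (pullback.snd B.hom _))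
  have : LocallyOfFiniteType (Red.bc (D.map f) A).hom := inferInstanceAs (LocallyOfFiniteType (pullback.snd A.hom _))
  have : LocallyOfFiniteType (Red.bc (D.map f) B).hom := inferInstanceAs (LocallyOfFiniteType (pullback.snd B.hom _))
  obtain ⟨k₁, g₁, h₁⟩ := exists_map_eq D c hc (t ≫ (Over.pullback (D.map f)).map s) (𝟙 _) (by
    unfold StageOf at ht
    rw [Functor.map_comp, CategoryTheory.Functor.map_id, ht, hσ]
    simp only [Category.assoc, σ]
    erw [Iso.inv_hom_id_app_assoc, IsIso.inv_hom_id_assoc, Iso.hom_inv_id_app]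
    rfl)
  obtain ⟨k₂, g₂, h₂⟩ := exists_map_eq D c hc ((Over.pullback (D.map f)).map s ≫ t) (𝟙 _) (by
    unfold StageOf at ht
    rw [Functor.map_comp, CategoryTheory.Functor.map_id, ht, hσ]
    simp only [Category.assoc, σ]
    erw [Iso.inv_hom_id_app_assoc, IsIso.hom_inv_id_assoc, Iso.hom_inv_id_app]
    rfl)
  obtain ⟨k, a, b, hab⟩ := IsCofiltered.cospan g₁ g₂
  have e₁ := map_eq_mono D a h₁
  have e₂ := map_eq_mono D b h₂
  rw [← hab] at e₂
  rw [(Over.pullback (D.map (a ≫ g₁))).map_comp, (Over.pullback (D.map (a ≫ g₁))).map_id] at e₁ e₂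
  have : IsIso ((Over.pullback (D.map (a ≫ g₁))).map ((Over.pullback (D.map f)).map s)) := ⟨_, e₂, e₁⟩
  exact ⟨k, (a ≫ g₁) ≫ f, (NatIso.isIso_map_iff (cmp (D.map_comp (a ≫ g₁) f).symm) s).1 this⟩

end Helpers

/-- Let S be the limit of a cofiltered system (S_i) of quasi-compact quasi-separated schemes with affine
transition morphisms, j an index, G_j an S_j-group scheme and X_j an S_j-scheme with an action of
G_j, both of finite presentation over S_j. For a base change G, X (with the base-changed action) say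
that X is a G-torsor for the fppf topology when (g, x) ↦ (g · x, x) is an isomorphism G × X → X × X
and the structure morphism of X is covering for the fppf topology: some faithfully flat morphism of
finite presentation Z → (base) factors through X. Then X_j ×_{S_j} S is a torsor under G_j ×_{S_j} S
if and only if there is an index i over j such that X_j ×_{S_j} S_i is a torsor under G_j ×_{S_j}
S_i. (The published statement also treats homogeneous spaces, where (g, x) ↦ (g · x, x) is only
required to be an fppf covering; that case is not stated. The published setting takes all S_i affine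
over a fixed quasi-compact quasi-separated S_0.) -/
theorem result {I : Type u} [SmallCategory I] [IsCofiltered I]
    (D : I ⥤ Scheme.{u}) (c : Limits.Cone D) (hc : Limits.IsLimit c)
    [∀ (i i' : I) (f : i ⟶ i'), IsAffineHom (D.map f)] [∀ i, CompactSpace (D.obj i)] [∀ i, QuasiSeparatedSpace (D.obj i)]
    (j : I) (Gj Xj : Over (D.obj j)) [GrpObj Gj] (act : AlgGrp.Action Gj Xj)
    [LocallyOfFinitePresentation Gj.hom] [QuasiCompact Gj.hom] [QuasiSeparated Gj.hom]
    [LocallyOfFinitePresentation Xj.hom] [QuasiCompact Xj.hom] [QuasiSeparated Xj.hom] :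
    (IsIso (lift (Functor.LaxMonoidal.μ (Over.pullback (c.π.app j)) Gj Xj ≫ (Over.pullback (c.π.app j)).map act.act) (snd (Red.bc (c.π.app j) Gj) (Red.bc (c.π.app j) Xj))) ∧
        ∃ (Z : Scheme.{u}) (v : Z ⟶ c.pt) (w : Z ⟶ (Red.bc (c.π.app j) Xj).left), w ≫ (Red.bc (c.π.app j) Xj).hom = v ∧
          Flat v ∧ Surjective v ∧ LocallyOfFinitePresentation v ∧ QuasiCompact v ∧ QuasiSeparated v) ↔
    ∃ (i : I) (f : i ⟶ j), (IsIso (lift (Functor.LaxMonoidal.μ (Over.pullback (D.map f)) Gj Xj ≫ (Over.pullback (D.map f)).map act.act) (snd (Red.bc (D.map f) Gj) (Red.bc (D.map f) Xj))) ∧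
        ∃ (Z : Scheme.{u}) (v : Z ⟶ (D.obj i)) (w : Z ⟶ (Red.bc (D.map f) Xj).left), w ≫ (Red.bc (D.map f) Xj).hom = v ∧
          Flat v ∧ Surjective v ∧ LocallyOfFinitePresentation v ∧ QuasiCompact v ∧ QuasiSeparated v) := by
  constructor
  · rintro ⟨hi, hcov⟩
    have : QuasiCompact (Gj ⊗ Xj).hom := inferInstanceAs (QuasiCompact (pullback.fst Gj.hom Xj.hom ≫ Gj.hom))
    have : QuasiSeparated (Gj ⊗ Xj).hom := inferInstanceAs (QuasiSeparated (pullback.fst Gj.hom Xj.hom ≫ Gj.hom))
    have : LocallyOfFinitePresentation (Gj ⊗ Xj).hom :=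
      inferInstanceAs (LocallyOfFinitePresentation (pullback.fst Gj.hom Xj.hom ≫ Gj.hom))
    have : QuasiCompact (Xj ⊗ Xj).hom := inferInstanceAs (QuasiCompact (pullback.fst Xj.hom Xj.hom ≫ Xj.hom))
    have : QuasiSeparated (Xj ⊗ Xj).hom := inferInstanceAs (QuasiSeparated (pullback.fst Xj.hom Xj.hom ≫ Xj.hom))
    have : LocallyOfFinitePresentation (Xj ⊗ Xj).hom :=
      inferInstanceAs (LocallyOfFinitePresentation (pullback.fst Xj.hom Xj.hom ≫ Xj.hom))
    obtain ⟨i₁, f₁, h₁⟩ := exists_isIso_stage D c hc (lift act.act (snd Gj Xj)) ((isIso_shear_iff _ act).1 hi)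
    obtain ⟨i₂, f₂, h₂⟩ := exists_cov D c hc (X := Xj) hcov
    obtain ⟨i, a, b, hab⟩ := IsCofiltered.cospan f₁ f₂
    refine ⟨i, a ≫ f₁, (isIso_shear_iff _ act).2 (isIso_map_bc (D.map_comp a f₁).symm _), ?_⟩
    rw [hab]
    exact Cov.bc (D.map_comp b f₂).symm h₂
  · rintro ⟨i, f, hi, hcov⟩
    have := (isIso_shear_iff _ act).1 hi
    exact ⟨(isIso_shear_iff _ act).2 (isIso_map_bc (c.w f) _), Cov.bc (c.w f) hcov⟩

end Groth.Agent.S6092
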