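import Groth.Statements.S6093
import Groth.Agent.Sga3.GModStable.Noetherian
-- import your own Groth.Agent.* helpers here

set_option autoImplicit false
universe u
open CategoryTheory MonObj GrpObj AlgebraicGeometry
open scoped TensorProduct
open SGA3

namespace Groth.Agent.S6093

/-- Let R be a Noetherian ring, G a group scheme over Spec R which is flat, quasi-compact and
quasi-separated over Spec R (not necessarily affine), E an R-module carrying a G-module structure
(for every R-algebra B, a natural action of the B-points of G on B ⊗_R E by B-linear automorphisms),
and M a finitely generated R-submodule of E. Then M is contained in a finitely generated submodule N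
of E which is stable under G: for every R-algebra B and every B-valued point g of G, the action of g
carries the image of B ⊗_R N in B ⊗_R E into itself. (The published statement is over a Noetherian
base scheme S with quasi-coherent and coherent modules; this row is the case S affine, with test
schemes affine.) -/
theorem result (R : Type u) [CommRing R] [IsNoetherianRing R]
    (G : Over (Spec (CommRingCat.of R))) [GrpObj G] [Flat G.hom] [QuasiCompact G.hom] [QuasiSeparated G.hom]
    (E : Type u) [AddCommGroup E] [Module R E] (m : VecGrp.GMod G E) (M : Submodule R E) (hM : M.FG) :
    ∃ N : Submodule R E, M ≤ N ∧ N.FG ∧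
      ∀ (B : Type u) [CommRing B] [Algebra R B] (g : VecGrp.pt R B ⟶ G) (x : E), x ∈ N →
        m.ρ B g ((1 : B) ⊗ₜ[R] x) ∈ LinearMap.range (N.subtype.baseChange B) := by
  exact Groth.Sga3.GModStable.exists_fg_stable_noetherian m M hM

end Groth.Agent.S6093
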