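import Groth.Statements.S6119
import Groth.Agent.AlgGrp1.Basic
import Groth.Agent.S6056

set_option autoImplicit false
open CategoryTheory MonoidalCategory CartesianMonoidalCategory MonObj GrpObj AlgebraicGeometry
universe u
open RedSub

namespace Groth.Agent.S6119

/-- The identification G/H ≅ corad(G)/corad(H): let G be a reductive S-group, d : D ⟶ G its derived
group and f₀ : G ⟶ C its coradical (C commutative, D = Ker f₀, f₀ the fppf quotient G/D, D killed by
every homomorphism to a commutative S-group scheme). Let t : T'' ⟶ C be a subtorus, H = G x_C T''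
its preimage under f₀ (with projections k : H ⟶ G and g : H ⟶ T''), and q : G ⟶ Q the fppf quotient
of G by H. Then q factors uniquely as f₀ followed by q' : C ⟶ Q, and q' exhibits Q as the fppf
quotient of C by T''. -/
theorem result {S : Scheme.{u}} {G D C T'' H Q : Over S} [GrpObj G] [GrpObj D]
    [GrpObj C] [GrpObj T''] [GrpObj H] (hG : Red.IsReductive G) (d : D ⟶ G) [IsMonHom d]
    (f₀ : G ⟶ C) [IsMonHom f₀] (hC : ∀ (X : Over S) (a b : X ⟶ C), a * b = b * a) (hker : AlgGrp.IsKernel d f₀)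
    (hquot : RedSub.IsQuotient d f₀) (hkill : RedSub.KilledByCommutative d)
    (t : T'' ⟶ C) [IsMonHom t] [Mono t] (hT'' : Red.IsTorus T'') (k : H ⟶ G) [IsMonHom k] (g : H ⟶ T'') [IsMonHom g]
    (hsq : IsPullback k g f₀ t) (q : G ⟶ Q) (hq : RedSub.IsQuotient k q) :
    ∃! q' : C ⟶ Q, f₀ ≫ q' = q ∧ RedSub.IsQuotient t q' := by
  have : Mono k := by
    refine ⟨fun {X} a b hab => hsq.hom_ext hab ?_⟩
    rw [← cancel_mono t, Category.assoc, Category.assoc, ← hsq.w, ← Category.assoc, ← Category.assoc, hab]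
  have cC : Groth.AlgGrp1.IsCover f₀ := ⟨hquot.2.1, hquot.1, hquot.2.2.1⟩
  have hd1 : d ≫ f₀ = 1 := Groth.AlgGrp1.IsKernel.comp_eq_one hker
  -- the derived group inside `H`
  have he : d ≫ f₀ = (1 : D ⟶ T'') ≫ t := by rw [hd1, MonObj.one_comp]
  obtain ⟨e, he₁, he₂⟩ := hsq.exists_lift d 1 he
  have hlift : ∀ {X : Over S} (a : X ⟶ H), a ≫ g = 1 → ∃ x : X ⟶ D, a = x ≫ e := by
    intro X a ha
    obtain ⟨x, hx⟩ := Groth.AlgGrp1.IsKernel.exists_lift hker (a ≫ k) (by
      rw [Category.assoc, hsq.w, ← Category.assoc, ha, MonObj.one_comp])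
    refine ⟨x, hsq.hom_ext ?_ ?_⟩
    · rw [Category.assoc, he₁, hx]
    · rw [Category.assoc, he₂, ha, MonObj.comp_one]
  have cg : Groth.AlgGrp1.IsCover g := cC.of_isPullback (hsq.map (Over.forget S))
  have hg : RedSub.IsQuotient e g := by
    refine ⟨cg.surj, cg.flat, cg.lfp, Groth.Agent.S6056.isPullback_of_points _ g ?_ ?_⟩
    · rw [← Category.id_comp ((H ◁ e) ≫ μ[H]), ← lift_fst_snd (X := H) (Y := D), lift_whiskerLeft_assoc,
        ← Hom.mul_def, MonObj.mul_comp, Category.assoc, he₂, MonObj.comp_one, _root_.mul_one]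
    · intro X a b hab
      obtain ⟨x, hx⟩ := hlift (a⁻¹ * b) (by
        rw [MonObj.mul_comp, GrpObj.inv_comp, hab, inv_mul_cancel])
      refine ⟨x, ?_, fun y hy => ?_⟩
      · show lift a x ≫ (H ◁ e) ≫ μ[H] = b
        rw [lift_whiskerLeft_assoc, ← Hom.mul_def, ← hx, mul_inv_cancel_left]
      · change lift a y ≫ (H ◁ e) ≫ μ[H] = b at hy
        rw [lift_whiskerLeft_assoc, ← Hom.mul_def] at hy
        have : Mono d := Groth.AlgGrp1.IsKernel.mono hker
        rw [← cancel_mono d, ← he₁, ← Category.assoc, ← Category.assoc, ← hx, ← hy, inv_mul_cancel_left]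
  -- `q` descends along `f₀`
  obtain ⟨q', hq'⟩ := cC.exists_desc q (fun X a b hab => by
    obtain ⟨x, hx⟩ := (Groth.Agent.S6056.eq_iff hquot a b).1 hab
    exact (Groth.Agent.S6056.eq_iff hq a b).2 ⟨x ≫ e, by rw [hx, Category.assoc, he₁]⟩)
  have hquot' : RedSub.IsQuotient (e ≫ k) f₀ := by rw [he₁]; exact hquot
  have hact : (f₀ ⊗ₘ g) ≫ ((C ◁ t) ≫ μ[C]) = (G ◁ k) ≫ μ[G] ≫ f₀ := by
    rw [← Category.id_comp ((G ◁ k) ≫ μ[G] ≫ f₀), ← Category.id_comp ((f₀ ⊗ₘ g) ≫ (C ◁ t) ≫ μ[C]),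
      ← lift_fst_snd (X := G) (Y := H), lift_whiskerLeft_assoc, lift_map_assoc, lift_whiskerLeft_assoc,
      ← Hom.mul_def, ← Category.assoc (lift _ _) μ[G] f₀, ← Hom.mul_def, MonObj.mul_comp,
      Category.assoc, Category.assoc, hsq.w]
  refine ⟨q', ⟨hq', ?_⟩, fun q'' h => cC.cancel (h.1.trans hq'.symm)⟩
  obtain ⟨h₁, h₂, h₃, h₄⟩ :=
    (Groth.Agent.S6056.third_iso e k f₀ hquot' g hg _ hact).1 Q q hq q' hq'
  exact ⟨h₁, h₂, h₃, h₄⟩

end Groth.Agent.S6119
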