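import Groth.Statements.S6120
-- import your own Groth.Agent.* helpers here

set_option autoImplicit false
open CategoryTheory CategoryTheory.Limits Opposite
universe w v₁ v₂ u₁ u₂
open SGA4

namespace Groth.Agent.S6120

/-- Let `I` be a category with a family of objects `i α` (`α : A`) such that every binary product `i α ⨯
i β` exists in `I` and every object of `I` admits a morphism to some `i α`. Let `F : Iᵒᵖ ⥤ C` be a
functor, and assume that `C` has equalizers and that the products `∏ F (i α)` and `∏ F (i α ⨯ i β)`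
exist in `C`. Then the limit of `F` exists, the canonical map `lim F ⟶ ∏ F (i α)` is a monomorphism,
and a map `t : T ⟶ ∏ F (i α)` factors through `lim F` exactly when its composites with the two maps
`∏ F (i α) ⇉ ∏ F (i α ⨯ i β)` induced by the two projections agree: `lim F` is the equalizer of that
pair. (The published statement assumes that `C` has all limits of the size of `A`; only equalizers
and the two products named are assumed here, which is what the equalizer construction uses.) -/
theorem result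
    {I : Type u₁} [Category.{v₁} I] {C : Type u₂} [Category.{v₂} C] {A : Type w} (i : A → I)
    [∀ α β, HasBinaryProduct (i α) (i β)]
    (hcov : ∀ j : I, ∃ α, Nonempty (j ⟶ i α))
    (F : Iᵒᵖ ⥤ C) [HasEqualizers C]
    [HasProduct (fun α => F.obj (op (i α)))]
    [HasProduct (fun p : A × A => F.obj (op (i p.1 ⨯ i p.2)))] :
    HasLimit F ∧ ∀ [HasLimit F],
      Mono (Pi.lift (fun α => limit.π F (op (i α)))) ∧
      ∀ (T : C) (t : T ⟶ ∏ᶜ (fun α => F.obj (op (i α)))),
        (∃ s : T ⟶ limit F, s ≫ Pi.lift (fun α => limit.π F (op (i α))) = t) ↔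
        t ≫ Pi.lift (fun p : A × A =>
            Pi.π (fun α => F.obj (op (i α))) p.1 ≫ F.map (prod.fst : i p.1 ⨯ i p.2 ⟶ i p.1).op) =
        t ≫ Pi.lift (fun p : A × A =>
            Pi.π (fun α => F.obj (op (i α))) p.2 ≫ F.map (prod.snd : i p.1 ⨯ i p.2 ⟶ i p.2).op) := by
  classical
  let a : (∏ᶜ fun α => F.obj (op (i α))) ⟶ ∏ᶜ fun p : A × A => F.obj (op (i p.1 ⨯ i p.2)) :=
    Pi.lift fun p => Pi.π (fun α => F.obj (op (i α))) p.1 ≫ F.map (prod.fst : i p.1 ⨯ i p.2 ⟶ i p.1).op
  let b : (∏ᶜ fun α => F.obj (op (i α))) ⟶ ∏ᶜ fun p : A × A => F.obj (op (i p.1 ⨯ i p.2)) :=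
    Pi.lift fun p => Pi.π (fun α => F.obj (op (i α))) p.2 ≫ F.map (prod.snd : i p.1 ⨯ i p.2 ⟶ i p.2).op
  have key : ∀ {T : C} (t : T ⟶ ∏ᶜ fun α => F.obj (op (i α))), t ≫ a = t ≫ b →
      ∀ (j : I) (α β : A) (h : j ⟶ i α) (h' : j ⟶ i β),
        t ≫ Pi.π _ α ≫ F.map h.op = t ≫ Pi.π _ β ≫ F.map h'.op := by
    intro T t ht j α β h h'
    have e := (ht =≫ Pi.π _ (α, β)) =≫ F.map (prod.lift h h').op
    simp only [a, b, Category.assoc, Pi.lift_π_assoc, ← F.map_comp, ← op_comp, prod.lift_fst, prod.lift_snd] at e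
    exact e
  choose α hα using hcov
  let cone : ∀ {T : C} (t : T ⟶ ∏ᶜ fun α => F.obj (op (i α))), t ≫ a = t ≫ b → Cone F := fun {T} t ht =>
    { pt := T
      π :=
        { app := fun j => t ≫ Pi.π _ (α j.unop) ≫ F.map (hα j.unop).some.op
          naturality := fun j k g => by
            have e := key t ht k.unop (α k.unop) (α j.unop) (hα k.unop).some (g.unop ≫ (hα j.unop).some)
            refine (Category.id_comp _).trans ?_
            simpa only [Category.assoc, op_comp, F.map_comp, Quiver.Hom.op_unop] using e } }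
  have hfac : ∀ {T : C} (t : T ⟶ ∏ᶜ fun α => F.obj (op (i α))) (ht : t ≫ a = t ≫ b) (β : A),
      (cone t ht).π.app (op (i β)) = t ≫ Pi.π _ β := fun {T} t ht β =>
    (key t ht (i β) (α (i β)) β (hα (i β)).some (𝟙 _)).trans (by rw [op_id, F.map_id, Category.comp_id])
  have hres : ∀ (s : Cone F) (j : Iᵒᵖ), s.π.app (op (i (α j.unop))) ≫ F.map (hα j.unop).some.op = s.π.app j :=
    fun s j => s.w (hα j.unop).some.op
  have hs : ∀ s : Cone F, Pi.lift (fun β => s.π.app (op (i β))) ≫ a = Pi.lift (fun β => s.π.app (op (i β))) ≫ b :=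
    fun s => Limits.Pi.hom_ext _ _ fun p => by
      simp only [a, b, Category.assoc, Pi.lift_π, Pi.lift_π_assoc]
      rw [s.w (prod.fst : i p.1 ⨯ i p.2 ⟶ i p.1).op, s.w (prod.snd : i p.1 ⨯ i p.2 ⟶ i p.2).op]
  let hl : IsLimit (cone (equalizer.ι a b) (equalizer.condition a b)) :=
    { lift := fun s => equalizer.lift _ (hs s)
      fac := fun s j => by
        change equalizer.lift _ (hs s) ≫ equalizer.ι a b ≫ Pi.π _ (α j.unop) ≫ F.map (hα j.unop).some.op = _
        rw [equalizer.lift_ι_assoc, Pi.lift_π_assoc]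
        exact hres s j
      uniq := fun s m hm => equalizer.hom_ext (Limits.Pi.hom_ext _ _ fun β => by
        rw [equalizer.lift_ι, Pi.lift_π, ← hm (op (i β)), hfac _ (equalizer.condition a b), Category.assoc]) }
  refine ⟨HasLimit.mk ⟨_, hl⟩, fun {_} => ⟨⟨fun u v huv => limit.hom_ext fun j => ?_⟩, fun T t => ⟨?_, fun ht => ?_⟩⟩⟩
  · have e := (huv =≫ Pi.π _ (α j.unop)) =≫ F.map (hα j.unop).some.op
    simpa only [Category.assoc, Pi.lift_π_assoc, limit.w] using e
  · rintro ⟨s, rfl⟩
    have := hs (limit.cone F)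
    simp only [limit.cone_π, a, b] at this
    simp only [Category.assoc]
    exact congrArg (s ≫ ·) this
  · refine ⟨limit.lift F (cone t ht), Limits.Pi.hom_ext _ _ fun β => ?_⟩
    rw [Category.assoc, Pi.lift_π, limit.lift_π]
    exact hfac t ht β

end Groth.Agent.S6120
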