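import Groth.Statements.S6121
import Mathlib.CategoryTheory.FiberedCategory.Fibered
import Mathlib.CategoryTheory.FiberedCategory.Fiber

set_option autoImplicit false
open CategoryTheory
universe v₁ v₂ u₁ u₂
open SGA4

namespace Groth.Agent.S6121

/-- For a fibered functor `p : E ⥤ B` (every morphism of `B` has a cartesian lift with prescribed
codomain, and cartesian morphisms compose), `p` reflects isomorphisms if and only if every fibre
category of `p` (objects over `b`, morphisms lying over the identity of `b`) is a groupoid. -/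
theorem result
    {B : Type u₁} [Category.{v₁} B] {E : Type u₂} [Category.{v₂} E] (p : E ⥤ B) [p.IsFibered] :
    p.ReflectsIsomorphisms ↔ ∀ b : B, IsGroupoid (p.Fiber b) := by
  constructor
  · intro _ b
    refine ⟨fun {x y} f => ?_⟩
    have : p.IsHomLift (𝟙 b) f.1 := f.2
    have : IsIso (p.map f.1) := by rw [IsHomLift.fac' p (𝟙 b) f.1]; infer_instance
    have : IsIso f.1 := isIso_of_reflects_iso f.1 p
    exact ⟨⟨inv f.1, inferInstance⟩, Subtype.ext (IsIso.hom_inv_id f.1), Subtype.ext (IsIso.inv_hom_id f.1)⟩
  · intro h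
    refine ⟨fun {x y} f hf => ?_⟩
    obtain ⟨z, φ, hφ⟩ := IsPreFibered.exists_isCartesian p rfl (p.map f)
    have : IsIso φ := Functor.IsStronglyCartesian.isIso_of_base_isIso p (p.map f) φ
    let χ := Functor.IsCartesian.map p (p.map f) φ f
    let g : (Functor.Fiber.mk (p := p) (rfl : p.obj x = p.obj x)) ⟶
        Functor.Fiber.mk (IsHomLift.domain_eq p (p.map f) φ) :=
      ⟨χ, Functor.IsCartesian.map_isHomLift p (p.map f) φ f⟩
    have : IsIso g := (h (p.obj x)).all_isIso g
    have : IsIso χ := inferInstanceAs (IsIso (Functor.Fiber.fiberInclusion.map g))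
    rw [← Functor.IsCartesian.fac p (p.map f) φ f]
    infer_instance

end Groth.Agent.S6121
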