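import Groth.Statements.S6122
import Mathlib.CategoryTheory.FiberedCategory.Fibered
import Mathlib.CategoryTheory.FiberedCategory.Fiber

set_option autoImplicit false
open CategoryTheory
universe v₁ v₂ u₁ u₂
open SGA4

namespace Groth.Agent.S6122

/-- For a fibered functor `p : E ⥤ B` (every morphism of `B` has a cartesian lift with prescribed
codomain, and cartesian morphisms compose), `p` is faithful if and only if every fibre category of
`p` (objects over `b`, morphisms lying over the identity of `b`) has at most one morphism between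
any two objects. -/
theorem result
    {B : Type u₁} [Category.{v₁} B] {E : Type u₂} [Category.{v₂} E] (p : E ⥤ B) [p.IsFibered] :
    p.Faithful ↔ ∀ (b : B) (x y : p.Fiber b), Subsingleton (x ⟶ y) := by
  constructor
  · intro _ b x y
    refine ⟨fun f g => Subtype.ext (p.map_injective ?_)⟩
    have := f.2
    have := g.2
    rw [IsHomLift.fac' p (𝟙 b) f.1, IsHomLift.fac' p (𝟙 b) g.1]
  · intro h
    refine ⟨fun {x y f g} e => ?_⟩
    obtain ⟨z, φ, hφ⟩ := IsPreFibered.exists_isCartesian p rfl (p.map f)
    have : p.IsHomLift (p.map f) g := e ▸ IsHomLift.map p g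
    have hsub : Functor.IsCartesian.map p (p.map f) φ f = Functor.IsCartesian.map p (p.map f) φ g := by
      let χ : ∀ (c : x ⟶ z), p.IsHomLift (𝟙 (p.obj x)) c →
          ((Functor.Fiber.mk (p := p) (rfl : p.obj x = p.obj x)) ⟶
            Functor.Fiber.mk (IsHomLift.domain_eq p (p.map f) φ)) := fun c hc => ⟨c, hc⟩
      exact congrArg Subtype.val ((h _ _ _).elim
        (χ _ (Functor.IsCartesian.map_isHomLift p (p.map f) φ f))
        (χ _ (Functor.IsCartesian.map_isHomLift p (p.map f) φ g)))
    rw [← Functor.IsCartesian.fac p (p.map f) φ f, ← Functor.IsCartesian.fac p (p.map f) φ g]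
    exact congrArg (· ≫ φ) hsub

end Groth.Agent.S6122
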