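import Groth.Statements.S6123
import Mathlib.CategoryTheory.Limits.Shapes.Diagonal
import Mathlib.CategoryTheory.MorphismProperty.Limits
-- import your own Groth.Agent.* helpers here

set_option autoImplicit false
open CategoryTheory CategoryTheory.Limits Opposite
universe w v₁ v₂ u₁ u₂
open SGA4

namespace Groth.Agent.S6123

/-- For a single functor. Let `E` have pullbacks and let `φ : E ⥤ F` preserve them. If every
monomorphism `u` of `E` with `φ u` invertible is invertible, then `φ` reflects all isomorphisms. -/
theorem result
    {E : Type u₁} [Category.{v₁} E] {F : Type u₂} [Category.{v₂} F] (φ : E ⥤ F)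
    [HasPullbacks E] [PreservesLimitsOfShape WalkingCospan φ]
    (h : ∀ ⦃X Y : E⦄ (u : X ⟶ Y), Mono u → IsIso (φ.map u) → IsIso u) :
    φ.ReflectsIsomorphisms := by
  refine ⟨fun {X Y} u _ => ?_⟩
  have hd : IsIso (pullback.diagonal u) := by
    refine h _ inferInstance ⟨φ.map (pullback.fst u u), ?_, ?_⟩
    · rw [← φ.map_comp, pullback.diagonal_fst, φ.map_id]
    · have hsq : IsPullback (φ.map (pullback.fst u u)) (φ.map (pullback.snd u u)) (φ.map u) (φ.map u) :=
        (IsPullback.of_hasPullback u u).map φ
      have e : φ.map (pullback.fst u u) = φ.map (pullback.snd u u) := (cancel_mono (φ.map u)).1 hsq.w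
      refine hsq.hom_ext ?_ ?_
      · rw [Category.assoc, ← φ.map_comp, pullback.diagonal_fst, φ.map_id, Category.comp_id, Category.id_comp]
      · rw [Category.assoc, ← φ.map_comp, pullback.diagonal_snd, φ.map_id, Category.comp_id, Category.id_comp, e]
  have e : pullback.fst u u = pullback.snd u u :=
    (cancel_epi (pullback.diagonal u)).1 (by rw [pullback.diagonal_fst, pullback.diagonal_snd])
  have : Mono u := ⟨fun a b hab => by
    rw [← pullback.lift_fst a b hab, e, pullback.lift_snd]⟩
  exact h u inferInstance inferInstance

end Groth.Agent.S6123
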