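import Groth.Statements.S6124
import Mathlib.CategoryTheory.Subobject.Basic
import Mathlib.CategoryTheory.Limits.Shapes.Diagonal
import Mathlib.CategoryTheory.MorphismProperty.Limits

set_option autoImplicit false
open CategoryTheory CategoryTheory.Limits Opposite
universe w v₁ v₂ u₁ u₂
open SGA4

namespace Groth.Agent.S6124

/-- Let `E` have pullbacks, let `P` be a detecting family of objects of `E` (a morphism `f` is
invertible as soon as every map out of an object of `P` factors uniquely through `f`), and let `φ i
: E ⥤ E' i` be functors preserving pullbacks. Then the `φ i` jointly reflect isomorphisms if and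
only if, for every `X` with `P X` and every subobject `X'` of `X` other than `⊤`, some `φ i` takes
the inclusion `X' ⟶ X` to a morphism that is not invertible. -/
theorem result
    {E : Type u₁} [Category.{v₁} E] [HasPullbacks E] (P : ObjectProperty E) (hP : P.IsDetecting)
    {κ : Type w} {E' : κ → Type u₂} [∀ k, Category.{v₂} (E' k)] (φ : ∀ k, E ⥤ E' k)
    [∀ k, PreservesLimitsOfShape WalkingCospan (φ k)] :
    (∀ ⦃X Y : E⦄ (f : X ⟶ Y), (∀ k, IsIso ((φ k).map f)) → IsIso f) ↔
      ∀ (X : E), P X → ∀ (X' : Subobject X), X' ≠ ⊤ → ∃ k, ¬ IsIso ((φ k).map X'.arrow) := by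
  constructor
  · intro h X _ X' hX'
    by_contra hall
    push_neg at hall
    have := h X'.arrow hall
    exact hX' (Subobject.eq_top_of_isIso_arrow X')
  · intro h
    have key : ∀ ⦃X Y : E⦄ (f : X ⟶ Y), Mono f → (∀ k, IsIso ((φ k).map f)) → IsIso f := by
      intro X Y f _ hf
      refine hP _ fun T hT g => ?_
      let p := pullback.snd f g
      have htop : Subobject.mk p = ⊤ := by
        by_contra hne
        obtain ⟨k, hk⟩ := h T hT _ hne
        refine hk ?_
        have : IsIso ((φ k).map f) := hf k
        have : IsIso ((φ k).map p) :=
          MorphismProperty.of_isPullback (P := MorphismProperty.isomorphisms (E' k))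
            ((IsPullback.of_hasPullback f g).map (φ k)) (hf k)
        rw [← Subobject.underlyingIso_hom_comp_eq_mk p, (φ k).map_comp]
        infer_instance
      have : IsIso p := (Subobject.isIso_iff_mk_eq_top p).2 htop
      refine ⟨inv p ≫ pullback.fst f g, ?_, fun y hy => (cancel_mono f).1 ?_⟩
      · change (inv p ≫ pullback.fst f g) ≫ f = g
        rw [Category.assoc, pullback.condition, IsIso.inv_hom_id_assoc]
      · rw [show y ≫ f = g from hy, Category.assoc, pullback.condition, IsIso.inv_hom_id_assoc]
    intro X Y u hu
    have hd : IsIso (pullback.diagonal u) := by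
      refine key _ inferInstance fun k => ⟨(φ k).map (pullback.fst u u), ?_, ?_⟩
      · rw [← (φ k).map_comp, pullback.diagonal_fst, (φ k).map_id]
      · have hsq : IsPullback ((φ k).map (pullback.fst u u)) ((φ k).map (pullback.snd u u)) ((φ k).map u)
            ((φ k).map u) := (IsPullback.of_hasPullback u u).map (φ k)
        have := hu k
        have e : (φ k).map (pullback.fst u u) = (φ k).map (pullback.snd u u) := (cancel_mono ((φ k).map u)).1 hsq.w
        refine hsq.hom_ext ?_ ?_
        · rw [Category.assoc, ← (φ k).map_comp, pullback.diagonal_fst, (φ k).map_id, Category.comp_id, Category.id_comp]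
        · rw [Category.assoc, ← (φ k).map_comp, pullback.diagonal_snd, (φ k).map_id, Category.comp_id, Category.id_comp, e]
    have e : pullback.fst u u = pullback.snd u u :=
      (cancel_epi (pullback.diagonal u)).1 (by rw [pullback.diagonal_fst, pullback.diagonal_snd])
    have : Mono u := ⟨fun a b hab => by
      rw [← pullback.lift_fst a b hab, e, pullback.lift_snd]⟩
    exact key u inferInstance hu

end Groth.Agent.S6124
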