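import Groth.Statements.S6126
-- import your own Groth.Agent.* helpers here

set_option autoImplicit false
open CategoryTheory CategoryTheory.Limits
universe v₁ u₁
open SGA4

namespace Groth.Agent.S6126

/-- Let `E` be a category with `v₁`-small hom-sets admitting a separating family of objects `G t`
indexed by a `v₁`-small type, in which every object admits a monomorphism into an injective object.
Assume that each coproduct `G t ⨿ G t` exists and that every morphism out of `G t ⨿ G t` factors as
an effective epimorphism followed by a monomorphism. Then `E` admits a coseparating family of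
injective objects indexed by a `v₁`-small type. (The published statement moreover bounds the size of
this family in terms of the hom-sets `Hom (G t', G t ⨿ G t)`; only existence is stated here. The
published statement speaks of generating and cogenerating families; its proof uses and produces
joint faithfulness of maps out of, resp. into, the family, which is the sense taken here.) -/
theorem result
    {E : Type u₁} [Category.{v₁} E] {ι : Type v₁} (G : ι → E)
    (hG : (ObjectProperty.ofObj G).IsSeparating)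
    [EnoughInjectives E] [∀ t, HasBinaryCoproduct (G t) (G t)]
    (hfac : ∀ (t : ι) (X : E) (f : G t ⨿ G t ⟶ X),
      ∃ (Y : E) (e : G t ⨿ G t ⟶ Y) (m : Y ⟶ X), EffectiveEpi e ∧ Mono m ∧ e ≫ m = f) :
    ∃ (κ : Type v₁) (H : κ → E),
      (∀ k, Injective (H k)) ∧ (ObjectProperty.ofObj H).IsCoseparating := by
  classical
  let I : Type v₁ := Σ t : ι, {R : Set (Σ s : ι, (G s ⟶ G t ⨿ G t) × (G s ⟶ G t ⨿ G t)) //
    ∃ (Y : E) (e : G t ⨿ G t ⟶ Y), EffectiveEpi e ∧ R = {q | q.2.1 ≫ e = q.2.2 ≫ e}}
  let Y : I → E := fun p => p.2.2.choose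
  let e : ∀ p : I, G p.1 ⨿ G p.1 ⟶ Y p := fun p => p.2.2.choose_spec.choose
  let pres : ∀ p : I, InjectivePresentation (Y p) := fun p => (EnoughInjectives.presentation (Y p)).some
  refine ⟨I, fun p => (pres p).J, fun p => (pres p).injective, ?_⟩
  intro X W f g hfg
  by_contra hne
  obtain ⟨t, h, hh⟩ : ∃ (t : ι) (h : G t ⟶ X), h ≫ f ≠ h ≫ g := by
    by_contra hcon
    simp only [not_exists, ne_eq, not_not] at hcon
    refine hne (hG f g fun G' hG' h => ?_)
    cases hG'
    exact hcon _ h
  obtain ⟨Z, e', m, he', hm, hem⟩ := hfac t W (coprod.desc (h ≫ f) (h ≫ g))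
  let p : I := ⟨t, {q | q.2.1 ≫ e' = q.2.2 ≫ e'}, Z, e', he', rfl⟩
  obtain ⟨hep, hp⟩ := p.2.2.choose_spec.choose_spec
  have hrel : ∀ (s : ι) (a b : G s ⟶ G t ⨿ G t), a ≫ e' = b ≫ e' ↔ a ≫ e p = b ≫ e p := fun s a b =>
    Iff.of_eq (congrArg (fun R : Set (Σ s : ι, (G s ⟶ G t ⨿ G t) × (G s ⟶ G t ⨿ G t)) => (Sigma.mk (β := fun s : ι => (G s ⟶ G t ⨿ G t) × (G s ⟶ G t ⨿ G t)) s (a, b)) ∈ R) hp)
  have hdesc : ∀ {A B : E} (u : G t ⨿ G t ⟶ A) (v : G t ⨿ G t ⟶ B), EffectiveEpi u →
      (∀ (s : ι) (a b : G s ⟶ G t ⨿ G t), a ≫ u = b ≫ u → a ≫ v = b ≫ v) → ∃ k, u ≫ k = v := by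
    intro A B u v hu huv
    refine ⟨EffectiveEpi.desc u v (fun {V} g₁ g₂ hg => hG _ _ fun G' hG' k => ?_), EffectiveEpi.fac u v _⟩
    cases hG' with
    | mk s =>
      rw [← Category.assoc, ← Category.assoc]
      exact huv s _ _ (by rw [Category.assoc, Category.assoc, hg])
  obtain ⟨j, hj⟩ := hdesc e' (e p) he' fun s a b => (hrel s a b).1
  obtain ⟨k, hk⟩ := hdesc (e p) e' hep fun s a b => (hrel s a b).2
  have : Mono m := hm
  have : Injective (pres p).J := (pres p).injective
  let d : W ⟶ (pres p).J := Injective.factorThru (j ≫ (pres p).f) m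
  have hfd : f ≫ d = g ≫ d := hfg _ ⟨p⟩ d
  have hinl : coprod.inl ≫ e p ≫ (pres p).f = h ≫ f ≫ d := by
    rw [← hj, Category.assoc, ← Injective.comp_factorThru (j ≫ (pres p).f) m, reassoc_of% hem, coprod.inl_desc_assoc,
      Category.assoc]
  have hinr : coprod.inr ≫ e p ≫ (pres p).f = h ≫ g ≫ d := by
    rw [← hj, Category.assoc, ← Injective.comp_factorThru (j ≫ (pres p).f) m, reassoc_of% hem, coprod.inr_desc_assoc,
      Category.assoc]
  have : Mono (pres p).f := (pres p).mono
  have heq : coprod.inl ≫ e p = coprod.inr ≫ e p :=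
    (cancel_mono (pres p).f).1 (by rw [Category.assoc, Category.assoc, hinl, hinr, hfd])
  apply hh
  rw [← coprod.inl_desc (h ≫ f) (h ≫ g), ← hem, ← hk, Category.assoc, reassoc_of% heq, reassoc_of% hk, hem, coprod.inr_desc]

end Groth.Agent.S6126
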