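import Groth.Statements.S6127
import Mathlib.CategoryTheory.Sites.Canonical
import Mathlib.CategoryTheory.Subfunctor.Image
import Mathlib.CategoryTheory.Limits.Types.Pullbacks
import Mathlib.CategoryTheory.Adjunction.Reflective
import Mathlib.CategoryTheory.Limits.Constructions.EpiMono
import Mathlib.CategoryTheory.Limits.Shapes.Pullback.IsPullback.Basic

set_option autoImplicit false
open CategoryTheory CategoryTheory.Limits Opposite
universe u
open SGA4

namespace Groth.Agent.S6127

lemma functor_isPullback {C : Type u} [SmallCategory C] {X Y : C} (S : Sieve X) (f : Y ⟶ X) :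
    ∃ t : (S.pullback f).functor ⟶ S.functor,
      IsPullback t (S.pullback f).functorInclusion S.functorInclusion (yoneda.map f) := by
  let t : (S.pullback f).functor ⟶ S.functor :=
    { app := fun U => TypeCat.ofHom fun g => ⟨g.1 ≫ f, g.2⟩
      naturality := fun U V k => by
        ext g
        apply Subtype.ext
        exact Category.assoc _ _ _ }
  refine ⟨t, IsPullback.of_forall_isPullback_app fun U => ?_⟩
  rw [Types.isPullback_iff]
  exact ⟨rfl, fun g g' h => Subtype.ext h.2, fun a b h => ⟨⟨b, by
    change S (b ≫ f)
    change a.1 = b ≫ f at h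
    exact h ▸ a.2⟩, Subtype.ext h.symm, rfl⟩⟩

lemma isSheafFor_of_isIso {C : Type u} [SmallCategory C] (P : ObjectProperty (Cᵒᵖ ⥤ Type u))
    [Reflective P.ι] {X : C} (S : Sieve X) (h : IsIso ((reflector P.ι).map S.functorInclusion))
    {Z : Cᵒᵖ ⥤ Type u} (hZ : P Z) : Presieve.IsSheafFor Z (S : Presieve X) := by
  rw [Presieve.isSheafFor_iff_yonedaSheafCondition]
  intro φ
  let adj := reflectorAdjunction P.ι
  let e := fun W => adj.homEquiv W (⟨Z, hZ⟩ : P.FullSubcategory)
  refine ⟨e _ (inv ((reflector P.ι).map S.functorInclusion) ≫ (e _).symm φ), ?_, fun g hg => ?_⟩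
  · change _ ≫ e _ _ = _
    rw [← Adjunction.homEquiv_naturality_left, IsIso.hom_inv_id_assoc, Equiv.apply_symm_apply]
  · refine (Equiv.symm_apply_eq _).1 ((cancel_epi ((reflector P.ι).map S.functorInclusion)).1 ?_)
    rw [← Adjunction.homEquiv_naturality_left_symm, IsIso.hom_inv_id_assoc]
    exact congrArg (e _).symm hg

lemma isIso_of_isSheafFor {C : Type u} [SmallCategory C] (P : ObjectProperty (Cᵒᵖ ⥤ Type u))
    [Reflective P.ι] {X : C} (S : Sieve X)
    (h : ∀ Z, P Z → Presieve.IsSheafFor Z (S : Presieve X)) : IsIso ((reflector P.ι).map S.functorInclusion) := by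
  let adj := reflectorAdjunction P.ι
  have h' := fun (W : P.FullSubcategory) => Presieve.isSheafFor_iff_yonedaSheafCondition.1 (h W.obj W.property)
  obtain ⟨g, hg, -⟩ := h' _ (adj.unit.app S.functor)
  let k := (adj.homEquiv (yoneda.obj X) _).symm g
  refine ⟨k, ?_, ?_⟩
  · refine (adj.homEquiv _ _).injective ?_
    rw [Adjunction.homEquiv_naturality_left, Equiv.apply_symm_apply, Adjunction.homEquiv_id]
    exact hg
  · refine (adj.homEquiv _ _).injective ((h' _ (S.functorInclusion ≫ adj.homEquiv _ _ (𝟙 _))).unique ?_ rfl)
    rw [Adjunction.homEquiv_naturality_right, Equiv.apply_symm_apply, ← Category.assoc, hg, Adjunction.homEquiv_id]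
    exact (adj.unit_naturality S.functorInclusion)


/-- Let `C` be a small category and `P` a strictly full subcategory of the category of presheaves of
sets on `C` whose inclusion admits a left adjoint (a reflector) preserving finite limits. Call a
sieve `S` on `X` covering when the reflector inverts the inclusion of `S`, viewed as a subpresheaf,
into the presheaf represented by `X`. Then these covering sieves form a Grothendieck topology `J` on
`C`, and a presheaf lies in `P` if and only if it is a sheaf for `J`. (This is the half of the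
correspondence between topologies on `C` and such reflective subcategories that produces the
topology; the topology is pinned down by its covering sieves.) -/
theorem result
    {C : Type u} [SmallCategory C] (P : ObjectProperty (Cᵒᵖ ⥤ Type u))
    [P.IsClosedUnderIsomorphisms] [Reflective P.ι] [PreservesFiniteLimits (reflector P.ι)] :
    ∃ J : GrothendieckTopology C,
      (∀ (X : C) (S : Sieve X), S ∈ J X ↔ IsIso ((reflector P.ι).map S.functorInclusion)) ∧
      ∀ F : Cᵒᵖ ⥤ Type u, P F ↔ Presieve.IsSheaf J F := by
  let L := reflector P.ι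
  let adj := reflectorAdjunction P.ι
  let J : GrothendieckTopology C := Sheaf.finestTopology {Z | P Z}
  have hJ : ∀ (X : C) (S : Sieve X), S ∈ J X ↔ IsIso (L.map S.functorInclusion) := by
    intro X S
    constructor
    · intro hS
      exact isIso_of_isSheafFor P S fun Z hZ => Sheaf.sheaf_for_finestTopology {Z | P Z} hZ S hS
    · intro hS
      refine Sheaf.mem_finestTopology_of_forall_isSheafFor fun Z hZ Y f => ?_
      obtain ⟨t, sq⟩ := functor_isPullback S f
      exact isSheafFor_of_isIso P _ (sq.map L).isIso_snd_of_isIso hZ
  refine ⟨J, hJ, fun F => ⟨fun hF => Sheaf.sheaf_for_finestTopology {Z | P Z} hF, fun hF => ?_⟩⟩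
  have hLF : Presieve.IsSheaf J (L.obj F).obj := Sheaf.sheaf_for_finestTopology {Z | P Z} (L.obj F).property
  let η : F ⟶ (L.obj F).obj := adj.unit.app F
  have hLη : IsIso (L.map η) := by
    have : IsIso (L.map η ≫ adj.counit.app (L.obj F)) := by
      rw [adj.left_triangle_components]
      exact ⟨𝟙 _, Category.id_comp _, Category.id_comp _⟩
    exact IsIso.of_isIso_comp_right _ (adj.counit.app (L.obj F))
  have hinj : ∀ (X : Cᵒᵖ) (a b : F.obj X), η.app X a = η.app X b → a = b := by
    intro X a b hab
    let α : yoneda.obj X.unop ⟶ F := yonedaEquiv.symm a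
    let β : yoneda.obj X.unop ⟶ F := yonedaEquiv.symm b
    let S : Sieve X.unop :=
      { arrows := fun Y g => F.map g.op a = F.map g.op b
        downward_closed := fun {Y Z g} h k => by rw [op_comp, Functor.map_comp_apply, Functor.map_comp_apply, h] }
    refine ((hF S ((hJ _ S).2 ?_)).isSeparatedFor.ext fun Y g hg => hg)
    have w : S.functorInclusion ≫ α = S.functorInclusion ≫ β := by
      ext U g
      exact g.2
    have hlim : IsLimit (Fork.ofι S.functorInclusion w) := Fork.IsLimit.mk _
      (fun s =>
        { app := fun U => TypeCat.ofHom fun z => ⟨s.ι.app U z, congrArg (fun t => t.app U z) s.condition⟩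
          naturality := fun U V k => by
            ext z
            apply Subtype.ext
            exact NatTrans.naturality_apply s.ι k z })
      (fun s => rfl)
      (fun s m hm => by
        ext U z
        apply Subtype.ext
        exact congrArg (fun t => t.app U z) hm)
    have hLab : L.map α = L.map β := by
      rw [← cancel_mono (L.map η), ← L.map_comp, ← L.map_comp]
      exact congrArg L.map (yonedaEquiv.injective (by
        rw [yonedaEquiv_comp, yonedaEquiv_comp, Equiv.apply_symm_apply, Equiv.apply_symm_apply]
        exact hab))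
    exact isIso_limit_cone_parallelPair_of_eq hLab (isLimitForkMapOfIsLimit L w hlim)
  have hsurj : ∀ (X : Cᵒᵖ) (z : (L.obj F).obj.obj X), ∃ x, η.app X x = z := by
    intro X z
    let R := Subfunctor.range η
    have : IsIso (L.map R.ι) := by
      have : IsIso (L.map (Subfunctor.toRange η) ≫ L.map R.ι) := by
        rw [← L.map_comp, Subfunctor.toRange_ι]
        exact hLη
      have : IsSplitEpi (L.map R.ι) := ⟨⟨⟨inv (L.map (Subfunctor.toRange η) ≫ L.map R.ι) ≫ L.map (Subfunctor.toRange η),
        by rw [Category.assoc, IsIso.inv_hom_id]⟩⟩⟩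
      exact isIso_of_mono_of_isSplitEpi _
    let S : Sieve X.unop :=
      { arrows := fun Y g => (L.obj F).obj.map g.op z ∈ R.obj (op Y)
        downward_closed := fun {Y Z g} h k => by
          change _ ∈ R.obj _
          rw [op_comp, Functor.map_comp_apply]
          exact R.map k.op h }
    let t : S.functor ⟶ R.toFunctor :=
      { app := fun U => TypeCat.ofHom fun g => ⟨(L.obj F).obj.map g.1.op z, g.2⟩
        naturality := fun U V k => by
          ext g
          apply Subtype.ext
          exact Functor.map_comp_apply (L.obj F).obj g.1.op k z }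
    have sq : IsPullback t S.functorInclusion R.ι (yonedaEquiv.symm z) := by
      refine IsPullback.of_forall_isPullback_app fun U => ?_
      rw [Types.isPullback_iff]
      refine ⟨?_, fun g g' h => Subtype.ext h.2, fun a b h => ?_⟩
      · ext g
        rfl
      · refine ⟨⟨b, ?_⟩, Subtype.ext ?_, rfl⟩
        · change (L.obj F).obj.map b.op z ∈ R.obj U
          change a.1 = (L.obj F).obj.map b.op z at h
          exact h ▸ a.2
        · exact h.symm
    have hS : S ∈ J X.unop := (hJ _ S).2 (sq.map L).isIso_snd_of_isIso
    choose x hx using fun (Y : C) (g : Y ⟶ X.unop) (h : S g) => (h : (L.obj F).obj.map g.op z ∈ Set.range (η.app (op Y)))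
    have hxc : Presieve.FamilyOfElements.Compatible (P := F) (R := (S : Presieve X.unop)) (fun Y g h => x Y g h) := by
      intro Y₁ Y₂ Z g₁ g₂ f₁ f₂ h₁ h₂ e
      refine hinj _ _ _ ?_
      rw [NatTrans.naturality_apply η g₁.op, NatTrans.naturality_apply η g₂.op, hx, hx]
      rw [← Functor.map_comp_apply, ← Functor.map_comp_apply, ← op_comp, ← op_comp, e]
    refine ⟨(hF S hS).amalgamate _ hxc, (hLF S hS).isSeparatedFor.ext fun Y g hg => ?_⟩
    refine (NatTrans.naturality_apply η g.op _).symm.trans ?_
    exact (congrArg (η.app _) ((hF S hS).valid_glue hxc g hg)).trans (hx Y g hg)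
  have : ∀ X, IsIso (η.app X) := fun X => (isIso_iff_bijective _).2 ⟨hinj X, hsurj X⟩
  have : IsIso η := NatIso.isIso_of_isIso_app η
  exact P.prop_of_iso (asIso η).symm (L.obj F).property

end Groth.Agent.S6127
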