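import Groth.Statements.S6128
import Mathlib.CategoryTheory.Sites.LocallyBijective
import Mathlib.CategoryTheory.Functor.KanExtension.Adjunction
import Mathlib.CategoryTheory.Sites.Types
import Mathlib.CategoryTheory.Sites.LeftExact

set_option autoImplicit false
open CategoryTheory
universe u
open SGA4

namespace Groth.Agent.S6128

/-- Let `u : C ⥤ C'` be a functor between small sites. If the right Kan extension along `u` of the
underlying presheaf of every sheaf of sets on `C` is a sheaf on `C'`, then `u` is cocontinuous: for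
every object `Y` of `C` and every covering sieve `R` of `u Y`, the sieve of morphisms `g : Z ⟶ Y`
with `u g ∈ R` covers `Y`. -/
theorem result
    {C : Type u} [SmallCategory C] {C' : Type u} [SmallCategory C']
    (J : GrothendieckTopology C) (J' : GrothendieckTopology C') (u : C ⥤ C')
    (h : ∀ G : Sheaf J (Type u), Presheaf.IsSheaf J' ((u.op.ran).obj G.obj)) :
    u.IsCocontinuous J J' := by
  refine ⟨fun {U} {S} hS => ?_⟩
  let j : u.op ⋙ S.functor ⟶ u.op ⋙ yoneda.obj (u.obj U) := Functor.whiskerLeft u.op S.functorInclusion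
  have hW : J.W j := by
    intro Z hZ
    obtain ⟨G, rfl⟩ : ∃ G : Sheaf J (Type u), G.obj = Z := ⟨⟨Z, hZ⟩, rfl⟩
    rw [Function.bijective_iff_existsUnique]
    intro k
    let a := u.op.ranAdjunction (Type u)
    have hsh : Presieve.IsSheafFor ((u.op.ran).obj G.obj) (S : Presieve (u.obj U)) :=
      ((isSheaf_iff_isSheaf_of_type _ _).1 (h G)) S hS
    obtain ⟨t, ht, htu⟩ := Presieve.isSheafFor_iff_yonedaSheafCondition.1 hsh (a.homEquiv _ _ k)
    refine ⟨(a.homEquiv _ _).symm t, ?_, fun t' ht' => ?_⟩
    · change Functor.whiskerLeft u.op S.functorInclusion ≫ _ = _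
      apply (a.homEquiv _ _).injective
      exact (a.homEquiv_naturality_left S.functorInclusion _).trans (by rw [Equiv.apply_symm_apply]; exact ht)
    · apply (a.homEquiv _ _).injective
      rw [Equiv.apply_symm_apply]
      refine htu _ ?_
      exact (a.homEquiv_naturality_left S.functorInclusion t').symm.trans (congrArg (a.homEquiv _ _) ht')
  have := (J.W_iff_isLocallyBijective j).1 hW
  refine J.superset_covering ?_ (this.2.imageSieve_mem (U := U) (𝟙 (u.obj U)))
  rintro V g ⟨⟨t, ht⟩, e⟩
  have e' : t = u.map g ≫ 𝟙 (u.obj U) := e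
  rw [Category.comp_id] at e'
  show S (u.map g)
  rw [← e']
  exact ht

end Groth.Agent.S6128
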