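import Groth.Statements.S6129
import Groth.Agent.SitesTopoi.Presheaf.LanYoneda
import Mathlib.CategoryTheory.Subfunctor.Basic
import Mathlib.CategoryTheory.Limits.Types.Pullbacks
import Mathlib.CategoryTheory.Limits.Shapes.Pullback.IsPullback.Basic
import Mathlib.CategoryTheory.Limits.FunctorCategory.EpiMono

set_option autoImplicit false
open CategoryTheory CategoryTheory.Limits
universe u
open SGA4

namespace Groth.Agent.S6129

open CategoryTheory.Limits Opposite in
theorem lan_rep {C : Type u} [SmallCategory C] {C' : Type u} [SmallCategory C'] (u' : C ⥤ C')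
    (H : Cᵒᵖ ⥤ Type u) {X' : C'ᵒᵖ} (z : ((u'.op.lan : (Cᵒᵖ ⥤ Type u) ⥤ _).obj H).obj X') :
    ∃ (Y : C) (g : X'.unop ⟶ u'.obj Y) (h : H.obj (op Y)),
      z = ((u'.op.lan : (Cᵒᵖ ⥤ Type u) ⥤ _).obj H).map g.op (((u'.op.lanAdjunction (Type u)).unit.app H).app (op Y) h) := by
  let η := (u'.op.lanAdjunction (Type u)).unit.app H
  let S : Subfunctor ((u'.op.lan : (Cᵒᵖ ⥤ Type u) ⥤ _).obj H) :=
    { obj := fun X' z => ∃ (Y : C) (g : X'.unop ⟶ u'.obj Y) (h : H.obj (op Y)),
        z = ((u'.op.lan : (Cᵒᵖ ⥤ Type u) ⥤ _).obj H).map g.op (η.app (op Y) h)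
      map := fun {U V} i z ⟨Y, g, h, e⟩ => ⟨Y, i.unop ≫ g, h, by
        rw [e, op_comp, Quiver.Hom.op_unop, ← Functor.map_comp_apply]⟩ }
  let τ : H ⟶ u'.op ⋙ S.toFunctor :=
    { app := fun Y => TypeCat.ofHom fun h => ⟨η.app Y h, Y.unop, 𝟙 _, h, by
        erw [op_id, Functor.map_id_apply]⟩
      naturality := fun {Y Y'} f => by
        ext h
        apply Subtype.ext
        exact NatTrans.naturality_apply η f h }
  have e : ((u'.op.lanAdjunction (Type u)).homEquiv _ _).symm τ ≫ S.ι = 𝟙 _ := by
    refine ((u'.op.lanAdjunction (Type u)).homEquiv _ _).injective ?_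
    rw [Adjunction.homEquiv_naturality_right, Equiv.apply_symm_apply, Adjunction.homEquiv_id]
    rfl
  have := ((((u'.op.lanAdjunction (Type u)).homEquiv _ _).symm τ).app X' z).2
  obtain ⟨Y, g, h, hh⟩ := this
  exact ⟨Y, g, h, (congrArg (fun t => t.app X' z) e).symm.trans hh⟩

open CategoryTheory.Limits Opposite in
theorem lan_slice {C : Type u} [SmallCategory C] {C' : Type u} [SmallCategory C'] (u' : C ⥤ C') [u'.Faithful]
    (hu : ∀ X : C, (Over.post (X := X) u').Full) (H : Cᵒᵖ ⥤ Type u) (X : C) :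
    ∃ ε : ((u'.op.lan : (Cᵒᵖ ⥤ Type u) ⥤ _).obj H).obj (op (u'.obj X)) → Option (H.obj (op X)),
      ∀ (Y : C) (g : u'.obj X ⟶ u'.obj Y) (h : H.obj (op Y)),
        (∀ a : X ⟶ Y, u'.map a = g → ε (((u'.op.lan : (Cᵒᵖ ⥤ Type u) ⥤ _).obj H).map g.op
          (((u'.op.lanAdjunction (Type u)).unit.app H).app (op Y) h)) = some (H.map a.op h)) ∧
        ((¬ ∃ a : X ⟶ Y, u'.map a = g) → ε (((u'.op.lan : (Cᵒᵖ ⥤ Type u) ⥤ _).obj H).map g.op
          (((u'.op.lanAdjunction (Type u)).unit.app H).app (op Y) h)) = none) := by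
  classical
  let T : C'ᵒᵖ ⥤ Type u :=
    { obj := fun X' => (u'.obj X ⟶ X'.unop) → Option (H.obj (op X))
      map := fun i => TypeCat.ofHom fun φ g => φ (g ≫ i.unop)
      map_id := fun X' => by ext φ g; simp
      map_comp := fun f g => by ext φ g; simp }
  let val : ∀ (Y : C) (g : u'.obj X ⟶ u'.obj Y), H.obj (op Y) → Option (H.obj (op X)) := fun Y g h =>
    if ha : ∃ a : X ⟶ Y, u'.map a = g then some (H.map ha.choose.op h) else none
  let τ : H ⟶ u'.op ⋙ T :=
    { app := fun Y => TypeCat.ofHom fun h g => val Y.unop g h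
      naturality := fun {Y Y'} f => by
        ext h
        funext g
        change val Y'.unop g (H.map f h) = val Y.unop (g ≫ u'.map f.unop) h
        by_cases ha : ∃ a : X ⟶ Y'.unop, u'.map a = g
        · have hb : ∃ b : X ⟶ Y.unop, u'.map b = g ≫ u'.map f.unop :=
            ⟨ha.choose ≫ f.unop, by rw [u'.map_comp, ha.choose_spec]⟩
          have e : hb.choose = ha.choose ≫ f.unop := u'.map_injective (by
            rw [hb.choose_spec, u'.map_comp, ha.choose_spec])
          simp only [val, dif_pos ha, dif_pos hb, e, op_comp, Quiver.Hom.op_unop, Functor.map_comp_apply]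
        · have hb : ¬ ∃ b : X ⟶ Y.unop, u'.map b = g ≫ u'.map f.unop := by
            rintro ⟨b, hb⟩
            have := hu Y.unop
            obtain ⟨k, hk⟩ := (Over.post (X := Y.unop) u').map_surjective
              (X := Over.mk b) (Y := Over.mk f.unop) (Over.homMk g (hb.symm))
            exact ha ⟨k.left, congrArg (fun q : (Over.post (X := Y.unop) u').obj (Over.mk b) ⟶
              (Over.post (X := Y.unop) u').obj (Over.mk f.unop) => q.left) hk⟩
          simp only [val, dif_neg ha, dif_neg hb] }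
  let σ := ((u'.op.lanAdjunction (Type u)).homEquiv _ _).symm τ
  refine ⟨fun z => σ.app (op (u'.obj X)) z (𝟙 _), fun Y g h => ?_⟩
  have key : (σ.app (op (u'.obj X)) (((u'.op.lan : (Cᵒᵖ ⥤ Type u) ⥤ _).obj H).map g.op
      (((u'.op.lanAdjunction (Type u)).unit.app H).app (op Y) h))) (𝟙 _) = val Y g h := by
    have h₁ := congrArg (fun t => t.app (op Y) h) (((u'.op.lanAdjunction (Type u)).homEquiv _ _).apply_symm_apply τ)
    rw [Adjunction.homEquiv_unit] at h₁
    refine (congrFun (NatTrans.naturality_apply σ g.op _) (𝟙 _)).trans ?_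
    change (σ.app (op (u'.obj Y)) _) (𝟙 _ ≫ g) = _
    rw [Category.id_comp]
    exact congrFun h₁ g
  refine ⟨fun a ha => key.trans ?_, fun hna => key.trans (dif_neg hna)⟩
  have hex : ∃ b : X ⟶ Y, u'.map b = g := ⟨a, ha⟩
  simp only [val, dif_pos hex, u'.map_injective (hex.choose_spec.trans ha.symm)]


/-- Let `u : C ⥤ C'` be a faithful functor between small categories such that for every object `X` of
`C` the induced functor on over-categories `C/X ⥤ C'/u X` is full and faithful. Then the left Kan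
extension functor `u_!` on presheaves of sets is faithful, the unit `H ⟶ u^* u_! H` of the
adjunction `u_! ⊣ u^*` is a monomorphism for every presheaf `H`, and for every morphism of
presheaves `α : H ⟶ K` the naturality square of the unit at `α` (with sides `α` and `u^* u_! α`) is
cartesian. (The published statement assumes only the condition on the slice functors, and its proof
uses that `u` is faithful; the slice condition alone does not suffice: for a nontrivial group viewed
as a one-object category mapping to the point every slice functor is an equivalence, while `u_!` is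
the orbit-set functor on `G`-sets, which is not faithful, and the unit `G ⟶ G/G` is not a
monomorphism. So `u` is taken faithful here.) -/
theorem result
    {C : Type u} [SmallCategory C] {C' : Type u} [SmallCategory C'] (u : C ⥤ C') [u.Faithful]
    (hu : ∀ X : C, (Over.post (X := X) u).Full ∧ (Over.post (X := X) u).Faithful) :
    (u.op.lan : (Cᵒᵖ ⥤ Type u) ⥤ (C'ᵒᵖ ⥤ Type u)).Faithful ∧
    (∀ H : Cᵒᵖ ⥤ Type u, Mono ((u.op.lanAdjunction (Type u)).unit.app H)) ∧
    ∀ (H K : Cᵒᵖ ⥤ Type u) (α : H ⟶ K),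
      IsPullback ((u.op.lanAdjunction (Type u)).unit.app H) α
        (((Functor.whiskeringLeft Cᵒᵖ C'ᵒᵖ (Type u)).obj u.op).map (u.op.lan.map α))
        ((u.op.lanAdjunction (Type u)).unit.app K) := by
  have hinj : ∀ (H : Cᵒᵖ ⥤ Type u) (X : Cᵒᵖ) (x x' : H.obj X),
      ((u.op.lanAdjunction (Type u)).unit.app H).app X x = ((u.op.lanAdjunction (Type u)).unit.app H).app X x' → x = x' := by
    intro H X x x' e
    obtain ⟨ε, hε⟩ := lan_slice u (fun X => (hu X).1) H X.unop
    have h₁ := (hε X.unop (𝟙 _) x).1 (𝟙 _) (u.map_id _)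
    have h₂ := (hε X.unop (𝟙 _) x').1 (𝟙 _) (u.map_id _)
    simp only [op_id] at h₁ h₂
    erw [Functor.map_id_apply] at h₁ h₂
    erw [Functor.map_id_apply] at h₁ h₂
    exact Option.some_injective _ ((h₁.symm.trans (congrArg ε e)).trans h₂)
  have hmono : ∀ H : Cᵒᵖ ⥤ Type u, Mono ((u.op.lanAdjunction (Type u)).unit.app H) := fun H => by
    have : ∀ X, Mono (((u.op.lanAdjunction (Type u)).unit.app H).app X) := fun X =>
      (mono_iff_injective _).2 (hinj H X)
    exact NatTrans.mono_of_mono_app _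
  refine ⟨(u.op.lanAdjunction (Type u)).faithful_L_of_mono_unit_app, hmono, fun H K α => ?_⟩
  refine IsPullback.of_forall_isPullback_app fun X => ?_
  rw [Types.isPullback_iff]
  refine ⟨congrArg (fun t => t.app X) ((u.op.lanAdjunction (Type u)).unit.naturality α).symm,
    fun x x' ⟨e, _⟩ => hinj H X x x' e, fun z y e => ?_⟩
  obtain ⟨Y, g, h, rfl⟩ := lan_rep u H z
  obtain ⟨ε, hε⟩ := lan_slice u (fun X => (hu X).1) K X.unop
  have h₁ := (hε X.unop (𝟙 _) y).1 (𝟙 _) (u.map_id _)
  simp only [op_id] at h₁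
  erw [Functor.map_id_apply] at h₁
  erw [Functor.map_id_apply] at h₁
  change (u.op.lan.map α).app _ _ = _ at e
  have e' := (NatTrans.naturality_apply (u.op.lan.map α) g.op _).symm.trans e
  erw [← congrArg (fun t => t.app (Opposite.op Y) h) ((u.op.lanAdjunction (Type u)).unit.naturality α)] at e'
  by_cases ha : ∃ a : X.unop ⟶ Y, u.map a = g
  · obtain ⟨a, ha⟩ := ha
    refine ⟨H.map a.op h, ?_, ?_⟩
    · refine (NatTrans.naturality_apply ((u.op.lanAdjunction (Type u)).unit.app H) a.op h).trans ?_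
      subst ha
      rfl
    · have := ((hε Y g (α.app _ h)).1 a ha).symm.trans ((congrArg ε e').trans h₁)
      exact (NatTrans.naturality_apply α a.op h).trans (Option.some_injective _ this)
  · exact absurd (((hε Y g (α.app _ h)).2 ha).symm.trans ((congrArg ε e').trans h₁)) (by simp)

end Groth.Agent.S6129
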