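import Groth.Statements.S6136
import Groth.Agent.SitesTopoi.Presheaf.LanYoneda

set_option autoImplicit false
open CategoryTheory CategoryTheory.Limits
universe u
open SGA4

namespace Groth.Agent.S6136

/-- Fully faithful case. Let `u : C ⥤ C'` be a functor between small categories and `u_!` the left Kan
extension functor on presheaves of sets, whose restriction to ind-representable presheaves is the
induced functor `Ind C ⥤ Ind C'`. Then `u` is full and faithful if and only if `u_!` is bijective on
morphisms between ind-representable presheaves. -/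
theorem result
    {C : Type u} [SmallCategory C] {C' : Type u} [SmallCategory C'] (u : C ⥤ C') :
    (u.Full ∧ u.Faithful) ↔ ∀ (F G : Cᵒᵖ ⥤ Type u), IsIndObject F → IsIndObject G →
      Function.Bijective (fun φ : F ⟶ G => (u.op.lan : (Cᵒᵖ ⥤ Type u) ⥤ (C'ᵒᵖ ⥤ Type u)).map φ) := by
  constructor
  · rintro ⟨_, _⟩ F G _ _
    exact ((u.op.lanAdjunction (Type u)).fullyFaithfulLOfIsIsoUnit.map_bijective F G)
  · intro h
    refine ⟨Groth.SitesTopoi.Presheaf.full_of_lan_map_surjective u fun X Y =>
      (h _ _ (isIndObject_yoneda X) (isIndObject_yoneda Y)).2, ⟨?_⟩⟩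
    intro X Y f g hfg
    exact yoneda.map_injective ((h _ _ (isIndObject_yoneda X) (isIndObject_yoneda Y)).1
      (Groth.SitesTopoi.Presheaf.lan_map_yoneda_eq_of_map_eq u hfg))

end Groth.Agent.S6136
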