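import Groth.Statements.S6137
import Mathlib.CategoryTheory.Limits.Indization.IndObject
import Mathlib.CategoryTheory.Limits.Types.Filtered
import Mathlib.CategoryTheory.Limits.Preserves.Shapes.Equalizers
import Mathlib.CategoryTheory.Limits.Types.Limits
import Mathlib.CategoryTheory.Limits.Yoneda
import Mathlib.CategoryTheory.Limits.Types.Equalizers

set_option autoImplicit false
open CategoryTheory CategoryTheory.Limits
universe v u
open SGA4

namespace Groth.Agent.S6137

/-- Let `C` be a category with `v`-small hom-sets admitting all `v`-small limits, and `F : C ⥤ Type v` a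
functor. Then `F` is corepresentable if and only if it is pro-representable (viewed as a presheaf on
`Cᵒᵖ` it is an ind-object, i.e. a small filtered colimit of corepresentable functors) and preserves
all `v`-small limits. -/
theorem result
    {C : Type u} [Category.{v} C] [HasLimitsOfSize.{v, v} C] (F : C ⥤ Type v) :
    F.IsCorepresentable ↔
      IsIndObject (unopUnop C ⋙ F) ∧ PreservesLimitsOfSize.{v, v} F := by
  classical
  constructor
  · intro h
    obtain ⟨X, ⟨e⟩⟩ := h.has_corepresentation
    let r := e.toIso
    let η : yoneda.obj (Opposite.op X) ≅ unopUnop C ⋙ F := NatIso.ofComponents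
      (fun Y => (Equiv.toIso (opEquiv Y.unop (Opposite.op X)) ≪≫ r.app Y.unop.unop))
      (fun {Y Y'} f => by
        ext g
        exact NatTrans.naturality_apply r.hom f.unop.unop g.unop)
    exact ⟨IsIndObject.map η.hom (isIndObject_yoneda _), preservesLimits_of_natIso r⟩
  · rintro ⟨hind, _⟩
    obtain ⟨P⟩ := hind.nonempty_presentation
    let K : P.Iᵒᵖ ⥤ C := P.F.leftOp
    let el : ∀ i : P.Iᵒᵖ, F.obj (K.obj i) := fun i => (P.ι.app i.unop).app (Opposite.op (P.F.obj i.unop)) (𝟙 _)
    have helt : ∀ {i : P.I} {Y : C} (f : (K.obj (Opposite.op i) : C) ⟶ (Y : C)),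
        (F.map (X := K.obj (Opposite.op i)) (Y := Y) f) (el (Opposite.op i) : F.obj (K.obj (Opposite.op i))) =
          (P.ι.app i).app (Opposite.op (Opposite.op Y)) (f.op : _) := fun {i Y} f => by
      refine Eq.trans ?_ (congrArg (fun t => (P.ι.app i).app (Opposite.op (Opposite.op Y)) t) (Category.comp_id f.op))
      have hn := (P.ι.app i).naturality f.op.op
      exact (congrArg (fun t => t (𝟙 (P.F.obj i))) hn).symm
    have hel : ∀ {i j : P.Iᵒᵖ} (f : i ⟶ j), F.map (K.map f) (el i) = el j := fun {i j} f => by
      refine (helt (i := i.unop) (K.map f)).trans ?_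
      exact (congrArg ((P.ι.app i.unop).app _) (Category.id_comp _).symm).trans
        (congrArg (fun t => t.app (Opposite.op (P.F.obj j.unop)) (𝟙 _)) (Cocone.w (Cocone.mk _ P.ι) f.unop))
    obtain ⟨e, he⟩ : ∃ e : F.obj (limit K), ∀ i, F.map (limit.π K i) e = el i := by
      obtain ⟨e, he, -⟩ := (Types.isLimit_iff _).1 ⟨isLimitOfPreserves F (limit.isLimit K)⟩ el (fun {i j} f => hel f)
      exact ⟨e, he⟩
    have hec : ∀ {Y : C}, Function.Bijective (fun f : limit K ⟶ Y => F.map f e) := by
      intro Y
      refine ⟨fun f g hfg => ?_, fun x => ?_⟩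
      · obtain ⟨e', he'⟩ : ∃ e', F.map (equalizer.ι f g) e' = e := by
          obtain ⟨e', he', -⟩ := (Types.type_equalizer_iff_unique (F.map (equalizer.ι f g))
            (by rw [← F.map_comp, ← F.map_comp, equalizer.condition])).1
            ⟨isLimitForkMapOfIsLimit F _ (equalizerIsEqualizer f g)⟩ e hfg
          exact ⟨e', he'⟩
        obtain ⟨j, h, hh⟩ := Types.jointly_surjective _
          (isColimitOfPreserves ((evaluation _ _).obj (Opposite.op (Opposite.op (equalizer f g)))) P.isColimit) e'
        have hh' : F.map h.unop (el (Opposite.op j)) = e' := (helt h.unop).trans hh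
        have hk : ((limit.π K (Opposite.op j) ≫ h.unop) ≫ equalizer.ι f g) = 𝟙 _ := by
          refine limit.hom_ext fun i => ?_
          have e₁ : F.map (h.unop ≫ equalizer.ι f g ≫ limit.π K i) (el (Opposite.op j)) = el i := by
            rw [Functor.map_comp_apply, Functor.map_comp_apply, hh', he', he]
          rw [helt] at e₁
          obtain ⟨l, s, t, hst⟩ := (Types.FilteredColimit.isColimit_eq_iff _
            (isColimitOfPreserves ((evaluation _ _).obj (Opposite.op (Opposite.op (K.obj i)))) P.isColimit)).1 e₁
          have hst' : K.map t.op ≫ 𝟙 _ = K.map s.op ≫ h.unop ≫ equalizer.ι f g ≫ limit.π K i :=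
            (congrArg Quiver.Hom.unop hst).symm
          rw [Category.comp_id] at hst'
          rw [Category.assoc, Category.assoc, Category.id_comp, ← limit.w K s.op, Category.assoc, ← hst', limit.w]
        rw [← Category.id_comp f, ← Category.id_comp g, ← hk, Category.assoc, equalizer.condition, ← Category.assoc]
      · obtain ⟨j, h, hh⟩ := Types.jointly_surjective _
          (isColimitOfPreserves ((evaluation _ _).obj (Opposite.op (Opposite.op Y))) P.isColimit) x
        refine ⟨limit.π K (Opposite.op j) ≫ h.unop, ?_⟩
        change F.map _ e = x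
        rw [Functor.map_comp_apply, he]
        exact (helt h.unop).trans hh
    exact (show F.CorepresentableBy (limit K) from
      { homEquiv := fun {Y} => Equiv.ofBijective _ hec
        homEquiv_comp := fun {Y Y'} g f => Functor.map_comp_apply F f g e }).isCorepresentable

end Groth.Agent.S6137
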