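import Groth.Statements.S6138
import Mathlib.CategoryTheory.Limits.Types.Equalizers
import Mathlib.CategoryTheory.Limits.Preserves.Shapes.Equalizers
-- import your own Groth.Agent.* helpers here

set_option autoImplicit false
open CategoryTheory CategoryTheory.Limits Opposite
universe v u
open SGA4

namespace Groth.Agent.S6138

/-- Let `C` have coequalizers and pullbacks, let `F` be a presheaf of sets on `C` taking coequalizers of
`C` to equalizers, and let `u ∈ F(X)`, viewed as a morphism `h_X ⟶ F`. Then this morphism is a
monomorphism (the map `v ↦ F(v)(u)` is injective on `Hom(Y, X)` for every `Y`) if and only if `u` is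
minimal: whenever `u = F(p)(u')` for an effective epimorphism `p : X ⟶ X'` and some `u' ∈ F(X')`,
`p` is an isomorphism. (Coequalizers are used for one implication and pullbacks for the other; both
are assumed here.) -/
theorem result
    {C : Type u} [Category.{v} C] [HasCoequalizers C] [HasPullbacks C]
    (F : Cᵒᵖ ⥤ Type v) [PreservesLimitsOfShape WalkingParallelPair F]
    {X : C} (u : F.obj (op X)) :
    (∀ (Y : C) (v v' : Y ⟶ X), F.map v.op u = F.map v'.op u → v = v') ↔
      ∀ (X' : C) (p : X ⟶ X') (u' : F.obj (op X')),
        EffectiveEpi p → F.map p.op u' = u → IsIso p := by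
  constructor
  · intro h X' p u' hp hu
    have : Mono p := ⟨fun {Z} a b e => h Z a b (by
      rw [← hu, ← Functor.map_comp_apply, ← Functor.map_comp_apply, ← op_comp, ← op_comp, e])⟩
    obtain ⟨σ⟩ := hp.effectiveEpi
    have e₁ := σ.fac (𝟙 X) fun g₁ g₂ e => by rw [(cancel_mono p).1 e]
    refine ⟨σ.desc (𝟙 X) _, e₁, ?_⟩
    rw [← cancel_epi p, reassoc_of% e₁, Category.comp_id]
  · intro h Y v v' e
    let p := coequalizer.π v v'
    have hl : IsLimit (Fork.ofι p.op (by rw [← op_comp, ← op_comp, coequalizer.condition]) : Fork v.op v'.op) :=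
      Fork.IsLimit.mk' _ fun s => ⟨(coequalizer.desc s.ι.unop (Quiver.Hom.op_inj s.condition)).op,
        Quiver.Hom.unop_inj (coequalizer.π_desc _ _), fun {m} hm => Quiver.Hom.unop_inj (coequalizer.hom_ext
          ((congrArg Quiver.Hom.unop hm).trans (coequalizer.π_desc _ _).symm))⟩
    obtain ⟨u', hu', -⟩ := (Types.type_equalizer_iff_unique (F.map p.op) _).1 ⟨isLimitForkMapOfIsLimit F _ hl⟩ u e
    have hp : EffectiveEpi p := ⟨⟨{
      desc := fun k hk => coequalizer.desc k (hk v v' (coequalizer.condition v v'))
      fac := fun k _ => coequalizer.π_desc _ _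
      uniq := fun k _ m hm => coequalizer.hom_ext (hm.trans (coequalizer.π_desc _ _).symm) }⟩⟩
    have : IsIso p := h _ p u' hp hu'
    exact (cancel_mono p).1 (coequalizer.condition v v')

end Groth.Agent.S6138
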