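import Groth.Statements.S6139
import Groth.Agent.SitesTopoi.Topos.CanonicalBot

set_option autoImplicit false
open CategoryTheory CategoryTheory.Limits
universe v u
open SGA4

namespace Groth.Agent.S6139

/-- For an object `X` of a category `C`, the empty sieve on `X` is covering for the canonical topology
of `C` (the finest topology for which every representable presheaf is a sheaf) if and only if `X` is
a strict initial object: `X` is initial and every morphism with target `X` is an isomorphism. (The
source phrases the first condition as: for some topology coarser than the canonical one the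
associated sheaf of `h_X` is initial; that sheaf is initial exactly when the empty sieve covers `X`,
and coverage by the empty sieve passes to the finer canonical topology.) -/
theorem result
    {C : Type u} [Category.{v} C] (X : C) :
    (⊥ : Sieve X) ∈ Sheaf.canonicalTopology C X ↔
      (Nonempty (IsInitial X) ∧ ∀ (Y : C) (f : Y ⟶ X), IsIso f) := by
  rw [Groth.SitesTopoi.Topos.bot_mem_canonical_iff]
  constructor
  · intro h
    have hi : ∀ Y : C, (Y ⟶ X) → Nonempty (IsInitial Y) := fun Y f => by
      choose t ht using h Y f
      exact ⟨IsInitial.ofUniqueHom t fun W g => ht W g⟩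
    refine ⟨hi X (𝟙 X), fun Y f => ?_⟩
    obtain ⟨iY⟩ := hi Y f
    obtain ⟨iX⟩ := hi X (𝟙 X)
    exact ⟨iX.to Y, iY.hom_ext _ _, iX.hom_ext _ _⟩
  · rintro ⟨⟨iX⟩, hf⟩ Y f W
    have := hf Y f
    exact ⟨f ≫ iX.to W, fun g => (cancel_epi (inv f)).1 (iX.hom_ext _ _)⟩

end Groth.Agent.S6139
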