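import Groth.Statements.S6140
import Groth.Agent.SitesTopoi.Topos.Giraud
import Mathlib.CategoryTheory.Sites.Subcanonical
import Mathlib.CategoryTheory.Sites.EffectiveEpimorphic
import Mathlib.CategoryTheory.Limits.Shapes.KernelPair
import Mathlib.CategoryTheory.Limits.Preserves.Shapes.Pullbacks
import Mathlib.CategoryTheory.Limits.Preserves.Shapes.Equalizers
import Mathlib.CategoryTheory.Sites.LocallySurjective

set_option autoImplicit false
open CategoryTheory CategoryTheory.Limits
universe u
open SGA4

namespace Groth.Agent.S6140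

open Groth.SitesTopoi.Topos CategoryTheory.Limits in
theorem mem_canonical_of_effective {C : Type u} [SmallCategory C] [HasPullbacks C] {X Q : C} (π : X ⟶ Q)
    (h : ∀ (B : C) (g : B ⟶ Q), EffectiveEpi (pullback.snd π g)) :
    Sieve.generate (Presieve.singleton π) ∈ Sheaf.canonicalTopology C Q := by
  refine Sheaf.mem_finestTopology_of_forall_isSheafFor ?_
  rintro _ ⟨W, rfl⟩ B g
  have e : (Sieve.generate (Presieve.singleton π)).pullback g = Sieve.generate (Presieve.singleton (pullback.snd π g)) := by
    ext Z k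
    simp only [Sieve.pullback_apply, Sieve.generate_apply]
    constructor
    · rintro ⟨_, a, _, ⟨⟩, hk⟩
      exact ⟨_, pullback.lift a k hk, _, Presieve.singleton_self _, pullback.lift_snd _ _ _⟩
    · rintro ⟨_, a, _, ⟨⟩, rfl⟩
      exact ⟨_, a ≫ pullback.fst π g, _, Presieve.singleton_self _, by
        rw [Category.assoc, Category.assoc, pullback.condition]⟩
  rw [e, ← Presieve.isSheafFor_iff_generate, Presieve.isSheafFor_singleton]
  intro x hx
  have := h B g
  exact ⟨EffectiveEpi.desc (pullback.snd π g) x fun {Z} p₁ p₂ hp => hx p₁ p₂ hp,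
    EffectiveEpi.fac _ _ _, fun y hy => EffectiveEpi.uniq _ _ _ y hy⟩

open Groth.SitesTopoi.Topos CategoryTheory.Limits in
theorem key {C : Type u} [SmallCategory C] [HasPullbacks C] {J : GrothendieckTopology C} [J.Subcanonical]
    {R X : C} (p₁ p₂ : R ⟶ X) (hR : SGA4.IsEquivRel p₁ p₂) :
    SGA4.IsEquivRel (J.yoneda.map p₁) (J.yoneda.map p₂) := by
  intro T
  refine ⟨fun f g e => hom_ext_ap fun U t => (hR U).1 (Prod.ext ?_ ?_), fun a => ?_, ?_, ?_⟩
  · exact congrArg (fun φ => ap φ t) (Prod.ext_iff.1 e).1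
  · exact congrArg (fun φ => ap φ t) (Prod.ext_iff.1 e).2
  · obtain ⟨s, hs₁, hs₂⟩ := (hR X).2.refl (𝟙 X)
    exact ⟨a ≫ J.yoneda.map s, by rw [Category.assoc, ← Functor.map_comp, hs₁, CategoryTheory.Functor.map_id, Category.comp_id],
      by rw [Category.assoc, ← Functor.map_comp, hs₂, CategoryTheory.Functor.map_id, Category.comp_id]⟩
  · intro a b ⟨f, h₁, h₂⟩
    obtain ⟨σ, hσ₁, hσ₂⟩ := (hR R).2.symm ⟨𝟙 R, Category.id_comp p₁, Category.id_comp p₂⟩
    exact ⟨f ≫ J.yoneda.map σ, by rw [Category.assoc, ← Functor.map_comp, hσ₁, h₂],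
      by rw [Category.assoc, ← Functor.map_comp, hσ₂, h₁]⟩
  · intro a b c ⟨f, h₁, h₂⟩ ⟨g, h₃, h₄⟩
    obtain ⟨t, ht₁, ht₂⟩ := (hR (pullback p₂ p₁)).2.trans
      ⟨pullback.fst p₂ p₁, rfl, pullback.condition⟩ ⟨pullback.snd p₂ p₁, rfl, rfl⟩
    have : PreservesLimit (cospan p₂ p₁) (yoneda (C := C)) := inferInstance
    have : PreservesLimit (cospan p₂ p₁) (J.yoneda ⋙ sheafToPresheaf J (Type u)) :=
      inferInstanceAs (PreservesLimit (cospan p₂ p₁) (yoneda (C := C)))
    have : PreservesLimit (cospan p₂ p₁) J.yoneda :=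
      preservesLimit_of_reflects_of_preserves J.yoneda (sheafToPresheaf J (Type u))
    have sq : IsPullback (J.yoneda.map (pullback.fst p₂ p₁)) (J.yoneda.map (pullback.snd p₂ p₁))
        (J.yoneda.map p₂) (J.yoneda.map p₁) := (IsPullback.of_hasPullback p₂ p₁).map J.yoneda
    refine ⟨sq.lift f g (by rw [h₂, h₃]) ≫ J.yoneda.map t, ?_, ?_⟩
    · rw [Category.assoc, ← Functor.map_comp, ht₁, Functor.map_comp, sq.lift_fst_assoc, h₁]
    · rw [Category.assoc, ← Functor.map_comp, ht₂, Functor.map_comp, sq.lift_snd_assoc, h₄]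


/-- Let `C` be a small category with pullbacks, `p₁ p₂ : R ⇉ X` an equivalence relation in `C` admitting
a coequalizer cofork `c`, and `ε` the canonical functor to sheaves of sets for the canonical
topology of `C`. Then the equivalence relation is effective and universal (`R` is the kernel pair of
the quotient map, which is a coequalizer all of whose base changes are effective epimorphisms) if
and only if `ε` takes `c` to a coequalizer of `ε p₁, ε p₂`. (For a small category every topology has
a small topologically generating family, so both implications of the published statement apply. The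
published statement asks only that the quotient map have all base changes; this row assumes that `C`
has all pullbacks.) -/
theorem result
    {C : Type u} [SmallCategory C] [HasPullbacks C] {R X : C} (p₁ p₂ : R ⟶ X)
    (hR : SGA4.IsEquivRel p₁ p₂) (c : Cofork p₁ p₂) (hc : IsColimit c) :
    SGA4.IsEffectiveUniversalEquivRel p₁ p₂ ↔
      Nonempty (IsColimit ((yoneda ⋙ presheafToSheaf (Sheaf.canonicalTopology C) (Type u)).mapCocone c)) := by
  open Groth.SitesTopoi.Topos CategoryTheory.Limits in
  let J := Sheaf.canonicalTopology C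
  let e : J.yoneda ≅ yoneda ⋙ presheafToSheaf J (Type u) :=
    Functor.isoWhiskerLeft J.yoneda (asIso (sheafificationAdjunction J (Type u)).counit).symm
  have hyp : ∀ {Y X Q : C} (f : Y ⟶ Q) (g : X ⟶ Q), PreservesLimit (cospan f g) J.yoneda := fun f g => by
    have : PreservesLimit (cospan f g) (J.yoneda ⋙ sheafToPresheaf J (Type u)) :=
      inferInstanceAs (PreservesLimit (cospan f g) (yoneda (C := C)))
    exact preservesLimit_of_reflects_of_preserves J.yoneda (sheafToPresheaf J (Type u))
  have hiff : Nonempty (IsColimit ((yoneda ⋙ presheafToSheaf (Sheaf.canonicalTopology C) (Type u)).mapCocone c)) ↔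
      Nonempty (IsColimit (Cofork.ofπ (f := J.yoneda.map p₁) (g := J.yoneda.map p₂) (J.yoneda.map c.π)
        (by rw [← Functor.map_comp, ← Functor.map_comp, c.condition]))) :=
    ⟨fun ⟨h⟩ => ⟨isColimitMapCoconeCoforkEquiv J.yoneda c.condition
        (((IsColimit.mapCoconeEquiv e.symm h)).ofIsoColimit
          ((Cocone.functoriality _ J.yoneda).mapIso (Cofork.isoCoforkOfπ c)))⟩,
      fun ⟨h⟩ => ⟨IsColimit.mapCoconeEquiv e (((isColimitMapCoconeCoforkEquiv J.yoneda c.condition).symm h).ofIsoColimit
          ((Cocone.functoriality _ J.yoneda).mapIso (Cofork.isoCoforkOfπ c)).symm)⟩⟩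
  rw [hiff]
  let π : X ⟶ c.pt := c.π
  have hw : J.yoneda.map p₁ ≫ J.yoneda.map π = J.yoneda.map p₂ ≫ J.yoneda.map π := by
    rw [← Functor.map_comp, ← Functor.map_comp, c.condition]
  constructor
  · intro hu
    obtain ⟨B, π', hpb, hpo, he⟩ := hu
    obtain ⟨s₀, hs₁, hs₂⟩ := (hR X).2.refl (𝟙 X)
    have hπ' : IsColimit (Cofork.ofπ π' hpb.w) := Cofork.IsColimit.mk _
      (fun s => hpo.desc s.π s.π s.condition) (fun s => hpo.inl_desc _ _ _)
      (fun s m hm => hpo.hom_ext ((hm).trans (hpo.inl_desc _ _ _).symm) ((hm).trans (hpo.inr_desc _ _ _).symm))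
    let i : B ≅ c.pt := hπ'.coconePointUniqueUpToIso hc
    have hi : π' ≫ i.hom = π := hπ'.comp_coconePointUniqueUpToIso_hom hc WalkingParallelPair.one
    have hpb' : IsPullback p₁ p₂ π π := hpb.of_iso (Iso.refl _) (Iso.refl _) (Iso.refl _) i
      (by simp) (by simp) (by simp [hi]) (by simp [hi])
    have hmem : Sieve.generate (Presieve.singleton π) ∈ J c.pt := mem_canonical_of_effective π fun B' g => by
      have := he B' (g ≫ i.inv)
      have sq : IsPullback (pullback.fst π g) (pullback.snd π g) π' (g ≫ i.inv) :=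
        (IsPullback.of_hasPullback π g).of_iso (Iso.refl _) (Iso.refl _) (Iso.refl _) i.symm (by simp) (by simp)
          (by simp [← hi]) (by simp)
      rw [← sq.isoPullback_hom_snd]
      exact ⟨⟨{
        desc := fun {W} a ha => EffectiveEpi.desc (pullback.snd π' (g ≫ i.inv)) (sq.isoPullback.inv ≫ a)
          fun {Z} g₁ g₂ hg => by
            rw [← Category.assoc, ← Category.assoc]
            exact ha _ _ (by simp only [Category.assoc, Iso.inv_hom_id_assoc]; exact hg)
        fac := fun {W} a ha => by rw [Category.assoc, EffectiveEpi.fac, Iso.hom_inv_id_assoc]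
        uniq := fun {W} a ha m hm => EffectiveEpi.uniq _ _ _ m (by
          rw [← hm, Category.assoc, Iso.inv_hom_id_assoc]) }⟩⟩
    have : Sheaf.IsLocallySurjective (J.yoneda.map π) := ⟨fun {U} t => by
      refine J.superset_covering (fun V g hg => ?_) (J.pullback_stable (t : U ⟶ c.pt) hmem)
      obtain ⟨_, k, _, ⟨⟩, hk⟩ := hg
      exact ⟨k, hk⟩⟩
    have : Epi (J.yoneda.map π) := (Sheaf.isLocallySurjective_iff_epi _).1 this
    have := effectiveEpi_of_covers _ ((covers_single_iff (J.yoneda.map π)).2 this)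
    have hk : IsKernelPair (J.yoneda.map π) (J.yoneda.map p₁) (J.yoneda.map p₂) := hpb'.map J.yoneda
    exact ⟨hk.toCoequalizer'⟩
  · rintro ⟨h⟩
    let i := h.coconePointUniqueUpToIso (coequalizerIsCoequalizer (J.yoneda.map p₁) (J.yoneda.map p₂))
    have hi : J.yoneda.map π ≫ i.hom = coequalizer.π _ _ :=
      h.comp_coconePointUniqueUpToIso_hom (coequalizerIsCoequalizer _ _) WalkingParallelPair.one
    have hR' := key (J := J) p₁ p₂ hR
    have hsq : IsPullback (J.yoneda.map p₁) (J.yoneda.map p₂) (J.yoneda.map π) (J.yoneda.map π) :=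
      (isPullback_coequalizer_of_equivRel (fun T => (hR' T).1) (fun T => (hR' T).2)).of_iso
        (Iso.refl _) (Iso.refl _) (Iso.refl _) i.symm (by simp) (by simp) (by simp [← hi]) (by simp [← hi])
    have hpb : IsPullback p₁ p₂ π π := hsq.of_map J.yoneda c.condition
    obtain ⟨s₀, hs₁, hs₂⟩ := (hR X).2.refl (𝟙 X)
    refine ⟨c.pt, π, hpb, ⟨⟨c.condition⟩, ⟨PushoutCocone.IsColimit.mk _
      (fun s => Cofork.IsColimit.desc hc s.inl ?_) (fun s => Cofork.IsColimit.π_desc' hc _ _) (fun s => ?_)
      (fun s m h₁ _ => Cofork.IsColimit.hom_ext hc (h₁.trans (Cofork.IsColimit.π_desc' hc _ _).symm))⟩⟩, fun B' g => ?_⟩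
    · have h' := congrArg (s₀ ≫ ·) s.condition
      simp only [← Category.assoc, hs₁, hs₂, Category.id_comp] at h'
      exact s.condition.trans (by rw [h'])
    · have h' := congrArg (s₀ ≫ ·) s.condition
      simp only [← Category.assoc, hs₁, hs₂, Category.id_comp] at h'
      exact (Cofork.IsColimit.π_desc' hc _ _).trans h'
    · have hepi : Epi (J.yoneda.map π) := by
        have : Epi (J.yoneda.map π ≫ i.hom) := by rw [hi]; infer_instance
        exact (MorphismProperty.epimorphisms _).cancel_right_of_respectsIso (J.yoneda.map π) i.hom |>.1 this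
      have hsurj : Sheaf.IsLocallySurjective (J.yoneda.map π) := (Sheaf.isLocallySurjective_iff_epi _).2 hepi
      have hmem : Sieve.generate (Presieve.singleton (pullback.snd π g)) ∈ J B' := by
        refine J.superset_covering (fun V k hk => ?_) (hsurj.imageSieve_mem (U := B') (g : _))
        obtain ⟨t, ht⟩ := hk
        exact ⟨_, pullback.lift t k ht, _, Presieve.singleton_self _, pullback.lift_snd _ _ _⟩
      have hsh : ∀ W : C, Presieve.IsSheafFor (yoneda.obj W) (Presieve.singleton (pullback.snd π g)) := fun W =>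
        (Presieve.isSheafFor_iff_generate _).2 (Sheaf.isSheaf_yoneda_obj W _ hmem)
      refine ⟨⟨{
        desc := fun {W} a ha => (Presieve.isSheafFor_singleton.1 (hsh W) a fun p q hpq => ha p q hpq).choose
        fac := fun {W} a ha => (Presieve.isSheafFor_singleton.1 (hsh W) a fun p q hpq => ha p q hpq).choose_spec.1
        uniq := fun {W} a ha m hm =>
          (Presieve.isSheafFor_singleton.1 (hsh W) a fun p q hpq => ha p q hpq).choose_spec.2 m hm }⟩⟩

end Groth.Agent.S6140
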