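import Groth.Statements.S6141
import Mathlib.CategoryTheory.Adjunction.Triple
import Mathlib.CategoryTheory.Adjunction.FullyFaithful

set_option autoImplicit false
open CategoryTheory
universe u
open SGA4

namespace Groth.Agent.S6141

/-- Let `u : C ⥤ C'` be a functor between small sites which is continuous and cocontinuous. If `u` is
full and faithful, then the left adjoint `u_!` of the restriction functor `u^*` on sheaves of sets
is full and faithful. -/
theorem result
    {C : Type u} [SmallCategory C] {C' : Type u} [SmallCategory C']
    (J : GrothendieckTopology C) (K : GrothendieckTopology C') (u : C ⥤ C')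
    [u.IsContinuous J K] [u.IsCocontinuous J K] [u.Full] [u.Faithful] :
    (u.sheafPullback (Type u) J K).Full ∧ (u.sheafPullback (Type u) J K).Faithful := by
  have : (u.op.ran : (Cᵒᵖ ⥤ Type u) ⥤ _).Full := (u.op.ranAdjunction (Type u)).fullyFaithfulROfIsIsoCounit.full
  have : (u.op.ran : (Cᵒᵖ ⥤ Type u) ⥤ _).Faithful := (u.op.ranAdjunction (Type u)).fullyFaithfulROfIsIsoCounit.faithful
  have : (u.sheafPushforwardCocontinuous (Type u) J K ⋙ sheafToPresheaf K (Type u)).Full :=
    Functor.Full.of_iso (u.sheafPushforwardCocontinuousCompSheafToPresheafIso (Type u) J K).symm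
  have : (u.sheafPushforwardCocontinuous (Type u) J K ⋙ sheafToPresheaf K (Type u)).Faithful :=
    Functor.Faithful.of_iso (u.sheafPushforwardCocontinuousCompSheafToPresheafIso (Type u) J K).symm
  have : (u.sheafPushforwardCocontinuous (Type u) J K).Full :=
    Functor.Full.of_comp_faithful _ (sheafToPresheaf K (Type u))
  have : (u.sheafPushforwardCocontinuous (Type u) J K).Faithful :=
    Functor.Faithful.of_comp _ (sheafToPresheaf K (Type u))
  let t : Adjunction.Triple (u.sheafPullback (Type u) J K) (u.sheafPushforwardContinuous (Type u) J K)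
      (u.sheafPushforwardCocontinuous (Type u) J K) :=
    { adj₁ := u.sheafAdjunctionContinuous (Type u) J K, adj₂ := u.sheafAdjunctionCocontinuous (Type u) J K }
  exact ⟨(t.fullyFaithfulEquiv.symm (Functor.FullyFaithful.ofFullyFaithful _)).full,
    (t.fullyFaithfulEquiv.symm (Functor.FullyFaithful.ofFullyFaithful _)).faithful⟩

end Groth.Agent.S6141
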