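import Groth.Statements.S6142
import Mathlib.CategoryTheory.Sites.Subcanonical

set_option autoImplicit false
open CategoryTheory
universe u
open SGA4

namespace Groth.Agent.S6142

/-- Let `u : C ⥤ C'` be a continuous and cocontinuous functor between small sites whose topologies are
subcanonical. If the left adjoint `u_!` of the restriction functor `u^*` on sheaves of sets is full
and faithful, then `u` is full and faithful. -/
theorem result
    {C : Type u} [SmallCategory C] {C' : Type u} [SmallCategory C']
    (J : GrothendieckTopology C) (K : GrothendieckTopology C') [J.Subcanonical] [K.Subcanonical]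
    (u : C ⥤ C') [u.IsContinuous J K] [u.IsCocontinuous J K]
    (h : (u.sheafPullback (Type u) J K).Full ∧ (u.sheafPullback (Type u) J K).Faithful) :
    u.Full ∧ u.Faithful := by
  obtain ⟨_, _⟩ := h
  let adj := u.sheafAdjunctionContinuous (Type u) J K
  let p := u.sheafPullback (Type u) J K
  have : IsIso adj.unit := inferInstance
  -- representables go to representables
  let m : ∀ Y : C, J.yoneda.obj Y ⟶ (u.sheafPushforwardContinuous (Type u) J K).obj (K.yoneda.obj (u.obj Y)) :=
    fun Y => J.yonedaEquiv.symm (𝟙 (u.obj Y) : _)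
  have hm : ∀ {X Y : C} (f : X ⟶ Y), (m Y).hom.app (Opposite.op X) f = u.map f := fun {X Y} f =>
    (Category.comp_id _)
  have key : ∀ Y : C, IsIso (m Y) := by
    intro Y
    let elt := (adj.unit.app (J.yoneda.obj Y)).hom.app (Opposite.op Y) (𝟙 Y)
    let ψ : K.yoneda.obj (u.obj Y) ⟶ p.obj (J.yoneda.obj Y) := K.yonedaEquiv.symm elt
    have h₁ : (adj.homEquiv _ _).symm (m Y) ≫ ψ = 𝟙 _ := by
      refine (adj.homEquiv _ _).injective (J.yonedaEquiv.injective ?_)
      rw [Adjunction.homEquiv_naturality_right, Equiv.apply_symm_apply, Adjunction.homEquiv_id]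
      change ψ.hom.app _ ((m Y).hom.app (Opposite.op Y) (𝟙 Y)) = _
      rw [hm, u.map_id]
      exact K.yonedaEquiv.apply_symm_apply elt
    have h₂ : ψ ≫ (adj.homEquiv _ _).symm (m Y) = 𝟙 _ := by
      refine K.yonedaEquiv.injective ?_
      change ((adj.homEquiv _ _).symm (m Y)).hom.app _ (ψ.hom.app (Opposite.op (u.obj Y)) (𝟙 _)) = 𝟙 _
      rw [show ψ.hom.app (Opposite.op (u.obj Y)) (𝟙 _) = elt from K.yonedaEquiv.apply_symm_apply elt]
      have h := congrArg (fun φ => φ.hom.app (Opposite.op Y) (𝟙 Y)) ((adj.homEquiv _ _).apply_symm_apply (m Y))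
      rw [Adjunction.homEquiv_unit] at h
      exact h.trans ((hm (𝟙 Y)).trans (u.map_id Y))
    have : IsIso ((adj.homEquiv _ _).symm (m Y)) := ⟨ψ, h₁, h₂⟩
    rw [← (adj.homEquiv _ _).apply_symm_apply (m Y), Adjunction.homEquiv_unit]
    infer_instance
  have hb : ∀ X Y : C, Function.Bijective (u.map : (X ⟶ Y) → _) := fun X Y => by
    have := key Y
    have : IsIso ((sheafToPresheaf J (Type u)).map (m Y)) := inferInstance
    have hiso : IsIso ((m Y).hom.app (Opposite.op X)) :=
      NatIso.isIso_app_of_isIso ((sheafToPresheaf J (Type u)).map (m Y)) _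
    have := (isIso_iff_bijective _).1 hiso
    refine (congrArg Function.Bijective (funext fun f => ?_)).mp this
    exact hm f
  exact ⟨⟨fun {X Y} => (hb X Y).2⟩, ⟨fun {X Y} => (hb X Y).1⟩⟩

end Groth.Agent.S6142
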