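import Groth.Statements.S6143
import Groth.Agent.SitesTopoi.Topos.CanonicalCofan

set_option autoImplicit false
open CategoryTheory CategoryTheory.Limits
universe u
open SGA4

namespace Groth.Agent.S6143

/-- Let `C` be a small category, `X` an object and `s i : Y i ⟶ X` a family of morphisms all of whose
base changes exist. Then the associated sheaf of `h_X` for the canonical topology, with the maps
induced by the `s i`, is a coproduct of the associated sheaves of the `h_{Y i}` (in sheaves of sets
for the canonical topology) if and only if `X` is a disjoint universal coproduct of the `Y i` in
`C`: the cofan `(X, s)` is a colimit, the injections of a coproduct of the family are monomorphisms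
with pairwise pullbacks initial, and the colimit is stable under base change. (The source asks for
the coproduct decomposition after sheafification for some topology coarser than the canonical one;
this is equivalent to asking it for the canonical topology itself.) -/
theorem result
    {C : Type u} [SmallCategory C] {X : C} {ι : Type u} (Y : ι → C) (s : ∀ i, Y i ⟶ X)
    [∀ (i : ι) (Z : C) (g : Z ⟶ X), HasPullback (s i) g] :
    Nonempty (IsColimit (Cofan.mk
        ((presheafToSheaf (Sheaf.canonicalTopology C) (Type u)).obj (yoneda.obj X))
        (fun i => (presheafToSheaf (Sheaf.canonicalTopology C) (Type u)).map (yoneda.map (s i))))) ↔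
      (Nonempty (IsColimit (Cofan.mk X s)) ∧ CoproductDisjoint Y ∧
        IsUniversalColimit (Cofan.mk X s)) := by
  rw [Groth.SitesTopoi.Topos.isColimit_sheafified_cofan_iff]
  exact Groth.SitesTopoi.Topos.isDisjointCoverSite_canonical_iff

end Groth.Agent.S6143
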