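import Groth.Statements.S6144
import Mathlib.Logic.Small.Set
import Mathlib.CategoryTheory.Limits.Shapes.Diagonal
-- import your own Groth.Agent.* helpers here

set_option autoImplicit false
open CategoryTheory CategoryTheory.Limits
universe w v u
open SGA4

namespace Groth.Agent.S6144

/-- Let `E` be a category with `v`-small hom-sets and pullbacks, admitting a detecting family of objects
indexed by a `v`-small type (maps out of the family jointly reflect isomorphisms). Then every
detecting family `Y : I → E`, indexed by an arbitrary type, contains a detecting subfamily indexed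
by a `v`-small subset of `I`. -/
theorem result
    {E : Type u} [Category.{v} E] [HasPullbacks E] {κ : Type v} (G : κ → E)
    (hG : (ObjectProperty.ofObj G).IsDetecting) {I : Type w} (Y : I → E)
    (hY : (ObjectProperty.ofObj Y).IsDetecting) :
    ∃ J : Set I, Small.{v} J ∧ (ObjectProperty.ofObj (fun j : J => Y j)).IsDetecting := by
  classical
  let Φ : ∀ k : κ, ∀ {S : E}, (S ⟶ G k) → Set (Σ k', G k' ⟶ G k) := fun k {S} m =>
    {p | ∃ l, l ≫ m = p.2}
  let T := Σ k : κ, Set (Σ k', G k' ⟶ G k)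
  let Good : T → Prop := fun t => ∃ (S : E) (m : S ⟶ G t.1) (j : I) (h : Y j ⟶ G t.1),
    Mono m ∧ Φ t.1 m = t.2 ∧ ∀ l, l ≫ m ≠ h
  have hsel : ∀ t : {t : T // Good t}, ∃ j : I, ∃ (S : E) (m : S ⟶ G t.1.1) (h : Y j ⟶ G t.1.1),
      Mono m ∧ Φ t.1.1 m = t.1.2 ∧ ∀ l, l ≫ m ≠ h := fun ⟨_, S, m, j, h, h₁, h₂, h₃⟩ => ⟨j, S, m, h, h₁, h₂, h₃⟩
  choose sel hsel using hsel
  refine ⟨Set.range sel, small_range sel, ?_⟩
  let Q := ObjectProperty.ofObj fun j : Set.range sel => Y j
  have hQ : ∀ j : Set.range sel, Q (Y j) := fun j => ObjectProperty.ofObj_apply _ j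
  have key : ∀ {A B : E} (f : A ⟶ B), Mono f →
      (∀ (j : Set.range sel) (h : Y j ⟶ B), ∃ l, l ≫ f = h) → IsIso f := by
    intro A B f _ hf
    refine hG f fun _ hK h => ?_
    obtain ⟨k⟩ := hK
    suffices ∃ l, l ≫ f = h by
      obtain ⟨l, hl⟩ := this
      exact ⟨l, hl, fun l' hl' => (cancel_mono f).1 ((show l' ≫ f = h from hl').trans hl.symm)⟩
    let m := pullback.snd f h
    by_contra hne
    have hm : ¬ IsIso m := fun _ => hne ⟨inv m ≫ pullback.fst f h, by
      rw [Category.assoc, pullback.condition, IsIso.inv_hom_id_assoc]⟩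
    have hgood : Good ⟨k, Φ k m⟩ := by
      by_contra hbad
      refine hm (hY m fun _ hj g => ?_)
      obtain ⟨j⟩ := hj
      obtain ⟨l, hl⟩ : ∃ l, l ≫ m = g := by
        by_contra hl
        exact hbad ⟨_, m, j, g, inferInstance, rfl, fun l e => hl ⟨l, e⟩⟩
      exact ⟨l, hl, fun l' hl' => (cancel_mono m).1 ((show l' ≫ m = g from hl').trans hl.symm)⟩
    obtain ⟨S, m₀, h₀, _, hΦ, hno⟩ := hsel ⟨⟨k, Φ k m⟩, hgood⟩
    obtain ⟨a, ha⟩ := hf ⟨_, Set.mem_range_self ⟨⟨k, Φ k m⟩, hgood⟩⟩ (h₀ ≫ h)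
    have : IsIso (pullback.snd m₀ m) := hG _ fun _ hK' g => by
      obtain ⟨k'⟩ := hK'
      have hmem : (⟨k', g ≫ m⟩ : Σ k', G k' ⟶ G k) ∈ Φ k m := ⟨g, rfl⟩
      obtain ⟨l, hl⟩ : (⟨k', g ≫ m⟩ : Σ k', G k' ⟶ G k) ∈ Φ k m₀ := (Set.ext_iff.1 hΦ _).2 hmem
      exact ⟨pullback.lift l g hl, pullback.lift_snd _ _ _, fun l' hl' => (cancel_mono (pullback.snd m₀ m)).1
        ((show l' ≫ pullback.snd m₀ m = g from hl').trans (pullback.lift_snd _ _ _).symm)⟩
    refine hno (pullback.lift a h₀ ha ≫ inv (pullback.snd m₀ m) ≫ pullback.fst m₀ m) ?_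
    simp only [Category.assoc, pullback.condition, IsIso.inv_hom_id_assoc]
    exact pullback.lift_snd _ _ _
  intro A B f hf
  have hd : IsIso (pullback.diagonal f) := key _ inferInstance fun j g =>
    ⟨g ≫ pullback.fst f f, by
      refine pullback.hom_ext ?_ ?_
      · rw [Category.assoc, pullback.diagonal_fst, Category.comp_id]
      · rw [Category.assoc, pullback.diagonal_snd, Category.comp_id]
        exact (hf _ (hQ j) ((g ≫ pullback.fst f f) ≫ f)).unique rfl (by
          simp only [Category.assoc, pullback.condition])⟩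
  have e : pullback.fst f f = pullback.snd f f :=
    (cancel_epi (pullback.diagonal f)).1 (by rw [pullback.diagonal_fst, pullback.diagonal_snd])
  have : Mono f := ⟨fun a b hab => by rw [← pullback.lift_fst a b hab, e, pullback.lift_snd]⟩
  exact key f inferInstance fun j g => (hf _ (hQ j) g).exists

end Groth.Agent.S6144
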