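import Groth.Statements.S6148
import Groth.Agent.SitesTopoi.Mod.FlatColimit

set_option autoImplicit false
universe u
open CategoryTheory
open ModSite

namespace Groth.Agent.S6148

open CategoryTheory.Limits in
/-- Ringed topos of sheaves on a small site with commutative structure sheaf O: a filtered colimit of
flat O-modules is flat. Stated for a colimit cocone of a small filtered diagram; the source allows
pseudo-filtered index categories (each connected component filtered), which reduces to this case and
direct sums. -/
theorem result {C : Type u} [SmallCategory C] {J : GrothendieckTopology C}
    (O : Sheaf J CommRingCat.{u}) {I : Type u} [SmallCategory I] [IsFiltered I] (D : I ⥤ ModSite.Mod O)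
    (hD : ∀ i, ModSite.IsFlat (D.obj i)) (c : Cocone D) (hc : IsColimit c) : ModSite.IsFlat c.pt := by
  have : HasExactColimitsOfShape I (ModSite.Mod O) := AB5OfSize.ofShape I
  exact Groth.SitesTopoi.ModH.isFlat_of_isColimit D hD c hc

end Groth.Agent.S6148
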