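import Groth.Statements.S6149
import Groth.Agent.SitesTopoi.Mod.KFlat

set_option autoImplicit false
universe u
open CategoryTheory
open ModSite

namespace Groth.Agent.S6149

open CategoryTheory.Limits in
/-- Ringed topos of sheaves on a small site with commutative structure sheaf O: let M be an acyclic
chain complex of flat O-modules with M_i = 0 for i below some bound. Then for every O-module F the
complex M (x)_O F (tensoring termwise with F) is acyclic. The instance binder on the tensor functor
(it preserves zero morphisms) always holds and is only needed to form the complex. -/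
theorem result {C : Type u} [SmallCategory C] {J : GrothendieckTopology C}
    (O : Sheaf J CommRingCat.{u}) (M : ChainComplex (ModSite.Mod O) ℤ) (F : ModSite.Mod O)
    [((ModSite.tensorBi O).flip.obj F).PreservesZeroMorphisms]
    (hb : ∃ i₀ : ℤ, ∀ i, i < i₀ → IsZero (M.X i)) (hM : ∀ i, ModSite.IsFlat (M.X i)) (hac : M.Acyclic) :
    ((((ModSite.tensorBi O).flip.obj F).mapHomologicalComplex (ComplexShape.down ℤ)).obj M).Acyclic := by
  open Groth.SitesTopoi.KFlatSite Groth.SitesTopoi.ModH Groth.SitesTopoi in
    obtain ⟨i₀, hi₀⟩ := hb
    have hS : ∀ i, (CycleExact.cycSC M i (i - 1) (by rw [ChainComplex.next])).ShortExact := fun i =>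
      CycleExact.shortExact_cycSC M i (i - 1) _ (by rw [ChainComplex.prev]; omega) (hac _)
    have hfl : ∀ (k : ℕ) (i : ℤ), i < i₀ + k → ModSite.IsFlat (M.cycles i) := by
      intro k
      induction k with
      | zero => exact fun i hi => isFlat_of_isZero (IsZero.of_mono (M.iCycles i) (hi₀ i (by omega)))
      | succ k ih => exact fun i hi => isFlat_left (hS i) (hM i) (ih (i - 1) (by push_cast at hi; omega))
    intro j
    have hflj : ModSite.IsFlat (M.cycles (j - 1 - 1)) := hfl ((j - i₀).toNat + 1) _ (by omega)
    have : Mono (((ModSite.tensorBi O).flip.obj F).map (M.iCycles (j - 1))) := mono_tensor_of_flat (hS (j - 1)) hflj F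
    have : PreservesColimitsOfSize.{0, 0} ((T O).flip.obj F) := preservesColimitsOfSize_shrink.{0, u, 0, u} _
    have : PreservesFiniteColimits ((T O).flip.obj F) := PreservesColimitsOfSize.preservesFiniteColimits _
    exact CycleExact.exactAt_map M ((T O).flip.obj F) (i := j + 1) (k := j - 1) (by rw [ChainComplex.prev]) (by rw [ChainComplex.next])
      (by rw [ChainComplex.prev]; omega) (hac j) (hac _)

end Groth.Agent.S6149
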