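import Groth.Statements.S6152
import Groth.Agent.Misc4.FreeOn
-- import your own Groth.Agent.* helpers here

set_option autoImplicit false
universe u
open CategoryTheory
open ModSite

namespace Groth.Agent.S6152

/-- Second assertion (ringed topos of sheaves on a small site (C, J) with commutative structure sheaf
O): if G is a topologically generating family of objects (every object of C admits a covering family
by members of G), then the free O-modules A_X = j_{X!}(O|X), X in G, form a generating family of the
category of O-modules; stated as: this family detects isomorphisms and is separating. -/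
theorem result {C : Type u} [SmallCategory C] {J : GrothendieckTopology C}
    (O : Sheaf J CommRingCat.{u}) (G : Set C)
    (hG : ∀ X : C, ∃ (ι : Type u) (Y : ι → C) (f : ∀ i, Y i ⟶ X), Sieve.ofArrows Y f ∈ J X ∧ ∀ i, Y i ∈ G) :
    (ObjectProperty.ofObj fun X : G => ModSite.freeOn O (X : C)).IsDetecting ∧
    (ObjectProperty.ofObj fun X : G => ModSite.freeOn O (X : C)).IsSeparating := by
  refine ⟨fun M N p h => Groth.Misc4.FreeOn.isIso_of_bijective hG p fun X hX => ?_,
    fun M N p q h => Groth.Misc4.FreeOn.eq_of_eqOn hG p q fun X hX m => ?_⟩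
  · have h' := h _ (ObjectProperty.ofObj_apply (fun X : G => ModSite.freeOn O (X : C)) ⟨X, hX⟩)
    refine ⟨fun a b e => ?_, fun n => ?_⟩
    · obtain ⟨a', rfl⟩ := (Groth.Misc4.FreeOn.homEquiv X M).surjective a
      obtain ⟨b', rfl⟩ := (Groth.Misc4.FreeOn.homEquiv X M).surjective b
      rw [← Groth.Misc4.FreeOn.homEquiv_comp, ← Groth.Misc4.FreeOn.homEquiv_comp] at e
      exact congrArg _ ((h' (b' ≫ p)).unique ((Groth.Misc4.FreeOn.homEquiv X N).injective e) rfl)
    · obtain ⟨n', rfl⟩ := (Groth.Misc4.FreeOn.homEquiv X N).surjective n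
      obtain ⟨a, ha, -⟩ := h' n'
      exact ⟨Groth.Misc4.FreeOn.homEquiv X M a, by rw [← Groth.Misc4.FreeOn.homEquiv_comp, ha]⟩
  · obtain ⟨m', rfl⟩ := (Groth.Misc4.FreeOn.homEquiv X M).surjective m
    rw [← Groth.Misc4.FreeOn.homEquiv_comp, ← Groth.Misc4.FreeOn.homEquiv_comp,
      h _ (ObjectProperty.ofObj_apply (fun X : G => ModSite.freeOn O (X : C)) ⟨X, hX⟩) m']

end Groth.Agent.S6152
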