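import Groth.Statements.S6153
import Groth.Agent.Misc4.FreeOn
-- import your own Groth.Agent.* helpers here

set_option autoImplicit false
universe u
open CategoryTheory
open ModSite

namespace Groth.Agent.S6153

/-- Morphisms of ringed sites between small sites with commutative structure sheaves: for a morphism of
ringed sites f : (C, O_C) -> (D, O_D) given by a functor u : D -> C and every object X of D, the
inverse image f^*(A'_X) of the free O_D-module on X is isomorphic to the free O_C-module A_{u(X)} on
u(X). Existence of an isomorphism of modules only (the source's isomorphism is the canonical one). -/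
theorem result {C D : Type u} [SmallCategory C] [SmallCategory D] {J : GrothendieckTopology C}
    {K : GrothendieckTopology D} {O_C : Sheaf J CommRingCat.{u}} {O_D : Sheaf K CommRingCat.{u}}
    (f : ModSite.RMor O_C O_D) (X : D) :
    Nonempty (f.pull.obj (ModSite.freeOn O_D X) ≅ ModSite.freeOn O_C (f.fn.obj X)) := by
  exact Groth.Misc4.FreeOn.nonempty_iso_of_homEquiv
    (fun M : ModSite.Mod O_C => Groth.SitesTopoi.ModH.sc M.val (f.fn.obj X))
    (fun p => Groth.SitesTopoi.ModH.apm p.val (f.fn.obj X))
    (fun M => (f.adj.homEquiv _ M).trans (Groth.Misc4.FreeOn.homEquiv X (f.push.obj M)))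
    (Groth.Misc4.FreeOn.homEquiv (f.fn.obj X))
    (fun p g => (congrArg (Groth.Misc4.FreeOn.homEquiv X _) (f.adj.homEquiv_naturality_right g p)).trans
      (Groth.Misc4.FreeOn.homEquiv_comp X (f.adj.homEquiv _ _ g) (f.push.map p)))
    (fun p g => Groth.Misc4.FreeOn.homEquiv_comp _ g p)

end Groth.Agent.S6153
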