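import Groth.Statements.S6154
import Groth.Agent.SitesTopoi.Mod.Restrict

set_option autoImplicit false
universe u
open CategoryTheory
open ModSite

namespace Groth.Agent.S6154

/-- Ringed topos of sheaves on a small site with commutative structure sheaf O, localised at an object
X: restriction to C/X commutes with the tensor product, j_X^*(M (x)_O N) is isomorphic to j_X^* M
(x)_{O|X} j_X^* N. Existence of an isomorphism only (the source's is the canonical one). -/
theorem result {C : Type u} [SmallCategory C] {J : GrothendieckTopology C} (O : Sheaf J CommRingCat.{u})
    (X : C) (M N : ModSite.Mod O) :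
    Nonempty ((ModSite.restr O X).obj (((ModSite.tensorBi O).obj M).obj N) ≅
      ((ModSite.tensorBi (O.over X)).obj ((ModSite.restr O X).obj M)).obj ((ModSite.restr O X).obj N)) := by
  exact ⟨Groth.SitesTopoi.ModH.restrTensorIso X M N⟩

end Groth.Agent.S6154
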