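import Groth.Statements.S6163
import Groth.Agent.Misc7.GSS.Composite
import Groth.Agent.SiteCohomology.HigherDirectImage
import Groth.Agent.SiteCohomology.ModulesGrothendieck
import Groth.Agent.SiteCohomology.PushTotallyAcyclic

set_option autoImplicit false
universe u
open CategoryTheory
open scoped ZeroObject
open CohSite

namespace Groth.Agent.S6163

open CategoryTheory.Limits in
/-- Existence form (abelian sheaves; the two morphisms of topoi are given by continuous functors u : D
-> C and w : B -> D between small sites with exact pullback on sheaves of sets; the composite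
morphism is given by w followed by u, whose continuity is recorded by a binder that always holds):
for an abelian sheaf M on C there is a bounded E_2 spectral sequence of abelian sheaves on B with
E_2^{p,q} isomorphic to R^p w_*(R^q u_* M) for p, q >= 0 and zero otherwise, with abutment data
whose filtrations are finite on R^n (u w)_* M (n >= 0; zero for n < 0). The E_2 identifications and
abutment isomorphisms are asserted to exist only, not pinned to the canonical maps. -/
theorem result {C D B : Type u} [SmallCategory C] [SmallCategory D]
    [SmallCategory B] (J : GrothendieckTopology C) (K : GrothendieckTopology D) (L : GrothendieckTopology B)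
    (u : D ⥤ C) [u.IsContinuous K J] [PreservesFiniteLimits (u.sheafPullback (Type u) K J)]
    (w : B ⥤ D) [w.IsContinuous L K] [PreservesFiniteLimits (w.sheafPullback (Type u) L K)]
    [(w ⋙ u).IsContinuous L J] (M : Sheaf J AddCommGrpCat.{u}) :
    ∃ (E : E₂CohomologicalSpectralSequence (Sheaf L AddCommGrpCat.{u}))
      (a : SpSeq.Abutment E (fun n : ℤ =>
        if 0 ≤ n then (CohSite.Rpush J L (w ⋙ u) n.toNat).obj M else 0)),
      (∀ n, a.IsFinite n) ∧ SpSeq.IsBounded E ∧
      ∀ p q : ℤ, Nonempty ((E.page 2 le_rfl).X (p, q) ≅
        (if 0 ≤ p ∧ 0 ≤ q then (CohSite.Rpush K L w p.toNat).obj ((CohSite.Rpush J K u q.toNat).obj M) else 0)) := by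
  haveI : PreservesFiniteLimits (CohSite.push J K u) :=
    (u.sheafAdjunctionContinuous AddCommGrpCat.{u} K J).rightAdjoint_preservesLimits.{0, 0}.preservesFiniteLimits
  haveI : PreservesFiniteLimits (CohSite.push K L w) :=
    (w.sheafAdjunctionContinuous AddCommGrpCat.{u} L K).rightAdjoint_preservesLimits.{0, 0}.preservesFiniteLimits
  refine Groth.Misc7.GSS.exists_composite (CohSite.push J K u) (CohSite.push K L w)
    (fun Q hQ q => ?_) M _ (fun n => ?_) (fun n hn => ?_)
    (fun p q => if 0 ≤ p ∧ 0 ≤ q then (CohSite.Rpush K L w p.toNat).obj ((CohSite.Rpush J K u q.toNat).obj M) else 0)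
    (fun p q => ?_) (fun p q h => ?_)
  · exact Groth.SiteCohomology.isZero_Rpush_of_subsingleton K L w _ (q + 1) fun V =>
      Groth.SiteCohomology.subsingleton_HU_push J K u q Q
        (fun W i => Abelian.Ext.subsingleton_of_injective _ _ i) (w.obj V)
  · obtain ⟨e⟩ := Groth.SiteCohomology.nonempty_rightDerived_comp_exact (CohSite.push J L (w ⋙ u)) (𝟭 _)
      (CohSite.push J K u ⋙ CohSite.push K L w)
      (Functor.sheafPushforwardContinuousComp' (Iso.refl (w ⋙ u)) AddCommGrpCat.{u} L K J ≪≫
        (Functor.rightUnitor _).symm) M n
    exact ⟨e ≪≫ eqToIso (by simp [CohSite.Rpush])⟩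
  · simp only [not_le.2 hn, if_false]; exact isZero_zero _
  · exact ⟨eqToIso (by simp [CohSite.Rpush])⟩
  · simp only [h, if_false]; exact isZero_zero _

end Groth.Agent.S6163
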