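import Groth.Statements.S6165
import Groth.Agent.SitesTopoi.Mod.TensorExact

set_option autoImplicit false
universe u
open CategoryTheory
open ModSite

namespace Groth.Agent.S6165

/-- Ringed topos of sheaves on a small site with commutative structure sheaf O; A = B = O: for every
O-module N the functor M |-> M (x)_O N on O-modules is a left adjoint, i.e. a right adjoint Hom_O(N,
-) (an internal hom functor) EXISTS, giving the tensor-hom adjunction Hom_O(M (x)_O N, P) = Hom_O(M,
Hom_O(N, P)) natural in M and P. Only the existence of a right adjoint is asserted and no particular
functor is pinned; `ModSite.sheafHom N` then denotes the chosen right adjoint, and statements about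
its values go through `ModSite.sheafHomAdj N`. -/
theorem result {C : Type u} [SmallCategory C] {J : GrothendieckTopology C}
    (O : Sheaf J CommRingCat.{u}) (N : ModSite.Mod O) : ModSite.HasSheafHom N := by
  exact Groth.SitesTopoi.ModH.hasSheafHom N

end Groth.Agent.S6165
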