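import Groth.Statements.S6166
import Groth.Agent.Misc7.SitePush.Basic

set_option autoImplicit false
universe u
open CategoryTheory
open CohSite

namespace Groth.Agent.S6166

open Groth.SiteCohomology CategoryTheory.Limits in
theorem aux {C D : Type u} [SmallCategory C] [SmallCategory D]
    (J : GrothendieckTopology C) (K : GrothendieckTopology D) (u' : D ⥤ C) [u'.IsContinuous K J]
    [PreservesFiniteLimits (u'.sheafPullback (Type u) K J)] (V : D) :
    ∀ (q : ℕ) (F : Sheaf J AddCommGrpCat.{u}),
      (∀ (U : C) (q : ℕ), Subsingleton (CohSite.HU F (q + 1) U)) →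
        Subsingleton (CohSite.HU ((CohSite.push J K u').obj F) (q + 1) V) := by
  intro q F hF
  have hS := injSES_shortExact F
  let P := CohSite.push J K u'
  haveI : Injective (injSES F).X₂ := inferInstanceAs (Injective (Injective.under F))
  haveI : PreservesFiniteLimits P :=
    haveI := (u'.sheafAdjunctionContinuous AddCommGrpCat.{u} K J).rightAdjoint_preservesLimits
    inferInstance
  have hsur : ∀ U : C, Function.Surjective ((injSES F).g.hom.app (Opposite.op U)) := fun U =>
    haveI : Subsingleton (CohSite.HU (injSES F).X₁ 1 U) := hF U 0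
    surjective_sections_of_subsingleton_HU hS U
  have hPS : ((injSES F).map P).ShortExact := by
    haveI := hS.mono_f
    haveI hm : Mono (P.map (injSES F).f) := P.map_mono _
    haveI he : Epi (P.map (injSES F).g) := by
      refine (Sheaf.isLocallySurjective_iff_epi' AddCommGrpCat.{u} _).1 ?_
      exact Presheaf.isLocallySurjective_of_surjective K _ fun W => hsur (u'.obj W.unop)
    exact ShortComplex.ShortExact.mk' (hS.exact.map_of_mono_of_preservesKernel P hS.mono_f inferInstance) hm he
  have hI : ∀ p : ℕ, Subsingleton (CohSite.HU ((injSES F).map P).X₂ (p + 1) V) := fun p =>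
    subsingleton_HU_of_totallyAcyclic K _
      (Groth.Misc7.SitePush.isTotallyAcyclic_push J K u' _
        (Groth.Misc7.SitePush.isTotallyAcyclic_of_injective J (injSES F).X₂)) V p
  cases q with
  | zero =>
    haveI : Subsingleton (Abelian.Ext (CohCx.freeSheaf K V) ((injSES F).map P).X₂ 1) := hI 0
    exact subsingleton_ext_one_left hPS (CohCx.freeSheaf K V)
      ((surjective_sections_iff_lift _).1 (hsur (u'.obj V)))
  | succ q =>
    haveI : Subsingleton (Abelian.Ext (CohCx.freeSheaf K V) ((injSES F).map P).X₂ (q + 1 + 1)) := hI (q + 1)
    have hQ : ∀ (U : C) (p : ℕ), Subsingleton (CohSite.HU (injSES F).X₃ (p + 1) U) := fun U p =>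
      haveI : Subsingleton (Abelian.Ext (CohCx.freeSheaf J U) (injSES F).X₁ (p + 1 + 1)) := hF U (p + 1)
      haveI : Subsingleton (Abelian.Ext (CohCx.freeSheaf J U) (injSES F).X₂ (p + 1)) :=
        subsingleton_HU_succ_of_injective _ U p
      subsingleton_ext_right hS (CohCx.freeSheaf J U) (p + 1)
    haveI : Subsingleton (Abelian.Ext (CohCx.freeSheaf K V) ((injSES F).map P).X₃ (q + 1)) :=
      aux J K u' V q _ hQ
    exact subsingleton_ext_left hPS (CohCx.freeSheaf K V) (q + 1)

open CategoryTheory.Limits in
/-- Let u : D -> C be a continuous functor between small sites with exact pullback on sheaves of sets (a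
morphism of topoi), and take the topologically generating families to be all objects of C, resp. of
D, so that the inverse image of the second lies in the first. For an abelian sheaf F on C: if H^q(U,
F) = 0 for all objects U of C and all q > 0, then H^q(V, u_* F) = 0 for all objects V of D and all q
> 0, where u_* F = F o u. -/
theorem result {C D : Type u} [SmallCategory C] [SmallCategory D]
    (J : GrothendieckTopology C) (K : GrothendieckTopology D) (u : D ⥤ C) [u.IsContinuous K J]
    [PreservesFiniteLimits (u.sheafPullback (Type u) K J)] (F : Sheaf J AddCommGrpCat.{u})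
    (hF : ∀ (U : C) (q : ℕ), Subsingleton (CohSite.HU F (q + 1) U)) (V : D) (q : ℕ) :
    Subsingleton (CohSite.HU ((CohSite.push J K u).obj F) (q + 1) V) :=
  aux J K u V q F hF

end Groth.Agent.S6166
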