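import Groth.Statements.S6170
import Groth.Agent.Misc4.FreeOn
-- import your own Groth.Agent.* helpers here

set_option autoImplicit false
universe u
open CategoryTheory
open ModSite

namespace Groth.Agent.S6170

/-- Ringed topos of sheaves on a small site with commutative structure sheaf O: the sections of the
internal hom Hom_O(M, N) over an object X form a group isomorphic to Hom_{O|X}(j_X^* M, j_X^* N).
Existence of an additive isomorphism only (the source's is canonical); the internal-hom binder
always holds. -/
theorem result {C : Type u} [SmallCategory C] {J : GrothendieckTopology C} (O : Sheaf J CommRingCat.{u})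
    (M N : ModSite.Mod O) [ModSite.HasSheafHom M] (X : C) :
    Nonempty (ModSite.sect ((ModSite.sheafHom M).obj N) X ≃+ ((ModSite.restr O X).obj M ⟶ (ModSite.restr O X).obj N)) := by
  exact Groth.Misc4.FreeOn.nonempty_sect_sheafHom X M

end Groth.Agent.S6170
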