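import Groth.Statements.S6172
import Mathlib.CategoryTheory.Comma.Over.Pullback
import Mathlib.CategoryTheory.Adjunction.Unique

set_option autoImplicit false
universe u
open CategoryTheory
open SGA4

namespace Groth.Agent.S6172

open CategoryTheory.Limits MonoidalCategory in
/-- Topos E of sheaves of sets on a small site, localised at an object Z: with j_Z : E/Z -> E the
localisation morphism, j_Z^* X = Z x X over Z, and j_{Z*} its right adjoint (taken as an instance
hypothesis, which holds in any topos), j_{Z*} j_Z^* Y is isomorphic to the internal hom Hom(Z, Y)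
for every object Y. Existence of an isomorphism only (the source's is canonical). -/
theorem result {C : Type u} [SmallCategory C] (J : GrothendieckTopology C)
    (Z Y : Sheaf J (Type u)) [(Over.star Z).IsLeftAdjoint] :
    Nonempty (((Over.star Z).rightAdjoint).obj ((Over.star Z).obj Y) ≅ (ihom Z).obj Y) := by
  open CategoryTheory.Limits MonoidalCategory in
  exact ⟨(Adjunction.rightAdjointUniq
    (Adjunction.ofNatIsoLeft ((Adjunction.ofIsLeftAdjoint (Over.star Z)).comp (Over.forgetAdjStar Z))
      ((NatIso.ofComponents (fun W => Iso.refl _) : Over.star Z ⋙ Over.forget Z ≅ prod.functor.obj Z) ≪≫ (CartesianMonoidalCategory.tensorLeftIsoProd Z).symm))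
    (ihom.adjunction Z)).app Y⟩

end Groth.Agent.S6172
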