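import Groth.Statements.S6173
import Groth.Agent.SitesTopoi.Topos.Giraud
import Mathlib.CategoryTheory.Sites.Point.Map
import Mathlib.CategoryTheory.Sites.Point.Conservative

set_option autoImplicit false
universe u
open CategoryTheory
open SGA4

namespace Groth.Agent.S6173

open Groth.SitesTopoi.Topos in
theorem isIso_of_locally {C : Type u} [SmallCategory C] {J : GrothendieckTopology C} {ι : Type u} {X : ι → C}
    (hX : J.CoversTop X) {F G : Sheaf J (Type u)} (f : F ⟶ G)
    (h : ∀ i, IsIso ((J.overPullback (Type u) (X i)).map f)) : IsIso f := by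
  have hb : ∀ (i : ι) {V : C}, (V ⟶ X i) → Function.Bijective (fun s : F.obj.obj (Opposite.op V) => ap f s) :=
    fun i {V} g => by
      have h₁ : IsIso ((sheafToPresheaf _ (Type u)).map ((J.overPullback (Type u) (X i)).map f)) :=
        (sheafToPresheaf _ (Type u)).map_isIso _
      exact (isIso_iff_bijective _).1 (NatIso.isIso_app_of_isIso
        ((sheafToPresheaf _ (Type u)).map ((J.overPullback (Type u) (X i)).map f)) (Opposite.op (Over.mk g)))
  refine isIso_of_bijective f fun U => ⟨fun a b e => sec_ext F (hX U) fun V g hg => ?_, fun z => ?_⟩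
  · obtain ⟨i, ⟨l⟩⟩ := hg
    exact (hb i l).1 ((ap_rs f g a).trans ((congrArg (rs G g) e).trans (ap_rs f g b).symm))
  · choose x hx using fun (V : C) (g : V ⟶ U) (hg : Sieve.ofObjects X U g) =>
      (hb hg.choose hg.choose_spec.some).2 (rs G g z)
    have hxc : Presieve.FamilyOfElements.Compatible (P := F.obj)
        (R := (Sieve.ofObjects X U : Presieve U)) (fun V g hg => x V g hg) := by
      intro V₁ V₂ W g₁ g₂ f₁ f₂ h₁ h₂ e
      change rs F g₁ (x V₁ f₁ h₁) = rs F g₂ (x V₂ f₂ h₂)
      refine (hb h₁.choose (g₁ ≫ h₁.choose_spec.some)).1 ?_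
      refine (ap_rs f g₁ _).trans ?_
      refine Eq.trans ?_ (ap_rs f g₂ _).symm
      rw [show ap f (x V₁ f₁ h₁) = rs G f₁ z from hx V₁ f₁ h₁, show ap f (x V₂ f₂ h₂) = rs G f₂ z from hx V₂ f₂ h₂,
        rs_rs, rs_rs, e]
    refine ⟨(Groth.SitesTopoi.Topos.isSheafFor (hX U)).amalgamate _ hxc, sec_ext G (hX U) fun V g hg => ?_⟩
    exact (ap_rs f g _).symm.trans ((congrArg (ap f)
      ((Groth.SitesTopoi.Topos.isSheafFor (X := F) (hX U)).valid_glue hxc g hg)).trans (hx V g hg))


/-- Second assertion (topos of sheaves on a small site (C, J); E/X_i the induced topoi, modelled by the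
sites (C/X_i, J/X_i); 'enough points' = a small conservative family of points, equivalently all
fibre functors together are conservative): if (X_i) is a family of objects covering the final object
and every E/X_i has enough points, then E has enough points. (The first assertion, that E/X inherits
enough points from E, is Mathlib's instance.) -/
theorem result {C : Type u} [SmallCategory C] (J : GrothendieckTopology C) {ι : Type u}
    (X : ι → C) (hX : J.CoversTop X) (h : ∀ i, GrothendieckTopology.HasEnoughPoints.{u} (J.over (X i))) :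
    GrothendieckTopology.HasEnoughPoints.{u} J := by
  classical
  choose P hPs hP using fun i => (h i).exists_objectProperty
  have : ∀ i, Small.{u} (Subtype (P i)) := hPs
  let pt : (Σ i : ι, Shrink.{u} (Subtype (P i))) → GrothendieckTopology.Point.{u} J :=
    fun q => ((equivShrink (Subtype (P q.1))).symm q.2).1.map (Over.forget (X q.1)) J
  refine ⟨ObjectProperty.ofObj pt, inferInstance, ⟨⟨fun {F G} f hf => ?_⟩⟩⟩
  refine isIso_of_locally hX f fun i => ?_
  refine @JointlyReflectIsomorphisms.isIso _ _ _ _ _ _ (hP i).jointlyReflectIsomorphisms_type _ _ _ fun Ψ => ?_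
  let q : Σ i : ι, Shrink.{u} (Subtype (P i)) := ⟨i, equivShrink _ ⟨Ψ.obj, Ψ.property⟩⟩
  have hq := hf ⟨pt q, ObjectProperty.ofObj_apply _ q⟩
  have e : pt q = Ψ.obj.map (Over.forget (X i)) J := by
    change ((equivShrink (Subtype (P i))).symm (equivShrink _ ⟨Ψ.obj, Ψ.property⟩)).1.map _ J = _
    rw [Equiv.symm_apply_apply]
  change IsIso ((pt q).sheafFiber.map f) at hq
  rw [e] at hq
  exact (NatIso.isIso_map_iff (Ψ.obj.sheafFiberMapIso (Over.forget (X i)) J (Type u)) f).1 hq

end Groth.Agent.S6173
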