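import Groth.Statements.S6177
import Groth.Agent.SitesTopoi.Topos.OpenClosed

set_option autoImplicit false
universe u
open CategoryTheory
open SGA4

namespace Groth.Agent.S6177

open CategoryTheory.Limits in
/-- Topos of sheaves of sets on a small site; U an open, i.e. a subobject of the final object; X_CU the
pushout of U <- U x X -> X along the two projections: (ii) <=> (iii): the canonical map X -> X_CU is
an isomorphism if and only if the projection U x X -> U is an isomorphism (X belongs to the closed
complement of U); and (i) => (iii): if X is isomorphic to Y_CU for some Y then X belongs to the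
closed complement of U ((iii) => (i) with Y = X is then immediate from (ii)). -/
theorem result {C : Type u} [SmallCategory C] (J : GrothendieckTopology C)
    (U : Sheaf J (Type u)) (hU : SGA4.IsOpen U) (X : Sheaf J (Type u)) :
    (SGA4.closedCompl U X ↔ IsIso (pushout.inr (prod.fst : U ⨯ X ⟶ U) (prod.snd : U ⨯ X ⟶ X))) ∧
    ((∃ Y : Sheaf J (Type u), Nonempty (X ≅ pushout (prod.fst : U ⨯ Y ⟶ U) (prod.snd : U ⨯ Y ⟶ Y))) →
      SGA4.closedCompl U X) := by
  open Groth.SitesTopoi.Topos in
  refine ⟨⟨fun h => isIso_toClosedPart hU h, fun h => ?_⟩, fun ⟨Y, ⟨e⟩⟩ => ?_⟩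
  · exact Groth.SitesTopoi.Topos.closedCompl_of_iso hU (@asIso _ _ _ _ _ h)
      (Groth.SitesTopoi.Topos.closedCompl_closedPart hU X)
  · exact Groth.SitesTopoi.Topos.closedCompl_of_iso hU e (Groth.SitesTopoi.Topos.closedCompl_closedPart hU Y)

end Groth.Agent.S6177
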