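import Groth.Statements.S6187
import Groth.Agent.DerivedCoh.RelAmp.Basic

set_option autoImplicit false
universe u
open CategoryTheory CategoryTheory.Limits AlgebraicGeometry
attribute [local instance] HasDerivedCategory.standard
open KSix

namespace Groth.Agent.S6187

/-- Case of schemes: let f : X ⟶ Y and g : Y ⟶ Z be morphisms of schemes with composite h, let n be a
natural number such that g has tor dimension at most n (the structure sheaf of Y has tor amplitude
in [-n, 0] relative to g, stalkwise), and let F be a cochain complex of O_X-modules with tor
amplitude in [a, b] relative to f (at every point x the complex of stalks F_x, over the local ring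
of Y at f(x), is isomorphic in the derived category to a complex of flat modules placed in [a, b]).
Then F has tor amplitude in [a - n, b] relative to h. (The published statement is for a commutative
triangle of ringed topoi in which X has enough points; this row is the case of schemes, with tor
amplitude relative to a morphism in its stalkwise form.) -/
theorem result {X Y Z : Scheme.{u}} (f : X ⟶ Y) (g : Y ⟶ Z) (h : X ⟶ Z)
    (w : f ≫ g = h) (n : ℕ) (hg : DerSch.HasTorDimLE g n) (F : CochainComplex X.Modules ℤ) (a b : ℤ)
    (hF : DerSch.HasTorAmplitude f a b F) :
    DerSch.HasTorAmplitude h (a - n) b F := by
  subst w
  exact Groth.DerivedCoh.RelAmp.hasTorAmplitude_comp f g n hg F a b hF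

end Groth.Agent.S6187
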