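import Groth.Statements.S6193
import Groth.Agent.DerivedCoh.RelAmp.PushAmp

set_option autoImplicit false
set_option linter.style.haveILetI false
universe u
open CategoryTheory CategoryTheory.Limits AlgebraicGeometry
attribute [local instance] HasDerivedCategory.standard
open KSix

namespace Groth.Agent.S6193

/-- Let f : X ⟶ Y be quasi-compact, quasi-separated and locally of finite tor dimension (the structure
sheaf of X is locally of finite tor amplitude relative to f, stalkwise), the derived direct image
being assumed to exist, and let E ∈ D(O_X), given by a cochain complex F, have bounded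
quasi-coherent cohomology. If E is locally of finite tor dimension in the absolute sense on X, then
Rf_* E is locally of finite tor dimension in the absolute sense on Y. -/
theorem result {X Y : Scheme.{u}} (f : X ⟶ Y) [QuasiCompact f] [QuasiSeparated f]
    [DCoh.HasRpush f] (hf : DerSch.LocFiniteTorDim f) (F : CochainComplex X.Modules ℤ)
    (hqc : DCoh.IsQCohD (DCoh.toD X F)) (c d : ℤ) [(DCoh.toD X F).IsGE c] [(DCoh.toD X F).IsLE d]
    (hE : DCoh.LocHasFiniteTorDim (DCoh.toD X F)) :
    DCoh.LocHasFiniteTorDim ((DCoh.Rpush f).obj (DCoh.toD X F)) := by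
  exact (Groth.DerivedCoh.RelAmp.locHasFiniteTorDim_iff_locAmp _).2
    (Groth.DerivedCoh.RelAmp.locAmp_Rpush f (𝟙 Y) f (Category.comp_id f) _ hqc d
      (Groth.DerivedCoh.RelAmp.locAmp_comp_id f hf
        ((Groth.DerivedCoh.RelAmp.locHasFiniteTorDim_iff_locAmp _).1 hE)))

end Groth.Agent.S6193
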