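import Groth.Statements.S6196
import Groth.Agent.S7009
import Groth.Agent.PropsBasic2.TildeExact
import Groth.Agent.DerivedCoh.PCohDescent.Main
import Groth.Agent.DerivedCoh.TildeD.Iff
import Groth.Agent.DerivedCoh.Fibre.Concentrated
import Groth.Agent.DerivedCoh.RelAmpTilde

set_option autoImplicit false
set_option linter.style.haveILetI false
open scoped TensorProduct
universe u
open CategoryTheory CategoryTheory.Limits AlgebraicGeometry
attribute [local instance] HasDerivedCategory.standard
open KSix

namespace Groth.Agent.S6196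

theorem finProj_ext {R S : Type u} [CommRing R] [CommRing S] (ρ : R →+* S) (E : DRing.Cx R)
    (h : DRing.TermwiseFiniteProjective E) : DRing.TermwiseFiniteProjective (Groth.DAlg.extCx ρ E) := by
  intro i
  let := ρ.toAlgebra
  have := (h i).1
  have := (h i).2
  exact ⟨(inferInstance : Module.Finite S (S ⊗[R] E.X i)), (inferInstance : Module.Projective S (S ⊗[R] E.X i))⟩


/-- Let X be a scheme, x ∈ X and P a perfect object of the derived category of the local ring of X at x.
Then there are an open neighbourhood U of x and a cochain complex F' of O_X-modules, perfect over U,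
whose complex of stalks at x is isomorphic to P in that derived category. (The published statement
is for a point of a ringed topos; this row is the case of schemes, the complex being taken on all of
X and asked to be perfect over U.) -/
theorem result {X : Scheme.{u}} (x : X) (P : Dual.D ((X.presheaf.stalk x) : Type u))
    (hP : DRing.IsPerfect ((X.presheaf.stalk x) : Type u) P) :
    ∃ (U : X.Opens) (F' : CochainComplex X.Modules ℤ), x ∈ U ∧
      DCoh.IsPerfect (DerivedCategory.Q.obj ((DCoh.restrictCx U).obj F')) ∧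
      Nonempty (DRing.toD (((DerSch.stalkFunctor X x).mapHomologicalComplex (ComplexShape.up ℤ)).obj F') ≅ P) := by
  open Groth.DAlg in
  haveI : ∀ B : CommRingCat.{u}, PreservesFiniteLimits (tilde.functor B) := fun B =>
    Groth.PropsBasic2.preservesFiniteLimits_tilde B
  let F := (TopologicalSpace.OpenNhds.inclusion x).op ⋙ X.presheaf
  haveI : ∀ j, DRing.HasLBaseChange ((colimit.cocone F).ι.app j).hom := fun _ => hasLBaseChange _
  obtain ⟨j, K, ⟨E, a, b, hE, hEP, ⟨eE⟩⟩, ⟨eK⟩⟩ :=
    Groth.Agent.S7009.result F (colimit.cocone F) (colimit.isColimit F) P hP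
  let W : X.Opens := j.unop.1
  obtain ⟨V, hV, hxV, hVW'⟩ := exists_isAffineOpen_mem_and_subset (U := W) (x := x) j.unop.2
  have hVW : V ≤ W := hVW'
  let g := hV.fromSpec
  obtain ⟨y, rfl⟩ : ∃ y, g y = x := by
    have : x ∈ Set.range g := by rw [hV.range_fromSpec]; exact hxV
    exact this
  let ρ := (X.presheaf.map (homOfLE hVW).op).hom
  let B := Γ(X, V)
  let E₁ : DRing.Cx B := extCx ρ E
  have hE₁P : DRing.TermwiseFiniteProjective E₁ := finProj_ext ρ E hEP
  have hE₁ : DRing.VanishesOutside E₁ a b := fun i hi => (ModuleCat.extendScalars _).map_isZero (hE i hi)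
  let C := ((tilde.functor B).mapHomologicalComplex (ComplexShape.up ℤ)).obj E₁
  have hC : DCoh.IsStrictlyPerfect C := Groth.DerivedCoh.TildeD.isStrictlyPerfect_tilde hE₁ hE₁P
  let F' := ((Scheme.Modules.pushforward g).mapHomologicalComplex (ComplexShape.up ℤ)).obj C
  let ec : Scheme.Modules.pushforward g ⋙ Scheme.Modules.restrictFunctor g ≅ 𝟭 _ :=
    asIso (Scheme.Modules.restrictAdjunction g).counit
  let eC : (Groth.KTheory.Perf.Rc g).obj F' ≅ C :=
    (Functor.mapHomologicalComplexCompIso ec (ComplexShape.up ℤ)).app C ≪≫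
      (Functor.mapHomologicalComplexIdIso _ _).app C
  refine ⟨V, F', hxV, ?_, ?_⟩
  · obtain ⟨c⟩ := Groth.KTheory.Perf.nonempty_rdComp (k := hV.isoSpec.hom) (j := g) (l := V.ι)
      (by rw [hV.isoSpec_hom, ← hV.toSpecΓ_fromSpec]) (DCoh.toD X F')
    exact Groth.KTheory.Perf.isPerfect_of_iso
      (((Groth.KTheory.Perf.Rd hV.isoSpec.hom).mapIso (Groth.KTheory.Perf.rdQIso g F' ≪≫
        DerivedCategory.Q.mapIso eC).symm ≪≫ c.symm ≪≫ Groth.KTheory.Perf.rdQIso V.ι F'))
      (Groth.DerivedCoh.PCohDescent.isPerfect_rd _ (Groth.DerivedCoh.Fibre.isPerfect_toD hC))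
  · let σ := Groth.DerivedCoh.StalkAmp.stalkInv g y
    let β := (Groth.Agent.S1121.toStalkRing y).hom
    have hg : σ.comp β = (X.presheaf.germ V (g y) hxV).hom := by
      rw [← CommRingCat.hom_comp]
      refine congrArg CommRingCat.Hom.hom ?_
      rw [IsIso.comp_inv_eq, Scheme.Hom.germ_stalkMap, hV.fromSpec_app_self, Category.assoc,
        TopCat.Presheaf.germ_res]
      rfl
    have hρ : (σ.comp β).comp ρ = ((colimit.cocone F).ι.app j).hom := by
      rw [hg, ← CommRingCat.hom_comp]
      refine congrArg CommRingCat.Hom.hom ?_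
      exact X.presheaf.germ_res (homOfLE hVW) (g y) hxV
    let eS : ((DerSch.stalkFunctor X (g y)).mapHomologicalComplex (ComplexShape.up ℤ)).obj F' ≅
        extCx σ (extCx β E₁) :=
      ((Functor.mapHomologicalComplexCompIso (Groth.DerivedCoh.StalkAmp.stkRestrictIso g y)
          (ComplexShape.up ℤ)).app F').symm ≪≫
        ((Groth.DerivedCoh.KFlat.stk y ⋙ ModuleCat.extendScalars σ).mapHomologicalComplex
          (ComplexShape.up ℤ)).mapIso eC ≪≫
        (Functor.mapHomologicalComplexCompIso (Iso.refl (Groth.DerivedCoh.KFlat.stk y ⋙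
          ModuleCat.extendScalars σ)) (ComplexShape.up ℤ)).symm.app C ≪≫
        ((ModuleCat.extendScalars σ).mapHomologicalComplex (ComplexShape.up ℤ)).mapIso
          ((Functor.mapHomologicalComplexCompIso (Groth.Agent.S1121.tildeStkIso y)
            (ComplexShape.up ℤ)).app E₁)
    let eT : extCx σ (extCx β E₁) ≅ extCx ((colimit.cocone F).ι.app j).hom E :=
      (Functor.mapHomologicalComplexCompIso ((ModuleCat.extendScalarsComp β σ).symm) (ComplexShape.up ℤ)).app E₁ ≪≫
      (Functor.mapHomologicalComplexCompIso ((ModuleCat.extendScalarsComp ρ (σ.comp β)).symm ≪≫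
        eqToIso (congrArg ModuleCat.extendScalars.{u, u, u} hρ)) (ComplexShape.up ℤ)).app E
    have hEf : DRing.TermwiseFlat E := fun i => haveI := (hEP i).2; inferInstance
    obtain ⟨eL⟩ := nonempty_lBaseChangeFlatIso ((colimit.cocone F).ι.app j).hom E
      (fun i hi => hE i (Or.inr hi)) hEf
    exact ⟨DerivedCategory.Q.mapIso (eS ≪≫ eT) ≪≫ eL.symm ≪≫
      (DRing.LBaseChange _).mapIso eE ≪≫ eK⟩

end Groth.Agent.S6196
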