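import Groth.Agent.RelPC.Rel
import Groth.Statements.S6204
-- import your own Groth.Agent.* helpers here

set_option autoImplicit false
universe u
open CategoryTheory CategoryTheory.Limits AlgebraicGeometry
attribute [local instance] HasDerivedCategory.standard
open KSix

namespace Groth.Agent.S6204

open CategoryTheory.Pretriangulated in
/-- Let f : X ⟶ Y be locally of finite type, n an integer, and E ⟶ F ⟶ G ⟶ E⟦1⟧ a distinguished triangle
of D(O_X); all pseudo-coherence is relative to f, in chart form. If E is (n+1)-pseudo-coherent and F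
is n-pseudo-coherent then G is n-pseudo-coherent; if E and G are n-pseudo-coherent then so is F; if
F is n-pseudo-coherent and G is (n-1)-pseudo-coherent then E is n-pseudo-coherent. -/
theorem result {X Y : Scheme.{u}} (f : X ⟶ Y) [LocallyOfFiniteType f] (n : ℤ)
    (T : Triangle (DCoh.D X)) (hT : T ∈ distinguishedTriangles) :
    (DerSch.IsPseudoCoherentRel f (n + 1) T.obj₁ → DerSch.IsPseudoCoherentRel f n T.obj₂ →
        DerSch.IsPseudoCoherentRel f n T.obj₃) ∧
      (DerSch.IsPseudoCoherentRel f n T.obj₁ → DerSch.IsPseudoCoherentRel f n T.obj₃ →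
        DerSch.IsPseudoCoherentRel f n T.obj₂) ∧
      (DerSch.IsPseudoCoherentRel f n T.obj₂ → DerSch.IsPseudoCoherentRel f (n - 1) T.obj₃ →
        DerSch.IsPseudoCoherentRel f n T.obj₁) := by
  refine ⟨Groth.RelPC.rel_obj₃ T hT, Groth.RelPC.rel_obj₂ T hT, fun h₂ h₃ => ?_⟩
  have := Groth.RelPC.rel_obj₁ (m := n - 1) T hT (by rwa [sub_add_cancel]) h₃
  rwa [sub_add_cancel] at this

end Groth.Agent.S6204
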