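import Groth.Agent.RelPC.Cancel
import Groth.Statements.S6205
-- import your own Groth.Agent.* helpers here

set_option autoImplicit false
universe u
open CategoryTheory CategoryTheory.Limits AlgebraicGeometry
attribute [local instance] HasDerivedCategory.standard
open KSix

namespace Groth.Agent.S6205

/-- Let f : X ⟶ Y and g : Y ⟶ Z be locally of finite type, a and b integers, and E an object of D(O_X)
which is a-pseudo-coherent relative to f ≫ g (chart form) and acyclic in degrees above b. If g is (a
+ 1 - b)-pseudo-coherent (O_Y placed in degree 0 is (a + 1 - b)-pseudo-coherent relative to g), then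
E is a-pseudo-coherent relative to f. -/
theorem result {X Y Z : Scheme.{u}} (f : X ⟶ Y) (g : Y ⟶ Z)
    [LocallyOfFiniteType f] [LocallyOfFiniteType g] (a b : ℤ) (E : DCoh.D X) [E.IsLE b]
    (hE : DerSch.IsPseudoCoherentRel (f ≫ g) a E) (hg : DerSch.IsNPseudoCoherent g (a + 1 - b)) :
    DerSch.IsPseudoCoherentRel f a E := by
  exact Groth.RelPC.rel_cancel f g a b E hE hg

end Groth.Agent.S6205
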