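import Groth.Agent.RelPC.Rel
import Groth.Statements.S7215
-- import your own Groth.Agent.* helpers here

set_option autoImplicit false
universe u
open CategoryTheory CategoryTheory.Limits AlgebraicGeometry Opposite TopologicalSpace
attribute [local instance] HasDerivedCategory.standard
open FlatMor

namespace Groth.Agent.S7215

/-- Let f : X ⟶ S be a morphism of schemes, m an integer, and F a cochain complex of O_X-modules which
vanishes in degrees above some b and whose term F^i, viewed in degree 0 of D(O_X), is (m -
i)-pseudo-coherent relative to f for every i (chart form; in particular f is locally of finite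
type). Then the class of F is m-pseudo-coherent relative to f. (Stated for a complex bounded above
by one degree b on all of X; the published statement also allows a bound that varies locally on X.) -/
theorem result {X S : Scheme.{u}} (f : X ⟶ S) (m : ℤ)
    (F : CochainComplex X.Modules ℤ) (b : ℤ) (hb : ∀ i : ℤ, b < i → IsZero (F.X i))
    (h : ∀ i : ℤ, DerSch.IsPseudoCoherentRel f (m - i) (DCoh.inD X (F.X i))) :
    DerSch.IsPseudoCoherentRel f m (DCoh.toD X F) := by
  haveI := (h 0).1
  refine Groth.PCohPunctual.termwise_induction (fun L => DerSch.IsPseudoCoherentRel f m L)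
    (fun _ _ e h => Groth.RelPC.rel_of_iso e h) (fun T hT h₁ h₃ => Groth.RelPC.rel_obj₂ T hT h₁ h₃) m
    (fun G hG => Groth.RelPC.rel_of_below fun k hk => ?_) F b hb fun k _ => ?_
  · exact ((HomologicalComplex.exactAt_iff_isZero_homology _ _).1 (.of_isZero (hG k hk))).of_iso
      ((DerivedCategory.homologyFunctorFactors _ k).app G)
  · exact Groth.RelPC.rel_of_iso (Groth.PCohPunctual.singleShiftIso (F.X k) k)
      (Groth.RelPC.rel_shift (h k) (-k) m (by omega))

end Groth.Agent.S7215
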