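import Groth.Statements.S6218
import Groth.Agent.S6201
import Groth.Agent.S6191
import Groth.Agent.DerivedCoh.StalkAmp.Perfect

set_option autoImplicit false
universe u
open CategoryTheory CategoryTheory.Limits AlgebraicGeometry
attribute [local instance] HasDerivedCategory.standard
open KSix

namespace Groth.Agent.S6218

/-- Let i : X ⟶ Y be a closed immersion, g : Y ⟶ S smooth, a and b integers, and F a cochain complex of
O_X-modules such that the termwise direct image i_* F has perfect amplitude in [a, b] on Y in the
absolute sense (locally isomorphic in D to a complex of finite locally free modules placed in [a,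
b]). Then F has perfect amplitude in [a, b] relative to i ≫ g (pseudo-coherent relative to it in
chart form, with stalkwise tor amplitude in [a, b] over the local rings of S). -/
theorem result {X Y S : Scheme.{u}} (i : X ⟶ Y) [IsClosedImmersion i]
    (g : Y ⟶ S) [Smooth g] (a b : ℤ) (F : CochainComplex X.Modules ℤ)
    (hF : KSix.HasPerfectAmplitudeIn a b (DCoh.toD Y (((Scheme.Modules.pushforward i).mapHomologicalComplex (ComplexShape.up ℤ)).obj F))) :
    DerSch.HasPerfAmplitudeRel (i ≫ g) a b F := by
  have h := (Groth.DerivedCoh.StalkAmp.hasPerfectAmplitudeIn_iff _ a b).1 hF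
  have hp : DCoh.IsPerfect (DCoh.toD Y
      (((Scheme.Modules.pushforward i).mapHomologicalComplex (ComplexShape.up ℤ)).obj F)) :=
    (Groth.KTheory.Perf.isPerfect_iff _).2 fun y => by
      obtain ⟨V, hy, E, h0, hfl, e⟩ := h y
      exact ⟨V, hy, E, ⟨⟨a, b, h0⟩, hfl⟩, e⟩
  refine ⟨fun m => (Groth.Agent.S6201.result i g m F).2
    (Groth.DerivedCoh.PCoh.isPseudoCoherentD_of_isPerfect hp m), Groth.Agent.S6191.result i g F a b ?_⟩
  refine Groth.DerivedCoh.StalkAmp.flatAmp_of_local fun y => ?_
  obtain ⟨V, hy, E, h0, hfl, ⟨e⟩⟩ := h y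
  exact ⟨V, hy, E, h0, fun j => Groth.DerivedCoh.PCoh.isFlat_of_isFinLocFree (hfl j), ⟨e.symm⟩⟩

end Groth.Agent.S6218
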