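import Groth.Statements.S6219
import Groth.Agent.S6201
import Groth.Agent.DerivedCoh.RelAmp.SmoothPush
import Groth.Agent.DerivedCoh.StalkAmp.Perfect

set_option autoImplicit false
universe u
open CategoryTheory CategoryTheory.Limits AlgebraicGeometry
attribute [local instance] HasDerivedCategory.standard
open KSix

namespace Groth.Agent.S6219

/-- Let i : X ⟶ Y be a closed immersion, g : Y ⟶ S smooth of relative dimension at most d (every point
of Y has an open neighbourhood on which g is smooth of some relative dimension n ≤ d), a and b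
integers, and F a cochain complex of O_X-modules with perfect amplitude in [a, b] relative to i ≫ g
(pseudo-coherent relative to it in chart form, with stalkwise tor amplitude in [a, b] over the local
rings of S). Then the termwise direct image i_* F has perfect amplitude in [a - d, b] on Y in the
absolute sense (locally isomorphic in D to a complex of finite locally free modules placed in [a -
d, b]). -/
theorem result {X Y S : Scheme.{u}} (i : X ⟶ Y) [IsClosedImmersion i]
    (g : Y ⟶ S) [Smooth g] (d : ℕ)
    (hd : ∀ y : Y, ∃ (n : ℕ) (V : Y.Opens), n ≤ d ∧ y ∈ V ∧ SmoothOfRelativeDimension n (V.ι ≫ g))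
    (a b : ℤ) (F : CochainComplex X.Modules ℤ) (hF : DerSch.HasPerfAmplitudeRel (i ≫ g) a b F) :
    KSix.HasPerfectAmplitudeIn (a - d) b (DCoh.toD Y (((Scheme.Modules.pushforward i).mapHomologicalComplex (ComplexShape.up ℤ)).obj F)) := by
  have hflat := Groth.DerivedCoh.RelAmp.flatAmp_push i g F (fun y => by
    obtain ⟨n, V, hn, hyV, hV⟩ := hd y
    haveI := hV
    exact (Groth.DerivedCoh.RelAmp.ampUp_stalk_of_open g V n hyV).mono hn) hF.2
  rcases le_or_gt (a - (d : ℤ)) b with hab | hab
  · exact (Groth.DerivedCoh.StalkAmp.perfectAmplitude_iff _ _ _ hab).2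
      ⟨(Groth.Agent.S6201.result i g _ F).1 (hF.1 _), hflat⟩
  · obtain ⟨E, h0, -, ⟨e⟩⟩ := hflat
    refine (Groth.DerivedCoh.StalkAmp.hasPerfectAmplitudeIn_iff _ _ _).2 fun y =>
      ⟨⊤, trivial, (Groth.KTheory.Perf.Rc (⊤ : Y.Opens).ι).obj E,
        fun j hj => Groth.KTheory.Perf.rc_isZero _ (h0 j hj),
        fun j => Groth.KTheory.LocFree.isFinLocFree_zero (Groth.KTheory.Perf.rc_isZero _ (h0 j (by omega))),
        ⟨(Groth.KTheory.Perf.Rd (⊤ : Y.Opens).ι).mapIso e.symm ≪≫ Groth.KTheory.Perf.rdQIso _ E⟩⟩

end Groth.Agent.S6219
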