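import Groth.Statements.S6225
import Groth.Agent.RelPC.NPC
import Groth.Agent.S6935

set_option autoImplicit false
universe u
open CategoryTheory CategoryTheory.Limits AlgebraicGeometry
attribute [local instance] HasDerivedCategory.standard
open KSix

namespace Groth.Agent.S6225

open Groth.RelPC in
open Groth.KTheory.Perf (Rd rdQIso) in
theorem pcD_neg_one_iff {X Y : Scheme.{u}} {U : X.Opens} {V : Y.Opens} (hU : IsAffineOpen U) {n : ℕ}
    (φ : MvPolynomial (Fin n) Γ(Y, V) →+* Γ(X, U)) (hs : Function.Surjective φ)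
    [IsClosedImmersion (DerSch.chartImm U φ)] :
    DCoh.IsPseudoCoherentD (-1) ((Pd (DerSch.chartImm U φ)).obj
        ((Rd U.ι).obj (DCoh.inD X (Coh.structureModule X)))) ↔ (RingHom.ker φ).FG := by
  let := φ.toAlgebra
  have := Groth.PropsBasic2.preservesFiniteLimits_tilde (R := CommRingCat.of (MvPolynomial (Fin n) Γ(Y, V)))
  have := Groth.DerivedCoh.TildeD.preservesFiniteColimits (MvPolynomial (Fin n) Γ(Y, V))
  have := IsClosedImmersion.spec_of_surjective (CommRingCat.ofHom φ) hs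
  have : IsIso U.toSpecΓ := hU.isoSpec_hom ▸ inferInstance
  obtain ⟨s⟩ := nonempty_rdPd_square (Spec.map (CommRingCat.ofHom φ)) (DerSch.chartImm U φ) (𝟙 _) U.toSpecΓ
    (by rw [Category.comp_id]; rfl) (fun x _ => ⟨(inv U.toSpecΓ) x, by
      rw [← Scheme.Hom.comp_apply, IsIso.inv_hom_id]; rfl⟩) (DCoh.inD _ (Coh.structureModule (Spec Γ(X, U))))
  let eO : (Rd U.toSpecΓ).obj (DCoh.inD _ (Coh.structureModule (Spec Γ(X, U)))) ≅
      (Rd U.ι).obj (DCoh.inD X (Coh.structureModule X)) :=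
    Groth.DerivedCoh.PCoh.rdInDIso U.toSpecΓ _ ≪≫ (DerivedCategory.singleFunctor _ 0).mapIso
      (Scheme.Modules.restrictUnitIso U.toSpecΓ ≪≫ (Scheme.Modules.restrictUnitIso U.ι).symm) ≪≫
      (Groth.DerivedCoh.PCoh.rdInDIso U.ι _).symm
  obtain ⟨e⟩ := nonempty_push_structure_iso φ
  let e₁ := ((tilde.functor (CommRingCat.of (MvPolynomial (Fin n) Γ(Y, V)))).mapDerivedCategoryFactors.app _) ≪≫
      DerivedCategory.Q.mapIso ((HomologicalComplex.singleMapHomologicalComplex
          (tilde.functor (CommRingCat.of (MvPolynomial (Fin n) Γ(Y, V))))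
        (ComplexShape.up ℤ) 0).app (ModuleCat.of (MvPolynomial (Fin n) Γ(Y, V)) Γ(X, U)) ≪≫
        (HomologicalComplex.single (Spec (CommRingCat.of (MvPolynomial (Fin n) Γ(Y, V)))).Modules
          (ComplexShape.up ℤ) 0).mapIso e.symm)
  have h1 : DCoh.IsPseudoCoherentD (-1) ((Pd (DerSch.chartImm U φ)).obj
      ((Rd U.ι).obj (DCoh.inD X (Coh.structureModule X)))) ↔
      DCoh.IsPseudoCoherentD (-1) ((Pd (Spec.map (CommRingCat.ofHom φ))).obj
        (DCoh.inD _ (Coh.structureModule (Spec Γ(X, U))))) := by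
    rw [← pcD_rd_iso_iff (𝟙 _) (-1) (K := (Pd (Spec.map (CommRingCat.ofHom φ))).obj
        (DCoh.inD _ (Coh.structureModule (Spec Γ(X, U)))))]
    exact ⟨fun h => Groth.DerivedCoh.PCoh.isPseudoCoherentD_of_iso ((Pd _).mapIso eO.symm ≪≫ s.symm) h,
      fun h => Groth.DerivedCoh.PCoh.isPseudoCoherentD_of_iso (((Pd _).mapIso eO.symm ≪≫ s.symm).symm) h⟩
  have h2 : DCoh.IsPseudoCoherentD (-1) ((Pd (Spec.map (CommRingCat.ofHom φ))).obj
        (DCoh.inD _ (Coh.structureModule (Spec Γ(X, U))))) ↔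
      DRing.IsPseudoCoherentModule (MvPolynomial (Fin n) Γ(Y, V)) (-1) Γ(X, U) := by
    refine Iff.trans ?_ (Groth.DerivedCoh.TildeD.isPseudoCoherentD_tildeD_iff _ _)
    exact ⟨fun h => Groth.DerivedCoh.PCoh.isPseudoCoherentD_of_iso
        ((pdInDIso (Spec.map (CommRingCat.ofHom φ)) _) ≪≫ e₁.symm) h,
      fun h => Groth.DerivedCoh.PCoh.isPseudoCoherentD_of_iso
        (((pdInDIso (Spec.map (CommRingCat.ofHom φ)) _) ≪≫ e₁.symm).symm) h⟩
  rw [h1, h2, (Groth.Agent.S6935.result _ _).2]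
  let l := Algebra.linearMap (MvPolynomial (Fin n) Γ(Y, V)) Γ(X, U)
  exact ⟨fun h => Module.FinitePresentation.fg_ker l hs,
    fun h => Module.finitePresentation_of_surjective l hs h⟩

/-- Last assertion: a morphism f : X ⟶ Y locally of finite type is (-1)-pseudo-coherent (O_X placed in
degree 0 is (-1)-pseudo-coherent relative to f, in chart form) if and only if f is locally of finite
presentation. -/
theorem result {X Y : Scheme.{u}} (f : X ⟶ Y) [LocallyOfFiniteType f] :
    DerSch.IsNPseudoCoherent f (-1) ↔ LocallyOfFinitePresentation f := by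
  have e : DCoh.inD X (Coh.structureModule X) ≅ DCoh.toD X (DerSch.unitCx X) :=
    (DerivedCategory.singleFunctorIsoCompQ _ 0).app _
  constructor
  · intro h
    refine ⟨fun {V} hV {U} hU hh => ?_⟩
    obtain ⟨n, φ, hφ⟩ := Groth.RelPC.exists_chart (f := f) hh (f.finiteType_appLE hV hU hh)
    have := Groth.RelPC.isClosedImmersion_chartImm hU φ hφ.1
    have hker := (pcD_neg_one_iff hU φ hφ.1).1
      (Groth.RelPC.pcD_chart_of_rel (Groth.RelPC.rel_of_iso e.symm h) hU hV hφ)
    rw [← hφ.2]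
    exact RingHom.FinitePresentation.comp (RingHom.FinitePresentation.of_surjective φ hφ.1 hker)
      (RingHom.finitePresentation_algebraMap.2 inferInstance)
  · intro h
    refine Groth.RelPC.rel_of_iso e (Groth.RelPC.rel_map fun U V n φ hh _ hφ => ?_)
    refine (pcD_neg_one_iff U.2 φ hφ.1).2 ?_
    let := (f.appLE V.1 U.1 hh).hom.toAlgebra
    have : Algebra.FinitePresentation Γ(Y, V.1) Γ(X, U.1) := f.finitePresentation_appLE V.2 U.2 hh
    exact Algebra.FinitePresentation.ker_fG_of_surjective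
      ({ φ with commutes' := fun r => RingHom.congr_fun hφ.2 r } : MvPolynomial (Fin n) Γ(Y, V.1) →ₐ[Γ(Y, V.1)] Γ(X, U.1))
      hφ.1

end Groth.Agent.S6225
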