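import Groth.Statements.S6226
import Groth.Agent.S12090
import Groth.Agent.PicAux.Pullback

set_option autoImplicit false
set_option linter.style.haveILetI false
universe u
open CategoryTheory CategoryTheory.Limits AlgebraicGeometry
attribute [local instance] HasDerivedCategory.standard
open KSix

namespace Groth.Agent.S6226

/-- Last clause: for a flat base change: let f : X ⟶ Y be locally of finite type and n-pseudo-coherent
(O_X placed in degree 0 is n-pseudo-coherent relative to f, chart form) and h : Y' ⟶ Y flat. Then
the base change X ×_Y Y' ⟶ Y' of f is n-pseudo-coherent. (The published statement assumes only that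
X and Y' are tor-independent over Y; this row takes h flat, which implies that condition.) -/
theorem result {X Y Y' : Scheme.{u}} (f : X ⟶ Y) [LocallyOfFiniteType f] (n : ℤ)
    (hf : DerSch.IsNPseudoCoherent f n) (h : Y' ⟶ Y) [Flat h] :
    DerSch.IsNPseudoCoherent (pullback.snd f h) n := by
  haveI := hf.1
  haveI := Groth.DerivedCoh.KFlat.hasLpull (pullback.fst f h)
  have hs := Groth.Agent.S12090.result f h n _ hf
  refine Groth.RelPC.rel_of_iso ?_ hs
  set g := pullback.fst f h
  haveI : Flat g := MorphismProperty.of_isPullback (IsPullback.of_hasPullback f h).flip inferInstance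
  haveI := Groth.PrinPartsAux.preservesFiniteLimits_pullback g
  haveI := (Scheme.Modules.pullbackPushforwardAdjunction g).leftAdjoint_preservesColimits
  haveI : (Scheme.Modules.pullback g).Additive :=
    Adjunction.left_adjoint_additive (Scheme.Modules.pullbackPushforwardAdjunction g)
  haveI := Groth.PicAux.isIso_pullUnit g
  refine (Groth.RelPC.nonempty_Lpull_exact g _).some ≪≫
    (Scheme.Modules.pullback g).mapDerivedCategoryFactors.app _ ≪≫ DerivedCategory.Q.mapIso ?_
  exact (HomologicalComplex.singleMapHomologicalComplex _ (ComplexShape.up ℤ) 0).app _ ≪≫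
    (HomologicalComplex.single _ (ComplexShape.up ℤ) 0).mapIso (asIso (Groth.PicAux.pullUnit g))

end Groth.Agent.S6226
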