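import Groth.Statements.S6229
import Groth.Agent.RelPC.Compose
import Groth.Agent.RelPC.NPC
import Groth.Agent.DerivedCoh.RelAmp.Pullback

set_option autoImplicit false
set_option linter.style.haveILetI false
universe u
open CategoryTheory CategoryTheory.Limits AlgebraicGeometry
attribute [local instance] HasDerivedCategory.standard
open KSix

namespace Groth.Agent.S6229

/-- Let f : X ⟶ Y and g : Y ⟶ Z be locally of finite type, m a natural number with f of perfect
dimension at most m (O_X placed in degree 0 is pseudo-coherent relative to f in chart form, with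
stalkwise tor amplitude in [-m, 0] over the local rings of Y), c and d integers, and G a cochain
complex of O_Y-modules with perfect amplitude in [c, d] relative to g. Then, the derived pullback
Lf^* being assumed to exist, Lf^* G has perfect amplitude in [c - m, d] relative to f ≫ g: every
cochain complex representing it does. -/
theorem result {X Y Z : Scheme.{u}} (f : X ⟶ Y) (g : Y ⟶ Z)
    [LocallyOfFiniteType f] [LocallyOfFiniteType g] (m : ℕ) (hf : DerSch.HasPerfDimLE f m) [DCoh.HasLpull f] (c d : ℤ)
    (G : CochainComplex Y.Modules ℤ) (hG : DerSch.HasPerfAmplitudeRel g c d G) :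
    ∀ F' : CochainComplex X.Modules ℤ, Nonempty (DCoh.toD X F' ≅ (DCoh.Lpull f).obj (DCoh.toD Y G)) →
      DerSch.HasPerfAmplitudeRel (f ≫ g) (c - m) d F' := by
  intro F' hF'
  obtain ⟨e⟩ := hF'
  refine ⟨fun k => ?_, ?_⟩
  · have hq : DCoh.IsQCohD (DCoh.toD Y G) := fun i => Groth.RelPC.isQCoh_hd_of_rel (hG.1 (i - 1)) (by omega)
    exact Groth.RelPC.rel_of_iso e.symm (Groth.RelPC.rel_Lpull f
      ((Groth.PCohHom.morPC_iff f).2 (Groth.RelPC.pcMor_of_npc f fun n => hf.1 n)) g hq (hG.1 k))
  · have h := Groth.DerivedCoh.RelAmp.hasTorAmplitudeD_Lpull f g (-(m : ℤ)) 0 hf.2 G c d hG.2 F' ⟨e⟩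
    rw [show c - (m : ℤ) = -(m : ℤ) + c by omega]
    simpa only [zero_add] using h

end Groth.Agent.S6229
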