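import Groth.Statements.S6230
import Groth.Agent.S12090
import Groth.Agent.DerivedCoh.RelAmp.FlatBC

set_option autoImplicit false
set_option linter.style.haveILetI false
universe u
open CategoryTheory CategoryTheory.Limits AlgebraicGeometry
attribute [local instance] HasDerivedCategory.standard
open KSix

namespace Groth.Agent.S6230

/-- For a flat base change: let f : X ⟶ Y be locally of finite type, h : Y' ⟶ Y flat, X' = X ×_Y Y' with
projections g : X' ⟶ X and f' : X' ⟶ Y', a and b integers, and F a cochain complex of O_X-modules
with perfect amplitude in [a, b] relative to f (pseudo-coherent relative to f in chart form,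
stalkwise tor amplitude in [a, b] over the local rings of Y). Then, the derived pullback Lg^* being
assumed to exist, Lg^* F has perfect amplitude in [a, b] relative to f': every cochain complex
representing it does. (The published statement assumes only that X and Y' are tor-independent over
Y; this row takes h flat, which implies that condition.) -/
theorem result {X Y Y' : Scheme.{u}} (f : X ⟶ Y) [LocallyOfFiniteType f]
    (h : Y' ⟶ Y) [Flat h] [DCoh.HasLpull (pullback.fst f h)] (a b : ℤ) (F : CochainComplex X.Modules ℤ)
    (hF : DerSch.HasPerfAmplitudeRel f a b F) :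
    ∀ F' : CochainComplex (pullback f h).Modules ℤ,
      Nonempty (DCoh.toD (pullback f h) F' ≅ (DCoh.Lpull (pullback.fst f h)).obj (DCoh.toD X F)) →
        DerSch.HasPerfAmplitudeRel (pullback.snd f h) a b F' := by
  intro F' hF'
  obtain ⟨e⟩ := hF'
  refine ⟨fun k => Groth.RelPC.rel_of_iso e.symm (Groth.Agent.S12090.result f h k _ (hF.1 k)), ?_⟩
  exact Groth.DerivedCoh.RelAmp.hasTorAmplitudeD_of_rep (pullback.snd f h) _
    (Groth.DerivedCoh.RelAmp.lpullResIso (pullback.fst f h) F).symm
    (Groth.DerivedCoh.RelAmp.hasTorAmplitude_pullCx (IsPullback.of_hasPullback f h) _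
      (Groth.DerivedCoh.RelAmp.hasTorAmplitude_res f hF.2)) F' ⟨e⟩

end Groth.Agent.S6230
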