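import Groth.Statements.S7175
import Groth.Agent.PCohHom.MorPerf
import Groth.Agent.DerivedCoh.PCoh.ModuleFP
import Groth.Agent.DerivedCoh.PCoh.Perfect
import Groth.Agent.KTheory.PerfCoh
import Groth.Agent.QCohMod.FTCriterion
import Groth.Agent.QCohMod.QCQS
import Groth.Agent.LocFree.Affine

set_option autoImplicit false
universe u
attribute [local instance] HasDerivedCategory.standard

open AlgebraicGeometry CategoryTheory CategoryTheory.Limits TensorProduct

namespace Groth.Agent.S7175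

open Groth.KTheory.Perf Groth.PCohHom Groth.DAlg Groth.KoszulLCI PCohPunctual

/-- Perfection is invariant under semilinear equivalences. -/
theorem perf_of_semilinear {R R' M M' : Type u} [CommRing R] [CommRing R'] [AddCommGroup M] [Module R M]
    [AddCommGroup M'] [Module R' M'] (σ : R ≃+* R') (e : M ≃+ M') (he : ∀ r m, e (r • m) = σ r • e m)
    (h : DRing.IsPerfectModule R M) : DRing.IsPerfectModule R' M' := by
  let _ := σ.toRingHom.toAlgebra
  have : Module.Flat R R' :=
    Module.Flat.of_linearEquiv (LinearEquiv.ofBijective (Algebra.linearMap R R') σ.bijective).symm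
  let _ : Module R M' := Module.compHom M' σ.toRingHom
  have : IsScalarTower R R' M' := IsScalarTower.of_algebraMap_smul fun _ _ => rfl
  let e' : M →ₗ[R] M' := { e.toAddMonoidHom with map_smul' := he }
  let χ : R' ⊗[R] M →ₗ[R'] M' := e'.liftBaseChange R'
  have hinv : ∀ z, (1 : R') ⊗ₜ[R] e.symm (χ z) = z := fun z => by
    induction z with
    | zero => simp
    | add a b ha hb => rw [map_add, map_add, tmul_add, ha, hb]
    | tmul a m =>
      obtain ⟨r, rfl⟩ := σ.surjective a
      have : χ (σ r ⊗ₜ[R] m) = e (r • m) := by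
        rw [LinearMap.liftBaseChange_tmul, he]; rfl
      rw [this, AddEquiv.symm_apply_apply, tmul_smul, smul_tmul']
      congr 1
      exact Algebra.algebraMap_eq_smul_one r |>.symm
  have hbij : Function.Bijective χ :=
    ⟨Function.LeftInverse.injective (g := fun y => (1 : R') ⊗ₜ[R] e.symm y) hinv,
      fun y => ⟨1 ⊗ₜ e.symm y, by simp [χ, e']⟩⟩
  exact isPerfectModule_congr (LinearEquiv.ofBijective χ hbij) (perf_baseChange (S := R') M h)

variable {X : Scheme.{u}} [IsAffine X]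

/-- A quasi-coherent module on an affine scheme with perfect sections is perfect. -/
theorem isPerfect_of_sections : ∀ (d : ℕ) (M : X.Modules), M.IsQuasicoherent →
    DRing.IsPseudoCoherentModule' Γ(X, ⊤) Γ(M, (⊤ : X.Opens)) →
    DRing.HasTorAmplitudeIn Γ(X, ⊤) (-(d : ℤ)) 0 (Dual.inD Γ(X, ⊤) Γ(M, (⊤ : X.Opens))) →
    DCoh.IsPerfect (DCoh.inD X M)
  | 0, M, hq, hpc, h => by
    have : Module.FinitePresentation Γ(X, ⊤) Γ(M, (⊤ : X.Opens)) :=
      (pcn_neg_one_mD_iff (ModuleCat.of Γ(X, ⊤) Γ(M, (⊤ : X.Opens)))).1 ((pc_iff.1 hpc) 1)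
    have : Module.Flat Γ(X, ⊤) Γ(M, (⊤ : X.Opens)) :=
      flat_of_torAmp_zero (M := ModuleCat.of Γ(X, ⊤) Γ(M, (⊤ : X.Opens))) (TorAmp.mono h (by simp) le_rfl)
    exact isPerfect_inD_of_finLocFree (Groth.LocFree.isFinLocFree_of_affine_cover fun x =>
      ⟨⊤, isAffineOpen_top X, trivial, inferInstance, Module.Flat.projective_of_finitePresentation⟩)
  | d + 1, M, hq, hpc, h => by
    obtain ⟨G, hG⟩ := Groth.QCohMod.exists_generators_of_finite M ((pc_iff.1 hpc) 0).finite
    let π : Groth.LocFree.freeOn X G.I ⟶ M := G.π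
    have : Epi π := G.epi
    have hF := Groth.DerivedCoh.PCoh.isFinLocFree_freeOn (X := X) G.I
    obtain ⟨hFq, hFa⟩ := Groth.LocFree.isFinLocFree_iff_affine.1 hF
    let S := ShortComplex.mk (kernel.ι π) π (kernel.condition π)
    have hS : S.ShortExact := { exact := ShortComplex.exact_of_f_is_kernel _ (kernelIsKernel π) }
    have : S.X₂.IsQuasicoherent := hFq
    have : S.X₃.IsQuasicoherent := hq
    have : Mono S.f := hS.mono_f
    have hKq : (kernel π).IsQuasicoherent := Groth.QCohMod.isQCoh_of_mono_exact hS.exact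
    let i := Groth.QCohMod.appₗ (kernel.ι π) (⊤ : X.Opens)
    let p := Groth.QCohMod.appₗ π (⊤ : X.Opens)
    have hi : Function.Injective i := Groth.QCohMod.app_injective_of_mono (kernel.ι π) ⊤
    have hp : Function.Surjective p := Groth.QCohMod.app_surjective_of_epi π (isAffineOpen_top X)
    have hex : Function.Exact i p := fun y => by
      constructor
      · intro hy
        exact Groth.QCohMod.exists_app_eq_of_mono_exact (S := S) hS.exact ⊤ y hy
      · rintro ⟨x, rfl⟩
        exact congr(($(kernel.condition π)).app (⊤ : X.Opens) x)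
    obtain ⟨_, _⟩ := hFa ⊤ (isAffineOpen_top X)
    have hFpc : DRing.IsPseudoCoherentModule' Γ(X, ⊤) Γ(Groth.LocFree.freeOn X G.I, (⊤ : X.Opens)) :=
      (perf_iff.1 (isPerfectModule_of_finite_projective _)).1
    have hKpc : DRing.IsPseudoCoherentModule' Γ(X, ⊤) Γ(kernel π, (⊤ : X.Opens)) := pc_iff.2 fun n =>
      fpk_ker (i := i) (π := p) hi hex hp ((pc_iff.1 hFpc) n) ((pc_iff.1 hpc) (n + 1))
    have hKt := (hasTorAmp_succ_iff (i := i) (π := p) hi hex hp d).1 h
    exact isPerfect_obj₃ hS.singleTriangle hS.singleTriangle_distinguished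
      (isPerfect_of_sections d _ hKq hKpc hKt) (isPerfect_inD_of_finLocFree hF)

/-- The sections of a restriction. -/
theorem restrict_sections {Y : Scheme.{u}} (M : Y.Modules) (W : Y.Opens)
    (h : DRing.IsPerfectModule Γ(Y, W.ι ''ᵁ ⊤) Γ(M, W.ι ''ᵁ ⊤)) :
    DRing.IsPerfectModule Γ(W, ⊤) Γ(M.restrict W.ι, (⊤ : (W : Scheme.{u}).Opens)) := by
  refine perf_of_semilinear (W.ι.appIso ⊤).commRingCatIsoToRingEquiv
    (M.restrictAppIso W.ι ⊤).symm.addCommGroupIsoToAddEquiv (fun r m => ?_) h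
  exact ConcreteCategory.congr_hom (M.smul_restrictAppIso_inv W.ι ⊤ r) m

set_option backward.isDefEq.respectTransparency false in
set_option backward.isDefEq.respectTransparency.types false in
/-- The sections of the pushforward of the structure sheaf. -/
theorem push_sections {Z Y : Scheme.{u}} (i : Z ⟶ Y) [IsClosedImmersion i] (hi : MoreMor.IsPerfectMor i)
    (V : Y.Opens) (hV : IsAffineOpen V) :
    DRing.IsPerfectModule Γ(Y, V) Γ((Coh.push i).obj (Coh.structureModule Z), V) := by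
  have hP := hi (i ⁻¹ᵁ V) V (hV.preimage i) hV le_rfl
  let _ := (i.appLE V (i ⁻¹ᵁ V) le_rfl).hom.toAlgebra
  have hs : Function.Surjective (algebraMap Γ(Y, V) Γ(Z, i ⁻¹ᵁ V)) := by
    show Function.Surjective (i.appLE V (i ⁻¹ᵁ V) le_rfl).hom
    rw [Scheme.Hom.appLE_eq_app]
    exact i.app_surjective V hV
  let φ : MvPolynomial (Fin 0) Γ(Y, V) →ₐ[Γ(Y, V)] Γ(Z, i ⁻¹ᵁ V) :=
    (Algebra.ofId _ _).comp (MvPolynomial.isEmptyAlgEquiv Γ(Y, V) (Fin 0)).toAlgHom
  have h1 := (perfHom_iff φ (hs.comp (MvPolynomial.isEmptyAlgEquiv Γ(Y, V) (Fin 0)).surjective)).1 hP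
  have h2 : PerfAlong (algebraMap Γ(Y, V) Γ(Z, i ⁻¹ᵁ V)) := by
    have := (perfAlong_bijective (MvPolynomial.isEmptyAlgEquiv Γ(Y, V) (Fin 0)).symm.toRingEquiv.toRingHom
      (MvPolynomial.isEmptyAlgEquiv Γ(Y, V) (Fin 0)).symm.bijective).comp h1
    convert this using 1
    exact RingHom.ext fun a => ((φ.commutes a).symm.trans (by simp))
  have h3 : DRing.IsPerfectModule Γ(Y, V) Γ(Z, i ⁻¹ᵁ V) := perfAlong_algebraMap.1 h2
  refine perf_of_semilinear (RingEquiv.refl _) (AddEquiv.refl Γ(Z, i ⁻¹ᵁ V)) (fun r m => ?_) h3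
  show (i.appLE V (i ⁻¹ᵁ V) le_rfl).hom r * m = _
  rw [Scheme.Hom.appLE_eq_app]
  rfl

open AlgebraicGeometry CategoryTheory Limits in
/-- For a perfect closed immersion i : Z → X, the O_X-module i_* O_Z is a perfect object of D(O_X). -/
theorem result {Z X : Scheme.{u}} (i : Z ⟶ X) [IsClosedImmersion i]
    (hi : MoreMor.IsPerfectMor i) :
    DCoh.IsPerfect (DCoh.inD X ((Coh.push i).obj (Coh.structureModule Z))) := by
  rw [isPerfect_iff]
  intro x
  obtain ⟨W, hWa, hxW⟩ := Groth.QCohMod.exists_affine_mem x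
  have : IsAffine (W : Scheme.{u}) := hWa
  let M := (Coh.push i).obj (Coh.structureModule Z)
  have hq : M.IsQuasicoherent := Groth.QCohMod.isQCoh_pushforward _ i
  have h1 := restrict_sections M W (push_sections i hi _ ((isAffineOpen_top _).image_of_isOpenImmersion W.ι))
  obtain ⟨hpc, htor⟩ := perf_iff.1 h1
  obtain ⟨d, hd⟩ := (hasFiniteTorDim_iff _).1 htor
  have hq' : (M.restrict W.ι).IsQuasicoherent := Scheme.Modules.isQuasicoherent_restrictFunctor W.ι M
  obtain ⟨V, hxV, E, hE, ⟨e⟩⟩ := (isPerfect_iff _).1 (isPerfect_of_sections d _ hq' hpc hd) ⟨x, hxW⟩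
  obtain ⟨c⟩ := nonempty_rdComp (k := V.ι) (j := W.ι) (l := V.ι ≫ W.ι) rfl (DCoh.inD X M)
  exact ⟨(V.ι ≫ W.ι).opensRange, ⟨⟨⟨x, hxW⟩, hxV⟩, rfl⟩, perfOn_of_range _ hE
    (c ≪≫ (Rd V.ι).mapIso
      (((Scheme.Modules.restrictFunctor W.ι).mapDerivedCategorySingleFunctor 0).app M) ≪≫ e)⟩

end Groth.Agent.S7175
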