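import Groth.Statements.S6237
import Groth.Agent.S7175
import Groth.Agent.KoszulLCI.Immersion
import Groth.Agent.KoszulLCI.Perfect

set_option autoImplicit false
universe u
open CategoryTheory CategoryTheory.Limits AlgebraicGeometry
attribute [local instance] HasDerivedCategory.standard
open KSix

namespace Groth.Agent.S6237

/-- Let i : Z ⟶ X be a closed immersion which is Koszul-regular (around every point the ideal of Z in an
affine open of X is generated by a finite sequence whose Koszul complex is acyclic in positive
degrees). Then i_*O_Z placed in degree 0 is a perfect object of D(O_X); in particular it is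
pseudo-coherent. -/
theorem result {Z X : Scheme.{u}} (i : Z ⟶ X)
    [IsClosedImmersion i] (hi : RegImm.IsRegularImmersion RegImm.Kind.koszul i) :
    DCoh.IsPerfect (DCoh.inD X ((Scheme.Modules.pushforward i).obj (Coh.structureModule Z))) := by
  have hp : MoreMor.IsPerfectMor i := by
    intro U V hU hV hUV
    let _ := (i.appLE V U hUV).hom.toAlgebra
    exact Groth.KoszulLCI.isPerfectHom_of_isLCI
      ((Groth.KoszulLCI.morLCI_iff i).mp (Groth.KoszulLCI.morLCI_of_isRegularImmersion i hi) U V hU hV hUV)
  exact Groth.Agent.S7175.result i hp

end Groth.Agent.S6237
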