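import Groth.Statements.S6238
import Groth.Agent.DerivedCoh.RelAmp.PerfDim
import Groth.Agent.KoszulLCI.Immersion
import Groth.Agent.KoszulLCI.Perfect
import Groth.Agent.KoszulLCI.TorPolynomial
import Mathlib.RingTheory.Localization.BaseChange

set_option autoImplicit false
set_option backward.isDefEq.respectTransparency false

universe u
open CategoryTheory CategoryTheory.Limits AlgebraicGeometry
attribute [local instance] HasDerivedCategory.standard
open KSix

namespace Groth.Agent.S6238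

attribute [local instance] HasDerivedCategory.standard

/-- The tor amplitude of a local ring of a closed subscheme cut out on a chart by a Koszul-regular
sequence. -/
theorem torAmp_stalk {Z X : Scheme.{u}} (i : Z ⟶ X) (d : ℕ) (z : Z) (U : X.affineOpens)
    (hz : i z ∈ U.1) (hci : IsClosedImmersion (i ∣_ U.1)) (rs : List Γ(X, U.1)) (hlen : rs.length = d)
    (hrs : LCI.IsKoszulRegularSeq Γ(X, U.1) rs) (hker : RingHom.ker (i.app U.1).hom = Ideal.ofList rs) :
    letI := (i.stalkMap z).hom.toAlgebra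
    DRing.HasTorAmplitudeIn (X.presheaf.stalk (i z)) (-(d : ℤ)) 0
      (Dual.inD (X.presheaf.stalk (i z)) (Z.presheaf.stalk z)) := by
  let _ := (i.stalkMap z).hom.toAlgebra
  have hs : Function.Surjective (i.app U.1).hom := Groth.KoszulReg.surjective_app i U.1 U.2
  have hUZ : IsAffineOpen (i ⁻¹ᵁ U.1) := Groth.KoszulReg.isAffineOpen_preimage i U.1 U.2
  letI aA : Algebra Γ(X, U.1) Γ(Z, i ⁻¹ᵁ U.1) := (i.app U.1).hom.toAlgebra
  letI aP : Algebra Γ(X, U.1) (X.presheaf.stalk (i z)) :=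
    TopCat.Presheaf.algebra_section_stalk X.presheaf (⟨i z, hz⟩ : U.1)
  letI aZ : Algebra Γ(Z, i ⁻¹ᵁ U.1) (Z.presheaf.stalk z) :=
    TopCat.Presheaf.algebra_section_stalk Z.presheaf (⟨z, hz⟩ : (i ⁻¹ᵁ U.1 : Z.Opens))
  letI aAZ : Algebra Γ(X, U.1) (Z.presheaf.stalk z) :=
    ((algebraMap Γ(Z, i ⁻¹ᵁ U.1) (Z.presheaf.stalk z)).comp (i.app U.1).hom).toAlgebra
  haveI : IsScalarTower Γ(X, U.1) Γ(Z, i ⁻¹ᵁ U.1) (Z.presheaf.stalk z) :=
    .of_algebraMap_eq fun _ => rfl
  have hnat : ∀ a, algebraMap Γ(X, U.1) (Z.presheaf.stalk z) a =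
      (i.stalkMap z).hom (algebraMap Γ(X, U.1) (X.presheaf.stalk (i z)) a) := fun a =>
    (ConcreteCategory.congr_hom (i.germ_stalkMap U.1 z hz) a).symm
  haveI : IsScalarTower Γ(X, U.1) (X.presheaf.stalk (i z)) (Z.presheaf.stalk z) :=
    .of_algebraMap_eq hnat
  let p : Ideal Γ(X, U.1) := (U.2.primeIdealOf ⟨i z, hz⟩).asIdeal
  let q : Ideal Γ(Z, i ⁻¹ᵁ U.1) := (hUZ.primeIdealOf ⟨z, hz⟩).asIdeal
  haveI hlP : IsLocalization.AtPrime (X.presheaf.stalk (i z)) p := U.2.isLocalization_stalk ⟨i z, hz⟩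
  haveI hlZ : IsLocalization.AtPrime (Z.presheaf.stalk z) q := hUZ.isLocalization_stalk ⟨z, hz⟩
  have hpq : ∀ a, a ∈ p ↔ (i.app U.1).hom a ∈ q := fun a => by
    rw [← not_iff_not,
      show a ∉ p ↔ a ∈ p.primeCompl from Iff.rfl,
      show (i.app U.1).hom a ∉ q ↔ (i.app U.1).hom a ∈ q.primeCompl from Iff.rfl,
      ← IsLocalization.AtPrime.isUnit_to_map_iff (X.presheaf.stalk (i z)) p a,
      ← IsLocalization.AtPrime.isUnit_to_map_iff (Z.presheaf.stalk z) q,
      show algebraMap Γ(Z, i ⁻¹ᵁ U.1) (Z.presheaf.stalk z) ((i.app U.1).hom a) =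
        (i.stalkMap z).hom (algebraMap Γ(X, U.1) (X.presheaf.stalk (i z)) a) from hnat a]
    exact ⟨fun h => h.map _, fun h => IsUnit.of_map (i.stalkMap z).hom _ h⟩
  have hsub : Algebra.algebraMapSubmonoid Γ(Z, i ⁻¹ᵁ U.1) p.primeCompl = q.primeCompl := by
    ext b
    refine ⟨?_, fun hb => ?_⟩
    · rintro ⟨a, ha, rfl⟩; exact fun h => ha ((hpq a).mpr h)
    · obtain ⟨a, rfl⟩ := hs b
      exact ⟨a, fun h => hb ((hpq a).mp h), rfl⟩
  haveI : IsLocalization (Algebra.algebraMapSubmonoid Γ(Z, i ⁻¹ᵁ U.1) p.primeCompl)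
      (Z.presheaf.stalk z) := by rw [hsub]; exact hlZ
  haveI hloc : IsLocalizedModule p.primeCompl
      (IsScalarTower.toAlgHom Γ(X, U.1) Γ(Z, i ⁻¹ᵁ U.1) (Z.presheaf.stalk z)).toLinearMap :=
    isLocalizedModule_iff_isLocalization.mpr ‹_›
  have hbc : IsBaseChange (X.presheaf.stalk (i z))
      (IsScalarTower.toAlgHom Γ(X, U.1) Γ(Z, i ⁻¹ᵁ U.1) (Z.presheaf.stalk z)).toLinearMap :=
    (isLocalizedModule_iff_isBaseChange p.primeCompl _ _).mp hloc
  haveI : Module.Flat Γ(X, U.1) (X.presheaf.stalk (i z)) := IsLocalization.flat _ p.primeCompl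
  let e₀ : (Γ(X, U.1) ⧸ Ideal.ofList rs) ≃ₗ[Γ(X, U.1)] Γ(Z, i ⁻¹ᵁ U.1) :=
    (Submodule.quotEquivOfEq _ _ hker.symm).trans
      ((Algebra.linearMap Γ(X, U.1) Γ(Z, i ⁻¹ᵁ U.1)).quotKerEquivOfSurjective hs)
  have h1 := (Groth.KoszulLCI.perfect_quotient_of_isKoszulRegularSeq rs hrs).2
  rw [hlen] at h1
  exact Groth.KoszulLCI.hasTorAmp_congr hbc.equiv
    (Groth.KoszulLCI.hasTorAmp_baseChange (X.presheaf.stalk (i z)) _
      (Groth.KoszulLCI.hasTorAmp_congr e₀ h1))

/-- An immersion i : Z ⟶ X which is Koszul-regular of codimension d (around every point, over an affine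
open of X on which i is a closed immersion, the ideal is generated by d sections whose Koszul
complex is acyclic in positive degrees) has perfect dimension at most d: O_Z placed in degree 0 is
pseudo-coherent relative to i (chart form) with stalkwise tor amplitude in [-d, 0] over the local
rings of X. -/
theorem result {Z X : Scheme.{u}} (i : Z ⟶ X) (d : ℕ)
    (hi : RegImm.IsRegularImmersionOfCodim RegImm.Kind.koszul d i) :
    DerSch.HasPerfDimLE i d := by
  haveI : IsImmersion i := hi.1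
  have hlci := Groth.KoszulLCI.morLCI_of_isRegularImmersion i ⟨hi.1, fun z => by
    obtain ⟨U, hz, hci, rs, -, hseq, hker⟩ := hi.2 z
    exact ⟨U, hz, hci, rs, hseq, hker⟩⟩
  have hpc : MoreMor.IsPseudoCoherentMor i := by
    intro U V hU hV hUV
    let _ := (i.appLE V U hUV).hom.toAlgebra
    exact (Groth.KoszulLCI.isPerfectHom_of_isLCI
      ((Groth.KoszulLCI.morLCI_iff i).mp hlci U V hU hV hUV)).1
  refine ⟨fun m => (Groth.RelPC.rel_abs_iff i hpc m _).2 ?_, fun z => ?_⟩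
  · exact Groth.DerivedCoh.PCoh.isPseudoCoherentD_of_iso
      ((DerivedCategory.singleFunctorIsoCompQ _ 0).app _)
      (Groth.DerivedCoh.PCoh.isPseudoCoherentD_of_isPerfect
        (Groth.DerivedCoh.PCoh.isPerfect_inD (Groth.LocFree.isFinLocFree_unit Z)) m)
  · obtain ⟨U, hz, hci, rs, hlen, hseq, hker⟩ := hi.2 z
    exact (Groth.Misc13.TorDimFactor.hasTorAmplitudeAt_unit_iff i z _ _).2
      (torAmp_stalk i d z U hz hci rs hlen hseq hker)

end Groth.Agent.S6238
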