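import Groth.Statements.S6240
import Groth.Agent.DerivedCoh.RelAmp.Tensor

set_option autoImplicit false
universe u
open CategoryTheory CategoryTheory.Limits AlgebraicGeometry
attribute [local instance] HasDerivedCategory.standard
open KSix

namespace Groth.Agent.S6240

/-- Let f : X ⟶ Y and g : Y ⟶ Z be morphisms of schemes with composite h, F a cochain complex of
O_X-modules with tor amplitude in [a, b] relative to f, and G a cochain complex of O_Y-modules with
tor amplitude in [c, d] relative to g (both stalkwise: at every point the complex of stalks is
isomorphic, in the derived category of the local ring of the base, to a complex of flat modules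
placed in the interval). Then, the derived pullback Lf^* and the derived tensor product with F being
assumed to exist, the object Lf^* G ⊗^L F of D(O_X) has tor amplitude in [a + c, b + d] relative to
h: every cochain complex representing it has stalkwise flat models placed in [a + c, b + d] over the
local rings of Z. (The published statement is for a commutative triangle of ringed topoi in which X
has enough points, and writes the relative derived tensor product of F and G over Y, defined as F
⊗^L Lf^* G; this row is the case of schemes, with tor amplitude in its stalkwise form and the
derived tensor product taken with F as the fixed right-hand factor.) -/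
theorem result {X Y Z : Scheme.{u}} (f : X ⟶ Y) (g : Y ⟶ Z)
    (h : X ⟶ Z) (w : f ≫ g = h) (F : CochainComplex X.Modules ℤ) (a b : ℤ)
    (hF : DerSch.HasTorAmplitude f a b F) (G : CochainComplex Y.Modules ℤ) (c d : ℤ)
    (hG : DerSch.HasTorAmplitude g c d G) [DCoh.HasLpull f] [DCoh.HasLTensorCx F] :
    DerSch.HasTorAmplitudeD h (a + c) (b + d)
      ((DCoh.LTensorCx F).obj ((DCoh.Lpull f).obj (DCoh.toD Y G))) := by
  subst w
  exact Groth.DerivedCoh.RelAmp.hasTorAmplitudeD_ltensor f g F a b hF G c d hG

end Groth.Agent.S6240
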