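import Groth.Statements.S6259
import Groth.Agent.RelPC.ExternalPC

set_option autoImplicit false
set_option linter.style.haveILetI false
set_option linter.unusedVariables false
universe u
open CategoryTheory CategoryTheory.Limits AlgebraicGeometry
attribute [local instance] HasDerivedCategory.standard
open KSix

namespace Groth.Agent.S6259

/-- Let S be a scheme and, for i = 1, 2, f_i : X_i ⟶ Y_i a morphism of S-schemes (structure morphisms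
q_i : Y_i ⟶ S), with X₂ and Y₂ flat over S; let X = X₁ ×_S X₂ and Y = Y₁ ×_S Y₂ be given by pullback
squares, with projections p₁ : X ⟶ X₁, p₂ : X ⟶ X₂, and f : X ⟶ Y the morphism compatible with the
projections; assume f₁ and f₂ locally of finite type. Let E_i ∈ D⁻(O_{X_i}), given by a cochain
complex, have quasi-coherent cohomology, be a_i-pseudo-coherent relative to f_i (chart form) and
acyclic in degrees > b_i. The external derived tensor product E₁ ⊗^L_S E₂ = Lp₁^* E₁ ⊗^L Lp₂^* E₂ is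
written, the derived pullbacks being assumed to exist, as Lp₁^* E₁ ⊗^L K₂ for any cochain complex K₂
representing Lp₂^* E₂ for which the derived tensor product exists. Then E₁ ⊗^L_S E₂ is
a-pseudo-coherent relative to f and acyclic in degrees > b, with a = max(a₁ + b₂, a₂ + b₁) and b =
b₁ + b₂. (The published statement assumes only that X₁, X₂ and Y₁, Y₂ are tor-independent over S;
this row takes X₂ and Y₂ flat over S, which implies both conditions.) -/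
theorem result {S X₁ Y₁ X₂ Y₂ X Y : Scheme.{u}} (f₁ : X₁ ⟶ Y₁) (q₁ : Y₁ ⟶ S)
    (f₂ : X₂ ⟶ Y₂) (q₂ : Y₂ ⟶ S) [Flat q₂] [Flat (f₂ ≫ q₂)]
    (pX₁ : X ⟶ X₁) (pX₂ : X ⟶ X₂) (hX : IsPullback pX₁ pX₂ (f₁ ≫ q₁) (f₂ ≫ q₂))
    (pY₁ : Y ⟶ Y₁) (pY₂ : Y ⟶ Y₂) (hY : IsPullback pY₁ pY₂ q₁ q₂)
    (f : X ⟶ Y) (hf₁ : f ≫ pY₁ = pX₁ ≫ f₁) (hf₂ : f ≫ pY₂ = pX₂ ≫ f₂)
    [LocallyOfFiniteType f₁] [LocallyOfFiniteType f₂]
    (E₁ : CochainComplex X₁.Modules ℤ) (a₁ b₁ : ℤ)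
    (hq₁ : DCoh.IsQCohD (DCoh.toD X₁ E₁)) (hpc₁ : DerSch.IsPseudoCoherentRel f₁ a₁ (DCoh.toD X₁ E₁))
    [(DCoh.toD X₁ E₁).IsLE b₁]
    (E₂ : CochainComplex X₂.Modules ℤ) (a₂ b₂ : ℤ)
    (hq₂ : DCoh.IsQCohD (DCoh.toD X₂ E₂)) (hpc₂ : DerSch.IsPseudoCoherentRel f₂ a₂ (DCoh.toD X₂ E₂))
    [(DCoh.toD X₂ E₂).IsLE b₂] [DCoh.HasLpull pX₁] [DCoh.HasLpull pX₂] :
    ∀ (K₂ : CochainComplex X.Modules ℤ) [DCoh.HasLTensorCx K₂],
      Nonempty (DCoh.toD X K₂ ≅ (DCoh.Lpull pX₂).obj (DCoh.toD X₂ E₂)) →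
        DerSch.IsPseudoCoherentRel f (max (a₁ + b₂) (a₂ + b₁)) ((DCoh.LTensorCx K₂).obj ((DCoh.Lpull pX₁).obj (DCoh.toD X₁ E₁))) ∧
          (((DCoh.LTensorCx K₂).obj ((DCoh.Lpull pX₁).obj (DCoh.toD X₁ E₁)))).IsLE (b₁ + b₂) := by
  intro K₂ _ hK₂
  obtain ⟨e⟩ := hK₂
  exact Groth.RelPC.rel_external f₁ q₁ f₂ q₂ pX₁ pX₂ hX pY₁ pY₂ hY f hf₁ hf₂ hpc₁
    (fun k hk => DerivedCategory.isZero_of_isLE _ b₁ k (by omega)) hq₂ hpc₂
    (fun k hk => DerivedCategory.isZero_of_isLE _ b₂ k (by omega)) K₂ e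

end Groth.Agent.S6259
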