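import Groth.Statements.S6262
import Groth.Agent.RelPC.ExternalPC

set_option autoImplicit false
set_option linter.style.haveILetI false
set_option linter.unusedVariables false
universe u
open CategoryTheory CategoryTheory.Limits AlgebraicGeometry
attribute [local instance] HasDerivedCategory.standard
open KSix

namespace Groth.Agent.S6262

/-- Flat second factor: let S be a scheme and, for i = 1, 2, f_i : X_i ⟶ Y_i a morphism of S-schemes
(structure morphisms q_i : Y_i ⟶ S), with X₂ and Y₂ flat over S; let X = X₁ ×_S X₂ and Y = Y₁ ×_S Y₂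
be given by pullback squares, with projections p₁ : X ⟶ X₁, p₂ : X ⟶ X₂, and f : X ⟶ Y the morphism
compatible with the projections; assume f₁ and f₂ locally of finite type. Let E_i be a cochain
complex of O_{X_i}-modules with perfect amplitude in [a_i, b_i] relative to f_i (pseudo-coherent
relative to f_i in chart form and of stalkwise tor amplitude in [a_i, b_i] over the local rings of
Y_i). The external derived tensor product E₁ ⊗^L_S E₂ = Lp₁^* E₁ ⊗^L Lp₂^* E₂ is written, the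
derived pullbacks being assumed to exist, as Lp₁^* E₁ ⊗^L K₂ for any cochain complex K₂ representing
Lp₂^* E₂ for which the derived tensor product exists. Then E₁ ⊗^L_S E₂ has perfect amplitude in [a₁
+ a₂, b₁ + b₂] relative to f: every cochain complex representing it does; in particular f-perfect
when E₁, E₂ are f₁-, f₂-perfect. (The published statement assumes only that X₁, X₂ and Y₁, Y₂ are
tor-independent over S; this row takes X₂ and Y₂ flat over S, which implies both conditions.) -/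
theorem result {S X₁ Y₁ X₂ Y₂ X Y : Scheme.{u}} (f₁ : X₁ ⟶ Y₁) (q₁ : Y₁ ⟶ S)
    (f₂ : X₂ ⟶ Y₂) (q₂ : Y₂ ⟶ S) [Flat q₂] [Flat (f₂ ≫ q₂)]
    (pX₁ : X ⟶ X₁) (pX₂ : X ⟶ X₂) (hX : IsPullback pX₁ pX₂ (f₁ ≫ q₁) (f₂ ≫ q₂))
    (pY₁ : Y ⟶ Y₁) (pY₂ : Y ⟶ Y₂) (hY : IsPullback pY₁ pY₂ q₁ q₂)
    (f : X ⟶ Y) (hf₁ : f ≫ pY₁ = pX₁ ≫ f₁) (hf₂ : f ≫ pY₂ = pX₂ ≫ f₂)
    [LocallyOfFiniteType f₁] [LocallyOfFiniteType f₂]
    (E₁ : CochainComplex X₁.Modules ℤ) (a₁ b₁ : ℤ) (h₁ : DerSch.HasPerfAmplitudeRel f₁ a₁ b₁ E₁)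
    (E₂ : CochainComplex X₂.Modules ℤ) (a₂ b₂ : ℤ) (h₂ : DerSch.HasPerfAmplitudeRel f₂ a₂ b₂ E₂)
    [DCoh.HasLpull pX₁] [DCoh.HasLpull pX₂] :
    ∀ (K₂ : CochainComplex X.Modules ℤ) [DCoh.HasLTensorCx K₂],
      Nonempty (DCoh.toD X K₂ ≅ (DCoh.Lpull pX₂).obj (DCoh.toD X₂ E₂)) →
        ∀ K : CochainComplex X.Modules ℤ, Nonempty (DCoh.toD X K ≅ ((DCoh.LTensorCx K₂).obj ((DCoh.Lpull pX₁).obj (DCoh.toD X₁ E₁)))) →
          DerSch.HasPerfAmplitudeRel f (a₁ + a₂) (b₁ + b₂) K := by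
  intro K₂ _ hK₂ K hK
  obtain ⟨e⟩ := hK₂
  obtain ⟨e'⟩ := hK
  refine ⟨fun k => ?_, Groth.DerivedCoh.RelAmp.hasTorAmplitudeD_external f₁ q₁ f₂ q₂ pX₁ pX₂ hX pY₁ pY₂ hY f hf₁ hf₂
    E₁ a₁ b₁ h₁.2 E₂ a₂ b₂ h₂.2 K₂ e K ⟨e'⟩⟩
  have hr := (Groth.RelPC.rel_external f₁ q₁ f₂ q₂ pX₁ pX₂ hX pY₁ pY₂ hY f hf₁ hf₂ (h₁.1 (k - b₂))
    (Groth.RelPC.below_of_hasTorAmplitude f₁ h₁.2) (Groth.RelPC.isQCohD_of_relAll f₂ h₂.1) (h₂.1 (k - b₁))
    (Groth.RelPC.below_of_hasTorAmplitude f₂ h₂.2) K₂ e).1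
  rw [show max (k - b₂ + b₂) (k - b₁ + b₁) = k by omega] at hr
  exact Groth.RelPC.rel_of_iso e'.symm hr

end Groth.Agent.S6262
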