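import Groth.Statements.S6263
import Mathlib.RingTheory.Support
import Mathlib.RingTheory.Flat.Basic
import Mathlib.LinearAlgebra.TensorProduct.Quotient

set_option autoImplicit false
universe u
open CAlg

namespace Groth.Agent.S6263

theorem exists_mul_pow_mem_of_mem_minimalPrimes {A : Type*} [CommRing A] {J P : Ideal A}
    (hP : P ∈ J.minimalPrimes) {x : A} (hx : x ∈ P) : ∃ s ∉ P, ∃ k : ℕ, s * x ^ k ∈ J := by
  have := hP.1.1
  by_contra h
  push Not at h
  have hdisj : Disjoint (J : Set A) ↑(P.primeCompl ⊔ Submonoid.powers x) := by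
    refine Set.disjoint_left.2 fun y hyJ hy => ?_
    obtain ⟨s, hs, _, ⟨k, rfl⟩, rfl⟩ := Submonoid.mem_sup.1 hy
    exact h s hs k hyJ
  obtain ⟨Q, hQ, hJQ, hQd⟩ := Ideal.exists_le_prime_disjoint J _ hdisj
  have hQP : Q ≤ P := fun y hy => by
    by_contra hyP
    exact Set.disjoint_left.1 hQd hy (Submonoid.mem_sup_left hyP)
  exact Set.disjoint_left.1 hQd (hP.2 ⟨hQ, hJQ⟩ hQP hx)
    (Submonoid.mem_sup_right (Submonoid.mem_powers x))

theorem regular_mod {R S N : Type*} [CommRing R] [CommRing S] [Algebra R S] [AddCommGroup N]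
    [Module S N] [Module R N] [IsScalarTower R S N] [Module.Flat R N] (p : Ideal R) [p.IsPrime]
    {a : R} (ha : a ∉ p) (y : N ⧸ (p.map (algebraMap R S) • (⊤ : Submodule S N)))
    (hy : algebraMap R S a • y = 0) : y = 0 := by
  obtain ⟨y, rfl⟩ := Submodule.Quotient.mk_surjective _ y
  rw [← Submodule.Quotient.mk_smul, Submodule.Quotient.mk_eq_zero] at hy
  rw [Submodule.Quotient.mk_eq_zero]
  rw [← Submodule.restrictScalars_mem R, Ideal.smul_restrictScalars, Submodule.restrictScalars_top] at hy ⊢
  rw [algebraMap_smul] at hy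
  let f : R ⧸ p →ₗ[R] R ⧸ p := LinearMap.lsmul R (R ⧸ p) a
  have hf : Function.Injective f := by
    rw [injective_iff_map_eq_zero]
    intro z hz
    obtain ⟨z, rfl⟩ := Ideal.Quotient.mk_surjective z
    have : Ideal.Quotient.mk p (a * z) = 0 := hz
    rw [Ideal.Quotient.eq_zero_iff_mem] at this ⊢
    exact ((Ideal.IsPrime.mem_or_mem ‹_› this).resolve_left ha)
  have hF := Module.Flat.lTensor_preserves_injective_linearMap (M := N) f hf
  have h0 : ∀ w : N, w ⊗ₜ[R] (Ideal.Quotient.mk p 1) = 0 ↔ w ∈ p • (⊤ : Submodule R N) := fun w => by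
    rw [← (TensorProduct.tensorQuotEquivQuotSMul N p).map_eq_zero_iff,
      TensorProduct.tensorQuotEquivQuotSMul_tmul_mk, one_smul, Submodule.Quotient.mk_eq_zero]
  refine (h0 y).1 (hF ?_)
  rw [map_zero, LinearMap.lTensor_tmul]
  show y ⊗ₜ[R] (a • Ideal.Quotient.mk p 1) = 0
  rw [TensorProduct.tmul_smul, TensorProduct.smul_tmul', (h0 _).2 hy]

/-- For a ring map R → S and a finite S-module N which is flat as an R-module, generalizations lift
along the map from the support of N (a subset of Spec S) to Spec R: if p ≤ p' are primes of R and q'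
is a prime of S in the support of N whose inverse image in R is p', then some prime q ≤ q' of S lies
in the support of N and has inverse image p. -/
theorem result {R S : Type u} [CommRing R] [CommRing S] [Algebra R S] (N : Type u) [AddCommGroup N] [Module S N] [Module R N] [IsScalarTower R S N] [Module.Finite S N] [Module.Flat R N] (p p' : Ideal R) [p.IsPrime] [p'.IsPrime] (hle : p ≤ p') (q' : PrimeSpectrum S) (hq' : q' ∈ Module.support S N) (hover : q'.asIdeal.under R = p') : ∃ q : PrimeSpectrum S, q ≤ q' ∧ q ∈ Module.support S N ∧ q.asIdeal.under R = p := by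
  let I := p.map (algebraMap R S)
  let Nb := N ⧸ (I • (⊤ : Submodule S N))
  have hIq : I ≤ q'.asIdeal := Ideal.map_le_iff_le_comap.2 (hle.trans hover.ge)
  have hJq : Module.annihilator S Nb ≤ q'.asIdeal := by
    have : q' ∈ Module.support S Nb := by
      rw [Module.support_quotient]
      exact ⟨hq', by simpa [PrimeSpectrum.mem_zeroLocus] using hIq⟩
    rwa [Module.mem_support_iff_of_finite] at this
  obtain ⟨P, hP, hPq⟩ := Ideal.exists_minimalPrimes_le hJq
  have hPp : P.IsPrime := hP.1.1
  refine ⟨⟨P, hPp⟩, hPq, ?_, le_antisymm (fun a ha => ?_) (fun a ha => ?_)⟩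
  · rw [Module.mem_support_iff_of_finite]
    refine le_trans (fun s hs => ?_) hP.1.2
    rw [Module.mem_annihilator] at hs ⊢
    intro y
    obtain ⟨y, rfl⟩ := Submodule.Quotient.mk_surjective _ y
    rw [← Submodule.Quotient.mk_smul, hs y, Submodule.Quotient.mk_zero]
  · by_contra hap
    have hreg : ∀ y : Nb, algebraMap R S a • y = 0 → y = 0 := regular_mod p hap
    obtain ⟨s, hs, k, hsk⟩ := exists_mul_pow_mem_of_mem_minimalPrimes hP (show algebraMap R S a ∈ P from ha)
    refine hs (hP.1.2 ?_)
    rw [Module.mem_annihilator] at hsk ⊢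
    intro y
    have hk : ∀ (k : ℕ) (y : Nb), algebraMap R S a ^ k • y = 0 → y = 0 := by
      intro k
      induction k with
      | zero => simp
      | succ k ih => intro y hy; exact ih y (hreg _ (by rwa [pow_succ', mul_smul] at hy))
    exact hk k _ (by rw [← mul_smul, mul_comm]; exact hsk y)
  · refine hP.1.2 ?_
    rw [Module.mem_annihilator]
    intro y
    obtain ⟨y, rfl⟩ := Submodule.Quotient.mk_surjective _ y
    rw [← Submodule.Quotient.mk_smul, Submodule.Quotient.mk_eq_zero]
    exact Submodule.smul_mem_smul (Ideal.mem_map_of_mem _ ha) Submodule.mem_top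

end Groth.Agent.S6263
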