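import Groth.Statements.S6265
import Mathlib.RingTheory.Ideal.GoingDown

set_option autoImplicit false
universe u
open CAlg

namespace Groth.Agent.S6265

theorem isLocalization_of_le {R S : Type u} [CommRing R] [CommRing S] [Algebra R S]
    (p : Ideal R) [p.IsPrime] (q : Ideal S) [q.IsPrime] [q.LiesOver p]
    (h : ∀ Q : Ideal S, Q.IsPrime → Q.under R ≤ p → Q ≤ q) :
    IsLocalization.AtPrime (Localization (Algebra.algebraMapSubmonoid S p.primeCompl)) q := by
  set T := Localization (Algebra.algebraMapSubmonoid S p.primeCompl)
  refine IsLocalization.of_le (Algebra.algebraMapSubmonoid S p.primeCompl) q.primeCompl ?_ ?_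
  · rintro _ ⟨r, hr, rfl⟩
    exact fun hq => hr (show r ∈ p by rw [q.over_def p]; exact hq)
  · intro x hx
    by_contra hu
    obtain ⟨P, hP, hxP⟩ := exists_max_ideal_of_mem_nonunits hu
    have := hP.isPrime
    refine hx (h (P.comap (algebraMap S T)) inferInstance (fun r hr => ?_) hxP)
    by_contra hrp
    exact hP.ne_top (Ideal.eq_top_of_isUnit_mem _ hr
      (IsLocalization.map_units T (⟨_, r, hrp, rfl⟩ : Algebra.algebraMapSubmonoid S p.primeCompl)))

/-- Let R → S be a ring map with the going-down property such that over every prime of R lies at most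
one prime of S, and let p be a prime of R and q a prime of S above it. Then the localization S_p of
S at the image of R - p is a localization of S at q, i.e. S_p = S_q. -/
theorem result {R S : Type u} [CommRing R] [CommRing S] [Algebra R S] [Algebra.HasGoingDown R S] (hinj : ∀ q₁ q₂ : Ideal S, q₁.IsPrime → q₂.IsPrime → q₁.under R = q₂.under R → q₁ = q₂) (p : Ideal R) [p.IsPrime] (q : Ideal S) [q.IsPrime] [q.LiesOver p] : IsLocalization.AtPrime (Localization (Algebra.algebraMapSubmonoid S p.primeCompl)) q := by
  refine isLocalization_of_le p q fun Q hQ hle => ?_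
  obtain ⟨P, hPq, hP, hPo⟩ := Ideal.exists_ideal_le_liesOver_of_le (p := Q.under R) q hle
  exact (hinj Q P hQ hP hPo.over).le.trans hPq

end Groth.Agent.S6265
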