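import Groth.Statements.S6266
import Groth.Agent.PropsBasic.FlatRank
import Mathlib
-- import your own Groth.Agent.* helpers here

set_option autoImplicit false
universe u
open scoped TensorProduct
open CAlg

namespace Groth.Agent.S6266

/-- A finite flat module of constant rank is finitely presented. -/
theorem fp_of_const (R : Type u) [CommRing R] (M : Type u) [AddCommGroup M] [Module R M] [Module.Finite R M] [Module.Flat R M]
    (c : ℕ) (h : ∀ p : PrimeSpectrum R, Module.rankAtStalk (R := R) M p = c) : Module.FinitePresentation R M := by
  choose a ha hfree using fun p : PrimeSpectrum R =>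
    Module.Free.away_of_finite_of_flat_of_rankAtStalk_constant M p.asIdeal fun m hm => by rw [h, h]
  have hs : Ideal.span (Set.range a) = ⊤ := by
    by_contra hne
    obtain ⟨m, hm, hle⟩ := Ideal.exists_le_maximal _ hne
    exact ha ⟨m, hm.isPrime⟩ (hle (Ideal.subset_span ⟨_, rfl⟩))
  refine Module.FinitePresentation.of_localizationSpan (Set.range a) hs ?_
  rintro ⟨_, p, rfl⟩
  haveI := hfree p
  haveI : Module.Finite (Localization.Away (a p)) (LocalizedModule.Away (a p) M) :=
    Module.Finite.of_isLocalizedModule (Submonoid.powers (a p)) (LocalizedModule.mkLinearMap _ M)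
  exact Module.finitePresentation_of_projective _ _

/-- Let R be a reduced ring and M an R-module. Then M is a finite projective R-module if and only if M
is finitely generated and the function on Spec R sending a prime p to the dimension of κ(p) ⊗ M over
the residue field κ(p) is locally constant for the Zariski topology. -/
theorem result (R : Type u) [CommRing R] [IsReduced R] (M : Type u) [AddCommGroup M] [Module R M] : (Module.Finite R M ∧ Module.Projective R M) ↔ (Module.Finite R M ∧ IsLocallyConstant (fun p : PrimeSpectrum R => Module.finrank p.asIdeal.ResidueField (p.asIdeal.ResidueField ⊗[R] M))) := by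
  constructor
  · rintro ⟨h1, h2⟩
    refine ⟨h1, ?_⟩
    haveI : Module.FinitePresentation R M := Module.finitePresentation_of_projective R M
    have h := Module.isLocallyConstant_rankAtStalk (R := R) (M := M)
    rwa [show Module.rankAtStalk (R := R) M = (fun p : PrimeSpectrum R => Module.finrank p.asIdeal.ResidueField (p.asIdeal.ResidueField ⊗[R] M)) from funext fun p => Module.rankAtStalk_eq p] at h
  · rintro ⟨h1, h2⟩
    refine ⟨h1, ?_⟩
    have hspec : ∀ x y : PrimeSpectrum R, y ∈ closure ({x} : Set (PrimeSpectrum R)) →
        Module.finrank x.asIdeal.ResidueField (x.asIdeal.ResidueField ⊗[R] M) =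
          Module.finrank y.asIdeal.ResidueField (y.asIdeal.ResidueField ⊗[R] M) := fun x y hxy =>
      h2.apply_eq_of_isPreconnected isPreconnected_singleton.closure (subset_closure rfl) hxy
    haveI : Module.Flat R M := Groth.PropsBasic.FlatRank.flat_of_finrank_eq fun m _ q _ hqm =>
      hspec ⟨q, inferInstance⟩ ⟨m, inferInstance⟩
        (specializes_iff_mem_closure.1 ((PrimeSpectrum.le_iff_specializes ⟨q, inferInstance⟩ ⟨m, inferInstance⟩).1 hqm))
    have hrk : ∀ p : PrimeSpectrum R, Module.rankAtStalk (R := R) M p =
        Module.finrank p.asIdeal.ResidueField (p.asIdeal.ResidueField ⊗[R] M) := fun p => Module.rankAtStalk_eq p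
    haveI : Module.FinitePresentation R M := by
      have hex : ∀ p : PrimeSpectrum R, ∃ f : R, f ∉ p.asIdeal ∧ ∀ q : PrimeSpectrum R, f ∉ q.asIdeal →
          Module.rankAtStalk (R := R) M q = Module.rankAtStalk (R := R) M p := by
        intro p
        have ho := h2.isOpen_fiber (Module.finrank p.asIdeal.ResidueField (p.asIdeal.ResidueField ⊗[R] M))
        obtain ⟨_, ⟨f, rfl⟩, hpf, hsub⟩ := PrimeSpectrum.isTopologicalBasis_basic_opens.exists_subset_of_mem_open (show p ∈ {x : PrimeSpectrum R | Module.finrank x.asIdeal.ResidueField (x.asIdeal.ResidueField ⊗[R] M) = Module.finrank p.asIdeal.ResidueField (p.asIdeal.ResidueField ⊗[R] M)} from rfl) ho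
        exact ⟨f, hpf, fun q hq => by rw [hrk, hrk]; exact hsub hq⟩
      choose f hf hconst using hex
      have hs : Ideal.span (Set.range f) = ⊤ := by
        by_contra hne
        obtain ⟨m, hm, hle⟩ := Ideal.exists_le_maximal _ hne
        exact hf ⟨m, hm.isPrime⟩ (hle (Ideal.subset_span ⟨_, rfl⟩))
      refine Module.FinitePresentation.of_localizationSpan' (Set.range f) hs
        (Rₚ := fun g => Localization.Away g.1)
        (fun g => TensorProduct.mk R (Localization.Away g.1) M 1) ?_
      rintro ⟨_, p, rfl⟩
      refine fp_of_const _ _ (Module.rankAtStalk (R := R) M p) fun q => ?_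
      rw [Module.rankAtStalk_baseChange]
      refine hconst p _ fun hq => ?_
      exact q.2.ne_top (Ideal.eq_top_of_isUnit_mem _ hq (IsLocalization.Away.algebraMap_isUnit (f p)))
    exact Module.Flat.projective_of_finitePresentation

end Groth.Agent.S6266
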