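import Groth.Statements.S6267
import Groth.Agent.Calg2.MLRestrict

set_option autoImplicit false
universe u
open CAlg

namespace Groth.Agent.S6267

/-- Let R be a ring and f : M → M' a map of R-modules with M' flat. Then f is universally injective
exactly when, for each finitely generated ideal I of R, the induced map M ⊗ R/I → M' ⊗ R/I (that is,
M/IM → M'/IM') is injective. -/
theorem result {R : Type u} [CommRing R] {M M' : Type u} [AddCommGroup M] [Module R M] [AddCommGroup M'] [Module R M'] [Module.Flat R M'] (f : M →ₗ[R] M') : CAlgX.UniversallyInjective R f ↔ ∀ I : Ideal R, I.FG → Function.Injective (f.rTensor (R ⧸ I)) := by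
  constructor
  · exact fun hf I _ => hf (R ⧸ I)
  · intro h Q _ _
    have hinj : Function.Injective f := by
      refine (injective_iff_map_eq_zero f).2 fun x hx => ?_
      have h0 : x ⊗ₜ[R] (1 : R ⧸ (⊥ : Ideal R)) = 0 := h ⊥ Submodule.fg_bot (by simp [hx])
      let q : (R ⧸ (⊥ : Ideal R)) →ₗ[R] R :=
        (Submodule.quotEquivOfEqBot (⊥ : Submodule R R) rfl).toLinearMap
      have hq1 : q 1 = 1 := rfl
      have := congrArg (fun z => TensorProduct.rid R M (q.lTensor M z)) h0
      simp only [LinearMap.lTensor_tmul, hq1, map_zero, TensorProduct.rid_tmul, one_smul] at this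
      exact this
    have hq : Function.Exact f (LinearMap.range f).mkQ := LinearMap.exact_map_mkQ_range f
    haveI : Module.Flat R (M' ⧸ LinearMap.range f) :=
      Groth.Calg2.flat_coker f _ hq (Submodule.mkQ_surjective _) h
    exact (LinearMap.lTensor_inj_iff_rTensor_inj Q f).1
      (LinearMap.lTensor_injective_of_exact_of_flat _ (Submodule.mkQ_surjective _) f hinj hq Q)

end Groth.Agent.S6267
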