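import Groth.Statements.S6268
import Mathlib

set_option autoImplicit false
universe u
open CAlg

namespace Groth.Agent.S6268

/-- Suppose the structure map R → S of an R-algebra S is universally injective as an R-linear map. Then
tensoring with S detects injectivity and surjectivity of R-linear maps (and hence reflects
isomorphisms): for an R-linear g : M → N, if S ⊗ g is injective then so is g, and if S ⊗ g is
surjective then so is g. -/
theorem result {R S : Type u} [CommRing R] [CommRing S] [Algebra R S] (hS : CAlgX.UniversallyInjective R (Algebra.linearMap R S)) {M N : Type u} [AddCommGroup M] [Module R M] [AddCommGroup N] [Module R N] (g : M →ₗ[R] N) : (Function.Injective (g.lTensor S) → Function.Injective g) ∧ (Function.Surjective (g.lTensor S) → Function.Surjective g) := by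
  have hinj : ∀ (X : Type u) [AddCommGroup X] [Module R X] (x : X),
      (1 : S) ⊗ₜ[R] x = 0 → x = 0 := by
    intro X _ _ x hx
    have h := hS X (a₁ := (1 : R) ⊗ₜ[R] x) (a₂ := 0) (by simpa using hx)
    simpa using congrArg (TensorProduct.lid R X) h
  constructor
  · intro h
    refine (injective_iff_map_eq_zero g).2 fun x hx => hinj M x ?_
    exact h (by simp [hx])
  · intro h
    have hex : Function.Exact g (LinearMap.range g).mkQ := LinearMap.exact_map_mkQ_range g
    have hex' := lTensor_exact S hex (Submodule.mkQ_surjective _)
    intro n
    have h0 : (LinearMap.range g).mkQ n = 0 := by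
      refine hinj _ _ ?_
      have := (hex' ((1 : S) ⊗ₜ[R] n)).2 (h _)
      simpa using this
    simpa using h0

end Groth.Agent.S6268
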