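import Groth.Statements.S6269
import Groth.Agent.Calg2.MLRestrict

set_option autoImplicit false
universe u
open CAlg

namespace Groth.Agent.S6269

/-- Let 0 → M₁ → M₂ → M₃ → 0 be a universally exact sequence of R-modules (a short exact sequence whose
first map is universally injective) with M₂ flat. Then M₁ and M₃ are flat. -/
theorem result {R : Type u} [CommRing R] {M₁ M₂ M₃ : Type u} [AddCommGroup M₁] [Module R M₁] [AddCommGroup M₂] [Module R M₂] [AddCommGroup M₃] [Module R M₃] (f : M₁ →ₗ[R] M₂) (g : M₂ →ₗ[R] M₃) (hexact : Function.Exact f g) (hg : Function.Surjective g) (hf : CAlgX.UniversallyInjective R f) [Module.Flat R M₂] : Module.Flat R M₁ ∧ Module.Flat R M₃ := by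
  have hM₃ : Module.Flat R M₃ := Groth.Calg2.flat_coker f g hexact hg fun I _ => hf (R ⧸ I)
  refine ⟨Module.Flat.iff_rTensor_injective'.2 fun I => ?_, hM₃⟩
  refine (injective_iff_map_eq_zero _).2 fun x hx => ?_
  have hinjI : Function.Injective (I.subtype.rTensor M₂) :=
    Module.Flat.iff_rTensor_injective'.1 inferInstance I
  have hfI : Function.Injective (f.lTensor I) := (LinearMap.lTensor_inj_iff_rTensor_inj I f).2 (hf I)
  refine hfI (hinjI ?_)
  rw [map_zero, map_zero, ← LinearMap.comp_apply, LinearMap.rTensor_comp_lTensor,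
    ← LinearMap.lTensor_comp_rTensor, LinearMap.comp_apply, hx, map_zero]

end Groth.Agent.S6269
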