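import Groth.Statements.S6271
import Groth.Agent.Calg7.LiftProjective

set_option autoImplicit false
universe u
open scoped TensorProduct
open CAlg

namespace Groth.Agent.S6271

/-- Let R be a ring, I ⊆ R a locally nilpotent ideal (every element of I is nilpotent) and P̄ a finite
projective R/I-module. Then there is a finite projective R-module P such that P/IP (that is, R/I ⊗
P) is isomorphic to P̄ as an R/I-module. -/
theorem result {R : Type u} [CommRing R] (I : Ideal R) (hI : ∀ x ∈ I, IsNilpotent x) (Pb : Type u) [AddCommGroup Pb] [Module (R ⧸ I) Pb] [Module.Projective (R ⧸ I) Pb] [Module.Finite (R ⧸ I) Pb] : ∃ (P : Type u) (_ : AddCommGroup P) (_ : Module R P), Module.Projective R P ∧ Module.Finite R P ∧ Nonempty (((R ⧸ I) ⊗[R] P) ≃ₗ[R ⧸ I] Pb) := by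
  classical
  obtain ⟨Q, i1, i2, hfin, hproj, he⟩ := Groth.Calg7.LiftProj.exists_lift (B := R) (A := R ⧸ I) (fun n e he => by
    refine exists_isIdempotentElem_eq_of_ker_isNilpotent ((algebraMap R (R ⧸ I)).mapMatrix) ?_ e ?_ he
    · intro M hM
      have hent : ∀ i j, M i j ∈ I := fun i j =>
        Ideal.Quotient.eq_zero_iff_mem.1 (congrFun (congrFun hM i) j)
      let J : Ideal R := Ideal.span (Set.range fun ij : Fin n × Fin n => M ij.1 ij.2)
      have hJfg : J.FG := Submodule.fg_span (Set.finite_range _)
      obtain ⟨N, hN⟩ := hJfg.isNilpotent_iff_le_nilradical.2 (by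
        rw [Ideal.span_le]; rintro _ ⟨ij, rfl⟩; exact mem_nilradical.2 (hI _ (hent _ _)))
      have key : ∀ k i j, (M ^ k) i j ∈ J ^ k := by
        intro k
        induction k with
        | zero => simp
        | succ k ih =>
          intro i j
          rw [pow_succ, pow_succ, Matrix.mul_apply]
          exact Ideal.sum_mem _ fun l _ => Ideal.mul_mem_mul (ih i l) (Ideal.subset_span ⟨(l, j), rfl⟩)
      exact ⟨N, Matrix.ext fun i j => by simpa [hN] using key N i j⟩
    · refine ⟨Matrix.of fun i j => (Ideal.Quotient.mk_surjective (e i j)).choose, Matrix.ext fun i j => ?_⟩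
      exact (Ideal.Quotient.mk_surjective (e i j)).choose_spec) Pb
  exact ⟨Q, i1, i2, hproj, hfin, he⟩

end Groth.Agent.S6271
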