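import Groth.Statements.S6272
import Mathlib

set_option autoImplicit false
universe u
open scoped TensorProduct
open CAlg

namespace Groth.Agent.S6272

variable {R : Type u} [CommRing R]

theorem exists_rep (A : Ideal R) {M : Type u} [AddCommGroup M] [Module R M] (z : (R ⧸ A) ⊗[R] M) :
    ∃ m : M, z = 1 ⊗ₜ m := by
  induction z with
  | zero => exact ⟨0, by simp⟩
  | tmul r m =>
    obtain ⟨r, rfl⟩ := Ideal.Quotient.mk_surjective r
    exact ⟨r • m, by rw [← TensorProduct.smul_tmul]; simp [Algebra.smul_def]⟩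
  | add x y hx hy =>
    obtain ⟨a, rfl⟩ := hx
    obtain ⟨d, rfl⟩ := hy
    exact ⟨a + d, by rw [TensorProduct.tmul_add]⟩

theorem one_tmul_eq_zero_iff (A : Ideal R) {M : Type u} [AddCommGroup M] [Module R M] (m : M) :
    (1 : R ⧸ A) ⊗ₜ[R] m = 0 ↔ m ∈ A • (⊤ : Submodule R M) := by
  rw [← (TensorProduct.quotTensorEquivQuotSMul M A).map_eq_zero_iff,
    ← map_one (Ideal.Quotient.mk A)]
  rw [TensorProduct.quotTensorEquivQuotSMul_mk_tmul, one_smul, Submodule.Quotient.mk_eq_zero]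

/-- Change of quotient ring. -/
noncomputable def red {A B : Ideal R} (h : A ≤ B) (M : Type u) [AddCommGroup M] [Module R M] :
    (R ⧸ A) ⊗[R] M →ₗ[R] (R ⧸ B) ⊗[R] M :=
  (Ideal.Quotient.factorₐ R h).toLinearMap.rTensor M

theorem red_one_tmul {A B : Ideal R} (h : A ≤ B) {M : Type u} [AddCommGroup M] [Module R M] (m : M) :
    red h M (1 ⊗ₜ m) = 1 ⊗ₜ m := by simp [red]


/-- Over a ring R, take two ideals I and J meeting in zero (I ∩ J = 0) and an R-module P. If the
R/I-module P/IP (that is, R/I ⊗ P) and the R/J-module P/JP (that is, R/J ⊗ P) are both projective,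
then P itself is projective over R. -/
theorem result {R : Type u} [CommRing R] (I J : Ideal R) (hIJ : I ⊓ J = ⊥) (P : Type u) [AddCommGroup P] [Module R P] (hI : Module.Projective (R ⧸ I) ((R ⧸ I) ⊗[R] P)) (hJ : Module.Projective (R ⧸ J) ((R ⧸ J) ⊗[R] P)) : Module.Projective R P := by
  classical
  let K := I ⊔ J
  have hIK : I ≤ K := le_sup_left
  have hJK : J ≤ K := le_sup_right
  let F := P →₀ R
  let π : F →ₗ[R] P := Finsupp.linearCombination R id
  have hπ : Function.Surjective π := fun x =>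
    ⟨Finsupp.single x 1, (Finsupp.linearCombination_single R (v := id) 1 x).trans (one_smul R x)⟩
  have hsec : ∀ (A : Ideal R), Module.Projective (R ⧸ A) ((R ⧸ A) ⊗[R] P) →
      ∃ σ : (R ⧸ A) ⊗[R] P →ₗ[R] (R ⧸ A) ⊗[R] F, ∀ z, π.lTensor _ (σ z) = z := by
    intro A hA
    obtain ⟨s, hs⟩ := Module.projective_lifting_property (π.baseChange (R ⧸ A)) LinearMap.id
      (LinearMap.lTensor_surjective _ hπ)
    exact ⟨s.restrictScalars R, fun z => LinearMap.congr_fun hs z⟩
  obtain ⟨sI, hsI⟩ := hsec I hI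
  obtain ⟨sJ, hsJ⟩ := hsec J hJ
  let σI : P →ₗ[R] (R ⧸ I) ⊗[R] F := sI ∘ₗ TensorProduct.mk R (R ⧸ I) P 1
  let σJ : P →ₗ[R] (R ⧸ J) ⊗[R] F := sJ ∘ₗ TensorProduct.mk R (R ⧸ J) P 1
  have nat : ∀ {A : Ideal R} (h : A ≤ K) {M N : Type u} [AddCommGroup M] [Module R M] [AddCommGroup N]
      [Module R N] (g : M →ₗ[R] N) (z : (R ⧸ A) ⊗[R] M),
      red h N (g.lTensor _ z) = g.lTensor _ (red h M z) := by
    intro A h M N _ _ _ _ g z
    obtain ⟨m, rfl⟩ := exists_rep A z
    simp [red_one_tmul]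
  let δ : P →ₗ[R] (R ⧸ K) ⊗[R] F := red hIK F ∘ₗ σI - red hJK F ∘ₗ σJ
  have hδ : ∀ x, π.lTensor _ (δ x) = 0 := fun x => by
    simp [δ, σI, σJ, ← nat, hsI, hsJ, red_one_tmul]
  let δ' := (δ.liftBaseChange (R ⧸ K)).restrictScalars R
  let τ := ((red hJK F ∘ₗ σJ).liftBaseChange (R ⧸ K)).restrictScalars R
  have hsurjK : Function.Surjective (TensorProduct.mk R (R ⧸ K) F 1) := fun z =>
    (exists_rep K z).imp fun _ h => h.symm
  obtain ⟨g, hg⟩ := Module.projective_lifting_property (TensorProduct.mk R (R ⧸ K) F 1) (δ ∘ₗ π) hsurjK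
  have hg' : ∀ z : (R ⧸ K) ⊗[R] F, g.lTensor _ z = δ' (π.lTensor _ z) := by
    intro z
    obtain ⟨f, rfl⟩ := exists_rep K z
    simpa [δ'] using LinearMap.congr_fun hg f
  let h : P →ₗ[R] (R ⧸ J) ⊗[R] F := g.lTensor _ ∘ₗ σJ
  have hh : ∀ x, red hJK F (h x) = δ x := fun x => by
    simp [h, σJ, nat, hg', ← nat, hsJ, red_one_tmul, δ']
  let d : P →ₗ[R] (R ⧸ J) ⊗[R] F := h - sJ ∘ₗ π.lTensor _ ∘ₗ h
  have hd : ∀ x, π.lTensor _ (d x) = 0 := fun x => by simp [d, hsJ]
  have hτ : ∀ y : (R ⧸ J) ⊗[R] P, red hJK F (sJ y) = τ (red hJK P y) := by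
    intro y
    obtain ⟨p, rfl⟩ := exists_rep J y
    simp [τ, σJ, red_one_tmul]
  have hdK : ∀ x, red hJK F (d x) = δ x := fun x => by
    have h0 : red hJK P (π.lTensor _ (h x)) = 0 := by rw [nat, hh, hδ]
    have : d x = h x - sJ (π.lTensor _ (h x)) := rfl
    rw [this, map_sub, hh, hτ, h0, map_zero, sub_zero]
  let ρ : P →ₗ[R] (R ⧸ J) ⊗[R] F := σJ + d
  have hcompat : ∀ x, red hIK F (σI x) = red hJK F (ρ x) := fun x => by
    simp [ρ, hdK, δ]
  have hF0 : ∀ f : F, (1 : R ⧸ I) ⊗ₜ[R] f = 0 → (1 : R ⧸ J) ⊗ₜ[R] f = 0 → f = 0 := by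
    have hcoord : ∀ (A : Ideal R) (f : F), f ∈ A • (⊤ : Submodule R F) → ∀ p, f p ∈ A := by
      intro A f hf p
      refine Submodule.smul_induction_on (p := fun f : F => f p ∈ A) hf ?_ ?_
      · intro r hr y _
        exact A.mul_mem_right _ hr
      · intro y z hy hz
        exact A.add_mem hy hz
    intro f h1 h2
    ext p
    have : f p ∈ I ⊓ J := ⟨hcoord I f ((one_tmul_eq_zero_iff I f).1 h1) p,
      hcoord J f ((one_tmul_eq_zero_iff J f).1 h2) p⟩
    rw [hIJ] at this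
    simpa using this
  have hex : ∀ x, ∃ f : F, (1 : R ⧸ I) ⊗ₜ[R] f = σI x ∧ (1 : R ⧸ J) ⊗ₜ[R] f = ρ x := by
    intro x
    obtain ⟨f1, h1⟩ := exists_rep I (σI x)
    obtain ⟨f2, h2⟩ := exists_rep J (ρ x)
    have h := hcompat x
    rw [h1, h2, red_one_tmul, red_one_tmul, ← sub_eq_zero, ← TensorProduct.tmul_sub,
      one_tmul_eq_zero_iff, Submodule.sup_smul, Submodule.mem_sup] at h
    obtain ⟨i, hi, j, hj, hij⟩ := h
    refine ⟨f1 - i, ?_, ?_⟩
    · rw [TensorProduct.tmul_sub, (one_tmul_eq_zero_iff I i).2 hi, h1, sub_zero]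
    · have : f1 - i = f2 + j := by
        rw [sub_eq_iff_eq_add, add_assoc, add_comm j i, hij, add_sub_cancel]
      rw [this, TensorProduct.tmul_add, (one_tmul_eq_zero_iff J j).2 hj, h2, add_zero]
  choose s hs1 hs2 using hex
  let S : P →ₗ[R] F :=
    { toFun := s
      map_add' := fun x y => by
        rw [← sub_eq_zero]
        apply hF0 <;> simp [TensorProduct.tmul_sub, TensorProduct.tmul_add, hs1, hs2]
      map_smul' := fun r x => by
        rw [← sub_eq_zero]
        apply hF0 <;> simp [TensorProduct.tmul_sub, hs1, hs2] }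
  let e : Module.End R P := π ∘ₗ S
  have he1 : ∀ x, (e - 1) x ∈ I • (⊤ : Submodule R P) := fun x => by
    rw [← one_tmul_eq_zero_iff I]
    have := congr_arg (π.lTensor (R ⧸ I)) (hs1 x)
    simp [σI, hsI] at this
    simp [e, S, TensorProduct.tmul_sub, this]
  have he2 : ∀ x, (e - 1) x ∈ J • (⊤ : Submodule R P) := fun x => by
    rw [← one_tmul_eq_zero_iff J]
    have := congr_arg (π.lTensor (R ⧸ J)) (hs2 x)
    simp [ρ, σJ, hsJ, hd] at this
    simp [e, S, TensorProduct.tmul_sub, this]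
  have hIJ0 : I * J = ⊥ := le_bot_iff.1 (Ideal.mul_le_inf.trans_eq hIJ)
  have hnil : IsNilpotent (e - 1) := by
    refine ⟨2, LinearMap.ext fun x => ?_⟩
    rw [pow_two, Module.End.mul_apply]
    have h1 := he1 x
    have : ∀ y ∈ I • (⊤ : Submodule R P), (e - 1) y ∈ (I * J) • (⊤ : Submodule R P) := by
      intro y hy
      refine Submodule.smul_induction_on (p := fun y => (e - 1) y ∈ (I * J) • (⊤ : Submodule R P)) hy ?_ ?_
      · intro r hr z _
        rw [map_smul, Submodule.mul_smul]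
        exact Submodule.smul_mem_smul hr (he2 z)
      · intro y z hy hz
        rw [map_add]
        exact add_mem hy hz
    simpa [hIJ0] using this _ h1
  have hu : IsUnit e := by simpa using hnil.isUnit_add_one
  obtain ⟨u, hu⟩ := hu
  refine Module.Projective.of_split (S ∘ₗ (↑u⁻¹ : Module.End R P)) π ?_
  rw [← LinearMap.comp_assoc]
  change e * (↑u⁻¹ : Module.End R P) = 1
  rw [← hu, Units.mul_inv]

end Groth.Agent.S6272
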