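import Groth.Statements.S6273
import Mathlib.RingTheory.Spectrum.Prime.Topology

set_option autoImplicit false
universe u
open CAlg

namespace Groth.Agent.S6273

/-- Let R be a ring, S ⊆ R a multiplicative subset and A = S⁻¹R. If the image of Spec(A) → Spec(R) is
closed, then the localization map R → A is surjective; in particular A is isomorphic to R/I for the
ideal I = ker(R → A). -/
theorem result {R : Type u} [CommRing R] (S : Submonoid R) (A : Type u) [CommRing A] [Algebra R A] [IsLocalization S A] (hcl : IsClosed (Set.range (PrimeSpectrum.comap (algebraMap R A)))) : Function.Surjective (algebraMap R A) := by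
  have hrange : Set.range (PrimeSpectrum.comap (algebraMap R A)) =
      PrimeSpectrum.zeroLocus (RingHom.ker (algebraMap R A) : Set R) := by
    rw [← PrimeSpectrum.closure_range_comap, hcl.closure_eq]
  have hinv : ∀ s : S, ∃ r : R, algebraMap R A s * algebraMap R A r = 1 := by
    intro s
    by_cases htop : RingHom.ker (algebraMap R A) ⊔ Ideal.span {(s : R)} = ⊤
    · obtain ⟨i, hi, j, hj, hij⟩ := Submodule.mem_sup.1 ((Ideal.eq_top_iff_one _).1 htop)
      obtain ⟨r, rfl⟩ := Ideal.mem_span_singleton'.1 hj
      refine ⟨r, ?_⟩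
      rw [← map_mul, ← map_one (algebraMap R A), ← hij, map_add, RingHom.mem_ker.1 hi, zero_add,
        mul_comm]
    · obtain ⟨P, hP, hle⟩ := Ideal.exists_le_maximal _ htop
      have hmem : (⟨P, hP.isPrime⟩ : PrimeSpectrum R) ∈
          Set.range (PrimeSpectrum.comap (algebraMap R A)) := by
        rw [hrange, PrimeSpectrum.mem_zeroLocus]
        exact SetLike.coe_subset_coe.2 (le_sup_left.trans hle)
      obtain ⟨Q, hQ⟩ := hmem
      have hsP : (s : R) ∈ P := hle (Ideal.mem_sup_right (Ideal.mem_span_singleton_self _))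
      rw [show P = (PrimeSpectrum.comap (algebraMap R A) Q).asIdeal from
        (congrArg PrimeSpectrum.asIdeal hQ).symm] at hsP
      exact (Q.isPrime.ne_top (Ideal.eq_top_of_isUnit_mem _ hsP (IsLocalization.map_units A s))).elim
  intro a
  obtain ⟨⟨x, s⟩, hxs⟩ := IsLocalization.surj S a
  obtain ⟨r, hr⟩ := hinv s
  refine ⟨x * r, ?_⟩
  rw [map_mul, ← hxs, mul_assoc, hr, mul_one]

end Groth.Agent.S6273
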