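import Groth.Statements.S6274
import Mathlib.RingTheory.Spectrum.Prime.Topology
import Mathlib.RingTheory.Spectrum.Prime.Noetherian
import Mathlib.RingTheory.Spectrum.Prime.Jacobson

set_option autoImplicit false
universe u
open CAlg

namespace Groth.Agent.S6274

/-- Let R be a ring, S ⊆ R a multiplicative subset and A = S⁻¹R, and assume the image of Spec(A) →
Spec(R) is closed. If Spec(R) is a Noetherian topological space (which holds when R is Noetherian)
or S is finitely generated as a monoid, then R is isomorphic to A × R' for some ring R', by an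
isomorphism whose first component is the localization map R → A. -/
theorem result {R : Type u} [CommRing R] (S : Submonoid R) (A : Type u) [CommRing A] [Algebra R A] [IsLocalization S A] (hcl : IsClosed (Set.range (PrimeSpectrum.comap (algebraMap R A)))) (h : TopologicalSpace.NoetherianSpace (PrimeSpectrum R) ∨ S.FG) : ∃ (R' : Type u) (_ : CommRing R') (e : R ≃+* A × R'), ∀ x : R, (e x).1 = algebraMap R A x := by
  classical
  set Z := Set.range (PrimeSpectrum.comap (algebraMap R A)) with hZdef
  have hZ : Z = {p | Disjoint (S : Set R) p.asIdeal} := PrimeSpectrum.localization_comap_range A S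
  have hgen : StableUnderGeneralization Z := by
    intro p q hqp hp
    rw [hZ] at hp ⊢
    exact Set.disjoint_of_subset_right ((PrimeSpectrum.le_iff_specializes q p).2 hqp) hp
  have hopen : IsOpen Z := by
    rcases h with h | hfg
    · have := h
      rw [← isClosed_compl_iff]
      let W : Set (Set (PrimeSpectrum R)) := {C | C ∈ irreducibleComponents (PrimeSpectrum R) ∧ ¬ C ⊆ Z}
      have hW : Zᶜ = ⋃ C ∈ W, C := by
        ext x
        simp only [Set.mem_compl_iff, Set.mem_iUnion₂]
        constructor
        · exact fun hx => ⟨irreducibleComponent x, ⟨irreducibleComponent_mem_irreducibleComponents x,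
            fun hC => hx (hC mem_irreducibleComponent)⟩, mem_irreducibleComponent⟩
        · rintro ⟨C, ⟨hC, hCZ⟩, hxC⟩ hxZ
          have hη := hC.1.isGenericPoint_genericPoint_closure
          rw [(isClosed_of_mem_irreducibleComponents C hC).closure_eq] at hη
          have hmem := hgen (hη.specializes hxC) hxZ
          exact hCZ fun y hy => (hη.specializes hy).mem_closed hcl hmem
      rw [hW]
      exact (TopologicalSpace.NoetherianSpace.finite_irreducibleComponents.subset fun C hC => hC.1).isClosed_biUnion
        fun C hC => isClosed_of_mem_irreducibleComponents C hC.1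
    · obtain ⟨s, hs⟩ := hfg
      suffices Z = (PrimeSpectrum.basicOpen (∏ x ∈ s, x) : Set (PrimeSpectrum R)) by
        rw [this]; exact PrimeSpectrum.isOpen_basicOpen
      rw [hZ]
      ext p
      constructor
      · intro hp hmem
        exact Set.disjoint_left.1 hp (prod_mem fun x hx => hs ▸ Submonoid.subset_closure hx) hmem
      · intro hp
        rw [Set.mem_setOf_eq, Set.disjoint_left]
        intro x hx
        rw [← hs] at hx
        induction hx using Submonoid.closure_induction with
        | mem x hx => exact fun h => hp (Ideal.mem_of_dvd _ (Finset.dvd_prod_of_mem _ hx) h)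
        | one => exact fun h => p.2.ne_top ((Ideal.eq_top_iff_one _).2 h)
        | mul a b _ _ ha hb => exact fun h => (p.2.mem_or_mem h).elim ha hb
  obtain ⟨e, he, hZe⟩ := PrimeSpectrum.isClopen_iff.1 ⟨hcl, hopen⟩
  have hea : algebraMap R A e = 1 := by
    have hu : IsUnit (algebraMap R A e) := by
      by_contra hu
      obtain ⟨m, hm, hem⟩ := exists_max_ideal_of_mem_nonunits hu
      have hmZ : PrimeSpectrum.comap (algebraMap R A) ⟨m, hm.isPrime⟩ ∈ Z := ⟨_, rfl⟩
      rw [hZe] at hmZ
      exact hmZ hem
    exact hu.mul_right_injective (by simp only [← map_mul, he.eq, mul_one])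
  let I : Ideal R := Ideal.span {1 - e}
  let R₁ := R ⧸ I
  have hunit : ∀ x ∈ S, IsUnit (Ideal.Quotient.mk I x) := by
    intro x hx
    by_contra hu
    obtain ⟨m, hm, hxm⟩ := exists_max_ideal_of_mem_nonunits hu
    let p : PrimeSpectrum R := PrimeSpectrum.comap (Ideal.Quotient.mk I) ⟨m, hm.isPrime⟩
    have hep : (1 - e) ∈ p.asIdeal := by
      show Ideal.Quotient.mk I (1 - e) ∈ m
      rw [Ideal.Quotient.eq_zero_iff_mem.2 (Ideal.mem_span_singleton_self _)]
      exact m.zero_mem
    have hp : p ∈ Z := by
      rw [hZe]
      intro h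
      exact p.2.ne_top ((Ideal.eq_top_iff_one _).2 (by simpa using add_mem hep h))
    rw [hZ] at hp
    exact Set.disjoint_left.1 hp hx hxm
  let to1 : A →+* R₁ := IsLocalization.lift (M := S) (g := Ideal.Quotient.mk I) fun x => hunit x.1 x.2
  let to2 : R₁ →+* A := Ideal.Quotient.lift I (algebraMap R A) fun x hx => by
    obtain ⟨c, rfl⟩ := Ideal.mem_span_singleton'.1 hx
    simp [hea]
  have h12 : to2.comp to1 = RingHom.id A := IsLocalization.ringHom_ext S (by
    ext x; simp [to1, to2]; rfl)
  have h21 : to1.comp to2 = RingHom.id R₁ := Ideal.Quotient.ringHom_ext (by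
    ext x; simp [to1, to2])
  let e1 : R₁ ≃+* A := RingEquiv.ofRingHom to2 to1 h12 h21
  have hco : IsCoprime I (Ideal.span {e}) := by
    rw [Ideal.isCoprime_iff_exists]
    exact ⟨1 - e, Ideal.mem_span_singleton_self _, e, Ideal.mem_span_singleton_self _, sub_add_cancel 1 e⟩
  have hinf : I ⊓ Ideal.span {e} = ⊥ := by
    rw [← Ideal.mul_eq_inf_of_coprime hco.sup_eq, Ideal.span_singleton_mul_span_singleton,
      sub_mul, one_mul, he.eq, sub_self, Ideal.span_singleton_zero]
  let ee : R ≃+* R₁ × (R ⧸ Ideal.span {e}) :=
    (RingEquiv.quotientBot R).symm.trans ((Ideal.quotEquivOfEq hinf.symm).trans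
      (Ideal.quotientInfEquivQuotientProd I (Ideal.span {e}) hco))
  exact ⟨R ⧸ Ideal.span {e}, inferInstance, ee.trans (RingEquiv.prodCongr e1 (RingEquiv.refl _)), fun x => rfl⟩

end Groth.Agent.S6274
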