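import Groth.Statements.S6275
import Mathlib

set_option autoImplicit false
universe u
open CAlg

namespace Groth.Agent.S6275

/-- Let R be a Noetherian ring and p ⊆ R a prime. Then there is f ∈ R, f ∉ p, such that R_f → R_p is
injective; equivalently every x ∈ R mapping to zero in R_p maps to zero in R_f. (The cases of a
domain and of a reduced ring with finitely many minimal primes are not included here.) -/
theorem result {R : Type u} [CommRing R] [IsNoetherianRing R] (p : Ideal R) [p.IsPrime] : ∃ f : R, f ∉ p ∧ ∀ x : R, algebraMap R (Localization.AtPrime p) x = 0 → algebraMap R (Localization.Away f) x = 0 := by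
  classical
  obtain ⟨G, hG⟩ := IsNoetherian.noetherian (RingHom.ker (algebraMap R (Localization.AtPrime p)))
  have h : ∀ x : G, ∃ s : p.primeCompl, (s : R) * x = 0 := fun x => by
    have hx : (x : R) ∈ RingHom.ker (algebraMap R (Localization.AtPrime p)) :=
      hG ▸ Ideal.subset_span x.2
    exact (IsLocalization.map_eq_zero_iff p.primeCompl _ _).1 hx
  choose s hs using h
  refine ⟨((∏ x, s x : p.primeCompl) : R), (∏ x, s x : p.primeCompl).2, fun x hx => ?_⟩
  refine (IsLocalization.map_eq_zero_iff (Submonoid.powers ((∏ x, s x : p.primeCompl) : R)) _ _).2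
    ⟨⟨_, Submonoid.mem_powers _⟩, ?_⟩
  have hle : RingHom.ker (algebraMap R (Localization.AtPrime p)) ≤
      LinearMap.ker (LinearMap.mulLeft R ((∏ x, s x : p.primeCompl) : R)) := by
    rw [← hG]
    refine Submodule.span_le.2 fun y hy => ?_
    obtain ⟨c, hc⟩ := Finset.dvd_prod_of_mem s (Finset.mem_univ (⟨y, hy⟩ : G))
    show ((∏ x, s x : p.primeCompl) : R) * y = 0
    rw [hc, Submonoid.coe_mul, mul_right_comm, hs ⟨y, hy⟩, zero_mul]
  simpa using hle hx

end Groth.Agent.S6275
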