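import Groth.Statements.S6277
import Mathlib

set_option autoImplicit false
universe u
open CAlg

namespace Groth.Agent.S6277

/-- Any surjective ring endomorphism of a Noetherian ring is an isomorphism (bijective). -/
theorem result {R : Type u} [CommRing R] [IsNoetherianRing R] (f : R →+* R) (hf : Function.Surjective f) : Function.Bijective f := by
  refine ⟨?_, hf⟩
  let K : ℕ →o Ideal R := ⟨fun n => RingHom.ker (f ^ n), monotone_nat_of_le_succ fun n x hx => ?_⟩
  · obtain ⟨n, hn⟩ := monotone_stabilizes_iff_noetherian.2 (inferInstance : IsNoetherian R R) K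
    refine (injective_iff_map_eq_zero f).2 fun x hx => ?_
    have hs : Function.Surjective (f ^ n : R →+* R) := by
      rw [RingHom.coe_pow]; exact hf.iterate n
    obtain ⟨y, rfl⟩ := hs x
    have : y ∈ K (n + 1) := by
      show (f ^ (n + 1)) y = 0
      rw [pow_succ']; exact hx
    rw [← hn (n + 1) n.le_succ] at this
    exact this
  · show (f ^ (n + 1)) x = 0
    rw [pow_succ']
    show f ((f ^ n) x) = 0
    rw [show (f ^ n) x = 0 from hx, map_zero]

end Groth.Agent.S6277
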