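import Groth.Statements.S6281
import Groth.Agent.FlatMorOne.FlatnessCriteria

set_option autoImplicit false
universe u
open CAlg

namespace Groth.Agent.S6281

/-- For an R-algebra S and an S-module M, flatness of S over R follows once M is both flat over R and
faithfully flat over S. -/
theorem result {R S : Type u} [CommRing R] [CommRing S] [Algebra R S] (M : Type u) [AddCommGroup M] [Module S M] [Module R M] [IsScalarTower R S M] [Module.Flat R M] [Module.FaithfullyFlat S M] : Module.Flat R S := Groth.FlatMorOne.flat_of_faithfullyFlat_module M

end Groth.Agent.S6281
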