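import Groth.Statements.S6282
-- import your own Groth.Agent.* helpers here

set_option autoImplicit false
universe u
open scoped TensorProduct
open CAlg

namespace Groth.Agent.S6282

/-- Let S → S' be a homomorphism of R-algebras, M an S-module, and M' = S' ⊗_S M with its induced
R-module structure. (1) When S' is flat over S, R-flatness of M passes to M'. (2) When S' is
faithfully flat over S, M is R-flat exactly when M' is. -/
theorem result {R S S' : Type u} [CommRing R] [CommRing S] [CommRing S'] [Algebra R S] [Algebra R S'] [Algebra S S'] [IsScalarTower R S S'] (M : Type u) [AddCommGroup M] [Module S M] [Module R M] [IsScalarTower R S M] : ([Module.Flat S S'] → Module.Flat R M → Module.Flat R (S' ⊗[S] M)) ∧ ([Module.FaithfullyFlat S S'] → (Module.Flat R M ↔ Module.Flat R (S' ⊗[S] M))) := by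
  have key : ∀ (N P : Type u) [AddCommGroup N] [AddCommGroup P] [Module R N] [Module R P] (f : N →ₗ[R] P),
      Function.Injective (f.lTensor (S' ⊗[S] M)) ↔
        Function.Injective ((TensorProduct.AlgebraTensorModule.lTensor S M f).lTensor S') := by
    intro N P _ _ _ _ f
    let eN := TensorProduct.AlgebraTensorModule.assoc R S S' S' M N
    let eP := TensorProduct.AlgebraTensorModule.assoc R S S' S' M P
    have hc : ∀ z, eP (f.lTensor (S' ⊗[S] M) z) = (TensorProduct.AlgebraTensorModule.lTensor S M f).lTensor S' (eN z) := by
      intro z
      induction z with
      | zero => simp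
      | tmul x n =>
        induction x with
        | zero => simp
        | tmul s m => simp [eN, eP]
        | add a b ha hb => simp only [TensorProduct.add_tmul, map_add, ha, hb]
      | add a b ha hb => simp only [map_add, ha, hb]
    constructor
    · intro h a b hab
      obtain ⟨a, rfl⟩ := eN.surjective a
      obtain ⟨b, rfl⟩ := eN.surjective b
      rw [← hc, ← hc] at hab
      rw [h (eP.injective hab)]
    · intro h a b hab
      exact eN.injective (h (by rw [← hc, ← hc, hab]))
  have hto : [Module.Flat S S'] → Module.Flat R M → Module.Flat R (S' ⊗[S] M) := by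
    intro _ hM
    rw [Module.Flat.iff_lTensor_preserves_injective_linearMap]
    intro N P _ _ _ _ f hf
    rw [key]
    exact Module.Flat.lTensor_preserves_injective_linearMap _
      (Module.Flat.lTensor_preserves_injective_linearMap (M := M) f hf)
  refine ⟨fun {_} => hto, fun {_} => ⟨hto, fun h => ?_⟩⟩
  rw [Module.Flat.iff_lTensor_preserves_injective_linearMap]
  intro N P _ _ _ _ f hf
  exact (Module.FaithfullyFlat.lTensor_injective_iff_injective S S' (f := TensorProduct.AlgebraTensorModule.lTensor S M f)).1
    ((key N P f).1 (Module.Flat.lTensor_preserves_injective_linearMap f hf))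

end Groth.Agent.S6282
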