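import Groth.Statements.S6283
import Mathlib.RingTheory.Flat.Basic
import Mathlib.LinearAlgebra.TensorProduct.Pi

set_option autoImplicit false
universe u
open scoped TensorProduct
open CAlg

namespace Groth.Agent.S6283

theorem map_annihilator_aux {R S N : Type*} [CommRing R] [CommRing S] [Algebra R S] [Module.Flat R S]
    [AddCommGroup N] [Module R N] {I : Ideal R} (f : R →ₗ[R] N) (hI : I = LinearMap.ker f)
    (J : Ideal S) (hJ : ∀ s : S, s ∈ J ↔ f.lTensor S (s ⊗ₜ[R] (1 : R)) = 0) :
    I.map (algebraMap R S) = J := by
  apply le_antisymm
  · rw [Ideal.map_le_iff_le_comap]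
    intro r hr
    rw [Ideal.mem_comap, hJ, Algebra.algebraMap_eq_smul_one, TensorProduct.smul_tmul,
      LinearMap.lTensor_tmul, smul_eq_mul, mul_one]
    rw [hI] at hr
    rw [LinearMap.mem_ker.1 hr, TensorProduct.tmul_zero]
  · intro s hs
    obtain ⟨w, hw⟩ := (Module.Flat.lTensor_exact S (LinearMap.exact_subtype_ker_map f) _).1 ((hJ s).1 hs)
    have : ∀ w, TensorProduct.rid R S ((LinearMap.ker f).subtype.lTensor S w) ∈
        I.map (algebraMap R S) := by
      intro w
      induction w using TensorProduct.induction_on with
      | zero => simp
      | tmul t r =>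
        rw [LinearMap.lTensor_tmul, TensorProduct.rid_tmul, Algebra.smul_def]
        exact Ideal.mul_mem_right _ _ (Ideal.mem_map_of_mem _ (hI ▸ r.2))
      | add a b ha hb => simp only [map_add]; exact add_mem ha hb
    simpa [hw] using this w

/-- Let R → S be a flat ring map, M an R-module and m ∈ M. Then Ann_R(m)S = Ann_S(1 ⊗ m), the
annihilator in S of the element 1 ⊗ m of S ⊗_R M. If moreover M is a finite R-module then Ann_R(M)S
= Ann_S(S ⊗_R M). -/
theorem result {R S : Type u} [CommRing R] [CommRing S] [Algebra R S] [Module.Flat R S] (M : Type u) [AddCommGroup M] [Module R M] : (∀ m : M, ((Submodule.span R {m}).annihilator).map (algebraMap R S) = (Submodule.span S {(1 : S) ⊗ₜ[R] m}).annihilator) ∧ (Module.Finite R M → (Module.annihilator R M).map (algebraMap R S) = Module.annihilator S (S ⊗[R] M)) := by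
  refine ⟨fun m => ?_, fun hfin => ?_⟩
  · exact (map_annihilator_aux (LinearMap.toSpanSingleton R M m)
      (Submodule.ext fun r => by simp [Submodule.mem_annihilator_span_singleton]) _
      (fun s => by
        rw [Submodule.mem_annihilator_span_singleton]
        simp [TensorProduct.smul_tmul']))
  · obtain ⟨n, g, hg⟩ := hfin.exists_fin
    refine map_annihilator_aux (LinearMap.pi fun i => LinearMap.toSpanSingleton R M (g i)) ?_ _ ?_
    · rw [← Submodule.annihilator_top, ← hg]
      ext r
      simp [Submodule.mem_annihilator_span, funext_iff]
    · intro s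
      have hspan : Submodule.span S (Set.range fun i => (1 : S) ⊗ₜ[R] g i) = ⊤ := by
        rw [eq_top_iff]
        intro z hz
        clear hz
        induction z using TensorProduct.induction_on with
        | zero => exact zero_mem _
        | tmul t y =>
          have hy : y ∈ Submodule.span R (Set.range g) := hg.ge Submodule.mem_top
          induction hy using Submodule.span_induction generalizing t with
          | mem w hw =>
            obtain ⟨i, rfl⟩ := hw
            rw [show t ⊗ₜ[R] g i = t • ((1 : S) ⊗ₜ[R] g i) by simp [TensorProduct.smul_tmul']]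
            exact Submodule.smul_mem _ _ (Submodule.subset_span ⟨i, rfl⟩)
          | zero => simp
          | add a b _ _ ha hb => rw [TensorProduct.tmul_add]; exact add_mem (ha t) (hb t)
          | smul r a _ ha => rw [TensorProduct.tmul_smul, TensorProduct.smul_tmul']; exact ha _
        | add a b ha hb => exact add_mem ha hb
      rw [← (TensorProduct.piRight R R S fun _ : Fin n => M).injective.eq_iff, map_zero,
        ← Submodule.annihilator_top, ← hspan, Submodule.mem_annihilator_span]
      simp [funext_iff, TensorProduct.smul_tmul']

end Groth.Agent.S6283
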