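import Groth.Statements.S6285
import Mathlib

set_option autoImplicit false
universe u
open CAlg

namespace Groth.Agent.S6285

/-- For a ring R and an R-module M of finite presentation, the support Supp(M) is closed in Spec(R), and
its complement in Spec(R) is quasi-compact. -/
theorem result (R : Type u) [CommRing R] (M : Type u) [AddCommGroup M] [Module R M] [Module.FinitePresentation R M] : IsClosed (Module.support R M) ∧ IsCompact (Module.support R M)ᶜ := by
  classical
  haveI : Module.Finite R M := inferInstance
  refine ⟨Module.isClosed_support, ?_⟩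
  obtain ⟨m, K, e, hK⟩ := Module.FinitePresentation.exists_fin R M
  obtain ⟨n, a, ha⟩ := Submodule.fg_iff_exists_fin_generating_family.1 hK
  let π : (Fin m → R) →ₗ[R] M := e.symm.toLinearMap ∘ₗ K.mkQ
  have hπ : Function.Surjective π := e.symm.surjective.comp (Submodule.mkQ_surjective K)
  have hker : ∀ v, π v = 0 ↔ v ∈ K := fun v => by
    simp [π, Submodule.Quotient.mk_eq_zero]
  let δ : (Fin m → Fin n) → R := fun r => (Matrix.of fun j => a (r j)).det
  suffices h : (Module.support R M)ᶜ = ⋃ r : Fin m → Fin n, (PrimeSpectrum.basicOpen (δ r) : Set (PrimeSpectrum R)) by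
    rw [h]
    exact isCompact_iUnion fun r => PrimeSpectrum.isCompact_basicOpen _
  ext q
  rw [Set.mem_compl_iff, Module.mem_support_iff_of_finite, Set.mem_iUnion, SetLike.not_le_iff_exists]
  constructor
  · rintro ⟨s, hs, hsq⟩
    have hgen : ∀ j, ∃ c : Fin n → R, ∑ k, c k • a k = s • (Pi.single j 1 : Fin m → R) := fun j => by
      rw [← Submodule.mem_span_range_iff_exists_fun, ha, ← hker, map_smul]
      exact Module.mem_annihilator.1 hs _
    choose C hC using hgen
    have hdet : s ^ m = ∑ r : Fin m → Fin n, (∏ j, C j (r j)) * δ r := by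
      have h1 : (Matrix.detRowAlternating (R := R) (n := Fin m)) (fun j => s • (Pi.single j (1 : R) : Fin m → R)) = s ^ m := by
        rw [show (fun j => s • (Pi.single j (1 : R) : Fin m → R)) = (fun j => (fun _ => s) j • (fun j => (Pi.single j (1 : R) : Fin m → R)) j) from rfl,
          AlternatingMap.map_smul_univ, Finset.prod_const, Finset.card_univ, Fintype.card_fin]
        have : Matrix.detRowAlternating (R := R) (fun j => (Pi.single j (1 : R) : Fin m → R)) = 1 := by
          rw [show (fun j => (Pi.single j (1 : R) : Fin m → R)) = (1 : Matrix (Fin m) (Fin m) R) from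
            funext fun j => funext fun i => by simp [Pi.single_apply, Matrix.one_apply, eq_comm]]
          exact Matrix.det_one
        rw [this, smul_eq_mul, mul_one]
      rw [← h1, show (fun j => s • (Pi.single j (1 : R) : Fin m → R)) = fun j => ∑ k, C j k • a k from funext fun j => (hC j).symm]
      refine ((Matrix.detRowAlternating (R := R) (n := Fin m)).toMultilinearMap.map_sum (fun j k => C j k • a k)).trans ?_
      refine Finset.sum_congr rfl fun r _ => ?_
      exact (Matrix.detRowAlternating (R := R) (n := Fin m)).toMultilinearMap.map_smul_univ (fun j => C j (r j)) fun j => a (r j)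
    by_contra hne
    push Not at hne
    refine hsq (q.2.mem_of_pow_mem m ?_)
    rw [hdet]
    exact sum_mem fun r _ => q.asIdeal.mul_mem_left _ (by simpa using hne r)
  · rintro ⟨r, hr⟩
    refine ⟨δ r, ?_, by simpa using hr⟩
    rw [Module.mem_annihilator]
    intro x
    obtain ⟨v, rfl⟩ := hπ x
    rw [← map_smul, hker]
    let A : Matrix (Fin m) (Fin m) R := Matrix.of fun j => a (r j)
    have : δ r • v = ∑ j, (Matrix.vecMul v A.adjugate) j • a (r j) := by
      have h1 : Matrix.vecMul (Matrix.vecMul v A.adjugate) A = δ r • v := by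
        rw [Matrix.vecMul_vecMul, Matrix.adjugate_mul, Matrix.vecMul_smul, Matrix.vecMul_one]
      rw [← h1, Matrix.vecMul_eq_sum]
      rfl
    rw [this]
    exact sum_mem fun j _ => K.smul_mem _ (ha ▸ Submodule.subset_span ⟨r j, rfl⟩)

end Groth.Agent.S6285
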