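import Groth.Statements.S6286
import Mathlib.RingTheory.Spectrum.Prime.Polynomial
import Mathlib.RingTheory.Flat.Basic

set_option autoImplicit false
universe u
open scoped TensorProduct
open CAlg

namespace Groth.Agent.S6286

/-- Let k be a field, R and S k-algebras, S' ⊆ S a k-subalgebra and f ∈ R ⊗ₖ S', with image f again in R
⊗ₖ S. Then the images in Spec(R) of Spec((R ⊗ₖ S)_f) and of Spec((R ⊗ₖ S')_f) coincide: a prime p of
R is the contraction of a prime of R ⊗ₖ S not containing f if and only if it is the contraction of a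
prime of R ⊗ₖ S' not containing f. -/
theorem result (k : Type u) [Field k] (R S : Type u) [CommRing R] [Algebra k R] [CommRing S] [Algebra k S] (S' : Subalgebra k S) (f : R ⊗[k] S') (p : PrimeSpectrum R) : (∃ q : PrimeSpectrum (R ⊗[k] S), Algebra.TensorProduct.map (AlgHom.id k R) S'.val f ∉ q.asIdeal ∧ q.asIdeal.comap (algebraMap R (R ⊗[k] S)) = p.asIdeal) ↔ (∃ q' : PrimeSpectrum (R ⊗[k] S'), f ∉ q'.asIdeal ∧ q'.asIdeal.comap (algebraMap R (R ⊗[k] S')) = p.asIdeal) := by
  have hiff : ∀ {T : Type u} [CommRing T] [Algebra R T] (g : T),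
      (∃ q : PrimeSpectrum T, g ∉ q.asIdeal ∧ q.asIdeal.comap (algebraMap R T) = p.asIdeal) ↔
        ¬ IsNilpotent (g ⊗ₜ[R] (1 : p.asIdeal.ResidueField)) := by
    intro T _ _ g
    rw [show g ⊗ₜ[R] (1 : p.asIdeal.ResidueField) = algebraMap T (T ⊗[R] p.asIdeal.ResidueField) g from rfl,
      ← PrimeSpectrum.mem_image_comap_basicOpen]
    exact ⟨fun ⟨q, h1, h2⟩ => ⟨q, h1, PrimeSpectrum.ext h2⟩, fun ⟨q, h1, h2⟩ => ⟨q, h1, congrArg PrimeSpectrum.asIdeal h2⟩⟩
  rw [hiff, hiff, not_iff_not]
  let e : ∀ (T : Type u) [CommRing T] [Algebra k T],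
      (R ⊗[k] T) ⊗[R] p.asIdeal.ResidueField ≃ₐ[R] p.asIdeal.ResidueField ⊗[k] T := fun T _ _ =>
    (Algebra.TensorProduct.comm R (R ⊗[k] T) p.asIdeal.ResidueField).trans
      ((Algebra.TensorProduct.cancelBaseChange k R R p.asIdeal.ResidueField T))
  let j : p.asIdeal.ResidueField ⊗[k] S' →ₐ[k] p.asIdeal.ResidueField ⊗[k] S :=
    Algebra.TensorProduct.map (AlgHom.id k _) S'.val
  have hj : Function.Injective j :=
    Module.Flat.lTensor_preserves_injective_linearMap (M := p.asIdeal.ResidueField) S'.val.toLinearMap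
      Subtype.val_injective
  have hcomp : ∀ x : R ⊗[k] S', e S (Algebra.TensorProduct.map (AlgHom.id k R) S'.val x ⊗ₜ[R] 1) =
      j (e S' (x ⊗ₜ[R] 1)) := fun x => by
    induction x using TensorProduct.induction_on with
    | zero => simp
    | tmul r s => simp [e, j]
    | add a b ha hb => simp only [map_add, TensorProduct.add_tmul, ha, hb]
  rw [← IsNilpotent.map_iff (e S).injective, hcomp, IsNilpotent.map_iff hj, IsNilpotent.map_iff (e S').injective]

end Groth.Agent.S6286
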