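import Groth.Statements.S6287
import Mathlib.Algebra.Colimit.Ring
import Mathlib.RingTheory.Valuation.ValuationRing

set_option autoImplicit false
universe u
open CAlg

namespace Groth.Agent.S6287

/-- Let (A_i) be a directed system of valuation rings. Then the colimit A = colim A_i is a valuation
ring (in particular a domain). -/
theorem result {ι : Type u} [Preorder ι] [Nonempty ι] [IsDirected ι (· ≤ ·)] (G : ι → Type u) [∀ i, CommRing (G i)] [∀ i, IsDomain (G i)] [∀ i, ValuationRing (G i)] (f : ∀ i j, i ≤ j → G i →+* G j) [DirectedSystem G fun i j h => f i j h] : ∃ _ : IsDomain (Ring.DirectLimit G fun i j h => f i j h), ValuationRing (Ring.DirectLimit G fun i j h => f i j h) := by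
  let L := Ring.DirectLimit G fun i j h => f i j h
  let of := Ring.DirectLimit.of G (fun i j h => f i j h)
  have hpair : ∀ x y : L, ∃ (i : ι) (a b : G i), of i a = x ∧ of i b = y := by
    intro x y
    obtain ⟨i, a, rfl⟩ := Ring.DirectLimit.exists_of x
    obtain ⟨j, b, rfl⟩ := Ring.DirectLimit.exists_of y
    obtain ⟨k, hik, hjk⟩ := exists_ge_ge i j
    exact ⟨k, f i k hik a, f j k hjk b, Ring.DirectLimit.of_f hik a, Ring.DirectLimit.of_f hjk b⟩
  have : Nontrivial L := by
    obtain ⟨i⟩ := ‹Nonempty ι›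
    refine ⟨⟨of i 1, 0, fun h => ?_⟩⟩
    obtain ⟨j, hij, hj⟩ := Ring.DirectLimit.of.zero_exact h
    rw [map_one] at hj
    exact one_ne_zero hj
  have : NoZeroDivisors L := ⟨fun {x y} hxy => by
    obtain ⟨i, a, b, rfl, rfl⟩ := hpair x y
    rw [← map_mul] at hxy
    obtain ⟨j, hij, hj⟩ := Ring.DirectLimit.of.zero_exact hxy
    rw [map_mul, mul_eq_zero] at hj
    rcases hj with h | h
    · exact Or.inl (by rw [← Ring.DirectLimit.of_f hij a, h, map_zero])
    · exact Or.inr (by rw [← Ring.DirectLimit.of_f hij b, h, map_zero])⟩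
  have : IsDomain L := NoZeroDivisors.to_isDomain L
  suffices h : PreValuationRing L from ⟨this, { h with }⟩
  refine ⟨fun x y => ?_⟩
  obtain ⟨i, a, b, rfl, rfl⟩ := hpair x y
  obtain ⟨c, hc | hc⟩ := ValuationRing.cond a b
  · exact ⟨of i c, Or.inl (by rw [← map_mul, hc])⟩
  · exact ⟨of i c, Or.inr (by rw [← map_mul, hc])⟩

end Groth.Agent.S6287
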