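import Groth.Statements.S6289
import Mathlib.RingTheory.Valuation.ValuationSubring

set_option autoImplicit false
universe u
open CAlg

namespace Groth.Agent.S6289

/-- Let A' be a valuation ring with residue field K and A ⊆ K a valuation ring with fraction field K.
Then the subring C of A' consisting of the elements whose residue class lies in A is a valuation
ring. -/
theorem result (A' : Type u) [CommRing A'] [IsDomain A'] [ValuationRing A'] (A : ValuationSubring (IsLocalRing.ResidueField A')) : ValuationRing (A.toSubring.comap (IsLocalRing.residue A')) := by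
  suffices h : PreValuationRing (A.toSubring.comap (IsLocalRing.residue A')) from { h with }
  constructor
  intro a b
  rcases ValuationRing.cond (a : A') (b : A') with ⟨t, ht | ht⟩
  · rcases A.mem_or_inv_mem (IsLocalRing.residue A' t) with h | h
    · exact ⟨⟨t, h⟩, Or.inl (Subtype.ext ht)⟩
    · by_cases h0 : IsLocalRing.residue A' t = 0
      · exact ⟨⟨t, show IsLocalRing.residue A' t ∈ A.toSubring from h0 ▸ A.zero_mem⟩, Or.inl (Subtype.ext ht)⟩
      · obtain ⟨u, hu⟩ := (IsLocalRing.residue_ne_zero_iff_isUnit t).1 h0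
        refine ⟨⟨(↑u⁻¹ : A'), show IsLocalRing.residue A' _ ∈ A.toSubring from ?_⟩, Or.inr (Subtype.ext ?_)⟩
        · rw [map_units_inv, hu]; exact h
        · show (b : A') * ↑u⁻¹ = a
          rw [← ht, ← hu, mul_assoc, Units.mul_inv, mul_one]
  · rcases A.mem_or_inv_mem (IsLocalRing.residue A' t) with h | h
    · exact ⟨⟨t, h⟩, Or.inr (Subtype.ext ht)⟩
    · by_cases h0 : IsLocalRing.residue A' t = 0
      · exact ⟨⟨t, show IsLocalRing.residue A' t ∈ A.toSubring from h0 ▸ A.zero_mem⟩, Or.inr (Subtype.ext ht)⟩
      · obtain ⟨u, hu⟩ := (IsLocalRing.residue_ne_zero_iff_isUnit t).1 h0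
        refine ⟨⟨(↑u⁻¹ : A'), show IsLocalRing.residue A' _ ∈ A.toSubring from ?_⟩, Or.inl (Subtype.ext ?_)⟩
        · rw [map_units_inv, hu]; exact h
        · show (a : A') * ↑u⁻¹ = b
          rw [← ht, ← hu, mul_assoc, Units.mul_inv, mul_one]

end Groth.Agent.S6289
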