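import Groth.Statements.S6290
import Mathlib.RingTheory.Filtration

set_option autoImplicit false
universe u
open CAlg

namespace Groth.Agent.S6290

/-- Let R be a Noetherian ring, I ⊆ R an ideal, M a finite R-module and N = ⋂ₙ IⁿM. Then for every prime
p ⊇ I there is f ∈ R, f ∉ p, with N_f = 0, i.e. every element of N is annihilated by some power of
f. -/
theorem result {R : Type u} [CommRing R] [IsNoetherianRing R] (I : Ideal R) (M : Type u) [AddCommGroup M] [Module R M] [Module.Finite R M] (p : Ideal R) [p.IsPrime] (hIp : I ≤ p) : ∃ f : R, f ∉ p ∧ ∀ x ∈ (⨅ n : ℕ, I ^ n • (⊤ : Submodule R M)), ∃ k : ℕ, f ^ k • x = 0 := by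
  classical
  obtain ⟨T, hT⟩ := IsNoetherian.noetherian (⨅ n : ℕ, I ^ n • (⊤ : Submodule R M))
  have h1 : ∀ x ∈ T, ∃ r : I, (r : R) • x = x := fun x hx =>
    (I.mem_iInf_smul_pow_eq_bot_iff x).1 (hT ▸ Submodule.subset_span hx)
  choose r hr using h1
  refine ⟨∏ x ∈ T.attach, (1 - (r x.1 x.2 : R)), ?_, fun x hx => ⟨1, ?_⟩⟩
  · intro h
    obtain ⟨x, -, hx⟩ := (Ideal.IsPrime.prod_mem_iff (hp := ‹p.IsPrime›)).1 h
    exact (Ideal.IsPrime.ne_top ‹_›) ((Ideal.eq_top_iff_one p).2
      (by simpa using p.add_mem hx (hIp (r x.1 x.2).2)))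
  · rw [← hT] at hx
    rw [pow_one]
    induction hx using Submodule.span_induction with
    | mem y hy =>
      rw [Finset.prod_eq_prod_sdiff_singleton_mul (Finset.mem_attach T ⟨y, hy⟩), mul_smul, sub_smul,
        one_smul, hr y hy, sub_self, smul_zero]
    | zero => simp
    | add y z _ _ hy hz => rw [smul_add, hy, hz, add_zero]
    | smul a y _ hy => rw [smul_comm, hy, smul_zero]

end Groth.Agent.S6290
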