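import Groth.Statements.S6291
import Mathlib

set_option autoImplicit false
universe u
open CAlg

namespace Groth.Agent.S6291

/-- Let R be a local ring with maximal ideal m and M an R-module of finite length. Then mⁿM = 0 for some
n. -/
theorem result {R : Type u} [CommRing R] [IsLocalRing R] (M : Type u) [AddCommGroup M] [Module R M] (hM : IsFiniteLength R M) : ∃ n : ℕ, (IsLocalRing.maximalIdeal R) ^ n • (⊤ : Submodule R M) = ⊥ := by
  obtain ⟨hN, hA⟩ := isFiniteLength_iff_isNoetherian_isArtinian.1 hM
  obtain ⟨n, hn⟩ := IsArtinian.monotone_stabilizes (R := R) (M := M)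
    ⟨fun n => OrderDual.toDual ((IsLocalRing.maximalIdeal R) ^ n • (⊤ : Submodule R M)),
      fun a b hab => Submodule.smul_mono_left (Ideal.pow_le_pow_right hab)⟩
  refine ⟨n, Submodule.eq_bot_of_le_smul_of_le_jacobson_bot (IsLocalRing.maximalIdeal R) _
    (IsNoetherian.noetherian _) ?_ (IsLocalRing.maximalIdeal_le_jacobson _)⟩
  have h : (IsLocalRing.maximalIdeal R) ^ n • (⊤ : Submodule R M) =
      (IsLocalRing.maximalIdeal R) ^ (n + 1) • (⊤ : Submodule R M) := hn (n + 1) n.le_succ
  rw [← Submodule.mul_smul, ← pow_succ', ← h]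

end Groth.Agent.S6291
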