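import Groth.Statements.S6292
import Mathlib.RingTheory.Noetherian.OfPrime
import Mathlib.RingTheory.FiniteLength
import Mathlib.RingTheory.HopkinsLevitzki

set_option autoImplicit false
universe u
open CAlg

namespace Groth.Agent.S6292

/-- Let R be a ring and m ⊆ R a finitely generated maximal ideal (for instance R Noetherian). If M is a
finite R-module with mⁿM = 0 for some n, then M has finite length. -/
theorem result {R : Type u} [CommRing R] (m : Ideal R) [m.IsMaximal] (hm : m.FG) (M : Type u) [AddCommGroup M] [Module R M] [Module.Finite R M] (n : ℕ) (hn : m ^ n • (⊤ : Submodule R M) = ⊥) : IsFiniteLength R M := by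
  let Q := R ⧸ m ^ n
  have hprime : ∀ P : Ideal Q, P.IsPrime → P = m.map (Ideal.Quotient.mk (m ^ n)) := by
    intro P hP
    have h1 : m ^ n ≤ P.comap (Ideal.Quotient.mk (m ^ n)) := fun x hx => by
      rw [Ideal.mem_comap, Ideal.Quotient.eq_zero_iff_mem.2 hx]; exact zero_mem _
    have h2 : m ≤ P.comap (Ideal.Quotient.mk (m ^ n)) := Ideal.IsPrime.le_of_pow_le h1
    have h3 := (‹m.IsMaximal›).eq_of_le (Ideal.IsPrime.ne_top inferInstance) h2
    exact (Ideal.map_comap_of_surjective _ Ideal.Quotient.mk_surjective P).symm.trans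
      (congrArg (Ideal.map (Ideal.Quotient.mk (m ^ n))) h3.symm)
  have : IsNoetherianRing Q := IsNoetherianRing.of_prime fun P hP => by
    rw [hprime P hP]; exact hm.map _
  have : Ring.KrullDimLE 0 Q := Ring.KrullDimLE.mk₀ fun P hP => by
    obtain ⟨M', hM', hle⟩ := Ideal.exists_le_maximal P hP.ne_top
    rw [hprime P hP, ← hprime M' hM'.isPrime]; exact hM'
  have : IsArtinianRing Q := isArtinianRing_iff_isNoetherianRing_krullDimLE_zero.2 ⟨‹_›, ‹_›⟩
  let : Module Q M := Module.IsTorsionBySet.module (I := m ^ n) fun x a =>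
    (Submodule.mem_bot R).1 (hn ▸ Submodule.smul_mem_smul a.2 Submodule.mem_top)
  have : IsScalarTower R Q M := ⟨fun r c x => by
    obtain ⟨c, rfl⟩ := Ideal.Quotient.mk_surjective c
    exact mul_smul r c x⟩
  have : Module.Finite Q M := Module.Finite.of_restrictScalars_finite R Q M
  rw [isFiniteLength_iff_isNoetherian_isArtinian]
  constructor
  · have : IsNoetherian Q M := inferInstance
    refine ⟨fun N => ?_⟩
    let N' : Submodule Q M :=
      { N.toAddSubmonoid with
        smul_mem' := fun c x hx => by
          obtain ⟨c, rfl⟩ := Ideal.Quotient.mk_surjective c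
          exact N.smul_mem c hx }
    obtain ⟨T, hT⟩ := IsNoetherian.noetherian N'
    refine ⟨T, ?_⟩
    rw [← Submodule.restrictScalars_span R Q Ideal.Quotient.mk_surjective, hT]
    rfl
  · have : IsArtinian Q M := inferInstance
    exact isArtinian_of_surjective_algebraMap (R := Q) Ideal.Quotient.mk_surjective

end Groth.Agent.S6292
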