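import Groth.Statements.S6294
import Mathlib.RingTheory.Localization.AtPrime.Basic
import Mathlib.RingTheory.Ideal.MinimalPrime.Localization
import Mathlib.Algebra.Group.Pi.Units

set_option autoImplicit false
universe u
open CAlg

namespace Groth.Agent.S6294

/-- Let R be a ring with finitely many minimal primes q₁, …, q_t, and assume that the zerodivisors of R
are precisely the elements of q₁ ∪ … ∪ q_t. Then Q(R), the total ring of fractions of R, equals
R_{q₁} × … × R_{q_t}: the diagonal map R → ∏ R_{q_i} is a localization of R at its non-zerodivisors. -/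
theorem result {R : Type u} [CommRing R] {ι : Type} [Fintype ι] (q : ι → Ideal R) [∀ i, (q i).IsPrime] (hinj : Function.Injective q) (hmin : ∀ P : Ideal R, P ∈ minimalPrimes R ↔ P ∈ Set.range q) (hzd : ∀ x : R, x ∈ nonZeroDivisors R ↔ ∀ i, x ∉ q i) : IsLocalization (nonZeroDivisors R) (∀ i, Localization.AtPrime (q i)) := by
  classical
  have hqmin : ∀ i, q i ∈ minimalPrimes R := fun i => (hmin _).2 ⟨i, rfl⟩
  have he : ∀ i, ∃ e : R, e ∉ q i ∧ ∀ j, j ≠ i → e ∈ q j := by
    intro i
    have hne : ∀ j, j ≠ i → ∃ x ∈ q j, x ∉ q i := fun j hj => SetLike.not_le_iff_exists.1 fun hle =>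
      hj (hinj (le_antisymm hle ((hqmin i).2 ⟨inferInstance, bot_le⟩ hle)))
    choose x hx hxi using hne
    refine ⟨∏ j : {j // j ≠ i}, x j.1 j.2, fun h => ?_, fun j hj => ?_⟩
    · obtain ⟨j, -, hj⟩ := (Ideal.IsPrime.prod_mem_iff (hp := inferInstanceAs (q i).IsPrime)).1 h
      exact hxi _ _ hj
    · exact Ideal.mem_of_dvd _ (Finset.dvd_prod_of_mem (fun j : {j // j ≠ i} => x j.1 j.2)
        (Finset.mem_univ (⟨j, hj⟩ : {j // j ≠ i}))) (hx j hj)
  choose e he hej using he
  have hnil : ∀ (j : ι) (y : R), y ∈ q j → IsNilpotent (algebraMap R (Localization.AtPrime (q j)) y) := by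
    intro j y hy
    rw [nilpotent_iff_mem_prime]
    intro P hP
    have hle : P.comap (algebraMap R (Localization.AtPrime (q j))) ≤ q j := fun z hz => by
      by_contra hzq
      exact hP.ne_top (Ideal.eq_top_of_isUnit_mem _ hz
        (IsLocalization.map_units (Localization.AtPrime (q j)) (⟨z, hzq⟩ : (q j).primeCompl)))
    exact (hqmin j).2 ⟨hP.comap _, bot_le⟩ hle hy
  have hN : ∀ i j, j ≠ i → ∃ n : ℕ, algebraMap R (Localization.AtPrime (q j)) (e i) ^ n = 0 :=
    fun i j hj => hnil j (e i) (hej i j hj)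
  choose n hn using hN
  let N : ℕ := (∑ i, ∑ j, if h : j ≠ i then n i j h else 0) + 1
  have hzero : ∀ i j, j ≠ i → algebraMap R (Localization.AtPrime (q j)) (e i) ^ N = 0 := by
    intro i j hj
    refine pow_eq_zero_of_le ?_ (hn i j hj)
    have h1 : n i j hj ≤ ∑ j, if h : j ≠ i then n i j h else 0 := by
      refine le_trans ?_ (Finset.single_le_sum (fun _ _ => Nat.zero_le _) (Finset.mem_univ j))
      rw [dif_pos hj]
    have h2 : (∑ j, if h : j ≠ i then n i j h else 0) ≤ ∑ i, ∑ j, if h : j ≠ i then n i j h else 0 :=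
      Finset.single_le_sum (f := fun i => ∑ j, if h : j ≠ i then n i j h else 0)
        (fun _ _ => Nat.zero_le _) (Finset.mem_univ i)
    omega
  have hEmem : ∀ s : ∀ i, (q i).primeCompl, (∑ i, e i ^ N * (s i : R)) ∈ nonZeroDivisors R := by
    intro s
    rw [hzd]
    intro j h
    have hrest : (∑ i ∈ Finset.univ.erase j, e i ^ N * (s i : R)) ∈ q j :=
      sum_mem fun i hi => Ideal.mul_mem_right _ _
        (Ideal.pow_mem_of_mem _ (hej i j (Ne.symm (Finset.ne_of_mem_erase hi))) N (by omega))
    rw [← Finset.add_sum_erase _ _ (Finset.mem_univ j)] at h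
    rcases Ideal.IsPrime.mem_or_mem (inferInstanceAs (q j).IsPrime) ((add_mem_cancel_right hrest).1 h) with h' | h'
    · exact he j (Ideal.IsPrime.mem_of_pow_mem (inferInstanceAs (q j).IsPrime) N h')
    · exact (s j).2 h'
  refine { map_units := ?_, surj := ?_, exists_of_eq := ?_ }
  · rintro ⟨y, hy⟩
    rw [Pi.isUnit_iff]
    exact fun i => IsLocalization.map_units (Localization.AtPrime (q i))
      (⟨y, (hzd y).1 hy i⟩ : (q i).primeCompl)
  · intro z
    choose w hw using fun i => IsLocalization.surj (q i).primeCompl (z i)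
    refine ⟨⟨∑ i, e i ^ N * (w i).1, ⟨∑ i, e i ^ N * ((w i).2 : R), hEmem fun i => (w i).2⟩⟩, ?_⟩
    funext j
    rw [Pi.mul_apply, Pi.algebraMap_apply, Pi.algebraMap_apply]
    simp only [map_sum, map_mul, map_pow]
    rw [Finset.sum_eq_single j (fun i _ hi => by rw [hzero i j (Ne.symm hi), zero_mul])
      (fun h => absurd (Finset.mem_univ j) h),
      Finset.sum_eq_single j (fun i _ hi => by rw [hzero i j (Ne.symm hi), zero_mul])
      (fun h => absurd (Finset.mem_univ j) h), mul_left_comm, hw j]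
  · intro x y hxy
    choose s hs using fun i => (IsLocalization.eq_iff_exists (q i).primeCompl
      (Localization.AtPrime (q i))).1 (congrFun hxy i)
    refine ⟨⟨∑ i, e i ^ N * (s i : R), hEmem s⟩, ?_⟩
    simp only [Finset.sum_mul, mul_assoc, hs]

end Groth.Agent.S6294
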