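import Groth.Statements.S6295
import Mathlib

set_option autoImplicit false
universe u
open CAlg

namespace Groth.Agent.S6295

/-- Let R be a reduced ring. Then every localization R_p at a minimal prime p is a field and the map R →
∏_{p minimal} R_p is injective (so R is a subring of a product of fields); moreover the set of
zerodivisors of R is the union of the minimal primes. -/
theorem result (R : Type u) [CommRing R] [IsReduced R] : (∀ p : PrimeSpectrum R, p.asIdeal ∈ minimalPrimes R → IsField (Localization.AtPrime p.asIdeal)) ∧ Function.Injective (algebraMap R (∀ p : {p : PrimeSpectrum R // p.asIdeal ∈ minimalPrimes R}, Localization.AtPrime p.1.asIdeal)) ∧ (∀ x : R, x ∉ nonZeroDivisors R ↔ ∃ p ∈ minimalPrimes R, x ∈ p) := by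
  have hne : ∀ x : R, x ∉ nonZeroDivisors R ↔ ∃ p ∈ minimalPrimes R, x ∈ p := by
    intro x
    refine ⟨fun hx => ?_, fun ⟨p, hp, hxp⟩ => notMem_nonZeroDivisors_of_mem_mem_minimalPrimes hxp hp⟩
    rw [mem_nonZeroDivisors_iff_right] at hx
    push Not at hx
    obtain ⟨y, hy, hy0⟩ := hx
    have : x ∈ ⋃ p ∈ (⊥ : Ideal R).minimalPrimes, (p : Set R) := by
      rw [Ideal.iUnion_minimalPrimes]
      refine ⟨y, ?_, ?_⟩
      · rw [Ideal.radical_bot_of_noZeroDivisors]
        simpa using hy0
      · exact Ideal.le_radical (by simp [mul_comm x y, hy])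
    obtain ⟨p, hp, hxp⟩ := Set.mem_iUnion₂.1 this
    exact ⟨p, hp, hxp⟩
  refine ⟨fun p hp => ?_, ?_, hne⟩
  · haveI : IsReduced (Localization.AtPrime p.asIdeal) :=
      isReduced_localizationPreserves p.asIdeal.primeCompl _ inferInstance
    have hsub : Subsingleton (PrimeSpectrum (Localization.AtPrime p.asIdeal)) :=
      IsLocalization.subsingleton_primeSpectrum_of_mem_minimalPrimes p.asIdeal hp _
    refine IsLocalRing.isField_iff_maximalIdeal_eq.2 ?_
    rw [← le_bot_iff]
    intro y hy
    have : y ∈ nilradical (Localization.AtPrime p.asIdeal) := by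
      rw [nilradical_eq_sInf]
      refine Submodule.mem_sInf.2 fun q hq => ?_
      exact (congrArg PrimeSpectrum.asIdeal (Subsingleton.elim
        (⟨_, (IsLocalRing.maximalIdeal.isMaximal (Localization.AtPrime p.asIdeal)).isPrime⟩ : PrimeSpectrum _) ⟨q, hq⟩)).le hy
    simpa [nilradical_eq_zero] using this
  · refine (injective_iff_map_eq_zero _).2 fun x hx => ?_
    have hall : ∀ P ∈ minimalPrimes R, x ∈ P := by
      intro P hP
      haveI := hP.1.1
      by_contra hxP
      have h0 : algebraMap R (Localization.AtPrime P) x = 0 := congrFun hx ⟨⟨P, hP.1.1⟩, hP⟩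
      obtain ⟨s, hs⟩ := (IsLocalization.map_eq_zero_iff P.primeCompl _ _).1 h0
      rcases hP.1.1.mem_or_mem (show (s : R) * x ∈ P by rw [hs]; exact P.zero_mem) with h | h
      · exact s.2 h
      · exact hxP h
    have hmem : x ∈ (⊥ : Ideal R).radical := by
      rw [← Ideal.sInf_minimalPrimes]
      exact Submodule.mem_sInf.2 hall
    rw [show (⊥ : Ideal R).radical = nilradical R from rfl, nilradical_eq_zero] at hmem
    simpa using hmem

end Groth.Agent.S6295
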