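import Groth.Statements.S6296
import Mathlib

set_option autoImplicit false
universe u
open CAlg

namespace Groth.Agent.S6296

/-- Let A → B be a local homomorphism of local rings such that (1) B is a finite A-module, (2) the
maximal ideal m_B is finitely generated, (3) the induced map of residue fields is an isomorphism,
and (4) m_A/m_A² → m_B/m_B² is surjective, i.e. m_B ⊆ m_A B + m_B². Then A → B is surjective. -/
theorem result {A B : Type u} [CommRing A] [CommRing B] [IsLocalRing A] [IsLocalRing B] [Algebra A B] [IsLocalHom (algebraMap A B)] [Module.Finite A B] (hfg : (IsLocalRing.maximalIdeal B).FG) (hres : Function.Surjective (IsLocalRing.ResidueField.map (algebraMap A B))) (hcot : IsLocalRing.maximalIdeal B ≤ (IsLocalRing.maximalIdeal A).map (algebraMap A B) ⊔ (IsLocalRing.maximalIdeal B) ^ 2) : Function.Surjective (algebraMap A B) := by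
  have h1 : IsLocalRing.maximalIdeal B ≤ (IsLocalRing.maximalIdeal A).map (algebraMap A B) := by
    refine Submodule.le_of_le_smul_of_le_jacobson_bot hfg (IsLocalRing.maximalIdeal_le_jacobson _) ?_
    rwa [smul_eq_mul, ← pow_two]
  have h2 : LinearMap.range (Algebra.linearMap A B) = ⊤ := by
    rw [eq_top_iff]
    refine Submodule.le_of_le_smul_of_le_jacobson_bot (I := IsLocalRing.maximalIdeal A)
      Module.Finite.fg_top (IsLocalRing.maximalIdeal_le_jacobson _) fun b _ => ?_
    obtain ⟨a, ha⟩ := hres (IsLocalRing.residue B b)
    obtain ⟨a, rfl⟩ := IsLocalRing.residue_surjective a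
    rw [IsLocalRing.ResidueField.map_residue] at ha
    have hmem : b - algebraMap A B a ∈ IsLocalRing.maximalIdeal B := Ideal.Quotient.eq.1 ha.symm
    refine Submodule.mem_sup.2 ⟨algebraMap A B a, ⟨a, rfl⟩, b - algebraMap A B a, ?_, by ring⟩
    rw [Ideal.smul_top_eq_map]
    exact h1 hmem
  exact LinearMap.range_eq_top.1 h2

end Groth.Agent.S6296
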