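import Groth.Statements.S6297
import Mathlib.LinearAlgebra.Matrix.Adjugate
import Mathlib.LinearAlgebra.Matrix.Determinant.Basic

set_option autoImplicit false
universe u
open CAlg

namespace Groth.Agent.S6297

/-- Let R be a ring, m ≤ n, A an n × m matrix over R and J the ideal generated by the m × m minors of A.
(1) For every f ∈ J there is an m × n matrix B with BA = f · 1. (2) If BA = f · 1 for some m × n
matrix B, then f^m ∈ J. -/
theorem result {R : Type u} [CommRing R] {n m : ℕ} (hmn : m ≤ n) (A : Matrix (Fin n) (Fin m) R) : (∀ f ∈ CAlgX.minorIdeal A m, ∃ B : Matrix (Fin m) (Fin n) R, B * A = f • (1 : Matrix (Fin m) (Fin m) R)) ∧ (∀ (f : R) (B : Matrix (Fin m) (Fin n) R), B * A = f • (1 : Matrix (Fin m) (Fin m) R) → f ^ m ∈ CAlgX.minorIdeal A m) := by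
  classical
  refine ⟨fun f hf => ?_, fun f B hB => ?_⟩
  · induction hf using Submodule.span_induction with
    | mem x hx =>
      obtain ⟨⟨g, h⟩, rfl⟩ := hx
      by_cases hh : Function.Bijective h
      · let e := Equiv.ofBijective h hh
        refine ⟨Matrix.of fun j i => (Equiv.Perm.sign e : R) *
          ∑ k, ((A.submatrix g id).adjugate j k) * (if g k = i then 1 else 0), ?_⟩
        have hdet : Matrix.det (A.submatrix g h) =
            (Equiv.Perm.sign e : R) * Matrix.det (A.submatrix g id) := by
          rw [← Matrix.det_permute' e (A.submatrix g id)]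
          rfl
        ext a b
        have := congrFun (congrFun (Matrix.adjugate_mul (A.submatrix g id)) a) b
        simp only [Matrix.mul_apply, Matrix.submatrix_apply, id_eq, Matrix.smul_apply] at this
        show _ = (Matrix.det (A.submatrix g h) • (1 : Matrix (Fin m) (Fin m) R)) a b
        rw [Matrix.smul_apply, hdet, smul_eq_mul, mul_assoc, ← smul_eq_mul (Matrix.det _), ← this]
        simp only [Matrix.mul_apply, Matrix.of_apply, mul_assoc, Finset.mul_sum, Finset.sum_mul]
        rw [Finset.sum_comm]
        refine Finset.sum_congr rfl fun k _ => ?_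
        simp
      · have : Matrix.det (A.submatrix g h) = 0 := by
          obtain ⟨a, b, hab, hne⟩ := Function.not_injective_iff.1
            (fun hi => hh (Finite.injective_iff_bijective.1 hi))
          exact Matrix.det_zero_of_column_eq hne fun i => by simp [hab]
        exact ⟨0, by simp [this]⟩
    | zero => exact ⟨0, by simp⟩
    | add x y _ _ hx hy =>
      obtain ⟨B, hB⟩ := hx
      obtain ⟨C, hC⟩ := hy
      exact ⟨B + C, by rw [Matrix.add_mul, hB, hC, add_smul]⟩
    | smul a x _ hx =>
      obtain ⟨B, hB⟩ := hx
      exact ⟨a • B, by rw [Matrix.smul_mul, hB, smul_smul, smul_eq_mul]⟩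
  · have h1 : Matrix.det (B * A) = f ^ m := by rw [hB]; simp [Matrix.det_smul]
    have hrow : (B * A : Matrix (Fin m) (Fin m) R) = fun i => ∑ k, B i k • A k := by
      ext i j
      simp [Matrix.mul_apply]
    rw [← h1, hrow]
    show Matrix.detRowAlternating.toMultilinearMap (fun i => ∑ k, B i k • A k) ∈ _
    rw [MultilinearMap.map_sum]
    refine Ideal.sum_mem _ fun g _ => ?_
    rw [MultilinearMap.map_smul_univ, smul_eq_mul]
    exact Ideal.mul_mem_left _ _ (Ideal.subset_span ⟨⟨g, id⟩, rfl⟩)

end Groth.Agent.S6297
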