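import Groth.Statements.S6298
import Mathlib

set_option autoImplicit false
universe u
open CAlg

namespace Groth.Agent.S6298

/-- Let R be a ring, x ∈ R, I ⊆ R an ideal and p₁, …, p_r prime ideals such that for each i the coset x
+ I is not contained in p_i. Then there is y ∈ I with x + y ∉ p_i for all i. -/
theorem result {R : Type u} [CommRing R] (x : R) (I : Ideal R) {r : ℕ} (p : Fin r → Ideal R) [∀ i, (p i).IsPrime] (h : ∀ i, ∃ y ∈ I, x + y ∉ p i) : ∃ y ∈ I, ∀ i, x + y ∉ p i := by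
  classical
  let S := Finset.univ.filter fun i => x ∈ p i
  let T := Finset.univ.filter fun j => x ∉ p j ∧ ∀ i ∈ S, ¬ p j ≤ p i
  let J := I ⊓ T.inf p
  have hnot : ∀ i ∈ S, ¬ J ≤ p i := by
    intro i hi hle
    have hx : x ∈ p i := (Finset.mem_filter.1 hi).2
    rcases (Ideal.IsPrime.inf_le inferInstance).1 hle with h1 | h1
    · obtain ⟨y, hy, hy'⟩ := h i
      exact hy' ((p i).add_mem hx (h1 hy))
    · obtain ⟨j, hj, hj'⟩ := (Ideal.IsPrime.inf_le' inferInstance).1 h1
      exact (Finset.mem_filter.1 hj).2.2 i hi hj'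
  obtain ⟨y, hyJ, hyS⟩ : ∃ y ∈ J, ∀ i ∈ S, y ∉ p i := by
    by_contra hc
    push Not at hc
    have hsub : (J : Set R) ⊆ ⋃ i ∈ (↑S : Set (Fin r)), (p i : Set R) := fun y hy => by
      obtain ⟨i, hi, hi'⟩ := hc y hy
      exact Set.mem_biUnion hi hi'
    obtain hS | ⟨i, hi⟩ := S.eq_empty_or_nonempty
    · obtain ⟨i, hi, -⟩ := hc 0 J.zero_mem; simp [hS] at hi
    · obtain ⟨k, hk, hk'⟩ := (Ideal.subset_union_prime i i (fun _ _ _ _ => inferInstance)).1 hsub
      exact hnot k hk hk'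
  have hgood : ∀ i ∈ S, x + y ∉ p i := fun i hi hxy =>
    hyS i hi (((p i).add_mem_iff_right (Finset.mem_filter.1 hi).2).1 hxy)
  refine ⟨y, hyJ.1, fun j hxy => ?_⟩
  by_cases hxj : x ∈ p j
  · exact hgood j (by simp [S, hxj]) hxy
  · by_cases hjT : j ∈ T
    · have hy : y ∈ p j := (Finset.inf_le (f := p) hjT) hyJ.2
      exact hxj (((p j).add_mem_iff_left hy).1 hxy)
    · simp only [T, Finset.mem_filter, Finset.mem_univ, true_and, not_and, not_forall, not_not] at hjT
      obtain ⟨i, hi, hle⟩ := hjT hxj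
      exact hgood i hi (hle hxy)

end Groth.Agent.S6298
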