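import Groth.Statements.S6301
import Mathlib

set_option autoImplicit false
universe u
open CAlg

namespace Groth.Agent.S6301

/-- An R-module M is flat exactly when, for every finitely presented R-module P and every surjective
R-module map N → M, the induced map Hom_R(P, N) → Hom_R(P, M) is surjective (modules P, N taken in
the same universe). -/
theorem result {R : Type u} [CommRing R] (M : Type u) [AddCommGroup M] [Module R M] : Module.Flat R M ↔ ∀ (P : Type u) [AddCommGroup P] [Module R P], Module.FinitePresentation R P → ∀ (N : Type u) [AddCommGroup N] [Module R N] (g : N →ₗ[R] M), Function.Surjective g → ∀ h : P →ₗ[R] M, ∃ h' : P →ₗ[R] N, g.comp h' = h := by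
  classical
  constructor
  · intro _ P _ _ _ N _ _ g hg h
    obtain ⟨k, h₂, h₃, rfl⟩ := Module.Flat.exists_factorization_of_finitePresentation h
    obtain ⟨l, hl⟩ := Module.projective_lifting_property g h₃ hg
    exact ⟨l ∘ₗ h₂, by rw [← LinearMap.comp_assoc, hl]⟩
  · intro H
    refine Module.Flat.of_forall_exists_factorization fun {l f x} hf => ?_
    let K : Submodule R (Fin l →₀ R) := Submodule.span R {f}
    have hK : K ≤ LinearMap.ker x := Submodule.span_le.2 (Set.singleton_subset_iff.2 hf)
    have hKfg : K.FG := Submodule.fg_span_singleton f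
    obtain ⟨h', hh'⟩ := H ((Fin l →₀ R) ⧸ K)
      (Module.finitePresentation_of_surjective K.mkQ (Submodule.mkQ_surjective K) (by rwa [Submodule.ker_mkQ]))
      (M →₀ R) (Finsupp.linearCombination R id) (fun m => ⟨Finsupp.single m 1, by simp⟩) (K.liftQ x hK)
    let a₀ := h' ∘ₗ K.mkQ
    let s : Finset M := Finset.univ.biUnion fun i => (a₀ (Finsupp.single i 1)).support
    let e : s ≃ Fin s.card := s.equivFin
    let a : (Fin l →₀ R) →ₗ[R] (Fin s.card →₀ R) :=
      (Finsupp.domLCongr e).toLinearMap ∘ₗ Finsupp.lsubtypeDomain (s : Set M) ∘ₗ a₀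
    refine ⟨s.card, a, Finsupp.linearCombination R fun j => ((e.symm j : s) : M), Finsupp.lhom_ext fun i b => ?_, ?_⟩
    · have hb : Finsupp.single i b = b • Finsupp.single i (1 : R) := by simp
      rw [hb, map_smul, map_smul]
      congr 1
      have h1 : x (Finsupp.single i 1) = Finsupp.linearCombination R id (a₀ (Finsupp.single i 1)) :=
        (LinearMap.congr_fun hh' (K.mkQ (Finsupp.single i 1))).symm
      have hs : (a₀ (Finsupp.single i 1)).support ⊆ s := Finset.subset_biUnion_of_mem (fun i => (a₀ (Finsupp.single i 1)).support) (Finset.mem_univ i)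
      rw [h1, Finsupp.linearCombination_apply, Finsupp.sum_of_support_subset _ hs (fun m r => r • id m) (fun m _ => zero_smul R (id m))]
      simp only [LinearMap.comp_apply]
      rw [Finsupp.linearCombination_apply,
        Finsupp.sum_fintype (a (Finsupp.single i 1)) (fun j r => r • ((e.symm j : s) : M)) (fun j => zero_smul R _), ← Finset.sum_coe_sort s]
      refine Fintype.sum_equiv e _ _ fun j => ?_
      simp [a]
      rfl
    · have : K.mkQ f = 0 := (Submodule.Quotient.mk_eq_zero K).2 (Submodule.mem_span_singleton_self f)
      simp [a, a₀, -Submodule.mkQ_apply, this]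

end Groth.Agent.S6301
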