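import Groth.Statements.S6303
import Mathlib

set_option autoImplicit false
universe u
open CAlg

namespace Groth.Agent.S6303

/-- Let R be a ring, I, J ⊆ R ideals and M a flat R-module. Then IM ∩ JM = (I ∩ J)M. -/
theorem result {R : Type u} [CommRing R] (I J : Ideal R) (M : Type u) [AddCommGroup M] [Module R M] [Module.Flat R M] : (I • (⊤ : Submodule R M)) ⊓ (J • ⊤) = (I ⊓ J) • (⊤ : Submodule R M) := by
  refine le_antisymm ?_ (le_inf (Submodule.smul_mono_left inf_le_left) (Submodule.smul_mono_left inf_le_right))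
  intro x hx
  have key : ∀ K : Ideal R, LinearMap.range ((TensorProduct.lid R M).toLinearMap ∘ₗ K.subtype.rTensor M)
      = K • (⊤ : Submodule R M) := by
    intro K
    refine le_antisymm ?_ (Submodule.smul_le.2 fun a ha m _ => ⟨(⟨a, ha⟩ : K) ⊗ₜ[R] m, by simp⟩)
    rintro _ ⟨z, rfl⟩
    induction z with
    | zero => simp
    | tmul a m => simpa using Submodule.smul_mem_smul a.2 Submodule.mem_top
    | add a b ha hb => rw [map_add]; exact Submodule.add_mem _ ha hb
  obtain ⟨h1, h2⟩ := Submodule.mem_inf.1 hx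
  rw [← key] at h1 h2
  obtain ⟨z, hz⟩ := h1
  obtain ⟨w, hw⟩ := h2
  let q : I →ₗ[R] R ⧸ J := J.mkQ ∘ₗ I.subtype
  have hex : Function.Exact (Submodule.inclusion (inf_le_left : I ⊓ J ≤ I)) q := by
    intro a
    simp only [q, LinearMap.comp_apply, Submodule.mkQ_apply, Submodule.Quotient.mk_eq_zero,
      Submodule.subtype_apply]
    exact ⟨fun h => ⟨⟨a, a.2, h⟩, Subtype.ext rfl⟩, fun ⟨b, hb⟩ => hb ▸ b.2.2⟩
  have hex' := Module.Flat.rTensor_exact M hex
  have hz0 : q.rTensor M z = 0 := by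
    have : I.subtype.rTensor M z = J.subtype.rTensor M w :=
      (TensorProduct.lid R M).injective (hz.trans hw.symm)
    rw [show q.rTensor M z = J.mkQ.rTensor M (I.subtype.rTensor M z) by
      simp [q, LinearMap.rTensor_comp_apply], this, ← LinearMap.rTensor_comp_apply]
    have : J.mkQ ∘ₗ J.subtype = 0 := by ext a; simpa using (Submodule.Quotient.mk_eq_zero J).2 a.2
    simp [this]
  obtain ⟨y, hy⟩ := (hex' z).1 hz0
  rw [← key]
  refine ⟨y, ?_⟩
  rw [← hz, ← hy, LinearMap.comp_apply, LinearMap.comp_apply, ← LinearMap.rTensor_comp_apply]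
  rfl

end Groth.Agent.S6303
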