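import Groth.Statements.S6305
import Groth.Agent.Calg2.ML

set_option autoImplicit false
universe u
open CAlg

namespace Groth.Agent.S6305

/-- An R-module M is flat exactly when every short exact sequence 0 → M₁ → M₂ → M → 0 of R-modules is
universally exact, i.e. its first map M₁ → M₂ is universally injective. -/
theorem result {R : Type u} [CommRing R] (M : Type u) [AddCommGroup M] [Module R M] : Module.Flat R M ↔ ∀ (M₁ M₂ : Type u) [AddCommGroup M₁] [Module R M₁] [AddCommGroup M₂] [Module R M₂] (f : M₁ →ₗ[R] M₂) (g : M₂ →ₗ[R] M), Function.Injective f → Function.Exact f g → Function.Surjective g → CAlgX.UniversallyInjective R f := by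
  constructor
  · intro hM M₁ M₂ _ _ _ _ f g hf hex hg Q _ _
    have h := LinearMap.lTensor_injective_of_exact_of_flat g hg f hf hex Q
    exact (LinearMap.lTensor_inj_iff_rTensor_inj Q f).1 h
  · intro h
    refine Module.Flat.iff_rTensor_injective'.2 fun I => ?_
    let π : (M →₀ R) →ₗ[R] M := Finsupp.linearCombination R id
    have hπ : Function.Surjective π := fun m => ⟨Finsupp.single m 1, by simp [π]⟩
    have hex : Function.Exact (LinearMap.ker π).subtype π := LinearMap.exact_subtype_ker_map π
    have hu := h (LinearMap.ker π) (M →₀ R) (LinearMap.ker π).subtype π (Submodule.injective_subtype _) hex hπ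
    refine (injective_iff_map_eq_zero _).2 fun x hx => ?_
    obtain ⟨y, rfl⟩ := LinearMap.lTensor_surjective I hπ x
    rw [← LinearMap.comp_apply, LinearMap.rTensor_comp_lTensor, ← LinearMap.lTensor_comp_rTensor,
      LinearMap.comp_apply] at hx
    obtain ⟨z, hz⟩ := (lTensor_exact R (M := LinearMap.ker π) (N := M →₀ R) (P := M) (f := (LinearMap.ker π).subtype) (g := π) hex hπ _).1 hx
    have hz0 : I.mkQ.rTensor (LinearMap.ker π) z = 0 := by
      refine (LinearMap.lTensor_inj_iff_rTensor_inj (R ⧸ I) (LinearMap.ker π).subtype).2 (hu (R ⧸ I)) ?_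
      rw [← LinearMap.comp_apply, LinearMap.lTensor_comp_rTensor, ← LinearMap.rTensor_comp_lTensor,
        LinearMap.comp_apply, hz, ← LinearMap.rTensor_comp_apply,
        (LinearMap.exact_subtype_mkQ I).linearMap_comp_eq_zero]
      simp
    have hexI : Function.Exact I.subtype I.mkQ := LinearMap.exact_subtype_mkQ I
    have hexI' := rTensor_exact (R := R) (M := I) (N := R) (P := R ⧸ I) (LinearMap.ker π) (f := I.subtype) (g := I.mkQ) hexI I.mkQ_surjective
    obtain ⟨w, hw⟩ := (hexI' z).1 hz0
    have hy : (LinearMap.ker π).subtype.lTensor I w = y := by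
      have hfl : Module.Flat R (M →₀ R) := inferInstance
      have hinjI := Module.Flat.iff_rTensor_injective'.1 hfl I
      apply hinjI
      rw [← hz, ← hw, ← LinearMap.comp_apply, LinearMap.rTensor_comp_lTensor,
        ← LinearMap.lTensor_comp_rTensor, LinearMap.comp_apply]
    rw [← hy, ← LinearMap.lTensor_comp_apply, hex.linearMap_comp_eq_zero]
    simp

end Groth.Agent.S6305
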