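import Groth.Statements.S6306
import Mathlib

set_option autoImplicit false
universe u
open CAlg

namespace Groth.Agent.S6306

/-- Let R be a nonzero ring such that every nonzero prime ideal of R contains a non-zerodivisor. Then R
is a domain. -/
theorem result (R : Type u) [CommRing R] [Nontrivial R] (h : ∀ p : Ideal R, p.IsPrime → p ≠ ⊥ → ∃ x ∈ p, x ∈ nonZeroDivisors R) : IsDomain R := by
  obtain ⟨M, hM⟩ := Ideal.exists_maximal R
  obtain ⟨P, hP, -⟩ := Ideal.exists_minimalPrimes_le (bot_le : (⊥ : Ideal R) ≤ M)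
  have hP' : P.IsPrime := hP.1.1
  have hbot : P = ⊥ := by
    by_contra hne
    obtain ⟨x, hx, hx'⟩ := h P hP' hne
    exact notMem_nonZeroDivisors_of_mem_mem_minimalPrimes hx hP hx'
  rw [hbot] at hP'
  haveI : NoZeroDivisors R := ⟨fun {a b} hab => by
    simpa using hP'.mem_or_mem (by simpa using hab : a * b ∈ (⊥ : Ideal R))⟩
  exact NoZeroDivisors.to_isDomain R

end Groth.Agent.S6306
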