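import Groth.Statements.S6308
import Mathlib.RingTheory.Support
import Mathlib.RingTheory.LocalRing.Module
import Mathlib.LinearAlgebra.TensorProduct.RightExactness

set_option autoImplicit false
universe u
open scoped TensorProduct
open CAlg

namespace Groth.Agent.S6308

theorem map_surjective_iff {R M N : Type*} [CommRing R] [AddCommGroup M] [Module R M] [AddCommGroup N]
    [Module R N] (T : Submonoid R) (φ : M →ₗ[R] N) :
    Function.Surjective (LocalizedModule.map T φ) ↔
      ∀ y : N ⧸ LinearMap.range φ, ∃ t ∈ T, t • y = 0 := by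
  constructor
  · intro h y
    obtain ⟨y, rfl⟩ := Submodule.Quotient.mk_surjective _ y
    obtain ⟨z, hz⟩ := h (LocalizedModule.mkLinearMap T N y)
    induction z using LocalizedModule.induction_on with
    | h m s =>
      rw [LocalizedModule.map_mk, LocalizedModule.mkLinearMap_apply, LocalizedModule.mk_eq] at hz
      obtain ⟨t, ht⟩ := hz
      refine ⟨t * s, T.mul_mem t.2 s.2, ?_⟩
      rw [← Submodule.Quotient.mk_smul, Submodule.Quotient.mk_eq_zero]
      refine ⟨(t : R) • m, ?_⟩
      simp only [one_smul, Submonoid.smul_def] at ht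
      rw [map_smul, mul_smul, ← ht]
  · intro h z
    induction z using LocalizedModule.induction_on with
    | h y s =>
      obtain ⟨t, ht, hty⟩ := h (Submodule.Quotient.mk y)
      rw [← Submodule.Quotient.mk_smul, Submodule.Quotient.mk_eq_zero] at hty
      obtain ⟨m, hm⟩ := hty
      refine ⟨LocalizedModule.mk m (⟨t, ht⟩ * s), ?_⟩
      rw [LocalizedModule.map_mk, hm]
      exact LocalizedModule.mk_cancel_common_left (⟨t, ht⟩ : T) s y

/-- Let R be a ring and φ : M → N a map of R-modules with N finite. For a prime p, the localization φ_p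
: M_p → N_p is surjective if and only if φ ⊗ κ(p) : M ⊗ κ(p) → N ⊗ κ(p) is surjective; the set U of
such primes is open in Spec(R); and for every f ∈ R with D(f) ⊆ U the map M_f → N_f is surjective. -/
theorem result {R : Type u} [CommRing R] {M N : Type u} [AddCommGroup M] [Module R M] [AddCommGroup N] [Module R N] [Module.Finite R N] (φ : M →ₗ[R] N) : (∀ p : PrimeSpectrum R, Function.Surjective (LocalizedModule.map p.asIdeal.primeCompl φ) ↔ Function.Surjective (φ.lTensor p.asIdeal.ResidueField)) ∧ IsOpen {p : PrimeSpectrum R | Function.Surjective (LocalizedModule.map p.asIdeal.primeCompl φ)} ∧ (∀ f : R, (↑(PrimeSpectrum.basicOpen f) : Set (PrimeSpectrum R)) ⊆ {p : PrimeSpectrum R | Function.Surjective (LocalizedModule.map p.asIdeal.primeCompl φ)} → Function.Surjective (LocalizedModule.map (Submonoid.powers f) φ)) := by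
  let Q := N ⧸ LinearMap.range φ
  have hloc : ∀ p : PrimeSpectrum R, Function.Surjective (LocalizedModule.map p.asIdeal.primeCompl φ) ↔
      p ∉ Module.support R Q := fun p => by
    rw [map_surjective_iff, Module.notMem_support_iff, LocalizedModule.subsingleton_iff]
  have hfib : ∀ p : PrimeSpectrum R, Function.Surjective (φ.lTensor p.asIdeal.ResidueField) ↔
      p ∉ Module.support R Q := fun p => by
    rw [Module.mem_support_iff_nontrivial_residueField_tensorProduct, not_nontrivial_iff_subsingleton]
    have hex : Function.Exact (φ.lTensor p.asIdeal.ResidueField)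
        ((LinearMap.range φ).mkQ.lTensor p.asIdeal.ResidueField) :=
      lTensor_exact _ (LinearMap.exact_map_mkQ_range φ) (Submodule.mkQ_surjective _)
    have hsurj := LinearMap.lTensor_surjective p.asIdeal.ResidueField
      (Submodule.mkQ_surjective (LinearMap.range φ))
    constructor
    · intro h
      refine subsingleton_of_forall_eq 0 fun w => ?_
      obtain ⟨v, rfl⟩ := hsurj w
      exact (hex v).2 (h v)
    · intro h v
      exact (hex v).1 (Subsingleton.elim _ _)
  refine ⟨fun p => (hloc p).trans (hfib p).symm, ?_, fun f hf => ?_⟩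
  · rw [show {p : PrimeSpectrum R | Function.Surjective (LocalizedModule.map p.asIdeal.primeCompl φ)} =
      (Module.support R Q)ᶜ from Set.ext hloc]
    exact (Module.support_eq_zeroLocus (R := R) (M := Q) ▸ PrimeSpectrum.isClosed_zeroLocus _ :
      IsClosed (Module.support R Q)).isOpen_compl
  · rw [map_surjective_iff]
    have hrad : f ∈ (Module.annihilator R Q).radical := by
      rw [Ideal.radical_eq_sInf, Submodule.mem_sInf]
      intro P ⟨hle, hP⟩
      by_contra hfP
      refine (hloc ⟨P, hP⟩).1 (hf (show (⟨P, hP⟩ : PrimeSpectrum R) ∈ PrimeSpectrum.basicOpen f from hfP)) ?_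
      rw [Module.mem_support_iff_of_finite]
      exact hle
    obtain ⟨k, hk⟩ := hrad
    exact fun y => ⟨f ^ k, ⟨k, rfl⟩, Module.mem_annihilator.1 hk y⟩

end Groth.Agent.S6308
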