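import Groth.Statements.S6309
import Mathlib.RingTheory.LocalRing.Module
import Mathlib.RingTheory.Localization.BaseChange
import Mathlib.Algebra.Module.FinitePresentation
import Mathlib.RingTheory.Spectrum.Prime.Topology
import Mathlib.RingTheory.LocalProperties.Projective
import Mathlib.RingTheory.Localization.Module
import Mathlib.Algebra.Module.LocalizedModule.Exact

set_option autoImplicit false
universe u
open scoped TensorProduct
open CAlg

namespace Groth.Agent.S6309

/-- Let R be a ring and φ : P₁ → P₂ a map of finite projective R-modules. The set U of primes p of R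
such that φ ⊗ κ(p) is injective is open, and for every f ∈ R with D(f) ⊆ U the map (P₁)_f → (P₂)_f
is injective and Coker(φ)_f is a finite projective module over R_f. -/
theorem result {R : Type u} [CommRing R] {P₁ P₂ : Type u} [AddCommGroup P₁] [Module R P₁] [AddCommGroup P₂] [Module R P₂] [Module.Finite R P₁] [Module.Projective R P₁] [Module.Finite R P₂] [Module.Projective R P₂] (φ : P₁ →ₗ[R] P₂) : IsOpen {p : PrimeSpectrum R | Function.Injective (φ.lTensor p.asIdeal.ResidueField)} ∧ ∀ f : R, (↑(PrimeSpectrum.basicOpen f) : Set (PrimeSpectrum R)) ⊆ {p : PrimeSpectrum R | Function.Injective (φ.lTensor p.asIdeal.ResidueField)} → Function.Injective (LocalizedModule.map (Submonoid.powers f) φ) ∧ Module.Finite (Localization.Away f) (LocalizedModule (Submonoid.powers f) (P₂ ⧸ LinearMap.range φ)) ∧ Module.Projective (Localization.Away f) (LocalizedModule (Submonoid.powers f) (P₂ ⧸ LinearMap.range φ)) := by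
  classical
  let J : Ideal R :=
    { carrier := {u | ∃ l : P₂ →ₗ[R] P₁, l ∘ₗ φ = u • LinearMap.id}
      add_mem' := fun {a b} ⟨l, hl⟩ ⟨l', hl'⟩ => ⟨l + l', by rw [LinearMap.add_comp, hl, hl', add_smul]⟩
      zero_mem' := ⟨0, by simp⟩
      smul_mem' := fun c a ⟨l, hl⟩ => ⟨c • l, by rw [LinearMap.smul_comp, hl, smul_smul, smul_eq_mul]⟩ }
  have hU : {p : PrimeSpectrum R | Function.Injective (φ.lTensor p.asIdeal.ResidueField)} =
      (PrimeSpectrum.zeroLocus (J : Set R))ᶜ := by
    ext p
    rw [Set.mem_compl_iff, PrimeSpectrum.mem_zeroLocus, SetLike.coe_subset_coe, SetLike.not_le_iff_exists]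
    constructor
    · intro hp
      let Rp := Localization.AtPrime p.asIdeal
      let κ := p.asIdeal.ResidueField
      have hinj : Function.Injective ((φ.baseChange Rp).lTensor κ) := by
        let e₁ := TensorProduct.AlgebraTensorModule.cancelBaseChange R Rp Rp κ P₁
        let e₂ := TensorProduct.AlgebraTensorModule.cancelBaseChange R Rp Rp κ P₂
        have hcomm : ∀ x, e₂ ((φ.baseChange Rp).lTensor κ x) = φ.lTensor κ (e₁ x) := by
          intro x
          induction x using TensorProduct.induction_on with
          | zero => simp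
          | tmul c y =>
            induction y using TensorProduct.induction_on with
            | zero => simp
            | tmul a b => simp [e₁, e₂]
            | add _ _ h h' => simp only [TensorProduct.tmul_add, map_add, h, h']
          | add _ _ h h' => simp only [map_add, h, h']
        intro x y hxy
        apply e₁.injective
        apply hp
        rw [← hcomm, ← hcomm, hxy]
      have : Module.Free Rp (Rp ⊗[R] P₂) := Module.free_of_flat_of_isLocalRing
      obtain ⟨σ, hσ⟩ := (IsLocalRing.split_injective_iff_lTensor_residueField_injective (φ.baseChange Rp)).2 hinj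
      let g₁ : P₁ →ₗ[R] Rp ⊗[R] P₁ := TensorProduct.mk R Rp P₁ 1
      let g₂ : P₂ →ₗ[R] Rp ⊗[R] P₂ := TensorProduct.mk R Rp P₂ 1
      have : IsLocalizedModule p.asIdeal.primeCompl g₁ :=
        (isLocalizedModule_iff_isBaseChange p.asIdeal.primeCompl Rp g₁).2 (TensorProduct.isBaseChange R P₁ Rp)
      have := Module.finitePresentation_of_projective R P₂
      obtain ⟨l, u, hl⟩ := Module.FinitePresentation.exists_lift_of_isLocalizedModule p.asIdeal.primeCompl g₁
        (σ.restrictScalars R ∘ₗ g₂)
      have h1 : g₁ ∘ₗ (l ∘ₗ φ) = g₁ ∘ₗ ((u : R) • LinearMap.id) := by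
        rw [← LinearMap.comp_assoc, hl]
        ext x
        have := LinearMap.congr_fun hσ (g₁ x)
        simp only [g₁, g₂, LinearMap.comp_apply, TensorProduct.mk_apply, LinearMap.baseChange_tmul,
          LinearMap.id_apply, Submonoid.smul_def, LinearMap.smul_apply, LinearMap.restrictScalars_apply,
          map_smul] at this ⊢
        rw [this]
      obtain ⟨w, hw⟩ := Module.Finite.exists_smul_of_comp_eq_of_isLocalizedModule p.asIdeal.primeCompl g₁ _ _ h1
      refine ⟨(w : R) * u, ⟨(w : R) • l, ?_⟩, mul_mem w.2 u.2⟩
      rw [LinearMap.smul_comp, mul_smul]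
      exact hw
    · rintro ⟨u, ⟨l, hl⟩, hu⟩
      have hmap : ∀ x, l.lTensor p.asIdeal.ResidueField (φ.lTensor p.asIdeal.ResidueField x) = u • x := fun x => by
        rw [← LinearMap.comp_apply, ← LinearMap.lTensor_comp, hl, LinearMap.lTensor_smul, LinearMap.lTensor_id]
        rfl
      intro x y hxy
      have h := congrArg (l.lTensor p.asIdeal.ResidueField) hxy
      rw [hmap, hmap, ← algebraMap_smul p.asIdeal.ResidueField u x, ← algebraMap_smul p.asIdeal.ResidueField u y] at h
      exact smul_right_injective (p.asIdeal.ResidueField ⊗[R] P₁)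
        (fun h0 => hu (Ideal.algebraMap_residueField_eq_zero.1 h0)) h
  refine ⟨hU ▸ (PrimeSpectrum.isClosed_zeroLocus _).isOpen_compl, fun f hf => ?_⟩
  rw [hU] at hf
  have hrad : f ∈ J.radical := by
    rw [Ideal.radical_eq_sInf, Submodule.mem_sInf]
    intro P ⟨hle, hP⟩
    by_contra hfP
    exact hf (show (⟨P, hP⟩ : PrimeSpectrum R) ∈ PrimeSpectrum.basicOpen f from hfP) hle
  obtain ⟨k, l, hl⟩ := hrad
  let T := Submonoid.powers f
  let φT := LocalizedModule.map T φ
  let c : Localization.Away f := Localization.mk 1 ⟨f ^ k, k, rfl⟩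
  let l' := c • LocalizedModule.map T l
  have hl' : ∀ x, l' (φT x) = x := by
    intro x
    induction x using LocalizedModule.induction_on with
    | h m s =>
      rw [LocalizedModule.map_mk, LinearMap.smul_apply, LocalizedModule.map_mk, LocalizedModule.mk_smul_mk,
        one_smul, show l (φ m) = f ^ k • m from LinearMap.congr_fun hl m]
      exact LocalizedModule.mk_cancel_common_left (⟨f ^ k, k, rfl⟩ : T) s m
  have hinj : Function.Injective φT := Function.LeftInverse.injective hl'
  let π := LocalizedModule.map T (LinearMap.range φ).mkQ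
  have hπ : Function.Surjective π := LocalizedModule.map_surjective T _ (Submodule.mkQ_surjective _)
  have hex : Function.Exact φT π := LocalizedModule.map_exact T _ _ (LinearMap.exact_map_mkQ_range φ)
  have : Module.Projective (Localization.Away f) (LocalizedModule T P₂) :=
    Module.Projective.of_equiv (LocalizedModule.equivTensorProduct T P₂).symm
  refine ⟨hinj, Module.Finite.of_isLocalizedModule T (LocalizedModule.mkLinearMap T _), ?_⟩
  obtain ⟨σ, hσ⟩ := ((Function.Exact.split_tfae hex hinj hπ).out 0 1 rfl rfl).2 ⟨l', LinearMap.ext hl'⟩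
  exact Module.Projective.of_split σ π hσ

end Groth.Agent.S6309
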