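import Groth.Statements.S6310
import Mathlib.LinearAlgebra.Matrix.Charpoly.LinearMap
import Mathlib.Algebra.Module.LocalizedModule.Submodule

set_option autoImplicit false
universe u
open CAlg

namespace Groth.Agent.S6310

/-- Let R be a ring, S ⊆ R a multiplicative subset, I ⊆ R an ideal and M a finite R-module. If x₁, …,
x_r ∈ M have images generating S⁻¹(M/IM) as an S⁻¹R-module, then there is f ∈ S + I (f = s + i with
s ∈ S, i ∈ I) such that x₁, …, x_r generate M_f as an R_f-module. -/
theorem result {R : Type u} [CommRing R] (S : Submonoid R) (I : Ideal R) (M : Type u) [AddCommGroup M] [Module R M] [Module.Finite R M] {r : ℕ} (x : Fin r → M) (hx : Submodule.span (Localization S) (Set.range fun j => LocalizedModule.mkLinearMap S (M ⧸ (I • (⊤ : Submodule R M))) (Submodule.Quotient.mk (x j))) = ⊤) : ∃ (s : R) (i : R), s ∈ S ∧ i ∈ I ∧ Submodule.span (Localization.Away (s + i)) (Set.range fun j => LocalizedModule.mkLinearMap (Submonoid.powers (s + i)) M (x j)) = ⊤ := by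
  classical
  let N : Submodule R M := Submodule.span R (Set.range x)
  let W : Submodule R M := N ⊔ I • ⊤
  have hmem : ∀ m : M, ∃ s ∈ S, s • m ∈ W := by
    intro m
    let Qm := M ⧸ (I • (⊤ : Submodule R M))
    have h1 : LocalizedModule.mkLinearMap S Qm (Submodule.Quotient.mk m) ∈
        Submodule.span (Localization S) (LocalizedModule.mkLinearMap S Qm ''
          (Set.range fun j => (Submodule.Quotient.mk (x j) : Qm))) := by
      rw [← Set.range_comp]; exact hx.ge Submodule.mem_top
    rw [← Submodule.localized'_span (Localization S) S] at h1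
    obtain ⟨y, hy, s, hs⟩ := h1
    rw [LocalizedModule.mkLinearMap_apply, IsLocalizedModule.mk'_eq_iff, ← LocalizedModule.mkLinearMap_apply,
      Submonoid.smul_def, ← map_smul, IsLocalizedModule.eq_iff_exists S] at hs
    obtain ⟨t, ht⟩ := hs
    refine ⟨t * s, S.mul_mem t.2 s.2, ?_⟩
    have h2 : (Submodule.Quotient.mk (((t : R) * s) • m) : Qm) ∈
        Submodule.span R (Set.range fun j => (Submodule.Quotient.mk (x j) : Qm)) := by
      rw [Submodule.Quotient.mk_smul, mul_smul, ← Submonoid.smul_def t, ← ht, Submonoid.smul_def]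
      exact Submodule.smul_mem _ _ hy
    rw [show (Set.range fun j => (Submodule.Quotient.mk (x j) : Qm)) = Submodule.mkQ _ '' Set.range x from
      by rw [← Set.range_comp]; rfl, ← Submodule.map_span] at h2
    obtain ⟨w, hw, hwm⟩ := h2
    have := (Submodule.Quotient.eq _).1 hwm
    exact (Submodule.sub_mem_iff_right W (Submodule.mem_sup_left hw)).1 (Submodule.mem_sup_right this)
  obtain ⟨T, hT⟩ := (Module.Finite.fg_top : (⊤ : Submodule R M).FG)
  choose s hs hsm using hmem
  let s₀ := ∏ m ∈ T, s m
  have hs₀ : ∀ m : M, s₀ • m ∈ W := by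
    intro m
    have hm : m ∈ Submodule.span R (T : Set M) := hT.ge Submodule.mem_top
    induction hm using Submodule.span_induction with
    | mem y hy =>
      rw [show s₀ = (∏ m ∈ T.erase y, s m) * s y from (Finset.prod_erase_mul _ _ hy).symm, mul_smul]
      exact W.smul_mem _ (hsm y)
    | zero => simp
    | add a b _ _ ha hb => rw [smul_add]; exact W.add_mem ha hb
    | smul a b _ hb => rw [smul_comm]; exact W.smul_mem _ hb
  let Qn := M ⧸ N
  let φ : Module.End R Qn := algebraMap R (Module.End R Qn) s₀
  have hφ : LinearMap.range φ ≤ I • ⊤ := by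
    rintro _ ⟨y, rfl⟩
    obtain ⟨y, rfl⟩ := Submodule.Quotient.mk_surjective _ y
    obtain ⟨a, ha, b, hb, hab⟩ := Submodule.mem_sup.1 (hs₀ y)
    show s₀ • (Submodule.Quotient.mk y : Qn) ∈ _
    rw [← Submodule.Quotient.mk_smul, ← hab, Submodule.Quotient.mk_add,
      (Submodule.Quotient.mk_eq_zero N).2 ha, zero_add]
    have := Submodule.mem_map_of_mem (f := N.mkQ) hb
    rw [Submodule.map_smul'', Submodule.map_top, Submodule.range_mkQ] at this
    exact this
  obtain ⟨P, hPmon, -, hPI, hP⟩ :=
    LinearMap.exists_monic_and_natDegree_eq_and_coeff_mem_pow_and_aeval_eq_zero R φ I hφ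
  refine ⟨s₀ ^ P.natDegree, P.eval s₀ - s₀ ^ P.natDegree, S.pow_mem (S.prod_mem fun m _ => hs m) _, ?_, ?_⟩
  · rw [Polynomial.eval_eq_sum_range, Finset.sum_range_succ, hPmon.coeff_natDegree, one_mul,
      add_sub_cancel_right]
    refine sum_mem fun k hk => Ideal.mul_mem_right _ _ ?_
    exact Ideal.pow_le_self (by simp only [Finset.mem_range] at hk; omega) (hPI k)
  · rw [add_sub_cancel]
    set g := P.eval s₀
    have hg : ∀ m : M, g • m ∈ N := by
      intro m
      rw [← Submodule.Quotient.mk_eq_zero, Submodule.Quotient.mk_smul]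
      have := LinearMap.congr_fun hP (Submodule.Quotient.mk m)
      rwa [show Polynomial.aeval φ P = algebraMap R (Module.End R Qn) (P.eval s₀) from
        Polynomial.aeval_algebraMap_apply_eq_algebraMap_eval _ _, Module.algebraMap_end_apply] at this
    rw [eq_top_iff]
    intro z _
    obtain ⟨⟨m, t⟩, rfl⟩ := IsLocalizedModule.mk'_surjective (Submonoid.powers g)
      (LocalizedModule.mkLinearMap (Submonoid.powers g) M) z
    rw [Set.range_comp', ← Submodule.localized'_span (Localization.Away g) (Submonoid.powers g)]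
    let g₁ : Submonoid.powers g := ⟨g, Submonoid.mem_powers g⟩
    refine ⟨g • m, hg m, g₁ * t, ?_⟩
    exact IsLocalizedModule.mk'_cancel_left _ m g₁ t

end Groth.Agent.S6310
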