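import Groth.Statements.S6311
import Mathlib
-- import your own Groth.Agent.* helpers here

set_option autoImplicit false
universe u
open CategoryTheory
open CAlg

namespace Groth.Agent.S6311

/-- Let R be a local ring. Then K₀(R), the Grothendieck group of the category of finite projective
R-modules, is isomorphic to ℤ via the rank; precisely, there is an isomorphism K₀(R) ≅ ℤ of abelian
groups sending the class [R] to 1 (such an isomorphism is then unique, K₀(R) being generated by
[R]). -/
theorem result (R : Type u) [CommRing R] [IsLocalRing R] : ∃ e : KZero.K0sub (fun M : ModuleCat.{u} R => Module.Finite R M ∧ Module.Projective R M) ≃+ ℤ, e (KZero.clSub (fun M : ModuleCat.{u} R => Module.Finite R M ∧ Module.Projective R M) (ModuleCat.of R R)) = 1 := by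
  classical
  let P : ObjectProperty (ModuleCat.{u} R) := fun M => Module.Finite R M ∧ Module.Projective R M
  have hfree : ∀ M : ModuleCat.{u} R, P M → Module.Free R M := fun M h => by
    haveI := h.1; haveI := h.2
    exact Module.free_of_flat_of_isLocalRing
  let f : KZero.K0sub P →+ ℤ := QuotientAddGroup.lift (KZero.relSub P)
      (FreeAbelianGroup.lift fun M => (Module.finrank R M.1 : ℤ)) (by
    rw [KZero.relSub, AddSubgroup.closure_le]
    rintro _ ⟨S, h1, h2, h3, hS, rfl⟩
    haveI := hfree _ h1; haveI := hfree _ h3; haveI := h1.1; haveI := h3.1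
    have := ModuleCat.free_shortExact_finrank_add hS rfl rfl
    simp only [SetLike.mem_coe, AddMonoidHom.mem_ker, map_sub, FreeAbelianGroup.lift_apply_of, this]
    push_cast
    ring)
  have hc : ∀ (M : ModuleCat.{u} R) (h : P M),
      (QuotientAddGroup.mk (FreeAbelianGroup.of ⟨M, h⟩) : KZero.K0sub P) = KZero.clSub P M :=
    fun M h => by rw [KZero.clSub, dif_pos h]
  have hR : P (ModuleCat.of R R) := ⟨Module.Finite.self R, inferInstanceAs (Module.Projective R R)⟩
  have key : ∀ (n : ℕ) (M : ModuleCat.{u} R), P M → Module.finrank R M = n →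
      KZero.clSub P M = n • KZero.clSub P (ModuleCat.of R R) := by
    intro n
    induction n with
    | zero =>
      intro M h hn
      haveI := h.1; haveI := hfree M h
      haveI : Subsingleton M :=
        ((Module.finBasisOfFinrankEq R M hn).equivFun.toEquiv).subsingleton
      have hz : Limits.IsZero M := ModuleCat.isZero_of_subsingleton M
      let S : ShortComplex (ModuleCat.{u} R) := ShortComplex.mk (0 : M ⟶ M) (0 : M ⟶ M) (by simp)
      haveI : Mono S.f := (ModuleCat.mono_iff_injective S.f).mpr fun x y _ => Subsingleton.elim (α := M) x y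
      haveI : Epi S.g := (ModuleCat.epi_iff_surjective S.g).mpr fun x => ⟨(0 : M), Subsingleton.elim (α := M) _ _⟩
      have hS : S.ShortExact := ShortComplex.ShortExact.mk'
        (ShortComplex.exact_of_isZero_X₂ S hz) inferInstance inferInstance
      have h0 : (QuotientAddGroup.mk (FreeAbelianGroup.of (⟨M, h⟩ : Subtype P) -
        FreeAbelianGroup.of ⟨M, h⟩ - FreeAbelianGroup.of ⟨M, h⟩) : KZero.K0sub P) = 0 :=
        (QuotientAddGroup.eq_zero_iff _).mpr (AddSubgroup.subset_closure ⟨S, h, h, h, hS, rfl⟩)
      rw [sub_self, zero_sub, QuotientAddGroup.mk_neg, neg_eq_zero, hc] at h0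
      rw [h0, zero_smul]
    | succ n ih =>
      intro M h hn
      haveI := h.1; haveI := hfree M h
      let b := Module.finBasisOfFinrankEq R M hn
      let e : M ≃ₗ[R] R × (Fin n → R) := b.equivFun ≪≫ₗ (Fin.consLinearEquiv R fun _ => R).symm
      let N : ModuleCat.{u} R := ModuleCat.of R (Fin n → R)
      have hN : P N := ⟨inferInstanceAs (Module.Finite R (Fin n → R)),
        inferInstanceAs (Module.Projective R (Fin n → R))⟩
      let S : ShortComplex (ModuleCat.{u} R) := ShortComplex.mk
        (ModuleCat.ofHom (e.symm.toLinearMap ∘ₗ LinearMap.inl R R (Fin n → R)) : ModuleCat.of R R ⟶ M)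
        (ModuleCat.ofHom (LinearMap.snd R R (Fin n → R) ∘ₗ e.toLinearMap) : M ⟶ N)
        (by ext; simp <;> rfl)
      haveI : Mono S.f := (ModuleCat.mono_iff_injective S.f).mpr fun x y hxy => by
        have := congrArg (fun m : M => (e m).1) hxy
        simpa [S] using this
      haveI : Epi S.g := (ModuleCat.epi_iff_surjective S.g).mpr fun y =>
        ⟨e.symm (0, y), by simp [S]⟩
      have hex : S.Exact := (ShortComplex.moduleCat_exact_iff S).mpr fun x hx => by
        refine ⟨(e x).1, ?_⟩
        apply e.injective
        simp only [S] at hx ⊢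
        simp only [ModuleCat.hom_ofHom, LinearMap.coe_comp, LinearEquiv.coe_coe, Function.comp_apply,
          LinearEquiv.apply_symm_apply, LinearMap.inl_apply, LinearMap.snd_apply] at hx ⊢
        exact Prod.ext rfl hx.symm
      have hS : S.ShortExact := ShortComplex.ShortExact.mk' hex inferInstance inferInstance
      have h0 : (QuotientAddGroup.mk (FreeAbelianGroup.of (⟨M, h⟩ : Subtype P) -
        FreeAbelianGroup.of ⟨ModuleCat.of R R, hR⟩ - FreeAbelianGroup.of ⟨N, hN⟩) : KZero.K0sub P) = 0 :=
        (QuotientAddGroup.eq_zero_iff _).mpr (AddSubgroup.subset_closure ⟨S, hR, h, hN, hS, rfl⟩)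
      rw [QuotientAddGroup.mk_sub, QuotientAddGroup.mk_sub, hc, hc, hc,
        ih N hN (Module.finrank_fin_fun R), sub_eq_zero, sub_eq_iff_eq_add] at h0
      rw [h0, succ_nsmul]
  let c := KZero.clSub P (ModuleCat.of R R)
  have hfc : ∀ (M : ModuleCat.{u} R) (h : P M), f (KZero.clSub P M) = (Module.finrank R M : ℤ) :=
    fun M h => by
      rw [← hc M h]
      exact FreeAbelianGroup.lift_apply_of _ _
  have hfc1 : f c = 1 := by
    rw [hfc _ hR]
    exact_mod_cast Module.finrank_self R
  have hgf : (zmultiplesHom _ c).comp f = AddMonoidHom.id _ := by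
    refine QuotientAddGroup.addMonoidHom_ext _ ?_
    ext ⟨M, h⟩
    show f (QuotientAddGroup.mk (FreeAbelianGroup.of ⟨M, h⟩)) • c =
      QuotientAddGroup.mk (FreeAbelianGroup.of ⟨M, h⟩)
    rw [hc M h, hfc M h, key _ M h rfl, natCast_zsmul]
  exact ⟨AddMonoidHom.toAddEquiv f (zmultiplesHom _ c) hgf (by ext; simp [hfc1]), hfc1⟩

end Groth.Agent.S6311
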