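import Groth.Statements.S6315
import Mathlib
import Groth.Agent.Calg7.Derived.TorFinite
-- import your own Groth.Agent.* helpers here

set_option autoImplicit false
universe u
open CategoryTheory
open CAlg

namespace Groth.Agent.S6315

/-- Let R be a Noetherian ring and M, N finite R-modules. Then Tor_pᴿ(M, N) is a finite R-module for all
p. -/
theorem result (R : Type u) [CommRing R] [IsNoetherianRing R] (M N : Type u) [AddCommGroup M] [Module R M] [AddCommGroup N] [Module R N] [Module.Finite R M] [Module.Finite R N] (p : ℕ) : Module.Finite R (((CategoryTheory.Tor (ModuleCat.{u} R) p).obj (ModuleCat.of R M)).obj (ModuleCat.of R N)) := by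
  exact Groth.Calg7.Tor.finite_T _ _ p

end Groth.Agent.S6315
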