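import Groth.Statements.S6319
import Groth.Agent.KTheory.Basic
import Mathlib.RingTheory.HopkinsLevitzki
import Mathlib.RingTheory.Length
import Mathlib.Algebra.Homology.ShortComplex.ModuleCat

set_option autoImplicit false
universe u
open CategoryTheory
open CAlg

namespace Groth.Agent.S6319

/-- Let R be an Artinian local ring. The length function defines a homomorphism of abelian groups
length_R : K'₀(R) → ℤ on the Grothendieck group of finite R-modules, sending the class of a finite
module M to its (finite) length. -/
theorem result (R : Type u) [CommRing R] [IsArtinianRing R] [IsLocalRing R] : ∃ φ : KZero.K0sub (fun M : ModuleCat.{u} R => Module.Finite R M) →+ ℤ, ∀ (M : ModuleCat.{u} R), Module.Finite R M → (φ (KZero.clSub (fun M : ModuleCat.{u} R => Module.Finite R M) M) : ℤ) = (Module.length R M).toNat := by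
  refine ⟨Groth.KTheory.liftSub _ (fun M : ModuleCat.{u} R => ((Module.length R M).toNat : ℤ)) ?_,
    fun M hM => Groth.KTheory.liftSub_clSub (P := fun M : ModuleCat.{u} R => Module.Finite R M) _ _ hM⟩
  intro S hS h1 h2 h3
  have : Module.Finite R S.X₁ := h1
  have : Module.Finite R S.X₂ := h2
  have : Module.Finite R S.X₃ := h3
  have e := Module.length_eq_add_of_exact S.f.hom S.g.hom hS.moduleCat_injective_f hS.moduleCat_surjective_g
    ((CategoryTheory.ShortComplex.ShortExact.moduleCat_exact_iff_function_exact S).1 hS.exact)
  rw [e, ENat.toNat_add Module.length_ne_top Module.length_ne_top, Nat.cast_add]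

end Groth.Agent.S6319
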