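import Groth.Statements.S6321
import Groth.Agent.Calg2.DirectLimitFlat

set_option autoImplicit false
universe u
open CAlg

namespace Groth.Agent.S6321

/-- Let R be a ring and (Sᵢ, φᵢⱼ) a directed system of faithfully flat R-algebras whose transition maps
are R-algebra maps. Then S = colim Sᵢ is a faithfully flat R-algebra: for any index i the composite
R → Sᵢ → S is faithfully flat. -/
theorem result {R : Type u} [CommRing R] {ι : Type u} [Preorder ι] [Nonempty ι] [IsDirected ι (· ≤ ·)] (G : ι → Type u) [∀ i, CommRing (G i)] [∀ i, Algebra R (G i)] (f : ∀ i j, i ≤ j → G i →+* G j) [DirectedSystem G fun i j h => f i j h] (hcompat : ∀ i j (h : i ≤ j), (f i j h).comp (algebraMap R (G i)) = algebraMap R (G j)) (hff : ∀ i, (algebraMap R (G i)).FaithfullyFlat) (i : ι) : ((Ring.DirectLimit.of G (fun i j h => f i j h) i).comp (algebraMap R (G i))).FaithfullyFlat := by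
  letI : Algebra R (Ring.DirectLimit G fun i j h => f i j h) :=
    ((Ring.DirectLimit.of G (fun i j h => f i j h) i).comp (algebraMap R (G i))).toAlgebra
  haveI hflat : Module.Flat R (Ring.DirectLimit G fun i j h => f i j h) :=
    Groth.Calg2.flat_directLimit G f (i₀ := i) (algebraMap R (G i)) fun j hj => by
      rw [hcompat i j hj]; exact (hff j).flat
  show Module.FaithfullyFlat R (Ring.DirectLimit G fun i j h => f i j h)
  refine ⟨fun m hm htop => ?_⟩
  rw [Ideal.smul_top_eq_map, Submodule.restrictScalars_eq_top_iff, Ideal.eq_top_iff_one] at htop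
  let o := fun j => Ring.DirectLimit.of G (fun i j h => f i j h) j
  have hT : ∀ {p q : ι} (h : p ≤ q) (w : G p), w ∈ m.map (algebraMap R (G p)) →
      f p q h w ∈ m.map (algebraMap R (G q)) := fun {p q} h w hw => by
    have := Ideal.mem_map_of_mem (f p q h) hw
    rwa [Ideal.map_map, hcompat] at this
  have key : ∀ z ∈ m.map (algebraMap R (Ring.DirectLimit G fun i j h => f i j h)),
      ∃ (j : ι) (w : G j), w ∈ m.map (algebraMap R (G j)) ∧ o j w = z := by
    intro z hz
    induction hz using Submodule.span_induction with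
    | mem z hz =>
      obtain ⟨r, hr, rfl⟩ := hz
      exact ⟨i, algebraMap R (G i) r, Ideal.mem_map_of_mem _ hr, rfl⟩
    | zero => exact ⟨i, 0, Submodule.zero_mem _, map_zero _⟩
    | add a b _ _ ha hb =>
      obtain ⟨j, w, hw, rfl⟩ := ha
      obtain ⟨j', w', hw', rfl⟩ := hb
      obtain ⟨k, hjk, hjk'⟩ := exists_ge_ge j j'
      exact ⟨k, _, Ideal.add_mem _ (hT hjk w hw) (hT hjk' w' hw'), by
        simp only [o, map_add, Ring.DirectLimit.of_f]⟩
    | smul c a _ ha =>
      obtain ⟨j, w, hw, rfl⟩ := ha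
      obtain ⟨j', w', rfl⟩ := Ring.DirectLimit.exists_of c
      obtain ⟨k, hjk, hjk'⟩ := exists_ge_ge j j'
      exact ⟨k, f j' k hjk' w' * f j k hjk w, Ideal.mul_mem_left _ _ (hT hjk w hw), by
        simp only [o, map_mul, Ring.DirectLimit.of_f, smul_eq_mul]⟩
  obtain ⟨j, w, hw, hw1⟩ := key 1 htop
  obtain ⟨k, hjk, hk⟩ := Ring.DirectLimit.of.zero_exact
    (show o j (w - 1) = 0 by rw [map_sub, hw1, map_one, sub_self])
  rw [map_sub, map_one, sub_eq_zero] at hk
  have h1 : (1 : G k) ∈ m.map (algebraMap R (G k)) := hk ▸ hT hjk w hw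
  letI : Algebra R (G k) := inferInstance
  haveI : Module.FaithfullyFlat R (G k) := RingHom.faithfullyFlat_algebraMap_iff.1 (hff k)
  have h2 := Ideal.comap_map_eq_self_of_faithfullyFlat (B := G k) m
  exact hm.ne_top ((Ideal.eq_top_iff_one m).2 (h2 ▸ Ideal.mem_comap.2 (by rw [map_one]; exact h1)))

end Groth.Agent.S6321
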