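import Groth.Statements.S6322
import Mathlib.CategoryTheory.Abelian.Projective.Resolution
import Mathlib.Algebra.Category.ModuleCat.Projective

set_option autoImplicit false
set_option linter.style.haveILetI false
set_option linter.unusedSectionVars false
universe u
open CategoryTheory
open CAlg

namespace Groth.Agent.S6322

open CategoryTheory CategoryTheory.Limits HomologicalComplex

section

variable {C : Type*} [Category C] [Abelian C] {N : C} (Q : ChainComplex C ℕ)
  (π : Q ⟶ (ChainComplex.single₀ C).obj N) [QuasiIso π]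

lemma d_comp_π : Q.d 1 0 ≫ π.f 0 = 0 := by
  rw [← π.comm 1 0, single_obj_d, comp_zero]

include π in
lemma exact_succ (n : ℕ) : (ShortComplex.mk _ _ (Q.d_comp_d (n + 2) (n + 1) n)).Exact := by
  have h : Q.ExactAt (n + 1) := by
    rw [← quasiIsoAt_iff_exactAt' π (n + 1) (ChainComplex.exactAt_succ_single_obj _ _)]
    infer_instance
  exact ((HomologicalComplex.exactAt_iff' _ (n + 2) (n + 1) n) (by simp only [ChainComplex.prev]; rfl)
    (by simp)).1 h

set_option backward.isDefEq.respectTransparency.types false in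
set_option backward.defeqAttrib.useBackward true in
noncomputable def isColimitCokernel : IsColimit (CokernelCofork.ofπ _ (d_comp_π Q π)) := by
  refine IsColimit.ofIsoColimit (Q.opcyclesIsCokernel 1 0 (by simp)) ?_
  refine Cofork.ext (Q.isoHomologyι₀.symm ≪≫ isoOfQuasiIsoAt π 0 ≪≫
    singleObjHomologySelfIso _ _ _) ?_
  rw [← cancel_mono (singleObjHomologySelfIso (ComplexShape.down ℕ) 0 _).inv,
    ← cancel_mono (ChainComplex.isoHomologyι₀ _).hom]
  dsimp
  simp only [ChainComplex.isoHomologyι₀_inv_naturality_assoc, p_opcyclesMap_assoc, ChainComplex.single₀_obj_zero, Category.assoc,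
    Iso.hom_inv_id, Category.comp_id, isoHomologyι_inv_hom_id, singleObjHomologySelfIso_inv_homologyι,
    singleObjOpcyclesSelfIso_hom, ChainComplex.single₀ObjXSelf, Iso.refl_inv, Category.id_comp]

lemma exact₀ : (ShortComplex.mk _ _ (d_comp_π Q π)).Exact :=
  ShortComplex.exact_of_g_is_cokernel _ (isColimitCokernel Q π)

variable (P : ChainComplex C ℕ) [∀ n, Projective (P.X n)]

include π in
theorem exists_lift (g₀ : P.X 0 ⟶ N) (hg : P.d 1 0 ≫ g₀ = 0) : ∃ φ : P ⟶ Q, φ.f 0 ≫ π.f 0 = g₀ := by
  let p : Q.X 0 ⟶ N := π.f 0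
  haveI : Epi p := epi_of_isColimit_cofork (isColimitCokernel Q π)
  refine ⟨ChainComplex.mkHom _ _ (Projective.factorThru g₀ p)
    ((exact₀ Q π).liftFromProjective (P.d 1 0 ≫ Projective.factorThru g₀ p)
      (by exact (Category.assoc _ _ _).trans ((congrArg (fun k => P.d 1 0 ≫ k) (Projective.factorThru_comp g₀ p)).trans hg)))
    ((exact₀ Q π).liftFromProjective_comp _ _)
    (fun n ⟨g, g', w⟩ => ⟨(exact_succ Q π n).liftFromProjective (P.d (n + 2) (n + 1) ≫ g') (by simp [w]),
      (exact_succ Q π n).liftFromProjective_comp _ _⟩), ?_⟩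
  exact Projective.factorThru_comp g₀ p

include π in
theorem exists_homotopy (f : P ⟶ Q) (h : f.f 0 ≫ π.f 0 = 0) : Nonempty (Homotopy f 0) := by
  let z₀ : P.X 0 ⟶ Q.X 1 := (exact₀ Q π).liftFromProjective (f.f 0) h
  have hz₀ : z₀ ≫ Q.d 1 0 = f.f 0 := (exact₀ Q π).liftFromProjective_comp _ _
  let z₁ : P.X 1 ⟶ Q.X 2 := (exact_succ Q π 0).liftFromProjective (f.f 1 - P.d 1 0 ≫ z₀)
    (by rw [Preadditive.sub_comp, Category.assoc, HomologicalComplex.Hom.comm, hz₀, sub_self])
  have hz₁ : z₁ ≫ Q.d 2 1 = f.f 1 - P.d 1 0 ≫ z₀ := (exact_succ Q π 0).liftFromProjective_comp _ _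
  exact ⟨Homotopy.mkInductive _ z₀ hz₀.symm z₁ (by rw [hz₁]; abel) fun n ⟨g, g', w⟩ =>
    ⟨(exact_succ Q π (n + 1)).liftFromProjective (f.f (n + 2) - P.d _ _ ≫ g') (by simp [w]), by
      rw [(exact_succ Q π (n + 1)).liftFromProjective_comp]; abel⟩⟩

end

/-- Let R be a ring, M → N a map of R-modules, N• → N a resolution (a chain complex with a
quasi-isomorphism onto N placed in degree 0) and … → F₁ → F₀ → M a complex with every Fᵢ free (F• a
chain complex with an augmentation to M in degree 0, exactness not required). Then (1) there is a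
map of complexes F• → N• compatible with M → N through the augmentations, and (2) any two such maps
are homotopic. -/
theorem result (R : Type u) [CommRing R] (M N : ModuleCat.{u} R) (g : M ⟶ N) (F Nc : ChainComplex (ModuleCat.{u} R) ℕ) (hF : ∀ i, Module.Free R (F.X i)) (εF : F ⟶ (ChainComplex.single₀ (ModuleCat.{u} R)).obj M) (εN : Nc ⟶ (ChainComplex.single₀ (ModuleCat.{u} R)).obj N) [QuasiIso εN] : (∃ φ : F ⟶ Nc, φ ≫ εN = εF ≫ (ChainComplex.single₀ (ModuleCat.{u} R)).map g) ∧ ∀ α β : F ⟶ Nc, α ≫ εN = εF ≫ (ChainComplex.single₀ (ModuleCat.{u} R)).map g → β ≫ εN = εF ≫ (ChainComplex.single₀ (ModuleCat.{u} R)).map g → Nonempty (Homotopy α β) := by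
  haveI : ∀ n, Projective (F.X n) := fun n => by
    haveI := hF n
    haveI : Module.Projective R (F.X n) := Module.Projective.of_free
    exact (F.X n).projective_of_categoryTheory_projective
  constructor
  · obtain ⟨φ, hφ⟩ := exists_lift Nc εN F (εF.f 0 ≫ g) (by
      rw [← Category.assoc, ← εF.comm 1 0, HomologicalComplex.single_obj_d, comp_zero, zero_comp])
    refine ⟨φ, HomologicalComplex.to_single_hom_ext ?_⟩
    simpa using hφ
  · intro α β hα hβ
    have h : (α - β).f 0 ≫ εN.f 0 = 0 := by
      have e := (HomologicalComplex.congr_hom hα 0).trans (HomologicalComplex.congr_hom hβ 0).symm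
      simp only [HomologicalComplex.comp_f] at e
      rw [HomologicalComplex.sub_f_apply, Preadditive.sub_comp, e, sub_self]
    obtain ⟨H⟩ := exists_homotopy Nc εN F (α - β) h
    exact ⟨Homotopy.equivSubZero.symm H⟩

end Groth.Agent.S6322
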