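import Groth.Statements.S6323
import Groth.Agent.FlatMorOne.TorZero
import Mathlib.RingTheory.Localization.BaseChange

set_option autoImplicit false
universe u
open CAlg

namespace Groth.Agent.S6323

open TensorProduct

/-- Let A → B be a ring homomorphism and S ⊆ A, S' ⊆ B multiplicative subsets with S carried into S', so
that there is an induced homomorphism S⁻¹A → (S')⁻¹B. For a linear map f : M → M' between
(S')⁻¹B-modules, f is universally injective over A (scalars restricted along A → (S')⁻¹B) precisely
when it is universally injective over S⁻¹A (scalars restricted along S⁻¹A → (S')⁻¹B). -/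
theorem result {A B : Type u} [CommRing A] [CommRing B] [Algebra A B] (S : Submonoid A) (S' : Submonoid B) (hSS' : ∀ s ∈ S, algebraMap A B s ∈ S') (As Bs : Type u) [CommRing As] [CommRing Bs] [Algebra A As] [IsLocalization S As] [Algebra B Bs] [IsLocalization S' Bs] [Algebra As Bs] [Algebra A Bs] [IsScalarTower A B Bs] [IsScalarTower A As Bs] {M M' : Type u} [AddCommGroup M] [AddCommGroup M'] [Module Bs M] [Module Bs M'] [Module As M] [Module As M'] [Module A M] [Module A M'] [IsScalarTower As Bs M] [IsScalarTower As Bs M'] [IsScalarTower A As M] [IsScalarTower A As M'] [IsScalarTower A Bs M] [IsScalarTower A Bs M'] (f : M →ₗ[Bs] M') : CAlgX.UniversallyInjective A (f.restrictScalars A) ↔ CAlgX.UniversallyInjective As (f.restrictScalars As) := by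
  let f' : M →ₗ[As] M' := f.restrictScalars As
  have hf' : f'.restrictScalars A = f.restrictScalars A := rfl
  constructor
  · intro h Q _ _
    letI : Module A Q := Module.compHom Q (algebraMap A As)
    haveI : IsScalarTower A As Q := IsScalarTower.of_algebraMap_smul fun _ _ => rfl
    haveI : IsLocalizedModule S (LinearMap.id : Q →ₗ[A] Q) := isLocalizedModule_id S Q As
    let e : As ⊗[A] Q ≃ₗ[As] Q :=
      (IsLocalizedModule.isBaseChange S As (LinearMap.id : Q →ₗ[A] Q)).equiv
    have h1 := (Groth.FlatMorOne.rTensor_baseChange_injective_iff (R := A) (M := Q) f').2 (hf' ▸ h Q)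
    intro a b hab
    refine (e.symm.lTensor M).injective (h1 ?_)
    have key : ∀ w : M ⊗[As] Q, f'.rTensor (As ⊗[A] Q) (e.symm.lTensor M w) =
        e.symm.lTensor M' (f'.rTensor Q w) := fun w => by
      induction w using TensorProduct.induction_on with
      | zero => simp
      | tmul m q => simp
      | add p q hp hq => simp only [map_add, hp, hq]
    rw [key, key]
    exact congrArg _ hab
  · intro h Q _ _
    exact hf' ▸ (Groth.FlatMorOne.rTensor_baseChange_injective_iff (R := A) (M := Q) f').1 (h (As ⊗[A] Q))

end Groth.Agent.S6323
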