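import Groth.Statements.S6324
import Mathlib.RingTheory.ReesAlgebra
import Mathlib.RingTheory.IntegralClosure.IsIntegralClosure.Basic

set_option autoImplicit false
universe u
open CAlg

namespace Groth.Agent.S6324

theorem integral_iff_rees {R S : Type*} [CommRing R] [CommRing S] [Algebra R S] (I : Ideal R) (s : S) :
    W4stkalgebra1.IsIntegralOverIdeal I s ↔ ((Polynomial.mapRingHom (algebraMap R S)).comp
      (reesAlgebra I).val.toRingHom).IsIntegralElem (Polynomial.C s * Polynomial.X) := by
  rcases subsingleton_or_nontrivial R with hR | hR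
  · have : Subsingleton S := (algebraMap R S).codomain_trivial
    refine ⟨fun _ => ⟨1, Polynomial.monic_one, Subsingleton.elim _ _⟩,
      fun _ => ⟨1, Polynomial.monic_one, fun j hj => by simp at hj, Subsingleton.elim _ _⟩⟩
  set φ := (Polynomial.mapRingHom (algebraMap R S)).comp (reesAlgebra I).val.toRingHom with hφ
  have hXpow : ∀ j : ℕ, (Polynomial.C s * Polynomial.X) ^ j = Polynomial.monomial j (s ^ j) := fun j => by
    rw [mul_pow, ← Polynomial.C_pow, Polynomial.C_mul_X_pow_eq_monomial]
  constructor
  · rintro ⟨p, hp, hcoef, heval⟩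
    set d := p.natDegree
    let a : ℕ → reesAlgebra I := fun j =>
      if h : j < d then ⟨Polynomial.monomial (d - j) (p.coeff j), reesAlgebra.monomial_mem.2 (hcoef j h)⟩ else 0
    refine ⟨Polynomial.X ^ d + ∑ j : Fin d, Polynomial.C (a j) * Polynomial.X ^ (j : ℕ), ?_, ?_⟩
    · exact Polynomial.monic_X_pow_add (Polynomial.degree_sum_fin_lt _)
    · simp only [Polynomial.eval₂_add, Polynomial.eval₂_X_pow, Polynomial.eval₂_finsetSum,
        Polynomial.eval₂_mul, Polynomial.eval₂_C, hXpow]
      have hterm : ∀ j : Fin d, φ (a j) * Polynomial.monomial (j : ℕ) (s ^ (j : ℕ)) =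
          Polynomial.monomial d (algebraMap R S (p.coeff j) * s ^ (j : ℕ)) := fun j => by
        simp only [hφ, a, dif_pos j.isLt, RingHom.comp_apply, AlgHom.toRingHom_eq_coe, RingHom.coe_coe,
          Subalgebra.coe_val, Polynomial.coe_mapRingHom, Polynomial.map_monomial]
        rw [Polynomial.monomial_mul_monomial, Nat.sub_add_cancel j.isLt.le]
      rw [Finset.sum_congr rfl fun j _ => hterm j, ← map_sum, ← map_add, Polynomial.monomial_eq_zero_iff,
        ← heval, Polynomial.eval₂_eq_sum_range, Finset.sum_range_succ, hp.coeff_natDegree, map_one, one_mul,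
        Fin.sum_univ_eq_sum_range (fun j => algebraMap R S (p.coeff j) * s ^ j) d, add_comm]
  · rintro ⟨p, hp, heval⟩
    set d := p.natDegree
    let c : ℕ → R := fun j => (p.coeff j : Polynomial R).coeff (d - j)
    let r : Polynomial R := ∑ j : Fin d, Polynomial.C (c j) * Polynomial.X ^ (j : ℕ)
    have hr : r.degree < d := Polynomial.degree_sum_fin_lt _
    have hdeg : (Polynomial.X ^ d + r).natDegree = d :=
      Polynomial.natDegree_eq_of_degree_eq_some (by
        rw [Polynomial.degree_add_eq_left_of_degree_lt (by rwa [Polynomial.degree_X_pow]), Polynomial.degree_X_pow])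
    refine ⟨Polynomial.X ^ d + r, Polynomial.monic_X_pow_add hr, fun j hj => ?_, ?_⟩
    · rw [hdeg] at hj ⊢
      have : (Polynomial.X ^ d + r).coeff j = c j := by
        simp only [r, Polynomial.coeff_add, Polynomial.coeff_X_pow, if_neg hj.ne, zero_add,
          Polynomial.finsetSum_coeff, Polynomial.coeff_C_mul, mul_ite, mul_one, mul_zero]
        rw [Finset.sum_eq_single (⟨j, hj⟩ : Fin d) (fun b _ hb => if_neg fun h => hb (Fin.ext h.symm))
          (fun h => absurd (Finset.mem_univ _) h), if_pos rfl]
      rw [this]
      exact (p.coeff j).2 (d - j)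
    · have h := congrArg (fun g : Polynomial S => g.coeff d) heval
      simp only [Polynomial.eval₂_eq_sum_range, Finset.sum_range_succ, hp.coeff_natDegree, map_one, one_mul,
        hXpow, Polynomial.coeff_add, Polynomial.finsetSum_coeff, Polynomial.coeff_monomial_same,
        Polynomial.coeff_zero] at h
      rw [← h]
      simp only [r, Polynomial.eval₂_add, Polynomial.eval₂_X_pow, Polynomial.eval₂_finsetSum,
        Polynomial.eval₂_mul, Polynomial.eval₂_C]
      rw [Fin.sum_univ_eq_sum_range (fun j => algebraMap R S (c j) * s ^ j) d, add_comm,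
        Polynomial.coeff_monomial_same]
      congr 1
      refine Finset.sum_congr rfl fun j hj => ?_
      have hjd : (d - j) + j = d := Nat.sub_add_cancel (Finset.mem_range.1 hj).le
      conv_rhs => rw [← hjd, Polynomial.coeff_mul_monomial]
      simp [hφ, c]

/-- Let R → S be a ring map, I ⊆ R an ideal and A = Σ Iⁿtⁿ ⊆ R[t] the Rees algebra of I. For s ∈ S,
being integral over I is equivalent to s·t ∈ S[t] being integral over A (via A ⊆ R[t] → S[t]). -/
theorem result {R S : Type u} [CommRing R] [CommRing S] [Algebra R S] (I : Ideal R) (s : S) : W4stkalgebra1.IsIntegralOverIdeal I s ↔ ((Polynomial.mapRingHom (algebraMap R S)).comp (reesAlgebra I).val.toRingHom).IsIntegralElem (Polynomial.C s * Polynomial.X) := integral_iff_rees I s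

end Groth.Agent.S6324
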