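import Groth.Statements.S6326
import Mathlib.Algebra.Category.ModuleCat.Colimits
import Mathlib.CategoryTheory.Filtered.Basic
import Mathlib.CategoryTheory.Limits.Types.Filtered
import Mathlib.RingTheory.Finiteness.Basic

set_option autoImplicit false
universe u
open CategoryTheory CategoryTheory.Limits
open CAlg

namespace Groth.Agent.S6326

/-- the system of quotients of `M` by the finitely generated submodules contained in `K` -/
abbrev Idx {R : Type u} [CommRing R] {M : Type u} [AddCommGroup M] [Module R M] (K : Submodule R M) : Type u :=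
  {P : Submodule R M // P ≤ K ∧ P.FG}

instance {R : Type u} [CommRing R] {M : Type u} [AddCommGroup M] [Module R M] (K : Submodule R M) :
    Nonempty (Idx K) := ⟨⟨⊥, bot_le, Submodule.fg_bot⟩⟩

instance {R : Type u} [CommRing R] {M : Type u} [AddCommGroup M] [Module R M] (K : Submodule R M) :
    IsDirectedOrder (Idx K) :=
  ⟨fun a b => ⟨⟨a.1 ⊔ b.1, sup_le a.2.1 b.2.1, a.2.2.sup b.2.2⟩, le_sup_left (a := a.1), le_sup_right (b := b.1)⟩⟩

noncomputable def quotFunctor {R : Type u} [CommRing R] {M : Type u} [AddCommGroup M] [Module R M]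
    (K : Submodule R M) : Idx K ⥤ ModuleCat.{u} R where
  obj P := ModuleCat.of R (M ⧸ P.1)
  map {P Q} h := ModuleCat.ofHom (P.1.mapQ Q.1 LinearMap.id (leOfHom h))
  map_id P := by ext x; rfl
  map_comp f g := by ext x; rfl

variable {R : Type u} [CommRing R] {M : Type u} [AddCommGroup M] [Module R M] (K : Submodule R M)

noncomputable def botIdx : Idx K := ⟨⊥, bot_le, Submodule.fg_bot⟩

theorem ι_mk_eq (P : Idx K) (y : M) :
    colimit.ι (quotFunctor K) P (Submodule.Quotient.mk y) =
      colimit.ι (quotFunctor K) (botIdx K) (Submodule.Quotient.mk y) := by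
  have h : botIdx K ≤ P := bot_le (a := P.1)
  rw [← colimit.w (quotFunctor K) (homOfLE h)]
  rfl

theorem ι_bot_eq_zero {y : M} (hy : y ∈ K) :
    colimit.ι (quotFunctor K) (botIdx K) (Submodule.Quotient.mk y) = 0 := by
  let P : Idx K := ⟨R ∙ y, (Submodule.span_singleton_le_iff_mem _ _).2 hy, Submodule.fg_span_singleton y⟩
  rw [← ι_mk_eq K P y, show (Submodule.Quotient.mk y : M ⧸ P.1) = 0 from
    (Submodule.Quotient.mk_eq_zero _).2 (Submodule.mem_span_singleton_self y)]
  exact map_zero (colimit.ι (quotFunctor K) P).hom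

theorem finite_of_injective {N : Type u} [AddCommGroup N] [Module R N]
    (h : Function.Injective (colimit.post (quotFunctor (⊤ : Submodule R N))
      (coyoneda.obj (Opposite.op (ModuleCat.of R N))))) : Module.Finite R N := by
  let F := quotFunctor (⊤ : Submodule R N)
  let C := coyoneda.obj (Opposite.op (ModuleCat.of R N))
  let q : (F ⋙ C).obj (botIdx ⊤) := ModuleCat.ofHom (Submodule.mkQ _)
  let z : (F ⋙ C).obj (botIdx ⊤) := ModuleCat.ofHom 0
  have hp : ∀ w : (F ⋙ C).obj (botIdx ⊤), colimit.post F C (colimit.ι (F ⋙ C) (botIdx ⊤) w) =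
      C.map (colimit.ι F (botIdx ⊤)) w := fun w => ConcreteCategory.congr_hom (colimit.ι_post F C (botIdx ⊤)) w
  have he : colimit.ι (F ⋙ C) (botIdx ⊤) q = colimit.ι (F ⋙ C) (botIdx ⊤) z := h <| by
    rw [hp, hp]
    refine ModuleCat.hom_ext (LinearMap.ext fun y => ?_)
    exact (ι_bot_eq_zero ⊤ (Submodule.mem_top (x := y))).trans (map_zero (colimit.ι F (botIdx ⊤)).hom).symm
  obtain ⟨P, f, g, hfg⟩ := (Types.FilteredColimit.colimit_eq_iff _).1 he
  have htop : P.1 = ⊤ := eq_top_iff.2 fun y _ => by
    have := congrArg (fun w : ModuleCat.of R N ⟶ F.obj P => w y) hfg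
    exact (Submodule.Quotient.mk_eq_zero _).1 (this.trans (by rfl))
  exact ⟨htop ▸ P.2.2⟩

/-- Let R be a ring and N an R-module such that whenever M is the colimit of a filtered diagram (Mᵢ) of
R-modules (indexed by a filtered category in the same universe), the comparison map colim Hom_R(N,
Mᵢ) → Hom_R(N, M) is injective. Then N is finitely generated. (The implication from finite
generation back to this injectivity also holds; only the characterizing direction is stated here.) -/
theorem result (R : Type u) [CommRing R] (N : Type u) [AddCommGroup N] [Module R N] (h : ∀ (J : Type u) [SmallCategory J] [IsFiltered J] (F : J ⥤ ModuleCat.{u} R), Function.Injective (colimit.post F (coyoneda.obj (Opposite.op (ModuleCat.of R N))))) : Module.Finite R N := finite_of_injective (h (Idx ⊤) (quotFunctor ⊤))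

end Groth.Agent.S6326
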