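import Groth.Statements.S6328
import Mathlib.Algebra.Module.FinitePresentation
import Mathlib.Algebra.Colimit.Module
import Mathlib.LinearAlgebra.Isomorphisms
import Mathlib.Algebra.Module.Torsion.Basic
import Mathlib.LinearAlgebra.Finsupp.LinearCombination

set_option autoImplicit false
universe u
open CAlg

namespace Groth.Agent.S6328

abbrev Q {R F : Type*} [CommRing R] [AddCommGroup F] [Module R F] (S T : Submodule R F) :=
  ↥S ⧸ T.comap S.subtype

theorem fp_Q {R F : Type*} [CommRing R] [AddCommGroup F] [Module R F] (S T : Submodule R F)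
    [Module.Finite R S] [Module.Free R S] (hTS : T ≤ S) (hT : T.FG) : Module.FinitePresentation R (Q S T) := by
  haveI := Module.finitePresentation_of_projective R S
  refine Module.finitePresentation_of_surjective (T.comap S.subtype).mkQ (Submodule.mkQ_surjective _) ?_
  rw [Submodule.ker_mkQ]
  refine Submodule.fg_of_fg_map_injective S.subtype Subtype.val_injective ?_
  rwa [Submodule.map_comap_subtype, inf_eq_right.2 hTS]

/-- Every module M over a ring R can be written as the direct limit of a directed system (Mᵢ, μᵢⱼ) of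
finitely presented R-modules. -/
theorem result (R : Type u) [CommRing R] (M : Type u) [AddCommGroup M] [Module R M] : ∃ (ι : Type u) (_ : Preorder ι) (_ : IsDirected ι (· ≤ ·)) (_ : Nonempty ι) (_ : DecidableEq ι) (G : ι → Type u) (_ : ∀ i, AddCommGroup (G i)) (_ : ∀ i, Module R (G i)) (f : ∀ i j, i ≤ j → G i →ₗ[R] G j) (_ : DirectedSystem G fun i j h => f i j h), (∀ i, Module.FinitePresentation R (G i)) ∧ Nonempty (Module.DirectLimit G f ≃ₗ[R] M) := by
  classical
  let π : (M →₀ R) →ₗ[R] M := Finsupp.linearCombination R id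
  let ι := {p : Finset M × Finset (LinearMap.ker π) // ∀ k ∈ p.2, (k : M →₀ R).support ⊆ p.1}
  let S : ι → Submodule R (M →₀ R) := fun p => Finsupp.supported R R (p.1.1 : Set M)
  let T : ι → Submodule R (M →₀ R) := fun p => Submodule.span R (Subtype.val '' (p.1.2 : Set (LinearMap.ker π)))
  have hTS : ∀ p, T p ≤ S p := fun p => Submodule.span_le.2 (by
    rintro _ ⟨k, hk, rfl⟩
    exact (Finsupp.mem_supported R _).2 (Finset.coe_subset.2 (p.2 k hk)))
  let G : ι → Type u := fun p => Q (S p) (T p)
  have hS : ∀ i j : ι, i ≤ j → S i ≤ S j := fun i j h => Finsupp.supported_mono (Finset.coe_subset.2 h.1)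
  have hT : ∀ i j : ι, i ≤ j → T i ≤ T j := fun i j h => Submodule.span_mono (Set.image_mono (Finset.coe_subset.2 h.2))
  let f : ∀ i j, i ≤ j → G i →ₗ[R] G j := fun i j h => Submodule.mapQ _ _ (Submodule.inclusion (hS i j h))
    (fun x hx => hT i j h hx)
  letI : ∀ p, AddCommGroup (G p) := fun p => (inferInstance : AddCommGroup (Q (S p) (T p)))
  letI : ∀ p, Module R (G p) := fun p => (inferInstance : Module R (Q (S p) (T p)))
  haveI : DirectedSystem G fun i j h => f i j h :=
    { map_self := fun i x => by
        obtain ⟨x, rfl⟩ := Submodule.Quotient.mk_surjective _ x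
        rfl
      map_map := fun k j i hij hjk x => by
        obtain ⟨x, rfl⟩ := Submodule.Quotient.mk_surjective _ x
        rfl }
  haveI : IsDirected ι (· ≤ ·) := ⟨fun p q => ⟨⟨p.1 ⊔ q.1, fun k hk => by
      rcases Finset.mem_union.1 hk with hk | hk
      · exact (p.2 k hk).trans Finset.subset_union_left
      · exact (q.2 k hk).trans Finset.subset_union_right⟩,
    le_sup_left (a := p.1) (b := q.1), le_sup_right (a := p.1) (b := q.1)⟩⟩
  haveI : Nonempty ι := ⟨⟨(∅, ∅), by simp⟩⟩
  refine ⟨ι, inferInstance, inferInstance, inferInstance, inferInstance, G, fun p => (inferInstance : AddCommGroup (Q (S p) (T p))), fun p => (inferInstance : Module R (Q (S p) (T p))),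
    f, inferInstance, fun p => ?_, ?_⟩
  · haveI : Module.Finite R (S p) :=
      Module.Finite.equiv (Finsupp.supportedEquivFinsupp (R := R) (M := R) (p.1.1 : Set M)).symm
    haveI : Module.Free R (S p) :=
      Module.Free.of_equiv (Finsupp.supportedEquivFinsupp (R := R) (M := R) (p.1.1 : Set M)).symm
    exact fp_Q _ _ (hTS p) (Submodule.fg_span (p.1.2.finite_toSet.image _))
  · let g : ∀ p, G p →ₗ[R] M := fun p => Submodule.liftQ _ (π ∘ₗ (S p).subtype) (fun x hx =>
      (Submodule.span_le.2 (by rintro _ ⟨k, -, rfl⟩; exact k.2) : T p ≤ LinearMap.ker π) hx)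
    refine ⟨LinearEquiv.ofBijective (Module.DirectLimit.lift R ι G f g fun i j h x => ?_) ⟨?_, fun m => ?_⟩⟩
    · obtain ⟨x, rfl⟩ := Submodule.Quotient.mk_surjective _ x
      rfl
    · rw [injective_iff_map_eq_zero]
      intro z hz
      obtain ⟨p, y, rfl⟩ := Module.DirectLimit.exists_of z
      obtain ⟨x, rfl⟩ := Submodule.Quotient.mk_surjective _ y
      rw [Module.DirectLimit.lift_of] at hz
      let k : LinearMap.ker π := ⟨x.1, hz⟩
      let q : ι := ⟨(p.1.1, insert k p.1.2), fun l hl => by
        rcases Finset.mem_insert.1 hl with rfl | hl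
        · exact Finset.coe_subset.1 ((Finsupp.mem_supported R _).1 x.2)
        · exact p.2 l hl⟩
      have hpq : p ≤ q := ⟨le_rfl, Finset.subset_insert _ _⟩
      rw [← Module.DirectLimit.of_f (hij := hpq)]
      convert map_zero (Module.DirectLimit.of R ι G f q)
      exact (Submodule.Quotient.mk_eq_zero _).2 (Submodule.subset_span ⟨k, Finset.mem_insert_self _ _, rfl⟩)
    · let p : ι := ⟨({m}, ∅), by simp⟩
      refine ⟨Module.DirectLimit.of R ι G f p
        (Submodule.Quotient.mk ⟨Finsupp.single m 1, Finsupp.single_mem_supported R _ (by simp [p])⟩), ?_⟩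
      rw [Module.DirectLimit.lift_of]
      show π (Finsupp.single m 1) = m
      simp [π]

end Groth.Agent.S6328
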