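import Groth.Statements.S6329
import Mathlib.RingTheory.Length
import Mathlib.RingTheory.SimpleModule.Basic
import Mathlib.Algebra.Module.LocalizedModule.Exact
import Mathlib.RingTheory.Localization.AtPrime.Basic
import Mathlib.RingTheory.Ideal.Colon

set_option autoImplicit false
universe u
open CAlg

namespace Groth.Agent.S6329

section
variable {R : Type u} [CommRing R] {M : Type u} [AddCommGroup M] [Module R M] (m : Ideal R) [m.IsMaximal]

theorem length_simple [IsSimpleModule R M] :
    Module.length (Localization.AtPrime m) (LocalizedModule m.primeCompl M) =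
      if Module.annihilator R M = m then 1 else 0 := by
  have hmax : (Module.annihilator R M).IsMaximal := IsSimpleModule.annihilator_isMaximal
  split_ifs with h
  · have hbij : Function.Bijective (LocalizedModule.mkLinearMap m.primeCompl M) := by
      have hu : ∀ t : m.primeCompl, Function.Bijective fun x : M => (t : R) • x := by
        intro t
        obtain ⟨c, d, hd, hcd⟩ := (‹m.IsMaximal›).exists_inv t.2
        have hd0 : ∀ x : M, d • x = 0 := fun x => Module.mem_annihilator.1 (h ▸ hd) x
        have hc : ∀ x : M, c • (t : R) • x = x := fun x => by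
          rw [smul_smul, ← add_zero ((c * (t : R)) • x), ← hd0 x, ← add_smul, hcd, one_smul]
        exact ⟨Function.LeftInverse.injective hc, fun x => ⟨c • x, show (t : R) • c • x = x by rw [smul_comm]; exact hc x⟩⟩
      have : IsLocalizedModule m.primeCompl (LinearMap.id : M →ₗ[R] M) :=
        ⟨fun t => (Module.End.isUnit_iff _).2 (hu t), fun y => ⟨⟨y, 1⟩, by simp⟩, fun h => ⟨1, by simpa using h⟩⟩
      rw [show LocalizedModule.mkLinearMap m.primeCompl M =
        (IsLocalizedModule.linearEquiv m.primeCompl (LinearMap.id : M →ₗ[R] M)
          (LocalizedModule.mkLinearMap m.primeCompl M)).toLinearMap from LinearMap.ext fun x =>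
          (IsLocalizedModule.linearEquiv_apply m.primeCompl (LinearMap.id : M →ₗ[R] M) _ x).symm]
      exact LinearEquiv.bijective _
    have : Nontrivial M := IsSimpleModule.nontrivial R M
    have : Nontrivial (LocalizedModule m.primeCompl M) := hbij.1.nontrivial
    have : IsSimpleModule R (LocalizedModule m.primeCompl M) :=
      IsSimpleModule.congr (LinearEquiv.ofBijective _ hbij).symm
    rw [Module.length_eq_one_iff, isSimpleModule_iff]
    refine { eq_bot_or_eq_top := fun N => ?_ }
    exact (eq_bot_or_eq_top (N.restrictScalars R)).imp (fun e => (Submodule.restrictScalars_eq_bot_iff _ _ _).1 e)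
      (fun e => (Submodule.restrictScalars_eq_top_iff R _ _).1 e)
  · rw [Module.length_eq_zero_iff, LocalizedModule.subsingleton_iff]
    intro x
    obtain ⟨a, ha, ham⟩ := SetLike.not_le_iff_exists.1 fun hle =>
      h (hmax.eq_of_le (‹m.IsMaximal›).ne_top hle)
    exact ⟨a, ham, Module.mem_annihilator.1 ha x⟩

theorem length_loc_step {N N' : Submodule R M} (hcov : N ⋖ N') :
    Module.length (Localization.AtPrime m) (LocalizedModule m.primeCompl N') =
      Module.length (Localization.AtPrime m) (LocalizedModule m.primeCompl N) +
        if N.colon (N' : Set M) = m then 1 else 0 := by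
  let q := (N.comap N'.subtype).mkQ
  let i := Submodule.inclusion hcov.le
  have hex : Function.Exact i q := by
    rw [LinearMap.exact_iff, Submodule.ker_mkQ, Submodule.range_inclusion]
  have e := Module.length_eq_add_of_exact (LocalizedModule.map m.primeCompl i) (LocalizedModule.map m.primeCompl q)
    (LocalizedModule.map_injective _ _ (Submodule.inclusion_injective hcov.le))
    (LocalizedModule.map_surjective _ _ (Submodule.mkQ_surjective _))
    (LocalizedModule.map_exact _ _ _ hex)
  have : IsSimpleModule R (↥N' ⧸ N.comap N'.subtype) :=
    (covBy_iff_quot_is_simple hcov.le).1 hcov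
  have hann : Module.annihilator R (↥N' ⧸ N.comap N'.subtype) = N.colon (N' : Set M) := by
    ext a
    rw [Submodule.annihilator_quotient, Submodule.mem_colon, Submodule.mem_colon]
    simp
  rw [e, ← hann]
  congr 1
  exact length_simple m
end

/-- Let R be a ring, M an R-module and 0 = M₀ ⊂ M₁ ⊂ … ⊂ Mₙ = M a maximal chain of submodules (a
composition series; each Mᵢ/Mᵢ₋₁ is simple, of the form R/mᵢ with mᵢ = (Mᵢ₋₁ : Mᵢ) maximal). Then
for every maximal ideal m of R the number of indices i with mᵢ = m equals length_{R_m}(M_m). -/
theorem result {R : Type u} [CommRing R] (M : Type u) [AddCommGroup M] [Module R M] (s : CompositionSeries (Submodule R M)) (h0 : s.head = ⊥) (h1 : s.last = ⊤) (m : Ideal R) [m.IsMaximal] : ((Finset.univ.filter fun i : Fin s.length => (s i.castSucc).colon (s i.succ : Set M) = m).card : ℕ∞) = Module.length (Localization.AtPrime m) (LocalizedModule m.primeCompl M) := by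
  classical
  let L : Fin (s.length + 1) → ℕ∞ := fun i =>
    Module.length (Localization.AtPrime m) (LocalizedModule m.primeCompl (s i))
  have hL : ∀ i : Fin (s.length + 1), L i =
      ((Finset.univ.filter fun j : Fin s.length => (j : ℕ) < i ∧ (s j.castSucc).colon (s j.succ : Set M) = m).card : ℕ∞) := by
    intro i
    induction i using Fin.induction with
    | zero =>
      have : Subsingleton (s 0 : Submodule R M) := Submodule.subsingleton_iff_eq_bot.2 h0
      have : Subsingleton (LocalizedModule m.primeCompl (s 0 : Submodule R M)) :=
        LocalizedModule.subsingleton_iff.2 fun x => ⟨1, one_mem _, by simp [Subsingleton.elim x 0]⟩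
      simp [L, Module.length_eq_zero]
    | succ i ih =>
      have := length_loc_step m (s.step i)
      rw [show L i.succ = _ from this, show Module.length _ _ = L i.castSucc from rfl, ih]
      have hset : (Finset.univ.filter fun j : Fin s.length => (j : ℕ) < (i.succ : Fin _) ∧ (s j.castSucc).colon (s j.succ : Set M) = m) =
          (Finset.univ.filter fun j : Fin s.length => (j : ℕ) < (i.castSucc : Fin _) ∧ (s j.castSucc).colon (s j.succ : Set M) = m) ∪
          (({i} : Finset (Fin s.length)).filter fun j => (s j.castSucc).colon (s j.succ : Set M) = m) := by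
        ext j
        simp only [Finset.mem_filter, Finset.mem_univ, true_and, Finset.mem_union, Finset.mem_singleton,
          Fin.val_succ, Fin.val_castSucc, Nat.lt_succ_iff_lt_or_eq, Fin.val_inj]
        tauto
      rw [hset, Finset.card_union_of_disjoint, Nat.cast_add]
      · congr 1
        by_cases hi : (s i.castSucc).colon (s i.succ : Set M) = m <;> simp [Finset.filter_singleton, hi]
      · rw [Finset.disjoint_left]
        intro j hj hj'
        simp only [Finset.mem_filter, Finset.mem_singleton, Fin.val_castSucc] at hj hj'
        rw [hj'.1] at hj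
        exact lt_irrefl _ hj.2.1
  have hlast := hL (Fin.last s.length)
  let e : (↥(s (Fin.last s.length))) ≃ₗ[R] M := (LinearEquiv.ofEq _ _ h1).trans Submodule.topEquiv
  let e' : LocalizedModule m.primeCompl (s (Fin.last s.length)) ≃ₗ[Localization.AtPrime m] LocalizedModule m.primeCompl M :=
    LinearEquiv.ofBijective (LocalizedModule.map m.primeCompl e.toLinearMap)
      ⟨LocalizedModule.map_injective _ _ e.injective, LocalizedModule.map_surjective _ _ e.surjective⟩
  rw [← e'.length_eq, show Module.length _ _ = L (Fin.last s.length) from rfl, hlast]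
  congr 2
  ext j
  simp [j.isLt]

end Groth.Agent.S6329
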