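import Groth.Statements.S6330
import Groth.Agent.S6308
import Mathlib.RingTheory.Localization.Module
import Mathlib.Algebra.Module.LocalizedModule.Exact
import Mathlib.RingTheory.LocalProperties.Projective

set_option autoImplicit false
universe u
open scoped TensorProduct
open CAlg

namespace Groth.Agent.S6330

theorem map_surjective_of_fibre {R M N : Type u} [CommRing R] [AddCommGroup M] [Module R M]
    [AddCommGroup N] [Module R N] [Module.Finite R N] (φ : M →ₗ[R] N) :
    IsOpen {p : PrimeSpectrum R | Function.Surjective (φ.lTensor p.asIdeal.ResidueField)} ∧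
    ∀ f : R, (↑(PrimeSpectrum.basicOpen f) : Set (PrimeSpectrum R)) ⊆
      {p : PrimeSpectrum R | Function.Surjective (φ.lTensor p.asIdeal.ResidueField)} →
        Function.Surjective (LocalizedModule.map (Submonoid.powers f) φ) := by
  obtain ⟨h1, h2, h3⟩ := Groth.Agent.S6308.result φ
  have e : {p : PrimeSpectrum R | Function.Surjective (φ.lTensor p.asIdeal.ResidueField)} =
      {p : PrimeSpectrum R | Function.Surjective (LocalizedModule.map p.asIdeal.primeCompl φ)} :=
    Set.ext fun p => (h1 p).symm
  rw [e]
  exact ⟨h2, h3⟩

/-- Let R be a ring and φ : P₁ → P₂ a map of finite projective R-modules. The set W of primes p of R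
such that φ ⊗ κ(p) is surjective is open, and for every f ∈ R with D(f) ⊆ W the map (P₁)_f → (P₂)_f
is surjective and Ker(φ)_f is a finite projective module over R_f. -/
theorem result {R : Type u} [CommRing R] {P₁ P₂ : Type u} [AddCommGroup P₁] [Module R P₁] [AddCommGroup P₂] [Module R P₂] [Module.Finite R P₁] [Module.Projective R P₁] [Module.Finite R P₂] [Module.Projective R P₂] (φ : P₁ →ₗ[R] P₂) : IsOpen {p : PrimeSpectrum R | Function.Surjective (φ.lTensor p.asIdeal.ResidueField)} ∧ ∀ f : R, (↑(PrimeSpectrum.basicOpen f) : Set (PrimeSpectrum R)) ⊆ {p : PrimeSpectrum R | Function.Surjective (φ.lTensor p.asIdeal.ResidueField)} → Function.Surjective (LocalizedModule.map (Submonoid.powers f) φ) ∧ Module.Finite (Localization.Away f) (LocalizedModule (Submonoid.powers f) (LinearMap.ker φ)) ∧ Module.Projective (Localization.Away f) (LocalizedModule (Submonoid.powers f) (LinearMap.ker φ)) := by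
  refine ⟨(map_surjective_of_fibre φ).1, fun f hf => ?_⟩
  let T := Submonoid.powers f
  have hsurj := (map_surjective_of_fibre φ).2 f hf
  refine ⟨hsurj, ?_⟩
  have : Module.Projective (Localization.Away f) (LocalizedModule T P₂) :=
    Module.Projective.of_equiv (LocalizedModule.equivTensorProduct T P₂).symm
  have : Module.Projective (Localization.Away f) (LocalizedModule T P₁) :=
    Module.Projective.of_equiv (LocalizedModule.equivTensorProduct T P₁).symm
  have : Module.Finite (Localization.Away f) (LocalizedModule T P₁) :=
    Module.Finite.of_isLocalizedModule T (LocalizedModule.mkLinearMap T P₁)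
  let ι := LocalizedModule.map T (LinearMap.ker φ).subtype
  have hι : Function.Injective ι := LocalizedModule.map_injective T _ Subtype.val_injective
  have hex : Function.Exact ι (LocalizedModule.map T φ) :=
    LocalizedModule.map_exact T _ _ (LinearMap.exact_subtype_ker_map φ)
  obtain ⟨σ, hσ⟩ := Module.projective_lifting_property (LocalizedModule.map T φ) LinearMap.id hsurj
  obtain ⟨ρ, hρ⟩ := ((Function.Exact.split_tfae hex hι hsurj).out 0 1 rfl rfl).1 ⟨σ, hσ⟩
  exact ⟨Module.Finite.of_surjective ρ fun x => ⟨ι x, LinearMap.congr_fun hρ x⟩,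
    Module.Projective.of_split ι ρ hρ⟩

end Groth.Agent.S6330
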