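import Groth.Statements.S6331
import Mathlib

set_option autoImplicit false
universe u
open CAlg

namespace Groth.Agent.S6331

theorem unit_root {R : Type*} [CommRing R] (n : ℕ) (_hn : 1 ≤ n) (hu : IsUnit (n : R)) (y : R)
    (hy : IsNilpotent y) : ∃! x : R, IsNilpotent x ∧ (1 + x) ^ n = 1 + y := by
  obtain ⟨r, ⟨h1, h2⟩, h3⟩ := Polynomial.existsUnique_nilpotent_sub_and_aeval_eq_zero
    (x := (0 : R)) (P := ((1 + Polynomial.X) ^ n - Polynomial.C (1 + y) : Polynomial R))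
    (by simpa using hy) (by simpa [Polynomial.derivative_pow] using hu)
  refine ⟨r, ⟨by simpa using h1.neg, ?_⟩, fun x hx => h3 x ⟨by simpa using hx.1, by simp [hx.2]⟩⟩
  simpa [sub_eq_zero] using h2


/-- Let R be a ring, I ⊆ R an ideal all of whose elements are nilpotent, and n ≥ 1 an integer whose
image in R/I is invertible. Then (1) raising to the n-th power is a bijection of the subset 1 + I of
R onto itself: for every y ∈ I there is exactly one x ∈ I with (1 + x)ⁿ = 1 + y; (2) a unit u of R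
has an n-th root in R exactly when the residue class of u has an n-th root in R/I. -/
theorem result {R : Type u} [CommRing R] (I : Ideal R) (hI : ∀ x ∈ I, IsNilpotent x) (n : ℕ) (hn : 1 ≤ n) (hinv : IsUnit ((n : ℕ) : R ⧸ I)) : (∀ y ∈ I, ∃! x : R, x ∈ I ∧ (1 + x) ^ n = 1 + y) ∧ (∀ u : Rˣ, (∃ v : R, v ^ n = (u : R)) ↔ ∃ w : R ⧸ I, w ^ n = Ideal.Quotient.mk I (u : R)) := by
  have hu : IsUnit ((n : ℕ) : R) := by
    obtain ⟨w, hw⟩ := hinv.exists_right_inv
    obtain ⟨w, rfl⟩ := Ideal.Quotient.mk_surjective w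
    rw [← map_natCast (Ideal.Quotient.mk I), ← map_mul, ← map_one (Ideal.Quotient.mk I), Ideal.Quotient.eq] at hw
    refine isUnit_of_mul_isUnit_left (y := w) ?_
    have := IsNilpotent.isUnit_add_one (hI _ hw)
    simpa using this
  have key : ∀ y ∈ I, ∃! x : R, x ∈ I ∧ (1 + x) ^ n = 1 + y := by
    intro y hy
    obtain ⟨r, ⟨hr, hr'⟩, huniq⟩ := unit_root n hn hu y (hI y hy)
    refine ⟨r, ⟨?_, hr'⟩, fun x hx => huniq x ⟨hI x hx.1, hx.2⟩⟩
    rw [← Ideal.Quotient.eq_zero_iff_mem]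
    obtain ⟨_, -, hu'⟩ := unit_root (R := R ⧸ I) n hn hinv 0 IsNilpotent.zero
    rw [hu' (Ideal.Quotient.mk I r) ⟨hr.map _, ?_⟩, hu' 0 ⟨IsNilpotent.zero, by simp⟩]
    rw [← map_one (Ideal.Quotient.mk I), ← map_add, ← map_pow, hr']
    simp [Ideal.Quotient.eq_zero_iff_mem.2 hy]
  refine ⟨key, fun u => ⟨fun ⟨v, hv⟩ => ⟨Ideal.Quotient.mk I v, by rw [← map_pow, hv]⟩, fun ⟨w, hw⟩ => ?_⟩⟩
  obtain ⟨v, rfl⟩ := Ideal.Quotient.mk_surjective w
  rw [← map_pow, Ideal.Quotient.eq] at hw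
  have hy : (↑u⁻¹ : R) * (v ^ n - u) ∈ I := I.mul_mem_left _ hw
  obtain ⟨x, ⟨hx, hx'⟩, -⟩ := key _ hy
  obtain ⟨e, he⟩ := (IsNilpotent.isUnit_one_add (hI x hx))
  refine ⟨v * (↑e⁻¹ : R), ?_⟩
  have hx'' : (u : R) * (e : R) ^ n = v ^ n := by
    rw [he, hx', mul_add, ← mul_assoc, Units.mul_inv]; ring
  rw [mul_pow, ← hx'', mul_assoc, ← mul_pow, Units.mul_inv, one_pow, mul_one]

end Groth.Agent.S6331
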