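import Groth.Statements.S6334
import Mathlib

set_option autoImplicit false
universe u
open Fields

namespace Groth.Agent.S6334

open IntermediateField in
/-- Let E/F be a finite purely inseparable extension of fields of characteristic p > 0. Then there are
elements a_1, ..., a_n of E generating E over F such that for each i the p-th power of a_i lies in
F(a_1, ..., a_{i-1}) while a_i itself does not (so each step adjoins a p-th root and has degree p);
in particular [E : F] = p ^ n. -/
theorem result {F E : Type u} [Field F] [Field E] [Algebra F E] (p : ℕ)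
    [Fact p.Prime] [CharP F p] [FiniteDimensional F E] [IsPurelyInseparable F E] :
    ∃ (n : ℕ) (a : Fin n → E), adjoin F (Set.range a) = ⊤ ∧
      (∀ i : Fin n, a i ^ p ∈ adjoin F (a '' {j | j < i}) ∧ a i ∉ adjoin F (a '' {j | j < i})) ∧
      Module.finrank F E = p ^ n := by
  classical
  have hp := (Fact.out : p.Prime)
  haveI : CharP E p := charP_of_injective_algebraMap (algebraMap F E).injective p
  haveI : ExpChar F p := ExpChar.prime hp
  suffices H : ∀ n, (∃ a : Fin n → E,
      (∀ i : Fin n, a i ^ p ∈ adjoin F (a '' {j | j < i}) ∧ a i ∉ adjoin F (a '' {j | j < i})) ∧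
        Module.finrank F (adjoin F (Set.range a)) = p ^ n) ∨
      ∃ (m : ℕ) (a : Fin m → E), adjoin F (Set.range a) = ⊤ ∧
        (∀ i : Fin m, a i ^ p ∈ adjoin F (a '' {j | j < i}) ∧ a i ∉ adjoin F (a '' {j | j < i})) ∧
          Module.finrank F E = p ^ m by
    rcases H (Module.finrank F E + 1) with ⟨a, -, ha⟩ | h
    · have h1 := (adjoin F (Set.range a)).toSubalgebra.toSubmodule.finrank_le
      have h2 : Module.finrank F E + 1 ≤ p ^ (Module.finrank F E + 1) := (Nat.lt_pow_self hp.one_lt).le
      have h3 : Module.finrank F (adjoin F (Set.range a)) ≤ Module.finrank F E := h1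
      omega
    · exact h
  intro n
  induction n with
  | zero =>
    refine Or.inl ⟨Fin.elim0, fun i => i.elim0, ?_⟩
    rw [Set.range_eq_empty, adjoin_empty, IntermediateField.finrank_bot, pow_zero]
  | succ n ih =>
    rcases ih with ⟨a, ha, hn⟩ | h
    swap
    · exact Or.inr h
    by_cases htop : adjoin F (Set.range a) = ⊤
    · refine Or.inr ⟨n, a, htop, ha, ?_⟩
      rw [htop, IntermediateField.finrank_top'] at hn
      exact hn
    let A := adjoin F (Set.range a)
    obtain ⟨x, hx⟩ : ∃ x, x ∉ A := by
      by_contra h
      push Not at h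
      exact htop (eq_top_iff.2 fun x _ => h x)
    have hex : ∃ k, x ^ p ^ k ∈ A := by
      obtain ⟨k, y, hy⟩ := IsPurelyInseparable.pow_mem F p x
      exact ⟨k, hy ▸ A.algebraMap_mem y⟩
    obtain ⟨k, hk⟩ : ∃ k, Nat.find hex = k + 1 := by
      refine Nat.exists_eq_succ_of_ne_zero fun h0 => hx ?_
      simpa [h0] using Nat.find_spec hex
    let b := x ^ p ^ k
    have hb : b ∉ A := Nat.find_min hex (by omega)
    have hbp : b ^ p ∈ A := by
      have := Nat.find_spec hex
      rwa [hk, pow_succ, pow_mul] at this
    refine Or.inl ⟨Fin.snoc a b, fun i => ?_, ?_⟩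
    · refine Fin.lastCases ?_ (fun i => ?_) i
      · have e : Fin.snoc a b '' {j : Fin (n + 1) | j < Fin.last n} = Set.range a := by
          ext y
          constructor
          · rintro ⟨j, hj, rfl⟩
            obtain ⟨j, rfl⟩ := Fin.exists_castSucc_eq.2 (ne_of_lt hj)
            exact ⟨j, by simp⟩
          · rintro ⟨j, rfl⟩
            exact ⟨j.castSucc, Fin.castSucc_lt_last j, by simp⟩
        rw [e, Fin.snoc_last]
        exact ⟨hbp, hb⟩
      · have e : Fin.snoc a b '' {j : Fin (n + 1) | j < i.castSucc} = a '' {j | j < i} := by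
          ext y
          constructor
          · rintro ⟨j, hj, rfl⟩
            obtain ⟨j, rfl⟩ := Fin.exists_castSucc_eq.2 (ne_of_lt (lt_trans hj (Fin.castSucc_lt_last i)))
            exact ⟨j, hj, by simp⟩
          · rintro ⟨j, hj, rfl⟩
            exact ⟨j.castSucc, hj, by simp⟩
        rw [e, Fin.snoc_castSucc]
        exact ha i
    · have hint : IsIntegral A b := Algebra.IsIntegral.isIntegral b
      have hirr : Irreducible (Polynomial.X ^ p - Polynomial.C (⟨b ^ p, hbp⟩ : A)) :=
        X_pow_sub_C_irreducible_of_prime hp fun c hc => hb (by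
          have : (c : E) ^ p = b ^ p := congrArg Subtype.val hc
          exact frobenius_inj E p this ▸ c.2)
      have hdeg : Module.finrank A A⟮b⟯ = p := by
        rw [adjoin.finrank hint, ← minpoly.eq_of_irreducible_of_monic hirr
            (by simp [Polynomial.aeval_def, IntermediateField.algebraMap_apply])
            (Polynomial.monic_X_pow_sub_C _ hp.ne_zero), Polynomial.natDegree_X_pow_sub_C]
      have hset : Set.range (Fin.snoc a b) = Set.range a ∪ {b} := by
        rw [Fin.range_snoc, Set.insert_eq, Set.union_comm]
      rw [hset, ← adjoin_adjoin_left, pow_succ, ← hn, ← hdeg]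
      exact (Module.finrank_mul_finrank F A A⟮b⟯).symm

end Groth.Agent.S6334
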