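import Groth.Statements.S6335
import Mathlib

set_option autoImplicit false
universe u
open Fields

namespace Groth.Agent.S6335

/-- Let K be a field of characteristic p > 0, L/K a separable algebraic extension and a an element of L.
If a is a root of a polynomial P over K which is separable (pairwise distinct roots in an algebraic
closure) and all of whose coefficients are p-th powers in K, then a is a p-th power in L. (Part (1),
the case where P is the minimal polynomial of a, is a special case.) -/
theorem result {K L : Type u} [Field K] [Field L] [Algebra K L]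
    (p : ℕ) [Fact p.Prime] [CharP K p] [Algebra.IsSeparable K L] (a : L) (P : Polynomial K)
    (hroot : Polynomial.aeval a P = 0) (hsep : P.Separable) (hcoeff : ∀ i : ℕ, ∃ b : K, b ^ p = P.coeff i) :
    ∃ c : L, c ^ p = a := by
  have hp := (Fact.out : p.Prime)
  haveI : CharP L p := charP_of_injective_algebraMap (algebraMap K L).injective p
  haveI : ExpChar L p := ExpChar.prime hp
  let S : Subfield L := (frobenius L p).fieldRange
  haveI : CharP S p := inferInstance
  haveI : ExpChar S p := ExpChar.prime hp
  have hmem : ∀ n, algebraMap K L (P.coeff n) ∈ S := fun n => by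
    obtain ⟨b, hb⟩ := hcoeff n
    exact ⟨algebraMap K L b, by rw [frobenius_def, ← map_pow, hb]⟩
  have hl : P.map (algebraMap K L) ∈ Polynomial.lifts S.subtype := by
    rw [Polynomial.lifts_iff_coeff_lifts]
    intro n
    rw [Polynomial.coeff_map]
    exact ⟨⟨_, hmem n⟩, rfl⟩
  obtain ⟨Q, hQ⟩ := (Polynomial.mem_lifts _).1 hl
  have hQsep : Q.Separable := by
    rw [← Polynomial.separable_map S.subtype, hQ]
    exact hsep.map
  have hQa : Polynomial.aeval a Q = 0 := by
    rw [Polynomial.aeval_def, ← Polynomial.eval_map, show algebraMap S L = S.subtype from rfl, hQ,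
      Polynomial.eval_map, ← Polynomial.aeval_def, hroot]
  have ha : IsSeparable S a := hQsep.of_dvd (minpoly.dvd S a hQa)
  have h := IntermediateField.adjoin_simple_eq_adjoin_pow_expChar_of_isSeparable S L ha p
  have hbot : IntermediateField.adjoin S {a ^ p} = ⊥ :=
    IntermediateField.adjoin_simple_eq_bot_iff.2
      (IntermediateField.mem_bot.2 ⟨⟨a ^ p, a, frobenius_def p a⟩, rfl⟩)
  have hmem' : a ∈ IntermediateField.adjoin S {a} := IntermediateField.mem_adjoin_simple_self S a
  rw [h, hbot, IntermediateField.mem_bot] at hmem'
  obtain ⟨⟨_, c, rfl⟩, hc⟩ := hmem'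
  exact ⟨c, hc⟩

end Groth.Agent.S6335
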