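import Groth.Statements.S6336
-- import your own Groth.Agent.* helpers here

set_option autoImplicit false
universe u
open Fields

namespace Groth.Agent.S6336

open IntermediateField Polynomial in
/-- With an added hypothesis: let L/K be a finite extension of degree e generated by a single element a
whose e-th power lies in K, and assume that the polynomial X ^ e - 1 splits into linear factors over
K (so every e-th root of unity of any extension of K already lies in K; this holds when K contains a
primitive e-th root of unity, and when e is a power of the characteristic). Then every intermediate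
field of L/K is generated by a ^ d for some divisor d of e. (The published statement has no
hypothesis on roots of unity; for K the rationals and a a primitive 8-th root of unity, e = 4 and a
^ 4 = -1, the intermediate field generated by a + a⁻¹, a square root of 2, is none of K(a), K(a ^
2), K(a ^ 4); the published proof uses that the e-th roots of unity met are fixed by the
automorphisms it constructs, which the splitting hypothesis guarantees.) -/
theorem result {K L : Type u} [Field K] [Field L] [Algebra K L]
    [FiniteDimensional K L] (a : L) (ha : K⟮a⟯ = ⊤)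
    (hpow : a ^ Module.finrank K L ∈ Set.range (algebraMap K L))
    (hroots : (X ^ Module.finrank K L - 1 : K[X]).Splits) (L' : IntermediateField K L) :
    ∃ d : ℕ, d ∣ Module.finrank K L ∧ L' = K⟮a ^ d⟯ := by
  classical
  set e := Module.finrank K L with he
  have he0 : 0 < e := Module.finrank_pos
  by_cases ha0 : a = 0
  · refine ⟨e, dvd_rfl, ?_⟩
    subst ha0
    have htop : (⊥ : IntermediateField K L) = ⊤ := by simpa using ha
    haveI : Subsingleton (IntermediateField K L) := subsingleton_of_bot_eq_top htop
    exact Subsingleton.elim _ _
  set m := Module.finrank L' L with hm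
  have hmul : Module.finrank K L' * m = e := Module.finrank_mul_finrank K L' L
  have hm0 : 0 < m := Module.finrank_pos
  have htop : L'⟮a⟯ = ⊤ := by
    apply IntermediateField.restrictScalars_injective K
    rw [IntermediateField.restrictScalars_top, eq_top_iff, ← ha, IntermediateField.adjoin_simple_le_iff]
    exact IntermediateField.mem_adjoin_simple_self L' a
  have hint : IsIntegral L' a := Algebra.IsIntegral.isIntegral a
  have hdeg : (minpoly L' a).natDegree = m := by
    rw [← IntermediateField.adjoin.finrank hint, htop, IntermediateField.finrank_top']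
  obtain ⟨c, hc⟩ := hpow
  let Ω := AlgebraicClosure L
  let ι : L →+* Ω := algebraMap L Ω
  let g : Ω[X] := ((minpoly L' a).map (algebraMap L' L)).map ι
  have hgs : g.Splits := IsAlgClosed.splits g
  have hgm : g.Monic := ((minpoly.monic hint).map _).map _
  have hgd : g.natDegree = m := by simp [g, hdeg, Polynomial.natDegree_map]
  have hroot : ∀ r ∈ g.roots, ∃ w : K, w ≠ 0 ∧ r = ι (algebraMap K L w * a) := by
    intro r hr
    have hdvd : minpoly L' a ∣ X ^ e - C (algebraMap K L' c) := by
      apply minpoly.dvd
      simp [← hc, ← IsScalarTower.algebraMap_apply]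
    obtain ⟨q, hq⟩ := hdvd
    have h0 := congrArg (fun p : L'[X] => ((p.map (algebraMap L' L)).map ι).eval r) hq
    have hr0 : g.eval r = 0 := (Polynomial.mem_roots'.1 hr).2
    simp only [Polynomial.map_mul, Polynomial.eval_mul] at h0
    rw [show ((minpoly L' a).map (algebraMap L' L)).map ι = g from rfl, hr0, zero_mul] at h0
    simp [← IsScalarTower.algebraMap_apply, hc, sub_eq_zero] at h0
    have hι : ι a ≠ 0 := (_root_.map_ne_zero ι).2 ha0
    have hz : (r / ι a) ^ e = 1 := by rw [div_pow, h0, div_self (pow_ne_zero _ hι)]
    obtain ⟨w, hw⟩ := hroots.mem_range_of_isRoot (Polynomial.X_pow_sub_C_ne_zero he0 1)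
      (f := X ^ e - 1) (i := ι.comp (algebraMap K L)) (x := r / ι a)
      (by simp [hz])
    refine ⟨w, ?_, ?_⟩
    · rintro rfl
      rw [map_zero] at hw
      rw [← hw, zero_pow he0.ne'] at hz
      exact zero_ne_one hz
    · rw [map_mul, show ι (algebraMap K L w) = r / ι a from hw, div_mul_cancel₀ _ hι]
  have hprod : ∀ s : Multiset Ω, (∀ r ∈ s, ∃ w : K, w ≠ 0 ∧ r = ι (algebraMap K L w * a)) →
      ∃ w : K, w ≠ 0 ∧ s.prod = ι (algebraMap K L w * a ^ Multiset.card s) := by
    intro s
    induction s using Multiset.induction_on with
    | empty => exact fun _ => ⟨1, one_ne_zero, by simp⟩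
    | cons r s ih =>
      intro h
      obtain ⟨w, hw0, hw⟩ := h r (Multiset.mem_cons_self r s)
      obtain ⟨v, hv0, hv⟩ := ih fun x hx => h x (Multiset.mem_cons_of_mem hx)
      refine ⟨w * v, mul_ne_zero hw0 hv0, ?_⟩
      simp only [Multiset.prod_cons, hw, hv, Multiset.card_cons, map_mul, map_pow]
      ring
  obtain ⟨w, hw0, hw⟩ := hprod g.roots hroot
  have hcard : Multiset.card g.roots = m := by rw [← hgs.natDegree_eq_card_roots, hgd]
  have hc0 := hgs.coeff_zero_eq_prod_roots_of_monic hgm
  rw [hgd, hw, hcard] at hc0
  have hc1 : algebraMap L' L ((minpoly L' a).coeff 0) = (-1) ^ m * (algebraMap K L w * a ^ m) := by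
    apply ι.injective
    rw [map_mul ι ((-1) ^ m), map_pow, map_neg, map_one, ← hc0]
    simp [g]
  have ham : a ^ m ∈ L' := by
    have h1 : algebraMap L' L ((minpoly L' a).coeff 0) * (-1) ^ m * algebraMap K L w⁻¹ ∈ L' :=
      mul_mem (mul_mem (SetLike.coe_mem _) (pow_mem (neg_mem (one_mem _)) _)) (L'.algebraMap_mem _)
    have : a ^ m = algebraMap L' L ((minpoly L' a).coeff 0) * (-1) ^ m * algebraMap K L w⁻¹ := by
      rw [hc1, map_inv₀]
      have : algebraMap K L w ≠ 0 := (_root_.map_ne_zero _).2 hw0
      rcases neg_one_pow_eq_or L m with h | h <;> rw [h] <;> field_simp <;> ring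
    rw [this]; exact h1
  refine ⟨m, ⟨_, (mul_comm _ _).trans hmul |>.symm⟩, ?_⟩
  symm
  refine IntermediateField.eq_of_le_of_finrank_le' (IntermediateField.adjoin_simple_le_iff.2 ham) ?_
  set F := K⟮a ^ m⟯ with hF
  have htop' : F⟮a⟯ = ⊤ := by
    apply IntermediateField.restrictScalars_injective K
    rw [IntermediateField.restrictScalars_top, eq_top_iff, ← ha, IntermediateField.adjoin_simple_le_iff]
    exact IntermediateField.mem_adjoin_simple_self F a
  have hintF : IsIntegral F a := Algebra.IsIntegral.isIntegral a
  calc Module.finrank F L = (minpoly F a).natDegree := by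
        rw [← IntermediateField.adjoin.finrank hintF, htop', IntermediateField.finrank_top']
    _ ≤ (X ^ m - C (⟨a ^ m, IntermediateField.mem_adjoin_simple_self K _⟩ : F)).natDegree := by
        apply Polynomial.natDegree_le_of_dvd
        · exact minpoly.dvd _ _ (by simp)
        · exact Polynomial.X_pow_sub_C_ne_zero hm0 _
    _ = m := Polynomial.natDegree_X_pow_sub_C

end Groth.Agent.S6336
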