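import Groth.Statements.S6337
import Groth.Agent.Calg2.ML

set_option autoImplicit false
universe u
open CAlg

namespace Groth.Agent.S6337

/-- A direct sum of modules is Mittag-Leffler if and only if each summand is Mittag-Leffler. -/
theorem result (R : Type u) [CommRing R] {ι : Type u} (M : ι → Type u)
    [∀ i, AddCommGroup (M i)] [∀ i, Module R (M i)] :
    CAlg.IsMittagLeffler R (DirectSum ι M) ↔ ∀ i, CAlg.IsMittagLeffler R (M i) := by
  classical
  constructor
  · intro h i ι' Q _ _
    refine (injective_iff_map_eq_zero _).2 fun x hx => ?_
    have h0 : (DirectSum.lof R ι M i).rTensor (∀ j, Q j) x = 0 := by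
      refine h ι' Q (funext fun j => ?_)
      rw [Groth.Calg2.piRightHom_natural, hx]; simp
    have hid : DirectSum.component R ι M i ∘ₗ DirectSum.lof R ι M i = LinearMap.id := by
      ext m; simp [DirectSum.component.lof_self]
    have := congrArg ((DirectSum.component R ι M i).rTensor (∀ j, Q j)) h0
    rw [← LinearMap.rTensor_comp_apply, hid, map_zero] at this
    simpa using this
  · intro h ι' Q _ _
    refine (injective_iff_map_eq_zero _).2 fun x hx => ?_
    have hc : ∀ i, (DirectSum.component R ι M i).rTensor (∀ j, Q j) x = 0 := fun i => by
      refine h i ι' Q (funext fun j => ?_)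
      rw [Groth.Calg2.piRightHom_natural, hx]; simp
    refine (TensorProduct.directSumLeft R R M (∀ j, Q j)).injective ?_
    rw [map_zero]
    refine DirectSum.ext_component R fun i => ?_
    rw [map_zero, ← hc i]
    clear hx hc
    induction x with
    | zero => simp
    | add a b ha hb => simp only [map_add, ha, hb]
    | tmul m q =>
      induction m using DirectSum.induction_on with
      | zero => simp
      | add a b ha hb => simp only [TensorProduct.add_tmul, map_add, ha, hb]
      | of j m =>
        rw [← DirectSum.lof_eq_of R, TensorProduct.directSumLeft_tmul_lof]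
        by_cases hij : j = i
        · subst hij; simp [DirectSum.component.lof_self]
        · simp [DirectSum.component.of, Ne.symm hij, hij]

end Groth.Agent.S6337
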