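import Groth.Statements.S6339
import Mathlib

set_option autoImplicit false
universe u
open CAlg

namespace Groth.Agent.S6339

open scoped TensorProduct

/-- Let 0 → M₁ → M₂ → M₃ → 0 be a universally exact short exact sequence of modules over a commutative
ring (the first map is universally injective, the second is surjective with kernel the image of the
first). If M₁ and M₃ are Mittag-Leffler then so is M₂. -/
theorem result (R : Type u) [CommRing R] {M₁ M₂ M₃ : Type u}
    [AddCommGroup M₁] [Module R M₁] [AddCommGroup M₂] [Module R M₂] [AddCommGroup M₃] [Module R M₃]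
    (f : M₁ →ₗ[R] M₂) (g : M₂ →ₗ[R] M₃) (hf : CAlgX.UniversallyInjective R f)
    (hg : Function.Surjective g) (hfg : LinearMap.range f = LinearMap.ker g)
    (h₁ : CAlg.IsMittagLeffler R M₁) (h₃ : CAlg.IsMittagLeffler R M₃) :
    CAlg.IsMittagLeffler R M₂ := by
  intro ι Q _ _
  have nat : ∀ {X Y : Type u} [AddCommGroup X] [Module R X] [AddCommGroup Y] [Module R Y] (φ : X →ₗ[R] Y)
      (z : X ⊗[R] (∀ i, Q i)) (i : ι), φ.rTensor (Q i) (TensorProduct.piRightHom R R X Q z i) =
        TensorProduct.piRightHom R R Y Q (φ.rTensor (∀ i, Q i) z) i := by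
    intro X Y _ _ _ _ φ z i
    induction z with
    | zero => simp
    | tmul x q => simp
    | add a b ha hb => simp only [map_add, Pi.add_apply, ha, hb]
  refine (injective_iff_map_eq_zero _).2 fun x hx => ?_
  have hex : Function.Exact f g := LinearMap.exact_iff.2 hfg.symm
  have hgx : g.rTensor (∀ i, Q i) x = 0 := by
    refine h₃ ι Q ?_
    ext i
    rw [← nat g x i, hx]; simp
  obtain ⟨y, rfl⟩ := (rTensor_exact (∀ i, Q i) hex hg x).1 hgx
  have : y = 0 := by
    refine h₁ ι Q ?_
    rw [map_zero]
    ext i
    refine hf (Q i) ?_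
    rw [nat f y i, hx]; simp
  simp [this]

end Groth.Agent.S6339
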