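import Groth.Statements.S6340
import Groth.Agent.Calg2.ML

set_option autoImplicit false
universe u
open CAlg

namespace Groth.Agent.S6340

/-- Let M₁ → M₂ → M₃ → 0 be exact with M₁ finitely generated; if M₂ is Mittag-Leffler then so is M₃.
Equivalently, as stated here: the quotient of a Mittag-Leffler module by a finitely generated
submodule is Mittag-Leffler. -/
theorem result (R : Type u) [CommRing R] {M : Type u} [AddCommGroup M] [Module R M]
    (N : Submodule R M) (hN : N.FG) (hM : CAlg.IsMittagLeffler R M) :
    CAlg.IsMittagLeffler R (M ⧸ N) := by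
  intro ι Q _ _
  refine (injective_iff_map_eq_zero _).2 fun x hx => ?_
  obtain ⟨y, rfl⟩ := LinearMap.rTensor_surjective (∀ i, Q i) N.mkQ_surjective x
  have hex : Function.Exact N.subtype N.mkQ := LinearMap.exact_subtype_mkQ N
  have hy : ∀ i, N.mkQ.rTensor (Q i) (TensorProduct.piRightHom R R M Q y i) = 0 := fun i => by
    rw [← Groth.Calg2.piRightHom_natural, hx, Pi.zero_apply]
  choose w hw using fun i => (rTensor_exact (Q i) hex N.mkQ_surjective _).1 (hy i)
  haveI : Module.Finite R N := Module.Finite.iff_fg.2 hN
  obtain ⟨v, hv⟩ := Groth.Calg2.piRightHom_surjective_of_finite (R := R) (P := N) Q w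
  have : N.subtype.rTensor _ v = y := hM ι Q (funext fun i => by
    rw [Groth.Calg2.piRightHom_natural, hv, hw])
  rw [← this, ← LinearMap.rTensor_comp_apply, hex.linearMap_comp_eq_zero]
  simp

end Groth.Agent.S6340
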