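import Groth.Statements.S6341
import Groth.Agent.Calg2.ML

set_option autoImplicit false
universe u
open CAlg

namespace Groth.Agent.S6341

/-- The colimit of a directed system of Mittag-Leffler modules with universally injective transition
maps is Mittag-Leffler. -/
theorem result (R : Type u) [CommRing R] {ι : Type u}
    [Preorder ι] [IsDirected ι (· ≤ ·)] [DecidableEq ι] (G : ι → Type u) [∀ i, AddCommGroup (G i)]
    [∀ i, Module R (G i)] (f : ∀ i j, i ≤ j → G i →ₗ[R] G j) [DirectedSystem G fun i j h => f i j h]
    (hf : ∀ i j (h : i ≤ j), CAlgX.UniversallyInjective R (f i j h))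
    (hG : ∀ i, CAlg.IsMittagLeffler R (G i)) :
    CAlg.IsMittagLeffler R (Module.DirectLimit G f) := by
  rcases isEmpty_or_nonempty ι with hι | hι
  · haveI : Subsingleton (Module.DirectLimit G f) := inferInstance
    intro _ Q _ _
    exact Function.injective_of_subsingleton _
  intro κ Q _ _
  refine (injective_iff_map_eq_zero _).2 fun x hx => ?_
  obtain ⟨w, hw⟩ : ∃ w, (TensorProduct.directLimitLeft f (∀ k, Q k)).symm w = x :=
    ⟨_, LinearEquiv.symm_apply_apply _ _⟩
  obtain ⟨i, y, rfl⟩ := Module.DirectLimit.exists_of w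
  have hxy : x = (Module.DirectLimit.of R ι G f i).rTensor _ y := by
    rw [← hw]
    clear hw hx
    induction y with
    | zero => simp
    | tmul g q => simp
    | add a b ha hb => simp only [map_add, ha, hb]
  have hy : y = 0 := by
    refine hG i κ Q (funext fun k => ?_)
    rw [map_zero, Pi.zero_apply]
    have h1 := Groth.Calg2.piRightHom_natural (Module.DirectLimit.of R ι G f i) Q y k
    rw [← hxy, hx, Pi.zero_apply] at h1
    obtain ⟨j, hij, hj⟩ := Groth.Calg2.exists_stage_rTensor_eq_zero f (Q k) h1.symm
    exact (injective_iff_map_eq_zero _).1 (hf i j hij (Q k)) _ hj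
  simp [hxy, hy]

end Groth.Agent.S6341
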