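import Groth.Statements.S6345
import Groth.Agent.Calg2.MLRestrict

set_option autoImplicit false
universe u
open CAlg

namespace Groth.Agent.S6345

/-- Let I be a finitely generated ideal of a commutative ring R and M an R/I-module. Then M is
Mittag-Leffler over R if and only if it is Mittag-Leffler over R/I. -/
theorem result (R : Type u) [CommRing R] (I : Ideal R) (hI : I.FG)
    (M : Type u) [AddCommGroup M] [Module (R ⧸ I) M] [Module R M] [IsScalarTower R (R ⧸ I) M] :
    CAlg.IsMittagLeffler R M ↔ CAlg.IsMittagLeffler (R ⧸ I) M := by
  constructor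
  · exact Groth.Calg2.isMittagLeffler_quotient_of_base I M
  · intro h
    haveI : Module.Finite R (R ⧸ I) := Module.Finite.of_surjective (Algebra.linearMap R (R ⧸ I)) Ideal.Quotient.mk_surjective
    haveI : Algebra.FinitePresentation R (R ⧸ I) := Algebra.FinitePresentation.quotient hI
    haveI := Module.FinitePresentation.of_finite_of_finitePresentation R (R ⧸ I)
    exact Groth.Calg2.isMittagLeffler_restrictScalars h fun ι Q _ _ =>
      (TensorProduct.congr (LinearEquiv.refl (R ⧸ I) M)
        (LinearEquiv.ofBijective (TensorProduct.piRightHom R (R ⧸ I) (R ⧸ I) Q)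
          (Groth.Calg2.piRightHom_bijective_of_fp (R := R) (P := R ⧸ I) Q))).injective

end Groth.Agent.S6345
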