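import Groth.Statements.S6349
import Groth.Agent.FlatMorOne.FlatLocusCriterion

set_option autoImplicit false
universe u
open scoped TensorProduct
open CAlg

namespace Groth.Agent.S6349

/-- Let I be an ideal of a commutative ring R and M an R-module such that M/IM is flat over R/I and
Tor_1^R(R/I, M) = 0, i.e. the map I ⊗_R M → M is injective. Then M/IⁿM is flat over R/Iⁿ for every n
≥ 1. (When I is nilpotent this yields flatness of M itself, a standard companion statement.) -/
theorem result (R : Type u) [CommRing R] (I : Ideal R) (M : Type u)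
    [AddCommGroup M] [Module R M] [Module.Flat (R ⧸ I) ((R ⧸ I) ⊗[R] M)]
    (htor : Function.Injective ((Submodule.subtype I).rTensor M)) (n : ℕ) (hn : 1 ≤ n) :
    Module.Flat (R ⧸ I ^ n) ((R ⧸ I ^ n) ⊗[R] M) := by
  refine Groth.FlatMorOne.flat_quotient_of_injective (I ^ n) fun J => ?_
  refine Groth.FlatMorOne.TorZero.lTensor_injective (Q := (R ⧸ I ^ n) ⧸ Submodule.map (I ^ n).mkQ J)
    (Groth.FlatMorOne.torZero_of_pow_smul_eq_zero I htor n _ fun a ha x => ?_)
    Subtype.val_injective (LinearMap.exact_subtype_mkQ _) (Submodule.mkQ_surjective _)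
  obtain ⟨x, rfl⟩ := Submodule.mkQ_surjective _ x
  obtain ⟨x, rfl⟩ := Submodule.mkQ_surjective _ x
  rw [← map_smul, ← map_smul, Submodule.mkQ_apply (I ^ n),
    (Submodule.Quotient.mk_eq_zero _).mpr (show a • x ∈ I ^ n from Ideal.mul_mem_right _ _ ha), map_zero]

end Groth.Agent.S6349
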