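import Groth.Statements.S6350
import Groth.Agent.FlatMorOne.ArtinianFlat
import Mathlib.LinearAlgebra.Basis.Basic

set_option autoImplicit false
universe u
open scoped TensorProduct
open CAlg

namespace Groth.Agent.S6350

/-- Let (R, m) be a local ring with nilpotent maximal ideal and M a flat R-module. A family of elements
of M is a basis of M over R if and only if its image is a basis of the R/m-vector space M/mM = R/m ⊗
M. -/
theorem result (R : Type u) [CommRing R] [IsLocalRing R]
    (hnil : IsNilpotent (IsLocalRing.maximalIdeal R)) (M : Type u) [AddCommGroup M] [Module R M] [Module.Flat R M]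
    {A : Type u} (x : A → M) :
    (LinearIndependent R x ∧ Submodule.span R (Set.range x) = ⊤) ↔
      (LinearIndependent (R ⧸ IsLocalRing.maximalIdeal R)
          (fun a => (1 : R ⧸ IsLocalRing.maximalIdeal R) ⊗ₜ[R] x a) ∧
        Submodule.span (R ⧸ IsLocalRing.maximalIdeal R)
          (Set.range fun a => (1 : R ⧸ IsLocalRing.maximalIdeal R) ⊗ₜ[R] x a) = ⊤) := by
  constructor
  · rintro ⟨h1, h2⟩
    let b := (Module.Basis.mk h1 h2.ge).baseChange (R ⧸ IsLocalRing.maximalIdeal R)
    have hb : (⇑b) = fun a => (1 : R ⧸ IsLocalRing.maximalIdeal R) ⊗ₜ[R] x a := by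
      funext a
      simp [b]
    exact ⟨hb ▸ b.linearIndependent, hb ▸ b.span_eq⟩
  · rintro ⟨h1, h2⟩
    refine ⟨Module.IsLocalRing.linearIndependent_of_flat x h1, ?_⟩
    refine Groth.FlatMorOne.eq_top_of_top_le_sup_smul hnil ?_
    have e : TensorProduct.mk R (R ⧸ IsLocalRing.maximalIdeal R) M 1 '' Set.range x =
        Set.range fun a => (1 : R ⧸ IsLocalRing.maximalIdeal R) ⊗ₜ[R] x a := by
      rw [← Set.range_comp]; rfl
    have h3 : Submodule.map (TensorProduct.mk R (R ⧸ IsLocalRing.maximalIdeal R) M 1)
        (Submodule.span R (Set.range x)) = ⊤ := by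
      rw [Submodule.map_span, e,
        ← Submodule.restrictScalars_span R (R ⧸ IsLocalRing.maximalIdeal R) Ideal.Quotient.mk_surjective, h2]
      rfl
    rw [← LinearMap.ker_tensorProductMk, ← Submodule.comap_map_eq]
    intro y _
    rw [Submodule.mem_comap]
    exact h3.ge Submodule.mem_top

end Groth.Agent.S6350
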