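import Groth.Statements.S6351
import Groth.Agent.FlatMorOne.ArtinianFlat

set_option autoImplicit false
universe u
open scoped TensorProduct
open CAlg

namespace Groth.Agent.S6351

theorem eq_bot_of_le_smul {R F : Type*} [CommRing R] [AddCommGroup F] [Module R F] {I : Ideal R}
    (hI : IsNilpotent I) (K : Submodule R F) (h : Function.Injective (K.subtype.lTensor (R ⧸ I)))
    (hker : K ≤ I • (⊤ : Submodule R F)) : K = ⊥ := by
  have hK : (⊤ : Submodule R K) ≤ ⊥ ⊔ I • ⊤ := by
    rintro ⟨c, hc⟩ -
    rw [bot_sup_eq, ← LinearMap.ker_tensorProductMk, LinearMap.mem_ker]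
    apply h
    rw [map_zero, TensorProduct.mk_apply, LinearMap.lTensor_tmul]
    have := hker hc
    rwa [← LinearMap.ker_tensorProductMk, LinearMap.mem_ker] at this
  have h0 := Groth.FlatMorOne.eq_top_of_top_le_sup_smul hI hK
  refine (Submodule.eq_bot_iff _).2 fun c hc => ?_
  have : (⟨c, hc⟩ : K) ∈ (⊥ : Submodule R K) := h0 ▸ Submodule.mem_top
  exact congrArg Subtype.val ((Submodule.mem_bot R).1 this)

/-- Let I be a nilpotent ideal of a commutative ring R and M an R-module with Tor_1^R(R/I, M) = 0, i.e.
I ⊗_R M → M injective. If a family of elements of M maps to a basis of the R/I-module M/IM = R/I ⊗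
M, then it is a basis of M over R. -/
theorem result (R : Type u) [CommRing R] (I : Ideal R)
    (hI : IsNilpotent I) (M : Type u) [AddCommGroup M] [Module R M]
    (htor : Function.Injective ((Submodule.subtype I).rTensor M)) {A : Type u} (x : A → M)
    (hli : LinearIndependent (R ⧸ I) (fun a => (1 : R ⧸ I) ⊗ₜ[R] x a))
    (hsp : Submodule.span (R ⧸ I) (Set.range fun a => (1 : R ⧸ I) ⊗ₜ[R] x a) = ⊤) :
    LinearIndependent R x ∧ Submodule.span R (Set.range x) = ⊤ := by
  classical
  have hspan : Submodule.span R (Set.range x) = ⊤ := by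
    refine Groth.FlatMorOne.eq_top_of_top_le_sup_smul hI ?_
    have h3 : Submodule.map (TensorProduct.mk R (R ⧸ I) M 1) (Submodule.span R (Set.range x)) = ⊤ := by
      rw [Submodule.map_span, ← Set.range_comp,
        ← Submodule.restrictScalars_span R (R ⧸ I) Ideal.Quotient.mk_surjective]
      exact (congrArg (Submodule.restrictScalars R) hsp).trans (Submodule.restrictScalars_top ..)
    rw [← LinearMap.ker_tensorProductMk, ← Submodule.comap_map_eq]
    intro y _
    rw [Submodule.mem_comap]
    exact h3.ge Submodule.mem_top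
  let π := Finsupp.linearCombination R x
  have hπ : Function.Surjective π := by
    rw [← LinearMap.range_eq_top, Finsupp.range_linearCombination, hspan]
  have hinj : Function.Injective ((LinearMap.ker π).subtype.lTensor (R ⧸ I)) :=
    Groth.FlatMorOne.ker_lTensor_injective_of_flat π hπ (LinearMap.exact_subtype_mkQ I)
      (Submodule.mkQ_surjective I) ((LinearMap.lTensor_inj_iff_rTensor_inj _ _).mpr htor)
  have hker : LinearMap.ker π ≤ I • (⊤ : Submodule R (A →₀ R)) := by
    intro c hc
    rw [← LinearMap.ker_tensorProductMk, LinearMap.mem_ker]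
    have hc' : π.lTensor (R ⧸ I) ((1 : R ⧸ I) ⊗ₜ[R] c) = 0 := by
      rw [LinearMap.lTensor_tmul, LinearMap.mem_ker.1 hc, TensorProduct.tmul_zero]
    have key : ∀ w : (R ⧸ I) ⊗[R] (A →₀ R), π.lTensor (R ⧸ I) w =
        Finsupp.linearCombination (R ⧸ I) (fun a => (1 : R ⧸ I) ⊗ₜ[R] x a)
          (TensorProduct.finsuppScalarRight R (R ⧸ I) (R ⧸ I) A w) := by
      intro w
      induction w using TensorProduct.induction_on with
      | zero => simp
      | tmul t c =>
        induction c using Finsupp.induction_linear with
        | zero => simp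
        | add p q hp hq => simp only [TensorProduct.tmul_add, map_add, hp, hq]
        | single a r => simp [π, TensorProduct.smul_tmul', TensorProduct.finsuppScalarRight_apply_tmul]
      | add p q hp hq => simp only [map_add, hp, hq]
    rw [key] at hc'
    exact (TensorProduct.finsuppScalarRight R (R ⧸ I) (R ⧸ I) A).map_eq_zero_iff.1
      (hli (hc'.trans (map_zero _).symm))
  have h0 := eq_bot_of_le_smul hI _ hinj hker
  refine ⟨?_, hspan⟩
  rw [linearIndependent_iff]
  intro c hc
  exact (Submodule.mem_bot R).1 (h0 ▸ (show c ∈ LinearMap.ker π from hc))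

end Groth.Agent.S6351
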