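import Groth.Statements.S6353
import Groth.Agent.Flatmor4.GenStable

set_option autoImplicit false
universe u
open CAlg

namespace Groth.Agent.S6353

open PrimeSpectrum in
/-- For a commutative ring R, I ↦ V(I) is a bijection between pure ideals (R/I flat over R) and closed
subsets of Spec R stable under generalization. Stated here as: V(I) is stable under generalization
for I pure, and every closed generalization-stable subset is V(I) for some pure I (injectivity on
pure ideals being the standard fact that pure ideals with the same zero locus coincide). -/
theorem result (R : Type u) [CommRing R] :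
    (∀ I : Ideal R, I.Pure → StableUnderGeneralization (zeroLocus (I : Set R))) ∧
      ∀ Z : Set (PrimeSpectrum R), IsClosed Z → StableUnderGeneralization Z →
        ∃ I : Ideal R, I.Pure ∧ zeroLocus (I : Set R) = Z := by
  exact ⟨fun I hI => Groth.Flatmor4.stableUnderGeneralization_zeroLocus I, fun Z hc hg =>
    ⟨Groth.Flatmor4.kerOn Z, Groth.Flatmor4.pure_kerOn hc hg, Groth.Flatmor4.zeroLocus_kerOn hc hg⟩⟩

end Groth.Agent.S6353
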