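import Groth.Statements.S6354
import Mathlib.RingTheory.Ideal.Pure
import Mathlib.RingTheory.Ideal.IdempotentFG
import Mathlib.RingTheory.Spectrum.Prime.Topology

set_option autoImplicit false
universe u
open CAlg

namespace Groth.Agent.S6354

open PrimeSpectrum in
/-- For an ideal I of a commutative ring R these four conditions are equivalent: (1) I is finitely
generated and pure; (2) I = (e) for some idempotent e; (3) I is pure with V(I) open in Spec R; (4)
R/I is projective as an R-module. -/
theorem result (R : Type u) [CommRing R] (I : Ideal R) :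
    List.TFAE [I.Pure ∧ I.FG, ∃ e : R, IsIdempotentElem e ∧ I = Ideal.span {e},
      I.Pure ∧ IsOpen (zeroLocus (I : Set R)), Module.Projective R (R ⧸ I)] := by
  tfae_have 1 → 2 := fun ⟨hp, hfg⟩ => by
    have := hp
    obtain ⟨e, he, h⟩ := (I.isIdempotentElem_iff_of_fg hfg).1 I.isIdempotentElem_of_pure
    exact ⟨e, he, h⟩
  tfae_have 2 → 4 := by
    rintro ⟨e, he, rfl⟩
    let ψ : R ⧸ Ideal.span {e} →ₗ[R] R :=
      (Ideal.span {e}).liftQ (LinearMap.mulLeft R (1 - e)) (fun x hx => by
        obtain ⟨c, rfl⟩ := Ideal.mem_span_singleton'.1 hx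
        rw [LinearMap.mem_ker, LinearMap.mulLeft_apply, mul_comm c, ← mul_assoc, sub_mul, one_mul, he.eq,
          sub_self, zero_mul])
    refine Module.Projective.of_split ψ (Ideal.span {e}).mkQ (LinearMap.ext fun x => ?_)
    obtain ⟨x, rfl⟩ := Submodule.mkQ_surjective _ x
    show Submodule.Quotient.mk ((1 - e) * x) = Submodule.Quotient.mk x
    rw [Submodule.Quotient.eq]
    refine Ideal.mem_span_singleton'.2 ⟨-x, by ring⟩
  tfae_have 4 → 1 := fun h => by
    refine ⟨(inferInstance : Module.Flat R (R ⧸ I)), ?_⟩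
    obtain ⟨σ, hσ⟩ := Module.projective_lifting_property I.mkQ LinearMap.id (Submodule.mkQ_surjective I)
    refine ⟨{1 - σ (Submodule.Quotient.mk 1)}, le_antisymm ?_ fun x hx => ?_⟩
    · rw [Finset.coe_singleton, Submodule.span_le, Set.singleton_subset_iff]
      exact (Submodule.Quotient.eq I).1 (LinearMap.congr_fun hσ _).symm
    · have h0 : σ (Submodule.Quotient.mk x) = 0 := by
        rw [(Submodule.Quotient.mk_eq_zero I).2 hx, map_zero]
      rw [show x = x • (1 : R) by simp, Submodule.Quotient.mk_smul, map_smul] at h0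
      rw [Finset.coe_singleton]
      refine Submodule.mem_span_singleton.2 ⟨x, ?_⟩
      rw [smul_sub, h0, sub_zero]
      simp
  tfae_have 2 → 3 := by
    rintro ⟨e, he, rfl⟩
    refine ⟨Ideal.Pure.of_isIdempotentElem ⟨{e}, by simp⟩ ?_, ?_⟩
    · show Ideal.span {e} * Ideal.span {e} = Ideal.span {e}
      rw [Ideal.span_singleton_mul_span_singleton, he.eq]
    · rw [PrimeSpectrum.zeroLocus_span]
      exact (PrimeSpectrum.isClopen_iff_zeroLocus.2 ⟨e, he, rfl⟩).isOpen
  tfae_have 3 → 2 := fun ⟨hp, ho⟩ => by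
    obtain ⟨e, he, h⟩ := PrimeSpectrum.isClopen_iff_zeroLocus.1 ⟨PrimeSpectrum.isClosed_zeroLocus _, ho⟩
    have := hp
    have : (Ideal.span {e}).Pure := Ideal.Pure.of_isIdempotentElem ⟨{e}, by simp⟩ (by
      show Ideal.span {e} * Ideal.span {e} = Ideal.span {e}
      rw [Ideal.span_singleton_mul_span_singleton, he.eq])
    exact ⟨e, he, Ideal.zeroLocus_inj_of_pure.1 (by rw [h, PrimeSpectrum.zeroLocus_span])⟩
  tfae_finish

end Groth.Agent.S6354
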