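import Groth.Statements.S6357
import Groth.Agent.Calg2.ML

set_option autoImplicit false
universe u
open CAlg

namespace Groth.Agent.S6357

open TensorProduct

variable {R : Type u} [CommRing R] {ι : Type u} [Preorder ι] [IsDirected ι (· ≤ ·)] [Nonempty ι]
  [DecidableEq ι] (G : ι → Type u) [∀ i, AddCommGroup (G i)] [∀ i, Module R (G i)]
  (f : ∀ i j, i ≤ j → G i →ₗ[R] G j)

theorem exists_lift_free (n : ℕ) (g : (Fin n → R) →ₗ[R] Module.DirectLimit G f) :
    ∃ (i : ι) (g' : (Fin n → R) →ₗ[R] G i), Module.DirectLimit.of R ι G f i ∘ₗ g' = g := by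
  classical
  choose c x hx using fun k => Module.DirectLimit.exists_of (g (Pi.single k 1))
  obtain ⟨i, hi⟩ := Finite.exists_le c
  refine ⟨i, Fintype.linearCombination R fun k => f (c k) i (hi k) (x k),
    LinearMap.pi_ext' fun k => LinearMap.ext_ring ?_⟩
  simp [Fintype.linearCombination_apply_single, Module.DirectLimit.of_f, hx]

variable [DirectedSystem G fun i j h => f i j h]

theorem exists_lift (i : ι) [Module.Finite R (G i)] {Q : Type u} [AddCommGroup Q] [Module R Q]
    [Module.FinitePresentation R Q] (a : G i →ₗ[R] Q) (b : Q →ₗ[R] Module.DirectLimit G f)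
    (hab : b ∘ₗ a = Module.DirectLimit.of R ι G f i) :
    ∃ (j : ι) (hij : i ≤ j) (b' : Q →ₗ[R] G j), b' ∘ₗ a = f i j hij := by
  classical
  obtain ⟨n, m, π, rel, hπ, hex⟩ := Module.FinitePresentation.exists_fin' R Q
  obtain ⟨c, g', hg'⟩ := exists_lift_free G f n (b ∘ₗ π)
  obtain ⟨l, p, hp⟩ := Module.Finite.exists_fin' R (G i)
  choose d hd using fun t => hπ (a (p (Pi.single t 1)))
  have h1 : ∀ k, Module.DirectLimit.of R ι G f c (g' (rel (Pi.single k 1))) = 0 := fun k => by
    rw [← LinearMap.comp_apply, hg', LinearMap.comp_apply, hex.apply_apply_eq_zero, map_zero]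
  choose c1 hc1 hc1' using fun k => Module.DirectLimit.of.zero_exact (h1 k)
  obtain ⟨c0, hc0, hi0⟩ := exists_ge_ge c i
  have h2 : ∀ t, Module.DirectLimit.of R ι G f c0
      (f c c0 hc0 (g' (d t)) - f i c0 hi0 (p (Pi.single t 1))) = 0 := fun t => by
    rw [map_sub, Module.DirectLimit.of_f, Module.DirectLimit.of_f, ← LinearMap.comp_apply, hg',
      LinearMap.comp_apply, hd, ← LinearMap.comp_apply, hab, sub_self]
  choose c2 hc2 hc2' using fun t => Module.DirectLimit.of.zero_exact (h2 t)
  obtain ⟨j, hj⟩ := Finite.exists_le (Sum.elim (Sum.elim c1 c2) fun _ : Unit => c0)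
  have hj0 : c0 ≤ j := hj (Sum.inr ())
  have hT : ∀ {u v w : ι} (h : u ≤ v) (h' : v ≤ w) (x : G u), f v w h' (f u v h x) = f u w (h.trans h') x :=
    fun h h' x => DirectedSystem.map_map (f := fun i j h => f i j h) h h' x
  let ψ : (Fin n → R) →ₗ[R] G j := f c j (hc0.trans hj0) ∘ₗ g'
  have hψ : LinearMap.ker π ≤ LinearMap.ker ψ := by
    have h0 : ψ ∘ₗ rel = 0 := by
      refine LinearMap.pi_ext' fun k => LinearMap.ext_ring ?_
      simp only [ψ, LinearMap.comp_apply, LinearMap.coe_single, LinearMap.zero_apply]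
      rw [← hT (hc1 k) (hj (Sum.inl (Sum.inl k))), hc1' k, map_zero]
    rw [hex.linearMap_ker_eq]
    rintro _ ⟨v, rfl⟩
    simpa using LinearMap.congr_fun h0 v
  refine ⟨j, hi0.trans hj0, (LinearMap.ker π).liftQ ψ hψ ∘ₗ (π.quotKerEquivOfSurjective hπ).symm.toLinearMap, ?_⟩
  rw [← LinearMap.cancel_right hp]
  refine LinearMap.pi_ext' fun t => LinearMap.ext_ring ?_
  have : (π.quotKerEquivOfSurjective hπ).symm (π (d t)) = Submodule.Quotient.mk (d t) :=
    (π.quotKerEquivOfSurjective hπ).injective (by simp)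
  simp only [LinearMap.comp_apply, LinearEquiv.coe_coe, LinearMap.coe_single, ← hd, this, Submodule.liftQ_apply, ψ]
  have e := hc2' t
  rw [map_sub, sub_eq_zero, hT, hT] at e
  have e' := congrArg (f (c2 t) j (hj (Sum.inl (Sum.inr t)))) e
  exact ((hT _ _ _).symm.trans e').trans (hT _ _ _)


/-- Given finitely presented R-modules G_i forming a directed system over a nonempty directed index set,
with transition maps f_ij and colimit M, the module M is Mittag-Leffler exactly when every index i
admits some j ≥ i for which f_ij factors through f_ik whenever k ≥ i. -/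
theorem result (R : Type u) [CommRing R] {ι : Type u}
    [Preorder ι] [IsDirected ι (· ≤ ·)] [Nonempty ι] [DecidableEq ι] (G : ι → Type u)
    [∀ i, AddCommGroup (G i)] [∀ i, Module R (G i)] [∀ i, Module.FinitePresentation R (G i)]
    (f : ∀ i j, i ≤ j → G i →ₗ[R] G j) [DirectedSystem G fun i j h => f i j h] :
    CAlg.IsMittagLeffler R (Module.DirectLimit G f) ↔
      ∀ i, ∃ (j : ι) (hij : i ≤ j), ∀ (k : ι) (hik : i ≤ k),
        ∃ h : G k →ₗ[R] G j, f i j hij = h ∘ₗ f i k hik := by
  constructor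
  · intro hM i
    obtain ⟨Q, _, _, _, a, b, hab, ha⟩ :=
      Groth.Calg2.dominated_of_isMittagLeffler hM (Module.DirectLimit.of R ι G f i)
    obtain ⟨j, hij, b', hb'⟩ := exists_lift G f i a b hab
    refine ⟨j, hij, fun k hik => ?_⟩
    have hle : ∀ (N : Type u) [AddCommGroup N] [Module R N],
        LinearMap.ker ((f i k hik).rTensor N) ≤ LinearMap.ker ((f i j hij).rTensor N) := by
      intro N _ _ z hz
      rw [LinearMap.mem_ker] at hz ⊢
      have h1 : (Module.DirectLimit.of R ι G f i).rTensor N z = 0 := by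
        rw [show Module.DirectLimit.of R ι G f i = (Module.DirectLimit.of R ι G f k) ∘ₗ f i k hik from
          LinearMap.ext fun x => Module.DirectLimit.of_f.symm, LinearMap.rTensor_comp_apply, hz, map_zero]
      have h2 : a.rTensor N z = 0 := by
        rw [← LinearMap.mem_ker, ← ha N]; exact h1
      rw [← hb', LinearMap.rTensor_comp_apply, h2, map_zero]
    obtain ⟨φ, hφ⟩ := Groth.Calg2.exists_factor_of_ker_rTensor_le (f i k hik) (f i j hij) hle
    exact ⟨φ, hφ.symm⟩
  · intro h
    refine Groth.Calg2.isMittagLeffler_of_dominated fun n g => ?_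
    obtain ⟨i, g', hg'⟩ := exists_lift_free G f n g
    obtain ⟨j, hij, hj⟩ := h i
    refine ⟨G j, inferInstance, inferInstance, inferInstance, f i j hij ∘ₗ g', fun N _ _ => ?_⟩
    refine le_antisymm (fun z hz => ?_) fun z hz => ?_
    · rw [LinearMap.mem_ker] at hz ⊢
      rw [← hg', LinearMap.rTensor_comp_apply] at hz
      obtain ⟨k, hik, hk⟩ := Groth.Calg2.exists_stage_rTensor_eq_zero f N hz
      obtain ⟨φ, hφ⟩ := hj k hik
      rw [LinearMap.rTensor_comp_apply, hφ, LinearMap.rTensor_comp_apply, hk, map_zero]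
    · rw [LinearMap.mem_ker] at hz ⊢
      rw [← hg', show Module.DirectLimit.of R ι G f i = (Module.DirectLimit.of R ι G f j) ∘ₗ f i j hij from
          LinearMap.ext fun x => Module.DirectLimit.of_f.symm, LinearMap.comp_assoc,
        LinearMap.rTensor_comp_apply, hz, map_zero]

end Groth.Agent.S6357
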