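import Groth.Statements.S6388
import Mathlib
import Groth.Agent.Calg2.ML

set_option autoImplicit false
universe u
open CAlg

namespace Groth.Agent.S6388
open scoped TensorProduct


/-- Let f : M → N and g : M → M' be maps of R-modules and let N' be their pushout, realised as the
quotient of M' × N by the submodule of elements (g x, -f x). Then g dominates f — for every module Q
the kernel of f ⊗ id_Q is contained in the kernel of g ⊗ id_Q — if and only if the canonical map M'
→ N' is universally injective. -/
theorem result (R : Type u) [CommRing R] {M N M' : Type u}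
    [AddCommGroup M] [Module R M] [AddCommGroup N] [Module R N] [AddCommGroup M'] [Module R M']
    (f : M →ₗ[R] N) (g : M →ₗ[R] M') :
    (∀ (Q : Type u) [AddCommGroup Q] [Module R Q], LinearMap.ker (f.rTensor Q) ≤ LinearMap.ker (g.rTensor Q)) ↔
      CAlgX.UniversallyInjective R
        ((LinearMap.range (g.prod (-f))).mkQ ∘ₗ LinearMap.inl R M' N) := by
  let k := g.prod (-f)
  have e : ∀ (Q : Type u) [AddCommGroup Q] [Module R Q] (z : M ⊗[R] Q),
      TensorProduct.prodLeft R R M' N Q (k.rTensor Q z) = (g.rTensor Q z, -f.rTensor Q z) := by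
    intro Q _ _ z
    induction z using TensorProduct.induction_on with
    | zero => simp [Prod.ext_iff]
    | tmul a b => simp [k, TensorProduct.neg_tmul]
    | add u v hu hv => simp only [map_add, hu, hv, Prod.mk_add_mk, neg_add]
  have e' : ∀ (Q : Type u) [AddCommGroup Q] [Module R Q] (y : M' ⊗[R] Q),
      TensorProduct.prodLeft R R M' N Q ((LinearMap.inl R M' N).rTensor Q y) = (y, 0) := by
    intro Q _ _ y
    induction y using TensorProduct.induction_on with
    | zero => simp [Prod.ext_iff]
    | tmul a b => simp
    | add u v hu hv => simp only [map_add, hu, hv, Prod.mk_add_mk, add_zero]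
  constructor
  · intro h Q _ _
    refine (injective_iff_map_eq_zero _).2 fun y hy => ?_
    rw [LinearMap.rTensor_comp_apply] at hy
    obtain ⟨z, hz⟩ := (rTensor_exact Q (LinearMap.exact_map_mkQ_range k) (Submodule.mkQ_surjective _) _).1 hy
    have := congrArg (TensorProduct.prodLeft R R M' N Q) hz
    rw [e, e', Prod.mk.injEq, neg_eq_zero] at this
    rw [← this.1]
    exact LinearMap.mem_ker.1 (h Q (LinearMap.mem_ker.2 this.2))
  · intro h Q _ _ z hz
    rw [LinearMap.mem_ker] at hz ⊢
    refine (injective_iff_map_eq_zero _).1 (h Q) _ ?_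
    rw [LinearMap.rTensor_comp_apply]
    refine (rTensor_exact Q (LinearMap.exact_map_mkQ_range k) (Submodule.mkQ_surjective _) _).2 ⟨z, ?_⟩
    apply (TensorProduct.prodLeft R R M' N Q).injective
    rw [e, e', hz, neg_zero]

end Groth.Agent.S6388
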