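import Groth.Statements.S6359
import Mathlib
import Groth.Agent.Calg2.ML
import Groth.Agent.S6388

set_option autoImplicit false
universe u
open CAlg

namespace Groth.Agent.S6359
open scoped TensorProduct


/-- Let f : M → N and g : M → M' be maps of R-modules such that the cokernel of f is finitely presented.
Then g dominates f (for every module Q the kernel of f ⊗ id_Q is contained in the kernel of g ⊗
id_Q) if and only if g factors through f. -/
theorem result (R : Type u) [CommRing R] {M N M' : Type u}
    [AddCommGroup M] [Module R M] [AddCommGroup N] [Module R N] [AddCommGroup M'] [Module R M']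
    (f : M →ₗ[R] N) (g : M →ₗ[R] M') [Module.FinitePresentation R (N ⧸ LinearMap.range f)] :
    (∀ (Q : Type u) [AddCommGroup Q] [Module R Q], LinearMap.ker (f.rTensor Q) ≤ LinearMap.ker (g.rTensor Q)) ↔
      ∃ h : N →ₗ[R] M', g = h ∘ₗ f := by
  constructor
  · intro h
    let k := g.prod (-f)
    let i := (LinearMap.range k).mkQ ∘ₗ LinearMap.inl R M' N
    let π : ((M' × N) ⧸ LinearMap.range k) →ₗ[R] N ⧸ LinearMap.range f :=
      (LinearMap.range k).liftQ ((LinearMap.range f).mkQ ∘ₗ LinearMap.snd R M' N) (by
        rintro _ ⟨x, rfl⟩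
        simp [k])
    have hi : CAlgX.UniversallyInjective R i := (Groth.Agent.S6388.result R f g).1 h
    have hπ : Function.Surjective π := fun y => by
      obtain ⟨n, rfl⟩ := Submodule.mkQ_surjective _ y
      exact ⟨Submodule.Quotient.mk (0, n), by simp [π]⟩
    have hex : Function.Exact i π := by
      intro y
      obtain ⟨⟨y, n⟩, rfl⟩ := Submodule.mkQ_surjective _ y
      constructor
      · intro hy
        simp [π] at hy
        obtain ⟨x, rfl⟩ := hy
        refine ⟨y + g x, ?_⟩
        simp only [i, LinearMap.comp_apply, Submodule.mkQ_apply, LinearMap.inl_apply, Submodule.Quotient.eq]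
        exact ⟨x, by simp [k]⟩
      · rintro ⟨z, hz⟩
        rw [← hz]
        simp [i, π]
    have hinj : Function.Injective i := by
      intro a b hab
      have := hi R (a₁ := a ⊗ₜ 1) (a₂ := b ⊗ₜ 1) (by simp [hab])
      simpa using congrArg (TensorProduct.rid R M') this
    obtain ⟨s, hs⟩ := Groth.Calg2.exists_section_of_universallyInjective i π hex hπ hi
    let es := hex.splitSurjectiveEquiv hinj ⟨s, hs⟩
    let r : ((M' × N) ⧸ LinearMap.range k) →ₗ[R] M' := LinearMap.fst R M' _ ∘ₗ es.1.toLinearMap
    have hr : r ∘ₗ i = LinearMap.id := by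
      ext y
      have := LinearMap.congr_fun es.2.1 y
      simp only [LinearMap.comp_apply, LinearMap.inl_apply] at this
      simp [r, this]
    refine ⟨r ∘ₗ (LinearMap.range k).mkQ ∘ₗ LinearMap.inr R M' N, ?_⟩
    ext x
    have e1 : i (g x) = (LinearMap.range k).mkQ (0, f x) := by
      simp only [i, LinearMap.comp_apply, Submodule.mkQ_apply, LinearMap.inl_apply, Submodule.Quotient.eq]
      exact ⟨x, by simp [k]⟩
    have := LinearMap.congr_fun hr (g x)
    simp only [LinearMap.comp_apply, LinearMap.id_apply, e1] at this
    simpa using this.symm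
  · rintro ⟨h, rfl⟩ Q _ _ z hz
    rw [LinearMap.mem_ker] at hz ⊢
    rw [LinearMap.rTensor_comp_apply, hz, map_zero]

end Groth.Agent.S6359
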