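import Groth.Statements.S6360
import Mathlib
import Groth.Agent.Calg2.ML

set_option autoImplicit false
universe u
open CAlg

namespace Groth.Agent.S6360
open scoped TensorProduct


/-- For maps of R-modules f : M → N and g : M → M', g dominates f (the kernel of f ⊗ id_Q is contained
in that of g ⊗ id_Q for every module Q) if and only if this containment holds for every finitely
presented module Q. -/
theorem result (R : Type u) [CommRing R] {M N M' : Type u}
    [AddCommGroup M] [Module R M] [AddCommGroup N] [Module R N] [AddCommGroup M'] [Module R M']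
    (f : M →ₗ[R] N) (g : M →ₗ[R] M') :
    (∀ (Q : Type u) [AddCommGroup Q] [Module R Q], LinearMap.ker (f.rTensor Q) ≤ LinearMap.ker (g.rTensor Q)) ↔
      ∀ (Q : Type u) [AddCommGroup Q] [Module R Q], Module.FinitePresentation R Q →
        LinearMap.ker (f.rTensor Q) ≤ LinearMap.ker (g.rTensor Q) := by
  refine ⟨fun h Q _ _ _ => h Q, fun h Q _ _ x hx => ?_⟩
  rw [LinearMap.mem_ker] at hx ⊢
  have hx' : f.lTensor Q (TensorProduct.comm R M Q x) = 0 := by
    rw [Groth.Calg2.comm_rTensor, hx, map_zero]
  obtain ⟨P, _, _, hP, a, x', hax, hx'0⟩ := Groth.Calg2.exists_fp_lift_of_lTensor_eq_zero f _ hx'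
  have h1 : f.rTensor P ((TensorProduct.comm R M P).symm x') = 0 := by
    apply (TensorProduct.comm R N P).injective
    rw [← Groth.Calg2.comm_rTensor, LinearEquiv.apply_symm_apply, hx'0, map_zero]
  have h2 := h P hP h1
  rw [LinearMap.mem_ker] at h2
  have h3 : x = a.lTensor M ((TensorProduct.comm R M P).symm x') := by
    apply (TensorProduct.comm R M Q).injective
    rw [← hax]
    have : ∀ z : M ⊗[R] P, TensorProduct.comm R M Q (a.lTensor M z) = a.rTensor M (TensorProduct.comm R M P z) := by
      intro z
      induction z using TensorProduct.induction_on with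
      | zero => simp
      | tmul => simp
      | add u v hu hv => simp only [map_add, hu, hv]
    rw [this, LinearEquiv.apply_symm_apply]
  rw [h3, ← LinearMap.comp_apply, LinearMap.rTensor_comp_lTensor, ← LinearMap.lTensor_comp_rTensor,
    LinearMap.comp_apply, h2, map_zero]

end Groth.Agent.S6360
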