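import Groth.Statements.S6362
import Mathlib

set_option autoImplicit false
universe u
open scoped TensorProduct
open Fields

namespace Groth.Agent.S6362

/-- Let K/F be a finite separable extension and L/F an extension with L algebraically closed. Then the
L-algebra map K ⊗_F L → ∏_σ L, indexed by the F-algebra maps σ : K → L and sending a ⊗ b to (σ(a)
b)_σ, is an isomorphism; stated as bijectivity of that map. -/
theorem result {F K L : Type u} [Field F] [Field K] [Field L]
    [Algebra F K] [Algebra F L] [FiniteDimensional F K] [Algebra.IsSeparable F K] [IsAlgClosed L] :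
    Function.Bijective (fun x : K ⊗[F] L => fun σ : K →ₐ[F] L =>
      Algebra.TensorProduct.lift σ (AlgHom.id F L) (fun a b => Commute.all (σ a) b) x) := by
  classical
  let ι := Module.Free.ChooseBasisIndex F K
  let b : Module.Basis ι F K := Module.Free.chooseBasis F K
  have hcard : Fintype.card ι = Fintype.card (K →ₐ[F] L) := by
    rw [AlgHom.card F K L, Module.finrank_eq_card_chooseBasisIndex]
  let e := Fintype.equivOfCardEq hcard
  let M : Matrix ι ι L := Matrix.transpose (Algebra.embeddingsMatrixReindex F L b e)
  have hM : IsUnit M := by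
    rw [Matrix.isUnit_iff_isUnit_det, Matrix.det_transpose, ← isUnit_pow_iff two_ne_zero,
      ← Algebra.discr_eq_det_embeddingsMatrixReindex_pow_two]
    exact (Algebra.discr_isUnit_of_basis F b).map _
  let mk : (ι → L) → K ⊗[F] L := fun l => ∑ i, b i ⊗ₜ l i
  have hmk : ∀ (l : ι → L) (j : ι), Algebra.TensorProduct.lift (e j) (AlgHom.id F L)
      (fun a c => Commute.all (e j a) c) (mk l) = (Matrix.mulVec M l) j := fun l j => by
    simp [mk, M, Matrix.mulVec, dotProduct, Algebra.embeddingsMatrixReindex, Algebra.embeddingsMatrix]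
  have hsurj : Function.Surjective mk := fun x => by
    induction x using TensorProduct.induction_on with
    | zero => exact ⟨0, by simp [mk]⟩
    | tmul a c =>
      refine ⟨fun i => b.repr a i • c, ?_⟩
      simp only [mk, ← TensorProduct.smul_tmul, ← TensorProduct.sum_tmul, b.sum_repr]
    | add x y hx hy =>
      obtain ⟨l, rfl⟩ := hx
      obtain ⟨l', rfl⟩ := hy
      exact ⟨l + l', by simp [mk, TensorProduct.tmul_add, Finset.sum_add_distrib]⟩
  refine ⟨fun x y hxy => ?_, fun y => ?_⟩
  · obtain ⟨l, rfl⟩ := hsurj x
    obtain ⟨l', rfl⟩ := hsurj y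
    refine congrArg mk (Matrix.mulVec_injective_iff_isUnit.2 hM ?_)
    funext j
    rw [← hmk, ← hmk]
    exact congrFun hxy (e j)
  · obtain ⟨l, hl⟩ := Matrix.mulVec_surjective_iff_isUnit.2 hM fun j => y (e j)
    refine ⟨mk l, funext fun σ => ?_⟩
    obtain ⟨j, rfl⟩ := e.surjective σ
    exact (hmk l j).trans (congrFun hl j)

end Groth.Agent.S6362
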