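import Groth.Statements.S6363
import Mathlib

set_option autoImplicit false
universe u
open scoped TensorProduct
open Fields

namespace Groth.Agent.S6363

/-- For a finite field extension L/K and a normal closure M of L/K, some K-algebra homomorphism from the
n-fold tensor power L ⊗_K ⋯ ⊗_K L to M is surjective, where n = [L : K]_s is the separable degree
(so n ≤ [L : K]). -/
theorem result {K L M : Type u} [Field K] [Field L] [Field M]
    [Algebra K L] [Algebra K M] [Algebra L M] [IsScalarTower K L M] [FiniteDimensional K L]
    [IsNormalClosure K L M] :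
    ∃ f : (⨂[K] _ : Fin (Field.finSepDegree K L), L) →ₐ[K] M, Function.Surjective f := by
  classical
  have hnc := (Algebra.IsAlgebraic.isNormalClosure_iff (F := K) (K := L) (L := M)).1 inferInstance
  haveI : Normal K M := IsNormalClosure.normal (F := K) (K := L)
  haveI : Finite (L →ₐ[K] M) := inferInstance
  have hcard : Field.finSepDegree K L = Nat.card (L →ₐ[K] M) :=
    Nat.card_congr (Field.embEquivOfAdjoinSplits K L M (IntermediateField.adjoin_univ K L)
      fun s _ => ⟨Algebra.IsIntegral.isIntegral s, hnc.1 s⟩)
  let e : Fin (Field.finSepDegree K L) ≃ (L →ₐ[K] M) := (finCongr hcard).trans (Finite.equivFin _).symm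
  let f : (⨂[K] _ : Fin (Field.finSepDegree K L), L) →ₐ[K] M :=
    PiTensorProduct.liftAlgHom
      ((MultilinearMap.mkPiAlgebra K (Fin (Field.finSepDegree K L)) M).compLinearMap fun i => (e i).toLinearMap)
      (by simp) (fun x y => by simp [Finset.prod_mul_distrib])
  refine ⟨f, fun m => ?_⟩
  have hle : ∀ σ : L →ₐ[K] M, ∀ l, σ l ∈ f.range := fun σ l => by
    obtain ⟨i, rfl⟩ := e.surjective σ
    refine ⟨PiTensorProduct.tprod K (Function.update (1 : Fin (Field.finSepDegree K L) → L) i l), ?_⟩
    show PiTensorProduct.lift _ (PiTensorProduct.tprod K _) = _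
    rw [PiTensorProduct.lift.tprod]
    simp only [MultilinearMap.compLinearMap_apply, MultilinearMap.mkPiAlgebra_apply, AlgHom.toLinearMap_apply]
    rw [Finset.prod_eq_single i]
    · simp
    · intro j _ hj; simp [Function.update_of_ne hj]
    · simp
  haveI : Algebra.IsAlgebraic K M := Normal.toIsAlgebraic
  let S : IntermediateField K M := f.range.toIntermediateField' (Subalgebra.isField_of_algebraic f.range)
  have : (⊤ : IntermediateField K M) ≤ S := by
    rw [← hnc.2, normalClosure_le_iff]
    rintro σ _ ⟨l, rfl⟩
    exact hle σ l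
  exact this (IntermediateField.mem_top : m ∈ _)

end Groth.Agent.S6363
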