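import Groth.Statements.S6364
import Mathlib

set_option autoImplicit false
universe u
open Fields

namespace Groth.Agent.S6364

open IntermediateField in
/-- Let L/K be a finite extension and a ∈ L with minimal polynomial P over K. Then P ^ e, with e = [L :
K(a)], is the characteristic polynomial of multiplication by a (the K-linear map x ↦ a x on L), and
e · deg P = [L : K]. -/
theorem result {K L : Type u} [Field K] [Field L] [Algebra K L] [FiniteDimensional K L]
    (a : L) :
    (Algebra.lmul K L a).charpoly = minpoly K a ^ Module.finrank K⟮a⟯ L ∧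
      Module.finrank K⟮a⟯ L * (minpoly K a).natDegree = Module.finrank K L := by
  classical
  have ha : IsIntegral K a := Algebra.IsIntegral.isIntegral a
  let pb := IntermediateField.adjoin.powerBasis ha
  let c := Module.finBasis K⟮a⟯ L
  have hgen : algebraMap K⟮a⟯ L pb.gen = a := rfl
  refine ⟨?_, ?_⟩
  · rw [← (Algebra.lmul K L a).charpoly_toMatrix (pb.basis.smulTower c)]
    show (Algebra.leftMulMatrix (pb.basis.smulTower c) a).charpoly = _
    have h : Algebra.leftMulMatrix (pb.basis.smulTower c) a =
        Matrix.blockDiagonal fun _ : Fin (Module.finrank K⟮a⟯ L) => Algebra.leftMulMatrix pb.basis pb.gen :=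
      Algebra.smulTower_leftMulMatrix_algebraMap pb.basis c pb.gen
    rw [h]
    have hblock : Matrix.charmatrix (Matrix.blockDiagonal fun _ : Fin (Module.finrank K⟮a⟯ L) =>
        Algebra.leftMulMatrix pb.basis pb.gen) =
        Matrix.blockDiagonal fun _ : Fin (Module.finrank K⟮a⟯ L) =>
          Matrix.charmatrix (Algebra.leftMulMatrix pb.basis pb.gen) := by
      ext ⟨i, k⟩ ⟨j, k'⟩
      rcases eq_or_ne k k' with rfl | hk
      · simp [Matrix.charmatrix_apply, Matrix.blockDiagonal_apply, Matrix.diagonal_apply]
      · simp [Matrix.charmatrix_apply, Matrix.blockDiagonal_apply, Matrix.diagonal_apply, hk]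
    rw [Matrix.charpoly, hblock, Matrix.det_blockDiagonal, Finset.prod_const, Finset.card_univ, Fintype.card_fin,
      ← Matrix.charpoly, charpoly_leftMulMatrix,
      show minpoly K pb.gen = minpoly K a from IntermediateField.minpoly_gen K a]
  · rw [← IntermediateField.adjoin.finrank ha, mul_comm, Module.finrank_mul_finrank]

end Groth.Agent.S6364
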