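import Groth.Statements.S6366
-- import your own Groth.Agent.* helpers here

set_option autoImplicit false
universe u
open CAlg

namespace Groth.Agent.S6366

section Helpers

theorem fg_finitePresentation {R : Type u} [CommRing R]
    (hR : ∀ I : Ideal R, I.FG → Module.FinitePresentation R I) :
    ∀ (n : ℕ) (N : Submodule R (Fin n → R)), N.FG → Module.FinitePresentation R N
  | 0, N, _ => inferInstance
  | n + 1, N, hN => by
    let p : N →ₗ[R] R := LinearMap.proj 0 ∘ₗ N.subtype
    have hfin : Module.Finite R N := Module.Finite.iff_fg.mpr hN
    let I : Ideal R := LinearMap.range p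
    have hI : I.FG := by
      show (LinearMap.range p).FG
      rw [LinearMap.range_eq_map]
      exact hfin.fg_top.map p
    have : Module.FinitePresentation R I := hR I hI
    let p' : N →ₗ[R] I := p.rangeRestrict
    have hp' : Function.Surjective p' := p.surjective_rangeRestrict
    have hker : (LinearMap.ker p').FG := Module.FinitePresentation.fg_ker p' hp'
    let q : LinearMap.ker p' →ₗ[R] (Fin n → R) :=
      (LinearMap.funLeft R R Fin.succ) ∘ₗ N.subtype ∘ₗ (LinearMap.ker p').subtype
    have hq : Function.Injective q := by
      intro x y hxy
      refine Subtype.ext (Subtype.ext (funext fun i => ?_))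
      induction i using Fin.cases with
      | zero =>
        have hx := congrArg Subtype.val (LinearMap.mem_ker.mp x.2)
        have hy := congrArg Subtype.val (LinearMap.mem_ker.mp y.2)
        exact hx.trans hy.symm
      | succ i => exact congrFun hxy i
    have hr : (LinearMap.range q).FG := by
      rw [LinearMap.range_eq_map]
      exact (Module.Finite.iff_fg.mpr hker).fg_top.map q
    have : Module.FinitePresentation R (LinearMap.range q) := fg_finitePresentation hR n _ hr
    let e := (LinearEquiv.ofInjective q hq).symm
    have : Module.FinitePresentation R (LinearMap.ker p') := by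
      have h := Module.FinitePresentation.of_equiv (M := ↥(LinearMap.range q)) (N := ↥(LinearMap.ker p')) e
      exact h
    exact Module.finitePresentation_of_ker p' hp'

end Helpers

/-- Let R be a coherent ring, i.e. every finitely generated ideal of R is finitely presented. Then an
R-module is coherent (finitely generated, and every finitely generated submodule is finitely
presented) if and only if it is finitely presented. -/
theorem result (R : Type u) [CommRing R]
    (hR : ∀ I : Ideal R, I.FG → Module.FinitePresentation R I) (M : Type u) [AddCommGroup M] [Module R M] :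
    (Module.Finite R M ∧ ∀ N : Submodule R M, N.FG → Module.FinitePresentation R N) ↔ Module.FinitePresentation R M := by
  constructor
  · rintro ⟨hfin, h⟩
    have := h ⊤ hfin.fg_top
    exact Module.FinitePresentation.of_equiv Submodule.topEquiv
  · intro hM
    refine ⟨inferInstance, fun N hN => ?_⟩
    obtain ⟨n, π, hπ⟩ := Module.Finite.exists_fin' R M
    have hK := Module.FinitePresentation.fg_ker π hπ
    have hN' : (Submodule.comap π N).FG := by
      refine Submodule.fg_of_fg_map_of_fg_inf_ker π ?_ ?_
      · rwa [Submodule.map_comap_eq, LinearMap.range_eq_top.mpr hπ, top_inf_eq]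
      · rwa [inf_eq_right.mpr (LinearMap.ker_le_comap π)]
    have := fg_finitePresentation hR n _ hN'
    let l : Submodule.comap π N →ₗ[R] N := (π ∘ₗ (Submodule.comap π N).subtype).codRestrict N fun x => x.2
    refine Module.finitePresentation_of_surjective l (fun y => ?_) ?_
    · obtain ⟨x, hx⟩ := hπ y
      exact ⟨⟨x, by rw [Submodule.mem_comap, hx]; exact y.2⟩, Subtype.ext hx⟩
    · rw [LinearMap.ker_codRestrict, LinearMap.ker_comp]
      refine Submodule.fg_of_fg_map_injective (Submodule.comap π N).subtype (Submodule.injective_subtype _) ?_
      rwa [Submodule.map_comap_eq, Submodule.range_subtype, inf_eq_right.mpr (LinearMap.ker_le_comap π)]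

end Groth.Agent.S6366
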