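import Mathlib
import Groth.Statements.S6367

set_option autoImplicit false
universe u
open CAlg

namespace Groth.Agent.S6367

/-- Let 0 → M₁ → M₂ → M₃ → 0 be a short exact sequence of R-modules (f injective, g surjective, image of
f = kernel of g). If M₁ and M₃ are coherent — finitely generated with every finitely generated
submodule finitely presented — then so is M₂. -/
theorem result (R : Type u) [CommRing R] {M₁ M₂ M₃ : Type u}
    [AddCommGroup M₁] [Module R M₁] [AddCommGroup M₂] [Module R M₂] [AddCommGroup M₃] [Module R M₃]
    (f : M₁ →ₗ[R] M₂) (g : M₂ →ₗ[R] M₃) (hf : Function.Injective f) (hg : Function.Surjective g)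
    (hfg : LinearMap.range f = LinearMap.ker g)
    (h₁ : (Module.Finite R M₁ ∧ ∀ N : Submodule R M₁, N.FG → Module.FinitePresentation R N))
    (h₃ : (Module.Finite R M₃ ∧ ∀ N : Submodule R M₃, N.FG → Module.FinitePresentation R N)) :
    (Module.Finite R M₂ ∧ ∀ N : Submodule R M₂, N.FG → Module.FinitePresentation R N) := by
  obtain ⟨hf1, hc1⟩ := h₁
  obtain ⟨hf3, hc3⟩ := h₃
  refine ⟨Module.Finite.of_exact (f := f) (g := g) (LinearMap.exact_iff.mpr hfg.symm) hg, fun N hN => ?_⟩
  have := hc3 _ (hN.map g)
  have hNfin : Module.Finite R N := Module.Finite.iff_fg.mpr hN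
  let q := g.submoduleMap N
  have hq : Function.Surjective q := g.submoduleMap_surjective N
  have hK : (LinearMap.ker q).FG := Module.FinitePresentation.fg_ker q hq
  let L : Submodule R M₂ := (LinearMap.ker q).map N.subtype
  have hL : L ≤ LinearMap.range f := by
    rintro _ ⟨x, hx, rfl⟩
    rw [hfg, LinearMap.mem_ker]
    exact congrArg Subtype.val (LinearMap.mem_ker.mp hx)
  have hL' : (L.comap f).FG := by
    refine Submodule.fg_of_fg_map_injective f hf ?_
    rw [Submodule.map_comap_eq_of_le hL]
    exact hK.map _
  have := hc1 _ hL'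
  have e : (L.comap f) ≃ₗ[R] LinearMap.ker q :=
    (Submodule.equivMapOfInjective f hf _).trans <|
      (LinearEquiv.ofEq _ _ (Submodule.map_comap_eq_of_le hL)).trans
        (Submodule.equivMapOfInjective N.subtype Subtype.val_injective _).symm
  have : Module.FinitePresentation R (LinearMap.ker q) := Module.FinitePresentation.of_equiv e
  exact Module.finitePresentation_of_ker q hq

end Groth.Agent.S6367
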