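import Groth.Statements.S6368
-- import your own Groth.Agent.* helpers here

set_option autoImplicit false
universe u
open scoped TensorProduct
open CAlg

namespace Groth.Agent.S6368

/-- Let R → S be faithfully flat and M an R-module. If the S-module S ⊗_R M is countably generated then
M is countably generated. -/
theorem result (R S : Type u) [CommRing R] [CommRing S] [Algebra R S]
    [Module.FaithfullyFlat R S] (M : Type u) [AddCommGroup M] [Module R M]
    (h : CAlg.IsCountablyGenerated S (S ⊗[R] M)) : CAlg.IsCountablyGenerated R M := by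
  obtain ⟨T, hT, hspan⟩ := h
  have hex : ∀ z : TensorProduct R S M, ∃ F : Finset M,
      z ∈ LinearMap.range ((Submodule.span R (F : Set M)).subtype.lTensor S) := by
    classical
    intro z
    induction z using TensorProduct.induction_on with
    | zero => exact ⟨∅, zero_mem _⟩
    | tmul s m => exact ⟨{m}, s ⊗ₜ ⟨m, Submodule.subset_span (by simp)⟩, rfl⟩
    | add x y hx hy =>
      obtain ⟨F, hF⟩ := hx
      obtain ⟨G, hG⟩ := hy
      refine ⟨F ∪ G, Submodule.add_mem _ ?_ ?_⟩
      · obtain ⟨x', rfl⟩ := hF
        refine ⟨(Submodule.inclusion (Submodule.span_mono (by simp))).lTensor S x', ?_⟩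
        rw [← LinearMap.lTensor_comp_apply, Submodule.subtype_comp_inclusion]
      · obtain ⟨y', rfl⟩ := hG
        refine ⟨(Submodule.inclusion (Submodule.span_mono (by simp))).lTensor S y', ?_⟩
        rw [← LinearMap.lTensor_comp_apply, Submodule.subtype_comp_inclusion]
  choose F hF using hex
  refine ⟨⋃ z ∈ T, (F z : Set M), hT.biUnion fun z _ => (F z).countable_toSet, ?_⟩
  set P := Submodule.span R (⋃ z ∈ T, (F z : Set M))
  have hsurj : Function.Surjective (P.subtype.lTensor S) := by
    intro z
    have hz : z ∈ Submodule.span S T := hspan ▸ trivial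
    induction hz using Submodule.span_induction with
    | mem x hx =>
      obtain ⟨x', hx'⟩ := hF x
      refine ⟨(Submodule.inclusion (Submodule.span_mono ?_)).lTensor S x', ?_⟩
      · exact Set.subset_biUnion_of_mem (u := fun z => (F z : Set M)) hx
      · rw [← LinearMap.lTensor_comp_apply, Submodule.subtype_comp_inclusion]
        exact hx'
    | zero => exact ⟨0, map_zero _⟩
    | add x y _ _ hx hy =>
      obtain ⟨x', rfl⟩ := hx
      obtain ⟨y', rfl⟩ := hy
      exact ⟨x' + y', map_add _ _ _⟩
    | smul a x _ hx =>
      obtain ⟨x', rfl⟩ := hx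
      exact ⟨a • x', (P.subtype.baseChange S).map_smul a x'⟩
  have h := (Module.FaithfullyFlat.lTensor_surjective_iff_surjective R S P.subtype).mp hsurj
  exact eq_top_iff.mpr fun m _ => by
    obtain ⟨⟨m, hm⟩, rfl⟩ := h m
    exact hm

end Groth.Agent.S6368
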