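import Mathlib
import Groth.Statements.S6369

set_option autoImplicit false
universe u
open CAlg

namespace Groth.Agent.S6369

/-- (1) ⇒ (3): let R be a domain such that every nonzero ideal is a product of nonzero prime ideals,
uniquely up to permutation of the factors. Then R is Noetherian, integrally closed and of dimension
at most one, i.e. a Dedekind domain in the Noetherian sense. (The converse and the description by
discrete valuation rings at maximal ideals are the standard equivalences.) -/
theorem result (R : Type u) [CommRing R] [IsDomain R]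
    (h : ∀ I : Ideal R, I ≠ ⊥ → ∃! s : Multiset (Ideal R), (∀ p ∈ s, p.IsPrime ∧ p ≠ ⊥) ∧ s.prod = I) :
    IsDedekindDomain R := by
  classical
  have hprod : ∀ s : Multiset (Ideal R), (∀ p ∈ s, p.IsPrime ∧ p ≠ ⊥) → s.prod ≠ ⊥ := by
    intro s hs h0
    exact (hs ⊥ (Multiset.prod_eq_zero_iff.mp h0)).2 rfl
  have cancel : ∀ A B C : Ideal R, A ≠ ⊥ → A * B = A * C → B = C := by
    intro A B C hA he
    by_cases hB : B = ⊥
    · subst hB
      rw [Ideal.mul_bot] at he
      rcases Ideal.mul_eq_bot.mp he.symm with h' | h'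
      · exact absurd h' hA
      · exact h'.symm
    by_cases hC : C = ⊥
    · subst hC
      rw [Ideal.mul_bot] at he
      rcases Ideal.mul_eq_bot.mp he with h' | h'
      · exact absurd h' hA
      · exact h'
    obtain ⟨sa, ⟨ha1, ha2⟩, -⟩ := h A hA
    obtain ⟨sb, ⟨hb1, hb2⟩, -⟩ := h B hB
    obtain ⟨sc, ⟨hc1, hc2⟩, -⟩ := h C hC
    obtain ⟨s, hs, huniq⟩ := h (A * B) (by rw [Ne, Ideal.mul_eq_bot]; tauto)
    have e1 := huniq (sa + sb) ⟨fun p hp => (Multiset.mem_add.mp hp).elim (ha1 p) (hb1 p), by rw [Multiset.prod_add, ha2, hb2]⟩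
    have e2 := huniq (sa + sc) ⟨fun p hp => (Multiset.mem_add.mp hp).elim (ha1 p) (hc1 p), by rw [Multiset.prod_add, ha2, hc2, he]⟩
    rw [← hb2, ← hc2, add_left_cancel (e1.trans e2.symm)]
  have maxim : ∀ Q : Ideal R, Q.IsPrime → Q ≠ ⊥ → Q.IsMaximal := by
    intro Q hQ hQ0
    rw [Ideal.isMaximal_iff]
    refine ⟨fun h1 => hQ.ne_top ((Ideal.eq_top_iff_one _).mpr h1), fun J a hQJ haQ haJ => ?_⟩
    set A : Ideal R := Ideal.span {a}
    have e1 : (Q + A) * (Q * Q + A * A) = (Q + A) * ((Q + A) * (Q + A)) := by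
      have e : (Q + A) * ((Q + A) * (Q + A)) =
          Q * Q * Q + A * A * A + ((Q * Q * A + Q * Q * A) + Q * Q * A) + ((Q * A * A + Q * A * A) + Q * A * A) := by ring
      rw [e]
      simp only [Submodule.add_eq_sup, sup_idem]
      simp only [← Submodule.add_eq_sup]
      ring
    have hne : Q + A ≠ ⊥ := by simp [Submodule.add_eq_sup, hQ0]
    have e2 := cancel _ _ _ hne e1
    have hA2 : A * A = Ideal.span {a ^ 2} := by simp [A, Ideal.span_singleton_mul_span_singleton, sq]
    have e3 : Q * A ≤ Q * (Q + Ideal.span {a ^ 2}) := by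
      intro z hz
      have hz' : z ∈ Q * Q + A * A := by
        rw [e2, Submodule.add_eq_sup]
        exact Ideal.mul_mono le_sup_left le_sup_right hz
      rw [hA2, Submodule.add_eq_sup] at hz'
      obtain ⟨y, hy, w, hw, rfl⟩ := Submodule.mem_sup.mp hz'
      obtain ⟨r, rfl⟩ := Ideal.mem_span_singleton'.mp hw
      have h1 : r * a ^ 2 ∈ Q := by
        have hz1 : y + r * a ^ 2 ∈ Q := (Ideal.mul_le_left : Q * A ≤ Q) hz
        have hy1 : y ∈ Q := (Ideal.mul_le_right : Q * Q ≤ Q) hy
        have := Q.sub_mem hz1 hy1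
        simpa using this
      have h2 : r ∈ Q := (hQ.mem_or_mem h1).resolve_right fun hh => haQ (hQ.mem_of_pow_mem 2 hh)
      rw [mul_add, Submodule.add_eq_sup]
      exact Submodule.add_mem_sup hy (Ideal.mul_mem_mul h2 (Ideal.mem_span_singleton_self _))
    have e4 : A ≤ Q + Ideal.span {a ^ 2} := by
      have := cancel Q (A + (Q + Ideal.span {a ^ 2})) (Q + Ideal.span {a ^ 2}) hQ0 (by
        rw [mul_add, Submodule.add_eq_sup, sup_eq_right]; exact e3)
      exact this ▸ le_sup_left
    have hmem := e4 (Ideal.mem_span_singleton_self a)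
    rw [Submodule.add_eq_sup] at hmem
    obtain ⟨q, hq, w, hw, hqw⟩ := Submodule.mem_sup.mp hmem
    obtain ⟨r, rfl⟩ := Ideal.mem_span_singleton'.mp hw
    have h1 : a * (1 - r * a) ∈ Q := by
      have : a * (1 - r * a) = q := by linear_combination -hqw
      rwa [this]
    have h2 := (hQ.mem_or_mem h1).resolve_left haQ
    have := J.add_mem (hQJ h2) (J.mul_mem_left r haJ)
    simpa using this
  let K := FractionRing R
  have unitPrime : ∀ P : Ideal R, P.IsPrime → P ≠ ⊥ → IsUnit (P : FractionalIdeal (nonZeroDivisors R) K) := by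
    intro P hP hP0
    obtain ⟨a, haP, ha0⟩ := Submodule.exists_mem_ne_zero_of_ne_bot hP0
    obtain ⟨s, ⟨hs1, hs2⟩, -⟩ := h (Ideal.span {a}) (by simp [ha0])
    have : s.prod ≤ P := by rw [hs2, Ideal.span_singleton_le_iff_mem]; exact haP
    obtain ⟨q, hq, hqP⟩ := (hP.multiset_prod_le).mp this
    have : q = P := ((maxim q (hs1 q hq).1 (hs1 q hq).2).eq_of_le hP.ne_top hqP)
    subst this
    obtain ⟨t, rfl⟩ := Multiset.exists_cons_of_mem hq
    have hu : IsUnit ((Ideal.span {a} : Ideal R) : FractionalIdeal (nonZeroDivisors R) K) := by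
      rw [FractionalIdeal.coeIdeal_span_singleton]
      exact IsUnit.of_mul_eq_one (a := (FractionalIdeal.spanSingleton _ (algebraMap R K a))) (FractionalIdeal.spanSingleton _ (algebraMap R K a)⁻¹) (by
        rw [FractionalIdeal.spanSingleton_mul_spanSingleton,
          mul_inv_cancel₀ ((map_ne_zero_iff _ (IsFractionRing.injective R K)).mpr ha0),
          FractionalIdeal.spanSingleton_one])
    rw [← hs2, Multiset.prod_cons, FractionalIdeal.coeIdeal_mul] at hu
    exact (IsUnit.mul_iff.mp hu).1
  rw [isDedekindDomain_iff_mul_inv_cancel (K := K)]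
  intro I hI
  obtain ⟨a, J, ha, rfl⟩ := FractionalIdeal.exists_eq_spanSingleton_mul I
  rw [FractionalIdeal.mul_inv_cancel_iff_isUnit]
  refine IsUnit.mul ?_ ?_
  · exact IsUnit.of_mul_eq_one (a := (FractionalIdeal.spanSingleton _ (algebraMap R K a)⁻¹)) (FractionalIdeal.spanSingleton _ (algebraMap R K a)) (by
        rw [FractionalIdeal.spanSingleton_mul_spanSingleton,
          inv_mul_cancel₀ ((map_ne_zero_iff _ (IsFractionRing.injective R K)).mpr ha),
          FractionalIdeal.spanSingleton_one])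
  · have hJ : J ≠ ⊥ := by
      rintro rfl
      simp at hI
    obtain ⟨s, ⟨hs1, hs2⟩, -⟩ := h J hJ
    subst hs2
    clear hI hJ
    induction s using Multiset.induction_on with
    | empty => simp
    | cons p s ih =>
      rw [Multiset.prod_cons, FractionalIdeal.coeIdeal_mul]
      exact (unitPrime p (hs1 p (by simp)).1 (hs1 p (by simp)).2).mul (ih fun q hq => hs1 q (by simp [hq]))

end Groth.Agent.S6369
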