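import Groth.Statements.S6370
import Mathlib
import Groth.Agent.S0556
import Groth.Agent.Calg4.KrullAkizuki

set_option autoImplicit false
universe u
open CAlg

namespace Groth.Agent.S6370

/-- For a one-dimensional Noetherian domain A with fraction field K, a finite field extension L of K
(separable or not) and B the integral closure of A in L: B is a Dedekind domain, Spec B → Spec A is
surjective and has finite fibres, and at every maximal ideal Q of B the residue field B/Q is finite
over A/(Q ∩ A). -/
theorem result (A K L B : Type u) [CommRing A] [IsDomain A]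
    [IsNoetherianRing A] (hdim : ringKrullDim A = 1) [Field K] [Algebra A K] [IsFractionRing A K]
    [Field L] [Algebra K L] [FiniteDimensional K L] [Algebra A L] [IsScalarTower A K L]
    [CommRing B] [IsDomain B] [Algebra A B] [Algebra B L] [IsScalarTower A B L] [IsIntegralClosure B A L] :
    IsDedekindDomain B ∧ Function.Surjective (PrimeSpectrum.comap (algebraMap A B)) ∧
      (∀ p : PrimeSpectrum A, (PrimeSpectrum.comap (algebraMap A B) ⁻¹' {p}).Finite) ∧
      ∀ Q : Ideal B, Q.IsMaximal → Module.Finite (A ⧸ Q.comap (algebraMap A B)) (B ⧸ Q) := by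
  classical
  have hinj : Function.Injective (algebraMap A L) := by
    rw [IsScalarTower.algebraMap_eq A K L]
    exact (algebraMap K L).injective.comp (IsFractionRing.injective A K)
  have hAB : Function.Injective (algebraMap A B) := by
    intro a b h
    apply hinj
    rw [IsScalarTower.algebraMap_apply A B L, h, ← IsScalarTower.algebraMap_apply]
  have hBL : Function.Injective (algebraMap B L) := IsIntegralClosure.algebraMap_injective B A L
  haveI : Algebra.IsIntegral A B := IsIntegralClosure.isIntegral_algebra A L
  haveI : FaithfulSMul A B := (faithfulSMul_iff_algebraMap_injective A B).mpr hAB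
  haveI : IsFractionRing B L := IsIntegralClosure.isFractionRing_of_finite_extension A K L B
  haveI : Ring.KrullDimLE 1 A := Ring.krullDimLE_iff.mpr (by simp [hdim])
  have hN : IsNoetherianRing B := Groth.Agent.S0556.result A hdim K L B hBL
  have hnf : ¬ IsField A := fun h => by
    rw [ringKrullDim_eq_zero_of_isField h] at hdim
    exact zero_ne_one hdim
  have hmax : ∀ P : Ideal A, P.IsPrime → P ≠ ⊥ → P.IsMaximal := fun P hP hP0 =>
    Ring.krullDimLE_one_iff_of_isPrime_bot.mp inferInstance P hP0 hP
  have hcomap : ∀ Q : Ideal B, Q.IsPrime → Q ≠ ⊥ → Q.comap (algebraMap A B) ≠ ⊥ := fun Q hQ hQ0 h =>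
    hQ0 (Ideal.eq_bot_of_comap_eq_bot (R := A) h)
  let j : B →ₗ[A] (Fin (Module.finrank K L) → K) :=
    ((Module.finBasis K L).equivFun.toLinearMap.restrictScalars A).comp
      (IsScalarTower.toAlgHom A B L).toLinearMap
  have hj : Function.Injective j := (Module.finBasis K L).equivFun.injective.comp hBL
  have hlen : ∀ x : A, x ≠ 0 → Module.length A (B ⧸ Ideal.span {algebraMap A B x}) ≠ ⊤ := by
    intro x hx
    have hI : (Ideal.span {algebraMap A B x}).restrictScalars A =
        Ideal.span {x} • (⊤ : Submodule A B) := by
      rw [Ideal.smul_top_eq_map, Ideal.map_span, Set.image_singleton]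
    rw [← (Submodule.Quotient.restrictScalarsEquiv A _).length_eq,
      (Submodule.quotEquivOfEq _ _ (hI.trans (Submodule.ideal_span_singleton_smul x _))).length_eq]
    exact ne_top_of_le_ne_top
      (WithTop.mul_ne_top (ENat.natCast_ne_top _) (Ring.ord_ne_top (mem_nonZeroDivisors_of_ne_zero hx)))
      (Groth.Calg4.length_quotient_le_mul K _ j hj hx)
  refine ⟨?_, ?_, ?_, ?_⟩
  · haveI : Ring.DimensionLEOne B := ⟨fun {Q} hQ0 hQ => by
      haveI := hQ
      exact Ideal.isMaximal_of_isIntegral_of_isMaximal_comap (R := A) Q
        (hmax _ (Ideal.IsPrime.comap _) (hcomap Q hQ hQ0))⟩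
    haveI : IsIntegrallyClosed B := (isIntegrallyClosed_iff L).mpr fun {x} hx => by
      have hxA : IsIntegral A x := isIntegral_trans (A := B) x hx
      exact ⟨IsIntegralClosure.mk' B x hxA, IsIntegralClosure.algebraMap_mk' B x hxA⟩
    exact { }
  · exact fun p => (Ideal.exists_ideal_over_prime_of_isIntegral p.asIdeal (⊥ : Ideal B) (by rw [← RingHom.ker_eq_comap_bot, (RingHom.injective_iff_ker_eq_bot _).mp hAB]; exact bot_le)).elim
      fun Q hQ => ⟨⟨Q, hQ.2.1⟩, PrimeSpectrum.ext hQ.2.2⟩
  · intro p
    by_cases hp : p.asIdeal = ⊥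
    · refine Set.Subsingleton.finite fun Q hQ Q' hQ' => ?_
      have key : ∀ R : PrimeSpectrum B, PrimeSpectrum.comap (algebraMap A B) R = p → R.asIdeal = ⊥ := by
        intro R hR
        by_contra h
        apply hcomap R.asIdeal R.2 h
        rw [← PrimeSpectrum.comap_asIdeal, hR, hp]
      exact PrimeSpectrum.ext ((key Q hQ).trans (key Q' hQ').symm)
    · obtain ⟨x, hxp, hx0⟩ := Submodule.exists_mem_ne_zero_of_ne_bot hp
      set I : Ideal B := Ideal.span {algebraMap A B x}
      have ha : IsArtinian A (B ⧸ I) :=
        (isFiniteLength_iff_isNoetherian_isArtinian.mp (Module.length_ne_top_iff.mp (hlen x hx0))).2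
      haveI : IsArtinianRing (B ⧸ I) := isArtinian_of_tower A ha
      refine ((Set.finite_univ (α := PrimeSpectrum (B ⧸ I))).image
        (PrimeSpectrum.comap (Ideal.Quotient.mk I))).subset fun Q hQ => ?_
      have hxQ : I ≤ Q.asIdeal := by
        rw [Ideal.span_singleton_le_iff_mem]
        have : x ∈ (PrimeSpectrum.comap (algebraMap A B) Q).asIdeal := by rw [hQ]; exact hxp
        exact this
      rw [Set.image_univ, range_comap_of_surjective _ _ Ideal.Quotient.mk_surjective,
        Ideal.mk_ker, PrimeSpectrum.mem_zeroLocus]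
      exact hxQ
  · intro Q hQ
    haveI := hQ.isPrime
    have hQ0 : Q ≠ ⊥ := by
      intro h
      subst h
      apply hnf
      have hB : IsField B := MulEquiv.isField (Ideal.Quotient.maximal_ideal_iff_isField_quotient ⊥ |>.mp hQ)
        (RingEquiv.quotientBot B).toMulEquiv.symm
      exact isField_of_isIntegral_of_isField hAB hB
    obtain ⟨x, hxp, hx0⟩ := Submodule.exists_mem_ne_zero_of_ne_bot (hcomap Q hQ.isPrime hQ0)
    set I : Ideal B := Ideal.span {algebraMap A B x}
    have hle : I ≤ Q := (Ideal.span_singleton_le_iff_mem _).mpr hxp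
    have hn : IsNoetherian A (B ⧸ I) :=
      (isFiniteLength_iff_isNoetherian_isArtinian.mp (Module.length_ne_top_iff.mp (hlen x hx0))).1
    haveI : Module.Finite A (B ⧸ Q) := by
      haveI : Module.Finite A (B ⧸ I) := Module.IsNoetherian.finite A _
      exact Module.Finite.of_surjective (Ideal.Quotient.factorₐ A hle).toLinearMap
        (Ideal.Quotient.factor_surjective hle)
    exact Module.Finite.of_restrictScalars_finite A _ _

end Groth.Agent.S6370
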