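import Groth.Statements.S6371
-- import your own Groth.Agent.* helpers here

set_option autoImplicit false
universe u
open CAlg

namespace Groth.Agent.S6371

open scoped TensorProduct

/-- A ring map R → S is an epimorphism of rings if and only if for every prime p of R the localized map
R_p → S_p is an epimorphism, where S_p is S localized at the image of R ∖ p. -/
theorem result (R S : Type u) [CommRing R] [CommRing S] [Algebra R S] :
    Algebra.IsEpi R S ↔ ∀ (p : Ideal R) [p.IsPrime],
      Algebra.IsEpi (Localization.AtPrime p) (Localization (Algebra.algebraMapSubmonoid S p.primeCompl)) := by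
  constructor
  · intro hepi p hp
    let M := p.primeCompl
    let Rp := Localization.AtPrime p
    let Sp := Localization (Algebra.algebraMapSubmonoid S M)
    refine (Algebra.isEpi_iff_forall_one_tmul_eq Rp Sp).mpr fun y => ?_
    let φ : TensorProduct R S S →ₐ[R] TensorProduct Rp Sp Sp :=
      Algebra.TensorProduct.lift
        ((Algebra.TensorProduct.includeLeft (R := Rp) (S := Rp) (A := Sp) (B := Sp)).restrictScalars R
          |>.comp (IsScalarTower.toAlgHom R S Sp))
        ((Algebra.TensorProduct.includeRight (R := Rp) (A := Sp) (B := Sp)).restrictScalars R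
          |>.comp (IsScalarTower.toAlgHom R S Sp))
        fun _ _ => Commute.all _ _
    obtain ⟨s, ⟨_, t, ht, rfl⟩, rfl⟩ := IsLocalization.exists_mk'_eq (Algebra.algebraMapSubmonoid S M) y
    have h1 := congrArg φ ((Algebra.isEpi_iff_forall_one_tmul_eq R S).mp hepi s)
    simp only [φ, Algebra.TensorProduct.lift_tmul, map_one, one_mul, mul_one, AlgHom.comp_apply,
      AlgHom.restrictScalars_apply, Algebra.TensorProduct.includeLeft_apply,
      Algebra.TensorProduct.includeRight_apply, IsScalarTower.toAlgHom_apply] at h1
    have hu : IsUnit (algebraMap R Rp t) := IsLocalization.map_units Rp ⟨t, ht⟩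
    have key : algebraMap R Rp t • IsLocalization.mk' Sp s
        (⟨algebraMap R S t, t, ht, rfl⟩ : Algebra.algebraMapSubmonoid S M) = algebraMap S Sp s := by
      rw [algebraMap_smul, Algebra.smul_def, IsScalarTower.algebraMap_apply R S Sp]
      exact IsLocalization.mk'_spec' Sp s _
    refine hu.smul_left_cancel.mp ?_
    rw [← TensorProduct.tmul_smul, TensorProduct.smul_tmul', key]
    exact h1
  · intro h
    refine (Algebra.isEpi_iff_forall_one_tmul_eq R S).mpr fun a => ?_
    let N := TensorProduct R S S
    let z : N := (1 : S) ⊗ₜ[R] a - a ⊗ₜ[R] (1 : S)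
    suffices hz : z = 0 from sub_eq_zero.mp hz
    have htop : LinearMap.ker (LinearMap.toSpanSingleton R N z) = ⊤ := by
      by_contra hne
      obtain ⟨p, hp, hle⟩ := Ideal.exists_le_maximal _ hne
      let M := p.primeCompl
      let Rp := Localization.AtPrime p
      let Sp := Localization (Algebra.algebraMapSubmonoid S M)
      let Np := Localization (Algebra.algebraMapSubmonoid N M)
      have hmap : ∀ g : S →ₐ[R] N, ∀ y : Algebra.algebraMapSubmonoid S M,
          IsUnit (((IsScalarTower.toAlgHom R N Np).comp g) (y : S)) := by
        rintro g ⟨_, t, ht, rfl⟩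
        simp only [AlgHom.commutes, IsScalarTower.algebraMap_apply R N Np]
        exact IsLocalization.map_units Np (⟨algebraMap R N t, t, ht, rfl⟩ : Algebra.algebraMapSubmonoid N M)
      let mkHom : (S →ₐ[R] N) → (Sp →ₐ[Rp] Np) := fun g =>
        (IsLocalization.liftAlgHom (S := Sp) (hmap g)).extendScalarsOfIsLocalization Rp M
      have hmk : ∀ g s, mkHom g (algebraMap S Sp s) = algebraMap N Np (g s) := fun g s =>
        (IsLocalization.lift_eq (hmap g) s).trans rfl
      let ψ := Algebra.TensorProduct.lift (mkHom Algebra.TensorProduct.includeLeft)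
        (mkHom Algebra.TensorProduct.includeRight) fun _ _ => Commute.all _ _
      have h1 := congrArg ψ ((Algebra.isEpi_iff_forall_one_tmul_eq Rp Sp).mp (h p) (algebraMap S Sp a))
      simp only [ψ, Algebra.TensorProduct.lift_tmul, map_one, one_mul, mul_one, hmk,
        Algebra.TensorProduct.includeLeft_apply, Algebra.TensorProduct.includeRight_apply] at h1
      have h2 : algebraMap N Np z = 0 := by rw [map_sub, sub_eq_zero]; exact h1
      obtain ⟨⟨_, t, ht, rfl⟩, h3⟩ := (IsLocalization.map_eq_zero_iff (Algebra.algebraMapSubmonoid N M) Np z).mp h2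
      refine ht (hle ?_)
      rw [LinearMap.mem_ker, LinearMap.toSpanSingleton_apply, Algebra.smul_def]
      exact h3
    have := LinearMap.mem_ker.mp (htop.symm ▸ Submodule.mem_top (x := (1 : R)))
    simpa using this

end Groth.Agent.S6371
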