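import Groth.Statements.S6374
import Groth.Agent.S6373
-- import your own Groth.Agent.* helpers here

set_option autoImplicit false
universe u
open CAlg

namespace Groth.Agent.S6374

/-- For an epimorphism of rings R → S, the induced map Spec S → Spec R is injective and induces trivial
residue field extensions; stated in the form the proof gives: for every prime p of R the fibre ring
S ⊗_R κ(p) is either zero or κ(p) → S ⊗_R κ(p) is bijective, together with injectivity of Spec S →
Spec R. -/
theorem result (R S : Type u) [CommRing R] [CommRing S] [Algebra R S]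
    [Algebra.IsEpi R S] :
    Function.Injective (PrimeSpectrum.comap (algebraMap R S)) ∧
      ∀ (p : Ideal R) [p.IsPrime],
        Subsingleton (p.Fiber S) ∨ Function.Bijective (algebraMap p.ResidueField (p.Fiber S)) := by
  have hfib : ∀ (p : Ideal R) [p.IsPrime],
      Subsingleton (p.Fiber S) ∨ Function.Bijective (algebraMap p.ResidueField (p.Fiber S)) := by
    intro p _
    have : Algebra.IsEpi p.ResidueField (p.Fiber S) := by
      refine (Algebra.isEpi_iff_forall_one_tmul_eq _ _).mpr fun y => ?_
      let φ : TensorProduct R S S →ₐ[R] TensorProduct p.ResidueField (p.Fiber S) (p.Fiber S) :=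
        Algebra.TensorProduct.lift
          (((Algebra.TensorProduct.includeLeft (R := p.ResidueField) (S := p.ResidueField) (A := (p.Fiber S)) (B := (p.Fiber S))).restrictScalars R).comp
            Algebra.TensorProduct.includeRight)
          (((Algebra.TensorProduct.includeRight (R := p.ResidueField) (A := (p.Fiber S)) (B := (p.Fiber S))).restrictScalars R).comp
            Algebra.TensorProduct.includeRight)
          fun _ _ => @Commute.all (TensorProduct p.ResidueField (p.Fiber S) (p.Fiber S)) _ _ _
      induction y using TensorProduct.induction_on with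
      | zero => simp
      | tmul c s =>
        have h := congrArg φ ((Algebra.isEpi_iff_forall_one_tmul_eq R S).mp inferInstance s)
        simp only [φ, Algebra.TensorProduct.lift_tmul, map_one, one_mul, mul_one, AlgHom.comp_apply,
          AlgHom.restrictScalars_apply, Algebra.TensorProduct.includeLeft_apply] at h
        change (1 : (p.Fiber S)) ⊗ₜ[p.ResidueField] ((1 : p.ResidueField) ⊗ₜ[R] s : (p.Fiber S)) = ((1 : p.ResidueField) ⊗ₜ[R] s : (p.Fiber S)) ⊗ₜ[p.ResidueField] (1 : (p.Fiber S)) at h
        rw [show (c ⊗ₜ[R] s : (p.Fiber S)) = c • ((1 : p.ResidueField) ⊗ₜ[R] s) by rw [TensorProduct.smul_tmul', smul_eq_mul, mul_one],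
          TensorProduct.tmul_smul]
        exact (congrArg (c • ·) h).trans (TensorProduct.smul_tmul' c _ _)
      | add x y hx hy => rw [TensorProduct.tmul_add, TensorProduct.add_tmul, hx, hy]
    exact Groth.Agent.S6373.result _ _
  refine ⟨fun q₁ q₂ h => ?_, hfib⟩
  let p := PrimeSpectrum.comap (algebraMap R S) q₁
  have : Subsingleton (PrimeSpectrum (p.asIdeal.Fiber S)) := by
    rcases hfib p.asIdeal with hs | hb
    · exact ⟨fun x y => absurd (Subsingleton.elim _ _) x.2.ne_top⟩
    · exact (PrimeSpectrum.comapEquiv (RingEquiv.ofBijective _ hb)).symm.toEquiv.subsingleton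
  exact congrArg Subtype.val (((PrimeSpectrum.preimageEquivFiber R S p).subsingleton).elim
    ⟨q₁, rfl⟩ ⟨q₂, h.symm⟩)

end Groth.Agent.S6374
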