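import Groth.Statements.S6375
import Mathlib
import Groth.Agent.Calg2.TensorFP

set_option autoImplicit false
universe u
open CAlg

namespace Groth.Agent.S6375
open scoped TensorProduct

theorem exists_fg_tmul {R S : Type u} [CommRing R] [CommRing S] [Algebra R S] (x y u v : S)
    (h : x ⊗ₜ[R] y + u ⊗ₜ[R] v = 0) :
    ∃ (M₀ : Submodule R S), M₀.FG ∧ ∃ (hle : x ∈ M₀ ∧ u ∈ M₀),
      (⟨x, hle.1⟩ : M₀) ⊗ₜ[R] y + (⟨u, hle.2⟩ : M₀) ⊗ₜ[R] v = 0 := by
  let f : (Fin 2 → R) →ₗ[R] S := Fintype.linearCombination R ![x, u]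
  let z : (Fin 2 → R) ⊗[R] S := Pi.single 0 1 ⊗ₜ y + Pi.single 1 1 ⊗ₜ v
  have hf0 : f (Pi.single 0 1) = x := by simp [f, Fintype.linearCombination_apply_single]
  have hf1 : f (Pi.single 1 1) = u := by simp [f, Fintype.linearCombination_apply_single]
  obtain ⟨Q, _, _, _, α, β, hαβ, hz⟩ := Groth.Calg2.exists_fp_factor_eq_zero f z
    (by simpa [z, hf0, hf1] using h)
  have hb : ∀ w, f w ∈ LinearMap.range β := fun w => ⟨α w, LinearMap.congr_fun hαβ w⟩
  refine ⟨LinearMap.range β, Module.Finite.iff_fg.1 (Module.Finite.range β), ⟨hf0 ▸ hb _, hf1 ▸ hb _⟩, ?_⟩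
  have h2 := congrArg (β.rangeRestrict.rTensor S) hz
  simp only [z, map_add, LinearMap.rTensor_tmul, map_zero] at h2
  convert h2 using 3
  · exact Subtype.ext (hf0.symm.trans (LinearMap.congr_fun hαβ _).symm)
  · exact Subtype.ext (hf1.symm.trans (LinearMap.congr_fun hαβ _).symm)

/-- Combinatorial codes. -/
abbrev Code (R : Type u) : Type u := Σ (k : ℕ) (l : ℕ), (Fin 2 ⊕ Fin k → Fin l → R)

/-- `a` is encoded by `p`. -/
def Spec {R : Type u} [CommRing R] (S : Type u) [CommRing S] [Algebra R S] (p : Code R) (a : S) : Prop :=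
  ∃ (m : Fin 2 ⊕ Fin p.1 → S) (y : Fin p.2.1 → S), m (Sum.inl 0) = 1 ∧ m (Sum.inl 1) = a ∧
    (∀ i, Sum.elim ![a, -1] (fun _ => (0 : S)) i = ∑ j, p.2.2 i j • y j) ∧
    ∀ j, ∑ i, p.2.2 i j • m i = 0

theorem spec_unique {R : Type u} [CommRing R] (S : Type u) [CommRing S] [Algebra R S] (p : Code R)
    {a b : S} (ha : Spec S p a) (hb : Spec S p b) : a = b := by
  obtain ⟨m, y, -, -, hy, -⟩ := ha
  obtain ⟨m', y', hm0, hm1, -, hm'⟩ := hb
  have e : ∑ i, m' i * Sum.elim ![a, -1] (fun _ => (0 : S)) i = 0 := by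
    simp_rw [hy, Finset.mul_sum]
    rw [Finset.sum_comm]
    refine Finset.sum_eq_zero fun j _ => ?_
    have := congrArg (· * y j) (hm' j)
    simpa [Finset.sum_mul, Finset.mul_sum, Algebra.smul_def, mul_comm, mul_left_comm, mul_add] using this
  simpa [Fintype.sum_sum_type, hm0, hm1, ← sub_eq_add_neg, sub_eq_zero] using e

theorem mk_code (R : Type u) [Infinite R] : Cardinal.mk (Code R) ≤ Cardinal.mk R := by
  have hR := Cardinal.aleph0_le_mk R
  have hpow : ∀ n : ℕ, Cardinal.mk R ^ n ≤ Cardinal.mk R := fun n => Cardinal.power_nat_le hR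
  have h2 : ∀ k l, Cardinal.mk (Fin 2 ⊕ Fin k → Fin l → R) ≤ Cardinal.mk R := by
    intro k l
    let e : (Fin 2 ⊕ Fin k → Fin l → R) ≃ (Fin ((2 + k) * l) → R) :=
      (Equiv.curry _ _ _).symm.trans (Equiv.arrowCongr ((finSumFinEquiv.prodCongr (Equiv.refl _)).trans finProdFinEquiv) (Equiv.refl R))
    rw [Cardinal.mk_congr e, Cardinal.mk_arrow, Cardinal.mk_fin, Cardinal.lift_uzero, Cardinal.lift_natCast, Cardinal.power_natCast]
    exact hpow ((2 + k) * l)
  simp only [Code, Cardinal.mk_sigma]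
  refine le_trans (Cardinal.sum_le_lift_mk_mul_iSup_lift _) ?_
  refine (mul_le_mul' (by simp) (ciSup_le' fun k => ?_)).trans (Cardinal.mul_eq_right hR (hR) Cardinal.aleph0_ne_zero).le
  rw [Cardinal.lift_uzero]
  refine le_trans (Cardinal.sum_le_lift_mk_mul_iSup_lift _) ?_
  refine (mul_le_mul' (by simp) (ciSup_le' fun l => ?_)).trans (Cardinal.mul_eq_right hR (hR) Cardinal.aleph0_ne_zero).le
  rw [Cardinal.lift_uzero]
  exact h2 k l


/-- For an infinite source ring: if R → S is an epimorphism of rings with R infinite, then |S| ≤ |R| as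
cardinals. (For finite R the published statement also asserts |S| ≤ |R|, but its proof only gives
that S is countable and omits the rest, so that case is not included.) -/
theorem result (R S : Type u) [CommRing R] [CommRing S] [Algebra R S] [Algebra.IsEpi R S]
    [Infinite R] : Cardinal.mk S ≤ Cardinal.mk R := by
  have H : ∀ a : S, ∃ p : Code R, Spec S p a := by
    intro a
    have h0 : (1 : S) ⊗ₜ[R] a + a ⊗ₜ[R] (-1 : S) = 0 := by
      rw [TensorProduct.tmul_neg, (Algebra.isEpi_iff_forall_one_tmul_eq R S).1 inferInstance a, add_neg_cancel]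
    classical
    obtain ⟨M₀, hM, hle, h00⟩ := exists_fg_tmul (R := R) (1 : S) a a (-1 : S) h0
    obtain ⟨k, g, hg⟩ := Submodule.fg_iff_exists_fin_generating_family.1 hM
    have hg' : ∀ i, g i ∈ M₀ := fun i => hg ▸ Submodule.subset_span ⟨i, rfl⟩
    let m : Fin 2 ⊕ Fin k → M₀ := Sum.elim ![⟨1, hle.1⟩, ⟨a, hle.2⟩] (fun i => ⟨g i, hg' i⟩)
    have hspan : Submodule.span R (Set.range m) = ⊤ := by
      apply Submodule.map_injective_of_injective (f := M₀.subtype) Subtype.val_injective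
      rw [Submodule.map_span, Submodule.map_top, Submodule.range_subtype]
      refine le_antisymm (Submodule.span_le.2 ?_) ?_
      · rintro _ ⟨x, -, rfl⟩; exact x.2
      · refine hg.symm.le.trans ?_
        exact Submodule.span_mono (by rintro _ ⟨i, rfl⟩; exact ⟨m (Sum.inr i), ⟨_, rfl⟩, rfl⟩)
    obtain ⟨l, A, y, hy, hA⟩ := TensorProduct.vanishesTrivially_of_sum_tmul_eq_zero R hspan
      (n := Sum.elim ![a, -1] (fun _ : Fin k => (0 : S))) (by simpa [m, Fintype.sum_sum_type] using h00)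
    refine ⟨⟨k, l, A⟩, fun i => (m i : S), y, rfl, rfl, hy, fun j => ?_⟩
    simpa using congrArg Subtype.val (hA j)
  choose p hp using H
  have hinj : Function.Injective p := by
    intro a b hab
    have ha := hp a
    rw [hab] at ha
    exact spec_unique S _ ha (hp b)
  exact (Cardinal.mk_le_of_injective hinj).trans (mk_code R)

end Groth.Agent.S6375
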