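import Groth.Statements.S6377
import Mathlib
import Groth.Agent.HTopHyper.HTor.Balance
import Groth.Agent.Calg6.TorBridge

set_option autoImplicit false
universe u
open CategoryTheory
open scoped TensorProduct
open CAlg

namespace Groth.Agent.S6377

section
open TensorProduct Groth.FlatMorOne

variable {A : Type u} [CommRing A]

/-- The kernel of the free presentation is again flat after base change. -/
theorem flat_baseChange_presKer (T : Type u) [CommRing T] [Algebra A T] (M : Type u) [AddCommGroup M]
    [Module A M] (h1 : TorZero A M T) [Module.Flat T (T ⊗[A] M)] :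
    Module.Flat T (T ⊗[A] presKer A M) := by
  refine Groth.Misc8.FibreSquare.flat_of_shortExact ((presKer A M).subtype.baseChange T)
    ((Finsupp.linearCombination A (id : M → M)).baseChange T) h1
    (LinearMap.lTensor_surjective T (linearCombination_id_surjective' (R := A) (M := M))) ?_
  exact lTensor_exact T (LinearMap.exact_subtype_ker_map _)
    (linearCombination_id_surjective' (R := A) (M := M))

/-- Vanishing for a subobject from one for the total and a shifted one for the quotient. -/
theorem torZero_sub {M X Y Z : Type u} [AddCommGroup M] [Module A M] [AddCommGroup X] [Module A X]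
    [AddCommGroup Y] [Module A Y] [AddCommGroup Z] [Module A Z] {f : X →ₗ[A] Y} {g : Y →ₗ[A] Z}
    (hf : Function.Injective f) (he : Function.Exact f g) (hg : Function.Surjective g)
    (hY : TorZero A M Y) (hZ : TorZero A (presKer A M) Z) : TorZero A M X := by
  rw [TorZero, injective_iff_map_eq_zero]
  intro x hx
  apply hZ.rTensor_injective hf he hg
  rw [map_zero]
  apply hY
  rw [map_zero, ← LinearMap.comp_apply, LinearMap.lTensor_comp_rTensor,
    ← LinearMap.rTensor_comp_lTensor, LinearMap.comp_apply, hx, map_zero]

/-- Vanishing is checked on finitely generated submodules. -/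
theorem torZero_of_fg {M Q : Type u} [AddCommGroup M] [Module A M] [AddCommGroup Q] [Module A Q]
    (h : ∀ N : Submodule A Q, N.FG → TorZero A M N) : TorZero A M Q := by
  rw [TorZero, injective_iff_map_eq_zero]
  intro x hx
  obtain ⟨N, hN, y, rfl⟩ : ∃ N : Submodule A Q, N.FG ∧ ∃ y, N.subtype.rTensor (presKer A M) y = x := by
    clear hx
    induction x using TensorProduct.induction_on with
    | zero => exact ⟨⊥, Submodule.fg_bot, 0, map_zero _⟩
    | tmul q m =>
      exact ⟨Submodule.span A {q}, Submodule.fg_span_singleton q,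
        (⟨q, Submodule.mem_span_singleton_self q⟩ : Submodule.span A {q}) ⊗ₜ m, by simp⟩
    | add a b ha hb =>
      obtain ⟨N₁, h₁, y₁, rfl⟩ := ha
      obtain ⟨N₂, h₂, y₂, rfl⟩ := hb
      refine ⟨N₁ ⊔ N₂, h₁.sup h₂,
        (Submodule.inclusion (le_sup_left : N₁ ≤ N₁ ⊔ N₂)).rTensor _ y₁ +
          (Submodule.inclusion (le_sup_right : N₂ ≤ N₁ ⊔ N₂)).rTensor _ y₂, ?_⟩
      rw [map_add, ← LinearMap.rTensor_comp_apply, ← LinearMap.rTensor_comp_apply,
        Submodule.subtype_comp_inclusion, Submodule.subtype_comp_inclusion]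
  have h2 : (presKer A M).subtype.lTensor N y = 0 := by
    apply Module.Flat.rTensor_preserves_injective_linearMap (M := M →₀ A) N.subtype Subtype.val_injective
    rw [map_zero, ← hx, ← LinearMap.comp_apply, LinearMap.rTensor_comp_lTensor,
      ← LinearMap.lTensor_comp_rTensor, LinearMap.comp_apply]
  rw [(h N hN) (h2.trans (map_zero _).symm), map_zero]

variable {r : ℕ} (f : Fin r → A)

/-- `TorZero` with `A/I` for the first `s` syzygies. -/
def H : ℕ → ∀ (M : Type u) [AddCommGroup M] [Module A M], Prop
  | 0, _, _, _ => True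
  | s + 1, M, _, _ => TorZero A M (A ⧸ Ideal.span (Set.range f)) ∧ H s (presKer A M)

/-- Flatness away from and modulo the ideal. -/
def Pre (M : Type u) [AddCommGroup M] [Module A M] : Prop :=
  (∀ i, Module.Flat (Localization.Away (f i)) (Localization.Away (f i) ⊗[A] M)) ∧
    Module.Flat (A ⧸ Ideal.span (Set.range f)) ((A ⧸ Ideal.span (Set.range f)) ⊗[A] M)

theorem H_mono : ∀ (s : ℕ) (M : Type u) [AddCommGroup M] [Module A M], H f (s + 1) M → H f s M
  | 0, _, _, _, _ => trivial
  | s + 1, _, _, _, h => ⟨h.1, H_mono s _ h.2⟩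

theorem torZero_away {M : Type u} [AddCommGroup M] [Module A M] (i : Fin r) :
    TorZero A M (Localization.Away (f i)) := by
  haveI : Module.Flat A (Localization.Away (f i)) := IsLocalization.flat _ (Submonoid.powers (f i))
  exact Module.Flat.lTensor_preserves_injective_linearMap _ Subtype.val_injective

theorem Pre.presKer {M : Type u} [AddCommGroup M] [Module A M] (h : Pre f M)
    (h1 : TorZero A M (A ⧸ Ideal.span (Set.range f))) : Pre f (presKer A M) := by
  haveI := h.2
  refine ⟨fun i => ?_, flat_baseChange_presKer _ M h1⟩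
  haveI := h.1 i
  exact flat_baseChange_presKer _ M (torZero_away f i)

theorem main (d : ℕ) : ∀ (k : ℕ), k + d = r → ∀ (M : Type u) [AddCommGroup M] [Module A M],
    Pre f M → H f (d + 1) M → ∀ (Q : Type u) [AddCommGroup Q] [Module A Q],
      (∀ i : Fin r, i.1 < k → ∀ x : Q, ∃ n : ℕ, f i ^ n • x = 0) → TorZero A M Q := by
  induction d with
  | zero =>
    intro k hk M _ _ hP hH Q _ _ hQ
    refine torZero_of_fg fun N hN => ?_
    haveI := hP.2
    have h1 : Function.Injective ((Ideal.span (Set.range f)).subtype.rTensor M) :=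
      hH.1.rTensor_injective (g := Submodule.mkQ _) Subtype.val_injective
        (LinearMap.exact_subtype_mkQ _) (Submodule.mkQ_surjective _)
    have hrad : Ideal.span (Set.range f) ≤ N.annihilator.radical := by
      rw [Ideal.span_le]
      rintro _ ⟨i, rfl⟩
      obtain ⟨S, rfl⟩ := hN
      classical
      choose n hn using fun x : Q => hQ i (by have := i.2; omega) x
      refine ⟨S.sup n, Submodule.mem_annihilator.mpr fun x hx => ?_⟩
      induction hx using Submodule.span_induction with
      | mem x hx =>
        obtain ⟨e, he⟩ := Nat.exists_eq_add_of_le (Finset.le_sup (f := n) hx)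
        rw [he, pow_add, mul_comm, mul_smul, hn x, smul_zero]
      | zero => exact smul_zero _
      | add x y _ _ hx hy => rw [smul_add, hx, hy, add_zero]
      | smul a x _ hx => rw [smul_comm, hx, smul_zero]
    obtain ⟨m, hm⟩ := Ideal.exists_pow_le_of_le_radical_of_fg hrad
      (Submodule.fg_span (Set.finite_range f))
    exact torZero_of_pow_smul_eq_zero _ h1 m N fun a ha x => Subtype.ext
      (Submodule.mem_annihilator.mp (hm ha) x.1 x.2)
  | succ d ih =>
    intro k hk M _ _ hP hH Q _ _ hQ
    have hkr : k < r := by omega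
    let S := Submonoid.powers (f ⟨k, hkr⟩)
    let φ : Q →ₗ[A] LocalizedModule S Q := LocalizedModule.mkLinearMap S Q
    haveI := hP.1 ⟨k, hkr⟩
    have hloc : TorZero A M (LocalizedModule S Q) :=
      torZero_of_module (T := Localization.Away (f ⟨k, hkr⟩)) (torZero_away f ⟨k, hkr⟩)
    have hker : TorZero A M (LinearMap.ker φ) := by
      refine ih (k + 1) (by omega) M hP (H_mono f _ M hH) _ fun i hi x => ?_
      rcases Nat.lt_succ_iff_lt_or_eq.mp hi with h | h
      · obtain ⟨n, hn⟩ := hQ i h x.1
        exact ⟨n, Subtype.ext hn⟩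
      · obtain rfl : i = ⟨k, hkr⟩ := Fin.ext h
        obtain ⟨_, ⟨n, rfl⟩, hs⟩ := (LocalizedModule.mem_ker_mkLinearMap_iff.mp x.2)
        exact ⟨n, Subtype.ext hs⟩
    have hcok : TorZero A (presKer A M) (LocalizedModule S Q ⧸ LinearMap.range φ) := by
      refine ih (k + 1) (by omega) _ (hP.presKer f hH.1) hH.2 _ fun i hi x => ?_
      obtain ⟨y, rfl⟩ := Submodule.Quotient.mk_surjective _ x
      induction y using LocalizedModule.induction_on with
      | h q s =>
        rcases Nat.lt_succ_iff_lt_or_eq.mp hi with h | h
        · obtain ⟨n, hn⟩ := hQ i h q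
          refine ⟨n, ?_⟩
          rw [← Submodule.Quotient.mk_smul, LocalizedModule.smul'_mk, hn, LocalizedModule.zero_mk]
          rfl
        · obtain rfl : i = ⟨k, hkr⟩ := Fin.ext h
          obtain ⟨n, hn⟩ := s.2
          refine ⟨n, ?_⟩
          rw [← Submodule.Quotient.mk_smul, Submodule.Quotient.mk_eq_zero]
          refine ⟨q, ?_⟩
          show LocalizedModule.mk q 1 = _
          rw [LocalizedModule.smul'_mk]
          refine LocalizedModule.mk_eq.mpr ⟨1, ?_⟩
          simp only [Submonoid.smul_def, Submonoid.coe_one, one_smul]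
          exact (congrArg (· • q) hn).symm
    have him : TorZero A M (LinearMap.range φ) :=
      torZero_sub (f := (LinearMap.range φ).subtype) Subtype.val_injective
        (LinearMap.exact_subtype_mkQ _) (Submodule.mkQ_surjective _) hloc hcok
    exact TorZero.extension (f := (LinearMap.ker φ).subtype) (g := φ.rangeRestrict) Subtype.val_injective
      (fun x => by
        constructor
        · intro hx
          exact ⟨⟨x, congrArg Subtype.val hx⟩, rfl⟩
        · rintro ⟨y, rfl⟩
          exact Subtype.ext y.2)
      φ.surjective_rangeRestrict hker him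

theorem H_of_tor (s : ℕ) : ∀ (M : Type u) [AddCommGroup M] [Module A M],
    (∀ j, j < s → Subsingleton (DRing.Tor A (j + 1) (A ⧸ Ideal.span (Set.range f)) M)) → H f s M := by
  induction s with
  | zero => exact fun _ _ _ _ => trivial
  | succ s ih =>
    intro M _ _ h
    refine ⟨?_, ih _ fun j hj => ?_⟩
    · refine (Groth.Calg6.isZero_tor_one_iff _ M).mp ?_
      exact @ModuleCat.isZero_of_subsingleton _ _ _ (h 0 (Nat.succ_pos s))
    · obtain ⟨e⟩ := Groth.HTorLib.tor_shift (H := A ⧸ Ideal.span (Set.range f)) (N := M) (N' := presKer A M)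
        (P := M →₀ A) (ι := (presKer A M).subtype) Subtype.val_injective
        (linearCombination_id_surjective' (R := A) (M := M)) presKer_exact j
      haveI := h (j + 1) (by omega)
      exact e.symm.injective.subsingleton

end

/-- Let A be a ring, M an A-module and I = (f_1, ..., f_r) an ideal generated by r ≥ 1 elements. If (1)
M_{f_i} is flat over A_{f_i} for each i, (2) M/IM is flat over A/I, and (3) Tor_i^A(M, A/I) = 0 for
i = 1, ..., r + 1, then M is flat over A. (The published statement adds the same with 'faithfully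
flat', whose proof it omits; that variant is not included.) -/
theorem result (A : Type u) [CommRing A] (M : Type u) [AddCommGroup M]
    [Module A M] {r : ℕ} (hr : 1 ≤ r) (f : Fin r → A)
    (h1 : ∀ i, Module.Flat (Localization.Away (f i)) (LocalizedModule (Submonoid.powers (f i)) M))
    (h2 : Module.Flat (A ⧸ Ideal.span (Set.range f)) ((A ⧸ Ideal.span (Set.range f)) ⊗[A] M))
    (h3 : ∀ i : ℕ, 1 ≤ i → i ≤ r + 1 →
      Limits.IsZero (((CategoryTheory.Tor (ModuleCat.{u} A) i).obj (ModuleCat.of A M)).obj (ModuleCat.of A (A ⧸ Ideal.span (Set.range f))))) :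
    Module.Flat A M := by
  haveI : ∀ i, Module.Flat (Localization.Away (f i)) (Localization.Away (f i) ⊗[A] M) := fun i => by
    haveI := h1 i
    exact Module.Flat.of_linearEquiv
      (((LocalizedModule.equivTensorProduct (Submonoid.powers (f i)) M)).symm)
  have hH : H f (r + 1) M := H_of_tor f _ M fun j hj => by
    obtain ⟨e⟩ := Groth.HTorLib.tor_symm (A := A) (j + 1) (A ⧸ Ideal.span (Set.range f)) M
    haveI : Subsingleton (DRing.Tor A (j + 1) M (A ⧸ Ideal.span (Set.range f))) :=
      ModuleCat.subsingleton_of_isZero (h3 (j + 1) (by omega) (by omega))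
    exact e.injective.subsingleton
  have key : ∀ (Q : Type u) [AddCommGroup Q] [Module A Q], Groth.FlatMorOne.TorZero A M Q := fun Q _ _ =>
    main f r 0 (Nat.zero_add r) M ⟨inferInstance, h2⟩ hH Q fun i hi => absurd hi (Nat.not_lt_zero _)
  rw [Module.Flat.iff_rTensor_injective']
  intro J
  exact (key (A ⧸ J)).rTensor_injective (g := Submodule.mkQ _) Subtype.val_injective
    (LinearMap.exact_subtype_mkQ _) (Submodule.mkQ_surjective _)
end Groth.Agent.S6377
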