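import Groth.Statements.S6378
import Groth.Agent.SGA7.TorSeq
import Mathlib.RingTheory.SimpleModule.Basic
import Mathlib.RingTheory.FiniteLength
import Mathlib.RingTheory.LocalRing.ResidueField.Basic
import Mathlib.RingTheory.Flat.Basic
-- import your own Groth.Agent.* helpers here

set_option autoImplicit false
universe u
open CategoryTheory
open CAlg

namespace Groth.Agent.S6378

/-- Let (R, m, κ) be a local ring and M an R-module with Tor_1^R(κ, M) = 0. Then Tor_1^R(N, M) = 0 for
every finite length R-module N. -/
theorem result (R : Type u) [CommRing R] [IsLocalRing R]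
    (M : Type u) [AddCommGroup M] [Module R M]
    (h : Limits.IsZero (((CategoryTheory.Tor (ModuleCat.{u} R) 1).obj (ModuleCat.of R (IsLocalRing.ResidueField R))).obj (ModuleCat.of R M)))
    (N : Type u) [AddCommGroup N] [Module R N] (hN : IsFiniteLength R N) :
    Limits.IsZero (((CategoryTheory.Tor (ModuleCat.{u} R) 1).obj (ModuleCat.of R N)).obj (ModuleCat.of R M)) := by
  induction hN with
  | @of_subsingleton N _ _ _ =>
    exact Groth.SGA7.TorSeq.isZero_tor_of_flat (ModuleCat.of R N) (ModuleCat.of R M) 1 one_pos
  | @of_simple_quotient N _ _ N' _ _ ih =>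
    have hS : (ShortComplex.mk (ModuleCat.ofHom N'.subtype) (ModuleCat.ofHom N'.mkQ)
        (ModuleCat.hom_ext (LinearMap.ext fun x => (Submodule.Quotient.mk_eq_zero N').mpr x.2))).ShortExact :=
      { exact := (ShortComplex.ShortExact.moduleCat_exact_iff_function_exact _).2
          (LinearMap.exact_subtype_mkQ N')
        mono_f := (ModuleCat.mono_iff_injective _).2 N'.subtype_injective
        epi_g := (ModuleCat.epi_iff_surjective _).2 N'.mkQ_surjective }
    refine Groth.SGA7.TorSeq.isZero_tor_X₂ hS (ModuleCat.of R M) 1 ih ?_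
    obtain ⟨I, hI, ⟨e⟩⟩ := isSimpleModule_iff_quot_maximal.mp (inferInstance : IsSimpleModule R (N ⧸ N'))
    have hIe : I = IsLocalRing.maximalIdeal R := IsLocalRing.eq_maximalIdeal hI
    subst hIe
    exact h.of_iso ((((Tor (ModuleCat.{u} R) 1).mapIso (e.toModuleIso)).app (ModuleCat.of R M)))

end Groth.Agent.S6378
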