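import Groth.Statements.S6379
import Groth.Agent.S6346

set_option autoImplicit false
universe u
open scoped TensorProduct
open CAlg

namespace Groth.Agent.S6379

/-- Let M be a flat Mittag-Leffler module over a commutative ring R, F an R-module and x ∈ F ⊗_R M. Then
among the submodules F' of F with x in the image of F' ⊗ M → F ⊗ M there is a smallest one, and it
is a finitely generated module. -/
theorem result (R : Type u) [CommRing R] (M : Type u)
    [AddCommGroup M] [Module R M] [Module.Flat R M] (hM : CAlg.IsMittagLeffler R M)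
    (F : Type u) [AddCommGroup F] [Module R F] (x : F ⊗[R] M) :
    ∃ F' : Submodule R F, F'.FG ∧ x ∈ LinearMap.range (F'.subtype.rTensor M) ∧
      ∀ F'' : Submodule R F, x ∈ LinearMap.range (F''.subtype.rTensor M) → F' ≤ F'' := by
  obtain ⟨n, m, v, rfl⟩ := TensorProduct.exists_sum_tmul_eq x
  let p : (Fin n → R) →ₗ[R] F := Fintype.linearCombination R m
  let y : (Fin n → R) ⊗[R] M := ∑ j, Pi.single j (1 : R) ⊗ₜ v j
  have hy : p.rTensor M y = ∑ j, m j ⊗ₜ v j := by
    simp [y, p, map_sum, Fintype.linearCombination_apply_single]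
  obtain ⟨G, hG, hmin⟩ := (Groth.Agent.S6346.result R M).1 hM n y
  have hGfg : G.FG := by
    obtain ⟨w, hw⟩ := hG
    obtain ⟨W, hW, hWw⟩ := TensorProduct.exists_finite_submodule_left_of_setFinite {w} (Set.finite_singleton w)
    have hle : G ≤ W.map G.subtype := by
      apply hmin
      obtain ⟨z, hz⟩ := hWw (Set.mem_singleton w)
      refine ⟨(G.subtype.submoduleMap W).rTensor M z, ?_⟩
      rw [← hw, ← hz, ← LinearMap.rTensor_comp_apply, ← LinearMap.rTensor_comp_apply]
      congr 2
    rw [le_antisymm hle (Submodule.map_subtype_le G W)]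
    exact (Module.Finite.iff_fg.1 hW).map _
  refine ⟨G.map p, hGfg.map p, ?_, fun F'' hF'' => ?_⟩
  · obtain ⟨w, hw⟩ := hG
    refine ⟨(p.submoduleMap G).rTensor M w, ?_⟩
    rw [← hy, ← hw, ← LinearMap.rTensor_comp_apply, ← LinearMap.rTensor_comp_apply]
    congr 2
  · rw [Submodule.map_le_iff_le_comap]
    apply hmin
    have hker : LinearMap.ker (F''.mkQ.comp p) = F''.comap p := by
      rw [LinearMap.ker_comp, Submodule.ker_mkQ]
    rw [← hker]
    refine (Module.Flat.rTensor_exact M (LinearMap.exact_subtype_ker_map (F''.mkQ.comp p)) y).1 ?_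
    obtain ⟨w, hw⟩ := hF''
    rw [LinearMap.rTensor_comp_apply, hy, ← hw, ← LinearMap.rTensor_comp_apply,
      show F''.mkQ.comp F''.subtype = 0 from LinearMap.ext fun z => (Submodule.Quotient.mk_eq_zero _).2 z.2]
    simp

end Groth.Agent.S6379
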