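import Groth.Statements.S6380
import Mathlib
import Groth.Agent.Calg2.ML

set_option autoImplicit false
universe u
open scoped TensorProduct
open CAlg

namespace Groth.Agent.S6380
open scoped TensorProduct


/-- Given a linear map f : P → M of R-modules with P finitely presented, an R-module Q and an element x
of P ⊗ Q in the kernel of f ⊗ id_Q, one can factor f as h ∘ f' through some finitely presented
module P' (with f' : P → P' and h : P' → M) so that already f' ⊗ id_Q sends x to zero. -/
theorem result (R : Type u) [CommRing R] {P M Q : Type u}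
    [AddCommGroup P] [Module R P] [Module.FinitePresentation R P] [AddCommGroup M] [Module R M]
    [AddCommGroup Q] [Module R Q] (f : P →ₗ[R] M) (x : P ⊗[R] Q) (hx : f.rTensor Q x = 0) :
    ∃ (P' : Type u) (_ : AddCommGroup P') (_ : Module R P') (_ : Module.FinitePresentation R P')
      (f' : P →ₗ[R] P') (h : P' →ₗ[R] M), f = h ∘ₗ f' ∧ f'.rTensor Q x = 0 := by
  obtain ⟨P', i1, i2, i3, a, b, hab, ha⟩ := Groth.Calg2.exists_fp_factor_eq_zero f x hx
  exact ⟨P', i1, i2, i3, a, b, hab.symm, ha⟩

end Groth.Agent.S6380
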