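import Groth.Statements.S6381
import Mathlib

set_option autoImplicit false
universe u
open CAlg

namespace Groth.Agent.S6381

open Polynomial

/-- Stages of the construction. -/
def Good (R : Type u) [CommRing R] (p : Ideal R) [p.IsPrime] (L : Type u) [Field L] [Algebra R L] (K : Subfield L) : Prop :=
  ∃ (S : Type u) (_ : CommRing S) (_ : Algebra R S) (_ : Module.Finite R S) (_ : Module.Free R S) (ψ : S →ₐ[R] L),
    RingHom.ker ψ = p.map (algebraMap R S) ∧ Subfield.closure (Set.range ψ) = K

theorem good_step {R : Type u} [CommRing R] {p : Ideal R} [p.IsPrime] {L : Type u} [Field L] [Algebra p.ResidueField L]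
    [FiniteDimensional p.ResidueField L] [Algebra R L] [IsScalarTower R p.ResidueField L]
    (K : IntermediateField p.ResidueField L) (x : L) (hK : Good R p L K.toSubfield) :
    Good R p L (IntermediateField.adjoin K {x} |>.restrictScalars p.ResidueField).toSubfield := by
  classical
  obtain ⟨S, _, _, _, _, ψ, hker, hcl⟩ := hK
  have hψK : ∀ s, ψ s ∈ K := fun s => by
    show ψ s ∈ K.toSubfield
    rw [← hcl]
    exact Subfield.subset_closure ⟨s, rfl⟩
  have hfrac : ∀ c : K, ∃ a b : S, ψ b ≠ 0 ∧ ψ b * (c : L) = ψ a := by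
    intro c
    obtain ⟨y, hy, z, hz, hyz⟩ := Subfield.mem_closure_iff.1 (show (c : L) ∈ Subfield.closure (Set.range ψ) by
      rw [hcl]; exact c.2)
    have hsub : Subring.closure (Set.range ψ) = ψ.toRingHom.range :=
      le_antisymm (Subring.closure_le.2 (by rintro _ ⟨s, rfl⟩; exact ⟨s, rfl⟩))
        (by rintro _ ⟨s, rfl⟩; exact Subring.subset_closure ⟨s, rfl⟩)
    rw [hsub] at hy hz
    obtain ⟨a, rfl⟩ := hy
    obtain ⟨b, rfl⟩ := hz
    rcases eq_or_ne (ψ.toRingHom b) 0 with h0 | h0
    · exact ⟨0, 1, by simp, by rw [← hyz, h0, div_zero, mul_zero, map_zero]⟩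
    · exact ⟨a, b, h0, by rw [← hyz]; exact mul_div_cancel₀ _ h0⟩
  choose na de hde hfr using hfrac
  let q := minpoly K x
  have hint : IsIntegral K x := Algebra.IsIntegral.isIntegral x
  let b := ∏ i ∈ Finset.range q.natDegree, de (q.coeff i)
  have hb : ψ b ≠ 0 := by rw [map_prod]; exact Finset.prod_ne_zero_iff.2 fun i _ => hde _
  let β : K := ⟨ψ b, hψK b⟩
  let ψK : S →+* K := ψ.toRingHom.codRestrict K.toSubfield.toSubring hψK
  have hlift : q.scaleRoots β ∈ Polynomial.lifts ψK := by
    refine (lifts_iff_coeff_lifts _).2 fun i => ?_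
    rcases lt_trichotomy i q.natDegree with h | h | h
    · refine ⟨na (q.coeff i) * (∏ j ∈ (Finset.range q.natDegree).erase i, de (q.coeff j)) * b ^ (q.natDegree - i - 1),
        Subtype.ext ?_⟩
      have hb' : ψ b = ψ (de (q.coeff i)) * ψ (∏ j ∈ (Finset.range q.natDegree).erase i, de (q.coeff j)) := by
        rw [← map_mul]
        exact congrArg ψ (Finset.mul_prod_erase (Finset.range q.natDegree) (fun j => de (q.coeff j))
          (Finset.mem_range.2 h)).symm
      rw [coeff_scaleRoots, show q.natDegree - i = (q.natDegree - i - 1) + 1 by omega, pow_succ]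
      simp only [add_tsub_cancel_right]
      show ψ _ = (q.coeff i : L) * (ψ b ^ (q.natDegree - i - 1) * ψ b)
      rw [map_mul, map_mul, map_pow, ← hfr]
      linear_combination (-((q.coeff i : L) * ψ b ^ (q.natDegree - i - 1))) * hb'
    · refine ⟨1, ?_⟩
      rw [coeff_scaleRoots, h, (minpoly.monic hint).coeff_natDegree, tsub_self, map_one, pow_zero, one_mul]
    · exact ⟨0, by rw [coeff_scaleRoots, coeff_eq_zero_of_natDegree_lt h, map_zero, zero_mul]⟩
  obtain ⟨P, hP, hPdeg, hPm⟩ := lifts_and_degree_eq_and_monic hlift ((monic_scaleRoots_iff β).2 (minpoly.monic hint))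
  have hcomp : (algebraMap K L).comp ψK = ψ.toRingHom := RingHom.ext fun s => rfl
  have hroot : eval₂ ψ.toRingHom (ψ b * x) P = 0 := by
    have h1 := scaleRoots_eval₂_eq_zero (s := β) (algebraMap K L) (r := x) (p := q) (minpoly.aeval K x)
    rw [← hP, eval₂_map, hcomp] at h1
    exact h1
  let φ : AdjoinRoot P →ₐ[R] L := AdjoinRoot.liftAlgHom P ψ (ψ b * x) hroot
  have hφof : ∀ s, φ (AdjoinRoot.of P s) = ψ s := fun s => AdjoinRoot.liftAlgHom_of _ _ _ hroot s
  have hφroot : φ (AdjoinRoot.root P) = ψ b * x := AdjoinRoot.liftAlgHom_root _ _ _ _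
  haveI := hPm.finite_adjoinRoot
  haveI := hPm.free_adjoinRoot
  refine ⟨AdjoinRoot P, inferInstance, inferInstance, Module.Finite.trans S _, Module.Free.trans (S := S), φ, ?_, ?_⟩
  · refine le_antisymm (fun z hz => ?_) (Ideal.map_le_iff_le_comap.2 fun r hr => ?_)
    swap
    · have : algebraMap R S r ∈ RingHom.ker ψ := hker ▸ Ideal.mem_map_of_mem _ hr
      show φ (algebraMap R _ r) = 0
      rw [AlgHom.commutes, ← ψ.commutes]
      exact this
    haveI : Nontrivial S := ψ.toRingHom.domain_nontrivial
    obtain ⟨g, rfl⟩ := AdjoinRoot.mk_surjective z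
    rw [← AdjoinRoot.mk_leftInverse hPm (AdjoinRoot.mk P g)] at hz ⊢
    rw [AdjoinRoot.modByMonicHom_mk] at hz ⊢
    set g' := g %ₘ P with hg'
    have hdeg : g'.degree < P.degree := degree_modByMonic_lt g hPm
    have hev : eval₂ ψ.toRingHom (ψ b * x) g' = 0 := hz
    have hmap : g'.map ψK = 0 := by
      by_contra hne
      have h0 : aeval (ψ b * x) (g'.map ψK) = 0 := by rw [aeval_def, eval₂_map, hcomp]; exact hev
      have h1 : aeval x ((g'.map ψK).comp (C β * X)) = 0 := by
        rw [aeval_comp, map_mul, aeval_C, aeval_X]; exact h0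
      have hβ : β ≠ 0 := fun e => hb (congrArg Subtype.val e)
      have hd := minpoly.degree_le_of_ne_zero K x (p := (g'.map ψK).comp (C β * X))
        (fun e => hne (by
          rcases comp_eq_zero_iff.1 e with h | ⟨-, h⟩
          · exact h
          · have := congrArg (fun f => coeff f 1) h
            simp [hβ] at this)) h1
      have hnd : ((g'.map ψK).comp (C β * X)).natDegree = (g'.map ψK).natDegree := by
        rw [natDegree_comp, natDegree_C_mul_X β hβ, mul_one]
      have : (g'.map ψK).degree < q.degree :=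
        lt_of_le_of_lt degree_map_le (hdeg.trans_le (le_of_eq (hPdeg.trans (degree_scaleRoots q))))
      have hne' : (g'.map ψK).comp (C β * X) ≠ 0 := fun e => by
        rw [e, natDegree_zero] at hnd
        rcases comp_eq_zero_iff.1 e with h | ⟨-, h⟩
        · exact hne h
        · have := congrArg (fun f => coeff f 1) h
          simp [hβ] at this
      rw [degree_eq_natDegree hne', hnd, ← degree_eq_natDegree hne] at hd
      exact absurd (lt_of_le_of_lt hd this) (lt_irrefl _)
    rw [as_sum_range_C_mul_X_pow g', map_sum]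
    refine Submodule.sum_mem _ fun i _ => ?_
    rw [map_mul, AdjoinRoot.mk_C]
    refine Ideal.mul_mem_right _ _ ?_
    have hi : g'.coeff i ∈ RingHom.ker ψ := by
      have h2 : (g'.map ψK).coeff i = 0 := by rw [hmap, coeff_zero]
      rw [coeff_map] at h2
      exact congrArg Subtype.val h2
    rw [hker] at hi
    have := Ideal.mem_map_of_mem (algebraMap S (AdjoinRoot P)) hi
    rwa [Ideal.map_map, ← IsScalarTower.algebraMap_eq] at this
  · refine le_antisymm (Subfield.closure_le.2 ?_) ?_
    · rintro _ ⟨z, rfl⟩
      obtain ⟨g, rfl⟩ := AdjoinRoot.mk_surjective z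
      induction g using Polynomial.induction_on' with
      | add f g hf hg => rw [map_add, map_add]; exact add_mem hf hg
      | monomial n a =>
        rw [← C_mul_X_pow_eq_monomial, map_mul, map_pow, AdjoinRoot.mk_C, AdjoinRoot.mk_X, map_mul, map_pow, hφof, hφroot]
        show _ ∈ IntermediateField.adjoin K {x}
        exact mul_mem (IntermediateField.algebraMap_mem _ (⟨ψ a, hψK a⟩ : K)) (pow_mem (mul_mem
          (IntermediateField.algebraMap_mem _ (⟨ψ b, hψK b⟩ : K)) (IntermediateField.mem_adjoin_simple_self K x)) n)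
    · intro y hy
      refine IntermediateField.adjoin_induction K (s := {x}) (p := fun z _ => z ∈ Subfield.closure (Set.range φ))
        ?_ ?_ (fun a b _ _ => add_mem) (fun a _ => inv_mem) (fun a b _ _ => mul_mem) hy
      · rintro z rfl
        have h1 : φ (AdjoinRoot.root P) / φ (AdjoinRoot.of P b) ∈ Subfield.closure (Set.range φ) :=
          div_mem (Subfield.subset_closure ⟨_, rfl⟩) (Subfield.subset_closure ⟨_, rfl⟩)
        rwa [hφof, hφroot, mul_div_cancel_left₀ _ hb] at h1
      · intro c
        have h1 : (c : L) ∈ Subfield.closure (Set.range ψ) := by rw [hcl]; exact c.2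
        refine Subfield.closure_mono ?_ h1
        rintro _ ⟨s, rfl⟩
        exact ⟨_, hφof s⟩

/-- Let R be a ring, p ⊆ R a prime and L a finite extension of the residue field κ(p). Then one can find
a ring map R → S, with S finite free over R, for which q = pS is a prime of S and the residue field
κ(q) is isomorphic to L over κ(p) (stated as a ring isomorphism κ(q) ≅ L compatible with the maps
from R, which determines compatibility with κ(p)). -/
theorem result (R : Type u) [CommRing R] (p : Ideal R) [p.IsPrime]
    (L : Type u) [Field L] [Algebra p.ResidueField L] [FiniteDimensional p.ResidueField L]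
    [Algebra R L] [IsScalarTower R p.ResidueField L] :
    ∃ (S : Type u) (_ : CommRing S) (_ : Algebra R S) (_ : Module.Finite R S) (_ : Module.Free R S)
      (_ : (p.map (algebraMap R S)).IsPrime)
      (e : (p.map (algebraMap R S)).ResidueField ≃+* L),
      ∀ r : R, e (algebraMap R (p.map (algebraMap R S)).ResidueField r) = algebraMap R L r := by
  have hgood : ∀ K : IntermediateField p.ResidueField L, Good R p L K.toSubfield := by
    intro K
    refine IntermediateField.induction_on_adjoin (fun K => Good R p L K.toSubfield) ?_ good_step K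
    refine ⟨R, inferInstance, inferInstance, inferInstance, inferInstance, Algebra.ofId R L, ?_, ?_⟩
    · rw [show algebraMap R R = RingHom.id R from rfl, Ideal.map_id]
      ext r
      show algebraMap R L r = 0 ↔ r ∈ p
      rw [IsScalarTower.algebraMap_apply R p.ResidueField L, _root_.map_eq_zero, Ideal.algebraMap_residueField_eq_zero]
    · refine le_antisymm (Subfield.closure_le.2 ?_) ?_
      · rintro _ ⟨r, rfl⟩
        exact IntermediateField.mem_bot.2 ⟨algebraMap R _ r, (IsScalarTower.algebraMap_apply R p.ResidueField L r).symm⟩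
      · intro y hy
        obtain ⟨c, rfl⟩ := IntermediateField.mem_bot.1 hy
        obtain ⟨⟨a, b⟩, hab⟩ := IsLocalization.surj (nonZeroDivisors (R ⧸ p)) c
        obtain ⟨a', ha⟩ := Ideal.Quotient.mk_surjective a
        obtain ⟨b', hb⟩ := Ideal.Quotient.mk_surjective (b : R ⧸ p)
        rw [← ha, ← hb, Ideal.algebraMap_quotient_residueField_mk, Ideal.algebraMap_quotient_residueField_mk] at hab
        have hb0 : algebraMap R p.ResidueField b' ≠ 0 := by
          rw [ne_eq, Ideal.algebraMap_residueField_eq_zero, ← Ideal.Quotient.eq_zero_iff_mem, hb]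
          exact nonZeroDivisors.ne_zero b.2
        rw [eq_div_of_mul_eq hb0 hab, map_div₀, ← IsScalarTower.algebraMap_apply, ← IsScalarTower.algebraMap_apply]
        exact div_mem (Subfield.subset_closure ⟨a', rfl⟩) (Subfield.subset_closure ⟨b', rfl⟩)
  obtain ⟨S, _, _, _, _, ψ, hker, hcl⟩ := hgood ⊤
  have hp : (p.map (algebraMap R S)).IsPrime := hker ▸ RingHom.ker_isPrime _
  let e := Ideal.ResidueField.lift (p.map (algebraMap R S)) ψ.toRingHom hker.ge (fun s hs =>
    isUnit_iff_ne_zero.2 fun h0 => hs (hker ▸ h0))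
  have he : ∀ s, e (algebraMap S _ s) = ψ s := fun s =>
    Ideal.ResidueField.lift_algebraMap (I := p.map (algebraMap R S)) _ _ _ s
  refine ⟨S, inferInstance, inferInstance, inferInstance, inferInstance, hp,
    RingEquiv.ofBijective e ⟨e.injective, fun y => ?_⟩, fun r => ?_⟩
  · have : y ∈ e.fieldRange := by
      have h1 : y ∈ Subfield.closure (Set.range ψ) := by rw [hcl]; trivial
      refine Subfield.closure_le.2 ?_ h1
      rintro _ ⟨s, rfl⟩
      exact ⟨_, he s⟩
    exact this
  · show e _ = _
    rw [IsScalarTower.algebraMap_apply R S (p.map (algebraMap R S)).ResidueField, he, AlgHom.commutes]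

end Groth.Agent.S6381
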