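import Groth.Statements.S6382
import Mathlib
import Groth.Agent.FlatMorOne.FlatnessCriteria
import Groth.Agent.FlatmorThree.FlatAt

set_option autoImplicit false
universe u
open CAlg

namespace Groth.Agent.S6382

open scoped TensorProduct


/-- Consider a commutative square of local rings and local homomorphisms R → S, R → R', S → S', R' → S',
and a finite S-module M. Assume the maps R → R' and S → S' are flat, M is flat over R, the maximal
ideal of R generates the maximal ideal of R', and R', S' are Noetherian. Then M' = M ⊗_S S' (any
base change of M along S → S') is flat over R'. -/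
theorem result (R S R' S' : Type u) [CommRing R] [CommRing S]
    [CommRing R'] [CommRing S'] [IsLocalRing R] [IsLocalRing S] [IsLocalRing R'] [IsLocalRing S']
    [Algebra R S] [Algebra R R'] [Algebra S S'] [Algebra R' S'] [Algebra R S']
    [IsScalarTower R S S'] [IsScalarTower R R' S']
    [IsLocalHom (algebraMap R S)] [IsLocalHom (algebraMap R R')] [IsLocalHom (algebraMap S S')]
    [IsLocalHom (algebraMap R' S')] [Module.Flat R R'] [Module.Flat S S']
    [IsNoetherianRing R'] [IsNoetherianRing S']
    (hm : (IsLocalRing.maximalIdeal R).map (algebraMap R R') = IsLocalRing.maximalIdeal R')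
    (M : Type u) [AddCommGroup M] [Module S M] [Module R M] [IsScalarTower R S M] [Module.Finite S M]
    [Module.Flat R M]
    (M' : Type u) [AddCommGroup M'] [Module S' M'] [Module S M'] [IsScalarTower S S' M'] [Module R' M']
    [IsScalarTower R' S' M'] (j : M →ₗ[S] M') (hj : IsBaseChange S' j) :
    Module.Flat R' M' := by
  letI : Module R M' := Module.compHom M' (algebraMap R S')
  haveI hRS : IsScalarTower R S' M' := IsScalarTower.of_algebraMap_smul fun _ _ => rfl
  haveI hRR : IsScalarTower R R' M' := IsScalarTower.of_algebraMap_smul fun r x => by
    show algebraMap R R' r • x = algebraMap R S' r • x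
    rw [IsScalarTower.algebraMap_apply R R' S']
    exact (algebraMap_smul S' (algebraMap R R' r) x).symm
  haveI : Module.Flat R M' := by
    haveI := Groth.FlatmorThree.flat_tensor_of_flat (R := R) (S := S) S' M
    exact Module.Flat.of_linearEquiv (hj.equiv.restrictScalars R).symm
  let m' := IsLocalRing.maximalIdeal R'
  have h1 : Function.Injective (m'.subtype.rTensor M') := by
    show Function.Injective ((IsLocalRing.maximalIdeal R').subtype.rTensor M')
    rw [← hm]
    exact Groth.FlatMorOne.rTensor_map_injective_of_flat (S := R') (M := M') (IsLocalRing.maximalIdeal R)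
  haveI : Module.Finite S' M' := Module.Finite.equiv hj.equiv
  haveI := Groth.FlatMorOne.flat_residue_quotient R' ((R' ⧸ m') ⊗[R'] M')
  exact Groth.FlatMorOne.flat_of_rTensor_injective (S := S') m'
    (Groth.FlatMorOne.map_le_jacobson_of_isLocalHom (IsLocalRing.maximalIdeal.isMaximal R').ne_top) h1

end Groth.Agent.S6382
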