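import Groth.Statements.S6383

set_option autoImplicit false
universe u
open scoped TensorProduct
open CAlg

namespace Groth.Agent.S6383

/-- For a ring map R → S and an R-module M whose base change S ⊗_R M is an internal direct sum of
countably generated S-submodules Q_i (i ∈ I), every countably generated submodule N ≤ M can be
enlarged to a countably generated submodule N' ≤ M, together with a subset I' ⊆ I, so that the
S-span of the image 1 ⊗ N' inside S ⊗_R M equals the sum of the Q_i over i ∈ I'. -/
theorem result (R S : Type u) [CommRing R] [CommRing S] [Algebra R S]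
    (M : Type u) [AddCommGroup M] [Module R M] {I : Type u} [DecidableEq I] (Q : I → Submodule S (S ⊗[R] M))
    (hQ : DirectSum.IsInternal Q) (hQc : ∀ i, ∃ t : Set (S ⊗[R] M), t.Countable ∧ Submodule.span S t = Q i)
    (N : Submodule R M) (hN : ∃ s : Set M, s.Countable ∧ Submodule.span R s = N) :
    ∃ (N' : Submodule R M) (I' : Set I), N ≤ N' ∧ (∃ s : Set M, s.Countable ∧ Submodule.span R s = N') ∧
      Submodule.span S ((TensorProduct.mk R S M 1) '' (N' : Set M)) = ⨆ i ∈ I', Q i := by
  classical
  obtain ⟨s₀, hs₀, hs₀N⟩ := hN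
  choose t ht htQ using hQc
  have hF : ∀ z : S ⊗[R] M, ∃ F : Finset I, z ∈ ⨆ i ∈ F, Q i := fun z =>
    Submodule.exists_finset_of_mem_iSup Q (hQ.submodule_iSup_eq_top ▸ Submodule.mem_top)
  choose F hF using hF
  have hG : ∀ z : S ⊗[R] M, ∃ G : Finset M,
      z ∈ Submodule.span S ((TensorProduct.mk R S M 1) '' (G : Set M)) := by
    intro z
    induction z using TensorProduct.induction_on with
    | zero => exact ⟨∅, zero_mem _⟩
    | tmul a m =>
      refine ⟨{m}, ?_⟩
      rw [show a ⊗ₜ[R] m = a • ((1 : S) ⊗ₜ[R] m) by rw [TensorProduct.smul_tmul', smul_eq_mul, mul_one]]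
      exact Submodule.smul_mem _ _ (Submodule.subset_span ⟨m, by simp, rfl⟩)
    | add x y hx hy =>
      obtain ⟨G, hG⟩ := hx
      obtain ⟨G', hG'⟩ := hy
      refine ⟨G ∪ G', add_mem (Submodule.span_mono (Set.image_mono ?_) hG) (Submodule.span_mono (Set.image_mono ?_) hG')⟩
      · simp
      · simp
  choose G hG using hG
  let J : Set M → Set I := fun s => ⋃ x ∈ s, (F ((1 : S) ⊗ₜ[R] x) : Set I)
  let step : Set M → Set M := fun s => s ∪ ⋃ i ∈ J s, ⋃ z ∈ t i, (G z : Set M)
  let c : ℕ → Set M := fun n => step^[n] s₀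
  have hc1 : ∀ n, c (n + 1) = step (c n) := fun n => Function.iterate_succ_apply' step n s₀
  have hc : ∀ n, (c n).Countable := by
    intro n
    induction n with
    | zero => exact hs₀
    | succ n ih =>
      rw [hc1]
      exact ih.union ((ih.biUnion fun x _ => Finset.countable_toSet _).biUnion fun i _ =>
        (ht i).biUnion fun z _ => Finset.countable_toSet _)
  refine ⟨Submodule.span R (⋃ n, c n), ⋃ n, J (c n), ?_, ⟨_, Set.countable_iUnion hc, rfl⟩, ?_⟩
  · rw [← hs₀N]
    exact Submodule.span_mono (Set.subset_iUnion c 0)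
  refine le_antisymm (Submodule.span_le.2 ?_) (iSup₂_le fun i hi => ?_)
  · rintro _ ⟨x, hx, rfl⟩
    induction hx using Submodule.span_induction with
    | mem x hx =>
      obtain ⟨n, hn⟩ := Set.mem_iUnion.1 hx
      refine (iSup₂_le fun i hi => ?_ : (⨆ i ∈ F ((1 : S) ⊗ₜ[R] x), Q i) ≤ _) (hF _)
      exact le_biSup Q (Set.mem_iUnion.2 ⟨n, Set.mem_biUnion hn hi⟩)
    | zero => simp
    | add a b _ _ ha hb => rw [map_add]; exact add_mem ha hb
    | smul r a _ ha =>
      rw [map_smul, ← algebraMap_smul S r]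
      exact Submodule.smul_mem _ _ ha
  · obtain ⟨n, hn⟩ := Set.mem_iUnion.1 hi
    rw [← htQ i, Submodule.span_le]
    intro z hz
    refine Submodule.span_mono (Set.image_mono ?_) (hG z)
    refine (Set.subset_iUnion c (n + 1)).trans' ?_ |>.trans Submodule.subset_span
    rw [hc1]
    intro m hm
    refine Or.inr ?_
    simp only [Set.mem_iUnion]
    exact ⟨i, hn, z, hz, hm⟩

end Groth.Agent.S6383
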