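import Groth.Statements.S6384
import Groth.Agent.EGA43Flat.Nilpotent
-- import your own Groth.Agent.* helpers here

set_option autoImplicit false
universe u
open scoped TensorProduct
open CAlg

namespace Groth.Agent.S6384

/-- Let φ : R → R' be a ring map, I ⊆ R an ideal and M an R-module such that M/IM is R/I-flat and R' ⊗_R
M is R'-flat. Put I₂ = φ⁻¹(φ(I²) R'). Then M/I₂M is flat over R/I₂. -/
theorem result (R R' : Type u) [CommRing R] [CommRing R'] [Algebra R R']
    (I : Ideal R) (M : Type u) [AddCommGroup M] [Module R M] [Module.Flat (R ⧸ I) ((R ⧸ I) ⊗[R] M)]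
    [Module.Flat R' (R' ⊗[R] M)] :
    Module.Flat (R ⧸ ((I ^ 2).map (algebraMap R R')).comap (algebraMap R R'))
      ((R ⧸ ((I ^ 2).map (algebraMap R R')).comap (algebraMap R R')) ⊗[R] M) := by
  let I₂ := ((I ^ 2).map (algebraMap R R')).comap (algebraMap R R')
  let A := R ⧸ I₂
  let B := R' ⧸ (I ^ 2).map (algebraMap R R')
  let I' : Ideal A := I.map (Ideal.Quotient.mk I₂)
  have hnil : IsNilpotent I' := ⟨2, by
    rw [Ideal.zero_eq_bot, ← le_bot_iff, ← Ideal.map_pow, Ideal.map_le_iff_le_comap,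
      ← RingHom.ker_eq_comap_bot, Ideal.mk_ker]
    exact Ideal.le_comap_map⟩
  letI : Algebra A B :=
    (Ideal.quotientMap ((I ^ 2).map (algebraMap R R')) (algebraMap R R') (le_refl I₂)).toAlgebra
  haveI : IsScalarTower R A B := IsScalarTower.of_algebraMap_eq fun _ => rfl
  haveI : Module.Flat (A ⧸ I') ((A ⧸ I') ⊗[A] (A ⊗[R] M)) :=
    Groth.EGA43Flat.flat_quotient_quotient I I₂ inferInstance
  haveI : ∀ _ : Unit, Module.Flat B (B ⊗[A] (A ⊗[R] M)) := fun _ =>
    Groth.EGA43Flat.flat_baseChange_square R' B A inferInstance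
  exact @Groth.EGA43Flat.flat_of_flat_quotient_of_finite_family A _ I' hnil (A ⊗[R] M) _ _ ‹_› Unit _
    (fun _ => B) _ _ (fun a ha => by
      obtain ⟨a, rfl⟩ := Ideal.Quotient.mk_surjective a
      refine Ideal.Quotient.eq_zero_iff_mem.mpr (Ideal.mem_comap.mpr ?_)
      exact Ideal.Quotient.eq_zero_iff_mem.mp
        (show Ideal.Quotient.mk ((I ^ 2).map (algebraMap R R')) (algebraMap R R' a) = 0 from ha ())) ‹_›

end Groth.Agent.S6384
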