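import Groth.Statements.S6385
import Mathlib
import Groth.Agent.Calg8.IntegralDimEq

set_option autoImplicit false
universe u
open CAlg

namespace Groth.Agent.S6385

/-- Let k be a field, S a finite type k-algebra, q a prime of S and x the corresponding point of X =
Spec S. Then there is g ∈ S, g ∉ q, such that dim S_g equals dim_x X — the minimum of dim S_{g'}
over all g' ∉ q — and, writing d for this dimension, a finite injective k-algebra map from the
polynomial ring k[y_1, ..., y_d] to S_g. -/
theorem result (k S : Type u) [Field k] [CommRing S] [Algebra k S]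
    [Algebra.FiniteType k S] (q : Ideal S) [q.IsPrime] :
    ∃ (g : S) (d : ℕ), g ∉ q ∧ ringKrullDim (Localization.Away g) = d ∧
      (∀ g' : S, g' ∉ q → ringKrullDim (Localization.Away g) ≤ ringKrullDim (Localization.Away g')) ∧
      ∃ φ : MvPolynomial (Fin d) k →ₐ[k] Localization.Away g, Function.Injective φ ∧ φ.toRingHom.Finite := by
  classical
  have key : ∀ g : S, g ∉ q → ∃ d : ℕ, ringKrullDim (Localization.Away g) = d ∧
      ∃ φ : MvPolynomial (Fin d) k →ₐ[k] Localization.Away g, Function.Injective φ ∧ φ.toRingHom.Finite := by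
    intro g hg
    have hu : IsUnit (algebraMap S q.ResidueField g) := isUnit_iff_ne_zero.2 fun h =>
      hg (Ideal.algebraMap_residueField_eq_zero.1 h)
    have : Nontrivial (Localization.Away g) := (IsLocalization.Away.lift (S := Localization.Away g) g hu).domain_nontrivial
    have : Algebra.FiniteType k (Localization.Away g) := Algebra.FiniteType.trans (S := S) inferInstance inferInstance
    obtain ⟨s, φ, hinj, hfin⟩ := exists_finite_inj_algHom_of_fg k (Localization.Away g)
    refine ⟨s, ?_, φ, hinj, hfin⟩
    letI : Algebra (MvPolynomial (Fin s) k) (Localization.Away g) := φ.toRingHom.toAlgebra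
    have : Module.Finite (MvPolynomial (Fin s) k) (Localization.Away g) := hfin
    have : FaithfulSMul (MvPolynomial (Fin s) k) (Localization.Away g) :=
      (faithfulSMul_iff_algebraMap_injective _ _).2 hinj
    have := Groth.Calg8.ringKrullDim_eq_of_integral (MvPolynomial (Fin s) k) (Localization.Away g) hinj
    rw [MvPolynomial.ringKrullDim_of_isNoetherianRing] at this
    simpa [eq_comm] using this
  have hex : ∃ d : ℕ, ∃ g : S, g ∉ q ∧ ringKrullDim (Localization.Away g) = d :=
    let h1 : (1 : S) ∉ q := fun h => ‹q.IsPrime›.ne_top (q.eq_top_iff_one.2 h)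
    ⟨(key 1 h1).choose, 1, h1, (key 1 h1).choose_spec.1⟩
  obtain ⟨g, hg, hd⟩ := Nat.find_spec hex
  obtain ⟨d, hd', φ, h1, h2⟩ := key g hg
  refine ⟨g, d, hg, hd', fun g' hg' => ?_, φ, h1, h2⟩
  obtain ⟨d', hd'', -⟩ := key g' hg'
  rw [hd, hd'']
  exact_mod_cast Nat.find_min' hex ⟨g', hg', hd''⟩

end Groth.Agent.S6385
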