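import Groth.Statements.S6386
import Mathlib

set_option autoImplicit false
universe u
open CAlg

namespace Groth.Agent.S6386

/-- The key step of its proof: let A be a ring, κ = max(|A|, ℵ₀), and B a flat A-algebra. Then every
A-subalgebra E ⊆ B with at most κ elements lies inside a flat A-subalgebra B' ⊆ B with at most κ
elements. Consequently B is the filtered colimit (union) of its flat A-subalgebras of cardinality at
most κ. -/
theorem result (A B : Type u) [CommRing A] [CommRing B] [Algebra A B]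
    [Module.Flat A B] (E : Subalgebra A B) (hE : Cardinal.mk E ≤ max (Cardinal.mk A) Cardinal.aleph0) :
    ∃ B' : Subalgebra A B, E ≤ B' ∧ Module.Flat A B' ∧ Cardinal.mk B' ≤ max (Cardinal.mk A) Cardinal.aleph0 := by
  classical
  open Cardinal in
  set κ : Cardinal := max #A ℵ₀ with hκ
  have hω : Cardinal.aleph0 ≤ κ := le_max_right _ _
  have step : ∀ F : {F : Subalgebra A B // Cardinal.mk F ≤ κ}, ∃ G : {G : Subalgebra A B // Cardinal.mk G ≤ κ},
      F.1 ≤ G.1 ∧ ∀ (l : ℕ) (f : Fin l → A) (x : Fin l → B), (∀ i, x i ∈ F.1) → ∑ i, f i • x i = 0 →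
        ∃ (k : ℕ) (a : Fin l → Fin k → A) (y : Fin k → B), (∀ j, y j ∈ G.1) ∧
          (∀ i, x i = ∑ j, a i j • y j) ∧ ∀ j, ∑ i, f i * a i j = 0 := by
    rintro ⟨F, hF⟩
    let R := {r : Σ l : ℕ, (Fin l → A × F) // ∑ i, (r.2 i).1 • ((r.2 i).2 : B) = 0}
    have hR : Cardinal.mk R ≤ κ := by
      have hinj : Function.Injective (fun r : R => List.ofFn r.1.2) := by
        rintro ⟨⟨l, r⟩, _⟩ ⟨⟨l', r'⟩, _⟩ h
        have hl : l = l' := by simpa using congrArg List.length h
        subst hl
        obtain rfl : r = r' := List.ofFn_injective h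
        rfl
      refine (Cardinal.mk_le_of_injective hinj).trans ((Cardinal.mk_list_le_max _).trans (max_le hω ?_))
      rw [Cardinal.mk_prod, Cardinal.lift_id, Cardinal.lift_id]
      exact (mul_le_mul' (le_max_left _ _) hF).trans (Cardinal.mul_eq_self hω).le
    choose k a y hy using fun r : R => Module.Flat.iff_forall_isTrivialRelation.mp ‹Module.Flat A B›
      (f := fun i => (r.1.2 i).1) (x := fun i => ((r.1.2 i).2 : B)) r.2
    let s : Set B := (F : Set B) ∪ ⋃ r : R, Set.range (y r)
    refine ⟨⟨Algebra.adjoin A s, ?_⟩, fun z hz => Algebra.subset_adjoin (Or.inl hz), ?_⟩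
    · refine (Algebra.cardinalMk_adjoin_le A s).trans (max_le (max_le (le_max_left _ _) ?_) hω)
      refine (Cardinal.mk_union_le _ _).trans ((add_le_add hF ?_).trans (Cardinal.add_eq_self hω).le)
      refine (Cardinal.mk_iUnion_le _).trans ?_
      refine (mul_le_mul' hR (ciSup_le' fun r => ?_)).trans (Cardinal.mul_eq_self hω).le
      exact ((Set.finite_range (y r)).lt_aleph0).le.trans hω
    · intro l f x hx h
      let r : R := ⟨⟨l, fun i => (f i, ⟨x i, hx i⟩)⟩, h⟩
      exact ⟨k r, a r, y r, fun j => Algebra.subset_adjoin (Or.inr (Set.mem_iUnion.mpr ⟨r, j, rfl⟩)),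
        (hy r).1, (hy r).2⟩
  choose g hg₁ hg₂ using step
  let F : ℕ → {F : Subalgebra A B // Cardinal.mk F ≤ κ} := fun n => Nat.rec ⟨E, hE⟩ (fun _ F => g F) n
  have hmono : Monotone fun n => (F n).1 := monotone_nat_of_le_succ fun n => hg₁ (F n)
  have hdir : Directed (· ≤ ·) fun n => (F n).1 := hmono.directed_le
  have hF0 : E ≤ (F 0).1 := le_refl E
  have hFs : ∀ n, (F (n + 1)) = g (F n) := fun n => rfl
  clear_value F
  refine ⟨⨆ n, (F n).1, hF0.trans (le_iSup (fun n => (F n).1) 0), ?_, ?_⟩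
  · rw [Module.Flat.iff_forall_isTrivialRelation]
    intro l f x h
    have hex : ∀ i, ∃ n, (x i : B) ∈ (F n).1 := fun i => by
      have := (x i).2
      rw [← SetLike.mem_coe, Subalgebra.coe_iSup_of_directed hdir, Set.mem_iUnion] at this
      exact this
    choose n hn using hex
    obtain ⟨k, a, y, hy, h1, h2⟩ := hg₂ (F (Finset.univ.sup n)) l f (fun i => (x i : B))
      (fun i => hmono (Finset.le_sup (Finset.mem_univ i)) (hn i)) (by simpa using congrArg Subtype.val h)
    exact ⟨k, a, fun j => ⟨y j, le_iSup (fun n => (F n).1) (Finset.univ.sup n + 1) (by show y j ∈ (F _).1; rw [hFs]; exact hy j)⟩,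
      fun i => Subtype.ext (by simpa using h1 i), h2⟩
  · refine le_trans (Cardinal.mk_congr (Equiv.setCongr (Subalgebra.coe_iSup_of_directed hdir))).le ?_
    have : (⋃ n, ((F n).1 : Set B)) = ⋃ n : ULift.{u} ℕ, ((F n.down).1 : Set B) := by
      ext z; simp
    rw [this]
    refine (Cardinal.mk_iUnion_le _).trans ?_
    have h1 : Cardinal.mk (ULift.{u} ℕ) ≤ κ := Cardinal.mk_le_aleph0.trans hω
    have h2 : (⨆ n : ULift.{u} ℕ, Cardinal.mk ((F n.down).1 : Set B)) ≤ κ := ciSup_le' fun n => (F n.down).2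
    exact (mul_le_mul' h1 h2).trans (Cardinal.mul_eq_self hω).le

end Groth.Agent.S6386
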