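import Groth.Statements.S6387
import Mathlib
import Groth.Agent.FlatMorOne.FlatnessCriteria
import Groth.Agent.FlatCxBase.Core

set_option autoImplicit false
universe u
open CategoryTheory
open CAlg

namespace Groth.Agent.S6387

open scoped TensorProduct

theorem residue_tmul_eq_zero_iff {R S : Type u} [CommRing R] [CommRing S] [IsLocalRing R] [Algebra R S]
    {X : Type u} [AddCommGroup X] [Module R X] [Module S X] [IsScalarTower R S X] (x : X) :
    ((1 : IsLocalRing.ResidueField R) ⊗ₜ[R] x = 0) ↔
      x ∈ ((IsLocalRing.maximalIdeal R).map (algebraMap R S)) • (⊤ : Submodule S X) := by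
  let e := TensorProduct.quotTensorEquivQuotSMul X (IsLocalRing.maximalIdeal R)
  rw [← Submodule.restrictScalars_mem R, Ideal.smul_restrictScalars, Submodule.restrictScalars_top, ← Submodule.Quotient.mk_eq_zero]
  have h : e ((1 : R ⧸ IsLocalRing.maximalIdeal R) ⊗ₜ[R] x) = Submodule.Quotient.mk x := by
    show e (Ideal.Quotient.mk _ 1 ⊗ₜ[R] x) = _
    rw [TensorProduct.quotTensorEquivQuotSMul_mk_tmul, one_smul]
  rw [← h, LinearEquiv.map_eq_zero_iff]
  rfl

theorem quot_tmul_eq_zero_iff {S : Type u} [CommRing S] (J : Ideal S)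
    {X : Type u} [AddCommGroup X] [Module S X] (x : X) :
    ((1 : S ⧸ J) ⊗ₜ[S] x = 0) ↔ x ∈ J • (⊤ : Submodule S X) := by
  let e := TensorProduct.quotTensorEquivQuotSMul X J
  rw [← Submodule.Quotient.mk_eq_zero]
  have h : e ((1 : S ⧸ J) ⊗ₜ[S] x) = Submodule.Quotient.mk x := by
    show e (Ideal.Quotient.mk _ 1 ⊗ₜ[S] x) = _
    rw [TensorProduct.quotTensorEquivQuotSMul_mk_tmul, one_smul]
  rw [← h, LinearEquiv.map_eq_zero_iff]

/-- One step: exactness modulo the maximal ideal gives injectivity and flat cokernel. -/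
theorem step {R S : Type u} [CommRing R] [CommRing S] [IsLocalRing R] [IsLocalRing S]
    [IsNoetherianRing S] [Algebra R S] [IsLocalHom (algebraMap R S)]
    {X Y Z : Type u} [AddCommGroup X] [AddCommGroup Y] [AddCommGroup Z]
    [Module S X] [Module S Y] [Module S Z] [Module R Y] [IsScalarTower R S Y]
    [Module R Z] [IsScalarTower R S Z] [Module.Finite S Y] [Module.Flat R Z]
    (a : X →ₗ[S] Y) (b : Y →ₗ[S] Z) (hab : ∀ x, b (a x) = 0)
    (hex : Function.Exact (a.lTensor (S ⧸ (IsLocalRing.maximalIdeal R).map (algebraMap R S)))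
      (b.lTensor (S ⧸ (IsLocalRing.maximalIdeal R).map (algebraMap R S)))) :
    Function.Exact a b ∧ Module.Flat R (Z ⧸ LinearMap.range b) := by
  set J := (IsLocalRing.maximalIdeal R).map (algebraMap R S)
  let v : (Y ⧸ LinearMap.range a) →ₗ[S] Z := (LinearMap.range a).liftQ b (by rintro _ ⟨x, rfl⟩; exact hab x)
  have hv : LinearMap.range v = LinearMap.range b := Submodule.range_liftQ _ _ _
  have hinj : Function.Injective ((v.restrictScalars R).lTensor (IsLocalRing.ResidueField R)) := by
    rw [injective_iff_map_eq_zero]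
    intro z hz
    obtain ⟨n, rfl⟩ := TensorProduct.mk_surjective R (Y ⧸ LinearMap.range a) (IsLocalRing.ResidueField R)
      IsLocalRing.residue_surjective z
    obtain ⟨y, rfl⟩ := Submodule.mkQ_surjective _ n
    simp only [TensorProduct.mk_apply, LinearMap.lTensor_tmul] at hz ⊢
    have h1 : b y ∈ J • (⊤ : Submodule S Z) := (residue_tmul_eq_zero_iff (S := S) (b y)).1 hz
    have h2 : b.lTensor (S ⧸ J) ((1 : S ⧸ J) ⊗ₜ[S] y) = 0 := by
      rw [LinearMap.lTensor_tmul]
      exact (quot_tmul_eq_zero_iff J (b y)).2 h1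
    obtain ⟨w, hw⟩ := (hex _).1 h2
    obtain ⟨x, rfl⟩ := TensorProduct.mk_surjective S X (S ⧸ J) Ideal.Quotient.mk_surjective w
    simp only [TensorProduct.mk_apply, LinearMap.lTensor_tmul] at hw
    have h3 : y - a x ∈ J • (⊤ : Submodule S Y) := by
      rw [← quot_tmul_eq_zero_iff, TensorProduct.tmul_sub, hw, sub_self]
    refine (residue_tmul_eq_zero_iff (S := S) _).2 ?_
    have h4 := Submodule.mem_map_of_mem (f := (LinearMap.range a).mkQ) h3
    rw [Submodule.map_smul'', Submodule.map_top, Submodule.range_mkQ, map_sub] at h4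
    simpa [(Submodule.Quotient.mk_eq_zero _).2 (LinearMap.mem_range_self a x)] using h4
  obtain ⟨h1, h2⟩ := Groth.FlatMorOne.injective_and_flat_coker (R := R) S (v.restrictScalars R) hinj
  refine ⟨fun y => ⟨fun hy => ?_, ?_⟩, ?_⟩
  · have : (LinearMap.range a).mkQ y = 0 := h1 (by simpa [v] using hy)
    exact (Submodule.Quotient.mk_eq_zero _).1 this
  · rintro ⟨x, rfl⟩; exact hab x
  · haveI := h2
    have e1 : (LinearMap.range b).restrictScalars R = LinearMap.range (v.restrictScalars R) := by
      rw [← hv]; rfl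
    exact Module.Flat.of_linearEquiv
      ((Submodule.Quotient.restrictScalarsEquiv R (LinearMap.range b)).symm.trans (Submodule.quotEquivOfEq _ _ e1))



/-- Let R and S be Noetherian local rings, R → S a local ring map, and m the maximal ideal of R. Take a
bounded complex F_e → … → F_1 → F_0 of finitely generated S-modules, zero to the left of F_e (a
chain complex C with C_j = 0 for j > e) such that every F_j is flat over R and the complex 0 →
F_e/mF_e → … → F_0/mF_0 (C tensored over S with S/mS) is exact at F_e, …, F_1. Then 0 → F_e → … →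
F_0 is exact at F_e, …, F_1 and the cokernel of F_1 → F_0 (the homology of C in degree 0) is flat
over R. -/
theorem result {R S : Type u} [CommRing R] [CommRing S]
    [IsLocalRing R] [IsLocalRing S] [IsNoetherianRing R] [IsNoetherianRing S] [Algebra R S]
    [IsLocalHom (algebraMap R S)] (C : ChainComplex (ModuleCat.{u} S) ℕ) (e : ℕ)
    (hzero : ∀ j, e < j → Limits.IsZero (C.X j)) (hfin : ∀ j, Module.Finite S (C.X j))
    (hflat : ∀ j, Module.Flat R ((ModuleCat.restrictScalars (algebraMap R S)).obj (C.X j)))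
    (hex : ∀ j, 1 ≤ j → j ≤ e →
      (((MonoidalCategory.tensorLeft
          (ModuleCat.of S (S ⧸ (IsLocalRing.maximalIdeal R).map (algebraMap R S)))).mapHomologicalComplex
          (ComplexShape.down ℕ)).obj C).ExactAt j) :
    (∀ j, 1 ≤ j → j ≤ e → C.ExactAt j) ∧
      Module.Flat R ((ModuleCat.restrictScalars (algebraMap R S)).obj (C.homology 0)) := by
  letI : ∀ j, Module R (C.X j) := fun j => Module.compHom (C.X j) (algebraMap R S)
  haveI : ∀ j, IsScalarTower R S (C.X j) := fun j => IsScalarTower.of_algebraMap_smul fun _ _ => rfl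
  haveI : ∀ j, Module.Flat R (C.X j) := hflat
  haveI := hfin
  have key : ∀ k : ℕ, Function.Exact (C.d (k+2) (k+1)).hom (C.d (k+1) k).hom ∧
      Module.Flat R (C.X k ⧸ LinearMap.range (C.d (k+1) k).hom) := by
    intro k
    refine step (C.d (k+2) (k+1)).hom (C.d (k+1) k).hom
      (fun x => ConcreteCategory.congr_hom (C.d_comp_d (k+2) (k+1) k) x) ?_
    rcases le_or_gt (k+1) e with hk | hk
    · have h := hex (k+1) (by omega) hk
      rw [HomologicalComplex.exactAt_iff' _ (k+2) (k+1) k (by simp) (by simp)] at h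
      exact (ShortComplex.ShortExact.moduleCat_exact_iff_function_exact _).1 h
    · haveI := ModuleCat.subsingleton_of_isZero (hzero _ hk)
      exact fun w => ⟨fun _ => ⟨0, Subsingleton.elim _ _⟩, fun _ => by
        rw [Subsingleton.elim w 0, map_zero]⟩
  refine ⟨fun j hj _ => ?_, ?_⟩
  · obtain ⟨k, rfl⟩ : ∃ k, j = k + 1 := ⟨j - 1, by omega⟩
    rw [HomologicalComplex.exactAt_iff' _ (k+2) (k+1) k (by simp) (by simp)]
    exact (ShortComplex.ShortExact.moduleCat_exact_iff_function_exact _).2 (key k).1
  · let E := Groth.FlatCxBase.homologyEquivQuot C (i := 1) (j := 0) (k := 0)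
      ((ComplexShape.down ℕ).prev_eq' rfl) (by simp)
    have hd : ∀ x, x ∈ LinearMap.ker (C.d 0 0).hom := fun x => by
      rw [C.shape 0 0 (by simp)]; rfl
    let π : C.X 0 →ₗ[S] C.homology 0 := E.toLinearMap ∘ₗ Submodule.mkQ _ ∘ₗ (LinearMap.id.codRestrict _ hd)
    have hπ : Function.Surjective π := by
      intro z
      obtain ⟨⟨x, hx⟩, hx'⟩ := Submodule.mkQ_surjective _ (E.symm z)
      exact ⟨x, (congrArg E hx').trans (E.apply_symm_apply z)⟩
    have hker : LinearMap.range (C.d 1 0).hom = LinearMap.ker π := by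
      ext x
      rw [LinearMap.mem_ker]
      show _ ↔ E (Submodule.Quotient.mk _) = 0
      rw [LinearEquiv.map_eq_zero_iff, Submodule.Quotient.mk_eq_zero]
      rfl
    let e0 := (Submodule.quotEquivOfEq _ _ hker).trans (π.quotKerEquivOfSurjective hπ)
    haveI := (key 0).2
    letI : Module R (C.homology 0) := Module.compHom _ (algebraMap R S)
    haveI : IsScalarTower R S (C.homology 0) := IsScalarTower.of_algebraMap_smul fun _ _ => rfl
    exact Module.Flat.of_linearEquiv (e0.restrictScalars R).symm

end Groth.Agent.S6387
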