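import Groth.Statements.S6390
import Mathlib
import Groth.Agent.Kaplansky.Devissage

set_option autoImplicit false
universe u
open scoped Classical
open CAlg

namespace Groth.Agent.S6390

/-- An R-module M is a direct sum of countably generated modules if and only if it admits a Kaplansky
dévissage, i.e. an increasing family of submodules (M_s) indexed by a well-ordered set S with M_s =
⋃_{t<s} M_t at non-successor indices (so the first term is 0), ⋃_s M_s = M, and, whenever t is the
successor of s, M_s a direct summand of M_t with M_t/M_s countably generated. -/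
theorem result (R : Type u) [CommRing R] (M : Type u)
    [AddCommGroup M] [Module R M] :
    (∃ (ι : Type u) (N : ι → Submodule R M), DirectSum.IsInternal N ∧ ∀ i, CAlg.IsCountablyGenerated R (N i)) ↔
      ∃ (S : Type u) (_ : LinearOrder S) (_ : WellFoundedLT S) (Mf : S → Submodule R M), Monotone Mf ∧
        (∀ s : S, Order.IsSuccPrelimit s → Mf s = ⨆ t : {t : S // t < s}, Mf t.1) ∧
        (⨆ s, Mf s) = ⊤ ∧
        (∀ s t : S, s ⋖ t → ∃ C : Submodule R M, Mf s ⊓ C = ⊥ ∧ Mf s ⊔ C = Mf t ∧
          CAlg.IsCountablyGenerated R (↥(Mf t) ⧸ Submodule.comap (Mf t).subtype (Mf s))) := by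
  classical
  constructor
  · rintro ⟨ι, N, hN, hc⟩
    rw [DirectSum.isInternal_submodule_iff_iSupIndep_and_iSup_eq_top] at hN
    obtain ⟨o, ho⟩ : ∃ o : LinearOrder ι, @WellFoundedLT ι o.toLT :=
      ⟨IsWellOrder.linearOrder WellOrderingRel, ⟨(IsWellFounded.wf : WellFounded (@WellOrderingRel ι))⟩⟩
    letI := o
    haveI := ho
    let Mf : WithTop ι → Submodule R M := fun s => ⨆ i : {i : ι // (i : WithTop ι) < s}, N i.1
    refine ⟨WithTop ι, inferInstance, inferInstance, Mf,
      fun s t hst => iSup_le fun i => le_iSup (fun j : {j : ι // (j : WithTop ι) < t} => N j.1) ⟨i.1, i.2.trans_le hst⟩,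
      fun s hs => ?_, ?_, fun s t hst => ?_⟩
    · refine le_antisymm (iSup_le fun i => ?_) (iSup_le fun t => iSup_le fun i =>
        le_iSup (fun j : {j : ι // (j : WithTop ι) < s} => N j.1) ⟨i.1, i.2.trans t.2⟩)
      have hnc : ¬ (i.1 : WithTop ι) ⋖ s := hs _
      obtain ⟨t, hit, hts⟩ : ∃ t, (i.1 : WithTop ι) < t ∧ t < s := exists_lt_lt_of_not_covBy i.2 hnc
      exact le_trans (le_iSup (fun j : {j : ι // (j : WithTop ι) < t} => N j.1) ⟨i.1, hit⟩)
        (le_iSup (fun t : {t : WithTop ι // t < s} => Mf t.1) ⟨t, hts⟩)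
    · rw [eq_top_iff, ← hN.2]
      exact iSup_le fun i => le_trans
        (le_iSup (fun j : {j : ι // (j : WithTop ι) < ⊤} => N j.1) ⟨i, WithTop.coe_lt_top i⟩) (le_iSup Mf ⊤)
    · obtain ⟨i, rfl⟩ : ∃ i : ι, (i : WithTop ι) = s := WithTop.ne_top_iff_exists.1 hst.lt.ne_top
      have hinf : Mf i ⊓ N i = ⊥ := by
        refine le_bot_iff.1 (le_trans (inf_le_inf_right _ (?_ : Mf i ≤ ⨆ j, ⨆ _ : j ≠ i, N j))
          (le_of_eq ((hN.1 i).eq_bot ▸ inf_comm _ _)))
        exact iSup_le fun j => le_iSup₂_of_le j.1 (WithTop.coe_lt_coe.1 j.2).ne le_rfl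
      have hsup : Mf i ⊔ N i = Mf t := by
        refine le_antisymm (sup_le (iSup_le fun j => le_iSup (fun l : {l : ι // (l : WithTop ι) < t} => N l.1)
            ⟨j.1, j.2.trans hst.lt⟩) (le_iSup (fun l : {l : ι // (l : WithTop ι) < t} => N l.1) ⟨i, hst.lt⟩)) ?_
        refine iSup_le fun j => ?_
        rcases lt_trichotomy (j.1 : WithTop ι) i with h | h | h
        · exact le_trans (le_iSup (fun l : {l : ι // (l : WithTop ι) < i} => N l.1) ⟨j.1, h⟩) le_sup_left
        · rw [WithTop.coe_eq_coe.1 h]; exact le_sup_right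
        · exact absurd j.2 (hst.2 h)
      refine ⟨N i, hinf, hsup, ?_⟩
      obtain ⟨u, hu, hu'⟩ := hc i
      refine ⟨(Groth.Kaplansky.complEquiv hinf hsup : N i → _) '' u, hu.image _, ?_⟩
      erw [← LinearMap.coe_coe, Submodule.span_image, hu', Submodule.map_top, LinearMap.range_eq_top]
      exact (Groth.Kaplansky.complEquiv hinf hsup).surjective
  · rintro ⟨S, _, _, Mf, hmono, hlim, htop, hsucc⟩
    choose C hinf hsup hcg using fun p : {p : S × S // p.1 ⋖ p.2} => hsucc p.1.1 p.1.2 p.2
    refine ⟨_, C, by convert Groth.Kaplansky.isInternal_complements Mf hmono hlim htop C hinf hsup, fun p => ?_⟩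
    obtain ⟨u, hu, hu'⟩ := hcg p
    let e := (Groth.Kaplansky.complEquiv (hinf p) (hsup p)).symm
    refine ⟨(e : _ → C p) '' u, hu.image _, ?_⟩
    erw [← LinearMap.coe_coe, Submodule.span_image, hu', Submodule.map_top, LinearMap.range_eq_top]
    exact e.surjective

end Groth.Agent.S6390
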