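import Groth.Statements.S6391
import Mathlib
import Groth.Agent.EtaleDeep.IndEt.Lift
import Groth.Agent.Hensel1.Local

set_option autoImplicit false
universe u
open CAlg

namespace Groth.Agent.S6391

open IsLocalRing

theorem existsUnique_map (R S T K : Type u) [CommRing R]
    [CommRing S] [CommRing T] [Field K] [HenselianLocalRing T]
    [Algebra R S] [Algebra R T] [Algebra R K] (hS : EtPBC.IsIndEtale R S)
    (u : S →ₐ[R] K) (u' : T →ₐ[R] K) (hu' : Function.Surjective u')
    (hku' : RingHom.ker u'.toRingHom = maximalIdeal T) :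
    ∃! φ : S →ₐ[R] T, u'.comp φ = u := by
  obtain ⟨H⟩ := Groth.EtaleDeep.IndEt.isIndEtale_iff.1 hS
  let e : ResidueField T ≃ₐ[R] K :=
    (Ideal.quotientEquivAlgOfEq R hku'.symm).trans (Ideal.quotientKerAlgEquivOfSurjective hu')
  have he : ∀ t, e (residue T t) = u' t := fun t => rfl
  haveI : ∀ j, Algebra.Etale R (H.G j) := H.prop
  have hl : ∀ j, ∃! f : H.G j →ₐ[R] T, u'.comp f = u.comp (H.g j) := by
    intro j
    obtain ⟨f, hf, hun⟩ := Groth.Hensel1.existsUnique_algHom_lift_residue (T := T)
      (e.symm.toAlgHom.comp (u.comp (H.g j)))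
    refine ⟨f, AlgHom.ext fun a => ?_, fun f' hf' => hun f' fun a => ?_⟩
    · show u' (f a) = u (H.g j a)
      rw [← he, hf a]
      exact e.apply_symm_apply _
    · refine e.injective ?_
      rw [he]
      exact (AlgHom.congr_fun hf' a).trans (e.apply_symm_apply _).symm
  choose f hf hun using hl
  obtain ⟨φ, hφ⟩ := Groth.EtaleDeep.IndEt.exists_desc (A := R) H.g H.g_f H.surj H.eq f
    (fun {i j} v x => AlgHom.congr_fun (hun i ((f j).comp (H.f v)) (by
      show u'.comp ((f j).comp (H.f v)) = u.comp (H.g i)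
      rw [← AlgHom.comp_assoc, show u'.comp (f j) = _ from hf j, AlgHom.comp_assoc, H.g_comp_f])) x)
  refine ⟨φ, AlgHom.ext fun s => ?_, fun φ' hφ' => AlgHom.ext fun s => ?_⟩
  · obtain ⟨j, x, rfl⟩ := H.surj s
    show u' (φ (H.g j x)) = _
    rw [hφ]
    exact AlgHom.congr_fun (hf j) x
  · obtain ⟨j, x, rfl⟩ := H.surj s
    rw [hφ]
    exact AlgHom.congr_fun (hun j (φ'.comp (H.g j)) (show u'.comp (φ'.comp (H.g j)) = u.comp (H.g j) by rw [← AlgHom.comp_assoc, hφ'])) x



/-- Let R be a ring, S and S' henselian local rings which are filtered colimits of étale R-algebras, and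
K a field together with R-algebra maps S → K and S' → K identifying K with the residue field of each
(surjective with kernel the maximal ideal). Then exactly one isomorphism of R-algebras S → S'
commutes with the two maps to K. -/
theorem result (R S S' K : Type u) [CommRing R]
    [CommRing S] [CommRing S'] [Field K] [HenselianLocalRing S] [HenselianLocalRing S']
    [Algebra R S] [Algebra R S'] [Algebra R K] (hS : EtPBC.IsIndEtale R S) (hS' : EtPBC.IsIndEtale R S')
    (u : S →ₐ[R] K) (u' : S' →ₐ[R] K) (hu : Function.Surjective u) (hu' : Function.Surjective u')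
    (hku : RingHom.ker u.toRingHom = IsLocalRing.maximalIdeal S)
    (hku' : RingHom.ker u'.toRingHom = IsLocalRing.maximalIdeal S') :
    ∃! e : S ≃ₐ[R] S', u'.comp (e : S →ₐ[R] S') = u := by
  obtain ⟨φ, hφ, hun⟩ := existsUnique_map R S S' K hS u u' hu' hku'
  obtain ⟨ψ, hψ, -⟩ := existsUnique_map R S' S K hS' u' u hu hku
  have h1 : ψ.comp φ = AlgHom.id R S :=
    (existsUnique_map R S S K hS u u hu hku).unique (by rw [← AlgHom.comp_assoc, hψ, hφ]) (AlgHom.comp_id u)
  have h2 : φ.comp ψ = AlgHom.id R S' :=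
    (existsUnique_map R S' S' K hS' u' u' hu' hku').unique (by rw [← AlgHom.comp_assoc, hφ, hψ]) (AlgHom.comp_id u')
  refine ⟨AlgEquiv.ofAlgHom φ ψ h2 h1, hφ, fun e he => ?_⟩
  exact AlgEquiv.ext fun s => AlgHom.congr_fun (hun _ he) s

end Groth.Agent.S6391
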