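import Groth.Statements.S6392
import Mathlib
import Groth.Agent.S6357

set_option autoImplicit false
universe u
open CAlg

namespace Groth.Agent.S6392

/-- Suppose M is the colimit of finitely presented R-modules G_i along a directed system over a nonempty
directed index set (transition maps f_ij), and M is both Mittag-Leffler and countably generated.
Then some countable directed subset I' of the indices already computes M: the canonical map from the
colimit of the G_i with i ∈ I' to M is bijective. -/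
theorem result (R : Type u) [CommRing R]
    {ι : Type u} [Preorder ι] [IsDirected ι (· ≤ ·)] [Nonempty ι] [DecidableEq ι] (G : ι → Type u)
    [∀ i, AddCommGroup (G i)] [∀ i, Module R (G i)] [∀ i, Module.FinitePresentation R (G i)]
    (f : ∀ i j, i ≤ j → G i →ₗ[R] G j) [DirectedSystem G fun i j h => f i j h]
    (hML : CAlg.IsMittagLeffler R (Module.DirectLimit G f))
    (hc : CAlg.IsCountablyGenerated R (Module.DirectLimit G f)) :
    ∃ I' : Set ι, I'.Countable ∧ DirectedOn (· ≤ ·) I' ∧
      Function.Bijective (Module.DirectLimit.lift R I' (fun i : I' => G i.1)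
        (fun (i j : I') (h : i ≤ j) => f i.1 j.1 h)
        (fun i : I' => Module.DirectLimit.of R ι G f i.1)
        (fun (i j : I') (h : i ≤ j) (x : G i.1) => Module.DirectLimit.of_f)) := by
  classical
  have hk : ∀ i, ∃ k, ∃ hik : i ≤ k, ∀ x : G i, Module.DirectLimit.of R ι G f i x = 0 → f i k hik x = 0 := by
    intro i
    obtain ⟨j, hij, hj⟩ := (Groth.Agent.S6357.result R G f).1 hML i
    refine ⟨j, hij, fun x hx => ?_⟩
    obtain ⟨l, hil, hl⟩ := Module.DirectLimit.of.zero_exact hx
    obtain ⟨h, hh⟩ := hj l hil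
    rw [hh, LinearMap.comp_apply, hl, map_zero]
  choose k hik hker using hk
  obtain ⟨s, hs, hspan⟩ := hc
  obtain ⟨σ, hσ⟩ := (hs.insert 0).exists_eq_range (Set.insert_nonempty _ _)
  choose p y hy using fun n => Module.DirectLimit.exists_of (σ n)
  choose ub hub1 hub2 using fun a b : ι => exists_ge_ge a b
  let c : ℕ → ι := fun n => Nat.rec (p 0) (fun n c => ub (k c) (ub (p n) c)) n
  have hck : ∀ n, k (c n) ≤ c (n + 1) := fun n => hub1 _ _
  have hcp : ∀ n, p n ≤ c (n + 1) := fun n => (hub1 _ _).trans (hub2 _ _)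
  have hcc : ∀ n, c n ≤ c (n + 1) := fun n => (hub2 _ _).trans (hub2 _ _)
  have hmono : Monotone c := monotone_nat_of_le_succ hcc
  let I' : Set ι := Set.range c
  have hdir : DirectedOn (· ≤ ·) I' := by
    rintro _ ⟨a, rfl⟩ _ ⟨b, rfl⟩
    exact ⟨c (max a b), ⟨_, rfl⟩, hmono (le_max_left _ _), hmono (le_max_right _ _)⟩
  refine ⟨I', Set.countable_range c, hdir, ?_, ?_⟩
  · haveI : Nonempty I' := ⟨⟨c 0, 0, rfl⟩⟩
    haveI : IsDirectedOrder I' := ⟨fun a b => by
      obtain ⟨z, hz, h1, h2⟩ := hdir a a.2 b b.2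
      exact ⟨⟨z, hz⟩, h1, h2⟩⟩
    haveI : DirectedSystem (fun i : I' => G i.1) (fun i j h => f i.1 j.1 h) :=
      ⟨fun i x => DirectedSystem.map_self (f := fun i j h => f i j h) x,
        fun {_ _ _} h h' x => DirectedSystem.map_map (f := fun i j h => f i j h) h h' x⟩
    rw [injective_iff_map_eq_zero]
    intro z hz
    obtain ⟨⟨_, n, rfl⟩, x, rfl⟩ := Module.DirectLimit.exists_of z
    rw [Module.DirectLimit.lift_of] at hz
    have h0 : f (c n) (c (n + 1)) (hcc n) x = 0 := by
      rw [← DirectedSystem.map_map (f := fun i j h => f i j h) (hik (c n)) (hck n) x]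
      show f _ _ _ (f _ _ _ x) = 0
      rw [hker (c n) x hz, map_zero]
    rw [← Module.DirectLimit.of_f (i := (⟨c n, n, rfl⟩ : I')) (j := ⟨c (n+1), n+1, rfl⟩) (hij := hcc n)]
    rw [h0, map_zero]
  · rw [← LinearMap.range_eq_top, eq_top_iff, ← hspan, Submodule.span_le]
    intro m hm
    obtain ⟨n, rfl⟩ : m ∈ Set.range σ := hσ ▸ Set.mem_insert_of_mem _ hm
    refine ⟨Module.DirectLimit.of R I' (fun i : I' => G i.1) (fun i j h => f i.1 j.1 h) ⟨c (n+1), n+1, rfl⟩
      (f (p n) (c (n+1)) (hcp n) (y n)), ?_⟩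
    rw [Module.DirectLimit.lift_of, Module.DirectLimit.of_f, hy]

end Groth.Agent.S6392
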