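import Groth.Statements.S6399
import Groth.Agent.CategoryFibred.Functors

set_option autoImplicit false
open CategoryTheory
universe v u
open FibCat

namespace Groth.Agent.S6399
set_option backward.isDefEq.respectTransparency false
set_option backward.isDefEq.respectTransparency.types false


/-- A functor `G : 𝒳 ⟶ 𝒴` over `C` between categories fibred in groupoids is fully faithful if and only
if the diagonal `𝒳 ⟶ 𝒳 ×_𝒴 𝒳` is an equivalence over `C`. -/
theorem result {C : Type u} [Category.{v} C] {𝒳 𝒴 : BasedCategory.{v, max u v} C} (G : 𝒳 ⥤ᵇ 𝒴) (h𝒳 : FibCat.IsFibGrpd 𝒳.p) (h𝒴 : FibCat.IsFibGrpd 𝒴.p) :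
    (G.toFunctor.Full ∧ G.toFunctor.Faithful) ↔ FibCat.IsEquivOver (FibCat.diag G) := by
  have := Groth.CatFib.isFibered_of_isFibGrpd h𝒳
  have hp := Groth.CatFib.preservesStronglyCartesian_of_isFibGrpd G h𝒴
  constructor
  · rintro ⟨_, _⟩
    refine Groth.StkBase.isEquivOver_of_fullyFaithful _ ⟨fun {x y} φ => ?_⟩ ⟨fun {x y} φ ψ h => ?_⟩ (fun y => ?_)
    · refine ⟨φ.hom.fst, Groth.CatFib.fp_hom_ext rfl ?_⟩
      apply G.toFunctor.map_injective
      have w := φ.hom.w
      change G.toFunctor.map φ.hom.fst ≫ 𝟙 _ = 𝟙 _ ≫ G.toFunctor.map φ.hom.snd at w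
      rw [Category.comp_id, Category.id_comp] at w
      exact w
    · exact congrArg (fun k => k.hom.fst) h
    · let j := G.toFunctor.preimageIso y.obj.iso
      refine ⟨y.obj.fst, Groth.StkBase.fpObjIso (Iso.refl _) j ?_, Groth.StkBase.isVert_id _⟩
      change G.toFunctor.map (𝟙 _) ≫ y.obj.iso.hom = 𝟙 _ ≫ G.toFunctor.map j.hom
      simp [j]
  · intro h
    have := Groth.CatFib.isEquivalence_of_isEquivOver h
    have hfaith : G.toFunctor.Faithful := by
      refine ⟨fun {a b} φ ψ e => ?_⟩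
      let k : (FibCat.diag G).toFunctor.obj a ⟶ (FibCat.diag G).toFunctor.obj b :=
        Groth.CatFib.fpHom φ ψ (by
          change G.toFunctor.map φ ≫ 𝟙 _ = 𝟙 _ ≫ G.toFunctor.map ψ
          simp [e])
      obtain ⟨θ, hθ⟩ := (FibCat.diag G).toFunctor.map_surjective k
      exact (congrArg (fun k => k.hom.fst) hθ).symm.trans (congrArg (fun k => k.hom.snd) hθ)
    refine ⟨Groth.CatFib.full_of_fiber G hp fun U => ⟨fun {a b} t => ?_⟩, hfaith⟩
    have ht : 𝒴.p.IsHomLift (𝟙 U) t.1 := t.2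
    have := Groth.CatFib.isIso_of_isHomLift_id (R := U) h𝒴 t.1
    let y : (FibCat.fp G G).obj := ⟨⟨a.1, b.1, asIso t.1⟩, by show 𝒴.p.IsHomLift (𝟙 (𝒳.p.obj a.1)) t.1; rw [a.2]; exact ht⟩
    obtain ⟨z, e, he⟩ := Groth.CatFib.exists_iso_of_isEquivOver h y
    let a' := (FibCat.fpFst G G).toFunctor.mapIso e
    let b' := (FibCat.fpSnd G G).toFunctor.mapIso e
    have w : G.toFunctor.map a'.hom ≫ t.1 = G.toFunctor.map b'.hom :=
      e.hom.hom.w.trans (Category.id_comp _)
    have e1 : G.toFunctor.map (a'.inv ≫ b'.hom) = t.1 := by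
      rw [Functor.map_comp, ← w, ← Category.assoc, ← G.toFunctor.map_comp, a'.inv_hom_id]
      simp [y]
    refine ⟨⟨a'.inv ≫ b'.hom, ?_⟩, Subtype.ext e1⟩
    rw [← BasedFunctor.isHomLift_iff G, e1]
    exact ht

end Groth.Agent.S6399
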