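import Groth.Statements.S6401
import Groth.Agent.CategoryFibred.Fp

set_option autoImplicit false
open CategoryTheory
universe v u
open FibCat

namespace Groth.Agent.S6401

/-- For categories `𝒳, 𝒴, 𝒮` fibred in groupoids over `C` and functors `F : 𝒳 ⟶ 𝒮`, `G : 𝒴 ⟶ 𝒮` over
`C`, the 2-fibre product `𝒳 ×_𝒮 𝒴` over `C` is fibred in groupoids over `C`. -/
theorem result {C : Type u} [Category.{v} C] {𝒳 𝒴 𝒮 : BasedCategory.{v, max u v} C} (F : 𝒳 ⥤ᵇ 𝒮) (G : 𝒴 ⥤ᵇ 𝒮) (h𝒳 : FibCat.IsFibGrpd 𝒳.p) (h𝒴 : FibCat.IsFibGrpd 𝒴.p) (h𝒮 : FibCat.IsFibGrpd 𝒮.p) :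
    FibCat.IsFibGrpd (FibCat.fp F G).p := by
  exact Groth.CatFib.isFibGrpd_fp h𝒳 h𝒴 h𝒮

end Groth.Agent.S6401
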