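import Groth.Statements.S6402
import Groth.Agent.CategoryFibred.Functors

set_option autoImplicit false
open CategoryTheory
universe v u
open FibCat

namespace Groth.Agent.S6402
set_option backward.isDefEq.respectTransparency false
set_option backward.isDefEq.respectTransparency.types false


/-- For a functor `F : 𝒳 ⟶ 𝒴` of fibred categories over `C` preserving strongly cartesian morphisms, the
relative inertia `I_{𝒳/𝒴}` (pairs `(x, α)` with `α` an automorphism of `x` sent to the identity by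
`F`) is equivalent over `C` to `𝒳 ×_{Δ, 𝒳 ×_𝒴 𝒳, Δ} 𝒳`, by a functor over `C` whose composite with
either projection is the forgetful functor `(x, α) ↦ x`. (Only the two projections of the
equivalence are pinned here; its 2-cell component at `(x, α)` is `(α, 𝟙)`.) -/
theorem result {C : Type u} [Category.{v} C] {𝒳 𝒴 : BasedCategory.{v, max u v} C} [𝒳.p.IsFibered] [𝒴.p.IsFibered] (F : 𝒳 ⥤ᵇ 𝒴) (hF : FibCat.PreservesStronglyCartesian F) :
    ∃ E : FibCat.inertia F ⥤ᵇ FibCat.fp (FibCat.diag F) (FibCat.diag F),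
      FibCat.IsEquivOver E ∧ BasedFunctor.comp E (FibCat.fpFst _ _) = FibCat.inertiaToBase F ∧
        BasedFunctor.comp E (FibCat.fpSnd _ _) = FibCat.inertiaToBase F := by
  let e : BasedFunctor.comp (FibCat.inertiaToBase F) (FibCat.diag F) ≅ BasedFunctor.comp (FibCat.inertiaToBase F) (FibCat.diag F) :=
    Groth.StkBase.isoMk
      (fun x => Groth.StkBase.fpObjIso x.aut (Iso.refl _) (by
        change F.toFunctor.map x.aut.hom ≫ 𝟙 _ = 𝟙 _ ≫ F.toFunctor.map (𝟙 _)
        simp [x.map_aut]))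
      (fun {a b} φ => Groth.CatFib.fp_hom_ext φ.comm.symm (by
        change φ.hom ≫ 𝟙 _ = 𝟙 _ ≫ φ.hom
        simp))
      (fun x => Groth.CatFib.inertia_aut_isVert F x)
  refine ⟨FibCat.fpLift (FibCat.inertiaToBase F) (FibCat.inertiaToBase F) e, ?_, rfl, rfl⟩
  refine Groth.StkBase.isEquivOver_of_fullyFaithful _ ⟨fun {x y} φ => ?_⟩ ⟨fun {x y} φ ψ h => ?_⟩ (fun y => ?_)
  · have e1 : φ.hom.fst ≫ y.aut.hom = x.aut.hom ≫ φ.hom.snd := congrArg (fun k => k.hom.fst) φ.hom.w
    have e2 : φ.hom.fst ≫ 𝟙 y.pt = 𝟙 x.pt ≫ φ.hom.snd := congrArg (fun k => k.hom.snd) φ.hom.w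
    have e3 : φ.hom.fst = φ.hom.snd := (Category.comp_id _).symm.trans (e2.trans (Category.id_comp _))
    exact ⟨⟨φ.hom.fst, by rw [e1, e3]⟩,
      Groth.CatFib.fp_hom_ext rfl e3⟩
  · exact FibCat.InertiaObj.hom_ext (congrArg (fun k => k.hom.fst) h)
  · let j : (FibCat.diag F).toFunctor.obj y.obj.fst ≅ (FibCat.diag F).toFunctor.obj y.obj.snd := y.obj.iso
    let j1 : y.obj.fst ≅ y.obj.snd := (FibCat.fpFst F F).toFunctor.mapIso j
    let j2 : y.obj.fst ≅ y.obj.snd := (FibCat.fpSnd F F).toFunctor.mapIso j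
    have hw : F.toFunctor.map j1.hom ≫ 𝟙 (F.toFunctor.obj y.obj.snd) = 𝟙 (F.toFunctor.obj y.obj.fst) ≫ F.toFunctor.map j2.hom :=
      j.hom.hom.w
    rw [Category.comp_id, Category.id_comp] at hw
    let x : (FibCat.inertia F).obj := ⟨y.obj.fst, j1 ≪≫ j2.symm, by
      change F.toFunctor.map (j1.hom ≫ j2.inv) = _
      rw [Functor.map_comp, hw, ← Functor.map_comp, j2.hom_inv_id, F.toFunctor.map_id]⟩
    refine ⟨x, Groth.StkBase.fpObjIso (Iso.refl _) j2 ?_, Groth.StkBase.isVert_id y.obj.fst⟩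
    apply Groth.CatFib.fp_hom_ext
    · change 𝟙 _ ≫ j1.hom = (j1.hom ≫ j2.inv) ≫ j2.hom
      simp
    · change 𝟙 _ ≫ j2.hom = 𝟙 _ ≫ j2.hom
      rfl

end Groth.Agent.S6402
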