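import Groth.Statements.S6405
import Groth.Agent.CategoryFibred.Functors

set_option autoImplicit false
open CategoryTheory
universe v u
open FibCat

namespace Groth.Agent.S6405
set_option backward.isDefEq.respectTransparency false
set_option backward.isDefEq.respectTransparency.types false


/-- (2) ⇒ (1): if `𝒳` is fibred in groupoids over `C` and the canonical functor `I_𝒳 ⟶ 𝒳` from its
inertia is an equivalence over `C`, then `𝒳` is fibred in setoids. (The published statement is an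
equivalence; this row states only that the inertia condition implies that `𝒳` is fibred in setoids.) -/
theorem result {C : Type u} [Category.{v} C] {𝒳 : BasedCategory.{v, max u v} C} (h𝒳 : FibCat.IsFibGrpd 𝒳.p)
    (h : FibCat.IsEquivOver (FibCat.inertiaToBase (FibCat.toSelf 𝒳))) : FibCat.IsFibSetoid 𝒳.p := by
  have := (Groth.CatFib.isEquivalence_of_isEquivOver h)
  have aut_eq : ∀ (a : 𝒳.obj) (θ : a ≅ a), 𝒳.p.IsHomLift (𝟙 (𝒳.p.obj a)) θ.hom → θ.hom = 𝟙 a := by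
    intro a θ hθ
    have h1 : (FibCat.toSelf 𝒳).toFunctor.map θ.hom = 𝟙 _ :=
      (IsHomLift.eq_of_isHomLift 𝒳.p (𝟙 (𝒳.p.obj a)) θ.hom).symm
    let I : (FibCat.inertia (FibCat.toSelf 𝒳)).obj := ⟨a, θ, h1⟩
    let J : (FibCat.inertia (FibCat.toSelf 𝒳)).obj := (FibCat.inertiaNeutral (FibCat.toSelf 𝒳)).toFunctor.obj a
    obtain ⟨φ, hφ⟩ := (FibCat.inertiaToBase (FibCat.toSelf 𝒳)).toFunctor.map_surjective (X := I) (Y := J) (𝟙 a)
    have hc := φ.comm
    change φ.hom = 𝟙 a at hφ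
    rw [hφ] at hc
    change θ.hom ≫ 𝟙 a = 𝟙 a ≫ 𝟙 a at hc
    simpa using hc
  refine ⟨h𝒳, fun U a b => ⟨fun φ ψ => ?_⟩⟩
  have hφ : 𝒳.p.IsHomLift (𝟙 U) φ.1 := φ.2
  have hψ : 𝒳.p.IsHomLift (𝟙 U) ψ.1 := ψ.2
  have := Groth.CatFib.isIso_of_isHomLift_id (R := U) h𝒳 φ.1
  have := Groth.CatFib.isIso_of_isHomLift_id (R := U) h𝒳 ψ.1
  have hl : 𝒳.p.IsHomLift (𝟙 U) (φ.1 ≫ inv ψ.1) := inferInstance
  have := aut_eq a.1 (asIso φ.1 ≪≫ (asIso ψ.1).symm) (by rw [a.2]; exact hl)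
  apply Subtype.ext
  simpa using congrArg (· ≫ ψ.1) this

end Groth.Agent.S6405
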