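import Groth.Statements.S6407
import Groth.Agent.CategoryFibred.Functors

set_option autoImplicit false
open CategoryTheory
universe v u
open FibCat

namespace Groth.Agent.S6407
set_option backward.isDefEq.respectTransparency false
set_option backward.isDefEq.respectTransparency.types false


/-- For categories `𝒳, 𝒴` fibred in setoids over `C` and functors `f, g : 𝒳 ⟶ 𝒴` over `C` that agree on
isomorphism classes of objects of each fibre category, there is a unique 2-isomorphism `f ≅ g` over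
`C`. -/
theorem result {C : Type u} [Category.{v} C] {𝒳 𝒴 : BasedCategory.{v, max u v} C} (h𝒳 : FibCat.IsFibSetoid 𝒳.p) (h𝒴 : FibCat.IsFibSetoid 𝒴.p) (f g : 𝒳 ⥤ᵇ 𝒴)
    (hfg : ∀ (U : C) (x : 𝒳.p.Fiber U), Nonempty ((FibCat.fiberFunctor f U).obj x ≅ (FibCat.fiberFunctor g U).obj x)) :
    Nonempty (Unique (f ≅ g)) := by
  have thin : ∀ {a b : 𝒴.obj} (U : C) (φ ψ : a ⟶ b), 𝒴.p.IsHomLift (𝟙 U) φ → 𝒴.p.IsHomLift (𝟙 U) ψ → φ = ψ := by
    intro a b U φ ψ h1 h2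
    exact congrArg Subtype.val ((h𝒴.2 U ⟨a, IsHomLift.domain_eq 𝒴.p (𝟙 U) φ⟩ ⟨b, IsHomLift.codomain_eq 𝒴.p (𝟙 U) φ⟩).elim ⟨φ, h1⟩ ⟨ψ, h2⟩)
  have he : ∀ a : 𝒳.obj, ∃ c : f.toFunctor.obj a ≅ g.toFunctor.obj a, 𝒴.p.IsHomLift (𝟙 (𝒳.p.obj a)) c.hom := by
    intro a
    obtain ⟨i⟩ := hfg (𝒳.p.obj a) ⟨a, rfl⟩
    exact ⟨Functor.Fiber.fiberInclusion.mapIso i, i.hom.2⟩
  choose c hc using he
  let α : f ≅ g := BasedNatIso.mkNatIso (NatIso.ofComponents c (fun {a b} φ => by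
      have := hc a
      have := hc b
      have l1 : 𝒴.p.IsHomLift (𝒳.p.map φ) (f.toFunctor.map φ) := BasedFunctor.preserves_isHomLift f _ φ
      have l2 : 𝒴.p.IsHomLift (𝒳.p.map φ) (g.toFunctor.map φ) := BasedFunctor.preserves_isHomLift g _ φ
      have := Groth.CatFib.stronglyCartesian_of_isHomLift h𝒴.1 (𝒳.p.map φ) (g.toFunctor.map φ)
      let χ := Functor.IsCartesian.map 𝒴.p (𝒳.p.map φ) (g.toFunctor.map φ) (f.toFunctor.map φ ≫ (c b).hom)
      have e : χ = (c a).hom := thin (𝒳.p.obj a) χ _ inferInstance (hc a)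
      rw [← e]
      exact (Functor.IsCartesian.fac 𝒴.p (𝒳.p.map φ) (g.toFunctor.map φ) _).symm)) hc
  refine ⟨{ default := α, uniq := fun β => ?_ }⟩
  apply Iso.ext
  apply BasedNatTrans.homCategory.ext
  apply NatTrans.ext
  funext a
  exact thin (𝒳.p.obj a) _ _ (β.hom.isHomLift' a) (α.hom.isHomLift' a)

end Groth.Agent.S6407
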