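import Groth.Statements.S6408
import Groth.Agent.CategoryFibred.Fiberwise

set_option autoImplicit false
open CategoryTheory
universe v u
open FibCat

namespace Groth.Agent.S6408
set_option backward.isDefEq.respectTransparency false
set_option backward.isDefEq.respectTransparency.types false


/-- Between categories fibred in sets over `C` the only 2-morphisms over `C` are identities. -/
theorem result {C : Type u} [Category.{v} C] {𝒳 𝒴 : BasedCategory.{v, max u v} C} (h𝒳 : FibCat.IsFibSet 𝒳.p) (h𝒴 : FibCat.IsFibSet 𝒴.p) {F G : 𝒳 ⥤ᵇ 𝒴} (α : F ⟶ G) :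
    ∃ h : F = G, α = eqToHom h := by
  have hobj : ∀ a, F.toFunctor.obj a = G.toFunctor.obj a ∧
      ∃ h : F.toFunctor.obj a = G.toFunctor.obj a, α.toNatTrans.app a = eqToHom h := by
    intro a
    let A : 𝒴.p.Fiber (𝒳.p.obj a) := ⟨F.toFunctor.obj a, F.w_obj a⟩
    let B : 𝒴.p.Fiber (𝒳.p.obj a) := ⟨G.toFunctor.obj a, G.w_obj a⟩
    let φ : A ⟶ B := ⟨α.toNatTrans.app a, α.isHomLift' a⟩
    have e : A = B := (h𝒴.2 _).eq_of_hom φ
    have e' : φ = eqToHom e := ((h𝒴.2 _).subsingleton A B).elim _ _
    refine ⟨congrArg Subtype.val e, congrArg Subtype.val e, ?_⟩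
    have : α.toNatTrans.app a = Functor.Fiber.fiberInclusion.map (eqToHom e) := congrArg Subtype.val e'
    rw [this, eqToHom_map]
  have heq : F = G := by
    have hF : F.toFunctor = G.toFunctor := by
      refine Functor.ext (fun a => (hobj a).1) (fun a b f => ?_)
      obtain ⟨-, ha, ea⟩ := hobj a
      obtain ⟨-, hb, eb⟩ := hobj b
      have := α.toNatTrans.naturality f
      rw [ea, eb] at this
      exact (comp_eqToHom_iff hb _ _).1 this |>.trans (by simp)
    cases F; cases G; cases hF; rfl
  subst heq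
  refine ⟨rfl, BasedNatTrans.homCategory.ext _ _ (NatTrans.ext (funext fun a => ?_))⟩
  obtain ⟨-, ha, ea⟩ := hobj a
  rw [ea]
  rfl

end Groth.Agent.S6408
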