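import Groth.Statements.S6410
import Groth.Agent.CategoryFibred.Eval

set_option autoImplicit false
open CategoryTheory
universe v u
open FibCat

namespace Groth.Agent.S6410

/-- For `𝒳` fibred over `C`, evaluation at `𝟙_U` restricted to the functors `C/U ⟶ 𝒳` over `C` that
preserve strongly cartesian morphisms is an equivalence of categories onto the fibre category `𝒳_U`. -/
theorem result {C : Type u} [Category.{v} C] {𝒳 : BasedCategory.{v, max u v} C} [𝒳.p.IsFibered] (U : C) :
    ((ObjectProperty.ι (FibCat.PreservesStronglyCartesian (𝒳 := FibCat.overCat U) (𝒴 := 𝒳))) ⋙ FibCat.evalAtId 𝒳 U).IsEquivalence := by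
  exact Groth.CatFib.eval_isEquivalence

end Groth.Agent.S6410
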