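import Groth.Statements.S6413
import Groth.Agent.CategoryFibred.Functors

set_option autoImplicit false
open CategoryTheory
universe v u
open FibCat

namespace Groth.Agent.S6413
set_option backward.isDefEq.respectTransparency false
set_option backward.isDefEq.respectTransparency.types false


/-- For `𝒳, 𝒴` fibred in groupoids over `C` and `F : 𝒳 ⟶ 𝒴` over `C`, the projection `𝒳 ×_{F, 𝒴, id} 𝒴 ⟶
𝒴` is a category fibred in groupoids over `𝒴`. -/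
theorem result {C : Type u} [Category.{v} C] {𝒳 𝒴 : BasedCategory.{v, max u v} C} (h𝒳 : FibCat.IsFibGrpd 𝒳.p) (h𝒴 : FibCat.IsFibGrpd 𝒴.p) (F : 𝒳 ⥤ᵇ 𝒴) :
    FibCat.IsFibGrpd (FibCat.fpSnd F (BasedFunctor.id 𝒴)).toFunctor := by
  refine Groth.CatFib.isFibGrpd_functor_of_lift (Groth.CatFib.isFibGrpd_fp h𝒳 h𝒴 h𝒴) h𝒴 _ ?_
  intro x y g
  let f : 𝒴.p.obj y ⟶ 𝒳.p.obj x.obj.fst := 𝒴.p.map g ≫ eqToHom (Groth.CatFib.fp_obj_snd x)
  have hg : 𝒴.p.IsHomLift f g :=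
    inferInstanceAs (𝒴.p.IsHomLift (𝒴.p.map g ≫ eqToHom (Groth.CatFib.fp_obj_snd x)) g)
  obtain ⟨a, α, hα⟩ := h𝒳.exists_lift (x := x.obj.fst) f
  have := Groth.CatFib.stronglyCartesian_of_isHomLift h𝒴 f (F.toFunctor.map α)
  have := Groth.CatFib.stronglyCartesian_of_isHomLift h𝒴 f ((BasedFunctor.id 𝒴).toFunctor.map g)
  obtain ⟨x', φ, h₁, h₂, e1, e2⟩ := Groth.CatFib.exists_fp_lift (G := BasedFunctor.id 𝒴) f x α g
  subst h₂
  rw [eqToHom_refl, Category.id_comp] at e2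
  exact ⟨x', φ, e2 ▸ IsHomLift.map (FibCat.fpSnd F (BasedFunctor.id 𝒴)).toFunctor φ⟩

end Groth.Agent.S6413
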