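import Groth.Statements.S6417


set_option autoImplicit false
open CategoryTheory CategoryTheory.Limits
universe v₁ u₁ v₂ u₂
open FibCat

namespace Groth.Agent.S6417

/-- For `p : 𝒮 ⥤ C`, a strongly cartesian `φ : x ⟶ y`, any `ψ : z ⟶ y`, and a strongly cartesian `a : w
⟶ z` lying over the second projection of `p x ×_{p y} p z`, the object `w` is a fibre product `x ×_y
z`: there is `b : w ⟶ x` over the first projection with `(b, a)` a pullback square. -/
theorem result {𝒮 : Type u₁} [Category.{v₁} 𝒮] {C : Type u₂} [Category.{v₂} C] (p : 𝒮 ⥤ C) {x y z w : 𝒮} (φ : x ⟶ y) (ψ : z ⟶ y)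
    [p.IsStronglyCartesian (p.map φ) φ] [HasPullback (p.map φ) (p.map ψ)] (a : w ⟶ z)
    [p.IsStronglyCartesian (pullback.snd (p.map φ) (p.map ψ)) a] :
    ∃ b : w ⟶ x, p.IsHomLift (pullback.fst (p.map φ) (p.map ψ)) b ∧ IsPullback b a φ ψ := by
  have : p.IsHomLift (pullback.fst (p.map φ) (p.map ψ) ≫ p.map φ) (a ≫ ψ) := by
    rw [pullback.condition]; infer_instance
  obtain ⟨b, ⟨hb, hbc⟩, hbu⟩ := Functor.IsStronglyCartesian.universal_property p (p.map φ) φ
    (pullback.fst (p.map φ) (p.map ψ)) _ rfl (a ≫ ψ)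
  refine ⟨b, hb, ⟨⟨hbc⟩, ⟨PullbackCone.IsLimit.mk hbc ?_ ?_ ?_ ?_⟩⟩⟩
  · intro s
    exact Functor.IsStronglyCartesian.map p (pullback.snd (p.map φ) (p.map ψ)) a
      (g := pullback.lift (p.map s.fst) (p.map s.snd) (by rw [← p.map_comp, ← p.map_comp, s.condition]))
      (f' := p.map s.snd) (pullback.lift_snd _ _ _).symm s.snd
  · intro s
    set g := pullback.lift (f := p.map φ) (g := p.map ψ) (p.map s.fst) (p.map s.snd)
      (by rw [← p.map_comp, ← p.map_comp, s.condition]) with hg
    have h1 : p.IsHomLift (g ≫ pullback.fst (p.map φ) (p.map ψ))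
        (Functor.IsStronglyCartesian.map p (pullback.snd (p.map φ) (p.map ψ)) a (g := g)
          (f' := p.map s.snd) (pullback.lift_snd _ _ _).symm s.snd ≫ b) := inferInstance
    rw [show g ≫ pullback.fst (p.map φ) (p.map ψ) = p.map s.fst from pullback.lift_fst _ _ _] at h1
    apply Functor.IsStronglyCartesian.ext p (p.map φ) φ (p.map s.fst)
    rw [Category.assoc, hbc, Functor.IsStronglyCartesian.fac_assoc, s.condition]
  · intro s
    exact Functor.IsStronglyCartesian.fac p (pullback.snd (p.map φ) (p.map ψ)) a (f' := p.map s.snd) (pullback.lift_snd _ _ _).symm s.snd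
  · intro s m hm1 hm2
    have hw : p.obj w = pullback (p.map φ) (p.map ψ) :=
      IsHomLift.domain_eq p (pullback.snd (p.map φ) (p.map ψ)) a
    let g' : p.obj s.pt ⟶ pullback (p.map φ) (p.map ψ) := p.map m ≫ eqToHom hw
    have hlift : p.IsHomLift g' m := inferInstanceAs (p.IsHomLift (p.map m ≫ eqToHom hw) m)
    have e1 : g' ≫ pullback.fst (p.map φ) (p.map ψ) = p.map s.fst := by
      have h : p.IsHomLift (g' ≫ pullback.fst (p.map φ) (p.map ψ)) (m ≫ b) := inferInstance
      rw [hm1] at h
      exact IsHomLift.eq_of_isHomLift p _ s.fst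
    have e2 : g' ≫ pullback.snd (p.map φ) (p.map ψ) = p.map s.snd := by
      have h : p.IsHomLift (g' ≫ pullback.snd (p.map φ) (p.map ψ)) (m ≫ a) := inferInstance
      rw [hm2] at h
      exact IsHomLift.eq_of_isHomLift p _ s.snd
    have hg : g' = pullback.lift (p.map s.fst) (p.map s.snd) (by rw [← p.map_comp, ← p.map_comp, s.condition]) :=
      pullback.hom_ext (e1.trans (pullback.lift_fst _ _ _).symm) (e2.trans (pullback.lift_snd _ _ _).symm)
    rw [hg] at hlift
    exact Functor.IsStronglyCartesian.map_uniq p (pullback.snd (p.map φ) (p.map ψ)) a _ s.snd m hm2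

end Groth.Agent.S6417
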