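import Groth.Statements.S6423
import Groth.Agent.CategoryFibred.FiniteLimitsBuild

set_option autoImplicit false
open CategoryTheory CategoryTheory.Limits
universe v u
open CatLim

namespace Groth.Agent.S6423

/-- (2) ⇒ (1): a category with equalizers and fibre products has all finite connected limits. -/
theorem result {C : Type u} [Category.{v} C] [HasEqualizers C] [HasPullbacks C]
    (J : Type) [SmallCategory J] [FinCategory J] [IsConnected J] : HasLimitsOfShape J C := by
  exact ⟨fun F => Groth.CatFib.hasLimit_of_pullbacks F⟩

end Groth.Agent.S6423
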