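import Mathlib.CategoryTheory.Limits.Types.Colimits
import Mathlib.CategoryTheory.Limits.Preserves.Shapes.BinaryProducts
import Mathlib.CategoryTheory.Limits.Types.Products
import Mathlib.CategoryTheory.Limits.FunctorCategory.Basic
import Groth.Statements.S6425


set_option autoImplicit false
open CategoryTheory CategoryTheory.Limits
universe v
open CatLim

namespace Groth.Agent.S6425

/-- Over an index category in which any two objects map to a common object, the comparison map `colim (M
× N) → colim M × colim N` for diagrams of sets is surjective. -/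
theorem result {I : Type v} [SmallCategory I]
    (hI : ∀ x y : I, ∃ (z : I) (_ : x ⟶ z) (_ : y ⟶ z), True) (M N : I ⥤ Type v) :
    Function.Surjective (prodComparison (colim : (I ⥤ Type v) ⥤ Type v) M N) := by
  intro p
  obtain ⟨i, a, ha⟩ := Limits.Types.jointly_surjective'
    ((prod.fst : colim.obj M ⨯ colim.obj N ⟶ colim.obj M) p)
  obtain ⟨j, b, hb⟩ := Limits.Types.jointly_surjective'
    ((prod.snd : colim.obj M ⨯ colim.obj N ⟶ colim.obj N) p)
  obtain ⟨z, f, g, -⟩ := hI i j
  let e := PreservesLimitPair.iso ((evaluation I (Type v)).obj z) M N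
  obtain ⟨q, hq1, hq2⟩ : ∃ q : (M ⨯ N).obj z, (prod.fst : M ⨯ N ⟶ M).app z q = M.map f a ∧
      (prod.snd : M ⨯ N ⟶ N).app z q = N.map g b := by
    refine ⟨e.inv ((Limits.Types.binaryProductIso _ _).inv (M.map f a, N.map g b)), ?_, ?_⟩
    · exact (ConcreteCategory.congr_hom (PreservesLimitPair.iso_inv_fst ((evaluation I (Type v)).obj z) M N) _).trans
        (Limits.Types.binaryProductIso_inv_comp_fst_apply _ _ (M.map f a, N.map g b))
    · exact (ConcreteCategory.congr_hom (PreservesLimitPair.iso_inv_snd ((evaluation I (Type v)).obj z) M N) _).trans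
        (Limits.Types.binaryProductIso_inv_comp_snd_apply _ _ (M.map f a, N.map g b))
  refine ⟨colimit.ι (M ⨯ N) z q, ?_⟩
  have e1 : (prod.fst : colim.obj M ⨯ colim.obj N ⟶ _) (prodComparison colim M N (colimit.ι (M ⨯ N) z q)) =
      (prod.fst : colim.obj M ⨯ colim.obj N ⟶ _) p := by
    refine (ConcreteCategory.congr_hom (prodComparison_fst colim M N) _).trans ?_
    refine (ConcreteCategory.congr_hom (ι_colimMap (prod.fst : M ⨯ N ⟶ M) z) q).trans ?_
    exact (congrArg (colimit.ι M z) hq1).trans ((Limits.Types.Colimit.w_apply _).trans ha)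
  have e2 : (prod.snd : colim.obj M ⨯ colim.obj N ⟶ _) (prodComparison colim M N (colimit.ι (M ⨯ N) z q)) =
      (prod.snd : colim.obj M ⨯ colim.obj N ⟶ _) p := by
    refine (ConcreteCategory.congr_hom (prodComparison_snd colim M N) _).trans ?_
    refine (ConcreteCategory.congr_hom (ι_colimMap (prod.snd : M ⨯ N ⟶ N) z) q).trans ?_
    exact (congrArg (colimit.ι N z) hq2).trans ((Limits.Types.Colimit.w_apply _).trans hb)
  apply (Limits.Types.binaryProductIso _ _).toEquiv.injective
  refine Prod.ext ?_ ?_
  · exact (Limits.Types.binaryProductIso_hom_comp_fst_apply _ _ _).trans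
      (e1.trans (Limits.Types.binaryProductIso_hom_comp_fst_apply _ _ _).symm)
  · exact (Limits.Types.binaryProductIso_hom_comp_snd_apply _ _ _).trans
      (e2.trans (Limits.Types.binaryProductIso_hom_comp_snd_apply _ _ _).symm)

end Groth.Agent.S6425
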