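import Groth.Statements.S6426


set_option autoImplicit false
open CategoryTheory CategoryTheory.Limits
universe v
open CatLim

namespace Groth.Agent.S6426

/-- Over a nonempty index category in which any two objects map to a common object, the set-theoretic
colimit of a diagram of abelian groups surjects onto its colimit in abelian groups. (The published
statement does not require the index category to be nonempty; this row assumes it, because for the
empty index category the colimit of sets is empty while the colimit of abelian groups is the zero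
group.) -/
theorem result {I : Type v} [SmallCategory I] [Nonempty I]
    (hI : ∀ x y : I, ∃ (z : I) (_ : x ⟶ z) (_ : y ⟶ z), True) (M : I ⥤ AddCommGrpCat.{v}) :
    Function.Surjective (colimit.post M (forget AddCommGrpCat.{v})) := by
  have h1 : ∀ (i : I) (m : M.obj i),
      colimit.post M (forget AddCommGrpCat.{v}) (colimit.ι (M ⋙ forget AddCommGrpCat.{v}) i m) =
        colimit.ι M i m := fun i m => ConcreteCategory.congr_hom (colimit.ι_post M (forget AddCommGrpCat.{v}) i) m
  let S : AddSubgroup ↑(colimit M) :=
    { carrier := {x | ∃ (i : I) (m : M.obj i), colimit.ι M i m = x}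
      zero_mem' := ⟨Classical.arbitrary I, 0, map_zero (colimit.ι M (Classical.arbitrary I)).hom⟩
      neg_mem' := fun {x} ⟨i, m, hm⟩ => ⟨i, -m, by rw [← hm]; exact map_neg (colimit.ι M i).hom m⟩
      add_mem' := fun {x y} ⟨i, m, hm⟩ ⟨j, n, hn⟩ => by
        obtain ⟨z, f, g, -⟩ := hI i j
        refine ⟨z, M.map f m + M.map g n, ?_⟩
        rw [← hm, ← hn]
        refine (map_add (colimit.ι M z).hom _ _).trans ?_
        rw [← colimit.w M f, ← colimit.w M g]
        rfl }
  have hS : AddCommGrpCat.ofHom (QuotientAddGroup.mk' S) = 0 := by
    refine colimit.hom_ext fun i => ?_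
    rw [comp_zero]
    ext m
    exact (QuotientAddGroup.eq_zero_iff _).2 ⟨i, m, rfl⟩
  intro x
  obtain ⟨i, m, hm⟩ : (show ↑(colimit M) from x) ∈ S :=
    (QuotientAddGroup.eq_zero_iff _).1 (ConcreteCategory.congr_hom hS x)
  exact ⟨colimit.ι (M ⋙ forget AddCommGrpCat.{v}) i m, (h1 i m).trans hm⟩

end Groth.Agent.S6426
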