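import Groth.Statements.S6427


set_option autoImplicit false
open CategoryTheory CategoryTheory.Limits
universe v
open CatLim

namespace Groth.Agent.S6427

/-- Over an index category in which every pair of morphisms with common source can be completed to a
commutative square, colimits of sets preserve injective morphisms of diagrams. -/
theorem result {I : Type v} [SmallCategory I]
    (hI : ∀ ⦃x y z : I⦄ (f : x ⟶ y) (g : x ⟶ z), ∃ (w : I) (f' : y ⟶ w) (g' : z ⟶ w), f ≫ f' = g ≫ g')
    {M N : I ⥤ Type v} (φ : M ⟶ N) (hφ : ∀ i, Function.Injective (φ.app i)) :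
    Function.Injective (colimMap φ) := by
  intro p p' hpp'
  obtain ⟨i, a, rfl⟩ := Limits.Types.jointly_surjective' p
  obtain ⟨j, b, rfl⟩ := Limits.Types.jointly_surjective' p'
  have h1 : colimit.ι N i (φ.app i a) = colimit.ι N j (φ.app j b) :=
    (ConcreteCategory.congr_hom (ι_colimMap φ i) a).symm.trans
      (hpp'.trans (ConcreteCategory.congr_hom (ι_colimMap φ j) b))
  let R : (Σ k, N.obj k) → (Σ k, N.obj k) → Prop := fun x y =>
    ∃ (w : I) (f : x.1 ⟶ w) (g : y.1 ⟶ w), N.map f x.2 = N.map g y.2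
  have hR : Equivalence R := by
    refine ⟨fun x => ⟨x.1, 𝟙 _, 𝟙 _, rfl⟩, fun {x y} ⟨w, f, g, e⟩ => ⟨w, g, f, e.symm⟩, ?_⟩
    rintro x y z ⟨w, f, g, e⟩ ⟨w', f', g', e'⟩
    obtain ⟨u, a', b', hab⟩ := hI g f'
    refine ⟨u, f ≫ a', g' ≫ b', ?_⟩
    simp only [Functor.map_comp_apply, e, ← e']
    simp only [← Functor.map_comp_apply, hab]
  have h2 := Relation.EqvGen.mono (p := R) (fun x y ⟨f, hf⟩ => ⟨y.1, f, 𝟙 _, by simpa using hf.symm⟩)
    _ _ (Limits.Types.colimit_eq h1)
  rw [hR.eqvGen_iff] at h2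
  obtain ⟨w, f, g, e⟩ := h2
  have e' : M.map f a = M.map g b := hφ w (by
    rw [NatTrans.naturality_apply, NatTrans.naturality_apply]; exact e)
  exact ((Limits.Types.Colimit.w_apply f).symm.trans (congrArg (colimit.ι M w) e')).trans (Limits.Types.Colimit.w_apply g)

end Groth.Agent.S6427
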