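import Groth.Statements.S6428
import Mathlib.CategoryTheory.Limits.Final

set_option autoImplicit false
open CategoryTheory CategoryTheory.Limits
universe v₁ u₁ v₂ u₂ v₃ u₃
open CatLim

namespace Groth.Agent.S6428

/-- If `F : I ⥤ I'` has connected fibre categories and is surjective on morphisms, then for every
diagram `M : I' ⥤ C` the colimit of `F ⋙ M` exists if and only if that of `M` does, and the
canonical comparison between them is then an isomorphism. -/
theorem result {I : Type u₁} [Category.{v₁} I] {I' : Type u₂} [Category.{v₂} I'] {C : Type u₃} [Category.{v₃} C] (F : I ⥤ I')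
    (h1 : ∀ x' : I', IsConnected (F.Fiber x'))
    (h2 : ∀ ⦃x' y' : I'⦄ (α' : x' ⟶ y'), ∃ (x y : I) (hx : F.obj x = x') (hy : F.obj y = y') (α : x ⟶ y), F.map α = eqToHom hx ≫ α' ≫ eqToHom hy.symm)
    (M : I' ⥤ C) :
    (HasColimit (F ⋙ M) ↔ HasColimit M) ∧ ∀ [HasColimit (F ⋙ M)] [HasColimit M], IsIso (colimit.pre M F) := by
  have : F.Final := by
    refine ⟨fun d => ?_⟩
    obtain ⟨⟨x₀, hx₀⟩⟩ : Nonempty (F.Fiber d) := have := h1 d; inferInstance
    have : Nonempty (StructuredArrow d F) := ⟨StructuredArrow.mk (eqToHom hx₀.symm)⟩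
    refine zigzag_isConnected ?_
    have fib : ∀ (e : I') (g : d ⟶ e) (a b : F.Fiber e),
        Zigzag (StructuredArrow.mk (Y := a.1) (g ≫ eqToHom a.2.symm))
          (StructuredArrow.mk (Y := b.1) (g ≫ eqToHom b.2.symm)) := by
      intro e g a b
      have := h1 e
      let Φ : F.Fiber e ⥤ StructuredArrow d F :=
        { obj := fun c => StructuredArrow.mk (Y := c.1) (g ≫ eqToHom c.2.symm)
          map := fun {c c'} φ => StructuredArrow.homMk φ.1 (by
            have := φ.2
            simp [IsHomLift.fac' F (𝟙 e) φ.1])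
          map_id := fun c => StructuredArrow.ext _ _ rfl
          map_comp := fun φ ψ => StructuredArrow.ext _ _ rfl }
      exact zigzag_obj_of_zigzag Φ (isPreconnected_zigzag a b)
    suffices ∀ X : StructuredArrow d F, Zigzag X (StructuredArrow.mk (Y := x₀) (eqToHom hx₀.symm)) from
      fun X Y => (this X).trans (this Y).symm
    intro X
    obtain ⟨x, f, rfl⟩ := X.mk_surjective
    obtain ⟨x₁, y₁, hx, hy, α, hα⟩ := h2 f
    have z1 : Zigzag (StructuredArrow.mk f) (StructuredArrow.mk (Y := y₁) (f ≫ eqToHom hy.symm)) := by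
      have := fib (F.obj x) f ⟨x, rfl⟩ ⟨y₁, hy⟩
      simpa using this
    have z2 : Zigzag (StructuredArrow.mk (Y := x₁) (eqToHom hx.symm)) (StructuredArrow.mk (Y := y₁) (f ≫ eqToHom hy.symm)) :=
      Zigzag.of_hom (StructuredArrow.homMk α (by simp [hα]))
    have z3 : Zigzag (StructuredArrow.mk (Y := x₁) (eqToHom hx.symm)) (StructuredArrow.mk (Y := x₀) (eqToHom hx₀.symm)) := by
      simpa using fib d (𝟙 d) ⟨x₁, hx⟩ ⟨x₀, hx₀⟩
    exact z1.trans (z2.symm.trans z3)
  exact ⟨Functor.Final.hasColimit_comp_iff F, fun {_ _} => Functor.Final.colimit_pre_isIso F⟩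

end Groth.Agent.S6428
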