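import Groth.Statements.S6430
import Groth.Agent.CategoryFibred.Basic

set_option autoImplicit false
open CategoryTheory
universe v₂ u₂ v u
open FibCat

namespace Groth.Agent.S6430
set_option backward.isDefEq.respectTransparency false
set_option backward.isDefEq.respectTransparency.types false


lemma scart_self {C : Type u} [Category.{v} C] {𝒮 : Type u₂} [Category.{v₂} 𝒮] (p : 𝒮 ⥤ C) {R S : C}
    {a b : 𝒮} (f : R ⟶ S) (φ : a ⟶ b) [h : p.IsStronglyCartesian f φ] :
    p.IsStronglyCartesian (p.map φ) φ := by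
  subst_hom_lift p f φ
  exact h

lemma lift_cartSub {C : Type u} [Category.{v} C] {𝒮 : Type u₂} [Category.{v₂} 𝒮] (p : 𝒮 ⥤ C) {R S : C}
    {a b : FibCat.cartSub p} (f : R ⟶ S) (φ : a ⟶ b) (h : p.IsHomLift f φ.1) :
    (FibCat.cartSubProj p).IsHomLift f φ := by
  subst_hom_lift p f φ.1
  exact IsHomLift.map (FibCat.cartSubProj p) φ

/-- For a fibred category `p : 𝒮 ⥤ C`, the wide subcategory of `𝒮` on the strongly cartesian morphisms
is fibred in groupoids over `C`. -/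
theorem result {C : Type u} [Category.{v} C] {𝒮 : Type u₂} [Category.{v₂} 𝒮] (p : 𝒮 ⥤ C) [p.IsFibered] :
    FibCat.IsFibGrpd (FibCat.cartSubProj p) := by
  refine ⟨fun {x V} f => ?_, fun {y x} φ => ?_⟩
  · obtain ⟨b, ψ, hψ⟩ := IsPreFibered.exists_isCartesian p (rfl : p.obj x.obj = _) f
    have h : p.IsStronglyCartesian (p.map ψ) ψ := scart_self p f ψ
    let x' : FibCat.cartSub p := ⟨b⟩
    let ψ' : x' ⟶ x := ⟨ψ, h⟩
    exact ⟨x', ψ', lift_cartSub p f ψ' (inferInstanceAs (p.IsHomLift f ψ))⟩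
  · have hφ : p.IsStronglyCartesian (p.map φ.1) φ.1 := φ.2
    refine { universal_property' := fun {z} g ψ hψ => ?_ }
    have hψ' : p.IsHomLift (g ≫ p.map φ.1) ψ.1 := by
      have e : g ≫ p.map φ.1 = p.map ψ.1 :=
        IsHomLift.eq_of_isHomLift (FibCat.cartSubProj p) (g ≫ (FibCat.cartSubProj p).map φ) ψ
      rw [e]; exact IsHomLift.map p ψ.1
    obtain ⟨χ, ⟨hχ, hc⟩, hu⟩ := Functor.IsStronglyCartesian.universal_property p (p.map φ.1) φ.1 g _ rfl ψ.1
    have e' : g = p.map χ := IsHomLift.eq_of_isHomLift p g χ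
    have hχs : p.IsStronglyCartesian (p.map χ) χ := by
      have : p.IsStronglyCartesian (p.map χ ≫ p.map φ.1) (χ ≫ φ.1) := by
        rw [← Functor.map_comp, hc]; exact ψ.2
      exact Functor.IsStronglyCartesian.of_comp p (f := p.map χ) (g := p.map φ.1) (ψ := φ.1)
    let χ' : z ⟶ y := ⟨χ, hχs⟩
    refine ⟨χ', ⟨e' ▸ IsHomLift.map (FibCat.cartSubProj p) χ', WideSubcategory.hom_ext (FibCat.cartMor p) hc⟩, ?_⟩
    rintro τ ⟨hτ, hτ'⟩
    refine WideSubcategory.hom_ext (FibCat.cartMor p) (hu τ.1 ⟨?_, congrArg (fun k => k.1) hτ'⟩)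
    have e2 : g = p.map τ.1 := IsHomLift.eq_of_isHomLift (FibCat.cartSubProj p) g τ
    rw [e2]; exact IsHomLift.map p τ.1

end Groth.Agent.S6430
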