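import Groth.Statements.S6437
import Groth.Agent.S12219
import Mathlib.CategoryTheory.Limits.Types.Colimits
import Mathlib.CategoryTheory.Limits.Types.Limits
import Mathlib.CategoryTheory.Limits.FunctorCategory.Basic
import Mathlib.Data.Fintype.Sigma
import Mathlib.Data.Fintype.Prod

set_option autoImplicit false
open CategoryTheory CategoryTheory.Limits
universe v
open CatLim

namespace Groth.Agent.S6437
universe w in
private lemma eq_at {I : Type v} [SmallCategory I]
    (h1 : ∀ ⦃w x y : I⦄ (a : w ⟶ x) (b : w ⟶ y), ∃ (z : I) (c : x ⟶ z) (d : y ⟶ z), a ≫ c = b ≫ d)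
    (h2 : ∀ ⦃x y : I⦄ (a b : x ⟶ y), ∃ (z : I) (c : y ⟶ z), a ≫ c = b ≫ c)
    (M : I ⥤ Type v) {i : I} (a b : M.obj i) (h : colimit.ι M i a = colimit.ι M i b) :
    ∃ (k : I) (u : i ⟶ k), M.map u a = M.map u b := by
  let R : (Σ k, M.obj k) → (Σ k, M.obj k) → Prop := fun x y =>
    ∃ (w : I) (f : x.1 ⟶ w) (g : y.1 ⟶ w), M.map f x.2 = M.map g y.2
  have hR : Equivalence R := by
    refine ⟨fun x => ⟨x.1, 𝟙 _, 𝟙 _, rfl⟩, fun {x y} ⟨w, f, g, e⟩ => ⟨w, g, f, e.symm⟩, ?_⟩
    rintro x y z ⟨w, f, g, e⟩ ⟨w', f', g', e'⟩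
    obtain ⟨u, a', b', hab⟩ := h1 g f'
    refine ⟨u, f ≫ a', g' ≫ b', ?_⟩
    simp only [Functor.map_comp_apply, e, ← e']
    simp only [← Functor.map_comp_apply, hab]
  have h3 := Relation.EqvGen.mono (p := R) (fun x y ⟨f, hf⟩ => ⟨y.1, f, 𝟙 _, by simpa using hf.symm⟩)
    _ _ (Limits.Types.colimit_eq h)
  rw [hR.eqvGen_iff] at h3
  obtain ⟨w, f, g, e⟩ := h3
  dsimp at f g e
  obtain ⟨k, c, hc⟩ := h2 f g
  refine ⟨k, f ≫ c, ?_⟩
  conv_rhs => rw [hc]
  simp only [Functor.map_comp_apply, e]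

private lemma eqs_at {I : Type v} [SmallCategory I]
    (h1 : ∀ ⦃w x y : I⦄ (a : w ⟶ x) (b : w ⟶ y), ∃ (z : I) (c : x ⟶ z) (d : y ⟶ z), a ≫ c = b ≫ d)
    (h2 : ∀ ⦃x y : I⦄ (a b : x ⟶ y), ∃ (z : I) (c : y ⟶ z), a ≫ c = b ≫ c)
    {κ : Type} [Fintype κ] (M : κ → (I ⥤ Type v)) {i : I} (a b : ∀ t, (M t).obj i)
    (h : ∀ t, colimit.ι (M t) i (a t) = colimit.ι (M t) i (b t)) :
    ∃ (k : I) (u : i ⟶ k), ∀ t, (M t).map u (a t) = (M t).map u (b t) := by
  classical
  suffices ∀ F : Finset κ, ∃ (k : I) (u : i ⟶ k), ∀ t ∈ F, (M t).map u (a t) = (M t).map u (b t) by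
    obtain ⟨k, u, hu⟩ := this Finset.univ
    exact ⟨k, u, fun t => hu t (Finset.mem_univ t)⟩
  intro F
  induction F using Finset.induction with
  | empty => exact ⟨i, 𝟙 i, by simp⟩
  | @insert t F _ ih =>
    obtain ⟨k, u, hu⟩ := ih
    have he : colimit.ι (M t) k ((M t).map u (a t)) = colimit.ι (M t) k ((M t).map u (b t)) := by
      rw [Limits.Types.Colimit.w_apply, Limits.Types.Colimit.w_apply]; exact h t
    obtain ⟨k', u', hu'⟩ := eq_at h1 h2 (M t) _ _ he
    refine ⟨k', u ≫ u', fun s hs => ?_⟩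
    rcases Finset.mem_insert.1 hs with rfl | hs
    · simpa only [Functor.map_comp_apply] using hu'
    · simp only [Functor.map_comp_apply, hu s hs]

private lemma exists_upper {I : Type v} [SmallCategory I]
    (h1 : ∀ ⦃w x y : I⦄ (a : w ⟶ x) (b : w ⟶ y), ∃ (z : I) (c : x ⟶ z) (d : y ⟶ z), a ≫ c = b ≫ d)
    {κ : Type} [Fintype κ] (f : κ → I) (x₀ : I) (h : ∀ t, Zigzag x₀ (f t)) :
    ∃ w : I, Nonempty (x₀ ⟶ w) ∧ ∀ t, Nonempty (f t ⟶ w) := by
  classical
  suffices ∀ F : Finset κ, ∃ w : I, Nonempty (x₀ ⟶ w) ∧ ∀ t ∈ F, Nonempty (f t ⟶ w) by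
    obtain ⟨w, hw, hf⟩ := this Finset.univ
    exact ⟨w, hw, fun t => hf t (Finset.mem_univ t)⟩
  intro F
  induction F using Finset.induction with
  | empty => exact ⟨x₀, ⟨𝟙 _⟩, by simp⟩
  | @insert t F _ ih =>
    obtain ⟨w, ⟨a⟩, hF⟩ := ih
    obtain ⟨z, ⟨b⟩, ⟨c⟩⟩ := (Groth.Agent.S12219.result (fun x y z f g => h1 f g) w (f t)).1
      ((Zigzag.of_inv a).trans (h t))
    refine ⟨z, ⟨a ≫ b⟩, fun s hs => ?_⟩
    rcases Finset.mem_insert.1 hs with rfl | hs
    · exact ⟨c⟩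
    · exact ⟨(hF s hs).some ≫ b⟩

private lemma zigzag_of_eq {I : Type v} [SmallCategory I] (M : I ⥤ Type v) {i j : I} (a : M.obj i)
    (b : M.obj j) (h : colimit.ι M i a = colimit.ι M j b) : Zigzag i j := by
  have h3 := Relation.EqvGen.mono (p := fun x y : Σ k, M.obj k => Zigzag x.1 y.1)
    (fun x y ⟨f, _⟩ => Zigzag.of_hom f) _ _ (Limits.Types.colimit_eq h)
  rwa [(Equivalence.mk (fun _ => Relation.ReflTransGen.refl) (fun h => h.symm)
    (fun h h' => h.trans h') : Equivalence (fun x y : Σ k, M.obj k => Zigzag x.1 y.1)).eqvGen_iff] at h3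

/-- Over an index category in which spans can be completed to commutative squares and parallel pairs can
be coequalized (a disjoint union of filtered categories), colimits of sets commute with finite
connected limits. -/
theorem result {I : Type v} [SmallCategory I]
    (h1 : ∀ ⦃w x y : I⦄ (a : w ⟶ x) (b : w ⟶ y), ∃ (z : I) (c : x ⟶ z) (d : y ⟶ z), a ≫ c = b ≫ d)
    (h2 : ∀ ⦃x y : I⦄ (a b : x ⟶ y), ∃ (z : I) (c : y ⟶ z), a ≫ c = b ≫ c)
    (J : Type) [SmallCategory J] [FinCategory J] [IsConnected J] :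
    PreservesLimitsOfShape J (colim : (I ⥤ Type v) ⥤ Type v) := by
  refine ⟨fun {F} => ⟨fun {c} hc => ?_⟩⟩
  rw [Limits.Types.isLimit_iff]
  intro s hs
  let π : ∀ j, c.pt ⟶ F.obj j := c.π.app
  have hev : ∀ w : I, IsLimit (((evaluation I (Type v)).obj w).mapCone c) := fun w =>
    isLimitOfPreserves _ hc
  have rep : ∀ j, ∃ (i : I) (a : (F.obj j).obj i), colimit.ι (F.obj j) i a = s j :=
    fun j => Limits.Types.jointly_surjective' (s j)
  choose i a ha using rep
  have hmap : ∀ {j k : J} (u : j ⟶ k) (w : I) (x : (F.obj j).obj w),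
      (colim.map (F.map u)) (colimit.ι (F.obj j) w x) = colimit.ι (F.obj k) w ((F.map u).app w x) :=
    fun u w x => ConcreteCategory.congr_hom (ι_colimMap (F.map u) w) x
  have hπ : ∀ (j : J) (w : I) (x : c.pt.obj w),
      (colim.map (π j)) (colimit.ι c.pt w x) = colimit.ι (F.obj j) w ((π j).app w x) :=
    fun j w x => ConcreteCategory.congr_hom (ι_colimMap (π j) w) x
  obtain ⟨j₀⟩ : Nonempty J := inferInstance
  have hz : ∀ j, Zigzag (i j₀) (i j) := by
    refine induct_on_objects {j | Zigzag (i j₀) (i j)} Relation.ReflTransGen.refl fun {j k} u => ?_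
    have he : colimit.ι (F.obj k) (i j) ((F.map u).app (i j) (a j)) = colimit.ι (F.obj k) (i k) (a k) := by
      rw [← hmap, ha, ha]; exact hs u
    have z := zigzag_of_eq _ _ _ he
    exact ⟨fun h => h.trans z, fun h => h.trans z.symm⟩
  obtain ⟨w, -, hw⟩ := exists_upper h1 i (i j₀) hz
  let b : ∀ j, (F.obj j).obj w := fun j => (F.obj j).map (hw j).some (a j)
  have hb : ∀ j, colimit.ι (F.obj j) w (b j) = s j := fun j => by
    simp only [b, Limits.Types.Colimit.w_apply, ha]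
  have : Fintype (Σ p : J × J, p.1 ⟶ p.2) := inferInstance
  obtain ⟨k, u, hu⟩ := eqs_at h1 h2 (fun p : Σ p : J × J, p.1 ⟶ p.2 => F.obj p.1.2)
    (fun p => (F.map p.2).app w (b p.1.1)) (fun p => b p.1.2) (fun p => by
      rw [← hmap, hb, hb]; exact hs p.2)
  have hsec : (fun j => (F.obj j).map u (b j)) ∈ (F ⋙ (evaluation I (Type v)).obj k).sections := by
    intro j j' f
    exact (NatTrans.naturality_apply (F.map f) u (b j)).trans (hu ⟨(j, j'), f⟩)
  obtain ⟨x, hx, -⟩ := (Limits.Types.isLimit_iff _).1 ⟨hev k⟩ _ hsec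
  refine ⟨colimit.ι c.pt k x, fun j => ?_, ?_⟩
  · change (colim.map (π j)) (colimit.ι c.pt k x) = s j
    rw [hπ, show (π j).app k x = (F.obj j).map u (b j) from hx j, Limits.Types.Colimit.w_apply, hb]
  · intro y hy
    obtain ⟨w', z, rfl⟩ := Limits.Types.jointly_surjective' y
    have hy' : ∀ j, colimit.ι (F.obj j) w' ((π j).app w' z) = s j := fun j => (hπ j w' z).symm.trans (hy j)
    have hzz : Zigzag w' k := zigzag_of_eq (F.obj j₀) ((π j₀).app w' z) ((F.obj j₀).map u (b j₀))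
      ((hy' j₀).trans (by rw [Limits.Types.Colimit.w_apply, hb]))
    obtain ⟨m, ⟨f⟩, ⟨g⟩⟩ := (Groth.Agent.S12219.result (fun x y z f g => h1 f g) w' k).1 hzz
    obtain ⟨n, r, hr⟩ := eqs_at h1 h2 (fun j => F.obj j) (fun j => (π j).app m (c.pt.map f z))
      (fun j => (π j).app m (c.pt.map g x)) (fun j => by
        simp only [NatTrans.naturality_apply, Limits.Types.Colimit.w_apply, hy',
          show (π j).app k x = (F.obj j).map u (b j) from hx j, hb])
    have e : c.pt.map r (c.pt.map f z) = c.pt.map r (c.pt.map g x) := by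
      apply (Limits.Types.isLimitEquivSections (hev n)).injective
      refine Subtype.ext (funext fun j => ?_)
      change (π j).app n (c.pt.map r (c.pt.map f z)) = (π j).app n (c.pt.map r (c.pt.map g x))
      simpa only [NatTrans.naturality_apply] using hr j
    have := congrArg (colimit.ι c.pt n) e
    simpa only [Limits.Types.Colimit.w_apply] using this

end Groth.Agent.S6437
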