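import Groth.Statements.S6438
import Mathlib.CategoryTheory.Limits.Final
import Mathlib.CategoryTheory.Limits.IsConnected
import Mathlib.Data.Fintype.EquivFin
import Mathlib.Data.Fintype.Sigma
import Mathlib.Data.Finite.Sum
import Mathlib.Data.Finite.Sigma

set_option autoImplicit false
open CategoryTheory
universe v u
open CatLim

namespace Groth.Agent.S6438
/-- Two-layer category on arrows `K` between objects `O`. -/
inductive Two {O K : Type} (src tgt : K → O) : Type
  | lo (o : O)
  | hi (o : O)

inductive TwoHom {O K : Type} (src tgt : K → O) : Two src tgt → Two src tgt → Type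
  | id (x : Two src tgt) : TwoHom src tgt x x
  | arr (k : K) : TwoHom src tgt (.lo (src k)) (.hi (tgt k))

variable {O K : Type} {src tgt : K → O}

def TwoHom.comp : ∀ {x y z : Two src tgt}, TwoHom src tgt x y → TwoHom src tgt y z → TwoHom src tgt x z
  | _, _, _, .id _, g => g
  | _, _, _, .arr k, .id _ => .arr k

instance : SmallCategory (Two src tgt) where
  Hom := TwoHom src tgt
  id := TwoHom.id
  comp := TwoHom.comp
  id_comp f := by cases f <;> rfl
  comp_id f := by cases f <;> rfl
  assoc f g h := by cases f <;> cases g <;> cases h <;> rfl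

variable {I : Type u} [Category.{v} I] (e : O → I) (val : ∀ k : K, e (src k) ⟶ e (tgt k))

/-- The functor to `I`. -/
def twoObj : Two src tgt → I
  | .lo o => e o
  | .hi o => e o

def twoMap : ∀ {x y : Two src tgt}, TwoHom src tgt x y → (twoObj e x ⟶ twoObj e y)
  | _, _, .id _ => 𝟙 _
  | _, _, .arr k => val k

def twoFunctor : Two src tgt ⥤ I where
  obj := twoObj e
  map := twoMap e val
  map_id _ := rfl
  map_comp {x y z} f g := by
    change twoMap e val (TwoHom.comp f g) = twoMap e val f ≫ twoMap e val g
    cases f <;> cases g <;> first | (simp [TwoHom.comp, twoMap]; done) | exact (Category.id_comp _).symm | exact (Category.comp_id _).symm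

private def twoEquiv : Two src tgt ≃ O ⊕ O where
  toFun := fun | .lo o => .inl o | .hi o => .inr o
  invFun := fun | .inl o => .lo o | .inr o => .hi o
  left_inv := fun x => by cases x <;> rfl
  right_inv := fun x => by cases x <;> rfl

private lemma twoHom_finite [Finite K] [Finite O] (x y : Two src tgt) : Finite (x ⟶ y) := by
  have : Finite (Two src tgt) := Finite.of_equiv _ twoEquiv.symm
  have : Finite (Σ x y : Two src tgt, TwoHom src tgt x y) := by
    refine Finite.of_surjective (Sum.elim (fun x => (⟨x, x, TwoHom.id x⟩ : Σ x y : Two src tgt, TwoHom src tgt x y))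
      (fun k => ⟨_, _, TwoHom.arr k⟩)) ?_
    rintro ⟨x, y, f⟩
    cases f with
    | id => exact ⟨.inl x, rfl⟩
    | arr k => exact ⟨.inr k, rfl⟩
  exact Finite.of_injective (fun f : TwoHom src tgt x y => (⟨x, y, f⟩ : Σ x y : Two src tgt, TwoHom src tgt x y))
    (fun f g h => by simpa using h)


/-- A category with finitely many objects whose morphisms are generated under composition by finitely
many of them receives a functor from a finite category which is both final and initial, the finite
category being connected (resp. nonempty) exactly when the given one is. (The published statement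
says that limits and colimits of every diagram are computed after restriction along the functor;
this is expressed here through finality and initiality.) -/
theorem result {I : Type u} [Category.{v} I] [Finite I]
    (gen : Finset (Σ x y : I, x ⟶ y))
    (hgen : ∀ P : MorphismProperty I, P.IsMultiplicative → (∀ a ∈ gen, P a.2.2) → P = ⊤) :
    ∃ (J : Type) (_ : SmallCategory J) (_ : FinCategory J) (F : J ⥤ I),
      F.Final ∧ F.Initial ∧ (IsConnected J ↔ IsConnected I) ∧ (Nonempty J ↔ Nonempty I) := by
  classical
  obtain ⟨n, ⟨eI⟩⟩ := Finite.exists_equiv_fin I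
  let K := Fin n ⊕ Fin (Fintype.card gen)
  let g : Fin (Fintype.card gen) → (Σ x y : I, x ⟶ y) := fun k => ((Fintype.equivFin gen).symm k).1
  let src : K → Fin n := fun k => match k with | .inl o => o | .inr k => eI (g k).1
  let tgt : K → Fin n := fun k => match k with | .inl o => o | .inr k => eI (g k).2.1
  let val : ∀ k : K, eI.symm (src k) ⟶ eI.symm (tgt k) := fun k => match k with
    | .inl o => 𝟙 _
    | .inr k => eqToHom (eI.symm_apply_apply _) ≫ (g k).2.2 ≫ eqToHom (eI.symm_apply_apply _).symm
  have : Finite (Two src tgt) := Finite.of_equiv _ twoEquiv.symm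
  let _ : FinCategory (Two src tgt) :=
    { fintypeObj := Fintype.ofFinite _
      fintypeHom := fun x y => have := twoHom_finite x y; Fintype.ofFinite _ }
  let F : Two src tgt ⥤ I := twoFunctor (fun o => eI.symm o) val
  -- the canonical lifts of objects
  let lo : I → Two src tgt := fun x => .lo (eI x)
  let hi : I → Two src tgt := fun x => .hi (eI x)
  have elo : ∀ x, F.obj (lo x) = x := fun x => eI.symm_apply_apply x
  have ehi : ∀ x, F.obj (hi x) = x := fun x => eI.symm_apply_apply x
  have gens : ∀ (a : Σ x y : I, x ⟶ y), a ∈ gen →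
      ∃ f : lo a.1 ⟶ hi a.2.1, F.map f = eqToHom (elo _) ≫ a.2.2 ≫ eqToHom (ehi _).symm := by
    intro a ha
    obtain ⟨k, rfl⟩ : ∃ k, g k = a := ⟨Fintype.equivFin gen ⟨a, ha⟩, by simp [g]⟩
    exact ⟨TwoHom.arr (Sum.inr k : K), rfl⟩
  have vert : ∀ x, ∃ f : lo x ⟶ hi x, F.map f = eqToHom ((elo x).trans (ehi x).symm) := fun x =>
    ⟨TwoHom.arr (Sum.inl (eI x) : K), rfl⟩
  have hfinal : F.Final := by
    refine ⟨fun z => ?_⟩
    let obj : ∀ {x : I}, (z ⟶ x) → StructuredArrow z F := fun {x} f => StructuredArrow.mk (f ≫ eqToHom (elo x).symm)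
    let obj' : ∀ {x : I}, (z ⟶ x) → StructuredArrow z F := fun {x} f => StructuredArrow.mk (f ≫ eqToHom (ehi x).symm)
    have hv : ∀ {x : I} (f : z ⟶ x), Zigzag (obj f) (obj' f) := fun {x} f => by
      obtain ⟨a, ha⟩ := vert x
      exact Zigzag.of_hom (StructuredArrow.homMk a (by simp [obj, obj', ha]))
    let P : MorphismProperty I := fun x y h => ∀ f : z ⟶ x, Zigzag (obj f) (obj (f ≫ h))
    have : P.IsMultiplicative :=
      { id_mem := fun x f => by rw [Category.comp_id]
        comp_mem := fun a b ha hb f => by rw [← Category.assoc]; exact (ha f).trans (hb _) }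
    have hP := hgen P this (fun a ha f => by
      obtain ⟨φ, hφ⟩ := gens a ha
      have z1 : Zigzag (obj f) (obj' (f ≫ a.2.2)) :=
        Zigzag.of_hom (StructuredArrow.homMk φ (by simp [obj, obj', hφ]))
      exact z1.trans (hv _).symm)
    have : Nonempty (StructuredArrow z F) := ⟨obj (𝟙 z)⟩
    refine zigzag_isConnected ?_
    suffices ∀ X : StructuredArrow z F, Zigzag (obj (𝟙 z)) X from fun X Y => (this X).symm.trans (this Y)
    intro X
    obtain ⟨Y, f, rfl⟩ := X.mk_surjective
    obtain ⟨x, rfl | rfl⟩ : ∃ x, Y = lo x ∨ Y = hi x := by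
      cases Y with
      | lo o => exact ⟨eI.symm o, Or.inl (by simp [lo])⟩
      | hi o => exact ⟨eI.symm o, Or.inr (by simp [hi])⟩
    · have h := (hP.ge (f ≫ eqToHom (elo x)) trivial) (𝟙 z)
      simpa [obj] using h
    · have h := ((hP.ge (f ≫ eqToHom (ehi x)) trivial) (𝟙 z)).trans (hv _)
      simpa [obj', obj] using h
  have hinitial : F.Initial := by
    refine ⟨fun z => ?_⟩
    let obj : ∀ {x : I}, (x ⟶ z) → CostructuredArrow F z := fun {x} f => CostructuredArrow.mk (eqToHom (elo x) ≫ f)
    let obj' : ∀ {x : I}, (x ⟶ z) → CostructuredArrow F z := fun {x} f => CostructuredArrow.mk (eqToHom (ehi x) ≫ f)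
    have hv : ∀ {x : I} (f : x ⟶ z), Zigzag (obj f) (obj' f) := fun {x} f => by
      obtain ⟨a, ha⟩ := vert x
      exact Zigzag.of_hom (CostructuredArrow.homMk a (by simp [obj, obj', ha]))
    let P : MorphismProperty I := fun x y h => ∀ f : y ⟶ z, Zigzag (obj (h ≫ f)) (obj f)
    have : P.IsMultiplicative :=
      { id_mem := fun x f => by rw [Category.id_comp]
        comp_mem := fun a b ha hb f => by rw [Category.assoc]; exact (ha _).trans (hb f) }
    have hP := hgen P this (fun a ha f => by
      obtain ⟨φ, hφ⟩ := gens a ha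
      have z1 : Zigzag (obj (a.2.2 ≫ f)) (obj' f) :=
        Zigzag.of_hom (CostructuredArrow.homMk φ (by simp [obj, obj', hφ]))
      exact z1.trans (hv _).symm)
    have : Nonempty (CostructuredArrow F z) := ⟨obj (𝟙 z)⟩
    refine zigzag_isConnected ?_
    suffices ∀ X : CostructuredArrow F z, Zigzag X (obj (𝟙 z)) from fun X Y => (this X).trans (this Y).symm
    intro X
    obtain ⟨Y, f, rfl⟩ := X.mk_surjective
    obtain ⟨x, rfl | rfl⟩ : ∃ x, Y = lo x ∨ Y = hi x := by
      cases Y with
      | lo o => exact ⟨eI.symm o, Or.inl (by simp [lo])⟩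
      | hi o => exact ⟨eI.symm o, Or.inr (by simp [hi])⟩
    · have h := (hP.ge (eqToHom (elo x).symm ≫ f) trivial) (𝟙 z)
      simpa [obj] using h
    · have h := (hv _).symm.trans ((hP.ge (eqToHom (ehi x).symm ≫ f) trivial) (𝟙 z))
      simpa [obj', obj] using h
  refine ⟨Two src tgt, inferInstance, inferInstance, F, hfinal, hinitial, Functor.isConnected_iff_of_final F, ?_⟩
  exact ⟨fun ⟨a⟩ => ⟨F.obj a⟩, fun ⟨x⟩ => ⟨lo x⟩⟩

end Groth.Agent.S6438
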