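import Groth.Statements.S6440
import Groth.Agent.SitesTopoi.AlmostCocont

set_option autoImplicit false
open CategoryTheory CategoryTheory.Limits Opposite
universe u
open SiteMisc

namespace Groth.Agent.S6440

/-- For a continuous and almost cocontinuous functor `u` between small sites, the functor `u^s` on
sheaves of sets preserves finite connected colimits. -/
theorem result {C D : Type u} [SmallCategory C] [SmallCategory D]
    (J : GrothendieckTopology C) (K : GrothendieckTopology D) (u : C ⥤ D) [u.IsContinuous J K]
    (hu : BigSite.IsAlmostCocontinuous u J K) (I : Type) [SmallCategory I] [FinCategory I] [IsConnected I] :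
    PreservesColimitsOfShape I (u.sheafPushforwardContinuous (Type u) J K) := by
  exact Groth.SitesTopoi.AlmostCocont.preservesColimitsOfShape hu I

end Groth.Agent.S6440
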