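import Groth.Statements.S6442
import Mathlib.CategoryTheory.Sites.LocallySurjective
import Mathlib.CategoryTheory.Sites.EpiMono
import Mathlib.CategoryTheory.Sites.LocallyFullyFaithful
-- import your own Groth.Agent.* helpers here

set_option autoImplicit false
open CategoryTheory CategoryTheory.Limits Opposite
universe u
open SiteMisc

namespace Groth.Agent.S6442

/-- An object `U` of a site is weakly contractible, i.e. for every covering sieve `S` the sheafified map
`(∐_{V → U ∈ S} h_V)^# ⟶ h_U^#` has a section, if and only if taking sections over `U` turns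
epimorphisms of sheaves of sets into surjections. (Coverings are taken as covering sieves; the
coproduct is formed in presheaves and then sheafified.) -/
theorem result {C : Type u} [SmallCategory C] (J : GrothendieckTopology C) (U : C) :
    (∀ S : Sieve U, S ∈ J U →
      IsSplitEpi ((presheafToSheaf J (Type u)).map
        (Sigma.desc (fun i : (Σ V : C, {f : V ⟶ U // S f}) => yoneda.map i.2.1) :
          (∐ fun i : (Σ V : C, {f : V ⟶ U // S f}) => yoneda.obj i.1) ⟶ yoneda.obj U))) ↔
    ∀ (F G : Sheaf J (Type u)) (φ : F ⟶ G), Epi φ → Function.Surjective (φ.hom.app (op U)) := by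
  refine ⟨fun h F G φ hφ t => ?_, fun h S hS => ?_⟩
  · have hls : Sheaf.IsLocallySurjective φ := (Sheaf.isLocallySurjective_iff_epi φ).2 hφ
    let S : Sieve U := Presheaf.imageSieve φ.hom t
    have hS : S ∈ J U := Presheaf.imageSieve_mem J φ.hom t
    have := h S hS
    let p : (∐ fun i : (Σ V : C, {f : V ⟶ U // S f}) => yoneda.obj i.1) ⟶ yoneda.obj U :=
      Sigma.desc (fun i : (Σ V : C, {f : V ⟶ U // S f}) => yoneda.map i.2.1)
    let a : (∐ fun i : (Σ V : C, {f : V ⟶ U // S f}) => yoneda.obj i.1) ⟶ F.obj :=
      Sigma.desc (fun i => yonedaEquiv.symm (Presheaf.localPreimage φ.hom t i.2.1 i.2.2))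
    let b : yoneda.obj U ⟶ G.obj := yonedaEquiv.symm t
    have hab : a ≫ φ.hom = p ≫ b := by
      refine Sigma.hom_ext _ _ fun i => ?_
      rw [Sigma.ι_desc_assoc, Sigma.ι_desc_assoc]
      apply yonedaEquiv.injective
      simp [b, yonedaEquiv_comp, Presheaf.app_localPreimage, yonedaEquiv_apply]
    let adj := sheafificationAdjunction J (Type u)
    let a' := (adj.homEquiv _ F).symm a
    let b' := (adj.homEquiv _ G).symm b
    have hab' : a' ≫ φ = (presheafToSheaf J (Type u)).map p ≫ b' := by
      rw [← Adjunction.homEquiv_naturality_right_symm, ← Adjunction.homEquiv_naturality_left_symm]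
      exact congrArg _ hab
    let c := section_ ((presheafToSheaf J (Type u)).map p) ≫ a'
    refine ⟨yonedaEquiv (toSheafify J (yoneda.obj U) ≫ c.hom), ?_⟩
    have hc : c ≫ φ = b' := by simp [c, hab']
    rw [← yonedaEquiv_comp]
    apply yonedaEquiv.symm.injective
    rw [Equiv.symm_apply_apply, Category.assoc]
    refine Eq.trans (congrArg (fun z => toSheafify J (yoneda.obj U) ≫ z) (congrArg (·.hom) hc)) ?_
    exact (adj.homEquiv _ G).apply_symm_apply b
  · let p : (∐ fun i : (Σ V : C, {f : V ⟶ U // S f}) => yoneda.obj i.1) ⟶ yoneda.obj U :=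
      Sigma.desc (fun i : (Σ V : C, {f : V ⟶ U // S f}) => yoneda.map i.2.1)
    have hp : Presheaf.IsLocallySurjective J p := by
      refine ⟨fun {V} g => ?_⟩
      refine J.superset_covering ?_ (J.pullback_stable (g : V ⟶ U) hS)
      intro W k hk
      exact ⟨(Sigma.ι (fun i : (Σ V : C, {f : V ⟶ U // S f}) => yoneda.obj i.1) ⟨W, k ≫ g, hk⟩).app (op W) (𝟙 W),
        ((congrArg (fun z => z.app (op W) (𝟙 W)) (Sigma.ι_desc
          (fun i : (Σ V : C, {f : V ⟶ U // S f}) => yoneda.map i.2.1) ⟨W, k ≫ g, hk⟩)).trans
          (Category.id_comp (k ≫ g)))⟩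
    have hepi : Epi ((presheafToSheaf J (Type u)).map p) := by
      rw [← Sheaf.isLocallySurjective_iff_epi]
      exact (Presheaf.isLocallySurjective_presheafToSheaf_map_iff J p).2 hp
    obtain ⟨e, he⟩ := h _ _ _ hepi (yonedaEquiv (toSheafify J (yoneda.obj U)))
    let adj := sheafificationAdjunction J (Type u)
    refine IsSplitEpi.mk' ⟨(adj.homEquiv _ _).symm (yonedaEquiv.symm e), ?_⟩
    apply (adj.homEquiv _ _).injective
    rw [Adjunction.homEquiv_naturality_right, Equiv.apply_symm_apply, Adjunction.homEquiv_unit]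
    apply yonedaEquiv.injective
    refine (yonedaEquiv_comp _ _).trans ?_
    rw [Equiv.apply_symm_apply]
    refine he.trans (congrArg yonedaEquiv ?_)
    simp [adj]

end Groth.Agent.S6442
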