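import Groth.Statements.S6443
import Groth.Agent.CategoryFibred.Representable

set_option autoImplicit false
open CategoryTheory
universe v u
open FibCat

namespace Groth.Agent.S6443
set_option backward.isDefEq.respectTransparency false
set_option backward.isDefEq.respectTransparency.types false


/-- If a category `𝒮` fibred in groupoids over `C` is represented by `X` via `j : 𝒮 ⟶ C/X` and by `X'`
via `j' : 𝒮 ⟶ C/X'` (equivalences over `C`), then there is an isomorphism `X' ≅ X` under which `j'`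
becomes 2-isomorphic to `j` over `C`. -/
theorem result {C : Type u} [Category.{v} C] {𝒮 : BasedCategory.{v, max u v} C} (h𝒮 : FibCat.IsFibGrpd 𝒮.p)
    {X X' : C} (j : 𝒮 ⥤ᵇ FibCat.overCat X) (j' : 𝒮 ⥤ᵇ FibCat.overCat X') (hj : FibCat.IsEquivOver j) (hj' : FibCat.IsEquivOver j') :
    ∃ e : X' ≅ X, Nonempty (BasedFunctor.comp j' (⟨Over.map e.hom, Over.mapForget_eq e.hom⟩ : FibCat.overCat X' ⥤ᵇ FibCat.overCat X) ≅ j) := by
  obtain ⟨k, hk, ⟨a⟩, -⟩ := Groth.StkBase.isEquivOver_symm hj'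
  obtain ⟨L, hL, ⟨u1⟩, ⟨u2⟩⟩ := Groth.StkBase.isEquivOver_symm (Groth.StkBase.isEquivOver_comp hk hj)
  obtain ⟨h, ⟨α⟩, -⟩ := Groth.CatFib.exists_iso_overPostMap (BasedFunctor.comp k j)
  obtain ⟨l, ⟨β⟩, -⟩ := Groth.CatFib.exists_iso_overPostMap L
  have key : ∀ {P Q : C} (h : P ⟶ Q) (l : Q ⟶ P),
      Nonempty (BasedFunctor.comp (Groth.StkBase.overPostMap h) (Groth.StkBase.overPostMap l) ≅ BasedFunctor.id _) →
      h ≫ l = 𝟙 P := by
    rintro P Q h l ⟨γ⟩
    have := Groth.CatFib.overCat_hom_eq _ (Groth.StkBase.isVert_isoApp γ (Groth.StkBase.idObj P))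
    change (𝟙 P ≫ h) ≫ l = _ at this
    simpa using this
  let e : X' ≅ X := {
    hom := h
    inv := l
    hom_inv_id := key h l ⟨((Groth.StkBase.whiskerRightIso α _).trans (Groth.StkBase.whiskerLeftIso _ β)).trans u1⟩
    inv_hom_id := key l h ⟨((Groth.StkBase.whiskerRightIso β _).trans (Groth.StkBase.whiskerLeftIso _ α)).trans u2⟩ }
  exact ⟨e, ⟨(Groth.StkBase.whiskerLeftIso j' α).trans (Groth.StkBase.whiskerRightIso a j)⟩⟩

end Groth.Agent.S6443
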