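import Groth.Statements.S6444
import Groth.Agent.CategoryFibred.Fractions

set_option autoImplicit false
open CategoryTheory
universe v u v' u'
open CatLoc

namespace Groth.Agent.S6444

/-- For a left multiplicative system, a commutative square in the localization between the images of two
morphisms `f, f'` of `C` lifts to a commutative diagram `X → X'' ← X'`, `Y → Y'' ← Y'` in `C` over a
third morphism `f''`, the backward arrows lying in `W`. -/
theorem result {C : Type u} [Category.{v} C] {D : Type u'} [Category.{v'} D] (W : MorphismProperty C) (L : C ⥤ D) [L.IsLocalization W] [W.HasLeftCalculusOfFractions]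
    {X Y X' Y' : C} (f : X ⟶ Y) (f' : X' ⟶ Y') (a : L.obj X ⟶ L.obj X') (b : L.obj Y ⟶ L.obj Y') (w : L.map f ≫ b = a ≫ L.map f') :
    ∃ (X'' Y'' : C) (f'' : X'' ⟶ Y'') (g : X ⟶ X'') (h : Y ⟶ Y'') (s : X' ⟶ X'') (t : Y' ⟶ Y''),
      W s ∧ W t ∧ f ≫ h = g ≫ f'' ∧ f' ≫ t = s ≫ f'' ∧ L.map g = a ≫ L.map s ∧ L.map h = b ≫ L.map t := by
  obtain ⟨φ, hφ⟩ := Localization.exists_leftFraction L W a
  obtain ⟨ψ, hψ⟩ := Localization.exists_leftFraction L W b
  -- push `f'` forward along `φ.s`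
  obtain ⟨χ, hχ⟩ := (MorphismProperty.RightFraction.mk (W := W) φ.s φ.hs f').exists_leftFraction
  -- combine with the denominator of `b`
  obtain ⟨Z, t, u, hu, -, he⟩ := Groth.CatFib.exists_common_upper W ψ.s ψ.hs χ.s χ.hs
  dsimp at hχ
  have hb : L.map (ψ.f ≫ t) = b ≫ L.map (χ.s ≫ u) := by
    rw [← he, L.map_comp, L.map_comp, hψ, ψ.map_comp_map_s_assoc]
  have ha : L.map φ.f = a ≫ L.map φ.s := by rw [hφ, φ.map_comp_map_s]
  have heq : L.map (f ≫ ψ.f ≫ t) = L.map (φ.f ≫ χ.f ≫ u) := by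
    rw [L.map_comp f, hb, L.map_comp φ.f, ha, reassoc_of% w, Category.assoc, ← L.map_comp, ← L.map_comp,
      reassoc_of% hχ]
  obtain ⟨Z', r, hr, e⟩ := (MorphismProperty.map_eq_iff_postcomp L W _ _).1 heq
  refine ⟨φ.Y', Z', χ.f ≫ u ≫ r, φ.f, ψ.f ≫ t ≫ r, φ.s, χ.s ≫ u ≫ r, φ.hs,
    by simpa using W.comp_mem _ _ hu hr, by simpa using e, by simp [reassoc_of% hχ], ha, ?_⟩
  simp only [L.map_comp] at hb ⊢
  rw [reassoc_of% hb]

end Groth.Agent.S6444
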