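import Groth.Statements.S6447
import Groth.Agent.CategoryFibred.PbMap

set_option autoImplicit false
open CategoryTheory CategoryTheory.Limits
universe v u
open FibCat

namespace Groth.Agent.S6447
set_option backward.isDefEq.respectTransparency false
set_option backward.isDefEq.respectTransparency.types false
set_option maxHeartbeats 1000000


/-- For a 2-fibre product `U = X ×_Y V` of categories, the square formed by `U ⟶ X`, the diagonals `U ⟶
U ×_V U`, `X ⟶ X ×_Y X` and the induced functor `U ×_V U ⟶ X ×_Y X` is 2-cartesian. (The filling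
2-isomorphism is the one whose two components at every object are identities; it exists and is
unique with that property.) -/
theorem result {X Y V : Type u} [Category.{v} X] [Category.{v} Y] [Category.{v} V] (p : X ⥤ Y) (q : V ⥤ Y) :
    ∃ e, (∀ u, (e.hom.app u).fst = 𝟙 _ ∧ (e.hom.app u).snd = 𝟙 _) ∧ FibCat.IsTwoCart
      (CategoricalPullback.π₁ p q)
      ((CategoricalPullback.CatCommSqOver.toFunctorToCategoricalPullback (CategoricalPullback.π₂ p q) (CategoricalPullback.π₂ p q) (CategoricalPullback p q)).obj ⟨𝟭 _, 𝟭 _, Iso.refl _⟩)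
      ((CategoricalPullback.CatCommSqOver.toFunctorToCategoricalPullback p p X).obj ⟨𝟭 _, 𝟭 _, Iso.refl _⟩)
      (FibCat.categoricalPullbackMap (⟨CategoricalPullback.π₁ p q, q, CategoricalPullback.π₁ p q, ⟨(CatCommSq.iso (CategoricalPullback.π₁ p q) (CategoricalPullback.π₂ p q) p q).symm⟩, ⟨(CatCommSq.iso (CategoricalPullback.π₁ p q) (CategoricalPullback.π₂ p q) p q).symm⟩⟩ : CatCospanTransform (CategoricalPullback.π₂ p q) (CategoricalPullback.π₂ p q) p p))
      e := by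
  let U := CategoricalPullback p q
  let P₁ := CategoricalPullback.π₁ p q
  let P₂ := CategoricalPullback.π₂ p q
  let ψ : CatCospanTransform P₂ P₂ p p :=
    ⟨P₁, q, P₁, ⟨(CatCommSq.iso P₁ P₂ p q).symm⟩, ⟨(CatCommSq.iso P₁ P₂ p q).symm⟩⟩
  let ΔU := (CategoricalPullback.CatCommSqOver.toFunctorToCategoricalPullback P₂ P₂ (CategoricalPullback p q)).obj ⟨𝟭 _, 𝟭 _, Iso.refl _⟩
  let ΔX := (CategoricalPullback.CatCommSqOver.toFunctorToCategoricalPullback p p X).obj ⟨𝟭 _, 𝟭 _, Iso.refl _⟩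
  let M := FibCat.categoricalPullbackMap ψ
  have hM : ∀ t : CategoricalPullback P₂ P₂, (M.obj t).iso.hom =
      t.fst.iso.hom ≫ q.map t.iso.hom ≫ t.snd.iso.inv := fun t => Groth.CatFib.pbMap_iso ψ t
  let c : ∀ u, (P₁ ⋙ ΔX).obj u ≅ (ΔU ⋙ M).obj u := fun u =>
    CategoricalPullback.mkIso (Iso.refl u.fst) (Iso.refl u.fst) (by
      change p.map (𝟙 u.fst) ≫ (M.obj (ΔU.obj u)).iso.hom = 𝟙 (p.obj u.fst) ≫ p.map (𝟙 u.fst)
      rw [hM]
      change p.map (𝟙 u.fst) ≫ u.iso.hom ≫ q.map (𝟙 u.snd) ≫ u.iso.inv = 𝟙 (p.obj u.fst) ≫ p.map (𝟙 u.fst)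
      simp)
  let e : P₁ ⋙ ΔX ≅ ΔU ⋙ M := NatIso.ofComponents c (fun {u w} f => by
    apply CategoricalPullback.hom_ext
    · change f.fst ≫ 𝟙 _ = 𝟙 _ ≫ f.fst
      simp
    · change f.fst ≫ 𝟙 _ = 𝟙 _ ≫ f.fst
      simp)
  refine ⟨e, fun u => ⟨rfl, rfl⟩, ?_⟩
  let K := (CategoricalPullback.CatCommSqOver.toFunctorToCategoricalPullback ΔX M U).obj ⟨P₁, ΔU, e⟩
  change K.IsEquivalence
  have hfaith : K.Faithful := ⟨fun {u w} f g h => congrArg (fun k => k.snd.fst) h⟩
  have hfull : K.Full := by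
    refine ⟨fun {u w} φ => ?_⟩
    have h1 : φ.fst ≫ 𝟙 w.fst = 𝟙 u.fst ≫ φ.snd.fst.fst := congrArg (fun k => k.fst) φ.w
    have h2 : φ.fst ≫ 𝟙 w.fst = 𝟙 u.fst ≫ φ.snd.snd.fst := congrArg (fun k => k.snd) φ.w
    have h3 : φ.snd.fst.snd ≫ 𝟙 w.snd = 𝟙 u.snd ≫ φ.snd.snd.snd := φ.snd.w
    have k1 : φ.fst = φ.snd.fst.fst := (Category.comp_id _).symm.trans (h1.trans (Category.id_comp _))
    have k2 : φ.fst = φ.snd.snd.fst := (Category.comp_id _).symm.trans (h2.trans (Category.id_comp _))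
    have k3 : φ.snd.fst.snd = φ.snd.snd.snd := (Category.comp_id _).symm.trans (h3.trans (Category.id_comp _))
    exact ⟨φ.snd.fst, CategoricalPullback.hom_ext k1.symm (CategoricalPullback.hom_ext rfl
      (CategoricalPullback.hom_ext (k1.symm.trans k2) k3))⟩
  have hess : K.EssSurj := by
    refine ⟨fun t => ?_⟩
    let i1 : t.fst ≅ t.snd.fst.fst := (CategoricalPullback.π₁ p p).mapIso t.iso
    let i2 : t.fst ≅ t.snd.snd.fst := (CategoricalPullback.π₂ p p).mapIso t.iso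
    let j : t.snd.fst.snd ≅ t.snd.snd.snd := t.snd.iso
    have hw : p.map i1.hom ≫ t.snd.fst.iso.hom ≫ q.map j.hom ≫ t.snd.snd.iso.inv =
        𝟙 (p.obj t.fst) ≫ p.map i2.hom := by
      rw [← hM t.snd]; exact t.iso.hom.w
    let d : t.snd.fst ≅ t.snd.snd := CategoricalPullback.mkIso (i1.symm ≪≫ i2) j (by
      change p.map (i1.inv ≫ i2.hom) ≫ _ = _
      rw [Category.id_comp] at hw
      rw [Functor.map_comp, ← hw]
      simp [← p.map_comp_assoc])
    refine ⟨t.snd.fst, ⟨CategoricalPullback.mkIso i1.symm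
      (CategoricalPullback.mkIso (Iso.refl _) d ?_) ?_⟩⟩
    · change 𝟙 _ ≫ j.hom = 𝟙 _ ≫ j.hom
      rfl
    · apply CategoricalPullback.hom_ext
      · change i1.inv ≫ i1.hom = 𝟙 _ ≫ 𝟙 _
        simp
      · change i1.inv ≫ i2.hom = 𝟙 _ ≫ (i1.inv ≫ i2.hom)
        simp
  exact { }

end Groth.Agent.S6447
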