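import Groth.Statements.S6448
import Groth.Agent.S12219

set_option autoImplicit false
open CategoryTheory
universe v u
open CatLim

namespace Groth.Agent.S6448

/-- In a category where spans complete to commutative squares and parallel pairs are coequalized by a
later arrow, every connected component is filtered (so the category is a disjoint union of filtered
categories). -/
theorem result {I : Type u} [Category.{v} I]
    (h1 : ∀ ⦃w x y : I⦄ (a : w ⟶ x) (b : w ⟶ y), ∃ (z : I) (c : x ⟶ z) (d : y ⟶ z), a ≫ c = b ≫ d)
    (h2 : ∀ ⦃x y : I⦄ (a b : x ⟶ y), ∃ (z : I) (c : y ⟶ z), a ≫ c = b ≫ c)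
    (j : ConnectedComponents I) : IsFiltered j.Component := by
  have key : ∀ x y : I, Zigzag x y → ∃ z : I, Nonempty (x ⟶ z) ∧ Nonempty (y ⟶ z) :=
    fun x y => (Groth.Agent.S12219.result (fun a b c f g => h1 f g) x y).1
  have hcomp : ∀ (x : j.Component) (z : I) (f : x.obj ⟶ z), Quotient.mk'' z = j := by
    intro x z f
    refine Eq.trans ?_ x.property
    exact (Quotient.sound (Zigzag.of_hom f)).symm
  haveI : IsFilteredOrEmpty j.Component := by
    constructor
    · intro x y
      have : Zigzag x.obj y.obj := Quotient.exact (x.property.trans y.property.symm)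
      obtain ⟨z, ⟨a⟩, ⟨b⟩⟩ := key _ _ this
      exact ⟨⟨z, hcomp x z a⟩, ObjectProperty.homMk a, ObjectProperty.homMk b, trivial⟩
    · intro x y f g
      obtain ⟨z, c, hc⟩ := h2 f.hom g.hom
      exact ⟨⟨z, hcomp y z c⟩, ObjectProperty.homMk c, ObjectProperty.hom_ext _ hc⟩
  exact { }

end Groth.Agent.S6448
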