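import Groth.Statements.S6450
import Groth.Agent.CycInter.Assoc

set_option autoImplicit false
universe u
open CategoryTheory CategoryTheory.Limits AlgebraicGeometry
attribute [local instance] HasDerivedCategory.standard
open IntMult

namespace Groth.Agent.S6450

/-- Let X be a nonsingular variety of dimension n and U, V, W closed subvarieties, with generic points
ξU, ξV, ξW, which intersect properly pairwise and with dim(U ∩ V ∩ W) ≤ dim U + dim V + dim W − 2n.
Then U · (V · W) = (U · V) · W as cycles on X. The prime cycle [U] is the indicator function of the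
generic point ξU. Here X is a nonsingular variety over the algebraically closed field K (smooth,
separated, quasi-compact, integral) with dimension function δ (transcendence degree over K, recorded
by Cyc.DeltaCompat to Spec K with value 0, together with Cyc.IsSetup) and n = dim X = δ of the
generic point; cycles are coefficient functions X → ℤ, proper intersection is
IntMult.IntersectProperly and α · β is the Tor-formula intersection product on coefficient functions
(IntMult.interProd). -/
theorem result (K : Type u) [Field K] [IsAlgClosed K] (X : Scheme.{u}) (f : X ⟶ Spec (CommRingCat.of K)) [Smooth f] [IsSeparated f] [QuasiCompact f] [IsIntegral X] (δ : X → ℤ) (hX : Cyc.IsSetup X δ) (hδ : Cyc.DeltaCompat f δ (fun _ => 0)) (n : ℤ) (hn : δ (genericPoint X) = n) (ξU ξV ξW : X) (hUV : IntMult.IntersectProperly δ n (Set.indicator {ξU} 1) (Set.indicator {ξV} 1)) (hVW : IntMult.IntersectProperly δ n (Set.indicator {ξV} 1) (Set.indicator {ξW} 1)) (hUW : IntMult.IntersectProperly δ n (Set.indicator {ξU} 1) (Set.indicator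 {ξW} 1)) (hUVW : ∀ ζ : X, ξU ⤳ ζ → ξV ⤳ ζ → ξW ⤳ ζ → δ ζ ≤ δ ξU + δ ξV + δ ξW - 2 * n) : IntMult.interProd δ n (Set.indicator {ξU} 1) (IntMult.interProd δ n (Set.indicator {ξV} 1) (Set.indicator {ξW} 1)) = IntMult.interProd δ n (IntMult.interProd δ n (Set.indicator {ξU} 1) (Set.indicator {ξV} 1)) (Set.indicator {ξW} 1) := by
  classical
  funext ζ
  rw [Groth.CycInter.Assoc.interProd_comm δ n (IntMult.interProd δ n _ _) (Set.indicator {ξW} 1),
    Groth.CycInter.Assoc.interProd_comm δ n (Set.indicator {ξU} 1) (Set.indicator {ξV} 1),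
    Groth.CycInter.Assoc.triple f hX hδ hn ξU ξV ξW hVW hUVW ζ,
    Groth.CycInter.Assoc.triple f hX hδ hn ξW ξV ξU (Groth.CycInter.Assoc.intersectProperly_comm hUV)
      (fun z h1 h2 h3 => by have := hUVW z h3 h2 h1; omega) ζ]
  by_cases h : ξU ⤳ ζ ∧ ξV ⤳ ζ ∧ ξW ⤳ ζ ∧ δ ζ = δ ξU + δ ξV + δ ξW - 2 * n
  · rw [if_pos h, if_pos ⟨h.2.2.1, h.2.1, h.1, by omega⟩]
    obtain ⟨hU, hV, hW, hd⟩ := h
    letI : X.Over (Spec (CommRingCat.of K)) := ⟨f⟩
    haveI : Smooth (X ↘ Spec (CommRingCat.of K)) := inferInstanceAs (Smooth f)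
    haveI : IsRegularLocalRing (X.presheaf.stalk ζ) :=
      Groth.VarietyBC.isRegularLocalRing_of_mem_smoothLocus (k := K) (by
        rw [Scheme.Hom.smoothLocus_eq_top]; trivial)
    refine Groth.CycInter.Euler.chi_assoc _ _ _ fun p hpV hpW hpU => ?_
    have e1 := (Groth.CycInter.Assoc.mem_support_iff hV p).1 hpV
    have e2 := (Groth.CycInter.Assoc.mem_support_iff hW p).1 hpW
    have e3 := (Groth.CycInter.Assoc.mem_support_iff hU p).1 hpU
    have hle := hUVW _ e3 e1 e2
    by_contra hne
    have hlt : p < IsLocalRing.closedPoint (X.presheaf.stalk ζ) :=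
      lt_of_le_of_ne (IsLocalRing.le_maximalIdeal p.isPrime.ne_top) fun e => hne (congrArg PrimeSpectrum.asIdeal e)
    have hs : X.fromSpecStalk ζ p ⤳ ζ := Scheme.range_fromSpecStalk.le ⟨p, rfl⟩
    have hne' : X.fromSpecStalk ζ p ≠ ζ := fun e => hlt.ne
      ((X.fromSpecStalk ζ).isEmbedding.injective (e.trans Scheme.fromSpecStalk_closedPoint.symm))
    have := (hX.2.2 (X.fromSpecStalk ζ p) ζ hs hne').1
    omega
  · rw [if_neg h, if_neg fun h' => h ⟨h'.2.2.1, h'.2.1, h'.1, by omega⟩]

end Groth.Agent.S6450
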