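import Groth.Statements.S6471
import Groth.Agent.S6470
import Groth.Agent.Calg6.ChiBaseChange
import Groth.Agent.Cycles.PullSheaf
import Groth.Agent.Cycles.PullComp
import Groth.Agent.QCohMod.PullbackQCoh

set_option autoImplicit false
universe u
open CategoryTheory CategoryTheory.Limits AlgebraicGeometry
attribute [local instance] HasDerivedCategory.standard
open IntMult

namespace Groth.Agent.S6471

/-- For a flat morphism f : X → Y between nonsingular varieties, with e = dim X − dim Y (every fibre
component has dimension e), and coherent O_Y-modules F, G whose supports have dimension at most r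
and s and meet in dimension at most r + s − dim Y, the cycles of the pulled-back modules,
[f^*F]_{r+e} and [f^*G]_{s+e}, meet properly, and pulling back the product [F]_r · [G]_s along f
gives their product: f^*([F]_r · [G]_s) = [f^*F]_{r+e} · [f^*G]_{s+e}, coefficientwise (f^* on
cycles is Cyc.pullFun with relative dimension e, f^* on modules is Mathlib's
Scheme.Modules.pullback). Here X is a nonsingular variety over the algebraically closed field K
(smooth, separated, quasi-compact, integral) with dimension function δ (transcendence degree over K,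
recorded by Cyc.DeltaCompat to Spec K with value 0, together with Cyc.IsSetup) and n = dim X = δ of
the generic point; cycles are coefficient functions X → ℤ, proper intersection is
IntMult.IntersectProperly and α · β is the Tor-formula intersection product on coefficient functions
(IntMult.interProd). The same holds for Y with δY and m = dim Y. -/
theorem result (K : Type u) [Field K] [IsAlgClosed K] (X Y : Scheme.{u}) (f : X ⟶ Y) (gX : X ⟶ Spec (CommRingCat.of K)) (gY : Y ⟶ Spec (CommRingCat.of K)) (hf : f ≫ gY = gX) [Smooth gX] [IsSeparated gX] [QuasiCompact gX] [IsIntegral X] [Smooth gY] [IsSeparated gY] [QuasiCompact gY] [IsIntegral Y] [Flat f] (δX : X → ℤ) (δY : Y → ℤ) (hX : Cyc.IsSetup X δX) (hY : Cyc.IsSetup Y δY) (hδX : Cyc.DeltaCompat gX δX (fun _ => 0)) (hδY : Cyc.DeltaCompat gY δY (fun _ => 0)) (hδ : Cyc.DeltaCompat f δX δY) (n m : ℤ) (hn : δX (genericPoint X) = n) (hm : δY (genericPoint Y) = m) (e : ℕ) (he : (e : ℤ) = n - m) (hrel : Cyc.HasRelDim f e) (F G : Y.Modules) (hF : Coh.IsCoh F) (hG : Coh.IsCoh G) (r s : ℤ) (hr : ∀ y : Y,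 Nontrivial (F.presheaf.stalk y) → δY y ≤ r) (hs : ∀ y : Y, Nontrivial (G.presheaf.stalk y) → δY y ≤ s) (hrs : ∀ y : Y, Nontrivial (F.presheaf.stalk y) → Nontrivial (G.presheaf.stalk y) → δY y ≤ r + s - m) : IntMult.IntersectProperly δX n (Cyc.sheafFun δX (r + e) ((Scheme.Modules.pullback f).obj F)) (Cyc.sheafFun δX (s + e) ((Scheme.Modules.pullback f).obj G)) ∧ Cyc.pullFun f δX δY e (IntMult.interProd δY m (Cyc.sheafFun δY r F) (Cyc.sheafFun δY s G)) = IntMult.interProd δX n (Cyc.sheafFun δX (r + e) ((Scheme.Modules.pullback f).obj F)) (Cyc.sheafFun δX (s + e) ((Scheme.Modules.pullback f).obj G)) := by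
  classical
  haveI : LocallyOfFiniteType (f ≫ gY) := hf ▸ inferInstance
  haveI : LocallyOfFiniteType f := locallyOfFiniteType_of_comp f gY
  haveI : IsLocallyNoetherian X := hX.1
  haveI : IsLocallyNoetherian Y := hY.1
  haveI : F.IsQuasicoherent := hF.1
  haveI : G.IsQuasicoherent := hG.1
  have hc : ∀ x : X, Groth.CycleLimits.IsFibreGeneric f x → δX x = δY (f x) + (e : ℤ) := fun x hx =>
    Groth.Cycles.delta_eq_add_of_isFibreGeneric f hrel hδ hx
  have hle : ∀ x : X, δX x ≤ δY (f x) + e := fun x => by
    obtain ⟨w, hw, hwp, hgen⟩ := Groth.CycleLimits.exists_isFibreGeneric f x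
    have h1 := hc w hgen
    rw [hwp] at h1
    have h2 := Groth.Cycles.delta_le_of_specializes hX.2.2 hw
    omega
  have hbase : ∀ (M : Y.Modules) (x : X), Nontrivial (((Scheme.Modules.pullback f).obj M).presheaf.stalk x) →
      Nontrivial (M.presheaf.stalk (f x)) := fun M x h => by
    by_contra hn
    have := not_nontrivial_iff_subsingleton.mp hn
    have h0 := Groth.Cycles.length_stalk_pullback f M x
    rw [(Module.length_eq_zero (R := Y.presheaf.stalk (f x))), zero_mul, Module.length_eq_zero_iff] at h0
    exact not_nontrivial_iff_subsingleton.mpr h0 h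
  have hSX := Groth.Agent.S6470.result K X gX δX hX hδX n hn
    ((Scheme.Modules.pullback f).obj F) ((Scheme.Modules.pullback f).obj G)
    ⟨Groth.QCohMod.isQCoh_pullback_obj f F, Groth.QCohMod.isFT_pullback f F hF.2⟩ ⟨Groth.QCohMod.isQCoh_pullback_obj f G, Groth.QCohMod.isFT_pullback f G hG.2⟩ (r + e) (s + e)
    (fun x hx => by have := hle x; have := hr _ (hbase F x hx); omega)
    (fun x hx => by have := hle x; have := hs _ (hbase G x hx); omega)
    (fun x hx hx' => by have := hle x; have := hrs _ (hbase F x hx) (hbase G x hx'); omega)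
  have hSY := Groth.Agent.S6470.result K Y gY δY hY hδY m hm F G hF hG r s hr hs hrs
  refine ⟨hSX.1, funext fun x => ?_⟩
  rw [hSX.2 x, Cyc.pullFun, hSY.2 (f x)]
  letI := Groth.QCohMod.stalkAlg f x
  haveI : IsLocalHom (algebraMap (Y.presheaf.stalk (f x)) (X.presheaf.stalk x)) :=
    inferInstanceAs (IsLocalHom (f.stalkMap x).hom)
  haveI : Module.Flat (Y.presheaf.stalk (f x)) (X.presheaf.stalk x) := Flat.stalkMap f x
  haveI := Groth.QCohMod.finite_stalk F hF.2 (f x)
  have hchi : IntMult.chi (X.presheaf.stalk x) (((Scheme.Modules.pullback f).obj F).presheaf.stalk x)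
      (((Scheme.Modules.pullback f).obj G).presheaf.stalk x) =
      IntMult.chi (Y.presheaf.stalk (f x)) (F.presheaf.stalk (f x)) (G.presheaf.stalk (f x)) *
        ((Module.length (X.presheaf.stalk x) (X.presheaf.stalk x ⧸
          Ideal.map (f.stalkMap x).hom (IsLocalRing.maximalIdeal (Y.presheaf.stalk (f x))))).toNat : ℤ) := by
    rw [← Groth.Calg6.Diag.intMult_chi_congr_left (Groth.QCohMod.pullStalkEquiv f F x),
      Groth.Calg6.Diag.intMult_chi_symm,
      ← Groth.Calg6.Diag.intMult_chi_congr_left (Groth.QCohMod.pullStalkEquiv f G x),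
      Groth.Calg6.Diag.intMult_chi_symm]
    exact Groth.Calg6.ChiBaseChange.intMult_chi (Y.presheaf.stalk (f x)) (X.presheaf.stalk x) _ _
  rw [hchi]
  by_cases h1 : δX x = δY (f x) + e
  · rw [if_pos h1]
    by_cases h2 : δY (f x) = r + s - m
    · rw [if_pos h2, if_pos (by omega)]
    · rw [if_neg h2, if_neg (by omega), zero_mul]
  · rw [if_neg h1]
    split_ifs with h2
    · have h0 : IntMult.chi (Y.presheaf.stalk (f x)) (F.presheaf.stalk (f x)) (G.presheaf.stalk (f x)) = 0 := by
        by_cases hnF : Nontrivial (F.presheaf.stalk (f x))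
        · by_cases hnG : Nontrivial (G.presheaf.stalk (f x))
          · have := hrs _ hnF hnG
            have := hle x
            omega
          · haveI := not_nontrivial_iff_subsingleton.1 hnG
            rw [Groth.Calg6.Diag.intMult_chi_symm]
            exact Groth.Agent.S6470.chi_of_subsingleton _ _
        · haveI := not_nontrivial_iff_subsingleton.1 hnF
          exact Groth.Agent.S6470.chi_of_subsingleton _ _
      rw [h0, zero_mul]
    · rfl

end Groth.Agent.S6471
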