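import Groth.Statements.S6451
import Groth.Agent.S6471
import Groth.Agent.Calg6.CycleLinear

set_option autoImplicit false
universe u
open CategoryTheory CategoryTheory.Limits AlgebraicGeometry
attribute [local instance] HasDerivedCategory.standard
open IntMult

namespace Groth.Agent.S6451

/-- For a flat morphism f : X → Y between nonsingular varieties, with e = dim X − dim Y (every fibre
component has dimension e), and for cycles α ∈ Z_r(Y) and β ∈ Z_s(Y) meeting properly, the flat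
pullbacks f^*α and f^*β again meet properly and pulling back commutes with the product: f^*(α · β) =
f^*α · f^*β, coefficientwise (flat pullback is Cyc.pullFun with relative dimension e). Here X is a
nonsingular variety over the algebraically closed field K (smooth, separated, quasi-compact,
integral) with dimension function δ (transcendence degree over K, recorded by Cyc.DeltaCompat to
Spec K with value 0, together with Cyc.IsSetup) and n = dim X = δ of the generic point; cycles are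
Mathlib AlgebraicCycles with Cyc.Zk membership, proper intersection is IntMult.IntersectProperly and
α · β is the Tor-formula intersection product on coefficient functions (IntMult.interProd). The same
holds for Y with δY and m = dim Y. -/
theorem result (K : Type u) [Field K] [IsAlgClosed K] (X Y : Scheme.{u}) (f : X ⟶ Y) (gX : X ⟶ Spec (CommRingCat.of K)) (gY : Y ⟶ Spec (CommRingCat.of K)) (hf : f ≫ gY = gX) [Smooth gX] [IsSeparated gX] [QuasiCompact gX] [IsIntegral X] [Smooth gY] [IsSeparated gY] [QuasiCompact gY] [IsIntegral Y] [Flat f] (δX : X → ℤ) (δY : Y → ℤ) (hX : Cyc.IsSetup X δX) (hY : Cyc.IsSetup Y δY) (hδX : Cyc.DeltaCompat gX δX (fun _ => 0)) (hδY : Cyc.DeltaCompat gY δY (fun _ => 0)) (hδ : Cyc.DeltaCompat f δX δY) (n m : ℤ) (hn : δX (genericPoint X) = n) (hm : δY (genericPoint Y) = m) (e : ℕ) (he : (e : ℤ) = n - m) (hrel : Cyc.HasRelDim f e) (r s : ℤ) (α β : AlgebraicCycle Y ℤ) (hα : α ∈ Cyc.Zk Y δY r) (hβ : β ∈ Cyc.Zk Y δY s) (hprop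 : IntMult.IntersectProperly δY m ⇑α ⇑β) : IntMult.IntersectProperly δX n (Cyc.pullFun f δX δY e ⇑α) (Cyc.pullFun f δX δY e ⇑β) ∧ Cyc.pullFun f δX δY e (IntMult.interProd δY m ⇑α ⇑β) = IntMult.interProd δX n (Cyc.pullFun f δX δY e ⇑α) (Cyc.pullFun f δX δY e ⇑β) := by
  classical
  haveI : LocallyOfFiniteType (f ≫ gY) := hf ▸ inferInstance
  haveI : LocallyOfFiniteType f := locallyOfFiniteType_of_comp f gY
  haveI : IsLocallyNoetherian X := hX.1
  haveI : IsLocallyNoetherian Y := hY.1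
  have hc : ∀ x : X, Groth.CycleLimits.IsFibreGeneric f x → δX x = δY (f x) + (e : ℤ) := fun x hx =>
    Groth.Cycles.delta_eq_add_of_isFibreGeneric f hrel hδ hx
  have hle : ∀ x : X, δX x ≤ δY (f x) + e := fun x => by
    obtain ⟨w, hw, hwp, hgen⟩ := Groth.CycleLimits.exists_isFibreGeneric f x
    have h1 := hc w hgen
    rw [hwp] at h1
    have h2 := Groth.Cycles.delta_le_of_specializes hX.2.2 hw
    omega
  have hpull : ∀ (γ : AlgebraicCycle Y ℤ) (c : ℤ), γ ∈ Cyc.Zk Y δY c → ∀ ξ : X,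
      Cyc.pullFun f δX δY e (⇑γ) ξ ≠ 0 → δX ξ = c + e ∧ δY (f ξ) = c ∧ γ (f ξ) ≠ 0 := by
    intro γ c hγ ξ hne
    rw [Cyc.pullFun] at hne
    split_ifs at hne with h
    · have h' := left_ne_zero_of_mul hne
      have hc' : δY (f ξ) = c := by
        by_contra hh
        exact h' (hγ _ hh)
      exact ⟨by rw [h, hc'], hc', h'⟩
    · exact absurd rfl hne
  refine ⟨fun ξ η ζ hξ hη h1 h2 => ?_, funext fun x => ?_⟩
  · obtain ⟨e1, f1, g1⟩ := hpull α r hα ξ hξ
    obtain ⟨e2, f2, g2⟩ := hpull β s hβ η hη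
    have h3 := hprop (f ξ) (f η) (f ζ) g1 g2 (h1.map f.continuous) (h2.map f.continuous)
    have := hle ζ
    rw [f1, f2] at h3
    omega
  let F : Y → Y.Modules := fun a => Cyc.closureStructureSheaf a
  have hcoh : ∀ a, Coh.IsCoh (F a) := fun a => Groth.KTheory.Devissage.isCoh_closureStructureSheaf a
  set SA := (Groth.Calg6.CycleLinear.finite_cycle_gen α (f x)).toFinset with hSA
  set SB := (Groth.Calg6.CycleLinear.finite_cycle_gen β (f x)).toFinset with hSB
  have hbd : ∀ (γ : AlgebraicCycle Y ℤ) (c : ℤ), γ ∈ Cyc.Zk Y δY c →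
      ∀ a ∈ (Groth.Calg6.CycleLinear.finite_cycle_gen γ (f x)).toFinset, δY a = c ∧ γ a ≠ 0 ∧
        ∀ y : Y, Nontrivial ((F a).presheaf.stalk y) → a ⤳ y ∧ δY y ≤ c := by
    intro γ c hγ a ha
    have h2 := ((Groth.Calg6.CycleLinear.finite_cycle_gen γ (f x)).mem_toFinset.1 ha).2
    have hc' : δY a = c := by
      by_contra hh
      exact h2 (hγ a hh)
    refine ⟨hc', h2, fun y hy => ?_⟩
    have := Groth.Calg6.CycleLinear.delta_le_of_nontrivial_closure hY.2.2 a y hy
    exact ⟨this.1, hc' ▸ this.2⟩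
  have hP : ∀ (c : ℤ) (a : Y), (∀ y : Y, Nontrivial ((F a).presheaf.stalk y) → δY y ≤ c) →
      (∀ x' : X, Nontrivial (((Scheme.Modules.pullback f).obj (F a)).presheaf.stalk x') → δX x' ≤ c + e) ∧
        Cyc.pullFun f δX δY e (Cyc.sheafFun δY c (F a)) =
          Cyc.sheafFun δX (c + e) ((Scheme.Modules.pullback f).obj (F a)) := fun c a h =>
    Groth.Cycles.pullFun_sheafFun_eq f hX.2.2 (e : ℤ) hc c (F a) h
  have hdec : ∀ (γ : AlgebraicCycle Y ℤ) (c : ℤ), γ ∈ Cyc.Zk Y δY c → ∀ ξ : X, ξ ⤳ x →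
      Cyc.pullFun f δX δY e (⇑γ) ξ = ∑ a ∈ (Groth.Calg6.CycleLinear.finite_cycle_gen γ (f x)).toFinset,
        γ a * Cyc.sheafFun δX (c + e) ((Scheme.Modules.pullback f).obj (F a)) ξ := by
    intro γ c hγ ξ hξ
    rw [Cyc.pullFun, Groth.Calg6.CycleLinear.cycle_eq_sum hY.2.2 γ hγ (f x) (f ξ) (hξ.map f.continuous)]
    by_cases hd : δX ξ = δY (f ξ) + e
    · rw [if_pos hd, Finset.sum_mul]
      refine Finset.sum_congr rfl fun a ha => ?_
      rw [← (hP c a fun y hy => ((hbd γ c hγ a ha).2.2 y hy).2).2, Cyc.pullFun, if_pos hd, mul_assoc]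
    · rw [if_neg hd]
      refine (Finset.sum_eq_zero fun a ha => ?_).symm
      rw [← (hP c a fun y hy => ((hbd γ c hγ a ha).2.2 y hy).2).2, Cyc.pullFun, if_neg hd, mul_zero]
  have hfinX : ∀ (γ : AlgebraicCycle Y ℤ) (c : ℤ), γ ∈ Cyc.Zk Y δY c →
      ∀ a ∈ (Groth.Calg6.CycleLinear.finite_cycle_gen γ (f x)).toFinset,
        {ξ : X | ξ ⤳ x ∧ Cyc.sheafFun δX (c + e) ((Scheme.Modules.pullback f).obj (F a)) ξ ≠ 0}.Finite := by
    intro γ c hγ a ha
    haveI : (F a).IsQuasicoherent := (hcoh a).1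
    exact Groth.Calg6.CycleLinear.finite_sheafFun_gen hX.2.2 _
      ⟨Groth.QCohMod.isQCoh_pullback_obj f (F a), Groth.QCohMod.isFT_pullback f (F a) (hcoh a).2⟩ _
      (hP c a fun y hy => ((hbd γ c hγ a ha).2.2 y hy).2).1 x
  have hfinY : ∀ (γ : AlgebraicCycle Y ℤ) (c : ℤ), γ ∈ Cyc.Zk Y δY c →
      ∀ a ∈ (Groth.Calg6.CycleLinear.finite_cycle_gen γ (f x)).toFinset,
        {ξ : Y | ξ ⤳ f x ∧ Cyc.sheafFun δY c (F a) ξ ≠ 0}.Finite := fun γ c hγ a ha =>
    Groth.Calg6.CycleLinear.finite_sheafFun_gen hY.2.2 (F a) (hcoh a) c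
      (fun y hy => ((hbd γ c hγ a ha).2.2 y hy).2) (f x)
  rw [Groth.Calg6.CycleLinear.interProd_sum δX n x SA SB _ _ (fun a => α a) (fun b => β b) _ _
    (hdec α r hα) (hdec β s hβ) (hfinX α r hα) (hfinX β s hβ)]
  rw [Cyc.pullFun, Groth.Calg6.CycleLinear.interProd_sum δY m (f x) SA SB (⇑α) (⇑β) (fun a => α a) (fun b => β b)
    (fun a => Cyc.sheafFun δY r (F a)) (fun b => Cyc.sheafFun δY s (F b))
    (fun ξ hξ => Groth.Calg6.CycleLinear.cycle_eq_sum hY.2.2 α hα (f x) ξ hξ)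
    (fun ξ hξ => Groth.Calg6.CycleLinear.cycle_eq_sum hY.2.2 β hβ (f x) ξ hξ) (hfinY α r hα) (hfinY β s hβ)]
  have key : ∀ a ∈ SA, ∀ b ∈ SB, Cyc.pullFun f δX δY e
      (IntMult.interProd δY m (Cyc.sheafFun δY r (F a)) (Cyc.sheafFun δY s (F b))) x =
      IntMult.interProd δX n (Cyc.sheafFun δX (r + e) ((Scheme.Modules.pullback f).obj (F a)))
        (Cyc.sheafFun δX (s + e) ((Scheme.Modules.pullback f).obj (F b))) x := by
    intro a ha b hb
    obtain ⟨hra, hαa, hFa⟩ := hbd α r hα a ha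
    obtain ⟨hsb, hβb, hFb⟩ := hbd β s hβ b hb
    refine congrFun (Groth.Agent.S6471.result K X Y f gX gY hf δX δY hX hY hδX hδY hδ n m hn hm e he hrel
      (F a) (F b) (hcoh a) (hcoh b) r s (fun y hy => (hFa y hy).2) (fun y hy => (hFb y hy).2)
      fun y hy hy' => ?_).2 x
    have := hprop a b y hαa hβb (hFa y hy).1 (hFb y hy').1
    rwa [hra, hsb] at this
  by_cases hd : δX x = δY (f x) + e
  · rw [if_pos hd, Finset.sum_mul]
    refine Finset.sum_congr rfl fun a ha => ?_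
    rw [Finset.sum_mul]
    refine Finset.sum_congr rfl fun b hb => ?_
    rw [← key a ha b hb, Cyc.pullFun, if_pos hd, mul_assoc]
  · rw [if_neg hd]
    refine (Finset.sum_eq_zero fun a ha => Finset.sum_eq_zero fun b hb => ?_).symm
    rw [← key a ha b hb, Cyc.pullFun, if_neg hd, mul_zero]

end Groth.Agent.S6451
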