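import Groth.Statements.S6453
import Groth.Agent.Calg6.TorCM
import Groth.Agent.Calg6.ProperStalk
import Groth.Agent.VarietyBC.SmoothChart
-- import your own Groth.Agent.* helpers here

set_option autoImplicit false
universe u
open CategoryTheory AlgebraicGeometry
attribute [local instance] HasDerivedCategory.standard
open IntMult

namespace Groth.Agent.S6453

/-- Suppose the ideal of V in O_{X,ξ} is generated by a single nonzerodivisor g (c = 1: V is an
effective Cartier divisor at ξ). Then e(X, V·W, Z) = length_{O_{X,ξ}}(O_{W,ξ}/g O_{W,ξ}), i.e. the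
length of O_{X,ξ}/(I_{W,ξ} + (g)). Here X is a nonsingular variety over an algebraically closed
field K (smooth, separated, quasi-compact, integral), V and W are closed subvarieties given by
quasi-coherent ideal sheaves with integral subschemes, of dimensions r and s with dim X = n,
intersecting properly, and ξ is the generic point of an irreducible component Z of V ∩ W (a point of
V ∩ W maximal under specialization); e(X, V·W, Z) = IntMult.mult is the alternating sum of lengths
of Tor over O_{X,ξ}, and O_{W,ξ} = O_{X,ξ}/I_{W,ξ}. -/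
theorem result (K : Type u) [Field K] [IsAlgClosed K] (X : Scheme.{u}) (f : X ⟶ Spec (CommRingCat.of K)) [Smooth f] [IsSeparated f] [QuasiCompact f] [IsIntegral X] (IV IW : X.IdealSheafData) [IsIntegral IV.subscheme] [IsIntegral IW.subscheme] (n r s : ℕ) (hn : topologicalKrullDim X = n) (hr : topologicalKrullDim IV.support = r) (hs : topologicalKrullDim IW.support = s) (hprop : IntMult.ProperInt (IV.support : Set X) (IW.support : Set X) n r s) (ξ : X) (hξV : ξ ∈ IV.support) (hξW : ξ ∈ IW.support) (hmax : ∀ ξ' : X, ξ' ∈ IV.support → ξ' ∈ IW.support → ξ' ⤳ ξ → ξ' = ξ) (g : ↑(X.presheaf.stalk ξ)) (hg : IntMult.stalkIdeal IV ξ = Ideal.span {g}) (hreg : IsSMulRegular (↑(X.presheaf.stalk ξ)) g) : (IntMult.mult IV IW ξ : ℤ) = (Module.length (X.presheaf.stalk ξ) (↑(X.presheaf.stalk ξ) ⧸ (IntMult.stalkIdeal IW ξ ⊔ Ideal.span {g}))).toNat := by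
  letI : X.Over (Spec (CommRingCat.of K)) := ⟨f⟩
  haveI : Smooth (X ↘ Spec (CommRingCat.of K)) := inferInstanceAs (Smooth f)
  haveI : IsRegularLocalRing (X.presheaf.stalk ξ) := Groth.VarietyBC.isRegularLocalRing_of_mem_smoothLocus (k := K) (by
    rw [Scheme.Hom.smoothLocus_eq_top]; trivial)
  obtain ⟨d, a, b, hd, ha, hb, hdab⟩ := Groth.Calg6.ProperStalk.dim_le_add f IV IW hn hr hs hprop hξV hξW
  have hfl := Groth.Calg6.ProperStalk.isFiniteLength_inter IV IW hmax
  have hgm : g ∈ IsLocalRing.maximalIdeal (X.presheaf.stalk ξ) :=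
    IsLocalRing.le_maximalIdeal (Groth.Calg6.ProperStalk.stalkIdeal_ne_top IV hξV)
      (hg ▸ Ideal.mem_span_singleton_self g)
  have hpd : Groth.Ega4Algebra1.PdLT (X.presheaf.stalk ξ) (↑(X.presheaf.stalk ξ) ⧸ IntMult.stalkIdeal IV ξ) (1 + 1) := by
    rw [hg]
    refine (Groth.Ega4Algebra1.PdLT.ker_iff (Submodule.mkQ (Ideal.span {g})) (Submodule.mkQ_surjective _) 0).2 ?_
    rw [Groth.Ega4Algebra1.PdLT.one_iff, Submodule.ker_mkQ]
    exact Module.Projective.of_equiv ((LinearEquiv.ofInjective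
      (LinearMap.toSpanSingleton (X.presheaf.stalk ξ) (X.presheaf.stalk ξ) g)
      (fun x y h => hreg (by simpa [mul_comm] using h))).trans (LinearEquiv.ofEq _ _ (LinearMap.range_toSpanSingleton g)))
  have ha1 : a + 1 = d := by
    have h := ringKrullDim_quotient_span_singleton_succ_eq_ringKrullDim hreg hgm
    rw [← hg, ha, hd] at h
    exact_mod_cast h
  have hb1 : 1 ≤ b := by omega
  haveI := Groth.Calg6.ProperStalk.isPrime_stalkIdeal IW hξW
  have hne : IntMult.stalkIdeal IW ξ ≠ IsLocalRing.maximalIdeal (X.presheaf.stalk ξ) := fun h => by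
    rw [h] at hb
    let := Ideal.Quotient.field (IsLocalRing.maximalIdeal (X.presheaf.stalk ξ))
    rw [ringKrullDim_eq_zero_of_field] at hb
    have : (0 : ℕ) = b := by exact_mod_cast hb
    omega
  obtain ⟨x, hxm, hx⟩ := SetLike.exists_of_lt (lt_of_le_of_ne (IsLocalRing.le_maximalIdeal Ideal.IsPrime.ne_top') hne)
  have hdep : ((1 : ℕ) : ℕ∞) ≤ LocCoh.depth (X.presheaf.stalk ξ) (↑(X.presheaf.stalk ξ) ⧸ IntMult.stalkIdeal IW ξ) := by
    refine (Groth.LocCohBase.le_idealDepth_iff_exists _ (Groth.LocCohBase.smul_maximalIdeal_ne_top _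
      (IsLocalRing.maximalIdeal.isMaximal _).ne_top) 1).2 ⟨[x], rfl, ?_, by simpa using hxm⟩
    rw [RingTheory.Sequence.isWeaklyRegular_cons_iff]
    refine ⟨fun u v huv => ?_, RingTheory.Sequence.IsWeaklyRegular.nil _ _⟩
    obtain ⟨u, rfl⟩ := Ideal.Quotient.mk_surjective u
    obtain ⟨v, rfl⟩ := Ideal.Quotient.mk_surjective v
    have h' : x * (u - v) ∈ IntMult.stalkIdeal IW ξ := by
      rw [mul_sub]
      exact Ideal.Quotient.eq.1 huv
    exact Ideal.Quotient.eq.2 ((Ideal.IsPrime.mem_or_mem ‹_› h').resolve_left hx)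
  rw [IntMult.mult, Groth.Calg6.TorCM.chi_quot 1 _ _ hpd hdep hfl, hg, sup_comm]

end Groth.Agent.S6453
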