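import Groth.Statements.S6455
import Groth.Agent.CycInter.C1Basic

set_option autoImplicit false
universe u
open CategoryTheory AlgebraicGeometry
open Cyc

namespace Groth.Agent.S6455

/-- c_1(O_X) ∩ α = 0 in CH_k(X) for every (k + 1)-cycle α: computed with any nonzero rational sections
of the structure sheaf, the k-cycle c_1(O_X) ∩ α is rationally equivalent to zero. Here L(ξ) =
L_ξ/𝔪_ξ L_ξ is the space of rational sections of L on the closure of ξ, div_{L|W}(s) and c_1(L) ∩ α
are computed as coefficient functions from chosen nonzero rational sections (Cyc.secDivFun,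
Cyc.c1CapFun), and results are compared up to rational equivalence for any cycles with those
coefficients. A pair (X, δ) with Cyc.IsSetup plays the role of a scheme locally of finite type over
the base (S, δ) (X locally Noetherian with universally catenary local rings, δ a dimension
function). -/
theorem result (X : Scheme.{u}) (δ : X → ℤ) (hX : Cyc.IsSetup X δ) (k : ℤ) (α : AlgebraicCycle X ℤ) (hα : α ∈ Cyc.Zk X δ (k + 1)) (s : (ξ : X) → Cyc.secFibre (Coh.structureModule X) ξ) (hs : ∀ ξ, s ξ ≠ 0) (γ : AlgebraicCycle X ℤ) (hγ : ⇑γ = Cyc.c1CapFun δ (Coh.structureModule X) ⇑α s) : Cyc.RatEquivZero δ k γ := by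
  exact Groth.CycInter.c1_structure hX hα hs hγ

end Groth.Agent.S6455
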