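import Groth.Statements.S6456
import Groth.Agent.CycInter.GysinComm

set_option autoImplicit false
universe u
open CategoryTheory AlgebraicGeometry
open Cyc

namespace Groth.Agent.S6456

/-- Let (L, s, i : D → X) be a triple defining a Gysin map (L invertible, s a global section, i the
closed immersion of its zero scheme) and α a (k + 1)-cycle on X. Then i_* i^* α = c_1(L) ∩ α in
CH_k(X). Here i_* i^* α is the k-cycle on X computed as c_1(L) ∩ α with the rational sections s
where s is nonzero in L(ξ) and a nonzero fallback w elsewhere (Cyc.gysinChoice), and c_1(L) ∩ α on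
the right is computed with any nonzero rational sections t. Here L(ξ) = L_ξ/𝔪_ξ L_ξ is the space of
rational sections of L on the closure of ξ, div_{L|W}(s) and c_1(L) ∩ α are computed as coefficient
functions from chosen nonzero rational sections (Cyc.secDivFun, Cyc.c1CapFun), and results are
compared up to rational equivalence for any cycles with those coefficients. A pair (X, δ) with
Cyc.IsSetup plays the role of a scheme locally of finite type over the base (S, δ) (X locally
Noetherian with universally catenary local rings, δ a dimension function). -/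
theorem result (X D : Scheme.{u}) (δ : X → ℤ) (hX : Cyc.IsSetup X δ) (L : X.Modules) (hL : PicF.IsInvertible L) (s : L.presheaf.obj (Opposite.op ⊤)) (i : D ⟶ X) [IsClosedImmersion i] (hD : Cyc.IsZeroSchemeOf i L s) (k : ℤ) (α : AlgebraicCycle X ℤ) (hα : α ∈ Cyc.Zk X δ (k + 1)) (w : (ξ : X) → Cyc.secFibre L ξ) (hw : ∀ ξ, w ξ ≠ 0) (t : (ξ : X) → Cyc.secFibre L ξ) (ht : ∀ ξ, t ξ ≠ 0) (γ₁ γ₂ : AlgebraicCycle X ℤ) (h₁ : ⇑γ₁ = Cyc.c1CapFun δ L ⇑α (Cyc.gysinChoice L s w)) (h₂ : ⇑γ₂ = Cyc.c1CapFun δ L ⇑α t) : Cyc.RatEquiv δ k γ₁ γ₂ := by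
  exact Groth.CycInter.gysin_push hX hL hα hw ht h₁ h₂

end Groth.Agent.S6456
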