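import Groth.Statements.S6459
import Groth.Agent.Cycles.DimFun

set_option autoImplicit false
universe u
open CategoryTheory AlgebraicGeometry
open Cyc

namespace Groth.Agent.S6459

/-- (b) ⇔ (c): let X be integral with generic point η and Z ⊂ X an integral closed subscheme with
generic point ξ. Then Z has codimension 1 in X (the local ring O_{X,ξ} is one-dimensional; Z is a
prime divisor) if and only if dim_δ(Z) = dim_δ(X) − 1. Here a pair (X, δ) with Cyc.IsSetup plays the
role of a scheme locally of finite type over the base (S, δ) (X locally Noetherian with universally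
catenary local rings, δ a dimension function). -/
theorem result (X : Scheme.{u}) [IsIntegral X] (δ : X → ℤ) (hX : Cyc.IsSetup X δ) (ξ : X) : ringKrullDim ↑(X.presheaf.stalk ξ) = 1 ↔ δ ξ = δ (genericPoint X) - 1 := by
  have hδ := hX.2.2
  have hle : ∀ z : X, z ≤ genericPoint X := fun z => genericPoint_specializes z
  rw [ringKrullDim_stalk_eq_coheight]
  constructor
  · intro h
    have hcoh : Order.coheight ξ = 1 := by exact_mod_cast h
    have hne : ξ ≠ genericPoint X := by
      intro e
      have : Order.coheight ξ = 0 := Order.coheight_eq_zero.mpr (fun z _ => e ▸ hle z)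
      simp [this] at hcoh
    obtain ⟨z, hz, -⟩ := Groth.Cycles.exists_covBy_le hδ
      (Groth.Cycles.lt_iff_specializes.mpr ⟨genericPoint_specializes ξ, hne⟩)
    have hz1 : Order.coheight z + 1 ≤ 1 := hcoh ▸ Order.coheight_add_one_le hz.lt
    have hz0 : Order.coheight z = 0 := by
      cases h' : Order.coheight z using ENat.recTopCoe with
      | top => simp [h'] at hz1
      | coe n =>
        rw [h'] at hz1
        have : n + 1 ≤ 1 := by exact_mod_cast hz1
        exact_mod_cast (show n = 0 by omega)
    have hzη : z = genericPoint X :=
      ((genericPoint_specializes z).antisymm (Order.coheight_eq_zero.mp hz0 (hle z))).eq.symm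
    have := Groth.Cycles.delta_eq_of_covBy hδ hz
    rw [hzη] at this
    omega
  · intro h
    have hlt : ξ < genericPoint X := Groth.Cycles.lt_iff_specializes.mpr
      ⟨genericPoint_specializes ξ, fun e => by rw [← e] at h; omega⟩
    have hcb := Groth.Cycles.covBy_of_delta_eq hδ (genericPoint_specializes ξ)
      (show δ (genericPoint X) = δ ξ + 1 by omega)
    have : Order.coheight ξ = 1 := by
      refine le_antisymm ?_ ?_
      · refine Order.coheight_le_iff.mpr fun p hp => ?_
        rcases Nat.lt_or_ge p.length 2 with hl | hl
        · exact_mod_cast Nat.lt_succ_iff.mp hl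
        · exfalso
          have h1 : p.head < p ⟨1, by omega⟩ := p.step ⟨0, by omega⟩
          have h2 : p ⟨1, by omega⟩ < p.last :=
            p.strictMono (Fin.lt_def.mpr (by simp; omega))
          have h3 : p ⟨1, by omega⟩ < genericPoint X := lt_of_lt_of_le h2 (hle _)
          exact hcb.2 (lt_of_le_of_lt hp h1) h3
      · calc (1 : ℕ∞) = 0 + 1 := (zero_add 1).symm
          _ ≤ Order.coheight (genericPoint X) + 1 := by gcongr; exact zero_le
          _ ≤ _ := Order.coheight_add_one_le hlt
    simp [this]

end Groth.Agent.S6459
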