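import Groth.Statements.S6458
import Groth.Agent.S6459
import Mathlib.AlgebraicGeometry.FunctionField

set_option autoImplicit false
universe u
open CategoryTheory AlgebraicGeometry
open Cyc

namespace Groth.Agent.S6458

/-- Let X be integral with generic point η and ξ the generic point of an irreducible component of an
effective Cartier divisor on X; locally: g ∈ 𝔪_ξ ⊂ O_{X,ξ} is nonzero and O_{X,ξ}/(g) is
zero-dimensional. Then dim_δ of the closure of ξ is dim_δ(X) − 1, i.e. δ(ξ) = δ(η) − 1. Here a pair
(X, δ) with Cyc.IsSetup plays the role of a scheme locally of finite type over the base (S, δ) (X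
locally Noetherian with universally catenary local rings, δ a dimension function). -/
theorem result (X : Scheme.{u}) [IsIntegral X] (δ : X → ℤ) (hX : Cyc.IsSetup X δ) (ξ : X) (g : ↑(X.presheaf.stalk ξ)) (hg0 : g ≠ 0) (hgm : g ∈ IsLocalRing.maximalIdeal (X.presheaf.stalk ξ)) (hdim : ringKrullDim (↑(X.presheaf.stalk ξ) ⧸ Ideal.span {g}) = 0) : δ ξ = δ (genericPoint X) - 1 := by
  refine (Groth.Agent.S6459.result X δ hX ξ).mp ?_
  have := hX.1
  have hmin : IsLocalRing.maximalIdeal (X.presheaf.stalk ξ) ∈ (Ideal.span {g}).minimalPrimes := by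
    refine ⟨⟨inferInstance, (Ideal.span_singleton_le_iff_mem _).mpr hgm⟩, fun q ⟨hq, hgq⟩ hle => ?_⟩
    have : Ring.KrullDimLE 0 (↑(X.presheaf.stalk ξ) ⧸ Ideal.span {g}) := Ring.krullDimLE_iff.mpr (le_of_eq hdim)
    have hmax : q.IsMaximal := by
      have hsurj : Function.Surjective (Ideal.Quotient.mk (Ideal.span {g})) := Ideal.Quotient.mk_surjective
      have hker : RingHom.ker (Ideal.Quotient.mk (Ideal.span {g})) ≤ q := by rwa [Ideal.mk_ker]
      have : (q.map (Ideal.Quotient.mk (Ideal.span {g}))).IsPrime := Ideal.map_isPrime_of_surjective hsurj hker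
      have : (q.map (Ideal.Quotient.mk (Ideal.span {g}))).IsMaximal := Ideal.IsPrime.isMaximal' inferInstance
      rw [← sup_of_le_left hker, RingHom.ker_eq_comap_bot, ← Ideal.comap_map_of_surjective _ hsurj]
      exact Ideal.comap_isMaximal_of_surjective _ hsurj
    exact ((IsLocalRing.eq_maximalIdeal hmax).symm).le
  have hle : (IsLocalRing.maximalIdeal (X.presheaf.stalk ξ)).height ≤ 1 :=
    Ideal.height_le_one_of_isPrincipal_of_mem_minimalPrimes _ _ hmin
  have hpos : 0 < (IsLocalRing.maximalIdeal (X.presheaf.stalk ξ)).height := by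
    rw [pos_iff_ne_zero, Ne, Ideal.height_eq_zero_iff_eq_bot]
    intro h
    rw [h, Ideal.mem_bot] at hgm
    exact hg0 hgm
  rw [← IsLocalRing.maximalIdeal_height_eq_ringKrullDim,
    le_antisymm hle (Order.one_le_iff_pos.mpr hpos)]
  rfl

end Groth.Agent.S6458
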