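import Groth.Statements.S6461
import Groth.Agent.Cycles.DimJacobson
import Groth.Agent.LocDual.DimQuotient
import Groth.Agent.LocCohTransform.DimCd
-- import your own Groth.Agent.* helpers here

set_option autoImplicit false
universe u
open CategoryTheory AlgebraicGeometry
open Cyc

namespace Groth.Agent.S6461

/-- If all local rings of X are Cohen–Macaulay then every x ∈ X has an open neighbourhood U and an
integer n with δ(ξ) = n for every generic point ξ of an irreducible component of U (every point of U
maximal under specialization). Here a pair (X, δ) with Cyc.IsSetup plays the role of a scheme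
locally of finite type over the base (S, δ) (X locally Noetherian with universally catenary local
rings, δ a dimension function). -/
theorem result (X : Scheme.{u}) (δ : X → ℤ) (hX : Cyc.IsSetup X δ) (hCM : ∀ x : X, LocCoh.IsCohenMacaulayLocalRing ↑(X.presheaf.stalk x)) (x : X) : ∃ (U : X.Opens) (n : ℤ), x ∈ U ∧ ∀ ξ : X, ξ ∈ U → (∀ ξ' : X, ξ' ⤳ ξ → ξ' = ξ) → δ ξ = n := by
  classical
  have := hX.1
  obtain ⟨U, hxU, hU⟩ := Groth.Cycles.exists_nhd_forall_isMax x
  obtain ⟨r, hr⟩ := Groth.LocCohTransform.DimCd.exists_nat_ringKrullDim (A := X.presheaf.stalk x)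
  refine ⟨U, δ x + r, hxU, fun ξ hξU hmax => ?_⟩
  have h : ξ ⤳ x := hU ξ (Groth.Cycles.isMax_iff.mpr hmax) hξU
  set P := RingHom.ker (Cyc.specMap x ξ h) with hPdef
  have : P.IsPrime := RingHom.ker_isPrime _
  have hP : P.height = 0 := by
    rw [Ideal.height_eq_zero_iff]
    refine ⟨⟨inferInstance, bot_le⟩, fun Q hQ hQP => ?_⟩
    let Q' : PrimeSpectrum (X.presheaf.stalk x) := ⟨Q, hQ.1⟩
    let ψ := X.presheaf.stalkSpecializes h
    let P' : PrimeSpectrum (X.presheaf.stalk x) := Spec.map ψ (IsLocalRing.closedPoint _)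
    have hP' : P'.asIdeal = P := by
      ext a
      exact (Ideal.Quotient.eq_zero_iff_mem (I := IsLocalRing.maximalIdeal (X.presheaf.stalk ξ))).symm
    have hξ : X.fromSpecStalk x P' = ξ := by
      change (Spec.map ψ ≫ X.fromSpecStalk x) _ = ξ
      rw [Scheme.SpecMap_stalkSpecializes_fromSpecStalk]
      exact Scheme.fromSpecStalk_closedPoint
    have hsp : Q' ⤳ P' := (PrimeSpectrum.le_iff_specializes Q' P').mp (show Q ≤ P'.asIdeal from hP' ▸ hQP)
    have hmap := hsp.map (X.fromSpecStalk x).continuous
    erw [hξ] at hmap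
    have e : Q' = P' := (X.fromSpecStalk x).isEmbedding.injective ((hmax _ hmap).trans hξ.symm)
    exact (hP'.symm.trans (congrArg PrimeSpectrum.asIdeal e).symm).le
  have hd : ringKrullDim (X.presheaf.stalk x ⧸ P) = ((δ ξ - δ x).toNat : WithBot ℕ∞) :=
    (Groth.Cycles.ringKrullDim_locQuot x ξ h).trans (Groth.Cycles.krullDim_interval hX.2.2 h)
  have := Groth.LocDual.height_add_ringKrullDim_quotient (hCM x) hr P
    (IsLocalRing.le_maximalIdeal (Ideal.IsPrime.ne_top ‹_›)) (g := 0) (by exact_mod_cast hP) hd
  have := Groth.Cycles.delta_le_of_specializes hX.2.2 h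
  omega

end Groth.Agent.S6461
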