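import Groth.Statements.S6463
import Groth.Agent.GrpschAbsch.H0General
import Groth.Agent.GrpschAbsch.FibreFlat
import Groth.Agent.AlgGrp1.Geom
-- import your own Groth.Agent.* helpers here

set_option autoImplicit false
universe u
open CategoryTheory CategoryTheory.Limits AlgebraicGeometry
open PicF

namespace Groth.Agent.S6463

/-- For a field k and a smooth projective curve X over k that has a k-rational point σ, the conditions
under which the Picard functor is computed through the section are met: f : X → Spec k is flat,
proper and of finite presentation with a section, and O_T → f_{T,*} O_{X_T} is an isomorphism for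
every scheme T over k. Only the last assertion is stated (the others are part of the hypotheses or
immediate): for every t : T → Spec k, the sheaf map of the base change X ×_k T → T is an
isomorphism. Proper replaces projective (they agree for curves over a field). -/
theorem result (k : Type u) [Field k] (X : Scheme.{u}) (f : X ⟶ Spec (CommRingCat.of k)) (hX : Curve.IsSmoothProperCurve k X f) (σ : Spec (CommRingCat.of k) ⟶ X) (hσ : σ ≫ f = 𝟙 (Spec (CommRingCat.of k))) (T : Scheme.{u}) (t : T ⟶ Spec (CommRingCat.of k)) : IsIso (pullback.snd f t).c := by
  obtain ⟨hp, hs, hi, -⟩ := hX
  have : GeometricallyConnected f := Groth.AlgGrp1.geometricallyConnected_of_point f σ hσ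
  have : GeometricallyReduced f := Groth.GrpschAbsch.FibreFlat.geometricallyReduced_of_smooth f
  have : IsProper (pullback.snd f t) := MorphismProperty.pullback_snd _ _ hp
  have : Smooth (pullback.snd f t) := MorphismProperty.pullback_snd _ _ hs
  have : GeometricallyConnected (pullback.snd f t) := MorphismProperty.pullback_snd _ _ ‹_›
  have : ∀ V, IsIso ((pullback.snd f t).c.app V) := fun V =>
    (ConcreteCategory.isIso_iff_bijective _).2
      (Groth.GrpschAbsch.H0General.app_bijective (pullback.snd f t) V.unop)
  exact NatIso.isIso_of_isIso_app _

end Groth.Agent.S6463
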