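import Groth.Statements.S6467
import Groth.Agent.ChowK.RatHom

set_option autoImplicit false
universe u
open CategoryTheory AlgebraicGeometry
open Cyc

namespace Groth.Agent.S6467

section Helpers

open CategoryTheory.Limits Groth.ChowK Groth.QCohMod

variable {X : Scheme.{u}} {δ : X → ℤ} {a b : ℤ}

theorem toQuot_ker_coker [IsLocallyNoetherian X] {A J : X.Modules} (f : A ⟶ J) (hA : Cyc.CohLe δ a A)
    (hJ : Cyc.CohLe δ a J) :
    Cyc.toK0CohQuot δ a b A + Cyc.toK0CohQuot δ a b (cokernel f) =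
      Cyc.toK0CohQuot δ a b (kernel f) + Cyc.toK0CohQuot δ a b J := by
  have := hA.1.1
  have := hJ.1.1
  have hK : Cyc.CohLe δ a (kernel f) :=
    cohLe_of_support (Groth.QCohMod.isCoh_kernel f hA.1) fun x hx =>
      CohLe.le hA (Groth.KTheory.Devissage.support_subset_of_mono (kernel.ι f) hx)
  have hC : Cyc.CohLe δ a (cokernel f) :=
    cohLe_of_support (Groth.QCohMod.isCoh_cokernel f hJ.1) fun x hx =>
      CohLe.le hJ (Groth.KTheory.Devissage.support_subset_of_epi (cokernel.π f) hx)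
  have hI : Cyc.CohLe δ a (kernel (cokernel.π f)) :=
    haveI := hC.1.1
    cohLe_of_support (Groth.QCohMod.isCoh_kernel (cokernel.π f) hJ.1) fun x hx =>
      CohLe.le hJ (Groth.KTheory.Devissage.support_subset_of_mono (kernel.ι (cokernel.π f)) hx)
  have hf : (ShortComplex.mk (kernel.ι (cokernel.π f)) (cokernel.π f) (kernel.condition _)).ShortExact :=
    { exact := ShortComplex.exact_of_f_is_kernel _ (kernelIsKernel _)
      mono_f := inferInstance
      epi_g := inferInstanceAs (Epi (cokernel.π f)) }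
  have hk : (ShortComplex.mk (kernel.ι f) (Abelian.factorThruImage f) (by
      rw [← cancel_mono (Abelian.image.ι f)]; simp)).ShortExact :=
    { exact := by
        apply ShortComplex.exact_of_f_is_kernel
        refine KernelFork.IsLimit.ofι' _ _ fun {W'} k h => ⟨kernel.lift f k ?_, kernel.lift_ι _ _ _⟩
        have := h =≫ Abelian.image.ι f
        simpa using this
      mono_f := inferInstance
      epi_g := inferInstance }
  have e2 := toQuot_rel (b := b) _ hf hI hJ hC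
  have e3 := toQuot_rel (b := b) _ hk hK hA hI
  change Cyc.toK0CohQuot δ a b J = Cyc.toK0CohQuot δ a b (kernel (cokernel.π f)) +
    Cyc.toK0CohQuot δ a b (cokernel f) at e2
  change Cyc.toK0CohQuot δ a b A = Cyc.toK0CohQuot δ a b (kernel f) +
    Cyc.toK0CohQuot δ a b (kernel (cokernel.π f)) at e3
  rw [e2, e3]
  abel

theorem toQuot_homology [IsLocallyNoetherian X] {k : ℤ} {F : X.Modules} (hF : Cyc.CohLe δ (k + 1) F)
    (φ ψ : F ⟶ F) (h : φ ≫ ψ = 0)
    (h0 : ∀ x : X, Nontrivial ((ShortComplex.mk φ ψ h).homology.presheaf.stalk x) → δ x ≤ k) :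
    Cyc.CohLe δ k (ShortComplex.mk φ ψ h).homology ∧
      Cyc.toK0CohQuot δ (k + 1) b (ShortComplex.mk φ ψ h).homology =
        Cyc.toK0CohQuot δ (k + 1) b (kernel φ) + Cyc.toK0CohQuot δ (k + 1) b (kernel ψ) -
          Cyc.toK0CohQuot δ (k + 1) b F := by
  have := hF.1.1
  let f : F ⟶ kernel ψ := kernel.lift ψ φ h
  have hK : ∀ g : F ⟶ F, Cyc.CohLe δ (k + 1) (kernel g) := fun g =>
    cohLe_of_support (Groth.QCohMod.isCoh_kernel g hF.1) fun x hx =>
      CohLe.le hF (Groth.KTheory.Devissage.support_subset_of_mono (kernel.ι g) hx)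
  have := (hK ψ).1.1
  let e : (ShortComplex.mk φ ψ h).homology ≅ cokernel f :=
    (ShortComplex.LeftHomologyData.ofHasKernelOfHasCokernel (ShortComplex.mk φ ψ h)).homologyIso
  have hC : Coh.IsCoh (cokernel f) := Groth.QCohMod.isCoh_cokernel f (hK ψ).1
  have hH : Cyc.CohLe δ k (ShortComplex.mk φ ψ h).homology := ⟨isCoh_of_iso e.symm hC, h0⟩
  refine ⟨hH, ?_⟩
  have e1 := toQuot_ker_coker (b := b) f hF (hK ψ)
  have ek : kernel f ≅ kernel φ :=
    (kernelCompMono f (kernel.ι ψ)).symm ≪≫ kernelIsoOfEq (kernel.lift_ι ψ φ h)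
  rw [toQuot_iso e (cohLe_mono (by omega) hH), ← toQuot_iso ek.symm (hK φ)] at *
  rw [eq_sub_iff_add_eq, ← e1]
  abel

end Helpers


/-- Let F be a coherent O_X-module with dim_δ Supp(F) ≤ k + 1 and φ, ψ : F → F with φ ∘ ψ = 0 = ψ ∘ φ (a
2-periodic complex) whose cohomology sheaves H^0 = ker ψ / im φ and H^1 = ker φ / im ψ (for the
complex … → F →^φ F →^ψ F →^φ F → …) are supported in δ-dimension ≤ k. Then [H^0]_k ∼_rat [H^1]_k as
k-cycles on X (for any cycles with these coefficient functions, Cyc.sheafFun). Support conditions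
are phrased through nontrivial stalks. Here a pair (X, δ) with Cyc.IsSetup plays the role of a
scheme locally of finite type over the base (S, δ) (X locally Noetherian with universally catenary
local rings, δ a dimension function). -/
theorem result (X : Scheme.{u}) (δ : X → ℤ) (hX : Cyc.IsSetup X δ) (k : ℤ) (F : X.Modules) (hF : Coh.IsCoh F) (hdim : ∀ x : X, Nontrivial (F.presheaf.stalk x) → δ x ≤ k + 1) (φ ψ : F ⟶ F) (hφψ : φ ≫ ψ = 0) (hψφ : ψ ≫ φ = 0) (h0 : ∀ x : X, Nontrivial ((ShortComplex.mk φ ψ hφψ).homology.presheaf.stalk x) → δ x ≤ k) (h1 : ∀ x : X, Nontrivial ((ShortComplex.mk ψ φ hψφ).homology.presheaf.stalk x) → δ x ≤ k) (γ₀ γ₁ : AlgebraicCycle X ℤ) (hγ₀ : ⇑γ₀ = Cyc.sheafFun δ k (ShortComplex.mk φ ψ hφψ).homology) (hγ₁ : ⇑γ₁ = Cyc.sheafFun δ k (ShortComplex.mk ψ φ hψφ).homology) : Cyc.RatEquiv δ k γ₀ γ₁ := by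
  have := hX.1
  obtain ⟨hH0, e0⟩ := toQuot_homology (b := k - 1) ⟨hF, hdim⟩ φ ψ hφψ h0
  obtain ⟨hH1, e1⟩ := toQuot_homology (b := k - 1) ⟨hF, hdim⟩ ψ φ hψφ h1
  obtain ⟨ι, ξ, f, a1, a2, a3, a4⟩ := Groth.ChowK.isRat_of_toQuot_eq hX hH0 hH1
    (by rw [e0, e1]; abel)
  exact ⟨ι, ξ, f, a1, a2, a3, fun x => by
    rw [← a4, ← hγ₀, ← hγ₁]
    rfl⟩

end Groth.Agent.S6467
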