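import Groth.Statements.S6472
import Groth.Agent.KoszulLCI.LocallyRegular
import Groth.Agent.FBaseGeom.Prod
import Groth.Agent.S1582
import Groth.Agent.Variety2.CotangentScheme

set_option autoImplicit false
universe u
open CategoryTheory CategoryTheory.Limits AlgebraicGeometry
open IntMult

namespace Groth.Agent.S6472

/-- Let X be a nonsingular variety of dimension n over the algebraically closed field K. Then Δ : X → X
×_K X, the diagonal, is regular of codimension n as an immersion (RegImm.IsRegularImmersionOfCodim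
of kind regular: an immersion which, around every point, in an affine open where it is closed, is
cut out by a regular sequence of length n). Nonsingular variety: X → Spec K smooth, separated,
quasi-compact, X integral; n = Krull dimension of X. -/
theorem result (K : Type u) [Field K] [IsAlgClosed K] (X : Scheme.{u}) (f : X ⟶ Spec (CommRingCat.of K)) [Smooth f] [IsSeparated f] [QuasiCompact f] [IsIntegral X] (n : ℕ) (hn : topologicalKrullDim X = n) : RegImm.IsRegularImmersionOfCodim RegImm.Kind.regular n (pullback.diagonal f) := by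
  let Δ := pullback.diagonal f
  have : IsClosedImmersion Δ := inferInstance
  refine ⟨inferInstance, fun z => ?_⟩
  have hid : RegImm.IsRegularImmersionAt .regular (𝟙 X) z := by
    obtain ⟨W, hW, hzW, -⟩ := exists_isAffineOpen_mem_and_subset (x := z) (U := (⊤ : X.Opens)) trivial
    have : Nonempty W := ⟨⟨z, hzW⟩⟩
    refine ⟨⟨W, hW⟩, hzW, inferInstance, [], ⟨RingTheory.Sequence.IsWeaklyRegular.nil _ _, ?_⟩, ?_⟩
    · simp
    · rw [Ideal.ofList_nil, ← RingHom.injective_iff_ker_eq_bot]
      exact fun a b h => h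
  have hat : RegImm.IsRegularImmersionAt .regular Δ z :=
    Groth.KoszulLCI.isRegularImmersionAt_regular_lift (pullback.fst f f) Δ (𝟙 X)
      (pullback.diagonal_fst f) z hid
  obtain ⟨U, hzU, hci, rs, hrs, hker⟩ := hat
  refine ⟨U, hzU, hci, rs, ?_, hrs, hker⟩
  have hB : IsAffineOpen (Δ ⁻¹ᵁ U.1) := Groth.KoszulReg.isAffineOpen_preimage Δ U.1 U.2
  have : JacobsonSpace X := Groth.Variety2.Dim.jacobsonSpace f
  obtain ⟨x, hxU, hx⟩ := Groth.Variety2.Dim.exists_isClosed_singleton_mem f
    (T := ((Δ ⁻¹ᵁ U.1 : X.Opens) : Set X)) (Δ ⁻¹ᵁ U.1).isOpen.isLocallyClosed ⟨z, hzU⟩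
  -- dimensions of the two local rings
  have : IsIntegral (pullback f f) := Groth.Agent.S1582.result K X X f f
  have hhX : Order.height x = 0 := Order.height_eq_zero.mpr fun y hy => by
    have : y ∈ closure ({x} : Set X) := specializes_iff_mem_closure.mp hy
    rw [hx.closure_eq] at this
    exact (this : y = x).symm.le
  have hdX : ringKrullDim (X.presheaf.stalk x) = (n : WithBot ℕ∞) := by
    have h := Groth.Variety2.Dim.ringKrullDim_stalk_add_height f x
    rw [hn, hhX] at h
    simpa using h
  have hΔx : IsClosed ({Δ x} : Set (pullback f f : Scheme.{u})) := by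
    rw [← Set.image_singleton]
    exact Δ.isClosedEmbedding.isClosedMap _ hx
  have hhP : Order.height (Δ x) = 0 := Order.height_eq_zero.mpr fun y hy => by
    have : y ∈ closure ({Δ x} : Set (pullback f f : Scheme.{u})) := specializes_iff_mem_closure.mp hy
    rw [hΔx.closure_eq] at this
    exact (this : y = Δ x).symm.le
  have hdP : ringKrullDim ((pullback f f).presheaf.stalk (Δ x)) = ((n + n : ℕ) : WithBot ℕ∞) := by
    have h := Groth.Variety2.Dim.ringKrullDim_stalk_add_height (pullback.fst f f ≫ f) (Δ x)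
    rw [hhP, Groth.FBaseGeom.dim_prod f f, hn] at h
    simpa using h
  -- the local ring of X is a quotient of that of X × X
  let A := Γ(pullback f f, U.1)
  let B := Γ(X, Δ ⁻¹ᵁ U.1)
  let π : A →+* B := (Δ.app U.1).hom
  have hπ : Function.Surjective π := Groth.KoszulReg.surjective_app Δ U.1 U.2
  let qB := (hB.primeIdealOf ⟨x, hxU⟩).asIdeal
  let qA := (U.2.primeIdealOf ⟨Δ x, hxU⟩).asIdeal
  have hq : qB.comap π = qA := by
    have := IsAffineOpen.comap_primeIdealOf_appLE (f := Δ) U.1 U.2 (Δ ⁻¹ᵁ U.1) hB le_rfl hxU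
    show qB.comap (Δ.app U.1).hom = _
    rw [Scheme.Hom.app_eq_appLE]
    exact congrArg PrimeSpectrum.asIdeal this
  let PA := (pullback f f).presheaf.stalk (Δ x)
  let PB := X.presheaf.stalk x
  let := (pullback f f).presheaf.algebra_section_stalk (⟨Δ x, hxU⟩ : U.1)
  have : IsLocalization.AtPrime PA qA := U.2.isLocalization_stalk ⟨Δ x, hxU⟩
  let := X.presheaf.algebra_section_stalk (⟨x, hxU⟩ : (Δ ⁻¹ᵁ U.1 : X.Opens))
  have : IsLocalization.AtPrime PB qB := hB.isLocalization_stalk ⟨x, hxU⟩
  have hT : qA.primeCompl.map π = qB.primeCompl := by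
    ext b
    constructor
    · rintro ⟨a, ha, rfl⟩ hb
      exact ha (hq ▸ hb)
    · intro hb
      obtain ⟨a, rfl⟩ := hπ b
      exact ⟨a, fun h => hb (show π a ∈ qB from (hq.symm ▸ h : a ∈ qB.comap π)), rfl⟩
  let φ : PA →+* PB := IsLocalization.map PB π (show qA.primeCompl ≤ qB.primeCompl.comap π from
    Submonoid.map_le_iff_le_comap.mp hT.le)
  have hφs : Function.Surjective φ := by
    intro b
    obtain ⟨⟨c, t⟩, rfl⟩ := IsLocalization.mk'_surjective qB.primeCompl b
    obtain ⟨a, rfl⟩ := hπ c
    obtain ⟨s, hs, hst⟩ : (t : B) ∈ qA.primeCompl.map π := hT.ge t.2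
    refine ⟨IsLocalization.mk' PA a ⟨s, hs⟩, ?_⟩
    rw [IsLocalization.map_mk']
    congr 1
    exact Subtype.ext hst
  have hφk : RingHom.ker φ = Ideal.ofList (rs.map (algebraMap A PA)) := by
    rw [← Ideal.map_ofList, ← hker]
    exact IsLocalization.ker_map (S := PA) (T := qB.primeCompl) PB π hT
  -- the sequence stays regular
  have : Module.Flat A PA := IsLocalization.flat _ qA.primeCompl
  have hreg : RingTheory.Sequence.IsRegular PA (rs.map (algebraMap A PA)) := by
    refine ⟨hrs.toIsWeaklyRegular.of_flat, ?_⟩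
    rw [← hφk, smul_eq_mul, Ideal.mul_top]
    exact (RingHom.ker_ne_top φ).symm
  have : IsLocallyNoetherian (pullback f f) :=
    LocallyOfFiniteType.isLocallyNoetherian (pullback.fst f f ≫ f)
  have hd := ringKrullDim_add_length_eq_ringKrullDim_of_isRegular _ hreg
  rw [ringKrullDim_eq_of_ringEquiv
      ((Ideal.quotEquivOfEq hφk.symm).trans (RingHom.quotientKerEquivOfSurjective hφs)),
    hdX, hdP, List.length_map] at hd
  have hd' : ((n + rs.length : ℕ) : WithBot ℕ∞) = ((n + n : ℕ) : WithBot ℕ∞) := by
    rw [← hd]; push_cast; ring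
  have : n + rs.length = n + n := by exact_mod_cast hd'
  omega

end Groth.Agent.S6472
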