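import Groth.Statements.S6473
import Groth.Agent.CharCyc.DimCrit

set_option autoImplicit false
universe u
open CategoryTheory CategoryTheory.Limits AlgebraicGeometry
open IntMult

namespace Groth.Agent.S6473

/-- Let f : X → Y be a morphism of varieties over K which is a regular immersion of codimension c, and Z
⊂ Y a closed subvariety of dimension d. Then each irreducible component T of f⁻¹(Z) = X ×_Y Z
satisfies dim T ≥ d − c; stated as d ≤ dim T + c. Varieties: integral, separated, of finite type
over the algebraically closed field K. (The published statement takes f to be a closed immersion,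
regular immersions being closed there; this row allows any immersion cut out, locally on Y where it
is closed, by a regular sequence of length c, the bound being local on Y. The published statement
also has a second part, for local complete intersection morphisms of a given relative dimension,
which this row does not state.) -/
theorem result (K : Type u) [Field K] [IsAlgClosed K] (X Y Z : Scheme.{u}) (gX : X ⟶ Spec (CommRingCat.of K)) (gY : Y ⟶ Spec (CommRingCat.of K)) [IsSeparated gX] [LocallyOfFiniteType gX] [QuasiCompact gX] [IsIntegral X] [IsSeparated gY] [LocallyOfFiniteType gY] [QuasiCompact gY] [IsIntegral Y] (f : X ⟶ Y) (hf : f ≫ gY = gX) (c : ℕ) (hreg : RegImm.IsRegularImmersionOfCodim RegImm.Kind.regular c f) (ι : Z ⟶ Y) [IsClosedImmersion ι] [IsIntegral Z] (d : ℕ) (hd : topologicalKrullDim Z = d) (T : Set ↥(pullback f ι)) (hT : T ∈ irreducibleComponents ↥(pullback f ι)) : ((d : ℕ) : WithBot ℕ∞) ≤ topologicalKrullDim ↥T + c := by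
  classical
  have : IsImmersion f := hreg.1
  let g : pullback f ι ⟶ Z := pullback.snd f ι
  have hTc : IsClosed T := isClosed_of_mem_irreducibleComponents T hT
  have : QuasiSober ↥(pullback f ι) := inferInstance
  let t := hT.1.genericPoint
  have ht : IsGenericPoint t T := hT.1.isGenericPoint_genericPoint hTc
  let gZ : Z ⟶ Spec (CommRingCat.of K) := ι ≫ gY
  have : IrreducibleSpace Z := inferInstance
  have h1 : Order.height (g t) = Order.height t :=
    Groth.Variety2.Dim.height_eq_of_isPreimmersion (g ≫ gZ) gZ g rfl t
  have hdimT : ((Order.height t : ℕ∞) : WithBot ℕ∞) ≤ topologicalKrullDim ↥T := by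
    rw [Groth.Variety2.Dim.dim_closed hTc]
    exact le_iSup₂ (f := fun x (_ : x ∈ T) => ((Order.height x : ℕ∞) : WithBot ℕ∞)) t ht.mem
  obtain ⟨U, hfU, hclosed, rs, hlen, -, hker⟩ := hreg.2 (pullback.fst f ι t)
  have := hclosed
  have hcond : f (pullback.fst f ι t) = ι (g t) := by
    rw [← Scheme.Hom.comp_apply, pullback.condition, Scheme.Hom.comp_apply]
  have hmin : ∀ y : Z, genericPoint Z ⤳ y → y ⤳ g t → ι y ∈ Set.range f → y = g t := by
    intro y _ hy hyf
    obtain ⟨t', ht'⟩ : y ∈ Set.range g := by
      rw [AlgebraicGeometry.Scheme.Pullback.range_snd]; exact hyf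
    have hs : t' ⤳ t := g.isEmbedding.isInducing.specializes_iff.1 (ht' ▸ hy)
    have hsub : T ⊆ closure {t'} := ht.def ▸ (specializes_iff_closure_subset.1 hs)
    have heq : t ⤳ t' := ht.specializes (hT.2 isIrreducible_singleton.closure hsub (subset_closure rfl))
    rw [← ht', (Specializes.antisymm heq hs).eq]
  have h2 := Groth.CharCycDim.height_le_height_add gY ι f (η := genericPoint Z) (x := g t) U.2 rs hker
    (genericPoint_specializes _) (hcond ▸ hfU) ⟨_, hcond⟩ hmin
  rw [hlen, h1] at h2
  calc ((d : ℕ) : WithBot ℕ∞) = topologicalKrullDim Z := hd.symm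
    _ = ((Order.height (genericPoint Z) : ℕ∞) : WithBot ℕ∞) := Groth.Variety2.Dim.dim_eq_height_genericPoint
    _ ≤ (((Order.height t + c : ℕ∞)) : WithBot ℕ∞) := WithBot.coe_le_coe.2 h2
    _ ≤ _ := by rw [WithBot.coe_add]; exact add_le_add hdimT le_rfl

end Groth.Agent.S6473
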