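import Groth.Statements.S6476
import Groth.Agent.MilnorKLambda.Periodic
import Groth.Agent.MilnorKLambda.FinLen

set_option autoImplicit false
universe u v
open CycAlg

namespace Groth.Agent.S6476

/-- Let A be a Noetherian local ring, M a finite A-module of dimension 1, and φ, ψ : M → M injective
with φ(ψ(M)) = ψ(φ(M)) (e.g. φ, ψ commute). Then length_A(M/φψM) is finite and (M/φψM, φ, ψ) is an
exact (2, 1)-periodic complex; here φ', ψ' denote the endomorphisms of M/φψM induced by φ and ψ, and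
exactness says both cohomology modules (CycAlg.perH) are trivial. -/
theorem result {A : Type u} [CommRing A] [IsNoetherianRing A] [IsLocalRing A] {M : Type v} [AddCommGroup M] [Module A M] [Module.Finite A M] (hdim : Module.supportDim A M = 1) (φ ψ : M →ₗ[A] M) (hφ : Function.Injective φ) (hψ : Function.Injective ψ) (hcomm : Submodule.map φ (LinearMap.range ψ) = Submodule.map ψ (LinearMap.range φ)) (φ' ψ' : (M ⧸ LinearMap.range (φ ∘ₗ ψ)) →ₗ[A] (M ⧸ LinearMap.range (φ ∘ₗ ψ))) (hφ' : φ' ∘ₗ (LinearMap.range (φ ∘ₗ ψ)).mkQ = (LinearMap.range (φ ∘ₗ ψ)).mkQ ∘ₗ φ) (hψ' : ψ' ∘ₗ (LinearMap.range (φ ∘ₗ ψ)).mkQ = (LinearMap.range (φ ∘ₗ ψ)).mkQ ∘ₗ ψ) : Module.length A (M ⧸ LinearMap.range (φ ∘ₗ ψ)) < ⊤ ∧ CycAlg.IsPeriodic φ' ψ' ∧ Subsingleton (CycAlg.perH φ' ψ') ∧ Subsingleton (CycAlg.perH ψ' φ') := by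
  have hinj : Function.Injective (φ ∘ₗ ψ) := hφ.comp hψ
  have hfin : Module.length A (M ⧸ LinearMap.range (φ ∘ₗ ψ)) ≠ ⊤ := by
    refine Groth.MilnorKLambda.Per.length_ne_top_of_support fun p hp => ?_
    by_contra hpm
    exact Groth.MilnorKLambda.Per.surjective_localized_of_injective (φ ∘ₗ ψ) hinj p
      (Groth.MilnorKLambda.Per.minimal_of_supportDim_le_one hdim.le
        (Module.support_subset_of_surjective _ (Submodule.mkQ_surjective _) hp) hpm) hp
  have hswap : LinearMap.range (φ ∘ₗ ψ) = LinearMap.range (ψ ∘ₗ φ) := by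
    rw [LinearMap.range_comp, LinearMap.range_comp, hcomm]
  have eφ : ∀ z, φ' (Submodule.Quotient.mk z) = Submodule.Quotient.mk (φ z) := fun z => DFunLike.congr_fun hφ' z
  have eψ : ∀ z, ψ' (Submodule.Quotient.mk z) = Submodule.Quotient.mk (ψ z) := fun z => DFunLike.congr_fun hψ' z
  refine ⟨hfin.lt_top, ⟨?_, ?_⟩, ?_, ?_⟩
  · refine Submodule.linearMap_qext _ (LinearMap.ext fun z => ?_)
    simp only [LinearMap.comp_apply, Submodule.mkQ_apply, eψ, eφ, LinearMap.zero_apply]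
    exact (Submodule.Quotient.mk_eq_zero _).2 ⟨z, rfl⟩
  · refine Submodule.linearMap_qext _ (LinearMap.ext fun z => ?_)
    simp only [LinearMap.comp_apply, Submodule.mkQ_apply, eψ, eφ, LinearMap.zero_apply]
    rw [Submodule.Quotient.mk_eq_zero, hswap]
    exact ⟨z, rfl⟩
  · rw [Submodule.Quotient.subsingleton_iff, Submodule.submoduleOf_eq_top]
    intro z hz
    obtain ⟨z, rfl⟩ := Submodule.Quotient.mk_surjective _ z
    rw [LinearMap.mem_ker, eφ, Submodule.Quotient.mk_eq_zero] at hz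
    obtain ⟨w, hw⟩ := hz
    exact ⟨Submodule.Quotient.mk w, by rw [eψ, show ψ w = z from hφ hw]⟩
  · rw [Submodule.Quotient.subsingleton_iff, Submodule.submoduleOf_eq_top]
    intro z hz
    obtain ⟨z, rfl⟩ := Submodule.Quotient.mk_surjective _ z
    rw [LinearMap.mem_ker, eψ, Submodule.Quotient.mk_eq_zero, hswap] at hz
    obtain ⟨w, hw⟩ := hz
    exact ⟨Submodule.Quotient.mk w, by rw [eφ, show φ w = z from hψ hw]⟩

end Groth.Agent.S6476
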